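import Groth.Statements.S13657
import Groth.Agent.FBlowLib.Charts
import Groth.Agent.FBlowLib.Torsion

set_option autoImplicit false
open CategoryTheory AlgebraicGeometry
universe u
open FBlow

open TopologicalSpace Opposite
open Groth.Agent Groth.Agent.FBlowLib
set_option maxHeartbeats 800000

namespace Groth.Agent.S13657

theorem finitePresentation_quotientMap_congr {R B : Type u} [CommRing R] [CommRing B] (φ : R →+* B) {K : Ideal R} {J J' : Ideal B} (h : J = J')
    (e : K ≤ J.comap φ) (e' : K ≤ J'.comap φ) (hfp : (Ideal.quotientMap J φ e).FinitePresentation) :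
    (Ideal.quotientMap J' φ e').FinitePresentation := by subst h; exact hfp

end Groth.Agent.S13657

namespace Groth.Agent.S13657

/-- Let R be a base ring of class (N) or (V) for the ideal I and X an admissible formal R-scheme,
presented I-adically: a formal system of thickenings X_0 → X_1 → ⋯ adic over Spf R = (Spec
R/I^(n+1))_n (all squares cartesian), with every level X_n locally of finite presentation over
R/I^(n+1), structure sheaf O_X = lim O_{X_n} on the common underlying space, and no I-torsion (over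
every open, a section of O_X annihilated by the kernel of O_X → O_{X_0} is zero). Let J be a
coherent open ideal of O_X and X' → X an admissible formal blowing-up of J (universal-property
sense). Then X' is an admissible formal R-scheme again: O_{X'} has no I-torsion (over every open, a
section annihilated by the kernel of O_{X'} → O_{X'_0} vanishes), and the levels of the composite X'
→ X → Spf R are locally of finite presentation over the rings R/I^(n+1). -/
theorem result
    (R : Type u) [CommRing R] (I : Ideal R) (hR : AdicRing.IsBase R I)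
    (𝔛 : FSch.Sys.{u}) (h : 𝔛.IsFormal) (p : 𝔛 ⟶ FSch.spf R I) (hp : FSch.IsAdicHom p)
    (hfp : ∀ n, LocallyOfFinitePresentation ((p : FSch.Hom 𝔛 (FSch.spf R I)).app n))
    (htf : ∀ (U : (𝔛.X 0).Opens) (s : (𝔛.Osh h).obj.obj (Opposite.op U)),
      (∀ a ∈ (FBlow.IdealSh.ker (𝔛.OshProj h 0)).sect U, a * s = 0) → s = 0)
    (J : FBlow.IdealSh (𝔛.Osh h)) (hJ : FBlow.IsCohOpen 𝔛 h J)
    (𝔛' : FSch.Sys.{u}) (h' : 𝔛'.IsFormal) (b : 𝔛' ⟶ 𝔛) (hb : FBlow.IsAdmBlowUp b h' h J) :
    (∀ (U : (𝔛'.X 0).Opens) (s : (𝔛'.Osh h').obj.obj (Opposite.op U)),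
        (∀ a ∈ (FBlow.IdealSh.ker (𝔛'.OshProj h' 0)).sect U, a * s = 0) → s = 0) ∧
      ∀ n, LocallyOfFinitePresentation ((b ≫ p : FSch.Hom 𝔛' (FSch.spf R I)).app n) := by
  refine ⟨fun U s hs => ?_, fun n => ?_⟩
  · choose B i1 i2 hB hF w how hxw hwR using fun x : U =>
      exists_chartAt h h' p hR hp hfp htf J hJ b hb x.1
    refine TopCat.Sheaf.eq_of_locally_eq' (𝔛'.Osh h')
      (fun x : U => U ⊓ (haveI := how x 0; ((w x : FSch.Hom _ 𝔛').app 0).opensRange)) U
      (fun x => homOfLE inf_le_left) (fun x hx => Opens.mem_iSup.mpr ⟨⟨x, hx⟩, hx, hxw ⟨x, hx⟩⟩) s 0 fun x => ?_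
    letI := i1 x
    letI := i2 x
    haveI := how x
    refine Eq.trans ?_ (map_zero _).symm
    set W := U ⊓ ((w x : FSch.Hom _ 𝔛').app 0).opensRange
    refine (hpull_bijective h' (w x) (hF x) (U := W) (V := (w x : FSch.Hom _ 𝔛').app 0 ⁻¹ᵁ W)
      inf_le_right le_rfl le_rfl).1 ?_
    refine Eq.trans ?_ (map_zero _).symm
    refine noTorsion_spf I (hF x) hR (hB x) _ fun a ha => ?_
    let r' : ∀ n, 𝔛'.X n ⟶ Spec (CommRingCat.of R) := fun n => (b : FSch.Hom 𝔛' 𝔛).app n ≫ rS p n
    have hr' : ∀ n, 𝔛'.ι n ≫ r' (n + 1) = r' n := comp_comm b (rS p) (rS_comm p)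
    have hr'' : ∀ n, (FSch.spf (B x) (I.map (algebraMap R (B x)))).ι n ≫
        (FSch.spfToSpec (B x) (I.map (algebraMap R (B x))) (n + 1) ≫
          Spec.map (CommRingCat.ofHom (algebraMap R (B x)))) =
        FSch.spfToSpec (B x) (I.map (algebraMap R (B x))) n ≫ Spec.map (CommRingCat.ofHom (algebraMap R (B x))) :=
      fun n => by rw [← Category.assoc, FSch.spfToSpec_comm]
    have hker : rho 𝔛' h' r' hr' U a ∈ (FBlow.IdealSh.ker (𝔛'.OshProj h' 0)).sect U := by
      refine RingHom.mem_ker.mpr ?_
      exact proj_rho_eq_zero I 𝔛' h' (b ≫ p) r' hr' (fun n => Category.assoc _ _ _) 0 U (by rwa [zero_add, pow_one])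
    have h1 : res 𝔛' h' (inf_le_left : W ≤ U) (rho 𝔛' h' r' hr' U a * s) = 0 := by
      rw [show rho 𝔛' h' r' hr' U a * s = 0 from hs _ hker, map_zero]
    rw [map_mul, res_rho] at h1
    have h2 := congrArg (hpull h' (w x) (hF x) (U := W) (le_refl ((w x : FSch.Hom _ 𝔛').app 0 ⁻¹ᵁ W))) h1
    rw [map_mul, map_zero, hpull_rho (hr := hr') (hF x) (w x) _ hr'' (fun n => hwR x n),
      rho_eq_pull (algebraMap R (B x)) _ (hF x) _ hr'' (fun _ => rfl)] at h2
    exact h2
  · choose B i1 i2 hB hF w how hxw hwR using fun y : 𝔛'.X n =>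
      exists_chartAt h h' p hR hp hfp htf J hJ b hb ((𝔛'.gInv h' n).hom y)
    haveI : IsZariskiLocalAtSource @LocallyOfFinitePresentation.{u} :=
      HasRingHomProperty.instIsZariskiLocalAtSource (Q := RingHom.FinitePresentation)
    refine IsZariskiLocalAtSource.of_iSup_eq_top (P := @LocallyOfFinitePresentation.{u})
      (fun y => haveI := how y n; ((w y : FSch.Hom _ 𝔛').app n).opensRange) ?_ fun y => ?_
    · refine eq_top_iff.mpr fun y _ => Opens.mem_iSup.mpr ⟨y, ?_⟩
      letI := i1 y
      letI := i2 y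
      obtain ⟨z, hz⟩ := hxw y
      refine ⟨((FSch.spf (B y) (I.map (algebraMap R (B y)))).toX n).base z, ?_⟩
      have h1 := ConcreteCategory.congr_hom (congrArg (fun m => m.base) (FSch.Hom.toX_comm (w y) n)) z
      refine h1.trans ?_
      change (𝔛'.toX n).base (((w y : FSch.Hom _ 𝔛').app 0).base z) = y
      rw [hz]
      exact ConcreteCategory.congr_hom (𝔛'.gInv_toX_base h' n) y
    · letI := i1 y
      letI := i2 y
      haveI := how y n
      rw [← Scheme.Hom.isoOpensRange_inv_comp ((w y : FSch.Hom _ 𝔛').app n), Category.assoc]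
      suffices hG : LocallyOfFinitePresentation ((w y : FSch.Hom _ 𝔛').app n ≫
          (b ≫ p : FSch.Hom 𝔛' (FSch.spf R I)).app n) from
        haveI := hG
        locallyOfFinitePresentation_comp (((w y : FSch.Hom _ 𝔛').app n).isoOpensRange.inv) _
      have hle : I ^ (n + 1) ≤ ((I.map (algebraMap R (B y))) ^ (n + 1)).comap (algebraMap R (B y)) := by
        rw [← Ideal.map_pow]; exact Ideal.le_comap_map
      let ψ := Ideal.quotientMap ((I.map (algebraMap R (B y))) ^ (n + 1)) (algebraMap R (B y)) hle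
      haveI : IsClosedImmersion (FSch.spfToSpec R I n) :=
        IsClosedImmersion.spec_of_surjective _ Ideal.Quotient.mk_surjective
      have heq : (w y : FSch.Hom _ 𝔛').app n ≫ (b ≫ p : FSch.Hom 𝔛' (FSch.spf R I)).app n =
          Spec.map (CommRingCat.ofHom ψ) := by
        refine (cancel_mono (FSch.spfToSpec R I n)).mp ?_
        refine Eq.trans ?_ ((hwR y n).trans ?_)
        · exact (Category.assoc _ _ _).trans (congrArg ((w y : FSch.Hom _ 𝔛').app n ≫ ·) (Category.assoc _ _ _))
        · exact ((Spec.map_comp _ _).symm.trans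
            (congrArg Spec.map (CommRingCat.hom_ext (RingHom.ext fun _ => rfl)))).trans (Spec.map_comp (CommRingCat.ofHom (Ideal.Quotient.mk (I ^ (n + 1)))) (CommRingCat.ofHom ψ))
      rw [heq]
      refine (LocallyOfFinitePresentation.SpecMap_iff _).mpr ?_
      have hI := ValTate.isBase_fg hR
      obtain ⟨hfp', -⟩ := hB y
      have h2 := (ValTate.finitePresentation_quotientMap_iff (A := B y) (I ^ (n + 1)) (Submodule.FG.pow hI (n + 1))).mpr
        (ValTate.finitePresentation_trunc_of_topFinitePresentation (A := B y) hI hfp' (n + 1))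
      exact finitePresentation_quotientMap_congr (algebraMap R (B y)) (Ideal.map_pow _ _ _) _ hle h2

end Groth.Agent.S13657
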