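import Groth.Statements.S13653
import Groth.Agent.S13657
import Groth.Agent.FBlowLib.Descend

set_option autoImplicit false
open CategoryTheory AlgebraicGeometry
universe u
open FBlow

namespace Groth.Agent.S13653

/-- Let R be a base ring of class (N) or (V) for the ideal I and X an admissible formal R-scheme,
presented I-adically: a formal system of thickenings X_0 → X_1 → ⋯ adic over Spf R = (Spec
R/I^(n+1))_n (all squares cartesian), with every level X_n locally of finite presentation over
R/I^(n+1), structure sheaf O_X = lim O_{X_n} on the common underlying space, and no I-torsion (over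
every open, a section of O_X annihilated by the kernel of O_X → O_{X_0} is zero); assume moreover
that the underlying space of X is quasi-compact and quasi-separated. If X' → X is an admissible
formal blowing-up of a coherent open ideal J of O_X (in the sense of the universal property: adic,
J·O_{X'} invertible, and final among adic morphisms of formal systems making J invertible) and X'' →
X' is an admissible formal blowing-up of a coherent open ideal J' of O_{X'}, then the composite X''
→ X is an admissible formal blowing-up of some coherent open ideal of O_X. -/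
theorem result
    (R : Type u) [CommRing R] (I : Ideal R) (hR : AdicRing.IsBase R I)
    (𝔛 : FSch.Sys.{u}) (h : 𝔛.IsFormal) (p : 𝔛 ⟶ FSch.spf R I) (hp : FSch.IsAdicHom p)
    (hfp : ∀ n, LocallyOfFinitePresentation ((p : FSch.Hom 𝔛 (FSch.spf R I)).app n))
    (htf : ∀ (U : (𝔛.X 0).Opens) (s : (𝔛.Osh h).obj.obj (Opposite.op U)),
      (∀ a ∈ (FBlow.IdealSh.ker (𝔛.OshProj h 0)).sect U, a * s = 0) → s = 0)
    [CompactSpace (𝔛.X 0)] [QuasiSeparatedSpace (𝔛.X 0)]
    (J : FBlow.IdealSh (𝔛.Osh h)) (hJ : FBlow.IsCohOpen 𝔛 h J)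
    (𝔛' : FSch.Sys.{u}) (h' : 𝔛'.IsFormal) (b : 𝔛' ⟶ 𝔛) (hb : FBlow.IsAdmBlowUp b h' h J)
    (J' : FBlow.IdealSh (𝔛'.Osh h')) (hJ' : FBlow.IsCohOpen 𝔛' h' J')
    (𝔛'' : FSch.Sys.{u}) (h'' : 𝔛''.IsFormal) (b' : 𝔛'' ⟶ 𝔛') (hb' : FBlow.IsAdmBlowUp b' h'' h' J') :
    ∃ J'' : FBlow.IdealSh (𝔛.Osh h), FBlow.IsCohOpen 𝔛 h J'' ∧ FBlow.IsAdmBlowUp (b' ≫ b) h'' h J'' := by
  obtain ⟨htf', hfp'⟩ := Groth.Agent.S13657.result R I hR 𝔛 h p hp hfp htf J hJ 𝔛' h' b hb
  obtain ⟨htf'', -⟩ := Groth.Agent.S13657.result R I hR 𝔛' h' (b ≫ p)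
    (Groth.Agent.FBlowLib.isAdicHom_comp hb.1 hp) hfp' htf' J' hJ' 𝔛'' h'' b' hb'
  exact Groth.Agent.FBlowLib.exists_isAdmBlowUp_comp h h' p b J hR hp hfp htf hJ hb hJ' h'' htf'' b' hb'


end Groth.Agent.S13653
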