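import Groth.Statements.S13655
import Groth.Agent.S13652
import Groth.Agent.FBlowLib.FamilyProd

set_option autoImplicit false
open CategoryTheory AlgebraicGeometry
universe u
open FBlow

namespace Groth.Agent.S13655

/-- Let R be a base ring of class (N) or (V) for the ideal I and X an admissible formal R-scheme,
presented I-adically: a formal system of thickenings X_0 → X_1 → ⋯ adic over Spf R = (Spec
R/I^(n+1))_n (all squares cartesian), with every level X_n locally of finite presentation over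
R/I^(n+1), structure sheaf O_X = lim O_{X_n} on the common underlying space, and no I-torsion (over
every open, a section of O_X annihilated by the kernel of O_X → O_{X_0} is zero); assume the
underlying space of X is quasi-separated. Let (X_i) be a covering of finite type (each member meets
only finitely many others) by quasi-compact open subsets, each carrying the induced formal system,
and for every i let X_i' → X_i be an admissible formal blowing-up of a coherent open ideal J_i of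
O_{X_i}. Then there is an admissible formal blowing-up X' → X of some coherent open ideal of O_X
dominating all of them: for every i the restriction of X' → X over X_i factors through X_i' → X_i in
exactly one way. -/
theorem result
    (R : Type u) [CommRing R] (I : Ideal R) (hR : AdicRing.IsBase R I)
    (𝔛 : FSch.Sys.{u}) (h : 𝔛.IsFormal) (p : 𝔛 ⟶ FSch.spf R I) (hp : FSch.IsAdicHom p)
    (hfp : ∀ n, LocallyOfFinitePresentation ((p : FSch.Hom 𝔛 (FSch.spf R I)).app n))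
    (htf : ∀ (U : (𝔛.X 0).Opens) (s : (𝔛.Osh h).obj.obj (Opposite.op U)),
      (∀ a ∈ (FBlow.IdealSh.ker (𝔛.OshProj h 0)).sect U, a * s = 0) → s = 0)
    [QuasiSeparatedSpace (𝔛.X 0)]
    (ι : Type u) (V : ι → (𝔛.X 0).Opens) (hV : (⨆ i, V i) = ⊤) (hVc : ∀ i, IsCompact (V i : Set (𝔛.X 0)))
    (hVf : ∀ i, Set.Finite {j : ι | V i ⊓ V j ≠ ⊥}) (hVi : ∀ i, (𝔛.restrictOpen h (V i)).IsFormal)
    (Ji : ∀ i, FBlow.IdealSh ((𝔛.restrictOpen h (V i)).Osh (hVi i)))
    (hJi : ∀ i, FBlow.IsCohOpen (𝔛.restrictOpen h (V i)) (hVi i) (Ji i))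
    (𝔛i : ι → FSch.Sys.{u}) (hi : ∀ i, (𝔛i i).IsFormal) (bi : ∀ i, 𝔛i i ⟶ 𝔛.restrictOpen h (V i))
    (hbi : ∀ i, FBlow.IsAdmBlowUp (bi i) (hi i) (hVi i) (Ji i)) :
    ∃ (J : FBlow.IdealSh (𝔛.Osh h)) (𝔛' : FSch.Sys.{u}) (h' : 𝔛'.IsFormal) (b : 𝔛' ⟶ 𝔛),
      FBlow.IsCohOpen 𝔛 h J ∧ FBlow.IsAdmBlowUp b h' h J ∧
      ∀ i, ∃! k : 𝔛'.restrictOpen h' (((b : FSch.Hom 𝔛' 𝔛).app 0) ⁻¹ᵁ (V i)) ⟶ 𝔛i i,
        k ≫ bi i = FSch.Hom.restrictOpen b h' h (V i) := by
  classical
  choose W hWc hW using fun i => Groth.Agent.FBlowLib.exists_compact_nhd_closure (hVc i) V hV hVc hVf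
  choose Jt hJt hJtV hJtop using fun i => Groth.Agent.FBlowLib.exists_cohOpen_extend h p hR hp hfp htf (V i) (W i)
    (hVc i) (hWc i) (hW i) (hVi i) (Ji i) (hJi i)
  have hI := Groth.Agent.ValTate.isBase_fg hR
  obtain ⟨𝔛', h', b, hb⟩ := Groth.Agent.S13652.result R I hR 𝔛 h p hp hfp htf _
    (Groth.Agent.FBlowLib.isCohOpen_famProd h Jt V hJtop p hp hI hJt hV hVf)
  refine ⟨_, 𝔛', h', b, Groth.Agent.FBlowLib.isCohOpen_famProd h Jt V hJtop p hp hI hJt hV hVf, hb, fun i => ?_⟩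
  have hY : (𝔛'.restrictOpen h' ((b : FSch.Hom 𝔛' 𝔛).app 0 ⁻¹ᵁ V i)).IsFormal :=
    Groth.Agent.FSchLib.isFormal_restrictOpen h' _
  refine (hbi i).2.2 _ hY (FSch.Hom.restrictOpen b h' h (V i))
    (Groth.Agent.FSchLib.isAdicHom_restrictOpen h' h hb.1 (V i)) ?_
  have hinv : (FBlow.idealMap b h' h (Jt i)).IsInvertible := by
    refine (Groth.Agent.FBlowLib.isInvertible_of_mul h' (P := FBlow.idealMap b h' h (Jt i))
      (Q := FBlow.idealMap b h' h (Groth.Agent.FBlowLib.famProdOff h Jt V {i})) ?_).1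
    rw [← Groth.Agent.FBlowLib.idealMap_mul h h', ← Groth.Agent.FBlowLib.famProd_eq_mul h Jt V hJtop i]
    exact hb.2.1
  have e : FSch.Hom.restrictOpen b h' h (V i) ≫ 𝔛.restrictOpenι h (V i) =
      𝔛'.restrictOpenι h' ((b : FSch.Hom 𝔛' 𝔛).app 0 ⁻¹ᵁ V i) ≫ b := FSch.Hom.restrictOpen_ι b h' h (V i)
  rw [← hJtV i, Groth.Agent.FBlowLib.idealMap_comp h (hVi i) hY (𝔛.restrictOpenι h (V i)) _ (Jt i), e,
    ← Groth.Agent.FBlowLib.idealMap_comp h h' hY b _ (Jt i)]
  haveI : ∀ n, IsOpenImmersion ((𝔛'.restrictOpenι h' ((b : FSch.Hom 𝔛' 𝔛).app 0 ⁻¹ᵁ V i) :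
      FSch.Hom _ 𝔛').app n) := fun n => inferInstanceAs (IsOpenImmersion (𝔛'.lvU h' n _).ι)
  exact Groth.Agent.FBlowLib.isInvertible_idealMap h' hY _ hinv


end Groth.Agent.S13655
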