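import Groth.Statements.S13656
import Groth.Agent.FBlowLib.Descend
import Groth.Agent.FBlowLib.RestrictGlue
import Groth.Agent.S13657
import Groth.Agent.S13655

set_option autoImplicit false
open CategoryTheory AlgebraicGeometry
universe u
open FBlow

open TopologicalSpace Opposite
open Groth.Agent Groth.Agent.FBlowLib
set_option maxHeartbeats 1000000

namespace Groth.Agent.S13656

/-- Let R be a base ring of class (N) or (V) for the ideal I and X an admissible formal R-scheme,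
presented I-adically: a formal system of thickenings X_0 → X_1 → ⋯ adic over Spf R = (Spec
R/I^(n+1))_n (all squares cartesian), with every level X_n locally of finite presentation over
R/I^(n+1), structure sheaf O_X = lim O_{X_n} on the common underlying space, and no I-torsion (over
every open, a section of O_X annihilated by the kernel of O_X → O_{X_0} is zero); assume that the
underlying space of X is quasi-separated and quasi-paracompact (covered by quasi-compact opens each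
of which meets only finitely many of the others). If X' → X is an admissible formal blowing-up of a
coherent open ideal of O_X and X'' → X' an admissible formal blowing-up of a coherent open ideal of
O_{X'}, then there is an admissible formal blowing-up X''' → X of some coherent open ideal of O_X
dominating the composite X'' → X, that is, factoring through it by a morphism X''' → X''. -/
theorem result
    (R : Type u) [CommRing R] (I : Ideal R) (hR : AdicRing.IsBase R I)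
    (𝔛 : FSch.Sys.{u}) (h : 𝔛.IsFormal) (p : 𝔛 ⟶ FSch.spf R I) (hp : FSch.IsAdicHom p)
    (hfp : ∀ n, LocallyOfFinitePresentation ((p : FSch.Hom 𝔛 (FSch.spf R I)).app n))
    (htf : ∀ (U : (𝔛.X 0).Opens) (s : (𝔛.Osh h).obj.obj (Opposite.op U)),
      (∀ a ∈ (FBlow.IdealSh.ker (𝔛.OshProj h 0)).sect U, a * s = 0) → s = 0)
    [QuasiSeparatedSpace (𝔛.X 0)]
    (hqp : ∃ (ι : Type u) (V : ι → (𝔛.X 0).Opens), (⨆ i, V i) = ⊤ ∧ (∀ i, IsCompact (V i : Set (𝔛.X 0))) ∧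
      ∀ i, Set.Finite {j : ι | V i ⊓ V j ≠ ⊥})
    (J : FBlow.IdealSh (𝔛.Osh h)) (hJ : FBlow.IsCohOpen 𝔛 h J)
    (𝔛' : FSch.Sys.{u}) (h' : 𝔛'.IsFormal) (b : 𝔛' ⟶ 𝔛) (hb : FBlow.IsAdmBlowUp b h' h J)
    (J' : FBlow.IdealSh (𝔛'.Osh h')) (hJ' : FBlow.IsCohOpen 𝔛' h' J')
    (𝔛'' : FSch.Sys.{u}) (h'' : 𝔛''.IsFormal) (b' : 𝔛'' ⟶ 𝔛') (hb' : FBlow.IsAdmBlowUp b' h'' h' J') :
    ∃ (J''' : FBlow.IdealSh (𝔛.Osh h)) (𝔛''' : FSch.Sys.{u}) (h''' : 𝔛'''.IsFormal) (c : 𝔛''' ⟶ 𝔛),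
      FBlow.IsCohOpen 𝔛 h J''' ∧ FBlow.IsAdmBlowUp c h''' h J''' ∧ ∃ s : 𝔛''' ⟶ 𝔛'', s ≫ b' ≫ b = c := by
  obtain ⟨ι, V, hV, hVc, hVf⟩ := hqp
  have hI := ValTate.isBase_fg hR
  have hp' : FSch.IsAdicHom (b ≫ p) := isAdicHom_comp hb.1 hp
  have hp'' : FSch.IsAdicHom (b' ≫ b ≫ p) := isAdicHom_comp hb'.1 hp'
  obtain ⟨htf', hfp'⟩ := Groth.Agent.S13657.result R I hR 𝔛 h p hp hfp htf J hJ 𝔛' h' b hb
  obtain ⟨htf'', hfp''⟩ := Groth.Agent.S13657.result R I hR 𝔛' h' (b ≫ p) hp' hfp' htf' J' hJ' 𝔛'' h'' b' hb'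
  let W : ι → (𝔛'.X 0).Opens := fun i => (b : FSch.Hom 𝔛' 𝔛).app 0 ⁻¹ᵁ V i
  let W' : ι → (𝔛''.X 0).Opens := fun i => (b' : FSch.Hom 𝔛'' 𝔛').app 0 ⁻¹ᵁ W i
  have hVi : ∀ i, (𝔛.restrictOpen h (V i)).IsFormal := fun i => FSchLib.isFormal_restrictOpen h (V i)
  have hWi : ∀ i, (𝔛'.restrictOpen h' (W i)).IsFormal := fun i => FSchLib.isFormal_restrictOpen h' (W i)
  have hW'i : ∀ i, (𝔛''.restrictOpen h'' (W' i)).IsFormal := fun i => FSchLib.isFormal_restrictOpen h'' (W' i)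
  let bc : ∀ i, 𝔛''.restrictOpen h'' (W' i) ⟶ 𝔛.restrictOpen h (V i) := fun i =>
    FSch.Hom.restrictOpen b' h'' h' (W i) ≫ FSch.Hom.restrictOpen b h' h (V i)
  have hbc_ι : ∀ i, bc i ≫ 𝔛.restrictOpenι h (V i) = 𝔛''.restrictOpenι h'' (W' i) ≫ b' ≫ b := fun i => by
    change (_ ≫ _) ≫ _ = _
    rw [Category.assoc, FSch.Hom.restrictOpen_ι, ← Category.assoc, FSch.Hom.restrictOpen_ι, Category.assoc]
  -- the composite is a blow-up over every member of the cover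
  have hloc : ∀ i, ∃ Ji : IdealSh ((𝔛.restrictOpen h (V i)).Osh (hVi i)),
      IsCohOpen (𝔛.restrictOpen h (V i)) (hVi i) Ji ∧ IsAdmBlowUp (bc i) (hW'i i) (hVi i) Ji := fun i => by
    haveI hoV : ∀ n, IsOpenImmersion ((𝔛.restrictOpenι h (V i) : FSch.Hom _ 𝔛).app n) := fun n =>
      inferInstanceAs (IsOpenImmersion (𝔛.lvU h n (V i)).ι)
    haveI : ∀ n, IsOpenImmersion ((𝔛''.restrictOpenι h'' (W' i) : FSch.Hom _ 𝔛'').app n) := fun n =>
      inferInstanceAs (IsOpenImmersion (𝔛''.lvU h'' n (W' i)).ι)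
    haveI : CompactSpace ((𝔛.restrictOpen h (V i)).X 0) := by
      refine ⟨((𝔛.restrictOpenι h (V i) : FSch.Hom _ 𝔛).app 0).isOpenEmbedding.isInducing.isCompact_iff.mpr ?_⟩
      rw [Set.image_univ, range_restrictOpenι]
      exact hVc i
    haveI : QuasiSeparatedSpace ((𝔛.restrictOpen h (V i)).X 0) :=
      ((𝔛.restrictOpenι h (V i) : FSch.Hom _ 𝔛).app 0).isOpenEmbedding.quasiSeparatedSpace
    have hpi : FSch.IsAdicHom (𝔛.restrictOpenι h (V i) ≫ p) :=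
      isAdicHom_comp (FSchLib.isAdicHom_restrictOpenι h (V i)) hp
    exact exists_isAdmBlowUp_comp (hVi i) (hWi i) (𝔛.restrictOpenι h (V i) ≫ p)
      (FSch.Hom.restrictOpen b h' h (V i)) (FBlow.idealMap (𝔛.restrictOpenι h (V i)) (hVi i) h J) hR hpi
      (fun n => MorphismProperty.comp_mem @LocallyOfFinitePresentation
        ((𝔛.restrictOpenι h (V i) : FSch.Hom _ 𝔛).app n) ((p : FSch.Hom 𝔛 (FSch.spf R I)).app n)
        (show LocallyOfFinitePresentation (𝔛.lvU h n (V i)).ι from inferInstance) (hfp n))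
      (noTorsion_of_openImmersion h (hVi i) (𝔛.restrictOpenι h (V i)) htf)
      (isCohOpen_idealMap h (hVi i) p (𝔛.restrictOpenι h (V i)) hp (FSchLib.isAdicHom_restrictOpenι h (V i)) hI hJ)
      (isAdmBlowUp_restrictOpen h h' hb (V i))
      (isCohOpen_idealMap h' (hWi i) (b ≫ p) (𝔛'.restrictOpenι h' (W i)) hp'
        (FSchLib.isAdicHom_restrictOpenι h' (W i)) hI hJ')
      (hW'i i) (noTorsion_of_openImmersion h'' (hW'i i) (𝔛''.restrictOpenι h'' (W' i)) htf'')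
      (FSch.Hom.restrictOpen b' h'' h' (W i)) (isAdmBlowUp_restrictOpen h' h'' hb' (W i))
  choose Ji hJi hbi using hloc
  obtain ⟨J₃, X3, h₃, c, hJ₃, hc, hk⟩ := Groth.Agent.S13655.result R I hR 𝔛 h p hp hfp htf ι V hV hVc hVf hVi
    Ji hJi (fun i => 𝔛''.restrictOpen h'' (W' i)) hW'i bc hbi
  obtain ⟨htf₃, -⟩ := Groth.Agent.S13657.result R I hR 𝔛 h p hp hfp htf J₃ hJ₃ X3 h₃ c hc
  choose k hk hku using hk
  let O : ι → (X3.X 0).Opens := fun i => (c : FSch.Hom X3 𝔛).app 0 ⁻¹ᵁ V i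
  let φ : ∀ i, X3.restrictOpen h₃ (O i) ⟶ 𝔛'' := fun i => k i ≫ 𝔛''.restrictOpenι h'' (W' i)
  have hφc : ∀ i, φ i ≫ b' ≫ b = X3.restrictOpenι h₃ (O i) ≫ c := fun i => by
    change (k i ≫ _) ≫ _ = _
    rw [Category.assoc, ← hbc_ι i, ← Category.assoc, hk i, FSch.Hom.restrictOpen_ι]
  obtain ⟨s, hs⟩ := exists_hom_of_cover h₃ O
    (fun x => by
      obtain ⟨i, hi⟩ := Opens.mem_iSup.1 (hV.ge (show ((c : FSch.Hom X3 𝔛).app 0).base x ∈ (⊤ : (𝔛.X 0).Opens) from trivial))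
      exact ⟨i, hi⟩)
    φ (fun i j a a' ha ha' => by
      haveI : ∀ n, IsOpenImmersion ((𝔛''.restrictOpenι h'' (W' i) : FSch.Hom _ 𝔛'').app n) := fun n =>
        inferInstanceAs (IsOpenImmersion (𝔛''.lvU h'' n (W' i)).ι)
      haveI : ∀ n, IsOpenImmersion ((𝔛.restrictOpenι h (V i) : FSch.Hom _ 𝔛).app n) := fun n =>
        inferInstanceAs (IsOpenImmersion (𝔛.lvU h n (V i)).ι)
      have hO := FSchLib.isFormal_restrictOpen h₃ (O i ⊓ O j)
      have hc' : (a' ≫ φ j) ≫ b' ≫ b = X3.restrictOpenι h₃ (O i ⊓ O j) ≫ c := by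
        rw [Category.assoc, hφc, ← Category.assoc, ha']
      obtain ⟨u, hu, -⟩ := existsUnique_lift (𝔛''.restrictOpenι h'' (W' i)) hO (a' ≫ φ j) (by
        rw [range_restrictOpenι]
        rintro _ ⟨z, rfl⟩
        have hz := ConcreteCategory.congr_hom (congrArg
          (fun m : X3.restrictOpen h₃ (O i ⊓ O j) ⟶ 𝔛 => ((m : FSch.Hom _ _).app 0).base) hc') z
        have hz1 : (X3.restrictOpenι h₃ (O i ⊓ O j) : FSch.Hom _ X3).app 0 z ∈ O i :=
          ((range_restrictOpenι h₃ (O i ⊓ O j)).le ⟨z, rfl⟩).1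
        exact Eq.mpr (congrArg (· ∈ V i) hz) hz1)
      obtain ⟨g, -, hg⟩ := existsUnique_lift (𝔛.restrictOpenι h (V i)) hO ((a ≫ k i ≫ bc i) ≫ 𝔛.restrictOpenι h (V i))
        (by rintro _ ⟨z, rfl⟩; exact ⟨_, rfl⟩)
      have e1 : u ≫ bc i = a ≫ k i ≫ bc i := by
        refine (hg _ ?_).trans (hg _ rfl).symm
        change (u ≫ bc i) ≫ _ = _
        rw [Category.assoc, hbc_ι i, ← Category.assoc, hu, hc', Category.assoc a (k i ≫ bc i), hk i,
          FSch.Hom.restrictOpen_ι, ← Category.assoc, ha]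
      have hkad : FSch.IsAdicHom (k i) := isAdicHom_of_comp (hbi i).1
        ((hk i).symm ▸ FSchLib.isAdicHom_restrictOpen h₃ h hc.1 (V i))
      have haad : FSch.IsAdicHom a := isAdicHom_of_comp (FSchLib.isAdicHom_restrictOpenι h₃ (O i))
        (ha.symm ▸ FSchLib.isAdicHom_restrictOpenι h₃ (O i ⊓ O j))
      have hakad : FSch.IsAdicHom (a ≫ k i) := isAdicHom_comp haad hkad
      have hpW : FSch.IsAdicHom (𝔛''.restrictOpenι h'' (W' i) ≫ b' ≫ b ≫ p) :=
        isAdicHom_comp (FSchLib.isAdicHom_restrictOpenι h'' (W' i)) hp''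
      have hinv : (FBlow.idealMap (a ≫ k i ≫ bc i) hO (hVi i) (Ji i)).IsInvertible := by
        rw [← Category.assoc, ← idealMap_comp (hVi i) (hW'i i) hO (bc i) (a ≫ k i)]
        haveI : ∀ n, IsOpenImmersion ((X3.restrictOpenι h₃ (O i ⊓ O j) : FSch.Hom _ X3).app n) := fun n =>
          inferInstanceAs (IsOpenImmersion (X3.lvU h₃ n _).ι)
        refine isInvertible_idealMap_of_open (hW'i i) hO ((a ≫ k i) ≫ 𝔛''.restrictOpenι h'' (W' i) ≫ b' ≫ b ≫ p)
          (isAdicHom_comp hakad hpW) hI (noTorsion_of_openImmersion h₃ hO (X3.restrictOpenι h₃ (O i ⊓ O j)) htf₃)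
          (a ≫ k i) (hbi i).2.1 (exists_baseHom_mem hO _ ?_)
        refine isCohOpen_idealMap (hW'i i) hO _ (a ≫ k i) hpW hakad hI ?_
        exact isCohOpen_idealMap (hVi i) (hW'i i) (𝔛.restrictOpenι h (V i) ≫ p) (bc i)
          (isAdicHom_comp (FSchLib.isAdicHom_restrictOpenι h (V i)) hp) (hbi i).1 hI (hJi i)
      obtain ⟨w, -, hw⟩ := (hbi i).2.2 _ hO (a ≫ k i ≫ bc i)
        ((Category.assoc a (k i) (bc i)) ▸ isAdicHom_comp hakad (hbi i).1) hinv
      have e2 : u = a ≫ k i := (hw u e1).trans (hw (a ≫ k i) (Category.assoc _ _ _)).symm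
      rw [← hu, e2, Category.assoc])
  refine ⟨J₃, X3, h₃, c, hJ₃, hc, s, ?_⟩
  obtain ⟨s', hs'⟩ : ∃ s' : X3 ⟶ 𝔛, s' = s ≫ b' ≫ b := ⟨_, rfl⟩
  rw [← hs']
  refine FSch.Hom.ext (funext fun n => Scheme.Cover.hom_ext ((X3.X n).openCoverOfIsOpenCover
    (fun i => X3.lvU h₃ n (O i)) (eq_top_iff.mpr fun x _ => by
      obtain ⟨i, hi⟩ := Opens.mem_iSup.1 (hV.ge
        (show ((c : FSch.Hom X3 𝔛).app 0).base ((X3.gInv h₃ n).hom x) ∈ (⊤ : (𝔛.X 0).Opens) from trivial))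
      exact Opens.mem_iSup.mpr ⟨i, hi⟩)) _ _
    fun i => ?_)
  refine congrArg (fun m : X3.restrictOpen h₃ (O i) ⟶ 𝔛 => (m : FSch.Hom _ _).app n)
    (?_ : X3.restrictOpenι h₃ (O i) ≫ s' = X3.restrictOpenι h₃ (O i) ≫ c)
  rw [hs', ← Category.assoc, hs i, hφc i]


end Groth.Agent.S13656
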