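import Groth.Statements.S13660
import Groth.Agent.FBlowLib.ChartIso

set_option autoImplicit false
open CategoryTheory AlgebraicGeometry
universe u
open FBlow

open Groth.Agent.FBlowLib
set_option maxHeartbeats 1600000

namespace Groth.Agent.S13660

/-- Let R be a base ring of class (N) or (V) for the ideal I, A an admissible R-algebra and f_0, …, f_r
elements generating an open ideal 𝔞 of A (one containing I^k A for some k); present Spf A as the
formal system (Spec A/(IA)^(n+1))_n and let X' → Spf A be an admissible formal blowing-up of the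
ideal 𝔞·O_{Spf A} (universal-property sense). For each i let U_i be the locus of points of X' having
a neighbourhood on every open subset of which the ideals generated by 𝔞 and by f_i in O_{X'}
coincide, and let A_i be the I-adic completion of A[ζ_j ; j ≠ i]/(f_i ζ_j − f_j ; j ≠ i) divided by
its f_i-power torsion. Then the U_i cover X', and for every i there is a morphism Spf A_i → X' over
Spf A (its composite with X' → Spf A is the morphism induced by A → A_i) which is an open immersion
at every level and whose underlying image is exactly U_i. -/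
theorem result
    (R : Type u) [CommRing R] (I : Ideal R) (hR : AdicRing.IsBase R I)
    (A : Type u) [CommRing A] [Algebra R A] (hA : AdicRing.Admissible R I A)
    (r : ℕ) (f : Fin (r + 1) → A) (k : ℕ) (hopen : (I ^ k).map (algebraMap R A) ≤ Ideal.span (Set.range f))
    (hX : (FSch.spf A (I.map (algebraMap R A))).IsFormal)
    (𝔛' : FSch.Sys.{u}) (h' : 𝔛'.IsFormal) (b : 𝔛' ⟶ (FSch.spf A (I.map (algebraMap R A))))
    (hb : FBlow.IsAdmBlowUp b h' hX (FBlow.schIdealMap (FSch.spf A (I.map (algebraMap R A))) hX (FSch.spfToSpec A (I.map (algebraMap R A))) (FSch.spfToSpec_comm A (I.map (algebraMap R A))) (FBlow.IdealSh.ofData (FSch.idealSpec A (Ideal.span (Set.range f)))))) :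
    (∀ x : 𝔛'.X 0, ∃ i : Fin (r + 1), x ∈ {x : 𝔛'.X 0 | ∃ V : (𝔛'.X 0).Opens, x ∈ V ∧ ∀ V' : (𝔛'.X 0).Opens, V' ≤ V →
          (FBlow.idealMap b h' hX (FBlow.schIdealMap (FSch.spf A (I.map (algebraMap R A))) hX (FSch.spfToSpec A (I.map (algebraMap R A))) (FSch.spfToSpec_comm A (I.map (algebraMap R A))) (FBlow.IdealSh.ofData (FSch.idealSpec A (Ideal.span (Set.range f)))))).sect V' =
          (FBlow.idealMap b h' hX (FBlow.schIdealMap (FSch.spf A (I.map (algebraMap R A))) hX (FSch.spfToSpec A (I.map (algebraMap R A))) (FSch.spfToSpec_comm A (I.map (algebraMap R A))) (FBlow.IdealSh.ofData (FSch.idealSpec A (Ideal.span {f i}))))).sect V'}) ∧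
    ∀ (i : Fin (r + 1)) (hi : (FSch.spf (AdicRing.chartAdm I f i) (I.map (algebraMap R (AdicRing.chartAdm I f i)))).IsFormal)
      (hle : (I.map (algebraMap R A)) ≤ (I.map (algebraMap R (AdicRing.chartAdm I f i))).comap (algebraMap A (AdicRing.chartAdm I f i))),
      ∃ u : FSch.spf (AdicRing.chartAdm I f i) (I.map (algebraMap R (AdicRing.chartAdm I f i))) ⟶ 𝔛',
        u ≫ b = FSch.spfMap (I.map (algebraMap R (AdicRing.chartAdm I f i))) (I.map (algebraMap R A)) (algebraMap A (AdicRing.chartAdm I f i)) hle ∧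
        (∀ n, IsOpenImmersion ((u : FSch.Hom (FSch.spf (AdicRing.chartAdm I f i) (I.map (algebraMap R (AdicRing.chartAdm I f i)))) 𝔛').app n)) ∧
        Set.range ((u : FSch.Hom (FSch.spf (AdicRing.chartAdm I f i) (I.map (algebraMap R (AdicRing.chartAdm I f i)))) 𝔛').app 0).base = {x : 𝔛'.X 0 | ∃ V : (𝔛'.X 0).Opens, x ∈ V ∧ ∀ V' : (𝔛'.X 0).Opens, V' ≤ V →
          (FBlow.idealMap b h' hX (FBlow.schIdealMap (FSch.spf A (I.map (algebraMap R A))) hX (FSch.spfToSpec A (I.map (algebraMap R A))) (FSch.spfToSpec_comm A (I.map (algebraMap R A))) (FBlow.IdealSh.ofData (FSch.idealSpec A (Ideal.span (Set.range f)))))).sect V' =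
          (FBlow.idealMap b h' hX (FBlow.schIdealMap (FSch.spf A (I.map (algebraMap R A))) hX (FSch.spfToSpec A (I.map (algebraMap R A))) (FSch.spfToSpec_comm A (I.map (algebraMap R A))) (FBlow.IdealSh.ofData (FSch.idealSpec A (Ideal.span {f i}))))).sect V'} := by
  have hI : I.FG := by
    rcases hR.2 with ⟨h, -⟩ | ⟨-, -, -, t, -, rfl⟩
    · exact IsNoetherian.noetherian I
    · exact Submodule.fg_span_singleton t
  let J := I.map (algebraMap R A)
  let rX := FSch.spfToSpec A J
  let r' : ∀ n, 𝔛'.X n ⟶ Spec (CommRingCat.of A) := fun n =>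
    (b : FSch.Hom 𝔛' (FSch.spf A J)).app n ≫ rX n
  have hr' : ∀ n, 𝔛'.ι n ≫ r' (n + 1) = r' n := fun n => by
    simp only [r']
    rw [← Category.assoc, ← (b : FSch.Hom 𝔛' (FSch.spf A J)).comm n, Category.assoc, FSch.spfToSpec_comm]
  have hc : ∀ 𝔟 : Ideal A, FBlow.idealMap b h' hX (centre (FSch.spf A J) hX rX (FSch.spfToSpec_comm A J) 𝔟) =
      centre 𝔛' h' r' hr' 𝔟 := fun 𝔟 => idealMap_centre 𝔟 h' b r' hr' fun n => rfl
  have hinv : (centre 𝔛' h' r' hr' (Ideal.span (Set.range f))).IsInvertible := by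
    rw [← hc]; exact hb.2.1
  have hset : ∀ i : Fin (r + 1),
      {x : 𝔛'.X 0 | ∃ V : (𝔛'.X 0).Opens, x ∈ V ∧ ∀ V' : (𝔛'.X 0).Opens, V' ≤ V →
          (FBlow.idealMap b h' hX (centre (FSch.spf A J) hX rX (FSch.spfToSpec_comm A J) (Ideal.span (Set.range f)))).sect V' =
          (FBlow.idealMap b h' hX (centre (FSch.spf A J) hX rX (FSch.spfToSpec_comm A J) (Ideal.span {f i}))).sect V'} =
      {x : 𝔛'.X 0 | ∃ V : (𝔛'.X 0).Opens, x ∈ V ∧
          IsLocGen 𝔛' h' r' hr' (Ideal.span (Set.range f)) V (rho 𝔛' h' r' hr' V (f i))} := fun i => by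
    rw [hc, hc]
    exact Set.ext fun x => mem_eqLocus_iff 𝔛' h' r' hr' _ (Ideal.subset_span (Set.mem_range_self i)) hinv x
  refine ⟨fun x => ?_, fun i hi hle => ?_⟩
  · obtain ⟨j, hj⟩ := exists_mem_locus f 𝔛' h' r' hr' hinv x
    exact ⟨j, (hset j).ge hj⟩
  · obtain ⟨u, hu, ho, hr⟩ := exists_chart_openImmersion I hI f k hopen hX 𝔛' h' b hb r' hr' (fun n => rfl) i hi hle
    exact ⟨u, hu, ho, hr.trans (hset i).symm⟩

end Groth.Agent.S13660
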