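import Groth.Statements.S3859
import Groth.Agent.FSchLib.Systems
open CategoryTheory CategoryTheory.Limits AlgebraicGeometry

set_option autoImplicit false
universe u
open FCompl

namespace Groth.Agent.S3859

open AlgebraicGeometry in
open CategoryTheory in
/-- In the presentation by systems of thickenings: For morphisms of systems X -> S and Y -> S, the
levelwise fibre product with its two projections is a fibre product in the category of systems; it
presents the fibre product of formal schemes when one factor is adic over the base, and otherwise
only up to cofinality of the levels. -/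
theorem result {𝔛 𝔜 𝔖 : FSch.Sys.{u}} (f : 𝔛 ⟶ 𝔖) (g : 𝔜 ⟶ 𝔖) :
    IsPullback (FSch.pullbackFst f g) (FSch.pullbackSnd f g) f g := by
  refine IsPullback.of_isLimit' ⟨?cond⟩ (PullbackCone.IsLimit.mk ?cond
    (fun s => ⟨fun n => pullback.lift ((s.fst : FSch.Hom _ _).app n) ((s.snd : FSch.Hom _ _).app n)
      (congrArg (fun h : s.pt ⟶ 𝔖 => (h : FSch.Hom _ _).app n) s.condition), fun n => ?comm⟩)
    (fun s => ?l) (fun s => ?r) (fun s m h1 h2 => ?u))
  case cond => exact FSch.Hom.ext (funext fun n => pullback.condition)
  case comm =>
    apply pullback.hom_ext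
    · simp only [FSch.pullbackSys, Category.assoc, pullback.map, pullback.lift_fst,
        pullback.lift_fst_assoc]
      exact (s.fst : FSch.Hom _ _).comm n
    · simp only [FSch.pullbackSys, Category.assoc, pullback.map, pullback.lift_snd,
        pullback.lift_snd_assoc]
      exact (s.snd : FSch.Hom _ _).comm n
  case l => exact FSch.Hom.ext (funext fun n => pullback.lift_fst _ _ _)
  case r => exact FSch.Hom.ext (funext fun n => pullback.lift_snd _ _ _)
  case u =>
    refine FSch.Hom.ext (funext fun n => pullback.hom_ext ?_ ?_)
    · exact (congrArg (fun h : s.pt ⟶ 𝔛 => (h : FSch.Hom _ _).app n) h1).trans (pullback.lift_fst _ _ _).symm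
    · exact (congrArg (fun h : s.pt ⟶ 𝔜 => (h : FSch.Hom _ _).app n) h2).trans (pullback.lift_snd _ _ _).symm

end Groth.Agent.S3859
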