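import Groth.Statements.S13661
import Groth.Agent.FBlowLib.PullInvertible
import Groth.Agent.FBlowLib.TorsionFlat
import Groth.Agent.S13657
import Groth.Agent.S3859

set_option autoImplicit false
open CategoryTheory AlgebraicGeometry
universe u
open FBlow

open TopologicalSpace Opposite
open Groth.Agent Groth.Agent.FBlowLib
set_option maxHeartbeats 1000000

namespace Groth.Agent.S13661

/-- Let R be a base ring of class (N) or (V) for the ideal I and X an admissible formal R-scheme,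
presented I-adically: a formal system of thickenings X_0 → X_1 → ⋯ adic over Spf R = (Spec
R/I^(n+1))_n (all squares cartesian), with every level X_n locally of finite presentation over
R/I^(n+1), structure sheaf O_X = lim O_{X_n} on the common underlying space, and no I-torsion (over
every open, a section of O_X annihilated by the kernel of O_X → O_{X_0} is zero); let Y be a second
admissible formal R-scheme presented in the same way and Y → X an adic morphism which is flat: for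
every affine open subset U of X and every affine open subset U' of Y mapped into U, the ring
homomorphism O_X(U) → O_Y(U') is flat. Let J be a coherent open ideal of O_X and X' → X an
admissible formal blowing-up of J (universal-property sense). Then the base change X' ×_X Y → Y,
formed levelwise, is an admissible formal blowing-up of the ideal J·O_Y. (The published statement is
for a flat base change between formal schemes locally of topologically finite presentation; the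
universal property asserted here is the one established for admissible formal schemes, so X and Y
are both taken admissible.) -/
theorem result
    (R : Type u) [CommRing R] (I : Ideal R) (hR : AdicRing.IsBase R I)
    (𝔛 : FSch.Sys.{u}) (h : 𝔛.IsFormal) (p : 𝔛 ⟶ FSch.spf R I) (hp : FSch.IsAdicHom p)
    (hfp : ∀ n, LocallyOfFinitePresentation ((p : FSch.Hom 𝔛 (FSch.spf R I)).app n))
    (htf : ∀ (U : (𝔛.X 0).Opens) (s : (𝔛.Osh h).obj.obj (Opposite.op U)),
      (∀ a ∈ (FBlow.IdealSh.ker (𝔛.OshProj h 0)).sect U, a * s = 0) → s = 0)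
    (𝔜 : FSch.Sys.{u}) (hY : 𝔜.IsFormal) (φ : 𝔜 ⟶ 𝔛) (hφ : FSch.IsAdicHom φ)
    (hYfp : ∀ n, LocallyOfFinitePresentation ((φ ≫ p : FSch.Hom 𝔜 (FSch.spf R I)).app n))
    (hYtf : ∀ (U : (𝔜.X 0).Opens) (s : (𝔜.Osh hY).obj.obj (Opposite.op U)),
      (∀ a ∈ (FBlow.IdealSh.ker (𝔜.OshProj hY 0)).sect U, a * s = 0) → s = 0)
    (hflat : ∀ (U : (𝔛.X 0).affineOpens) (U' : (𝔜.X 0).affineOpens)
      (e : U'.1 ≤ ((φ : FSch.Hom 𝔜 𝔛).app 0) ⁻¹ᵁ U.1),
      RingHom.Flat (((𝔜.Osh hY).obj.map (homOfLE e).op).hom.comp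
        ((FSch.Hom.sharp φ hY h).hom.app (Opposite.op U.1)).hom))
    (J : FBlow.IdealSh (𝔛.Osh h)) (hJ : FBlow.IsCohOpen 𝔛 h J)
    (𝔛' : FSch.Sys.{u}) (h' : 𝔛'.IsFormal) (b : 𝔛' ⟶ 𝔛) (hb : FBlow.IsAdmBlowUp b h' h J)
    (hP : (FSch.pullbackSys b φ).IsFormal) :
    FBlow.IsAdmBlowUp (FSch.pullbackSnd b φ) hP hY (FBlow.idealMap φ hY h J) := by
  have hI := ValTate.isBase_fg hR
  have hp' : FSch.IsAdicHom (φ ≫ p) := isAdicHom_comp hφ hp
  have hφflat : ∀ n, Flat ((φ : FSch.Hom 𝔜 𝔛).app n) := by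
    intro n
    haveI : HasRingHomProperty @Flat.{u} RingHom.Flat := inferInstance
    refine (HasRingHomProperty.iff_exists_appLE (P := @Flat.{u}) (Q := RingHom.Flat)
      (RingHom.Flat.stableUnderComposition.stableUnderCompositionWithLocalizationAway
        RingHom.Flat.holdsForLocalizationAway).left).mpr fun y => ?_
    obtain ⟨V, hV, hxV, -⟩ := Opens.isBasis_iff_nbhd.mp (𝔛.X 0).isBasis_affineOpens
      (show ((φ : FSch.Hom 𝔜 𝔛).app 0).base ((𝔜.gInv hY n).hom y) ∈ (⊤ : (𝔛.X 0).Opens) from trivial)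
    obtain ⟨W, hW, hxW, e⟩ := Opens.isBasis_iff_nbhd.mp (𝔜.X 0).isBasis_affineOpens
      (show (𝔜.gInv hY n).hom y ∈ (φ : FSch.Hom 𝔜 𝔛).app 0 ⁻¹ᵁ V from hxV)
    refine ⟨⟨_, isAffineOpen_lvU h n hV⟩, ⟨_, isAffineOpen_lvU hY n hW⟩, hxW, lvU_le_hom h φ hY e n, ?_⟩
    obtain ⟨-, hppV, -⟩ := proj_props h p hV hp hI
    obtain ⟨-, hppW, -⟩ := proj_props hY (φ ≫ p) hW hp' hI
    refine flat_of_surjective_square (hpull h φ hY e) (hflat ⟨V, hV⟩ ⟨W, hW⟩ e) (proj 𝔛 h n V) (hppV n).1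
      (proj 𝔜 hY n W) (hppW n).1 ?_ _ (RingHom.ext fun a => (proj_hpull h φ hY e n a).symm)
    rw [(hppW n).2, (hppV n).2, Ideal.map_map]
    exact congrArg (fun ψ => Ideal.map ψ (I ^ (n + 1))) (RingHom.ext fun a => (hpull_baseHom h hY p φ e a).symm)
  obtain ⟨htf', hfp'⟩ := S13657.result R I hR 𝔛 h p hp hfp htf J hJ 𝔛' h' b hb
  have hfst : FSch.IsAdicHom (FSch.pullbackFst b φ) := by
    intro n
    have h1 := (IsPullback.of_hasPullback ((b : FSch.Hom 𝔛' 𝔛).app n)
      ((φ : FSch.Hom 𝔜 𝔛).app n)).flip.paste_horiz (hφ n)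
    have e1 : (FSch.pullbackSys b φ).ι n ≫ Limits.pullback.fst ((b : FSch.Hom 𝔛' 𝔛).app (n + 1))
        ((φ : FSch.Hom 𝔜 𝔛).app (n + 1)) = Limits.pullback.fst _ _ ≫ 𝔛'.ι n := Limits.pullback.lift_fst _ _ _
    have e2 : (FSch.pullbackSys b φ).ι n ≫ Limits.pullback.snd ((b : FSch.Hom 𝔛' 𝔛).app (n + 1))
        ((φ : FSch.Hom 𝔜 𝔛).app (n + 1)) = Limits.pullback.snd _ _ ≫ 𝔜.ι n := Limits.pullback.lift_snd _ _ _
    rw [← e2, (b : FSch.Hom 𝔛' 𝔛).comm n] at h1
    exact IsPullback.of_right h1 e1 (IsPullback.of_hasPullback _ _).flip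
  have hsnd : FSch.IsAdicHom (FSch.pullbackSnd b φ) := by
    intro n
    have h1 := (IsPullback.of_hasPullback ((b : FSch.Hom 𝔛' 𝔛).app n)
      ((φ : FSch.Hom 𝔜 𝔛).app n)).paste_horiz (hb.1 n)
    have e1 : (FSch.pullbackSys b φ).ι n ≫ Limits.pullback.fst ((b : FSch.Hom 𝔛' 𝔛).app (n + 1))
        ((φ : FSch.Hom 𝔜 𝔛).app (n + 1)) = Limits.pullback.fst _ _ ≫ 𝔛'.ι n := Limits.pullback.lift_fst _ _ _
    have e2 : (FSch.pullbackSys b φ).ι n ≫ Limits.pullback.snd ((b : FSch.Hom 𝔛' 𝔛).app (n + 1))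
        ((φ : FSch.Hom 𝔜 𝔛).app (n + 1)) = Limits.pullback.snd _ _ ≫ 𝔜.ι n := Limits.pullback.lift_snd _ _ _
    rw [← e1, (φ : FSch.Hom 𝔜 𝔛).comm n] at h1
    exact IsPullback.of_right h1 e2 (IsPullback.of_hasPullback _ _)
  have hcond : FSch.pullbackFst b φ ≫ b = FSch.pullbackSnd b φ ≫ φ := (S3859.result b φ).w
  refine ⟨hsnd, ?_, fun ℨ hZ g hg hinv => ?_⟩
  · have hcoh := isCohOpen_idealMap h hP p (FSch.pullbackFst b φ ≫ b) hp (isAdicHom_comp hfst hb.1) hI hJ
    rw [idealMap_comp h hY hP φ (FSch.pullbackSnd b φ) J, ← hcond]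
    rw [← idealMap_comp h h' hP b (FSch.pullbackFst b φ) J] at hcoh ⊢
    refine isInvertible_idealMap_of_open h' hP ((FSch.pullbackFst b φ ≫ b) ≫ p)
      (isAdicHom_comp (isAdicHom_comp hfst hb.1) hp) hI ?_ (FSch.pullbackFst b φ) hb.2.1
      (exists_baseHom_mem hP ((FSch.pullbackFst b φ ≫ b) ≫ p) hcoh)
    exact noTorsion_of_flat_levels h' hP (b ≫ p) (FSch.pullbackFst b φ) hR (isAdicHom_comp hb.1 hp) hfp' htf' hfst
      fun n => haveI := hφflat n; inferInstanceAs (Flat (Limits.pullback.fst _ _))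
  rw [idealMap_comp h hY hZ φ g J] at hinv
  obtain ⟨k, hk, hku⟩ := hb.2.2 ℨ hZ (g ≫ φ) (isAdicHom_comp hg hφ) hinv
  refine ⟨(S3859.result b φ).lift k g hk, (S3859.result b φ).lift_snd _ _ _, fun q hq => ?_⟩
  refine (S3859.result b φ).hom_ext ?_ ?_
  · rw [(S3859.result b φ).lift_fst]
    exact hku _ ((Category.assoc _ _ _).trans ((congrArg (q ≫ ·) hcond).trans
      ((Category.assoc _ _ _).symm.trans (congrArg (· ≫ φ) hq))))
  · rw [(S3859.result b φ).lift_snd, hq]

end Groth.Agent.S13661
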