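import Groth.Statements.S13662
import Groth.Agent.FBlowLib.Reduction
import Groth.Agent.ValTate.Admissible
import Mathlib.RingTheory.Flat.Equalizer
import Groth.Agent.S13352

set_option autoImplicit false
open CategoryTheory AlgebraicGeometry
open scoped TensorProduct
universe u
open FBlow

open Groth.Agent.FBlowLib TensorProduct
set_option maxHeartbeats 3200000
set_option synthInstance.maxHeartbeats 200000

namespace Groth.Agent.S13662

theorem exists_dvd_pow (R : Type u) [CommRing R] [IsDomain R] [ValuationRing R] [Ring.KrullDimLE 1 R]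
    (t : R) [IsAdicComplete (Ideal.span {t}) R] {c : R} (hc : c ≠ 0) : ∃ m : ℕ, c ∣ t ^ m := by
  have htu : t ∈ IsLocalRing.maximalIdeal R :=
    (IsLocalRing.jacobson_eq_maximalIdeal (⊥ : Ideal R) bot_ne_top).le
      (IsAdicComplete.le_jacobson_bot (Ideal.span {t}) (Ideal.mem_span_singleton_self t))
  have h2 : t ∈ Ideal.radical (Ideal.span {c}) := by
    rw [Ideal.radical_eq_sInf, Ideal.mem_sInf]
    intro P hP
    obtain ⟨hle, hp⟩ := hP
    have hP0 : P ≠ ⊥ := fun h0 => hc (by
      have h1 := hle (Ideal.mem_span_singleton_self c)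
      rwa [h0, Ideal.mem_bot] at h1)
    rw [IsLocalRing.eq_maximalIdeal (hp.isMaximal_of_ne_bot hP0)]
    exact htu
  obtain ⟨m, hm⟩ := h2
  exact ⟨m, Ideal.mem_span_singleton.mp hm⟩

/-- Let R be a complete valuation ring of height one with t a nonzero element generating an ideal of
definition and K its field of fractions, A an admissible R-algebra, f_1, …, f_n elements of A ⊗_R K
that are integral over A, c a nonzero element of R and g_1, …, g_n elements of A with g_i = c f_i in
A ⊗_R K; put A' = A[f_1, …, f_n] ⊂ A ⊗_R K and 𝔞 = (c, g_1, …, g_n) ⊂ A, and present Spf A and Spf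
A' as the formal systems (Spec A/(t)^(m+1))_m and (Spec A'/(t)^(m+1))_m. Then the morphism Spf A' →
Spf A induced by the inclusion A ⊂ A' is the admissible formal blowing-up of the ideal 𝔞·O_{Spf A}
in the sense of the universal property: it is adic, 𝔞 generates an invertible ideal of O_{Spf A'},
and every adic morphism of formal systems Y → Spf A under which 𝔞 generates an invertible ideal of
O_Y factors through Spf A' → Spf A in exactly one way. (The published hypothesis on the f_i is that
their supremum seminorm on the affinoid algebra A ⊗_R K is at most 1; integrality over A is what is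
derived from it and used, and is taken as the hypothesis here.) -/
theorem result
    (R : Type u) [CommRing R] [IsDomain R] [ValuationRing R] [Ring.KrullDimLE 1 R]
    (t : R) (ht : t ≠ 0) [IsAdicComplete (Ideal.span {t}) R]
    (A : Type u) [CommRing A] [Algebra R A] (hA : AdicRing.Admissible R (Ideal.span {t}) A)
    (n : ℕ) (f : Fin n → A ⊗[R] FractionRing R) (hf : ∀ i, IsIntegral A (f i))
    (c : R) (hc : c ≠ 0) (g : Fin n → A)
    (hg : ∀ i, algebraMap A (A ⊗[R] FractionRing R) (g i) = c • f i)
    (hX : (FSch.spf A ((Ideal.span {t}).map (algebraMap R A))).IsFormal) (h' : (FSch.spf ↥(Algebra.adjoin A (Set.range f)) ((Ideal.span {t}).map (algebraMap R ↥(Algebra.adjoin A (Set.range f))))).IsFormal)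
    (hle : ((Ideal.span {t}).map (algebraMap R A)) ≤ ((Ideal.span {t}).map (algebraMap R ↥(Algebra.adjoin A (Set.range f)))).comap (algebraMap A ↥(Algebra.adjoin A (Set.range f)))) :
    FBlow.IsAdmBlowUp (FSch.spfMap ((Ideal.span {t}).map (algebraMap R ↥(Algebra.adjoin A (Set.range f)))) ((Ideal.span {t}).map (algebraMap R A)) (algebraMap A ↥(Algebra.adjoin A (Set.range f))) hle) h' hX
      (FBlow.schIdealMap (FSch.spf A ((Ideal.span {t}).map (algebraMap R A))) hX (FSch.spfToSpec A ((Ideal.span {t}).map (algebraMap R A))) (FSch.spfToSpec_comm A ((Ideal.span {t}).map (algebraMap R A)))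
        (FBlow.IdealSh.ofData (FSch.idealSpec A (Ideal.span (insert (algebraMap R A c) (Set.range g)))))) := by
  obtain ⟨hadm, hfin⟩ := Groth.Agent.S13352.result R t ht A hA n f hf
  let A' := ↥(Algebra.adjoin A (Set.range f))
  let φ : A →+* A' := algebraMap A A'
  have hinjK : Function.Injective (algebraMap A (A ⊗[R] FractionRing R)) := by
    have := Groth.Agent.ValTate.flat_of_noPowTorsion t A hA.2
    exact Algebra.TensorProduct.includeLeft_injective (S := R) (IsFractionRing.injective R (FractionRing R))
  have hinj : Function.Injective φ := fun a b hab => hinjK (congrArg Subtype.val hab)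
  have hcR : ∀ x : A', algebraMap A A' (algebraMap R A c) * x = c • x := fun x => by
    rw [← IsScalarTower.algebraMap_apply, Algebra.smul_def]
  have hreg : algebraMap A A' (algebraMap R A c) ∈ nonZeroDivisors A' :=
    mem_nonZeroDivisors_iff_left.mpr fun x hx => by
      rw [hcR] at hx
      exact Subtype.ext (Groth.Agent.ValTate.eq_zero_of_smul_tensor_fraction hc (congrArg Subtype.val hx))
  let F : Fin n → A' := fun i => ⟨f i, Algebra.subset_adjoin ⟨i, rfl⟩⟩
  have hgen : Algebra.adjoin A (Set.range F) = ⊤ := by
    apply Subalgebra.map_injective (f := (Algebra.adjoin A (Set.range f)).val) Subtype.val_injective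
    rw [← Algebra.adjoin_image, ← Set.range_comp, Algebra.map_top, Subalgebra.range_val]
    rfl
  haveI : Module.Finite A A' := hfin
  obtain ⟨m, hm⟩ := exists_dvd_pow R t hc
  let J := (Ideal.span {t}).map (algebraMap R A)
  let J' := (Ideal.span {t}).map (algebraMap R A')
  let 𝔞 := Ideal.span (insert (algebraMap R A c) (Set.range g))
  have hJ : J.map φ = J' := by
    rw [Ideal.map_map, ← IsScalarTower.algebraMap_eq R A A']
  have hk : J ^ m ≤ 𝔞 := by
    rw [← Ideal.map_pow, Ideal.span_singleton_pow, Ideal.map_span, Set.image_singleton,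
      Ideal.span_singleton_le_iff_mem]
    obtain ⟨d, hd⟩ := hm
    rw [hd, map_mul]
    exact Ideal.mul_mem_right _ _ (Ideal.subset_span (Set.mem_insert _ _))
  have h99 := isAdmBlowUp_spfMap_of_fractions (A := A) (A' := A') (algebraMap R A c) g F hinj hreg hgen (fun i => Subtype.ext ((hg i).trans (Algebra.smul_def c (f i))))
  exact h99 J J' hJ m hk hle hX h'

end Groth.Agent.S13662
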