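import Groth.Statements.S13663
import Mathlib
import Groth.Prelude

set_option linter.all false

set_option autoImplicit false
universe u
open GrRing

open DualNumber Pointwise

namespace Groth.Agent.S13663

/-- Let A be a commutative ring graded by the integers whose ideal generated by the homogeneous elements
of positive degree has homogeneous generators f_1, …, f_p, of positive degrees d_1, …, d_p, and let
d be a positive integer divisible by each d_i. Then A_N = A_d · A_{N-d} for every integer N > dp -
(d_1 + ⋯ + d_p). -/
theorem result {R A : Type u} [CommRing R] [CommRing A] [Algebra R A]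
    (𝒜 : ℤ → Submodule R A) [GradedAlgebra 𝒜]
    {p : ℕ} (f : Fin p → A) (deg : Fin p → ℤ) (hdeg : ∀ i, 0 < deg i) (hf : ∀ i, f i ∈ 𝒜 (deg i))
    (hgen : Ideal.span {a : A | ∃ n : ℤ, 0 < n ∧ a ∈ 𝒜 n} = Ideal.span (Set.range f))
    (d : ℤ) (hd : 0 < d) (hdvd : ∀ i, deg i ∣ d) (N : ℤ) (hN : d * p - ∑ i, deg i < N) :
    𝒜 N = 𝒜 d * 𝒜 (N - d) := by
  classical
  refine le_antisymm ?_ (Submodule.mul_le.2 fun a ha b hb => by simpa using SetLike.mul_mem_graded ha hb)
  have step : ∀ n : ℤ, 0 < n → ∀ x ∈ 𝒜 n, ∃ g : Fin p → A, (∀ i, g i ∈ 𝒜 (n - deg i)) ∧ x = ∑ i, g i * f i := by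
    intro n hn x hx
    have : x ∈ Ideal.span (Set.range f) := hgen ▸ Ideal.subset_span ⟨n, hn, hx⟩
    obtain ⟨c, rfl⟩ := Ideal.mem_span_range_iff_exists_fun.1 this
    refine ⟨fun i => (DirectSum.decompose 𝒜 (c i) (n - deg i) : A), fun i => SetLike.coe_mem _, ?_⟩
    conv_lhs => rw [← DirectSum.decompose_of_mem_same 𝒜 hx]
    rw [DirectSum.decompose_sum, DFinsupp.finsetSum_apply, AddSubmonoidClass.coe_finset_sum]
    refine Finset.sum_congr rfl fun i _ => ?_
    conv_lhs => rw [show n = (n - deg i) + deg i by ring]
    exact DirectSum.coe_decompose_mul_add_of_right_mem 𝒜 (hf i)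
  intro a ha
  have key : ∀ (k : ℕ) (e : Fin p → ℕ), N - ∑ i, (e i : ℤ) * deg i ≤ k →
      ∀ x ∈ 𝒜 (N - ∑ i, (e i : ℤ) * deg i), (∏ i, f i ^ e i) * x ∈ 𝒜 d * 𝒜 (N - d) := by
    intro k
    induction k with
    | zero | succ k ih =>
      all_goals
        intro e he x hx
        by_cases hbig : ∃ i, d ≤ (e i : ℤ) * deg i
        · obtain ⟨i, hi⟩ := hbig
          obtain ⟨c, hc⟩ := hdvd i
          have hc0 : 0 ≤ c := by nlinarith [hdeg i]
          obtain ⟨c, rfl⟩ := Int.eq_ofNat_of_zero_le hc0
          have hle : c ≤ e i := by
            have : (c : ℤ) * deg i ≤ (e i : ℤ) * deg i := by rw [hc] at hi; linarith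
            exact_mod_cast le_of_mul_le_mul_right this (hdeg i)
          have hsplit : ∏ j, f j ^ e j = f i ^ c * (f i ^ (e i - c) * ∏ j ∈ Finset.univ.erase i, f j ^ e j) := by
            rw [← Finset.mul_prod_erase _ _ (Finset.mem_univ i), ← mul_assoc, ← pow_add, Nat.add_sub_cancel' hle]
          rw [hsplit, mul_assoc]
          refine Submodule.mul_mem_mul ?_ ?_
          · have := SetLike.pow_mem_graded c (hf i)
            rwa [show (c : ℕ) • deg i = d by rw [hc]; simp [mul_comm]] at this
          · have h1 : ∏ j ∈ Finset.univ.erase i, f j ^ e j ∈ 𝒜 (∑ j ∈ Finset.univ.erase i, (e j : ℤ) * deg j) := by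
              refine SetLike.prod_mem_graded 𝒜 _ _ fun j _ => ?_
              simpa using SetLike.pow_mem_graded (e j) (hf j)
            have h2 : f i ^ (e i - c) ∈ 𝒜 (((e i - c : ℕ) : ℤ) * deg i) := by
              simpa using SetLike.pow_mem_graded (e i - c) (hf i)
            have := SetLike.mul_mem_graded (SetLike.mul_mem_graded h2 h1) hx
            rwa [show ((e i - c : ℕ) : ℤ) * deg i + ∑ j ∈ Finset.univ.erase i, (e j : ℤ) * deg j + (N - ∑ j, (e j : ℤ) * deg j) = N - d by
              rw [← Finset.add_sum_erase _ _ (Finset.mem_univ i), Nat.cast_sub hle, hc]; ring] at this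
        · push Not at hbig
          have hpos : 0 < N - ∑ i, (e i : ℤ) * deg i := by
            have : ∑ i, (e i : ℤ) * deg i ≤ ∑ i, (d - deg i) := Finset.sum_le_sum fun i _ => by
              obtain ⟨c, hc⟩ := hdvd i
              have := hbig i
              rw [hc, mul_comm (deg i) c] at this
              have hlt : (e i : ℤ) < c := lt_of_mul_lt_mul_right this (hdeg i).le
              nlinarith [hdeg i]
            rw [Finset.sum_sub_distrib] at this
            simp at this
            linarith [mul_comm d (p : ℤ)]
          first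
            | omega
            | skip
          all_goals
            obtain ⟨g, hg, rfl⟩ := step _ hpos x hx
            rw [Finset.mul_sum]
            refine Submodule.sum_mem _ fun i _ => ?_
            set e' := Function.update e i (e i + 1)
            have hs : ∑ j, (e' j : ℤ) * deg j = ∑ j, (e j : ℤ) * deg j + deg i := by
              rw [← Finset.add_sum_erase _ _ (Finset.mem_univ i), ← Finset.add_sum_erase _ _ (Finset.mem_univ i),
                Finset.sum_congr rfl fun j hj => by rw [show e' j = e j from Function.update_of_ne (Finset.ne_of_mem_erase hj) _ _]]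
              simp [e']; ring
            have hp : ∏ j, f j ^ e' j = (∏ j, f j ^ e j) * f i := by
              rw [← Finset.mul_prod_erase _ _ (Finset.mem_univ i), ← Finset.mul_prod_erase _ _ (Finset.mem_univ i),
                Finset.prod_congr rfl fun j hj => by rw [show e' j = e j from Function.update_of_ne (Finset.ne_of_mem_erase hj) _ _]]
              simp [e', pow_succ]; ring
            have := ih e' (by have := hdeg i; rw [hs]; push_cast at he; omega) (g i) (by rw [hs, ← sub_sub]; exact hg i)
            rw [hp] at this
            convert this using 1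
            ring
  have := key N.toNat 0 (by simp) a (by simpa using ha)
  simpa using this

end Groth.Agent.S13663
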