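import Groth.Statements.S13664
import Mathlib.RingTheory.Noetherian.Nilpotent

set_option autoImplicit false
universe u
open GrRing

namespace Groth.Agent.S13664

/-- Let A be a commutative ring graded by the integers whose ideal I generated by the homogeneous
elements of positive degree has homogeneous generators f_1, …, f_p, of positive degrees d_1, …, d_p,
let d be a positive integer divisible by each d_i, and let x be an element of an A-module M. The
following are equivalent: x is annihilated by some power of I; x is annihilated by (A_d)^n for all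
sufficiently large n; there is an integer s such that A_n x = 0 for all n ≥ s. (The published
statement is for a homogeneous element of a graded module; this row drops both the grading of M and
the homogeneity of x, which play no role.) -/
theorem result {R A : Type u} [CommRing R] [CommRing A] [Algebra R A]
    (𝒜 : ℤ → Submodule R A) [GradedAlgebra 𝒜]
    {p : ℕ} (f : Fin p → A) (deg : Fin p → ℤ) (hdeg : ∀ i, 0 < deg i) (hf : ∀ i, f i ∈ 𝒜 (deg i))
    (hgen : Ideal.span {a : A | ∃ n : ℤ, 0 < n ∧ a ∈ 𝒜 n} = Ideal.span (Set.range f))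
    (d : ℤ) (hd : 0 < d) (hdvd : ∀ i, deg i ∣ d)
    {M : Type u} [AddCommGroup M] [Module A M] (x : M) :
    [x ∈ GrLC.gam (Ideal.span (Set.range f)) M,
     ∃ n₀ : ℕ, ∀ n : ℕ, n₀ ≤ n → ∀ r ∈ (𝒜 d) ^ n, r • x = 0,
     ∃ s : ℤ, ∀ n : ℤ, s ≤ n → ∀ r ∈ 𝒜 n, r • x = 0].TFAE := by
  classical
  set I := Ideal.span (Set.range f) with hI
  have key : ∀ N : ℕ, ∀ n : ℤ, (N : ℤ) * (∑ i, deg i) < n → ∀ a ∈ 𝒜 n, a ∈ I ^ N := by
    intro N
    induction N with
    | zero => intro n _ a _; simp
    | succ N ih =>
      intro n hn a ha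
      have hD : (0 : ℤ) ≤ ∑ i, deg i := Finset.sum_nonneg fun i _ => (hdeg i).le
      have hn0 : 0 < n := lt_of_le_of_lt (mul_nonneg (by positivity) hD) hn
      obtain ⟨c, hc⟩ := (Ideal.mem_span_range_iff_exists_fun).mp
        (show a ∈ Ideal.span (Set.range f) by rw [← hI, ← hgen]; exact Ideal.subset_span ⟨n, hn0, ha⟩)
      have h1 : (DirectSum.decompose 𝒜 a n : A) = ∑ i, (DirectSum.decompose 𝒜 (c i * f i) n : A) := by
        rw [← hc, DirectSum.decompose_sum, DFinsupp.finsetSum_apply, AddSubmonoidClass.coe_finsetSum]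
      rw [DirectSum.decompose_of_mem_same 𝒜 ha] at h1
      rw [h1, pow_succ]
      refine Ideal.sum_mem _ fun i _ => ?_
      rw [show n = (n - deg i) + deg i by ring, DirectSum.coe_decompose_mul_add_of_right_mem 𝒜 (hf i)]
      refine Ideal.mul_mem_mul (ih (n - deg i) ?_ _ (SetLike.coe_mem _)) (Ideal.subset_span ⟨i, rfl⟩)
      have h2 : deg i ≤ ∑ i, deg i :=
        Finset.single_le_sum (f := deg) (fun j _ => (hdeg j).le) (Finset.mem_univ i)
      push_cast at hn
      nlinarith
  tfae_have 1 → 3 := by
    rintro ⟨N, hN⟩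
    exact ⟨(N : ℤ) * (∑ i, deg i) + 1, fun n hn r hr => hN r (key N n (by omega) r hr)⟩
  tfae_have 3 → 2 := by
    rintro ⟨s, hs⟩
    refine ⟨s.toNat, fun n hn r hr => hs ((n : ℤ) * d) ?_ r ?_⟩
    · have : s ≤ (n : ℤ) := by omega
      nlinarith
    · clear hn
      induction n generalizing r with
      | zero =>
        rw [Submodule.pow_zero, Submodule.one_eq_range] at hr
        obtain ⟨c, rfl⟩ := hr
        simpa [Algebra.linearMap_apply] using SetLike.algebraMap_mem_graded 𝒜 c
      | succ n ih =>
        rw [Submodule.pow_succ] at hr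
        rw [show ((n + 1 : ℕ) : ℤ) * d = (n : ℤ) * d + d by push_cast; ring]
        exact Submodule.mul_induction_on hr (fun u hu v hv => SetLike.mul_mem_graded (ih u hu) hv)
          (fun u v hu hv => add_mem hu hv)
  tfae_have 2 → 1 := by
    rintro ⟨n₀, h2⟩
    let S : Set A := Set.range fun i => f i ^ (d / deg i).toNat
    have hS : S ⊆ (𝒜 d : Set A) := by
      rintro _ ⟨i, rfl⟩
      have hk : ((d / deg i).toNat : ℕ) • deg i = d := by
        rw [nsmul_eq_mul, Int.toNat_of_nonneg (Int.ediv_nonneg hd.le (hdeg i).le),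
          Int.ediv_mul_cancel (hdvd i)]
      have := SetLike.pow_mem_graded (A := 𝒜) (d / deg i).toNat (hf i)
      rwa [hk] at this
    have hI' : I ≤ (Ideal.span S).radical := by
      rw [hI, Ideal.span_le]
      rintro _ ⟨i, rfl⟩
      exact ⟨(d / deg i).toNat, Ideal.subset_span ⟨i, rfl⟩⟩
    have hfg : I.FG := ⟨(Set.finite_range f).toFinset, by rw [hI, Set.Finite.coe_toFinset]⟩
    obtain ⟨m, hm⟩ := Ideal.exists_pow_le_of_le_radical_of_fg hI' hfg
    refine ⟨m * n₀, fun r hr => ?_⟩
    have h3 : r ∈ Ideal.span S ^ n₀ := Ideal.pow_right_mono hm n₀ (by rw [← pow_mul]; exact hr)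
    have h4 : Ideal.span S ^ n₀ ≤ LinearMap.ker (LinearMap.toSpanSingleton A M x) := by
      rw [Ideal.span, Submodule.span_pow, Submodule.span_le]
      intro u hu
      exact h2 n₀ le_rfl u (Submodule.pow_subset_pow (𝒜 d) ((Set.pow_subset_pow_left hS) hu))
    exact h4 h3
  tfae_finish

end Groth.Agent.S13664
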