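import Groth.Statements.S13665
import Mathlib
import Groth.Prelude

set_option linter.all false

set_option autoImplicit false
universe u
open GrRing


namespace Groth.Agent.S13665

variable {R A : Type*} [CommRing R] [CommRing A] [Algebra R A] (𝒜 : ℤ → Submodule R A) [GradedAlgebra 𝒜]

theorem proj_mul {d : ℤ} {x : A} (hx : x ∈ 𝒜 d) (n : ℤ) (c : A) :
    (DirectSum.decompose 𝒜 (c * x) n : A) = (DirectSum.decompose 𝒜 c (n - d) : A) * x := by
  conv_lhs => rw [show n = (n - d) + d by ring]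
  exact DirectSum.coe_decompose_mul_add_of_right_mem 𝒜 hx

theorem proj_span {t : Finset A} (deg : A → ℤ) (ht : ∀ y ∈ t, y ∈ 𝒜 (deg y)) {z : A} (hz : z ∈ Ideal.span (t : Set A))
    {m : ℤ} (hzm : z ∈ 𝒜 m) : ∃ c : A → A, z = ∑ y ∈ t, c y * y ∧ ∀ y, c y ∈ 𝒜 (m - deg y) := by
  classical
  obtain ⟨f, -, hf⟩ := Submodule.mem_span_finset.1 hz
  refine ⟨fun y => (DirectSum.decompose 𝒜 (f y) (m - deg y) : A), ?_, fun y => SetLike.coe_mem _⟩
  calc z = (DirectSum.decompose 𝒜 z m : A) := (DirectSum.decompose_of_mem_same 𝒜 hzm).symm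
    _ = ∑ y ∈ t, (DirectSum.decompose 𝒜 (f y * y) m : A) := by
      rw [← hf]
      simp only [smul_eq_mul, DirectSum.decompose_sum, DirectSum.sum_apply, Submodule.coe_sum, AddSubmonoidClass.coe_finsetSum]
    _ = _ := Finset.sum_congr rfl fun y hy => proj_mul 𝒜 (ht y hy) m (f y)

theorem exists_gens (hh : ∀ I : Ideal A, I.IsHomogeneous 𝒜 → I.FG) (S : Set A) (hS : ∀ x ∈ S, ∃ n, x ∈ 𝒜 n) :
    ∃ t : Finset A, (t : Set A) ⊆ S ∧ Ideal.span (t : Set A) = Ideal.span S := by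
  obtain ⟨t, hts, ht⟩ := (Submodule.fg_span_iff_fg_span_finset_subset S).1 (hh (Ideal.span S) (Ideal.homogeneous_span 𝒜 S hS))
  exact ⟨t, hts, ht.symm⟩

theorem piece (hh : ∀ I : Ideal A, I.IsHomogeneous 𝒜 → I.FG) (m : ℤ) :
    ∃ t : Finset A, (t : Set A) ⊆ 𝒜 m ∧ ∀ B : Subalgebra (𝒜 0) A, (t : Set A) ⊆ B → (𝒜 m : Set A) ⊆ B := by
  obtain ⟨t, hts, ht⟩ := exists_gens 𝒜 hh (𝒜 m : Set A) fun x hx => ⟨m, hx⟩
  refine ⟨t, hts, fun B hB z hz => ?_⟩
  obtain ⟨c, hc, hcm⟩ := proj_span 𝒜 (fun _ => m) (fun y hy => hts hy) (ht.ge (Ideal.subset_span hz)) hz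
  rw [hc]
  refine Subalgebra.sum_mem B fun y hy => ?_
  have h0 : c y ∈ 𝒜 0 := by simpa using hcm y
  exact B.mul_mem (B.algebraMap_mem (⟨c y, h0⟩ : 𝒜 0)) (hB hy)

theorem zero_noetherian (hh : ∀ I : Ideal A, I.IsHomogeneous 𝒜 → I.FG) : IsNoetherianRing (𝒜 0) := by
  classical
  refine isNoetherianRing_iff_ideal_fg (𝒜 0) |>.2 fun I => ?_
  obtain ⟨t, hts, ht⟩ := exists_gens 𝒜 hh (Subtype.val '' (I : Set (𝒜 0))) (by rintro _ ⟨x, -, rfl⟩; exact ⟨0, x.2⟩)
  have ht0 : ∀ y ∈ t, y ∈ 𝒜 0 := fun y hy => by obtain ⟨x, -, rfl⟩ := hts hy; exact x.2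
  refine ⟨t.subtype (· ∈ 𝒜 0), le_antisymm (Ideal.span_le.2 ?_) fun z hz => ?_⟩
  · intro x hx
    rw [Finset.mem_coe, Finset.mem_subtype] at hx
    obtain ⟨x', hx', he⟩ := hts hx
    exact (Subtype.ext he : x' = x) ▸ hx'
  · obtain ⟨c, hc, hcm⟩ := proj_span 𝒜 (fun _ => (0 : ℤ)) ht0 (ht.ge (Ideal.subset_span ⟨z, hz, rfl⟩)) z.2
    have hz' : z = ∑ y ∈ t.attach, (⟨c y.1, by simpa using hcm y.1⟩ : 𝒜 0) * ⟨y.1, ht0 _ y.2⟩ := by
      refine Subtype.ext ?_
      rw [hc, ← Finset.sum_attach]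
      simp
    rw [hz']
    exact Submodule.sum_mem _ fun y _ => Ideal.mul_mem_left _ _ (Ideal.subset_span (by simp))

theorem side (hh : ∀ I : Ideal A, I.IsHomogeneous 𝒜 → I.FG) (s : ℤ) (hs : s = 1 ∨ s = -1) :
    (Algebra.adjoin (𝒜 0) {a : A | ∃ n : ℤ, 0 ≤ s * n ∧ a ∈ 𝒜 n}).FG := by
  classical
  have hs2 : s * s = 1 := by rcases hs with rfl | rfl <;> norm_num
  obtain ⟨t, hts, ht⟩ := exists_gens 𝒜 hh {a : A | ∃ n : ℕ, 0 < n ∧ a ∈ 𝒜 (s * n)} fun x ⟨n, _, hx⟩ => ⟨_, hx⟩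
  choose! d hd0 hd using fun y (hy : y ∈ t) => hts hy
  let D := t.sup d
  choose g hg hgB using fun k : ℕ => piece 𝒜 hh (s * k)
  let T : Finset A := t ∪ (Finset.range (D + 1)).biUnion g
  refine ⟨T, le_antisymm (Algebra.adjoin_le ?_) (Algebra.adjoin_le ?_)⟩
  · intro x hx
    refine Algebra.subset_adjoin ?_
    rcases Finset.mem_union.1 hx with hx | hx
    · exact ⟨s * d x, by rw [← mul_assoc, hs2, one_mul]; positivity, hd x hx⟩
    · obtain ⟨k, -, hk⟩ := Finset.mem_biUnion.1 hx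
      exact ⟨s * k, by rw [← mul_assoc, hs2, one_mul]; positivity, hg k hk⟩
  · have key : ∀ k : ℕ, (𝒜 (s * k) : Set A) ⊆ Algebra.adjoin (𝒜 0) (T : Set A) := by
      intro k
      induction k using Nat.strong_induction_on with
      | _ k ih =>
        by_cases hk : k ≤ D
        · exact hgB k _ fun x hx => Algebra.subset_adjoin (Finset.mem_union_right _ (Finset.mem_biUnion.2 ⟨k, by simp; omega, hx⟩))
        · intro z hz
          obtain ⟨c, hc, hcm⟩ := proj_span 𝒜 (fun y => s * d y) hd (ht.ge (Ideal.subset_span ⟨k, by omega, hz⟩)) hz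
          rw [hc]
          refine Subalgebra.sum_mem _ fun y hy => Subalgebra.mul_mem _ ?_ (Algebra.subset_adjoin (Finset.mem_union_left _ hy))
          have hle : d y ≤ D := Finset.le_sup hy
          have := hd0 y hy
          refine ih (k - d y) (by omega) ?_
          have hdeg : s * (k : ℤ) - s * (d y : ℤ) = s * ((k - d y : ℕ) : ℤ) := by rw [Nat.cast_sub (by omega)]; ring
          simpa [hdeg] using hcm y
    rintro z ⟨n, hn, hz⟩
    obtain ⟨k, hk⟩ := Int.eq_ofNat_of_zero_le hn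
    refine key k ?_
    rwa [show s * (k : ℤ) = n by rw [← hk, ← mul_assoc, hs2, one_mul]]

/-- For a commutative ring A graded by the integers, with degree-zero subring A_0, the following are
equivalent: A is Noetherian; each homogeneous ideal of A has a finite generating set; A_0 is
Noetherian and the subalgebras A_{≥0}, A_{≤0} are each of finite type over A_0; A_0 is Noetherian
and A is an A_0-algebra of finite type. -/
theorem result {R A : Type u} [CommRing R] [CommRing A] [Algebra R A]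
    (𝒜 : ℤ → Submodule R A) [GradedAlgebra 𝒜] :
    [IsNoetherianRing A,
     ∀ I : Ideal A, I.IsHomogeneous 𝒜 → I.FG,
     IsNoetherianRing (𝒜 0) ∧ (Algebra.adjoin (𝒜 0) {a : A | ∃ n : ℤ, 0 ≤ n ∧ a ∈ 𝒜 n}).FG ∧
       (Algebra.adjoin (𝒜 0) {a : A | ∃ n : ℤ, n ≤ 0 ∧ a ∈ 𝒜 n}).FG,
     IsNoetherianRing (𝒜 0) ∧ Algebra.FiniteType (𝒜 0) A].TFAE := by
  classical
  tfae_have 1 → 2 := fun h I _ => IsNoetherian.noetherian I
  tfae_have 2 → 3 := fun hh => ⟨zero_noetherian 𝒜 hh, by simpa using side 𝒜 hh 1 (Or.inl rfl),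
    by simpa [neg_mul] using side 𝒜 hh (-1) (Or.inr rfl)⟩
  tfae_have 3 → 4 := by
    rintro ⟨h0, hp, hn⟩
    refine ⟨h0, ⟨?_⟩⟩
    have hsup := hp.sup hn
    rw [← Algebra.adjoin_union] at hsup
    convert hsup using 1
    refine (eq_top_iff.2 fun x _ => ?_).symm
    rw [← DirectSum.sum_support_decompose 𝒜 x]
    refine Subalgebra.sum_mem _ fun n _ => Algebra.subset_adjoin ?_
    rcases le_total 0 n with h | h
    · exact Or.inl ⟨n, h, SetLike.coe_mem _⟩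
    · exact Or.inr ⟨n, h, SetLike.coe_mem _⟩
  tfae_have 4 → 1 := fun ⟨h0, h⟩ => Algebra.FiniteType.isNoetherianRing (𝒜 0) A
  tfae_finish

end Groth.Agent.S13665
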