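import Groth.Statements.S1368
import Groth.Agent.FlatMorAssOpen.Generic

set_option autoImplicit false
universe u
open FlatMor

namespace Groth.Agent.S1368

open AlgebraicGeometry CategoryTheory Limits in
/-- Let f be of finite type with irreducible target, F a quasi-coherent module of finite type on the
source and U an open of the source. If the associated points of F restricted to the generic fibre
all lie in U, then over some nonempty open of the target the associated points of F restricted to
every fibre lie in U. -/
theorem result {X Y : Scheme.{u}} (f : X ⟶ Y) [IrreducibleSpace ↑Y] [LocallyOfFiniteType f] [QuasiCompact f]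
    (F : X.Modules) (hF : Coh.IsCoh F) (U : X.Opens)
    (h : ∀ x ∈ MoreMor.relAss f F, f x = genericPoint ↑Y → x ∈ U) :
    ∃ V : Y.Opens, (V : Set ↑Y).Nonempty ∧ ∀ x ∈ MoreMor.relAss f F, f x ∈ V → x ∈ U := by
  have := hF.1
  obtain ⟨V, hV, hiff⟩ := Groth.Agent.FlatMorAssOpen.exists_open_iff f F hF.2 U
  exact ⟨V, hV, fun x hx hxV => (hiff (f x) hxV).2 h x hx rfl⟩

end Groth.Agent.S1368
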