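import Groth.Statements.S13682
import Mathlib.LinearAlgebra.Multilinear.Curry
import Mathlib.Algebra.BigOperators.Fin
import Mathlib.Tactic.Abel

set_option autoImplicit false
universe u v w
open scoped BigOperators
open BTGrp

namespace Groth.Agent.S13682

open scoped BigOperators in
/-- The difference quotient of a multilinear map. -/
noncomputable def dq {A : Type u} [CommRing A] {r : ℕ} {M : Fin r → Type v} {N : Type w} [∀ i, AddCommGroup (M i)]
    [∀ i, Module A (M i)] [AddCommGroup N] [Module A N] (φ : MultilinearMap A M N) (a b y : ∀ i, M i) : N :=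
  ∑ i : Fin r, φ (fun k => if k < i then a k else if k = i then y k else b k)

theorem dq_succ {A : Type u} [CommRing A] {r : ℕ} {M : Fin (r + 1) → Type v} {N : Type w} [∀ i, AddCommGroup (M i)]
    [∀ i, Module A (M i)] [AddCommGroup N] [Module A N] (φ : MultilinearMap A M N) (a b y : ∀ i, M i) :
    dq φ a b y = φ (Fin.cons (y 0) (Fin.tail b)) + dq (φ.curryLeft (a 0)) (Fin.tail a) (Fin.tail b) (Fin.tail y) := by
  rw [dq, Fin.sum_univ_succ]
  congr 1
  · congr 1
    funext k
    refine Fin.cases ?_ ?_ k
    · simp
    · intro k; simp [Fin.tail, Fin.succ_ne_zero]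
  · refine Finset.sum_congr rfl fun i _ => ?_
    rw [MultilinearMap.curryLeft_apply]
    congr 1
    funext k
    refine Fin.cases ?_ ?_ k
    · simp
    · intro k; simp [Fin.tail]

theorem dq_smul_sub {A : Type u} [CommRing A] (α : A) : ∀ {r : ℕ} {M : Fin r → Type v} {N : Type w}
    [∀ i, AddCommGroup (M i)] [∀ i, Module A (M i)] [AddCommGroup N] [Module A N] (φ : MultilinearMap A M N)
    (a b y : ∀ i, M i), (∀ i, a i = b i + α • y i) → α • dq φ a b y = φ a - φ b := by
  intro r
  induction r with
  | zero =>
    intro M N _ _ _ _ φ a b y _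
    rw [show a = b from funext (fun i => i.elim0)]
    simp [dq]
  | succ r ih =>
    intro M N _ _ _ _ φ a b y h
    rw [dq_succ, smul_add, ih (φ.curryLeft (a 0)) (Fin.tail a) (Fin.tail b) (Fin.tail y) (fun i => h i.succ), MultilinearMap.curryLeft_apply,
      MultilinearMap.curryLeft_apply, Fin.cons_self_tail]
    have e : φ (Fin.cons (a 0) (Fin.tail b)) = φ b + α • φ (Fin.cons (y 0) (Fin.tail b)) := by
      have h1 : ∀ t : M 0, φ (Fin.cons t (Fin.tail b)) = φ (Function.update b 0 t) := fun t => by
        rw [← Fin.update_cons_zero (b 0), Fin.cons_self_tail]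
      rw [h1, h1, h 0, MultilinearMap.map_update_add, MultilinearMap.map_update_smul, Function.update_eq_self]
    rw [e]; abel

theorem dq_linear {A : Type u} [CommRing A] {r : ℕ} {M : Fin r → Type v} {N : Type w} [∀ i, AddCommGroup (M i)]
    [∀ i, Module A (M i)] [AddCommGroup N] [Module A N] (φ ψ : MultilinearMap A M N) (t : A) (a b y : ∀ i, M i) :
    dq (φ + t • ψ) a b y = dq φ a b y + t • dq ψ a b y := by
  simp [dq, Finset.sum_add_distrib, Finset.smul_sum]

theorem dq_cocycle {A : Type u} [CommRing A] (α : A) : ∀ {r : ℕ} {M : Fin r → Type v} {N : Type w}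
    [∀ i, AddCommGroup (M i)] [∀ i, Module A (M i)] [AddCommGroup N] [Module A N] (φ : MultilinearMap A M N)
    (a b c Y y : ∀ i, M i), (∀ i, b i = a i + α • Y i) → (∀ i, c i = b i + α • y i) →
      dq φ c a (fun i => Y i + y i) = dq φ b a Y + dq φ c b y := by
  intro r
  induction r with
  | zero => intros; simp [dq]
  | succ r ih =>
    intro M N _ _ _ _ φ a b c Y y hb hc
    rw [dq_succ, dq_succ, dq_succ]
    have ht : Fin.tail (fun i => Y i + y i) = fun i => Fin.tail Y i + Fin.tail y i := rfl
    rw [ht, ih (φ.curryLeft (c 0)) (Fin.tail a) (Fin.tail b) (Fin.tail c) (Fin.tail Y) (Fin.tail y)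
      (fun i => hb i.succ) (fun i => hc i.succ)]
    have h1 : φ.curryLeft (c 0) = φ.curryLeft (b 0) + α • φ.curryLeft (y 0) := by
      rw [hc 0, map_add, map_smul]
    conv_lhs => enter [2, 1]; rw [h1, dq_linear,
      dq_smul_sub α (φ.curryLeft (y 0)) (Fin.tail b) (Fin.tail a) (Fin.tail Y) (fun i => hb i.succ)]
    have h2 : φ (Fin.cons (Y 0 + y 0) (Fin.tail a)) = φ (Fin.cons (Y 0) (Fin.tail a)) + φ (Fin.cons (y 0) (Fin.tail a)) := by
      simp only [← MultilinearMap.curryLeft_apply, map_add, MultilinearMap.add_apply]
    simp only [MultilinearMap.curryLeft_apply]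
    rw [h2]; abel


/-- Let A be a commutative ring, α ∈ A a non-zero-divisor, M_1, …, M_r and N modules over A and φ : M_1
× ⋯ × M_r → N an A-multilinear map. Let n be a natural number and let y_{i,j} (j < n) and w_{i,j} (j
≤ n) be elements of M_i with w_{i,j+1} = w_{i,j} + α y_{i,j} for all i and all j < n. Then Σ_i
Σ_{j<n} φ(w_{1,j+1}, …, w_{i-1,j+1}, y_{i,j}, w_{i+1,j}, …, w_{r,j}) = Σ_i Σ_{j<n} φ(w_{1,n}, …,
w_{i-1,n}, y_{i,j}, w_{i+1,0}, …, w_{r,0}). (The published statement takes n ≥ 1; for n = 0 both
sides are empty sums. The families y, w are indexed by all natural numbers here and only the indices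
named above enter.) -/
theorem result {A : Type u} [CommRing A] (α : A) (hα : α ∈ nonZeroDivisors A)
    {r : ℕ} (M : Fin r → Type v) (N : Type w) [∀ i, AddCommGroup (M i)] [∀ i, Module A (M i)]
    [AddCommGroup N] [Module A N] (φ : MultilinearMap A M N) (n : ℕ)
    (y w : ∀ i, ℕ → M i) (hw : ∀ i, ∀ j < n, w i (j + 1) = w i j + α • y i j) :
    (∑ i : Fin r, ∑ j ∈ Finset.range n,
        φ (fun k => if k < i then w k (j + 1) else if k = i then y k j else w k j)) =
      ∑ i : Fin r, ∑ j ∈ Finset.range n,
        φ (fun k => if k < i then w k n else if k = i then y k j else w k 0) := by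
  have hsum : ∀ m, m ≤ n → ∀ i, w i m = w i 0 + α • ∑ j ∈ Finset.range m, y i j := by
    intro m hm i
    induction m with
    | zero => simp
    | succ m ih => rw [hw i m hm, ih (by omega), Finset.sum_range_succ, smul_add, add_assoc]
  have hR : (∑ i : Fin r, ∑ j ∈ Finset.range n, φ (fun k => if k < i then w k n else if k = i then y k j else w k 0)) =
      dq φ (fun k => w k n) (fun k => w k 0) (fun k => ∑ j ∈ Finset.range n, y k j) := by
    rw [dq]
    refine Finset.sum_congr rfl fun i _ => ?_
    classical
    have key : ∀ t : M i, (fun k => if k < i then w k n else if h : k = i then (h ▸ t : M k) else w k 0) =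
        Function.update (fun k => if k < i then w k n else w k 0) i t := by
      intro t
      funext k
      by_cases hk : k = i
      · subst hk; simp
      · simp [hk]
    have key2 : ∀ g : ∀ k, M k, (fun k => if k < i then w k n else if k = i then g k else w k 0) =
        Function.update (fun k => if k < i then w k n else w k 0) i (g i) := by
      intro g
      funext k
      by_cases hk : k = i
      · subst hk; simp
      · simp [hk]
    rw [key2 (fun k => ∑ j ∈ Finset.range n, y k j), MultilinearMap.map_update_sum]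
    exact Finset.sum_congr rfl fun j _ => by rw [key2 (fun k => y k j)]
  rw [hR, Finset.sum_comm]
  suffices H : ∀ m, m ≤ n → (∑ j ∈ Finset.range m, dq φ (fun k => w k (j + 1)) (fun k => w k j) (fun k => y k j)) =
      dq φ (fun k => w k m) (fun k => w k 0) (fun k => ∑ j ∈ Finset.range m, y k j) from H n le_rfl
  intro m hm
  induction m with
  | zero =>
    simp only [Finset.range_zero, Finset.sum_empty]
    rw [dq]
    symm
    refine Finset.sum_eq_zero fun i _ => MultilinearMap.map_coord_zero φ i (by simp)
  | succ m ih =>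
    rw [Finset.sum_range_succ, ih (by omega)]
    symm
    have := dq_cocycle α φ (fun k => w k 0) (fun k => w k m) (fun k => w k (m+1)) (fun k => ∑ j ∈ Finset.range m, y k j)
      (fun k => y k m) (fun i => hsum m (by omega) i) (fun i => hw i m hm)
    simpa only [Finset.sum_range_succ] using this

end Groth.Agent.S13682
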