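import Groth.Statements.S13685
import Groth.Agent.DispLib.ExtPow

set_option autoImplicit false
universe u v w
open Disp

namespace Groth.Agent.S13685

/-- Let p be a prime, R a commutative ring, W its ring of p-typical Witt vectors, D = (P, Q, F, V⁻¹) a
3n-display over R with a normal decomposition P = L ⊕ T, Q = L + I_R T in which T is free of rank
one over W, and E the 3n-display structure on ⋀^r P whose distinguished submodule is spanned by the
wedges of elements of Q and whose V⁻¹ sends q_1 ∧ ⋯ ∧ q_r to V⁻¹q_1 ∧ ⋯ ∧ V⁻¹q_r. Then the wedge map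
λ : P^r → ⋀^r P is an alternating multilinear morphism of 3n-displays from D to E, and for every
3n-display D' = (P', Q', F', V'⁻¹) and every alternating multilinear morphism of 3n-displays φ : P^r
→ P' (W-multilinear alternating, φ(Q^r) ⊆ Q', V'⁻¹(φ(q)) = φ(V⁻¹q_1, …, V⁻¹q_r), F'(φ(q_1, …, x_i,
…, q_r)) = φ(V⁻¹q_1, …, F x_i, …, V⁻¹q_r)) there is a unique W-linear ψ : ⋀^r P → P' that is a
morphism of 3n-displays from E to D' (ψ maps E's submodule into Q' and commutes with F and V⁻¹) with
ψ ∘ λ = φ. (The published statement has T projective of rank one; this row takes T free of rank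
one.) -/
theorem result (p : ℕ) [Fact p.Prime] (R : Type u) [CommRing R]
    (P : Type v) [AddCommGroup P] [Module (WittVector p R) P] (D : W4c1extbt610.Display3n p R P)
    (hT : ∃ L T : Submodule (WittVector p R) P, IsCompl L T ∧ D.Q = L ⊔ W4c1extbt610.IV p R • T ∧
      Nonempty (T ≃ₗ[WittVector p R] WittVector p R))
    (r : ℕ) (E : W4c1extbt610.Display3n p R (⋀[WittVector p R]^r P)) (hE : W4c1extbt610.IsExtPow D r E) :
    W4c1extbt610.IsAltMult D E (exteriorPower.ιMulti (WittVector p R) r) ∧
      ∀ (P' : Type w) [AddCommGroup P'] [Module (WittVector p R) P'] (D' : W4c1extbt610.Display3n p R P')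
        (φ : P [⋀^Fin r]→ₗ[WittVector p R] P'), W4c1extbt610.IsAltMult D D' φ →
        ∃! ψ : ⋀[WittVector p R]^r P →ₗ[WittVector p R] P',
          W4c1extbt610.IsHom E D' ψ ∧ ψ.compAlternatingMap (exteriorPower.ιMulti (WittVector p R) r) = φ := by
  classical
  have hmem : ∀ q : Fin r → D.Q, exteriorPower.ιMulti (WittVector p R) r (fun i => (q i : P)) ∈ E.Q := fun q =>
    hE.1 ▸ Submodule.subset_span ⟨q, rfl⟩
  refine ⟨⟨hmem, fun q => hE.2 q (hmem q), fun i x q => ?_⟩, fun P' _ _ D' φ hφ => ?_⟩
  · let q' : Fin r → D.Q := Function.update q i ⟨_, DispLib.verschiebung_smul_mem D 1 x⟩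
    have e1 : (fun j => (q' j : P)) = Function.update (fun j => (q j : P)) i
        (WittVector.verschiebung (1 : WittVector p R) • x) := by
      funext j
      rcases eq_or_ne j i with rfl | hji
      · simp [q']
      · simp [q', Function.update_of_ne hji]
    have e2 : (fun j => D.Vinv (q' j)) = Function.update (fun j => D.Vinv (q j)) i (D.F x) := by
      funext j
      rcases eq_or_ne j i with rfl | hji
      · simp [q', ← DispLib.F_eq_Vinv]
      · simp [q', Function.update_of_ne hji]
    rw [DispLib.F_eq_Vinv E]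
    refine (DispLib.Vinv_congr E (y' := ⟨_, hmem q'⟩) ?_).trans ?_
    · show _ = exteriorPower.ιMulti (WittVector p R) r (fun j => (q' j : P))
      rw [e1, AlternatingMap.map_update_smul]
    · rw [hE.2 q' (hmem q'), e2]
  · let ψ := exteriorPower.alternatingMapLinearEquiv φ
    have hψ : ∀ v, ψ (exteriorPower.ιMulti (WittVector p R) r v) = φ v :=
      exteriorPower.alternatingMapLinearEquiv_apply_ιMulti φ
    have key : ∀ z, z ∈ E.Q → ∀ h : z ∈ E.Q, ∃ h' : ψ z ∈ D'.Q, ψ (E.Vinv ⟨z, h⟩) = D'.Vinv ⟨ψ z, h'⟩ := by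
      intro z hz
      rw [hE.1] at hz
      induction hz using Submodule.span_induction with
      | mem z hz =>
        obtain ⟨q, rfl⟩ := hz
        intro h
        refine ⟨(hψ _).symm ▸ hφ.mapsTo q, ?_⟩
        rw [hE.2 q h, hψ, ← hφ.vCond q]
        exact DispLib.Vinv_congr D' (hψ _).symm
      | zero =>
        intro h
        refine ⟨by rw [map_zero]; exact zero_mem _, ?_⟩
        rw [show (⟨0, h⟩ : E.Q) = 0 from rfl, map_zero E.Vinv]
        refine (map_zero ψ).trans ?_
        exact (map_zero D'.Vinv).symm.trans (DispLib.Vinv_congr D' (map_zero ψ).symm)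
      | add a b ha hb iha ihb =>
        intro h
        rw [← hE.1] at ha hb
        obtain ⟨a', ha'⟩ := iha ha
        obtain ⟨b', hb'⟩ := ihb hb
        refine ⟨by rw [map_add]; exact add_mem a' b', ?_⟩
        rw [DispLib.Vinv_congr E (y := ⟨a + b, h⟩) (y' := ⟨a, ha⟩ + ⟨b, hb⟩) rfl, map_add, map_add, ha', hb',
          ← map_add]
        exact DispLib.Vinv_congr D' (map_add ψ a b).symm
      | smul c a ha iha =>
        intro h
        rw [← hE.1] at ha
        obtain ⟨a', ha'⟩ := iha ha
        refine ⟨by rw [map_smul]; exact Submodule.smul_mem _ c a', ?_⟩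
        rw [DispLib.Vinv_congr E (y := ⟨c • a, h⟩) (y' := c • ⟨a, ha⟩) rfl, DispLib.Vinv_smul, map_smul, ha',
          ← DispLib.Vinv_smul]
        exact DispLib.Vinv_congr D' (map_smul ψ c a).symm
    refine ⟨ψ, ⟨⟨fun z hz => (key z hz hz).1, fun x => ?_, fun q => ?_⟩,
      AlternatingMap.ext fun v => hψ v⟩, fun ψ' hψ' => ?_⟩
    · obtain ⟨h', e⟩ := key _ (DispLib.verschiebung_smul_mem E 1 x) (DispLib.verschiebung_smul_mem E 1 x)
      rw [DispLib.F_eq_Vinv E, e, DispLib.F_eq_Vinv D']
      exact DispLib.Vinv_congr D' (map_smul ψ _ x)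
    · exact (key _ q.2 q.2).2
    · refine exteriorPower.linearMap_ext (hψ'.2.trans (AlternatingMap.ext fun v => ?_))
      exact (hψ v).symm

end Groth.Agent.S13685
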