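import Groth.Statements.S13686
import Groth.Agent.DispLib.ExtPow

set_option autoImplicit false
universe u v
open Disp

namespace Groth.Agent.S13686

/-- Let p be a prime, R a nontrivial commutative ring, W its ring of p-typical Witt vectors and D = (P,
Q, F, V⁻¹) a 3n-display over R with a normal decomposition P = L ⊕ T, Q = L + I_R T in which L is
free of rank m and T is free of rank one over W (so P is free of rank m + 1, the height). For r ≥ 1
let E be the 3n-display structure on ⋀^r P whose distinguished submodule is spanned by the wedges of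
elements of Q and whose V⁻¹ acts factorwise on them. Then E admits a normal decomposition ⋀^r P = L'
⊕ T', with distinguished submodule L' + I_R T', in which T' is free of rank (m choose r−1) over W:
with h = m + 1 the height, the tangent module of the exterior power has rank (h−1 choose r−1). (The
published statement has T projective of rank one and P of height h; this row takes L and T free, R
nontrivial and r ≥ 1.) -/
theorem result (p : ℕ) [Fact p.Prime] (R : Type u) [CommRing R] [Nontrivial R]
    (P : Type v) [AddCommGroup P] [Module (WittVector p R) P] (D : W4c1extbt610.Display3n p R P) (m : ℕ)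
    (L T : Submodule (WittVector p R) P) (hLT : IsCompl L T) (hQ : D.Q = L ⊔ W4c1extbt610.IV p R • T)
    (hL : Module.Free (WittVector p R) L) (hLr : Module.finrank (WittVector p R) L = m)
    (hT : Nonempty (T ≃ₗ[WittVector p R] WittVector p R))
    (r : ℕ) (hr : 1 ≤ r) (E : W4c1extbt610.Display3n p R (⋀[WittVector p R]^r P)) (hE : W4c1extbt610.IsExtPow D r E) :
    ∃ L' T' : Submodule (WittVector p R) (⋀[WittVector p R]^r P), IsCompl L' T' ∧
      E.Q = L' ⊔ W4c1extbt610.IV p R • T' ∧ Module.Free (WittVector p R) T' ∧
      Module.finrank (WittVector p R) T' = m.choose (r - 1) := by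
  classical
  obtain ⟨et⟩ := hT
  haveI := D.finite
  haveI : Nontrivial (WittVector p R) :=
    ⟨0, 1, fun h => zero_ne_one (α := R) (by simpa using congrArg (fun w : WittVector p R => w.coeff 0) h)⟩
  haveI := hL
  haveI : Module.Finite (WittVector p R) L :=
    Module.Finite.of_surjective (L.projectionOnto T hLT) (fun x => ⟨x, Submodule.projectionOnto_apply_left hLT x⟩)
  have hTt : ∀ x ∈ T, ∃ a : WittVector p R, a • (et.symm 1 : P) = x := fun x hx =>
    ⟨et ⟨x, hx⟩, by rw [← Submodule.coe_smul, ← map_smul, smul_eq_mul, mul_one, LinearEquiv.symm_apply_apply]⟩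
  obtain ⟨E0, -, hEQ, huniq⟩ :=
    DispLib.exists_isExtPow D hLT hQ (hQ ▸ le_sup_left) r (et.symm 1).2 hTt
  obtain rfl := huniq E hE
  let bT : Module.Basis (Fin 1) (WittVector p R) T :=
    (Module.Basis.singleton (Fin 1) (WittVector p R)).map et.symm
  let bL : Module.Basis (Fin m) (WittVector p R) L := Module.finBasisOfFinrankEq _ _ hLr
  let b : Module.Basis (Fin (1 + m)) (WittVector p R) P :=
    ((bT.prod bL).map (Submodule.prodEquivOfIsCompl T L hLT.symm)).reindex finSumFinEquiv
  let i0 : Fin (1 + m) := finSumFinEquiv (Sum.inl 0)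
  have hb : ∀ i, DispLib.πL hLT (b i) = if i = i0 then 0 else b i := by
    intro i
    obtain ⟨j, rfl⟩ := finSumFinEquiv.surjective i
    rcases j with j | j
    · obtain rfl : j = 0 := Subsingleton.elim _ _
      rw [if_pos rfl]
      simp [b, Submodule.coe_prodEquivOfIsCompl', DispLib.πL_of_mem' hLT (bT 0).2]
    · rw [if_neg (fun h => Sum.inr_ne_inl (finSumFinEquiv.injective h))]
      simp [b, Submodule.coe_prodEquivOfIsCompl', DispLib.πL_of_mem hLT (bL j).2]
  let B := b.exteriorPower r
  let S : Set (Set.powersetCard (Fin (1 + m)) r) := {s | i0 ∈ (s : Finset (Fin (1 + m)))}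
  have hB : ∀ s, DispLib.πE hLT r (B s) = if s ∈ S then 0 else B s := by
    intro s
    rw [exteriorPower.basis_apply, exteriorPower.ιMulti_family, DispLib.πE, exteriorPower.map_apply_ιMulti]
    split_ifs with hs
    · obtain ⟨k, hk⟩ := (Set.powersetCard.mem_range_ofFinEmbEquiv_symm_iff_mem s i0).2 hs
      refine (exteriorPower.ιMulti (WittVector p R) r).map_coord_zero k ?_
      simp [hk, hb]
    · congr 1
      funext k
      simp only [Function.comp_apply, hb]
      rw [if_neg]
      intro hk
      exact hs ((Set.powersetCard.mem_range_ofFinEmbEquiv_symm_iff_mem s i0).1 ⟨k, hk⟩)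
  let T' := LinearMap.ker (DispLib.πE hLT r)
  have hspan : T' = Submodule.span (WittVector p R) (Set.range fun s : S => B s) := by
    refine le_antisymm (fun x hx => ?_) (Submodule.span_le.2 ?_)
    · rw [← B.sum_repr x] at hx ⊢
      have h0 : ∀ s, s ∉ S → B.repr x s = 0 := by
        intro s hs
        have h := congrArg (fun z => B.repr z s) (LinearMap.mem_ker.1 hx)
        simp only [map_sum, map_smul, hB, smul_ite, smul_zero, Finsupp.coe_finset_sum, Finset.sum_apply,
          map_zero, Finsupp.coe_zero, Pi.zero_apply] at h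
        rw [Finset.sum_eq_single s] at h
        · simpa [hs] using h
        · intro s' _ hne
          split_ifs <;> simp [Finsupp.single_eq_of_ne (Ne.symm hne)]
        · simp
      refine Submodule.sum_mem _ fun s _ => ?_
      by_cases hs : s ∈ S
      · exact Submodule.smul_mem _ _ (Submodule.subset_span ⟨⟨s, hs⟩, rfl⟩)
      · rw [h0 s hs, zero_smul]; exact zero_mem _
    · rintro _ ⟨⟨s, hs⟩, rfl⟩
      show DispLib.πE hLT r (B s) = 0
      rw [hB, if_pos hs]
  have hli : LinearIndependent (WittVector p R) (fun s : S => B s) :=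
    B.linearIndependent.comp _ Subtype.val_injective
  let bT' : Module.Basis S (WittVector p R) T' :=
    (Module.Basis.span hli).map (LinearEquiv.ofEq _ _ hspan.symm)
  have hidem := DispLib.πE_idem (p := p) (R := R) hLT r
  refine ⟨LinearMap.range (DispLib.πE hLT r), T', ⟨?_, ?_⟩, ?_, Module.Free.of_basis bT', ?_⟩
  · rw [Submodule.disjoint_def]
    rintro _ ⟨x, rfl⟩ hx
    rw [LinearMap.mem_ker, hidem] at hx
    exact hx
  · rw [codisjoint_iff, eq_top_iff]
    intro x _
    exact Submodule.mem_sup.2 ⟨DispLib.πE hLT r x, ⟨x, rfl⟩, x - DispLib.πE hLT r x,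
      by rw [LinearMap.mem_ker, map_sub, hidem, sub_self], add_sub_cancel _ _⟩
  · rw [hEQ]
    refine le_antisymm (fun z hz => ?_) (sup_le ?_ ?_)
    · refine Submodule.mem_sup.2 ⟨DispLib.πE hLT r z, ⟨z, rfl⟩, z - DispLib.πE hLT r z, ?_,
        add_sub_cancel _ _⟩
      have h1 := Submodule.mem_map_of_mem (f := LinearMap.id - DispLib.πE hLT r) ((DispLib.mem_mkQ' _).1 hz)
      rw [Submodule.map_smul''] at h1
      simp only [LinearMap.sub_apply, LinearMap.id_apply, map_sub, hidem, sub_self, sub_zero] at h1
      refine Submodule.smul_mono le_rfl ?_ h1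
      rintro _ ⟨y, -, rfl⟩
      simp [T', hidem]
    · rintro _ ⟨x, rfl⟩
      rw [DispLib.mem_mkQ', hidem, sub_self]
      exact zero_mem _
    · refine Submodule.smul_le.2 fun c hc x hx => ?_
      rw [DispLib.mem_mkQ', map_smul, LinearMap.mem_ker.1 hx, smul_zero, sub_zero]
      exact Submodule.smul_mem_smul hc Submodule.mem_top
  · rw [Module.finrank_eq_card_basis bT']
    obtain ⟨r', rfl⟩ := Nat.exists_eq_add_of_le' hr
    rw [Nat.add_sub_cancel]
    let e : S ≃ {s : Finset (Fin (1 + m)) // s ∈ (Finset.univ.powersetCard (r' + 1)).filter (i0 ∈ ·)} :=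
      { toFun := fun s => ⟨s.1.1, Finset.mem_filter.2
          ⟨Finset.mem_powersetCard.2 ⟨Finset.subset_univ _, s.1.2⟩, s.2⟩⟩
        invFun := fun s => ⟨⟨s.1, (Finset.mem_powersetCard.1 (Finset.mem_filter.1 s.2).1).2⟩,
          (Finset.mem_filter.1 s.2).2⟩
        left_inv := fun s => rfl
        right_inv := fun s => rfl }
    rw [Fintype.card_congr e, Fintype.card_coe]
    have h1 := Finset.card_filter_add_card_filter_not (s := Finset.univ.powersetCard (r' + 1))
      (fun s : Finset (Fin (1 + m)) => i0 ∈ s)
    have h2 : (Finset.univ.powersetCard (r' + 1)).filter (fun s : Finset (Fin (1 + m)) => i0 ∉ s) =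
        (Finset.univ.erase i0).powersetCard (r' + 1) := by
      ext s
      simp only [Finset.mem_filter, Finset.mem_powersetCard, Finset.subset_univ, true_and,
        Finset.subset_erase, and_comm]
    rw [h2, Finset.card_powersetCard, Finset.card_powersetCard, Finset.card_erase_of_mem (Finset.mem_univ _),
      Finset.card_univ, Fintype.card_fin, Nat.add_sub_cancel_left] at h1
    have h3 := Nat.choose_succ_succ' m r'
    rw [Nat.add_comm m 1] at h3
    omega

end Groth.Agent.S13686
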