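import Groth.Statements.S13689
import Groth.Agent.ASBun8.Iso
import Groth.Agent.Coherent.CohBC.HomSheaf
-- import your own Groth.Agent.* helpers here

set_option autoImplicit false
set_option backward.isDefEq.respectTransparency.types false
universe u
open CategoryTheory CategoryTheory.Limits AlgebraicGeometry
open ASBun

namespace Groth.Agent.S13689

open W4c1astiltbs12 in
/-- Let X be proper over a field k, K an algebraic closure of k with projection π : X_K → X, and E a
nonzero finite locally free O_X-module which is absolutely rank-one-isotypical: π^*E ≅ L^{⊕r} for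
some r and some invertible O_{X_K}-module L that is indecomposable (nonzero, and in any
decomposition as a direct sum one summand is zero; for an invertible module this says X_K is
connected). Then E ≅ G^{⊕n} for some n and some indecomposable finite locally free O_X-module G, and
G is unique: any indecomposable G and G' with E ≅ G^{⊕n} and E ≅ G'^{⊕m} are isomorphic. (The
published statement assumes k infinite and X projective, and its extension in the text X proper and
geometrically integral; the argument uses only properness of X and indecomposability of the type L,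
without which the structure sheaf of two points is a counterexample.) -/
theorem result (k : Type u) [Field k] {X : Scheme.{u}}
    (p : X ⟶ Spec (CommRingCat.of k)) [IsProper p] (K : Type u) [Field K] [Algebra k K]
    [IsAlgClosure k K] (E : X.Modules) (hE : FlatMod.IsFinLocFree E) (hE0 : ¬ IsZero E)
    (L : (W4bk4gw11416.baseChange p K).Modules) (hL : PicF.IsInvertible L)
    (hLi : (¬ IsZero L ∧ ∀ A B : (W4bk4gw11416.baseChange p K).Modules, Nonempty (L ≅ A ⊞ B) → IsZero A ∨ IsZero B))
    (r : ℕ) (e : Nonempty (bcMod p K E ≅ pow L r)) :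
    (∃ (G : X.Modules) (n : ℕ), FlatMod.IsFinLocFree G ∧
      (¬ IsZero G ∧ ∀ A B : X.Modules, Nonempty (G ≅ A ⊞ B) → IsZero A ∨ IsZero B) ∧
      Nonempty (E ≅ pow G n)) ∧
    (∀ (G G' : X.Modules) (n m : ℕ),
      (¬ IsZero G ∧ ∀ A B : X.Modules, Nonempty (G ≅ A ⊞ B) → IsZero A ∨ IsZero B) →
      (¬ IsZero G' ∧ ∀ A B : X.Modules, Nonempty (G' ≅ A ⊞ B) → IsZero A ∨ IsZero B) →
      Nonempty (E ≅ pow G n) → Nonempty (E ≅ pow G' m) → Nonempty (G ≅ G')) := by
  letI : X.Over (Spec (CommRingCat.of k)) := ⟨p⟩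
  haveI : IsProper (X ↘ Spec (CommRingCat.of k)) := ‹IsProper p›
  letI : (W4bk4gw11416.baseChange p K).Over (Spec (CommRingCat.of K)) := ⟨W4bk4gw11416.baseChangeTo p K⟩
  haveI : IsProper (W4bk4gw11416.baseChange p K ↘ Spec (CommRingCat.of K)) :=
    inferInstanceAs (IsProper (pullback.snd p (Spec.map (CommRingCat.ofHom (algebraMap k K)))))
  haveI := ASBun8.isLocallyNoetherian_X (X := X) k
  have h : IsPullback (proj p K) (W4bk4gw11416.baseChange p K ↘ Spec (CommRingCat.of K)) (X ↘ Spec (CommRingCat.of k))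
      (Spec.map (CommRingCat.ofHom (algebraMap k K))) := IsPullback.of_hasPullback _ _
  obtain ⟨e⟩ := e
  have hEc := Coherent.CohBC.isCoh_of_isFinLocFree hE
  haveI := hEc.1
  have hr : 0 < r := Nat.pos_of_ne_zero fun hr => by
    subst hr
    exact hE0 (ASBun8.isZero_of_isZero_pullback h ((ASBun8.isZero_sigma _ fun i => i.elim0).of_iso e))
  have hLc : Coh.IsCoh L := ASBun8.isCoh_of_retract K
    ((ASBun8.sigmaRetract (fun _ : Fin r => L) ⟨0, hr⟩).trans ⟨e.inv, e.hom, e.inv_hom_id⟩)
    (ASBun8.isCoh_pullback (g := proj p K) hEc)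
  refine ⟨?_, ?_⟩
  · obtain ⟨G, n, hG, ⟨R⟩, e'⟩ := ASBun8.exists_iso_pow h hEc hE0 hLi hLc e
    exact ⟨G, n, WeilFin.isFinLocFree_retract R hE, hG, e'⟩
  · rintro G G' n m hG hG' ⟨e₁⟩ ⟨e₂⟩
    have hn : 0 < n := Nat.pos_of_ne_zero fun hn => by
      subst hn
      exact hE0 ((ASBun8.isZero_sigma _ fun i => i.elim0).of_iso e₁)
    obtain ⟨σ, hσ⟩ := ASBun8.exists_equiv_of_iso k _ _ (fun _ => hG) (fun _ => hG')
      (ASBun8.isCoh_of_retract k ⟨e₁.inv, e₁.hom, e₁.inv_hom_id⟩ hEc) (e₁.symm ≪≫ e₂)
    exact hσ ⟨0, hn⟩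

end Groth.Agent.S13689
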