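import Groth.Statements.S13690
import Groth.Agent.ASBun8.Main
-- import your own Groth.Agent.* helpers here

set_option autoImplicit false
set_option backward.isDefEq.respectTransparency.types false
universe u
open CategoryTheory CategoryTheory.Limits AlgebraicGeometry
open ASBun

namespace Groth.Agent.S13690

open W4c1astiltbs12 in
/-- Let X be proper over a field k and K a separable closure of k, with projection π : X_K → X; for a
k-automorphism σ of K write σ_X for the induced automorphism of X_K. If W is an indecomposable
finite locally free O_{X_K}-module (nonzero, and in any decomposition as a direct sum one summand is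
zero) whose isomorphism class is Galois invariant, σ_X^*W ≅ W for every σ, then there is an
indecomposable finite locally free O_X-module M with π^*M ≅ W^{⊕r} for some r ≥ 1. (For a perfect
field this is the form with an algebraic closure.) -/
theorem result (k : Type u) [Field k]
    {X : Scheme.{u}} (p : X ⟶ Spec (CommRingCat.of k)) [IsProper p] (K : Type u) [Field K]
    [Algebra k K] [IsSepClosure k K] (W : (W4bk4gw11416.baseChange p K).Modules)
    (hW : FlatMod.IsFinLocFree W)
    (hWi : (¬ IsZero W ∧ ∀ A B : (W4bk4gw11416.baseChange p K).Modules, Nonempty (W ≅ A ⊞ B) → IsZero A ∨ IsZero B))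
    (hinv : ∀ σ : K ≃ₐ[k] K, Nonempty ((Scheme.Modules.pullback (galAct p K σ)).obj W ≅ W)) :
    ∃ (M : X.Modules) (r : ℕ), FlatMod.IsFinLocFree M ∧
      (¬ IsZero M ∧ ∀ A B : X.Modules, Nonempty (M ≅ A ⊞ B) → IsZero A ∨ IsZero B) ∧
      0 < r ∧ Nonempty (bcMod p K M ≅ pow W r) := by
  haveI : IsGalois k K := IsSepClosure.isGalois
  exact ASBun8.exists_isotypical p hW hWi hinv

end Groth.Agent.S13690
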