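import Groth.Statements.S13691
import Groth.Agent.ASBun8.Main
-- import your own Groth.Agent.* helpers here

set_option autoImplicit false
set_option backward.isDefEq.respectTransparency.types false
universe u
open CategoryTheory CategoryTheory.Limits AlgebraicGeometry
open ASBun

namespace Groth.Agent.S13691

open W4c1astiltbs12 in
/-- Let X be proper over a field k and K a separable closure of k such that X_K is connected, with
projection π : X_K → X, and write σ_X for the automorphism of X_K induced by a k-automorphism σ of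
K. Let M be an indecomposable finite locally free O_X-module (nonzero, and in any decomposition as a
direct sum one summand is zero) which splits over K into invertible modules with Galois-invariant
classes: π^*M ≅ L_1 ⊕ ⋯ ⊕ L_n with each L_i invertible and σ_X^*L_i ≅ L_i for all σ and i. Then M is
isotypical of invertible type: π^*M ≅ L^{⊕r} for some invertible O_{X_K}-module L and some r ≥ 1,
and L is unique up to isomorphism with this property. (The published statement omits the invariance
of the summands L_i, and is then contradicted by the direct image on an elliptic curve of the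
invertible module of a point defined over a quadratic extension but not over k; its argument also
treats invertible modules on X_K as indecomposable, whence the connectedness hypothesis.) -/
theorem result (k : Type u) [Field k]
    {X : Scheme.{u}} (p : X ⟶ Spec (CommRingCat.of k)) [IsProper p] (K : Type u) [Field K]
    [Algebra k K] [IsSepClosure k K] [ConnectedSpace ↥(W4bk4gw11416.baseChange p K)]
    (M : X.Modules) (hM : FlatMod.IsFinLocFree M)
    (hMi : (¬ IsZero M ∧ ∀ A B : X.Modules, Nonempty (M ≅ A ⊞ B) → IsZero A ∨ IsZero B))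
    (n : ℕ) (Ls : Fin n → (W4bk4gw11416.baseChange p K).Modules) (hLs : ∀ i, PicF.IsInvertible (Ls i))
    (hinv : ∀ (σ : K ≃ₐ[k] K) (i : Fin n),
      Nonempty ((Scheme.Modules.pullback (galAct p K σ)).obj (Ls i) ≅ Ls i))
    (e : Nonempty (bcMod p K M ≅ ∐ Ls)) :
    ∃ (L : (W4bk4gw11416.baseChange p K).Modules) (r : ℕ), PicF.IsInvertible L ∧ 0 < r ∧
      Nonempty (bcMod p K M ≅ pow L r) ∧
      ∀ (L' : (W4bk4gw11416.baseChange p K).Modules) (r' : ℕ), PicF.IsInvertible L' →
        Nonempty (bcMod p K M ≅ pow L' r') → Nonempty (L' ≅ L) := by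
  haveI : IsGalois k K := IsSepClosure.isGalois
  obtain ⟨e⟩ := e
  letI : X.Over (Spec (CommRingCat.of k)) := ⟨p⟩
  haveI : IsProper (X ↘ Spec (CommRingCat.of k)) := ‹IsProper p›
  letI : (W4bk4gw11416.baseChange p K).Over (Spec (CommRingCat.of K)) := ⟨W4bk4gw11416.baseChangeTo p K⟩
  haveI : IsProper (W4bk4gw11416.baseChange p K ↘ Spec (CommRingCat.of K)) :=
    inferInstanceAs (IsProper (pullback.snd p (Spec.map (CommRingCat.ofHom (algebraMap k K)))))
  haveI := ASBun8.isLocallyNoetherian_X (X := X) k
  have hMc := Coherent.CohBC.isCoh_of_isFinLocFree hM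
  haveI := hMc.1
  have h : IsPullback (proj p K) (W4bk4gw11416.baseChange p K ↘ Spec (CommRingCat.of K)) (X ↘ Spec (CommRingCat.of k))
      (Spec.map (CommRingCat.ofHom (algebraMap k K))) := IsPullback.of_hasPullback _ _
  have hn : 0 < n := Nat.pos_of_ne_zero fun hn => by
    subst hn
    exact hMi.1 (ASBun8.isZero_of_isZero_pullback h ((ASBun8.isZero_sigma _ fun i => i.elim0).of_iso e))
  have hind : ∀ L : (W4bk4gw11416.baseChange p K).Modules, PicF.IsInvertible L → ASBun8.Ind L :=
    fun L hL => ASBun8.ind_of_invertible hL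
  obtain ⟨r, hr, ⟨er⟩⟩ := ASBun8.isotypical_of_retract p hM hMi (hind _ (hLs ⟨0, hn⟩))
    ((ASBun8.sigmaRetract Ls ⟨0, hn⟩).trans ⟨e.inv, e.hom, e.inv_hom_id⟩) fun σ => hinv σ _
  refine ⟨Ls ⟨0, hn⟩, r, hLs _, hr, ⟨er⟩, ?_⟩
  rintro L' r' hL' ⟨e'⟩
  have hr' : 0 < r' := Nat.pos_of_ne_zero fun hn' => by
    subst hn'
    exact hMi.1 (ASBun8.isZero_of_isZero_pullback h ((ASBun8.isZero_sigma _ fun i => i.elim0).of_iso e'))
  obtain ⟨σ, hσ⟩ := ASBun8.exists_equiv_of_iso K _ _ (fun _ => hind _ hL') (fun _ => hind _ (hLs ⟨0, hn⟩))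
    (ASBun8.isCoh_of_retract K ⟨e'.inv, e'.hom, e'.inv_hom_id⟩ (ASBun8.isCoh_pullback (g := proj p K) hMc))
    (e'.symm ≪≫ er)
  exact hσ ⟨0, hr'⟩

end Groth.Agent.S13691
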