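import Groth.Statements.S13692
import Groth.Agent.CommAlg4.CyclicOfPower
import Groth.Agent.GalCoh.FormsDesc
import Mathlib
-- import your own Groth.Agent.* helpers here

set_option autoImplicit false
set_option maxHeartbeats 1000000
set_option synthInstance.maxHeartbeats 100000
universe u v w
open scoped TensorProduct
attribute [local instance] CSAGal.tensorAction GpH1.unitsAction
open GalCoh

namespace Groth.Agent.S13692

theorem key {k : Type u} [Field k] {K : Type v} [AddCommGroup K] [Module k K] {n : ℕ}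
    (b : Module.Basis (Fin n) k K) (V : Type*) [AddCommGroup V] [Module k V] :
    Function.Bijective (fun u : Fin n → V => ∑ i, b i ⊗ₜ[k] u i) := by
  classical
  have he : ∀ u, ((TensorProduct.equivFinsuppOfBasisLeft b (N := V)).trans
      (Finsupp.linearEquivFunOnFinite k V _)).symm u = ∑ i, b i ⊗ₜ[k] u i := fun u => by
    simp [TensorProduct.equivFinsuppOfBasisLeft_symm_apply, Finsupp.sum_fintype]
  convert ((TensorProduct.equivFinsuppOfBasisLeft b (N := V)).trans
    (Finsupp.linearEquivFunOnFinite k V _)).symm.bijective using 1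
  exact funext fun u => (he u).symm

/-- Let K be a finite Galois extension of a field k with Galois group G = Aut_k(K), and A a
finite-dimensional associative unital k-algebra, not assumed simple or central. Then H¹(G, (K ⊗_k
A)ˣ) is trivial, G acting on K ⊗_k A through the first factor. (The published statement allows any
Galois extension and reduces to the finite case by a direct limit; the finite case is stated.) -/
theorem result (k : Type u) [Field k] (K : Type v)
    [Field K] [Algebra k K] [FiniteDimensional k K] [IsGalois k K]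
    (A : Type w) [Ring A] [Algebra k A] [FiniteDimensional k A] :
    GpH1.H1.IsTrivial (K ≃ₐ[k] K) (K ⊗[k] A)ˣ := by
  classical
  intro x
  obtain ⟨a, rfl⟩ := GpH1.OneCocycle.cl_surjective x
  have hval : ∀ (σ : K ≃ₐ[k] K) (u : (K ⊗[k] A)ˣ), ((σ • u : (K ⊗[k] A)ˣ) : K ⊗[k] A) = σ • (u : K ⊗[k] A) :=
    fun σ u => rfl
  let aL : GpH1.OneCocycle (K ≃ₐ[k] K) (K ⊗[k] A ≃ₗ[K] K ⊗[k] A) :=
    ⟨fun σ =>
      { toFun := fun y => y * (↑(a σ)⁻¹ : K ⊗[k] A)
        map_add' := fun y z => add_mul y z _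
        map_smul' := fun c y => smul_mul_assoc c y _
        invFun := fun y => y * (↑(a σ) : K ⊗[k] A)
        left_inv := fun y => Units.inv_mul_cancel_right y (a σ)
        right_inv := fun y => Units.mul_inv_cancel_right y (a σ) }, fun σ τ => LinearEquiv.ext fun y => by
      rw [LinearEquiv.mul_apply, GalDesc.conj_smul_apply]
      show y * (↑(a (σ * τ))⁻¹ : K ⊗[k] A) = σ • (σ⁻¹ • y * (↑(a τ)⁻¹ : K ⊗[k] A)) * (↑(a σ)⁻¹ : K ⊗[k] A)
      rw [a.2 σ τ, mul_inv_rev, Units.val_mul, ← smul_inv', hval, smul_mul', smul_inv_smul, mul_assoc]⟩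
  have haL : ∀ σ y, aL σ y = y * (↑(a σ)⁻¹ : K ⊗[k] A) := fun σ y => rfl
  letI : Module A (K ⊗[k] A) := Module.compHom _ (Algebra.TensorProduct.includeRight : A →ₐ[k] K ⊗[k] A).toRingHom
  have hsm : ∀ (r : A) (y : K ⊗[k] A), r • y = ((1 : K) ⊗ₜ[k] r) * y := fun r y => rfl
  haveI : IsScalarTower k A (K ⊗[k] A) :=
    ⟨fun c r y => by rw [hsm, hsm, TensorProduct.tmul_smul, smul_mul_assoc]⟩
  let W : Submodule A (K ⊗[k] A) :=
    { carrier := {y | ∀ σ : K ≃ₐ[k] K, aL σ (σ • y) = y}
      zero_mem' := fun σ => by rw [smul_zero, map_zero]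
      add_mem' := fun {y z} hy hz σ => by rw [smul_add, map_add, hy σ, hz σ]
      smul_mem' := fun r y hy σ => by
        rw [hsm, smul_mul', GalCoh.Forms.smul_tmul_left, map_one]
        have h := hy σ
        rw [haL] at h
        rw [haL, mul_assoc, h] }
  obtain ⟨g, hg1, hg2⟩ := Groth.Agent.GalCoh.Forms.exists_descent k K aL (W := ↥W) (W.subtype.restrictScalars k)
    (Subtype.val_injective : Function.Injective (W.subtype.restrictScalars k))
    (fun z => ⟨fun ⟨y, hy⟩ => hy ▸ y.2, fun h => ⟨⟨z, h⟩, rfl⟩⟩)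
  haveI : FiniteDimensional k W :=
    Module.Finite.of_injective (W.subtype.restrictScalars k) Subtype.val_injective
  let b := Module.finBasis k K
  let f1 : (Fin (Module.finrank k K) → W) →ₗ[A] K ⊗[k] A :=
    { toFun := fun u => ∑ i, b i • (u i : K ⊗[k] A)
      map_add' := fun u v => by simp only [Pi.add_apply, Submodule.coe_add, smul_add, Finset.sum_add_distrib]
      map_smul' := fun r u => by
        simp only [Pi.smul_apply, Submodule.coe_smul, hsm, RingHom.id_apply, Finset.mul_sum, mul_smul_comm] }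
  let f2 : (Fin (Module.finrank k K) → A) →ₗ[A] K ⊗[k] A :=
    { toFun := fun u => ∑ i, b i ⊗ₜ[k] u i
      map_add' := fun u v => by simp only [Pi.add_apply, TensorProduct.tmul_add, Finset.sum_add_distrib]
      map_smul' := fun r u => by
        simp only [Pi.smul_apply, hsm, RingHom.id_apply, Finset.mul_sum, Algebra.TensorProduct.tmul_mul_tmul,
          one_mul, smul_eq_mul] }
  have hf1 : Function.Bijective f1 := by
    have : (f1 : _ → K ⊗[k] A) = g.symm ∘ (fun u : Fin (Module.finrank k K) → W => ∑ i, b i ⊗ₜ[k] u i) :=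
      funext fun u => by
        show ∑ i, b i • (u i : K ⊗[k] A) = g.symm (∑ i, b i ⊗ₜ[k] u i)
        rw [map_sum]
        exact Finset.sum_congr rfl fun i _ => (hg1 _ _).symm
    rw [this]
    exact g.symm.bijective.comp (key b W)
  have hf2 : Function.Bijective f2 := key b A
  obtain ⟨x, hx⟩ := Groth.Agent.CommAlg4.CyclicPow.exists_generator (k := k) (A := A) (M := W)
    (Nat.pos_iff_ne_zero.1 Module.finrank_pos) ((LinearEquiv.ofBijective f1 hf1).trans (LinearEquiv.ofBijective f2 hf2).symm)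
  let R : K ⊗[k] A →ₗ[K] K ⊗[k] A := LinearMap.mulRight K (x : K ⊗[k] A)
  have hR : Function.Surjective R := by
    intro z
    obtain ⟨u, rfl⟩ := hf1.2 z
    have hu : ∀ i, ∃ r : A, r • x = u i := fun i =>
      Submodule.mem_span_singleton.1 (hx ▸ Submodule.mem_top)
    choose r hr using hu
    refine ⟨∑ i, b i • ((1 : K) ⊗ₜ[k] r i), ?_⟩
    show (∑ i, b i • ((1 : K) ⊗ₜ[k] r i)) * (x : K ⊗[k] A) = ∑ i, b i • (u i : K ⊗[k] A)
    rw [Finset.sum_mul]
    refine Finset.sum_congr rfl fun i _ => ?_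
    rw [smul_mul_assoc, ← hsm, ← Submodule.coe_smul, hr]
  have hRi : Function.Injective R := LinearMap.injective_iff_surjective.2 hR
  obtain ⟨q, hq⟩ := hR 1
  have hq' : (x : K ⊗[k] A) * q = 1 := hRi (by
    show (x : K ⊗[k] A) * q * x = 1 * x
    rw [mul_assoc, show q * (x : K ⊗[k] A) = 1 from hq, mul_one, one_mul])
  let c : (K ⊗[k] A)ˣ := ⟨(x : K ⊗[k] A), q, hq', hq⟩
  refine (GpH1.OneCocycle.cl_eq_cl_iff _ _).2 ⟨c, fun σ => Units.ext ?_⟩
  show (↑(a σ) : K ⊗[k] A) = q * 1 * (σ • (x : K ⊗[k] A))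
  have hsx : σ • (x : K ⊗[k] A) = (x : K ⊗[k] A) * (↑(a σ) : K ⊗[k] A) := by
    have h := x.2 σ
    rw [haL] at h
    calc σ • (x : K ⊗[k] A) = σ • (x : K ⊗[k] A) * (↑(a σ)⁻¹ : K ⊗[k] A) * (↑(a σ) : K ⊗[k] A) :=
          (Units.inv_mul_cancel_right _ _).symm
      _ = _ := by rw [h]
  rw [mul_one, hsx, ← mul_assoc, show q * (x : K ⊗[k] A) = 1 from hq, one_mul]

end Groth.Agent.S13692
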