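import Groth.Statements.S13694
import Groth.Agent.ASBun8.Simple
-- import your own Groth.Agent.* helpers here

set_option autoImplicit false
set_option backward.isDefEq.respectTransparency.types false
universe u
open CategoryTheory CategoryTheory.Limits AlgebraicGeometry
open ASBun

namespace Groth.Agent.S13694

open W4c1astiltbs12 in
/-- Let X be a proper, geometrically integral scheme over a field k, K an algebraic closure of k with
projection π : X_K → X, and E an indecomposable finite locally free O_X-module (nonzero, and in any
decomposition as a direct sum one summand is zero) which is absolutely rank-one-isotypical: π^*E ≅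
L^{⊕r} for some invertible O_{X_K}-module L and some r. Then the endomorphism ring of E is a
division ring: every nonzero endomorphism of E is an isomorphism. (The published statement says more
precisely that this ring is a central division algebra over k; only the division-ring property is
stated here.) -/
theorem result (k : Type u) [Field k]
    {X : Scheme.{u}} (p : X ⟶ Spec (CommRingCat.of k)) [IsProper p] [GeometricallyIntegral p]
    (K : Type u) [Field K] [Algebra k K] [IsAlgClosure k K]
    (E : X.Modules) (hE : FlatMod.IsFinLocFree E)
    (hEi : (¬ IsZero E ∧ ∀ A B : X.Modules, Nonempty (E ≅ A ⊞ B) → IsZero A ∨ IsZero B))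
    (L : (W4bk4gw11416.baseChange p K).Modules) (hL : PicF.IsInvertible L) (r : ℕ)
    (e : Nonempty (bcMod p K E ≅ pow L r)) (f : E ⟶ E) (hf : f ≠ 0) : IsIso f := by
  letI : X.Over (Spec (CommRingCat.of k)) := ⟨p⟩
  haveI : IsProper (X ↘ Spec (CommRingCat.of k)) := ‹IsProper p›
  letI : (W4bk4gw11416.baseChange p K).Over (Spec (CommRingCat.of K)) := ⟨W4bk4gw11416.baseChangeTo p K⟩
  haveI : IsProper (W4bk4gw11416.baseChange p K ↘ Spec (CommRingCat.of K)) :=
    inferInstanceAs (IsProper (pullback.snd p (Spec.map (CommRingCat.ofHom (algebraMap k K)))))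
  haveI := ASBun8.isLocallyNoetherian_X (X := X) k
  have h : IsPullback (proj p K) (W4bk4gw11416.baseChange p K ↘ Spec (CommRingCat.of K)) (X ↘ Spec (CommRingCat.of k))
      (Spec.map (CommRingCat.ofHom (algebraMap k K))) := IsPullback.of_hasPullback _ _
  haveI : IsAlgClosed K := IsAlgClosure.isAlgClosed k
  haveI : IsIntegral (W4bk4gw11416.baseChange p K) := GeometricallyIntegral.geometrically_isIntegral (f := p) _ _ _ h
  obtain ⟨e⟩ := e
  haveI := ASBun8.isSimpleRing_end h hE hEi.1 (ASBun8.exists_smul_id K hL) e
  haveI : Module.Finite k (End E) :=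
    TF7.finite_hom_coh k (Coherent.CohBC.isCoh_of_isFinLocFree hE) (Coherent.CohBC.isCoh_of_isFinLocFree hE)
  exact (isUnit_iff_isIso (show End E from f)).1 (ASBun8.isUnit_of_isSimpleRing (A := End E)
    (fun x => VB5.isUnit_or_isNilpotent (k := k) (A := End E) (fun g hg => VB5.idem_of_indecomposable hEi.2 g hg) x) hf)

end Groth.Agent.S13694
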