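import Groth.Statements.S1370
import Groth.Agent.FlatMorAssOpen.Cons

set_option autoImplicit false
universe u
open FlatMor

namespace Groth.Agent.S1370

open AlgebraicGeometry CategoryTheory Limits in
/-- Let f be of finite presentation, F a quasi-coherent module of finite presentation on the source, and
U an open of the source which is quasi-compact over the target. Then the set of points y of the
target such that all associated points of F restricted to the fibre over y lie in U is locally
constructible. -/
theorem result {X Y : Scheme.{u}} (f : X ⟶ Y) [LocallyOfFinitePresentation f] [QuasiCompact f] [QuasiSeparated f]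
    (F : X.Modules) (hFq : Coh.IsQCoh F) (hFp : CohB1.IsFP F) (U : X.Opens) [QuasiCompact (U.ι ≫ f)] :
    Topology.IsLocallyConstructible {y : ↑Y | ∀ x ∈ MoreMor.relAss f F, f x = y → x ∈ U} := by
  have : QuasiCompact U.ι := QuasiCompact.of_comp U.ι f
  have hr : IsRetrocompact (U : Set X) := by
    intro V hV hVo
    have h := U.ι.isCompact_preimage (U := ⟨V, hVo⟩) hV
    have h' := h.image U.ι.continuous
    have he : U.ι '' (U.ι ⁻¹ᵁ ⟨V, hVo⟩ : Set U.toScheme) = (U : Set X) ∩ V := by
      show U.ι '' (U.ι ⁻¹' V) = _
      rw [Set.image_preimage_eq_inter_range, U.range_ι, Set.inter_comm]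
    rwa [he] at h'
  exact Groth.Agent.FlatMorAssOpen.isLocallyConstructible_setOf f F hFp (U : Set X) (hr.isLocallyConstructible U.isOpen)

end Groth.Agent.S1370
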