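import Groth.Statements.S13702
import Mathlib

set_option autoImplicit false
universe u
open ZeroCyc

namespace Groth.Agent.S13702

/-- Let A be a local ring with residue field of characteristic p > 0, let g ∈ A[X] be monic and
separable of degree n, so that A' = A[X]/(g) is an étale A-algebra, and let q = p^s with s ≥ 0. Then
the powers 1, t^q, t^{2q}, …, t^{(n-1)q} of the class t of X form a basis of A' as an A-module. -/
theorem result {A : Type u} [CommRing A] [IsLocalRing A] (p : ℕ) [Fact p.Prime]
    [CharP (IsLocalRing.ResidueField A) p] (g : Polynomial A) (hg : g.Monic) (hsep : g.Separable) (s : ℕ) :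
    ∃ b : Module.Basis (Fin g.natDegree) A (AdjoinRoot g),
      ∀ i : Fin g.natDegree, b i = AdjoinRoot.root g ^ (p ^ s * (i : ℕ)) := by
  classical
  let κ := IsLocalRing.ResidueField A
  let π : A →+* κ := IsLocalRing.residue A
  set n := g.natDegree with hn
  set gb := g.map π with hgb
  have hgbm : gb.Monic := hg.map π
  have hgbd : gb.natDegree = n := hg.natDegree_map π
  have hgbs : gb.Separable := hsep.map
  set q := p ^ s with hq
  let v : Fin n → AdjoinRoot gb := fun i => AdjoinRoot.root gb ^ (q * (i : ℕ))
  have hli : LinearIndependent κ v := by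
    rw [Fintype.linearIndependent_iff]
    intro c hc i
    let P : Polynomial κ := ∑ j : Fin n, Polynomial.monomial (j : ℕ) (c j)
    have hP : gb ∣ Polynomial.expand κ q P := by
      rw [← AdjoinRoot.mk_eq_zero]
      change AdjoinRoot.mk gb (Polynomial.expand κ q (∑ j : Fin n, Polynomial.monomial (j : ℕ) (c j))) = 0
      rw [map_sum, map_sum]
      refine Eq.trans (Finset.sum_congr rfl fun j _ => ?_) hc
      rw [Polynomial.expand_monomial, ← Polynomial.C_mul_X_pow_eq_monomial, map_mul, map_pow,
        AdjoinRoot.mk_C, AdjoinRoot.mk_X, ← AdjoinRoot.algebraMap_eq, ← Algebra.smul_def, mul_comm]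
    let K := AlgebraicClosure κ
    haveI : CharP K p := charP_of_injective_algebraMap (algebraMap κ K).injective p
    haveI : ExpChar K p := ExpChar.prime Fact.out
    have hPd : P.natDegree < n := by
      refine lt_of_le_of_lt (Polynomial.natDegree_sum_le_of_forall_le _ _ fun j _ =>
        (Polynomial.natDegree_monomial_le _).trans (Nat.le_sub_one_of_lt j.2)) ?_
      have := i.2; omega
    have hP0 : P.map (algebraMap κ K) = 0 := by
      let S : Finset K := ((gb.map (algebraMap κ K)).roots.toFinset).image fun α => α ^ q
      refine Polynomial.eq_zero_of_natDegree_lt_card_of_eval_eq_zero' _ S ?_ ?_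
      · intro β hβ
        obtain ⟨α, hα, rfl⟩ := Finset.mem_image.1 hβ
        rw [Multiset.mem_toFinset, Polynomial.mem_roots (hgbm.map _).ne_zero] at hα
        obtain ⟨w, hw⟩ := hP
        have h := congrArg (fun f : Polynomial κ => (f.map (algebraMap κ K)).eval α) hw
        rw [Polynomial.map_expand, Polynomial.map_mul, Polynomial.eval_mul,
          show (gb.map (algebraMap κ K)).eval α = 0 from hα, zero_mul, Polynomial.expand_eval] at h
        exact h
      · have hinj : Function.Injective fun α : K => α ^ q := fun a b h => iterateFrobenius_inj K p s h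
        rw [show S.card = _ from Finset.card_image_of_injective _ hinj,
          Multiset.toFinset_card_of_nodup (Polynomial.nodup_roots hgbs.map),
          Polynomial.Splits.natDegree_eq_card_roots (IsAlgClosed.splits _) |>.symm,
          hgbm.natDegree_map, hgbd]
        exact lt_of_le_of_lt Polynomial.natDegree_map_le hPd
    rw [Polynomial.map_eq_zero] at hP0
    have := congrArg (fun f : Polynomial κ => f.coeff i) hP0
    simpa [P, Polynomial.finsetSum_coeff, Polynomial.coeff_monomial, Fin.val_inj] using this
  have hspan : Submodule.span κ (Set.range v) = ⊤ := by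
    haveI : Module.Finite κ (AdjoinRoot gb) := hgbm.finite_adjoinRoot
    refine hli.span_eq_top_of_card_eq_finrank' ?_
    rw [Fintype.card_fin, (AdjoinRoot.powerBasis' hgbm).finrank, AdjoinRoot.powerBasis'_dim, hgbd]
  let w : Fin n → AdjoinRoot g := fun i => AdjoinRoot.root g ^ (q * (i : ℕ))
  haveI : Module.Finite A (AdjoinRoot g) := hg.finite_adjoinRoot
  have hgen : Submodule.span A (Set.range w) = ⊤ := by
    refine top_le_iff.1 (Submodule.le_of_le_smul_of_le_jacobson_bot (I := IsLocalRing.maximalIdeal A)
      Module.Finite.fg_top (IsLocalRing.maximalIdeal_le_jacobson _) ?_)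
    intro z _
    obtain ⟨P, rfl⟩ := AdjoinRoot.mk_surjective z
    have hz : AdjoinRoot.mk gb (P.map π) ∈ Submodule.span κ (Set.range v) := hspan ▸ Submodule.mem_top
    rw [Submodule.mem_span_range_iff_exists_fun] at hz
    obtain ⟨c, hc⟩ := hz
    choose c' hc' using fun i => IsLocalRing.residue_surjective (c i)
    have hdvd : gb ∣ (P - ∑ i : Fin n, Polynomial.C (c' i) * Polynomial.X ^ (q * (i : ℕ))).map π := by
      rw [← AdjoinRoot.mk_eq_zero, Polynomial.map_sub, map_sub, sub_eq_zero, ← hc, Polynomial.map_sum, map_sum]
      refine Finset.sum_congr rfl fun i _ => ?_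
      rw [Polynomial.map_mul, Polynomial.map_C, Polynomial.map_pow, Polynomial.map_X, map_mul, map_pow,
        AdjoinRoot.mk_C, AdjoinRoot.mk_X, hc', Algebra.smul_def, AdjoinRoot.algebraMap_eq]
    obtain ⟨u, hu⟩ := hdvd
    obtain ⟨u', rfl⟩ := Polynomial.map_surjective π IsLocalRing.residue_surjective u
    set D := P - ∑ i : Fin n, Polynomial.C (c' i) * Polynomial.X ^ (q * (i : ℕ)) - g * u' with hD
    have hDm : AdjoinRoot.mk g D ∈ IsLocalRing.maximalIdeal A • (⊤ : Submodule A (AdjoinRoot g)) := by
      rw [D.as_sum_range_C_mul_X_pow, map_sum]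
      refine Submodule.sum_mem _ fun j _ => ?_
      rw [map_mul, AdjoinRoot.mk_C, ← AdjoinRoot.algebraMap_eq, ← Algebra.smul_def]
      refine Submodule.smul_mem_smul ?_ Submodule.mem_top
      rw [← IsLocalRing.residue_eq_zero_iff]
      have : D.map π = 0 := by rw [hD, Polynomial.map_sub, hu, Polynomial.map_mul, sub_self]
      change π _ = 0
      rw [← Polynomial.coeff_map, this, Polynomial.coeff_zero]
    have hdec : AdjoinRoot.mk g P = (∑ i : Fin n, c' i • w i) + AdjoinRoot.mk g D := by
      rw [hD, map_sub, map_sub, map_mul, AdjoinRoot.mk_self, zero_mul, sub_zero, map_sum]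
      simp only [map_mul, map_pow, AdjoinRoot.mk_C, AdjoinRoot.mk_X, w, Algebra.smul_def,
        AdjoinRoot.algebraMap_eq]
      abel
    rw [hdec]
    exact Submodule.add_mem_sup (Submodule.sum_mem _ fun i _ =>
      Submodule.smul_mem _ _ (Submodule.subset_span ⟨i, rfl⟩)) hDm
  let B := (AdjoinRoot.powerBasis' hg).basis.reindex (finCongr (AdjoinRoot.powerBasis'_dim hg))
  let T : AdjoinRoot g →ₗ[A] AdjoinRoot g := B.constr ℕ w
  have hsurj : Function.Surjective T := by
    rw [← LinearMap.range_eq_top, B.constr_range, hgen]
  have hbij := OrzechProperty.bijective_of_surjective_endomorphism T hsurj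
  refine ⟨B.map (LinearEquiv.ofBijective T hbij), fun i => ?_⟩
  rw [Module.Basis.map_apply, LinearEquiv.ofBijective_apply]
  exact B.constr_basis ℕ w i
end Groth.Agent.S13702
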