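import Groth.Statements.S13708
import Mathlib

set_option autoImplicit false
universe u
open CategoryTheory CategoryTheory.Limits AlgebraicGeometry
open ZeroCyc

namespace Groth.Agent.S13708

/-- Let X be a scheme over S such that every finite set of points of X over a common point of S lies in
some affine open subscheme of X (the condition (AF)). Then X is separated over S. (The published
condition (AF) asks for an open U with U → S quasi-affine rather than U affine; with U affine, as
here, the same argument applies verbatim, and the two conditions agree over a quasi-separated base.) -/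
theorem result {X S : Scheme.{u}} (f : X ⟶ S) (hX : SymProd.IsAF f) :
    IsSeparated f := by
  let W : X.affineOpens → (pullback f f).Opens := fun U =>
    (pullback.fst f f) ⁻¹ᵁ U.1 ⊓ (pullback.snd f f) ⁻¹ᵁ U.1
  have hcov : iSup W = ⊤ := by
    refine TopologicalSpace.Opens.ext (Set.eq_univ_of_forall fun z => ?_)
    classical
    obtain ⟨U, hU, hT⟩ := hX (f.base ((pullback.fst f f).base z))
      {(pullback.fst f f).base z, (pullback.snd f f).base z} (fun x hx => by
        rcases Finset.mem_insert.mp hx with rfl | hx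
        · rfl
        · rw [Finset.mem_singleton.mp hx, ← Scheme.Hom.comp_apply, ← Scheme.Hom.comp_apply, pullback.condition])
    refine TopologicalSpace.Opens.mem_iSup.mpr ⟨⟨U, hU⟩, hT _ (Finset.mem_insert_self _ _),
      hT _ (Finset.mem_insert_of_mem (Finset.mem_singleton_self _))⟩
  refine ⟨?_⟩
  rw [IsZariskiLocalAtTarget.iff_of_iSup_eq_top (P := @IsClosedImmersion) W hcov]
  intro U
  haveI : IsAffine U.1 := U.2
  let r₁ : (W U).toScheme ⟶ U.1.toScheme := IsOpenImmersion.lift U.1.ι ((W U).ι ≫ pullback.fst f f) (by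
    rintro _ ⟨z, rfl⟩
    rw [Scheme.Opens.range_ι]
    exact z.2.1)
  let r₂ : (W U).toScheme ⟶ U.1.toScheme := IsOpenImmersion.lift U.1.ι ((W U).ι ≫ pullback.snd f f) (by
    rintro _ ⟨z, rfl⟩
    rw [Scheme.Opens.range_ι]
    exact z.2.2)
  have e₁ : r₁ ≫ U.1.ι = (W U).ι ≫ pullback.fst f f := IsOpenImmersion.lift_fac _ _ _
  have e₂ : r₂ ≫ U.1.ι = (W U).ι ≫ pullback.snd f f := IsOpenImmersion.lift_fac _ _ _
  let w : (W U).toScheme ⟶ pullback (terminal.from U.1.toScheme) (terminal.from U.1.toScheme) :=
    pullback.lift r₁ r₂ (terminal.hom_ext _ _)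
  haveI : Mono w := ⟨fun {Z} g h hgh => by
    have h1 := congrArg (fun a => a ≫ pullback.fst _ _ ≫ U.1.ι) hgh
    have h2 := congrArg (fun a => a ≫ pullback.snd _ _ ≫ U.1.ι) hgh
    simp only [w, Category.assoc, pullback.lift_fst_assoc, pullback.lift_snd_assoc] at h1 h2
    rw [e₁] at h1
    rw [e₂] at h2
    rw [← cancel_mono (W U).ι]
    refine pullback.hom_ext ?_ ?_ <;> simpa only [Category.assoc]⟩
  haveI : IsSeparated (terminal.from U.1.toScheme) := IsSeparated.of_isAffineHom _
  haveI : IsSeparated r₁ := by
    rw [show r₁ = w ≫ pullback.fst _ _ from (pullback.lift_fst _ _ _).symm]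
    infer_instance
  have hpre : (pullback.diagonal f) ⁻¹ᵁ (W U) = U.1 := by
    rw [Scheme.Hom.preimage_inf, ← Scheme.Hom.comp_preimage, ← Scheme.Hom.comp_preimage, pullback.diagonal_fst,
      pullback.diagonal_snd, inf_idem]
    rfl
  have hcomp : (pullback.diagonal f ∣_ W U) ≫ r₁ = (X.isoOfEq hpre).hom := by
    rw [← cancel_mono U.1.ι, Category.assoc, e₁, morphismRestrict_ι_assoc,
      pullback.diagonal_fst, Category.comp_id, Scheme.isoOfEq_hom_ι]
  haveI : IsClosedImmersion ((pullback.diagonal f ∣_ W U) ≫ r₁) := by rw [hcomp]; infer_instance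
  exact IsClosedImmersion.of_comp _ r₁
end Groth.Agent.S13708
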