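import Groth.Statements.S13712
import Mathlib
import Groth.Prelude
import Groth.Agent.S0593

set_option linter.all false

set_option autoImplicit false
universe u
open CategoryTheory CategoryTheory.Limits AlgebraicGeometry
open ZeroCyc

open CategoryTheory CategoryTheory.Limits AlgebraicGeometry

namespace Groth.Agent.S13712

/-- Let f : X → Y and g : Y → S be morphisms of schemes with g separated, such that the composite X → S
is integral with topologically finite fibres (every fibre is a finite set). Then the
scheme-theoretic image Y' of f, with its closed immersion Y' → Y, is integral over S, and Y' → S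
again has topologically finite fibres. (The published statement is for algebraic spaces; this row is
the case of schemes.) -/
theorem result {X Y S : Scheme.{u}} (f : X ⟶ Y) (g : Y ⟶ S)
    [IsSeparated g] [IsIntegralHom (f ≫ g)] (hfin : ∀ s : S, Set.Finite ((f ≫ g).base ⁻¹' {s})) :
    IsIntegralHom (f.imageι ≫ g) ∧ ∀ s : S, Set.Finite ((f.imageι ≫ g).base ⁻¹' {s}) := by
  haveI : IsIntegralHom f := IsIntegralHom.of_comp f g
  haveI : IsIntegralHom (f.toImage ≫ f.imageι) := by rw [Scheme.Hom.toImage_imageι]; infer_instance
  haveI : IsIntegralHom f.toImage := IsIntegralHom.of_comp f.toImage f.imageι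
  have hfac : f.toImage ≫ (f.imageι ≫ g) = f ≫ g := by rw [Scheme.Hom.toImage_imageι_assoc]
  haveI hsurj : Surjective f.toImage := by
    refine ⟨fun y => ?_⟩
    have h := (f.toImage.isClosedMap.isClosed_range).closure_eq
    rw [(f.toImage.denseRange).closure_range] at h
    exact h.le (Set.mem_univ y)
  haveI : IsIntegralHom (f.toImage ≫ (f.imageι ≫ g)) := by rw [hfac]; infer_instance
  haveI huc : UniversallyClosed (f.imageι ≫ g) := UniversallyClosed.of_comp_surjective f.toImage _
  haveI haff : IsAffineHom (f.imageι ≫ g) := by
    refine ⟨fun V hV => ?_⟩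
    let W := (f.imageι ≫ g) ⁻¹ᵁ V
    haveI : IsAffine (f.toImage ⁻¹ᵁ W : Scheme) := by
      have h1 : IsAffineOpen ((f.toImage ≫ (f.imageι ≫ g)) ⁻¹ᵁ V) := hV.preimage _
      exact h1
    haveI : Surjective (f.toImage ∣_ W) := IsZariskiLocalAtTarget.restrict hsurj W
    haveI : UniversallyClosed (f.toImage ∣_ W) := IsZariskiLocalAtTarget.restrict (P := @UniversallyClosed) inferInstance W
    exact Groth.Agent.S0593.result _ _ (f.toImage ∣_ W)
  refine ⟨IsIntegralHom.iff_universallyClosed_and_isAffineHom.2 ⟨huc, haff⟩, fun s => ?_⟩
  refine ((hfin s).image f.toImage.base).subset fun y hy => ?_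
  obtain ⟨x, rfl⟩ := hsurj.surj y
  refine ⟨x, ?_, rfl⟩
  show (f ≫ g).base x = s
  rw [← hfac]
  exact hy

end Groth.Agent.S13712
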