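import Groth.Statements.S13725
import Mathlib
import Groth.Agent.PolLawLib.CharPow

set_option autoImplicit false
universe u
open scoped TensorProduct
open ZeroCyc

namespace Groth.Agent.S13725

/-- Let k be a field of characteristic p > 0 and let F : k → k be the law x ↦ x^p, multiplicative and
homogeneous of degree p over k. The kernel of F is the zero ideal, but after the flat base change k
→ A' = k[X]/(X^p) the kernel of the base-changed law on A' ⊗_k k is not zero (the class of X lies in
it). So in characteristic p, forming the kernel of a multiplicative law is not compatible with flat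
base change. -/
theorem result {k : Type u} [Field k] (p : ℕ) [Fact p.Prime] [CharP k p] :
    PolLaw.ker (PolLaw.MulLaw.pow k k p).law = ⊥ ∧
      PolLaw.kerBC (PolLaw.MulLaw.pow k k p).law (AdjoinRoot ((Polynomial.X : Polynomial k) ^ p)) ≠ ⊥ := by
  classical
  have hp : p.Prime := Fact.out
  haveI : Nontrivial k := inferInstance
  refine ⟨?_, ?_⟩
  · refine (Submodule.eq_bot_iff _).mpr fun b hb => ?_
    exact eq_zero_of_pow_eq_zero (Groth.Agent.PolLawLib.pow_eq_zero_of_mem_ker_powLaw hp.ne_zero hb)
  · intro hbot
    set A' := AdjoinRoot ((Polynomial.X : Polynomial k) ^ p) with hA'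
    have hmem : (AdjoinRoot.root ((Polynomial.X : Polynomial k) ^ p) : A') ⊗ₜ[k] (1 : k) ∈
        PolLaw.kerBC (PolLaw.MulLaw.pow k k p).law A' := by
      intro R _ _ _ _ x w
      rw [Groth.Agent.PolLawLib.powLaw_toFun', Groth.Agent.PolLawLib.powLaw_toFun',
        Groth.Agent.PolLawLib.add_pow_of_natCast_eq_zero hp (Groth.Agent.PolLawLib.natCast_tensor_eq_zero (CharP.cast_eq_zero k p) R),
        mul_pow, Algebra.TensorProduct.map_tmul, Algebra.TensorProduct.tmul_pow]
      have h0 : (AdjoinRoot.root ((Polynomial.X : Polynomial k) ^ p)) ^ p = 0 := by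
        rw [← AdjoinRoot.mk_X, ← map_pow, AdjoinRoot.mk_self]
      rw [← map_pow, h0, map_zero, TensorProduct.zero_tmul, mul_zero, add_zero]
    rw [hbot, Submodule.mem_bot] at hmem
    have h1 := congrArg (TensorProduct.rid k A') hmem
    rw [TensorProduct.rid_tmul, one_smul, map_zero, ← AdjoinRoot.mk_X, AdjoinRoot.mk_eq_zero] at h1
    have h2 := Polynomial.natDegree_le_of_dvd h1 Polynomial.X_ne_zero
    rw [Polynomial.natDegree_X_pow, Polynomial.natDegree_X] at h2
    exact absurd h2 (not_le.mpr hp.one_lt)
end Groth.Agent.S13725
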