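import Groth.Statements.S13726
import Mathlib
import Groth.Agent.PolLawLib.CharPow

set_option autoImplicit false
universe u
open scoped TensorProduct
open ZeroCyc

namespace Groth.Agent.S13726

/-- Let k be a field of characteristic p > 0 and A = k[t_i : i ∈ ℕ]/(t_i^p : i ∈ ℕ). The law x ↦ x^p
from A to A is multiplicative and homogeneous of degree p over A; its kernel is the ideal generated
by the classes of the variables t_i, and this ideal is not finitely generated. Hence the image of a
family of zero-cycles need not be of finite presentation over the base even when X → S is. -/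
theorem result {k : Type u} [Field k] (p : ℕ) [Fact p.Prime] [CharP k p] :
    PolLaw.ker (PolLaw.MulLaw.pow
        (MvPolynomial ℕ k ⧸ Ideal.span (Set.range fun i : ℕ => (MvPolynomial.X i : MvPolynomial ℕ k) ^ p))
        (MvPolynomial ℕ k ⧸ Ideal.span (Set.range fun i : ℕ => (MvPolynomial.X i : MvPolynomial ℕ k) ^ p)) p).law =
      (Ideal.span (Set.range fun i : ℕ => (MvPolynomial.X i : MvPolynomial ℕ k))).map
        (Ideal.Quotient.mk (Ideal.span (Set.range fun i : ℕ => (MvPolynomial.X i : MvPolynomial ℕ k) ^ p))) ∧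
    ¬ (PolLaw.ker (PolLaw.MulLaw.pow
        (MvPolynomial ℕ k ⧸ Ideal.span (Set.range fun i : ℕ => (MvPolynomial.X i : MvPolynomial ℕ k) ^ p))
        (MvPolynomial ℕ k ⧸ Ideal.span (Set.range fun i : ℕ => (MvPolynomial.X i : MvPolynomial ℕ k) ^ p)) p).law).FG := by
  classical
  have hp : p.Prime := Fact.out
  set I : Ideal (MvPolynomial ℕ k) := Ideal.span (Set.range fun i : ℕ => (MvPolynomial.X i : MvPolynomial ℕ k) ^ p) with hI
  set m : Ideal (MvPolynomial ℕ k) := Ideal.span (Set.range fun i : ℕ => (MvPolynomial.X i : MvPolynomial ℕ k)) with hm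
  have hchar : (p : MvPolynomial ℕ k ⧸ I) = 0 := by
    rw [← map_natCast (algebraMap k (MvPolynomial ℕ k ⧸ I)) p, CharP.cast_eq_zero k p, map_zero]
  have heq : PolLaw.ker (PolLaw.MulLaw.pow (MvPolynomial ℕ k ⧸ I) (MvPolynomial ℕ k ⧸ I) p).law =
      m.map (Ideal.Quotient.mk I) := by
    refine le_antisymm (fun b hb => ?_) ?_
    · have h0 := Groth.Agent.PolLawLib.pow_eq_zero_of_mem_ker_powLaw hp.ne_zero hb
      obtain ⟨f, rfl⟩ := Ideal.Quotient.mk_surjective b
      rw [← map_pow, Ideal.Quotient.eq_zero_iff_mem] at h0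
      have hIc : ∀ g ∈ I, MvPolynomial.constantCoeff g = 0 := fun g hg => by
        have : I ≤ RingHom.ker (MvPolynomial.constantCoeff (R := k) (σ := ℕ)) := by
          rw [hI, Ideal.span_le]
          rintro _ ⟨i, rfl⟩
          simp [hp.ne_zero]
        exact this hg
      refine Ideal.mem_map_of_mem _ ?_
      have hc : MvPolynomial.constantCoeff f = 0 := eq_zero_of_pow_eq_zero (n := p) (by rw [← map_pow]; exact hIc _ h0)
      rw [hm, ← Set.image_univ, MvPolynomial.mem_ideal_span_X_image]
      intro e he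
      by_contra hne
      push_neg at hne
      have : e = 0 := Finsupp.ext fun i => hne i (Set.mem_univ i)
      subst this
      rw [MvPolynomial.mem_support_iff] at he
      exact he hc
    · rw [hm, Ideal.map_span, Ideal.span_le]
      rintro _ ⟨_, ⟨i, rfl⟩, rfl⟩
      refine Groth.Agent.PolLawLib.mem_ker_powLaw hp hchar ?_
      rw [← map_pow, Ideal.Quotient.eq_zero_iff_mem]
      exact Ideal.subset_span ⟨i, rfl⟩
  refine ⟨heq, ?_⟩
  rw [heq]
  intro hfg
  have hspan : m.map (Ideal.Quotient.mk I) =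
      Submodule.span (MvPolynomial ℕ k ⧸ I) (Set.range fun i : ℕ => Ideal.Quotient.mk I (MvPolynomial.X i)) := by
    rw [hm, Ideal.map_span, ← Set.range_comp]; rfl
  obtain ⟨G, hG⟩ := hfg
  have hex : ∀ g ∈ G, ∃ N, g ∈ Ideal.span ((fun i : ℕ => Ideal.Quotient.mk I (MvPolynomial.X i)) '' Set.Iio N) := by
    intro g hg
    have hgm : g ∈ Submodule.span (MvPolynomial ℕ k ⧸ I) (Set.range fun i : ℕ => Ideal.Quotient.mk I (MvPolynomial.X i)) := by
      rw [← hspan, ← hG]
      exact Submodule.subset_span hg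
    obtain ⟨c, hc⟩ := Finsupp.mem_span_range_iff_exists_finsupp.mp hgm
    refine ⟨c.support.sup id + 1, ?_⟩
    rw [← hc]
    refine Submodule.sum_mem _ fun i hi => Submodule.smul_mem _ _ (Submodule.subset_span ⟨i, ?_, rfl⟩)
    exact Nat.lt_succ_of_le (Finset.le_sup (f := id) hi)
  choose N hN using hex
  let M := G.attach.sup fun g => N g.1 g.2
  let φ : MvPolynomial ℕ k →ₐ[k] AdjoinRoot ((Polynomial.X : Polynomial k) ^ p) :=
    MvPolynomial.aeval fun i => if i = M then AdjoinRoot.root _ else 0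
  have hφI : ∀ g ∈ I, φ g = 0 := fun g hg => by
    have : I ≤ RingHom.ker φ := by
      rw [hI, Ideal.span_le]
      rintro _ ⟨i, rfl⟩
      show φ (MvPolynomial.X i ^ p) = 0
      rw [map_pow, MvPolynomial.aeval_X]
      split_ifs
      · rw [← AdjoinRoot.mk_X, ← map_pow, AdjoinRoot.mk_self]
      · exact zero_pow hp.ne_zero
    exact this hg
  let ψ := Ideal.Quotient.lift I φ.toRingHom hφI
  have hker : m.map (Ideal.Quotient.mk I) ≤ RingHom.ker ψ := by
    rw [← hG]
    refine Submodule.span_le.mpr fun g hg => ?_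
    refine (Ideal.span_le (I := RingHom.ker ψ)).mpr ?_ (hN g hg)
    rintro _ ⟨i, hi, rfl⟩
    show φ (MvPolynomial.X i) = 0
    rw [MvPolynomial.aeval_X, if_neg]
    exact (lt_of_lt_of_le hi (Finset.le_sup (f := fun g : {x // x ∈ G} => N g.1 g.2) (Finset.mem_attach G ⟨g, hg⟩))).ne
  have h1 : φ (MvPolynomial.X M) = 0 :=
    hker (Ideal.mem_map_of_mem _ (Ideal.subset_span ⟨M, rfl⟩))
  rw [MvPolynomial.aeval_X, if_pos rfl, ← AdjoinRoot.mk_X, AdjoinRoot.mk_eq_zero] at h1
  have h2 := Polynomial.natDegree_le_of_dvd h1 Polynomial.X_ne_zero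
  rw [Polynomial.natDegree_X_pow, Polynomial.natDegree_X] at h2
  exact absurd h2 (not_le.mpr hp.one_lt)
end Groth.Agent.S13726
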