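import Groth.Prelude.Def_HTop
import Groth.Prelude.Def_SGA1
import Mathlib.AlgebraicGeometry.Noetherian
import Groth.Agent.HTop16.SubmCover
import Groth.Agent.S8980
import Groth.Agent.S7477

set_option autoImplicit false
universe u
namespace HTop
end HTop
open HTop

namespace Groth.Agent.S8977

open CategoryTheory CategoryTheory.Limits AlgebraicGeometry in
theorem quasiCompact_desc {ι : Type u} [Finite ι] {T : ι → Scheme.{u}} {Y : Scheme.{u}}
    (c : ∀ i, T i ⟶ Y) (h : ∀ i, QuasiCompact (c i)) : QuasiCompact (Sigma.desc c) := by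
  refine ⟨fun U hU hUc => ?_⟩
  have e : Sigma.desc c ⁻¹' U = ⋃ i, Sigma.ι T i '' (c i ⁻¹' U) := by
    ext x
    obtain ⟨i, t, rfl⟩ := (sigmaOpenCover T).exists_eq x
    simp only [Set.mem_preimage, Set.mem_iUnion, Set.mem_image]
    constructor
    · intro hx
      refine ⟨i, t, ?_, rfl⟩
      change Sigma.desc c (Sigma.ι T i t) ∈ U at hx
      rwa [← Scheme.Hom.comp_apply, Sigma.ι_desc] at hx
    · rintro ⟨k, t', ht', e⟩
      rw [← e, ← Scheme.Hom.comp_apply, Sigma.ι_desc]
      exact ht'
  rw [e]
  exact isCompact_iUnion fun i =>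
    ((h i).isCompact_preimage _ hU hUc).image (Scheme.Hom.continuous _)

open CategoryTheory CategoryTheory.Limits AlgebraicGeometry in
/-- For a Noetherian scheme X and a finite family of finite type morphisms X_i → X, the induced morphism
from the coproduct of the X_i to X is universally submersive if and only if the family is an h
covering. -/
theorem result {X : Scheme.{u}} [IsNoetherian X] (E : PreZeroHypercover.{u} X) [Finite E.I₀] [∀ i, LocallyOfFiniteType (E.f i)] [∀ i, QuasiCompact (E.f i)] : SGA1.UnivSubmersive (Sigma.desc E.f) ↔ HTop.IsHCover E := by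
  refine ⟨fun h => ?_, fun h => Groth.Agent.S7477.result E h.2⟩
  haveI := quasiCompact_desc E.f fun i => inferInstance
  have hlfp : ∀ i, LocallyOfFinitePresentation (E.f i) := fun i =>
    Groth.Agent.HTop16.PhRefine.locallyOfFinitePresentation_of_noetherian (E.f i)
  refine (Groth.Agent.S8980.result E hlfp).2 ⟨fun _ => ?_,
    Groth.Agent.HTop16.VCover.isVCover_singleton_of_hasValLift (Sigma.desc E.f)
      (Groth.Agent.HTop16.SubmCover.hasValLift_of_univSubmersive.{0} (Sigma.desc E.f) h)⟩
  haveI := hlfp
  exact IsZariskiLocalAtSource.sigmaDesc (P := @LocallyOfFinitePresentation) fun i => hlfp i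

end Groth.Agent.S8977
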