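import Groth.Prelude.Def_HTop
import Groth.Prelude.Def_SGA1
import Mathlib.AlgebraicGeometry.Noetherian
import Mathlib.AlgebraicGeometry.Limits
import Mathlib.AlgebraicGeometry.Morphisms.Finite
import Mathlib.AlgebraicGeometry.Morphisms.QuasiFinite
import Mathlib.AlgebraicGeometry.Morphisms.Separated
import Groth.Agent.S8977
import Groth.Agent.HTop16.VCover

set_option autoImplicit false
universe u
namespace HTop
end HTop
open HTop

namespace Groth.Agent.S13731

open CategoryTheory CategoryTheory.Limits AlgebraicGeometry in
/-- Let X be a separated Noetherian scheme and {p_i : U_i → X} a finite family of separated morphisms of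
finite type whose induced morphism from the disjoint union of the U_i to X is universally submersive
(an h-covering). Then every point x of X is p_i(u) for some i and some point u of U_i admitting a
generization ξ in U_i whose image p_i(ξ) is a generic point of an irreducible component of X.
Equivalently, the irreducible components of the U_i dominating an irreducible component of X jointly
cover X. -/
theorem result {X : Scheme.{u}} [IsNoetherian X] [X.IsSeparated] (E : PreZeroHypercover.{u} X) [Finite E.I₀] [∀ i, LocallyOfFiniteType (E.f i)] [∀ i, QuasiCompact (E.f i)] [∀ i, IsSeparated (E.f i)] (hE : SGA1.UnivSubmersive (Sigma.desc E.f)) (x : X) : ∃ (i : E.I₀) (ξ u : E.X i), ξ ⤳ u ∧ E.f i u = x ∧ closure {E.f i ξ} ∈ irreducibleComponents ↥X := by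
  have hv := Groth.Agent.HTop16.VCover.hasValLift_of_isVCover ((Groth.Agent.S8977.result E).1 hE).2
  have hirr : IsIrreducible (irreducibleComponent x) := isIrreducible_irreducibleComponent
  have hgp : IsGenericPoint hirr.genericPoint (irreducibleComponent x) :=
    hirr.isGenericPoint_genericPoint isClosed_irreducibleComponent
  have hsp : hirr.genericPoint ⤳ x := hgp.specializes mem_irreducibleComponent
  obtain ⟨i, w', w, hw, h', h⟩ := Groth.Agent.HTop16.VCover.exists_specializes_of_hasValLift hv (𝟙 X) hsp
  have e : ∀ v, E.f i (pullback.snd (𝟙 X) (E.f i) v) = pullback.fst (𝟙 X) (E.f i) v := fun v => by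
    rw [← Scheme.Hom.comp_apply, ← pullback.condition, Category.comp_id]
  refine ⟨i, pullback.snd (𝟙 X) (E.f i) w', pullback.snd (𝟙 X) (E.f i) w,
    hw.map (pullback.snd (𝟙 X) (E.f i)).continuous, (e w).trans h, ?_⟩
  rw [e, h', hgp.def]
  exact irreducibleComponent_mem_irreducibleComponents x

end Groth.Agent.S13731
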