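import Groth.Statements.S13732
import Groth.Agent.FlatMor12.QfRefine
import Groth.Agent.S14770
-- import your own Groth.Agent.* helpers here

set_option autoImplicit false
universe u
open HTop

namespace Groth.Agent.S13732

open CategoryTheory CategoryTheory.Limits AlgebraicGeometry in
/-- Let Y be a separated Noetherian scheme and {p_j : Y_j → Y} a finite family of separated quasi-finite
morphisms of finite type whose induced morphism from the disjoint union of the Y_j to Y is
universally submersive (a qfh-covering). Then there are a finite surjective morphism p : Y' → Y and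
finitely many open subschemes V_1, …, V_n covering Y' such that every composite V_i → Y' → Y factors
through some member of the family. -/
theorem result {Y : Scheme.{u}} [IsNoetherian Y] [Y.IsSeparated] (E : PreZeroHypercover.{u} Y) [Finite E.I₀] [∀ j, LocallyOfFiniteType (E.f j)] [∀ j, QuasiCompact (E.f j)] [∀ j, LocallyQuasiFinite (E.f j)] [∀ j, IsSeparated (E.f j)] (hE : SGA1.UnivSubmersive (Sigma.desc E.f)) : ∃ (Y' : Scheme.{u}) (p : Y' ⟶ Y) (n : ℕ) (V : Fin n → Y'.Opens), IsFinite p ∧ Surjective p ∧ ⨆ i, V i = ⊤ ∧ ∀ i, ∃ (j : E.I₀) (h : (↑(V i) : Scheme.{u}) ⟶ E.X j), h ≫ E.f j = (V i).ι ≫ p := by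
  classical
  haveI : ∀ i, CompactSpace (E.X i) := fun i => QuasiCompact.compactSpace_of_compactSpace (E.f i)
  haveI : CompactSpace (∐ E.X : Scheme.{u}) := by
    haveI : Finite (sigmaOpenCover E.X).I₀ := ‹Finite E.I₀›
    haveI : ∀ i, CompactSpace ((sigmaOpenCover E.X).X i) := fun i => ‹∀ i, CompactSpace (E.X i)› i
    exact (sigmaOpenCover E.X).compactSpace
  haveI : QuasiCompact (Sigma.desc E.f) := quasiCompact_of_compactSpace _
  haveI : LocallyOfFiniteType (Sigma.desc E.f) :=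
    IsZariskiLocalAtSource.sigmaDesc (P := @LocallyOfFiniteType.{u}) fun i => inferInstance
  haveI : LocallyQuasiFinite (Sigma.desc E.f) :=
    IsZariskiLocalAtSource.sigmaDesc (P := @LocallyQuasiFinite.{u}) fun i => inferInstance
  obtain ⟨W, q, hq, hqs, -, hloc⟩ := Groth.Agent.FlatMor12.QfRefine.exists_refinement_noetherian (Sigma.desc E.f)
    (Groth.Agent.FlatMor12.ValuationSections.hasSections_of_univSSubtrusive _ ((Groth.Agent.S14770.result _).1 hE))
  haveI : CompactSpace W := QuasiCompact.compactSpace_of_compactSpace q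
  have key : ∀ x : W, ∃ (O : W.Opens) (j : E.I₀) (a : (O : Scheme.{u}) ⟶ E.X j),
      x ∈ O ∧ a ≫ E.f j = O.ι ≫ q := by
    intro x
    obtain ⟨O, a, hx, ha⟩ := hloc x
    obtain ⟨j, v, hv⟩ := (sigmaOpenCover E.X).exists_eq (a ⟨x, hx⟩)
    haveI : IsOpenImmersion (Sigma.ι E.X j) := (sigmaOpenCover E.X).map_prop j
    let O' : W.Opens := O.ι ''ᵁ (a ⁻¹ᵁ (Sigma.ι E.X j).opensRange)
    refine ⟨O', j, (O.ι.isoImage (a ⁻¹ᵁ (Sigma.ι E.X j).opensRange)).inv ≫
      IsOpenImmersion.lift (Sigma.ι E.X j) ((a ⁻¹ᵁ (Sigma.ι E.X j).opensRange).ι ≫ a) ?_, ⟨⟨x, hx⟩, ⟨v, hv⟩, rfl⟩, ?_⟩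
    · rintro _ ⟨z, rfl⟩
      exact z.2
    · have h : Sigma.ι E.X j ≫ Sigma.desc E.f = E.f j := Sigma.ι_desc _ _
      rw [Category.assoc, ← h, IsOpenImmersion.lift_fac_assoc, Category.assoc, ha, ← Scheme.Hom.isoImage_inv_ι_assoc]
  choose O j a hxO ha using key
  obtain ⟨s, hs⟩ := isCompact_univ.elim_finite_subcover (fun x => (O x : Set W))
    (fun x => (O x).isOpen) fun x _ => Set.mem_iUnion.2 ⟨x, hxO x⟩
  refine ⟨W, q, s.card, fun m => O (s.equivFin.symm m).1, hq, hqs, top_unique fun y _ => ?_, fun m => ⟨_, a _, ha _⟩⟩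
  obtain ⟨z, hz⟩ := Set.mem_iUnion.1 (hs (Set.mem_univ y))
  obtain ⟨hzs, hzy⟩ := Set.mem_iUnion.1 hz
  exact TopologicalSpace.Opens.mem_iSup.2 ⟨s.equivFin ⟨z, hzs⟩, by simpa using hzy⟩

end Groth.Agent.S13732
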