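import Groth.Statements.S13733
import Groth.Agent.S14770
import Groth.Agent.FlatMor12.SubtrFlat.OpenFlatten
import Groth.Agent.FlatMor12.PhCover
-- import your own Groth.Agent.* helpers here

set_option autoImplicit false
set_option backward.isDefEq.respectTransparency false
set_option backward.isDefEq.respectTransparency.types false
universe u
open HTop

namespace Groth.Agent.S13733

open CategoryTheory CategoryTheory.Limits AlgebraicGeometry in
/-- Let Y be a separated Noetherian scheme and {p_j : Y_j → Y} a finite family of separated morphisms of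
finite type whose induced morphism from the disjoint union of the Y_j to Y is universally submersive
(an h-covering). Then there are: a reduced scheme Y_red with a surjective closed immersion ι : Y_red
→ Y, a surjective blow-up b : Y'' → Y_red of Y_red in some quasi-coherent sheaf of ideals (b has the
universal property of the blowing up), a finite surjective morphism q : Y' → Y'', and finitely many
open subschemes V_1, …, V_n covering Y', such that the composite p = q ≫ b ≫ ι is proper and
surjective and every composite V_i → Y' → Y factors through some member of the family. -/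
theorem result {Y : Scheme.{u}} [IsNoetherian Y] [Y.IsSeparated] (E : PreZeroHypercover.{u} Y) [Finite E.I₀] [∀ j, LocallyOfFiniteType (E.f j)] [∀ j, QuasiCompact (E.f j)] [∀ j, IsSeparated (E.f j)] (hE : SGA1.UnivSubmersive (Sigma.desc E.f)) : ∃ (Yr Y'' Y' : Scheme.{u}) (ι : Yr ⟶ Y) (𝓘 : Yr.IdealSheafData) (b : Y'' ⟶ Yr) (q : Y' ⟶ Y'') (n : ℕ) (V : Fin n → Y'.Opens), IsClosedImmersion ι ∧ Surjective ι ∧ IsReduced Yr ∧ BlowUp.IsBlowUp b 𝓘 ∧ Surjective b ∧ IsFinite q ∧ Surjective q ∧ IsProper (q ≫ b ≫ ι) ∧ Surjective (q ≫ b ≫ ι) ∧ ⨆ i, V i = ⊤ ∧ ∀ i, ∃ (j : E.I₀) (h : (↑(V i) : Scheme.{u}) ⟶ E.X j), h ≫ E.f j = (V i).ι ≫ q ≫ b ≫ ι := by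
  classical
  let f := Sigma.desc E.f
  haveI : LocallyOfFiniteType f :=
    IsZariskiLocalAtSource.sigmaDesc (P := (@LocallyOfFiniteType : MorphismProperty Scheme.{u})) fun j => inferInstance
  haveI : ∀ j, CompactSpace (E.X j) := fun j => QuasiCompact.compactSpace_of_compactSpace (E.f j)
  haveI : CompactSpace (∐ E.X : Scheme.{u}) := by
    haveI : Finite (sigmaOpenCover E.X).I₀ := inferInstanceAs (Finite E.I₀)
    haveI : ∀ i, CompactSpace ((sigmaOpenCover E.X).X i) := fun i => ‹∀ j, CompactSpace (E.X j)› i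
    exact (sigmaOpenCover E.X).compactSpace
  haveI : QuasiCompact f := quasiCompact_of_compactSpace f
  haveI : LocallyOfFinitePresentation f := LocallyOfFinitePresentation.iff_locallyOfFiniteType.2 inferInstance
  have hf : Subtr.UnivSSubtrusive f := (Groth.Agent.S14770.result f).1 hE
  let J := Scheme.IdealSheafData.vanishingIdeal (⊤ : TopologicalSpace.Closeds Y)
  let ι := J.subschemeι
  haveI : IsReduced J.subscheme := Groth.Agent.Props12.isReduced_subscheme_vanishingIdeal _
  haveI : Surjective ι := ⟨fun y => by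
    refine (Scheme.IdealSheafData.range_subschemeι J).ge ?_
    rw [Scheme.IdealSheafData.coe_support_vanishingIdeal]
    trivial⟩
  haveI : IsLocallyNoetherian J.subscheme := LocallyOfFiniteType.isLocallyNoetherian ι
  haveI : CompactSpace J.subscheme := QuasiCompact.compactSpace_of_compactSpace ι
  haveI : IsNoetherian J.subscheme := ⟨⟩
  let g := pullback.snd f ι
  haveI : LocallyOfFinitePresentation g := MorphismProperty.pullback_snd _ _ ‹_›
  haveI : QuasiCompact g := MorphismProperty.pullback_snd _ _ ‹_›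
  haveI : IsLocallyNoetherian (pullback f ι) := LocallyOfFiniteType.isLocallyNoetherian g
  haveI : QuasiSeparated g := inferInstance
  obtain ⟨U, 𝓘, Y'', b, -, -, hb, hadm, hbp, hbs, hX⟩ :=
    Groth.Agent.FlatMor12.SubtrFlat.exists_flattening_surjective
      (Groth.Agent.FlatMor12.SubtrFlat.finite_maxPts J.subscheme).isCompact g
  let p₁ := pullback.fst g b
  let p₂ := pullback.snd g b
  haveI : LocallyOfFinitePresentation p₂ := MorphismProperty.pullback_snd _ _ ‹_›
  haveI : QuasiCompact p₂ := MorphismProperty.pullback_snd _ _ ‹_›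
  haveI : IsLocallyNoetherian Y'' := LocallyOfFiniteType.isLocallyNoetherian b
  haveI : CompactSpace Y'' := QuasiCompact.compactSpace_of_compactSpace b
  haveI : IsLocallyNoetherian (pullback g b) := LocallyOfFiniteType.isLocallyNoetherian p₂
  haveI : CompactSpace ↥(pullback g b) := QuasiCompact.compactSpace_of_compactSpace p₂
  haveI : IsNoetherian (pullback g b) := ⟨⟩
  let K := (𝓘.comap g).comap p₁
  haveI : QuasiCompact (ModPair.interior K).ι := inferInstance
  let 𝒥 := (ModPair.interior K).ι.ker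
  obtain ⟨⟨h1, h2, h3, h4⟩, h5⟩ := hX _ p₁ p₂ (IsPullback.of_hasPullback g b) 𝒥
    (Groth.Agent.FlatMor12.SubtrFlat.mem_ker_iff_killed K
      (Groth.Agent.FlatMorAdm.isFiniteTypeIdeal_of_noetherian K))
  let s := 𝒥.subschemeι ≫ p₁ ≫ pullback.fst f ι
  let P : E.I₀ → 𝒥.subscheme.Opens := fun j => s ⁻¹ᵁ (Sigma.ι E.X j).opensRange
  let E' : PreZeroHypercover.{u} Y'' :=
    { I₀ := E.I₀, X := fun j => (P j : Scheme.{u}), f := fun j => (P j).ι ≫ 𝒥.subschemeι ≫ p₂ }
  have hsurj : ∀ y : Y'', ∃ (j : E'.I₀) (x : E'.X j), E'.f j x = y := fun y => by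
    obtain ⟨η, hη, hmax⟩ := H8ProCons.exists_maximal_specializes y
    have hg : Subtr.IsSSubtrusive p₂ :=
      hf _ _ _ ((IsPullback.of_hasPullback g b).paste_horiz (IsPullback.of_hasPullback f ι)).flip
    obtain ⟨x, x', hxx, hx, hx'⟩ := hg hη
    obtain ⟨z, hz⟩ := (Scheme.IdealSheafData.range_subschemeι 𝒥).ge
      (hxx.mem_closed 𝒥.support.isClosed (h5 x' (hx' ▸ hmax)))
    obtain ⟨j, v, hv⟩ := (sigmaOpenCover E.X).exists_eq (s z)
    refine ⟨j, ⟨z, ⟨v, hv⟩⟩, ?_⟩
    show p₂ (𝒥.subschemeι z) = y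
    rw [hz, hx]
  obtain ⟨Y', q, n, V, hq, hqs, -, hcov, hfac⟩ := Groth.Agent.FlatMor12.exists_finite_refinement E'
    (fun j => inferInstanceAs (Flat ((P j).ι ≫ 𝒥.subschemeι ≫ p₂)))
    (fun j => inferInstanceAs (LocallyOfFinitePresentation ((P j).ι ≫ 𝒥.subschemeι ≫ p₂))) hsurj
  refine ⟨J.subscheme, Y'', Y', ι, 𝓘, b, q, n, V, inferInstance, inferInstance, inferInstance, hb, hbs,
    hq, hqs, inferInstance, inferInstance,
    TopologicalSpace.Opens.ext (Set.eq_univ_of_forall fun y => by simpa using hcov y), fun i => ?_⟩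
  obtain ⟨j, h, hh⟩ := hfac i
  have hr : Set.range ((P j).ι ≫ s) ⊆ Set.range (Sigma.ι E.X j) := by
    rintro _ ⟨a, rfl⟩
    exact a.2
  refine ⟨j, h ≫ IsOpenImmersion.lift (Sigma.ι E.X j) _ hr, ?_⟩
  rw [show E.f j = Sigma.ι E.X j ≫ f from (Sigma.ι_desc _ _).symm, Category.assoc,
    IsOpenImmersion.lift_fac_assoc]
  simp only [s, Category.assoc]
  rw [pullback.condition, pullback.condition_assoc]
  have := hh =≫ (b ≫ ι)
  simpa [E', p₂] using this

end Groth.Agent.S13733
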