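import Groth.Statements.S13736
import Groth.Agent.EGA43.UnibranchOpen.Scheme
import Groth.Agent.EGA43.Unibranch.Open
import Groth.Agent.S14770
-- import your own Groth.Agent.* helpers here

set_option autoImplicit false
universe u
open HTop

namespace Groth.Agent.S13736

section Aux
open CategoryTheory CategoryTheory.Limits AlgebraicGeometry

set_option backward.isDefEq.respectTransparency false in
theorem univSubmersive_of_open {Z X : Scheme.{u}} (f : Z ⟶ X) [UniversallyOpen f] [Surjective f] :
    SGA1.UnivSubmersive f := by
  intro A B i₁ i₂ g h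
  haveI : UniversallyOpen g := MorphismProperty.of_isPullback h.flip ‹UniversallyOpen f›
  haveI : Surjective g := MorphismProperty.of_isPullback h.flip ‹Surjective f›
  exact g.isOpenMap.isQuotientMap g.continuous g.surjective

set_option backward.isDefEq.respectTransparency false in
theorem univSubmersive_of_comp {Z W X : Scheme.{u}} (k : Z ⟶ W) (f : W ⟶ X)
    (h : SGA1.UnivSubmersive (k ≫ f)) : SGA1.UnivSubmersive f := by
  intro A B i₁ i₂ g hg
  have h' := h _ _ _ ((IsPullback.of_hasPullback i₁ k).paste_horiz hg)
  show Topology.IsQuotientMap g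
  refine Topology.IsQuotientMap.of_comp (pullback.fst i₁ k).continuous g.continuous ?_
  exact h'

end Aux

open CategoryTheory CategoryTheory.Limits AlgebraicGeometry in
/-- Let X be a separated irreducible Noetherian scheme whose local rings are all geometrically
unibranch, and {p_i : U_i → X} a finite family of separated quasi-finite morphisms of finite type
with every U_i irreducible. Then the induced morphism from the disjoint union of the U_i to X is
universally submersive (a qfh-covering) if and only if the dominant members p_i are jointly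
surjective onto X; in that case the induced morphism from the disjoint union of the dominant members
alone is already universally submersive. (The published statement does not require the U_i
irreducible; for the affine line X over a field and the single member U = (X minus a closed point) ⊔
(that point) → X, which is dominant and surjective, the quotient property fails, and the published
proof uses that every irreducible component of a dominant member dominates X, so the members are
taken irreducible here.) -/
theorem result {X : Scheme.{u}} [IsNoetherian X] [X.IsSeparated] [IrreducibleSpace ↥X] (hX : ∀ x : X, CAlg2.IsGeomUnibranch (X.presheaf.stalk x)) (E : PreZeroHypercover.{u} X) [Finite E.I₀] [∀ i, LocallyOfFiniteType (E.f i)] [∀ i, QuasiCompact (E.f i)] [∀ i, LocallyQuasiFinite (E.f i)] [∀ i, IsSeparated (E.f i)] [∀ i, IrreducibleSpace ↥(E.X i)] : (SGA1.UnivSubmersive (Sigma.desc E.f) ↔ ∀ x : X, ∃ (i : E.I₀) (u : E.X i), IsDominant (E.f i) ∧ E.f i u = x) ∧ ((∀ x : X, ∃ (i : E.I₀) (u : E.X i), IsDominant (E.f i) ∧ E.f i u = x) → SGA1.UnivSubmersive (Sigma.desc fun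 j : {i : E.I₀ // IsDominant (E.f i)} => E.f j.1)) := by
  classical
  let D := {i : E.I₀ // IsDominant (E.f i)}
  haveI : ∀ i, CompactSpace (E.X i) := fun i => QuasiCompact.compactSpace_of_compactSpace (E.f i)
  haveI : CompactSpace (∐ E.X : Scheme.{u}) := by
    haveI : Finite (sigmaOpenCover E.X).I₀ := ‹Finite E.I₀›
    haveI : ∀ i, CompactSpace ((sigmaOpenCover E.X).X i) := fun i => ‹∀ i, CompactSpace (E.X i)› i
    exact (sigmaOpenCover E.X).compactSpace
  haveI : QuasiCompact (Sigma.desc E.f) := quasiCompact_of_compactSpace _
  have hopen : ∀ j : D, UniversallyOpen (E.f j.1) := fun j => by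
    haveI := j.2
    exact Groth.Agent.EGA43.Chevalley.universallyOpen_of_forall _
      (Groth.Agent.EGA43.UnibranchOpen.isUnivOpenAt_of_quasiFinite hX _)
  have hsub : (∀ x : X, ∃ (i : E.I₀) (u : E.X i), IsDominant (E.f i) ∧ E.f i u = x) →
      SGA1.UnivSubmersive (Sigma.desc fun j : D => E.f j.1) := fun hs => by
    haveI : UniversallyOpen (Sigma.desc fun j : D => E.f j.1) :=
      IsZariskiLocalAtSource.sigmaDesc (P := @UniversallyOpen.{u}) hopen
    haveI : Surjective (Sigma.desc fun j : D => E.f j.1) := ⟨fun x => by
      obtain ⟨i, v, hi, rfl⟩ := hs x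
      refine ⟨Sigma.ι (fun j : D => E.X j.1) ⟨i, hi⟩ v, ?_⟩
      rw [← Scheme.Hom.comp_apply, Sigma.ι_desc]⟩
    exact univSubmersive_of_open _
  refine ⟨⟨fun h x => ?_, fun hs => ?_⟩, hsub⟩
  · have hS := (Groth.Agent.S14770.result _).1 h
    obtain ⟨z, z', hz, hzx, hzη⟩ := (MorphismProperty.universally_le _ _ hS :
      Subtr.IsSSubtrusive (Sigma.desc E.f)) (genericPoint_specializes x)
    obtain ⟨i, v, rfl⟩ := (sigmaOpenCover E.X).exists_eq z
    obtain ⟨v', rfl⟩ : z' ∈ Set.range (Sigma.ι E.X i) :=
      hz.mem_open (Sigma.ι E.X i).isOpenEmbedding.isOpen_range ⟨v, rfl⟩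
    change Sigma.desc E.f (Sigma.ι E.X i v) = x at hzx
    rw [← Scheme.Hom.comp_apply, Sigma.ι_desc] at hzx hzη
    refine ⟨i, v, ⟨?_⟩, hzx⟩
    rw [DenseRange]
    refine Dense.mono (Set.singleton_subset_iff.2 ⟨v', hzη⟩) ?_
    rw [dense_iff_closure_eq, genericPoint_closure]
  · refine univSubmersive_of_comp (Sigma.desc fun j : D => Sigma.ι E.X j.1) _ ?_
    have e : (Sigma.desc fun j : D => Sigma.ι E.X j.1) ≫ Sigma.desc E.f = Sigma.desc fun j : D => E.f j.1 :=
      Sigma.hom_ext _ _ fun j => by simp
    rw [e]
    exact hsub hs

end Groth.Agent.S13736
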