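import Groth.Prelude.Def_HTop
import Groth.Prelude.Def_SGA1
import Mathlib.AlgebraicGeometry.Noetherian
import Mathlib.AlgebraicGeometry.Limits
import Mathlib.AlgebraicGeometry.Morphisms.Finite
import Mathlib.AlgebraicGeometry.Morphisms.QuasiFinite
import Mathlib.AlgebraicGeometry.Morphisms.Separated
import Groth.Prelude.Def_BlowUp2
import Groth.Agent.HTop16.SubmCover
import Groth.Agent.ProjLib.BlowUpBasics
import Groth.Agent.ModPairLib.EffCartier

set_option autoImplicit false
universe u
namespace HTop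
end HTop
open HTop

namespace Groth.Agent.S13737

open CategoryTheory CategoryTheory.Limits AlgebraicGeometry in
theorem dense_of_isDenseOpen {X : Scheme.{u}} {U : X.Opens} (hU : Groth.Agent.ModPairLib.IsDenseOpen U) :
    Dense (U : Set X) := by
  rw [dense_iff_inter_open]
  intro V hV hne
  by_contra h
  let W : X.Opens := ⟨V, hV⟩
  have hbot : W ⊓ U = ⊥ := TopologicalSpace.Opens.ext (Set.not_nonempty_iff_eq_empty.1 h)
  have h1 : (1 : Γ(X, W)) = 0 := by
    refine hU W 1 ?_
    haveI : Subsingleton Γ(X, W ⊓ U) := by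
      rw [hbot]
      exact CommRingCat.subsingleton_of_isTerminal X.sheaf.isTerminalOfEmpty
    exact Subsingleton.elim _ _
  obtain ⟨x, hx⟩ := hne
  have := congrArg (X.presheaf.germ W x hx).hom h1
  rw [map_one, map_zero] at this
  exact one_ne_zero this

open CategoryTheory CategoryTheory.Limits AlgebraicGeometry in
/-- Let X be a separated integral Noetherian scheme, b : X' → X a blow-up of X in a quasi-coherent sheaf
of ideals (characterised by the universal property of blowing up), with X' separated and b of finite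
type, and let U be an open subscheme of X' whose composite U → X' → X is universally submersive (an
h-covering). Then U = X'. (The published statement takes X only integral; its proof applies the
surjectivity of dominating components for Noetherian schemes, so this row takes X Noetherian.) -/
theorem result {X X' : Scheme.{u}} [IsNoetherian X] [X.IsSeparated] [IsIntegral X] [X'.IsSeparated] (𝓘 : X.IdealSheafData) (b : X' ⟶ X) [LocallyOfFiniteType b] [QuasiCompact b] (hb : BlowUp.IsBlowUp b 𝓘) (U : X'.Opens) (hU : SGA1.UnivSubmersive (U.ι ≫ b)) : U = ⊤ := by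
  rw [eq_top_iff]
  intro x' _
  haveI : IsLocallyNoetherian X' := LocallyOfFiniteType.isLocallyNoetherian b
  haveI : QuasiCompact U.ι := inferInstance
  haveI : QuasiCompact (U.ι ≫ b) := inferInstance
  have hlift := Groth.Agent.HTop16.SubmCover.hasValLift_of_univSubmersive.{0} (U.ι ≫ b) hU
  let A := b ⁻¹ᵁ ModPair.interior 𝓘
  have hA : Dense (A : Set X') := by
    have := dense_of_isDenseOpen (Groth.Agent.ModPairLib.isDenseOpen_interior hb.1)
    rwa [Groth.Agent.ModPairLib.interior_comap] at this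
  haveI : IsLocallyNoetherian X' := LocallyOfFiniteType.isLocallyNoetherian b
  haveI : QuasiCompact A.ι := inferInstance
  have hpro : ProCons.IsProConstructible (A : Set X') := by
    rw [← Scheme.Opens.range_ι A, ← Set.image_univ]
    refine Groth.Agent.H8ProCons.isProConstructible_image A.ι (Groth.Agent.H8ProCons.isProConstructible_iff_compl.2
      (Groth.Agent.H8ProCons.isIndConstructible_of_isOpen ?_))
    rw [Set.compl_univ]
    exact isOpen_empty
  obtain ⟨η, hηA, hη⟩ := Groth.Agent.SubtrLib.exists_specializes_of_mem_closure_proCons hpro (hA x')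
  obtain ⟨V, _, _, _, k, hk', hk⟩ := Groth.Agent.SubtrLib.exists_valuation_map hη
  obtain ⟨W, _, _, φ, hφ, i₀, g', hg'⟩ := hlift (CommRingCat.of V) (k ≫ b)
  change Spec W ⟶ (U : Scheme.{u}) at g'
  change g' ≫ U.ι ≫ b = Spec.map φ ≫ k ≫ b at hg'
  let K := FractionRing W
  let γ : Spec (CommRingCat.of K) ⟶ Spec W := Spec.map (CommRingCat.ofHom (algebraMap W K))
  haveI : IsDominant γ := ⟨(PrimeSpectrum.denseRange_comap_iff_ker_le_nilRadical _).2 (by
    rw [CommRingCat.hom_ofHom, (RingHom.injective_iff_ker_eq_bot _).1 (IsFractionRing.injective W K)]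
    exact bot_le)⟩
  have hγ : ∀ t, γ t = (⟨⊥, Ideal.isPrime_bot⟩ : PrimeSpectrum W) := fun t =>
    PrimeSpectrum.ext (by
      have := t.2
      change Ideal.comap (algebraMap W K) t.asIdeal = ⊥
      rw [(Ideal.eq_bot_or_top t.asIdeal).resolve_right t.2.ne_top]
      exact (RingHom.injective_iff_ker_eq_bot _).1 (IsFractionRing.injective W K))
  have hφ0 : Spec.map φ (⟨⊥, Ideal.isPrime_bot⟩ : PrimeSpectrum W) = (⟨⊥, Ideal.isPrime_bot⟩ : PrimeSpectrum V) :=
    PrimeSpectrum.ext ((RingHom.injective_iff_ker_eq_bot φ.hom).1 hφ.1)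
  have hφc : Spec.map φ (IsLocalRing.closedPoint W) = IsLocalRing.closedPoint V :=
    haveI := hφ.2
    PrimeSpectrum.ext (((IsLocalRing.local_hom_TFAE φ.hom).out 0 4).1 hφ.2)
  let h₁ : Spec W ⟶ X' := g' ≫ U.ι
  let h₂ : Spec W ⟶ X' := Spec.map φ ≫ k
  have hb' : h₁ ≫ b = h₂ ≫ b := by
    change (g' ≫ U.ι) ≫ b = (Spec.map φ ≫ k) ≫ b
    rw [Category.assoc, Category.assoc]
    exact hg'
  have hr₂ : Set.range (γ ≫ h₂) ⊆ Set.range A.ι := by
    rw [Scheme.Opens.range_ι]
    rintro _ ⟨t, rfl⟩
    rw [Scheme.Hom.comp_apply, hγ, Scheme.Hom.comp_apply, hφ0, hk']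
    exact hηA
  have hr₁ : Set.range (γ ≫ h₁) ⊆ Set.range A.ι := by
    rw [Scheme.Opens.range_ι]
    rintro _ ⟨t, rfl⟩
    have := hr₂ ⟨t, rfl⟩
    rw [Scheme.Opens.range_ι] at this
    change b ((γ ≫ h₁) t) ∈ ModPair.interior 𝓘
    rw [← Scheme.Hom.comp_apply, show (γ ≫ h₁) ≫ b = (γ ≫ h₂) ≫ b by exact (Category.assoc _ _ _).trans ((congrArg (γ ≫ ·) hb').trans (Category.assoc _ _ _).symm),
      Scheme.Hom.comp_apply]
    exact this
  haveI : IsIso (b ∣_ ModPair.interior 𝓘) :=
    Groth.Agent.ProjLib.isIso_morphismRestrict hb (ModPair.interior 𝓘) disjoint_compl_right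
  haveI : Mono (A.ι ≫ b) := by
    change Mono ((b ⁻¹ᵁ ModPair.interior 𝓘).ι ≫ b)
    rw [← morphismRestrict_ι]
    infer_instance
  have hgen : γ ≫ h₁ = γ ≫ h₂ := by
    rw [← IsOpenImmersion.lift_fac A.ι _ hr₁, ← IsOpenImmersion.lift_fac A.ι _ hr₂]
    congr 1
    rw [← cancel_mono (A.ι ≫ b), IsOpenImmersion.lift_fac_assoc, IsOpenImmersion.lift_fac_assoc]
    change (γ ≫ h₁) ≫ b = (γ ≫ h₂) ≫ b
    exact (Category.assoc _ _ _).trans ((congrArg (γ ≫ ·) hb').trans (Category.assoc _ _ _).symm)
  have heq : h₁ = h₂ := ext_of_isDominant γ hgen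
  have hx : h₂ (IsLocalRing.closedPoint W) = x' := by
    rw [Scheme.Hom.comp_apply, hφc, hk]
  rw [← hx, ← heq]
  exact (g' (IsLocalRing.closedPoint W)).2

end Groth.Agent.S13737
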