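import Groth.Statements.S1374
import Groth.Agent.FlatMorGeom.ClosedPointsFibre

set_option autoImplicit false
universe u
open FlatMor

namespace Groth.Agent.S1374

open AlgebraicGeometry CategoryTheory Limits in
/-- Let f : X ⟶ S be locally of finite type and x ⤳ x' a specialization of points of X, with x' a closed
point of its fibre f⁻¹(f(x')) and f(x) ≠ f(x'). Then the points x₁ with f(x₁) = f(x) which are
closed in the fibre f⁻¹(f(x)) and satisfy x ⤳ x₁ ⤳ x' are dense in the closure of {x} intersected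
with the fibre f⁻¹(f(x)) (fibres taken as subspaces of X). (The published statement omits the
condition f(x) ≠ f(x'), but the claim fails without it; it is stated here with that condition.) -/
theorem result {X S : Scheme.{u}} (f : X ⟶ S) [LocallyOfFiniteType f] (x x' : X) (hsp : x ⤳ x') (hne : f x ≠ f x')
    (hcl : IsClosed (Subtype.val ⁻¹' {x'} : Set ↑(f ⁻¹' {f x'}))) :
    Dense (Subtype.val ⁻¹' {x₁ : ↑X | f x₁ = f x ∧ IsClosed (Subtype.val ⁻¹' {x₁} : Set ↑(f ⁻¹' {f x})) ∧ x ⤳ x₁ ∧ x₁ ⤳ x'} :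
      Set ↑(closure {x} ∩ f ⁻¹' {f x})) := by
  classical
  haveI : JacobsonSpace ↑(f ⁻¹' {f x}) := by
    exact JacobsonSpace.of_isOpenEmbedding (f.fiberHomeo (f x)).symm.isOpenEmbedding
  obtain ⟨_, ⟨V, hV, rfl⟩, hx'V, -⟩ :=
    S.isBasis_affineOpens.exists_subset_of_mem_open (Set.mem_univ (f x')) isOpen_univ
  obtain ⟨_, ⟨U, hU, rfl⟩, hx'U, hUV⟩ :=
    X.isBasis_affineOpens.exists_subset_of_mem_open (show x' ∈ f ⁻¹ᵁ V from hx'V) (f ⁻¹ᵁ V).isOpen
  replace hU : IsAffineOpen U := hU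
  replace hV : IsAffineOpen V := hV
  have hxU : x ∈ U := hsp.mem_open U.isOpen hx'U
  rw [dense_iff_inter_open]
  rintro O hO ⟨⟨y, hy⟩, hyO⟩
  obtain ⟨O', hO', rfl⟩ := isOpen_induced_iff.1 hO
  have hxO : x ∈ O' := (specializes_iff_mem_closure.2 hy.1).mem_open hO' hyO
  obtain ⟨g, hgO, hxg⟩ := hU.exists_basicOpen_le (V := U ⊓ ⟨O', hO'⟩) ⟨x, hxU, hxO⟩ hxU
  set φ := (f.appLE V U hUV).hom with hφ
  letI : Algebra Γ(S, V) Γ(X, U) := φ.toAlgebra
  haveI hft : Algebra.FiniteType Γ(S, V) Γ(X, U) :=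
    LocallyOfFiniteType.finiteType_appLE f hV hU hUV
  set p := (hU.primeIdealOf ⟨x, hxU⟩).asIdeal with hp
  set n := (hU.primeIdealOf ⟨x', hx'U⟩).asIdeal with hn
  have hpt : ∀ (a b : PrimeSpectrum Γ(X, U)), hU.fromSpec a ⤳ hU.fromSpec b ↔ a.asIdeal ≤ b.asIdeal :=
    fun a b => (hU.fromSpec.isOpenEmbedding.isEmbedding.isInducing.specializes_iff).trans
      (PrimeSpectrum.le_iff_specializes a b).symm
  have hcomap : ∀ a : PrimeSpectrum Γ(X, U),
      hV.fromSpec (a.comap φ) = f (hU.fromSpec a) := by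
    intro a
    have := congrArg (fun m => m.base a) (hV.SpecMap_appLE_fromSpec f hU hUV)
    simp only [Scheme.Hom.comp_base, TopCat.coe_comp, Function.comp_apply] at this
    exact this
  have hpn : p ≤ n := by
    rw [hp, hn, ← hpt, hU.fromSpec_primeIdealOf, hU.fromSpec_primeIdealOf]; exact hsp
  set p₀ := p.comap φ with hp₀
  haveI : p₀.IsPrime := Ideal.comap_isPrime φ p
  haveI : p.LiesOver p₀ := ⟨rfl⟩
  haveI : IsDomain (Γ(S, V) ⧸ p₀) := Ideal.Quotient.isDomain p₀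
  haveI : IsDomain (Γ(X, U) ⧸ p) := Ideal.Quotient.isDomain p
  haveI : FaithfulSMul (Γ(S, V) ⧸ p₀) (Γ(X, U) ⧸ p) :=
    (faithfulSMul_iff_algebraMap_injective _ _).2 Ideal.algebraMap_quotient_injective
  haveI : Algebra.FiniteType Γ(S, V) (Γ(X, U) ⧸ p) :=
    hft.trans inferInstance
  haveI : Algebra.FiniteType (Γ(S, V) ⧸ p₀) (Γ(X, U) ⧸ p) :=
    Algebra.FiniteType.of_restrictScalars_finiteType Γ(S, V) _ _
  set mkB := Ideal.Quotient.mk p with hmkB
  set n' := n.map mkB with hn'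
  have hn'c : n'.comap mkB = n := by
    rw [hn', Ideal.comap_map_of_surjective _ Ideal.Quotient.mk_surjective, ← RingHom.ker_eq_comap_bot,
      Ideal.mk_ker, sup_eq_left.2 hpn]
  haveI : n'.IsPrime := Ideal.map_isPrime_of_surjective Ideal.Quotient.mk_surjective
    (by rw [Ideal.mk_ker]; exact hpn)
  have hAB : ∀ (I : Ideal (Γ(X, U) ⧸ p)) (a : Γ(S, V)),
      Ideal.Quotient.mk p₀ a ∈ I.comap (algebraMap _ _) ↔ a ∈ (I.comap mkB).comap φ :=
    fun I a => Iff.rfl
  have hA : n'.comap (algebraMap (Γ(S, V) ⧸ p₀) (Γ(X, U) ⧸ p)) ≠ ⊥ := by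
    intro hbot
    apply hne
    have : n.comap φ ≤ p.comap φ := by
      intro a ha
      rw [← hn'c, ← hAB, hbot, Ideal.mem_bot, Ideal.Quotient.eq_zero_iff_mem] at ha
      exact ha
    have h2 : (hU.primeIdealOf ⟨x, hxU⟩).comap φ = (hU.primeIdealOf ⟨x', hx'U⟩).comap φ :=
      PrimeSpectrum.ext (le_antisymm (Ideal.comap_mono hpn) this)
    have h3 := congrArg hV.fromSpec h2
    rwa [hcomap, hcomap, hU.fromSpec_primeIdealOf, hU.fromSpec_primeIdealOf] at h3
  have hnmax : ∀ M : Ideal (Γ(X, U) ⧸ p), M.IsPrime → n' ≤ M →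
      M.comap (algebraMap (Γ(S, V) ⧸ p₀) (Γ(X, U) ⧸ p)) =
        n'.comap (algebraMap (Γ(S, V) ⧸ p₀) (Γ(X, U) ⧸ p)) → M = n' := by
    intro M hM hle hMeq
    let z : PrimeSpectrum Γ(X, U) := ⟨M.comap mkB, inferInstance⟩
    have hnz : n ≤ z.asIdeal := hn'c ▸ Ideal.comap_mono hle
    have hzc : z.comap φ = (hU.primeIdealOf ⟨x', hx'U⟩).comap φ := PrimeSpectrum.ext <| by
      show (M.comap mkB).comap φ = n.comap φ
      ext a
      rw [← hAB, hMeq, hAB, hn'c]
    have hfz : f (hU.fromSpec z) = f x' := by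
      rw [← hcomap, hzc, hcomap, hU.fromSpec_primeIdealOf]
    have hs : x' ⤳ hU.fromSpec z := by
      have h := (hpt (hU.primeIdealOf ⟨x', hx'U⟩) z).2 hnz
      rwa [hU.fromSpec_primeIdealOf] at h
    have : hU.fromSpec z = x' := by
      have hmem := (Topology.IsInducing.subtypeVal.specializes_iff
        (x := (⟨x', rfl⟩ : ↑(f ⁻¹' {f x'}))) (y := ⟨hU.fromSpec z, hfz⟩)).1 hs
      exact hmem.mem_closed hcl rfl
    have hz : z = hU.primeIdealOf ⟨x', hx'U⟩ := hU.fromSpec.isOpenEmbedding.isEmbedding.injective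
      (by rw [this, hU.fromSpec_primeIdealOf])
    refine Ideal.comap_injective_of_surjective mkB Ideal.Quotient.mk_surjective ?_
    rw [hn'c]
    exact congrArg PrimeSpectrum.asIdeal hz
  have hgp : g ∉ p := by
    intro hg
    have h := hU.fromSpec_preimage_basicOpen g
    have : (hU.primeIdealOf ⟨x, hxU⟩) ∈ hU.fromSpec ⁻¹ᵁ X.basicOpen g := by
      show hU.fromSpec _ ∈ X.basicOpen g
      rw [hU.fromSpec_primeIdealOf]; exact hxg
    rw [h] at this
    exact this hg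
  obtain ⟨P, hP, hPn, hgP, hPbot, hPalg⟩ := FlatMorGeom.exists_prime_closed_generic_below n' hA
    hnmax (mkB g) (fun h => hgp (Ideal.Quotient.eq_zero_iff_mem.1 h))
  let z : PrimeSpectrum Γ(X, U) := ⟨P.comap mkB, inferInstance⟩
  set x₁ := hU.fromSpec z with hx₁
  have hpz : p ≤ z.asIdeal := fun a ha => by
    show mkB a ∈ P
    rw [Ideal.Quotient.eq_zero_iff_mem.2 ha]
    exact P.zero_mem
  have hzc : z.comap φ = (hU.primeIdealOf ⟨x, hxU⟩).comap φ := PrimeSpectrum.ext <| by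
    show (P.comap mkB).comap φ = p.comap φ
    ext a
    rw [← hAB, hPbot, Ideal.mem_bot, Ideal.Quotient.eq_zero_iff_mem]
  have hfx₁ : f x₁ = f x := by rw [hx₁, ← hcomap, hzc, hcomap, hU.fromSpec_primeIdealOf]
  have hxx₁ : x ⤳ x₁ := by
    have h := (hpt (hU.primeIdealOf ⟨x, hxU⟩) z).2 hpz
    rwa [hU.fromSpec_primeIdealOf] at h
  have hx₁x' : x₁ ⤳ x' := by
    have h := (hpt z (hU.primeIdealOf ⟨x', hx'U⟩)).2 ((Ideal.comap_mono hPn).trans hn'c.le)
    rwa [hU.fromSpec_primeIdealOf] at h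
  have hx₁g : x₁ ∈ X.basicOpen g := by
    have h := hU.fromSpec_preimage_basicOpen g
    show z ∈ hU.fromSpec ⁻¹ᵁ X.basicOpen g
    rw [h]
    exact hgP
  refine ⟨⟨x₁, specializes_iff_mem_closure.1 hxx₁, hfx₁⟩, (hgO hx₁g).2,
    ⟨hfx₁, ?_, hxx₁, hx₁x'⟩⟩
  -- closed in the generic fibre
  let w : ↑(f ⁻¹' {f x}) := ⟨x₁, hfx₁⟩
  have hw : (Subtype.val ⁻¹' {x₁} : Set ↑(f ⁻¹' {f x})) = {w} := by
    ext v; simp [w, Subtype.ext_iff]
  rw [hw]
  refine isClosed_singleton_of_isLocallyClosed_singleton ?_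
  have key : ({w} : Set _) = Subtype.val ⁻¹' (U : Set X) ∩ closure {w} := by
    refine Set.eq_of_subset_of_subset
      (fun v hv => ⟨by rw [hv]; exact (X.basicOpen_le g) hx₁g, subset_closure hv⟩) ?_
    rintro ⟨v, hfv⟩ ⟨hvU, hvc⟩
    have hs : x₁ ⤳ v := (specializes_iff_mem_closure.2 hvc).map continuous_subtype_val
    set zv := hU.primeIdealOf ⟨v, hvU⟩ with hzv
    have hle : P.comap mkB ≤ zv.asIdeal := by
      have h := hpt z zv
      rw [hzv, hU.fromSpec_primeIdealOf] at h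
      exact h.1 hs
    have hzvc : zv.comap φ = (hU.primeIdealOf ⟨x, hxU⟩).comap φ := by
      apply hV.fromSpec.isOpenEmbedding.isEmbedding.injective
      rw [hcomap, hcomap, hzv, hU.fromSpec_primeIdealOf, hU.fromSpec_primeIdealOf]
      exact hfv
    have hsub : zv.asIdeal ≤ P.comap mkB := by
      intro b hb
      by_contra hbP
      obtain ⟨a, ha0, ha⟩ := hPalg (mkB b) hbP
      obtain ⟨a, rfl⟩ := Ideal.Quotient.mk_surjective a
      apply ha0
      rw [Ideal.Quotient.eq_zero_iff_mem]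
      have hPle : P ⊔ Ideal.span {mkB b} ≤ zv.asIdeal.map mkB := sup_le
        (by rw [← Ideal.map_comap_of_surjective mkB Ideal.Quotient.mk_surjective P]; exact Ideal.map_mono hle)
        ((Ideal.span_singleton_le_iff_mem _).2 (Ideal.mem_map_of_mem _ hb))
      have h1 : φ a ∈ (zv.asIdeal.map mkB).comap mkB := hPle ha
      rw [Ideal.comap_map_of_surjective _ Ideal.Quotient.mk_surjective, ← RingHom.ker_eq_comap_bot,
        Ideal.mk_ker, sup_eq_left.2 (hpz.trans hle)] at h1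
      have h2 : a ∈ (zv.comap φ).asIdeal := h1
      rw [hzvc] at h2
      exact h2
    have : zv = z := PrimeSpectrum.ext (le_antisymm hsub hle)
    apply Subtype.ext
    show v = x₁
    rw [hx₁, ← this, hzv, hU.fromSpec_primeIdealOf]
  rw [key]
  exact (U.2.preimage continuous_subtype_val).isLocallyClosed.inter isClosed_closure.isLocallyClosed

end Groth.Agent.S1374
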