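import Groth.Statements.S13740
import Groth.Agent.SGA1Quot.GeomTransitive

set_option autoImplicit false
set_option backward.isDefEq.respectTransparency.types false
universe w u
open SGA1

namespace Groth.Agent.S13740

open CategoryTheory CategoryTheory.Limits AlgebraicGeometry in
/-- Let S be a separated Noetherian scheme, π : X → S finite and surjective with X separated, G a finite
group acting on X by S-automorphisms and transitively on the geometric points of X over every
geometric point of S, and F a presheaf of sets on schemes satisfying the sheaf condition for every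
finite family of quasi-finite morphisms of finite type whose induced morphism from the disjoint
union is universally submersive (a qfh-sheaf). Then pulling back along π identifies F(S) with the
G-invariant elements of F(X): F(π) is injective with image the invariants. (The published statement
takes F a qfh-sheaf on Noetherian schemes over S; this row takes a presheaf on all schemes with the
sheaf property for every such family, a stronger hypothesis.) -/
theorem result {X S : Scheme.{u}} [IsNoetherian S] [S.IsSeparated] [X.IsSeparated] (q : X ⟶ S) [IsFinite q] [Surjective q] {G : Type u} [Group G] [Finite G] (ρ : G →* Aut X) (hρ : ∀ g : G, (ρ g).hom ≫ q = q) (htrans : ∀ (Ω : Type u) [Field Ω] [IsAlgClosed Ω] (τ₁ τ₂ : Spec (CommRingCat.of Ω) ⟶ X), τ₁ ≫ q = τ₂ ≫ q → ∃ g : G, τ₁ ≫ (ρ g).hom = τ₂) (F : Scheme.{u}ᵒᵖ ⥤ Type w) (hF : ∀ ⦃T : Scheme.{u}⦄ (E : PreZeroHypercover.{u} T), Finite E.I₀ → (∀ i, LocallyOfFiniteType (E.f i)) → (∀ i, QuasiCompact (E.f i)) → (∀ i, LocallyQuasiFinite (E.f i)) → SGA1.UnivSubmersive (Sigma.desc E.f) → Presieve.IsSheafFor F E.presieve₀) : Function.Injective (F.map q.op) ∧ Set.range (F.map q.op) = {f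 : F.obj (Opposite.op X) | ∀ g : G, F.map (ρ g).hom.op f = f} := by
  exact Groth.Agent.SGA1Quot.GeomTrans.sheaf_sections q ρ htrans hρ F hF

end Groth.Agent.S13740
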