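import Groth.Statements.S13742
import Groth.Agent.FlatMor12.GenericSmooth
import Mathlib
-- import your own Groth.Agent.* helpers here

set_option autoImplicit false
set_option linter.style.haveILetI false
set_option backward.isDefEq.respectTransparency.types false
universe u
open Cyc

open CategoryTheory CategoryTheory.Limits AlgebraicGeometry Groth.Agent

namespace Groth.Agent.S13742

open CategoryTheory CategoryTheory.Limits AlgebraicGeometry in
/-- Let S be a separated Noetherian scheme, f : X → S separated of finite type, z a point of X mapping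
to a generic point of an irreducible component of S, and ι : Z → X a closed immersion from a reduced
scheme with image the closure of z (the closure of z with its reduced structure). Then Z ×_S Spec
k(f z) is an integral scheme, and its image in the fibre X ×_S Spec k(f z) is the closure of the
unique point w of that fibre lying over z: Z ×_S Spec k(f z) is the closure of z in its fibre, with
reduced structure. -/
theorem result {X S Z : Scheme.{u}} [IsNoetherian S] [S.IsSeparated] [X.IsSeparated] (f : X ⟶ S) [LocallyOfFiniteType f] [QuasiCompact f] (z : X) (hz : closure {f z} ∈ irreducibleComponents ↥S) (ι : Z ⟶ X) [IsClosedImmersion ι] [IsReduced Z] (hZ : Set.range ι = closure {z}) : IsIntegral (pullback (ι ≫ f) (S.fromSpecResidueField (f z))) ∧ ∃ w : ↥(pullback f (S.fromSpecResidueField (f z))), pullback.fst f (S.fromSpecResidueField (f z)) w = z ∧ Set.range (pullback.map (ι ≫ f) (S.fromSpecResidueField (f z)) f (S.fromSpecResidueField (f z)) ι (𝟙 _) (𝟙 S) (Category.comp_id _) ((Category.comp_id _).trans (Category.id_comp _).symm)) = closure {w} := by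
  set η := f z with hη
  let r := S.fromSpecResidueField η
  have hι : Topology.IsEmbedding ι := ι.isClosedEmbedding.isEmbedding
  obtain ⟨z0, hz0⟩ : z ∈ Set.range ι := hZ ▸ subset_closure rfl
  have hz0η : (ι ≫ f) z0 = r (IsLocalRing.closedPoint (S.residueField η)) := by
    rw [Scheme.Hom.comp_apply, hz0]
    exact (Scheme.fromSpecResidueField_apply η _).symm
  -- the unique point of the spectrum of the local ring at `η`
  have hone : Surjective (Spec.map (S.residue η)) := by
    refine ⟨fun p => ⟨IsLocalRing.closedPoint (S.residueField η), ?_⟩⟩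
    have hp : S.fromSpecStalk η p ⤳ η := Scheme.range_fromSpecStalk.le ⟨p, rfl⟩
    have hle : closure {η} ⊆ closure {S.fromSpecStalk η p} :=
      closure_minimal (Set.singleton_subset_iff.2 hp.mem_closure) isClosed_closure
    have heq : closure {S.fromSpecStalk η p} ⊆ closure {η} := hz.2 isIrreducible_singleton.closure hle
    have e : S.fromSpecStalk η p = η :=
      (hp.antisymm (specializes_iff_mem_closure.2 (heq (subset_closure rfl)))).eq
    refine (S.fromSpecStalk η).isEmbedding.injective ?_
    rw [← Scheme.Hom.comp_apply, e]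
    exact Scheme.fromSpecResidueField_apply η _
  haveI : IsReduced (pullback (ι ≫ f) r) := by
    haveI := hone
    haveI := FlatMor12.GenericSmooth.isReduced_pullback_fromSpecStalk (ι ≫ f) η
    haveI : IsIso (pullback.fst (pullback.snd (ι ≫ f) (S.fromSpecStalk η)) (Spec.map (S.residue η))) :=
      isIso_of_isClosedImmersion_of_surjective _
    let e : pullback (ι ≫ f) r ≅ pullback (ι ≫ f) (S.fromSpecStalk η) :=
      (pullbackLeftPullbackSndIso (ι ≫ f) (S.fromSpecStalk η) (Spec.map (S.residue η))).symm ≪≫
        asIso (pullback.fst (pullback.snd (ι ≫ f) (S.fromSpecStalk η)) (Spec.map (S.residue η)))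
    exact isReduced_of_isOpenImmersion e.hom
  obtain ⟨w0, hw0, -⟩ := Scheme.Pullback.exists_preimage_pullback (f := ι ≫ f) (g := r) z0 _ hz0η
  haveI : IsPreimmersion r := inferInstance
  have hp : Topology.IsEmbedding (pullback.fst (ι ≫ f) r) :=
    (pullback.fst (ι ≫ f) r).isEmbedding
  have hgen : ∀ y, w0 ⤳ y := fun y => by
    rw [← hp.specializes_iff, hw0, ← hι.specializes_iff, hz0, specializes_iff_mem_closure, ← hZ]
    exact ⟨_, rfl⟩
  haveI : IrreducibleSpace ↥(pullback (ι ≫ f) r) := by
    haveI : Nonempty ↥(pullback (ι ≫ f) r) := ⟨w0⟩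
    have hu : closure {w0} = Set.univ := Set.eq_univ_of_forall fun y => (hgen y).mem_closure
    haveI : PreirreducibleSpace ↥(pullback (ι ≫ f) r) :=
      ⟨hu ▸ (isIrreducible_singleton.closure).isPreirreducible⟩
    exact ⟨‹_›⟩
  let M := pullback.map (ι ≫ f) r f r ι (𝟙 _) (𝟙 S) (Category.comp_id _) ((Category.comp_id _).trans (Category.id_comp _).symm)
  have hM : ∀ q, pullback.fst f r (M q) = ι (pullback.fst (ι ≫ f) r q) := fun q => by
    have e : M ≫ pullback.fst f r = pullback.fst (ι ≫ f) r ≫ ι := pullback.lift_fst _ _ _
    rw [← Scheme.Hom.comp_apply, e, Scheme.Hom.comp_apply]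
  refine ⟨isIntegral_of_irreducibleSpace_of_isReduced _, M w0, by rw [hM, hw0, hz0], ?_⟩
  apply Set.Subset.antisymm
  · rintro _ ⟨y, rfl⟩
    exact ((hgen y).map M.continuous).mem_closure
  · intro v hv
    have hp' : Topology.IsEmbedding (pullback.fst f r) := (pullback.fst f r).isEmbedding
    have h1 : pullback.fst f r v ∈ Set.range ι := by
      rw [hZ, ← hz0, ← hw0, ← hM]
      exact ((specializes_iff_mem_closure.2 hv).map (pullback.fst f r).continuous).mem_closure
    obtain ⟨x, hx⟩ := h1
    obtain ⟨q, hq, -⟩ := Scheme.Pullback.exists_preimage_pullback (f := ι ≫ f) (g := r) x (pullback.snd f r v) (by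
      rw [Scheme.Hom.comp_apply, hx, ← Scheme.Hom.comp_apply, pullback.condition, Scheme.Hom.comp_apply])
    exact ⟨q, hp'.injective (by rw [hM, hq, hx])⟩

end Groth.Agent.S13742
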