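import Groth.Statements.S13744
import Groth.Agent.H8Res.FlatImage
import Groth.Agent.CycLib28.Maximal
import Groth.Prelude.Def_Cyc

set_option autoImplicit false
set_option linter.style.haveILetI false
set_option backward.isDefEq.respectTransparency false
universe u
open Cyc

namespace Groth.Agent.S13744

open CategoryTheory CategoryTheory.Limits AlgebraicGeometry in
/-- Let S be a separated Noetherian scheme, p : X → S separated of finite type, ι : Z → X a closed
immersion with Z integral, R a discrete valuation ring with fraction field K and x : Spec R → S. Let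
φ be the scheme-theoretic image in Z ×_S Spec R of Z ×_S Spec K (the flat closure of the generic
fibre), regarded as a closed subscheme of X ×_S Spec R. Then the cycle of φ (coefficient at t =
length of the local ring of φ above t, an infinite length read as 0) equals the cycle of Z ×_S Spec
K pushed forward along the inclusion X ×_S Spec K → X ×_S Spec R. -/
theorem result {X S Z : Scheme.{u}} [IsNoetherian S] [S.IsSeparated] [X.IsSeparated] (p : X ⟶ S) [LocallyOfFiniteType p] [QuasiCompact p] (ι : Z ⟶ X) [IsClosedImmersion ι] [IsIntegral Z] (R : Type u) [CommRing R] [IsDomain R] [IsDiscreteValuationRing R] (x : Spec (CommRingCat.of R) ⟶ S) (t : ↥(pullback p x)) : Cyc.subschemeFun (fun _ => (0 : ℤ)) 0 ((pullback.map (ι ≫ p) (Spec.map (CommRingCat.ofHom (algebraMap R (FractionRing R))) ≫ x) (ι ≫ p) x (𝟙 Z) (Spec.map (CommRingCat.ofHom (algebraMap R (FractionRing R)))) (𝟙 S) ((Category.comp_id _).trans (Category.id_comp _).symm) (Category.comp_id _)).ker.subschemeι ≫ pullback.map (ι ≫ p) x p x ι (𝟙 _) (𝟙 S) (Category.comp_id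 _) ((Category.comp_id _).trans (Category.id_comp _).symm)) t = ∑ᶠ t' ∈ {t' : ↥(pullback p (Spec.map (CommRingCat.ofHom (algebraMap R (FractionRing R))) ≫ x)) | (pullback.map p (Spec.map (CommRingCat.ofHom (algebraMap R (FractionRing R))) ≫ x) p x (𝟙 X) (Spec.map (CommRingCat.ofHom (algebraMap R (FractionRing R)))) (𝟙 S) ((Category.comp_id _).trans (Category.id_comp _).symm) (Category.comp_id _)) t' = t}, Cyc.subschemeFun (fun _ => (0 : ℤ)) 0 (pullback.map (ι ≫ p) (Spec.map (CommRingCat.ofHom (algebraMap R (FractionRing R))) ≫ x) p (Spec.map (CommRingCat.ofHom (algebraMap R (FractionRing R))) ≫ x) ι (𝟙 _) (𝟙 S) (Category.comp_id _) ((Category.comp_id _).trans (Category.id_comp _).symm)) t' := by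
  classical
  set f := ι ≫ p with hf
  set i₀ := Spec.map (CommRingCat.ofHom (algebraMap R (FractionRing R))) with hi₀
  haveI : IsOpenImmersion i₀ := Groth.Agent.H8Res.isOpenImmersion_fractionRing R
  set jZ := pullback.map f (i₀ ≫ x) f x (𝟙 Z) i₀ (𝟙 S) ((Category.comp_id _).trans (Category.id_comp _).symm) (Category.comp_id _) with hjZ
  haveI : IsOpenImmersion jZ := by rw [hjZ]; infer_instance
  haveI : IsLocallyNoetherian (pullback f x) := LocallyOfFiniteType.isLocallyNoetherian (pullback.snd f x)
  haveI : CompactSpace ↥(pullback f x) := QuasiCompact.compactSpace_of_compactSpace (pullback.snd f x)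
  haveI : IsNoetherian (pullback f x) := ⟨⟩
  haveI : QuasiCompact jZ := inferInstance
  haveI : IsLocallyNoetherian jZ.ker.subscheme := LocallyOfFiniteType.isLocallyNoetherian jZ.ker.subschemeι
  set mR := pullback.map f x p x ι (𝟙 _) (𝟙 S) (Category.comp_id _) ((Category.comp_id _).trans (Category.id_comp _).symm) with hmR
  set mK := pullback.map f (i₀ ≫ x) p (i₀ ≫ x) ι (𝟙 _) (𝟙 S) (Category.comp_id _) ((Category.comp_id _).trans (Category.id_comp _).symm) with hmK
  set jX := pullback.map p (i₀ ≫ x) p x (𝟙 X) i₀ (𝟙 S) ((Category.comp_id _).trans (Category.id_comp _).symm) (Category.comp_id _) with hjX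
  haveI : IsOpenImmersion jX := by rw [hjX]; infer_instance
  haveI : IsClosedImmersion mR := by
    rw [hmR]
    exact MorphismProperty.pullback_map (P := @IsClosedImmersion) (inferInstance : IsClosedImmersion ι) (inferInstance : IsClosedImmersion (𝟙 _)) (Category.comp_id _) ((Category.comp_id _).trans (Category.id_comp _).symm)
  haveI : IsClosedImmersion mK := by
    rw [hmK]
    exact MorphismProperty.pullback_map (P := @IsClosedImmersion) (inferInstance : IsClosedImmersion ι) (inferInstance : IsClosedImmersion (𝟙 _)) (Category.comp_id _) ((Category.comp_id _).trans (Category.id_comp _).symm)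
  let g : pullback f (i₀ ≫ x) ⟶ jZ.ker.subscheme := jZ.toImage
  haveI : IsOpenImmersion g := by show IsOpenImmersion jZ.toImage; infer_instance
  have hg : g ≫ jZ.ker.subschemeι = jZ := jZ.toImage_imageι
  let F := jZ.ker.subschemeι ≫ mR
  haveI : IsClosedImmersion F := inferInstance
  have hsq : jZ ≫ mR = mK ≫ jX := by
    rw [hjZ, hmR, hmK, hjX]
    apply pullback.hom_ext <;> simp
  have hFg : g ≫ F = mK ≫ jX := ((Category.assoc _ _ _).symm.trans (congrArg (· ≫ mR) hg)).trans hsq
  have hlen : ∀ z : jZ.ker.subscheme, (Module.length (jZ.ker.subscheme.presheaf.stalk z) (jZ.ker.subscheme.presheaf.stalk z)).toNat ≠ 0 → z ∈ Set.range g := by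
    intro z hz
    have hfin : Module.length (jZ.ker.subscheme.presheaf.stalk z) (jZ.ker.subscheme.presheaf.stalk z) ≠ ⊤ := fun h => hz (by rw [h]; rfl)
    haveI : IsFiniteLength (jZ.ker.subscheme.presheaf.stalk z) (jZ.ker.subscheme.presheaf.stalk z) := Module.length_ne_top_iff.1 hfin
    haveI : IsArtinianRing (jZ.ker.subscheme.presheaf.stalk z) := (isFiniteLength_iff_isNoetherian_isArtinian.1 ‹_›).2
    have hmax : ∀ w, w ⤳ z → w = z := fun w hw => by
      obtain ⟨P, rfl⟩ := Groth.Agent.CycLim28.exists_fromSpecStalk_eq hw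
      rw [show P = IsLocalRing.closedPoint _ from PrimeSpectrum.ext (IsLocalRing.eq_maximalIdeal (IsArtinianRing.isMaximal_of_isPrime P.asIdeal)), Scheme.fromSpecStalk_closedPoint]
    obtain ⟨U, hzU, hU⟩ := Groth.Agent.CycLib28.exists_nhd_maximal z
    obtain ⟨w, hwU, hwg⟩ := (show DenseRange g from jZ.toImage.denseRange).exists_mem_open U.2 ⟨z, hzU⟩ |>.elim fun a ha => (⟨g a, ha, a, rfl⟩ : ∃ w, w ∈ U ∧ w ∈ Set.range g)
    obtain ⟨m, hm, hmm⟩ := Groth.Agent.CycLib28.exists_maximal_specializes w
    have hmz : m = z := hmax m (hU m (hm.mem_open U.2 hwU) hmm)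
    exact hmz ▸ hm.mem_open g.opensRange.2 hwg
  have hlg : ∀ z', Module.length (jZ.ker.subscheme.presheaf.stalk (g z')) (jZ.ker.subscheme.presheaf.stalk (g z')) = Module.length ((pullback f (i₀ ≫ x)).presheaf.stalk z') ((pullback f (i₀ ≫ x)).presheaf.stalk z') := fun z' => by
    let e := (asIso (g.stalkMap z')).commRingCatIsoToRingEquiv
    letI := e.toRingHom.toAlgebra
    rw [← Module.length_eq_of_surjective (S := jZ.ker.subscheme.presheaf.stalk (g z')) (R := (pullback f (i₀ ≫ x)).presheaf.stalk z') (M := (pullback f (i₀ ≫ x)).presheaf.stalk z') e.surjective]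
    exact (AlgEquiv.ofRingEquiv (R := jZ.ker.subscheme.presheaf.stalk (g z')) (f := e) fun _ => rfl).toLinearEquiv.length_eq
  show Cyc.subschemeFun (fun _ => (0 : ℤ)) 0 F t = ∑ᶠ t' ∈ {t' | jX t' = t}, Cyc.subschemeFun (fun _ => (0 : ℤ)) 0 mK t'
  simp only [Cyc.subschemeFun, if_true]
  by_cases ht : ∃ z', jX (mK z') = t
  · obtain ⟨z', hz'⟩ := ht
    have hF : F (g z') = t := by rw [← hz', ← Scheme.Hom.comp_apply, hFg]; rfl
    have e1 : {z | F z = t} = {g z'} := Set.ext fun z => ⟨fun h => F.isClosedEmbedding.injective (h.trans hF.symm), fun h => h ▸ hF⟩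
    have e2 : {t' | jX t' = t} = {mK z'} := Set.ext fun a => ⟨fun h => jX.isOpenEmbedding.injective (h.trans hz'.symm), fun h => h ▸ hz'⟩
    have e3 : {z | mK z = mK z'} = {z'} := Set.ext fun z => ⟨fun h => mK.isClosedEmbedding.injective h, fun h => h ▸ rfl⟩
    rw [e1, finsum_mem_singleton, e2, finsum_mem_singleton, e3, finsum_mem_singleton, hlg]
  · push Not at ht
    rw [finsum_mem_eq_zero_of_forall_eq_zero fun z hz => ?_, finsum_mem_eq_zero_of_forall_eq_zero fun a ha => finsum_mem_eq_zero_of_forall_eq_zero fun z' hz' => absurd (show jX (mK z') = t by rw [show mK z' = a from hz']; exact ha) (ht z')]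
    by_contra hne
    obtain ⟨z', rfl⟩ := hlen z (fun h => hne (by rw [h]; rfl))
    refine ht z' ?_
    rw [← Scheme.Hom.comp_apply, ← hFg]
    exact hz

end Groth.Agent.S13744
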