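import Groth.Statements.S13746
import Groth.Agent.FlatMorDVR.Reduced
import Groth.Agent.CubeLib.GlobalSec
import Mathlib.AlgebraicGeometry.Morphisms.Proper

set_option autoImplicit false
universe u
open CategoryTheory AlgebraicGeometry
open SemiFact CategoryTheory.Limits TopologicalSpace
open scoped TensorProduct

set_option backward.isDefEq.respectTransparency false

namespace Groth.Agent.S13746

theorem isIso_app_of_le {X X' : Scheme.{u}} (π : X' ⟶ X) (W : X.Opens) [IsIso (π ∣_ W)] {D : X.Opens}
    (hD : D ≤ W) : IsIso (π.app D) := by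
  have h := (inferInstance : IsIso ((π ∣_ W).app (W.ι ⁻¹ᵁ D)))
  rw [morphismRestrict_app] at h
  have := h
  have hi : IsIso (π.app (W.ι ''ᵁ (W.ι ⁻¹ᵁ D))) := IsIso.of_isIso_comp_right _
    (X'.presheaf.map (eqToHom (image_morphismRestrict_preimage π W (W.ι ⁻¹ᵁ D))).op)
  have e : W.ι ''ᵁ (W.ι ⁻¹ᵁ D) = D := by
    rw [Scheme.Hom.image_preimage_eq_opensRange_inf, Scheme.Opens.opensRange_ι, inf_eq_right.2 hD]
  rwa [e] at hi

variable {R : Type u} [CommRing R] [IsDomain R] [IsDiscreteValuationRing R]

theorem regular_of_flat {C : CommRingCat.{u}} (φ : CommRingCat.of R ⟶ C) [Flat (Spec.map φ)]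
    {r : R} (hr : r ≠ 0) : IsLeftRegular (φ r) := by
  have h : φ.hom.Flat := (HasRingHomProperty.Spec_iff (P := @Flat)).mp inferInstance
  algebraize [φ.hom]
  intro a b hab
  refine Module.Flat.isSMulRegular_of_nonZeroDivisors (R := R) (M := C) (r := r)
    (mem_nonZeroDivisors_of_ne_zero hr) ?_
  simpa [Algebra.smul_def, RingHom.algebraMap_toAlgebra] using hab

theorem radical_of_reduced_fibre {X : Scheme.{u}} (f : X ⟶ Spec (CommRingCat.of R))
    (hred : IsReduced (f.fiber (IsLocalRing.closedPoint R))) {U : X.Opens} (hU : IsAffineOpen U)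
    (φ : CommRingCat.of R ⟶ Γ(X, U)) (hφ : Spec.map φ = hU.fromSpec ≫ f) {π : R} (hπ : Irreducible π) :
    (Ideal.span {φ π}).IsRadical := by
  let j := hU.fromSpec
  letI : Algebra R Γ(X, U) := φ.hom.toAlgebra
  have hgalg : j ≫ f = Spec.map (CommRingCat.ofHom (algebraMap R Γ(X, U))) := hφ.symm
  haveI : _root_.IsReduced ((IsLocalRing.closedPoint R).asIdeal.ResidueField ⊗[R] Γ(X, U)) := by
    let s := IsLocalRing.closedPoint R
    let m : (Spec.map (CommRingCat.ofHom (algebraMap R Γ(X, U)))).fiber s ⟶ f.fiber s :=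
      pullback.map _ ((Spec (.of R)).fromSpecResidueField s) f
        ((Spec (.of R)).fromSpecResidueField s) j (𝟙 _) (𝟙 _)
        (by rw [← hgalg]; simp) (by simp)
    haveI : IsOpenImmersion m := MorphismProperty.pullbackMap (P := @IsOpenImmersion.{u})
      (inferInstance : IsOpenImmersion j) (inferInstance : IsOpenImmersion (𝟙 _)) (by
        rw [← hgalg]) (by simp)
    haveI := hred
    have hm' := isReduced_of_isOpenImmersion m
    haveI : IsReduced (Spec (CommRingCat.of (s.asIdeal.ResidueField ⊗[R] Γ(X, U)))) :=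
      haveI : IsReduced (Arrow.leftFunc.obj (Arrow.mk
        ((Spec.map (CommRingCat.ofHom (algebraMap R Γ(X, U)))).fiberToSpecResidueField s))) := hm'
      isReduced_of_isOpenImmersion
        (Arrow.leftFunc.mapIso (Spec.fiberToSpecResidueFieldIso R Γ(X, U) s)).inv
    exact (affine_isReduced_iff _).mp this
  exact FlatMorDVR.isRadical_span_of_isReduced_fiber hπ

/-- The algebraic step. -/
theorem mem_range_of_isIntegralElem {A B : Type u} [CommRing A] [CommRing B] (p : A →+* B)
    (hp : Function.Injective p) {t : A} (ht : IsLeftRegular (p t)) (hrad : (Ideal.span {t}).IsRadical) :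
    ∀ (m : ℕ) (b : B) (a : A), p.IsIntegralElem b → p t ^ m * b = p a → ∃ c, p c = b := by
  intro m
  induction m with
  | zero => intro b a _ h; exact ⟨a, by rw [← h, pow_zero, one_mul]⟩
  | succ m ih =>
    intro b a hb h
    obtain ⟨P, hP, hPb⟩ := hb
    have hmem : a ^ P.natDegree ∈ Ideal.span {t} := by
      refine Ideal.mem_span_singleton'.mpr ⟨-∑ i ∈ Finset.range P.natDegree,
        P.coeff i * a ^ i * t ^ ((m + 1) * (P.natDegree - i) - 1), hp ?_⟩
      rw [Polynomial.eval₂_eq_sum_range, Finset.sum_range_succ, hP.coeff_natDegree, map_one, one_mul] at hPb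
      have e := congrArg (fun x => p t ^ ((m + 1) * P.natDegree) * x) hPb
      simp only [mul_add, Finset.mul_sum, mul_zero] at e
      rw [pow_mul, ← mul_pow, h] at e
      rw [map_mul, map_neg, map_sum, neg_mul, Finset.sum_mul, map_pow]
      refine (neg_eq_of_add_eq_zero_right ?_)
      refine Eq.trans ?_ e
      congr 1
      refine Finset.sum_congr rfl fun i hi => ?_
      have hi' : i < P.natDegree := Finset.mem_range.mp hi
      obtain ⟨d, hd⟩ : ∃ d, P.natDegree = i + (d + 1) := ⟨P.natDegree - i - 1, by omega⟩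
      rw [hd, show i + (d + 1) - i = d + 1 by omega, pow_add]
      have e1 : (m + 1) * (d + 1) - 1 + 1 = (m + 1) * (d + 1) :=
        Nat.sub_add_cancel (Nat.one_le_iff_ne_zero.mpr (by positivity))
      simp only [map_mul, map_pow, ← h, mul_pow, ← pow_mul]
      rw [show (p t) ^ ((m + 1) * (d + 1)) = (p t) ^ ((m + 1) * (d + 1) - 1) * p t by
        rw [← pow_succ, e1]]
      ring
    obtain ⟨a', ha'⟩ := Ideal.mem_span_singleton'.mp (hrad ⟨_, hmem⟩)
    refine ih b a' ⟨P, hP, hPb⟩ (ht ?_)
    show p t * (p t ^ m * b) = p t * p a'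
    rw [← mul_assoc, ← pow_succ', h, ← map_mul, mul_comm, ha']

/-- Let R be a discrete valuation ring with fraction field K, let X and Y be schemes flat over Spec R
and let π : Y → X be a proper morphism over Spec R whose base change along Spec K → Spec R is an
isomorphism. If the fibre of X over the closed point of Spec R is reduced, then the canonical map
O_X → π_* O_Y is an isomorphism: for every open V ⊆ X the ring map O_X(V) → O_Y(π⁻¹ V) is bijective. -/
theorem result
    (R : Type u) [CommRing R] [IsDomain R] [IsDiscreteValuationRing R]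
    (X Y : Over (Spec (CommRingCat.of R))) [Flat X.hom] [Flat Y.hom]
    (π : Y ⟶ X) [IsProper π.left]
    (hgen : IsIso ((Neron.genericFibre R).map π))
    [IsReduced (X.hom.fiber (IsLocalRing.closedPoint R))] :
    ∀ V : X.left.Opens, IsIso (π.left.app V) := by
  classical
  intro V
  rw [ConcreteCategory.isIso_iff_bijective]
  refine CubeLib.bijective_app_of_affine π.left (fun V hV => ?_) V
  obtain ⟨π₀, hπ₀⟩ := IsDiscreteValuationRing.exists_irreducible R
  -- the generic point
  haveI : IsLocalization.Away π₀ (FractionRing R) := by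
    have hne : ∀ {r : R}, r ≠ 0 → algebraMap R (FractionRing R) r ≠ 0 := fun {r} hr h =>
      hr ((map_eq_zero_iff _ (IsFractionRing.injective R _)).mp h)
    refine (isLocalization_iff _ _).mpr ⟨?_, ?_, ?_⟩
    · rintro ⟨_, n, rfl⟩
      exact (isUnit_iff_ne_zero.mpr (hne (pow_ne_zero n hπ₀.ne_zero)))
    · intro z
      obtain ⟨⟨a, ⟨b, hb⟩⟩, hab⟩ := IsLocalization.surj (nonZeroDivisors R) z
      obtain ⟨n, u, hu⟩ := IsDiscreteValuationRing.eq_unit_mul_pow_irreducible
        (nonZeroDivisors.ne_zero hb) hπ₀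
      refine ⟨⟨((u⁻¹ : Rˣ) : R) * a, ⟨π₀ ^ n, n, rfl⟩⟩, ?_⟩
      dsimp only at hab ⊢
      have hu1 : algebraMap R (FractionRing R) ((u⁻¹ : Rˣ) : R) *
          algebraMap R (FractionRing R) (u : R) = 1 := by
        rw [← map_mul, Units.inv_mul, map_one]
      rw [map_mul, ← hab, hu, map_mul]
      linear_combination -(z * algebraMap R (FractionRing R) (π₀ ^ n)) * hu1
    · intro a b h
      exact ⟨1, by rw [IsFractionRing.injective R _ h]⟩
  haveI : IsOpenImmersion (Neron.genPt R) := IsOpenImmersion.of_isLocalization (S := FractionRing R) π₀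
  let i := pullback.fst X.hom (Neron.genPt R)
  haveI : IsOpenImmersion i := MorphismProperty.pullback_fst _ _ inferInstance
  haveI hπW : IsIso (π.left ∣_ i.opensRange) := by
    have h1 : IsIso (((Neron.genericFibre R).map π).left) :=
      haveI := hgen
      inferInstanceAs (IsIso ((Over.forget _).map ((Neron.genericFibre R).map π)))
    let e : pullback π.left i ≅ pullback Y.hom (Neron.genPt R) :=
      pullbackRightPullbackFstIso X.hom (Neron.genPt R) π.left ≪≫ pullback.congrHom (Over.w π) rfl
    have he : pullback.snd π.left i = e.hom ≫ ((Neron.genericFibre R).map π).left := by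
      apply pullback.hom_ext
      · simp only [e, Neron.genericFibre, Iso.trans_hom, Category.assoc, Over.pullback_map_left,
          pullback.congrHom_hom, pullback.map, pullback.lift_fst, pullback.lift_fst_assoc, i, Category.comp_id,
          pullbackRightPullbackFstIso_hom_fst_assoc]
        exact pullback.condition.symm
      · simp only [e, Neron.genericFibre, Iso.trans_hom, Category.assoc, Over.pullback_map_left,
          pullback.congrHom_hom, pullback.map, pullback.lift_snd, pullback.lift_snd_assoc, Category.comp_id,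
          pullbackRightPullbackFstIso_hom_snd, i]
    have : IsIso (pullback.snd π.left i) := he ▸ inferInstance
    exact ((MorphismProperty.isomorphisms Scheme.{u}).arrow_mk_iso_iff
      (morphismRestrictOpensRange π.left i)).mpr this
  obtain ⟨φ, hφ⟩ := Spec.map_surjective (hV.fromSpec ≫ X.hom)
  let t := φ π₀
  have hrad := radical_of_reduced_fibre X.hom inferInstance hV φ hφ hπ₀
  have htX : IsLeftRegular t := by
    haveI : Flat (Spec.map φ) := hφ ▸ inferInstance
    exact regular_of_flat φ hπ₀.ne_zero
  have hDW : X.left.basicOpen t ≤ i.opensRange := by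
    intro x hx
    have hxV : x ∈ V := X.left.basicOpen_le _ hx
    obtain ⟨q, rfl⟩ : x ∈ Set.range hV.fromSpec := by rw [hV.range_fromSpec]; exact hxV
    have hq : q ∈ PrimeSpectrum.basicOpen t := by
      rw [← hV.fromSpec_preimage_basicOpen t]; exact hx
    show hV.fromSpec q ∈ Set.range i
    rw [Scheme.Pullback.range_fst]
    show X.hom (hV.fromSpec q) ∈ Set.range (Neron.genPt R)
    have e : X.hom (hV.fromSpec q) = PrimeSpectrum.comap φ.hom q := by
      show (hV.fromSpec ≫ X.hom) q = _
      rw [← hφ]; rfl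
    rw [e]
    show _ ∈ Set.range (PrimeSpectrum.comap (algebraMap R (FractionRing R)))
    rw [PrimeSpectrum.localization_away_comap_range (FractionRing R) π₀]
    exact hq
  haveI := isIso_app_of_le π.left i.opensRange hDW
  -- sections of `Y` have no torsion
  have key : ∀ b : Γ(Y.left, π.left ⁻¹ᵁ V),
      Y.left.presheaf.map (homOfLE ((Opens.map π.left.base).monotone (X.left.basicOpen_le t))).op b = 0 → b = 0 := by
    intro b hb
    refine TopCat.Sheaf.eq_of_locally_eq' Y.left.sheaf
      (fun W : {W : Y.left.affineOpens // W.1 ≤ π.left ⁻¹ᵁ V} => W.1.1) (π.left ⁻¹ᵁ V)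
      (fun W => homOfLE W.2) (fun x hx => by
        obtain ⟨W, hW, hxW, hWV⟩ := exists_isAffineOpen_mem_and_subset (x := x) (U := π.left ⁻¹ᵁ V) hx
        exact Opens.mem_iSup.2 ⟨⟨⟨W, hW⟩, hWV⟩, hxW⟩) b 0 fun ⟨⟨W, hW⟩, hWV⟩ => ?_
    rw [map_zero]
    show Y.left.presheaf.map (homOfLE hWV).op b = 0
    let ψ := φ ≫ π.left.appLE V W hWV
    haveI : Flat (Spec.map ψ) := by
      have : Spec.map ψ = hW.fromSpec ≫ Y.hom := by
        rw [Spec.map_comp, hφ, ← Category.assoc, hV.SpecMap_appLE_fromSpec π.left hW hWV, Category.assoc, Over.w]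
      rw [this]; infer_instance
    have hreg := regular_of_flat ψ hπ₀.ne_zero
    haveI := hW.isLocalization_basicOpen (ψ π₀)
    have hle : Y.left.basicOpen (ψ π₀) ≤ π.left ⁻¹ᵁ X.left.basicOpen t := by
      show Y.left.basicOpen (π.left.appLE V W hWV t) ≤ _
      rw [Scheme.Hom.appLE, CommRingCat.comp_apply, Scheme.basicOpen_res, Scheme.preimage_basicOpen]
      exact inf_le_right
    have h0 : algebraMap Γ(Y.left, W) Γ(Y.left, Y.left.basicOpen (ψ π₀))
        (Y.left.presheaf.map (homOfLE hWV).op b) = 0 := by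
      show Y.left.presheaf.map (homOfLE (Y.left.basicOpen_le _)).op (Y.left.presheaf.map (homOfLE hWV).op b) = 0
      have h1 := congrArg (Y.left.presheaf.map (homOfLE hle).op) hb
      rw [map_zero] at h1
      rw [← h1, ← ConcreteCategory.comp_apply, ← ConcreteCategory.comp_apply, ← Functor.map_comp, ← Functor.map_comp]
      rfl
    obtain ⟨⟨_, n, rfl⟩, hn⟩ := (IsLocalization.map_eq_zero_iff (Submonoid.powers (ψ π₀)) _ _).mp h0
    exact (hreg.pow n) (hn.trans (mul_zero _).symm)
  have hnat : ∀ a, π.left.app (X.left.basicOpen t) (X.left.presheaf.map (homOfLE (X.left.basicOpen_le t)).op a) =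
      Y.left.presheaf.map (homOfLE ((Opens.map π.left.base).monotone (X.left.basicOpen_le t))).op (π.left.app V a) :=
    fun a => congr($(π.left.naturality (homOfLE (X.left.basicOpen_le t)).op) a)
  haveI := hV.isLocalization_basicOpen t
  have hbij := ConcreteCategory.bijective_of_isIso (π.left.app (X.left.basicOpen t))
  have hinj : Function.Injective (π.left.app V) := by
    rw [injective_iff_map_eq_zero]
    intro a ha
    have h1 : algebraMap Γ(X.left, V) Γ(X.left, X.left.basicOpen t) a = 0 :=
      hbij.1 ((hnat a).trans (by rw [ha, map_zero, map_zero]))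
    obtain ⟨⟨_, n, rfl⟩, hn⟩ := (IsLocalization.map_eq_zero_iff (Submonoid.powers t) _ _).mp h1
    exact (htX.pow n) (hn.trans (mul_zero _).symm)
  refine ⟨hinj, fun b => ?_⟩
  obtain ⟨c, hc⟩ := hbij.2
    (Y.left.presheaf.map (homOfLE ((Opens.map π.left.base).monotone (X.left.basicOpen_le t))).op b)
  obtain ⟨⟨a, ⟨_, m, rfl⟩⟩, hm⟩ := IsLocalization.surj (Submonoid.powers t) c
  have hint : (π.left.app V).hom.IsIntegral := by
    haveI : IsAffine (V : Scheme.{u}) := hV
    have h1 := isIntegral_appTop_of_universallyClosed (π.left ∣_ V)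
    rw [Scheme.Hom.appTop, morphismRestrict_app] at h1
    have e : V.ι ''ᵁ ⊤ = V := by simp
    have h2 : (π.left.app (V.ι ''ᵁ ⊤)).hom.IsIntegral :=
      RingHom.isIntegral_respectsIso.cancel_right_isIso (π.left.app (V.ι ''ᵁ ⊤)) _ |>.mp h1
    rwa [e] at h2
  have htY : IsLeftRegular (π.left.app V t) := fun x y hxy => sub_eq_zero.mp (key _ (by
    have h1 : π.left.app V t * (x - y) = 0 := by rw [mul_sub, sub_eq_zero]; exact hxy
    have h2 := congrArg (Y.left.presheaf.map (homOfLE ((Opens.map π.left.base).monotone (X.left.basicOpen_le t))).op) h1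
    rw [map_mul, map_zero, ← hnat] at h2
    have hu : IsUnit (π.left.app (X.left.basicOpen t)
        (X.left.presheaf.map (homOfLE (X.left.basicOpen_le t)).op t)) :=
      (RingedSpace.isUnit_res_basicOpen _ t).map _
    exact hu.mul_right_eq_zero.mp h2))
  refine mem_range_of_isIntegralElem (π.left.app V).hom hinj htY hrad m b a (hint b) (sub_eq_zero.mp (key _ ?_))
  rw [map_sub, sub_eq_zero, map_mul, map_pow]
  have h3 := congrArg (π.left.app (X.left.basicOpen t)) hm
  rw [map_mul, hc] at h3
  have h4 : π.left.app (X.left.basicOpen t) (algebraMap Γ(X.left, V) Γ(X.left, X.left.basicOpen t) (t ^ m)) =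
      Y.left.presheaf.map (homOfLE ((Opens.map π.left.base).monotone (X.left.basicOpen_le t))).op (π.left.app V t) ^ m := by
    rw [map_pow, map_pow, ← hnat]; rfl
  rw [h4, mul_comm] at h3
  exact h3.trans (hnat a)

end Groth.Agent.S13746
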