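import Groth.Statements.S13749
import Groth.Prelude
import Groth.Agent.NeronSp27.SpreadDense
-- import your own Groth.Agent.* helpers here

set_option autoImplicit false
set_option linter.style.haveILetI false
set_option backward.isDefEq.respectTransparency.types false
universe u
open CategoryTheory AlgebraicGeometry
open Neron

namespace Groth.Agent.S13749

open CategoryTheory CategoryTheory.Limits MonObj AlgebraicGeometry in
open Groth.Agent in
/-- Let S be a locally Noetherian scheme, U ⊆ S a schematically dense open subscheme, N → S a smooth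
separated morphism of finite type and g : S' → S a flat surjective morphism, and put U' = g⁻¹(U).
Suppose the base change N ×_S S' → S' has the Néron mapping property with respect to U': for every
smooth S'-scheme Y', sending an S'-morphism Y' → N ×_S S' to its restriction over U' is a bijection
onto the U'-morphisms Y' ×_{S'} U' → (N ×_S S') ×_{S'} U'. Then N → S has the Néron mapping property
with respect to U: for every smooth S-scheme Y, restriction to U is a bijection from S-morphisms Y →
N onto U-morphisms Y ×_S U → N ×_S U. (The published statement is for an arbitrary base S and open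
U, with N an algebraic space which is a model of an abelian scheme over U, tested against smooth
schemes; this row takes N a scheme, drops the abelian-scheme hypothesis, and assumes S locally
Noetherian with U schematically dense, the setting in which schematic closures of U-sections commute
with flat base change and fill S'.) -/
theorem result
    {S S' : Scheme.{u}} [IsLocallyNoetherian S] (g : S' ⟶ S) [Flat g] [Surjective g]
    (U : S.Opens) (hU : CInt.IsSchematicallyDense U)
    (N : Over S) [Smooth N.hom] [IsSeparated N.hom] [QuasiCompact N.hom]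
    (hN' : ∀ Y' : Over S', Smooth Y'.hom →
      Function.Bijective (fun f : Y' ⟶ (Over.pullback g).obj N => (Over.pullback (g ⁻¹ᵁ U).ι).map f))
    (Y : Over S) [Smooth Y.hom] :
    Function.Bijective (fun f : Y ⟶ N => (Over.pullback U.ι).map f) := by
  haveI := hN'
  let U' := g ⁻¹ᵁ U
  refine ⟨fun f f' h => ?_, fun fU => ?_⟩
  · change (Over.pullback U.ι).map f = (Over.pullback U.ι).map f' at h
    let Y' := (Over.pullback g).obj Y
    haveI : Smooth Y'.hom := MorphismProperty.pullback_snd (P := @Smooth) Y.hom g inferInstance
    have hU' : U'.ι ≫ g = (g ∣_ U) ≫ U.ι := (morphismRestrict_ι g U).symm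
    have e : (Over.pullback g).map f = (Over.pullback g).map f' := (hN' Y' inferInstance).1 (by
      apply Over.OverMorphism.ext
      refine pullback.hom_ext ?_ ?_
      swap
      · exact (pullback.lift_snd _ _ _).trans (pullback.lift_snd _ _ _).symm
      refine (pullback.lift_fst _ _ _).trans (Eq.trans ?_ (pullback.lift_fst _ _ _).symm)
      refine pullback.hom_ext ?_ ?_
      swap
      · refine (Category.assoc _ _ _).trans (Eq.trans ?_ (Category.assoc _ _ _).symm)
        exact congrArg (pullback.fst Y'.hom U'.ι ≫ ·) ((pullback.lift_snd _ _ _).trans (pullback.lift_snd _ _ _).symm)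
      let t : pullback Y'.hom U'.ι ⟶ pullback Y.hom U.ι :=
        pullback.lift (pullback.fst Y'.hom U'.ι ≫ pullback.fst Y.hom g) (pullback.snd Y'.hom U'.ι ≫ (g ∣_ U)) (by
          rw [Category.assoc, pullback.condition, Category.assoc, ← hU', ← pullback.condition_assoc]
          rfl)
      have h1 := t ≫= congrArg (fun m => m.left ≫ pullback.fst N.hom U.ι) h
      have ef : ∀ m : Y ⟶ N, t ≫ ((Over.pullback U.ι).map m).left ≫ pullback.fst N.hom U.ι =
          (pullback.fst Y'.hom U'.ι ≫ ((Over.pullback g).map m).left) ≫ pullback.fst N.hom g := fun m => by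
        refine ((congrArg (t ≫ ·) (pullback.lift_fst _ _ _)).trans ?_).trans
          (((congrArg (pullback.fst Y'.hom U'.ι ≫ ·) (pullback.lift_fst _ _ _)).symm).trans
            (Category.assoc _ _ _).symm)
        rw [← Category.assoc, pullback.lift_fst, Category.assoc]
      exact (ef f).symm.trans (h1.trans (ef f')))
    haveI := Flat.epi_of_flat_of_surjective (pullback.fst Y.hom g)
    apply Over.OverMorphism.ext
    rw [← cancel_epi (pullback.fst Y.hom g)]
    have h2 := congrArg (fun m => m.left ≫ pullback.fst N.hom g) e
    exact (pullback.lift_fst _ _ _).symm.trans (h2.trans (pullback.lift_fst _ _ _))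
  · let Y' := (Over.pullback g).obj Y
    haveI : Smooth Y'.hom := MorphismProperty.pullback_snd (P := @Smooth) Y.hom g inferInstance
    have hU' : U'.ι ≫ g = (g ∣_ U) ≫ U.ι := (morphismRestrict_ι g U).symm
    let O : Y.left.Opens := Y.hom ⁻¹ᵁ U
    let j : O.toScheme ⟶ pullback Y.hom U.ι := pullback.lift O.ι (Y.hom ∣_ U) (morphismRestrict_ι Y.hom U).symm
    let φ : O.toScheme ⟶ N.left := j ≫ fU.left ≫ pullback.fst N.hom U.ι
    have hfU : fU.left ≫ pullback.snd N.hom U.ι = pullback.snd Y.hom U.ι := Over.w fU
    have hφ : φ ≫ N.hom = O.ι ≫ Y.hom := by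
      simp only [φ, j, Category.assoc]
      rw [pullback.condition, reassoc_of% hfU, pullback.lift_snd_assoc, morphismRestrict_ι]
    let t : pullback Y'.hom U'.ι ⟶ pullback Y.hom U.ι :=
      pullback.lift (pullback.fst Y'.hom U'.ι ≫ pullback.fst Y.hom g) (pullback.snd Y'.hom U'.ι ≫ (g ∣_ U)) (by
        rw [Category.assoc, pullback.condition, Category.assoc, ← hU', ← pullback.condition_assoc]
        rfl)
    have hcond : (t ≫ fU.left ≫ pullback.fst N.hom U.ι) ≫ N.hom = (pullback.snd Y'.hom U'.ι ≫ U'.ι) ≫ g := by
      simp only [Category.assoc, t]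
      rw [pullback.condition (f := N.hom) (g := U.ι), reassoc_of% hfU, pullback.lift_snd_assoc, Category.assoc, hU']
    let m : (Over.pullback U'.ι).obj Y' ⟶ (Over.pullback U'.ι).obj ((Over.pullback g).obj N) :=
      Over.homMk (pullback.lift (pullback.lift (t ≫ fU.left ≫ pullback.fst N.hom U.ι)
        (pullback.snd Y'.hom U'.ι ≫ U'.ι) hcond) (pullback.snd Y'.hom U'.ι) (pullback.lift_snd _ _ _))
        (pullback.lift_snd _ _ _)
    obtain ⟨f', hf'⟩ := (hN' Y' inferInstance).2 m
    change (Over.pullback U'.ι).map f' = m at hf'
    let k : Y'.left ⟶ N.left := f'.left ≫ pullback.fst N.hom g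
    have hf'w : f'.left ≫ pullback.snd N.hom g = pullback.snd Y.hom g := Over.w f'
    have hk : k ≫ N.hom = pullback.fst Y.hom g ≫ Y.hom := by
      simp only [k, Category.assoc]
      rw [pullback.condition, reassoc_of% hf'w, pullback.condition]
    haveI : IsLocallyNoetherian Y.left := LocallyOfFiniteType.isLocallyNoetherian Y.hom
    obtain ⟨f, hf, hfφ⟩ := NeronSp27.exists_extend hU Y.hom N.hom (pullback.fst Y.hom g) φ hφ k hk
      (fun {T} z w hw => by
        have hw2 : (w ≫ (Y.hom ∣_ U)) ≫ U.ι = (z ≫ pullback.snd Y.hom g) ≫ g := by
          rw [Category.assoc, morphismRestrict_ι, ← Category.assoc]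
          show (w ≫ O.ι) ≫ Y.hom = _
          rw [hw, Category.assoc, Category.assoc, pullback.condition]
        let z' : T ⟶ U'.toScheme := IsOpenImmersion.lift U'.ι (z ≫ pullback.snd Y.hom g) (by
          rw [Scheme.Opens.range_ι]
          rintro _ ⟨x, rfl⟩
          show g ((z ≫ pullback.snd Y.hom g) x) ∈ U
          rw [← Scheme.Hom.comp_apply, ← hw2]
          exact ((w ≫ (Y.hom ∣_ U)) x).2)
        let zz : T ⟶ pullback Y'.hom U'.ι := pullback.lift z z' (IsOpenImmersion.lift_fac _ _ _).symm
        have e1 : zz ≫ t = w ≫ j := by
          refine pullback.hom_ext ?_ ?_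
          · simp only [t, j, Category.assoc, pullback.lift_fst]
            rw [pullback.lift_fst_assoc, hw]
          · simp only [t, j, Category.assoc, pullback.lift_snd]
            rw [pullback.lift_snd_assoc, ← cancel_mono U.ι, Category.assoc, ← hU',
              IsOpenImmersion.lift_fac_assoc, hw2]
        have e2 : pullback.fst Y'.hom U'.ι ≫ k = t ≫ fU.left ≫ pullback.fst N.hom U.ι := by
          have h3 := congrArg (fun q => q.left ≫ pullback.fst ((Over.pullback g).obj N).hom U'.ι ≫
            pullback.fst N.hom g) hf'
          refine Eq.trans ?_ (h3.trans ?_)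
          · exact ((reassoc_of% (pullback.lift_fst _ _ _ :
              ((Over.pullback U'.ι).map f').left ≫ pullback.fst ((Over.pullback g).obj N).hom U'.ι =
                pullback.fst Y'.hom U'.ι ≫ f'.left)) _).symm
          · simp only [m, Over.homMk_left]
            rw [← Category.assoc, pullback.lift_fst, pullback.lift_fst]
        have e3 : zz ≫ pullback.fst Y'.hom U'.ι = z := pullback.lift_fst _ _ _
        rw [← e3, Category.assoc, e2, ← Category.assoc, e1, Category.assoc])
    refine ⟨Over.homMk f hf, ?_⟩
    apply Over.OverMorphism.ext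
    refine pullback.hom_ext ?_ ((pullback.lift_snd _ _ _).trans hfU.symm)
    refine (pullback.lift_fst _ _ _).trans ?_
    show pullback.fst Y.hom U.ι ≫ f = fU.left ≫ pullback.fst N.hom U.ι
    have hj : IsIso j := by
      have : j = (IsPullback.isoPullback (isPullback_morphismRestrict Y.hom U).flip).hom :=
        pullback.hom_ext ((pullback.lift_fst _ _ _).trans (IsPullback.isoPullback_hom_fst _).symm)
          ((pullback.lift_snd _ _ _).trans (IsPullback.isoPullback_hom_snd _).symm)
      rw [this]
      infer_instance
    rw [← cancel_epi j, ← Category.assoc, pullback.lift_fst]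
    exact hfφ

end Groth.Agent.S13749
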