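import Groth.Statements.S13750
import Groth.Agent.SpecStalk27.Main
-- import your own Groth.Agent.* helpers here

set_option autoImplicit false
set_option linter.style.haveILetI false
set_option backward.isDefEq.respectTransparency.types false
universe u
open CategoryTheory AlgebraicGeometry
open Neron

namespace Groth.Agent.S13750

open CategoryTheory CategoryTheory.Limits MonObj AlgebraicGeometry in
open Groth.Agent in
/-- Let S be a locally Noetherian scheme, U ⊆ S an open subscheme and N → S a smooth separated morphism
of finite type having the Néron mapping property with respect to U: for every smooth S-scheme Y,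
restriction to U is a bijection from S-morphisms Y → N onto U-morphisms Y ×_S U → N ×_S U. Let s be
a point of S and S̃ = Spec O_{S,s} → S the canonical morphism. Then N ×_S S̃ → S̃ has the Néron
mapping property with respect to the preimage Ũ of U: for every smooth S̃-scheme Ỹ, restriction to Ũ
is a bijection from S̃-morphisms Ỹ → N ×_S S̃ onto Ũ-morphisms. (The published statement is for N an
algebraic space which is a Néron model of an abelian scheme over U and also covers the strict
henselisation at a geometric point; this row is the localisation case for a scheme N, with no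
abelian-scheme hypothesis.) -/
theorem result
    {S : Scheme.{u}} [IsLocallyNoetherian S] (U : S.Opens)
    (N : Over S) [Smooth N.hom] [IsSeparated N.hom] [QuasiCompact N.hom]
    (hN : ∀ Y : Over S, Smooth Y.hom →
      Function.Bijective (fun f : Y ⟶ N => (Over.pullback U.ι).map f))
    (s : S) (Y' : Over (Spec (S.presheaf.stalk s))) [Smooth Y'.hom] :
    Function.Bijective (fun f : Y' ⟶ (Over.pullback (S.fromSpecStalk s)).obj N =>
      (Over.pullback ((S.fromSpecStalk s) ⁻¹ᵁ U).ι).map f) := by
  let j : Spec (S.presheaf.stalk s) ⟶ S := S.fromSpecStalk s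
  let V : (Spec (S.presheaf.stalk s)).Opens := j ⁻¹ᵁ U
  have hE : Groth.Agent.SpecStalk27.HasExtension U N.hom := Groth.Agent.SpecStalk27.hasExtension_of_bijective U N hN
  haveI : LocallyOfFinitePresentation N.hom := inferInstance
  haveI : LocallyOfFiniteType N.hom := inferInstance
  let eV := (isPullback_morphismRestrict Y'.hom V).flip.isoPullback
  have he1 : eV.hom ≫ pullback.fst Y'.hom V.ι = (Y'.hom ⁻¹ᵁ V).ι := IsPullback.isoPullback_hom_fst _
  have hkey : ∀ f : Y' ⟶ (Over.pullback j).obj N,
      eV.hom ≫ ((Over.pullback V.ι).map f).left ≫ pullback.fst ((Over.pullback j).obj N).hom V.ι ≫ pullback.fst N.hom j =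
        (Y'.hom ⁻¹ᵁ V).ι ≫ f.left ≫ pullback.fst N.hom j := by
    intro f
    rw [show ((Over.pullback V.ι).map f).left ≫ pullback.fst ((Over.pullback j).obj N).hom V.ι ≫ pullback.fst N.hom j =
      pullback.fst Y'.hom V.ι ≫ f.left ≫ pullback.fst N.hom j from by
        rw [← Category.assoc, show ((Over.pullback V.ι).map f).left ≫ pullback.fst ((Over.pullback j).obj N).hom V.ι =
          pullback.fst Y'.hom V.ι ≫ f.left from pullback.lift_fst _ _ _, Category.assoc], reassoc_of% he1]
  have hw : ∀ f : Y' ⟶ (Over.pullback j).obj N, (f.left ≫ pullback.fst N.hom j) ≫ N.hom = Y'.hom ≫ j := by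
    intro f
    rw [Category.assoc, pullback.condition]
    exact congrArg (· ≫ j) (Over.w f) ▸ (Category.assoc _ _ _).symm
  refine ⟨fun f₁ f₂ h => ?_, fun g => ?_⟩
  · have hU : (Y'.hom ⁻¹ᵁ V).ι ≫ f₁.left ≫ pullback.fst N.hom j = (Y'.hom ⁻¹ᵁ V).ι ≫ f₂.left ≫ pullback.fst N.hom j := by
      rw [← hkey, ← hkey]
      exact congrArg (fun g => eV.hom ≫ CommaMorphism.left g ≫ pullback.fst ((Over.pullback j).obj N).hom V.ι ≫ pullback.fst N.hom j) h
    refine Over.OverMorphism.ext (pullback.hom_ext ?_ ((Over.w f₁).trans (Over.w f₂).symm))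
    exact Groth.Agent.SpecStalk27.hom_ext_of_hasExtension hE s Y'.hom _ _ (hw f₁) (hw f₂) hU
  · have hg : (eV.hom ≫ g.left ≫ pullback.fst ((Over.pullback j).obj N).hom V.ι ≫ pullback.fst N.hom j) ≫ N.hom =
        (Y'.hom ⁻¹ᵁ V).ι ≫ Y'.hom ≫ j := by
      have e1 : pullback.fst ((Over.pullback j).obj N).hom V.ι ≫ pullback.fst N.hom j ≫ N.hom =
          pullback.snd ((Over.pullback j).obj N).hom V.ι ≫ V.ι ≫ j := by
        rw [pullback.condition]
        exact (pullback.condition_assoc (f := ((Over.pullback j).obj N).hom) (g := V.ι) j)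
      have e2 : g.left ≫ pullback.snd ((Over.pullback j).obj N).hom V.ι = pullback.snd Y'.hom V.ι := Over.w g
      simp only [Category.assoc]
      rw [e1, reassoc_of% e2, ← pullback.condition_assoc, reassoc_of% he1]
    obtain ⟨f, ⟨hf, hfU⟩, -⟩ := Groth.Agent.SpecStalk27.existsUnique_over_stalk hE s Y'.hom _ hg
    refine ⟨Over.homMk (pullback.lift f Y'.hom hf) (pullback.lift_snd _ _ _), ?_⟩
    refine Over.OverMorphism.ext (pullback.hom_ext ?_ ((pullback.lift_snd _ _ _).trans (Over.w g).symm))
    refine pullback.hom_ext ?_ ?_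
    · rw [← cancel_epi eV.hom, Category.assoc, hkey]
      simp only [Category.assoc]
      refine Eq.trans ?_ hfU
      exact congrArg (_ ≫ ·) (pullback.lift_fst _ _ _)
    · rw [Category.assoc, Category.assoc]
      show _ ≫ pullback.fst ((Over.pullback j).obj N).hom V.ι ≫ ((Over.pullback j).obj N).hom =
        _ ≫ pullback.fst ((Over.pullback j).obj N).hom V.ι ≫ ((Over.pullback j).obj N).hom
      rw [pullback.condition]
      rw [← Category.assoc, ← Category.assoc]
      exact congrArg (fun t => t ≫ V.ι) ((pullback.lift_snd _ _ _).trans (Over.w g).symm)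

end Groth.Agent.S13750
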