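import Groth.Statements.S13751
import Groth.Agent.AbExt6.Base
import Mathlib.AlgebraicGeometry.Morphisms.UniversallyOpen

set_option autoImplicit false
universe u
open CategoryTheory CategoryTheory.Limits AlgebraicGeometry MonObj
open Neron

namespace Groth.Agent.S13751

/-- Let S be a locally Noetherian scheme all of whose local rings are regular, let U ⊆ S be a dense open
subscheme and let A → S be an abelian scheme: a proper smooth group scheme over S whose geometric
fibres are connected. Then A is a Néron model of its restriction A ×_S U over S, in the sense that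
for every smooth S-scheme Y the restriction map from S-morphisms Y → A to U-morphisms Y ×_S U → A
×_S U is a bijection. (The published statement is for an abelian algebraic space over a regular base
and does not ask U to be dense; for U empty and A of positive relative dimension the identity and
the zero map of A both restrict to the empty morphism, so uniqueness fails, and the published
uniqueness argument uses density — this row takes A a scheme and U dense.) -/
theorem result
    {S : Scheme.{u}} [IsLocallyNoetherian S] (hreg : ∀ s : S, IsRegularLocalRing (S.presheaf.stalk s))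
    (U : S.Opens) (hU : Dense (U : Set S))
    (A : Over S) [GrpObj A] [IsProper A.hom] [Smooth A.hom]
    (hconn : ∀ (L : Type u) [Field L] (t : Spec (CommRingCat.of L) ⟶ S), ConnectedSpace ↑(pullback A.hom t))
    (Y : Over S) [Smooth Y.hom] :
    Function.Bijective (fun f : Y ⟶ A => (Over.pullback U.ι).map f) := by
  haveI : LocallyOfFiniteType Y.hom := inferInstance
  haveI : IsLocallyNoetherian Y.left := LocallyOfFiniteType.isLocallyNoetherian Y.hom
  have hY : ∀ y : Y.left, IsRegularLocalRing (Y.left.presheaf.stalk y) := by
    intro y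
    obtain ⟨Sa, hSa, hySa, -⟩ := exists_isAffineOpen_mem_and_subset (x := Y.hom y) (U := ⊤) trivial
    haveI : IsAffine Sa.toScheme := hSa
    haveI : IsNoetherianRing Γ(S, Sa) := IsLocallyNoetherian.component_noetherian ⟨Sa, hSa⟩
    haveI := AbExt6.isRegularRing_sections hreg hSa
    haveI : Smooth ((Y.hom ∣_ Sa) ≫ hSa.isoSpec.hom) := inferInstance
    haveI := NeronLib.isRegularLocalRing_stalk_of_smooth (R := Γ(S, Sa)) ((Y.hom ∣_ Sa) ≫ hSa.isoSpec.hom)
      (⟨y, hySa⟩ : (Y.hom ⁻¹ᵁ Sa).toScheme)
    exact IsRegularLocalRing.of_ringEquiv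
      (R := (Y.hom ⁻¹ᵁ Sa).toScheme.presheaf.stalk (⟨y, hySa⟩ : (Y.hom ⁻¹ᵁ Sa).toScheme))
      ((Y.hom ⁻¹ᵁ Sa).stalkIso ⟨y, hySa⟩).commRingCatIsoToRingEquiv
  haveI : IsReduced Y.left := NeronLib.isReduced_of_regular hY
  let W : Y.left.Opens := Y.hom ⁻¹ᵁ U
  have hW : Dense (W : Set Y.left) := hU.preimage Y.hom.isOpenMap
  let i := pullbackRestrictIsoRestrict Y.hom U
  have hi : i.inv ≫ pullback.fst Y.hom U.ι = W.ι := pullbackRestrictIsoRestrict_inv_fst _ _
  refine ⟨fun f₁ f₂ h => ?_, fun k => ?_⟩
  · refine Over.OverMorphism.ext (NeronLib.ext_of_dense A.hom _ _ ((Over.w f₁).trans (Over.w f₂).symm) W hW ?_)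
    have h1 := congrArg (fun m : (Over.pullback U.ι).obj Y ⟶ (Over.pullback U.ι).obj A =>
      i.inv ≫ m.left ≫ pullback.fst A.hom U.ι) h
    simp only [Over.pullback_map_left, pullback.lift_fst] at h1
    rw [← hi, Category.assoc, Category.assoc]
    exact h1
  · have hk : k.left ≫ pullback.snd A.hom U.ι = pullback.snd Y.hom U.ι := Over.w k
    obtain ⟨f, ⟨hf, hfW⟩, -⟩ := AbExt6.existsUnique_extend A hY Y.hom W hW (i.inv ≫ k.left ≫ pullback.fst A.hom U.ι)
      (by rw [Category.assoc, Category.assoc, pullback.condition, reassoc_of% hk, ← pullback.condition,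
        reassoc_of% hi])
    refine ⟨Over.homMk f hf, Over.OverMorphism.ext (pullback.hom_ext ?_ ?_)⟩
    · simp only [Over.pullback_map_left, pullback.lift_fst, Over.homMk_left]
      rw [← cancel_epi i.inv]
      exact (congrArg (· ≫ f) hi).trans hfW |> (Category.assoc _ _ _).symm.trans
    · simp only [Over.pullback_map_left, pullback.lift_snd, Over.homMk_left]
      exact hk.symm

end Groth.Agent.S13751
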