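import Groth.Statements.S13757
import Groth.Agent.GraphLib.Potential

set_option autoImplicit false
universe u
open LabGraph

namespace Groth.Agent.S13757

/-- Let G be a finite connected multigraph (loops and multiple edges allowed) with vertex set V, edge
set E, endpoint map E → V × V and a labelling of the edges by positive integers l. A vertex
labelling φ : V → ℤ is Cartier when l(e) divides the difference of the values of φ at the two
endpoints of every edge e; its multidegree is the vertex labelling whose value at v is the sum, over
the edge-ends at v, of (value of φ at the other endpoint − φ(v)) / l(e). Then the Cartier vertex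
labellings of multidegree zero are exactly the constant ones: the kernel of the multidegree operator
on Cartier labellings is ℤ, embedded as the constants. -/
theorem result
    {V E : Type u} [Fintype V] [Fintype E] [DecidableEq V] [DecidableEq E]
    (ends : E → V × V) (l : E → ℕ) (hl : ∀ e, 0 < l e) (hconn : LabGraph.Connected ends)
    (φ : V → ℤ) (hφ : LabGraph.IsCartier ends l φ) :
    (∀ v : V, LabGraph.mdeg ends l φ v = 0) ↔ ∀ v w : V, φ v = φ w := by
  constructor
  · intro h
    have h0 : ∑ v : V, φ v * LabGraph.mdeg ends l φ v = 0 := by simp [h]
    have key : ∀ e : E, φ (ends e).1 = φ (ends e).2 := by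
      simp only [LabGraph.mdeg, Finset.mul_sum] at h0
      rw [Finset.sum_comm] at h0
      have h1 : ∀ e : E, ∑ v : V, φ v * ((if (ends e).1 = v then (φ (ends e).2 - φ (ends e).1) / (l e : ℤ) else 0) +
          (if (ends e).2 = v then (φ (ends e).1 - φ (ends e).2) / (l e : ℤ) else 0)) =
          -((l e : ℤ) * ((φ (ends e).1 - φ (ends e).2) / (l e : ℤ)) ^ 2) := by
        intro e
        simp only [mul_add, mul_ite, mul_zero, Finset.sum_add_distrib, Finset.sum_ite_eq, Finset.mem_univ, if_true]
        obtain ⟨k, hk⟩ := hφ e
        have hl0 : (l e : ℤ) ≠ 0 := by exact_mod_cast (hl e).ne'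
        have hk' : φ (ends e).2 - φ (ends e).1 = (l e : ℤ) * -k := by linarith
        rw [hk, hk', Int.mul_ediv_cancel_left _ hl0, Int.mul_ediv_cancel_left _ hl0]
        linear_combination -k * hk
      simp only [h1, Finset.sum_neg_distrib, neg_eq_zero] at h0
      intro e
      have := (Finset.sum_eq_zero_iff_of_nonneg fun x _ => by positivity).1 h0 e (Finset.mem_univ e)
      obtain ⟨k, hk⟩ := hφ e
      have hl0 : (l e : ℤ) ≠ 0 := by exact_mod_cast (hl e).ne'
      rw [hk, Int.mul_ediv_cancel_left _ hl0, mul_eq_zero, or_iff_right hl0, pow_eq_zero_iff two_ne_zero] at this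
      rw [this, mul_zero] at hk
      linarith
    intro v w
    induction hconn.2 v w with
    | refl => rfl
    | tail _ hxy ih =>
      obtain ⟨e, he⟩ := hxy
      have := key e
      rcases he with he | he <;> rw [he] at this
      · exact ih.trans this
      · exact ih.trans this.symm
  · intro h v
    simp only [LabGraph.mdeg]
    refine Finset.sum_eq_zero fun e _ => ?_
    simp [h (ends e).1 (ends e).2]

end Groth.Agent.S13757
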