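import Groth.Statements.S13758
import Groth.Agent.GraphLib.Potential

set_option autoImplicit false
universe u
open LabGraph

namespace Groth.Agent.S13758

/-- Let G be a finite connected multigraph with vertex set V, edge set E, endpoint map E → V × V (whose
component order fixes an orientation) and positive integer edge labels l. Then the labels along
every circuit of G have greatest common divisor 1 (G is circuit-coprime) if and only if, for every
integer edge vector x, there is an integer edge vector y such that x − l·y is orthogonal to every
integer cycle: Σ_e γ(e) (x(e) − l(e) y(e)) = 0 for all γ : E → ℤ with zero boundary. (The published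
statement says that the r nonzero diagonal entries of the Smith normal form of the labelled circuit
matrix, r the first Betti number, are all equal to 1; since the fundamental circuits of a spanning
tree form a basis of the lattice of integer cycles, this is the surjectivity of x ↦ (γ ↦ Σ_e γ(e)
l(e) x(e)) from ℤ^E onto the dual of the cycle lattice, which is the condition stated here.) -/
theorem result
    {V E : Type u} [Fintype V] [Fintype E] [DecidableEq V] [DecidableEq E]
    (ends : E → V × V) (l : E → ℕ) (hl : ∀ e, 0 < l e) (hconn : LabGraph.Connected ends) :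
    LabGraph.IsCircuitCoprime ends l ↔
      ∀ x : E → ℤ, ∃ y : E → ℤ, ∀ γ : E → ℤ, (∀ v : V, LabGraph.boundary ends γ v = 0) →
        ∑ e : E, γ e * (x e - (l e : ℤ) * y e) = 0 := by
  classical
  constructor
  · intro hcop x
    obtain ⟨g, y, h⟩ := Groth.Agent.GraphLib.split_of_coprime hl hconn hcop x
    refine ⟨y, fun γ hγ => ?_⟩
    calc ∑ e : E, γ e * (x e - (l e : ℤ) * y e) = ∑ e : E, γ e * Groth.Agent.GraphLib.grad ends g e :=
          Finset.sum_congr rfl fun e _ => by rw [h e]; ring
      _ = 0 := by rw [Groth.Agent.GraphLib.sum_mul_grad]; simp [hγ]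
  · intro h C hC
    obtain ⟨e, he⟩ := hC.1
    obtain ⟨γ, hγ0, hγb⟩ := Groth.Agent.GraphLib.exists_flow (Groth.Agent.GraphLib.conn_erase he hC.2.1)
    obtain ⟨y, hy⟩ := h (Pi.single e 1)
    set c : E → ℤ := γ - Pi.single e 1 with hc
    have hcyc : ∀ v, LabGraph.boundary ends c v = 0 := by
      intro v
      have : LabGraph.boundary ends c v =
          LabGraph.boundary ends γ v - ((if (ends e).2 = v then 1 else 0) - (if (ends e).1 = v then 1 else 0)) := by
        simp only [hc, LabGraph.boundary, ← Finset.sum_filter, Finset.sum_sub_distrib, Pi.sub_apply,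
          Finset.sum_pi_single', Finset.mem_filter, Finset.mem_univ, true_and]
        ring
      rw [this, hγb]
      simp only [eq_comm (a := v), sub_self]
    have hce : c e = -1 := by simp [hc, hγ0 e (Finset.notMem_erase e C)]
    have hout : ∀ x, x ∉ C → c x = 0 := fun x hx => by
      simp [hc, hγ0 x (fun h => hx (Finset.mem_of_mem_erase h)), show x ≠ e from fun h => hx (h ▸ he)]
    have h1 := hy c hcyc
    have hg : ((C.gcd l : ℕ) : ℤ) ∣ 1 := by
      have h2 : (1 : ℤ) = -∑ x : E, c x * ((l x : ℤ) * y x) := by
        simp only [mul_sub, Finset.sum_sub_distrib] at h1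
        simp [Pi.single_apply, hce] at h1
        linarith
      rw [h2, Int.dvd_neg]
      refine Finset.dvd_sum fun x _ => ?_
      by_cases hx : x ∈ C
      · exact Dvd.dvd.mul_left (Dvd.dvd.mul_right (Int.natCast_dvd_natCast.2 (Finset.gcd_dvd hx)) _) _
      · rw [hout x hx, zero_mul]; exact dvd_zero _
    exact Nat.dvd_one.1 (by exact_mod_cast hg)

end Groth.Agent.S13758
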