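import Groth.Statements.S13759
import Groth.Agent.GraphLib.Blowup

set_option autoImplicit false
universe u
open LabGraph

namespace Groth.Agent.S13759

/-- Let G be a finite connected multigraph with vertex set V, edge set E, endpoint map E → V × V and
positive integer edge labels l, and let G̃ be its total blow-up graph: every edge e is replaced by a
path of l(e) edges through l(e) − 1 new vertices, all new edges labelled 1 (so every vertex
labelling of G̃ is Cartier and its multidegree is the sum over edge-ends of the differences of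
values). Let H, resp. H̃, be the cokernel of the multidegree operator from Cartier vertex labellings
of G to ℤ^V, resp. of G̃ to ℤ^Ṽ, and ε : H → H̃ the map induced by extending vertex labellings of G
by zero on the new vertices. Then ε is injective: if a vertex labelling α of G, extended by zero, is
the multidegree of some vertex labelling of G̃, then α is the multidegree of some Cartier vertex
labelling of G. -/
theorem result
    {V E : Type u} [Fintype V] [Fintype E] [DecidableEq V] [DecidableEq E]
    (ends : E → V × V) (l : E → ℕ) (hl : ∀ e, 0 < l e) (hconn : LabGraph.Connected ends)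
    (α : V → ℤ) (ψ : LabGraph.BlVert V E l → ℤ)
    (hψ : ∀ w : LabGraph.BlVert V E l,
      LabGraph.mdeg (LabGraph.blEnds ends l) (fun _ => 1) ψ w = Sum.elim α (fun _ => (0 : ℤ)) w) :
    ∃ φ : V → ℤ, LabGraph.IsCartier ends l φ ∧ ∀ v : V, LabGraph.mdeg ends l φ v = α v := by
  refine ⟨fun v => ψ (Sum.inl v), ?_⟩
  set P := Groth.Agent.GraphLib.pathVal ends l ψ with hP
  have hlin : ∀ e, ∀ j, j ≤ l e → P e j = P e 0 + (j : ℤ) * (P e 1 - P e 0) := by
    intro e j
    induction j using Nat.strong_induction_on with
    | _ j ih =>
      match j with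
      | 0 => simp
      | 1 => intro; simp
      | i + 2 =>
        intro hj
        have h := hψ (Sum.inr ⟨e, ⟨i, by omega⟩⟩)
        rw [Groth.Agent.GraphLib.mdeg_bl_inr ψ e (by omega)] at h
        simp only [Sum.elim_inr, ← hP] at h
        have h1 := ih i (by omega) (by omega)
        have h2 := ih (i + 1) (by omega) (by omega)
        push_cast at h1 h2 ⊢
        linear_combination h + 2 * h2 - h1
  have hends : ∀ e, P e 0 = ψ (Sum.inl (ends e).1) ∧ P e (l e) = ψ (Sum.inl (ends e).2) := fun e => by
    simp [hP, Groth.Agent.GraphLib.pathVal, Groth.Agent.GraphLib.pathVert_zero,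
      Groth.Agent.GraphLib.pathVert_last (hl e)]
  have hdiff : ∀ e, ψ (Sum.inl (ends e).2) - ψ (Sum.inl (ends e).1) = (l e : ℤ) * (P e 1 - P e 0) := fun e => by
    rw [← (hends e).1, ← (hends e).2, hlin e (l e) le_rfl]; ring
  refine ⟨fun e => ⟨-(P e 1 - P e 0), by have := hdiff e; linarith⟩, fun v => ?_⟩
  have h := hψ (Sum.inl v)
  rw [Groth.Agent.GraphLib.mdeg_bl_inl hl] at h
  simp only [Sum.elim_inl, ← hP] at h
  rw [← h, LabGraph.mdeg]
  refine Finset.sum_congr rfl fun e _ => ?_
  have hl0 : (l e : ℤ) ≠ 0 := by exact_mod_cast (hl e).ne'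
  have hlast : P e (l e - 1) - P e (l e) = -(P e 1 - P e 0) := by
    rw [hlin e (l e) le_rfl, hlin e (l e - 1) (Nat.sub_le _ _), Nat.cast_sub (hl e)]; push_cast; ring
  rw [hdiff e, show ψ (Sum.inl (ends e).1) - ψ (Sum.inl (ends e).2) = (l e : ℤ) * -(P e 1 - P e 0) by
    have := hdiff e; linarith, Int.mul_ediv_cancel_left _ hl0, Int.mul_ediv_cancel_left _ hl0, hlast]

end Groth.Agent.S13759
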