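import Groth.Statements.S1376
import Groth.Agent.LocImm12.ZMT

set_option autoImplicit false
universe u
open FlatMor
set_option backward.isDefEq.respectTransparency false

namespace Groth.Agent.S1376

open AlgebraicGeometry CategoryTheory Limits in
/-- Let S be quasi-compact and quasi-separated, U a quasi-compact open of S and V → U a surjective
finite morphism. Then there is a surjective finite morphism V' → S whose base change to U is V (V is
the fibre product of V' and U over S). -/
theorem result {S V : Scheme.{u}} [CompactSpace ↑S] [QuasiSeparatedSpace ↑S] (U : S.Opens) (hU : IsCompact (U : Set ↑S))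
    (v : V ⟶ (U : Scheme.{u})) [IsFinite v] [Surjective v] :
    ∃ (V' : Scheme.{u}) (π : V' ⟶ S) (i : V ⟶ V'), Surjective π ∧ IsFinite π ∧ IsPullback i v π U.ι := by
  let g : V ⟶ S := v ≫ U.ι
  have : QuasiCompact U.ι := quasiCompact_iff_compactSpace U.ι |>.2 (isCompact_iff_compactSpace.1 hU)
  obtain ⟨T, j₁, π₁, hj₁, hj₁q, hπ₁, hj₁π⟩ := Groth.Agent.LocImm12.exists_openImmersion_finite g
  let N := j₁.image
  let j : V ⟶ N := j₁.toImage
  let gN : N ⟶ S := j₁.imageι ≫ π₁
  have hjg : j ≫ gN = g := by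
    show j₁.toImage ≫ j₁.imageι ≫ π₁ = g
    rw [← Category.assoc, j₁.toImage_imageι, hj₁π]
  have hrange : Set.range j = gN ⁻¹' (U : Set S) := by
    refine subset_antisymm ?_ ?_
    · rintro _ ⟨x, rfl⟩
      show gN (j x) ∈ U
      rw [← Scheme.Hom.comp_apply, hjg]
      exact (v x).2
    · intro z hz
      let W : T.Opens := π₁ ⁻¹ᵁ U
      have hjW : Set.range j₁ ⊆ Set.range W.ι := by
        rw [Scheme.Opens.range_ι]
        rintro _ ⟨x, rfl⟩
        show π₁ (j₁ x) ∈ U
        rw [← Scheme.Hom.comp_apply, hj₁π]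
        exact (v x).2
      let jW := IsOpenImmersion.lift W.ι j₁ hjW
      have hjW' : jW ≫ W.ι = j₁ := IsOpenImmersion.lift_fac _ _ _
      have : IsFinite (jW ≫ π₁ ∣_ U) := by
        have : jW ≫ π₁ ∣_ U = v := by
          rw [← cancel_mono U.ι, Category.assoc, morphismRestrict_ι, reassoc_of% hjW', hj₁π]
        rw [this]; infer_instance
      have : IsFinite jW := MorphismProperty.of_postcomp (W := @IsFinite) (W' := @IsSeparated) jW
        (π₁ ∣_ U) inferInstance this
      obtain ⟨C, hC, hCeq⟩ := W.ι.isOpenEmbedding.isInducing.isClosed_iff.1 jW.isClosedMap.isClosed_range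
      have hzW : j₁.imageι z ∈ W := hz
      have hzC : j₁.imageι z ∈ closure (Set.range j₁) := by
        have : j₁.imageι z ∈ Set.range j₁.imageι := ⟨z, rfl⟩
        rw [Scheme.Hom.imageι, Scheme.IdealSheafData.range_subschemeι] at this
        exact (Scheme.Hom.support_ker j₁).le this
      have h1 : Set.range j₁ ⊆ C := by
        rintro _ ⟨x, rfl⟩
        have : jW x ∈ W.ι ⁻¹' C := hCeq.ge ⟨x, rfl⟩
        rw [← hjW', Scheme.Hom.comp_apply]
        exact this
      obtain ⟨x, hx⟩ : (⟨j₁.imageι z, hzW⟩ : W.toScheme) ∈ Set.range jW :=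
        hCeq.le (closure_minimal h1 hC hzC)
      refine ⟨x, j₁.imageι.isClosedEmbedding.injective ?_⟩
      calc j₁.imageι (j x) = j₁ x := by rw [← Scheme.Hom.comp_apply, j₁.toImage_imageι]
        _ = W.ι (jW x) := congrArg (fun φ : V ⟶ T => φ x) hjW'.symm
        _ = j₁.imageι z := by rw [hx]; rfl
  -- the closed complement
  let C := (Scheme.IdealSheafData.vanishingIdeal ⟨(U : Set S)ᶜ, U.2.isClosed_compl⟩).subscheme
  let ιC := (Scheme.IdealSheafData.vanishingIdeal ⟨(U : Set S)ᶜ, U.2.isClosed_compl⟩).subschemeι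
  have hιC : Set.range ιC = (U : Set S)ᶜ := by
    rw [Scheme.IdealSheafData.range_subschemeι]
    simp
  let π : N ⨿ C ⟶ S := coprod.desc gN ιC
  have hπf : IsFinite π := IsFinite.iff_isProper_and_isAffineHom.2 ⟨inferInstance, inferInstance⟩
  have hπU : π ⁻¹ᵁ U = (j ≫ coprod.inl).opensRange := by
    apply TopologicalSpace.Opens.ext
    rw [Scheme.Hom.coe_opensRange, Scheme.Hom.comp_base, TopCat.coe_comp, Set.range_comp, hrange]
    ext z
    obtain ⟨(z | z), rfl⟩ := (coprodMk N C).surjective z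
    · rw [coprodMk_inl]
      refine Iff.trans ?_ ((Scheme.Hom.isOpenEmbedding (coprod.inl : N ⟶ N ⨿ C)).injective.mem_set_image).symm
      show π ((coprod.inl : N ⟶ N ⨿ C) z) ∈ U ↔ _
      rw [← Scheme.Hom.comp_apply, coprod.inl_desc]
      rfl
    · rw [coprodMk_inr]
      have h0 : ιC z ∈ (U : Set S)ᶜ := hιC.le (Set.mem_range_self z)
      constructor
      · intro h
        have h' : π ((coprod.inr : C ⟶ N ⨿ C) z) ∈ U := h
        rw [← Scheme.Hom.comp_apply, coprod.inr_desc] at h'
        exact absurd h' h0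
      · rintro ⟨w, -, hw⟩
        have := (coprodMk N C).injective (a₁ := .inl w) (a₂ := .inr z) (by rw [coprodMk_inl, coprodMk_inr, hw])
        cases this
  refine ⟨N ⨿ C, π, j ≫ coprod.inl, ⟨fun s => ?_⟩, hπf, ?_⟩
  · by_cases hs : s ∈ (U : Set S)
    · obtain ⟨x, hx⟩ := v.surjective ⟨s, hs⟩
      refine ⟨(j ≫ coprod.inl) x, ?_⟩
      rw [← Scheme.Hom.comp_apply, Category.assoc, coprod.inl_desc, hjg, Scheme.Hom.comp_apply, hx]
      rfl
    · obtain ⟨x, hx⟩ := hιC.ge hs
      refine ⟨(coprod.inr : C ⟶ N ⨿ C) x, ?_⟩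
      rw [← Scheme.Hom.comp_apply, coprod.inr_desc, hx]
  · refine (IsOpenImmersion.isPullback v (j ≫ coprod.inl) U.ι π ?_ ?_).flip
    · rw [Category.assoc, coprod.inl_desc, hjg]
    · rw [Scheme.Opens.opensRange_ι, hπU]

end Groth.Agent.S1376
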