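import Groth.Statements.S13760
import Groth.Agent.GraphLib.Blowup

set_option autoImplicit false
universe u
open LabGraph

namespace Groth.Agent.S13760

/-- Let G be a finite connected multigraph with vertex set V, edge set E, endpoint map E → V × V and
positive integer edge labels l, let G̃ be its total blow-up graph (every edge e replaced by a path
of l(e) edges through l(e) − 1 new vertices, all labelled 1), and let ε : H → H̃ be the map from the
cokernel of the multidegree operator on Cartier vertex labellings of G to the cokernel of the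
multidegree operator on vertex labellings of G̃ induced by extension by zero. Then ε is surjective —
every vertex labelling β of G̃ can be corrected by the multidegree of a vertex labelling of G̃ so as
to vanish at all new vertices — if and only if G is circuit-coprime (the labels along every circuit
have greatest common divisor 1). (The published statement is 'ε is an isomorphism if and only if the
labelled graph is circuit-coprime'; injectivity of ε holds for every labelled graph, so the content
is the equivalence for surjectivity, stated here with the cokernels unpacked.) -/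
theorem result
    {V E : Type u} [Fintype V] [Fintype E] [DecidableEq V] [DecidableEq E]
    (ends : E → V × V) (l : E → ℕ) (hl : ∀ e, 0 < l e) (hconn : LabGraph.Connected ends) :
    (∀ β : LabGraph.BlVert V E l → ℤ, ∃ (ψ : LabGraph.BlVert V E l → ℤ) (α : V → ℤ),
        ∀ w : LabGraph.BlVert V E l,
          LabGraph.mdeg (LabGraph.blEnds ends l) (fun _ => 1) ψ w + β w = Sum.elim α (fun _ => (0 : ℤ)) w) ↔
      LabGraph.IsCircuitCoprime ends l := by
  classical
  constructor
  · intro h
    have split : ∀ x : E → ℤ, ∃ (g : V → ℤ) (y : E → ℤ), ∀ e, x e = Groth.Agent.GraphLib.grad ends g e + (l e : ℤ) * y e := by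
      intro x
      obtain ⟨ψ, α, hψ⟩ := h (fun w => Sum.elim (fun _ => 0)
        (fun p => if p.2.val + 2 = l p.1 then -x p.1 else 0) w)
      set P := Groth.Agent.GraphLib.pathVal ends l ψ with hP
      have hlin : ∀ e, ∀ j, j ≤ l e →
          P e j = P e 0 + (j : ℤ) * (P e 1 - P e 0) + (if 2 ≤ j ∧ j = l e then x e else 0) := by
        intro e j
        induction j using Nat.strong_induction_on with
        | _ j ih =>
          match j with
          | 0 => simp
          | 1 => intro; simp
          | i + 2 =>
            intro hj
            have h := hψ (Sum.inr ⟨e, ⟨i, by omega⟩⟩)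
            rw [Groth.Agent.GraphLib.mdeg_bl_inr ψ e (by omega)] at h
            simp only [Sum.elim_inr, ← hP] at h
            have h1 := ih i (by omega) (by omega)
            have h2 := ih (i + 1) (by omega) (by omega)
            rw [if_neg (by omega)] at h1 h2
            by_cases hlast : i + 2 = l e
            · rw [if_pos ⟨by omega, hlast⟩]; rw [if_pos hlast] at h
              push_cast at h1 h2 ⊢
              linear_combination h + 2 * h2 - h1
            · rw [if_neg (by omega)]; rw [if_neg hlast] at h
              push_cast at h1 h2 ⊢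
              linear_combination h + 2 * h2 - h1
      refine ⟨fun v => ψ (Sum.inl v),
        fun e => if 2 ≤ l e then -(P e 1 - P e 0) else x e - (ψ (Sum.inl (ends e).2) - ψ (Sum.inl (ends e).1)),
        fun e => ?_⟩
      have e0 : P e 0 = ψ (Sum.inl (ends e).1) := by
        simp [hP, Groth.Agent.GraphLib.pathVal, Groth.Agent.GraphLib.pathVert_zero]
      have e1 : P e (l e) = ψ (Sum.inl (ends e).2) := by
        simp [hP, Groth.Agent.GraphLib.pathVal, Groth.Agent.GraphLib.pathVert_last (hl e)]
      simp only [Groth.Agent.GraphLib.grad]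
      by_cases h2 : 2 ≤ l e
      · have := hlin e (l e) le_rfl
        rw [if_pos ⟨h2, rfl⟩, e1] at this
        rw [if_pos h2]
        linear_combination -this - e0
      · have : (l e : ℤ) = 1 := by have := hl e; omega
        rw [if_neg h2, this]; ring
    intro C hC
    obtain ⟨e, he⟩ := hC.1
    obtain ⟨γ, hγ0, hγb⟩ := Groth.Agent.GraphLib.exists_flow (Groth.Agent.GraphLib.conn_erase he hC.2.1)
    obtain ⟨g, y, hy⟩ := split (Pi.single e 1)
    have h1 : ∑ x : E, γ x * (Pi.single e 1 : E → ℤ) x = 0 := by
      simp [Pi.single_apply, hγ0 e (Finset.notMem_erase e C)]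
    have h2 : ∑ x : E, γ x * Groth.Agent.GraphLib.grad ends g x = Groth.Agent.GraphLib.grad ends g e := by
      rw [Groth.Agent.GraphLib.sum_mul_grad]
      simp [hγb, mul_sub, Finset.sum_sub_distrib, Groth.Agent.GraphLib.grad]
    have h3 : ((C.gcd l : ℕ) : ℤ) ∣ Groth.Agent.GraphLib.grad ends g e := by
      rw [← h2, ← dvd_neg, show -∑ x : E, γ x * Groth.Agent.GraphLib.grad ends g x =
          ∑ x : E, γ x * ((l x : ℤ) * y x) by
        simp only [hy, mul_add, Finset.sum_add_distrib] at h1; linarith]
      refine Finset.dvd_sum fun x _ => ?_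
      by_cases hx : x ∈ C
      · exact Dvd.dvd.mul_left (Dvd.dvd.mul_right (Int.natCast_dvd_natCast.2 (Finset.gcd_dvd hx)) _) _
      · rw [hγ0 x fun h => hx (Finset.mem_of_mem_erase h), zero_mul]; exact dvd_zero _
    have h4 := hy e
    rw [Pi.single_eq_same] at h4
    have h5 : ((C.gcd l : ℕ) : ℤ) ∣ 1 := by
      rw [h4]
      exact dvd_add h3 (Dvd.dvd.mul_right (Int.natCast_dvd_natCast.2 (Finset.gcd_dvd he)) _)
    exact Nat.dvd_one.1 (by exact_mod_cast h5)
  · intro hcop β
    let βe : E → ℕ → ℤ := fun e i => if hi : i < l e - 1 then β (Sum.inr ⟨e, ⟨i, hi⟩⟩) else 0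
    let q : E → ℕ → ℤ × ℤ := fun e n => Nat.rec (0, 0) (fun i p => (p.2, 2 * p.2 - p.1 - βe e i)) n
    let s : E → ℕ → ℤ := fun e n => (q e n).1
    have hs : ∀ e i, s e (i + 2) = 2 * s e (i + 1) - s e i - βe e i := fun e i => rfl
    obtain ⟨g, y, h⟩ := Groth.Agent.GraphLib.split_of_coprime hl hconn hcop fun e => s e (l e)
    let ψ : LabGraph.BlVert V E l → ℤ :=
      Sum.elim g fun p => g (ends p.1).1 + ((p.2.val + 1 : ℕ) : ℤ) * -y p.1 + s p.1 (p.2.val + 1)
    have hP : ∀ e j, j ≤ l e →
        Groth.Agent.GraphLib.pathVal ends l ψ e j = g (ends e).1 + (j : ℤ) * -y e + s e j := by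
      intro e j hj
      match j with
      | 0 =>
        have : s e 0 = 0 := rfl
        simp [Groth.Agent.GraphLib.pathVal, Groth.Agent.GraphLib.pathVert_zero, ψ, this]
      | i + 1 =>
        by_cases hlast : i + 1 = l e
        · rw [hlast, Groth.Agent.GraphLib.pathVal, Groth.Agent.GraphLib.pathVert_last (hl e)]
          have := h e
          simp only [Groth.Agent.GraphLib.grad] at this
          simp only [ψ, Sum.elim_inl]
          linear_combination -this
        · rw [Groth.Agent.GraphLib.pathVal, Groth.Agent.GraphLib.pathVert_mid (by omega)]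
          simp [ψ]
    refine ⟨ψ, fun v => LabGraph.mdeg (LabGraph.blEnds ends l) (fun _ => 1) ψ (Sum.inl v) + β (Sum.inl v), ?_⟩
    rintro (v | ⟨e, i, hi⟩)
    · rfl
    · rw [Groth.Agent.GraphLib.mdeg_bl_inr ψ e hi, hP e i (by omega), hP e (i + 1) (by omega), hP e (i + 2) (by omega),
        hs]
      simp only [βe, dif_pos hi, Sum.elim_inr]
      push_cast; ring

end Groth.Agent.S13760
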