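import Groth.Statements.S13763
import Groth.Agent.WeilFin.Slope
import Groth.Agent.AbVarLib.GeomIntegralSmooth
import Groth.Agent.LiftObs29.Bridge
import Groth.Agent.FlatMorAdm.LocFreeApps
import Groth.Agent.KModel28.Basic
import Groth.Agent.EulerLib.StabBasic
import Groth.Agent.S5015
-- import your own Groth.Agent.* helpers here

set_option autoImplicit false
set_option backward.isDefEq.respectTransparency.types false
universe u
open Groth.Agent
open CategoryTheory CategoryTheory.Limits MonoidalCategory CartesianMonoidalCategory MonObj GrpObj AlgebraicGeometry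
open CanPar

namespace Groth.Agent.S13763

/-- Let X be a smooth proper geometrically connected curve over a field k and G a reductive group scheme
over X. Then there is an integer M such that every parabolic subgroup P of G has degree at most M.
Here the degree of P means the degree of its Lie algebra, a vector bundle on X; it is written as
minus the degree of the module of invariant differentials e^*Ω_{P/X}, which for P smooth over X is
locally free (of the rank n quantified below) and dual to the Lie algebra bundle. -/
theorem result (k : Type u) [Field k] (X : Scheme.{u}) [X.Over (Spec (CommRingCat.of k))]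
    [IsIntegral X] [IsProper (X ↘ Spec (CommRingCat.of k))] [Smooth (X ↘ Spec (CommRingCat.of k))]
    [GeometricallyConnected (X ↘ Spec (CommRingCat.of k))] (hdim : topologicalKrullDim X = 1)
    (G : Over X) [GrpObj G] (hG : Red.IsReductive G) :
    ∃ M : ℤ, ∀ (P : Over X) [GrpObj P] (i : P ⟶ G), Red.IsParabolic i →
      ∀ n : ℕ, FlatMod.IsFinLocFreeOfRank n (LieS.omega P) →
        -Curv2.deg k X (LieS.omega P) n ≤ M := by
  haveI : GeometricallyIntegral (X ↘ Spec (CommRingCat.of k)) :=
    AbVarLib.geometricallyIntegral_of_smooth (X ↘ Spec (CommRingCat.of k))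
  haveI := EulerLib.isNoetherian_of_proper k (X := X)
  haveI : IsLocallyNoetherian X := inferInstance
  haveI : Smooth G.hom := hG.2.1
  haveI : QuasiSeparated G.hom := haveI := hG.1; inferInstance
  have hlf : FlatMod.IsFinLocFree (LieS.omega G) :=
    FlatMorAdm.isFinLocFree_pullback _ (LiftObs29.isFinLocFree_omega G.hom)
  obtain ⟨N, hN⟩ := KModel28.exists_rank hlf
  let C : ℤ := (Module.finrank k (Coh.HH X (LieS.omega G) 0) : ℤ) + Curv2.genus k X
  refine ⟨|C| * N - VB5.gdeg k (LieS.omega G), fun P _ i hi n hn => ?_⟩
  haveI := hi.1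
  haveI := hi.2.1
  have hw : i.left ≫ G.hom = P.hom := Over.w i
  haveI : QuasiSeparated P.hom := by rw [← hw]; infer_instance
  obtain ⟨c, hc, -⟩ := Omega15.existsUnique_compat i.left (𝟙 X) (f := G.hom) (f' := P.hom)
    (by rw [Category.comp_id, hw]) (OmegaLib.isUniversal_dOmega G.hom) (OmegaSh.dOmega P.hom)
  haveI : Epi c := S5015.epi_of_formallyUnramified hw (OmegaLib.isUniversal_dOmega P.hom) c hc
  have hη : η[P].left ≫ i.left = η[G].left := by rw [← Over.comp_left, IsMonHom.one_hom]
  let q : LieS.omega G ⟶ LieS.omega P :=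
    ((Scheme.Modules.pullbackCongr hη).symm.app (Omega.sheaf G.hom) ≪≫
      (Scheme.Modules.pullbackComp η[P].left i.left).symm.app (Omega.sheaf G.hom)).hom ≫
      (Scheme.Modules.pullback η[P].left).map c
  haveI : (Scheme.Modules.pullback η[P].left).PreservesEpimorphisms :=
    Functor.preservesEpimorphisms_of_adjunction (Scheme.Modules.pullbackPushforwardAdjunction _)
  haveI : Epi q := @epi_comp _ _ _ _ _ _ inferInstance _ (Functor.map_epi _ c)
  have hA := SplitP1.isCoh_of_rank hN
  have hB := SplitP1.isCoh_of_rank hn
  have hK := Coherent.isCoh_kernel q hA hB.1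
  have hS := EulerLib.shortExact_kernel q
  have h1 := VB5.gdeg_additive k hS hK hA hB
  have h2 := WeilFin.gdeg_sub_le k hdim hN (kernel.ι q) hK
  have h3 : VB5.grk (LieS.omega G) = VB5.grk (kernel q) + VB5.grk (LieS.omega P) := VB5.grk_additive hS hA
  rw [VB5.grk_eq hN] at h3
  have h4 : C * (VB5.grk (kernel q) : ℤ) ≤ |C| * N :=
    (mul_le_mul_of_nonneg_right (le_abs_self C) (Int.natCast_nonneg _)).trans
      (mul_le_mul_of_nonneg_left (by omega) (abs_nonneg C))
  rw [VB5.deg_eq_gdeg k hn]
  change VB5.gdeg k (LieS.omega G) = VB5.gdeg k (kernel q) + VB5.gdeg k (LieS.omega P) at h1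
  change VB5.gdeg k (kernel q) ≤ C * (VB5.grk (kernel q) : ℤ) at h2
  linarith

end Groth.Agent.S13763
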