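import Groth.Statements.S1377
import Mathlib.AlgebraicGeometry.Normalization
import Mathlib.AlgebraicGeometry.IdealSheaf.Subscheme
import Mathlib.AlgebraicGeometry.Morphisms.Integral

set_option autoImplicit false
universe u
open FlatMor

namespace Groth.Agent.S1377

open AlgebraicGeometry CategoryTheory Limits in
/-- Let S be a scheme, U ⊆ S an open subscheme whose inclusion U → S is quasi-compact (U retrocompact in
S), and V → U a surjective integral morphism. Then there are a scheme V' and a surjective integral
morphism V' → S whose base change to U is V → U. (The published statement puts no condition on U,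
and in that generality it is false: e.g. S = Spec ∏_i ℤ/4^i with U = D(2) ∪ ⋃_i D(e_i), e_i the
idempotents, and V equal to U except that over D(2) it is cut out by x = (2^i)_i. Stated here with U
→ S quasi-compact, under which hypothesis the published argument applies.) -/
theorem result {S V : Scheme.{u}} (U : S.Opens) [QuasiCompact U.ι]
    (v : V ⟶ (U : Scheme.{u})) [IsIntegralHom v] [Surjective v] :
    ∃ (V' : Scheme.{u}) (π : V' ⟶ S) (i : V ⟶ V'), Surjective π ∧ IsIntegralHom π ∧ IsPullback i v π U.ι := by
  let g : V ⟶ S := v ≫ U.ι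
  let N := g.normalization
  -- the part over `U`
  let c : V ⟶ pullback g U.ι := pullback.lift (𝟙 V) v (by rw [Category.id_comp])
  have hc : IsIso c := by
    refine ⟨pullback.fst _ _, pullback.lift_fst _ _ _, ?_⟩
    apply pullback.hom_ext
    · rw [Category.assoc, pullback.lift_fst, Category.id_comp, Category.comp_id]
    · rw [Category.assoc, pullback.lift_snd, Category.id_comp, ← cancel_mono U.ι, Category.assoc,
        ← pullback.condition]
  have hsnd : IsIntegralHom (pullback.snd g U.ι) := by
    have : inv c ≫ v = pullback.snd g U.ι := by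
      rw [IsIso.inv_comp_eq, pullback.lift_snd]
    rw [← this]
    infer_instance
  let j : V ⟶ N := c ≫ (pullback.snd g U.ι).toNormalization ≫ g.normalizationPullback U.ι ≫
    pullback.fst g.fromNormalization U.ι
  have hj : IsOpenImmersion j := inferInstance
  have hjg : j ≫ g.fromNormalization = g := by
    simp only [j, Category.assoc, pullback.condition, g.normalizationPullback_snd_assoc,
      (pullback.snd g U.ι).toNormalization_fromNormalization_assoc]
    rw [← Category.assoc, pullback.lift_snd]
  have hrange : Set.range j = g.fromNormalization ⁻¹' (U : Set S) := by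
    simp only [j, ← Category.assoc]
    rw [Scheme.Hom.comp_base, TopCat.coe_comp, Set.range_comp]
    rw [show Set.range (((c ≫ (pullback.snd g U.ι).toNormalization) ≫ g.normalizationPullback U.ι)) = Set.univ
      from Function.Surjective.range_eq (Scheme.Hom.homeomorph ((c ≫ (pullback.snd g U.ι).toNormalization) ≫ g.normalizationPullback U.ι)).surjective, Set.image_univ,
      IsOpenImmersion.range_pullbackFst, Scheme.Opens.opensRange_ι]
    rfl
  -- the closed complement
  let C := (Scheme.IdealSheafData.vanishingIdeal ⟨(U : Set S)ᶜ, U.2.isClosed_compl⟩).subscheme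
  let ιC := (Scheme.IdealSheafData.vanishingIdeal ⟨(U : Set S)ᶜ, U.2.isClosed_compl⟩).subschemeι
  have hιC : Set.range ιC = (U : Set S)ᶜ := by
    rw [Scheme.IdealSheafData.range_subschemeι]
    simp
  let π : N ⨿ C ⟶ S := coprod.desc g.fromNormalization ιC
  have hπU : π ⁻¹ᵁ U = (j ≫ coprod.inl).opensRange := by
    apply TopologicalSpace.Opens.ext
    rw [Scheme.Hom.coe_opensRange, Scheme.Hom.comp_base, TopCat.coe_comp, Set.range_comp, hrange]
    ext z
    obtain ⟨(z | z), rfl⟩ := (coprodMk N C).surjective z
    · rw [coprodMk_inl]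
      refine Iff.trans ?_ ((Scheme.Hom.isOpenEmbedding (coprod.inl : N ⟶ N ⨿ C)).injective.mem_set_image).symm
      show π ((coprod.inl : N ⟶ N ⨿ C) z) ∈ U ↔ _
      rw [← Scheme.Hom.comp_apply, coprod.inl_desc]
      rfl
    · rw [coprodMk_inr]
      have h0 : ιC z ∈ (U : Set S)ᶜ := hιC.le (Set.mem_range_self z)
      constructor
      · intro h
        have h' : π ((coprod.inr : C ⟶ N ⨿ C) z) ∈ U := h
        rw [← Scheme.Hom.comp_apply, coprod.inr_desc] at h'
        exact absurd h' h0
      · rintro ⟨w, -, hw⟩
        have := (coprodMk N C).injective (a₁ := .inl w) (a₂ := .inr z) (by rw [coprodMk_inl, coprodMk_inr, hw])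
        cases this
  refine ⟨N ⨿ C, π, j ≫ coprod.inl, ⟨fun s => ?_⟩, inferInstance, ?_⟩
  · by_cases hs : s ∈ (U : Set S)
    · obtain ⟨x, hx⟩ := v.surjective ⟨s, hs⟩
      refine ⟨(j ≫ coprod.inl) x, ?_⟩
      rw [← Scheme.Hom.comp_apply, Category.assoc, coprod.inl_desc, hjg, Scheme.Hom.comp_apply, hx]
      rfl
    · obtain ⟨x, hx⟩ := hιC.ge hs
      refine ⟨(coprod.inr : C ⟶ N ⨿ C) x, ?_⟩
      rw [← Scheme.Hom.comp_apply, coprod.inr_desc, hx]
  · refine (IsOpenImmersion.isPullback v (j ≫ coprod.inl) U.ι π ?_ ?_).flip
    · rw [Category.assoc, coprod.inl_desc, hjg]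
    · rw [Scheme.Opens.opensRange_ι, hπU]

end Groth.Agent.S1377
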