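import Groth.Statements.S13775
import Groth.Agent.PLieLib.Hom

set_option autoImplicit false
universe u v
open PLie

namespace Groth.Agent.S13775

/-- Let R be a commutative ring of prime characteristic p and L a Lie algebra over R, free as a module
with basis x = bs 0, y = bs 1, z = bs 2 and brackets [x,y] = y, [x,z] = y + z, [y,z] = 0. Then L
carries no p-mapping. (The published statement is the corresponding entry of the classification
table of three-dimensional Lie algebras over an algebraically closed field of characteristic p; this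
row states it over every commutative ring of characteristic p.) -/
theorem result (R : Type u) [CommRing R] (p : ℕ) [Fact p.Prime] [CharP R p]
    (L : Type v) [LieRing L] [LieAlgebra R L] (bs : Module.Basis (Fin 3) R L)
    (hxy : ⁅bs 0, bs 1⁆ = bs 1) (hxz : ⁅bs 0, bs 2⁆ = bs 1 + bs 2) (hyz : ⁅bs 1, bs 2⁆ = 0) :
    IsEmpty (PLie.PMap R p L) := by
  have : Nontrivial R := CharP.nontrivial_of_char_ne_one (Fact.out : p.Prime).one_lt.ne'
  have hzy : ⁅bs 2, bs 1⁆ = 0 := by rw [← lie_skew, hyz, neg_zero]
  have hn : ∀ n : ℕ, (LieAlgebra.ad R L (bs 0) ^ n) (bs 2) = (n : R) • bs 1 + bs 2 := by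
    intro n
    induction n with
    | zero => simp
    | succ n ih =>
      rw [pow_succ', Module.End.mul_apply, ih, map_add, map_smul, LieAlgebra.ad_apply, LieAlgebra.ad_apply, hxy, hxz,
        Nat.cast_succ, add_smul, one_smul]
      abel
  refine ⟨fun φ => ?_⟩
  set r := bs.repr (φ (bs 0))
  have hφ : φ (bs 0) = r 0 • bs 0 + r 1 • bs 1 + r 2 • bs 2 := by
    conv_lhs => rw [← bs.sum_repr (φ (bs 0)), Fin.sum_univ_three]
  have h2 := PLieLib.lie_pmap p φ (bs 0) (bs 2)
  rw [hφ, hn, CharP.cast_eq_zero, zero_smul, zero_add, add_lie, add_lie, smul_lie, smul_lie, smul_lie, hxz, lie_self,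
    hyz, smul_zero, smul_zero, add_zero, add_zero, smul_add] at h2
  have ha := congrArg (fun v => bs.repr v 1) h2
  have hb := congrArg (fun v => bs.repr v 2) h2
  simp at ha hb
  exact zero_ne_one (ha.symm.trans hb)

end Groth.Agent.S13775
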