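import Groth.Statements.S13776
import Groth.Agent.PLieLib.Hom

set_option autoImplicit false
universe u v
open PLie

namespace Groth.Agent.S13776

/-- Let R be a commutative ring of prime characteristic p, t ∈ R, and L a Lie algebra over R, free as a
module with basis x = bs 0, y = bs 1, z = bs 2 and brackets [x,y] = y, [x,z] = t • z, [y,z] = 0.
Then L carries a p-mapping if and only if t ^ p = t. (The published statement is the corresponding
entry of the classification table over an algebraically closed field of characteristic p, where the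
condition reads: t lies in the prime field; this row states it over every commutative ring of
characteristic p.) -/
theorem result (R : Type u) [CommRing R] (p : ℕ) [Fact p.Prime] [CharP R p] (t : R)
    (L : Type v) [LieRing L] [LieAlgebra R L] (bs : Module.Basis (Fin 3) R L)
    (hxy : ⁅bs 0, bs 1⁆ = bs 1) (hxz : ⁅bs 0, bs 2⁆ = t • bs 2) (hyz : ⁅bs 1, bs 2⁆ = 0) :
    Nonempty (PLie.PMap R p L) ↔ t ^ p = t := by
  have hp2 : 2 ≤ p := (Fact.out : p.Prime).two_le
  have hyx : ⁅bs 1, bs 0⁆ = -bs 1 := by rw [← lie_skew, hxy]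
  have hzx : ⁅bs 2, bs 0⁆ = -(t • bs 2) := by rw [← lie_skew, hxz]
  have hzy : ⁅bs 2, bs 1⁆ = 0 := by rw [← lie_skew, hyz, neg_zero]
  have e1 : ∀ n, (LieAlgebra.ad R L (bs 0) ^ n) (bs 1) = bs 1 := fun n => by
    rw [PLieLib.ad_pow_eigen (c := 1) (by rw [hxy, one_smul]), one_pow, one_smul]
  have e2 : ∀ n, (LieAlgebra.ad R L (bs 0) ^ n) (bs 2) = t ^ n • bs 2 := fun n => PLieLib.ad_pow_eigen hxz n
  constructor
  · rintro ⟨φ⟩
    set r := bs.repr (φ (bs 0))
    have hφ : φ (bs 0) = r 0 • bs 0 + r 1 • bs 1 + r 2 • bs 2 := by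
      conv_lhs => rw [← bs.sum_repr (φ (bs 0)), Fin.sum_univ_three]
    have h1 := PLieLib.lie_pmap p φ (bs 0) (bs 1)
    have h2 := PLieLib.lie_pmap p φ (bs 0) (bs 2)
    rw [hφ, e1, add_lie, add_lie, smul_lie, smul_lie, smul_lie, hxy, lie_self, hzy, smul_zero, smul_zero,
      add_zero, add_zero] at h1
    rw [hφ, e2, add_lie, add_lie, smul_lie, smul_lie, smul_lie, hxz, lie_self, hyz, smul_zero, smul_zero,
      add_zero, add_zero, smul_smul] at h2
    have h1' : r 0 = 1 := by simpa using congrArg (fun v => bs.repr v 1) h1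
    have h2' := congrArg (fun v => bs.repr v 2) h2
    simp only [map_smul, Module.Basis.repr_self, Finsupp.smul_apply, Finsupp.single_eq_same, smul_eq_mul, mul_one,
      h1', one_mul] at h2'
    exact h2'.symm
  · intro ht
    obtain ⟨φ, -⟩ := PLieLib.exists_pmap p bs ![bs 0, 0, 0] fun i => bs.ext fun j => by
      fin_cases i <;> fin_cases j <;>
        simp only [Matrix.cons_val_zero, Matrix.cons_val_one, Matrix.cons_val_two, Matrix.tail_cons, Matrix.head_cons,
          Fin.zero_eta, Fin.mk_one, Fin.reduceFinMk, Matrix.cons_val, map_zero, LinearMap.zero_apply, LieAlgebra.ad_apply]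
      · rw [PLieLib.ad_pow_two_zero (by rw [lie_self, lie_zero]) hp2, lie_self]
      · rw [e1, hxy]
      · rw [e2, ht, hxz]
      · exact PLieLib.ad_pow_two_zero (by rw [hyx, lie_neg, lie_self, neg_zero]) hp2
      · exact PLieLib.ad_pow_two_zero (by rw [lie_self, lie_zero]) hp2
      · exact PLieLib.ad_pow_two_zero (by rw [hyz, lie_zero]) hp2
      · exact PLieLib.ad_pow_two_zero (by rw [hzx, lie_neg, lie_smul, lie_self, smul_zero, neg_zero]) hp2
      · exact PLieLib.ad_pow_two_zero (by rw [hzy, lie_zero]) hp2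
      · exact PLieLib.ad_pow_two_zero (by rw [lie_self, lie_zero]) hp2
    exact ⟨φ⟩

end Groth.Agent.S13776
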