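import Groth.Statements.S13777
import Groth.Agent.PLieLib.Hom

set_option autoImplicit false
universe u v
open PLie

namespace Groth.Agent.S13777

/-- Let R be a commutative ring of characteristic 2 and L a Lie algebra over R, free as a module with
basis x = bs 0, y = bs 1, z = bs 2 and brackets [x,y] = z, [x,z] = −x, [y,z] = y. Then L carries no
2-mapping. (The published statement is the corresponding entry of the classification table over an
algebraically closed field of characteristic 2; this row states it over every commutative ring of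
characteristic 2.) -/
theorem result (R : Type u) [CommRing R] [CharP R 2]
    (L : Type v) [LieRing L] [LieAlgebra R L] (bs : Module.Basis (Fin 3) R L)
    (hxy : ⁅bs 0, bs 1⁆ = bs 2) (hxz : ⁅bs 0, bs 2⁆ = -bs 0) (hyz : ⁅bs 1, bs 2⁆ = bs 1) :
    IsEmpty (PLie.PMap R 2 L) := by
  have : Fact (Nat.Prime 2) := ⟨Nat.prime_two⟩
  have : Nontrivial R := CharP.nontrivial_of_char_ne_one (show (2 : ℕ) ≠ 1 by norm_num)
  have hzy : ⁅bs 2, bs 1⁆ = -bs 1 := by rw [← lie_skew, hyz]
  refine ⟨fun φ => ?_⟩
  set r := bs.repr (φ (bs 0))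
  have hφ : φ (bs 0) = r 0 • bs 0 + r 1 • bs 1 + r 2 • bs 2 := by
    conv_lhs => rw [← bs.sum_repr (φ (bs 0)), Fin.sum_univ_three]
  have h2 := PLieLib.lie_pmap 2 φ (bs 0) (bs 1)
  rw [pow_two, Module.End.mul_apply, LieAlgebra.ad_apply, LieAlgebra.ad_apply, hxy, hxz, hφ, add_lie, add_lie,
    smul_lie, smul_lie, smul_lie, hxy, lie_self, hzy, smul_zero, add_zero] at h2
  have ha := congrArg (fun v => bs.repr v 0) h2
  simp at ha

end Groth.Agent.S13777
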