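import Groth.Statements.S13778
import Groth.Agent.PLieLib.Dual

set_option autoImplicit false
universe u v
open PLie

namespace Groth.Agent.S13778

set_option maxHeartbeats 1000000

open DualNumber in
/-- Let K be a field of prime characteristic p, K[ε] the ring of dual numbers (taken with its
characteristic-p structure), t ∈ K with t ^ p = t (an element of the prime field), and a, …, i ∈ K.
Let L be a Lie algebra over K[ε], free as a module with basis x = bs 0, y = bs 1, z = bs 2 and
brackets [x,y] = aε x + (1 + bε) y + cε z, [x,z] = dε x + eε y + (t + fε) z, [y,z] = gε x + hε y +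
iε z. Then L carries a p-mapping over K[ε] if and only if b t = f, c = e = 0 when t = 1, and g = 0
when p = 2. (The published statement determines the singular locus of the restrictable locus in the
centreless stratum of the moduli scheme of based three-dimensional Lie algebras, for t non-zero, and
the rank-one-centre stratum treats t = 0; this row states the restrictability criterion for the
first-order deformations of l_t that the proofs compute, over any field of characteristic p in place
of the prime field and for every t in the prime field.) -/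
theorem result (K : Type u) [Field K] (p : ℕ) [Fact p.Prime] [CharP K p]
    [CharP (DualNumber K) p] (t a b c d e f g h i : K) (ht : t ^ p = t)
    (L : Type v) [LieRing L] [LieAlgebra (DualNumber K) L] (bs : Module.Basis (Fin 3) (DualNumber K) L)
    (hxy : ⁅bs 0, bs 1⁆ = (a • ε : DualNumber K) • bs 0 + (1 + b • ε : DualNumber K) • bs 1 + (c • ε : DualNumber K) • bs 2)
    (hxz : ⁅bs 0, bs 2⁆ = (d • ε : DualNumber K) • bs 0 + (e • ε : DualNumber K) • bs 1 +
      (algebraMap K (DualNumber K) t + f • ε) • bs 2)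
    (hyz : ⁅bs 1, bs 2⁆ = (g • ε : DualNumber K) • bs 0 + (h • ε : DualNumber K) • bs 1 + (i • ε : DualNumber K) • bs 2) :
    Nonempty (PLie.PMap (DualNumber K) p L) ↔ (b * t = f ∧ (t = 1 → c = 0 ∧ e = 0) ∧ (p = 2 → g = 0)) := by
  have T : PLieLib.Table bs ![![0, 1, 0], ![0, 0, t], 0] ![![a, b, c], ![d, e, f], ![g, h, i]] := by
    refine ⟨fun j => ?_, fun j => ?_, fun j => ?_⟩ <;> fin_cases j <;>
      simp [hxy, hxz, hyz, TrivSqZeroExt.algebraMap_eq_inl]
  have hJ := fun m => congrArg (fun u => PLieLib.sc bs u m) (lie_jacobi (bs 0) (bs 1) (bs 2))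
  have hd : d = t * h := by
    have := hJ 1
    simp [T.fc_lie, T.sc_lie] at this
    grind
  have hi : i = -(a * t) := by
    have := hJ 2
    simp [T.fc_lie, T.sc_lie] at this
    grind
  obtain ⟨q, rfl⟩ : ∃ q, p = q + 1 := ⟨p - 1, by have := (Fact.out : p.Prime).one_le; omega⟩
  let S : ℕ → K := fun n => ∑ m ∈ Finset.range n, t ^ m
  have hS : ∀ n, S (n + 1) = t * S n + 1 := fun n => geom_sum_succ
  have hS1 : S (q + 1) * (1 - t) = 1 - t := by
    rw [mul_comm, mul_neg_geom_sum, ht]
  have hS0 : t = 1 → S (q + 1) = 0 := fun h1 => by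
    simp only [S, h1, one_pow, Finset.sum_const, Finset.card_range, nsmul_eq_mul, mul_one]
    exact CharP.cast_eq_zero K (q + 1)
  have hy : ∀ (n : ℕ) l, PLieLib.fc bs ((LieAlgebra.ad (DualNumber K) L (bs 0) ^ (n + 1)) (bs 1)) l = ![0, 1, 0] l ∧
      PLieLib.sc bs ((LieAlgebra.ad (DualNumber K) L (bs 0) ^ (n + 1)) (bs 1)) l =
        ![a, (n + 1) * b, c * S (n + 1)] l := by
    intro n
    induction n with
    | zero => intro l; fin_cases l <;> simp [T.fc_lie, T.sc_lie, S]
    | succ n ih =>
      intro l
      rw [pow_succ' _ (n + 1), Module.End.mul_apply, LieAlgebra.ad_apply, hS (n + 1)]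
      fin_cases l <;> simp [T.fc_lie, T.sc_lie, fun l => (ih l).1, fun l => (ih l).2] <;> ring
  have hz : ∀ (n : ℕ) l, PLieLib.fc bs ((LieAlgebra.ad (DualNumber K) L (bs 0) ^ (n + 1)) (bs 2)) l =
        ![0, 0, t ^ (n + 1)] l ∧
      PLieLib.sc bs ((LieAlgebra.ad (DualNumber K) L (bs 0) ^ (n + 1)) (bs 2)) l =
        ![t ^ n * d, S (n + 1) * e, (n + 1) * t ^ n * f] l := by
    intro n
    induction n with
    | zero => intro l; fin_cases l <;> simp [T.fc_lie, T.sc_lie, S]
    | succ n ih =>
      intro l
      rw [pow_succ' _ (n + 1), Module.End.mul_apply, LieAlgebra.ad_apply]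
      have : S (n + 1 + 1) = S (n + 1) + t ^ (n + 1) := Finset.sum_range_succ _ _
      rw [this]
      fin_cases l <;> simp [T.fc_lie, T.sc_lie, fun l => (ih l).1, fun l => (ih l).2] <;> first | ring1 | (ring_nf; simp)
  have hq0 : (q : K) + 1 = 0 := by exact_mod_cast CharP.cast_eq_zero K (q + 1)
  have htd : t ^ q * d = d := by rw [hd, ← mul_assoc, ← pow_succ, ht]
  constructor
  · rintro ⟨φ⟩
    have key : ∀ (k j l : Fin 3), PLieLib.fc bs ⁅φ (bs k), bs j⁆ l =
          PLieLib.fc bs ((LieAlgebra.ad (DualNumber K) L (bs k) ^ (q + 1)) (bs j)) l ∧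
        PLieLib.sc bs ⁅φ (bs k), bs j⁆ l =
          PLieLib.sc bs ((LieAlgebra.ad (DualNumber K) L (bs k) ^ (q + 1)) (bs j)) l := fun k j l => by
      rw [PLieLib.lie_pmap]; exact ⟨rfl, rfl⟩
    have k0 := fun j l => key 0 j l
    have A0 := (k0 1 1).1
    have A1 := (k0 0 1).1
    have A2 := (k0 0 2).1
    have B1 := (k0 1 1).2
    have B2 := (k0 1 2).2
    have B3 := (k0 2 1).2
    have B4 := (k0 2 2).2
    rw [(hy q 1).1] at A0
    rw [(hy q 1).2] at B1
    rw [(hy q 2).2] at B2
    rw [(hz q 1).2] at B3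
    rw [(hz q 2).2] at B4
    have hx0 : ∀ l, PLieLib.fc bs ((LieAlgebra.ad (DualNumber K) L (bs 0) ^ (q + 1)) (bs 0)) l = 0 := fun l => by
      rw [pow_succ, Module.End.mul_apply, LieAlgebra.ad_apply, lie_self, map_zero]; simp
    rw [hx0] at A1 A2
    simp [T.fc_lie, hq0] at A0 A1 A2
    simp [T.fc_lie, T.sc_lie, A0, A1, hq0] at B1 B2 B3 B4
    refine ⟨by grind, fun h1 => ?_, fun h2 => ?_⟩
    · have := hS0 h1
      constructor <;> grind
    · obtain rfl : q = 1 := by omega
      have C0 := (key 1 1 1).1
      have C1 := (key 1 0 1).1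
      have C2 := (key 1 2 1).2
      simp [T.fc_lie, T.sc_lie, pow_succ', Module.End.mul_apply] at C0 C1 C2
      simp [C0, C1] at C2
      grind
  · rintro ⟨hbt, h1, h2⟩
    have hc : c * S (q + 1) = c ∧ S (q + 1) * e = e := by
      by_cases ht1 : t = 1
      · obtain ⟨rfl, rfl⟩ := h1 ht1; simp
      · have : S (q + 1) = 1 := mul_right_cancel₀ (sub_ne_zero.mpr (Ne.symm ht1)) (by rw [hS1, one_mul])
        simp [this]
    let A := fun k : Fin 3 => LieAlgebra.ad (DualNumber K) L (bs k)
    let Q : Fin 3 → Fin 3 → Fin 3 → K :=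
      ![0, ![![0, a, 0], 0, ![0, -g, 0]], ![![0, 0, d * t], ![0, 0, g * t], 0]]
    have hA2 : ∀ k, k ≠ 0 → ∀ j l,
        PLieLib.fc bs ((A k ^ 2) (bs j)) l = 0 ∧ PLieLib.sc bs ((A k ^ 2) (bs j)) l = Q k j l := by
      intro k hk j l
      rw [pow_two, Module.End.mul_apply]
      fin_cases k <;> first
        | exact absurd rfl hk
        | (fin_cases j <;> fin_cases l <;> simp [A, Q, T.fc_lie, T.sc_lie] <;> grind)
    have h3 : ∀ n, 3 ≤ n → ∀ k, k ≠ 0 → ∀ j, (A k ^ n) (bs j) = 0 := by
      intro n hn k hk j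
      obtain ⟨m, rfl⟩ := Nat.exists_eq_add_of_le' hn
      rw [pow_add, Module.End.mul_apply]
      have : (A k ^ 3) (bs j) = 0 := by
        refine PLieLib.ext6 bs fun l => ?_
        rw [pow_succ', Module.End.mul_apply]
        simp only [A, LieAlgebra.ad_apply, T.fc_lie, T.sc_lie, fun l => (hA2 k hk j l).1, fun l => (hA2 k hk j l).2]
        fin_cases k <;> first
          | exact absurd rfl hk
          | (fin_cases j <;> fin_cases l <;> simp [Q])
      rw [this, map_zero]
    obtain ⟨φ, -⟩ := PLieLib.exists_pmap (q + 1) bs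
      ![(1 - b • ε : DualNumber K) • bs 0, (if q = 1 then -(a • ε) else 0 : DualNumber K) • bs 1,
        (if q = 1 then -(d • ε) else 0 : DualNumber K) • bs 2]
      fun k => bs.ext fun j => PLieLib.ext6 bs fun l => by
        fin_cases k
        · fin_cases j
          · simp only [Fin.zero_eta]
            rw [pow_succ, Module.End.mul_apply, LieAlgebra.ad_apply, lie_self, map_zero]
            fin_cases l <;> simp [T.fc_lie, T.sc_lie]
          · simp only [Fin.zero_eta, Fin.mk_one]
            rw [(hy q l).1, (hy q l).2]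
            fin_cases l <;> simp [T.fc_lie, T.sc_lie, hq0, hc.1]
          · simp only [Fin.zero_eta, Fin.reduceFinMk]
            rw [(hz q l).1, (hz q l).2, ht]
            fin_cases l <;> simp [T.fc_lie, T.sc_lie, hq0, hc.2, htd] <;> grind
        all_goals
          rcases (by have := (Fact.out : (q + 1).Prime).two_le; omega : q = 1 ∨ 2 ≤ q) with rfl | hq
          · have hg := h2 rfl
            subst hg
            fin_cases j <;> fin_cases l <;>
              simp [T.fc_lie, T.sc_lie, pow_succ', Module.End.mul_apply] <;> grind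
          · rw [h3 (q + 1) (by omega) _ (by simp) j, LieAlgebra.ad_apply, if_neg (by omega), if_neg (by omega)]
            simp
    exact ⟨φ⟩

end Groth.Agent.S13778
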