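import Groth.Statements.S13779
import Groth.Agent.PLieLib.Hom

set_option autoImplicit false
universe u v
open PLie

namespace Groth.Agent.S13779

/-- Let p be an odd prime, R a commutative ring of characteristic p, t ∈ R, and L a Lie algebra over R,
free as a module with basis x = bs 0, y = bs 1, z = bs 2 and brackets [x,y] = z, [x,z] = t • y,
[y,z] = 0. Then L carries a p-mapping φ with φ x = t ^ ((p - 1) / 2) • x, φ y = 0 and φ z = 0. (The
published statement concerns the Lie algebra with these brackets over a field of Laurent series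
k((t)), k algebraically closed of odd characteristic, t the variable; this row states its
restrictability over every commutative ring of odd prime characteristic and every t.) -/
theorem result (R : Type u) [CommRing R] (p : ℕ) [Fact p.Prime] [CharP R p] (hp : p ≠ 2)
    (t : R) (L : Type v) [LieRing L] [LieAlgebra R L] (bs : Module.Basis (Fin 3) R L)
    (hxy : ⁅bs 0, bs 1⁆ = bs 2) (hxz : ⁅bs 0, bs 2⁆ = t • bs 1) (hyz : ⁅bs 1, bs 2⁆ = 0) :
    ∃ φ : PLie.PMap R p L, φ (bs 0) = t ^ ((p - 1) / 2) • bs 0 ∧ φ (bs 1) = 0 ∧ φ (bs 2) = 0 := by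
  have hp2 : 2 ≤ p := (Fact.out : p.Prime).two_le
  obtain ⟨q, hq⟩ := (Fact.out : p.Prime).odd_of_ne_two hp
  have hyx : ⁅bs 1, bs 0⁆ = -bs 2 := by rw [← lie_skew, hxy]
  have hzx : ⁅bs 2, bs 0⁆ = -(t • bs 1) := by rw [← lie_skew, hxz]
  have hzy : ⁅bs 2, bs 1⁆ = 0 := by rw [← lie_skew, hyz, neg_zero]
  have key : ∀ (w : L), (LieAlgebra.ad R L (bs 0) ^ 2) w = t • w → (LieAlgebra.ad R L (bs 0) ^ p) w =
      t ^ q • ⁅bs 0, w⁆ := fun w hw => by
    have : ∀ n, ((LieAlgebra.ad R L (bs 0) ^ 2) ^ n) w = t ^ n • w := by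
      intro n
      induction n with
      | zero => simp
      | succ n ih => rw [pow_succ' (LieAlgebra.ad R L (bs 0) ^ 2), Module.End.mul_apply, ih, map_smul, hw, smul_smul, pow_succ]
    rw [hq, pow_succ', Module.End.mul_apply, pow_mul, this, map_smul, LieAlgebra.ad_apply]
  have k1 := key (bs 1) (by rw [pow_two, Module.End.mul_apply, LieAlgebra.ad_apply, LieAlgebra.ad_apply, hxy, hxz])
  have k2 := key (bs 2) (by
    rw [pow_two, Module.End.mul_apply, LieAlgebra.ad_apply, LieAlgebra.ad_apply, hxz, lie_smul, hxy])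
  obtain ⟨φ, hφ⟩ := PLieLib.exists_pmap p bs ![t ^ q • bs 0, 0, 0] fun i => bs.ext fun j => by
    fin_cases i <;> fin_cases j <;>
      simp only [Matrix.cons_val_zero, Matrix.cons_val_one, Matrix.cons_val_two, Matrix.tail_cons, Matrix.head_cons,
        Fin.zero_eta, Fin.mk_one, Fin.reduceFinMk, Matrix.cons_val, map_zero, map_smul, LinearMap.zero_apply,
        LinearMap.smul_apply, LieAlgebra.ad_apply]
    · rw [PLieLib.ad_pow_two_zero (by rw [lie_self, lie_zero]) hp2, lie_self, smul_zero]
    · exact k1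
    · exact k2
    · exact PLieLib.ad_pow_two_zero (by rw [hyx, lie_neg, hyz, neg_zero]) hp2
    · exact PLieLib.ad_pow_two_zero (by rw [lie_self, lie_zero]) hp2
    · exact PLieLib.ad_pow_two_zero (by rw [hyz, lie_zero]) hp2
    · exact PLieLib.ad_pow_two_zero (by rw [hzx, lie_neg, lie_smul, hzy, smul_zero, neg_zero]) hp2
    · exact PLieLib.ad_pow_two_zero (by rw [hzy, lie_zero]) hp2
    · exact PLieLib.ad_pow_two_zero (by rw [lie_self, lie_zero]) hp2
  exact ⟨φ, by rw [show (p - 1) / 2 = q by omega]; exact hφ 0, hφ 1, hφ 2⟩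

end Groth.Agent.S13779
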