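import Groth.Statements.S1378
import Groth.Agent.FlatMorAIC.Scheme

set_option autoImplicit false
universe u
open FlatMor

namespace Groth.Agent.S1378

open AlgebraicGeometry CategoryTheory Limits in
/-- Let S' → S be flat, locally of finite presentation and surjective (an fppf cover by one morphism).
Then there is a surjective integral morphism T → S which factors through S' Zariski locally on T. -/
theorem result {S' S : Scheme.{u}} (g : S' ⟶ S) [Flat g] [LocallyOfFinitePresentation g] [Surjective g] :
    ∃ (T : Scheme.{u}) (π : T ⟶ S), Surjective π ∧ IsIntegralHom π ∧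
      ∀ t : ↑T, ∃ (V : T.Opens) (r : ↑V ⟶ S'), t ∈ V ∧ r ≫ g = V.ι ≫ π := by
  exact ⟨FlatMorAIC.total S, FlatMorAIC.toBase S, inferInstance, inferInstance, FlatMorAIC.exists_lift g⟩

end Groth.Agent.S1378
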