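import Groth.Statements.S13782
import Groth.Agent.CAlgH3.CyclicCover

set_option autoImplicit false
universe u
open CAlg

namespace Groth.Agent.S13782

/-- Let k be a field, A a smooth k-algebra, s an irreducible element of A and e an integer, at least 2,
that is invertible in k. Then the k-algebra A[t]/(t^e - s) is smooth exactly when the quotient ring
A/(s) is a smooth k-algebra. (Smooth over k means formally smooth and of finite presentation over
k.) -/
theorem result (k A : Type u) [Field k] [CommRing A] [Algebra k A]
    [Algebra.Smooth k A] (s : A) (hs : Irreducible s) (e : ℕ) (he : 2 ≤ e) (hek : (e : k) ≠ 0) :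
    Algebra.Smooth k (AdjoinRoot (Polynomial.X ^ e - Polynomial.C s)) ↔
      Algebra.Smooth k (A ⧸ Ideal.span {s}) := by
  have hnz := Groth.Agent.CAlgH3.CyclicCover.mem_nonZeroDivisors_of_irreducible k A s hs
  constructor
  · intro h
    have : Algebra.FinitePresentation k (A ⧸ Ideal.span {s}) := Algebra.FinitePresentation.quotient (Submodule.fg_span_singleton s)
    have := Groth.Agent.CAlgH3.CyclicCover.forward s hnz e he h.formallySmooth
    exact ⟨this, by assumption⟩
  · intro h
    have h1 := Groth.Agent.CAlgH3.CyclicCover.backward s hnz e (isUnit_iff_ne_zero.2 hek) h.formallySmooth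
    have h2 : Algebra.FinitePresentation k (Polynomial A) := Algebra.FinitePresentation.trans k A (Polynomial A)
    have h3 : Algebra.FinitePresentation k (AdjoinRoot (Polynomial.X ^ e - Polynomial.C s)) := Algebra.FinitePresentation.quotient (Submodule.fg_span_singleton _)
    exact ⟨h1, h3⟩

end Groth.Agent.S13782
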