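import Groth.Statements.S13783
import Groth.Agent.Clifford24.P1Three
import Mathlib

set_option autoImplicit false
universe u
open Curves

open Groth.Agent.Clifford24.P1Three
namespace Groth.Agent.S13783

/-- Let k be a field and K a finite Galois extension of k. Let S be a finite set of at most three
K-points of the projective line that is stable under the Galois group of K over k, and let b be a
Galois-equivariant bijection from S onto another set S' of K-points. Then some element of GL_2(k)
maps S onto S'. (This is the statement that two closed subschemes of the projective line over k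
which are etale over k of the same degree at most 3 and have isomorphic k-algebras of functions are
exchanged by a k-automorphism of the line, written for their sets of points over a finite Galois
extension K of k splitting both; an isomorphism of the function algebras is the same as a
Galois-equivariant bijection of these point sets.) -/
theorem result (k K : Type u) [Field k] [Field K]
    [Algebra k K] [FiniteDimensional k K] [IsGalois k K]
    (S S' : Set (Projectivization K (Fin 2 → K))) (hfin : S.Finite) (h3 : S.ncard ≤ 3)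
    (hS : ∀ (σ : K ≃ₐ[k] K) (x : Projectivization K (Fin 2 → K)), x ∈ S → W4c1stackycurves.galP σ x ∈ S)
    (b : S ≃ S')
    (hb : ∀ (σ : K ≃ₐ[k] K) (x : S),
      (b ⟨W4c1stackycurves.galP σ x.1, hS σ x.1 x.2⟩ : Projectivization K (Fin 2 → K)) =
        W4c1stackycurves.galP σ (b x).1) :
    ∃ g : Matrix.GeneralLinearGroup (Fin 2) k,
      (fun x => (Matrix.GeneralLinearGroup.toLin ((Matrix.GeneralLinearGroup.map (algebraMap k K)) g)) • x) '' S = S' := by
  classical
  haveI : Fintype S := hfin.fintype
  -- rational points
  let R : Fin 3 → Projectivization K (Fin 2 → K) := fun i =>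
    Projectivization.mk K (![![(1 : K), 0], ![0, 1], ![1, 1]] i)
      (by fin_cases i <;> simp)
  have hRinj : Function.Injective R := by
    intro i j h
    obtain ⟨c, hc⟩ := (Projectivization.mk_eq_mk_iff' K _ _ _ _).mp h
    fin_cases i <;> fin_cases j <;>
      first
        | rfl
        | (exfalso; have h0 := congrFun hc 0; have h1 := congrFun hc 1; simp at h0 h1; done)
        | (exfalso; have h0 := congrFun hc 0; have h1 := congrFun hc 1; simp at h0 h1
           simp_all)
  have hRfix : ∀ (σ : K ≃ₐ[k] K) i, W4c1stackycurves.galP σ (R i) = R i := by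
    intro σ i
    simp only [R, galP_mk]
    congr 1
    funext j
    fin_cases i <;> fin_cases j <;> simp
  have pick : ∀ T : Finset (Projectivization K (Fin 2 → K)), T.card ≤ 3 →
      ∃ r : Fin (3 - T.card) ↪ Projectivization K (Fin 2 → K),
        ∀ j, r j ∉ T ∧ ∀ σ : K ≃ₐ[k] K, W4c1stackycurves.galP σ (r j) = r j := by
    intro T hT
    have hcard : 3 - T.card ≤ ((Finset.univ.image R) \ T).card := by
      have := Finset.le_card_sdiff T (Finset.univ.image R)
      rwa [Finset.card_image_of_injective _ hRinj, Finset.card_univ, Fintype.card_fin] at this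
    obtain ⟨U, hU, hUc⟩ := Finset.exists_subset_card_eq hcard
    refine ⟨(U.equivFinOfCardEq hUc).symm.toEmbedding.trans (Function.Embedding.subtype _),
      fun j => ?_⟩
    have hj := hU ((U.equivFinOfCardEq hUc).symm j).2
    simp only [Finset.mem_sdiff, Finset.mem_image, Finset.mem_univ, true_and] at hj
    obtain ⟨⟨i, hi⟩, hn⟩ := hj
    refine ⟨hn, fun σ => ?_⟩
    show W4c1stackycurves.galP σ ((U.equivFinOfCardEq hUc).symm j).1 =
      ((U.equivFinOfCardEq hUc).symm j).1
    rw [← hi, hRfix]
  haveI : Fintype S' := Fintype.ofEquiv S b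
  have hcS : Fintype.card S ≤ 3 := by rwa [← Nat.card_eq_fintype_card, Nat.card_coe_set_eq]
  obtain ⟨r, hr⟩ := pick S.toFinset (by rwa [Set.toFinset_card])
  obtain ⟨r', hr'⟩ := pick S'.toFinset (by rwa [Set.toFinset_card, ← Fintype.card_congr b])
  have hm : 3 - S.toFinset.card = 3 - S'.toFinset.card := by
    rw [Set.toFinset_card, Set.toFinset_card, Fintype.card_congr b]
  let x0 : S ⊕ Fin (3 - S.toFinset.card) → Projectivization K (Fin 2 → K) := Sum.elim Subtype.val r
  let y0 : S ⊕ Fin (3 - S.toFinset.card) → Projectivization K (Fin 2 → K) :=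
    Sum.elim (fun s => (b s).1) (fun j => r' (Fin.cast hm j))
  have hx0 : Function.Injective x0 :=
    Function.Injective.sumElim Subtype.val_injective r.injective fun s j h =>
      (hr j).1 (Set.mem_toFinset.mpr (h ▸ s.2))
  have hy0 : Function.Injective y0 :=
    Function.Injective.sumElim (Subtype.val_injective.comp b.injective)
      (r'.injective.comp (Fin.cast_injective hm)) fun s j h =>
      (hr' (Fin.cast hm j)).1 (Set.mem_toFinset.mpr (h ▸ (b s).2))
  have hc3 : Fintype.card (S ⊕ Fin (3 - S.toFinset.card)) = 3 := by
    simp only [Fintype.card_sum, Fintype.card_fin, Set.toFinset_card]; omega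
  let e := (Fintype.equivFinOfCardEq hc3).symm
  obtain ⟨g, hdet, hg, huniq⟩ := exists_maps_three (x0 ∘ e) (y0 ∘ e)
    (hx0.comp e.injective) (hy0.comp e.injective)
  have hg' : ∀ s, Maps g (x0 s) (y0 s) := fun s => by
    have := hg (e.symm s); simpa using this
  -- Galois invariance up to scalar
  have hgal : ∀ σ : K ≃ₐ[k] K, ∃ c : K, g.map σ = c • g := by
    intro σ
    let π : S ⊕ Fin (3 - S.toFinset.card) → S ⊕ Fin (3 - S.toFinset.card) :=
      Sum.map (fun s => ⟨W4c1stackycurves.galP σ s.1, hS σ s.1 s.2⟩) id
    have hπ : Function.Surjective π := by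
      refine Finite.injective_iff_surjective.mp (Sum.map_injective.mpr ⟨fun s t h => ?_, Function.injective_id⟩)
      exact Subtype.ext (galP_injective σ (congrArg Subtype.val h))
    have hx : ∀ s, W4c1stackycurves.galP σ (x0 s) = x0 (π s) := by
      rintro (s | j)
      · rfl
      · exact (hr j).2 σ
    have hy : ∀ s, W4c1stackycurves.galP σ (y0 s) = y0 (π s) := by
      rintro (s | j)
      · exact (hb σ s).symm
      · exact (hr' _).2 σ
    refine huniq _ fun i => ?_
    obtain ⟨t, ht⟩ := hπ (e i)
    show Maps _ (x0 (e i)) (y0 (e i))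
    rw [← ht, ← hx, ← hy]
    exact maps_gal σ (hg' t)
  obtain ⟨a, a', ha⟩ : ∃ a a', g a a' ≠ 0 := by
    by_contra h
    push_neg at h
    exact hdet (by simp [Matrix.det_fin_two, h])
  have hfix : ∀ i j, ∃ q : k, algebraMap k K q = (g a a')⁻¹ * g i j := by
    intro i j
    refine IntermediateField.mem_bot.mp ((IsGalois.mem_bot_iff_fixed _).mpr fun σ => ?_)
    obtain ⟨c, hc⟩ := hgal σ
    have h1 : σ (g i j) = c * g i j := congrFun (congrFun hc i) j
    have h2 : σ (g a a') = c * g a a' := congrFun (congrFun hc a) a'
    have hc0 : c ≠ 0 := fun h0 => ha (σ.injective (by simp [h2, h0]))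
    rw [map_mul, map_inv₀, h1, h2]
    field_simp
  choose q hq using hfix
  have hmap : (Matrix.of q).map (algebraMap k K) = (g a a')⁻¹ • g := by
    ext i j; simp [hq]
  have hqdet : (Matrix.of q).det ≠ 0 := by
    intro h
    have h' := congrArg (algebraMap k K) h
    rw [RingHom.map_det, RingHom.mapMatrix_apply, hmap, Matrix.det_smul, map_zero] at h'
    simp [ha, hdet] at h'
  let G := Matrix.GeneralLinearGroup.mkOfDetNeZero (Matrix.of q) hqdet
  refine ⟨G, ?_⟩
  have key : ∀ s : S,
      (Matrix.GeneralLinearGroup.toLin ((Matrix.GeneralLinearGroup.map (algebraMap k K)) G)) • s.1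
        = (b s).1 := by
    intro s
    obtain ⟨hne, he⟩ := hg' (Sum.inl s) _ (Projectivization.rep_nonzero s.1)
      (Projectivization.mk_rep s.1)
    conv_lhs => rw [← Projectivization.mk_rep s.1]
    rw [Projectivization.smul_mk]
    refine Eq.trans ?_ he
    rw [Projectivization.mk_eq_mk_iff']
    refine ⟨(g a a')⁻¹, ?_⟩
    show _ = ((Matrix.of q).map (algebraMap k K)).mulVec _
    rw [hmap, Matrix.smul_mulVec]
  ext z
  constructor
  · rintro ⟨x, hx, rfl⟩
    simp only
    rw [key ⟨x, hx⟩]; exact (b ⟨x, hx⟩).2
  · intro hz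
    refine ⟨(b.symm ⟨z, hz⟩).1, (b.symm ⟨z, hz⟩).2, ?_⟩
    simp [key]

end Groth.Agent.S13783
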