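import Groth.Statements.S13784
import Mathlib.RingTheory.IntegralDomain
import Mathlib.RingTheory.LocalRing.ResidueField.Basic
import Mathlib.Algebra.Ring.GeomSum

set_option autoImplicit false
universe u
open CAlg

namespace Groth.Agent.S13784

/-- Let A be a commutative local ring and G a finite subgroup of Aˣ. If the order of G is invertible in
A, then G is cyclic. -/
theorem result {A : Type u} [CommRing A] [IsLocalRing A]
    (G : Subgroup Aˣ) [Finite G] (hG : IsUnit ((Nat.card G : ℕ) : A)) : IsCyclic G := by
  let f : G →* IsLocalRing.ResidueField A := ((IsLocalRing.residue A).toMonoidHom.comp (Units.coeHom A)).comp G.subtype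
  refine isCyclic_of_subgroup_isDomain f ?_
  rw [injective_iff_map_eq_one]
  intro g hg
  set x : A := ((g : Aˣ) : A)
  have hx : x - 1 ∈ IsLocalRing.maximalIdeal A := by
    rw [← IsLocalRing.residue_eq_zero_iff, map_sub, map_one, sub_eq_zero]
    exact hg
  have hpow : x ^ Nat.card G = 1 := by
    have : g ^ Nat.card G = 1 := pow_card_eq_one'
    have h1 := congrArg (fun y : G => ((y : Aˣ) : A)) this
    simp only [SubmonoidClass.coe_pow, Units.val_pow_eq_pow_val, OneMemClass.coe_one, Units.val_one] at h1
    exact h1
  have hsum : IsUnit (∑ i ∈ Finset.range (Nat.card G), x ^ i) := by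
    have h1 : (Nat.card G : A) - (∑ i ∈ Finset.range (Nat.card G), x ^ i) ∈ IsLocalRing.maximalIdeal A := by
      rw [← IsLocalRing.residue_eq_zero_iff, map_sub, map_sum]
      have : IsLocalRing.residue A x = 1 := hg
      simp [this]
    by_contra hc
    exact (IsLocalRing.maximalIdeal A).add_mem h1 ((IsLocalRing.mem_maximalIdeal _).2 hc) |> fun h => (IsLocalRing.mem_maximalIdeal _).1 (by rwa [sub_add_cancel] at h) hG
  have : x - 1 = 0 := by
    have := mul_geom_sum x (Nat.card G)
    rw [hpow, sub_self] at this
    exact hsum.mul_left_eq_zero.1 this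
  exact Subtype.ext (Units.ext (sub_eq_zero.1 this))

end Groth.Agent.S13784
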