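import Groth.Statements.S13785
import Mathlib.LinearAlgebra.Matrix.MvPolynomial
import Mathlib.LinearAlgebra.Matrix.Charpoly.Coeff
import Mathlib.Algebra.Polynomial.RingDivision

set_option autoImplicit false
universe u
open CAlg

namespace Groth.Agent.S13785

/-- For any commutative ring A, the determinant of the generic n × n matrix is a nonzerodivisor of the
polynomial ring over A in the n² matrix entries. -/
theorem result (A : Type u) [CommRing A] (n : ℕ) :
    (Matrix.mvPolynomialX (Fin n) (Fin n) A).det ∈ nonZeroDivisors (MvPolynomial (Fin n × Fin n) A) := by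
  classical
  let P := MvPolynomial (Fin n × Fin n) A
  let φ : P →+* Polynomial P := MvPolynomial.eval₂Hom (Polynomial.C.comp MvPolynomial.C)
    (fun p => (Matrix.charmatrix (-(Matrix.mvPolynomialX (Fin n) (Fin n) A))) p.1 p.2)
  have hdet : φ (Matrix.mvPolynomialX (Fin n) (Fin n) A).det = (-(Matrix.mvPolynomialX (Fin n) (Fin n) A)).charpoly := by
    rw [RingHom.map_det, Matrix.charpoly]
    congr 1
    ext i j : 1
    simp only [RingHom.mapMatrix_apply, Matrix.map_apply, Matrix.mvPolynomialX_apply]
    exact MvPolynomial.eval₂Hom_X' _ _ (i, j)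
  have hinj : Function.Injective φ := by
    refine Function.LeftInverse.injective (g := Polynomial.evalRingHom (0 : P)) fun f => ?_
    induction f using MvPolynomial.induction_on with
    | C a => rw [show φ (MvPolynomial.C a) = Polynomial.C (MvPolynomial.C a) from MvPolynomial.eval₂Hom_C _ _ a, Polynomial.coe_evalRingHom, Polynomial.eval_C]
    | add p q hp hq => rw [map_add, map_add, hp, hq]
    | mul_X p i hp =>
      rw [map_mul, map_mul, hp]
      congr 1
      rw [show φ (MvPolynomial.X i) = _ from MvPolynomial.eval₂Hom_X' _ _ i]
      simp [Matrix.charmatrix_apply, Matrix.mvPolynomialX_apply, Matrix.diagonal, apply_ite (Polynomial.eval (0 : P))]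
  rw [mem_nonZeroDivisors_iff_right]
  intro f hf
  apply hinj
  have h := congrArg φ hf
  rw [map_mul, map_zero, hdet] at h
  rw [map_zero]
  exact (mem_nonZeroDivisors_iff_right.1 (Matrix.charpoly_monic _).mem_nonZeroDivisors) _ h

end Groth.Agent.S13785
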