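import Groth.Statements.S13786
import Mathlib
import Groth.Agent.S13785

set_option autoImplicit false
universe u
open CAlg

namespace Groth.Agent.S13786

/-- For a commutative ring A and n ≥ 1, with det the determinant of the generic n × n matrix in the
polynomial ring A[X] in n² indeterminates, the A-algebra A[X]/(det) is faithfully flat over A. (For
n = 0 the determinant is 1 and the quotient is the zero ring, so n ≥ 1 is required.) -/
theorem result (A : Type u) [CommRing A] (n : ℕ) (hn : 0 < n) :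
    Module.FaithfullyFlat A
      (MvPolynomial (Fin n × Fin n) A ⧸ Ideal.span {(Matrix.mvPolynomialX (Fin n) (Fin n) A).det}) := by
  classical
  let Q := MvPolynomial (Fin n × Fin n) A ⧸ Ideal.span {(Matrix.mvPolynomialX (Fin n) (Fin n) A).det}
  let Q₀ := MvPolynomial (Fin n × Fin n) ℤ ⧸ Ideal.span {(Matrix.mvPolynomialX (Fin n) (Fin n) ℤ).det}
  have hmap : ∀ {R S : Type} [CommRing R] [CommRing S] (f : R →+* S),
      MvPolynomial.map f (Matrix.mvPolynomialX (Fin n) (Fin n) R).det = (Matrix.mvPolynomialX (Fin n) (Fin n) S).det := fun {R S} _ _ f => by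
    rw [RingHom.map_det]
    congr 1
    ext i j
    simp
  -- flatness over the integers
  haveI : Module.IsTorsionFree ℤ Q₀ := by
    constructor
    intro m hm x y hxy
    obtain ⟨f, rfl⟩ := Ideal.Quotient.mk_surjective x
    obtain ⟨f', rfl⟩ := Ideal.Quotient.mk_surjective y
    have hm0 : m ≠ 0 := hm.ne_zero
    have hxy' : Ideal.Quotient.mk (Ideal.span {(Matrix.mvPolynomialX (Fin n) (Fin n) ℤ).det}) (MvPolynomial.C m * (f - f')) = 0 := by
      rw [map_mul, map_sub, mul_sub, sub_eq_zero]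
      simpa [zsmul_eq_mul, eq_intCast] using hxy
    rw [Ideal.Quotient.eq_zero_iff_mem, Ideal.mem_span_singleton] at hxy'
    obtain ⟨g, hg⟩ := hxy'
    have hg' : MvPolynomial.map (Ideal.Quotient.mk (Ideal.span {m})) g = 0 := by
      refine (mem_nonZeroDivisors_iff_left.1 (Groth.Agent.S13785.result (ℤ ⧸ Ideal.span {m}) n)) _ ?_
      show (Matrix.mvPolynomialX (Fin n) (Fin n) (ℤ ⧸ Ideal.span {m})).det * _ = 0
      rw [← hmap (Ideal.Quotient.mk (Ideal.span {m})), ← map_mul, ← hg, map_mul, MvPolynomial.map_C,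
        Ideal.Quotient.eq_zero_iff_mem.2 (Ideal.mem_span_singleton_self m), map_zero, zero_mul]
    obtain ⟨g', rfl⟩ : MvPolynomial.C m ∣ g := by
      rw [MvPolynomial.C_dvd_iff_dvd_coeff]
      intro s
      rw [← Ideal.mem_span_singleton, ← Ideal.Quotient.eq_zero_iff_mem, ← MvPolynomial.coeff_map, hg',
        MvPolynomial.coeff_zero]
    rw [Ideal.Quotient.eq, Ideal.mem_span_singleton]
    refine ⟨g', mul_left_cancel₀ (MvPolynomial.C_ne_zero.2 hm0) ?_⟩
    rw [hg]; ring
  haveI : Module.Flat ℤ Q₀ := inferInstance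
  -- base change
  let f₁ : Q₀ →ₐ[ℤ] Q := Ideal.Quotient.liftₐ _ (((Ideal.Quotient.mkₐ A (Ideal.span {(Matrix.mvPolynomialX (Fin n) (Fin n) A).det})).restrictScalars ℤ).comp
      (MvPolynomial.aeval (fun i => (MvPolynomial.X i : MvPolynomial (Fin n × Fin n) A)))) (by
    intro a ha
    obtain ⟨b, rfl⟩ := Ideal.mem_span_singleton'.1 ha
    rw [map_mul]
    refine mul_eq_zero_of_right _ ?_
    show Ideal.Quotient.mk _ (MvPolynomial.aeval (fun i => (MvPolynomial.X i : MvPolynomial (Fin n × Fin n) A)) (Matrix.mvPolynomialX (Fin n) (Fin n) ℤ).det) = 0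
    rw [Ideal.Quotient.eq_zero_iff_mem, Ideal.mem_span_singleton]
    refine dvd_of_eq ?_
    symm
    show MvPolynomial.aeval (fun i => (MvPolynomial.X i : MvPolynomial (Fin n × Fin n) A)) (Matrix.mvPolynomialX (Fin n) (Fin n) ℤ).det = _
    rw [AlgHom.map_det]
    congr 1
    ext i j
    simp)
  let fwd : TensorProduct ℤ A Q₀ →ₐ[A] Q :=
    Algebra.TensorProduct.lift (Algebra.ofId A Q) f₁ (fun _ _ => Commute.all _ _)
  let bwd : Q →ₐ[A] TensorProduct ℤ A Q₀ := Ideal.Quotient.liftₐ _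
    (MvPolynomial.aeval fun i => (1 : A) ⊗ₜ[ℤ] Ideal.Quotient.mk (Ideal.span {(Matrix.mvPolynomialX (Fin n) (Fin n) ℤ).det}) (MvPolynomial.X i)) (by
    intro a ha
    refine RingHom.mem_ker.1 ((Ideal.span_singleton_le_iff_mem (I := RingHom.ker _)).2 (RingHom.mem_ker.2 ?_) ha)
    have hdA : MvPolynomial.map (algebraMap ℤ A) (Matrix.mvPolynomialX (Fin n) (Fin n) ℤ).det =
        (Matrix.mvPolynomialX (Fin n) (Fin n) A).det := by
      rw [RingHom.map_det]
      congr 1
      ext i j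
      simp
    let ι : MvPolynomial (Fin n × Fin n) ℤ →ₐ[ℤ] TensorProduct ℤ A Q₀ :=
      (Algebra.TensorProduct.includeRight : Q₀ →ₐ[ℤ] TensorProduct ℤ A Q₀).comp (Ideal.Quotient.mkₐ ℤ _)
    have hι : ι = MvPolynomial.aeval fun i => (1 : A) ⊗ₜ[ℤ] Ideal.Quotient.mk (Ideal.span {(Matrix.mvPolynomialX (Fin n) (Fin n) ℤ).det}) (MvPolynomial.X i) :=
      MvPolynomial.algHom_ext fun i => by rw [MvPolynomial.aeval_X]; rfl
    rw [← hdA, MvPolynomial.aeval_map_algebraMap, ← hι]
    show (1 : A) ⊗ₜ[ℤ] Ideal.Quotient.mk (Ideal.span {(Matrix.mvPolynomialX (Fin n) (Fin n) ℤ).det}) (Matrix.mvPolynomialX (Fin n) (Fin n) ℤ).det = 0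
    rw [Ideal.Quotient.eq_zero_iff_mem.2 (Ideal.mem_span_singleton_self _), TensorProduct.tmul_zero])
  let e : TensorProduct ℤ A Q₀ ≃ₐ[A] Q := AlgEquiv.ofAlgHom fwd bwd
    (Ideal.Quotient.algHom_ext A (MvPolynomial.algHom_ext fun i => by
      show fwd (bwd (Ideal.Quotient.mk _ (MvPolynomial.X i))) = Ideal.Quotient.mk _ (MvPolynomial.X i)
      show fwd (MvPolynomial.aeval _ (MvPolynomial.X i)) = _
      rw [MvPolynomial.aeval_X]
      show Algebra.TensorProduct.lift (Algebra.ofId A Q) f₁ (fun _ _ => Commute.all _ _) _ = _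
      rw [Algebra.TensorProduct.lift_tmul, map_one, one_mul]
      show (Ideal.Quotient.mk _) (MvPolynomial.aeval _ (MvPolynomial.X i)) = _
      rw [MvPolynomial.aeval_X]))
    (Algebra.TensorProduct.ext (Subsingleton.elim _ _) (Ideal.Quotient.algHom_ext ℤ (MvPolynomial.algHom_ext fun i => by
      show bwd (fwd (1 ⊗ₜ Ideal.Quotient.mk _ (MvPolynomial.X i))) = 1 ⊗ₜ Ideal.Quotient.mk _ (MvPolynomial.X i)
      show bwd (Algebra.TensorProduct.lift (Algebra.ofId A Q) f₁ (fun _ _ => Commute.all _ _) _) = _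
      rw [Algebra.TensorProduct.lift_tmul, map_one, one_mul]
      show bwd (Ideal.Quotient.mk _ (MvPolynomial.aeval _ (MvPolynomial.X i))) = _
      rw [MvPolynomial.aeval_X]
      show MvPolynomial.aeval _ (MvPolynomial.X i) = _
      rw [MvPolynomial.aeval_X])))
  haveI : Module.Flat A Q := Module.Flat.of_linearEquiv e.symm.toLinearEquiv
  refine ⟨fun {m} hm htop => hm.ne_top ?_⟩
  let r : Q →ₐ[A] A := Ideal.Quotient.liftₐ _ (MvPolynomial.aeval fun _ => 0) (by
    intro a ha
    obtain ⟨b, rfl⟩ := Ideal.mem_span_singleton'.1 ha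
    rw [map_mul]
    refine mul_eq_zero_of_right _ ?_
    show MvPolynomial.aeval _ (Matrix.mvPolynomialX (Fin n) (Fin n) A).det = 0
    rw [AlgHom.map_det]
    haveI : Nonempty (Fin n) := ⟨⟨0, hn⟩⟩
    refine Eq.trans (congrArg Matrix.det ?_) (Matrix.det_zero (n := Fin n) (R := A))
    ext i j
    simp)
  rw [Ideal.eq_top_iff_one]
  have h1 : (1 : Q) ∈ m • (⊤ : Submodule A Q) := by rw [htop]; trivial
  have h2 := Submodule.mem_map_of_mem (f := r.toLinearMap) h1
  rw [Submodule.map_smul''] at h2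
  have h3 : r.toLinearMap (1 : Q) ∈ m :=
    Submodule.smul_le.2 (fun a ha b _ => by rw [smul_eq_mul]; exact Ideal.mul_mem_right b m ha) h2
  simpa using h3

end Groth.Agent.S13786
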