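import Groth.Statements.S13787
import Mathlib

set_option autoImplicit false
universe u
open CAlg

namespace Groth.Agent.S13787

/-- Let A be a nonzero commutative ring and n ≥ 1, let det be the determinant of the generic n × n
matrix in the polynomial ring A[X] in its n² entries, and let A[X, 1/det] be the localization at det
(the coordinate ring of GL_n over A). The homomorphism Aˣ × ℤ → (A[X, 1/det])ˣ sending (a, e) to a ·
det^e is injective. (The published statement takes the exponent in the group of locally constant
ℤ-valued functions on Spec A, which also covers A = 0; with integer exponents as here, A must be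
nonzero and n ≥ 1.) -/
theorem result (A : Type u) [CommRing A] [Nontrivial A] (n : ℕ) (hn : 0 < n) :
    Function.Injective (fun p : Aˣ × ℤ =>
        Units.map (algebraMap A (Localization.Away (Matrix.mvPolynomialX (Fin n) (Fin n) A).det)).toMonoidHom p.1 *
          (IsLocalization.Away.algebraMap_isUnit (S := Localization.Away (Matrix.mvPolynomialX (Fin n) (Fin n) A).det)
            (Matrix.mvPolynomialX (Fin n) (Fin n) A).det).unit ^ p.2) := by
  classical
  let d : MvPolynomial (Fin n × Fin n) A := (Matrix.mvPolynomialX (Fin n) (Fin n) A).det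
  let L := Localization.Away d
  let dg : Fin n × Fin n → Polynomial A := fun ij => if ij.1 = ij.2 then Polynomial.X else 0
  let φ : MvPolynomial (Fin n × Fin n) A →ₐ[A] Polynomial A := MvPolynomial.aeval dg
  have hφd : φ d = Polynomial.X ^ n := by
    change φ (Matrix.mvPolynomialX (Fin n) (Fin n) A).det = _
    rw [AlgHom.map_det, show φ.mapMatrix (Matrix.mvPolynomialX (Fin n) (Fin n) A) = Matrix.diagonal fun _ => Polynomial.X by
      ext i j
      simp [φ, dg, Matrix.diagonal_apply], Matrix.det_diagonal]
    simp
  have hu : IsUnit (algebraMap (MvPolynomial (Fin n × Fin n) A) L d) := IsLocalization.Away.algebraMap_isUnit d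
  have hval : ∀ (a : Aˣ) (m : ℕ) (z : ℤ), 0 ≤ z + m →
      ((Units.map (algebraMap A L).toMonoidHom a * hu.unit ^ z : Lˣ) : L) * algebraMap _ L d ^ m =
        algebraMap (MvPolynomial (Fin n × Fin n) A) L (MvPolynomial.C (a : A) * d ^ (z + m).toNat) := by
    intro a m z hz
    rw [map_mul, map_pow]
    have h1 : ((hu.unit ^ z : Lˣ) : L) * algebraMap _ L d ^ m = algebraMap _ L d ^ (z + m).toNat := by
      rw [show algebraMap _ L d ^ m = ((hu.unit ^ m : Lˣ) : L) by simp, show algebraMap _ L d ^ (z + m).toNat = ((hu.unit ^ (z + m).toNat : Lˣ) : L) by simp, ← Units.val_mul, ← zpow_natCast,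
        ← zpow_natCast _ (z + m).toNat, ← zpow_add, Int.toNat_of_nonneg hz]
    rw [Units.val_mul, mul_assoc, h1]
    congr 1
  have hinj : ∀ (F G : MvPolynomial (Fin n × Fin n) A), algebraMap _ L F = algebraMap _ L G →
      ∃ m : ℕ, Polynomial.X ^ (n * m) * φ F = Polynomial.X ^ (n * m) * φ G := by
    intro F G h
    obtain ⟨⟨_, m, rfl⟩, hm⟩ := (IsLocalization.eq_iff_exists (Submonoid.powers d) L).1 h
    refine ⟨m, ?_⟩
    have := congrArg φ hm
    simpa [map_mul, map_pow, hφd, ← pow_mul] using this
  have hinj' : ∀ (a : Aˣ) (z : ℤ), (Units.map (algebraMap A L).toMonoidHom a * hu.unit ^ z : Lˣ) = 1 → a = 1 ∧ z = 0 := by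
    intro a z haz
    have h1 := hval a z.natAbs z (by omega)
    rw [haz, Units.val_one, one_mul, ← map_pow] at h1
    obtain ⟨m, hm⟩ := hinj _ _ h1
    rw [map_mul, map_pow, map_pow, hφd, MvPolynomial.algHom_C, ← Polynomial.C_eq_algebraMap] at hm
    have hm' : Polynomial.X ^ (n * m + n * z.natAbs) = Polynomial.C (a : A) * Polynomial.X ^ (n * m + n * (z + z.natAbs).toNat) := by
      linear_combination (exp := 1) hm
    have h3 := congrArg (fun q => Polynomial.coeff q (n * m + n * z.natAbs)) hm'
    simp only [Polynomial.coeff_X_pow, Polynomial.coeff_C_mul, if_pos] at h3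
    have he : n * m + n * z.natAbs = n * m + n * (z + z.natAbs).toNat := by
      by_contra hne
      rw [if_neg hne, mul_zero] at h3
      simp at h3
    rw [if_pos he, mul_one] at h3
    refine ⟨Units.ext h3.symm, ?_⟩
    have := Nat.eq_of_mul_eq_mul_left hn (Nat.add_left_cancel he)
    omega
  rintro ⟨a, z⟩ ⟨a', z'⟩ h
  change Units.map (algebraMap A L).toMonoidHom a * hu.unit ^ z = Units.map (algebraMap A L).toMonoidHom a' * hu.unit ^ z' at h
  have h' : Units.map (algebraMap A L).toMonoidHom (a * a'⁻¹) * hu.unit ^ (z - z') = 1 := by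
    rw [map_mul, map_inv, zpow_sub, mul_mul_mul_comm, h]
    group
    simp
  obtain ⟨h1, h2⟩ := hinj' _ _ h'
  exact Prod.ext (mul_inv_eq_one.1 h1) (by simpa [sub_eq_zero] using h2)

end Groth.Agent.S13787
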