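import Groth.Statements.S13788
import Groth.Agent.S6485

set_option autoImplicit false
universe u
open CAlg

namespace Groth.Agent.S13788

/-- Units of GL_n: let A be a nonzero commutative ring whose only idempotents are 0 and 1, let n ≥ 1,
let det be the determinant of the generic n × n matrix in the polynomial ring A[X] in its n²
entries, and let A[X, 1/det] be the coordinate ring of GL_n over A. The homomorphism Aˣ × ℤ → (A[X,
1/det])ˣ, (a, e) ↦ a · det^e, is bijective if and only if A is reduced. (The published statement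
allows Spec A disconnected, with exponents locally constant ℤ-valued functions on Spec A; this row
is the connected case, to which the published proof reduces.) -/
theorem result (A : Type u) [CommRing A] [Nontrivial A]
    (hconn : ∀ e : A, IsIdempotentElem e → e = 0 ∨ e = 1) (n : ℕ) (hn : 0 < n) :
    Function.Bijective (fun p : Aˣ × ℤ =>
        Units.map (algebraMap A (Localization.Away (Matrix.mvPolynomialX (Fin n) (Fin n) A).det)).toMonoidHom p.1 *
          (IsLocalization.Away.algebraMap_isUnit (S := Localization.Away (Matrix.mvPolynomialX (Fin n) (Fin n) A).det)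
            (Matrix.mvPolynomialX (Fin n) (Fin n) A).det).unit ^ p.2) ↔ IsReduced A := by
  classical
  let d : MvPolynomial (Fin n × Fin n) A := (Matrix.mvPolynomialX (Fin n) (Fin n) A).det
  let L := Localization.Away d
  let dg : Fin n × Fin n → Polynomial A := fun ij => if ij.1 = ij.2 then Polynomial.X else 0
  let φ : MvPolynomial (Fin n × Fin n) A →ₐ[A] Polynomial A := MvPolynomial.aeval dg
  have hφd : φ d = Polynomial.X ^ n := by
    change φ (Matrix.mvPolynomialX (Fin n) (Fin n) A).det = _
    rw [AlgHom.map_det, show φ.mapMatrix (Matrix.mvPolynomialX (Fin n) (Fin n) A) = Matrix.diagonal fun _ => Polynomial.X by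
      ext i j
      simp [φ, dg, Matrix.diagonal_apply], Matrix.det_diagonal]
    simp
  have hu : IsUnit (algebraMap (MvPolynomial (Fin n × Fin n) A) L d) := IsLocalization.Away.algebraMap_isUnit d
  have hval : ∀ (a : Aˣ) (m : ℕ) (z : ℤ), 0 ≤ z + m →
      ((Units.map (algebraMap A L).toMonoidHom a * hu.unit ^ z : Lˣ) : L) * algebraMap _ L d ^ m =
        algebraMap (MvPolynomial (Fin n × Fin n) A) L (MvPolynomial.C (a : A) * d ^ (z + m).toNat) := by
    intro a m z hz
    rw [map_mul, map_pow]
    have h1 : ((hu.unit ^ z : Lˣ) : L) * algebraMap _ L d ^ m = algebraMap _ L d ^ (z + m).toNat := by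
      rw [show algebraMap _ L d ^ m = ((hu.unit ^ m : Lˣ) : L) by simp, show algebraMap _ L d ^ (z + m).toNat = ((hu.unit ^ (z + m).toNat : Lˣ) : L) by simp, ← Units.val_mul, ← zpow_natCast,
        ← zpow_natCast _ (z + m).toNat, ← zpow_add, Int.toNat_of_nonneg hz]
    rw [Units.val_mul, mul_assoc, h1]
    congr 1
  have hinj : ∀ (F G : MvPolynomial (Fin n × Fin n) A), algebraMap _ L F = algebraMap _ L G →
      ∃ m : ℕ, Polynomial.X ^ (n * m) * φ F = Polynomial.X ^ (n * m) * φ G := by
    intro F G h
    obtain ⟨⟨_, m, rfl⟩, hm⟩ := (IsLocalization.eq_iff_exists (Submonoid.powers d) L).1 h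
    refine ⟨m, ?_⟩
    have := congrArg φ hm
    simpa [map_mul, map_pow, hφd, ← pow_mul] using this
  constructor
  · intro hbij
    refine (isReduced_iff_pow_one_lt 2 one_lt_two).2 fun ε hε => ?_
    have hnil : IsNilpotent (algebraMap (MvPolynomial (Fin n × Fin n) A) L (MvPolynomial.C ε * MvPolynomial.X (⟨0, hn⟩, ⟨0, hn⟩))) :=
      ⟨2, by rw [← map_pow, mul_pow, ← map_pow MvPolynomial.C, hε]; simp⟩
    obtain ⟨⟨a, z⟩, haz⟩ := hbij.2 hnil.isUnit_one_add.unit
    have h1 := hval a z.natAbs z (by omega)
    have h2 : ((Units.map (algebraMap A L).toMonoidHom a * hu.unit ^ z : Lˣ) : L) =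
        1 + algebraMap _ L (MvPolynomial.C ε * MvPolynomial.X ((⟨0, hn⟩, ⟨0, hn⟩) : Fin n × Fin n)) := congrArg Units.val haz
    rw [h2, ← map_one (algebraMap (MvPolynomial (Fin n × Fin n) A) L), ← map_add, ← map_pow, ← map_mul] at h1
    obtain ⟨m, hm⟩ := hinj _ _ h1
    have hφX : φ (MvPolynomial.X (⟨0, hn⟩, ⟨0, hn⟩)) = Polynomial.X := by simp [φ, dg]
    rw [map_mul, map_mul, map_add, map_mul, map_one, hφX, map_pow, map_pow, hφd, MvPolynomial.algHom_C, MvPolynomial.algHom_C,
      ← Polynomial.C_eq_algebraMap] at hm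
    generalize (z + z.natAbs).toNat = b at hm
    generalize hE : n * m + n * z.natAbs = e
    have hm' : Polynomial.X ^ e + Polynomial.C ε * Polynomial.X ^ (e + 1) = Polynomial.C (a : A) * Polynomial.X ^ (n * m + n * b) := by
      rw [← hE]
      linear_combination (exp := 1) hm
    have h3 := congrArg (fun q => Polynomial.coeff q e) hm'
    have h4 := congrArg (fun q => Polynomial.coeff q (e + 1)) hm'
    simp only [Polynomial.coeff_add, Polynomial.coeff_X_pow, Polynomial.coeff_C_mul] at h3 h4
    have he : e = n * m + n * b := by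
      by_contra hne
      simp [hne] at h3
    rw [if_true, if_neg (by omega : ¬ e + 1 = n * m + n * b), if_neg (by omega : ¬ e + 1 = e), zero_add, mul_one, mul_zero] at h4
    exact h4
  · intro hred
    have hinj' : ∀ (a : Aˣ) (z : ℤ), (Units.map (algebraMap A L).toMonoidHom a * hu.unit ^ z : Lˣ) = 1 → a = 1 ∧ z = 0 := by
      intro a z haz
      have h1 := hval a z.natAbs z (by omega)
      rw [haz, Units.val_one, one_mul, ← map_pow] at h1
      obtain ⟨m, hm⟩ := hinj _ _ h1
      rw [map_mul, map_pow, map_pow, hφd, MvPolynomial.algHom_C, ← Polynomial.C_eq_algebraMap] at hm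
      have hm' : Polynomial.X ^ (n * m + n * z.natAbs) = Polynomial.C (a : A) * Polynomial.X ^ (n * m + n * (z + z.natAbs).toNat) := by
        linear_combination (exp := 1) hm
      have h3 := congrArg (fun q => Polynomial.coeff q (n * m + n * z.natAbs)) hm'
      simp only [Polynomial.coeff_X_pow, Polynomial.coeff_C_mul, if_pos] at h3
      have he : n * m + n * z.natAbs = n * m + n * (z + z.natAbs).toNat := by
        by_contra hne
        rw [if_neg hne, mul_zero] at h3
        simp at h3
      rw [if_pos he, mul_one] at h3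
      refine ⟨Units.ext h3.symm, ?_⟩
      have := Nat.eq_of_mul_eq_mul_left hn (Nat.add_left_cancel he)
      omega
    refine ⟨?_, ?_⟩
    · rintro ⟨a, z⟩ ⟨a', z'⟩ h
      change Units.map (algebraMap A L).toMonoidHom a * hu.unit ^ z = Units.map (algebraMap A L).toMonoidHom a' * hu.unit ^ z' at h
      have h' : Units.map (algebraMap A L).toMonoidHom (a * a'⁻¹) * hu.unit ^ (z - z') = 1 := by
        rw [map_mul, map_inv, zpow_sub, mul_mul_mul_comm, h]
        group
        simp
      obtain ⟨h1, h2⟩ := hinj' _ _ h'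
      exact Prod.ext (mul_inv_eq_one.1 h1) (by simpa [sub_eq_zero] using h2)
    intro u
    obtain ⟨⟨f, ⟨_, k, rfl⟩⟩, hf⟩ := IsLocalization.surj (Submonoid.powers d) (u : L)
    obtain ⟨⟨g, ⟨_, l, rfl⟩⟩, hg⟩ := IsLocalization.surj (Submonoid.powers d) ((u⁻¹ : Lˣ) : L)
    simp only [map_pow] at hf hg
    have hfg : algebraMap _ L (f * g) = algebraMap _ L (d ^ (k + l)) := by
      rw [map_mul, map_pow, ← hf, ← hg, pow_add, mul_mul_mul_comm, Units.mul_inv, one_mul]
    obtain ⟨⟨_, m, rfl⟩, hm⟩ := (IsLocalization.eq_iff_exists (Submonoid.powers d) L).1 hfg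
    generalize hN : m + (k + l) = N
    have hFG : f * (d ^ m * g) = d ^ N := by
      rw [← hN, pow_add, ← hm]; simp only; ring
    have hprime : ∀ (p : Ideal A) [p.IsPrime], ∃ (c : p.ResidueField) (j : ℕ),
        MvPolynomial.map (algebraMap A p.ResidueField) f =
          MvPolynomial.C c * (Matrix.mvPolynomialX (Fin n) (Fin n) p.ResidueField).det ^ j := by
      intro p _
      have hd : MvPolynomial.map (algebraMap A p.ResidueField) d = (Matrix.mvPolynomialX (Fin n) (Fin n) p.ResidueField).det := by
        change MvPolynomial.map (algebraMap A p.ResidueField) (Matrix.mvPolynomialX (Fin n) (Fin n) A).det = _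
        rw [RingHom.map_det]
        congr 1
        ext i j
        simp
      have hpr : Prime (Matrix.mvPolynomialX (Fin n) (Fin n) p.ResidueField).det :=
        UniqueFactorizationMonoid.irreducible_iff_prime.1 (Groth.Agent.S6485.result p.ResidueField n hn)
      obtain ⟨j, -, hj⟩ := (dvd_prime_pow hpr N).1 (⟨MvPolynomial.map (algebraMap A p.ResidueField) (d ^ m * g), by
        rw [← map_mul, hFG, map_pow, hd]⟩ : MvPolynomial.map (algebraMap A p.ResidueField) f ∣ _)
      obtain ⟨v, hv⟩ := hj.symm
      obtain ⟨c, hc, hc'⟩ := MvPolynomial.isUnit_iff_eq_C_of_isReduced.1 v.isUnit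
      exact ⟨c, j, by rw [← hv, hc', mul_comm]⟩
    let P := φ f
    have hPp : ∀ (p : Ideal A) [p.IsPrime] (c : p.ResidueField) (j : ℕ),
        MvPolynomial.map (algebraMap A p.ResidueField) f = MvPolynomial.C c * (Matrix.mvPolynomialX (Fin n) (Fin n) p.ResidueField).det ^ j →
        P.map (algebraMap A p.ResidueField) = Polynomial.C c * Polynomial.X ^ (n * j) := by
      intro p _ c j h
      let ψ : MvPolynomial (Fin n × Fin n) p.ResidueField →ₐ[p.ResidueField] Polynomial p.ResidueField :=
        MvPolynomial.aeval fun ij => if ij.1 = ij.2 then Polynomial.X else 0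
      have hcomm : ∀ q, (φ q).map (algebraMap A p.ResidueField) = ψ (MvPolynomial.map (algebraMap A p.ResidueField) q) := by
        intro q
        induction q using MvPolynomial.induction_on with
        | C r => simp [φ, ψ]
        | add q r hq hr => simp only [map_add, Polynomial.map_add, hq, hr]
        | mul_X q i hq =>
          simp only [map_mul, Polynomial.map_mul, hq, MvPolynomial.map_X]
          congr 1
          simp [φ, ψ, dg, apply_ite (Polynomial.map (algebraMap A p.ResidueField))]
      rw [hcomm, h, map_mul, map_pow, MvPolynomial.algHom_C, ← Polynomial.C_eq_algebraMap, AlgHom.map_det,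
        show ψ.mapMatrix (Matrix.mvPolynomialX (Fin n) (Fin n) p.ResidueField) = Matrix.diagonal fun _ => Polynomial.X by
          ext i k
          simp [ψ, Matrix.diagonal_apply], Matrix.det_diagonal]
      simp [← pow_mul]
    have hzero : ∀ x : A, (∀ (p : Ideal A) [p.IsPrime], algebraMap A p.ResidueField x = 0) → x = 0 := fun x hx => by
      refine IsReduced.eq_zero x (mem_nilradical.1 ?_)
      rw [nilradical_eq_sInf, Submodule.mem_sInf]
      intro p hp
      have : Ideal.IsPrime p := hp
      exact Ideal.algebraMap_residueField_eq_zero.1 (hx p)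
    have horth : ∀ i k, i ≠ k → P.coeff i * P.coeff k = 0 := by
      intro i k hik
      refine hzero _ fun p _ => ?_
      obtain ⟨c, j, hj⟩ := hprime p
      have := hPp p c j hj
      rw [map_mul, ← Polynomial.coeff_map, ← Polynomial.coeff_map, this, Polynomial.coeff_C_mul, Polynomial.coeff_C_mul,
        Polynomial.coeff_X_pow, Polynomial.coeff_X_pow]
      split_ifs <;> first | omega | simp
    have hsum : IsUnit (P.eval 1) := IsUnit.of_mul_eq_one ((φ (d ^ m * g)).eval 1) (by
      rw [← Polynomial.eval_mul, ← map_mul, hFG, map_pow, hφd]; simp)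
    obtain ⟨s, hs⟩ := hsum
    have hPs : ∑ i ∈ P.support, P.coeff i = (s : A) := by
      rw [hs, Polynomial.eval_eq_sum, Polynomial.sum]; simp
    have hidem : ∀ i ∈ P.support, IsIdempotentElem ((↑s⁻¹ : A) * P.coeff i) := by
      intro i hi
      have h1 : P.coeff i * (s : A) = P.coeff i * P.coeff i := by
        rw [← hPs, Finset.mul_sum]
        exact Finset.sum_eq_single_of_mem i hi fun k _ hk => horth i k (Ne.symm hk)
      have h2 : (s : A) * ↑s⁻¹ = 1 := s.mul_inv
      change _ * _ = _
      linear_combination (-((↑s⁻¹ : A) ^ 2)) * h1 + ((↑s⁻¹ : A) * P.coeff i) * h2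
    obtain ⟨i₀, hi₀, hi₀u⟩ : ∃ i ∈ P.support, IsUnit (P.coeff i) := by
      by_contra! hall
      have : ∑ i ∈ P.support, P.coeff i = 0 := Finset.sum_eq_zero fun i hi => by
        rcases hconn _ (hidem i hi) with h | h
        · exact (Units.mul_right_eq_zero s⁻¹).1 h
        · exact absurd (IsUnit.of_mul_eq_one_right _ h) (hall i hi)
      exact s.ne_zero (hPs ▸ this)
    obtain ⟨p₀, hp₀⟩ := Ideal.exists_maximal A
    obtain ⟨c₀, j₀, hj₀⟩ := hprime p₀
    have hkey : ∀ (p : Ideal A) [p.IsPrime] (c : p.ResidueField) (j : ℕ),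
        MvPolynomial.map (algebraMap A p.ResidueField) f = MvPolynomial.C c * (Matrix.mvPolynomialX (Fin n) (Fin n) p.ResidueField).det ^ j →
        i₀ = n * j ∧ algebraMap A p.ResidueField (P.coeff i₀) = c := by
      intro p _ c j h
      have h1 := congrArg (fun q => Polynomial.coeff q i₀) (hPp p c j h)
      simp only [Polynomial.coeff_map, Polynomial.coeff_C_mul, Polynomial.coeff_X_pow] at h1
      by_cases he : i₀ = n * j
      · rw [if_pos he, mul_one] at h1
        exact ⟨he, h1⟩
      · rw [if_neg he, mul_zero] at h1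
        exact absurd h1 (hi₀u.map _).ne_zero
    have hfeq : f = MvPolynomial.C (P.coeff i₀) * d ^ j₀ := by
      rw [← sub_eq_zero]
      ext μ
      rw [MvPolynomial.coeff_zero]
      refine hzero _ fun p _ => ?_
      obtain ⟨c, j, hj⟩ := hprime p
      obtain ⟨he, hc⟩ := hkey p c j hj
      obtain ⟨he₀, -⟩ := hkey p₀ c₀ j₀ hj₀
      have hjj : j₀ = j := Nat.eq_of_mul_eq_mul_left hn (he₀.symm.trans he)
      rw [← MvPolynomial.coeff_map, map_sub, map_mul, MvPolynomial.map_C, map_pow, RingHom.map_det, hc, hj, hjj,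
        show (MvPolynomial.map (algebraMap A p.ResidueField)).mapMatrix (Matrix.mvPolynomialX (Fin n) (Fin n) A) =
          Matrix.mvPolynomialX (Fin n) (Fin n) p.ResidueField by ext a b; simp, sub_self, MvPolynomial.coeff_zero]
    refine ⟨⟨hi₀u.unit, (j₀ : ℤ) - k⟩, Units.ext ?_⟩
    have hk : IsUnit (algebraMap (MvPolynomial (Fin n × Fin n) A) L d ^ k) := hu.pow k
    refine hk.mul_right_cancel ?_
    rw [hf, hfeq]
    refine (hval hi₀u.unit k ((j₀ : ℤ) - k) (by omega)).trans ?_
    simp
    rfl

end Groth.Agent.S13788
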