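import Groth.Statements.S13789
import Mathlib.RingTheory.Localization.FractionRing

set_option autoImplicit false
universe u
open CAlg

namespace Groth.Agent.S13789

/-- Let A be a commutative ring with total ring of fractions Q and let B be a ring with A ⊆ B ⊆ Q. Then
the inclusion A ⊆ B carries nonzerodivisors of A to nonzerodivisors of B, and every nonzerodivisor
of B has the form r/u with r and u nonzerodivisors of A. -/
theorem result {A Q : Type u} [CommRing A] [CommRing Q] [Algebra A Q] [IsFractionRing A Q] (B : Subalgebra A Q) :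
    (∀ a : A, a ∈ nonZeroDivisors A → algebraMap A B a ∈ nonZeroDivisors B) ∧
    (∀ b : B, b ∈ nonZeroDivisors B → ∃ r u : A, r ∈ nonZeroDivisors A ∧ u ∈ nonZeroDivisors A ∧
      (b : Q) * algebraMap A Q u = algebraMap A Q r) := by
  refine ⟨fun a ha => ?_, fun b hb => ?_⟩
  · rw [mem_nonZeroDivisors_iff_right]
    intro x hx
    have hu := IsLocalization.map_units Q ⟨a, ha⟩
    exact Subtype.ext (hu.mul_left_eq_zero.1 (congrArg Subtype.val hx))
  · obtain ⟨⟨r, u⟩, hru⟩ := IsLocalization.surj (nonZeroDivisors A) (b : Q)
    refine ⟨r, u, ?_, u.2, hru⟩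
    rw [mem_nonZeroDivisors_iff_right]
    intro x hx
    have h1 : (algebraMap A B x * algebraMap A B u) * b = 0 := by
      apply Subtype.ext
      push_cast
      rw [mul_assoc, mul_comm (algebraMap A Q u), hru, ← map_mul, hx, map_zero]
    have h2 := congrArg Subtype.val ((mem_nonZeroDivisors_iff_right.1 hb) _ h1)
    push_cast at h2
    rw [← map_mul] at h2
    have := (IsFractionRing.injective A Q) (h2.trans (map_zero _).symm)
    exact (mem_nonZeroDivisors_iff_right.1 u.2) x this

end Groth.Agent.S13789
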