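import Groth.Statements.S13790
import Mathlib.RingTheory.Localization.FractionRing

set_option autoImplicit false
universe u
open CAlg

namespace Groth.Agent.S13790

/-- Let A be a commutative ring with total ring of fractions Q and let B be a ring with A ⊆ B ⊆ Q. Then
Q, with the inclusion B ⊆ Q, is the total ring of fractions of B. -/
theorem result {A Q : Type u} [CommRing A] [CommRing Q] [Algebra A Q] [IsFractionRing A Q] (B : Subalgebra A Q) :
    IsFractionRing B Q := by
  rw [IsFractionRing, isLocalization_iff]
  refine ⟨?_, fun z => ?_, fun {x y} h => ⟨1, by rw [Subtype.ext h]⟩⟩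
  · rintro ⟨b, hb⟩
    obtain ⟨⟨r, u⟩, hru⟩ := IsLocalization.surj (nonZeroDivisors A) (b : Q)
    have hr : r ∈ nonZeroDivisors A := by
      rw [mem_nonZeroDivisors_iff_right]
      intro x hx
      have h1 : (algebraMap A B x * algebraMap A B u) * b = 0 := by
        apply Subtype.ext
        push_cast
        rw [mul_assoc, mul_comm (algebraMap A Q u), hru, ← map_mul, hx, map_zero]
      have h2 := congrArg Subtype.val ((mem_nonZeroDivisors_iff_right.1 hb) _ h1)
      push_cast at h2
      rw [← map_mul] at h2
      have := (IsFractionRing.injective A Q) (h2.trans (map_zero _).symm)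
      exact (mem_nonZeroDivisors_iff_right.1 u.2) x this
    refine isUnit_of_mul_isUnit_left (y := algebraMap A Q u) ?_
    change IsUnit ((b : Q) * algebraMap A Q u)
    rw [hru]
    exact IsLocalization.map_units Q ⟨r, hr⟩
  · obtain ⟨⟨r, u⟩, hru⟩ := IsLocalization.surj (nonZeroDivisors A) z
    refine ⟨⟨algebraMap A B r, algebraMap A B u, ?_⟩, hru⟩
    rw [mem_nonZeroDivisors_iff_right]
    intro x hx
    exact Subtype.ext ((IsLocalization.map_units Q u).mul_left_eq_zero.1 (congrArg Subtype.val hx))

end Groth.Agent.S13790
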