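import Groth.Prelude.Def_CohSite
import Mathlib.CategoryTheory.Sites.ConstantSheaf
import Groth.Agent.SiteCoh.ExtAcyclic
import Groth.Agent.SiteCoh.Basics
import Mathlib.CategoryTheory.Sites.PreservesSheafification
import Mathlib.Algebra.Category.Grp.Abelian
import Mathlib.CategoryTheory.Sites.ConstantSheaf

set_option autoImplicit false
universe u
open CategoryTheory
open CohSite

namespace Groth.Agent.S13791

open CategoryTheory.Limits CategoryTheory.Abelian Opposite

variable {C : Type u} [SmallCategory C] (J : GrothendieckTopology C)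

/-- Morphisms out of the constant sheaf `ℤ` lift along the map of constant sheaves attached to a
surjection of abelian groups. -/
lemma exists_lift {M N : AddCommGrpCat.{u}} (g : M ⟶ N) (hg : Function.Surjective g)
    (a : (constantSheaf J AddCommGrpCat.{u}).obj (AddCommGrpCat.of (ULift.{u} ℤ)) ⟶
      (constantSheaf J AddCommGrpCat.{u}).obj N) :
    ∃ b, b ≫ (constantSheaf J AddCommGrpCat.{u}).map g = a := by
  choose s hs using hg
  let e := constantCommuteCompose J (forget AddCommGrpCat.{u})
  let σ : (sheafCompose J (forget AddCommGrpCat.{u})).obj ((constantSheaf J AddCommGrpCat.{u}).obj N) ⟶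
      (sheafCompose J (forget AddCommGrpCat.{u})).obj ((constantSheaf J AddCommGrpCat.{u}).obj M) :=
    e.hom.app N ≫ (constantSheaf J (Type u)).map (TypeCat.ofHom s) ≫ e.inv.app M
  have hsg : (TypeCat.ofHom s : (forget AddCommGrpCat.{u}).obj N ⟶ (forget AddCommGrpCat.{u}).obj M) ≫
      (forget AddCommGrpCat.{u}).map g = 𝟙 _ := by
    ext x; exact hs x
  have hσ : σ ≫ (sheafCompose J (forget AddCommGrpCat.{u})).map
      ((constantSheaf J AddCommGrpCat.{u}).map g) = 𝟙 _ := by
    simp only [σ, Category.assoc]
    erw [← e.inv.naturality g]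
    rw [← Category.assoc ((constantSheaf J (Type u)).map _)]
    erw [← (constantSheaf J (Type u)).map_comp, hsg, (constantSheaf J (Type u)).map_id,
      Category.id_comp, e.hom_inv_id_app]
    rfl
  let adj := sheafificationAdjunction J AddCommGrpCat.{u}
  let a' : (Functor.const Cᵒᵖ).obj (AddCommGrpCat.of (ULift.{u} ℤ)) ⟶
      ((constantSheaf J AddCommGrpCat.{u}).obj N).obj := adj.homEquiv _ _ a
  let sV (V : Cᵒᵖ) (x : ((constantSheaf J AddCommGrpCat.{u}).obj N).obj.obj V) :
      ((constantSheaf J AddCommGrpCat.{u}).obj M).obj.obj V := σ.hom.app V x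
  let b' : (Functor.const Cᵒᵖ).obj (AddCommGrpCat.of (ULift.{u} ℤ)) ⟶
      ((constantSheaf J AddCommGrpCat.{u}).obj M).obj :=
    { app := fun V => AddCommGrpCat.ofHom (uliftZMultiplesHom _
        (sV V (a'.app V (ULift.up 1))))
      naturality := fun V W f => by
        apply AddCommGrpCat.hom_ext
        apply (uliftZMultiplesHom _).symm.injective
        change uliftZMultiplesHom _ (sV W (a'.app W (ULift.up 1))) (ULift.up 1) =
          ((constantSheaf J AddCommGrpCat.{u}).obj M).obj.map f
            (uliftZMultiplesHom _ (sV V (a'.app V (ULift.up 1))) (ULift.up 1))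
        refine (one_zsmul _).trans (Eq.trans ?_ (congrArg _ (one_zsmul _).symm))
        refine Eq.trans ?_ (ConcreteCategory.congr_hom (σ.hom.naturality f) _)
        exact congrArg (sV W) (ConcreteCategory.congr_hom (a'.naturality f) (ULift.up 1)) }
  refine ⟨(adj.homEquiv _ _).symm b', (adj.homEquiv _ _).injective ?_⟩
  refine (adj.homEquiv_naturality_right ((adj.homEquiv _ _).symm b')
    ((constantSheaf J AddCommGrpCat.{u}).map g)).trans ?_
  refine (congrArg (fun m => m ≫ _) ((adj.homEquiv _ _).apply_symm_apply b')).trans ?_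
  ext V : 2
  apply AddCommGrpCat.hom_ext
  apply (uliftZMultiplesHom _).symm.injective
  change ((constantSheaf J AddCommGrpCat.{u}).map g).hom.app V
    (uliftZMultiplesHom _ (sV V (a'.app V (ULift.up 1))) (ULift.up 1)) = a'.app V (ULift.up 1)
  refine (congrArg _ (one_zsmul _)).trans ?_
  exact ConcreteCategory.congr_hom (NatTrans.congr_app (congrArg InducedCategory.Hom.hom hσ) V) _

lemma injective_comp_f {A : Type*} [Category* A] [Abelian A] [HasExt.{u} A] {X : A}
    {S : ShortComplex A} (hS : S.ShortExact) (h : ∀ a : X ⟶ S.X₃, ∃ b, b ≫ S.g = a) :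
    Function.Injective ((Ext.mk₀ S.f).postcomp X (add_zero 1)) := by
  refine (injective_iff_map_eq_zero _).2 fun x hx => ?_
  obtain ⟨y, rfl⟩ := Ext.covariant_sequence_exact₁ _ hS x hx (zero_add 1)
  obtain ⟨a, rfl⟩ := (Ext.mk₀_bijective _ _).2 y
  obtain ⟨b, rfl⟩ := h a
  rw [← Ext.mk₀_comp_mk₀, Ext.comp_assoc_of_second_deg_zero, hS.comp_extClass, Ext.comp_zero]

instance : PreservesFiniteLimits (constantSheaf J AddCommGrpCat.{u}) :=
  comp_preservesFiniteLimits _ (presheafToSheaf J AddCommGrpCat.{u})

instance : PreservesFiniteColimits (constantSheaf J AddCommGrpCat.{u}) :=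
  comp_preservesFiniteColimits _ (presheafToSheaf J AddCommGrpCat.{u})

instance : (constantSheaf J AddCommGrpCat.{u}).Additive :=
  Functor.additive_of_preserves_binary_products _

/-- On a site, for a short exact sequence 0 → A → B → C → 0 of abelian groups the map H¹(A) → H¹(B) on
the first cohomology of the associated constant sheaves is injective. Stated for an injective
homomorphism f : A → B (C being its cokernel), with H¹ the Ext-based sheaf cohomology of the site. -/
theorem result {C : Type u} [SmallCategory C] (J : GrothendieckTopology C)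
    {A B : Type u} [AddCommGroup A] [AddCommGroup B] (f : A →+ B) (hf : Function.Injective f) :
    Function.Injective
      (Sheaf.H.map ((constantSheaf J AddCommGrpCat.{u}).map (AddCommGrpCat.ofHom f)) 1) := by
  let φ : AddCommGrpCat.of A ⟶ AddCommGrpCat.of B := AddCommGrpCat.ofHom f
  have hφ : Mono φ := (AddCommGrpCat.mono_iff_injective _).2 hf
  let S := ShortComplex.mk φ (cokernel.π φ) (cokernel.condition φ)
  have hS : S.ShortExact :=
    { exact := ShortComplex.exact_cokernel _
      mono_f := hφ
      epi_g := inferInstanceAs (Epi (cokernel.π φ)) }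
  have hS' := hS.map_of_exact (constantSheaf J AddCommGrpCat.{u})
  exact injective_comp_f hS' (exists_lift J S.g ((AddCommGrpCat.epi_iff_surjective _).1 hS.epi_g))

end Groth.Agent.S13791
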