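import Groth.Statements.S13792
import Groth.Agent.DimLib.Zero

set_option autoImplicit false
universe u
open CategoryTheory AlgebraicGeometry
open Curves

namespace Groth.Agent.S13792

/-- Let k be a field and E an integral k-scheme of finite type whose underlying space has dimension 1,
and let ι : G → E be a closed immersion. Then either ι is an isomorphism or G is finite over k. (The
published statement is about a closed subgroup scheme of an elliptic curve and its proof states this
fact for E geometrically integral; this row assumes only that E is integral.) -/
theorem result {k : Type u} [Field k]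
    {E G : Scheme.{u}} (f : E ⟶ Spec (CommRingCat.of k)) [LocallyOfFiniteType f] [QuasiCompact f]
    [IsIntegral E] (hdim : topologicalKrullDim ↥E = 1) (ι : G ⟶ E) [IsClosedImmersion ι] :
    IsIso ι ∨ IsFinite (ι ≫ f) := by
  open Groth.Agent.DimLib in
  by_cases hg : genericPoint E ∈ Set.range ι
  · left
    have : Surjective ι := ⟨fun y => by
      exact (genericPoint_specializes y).mem_closed ι.isClosedEmbedding.isClosed_range hg⟩
    exact isIso_of_isClosedImmersion_of_surjective ι
  · right
    refine isFinite_of_dim_le_zero (ι ≫ f) ?_
    rw [topologicalKrullDim_eq_iSup (ι ≫ f)]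
    refine iSup_le fun a => ?_
    rw [ptDim_comp_preimmersion]
    have h1 := ptDim_lt_of_specializes f (genericPoint_specializes (ι a)) (fun e => hg ⟨a, e.symm⟩)
    rw [topologicalKrullDim_eq_ptDim_genericPoint f] at hdim
    have h2 : ptDim f (genericPoint E) = 1 := by exact_mod_cast hdim
    exact_mod_cast (by omega : ptDim f (ι a) ≤ 0)

end Groth.Agent.S13792
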