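import Groth.Statements.S13794
import Mathlib

set_option autoImplicit false
universe u
open Polynomial
open Curves

namespace Groth.Agent.S13794

/-- Let k be a field of characteristic not 3 and β ∈ k. If a line ax + by + c = 0 with a³ ≠ b³ is the
tangent line at a flex point of the affine cubic x³ + y³ + β = 3xy, then β is a cube in k. Here the
line is normalised to b ≠ 0 (the roles of x and y are symmetric) and the flex-tangency is expressed
by the restriction of the cubic to the line being λ (x − x₀)³. -/
theorem result {k : Type u} [Field k] (h3 : (3 : k) ≠ 0)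
    (β a b c : k) (hb : b ≠ 0) (hab : a ^ 3 ≠ b ^ 3) (lam x₀ : k)
    (hflex : (X : k[X]) ^ 3 + (C (-a / b) * X + C (-c / b)) ^ 3 + C β - 3 * X * (C (-a / b) * X + C (-c / b)) =
      C lam * (X - C x₀) ^ 3) :
    ∃ γ : k, β = γ ^ 3 := by
  set p := -a / b with hp
  set q := -c / b with hq
  have hcmp := fun n => congrArg (fun f : k[X] => f.coeff n) hflex
  have e : (X : k[X]) ^ 3 + (C p * X + C q) ^ 3 + C β - 3 * X * (C p * X + C q) =
      C (1 + p ^ 3) * X ^ 3 + C (3 * p ^ 2 * q - 3 * p) * X ^ 2 + C (3 * p * q ^ 2 - 3 * q) * X + C (q ^ 3 + β) := by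
    simp only [map_add, map_sub, map_mul, map_pow, map_one, map_ofNat]; ring
  have e' : C lam * (X - C x₀) ^ 3 =
      C lam * X ^ 3 + C (-3 * lam * x₀) * X ^ 2 + C (3 * lam * x₀ ^ 2) * X + C (-lam * x₀ ^ 3) := by
    simp only [map_neg, map_mul, map_pow, map_ofNat]; ring
  simp only [e, e', coeff_add, coeff_C_mul_X_pow, coeff_C_mul_X, coeff_C] at hcmp
  have h3' := hcmp 3; have h2 := hcmp 2; have h1 := hcmp 1; have h0 := hcmp 0
  norm_num at h3' h2 h1 h0
  have hlam : lam ≠ 0 := fun hl => hab (by
    rw [hl] at h3'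
    have : (-a / b) ^ 3 = -1 := by rw [← hp]; linear_combination h3'
    field_simp at this
    linear_combination -this)
  have hsq : (p ^ 2 * q - p) ^ 2 = (1 + p ^ 3) * (p * q ^ 2 - q) := by
    have hu : p ^ 2 * q - p = -(lam * x₀) := mul_left_cancel₀ h3 (by linear_combination h2)
    have hv : p * q ^ 2 - q = lam * x₀ ^ 2 := mul_left_cancel₀ h3 (by linear_combination h1)
    rw [hu, hv, h3']; ring
  have hfac : (q + p ^ 2) * (1 - p * q) = 0 := by linear_combination hsq
  have hx : lam * x₀ = p - p ^ 2 * q := mul_left_cancel₀ h3 (by linear_combination h2)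
  rcases mul_eq_zero.mp hfac with hcase | hcase
  · have hqe : q = -p ^ 2 := by linear_combination hcase
    refine ⟨-p, ?_⟩
    have hx0 : x₀ = p := mul_left_cancel₀ hlam (by rw [hx, hqe, ← h3']; ring)
    rw [hx0, hqe, ← h3'] at h0
    linear_combination h0
  · have hpq : p * q = 1 := by linear_combination -hcase
    refine ⟨-q, ?_⟩
    have hx0 : x₀ = 0 := mul_left_cancel₀ hlam (by rw [hx, mul_zero]; linear_combination -p * hpq)
    rw [hx0] at h0
    linear_combination h0

end Groth.Agent.S13794
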