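import Groth.Statements.S13795
import Groth.Agent.CSA.AzumayaAut
import Mathlib.RingTheory.Flat.FaithfullyFlat.Basic

set_option autoImplicit false
universe u
open TensorProduct
open Brauer

namespace Groth.Agent.S13795

/-- In the case of an affine scheme — let A be a commutative ring, F and G finitely generated projective
A-modules of everywhere positive rank, and φ an A-algebra isomorphism from End_A(F) to End_A(G).
Then there are an invertible A-module L and an A-linear isomorphism ξ : F ⊗ L ≅ G which induces φ: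
for every endomorphism f of F, φ(f) = ξ ∘ (f ⊗ 1) ∘ ξ⁻¹. (The published statement is for finite
locally free modules of positive rank on any locally ringed site; this row is the case of the
Zariski site of Spec A, written in terms of modules.) -/
theorem result (A : Type u) [CommRing A]
    (F G : Type u) [AddCommGroup F] [Module A F] [Module.Finite A F] [Module.Projective A F] [Module.FaithfullyFlat A F]
    [AddCommGroup G] [Module A G] [Module.Finite A G] [Module.Projective A G] [Module.FaithfullyFlat A G]
    (φ : Module.End A F ≃ₐ[A] Module.End A G) :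
    ∃ (L : Type u) (_ : AddCommGroup L) (_ : Module A L), Module.Invertible A L ∧
      ∃ ξ : F ⊗[A] L ≃ₗ[A] G, ∀ f : Module.End A F, φ f = ξ.conj (TensorProduct.map f LinearMap.id) := by
  classical
  let mkL : ∀ (F G : Type u) [AddCommGroup F] [Module A F] [AddCommGroup G] [Module A G],
      (Module.End A F → Module.End A G) → Submodule A (F →ₗ[A] G) := fun F G _ _ _ _ ψ =>
    { carrier := {ξ | ∀ f x, ψ f (ξ x) = ξ (f x)}
      add_mem' := fun {a b} ha hb f x => by simp [ha f x, hb f x]
      zero_mem' := fun f x => by simp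
      smul_mem' := fun r a ha f x => by simp [ha f x] }
  let L := mkL F G φ
  let L' := mkL G F φ.symm
  have hfaith : ∀ (M : Type u) [AddCommGroup M] [Module A M] [Module.FaithfullyFlat A M],
      FaithfulSMul A M := fun M _ _ _ => ⟨fun {r s} h => by
    have h0 : (r - s) • (LinearMap.id : A →ₗ[A] A) = 0 := by
      refine (Module.FaithfullyFlat.zero_iff_lTensor_zero A M _).2 (TensorProduct.ext' fun a b => ?_)
      rw [LinearMap.lTensor_tmul, LinearMap.smul_apply, LinearMap.id_apply, ← smul_tmul, sub_smul, h a,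
        sub_self, zero_tmul, LinearMap.zero_apply]
    simpa [sub_eq_zero] using LinearMap.congr_fun h0 1⟩
  haveI := hfaith F
  haveI := hfaith G
  haveI := CSA.isAzumaya_moduleEnd (R := A) F
  haveI := CSA.isAzumaya_moduleEnd (R := A) G
  obtain ⟨n, x, f, hx⟩ := CSA.exists_dual_basis (R := A) F
  have hone : ∑ i, (f i).smulRight (x i) = (1 : Module.End A F) :=
    LinearMap.ext fun y => by simp [hx]
  -- `ξ g y` sends `x` to `φ (g ⊗ x) y`
  let ξ : (F →ₗ[A] A) → G → L := fun g y => ⟨
    { toFun := fun z => φ (g.smulRight z) y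
      map_add' := fun a b => by
        rw [show g.smulRight (a + b) = g.smulRight a + g.smulRight b from
          LinearMap.ext fun _ => by simp, map_add, LinearMap.add_apply]
      map_smul' := fun r a => by
        rw [show g.smulRight (r • a) = r • g.smulRight a from
          LinearMap.ext fun _ => by simp [smul_comm r], map_smul, LinearMap.smul_apply,
          RingHom.id_apply] },
    fun h z => by
      change φ h (φ (g.smulRight z) y) = φ (g.smulRight (h z)) y
      rw [← Module.End.mul_apply, ← map_mul]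
      congr 2
      exact LinearMap.ext fun _ => by simp⟩
  let ev : F ⊗[A] L →ₗ[A] G := TensorProduct.lift (LinearMap.applyₗ.compl₂ L.subtype)
  have hev : ∀ a (b : L), ev (a ⊗ₜ b) = (b : F →ₗ[A] G) a := fun a b => rfl
  have hxi : ∀ y : G, ∑ i, (ξ (f i) y : F →ₗ[A] G) (x i) = y := fun y => by
    have := congrArg (fun h => φ h y) hone
    simpa [ξ] using this
  let back : G →ₗ[A] F ⊗[A] L :=
    { toFun := fun y => ∑ i, x i ⊗ₜ ξ (f i) y
      map_add' := fun a b => by
        rw [← Finset.sum_add_distrib]
        refine Finset.sum_congr rfl fun i _ => ?_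
        rw [← tmul_add]
        congr 1
        exact Subtype.ext (LinearMap.ext fun z => map_add (φ ((f i).smulRight z)) a b)
      map_smul' := fun r a => by
        rw [RingHom.id_apply, Finset.smul_sum]
        refine Finset.sum_congr rfl fun i _ => ?_
        rw [← tmul_smul]
        congr 1
        exact Subtype.ext (LinearMap.ext fun z => map_smul (φ ((f i).smulRight z)) r a) }
  have h1 : ∀ y, ev (back y) = y := fun y => by
    simp only [back, LinearMap.coe_mk, AddHom.coe_mk, map_sum, hev, hxi]
  have h2 : ∀ t, back (ev t) = t := by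
    intro t
    induction t using TensorProduct.induction_on with
    | zero => simp
    | tmul a b =>
      rw [hev]
      calc back ((b : F →ₗ[A] G) a) = ∑ i, x i ⊗ₜ (f i a • b) := by
            simp only [back, LinearMap.coe_mk, AddHom.coe_mk]
            refine Finset.sum_congr rfl fun i _ => ?_
            congr 1
            refine Subtype.ext (LinearMap.ext fun z => ?_)
            change φ ((f i).smulRight z) ((b : F →ₗ[A] G) a) = _
            rw [b.2]
            simp
        _ = a ⊗ₜ b := by
            simp_rw [← smul_tmul, ← sum_tmul, hx a]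
    | add p q hp hq => rw [map_add, map_add, hp, hq]
  let e : F ⊗[A] L ≃ₗ[A] G := LinearEquiv.ofLinearMap ev back (LinearMap.ext h1) (LinearMap.ext h2)
  refine ⟨L, inferInstance, inferInstance, ?_, e, fun h => ?_⟩
  swap
  · refine LinearMap.ext fun y => ?_
    rw [LinearEquiv.conj_apply]
    obtain ⟨t, rfl⟩ := e.surjective y
    simp only [LinearMap.comp_apply, LinearEquiv.coe_coe, LinearEquiv.symm_apply_apply]
    induction t using TensorProduct.induction_on with
    | zero => simp
    | tmul a b => exact b.2 h a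
    | add p q hp hq => simp only [map_add, hp, hq]
  -- invertibility of `L`
  obtain ⟨τ, hτ⟩ := CSA.exists_retraction_of_isAzumaya (R := A) (A := Module.End A F)
  obtain ⟨τ', hτ'⟩ := CSA.exists_retraction_of_isAzumaya (R := A) (A := Module.End A G)
  have hc : ∀ (u : L) (v : L'), ∀ z, τ ((v : G →ₗ[A] F) ∘ₗ (u : F →ₗ[A] G)) • z =
      (v : G →ₗ[A] F) ((u : F →ₗ[A] G) z) := fun u v z => by
    obtain ⟨r, hr⟩ := CSA.exists_smul_eq_of_central F (z := (v : G →ₗ[A] F) ∘ₗ (u : F →ₗ[A] G))
      fun h => LinearMap.ext fun z => by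
        have h3 : φ.symm (φ h) ((v : G →ₗ[A] F) ((u : F →ₗ[A] G) z)) = (v : G →ₗ[A] F) (φ h ((u : F →ₗ[A] G) z)) :=
          v.2 (φ h) _
        rw [AlgEquiv.symm_apply_apply, u.2 h z] at h3
        exact h3
    have : (v : G →ₗ[A] F) ∘ₗ (u : F →ₗ[A] G) = r • (1 : Module.End A F) := LinearMap.ext hr
    rw [this, map_smul, hτ, smul_eq_mul, mul_one]
    exact (hr z).symm
  have hc' : ∀ (u : L) (v : L'), ∀ z, τ' ((u : F →ₗ[A] G) ∘ₗ (v : G →ₗ[A] F)) • z =
      (u : F →ₗ[A] G) ((v : G →ₗ[A] F) z) := fun u v z => by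
    obtain ⟨r, hr⟩ := CSA.exists_smul_eq_of_central G (z := (u : F →ₗ[A] G) ∘ₗ (v : G →ₗ[A] F))
      fun h => LinearMap.ext fun z => by
        have h3 : φ (φ.symm h) ((u : F →ₗ[A] G) ((v : G →ₗ[A] F) z)) = (u : F →ₗ[A] G) (φ.symm h ((v : G →ₗ[A] F) z)) :=
          u.2 (φ.symm h) _
        rw [AlgEquiv.apply_symm_apply, v.2 h z] at h3
        exact h3
    have : (u : F →ₗ[A] G) ∘ₗ (v : G →ₗ[A] F) = r • (1 : Module.End A G) := LinearMap.ext hr
    rw [this, map_smul, hτ', smul_eq_mul, mul_one]
    exact (hr z).symm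
  let μ : L →ₗ[A] L' →ₗ[A] A :=
    (((LinearMap.llcomp (σ₂₃ := RingHom.id A) A F G F).flip).compl₁₂ L.subtype L'.subtype).compr₂ τ
  let ν : L' →ₗ[A] L →ₗ[A] A :=
    (((LinearMap.llcomp (σ₂₃ := RingHom.id A) A G F G).flip).compl₁₂ L'.subtype L.subtype).compr₂ τ'
  refine CSA.invertible_of_pairing μ ν (fun u v v' => ?_) (fun u u' v' => ?_) ?_
  · refine Subtype.ext (LinearMap.ext fun y => ?_)
    calc τ ((v : G →ₗ[A] F) ∘ₗ (u : F →ₗ[A] G)) • (v' : G →ₗ[A] F) y
        = (v : G →ₗ[A] F) ((u : F →ₗ[A] G) ((v' : G →ₗ[A] F) y)) := hc u v _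
      _ = τ' ((u : F →ₗ[A] G) ∘ₗ (v' : G →ₗ[A] F)) • (v : G →ₗ[A] F) y := by
        rw [← hc' u v' y, map_smul]
  · refine Subtype.ext (LinearMap.ext fun y => ?_)
    calc τ' ((u : F →ₗ[A] G) ∘ₗ (v' : G →ₗ[A] F)) • (u' : F →ₗ[A] G) y
        = (u : F →ₗ[A] G) ((v' : G →ₗ[A] F) ((u' : F →ₗ[A] G) y)) := (hc' u v' _)
      _ = τ ((v' : G →ₗ[A] F) ∘ₗ (u' : F →ₗ[A] G)) • (u : F →ₗ[A] G) y := by
        rw [← hc u' v' y, map_smul]
  · by_contra hne
    obtain ⟨m, hm, hle⟩ := Ideal.exists_le_maximal _ ((Ideal.ne_top_iff_one _).2 hne)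
    obtain ⟨n', x', f', hx'⟩ := CSA.exists_dual_basis (R := A) G
    have hone' : ∑ i, (f' i).smulRight (x' i) = (1 : Module.End A G) :=
      LinearMap.ext fun y => by simp [hx']
    let η : (G →ₗ[A] A) → F → L' := fun g y => ⟨
      { toFun := fun z => φ.symm (g.smulRight z) y
        map_add' := fun a b => by
          rw [show g.smulRight (a + b) = g.smulRight a + g.smulRight b from
            LinearMap.ext fun _ => by simp, map_add, LinearMap.add_apply]
        map_smul' := fun r a => by
          rw [show g.smulRight (r • a) = r • g.smulRight a from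
            LinearMap.ext fun _ => by simp [smul_comm r], map_smul, LinearMap.smul_apply,
            RingHom.id_apply] },
      fun h z => by
        change φ.symm h (φ.symm (g.smulRight z) y) = φ.symm (g.smulRight (h z)) y
        rw [← Module.End.mul_apply, ← map_mul]
        congr 2
        exact LinearMap.ext fun _ => by simp⟩
    have hmem : ∀ z : F, z ∈ (m • ⊤ : Submodule A F) := fun z => by
      have e1 : ∑ j, (η (f' j) z : G →ₗ[A] F) (x' j) = z := by
        have := congrArg (fun h => φ.symm h z) hone'
        simpa [η] using this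
      rw [← e1]
      refine Submodule.sum_mem _ fun j _ => ?_
      rw [← hxi (x' j), map_sum]
      refine Submodule.sum_mem _ fun i _ => ?_
      rw [← hc]
      exact Submodule.smul_mem_smul (hle ⟨ξ (f i) (x' j) ⊗ₜ η (f' j) z, by rw [TensorProduct.lift.tmul]; rfl⟩) Submodule.mem_top
    exact Module.FaithfullyFlat.submodule_ne_top hm (eq_top_iff.2 fun z _ => hmem z)
end Groth.Agent.S13795
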