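import Groth.Statements.S13797
import Groth.Agent.CSA.AzumayaAut
import Mathlib.LinearAlgebra.Matrix.Determinant.Basic

set_option autoImplicit false
universe u
open scoped TensorProduct
open Brauer

namespace Groth.Agent.S13797

/-- In the case of an affine scheme — let A be a commutative ring, n ≥ 1 and α an A-algebra automorphism
of the n × n matrix algebra over A. The A-module L of matrices M with M N = α(N) M for every matrix
N (the module of sections of the line bundle attached to the torsor of liftings of α to GL_n) is
invertible, and its class in the Picard group of A is n-torsion: the n-fold tensor power of L is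
isomorphic to A (existence of an isomorphism only). (The published statement is for an automorphism
of End(O^n) on any locally ringed site, in the form: the sheaf of liftings is a 𝔾_m-torsor whose
class in Pic is n-torsion; this row is the affine case.) -/
theorem result (A : Type u) [CommRing A] (n : ℕ) (hn : 0 < n)
    (α : Matrix (Fin n) (Fin n) A ≃ₐ[A] Matrix (Fin n) (Fin n) A) :
    Module.Invertible A
        (LinearMap.ker (LinearMap.mul A (Matrix (Fin n) (Fin n) A) -
          (LinearMap.lcomp A (Matrix (Fin n) (Fin n) A) α.toLinearMap).comp (LinearMap.mul A (Matrix (Fin n) (Fin n) A)).flip)) ∧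
      Nonempty ((⨂[A] _ : Fin n,
          LinearMap.ker (LinearMap.mul A (Matrix (Fin n) (Fin n) A) -
            (LinearMap.lcomp A (Matrix (Fin n) (Fin n) A) α.toLinearMap).comp (LinearMap.mul A (Matrix (Fin n) (Fin n) A)).flip)) ≃ₗ[A] A) := by
  classical
  let M := Matrix (Fin n) (Fin n) A
  haveI : Nonempty (Fin n) := ⟨⟨0, hn⟩⟩
  haveI := IsAzumaya.matrix A (Fin n)
  have hker : LinearMap.ker (LinearMap.mul A M -
      (LinearMap.lcomp A M α.toLinearMap).comp (LinearMap.mul A M).flip) = CSA.twist (α : M →ₐ[A] M) := by
    ext u
    rw [LinearMap.mem_ker, CSA.mem_twist, LinearMap.ext_iff]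
    simp [sub_eq_zero]
  rw [hker]
  haveI := CSA.twist_invertible (R := A) α
  refine ⟨inferInstance, ?_⟩
  let P := CSA.twist (α : M →ₐ[A] M)
  haveI := CSA.invertible_tensorPower (R := A) P n
  -- the `j`-th column comes from the `j`-th factor
  let cols : MultilinearMap A (fun _ : Fin n => Fin n → A) A :=
    (Matrix.detRowAlternating : (Fin n → A) [⋀^Fin n]→ₗ[A] A).toMultilinearMap
  let D : MultilinearMap A (fun _ : Fin n => P) A := cols.compLinearMap fun j =>
    { toFun := fun u => (u : M) j
      map_add' := fun _ _ => rfl
      map_smul' := fun _ _ => rfl }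
  let Φ := PiTensorProduct.lift D
  have hsurj : Function.Surjective Φ := by
    rw [← LinearMap.range_eq_top]
    by_contra hne
    obtain ⟨m, hm, hle⟩ := Ideal.exists_le_maximal _ hne
    obtain ⟨r, hr, u, v, hu, hv⟩ := CSA.exists_inner_away (α : M →ₐ[A] M) m
    have hdet : u.det ∈ m := hle ⟨PiTensorProduct.tprod A fun _ => (⟨u, hu⟩ : P), by
      simp only [Φ, PiTensorProduct.lift.tprod]; rfl⟩
    have h := congrArg Matrix.det hv
    rw [Matrix.det_mul, Matrix.algebraMap_eq_diagonal, Matrix.det_diagonal] at h
    simp only [Pi.algebraMap_apply, Algebra.algebraMap_self, RingHom.id_apply, Finset.prod_const,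
      Finset.card_univ, Fintype.card_fin] at h
    exact hr (hm.isPrime.mem_of_pow_mem n (h ▸ m.mul_mem_left _ hdet))
  exact ⟨LinearEquiv.ofBijective Φ (Module.Invertible.bijective_of_surjective hsurj)⟩
end Groth.Agent.S13797
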