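import Groth.Statements.S13798
import Groth.Agent.CAlgH3.LaurentCocycle
import Mathlib

set_option autoImplicit false
set_option backward.isDefEq.respectTransparency false
set_option linter.all false
universe u
open CategoryTheory CategoryTheory.Limits AlgebraicGeometry Opposite
open Curves

namespace Groth.Agent.S13798

variable (X : Scheme.{u}) (n : ℕ)

noncomputable abbrev L : CommRingCat.{u} := CommRingCat.of (ULift.{u} (AddMonoidAlgebra ℤ (Fin n → ℤ)))
noncomputable abbrev p : X ⨯ Spec (L n) ⟶ X := prod.fst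
noncomputable abbrev q : X ⨯ Spec (L n) ⟶ Spec (L n) := prod.snd
noncomputable abbrev res (U : X.Opens) :
    Γ(X ⨯ Spec (L n), ⊤) ⟶ Γ(X ⨯ Spec (L n), p X n ⁻¹ᵁ U) :=
  (X ⨯ Spec (L n)).presheaf.map (homOfLE le_top).op

/-- monomials -/
noncomputable def mono : Multiplicative (Fin n → ℤ) →* Γ(X ⨯ Spec (L n), ⊤) :=
  ((q X n).appTop.hom.comp ((Scheme.ΓSpecIso (L n)).inv.hom.comp
    (ULift.ringEquiv.symm : AddMonoidAlgebra ℤ (Fin n → ℤ) ≃+* _).toRingHom)).toMonoidHom.comp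
      (AddMonoidAlgebra.of ℤ (Fin n → ℤ))

lemma mono_apply (e : Fin n → ℤ) : mono X n (Multiplicative.ofAdd e) =
    (q X n).appTop ((Scheme.ΓSpecIso (L n)).inv (ULift.up (AddMonoidAlgebra.single e 1))) := rfl

lemma isAffineHom_p : IsAffineHom (p X n) := by
  haveI : IsAffine (⊤_ Scheme.{u}) :=
    .of_isIso (terminalIsTerminal.uniqueUpToIso specULiftZIsTerminal.{u}).hom
  exact MorphismProperty.of_isPullback (P := @IsAffineHom)
    (IsPullback.of_hasBinaryProduct' X (Spec (L n))).flip inferInstance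

variable {X}

noncomputable def θ (U : X.Opens) :
    AddMonoidAlgebra Γ(X, U) (Fin n → ℤ) →+* Γ(X ⨯ Spec (L n), p X n ⁻¹ᵁ U) :=
  AddMonoidAlgebra.liftNCRingHom ((p X n).app U).hom ((res X n U).hom.toMonoidHom.comp (mono X n))
    fun _ _ => Commute.all _ _

lemma θ_single (U : X.Opens) (e : Fin n → ℤ) (a : Γ(X, U)) :
    θ n U (AddMonoidAlgebra.single e a) =
      (p X n).app U a * res X n U (mono X n (Multiplicative.ofAdd e)) :=
  AddMonoidAlgebra.liftNC_single _ _ _ _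

theorem θ_bijective (U : X.Opens) (hU : IsAffineOpen U) : Function.Bijective (θ n U) := by
  haveI := isAffineHom_p X n
  have hW : IsAffineOpen (p X n ⁻¹ᵁ U) := hU.preimage _
  let R := CommRingCat.of (AddMonoidAlgebra Γ(X, U) (Fin n → ℤ))
  let C : Γ(X, U) ⟶ R := CommRingCat.ofHom AddMonoidAlgebra.singleZeroRingHom
  let σ : L n ⟶ R := CommRingCat.ofHom
    ((AddMonoidAlgebra.mapRingHom (Fin n → ℤ) (Int.castRingHom Γ(X, U))).comp
      (ULift.ringEquiv : _ ≃+* AddMonoidAlgebra ℤ (Fin n → ℤ)).toRingHom)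
  let T : R ⟶ Γ(X ⨯ Spec (L n), p X n ⁻¹ᵁ U) := CommRingCat.ofHom (θ n U)
  let j : Spec R ⟶ X ⨯ Spec (L n) := prod.lift (Spec.map C ≫ hU.fromSpec) (Spec.map σ)
  have hC : C ≫ T = (p X n).app U := by
    refine CommRingCat.hom_ext (RingHom.ext fun a => ?_)
    show θ n U (AddMonoidAlgebra.single 0 a) = _
    rw [θ_single, ofAdd_zero, map_one, map_one, mul_one]
  have hσ : σ ≫ T = (Scheme.ΓSpecIso (L n)).inv ≫ (q X n).appTop ≫ res X n U := by
    refine CommRingCat.hom_ext ?_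
    have h : ((σ ≫ T).hom.comp (ULift.ringEquiv.symm :
        AddMonoidAlgebra ℤ (Fin n → ℤ) ≃+* _).toRingHom) =
      ((Scheme.ΓSpecIso (L n)).inv ≫ (q X n).appTop ≫ res X n U).hom.comp
        (ULift.ringEquiv.symm : AddMonoidAlgebra ℤ (Fin n → ℤ) ≃+* _).toRingHom := by
      refine AddMonoidAlgebra.ringHom_ext' (RingHom.ext_int _ _) (MonoidHom.ext fun e => ?_)
      show θ n U ((AddMonoidAlgebra.mapRingHom (Fin n → ℤ) (Int.castRingHom Γ(X, U)))
        (AddMonoidAlgebra.single e.toAdd (1 : ℤ))) = res X n U (mono X n e)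
      rw [AddMonoidAlgebra.mapRingHom_single, map_one, θ_single, map_one, one_mul]
      rfl
    exact RingHom.ext fun ⟨z⟩ => RingHom.congr_fun h z
  have hj : Spec.map T ≫ j = hW.fromSpec := by
    apply prod.hom_ext
    · rw [Category.assoc, prod.lift_fst, ← Spec.map_comp_assoc, hC,
        Scheme.Hom.app_eq_appLE, IsAffineOpen.SpecMap_appLE_fromSpec _ hU hW le_rfl]
    · rw [Category.assoc, prod.lift_snd, ← Spec.map_comp, hσ]
      have h := IsAffineOpen.SpecMap_appLE_fromSpec (q X n) (isAffineOpen_top (Spec (L n))) hW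
        (show p X n ⁻¹ᵁ U ≤ q X n ⁻¹ᵁ ⊤ from le_top)
      rw [IsAffineOpen.fromSpec_top, Scheme.isoSpec_Spec_inv, ← Spec.map_comp] at h
      exact h
  have hjW : (⊤ : (Spec R).Opens) ≤ j ⁻¹ᵁ (p X n ⁻¹ᵁ U) := by
    rw [← Scheme.Hom.comp_preimage, prod.lift_fst, Scheme.Hom.comp_preimage, hU.fromSpec_preimage_self]
    exact le_rfl
  let ψ : Γ(X ⨯ Spec (L n), p X n ⁻¹ᵁ U) ⟶ R := j.appLE _ ⊤ hjW ≫ (Scheme.ΓSpecIso R).hom
  have hψ : Spec.map ψ ≫ hW.fromSpec = j := by
    rw [Spec.map_comp, Category.assoc, IsAffineOpen.SpecMap_appLE_fromSpec j hW (isAffineOpen_top _) hjW,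
      IsAffineOpen.fromSpec_top, Scheme.isoSpec_Spec_inv, ← Spec.map_comp_assoc, Iso.inv_hom_id,
      Spec.map_id, Category.id_comp]
  have h1 : ψ ≫ T = 𝟙 _ := by
    apply Spec.map_injective
    rw [← cancel_mono hW.fromSpec, Spec.map_comp, Category.assoc, hψ, hj, Spec.map_id, Category.id_comp]
  have h2 : C ≫ T ≫ ψ = C := by
    apply Spec.map_injective
    rw [← cancel_mono hU.fromSpec, Spec.map_comp, Spec.map_comp, Category.assoc, Category.assoc,
      ← prod.lift_fst (Spec.map C ≫ hU.fromSpec) (Spec.map σ)]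
    show Spec.map ψ ≫ Spec.map T ≫ j ≫ prod.fst = _
    rw [reassoc_of% hj, reassoc_of% hψ]
  have h3 : σ ≫ T ≫ ψ = σ := by
    apply Spec.map_injective
    rw [Spec.map_comp, Spec.map_comp, Category.assoc,
      ← prod.lift_snd (Spec.map C ≫ hU.fromSpec) (Spec.map σ)]
    show Spec.map ψ ≫ Spec.map T ≫ j ≫ prod.snd = _
    rw [reassoc_of% hj, reassoc_of% hψ]
  have h4 : T ≫ ψ = 𝟙 _ := by
    refine CommRingCat.hom_ext (AddMonoidAlgebra.ringHom_ext' (RingHom.ext fun a => ?_) (MonoidHom.ext fun e => ?_))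
    · exact RingHom.congr_fun (congrArg CommRingCat.Hom.hom h2) a
    · have := RingHom.congr_fun (congrArg CommRingCat.Hom.hom h3) (ULift.up (AddMonoidAlgebra.single e.toAdd 1))
      have hs : σ.hom (ULift.up (AddMonoidAlgebra.single e.toAdd 1)) = AddMonoidAlgebra.single e.toAdd 1 := by
        simp [σ]
        exact (AddMonoidAlgebra.mapRingHom_single _ _ _).trans (by rw [map_one])
      show (T ≫ ψ).hom (AddMonoidAlgebra.single e.toAdd 1) = AddMonoidAlgebra.single e.toAdd 1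
      rw [← hs]
      exact this
  haveI : IsIso T := ⟨ψ, h4, h1⟩
  exact ConcreteCategory.bijective_of_isIso T

theorem exists_affine [IsIntegral X] (U : X.Opens) (hU : IsAffineOpen U) [Nonempty U]
    (v : Γ(X ⨯ Spec (L n), ⊤)) (hv : IsUnit v) :
    ∃ (e : Fin n → ℤ) (a : Γ(X, U)), IsUnit a ∧ res X n U v =
      (p X n).app U a * res X n U (mono X n (Multiplicative.ofAdd e)) := by
  let E := RingEquiv.ofBijective _ (θ_bijective n U hU)
  have hf : IsUnit (E.symm (res X n U v)) := (hv.map (res X n U).hom).map E.symm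
  obtain ⟨g, hg⟩ := hf.exists_right_inv
  obtain ⟨e, a, ha, he⟩ := CAlgH3.LaurentCocycle.exists_single_of_isUnit hf
  obtain ⟨e', a', ha', he'⟩ := CAlgH3.LaurentCocycle.exists_single_of_isUnit (IsUnit.of_mul_eq_one (a := g) _ ((mul_comm _ _).trans hg))
  rw [he, he', AddMonoidAlgebra.single_mul_single, AddMonoidAlgebra.one_def] at hg
  have h1 := congrArg AddMonoidAlgebra.coeff hg
  rw [AddMonoidAlgebra.coeff_single, AddMonoidAlgebra.coeff_single, Finsupp.single_eq_single_iff] at h1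
  have h0 : a * a' = 1 := (h1.resolve_right fun hh => mul_ne_zero ha ha' hh.1).2
  refine ⟨e, a, .of_mul_eq_one _ h0, ?_⟩
  rw [← θ_single, ← he]
  exact (E.apply_symm_apply _).symm

theorem unique_affine [IsIntegral X] (U : X.Opens) (hU : IsAffineOpen U) [Nonempty U]
    {e e' : Fin n → ℤ} {a a' : Γ(X, U)} (ha : a ≠ 0)
    (h : (p X n).app U a * res X n U (mono X n (Multiplicative.ofAdd e)) =
      (p X n).app U a' * res X n U (mono X n (Multiplicative.ofAdd e'))) : e = e' ∧ a = a' := by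
  rw [← θ_single, ← θ_single] at h
  have h' := congrArg AddMonoidAlgebra.coeff ((θ_bijective n U hU).1 h)
  rw [AddMonoidAlgebra.coeff_single, AddMonoidAlgebra.coeff_single, Finsupp.single_eq_single_iff] at h'
  exact h'.resolve_right fun hh => ha hh.1

lemma restrict_eq {U W : X.Opens} (hWU : W ≤ U) (v : Γ(X ⨯ Spec (L n), ⊤)) {e : Fin n → ℤ}
    {a : Γ(X, U)} (h : res X n U v = (p X n).app U a * res X n U (mono X n (Multiplicative.ofAdd e))) :
    res X n W v = (p X n).app W (X.presheaf.map (homOfLE hWU).op a) *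
      res X n W (mono X n (Multiplicative.ofAdd e)) := by
  let r := (X ⨯ Spec (L n)).presheaf.map (homOfLE (Scheme.Hom.preimage_mono (p X n) hWU)).op
  have hr : ∀ z, r (res X n U z) = res X n W z := fun z => by
    rw [← ConcreteCategory.comp_apply, ← Functor.map_comp]
    rfl
  have hn : r ((p X n).app U a) = (p X n).app W (X.presheaf.map (homOfLE hWU).op a) :=
    (ConcreteCategory.congr_hom ((p X n).naturality (homOfLE hWU).op) a).symm
  rw [← hr v, h, map_mul, hr, hn]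

theorem exists_common [IsIntegral X] (U V : X.Opens) [Nonempty U] [Nonempty V] :
    ∃ W : X.Opens, IsAffineOpen W ∧ Nonempty W ∧ W ≤ U ∧ W ≤ V := by
  obtain ⟨x, hx⟩ := nonempty_preirreducible_inter U.2 V.2
    (by obtain ⟨y⟩ := ‹Nonempty U›; exact ⟨y.1, y.2⟩) (by obtain ⟨y⟩ := ‹Nonempty V›; exact ⟨y.1, y.2⟩)
  obtain ⟨W, hW, hxW, hWle⟩ := TopologicalSpace.Opens.isBasis_iff_nbhd.mp X.isBasis_affineOpens
    (show x ∈ U ⊓ V from hx)
  exact ⟨W, hW, ⟨⟨x, hxW⟩⟩, le_trans hWle inf_le_left, le_trans hWle inf_le_right⟩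

theorem main [IsIntegral X] (v : Γ(X ⨯ Spec (L n), ⊤)) (hv : IsUnit v) :
    ∃! p' : (Γ(X, ⊤))ˣ × (Fin n → ℤ),
      v = (p X n).appTop (p'.1 : Γ(X, ⊤)) * mono X n (Multiplicative.ofAdd p'.2) := by
  let I := {U : X.affineOpens // Nonempty U.1}
  haveI : ∀ i : I, Nonempty i.1.1 := fun i => i.2
  choose e a ha h using fun i : I => exists_affine n i.1.1 i.1.2 v hv
  have hne : ∀ i, a i ≠ 0 := fun i => (ha i).ne_zero
  have hkey : ∀ (i j : I), e i = e j ∧ ∀ (O : X.Opens) (hi : O ≤ i.1.1) (hj : O ≤ j.1.1),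
      X.presheaf.map (homOfLE hi).op (a i) = X.presheaf.map (homOfLE hj).op (a j) := by
    intro i j
    obtain ⟨W, hW, hWn, hWi, hWj⟩ := exists_common i.1.1 j.1.1
    have hu : X.presheaf.map (homOfLE hWi).op (a i) ≠ 0 :=
      ((ha i).map (X.presheaf.map (homOfLE hWi).op).hom).ne_zero
    obtain ⟨he, hw⟩ := unique_affine n W hW hu
      ((restrict_eq n hWi v (h i)).symm.trans (restrict_eq n hWj v (h j)))
    refine ⟨he, fun O hi hj => ?_⟩
    rcases isEmpty_or_nonempty O with hO | hO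
    · haveI : Subsingleton Γ(X, O) := by
        rw [show O = ⊥ from bot_unique fun x hx => (hO.false ⟨x, hx⟩).elim]
        infer_instance
      exact Subsingleton.elim _ _
    obtain ⟨W', hW', hWn', hW'O, hW'W⟩ := exists_common O W
    refine map_injective_of_isIntegral X (homOfLE hW'O) ?_
    simp only [← ConcreteCategory.comp_apply, ← Functor.map_comp]
    have := congrArg (X.presheaf.map (homOfLE hW'W).op) hw
    simp only [← ConcreteCategory.comp_apply, ← Functor.map_comp] at this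
    exact this
  have hcov : (⊤ : X.Opens) ≤ iSup fun i : I => i.1.1 := fun x _ => by
    obtain ⟨W, hW, hxW, -⟩ := TopologicalSpace.Opens.isBasis_iff_nbhd.mp X.isBasis_affineOpens
      (show x ∈ (⊤ : X.Opens) from trivial)
    exact TopologicalSpace.Opens.mem_iSup.2 ⟨⟨⟨W, hW⟩, ⟨⟨x, hxW⟩⟩⟩, hxW⟩
  obtain ⟨s, hs, -⟩ := X.sheaf.existsUnique_gluing' (fun i : I => i.1.1) ⊤ (fun i => homOfLE le_top)
    hcov a (fun i j => (hkey i j).2 _ inf_le_left inf_le_right)
  have hsu : IsUnit s := by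
    have hb : X.basicOpen s = ⊤ := by
      refine top_unique fun x hx => ?_
      obtain ⟨i, hi⟩ := TopologicalSpace.Opens.mem_iSup.1 (hcov hx)
      have h1 : x ∈ X.basicOpen (a i) := by rw [X.basicOpen_of_isUnit (ha i)]; exact hi
      rw [← hs i] at h1
      erw [X.basicOpen_res] at h1
      exact h1.2
    exact RingedSpace.isUnit_of_isUnit_germ X.toRingedSpace ⊤ s fun x hx =>
      (X.mem_basicOpen s x hx).1 (by rw [hb]; trivial)
  obtain ⟨x₀⟩ := (inferInstance : Nonempty X)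
  obtain ⟨i₀, -⟩ := TopologicalSpace.Opens.mem_iSup.1 (hcov (show x₀ ∈ (⊤ : X.Opens) from trivial))
  refine ⟨(hsu.unit, e i₀), ?_, ?_⟩
  · refine TopCat.Sheaf.eq_of_locally_eq' (X ⨯ Spec (L n)).sheaf (fun i : I => p X n ⁻¹ᵁ i.1.1) ⊤
      (fun i => homOfLE le_top) (fun x _ => ?_) _ _ fun i => ?_
    · obtain ⟨i, hi⟩ := TopologicalSpace.Opens.mem_iSup.1 (hcov (show (p X n).base x ∈ (⊤ : X.Opens) from trivial))
      exact TopologicalSpace.Opens.mem_iSup.2 ⟨i, hi⟩
    · show res X n i.1.1 v = res X n i.1.1 _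
      rw [map_mul, h i, (hkey i₀ i).1, IsUnit.unit_spec, ← hs i]
      congr 1
      exact ConcreteCategory.congr_hom ((p X n).naturality (homOfLE le_top : i.1.1 ⟶ ⊤).op) s
  · rintro ⟨u, e'⟩ hu
    have h1 : res X n ⊤ v = (p X n).app ⊤ (u : Γ(X, ⊤)) * res X n ⊤ (mono X n (Multiplicative.ofAdd e')) := by
      simp only at hu
      rw [hu, map_mul]
      congr 1
      exact (ConcreteCategory.congr_hom ((X ⨯ Spec (L n)).presheaf.map_id _) _)
    have h2 := (h i₀).symm.trans (restrict_eq n (W := i₀.1.1) le_top v h1)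
    obtain ⟨he, hu'⟩ := unique_affine n i₀.1.1 i₀.1.2 (hne i₀) h2
    refine Prod.ext (Units.ext ?_) he.symm
    show (u : Γ(X, ⊤)) = s
    refine map_injective_of_isIntegral X (homOfLE (le_top : i₀.1.1 ≤ ⊤)) ?_
    rw [← hu']
    exact (hs i₀).symm


/-- Units on tori: let X be an integral scheme and P = X × 𝔾_mⁿ, the product with the n-dimensional
split torus Spec ℤ[ℤⁿ] = Spec ℤ[t₁^±, …, t_n^±]. The canonical map Γ(X, O_X)ˣ × ℤⁿ → Γ(P, O_P)ˣ, (u,
e) ↦ pr₁^*(u) · pr₂^*(t^e), is an isomorphism: every invertible global function on P is uniquely of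
this form. -/
theorem result (X : Scheme.{u}) [IsIntegral X] (n : ℕ)
    (v : Γ(X ⨯ Spec (CommRingCat.of (ULift.{u} (AddMonoidAlgebra ℤ (Fin n → ℤ)))), ⊤)) (hv : IsUnit v) :
    ∃! p : (Γ(X, ⊤))ˣ × (Fin n → ℤ),
      v = (prod.fst : X ⨯ Spec (CommRingCat.of (ULift.{u} (AddMonoidAlgebra ℤ (Fin n → ℤ)))) ⟶ X).appTop (p.1 : Γ(X, ⊤)) *
        (prod.snd : X ⨯ Spec (CommRingCat.of (ULift.{u} (AddMonoidAlgebra ℤ (Fin n → ℤ)))) ⟶ Spec (CommRingCat.of (ULift.{u} (AddMonoidAlgebra ℤ (Fin n → ℤ))))).appTop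
          ((Scheme.ΓSpecIso (CommRingCat.of (ULift.{u} (AddMonoidAlgebra ℤ (Fin n → ℤ))))).inv (ULift.up (AddMonoidAlgebra.single p.2 1))) := by
  exact main n v hv

end Groth.Agent.S13798
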