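import Groth.Agent.FlatMorWeight.EtaleSplit
import Groth.Agent.HenselLib.AlgResidue
import Mathlib

set_option autoImplicit false
set_option backward.isDefEq.respectTransparency false
set_option linter.all false
universe u
namespace FlatMor
end FlatMor
open FlatMor
open TensorProduct Polynomial
set_option maxHeartbeats 1600000
set_option synthInstance.maxHeartbeats 400000

namespace Groth.Agent.S1380

theorem exists_realise {R : Type u} [CommRing R] (p : Ideal R) [p.IsPrime] (k : Type u) [Field k]
    [Algebra p.ResidueField k] [FiniteDimensional p.ResidueField k] [Algebra.IsSeparable p.ResidueField k] :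
    ∃ (R₁ : Type u) (_ : CommRing R₁) (_ : Algebra R R₁) (_ : Algebra.Etale R R₁) (P : Ideal R₁)
      (_ : P.IsPrime) (h : p = P.comap (algebraMap R R₁)) (τ : k →+* P.ResidueField),
      ∀ x, τ (algebraMap p.ResidueField k x) = Ideal.ResidueField.map p P (algebraMap R R₁) h x := by
  classical
  letI : Algebra R k := ((algebraMap p.ResidueField k).comp (algebraMap R p.ResidueField)).toAlgebra
  haveI : IsScalarTower R p.ResidueField k := .of_algebraMap_eq' rfl
  have hF : ∀ t : Finset p.ResidueField, ∃ c : R, algebraMap R p.ResidueField c ≠ 0 ∧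
      ∀ a ∈ t, algebraMap R p.ResidueField c * a ∈ Set.range (algebraMap R p.ResidueField) := by
    intro t
    obtain ⟨⟨b, hb⟩, h⟩ := IsLocalization.exist_integer_multiples (nonZeroDivisors (R ⧸ p)) t id
    obtain ⟨c, rfl⟩ := Ideal.Quotient.mk_surjective b
    refine ⟨c, fun h0 => nonZeroDivisors.ne_zero hb (Ideal.Quotient.eq_zero_iff_mem.2
      (Ideal.algebraMap_residueField_eq_zero.1 h0)), fun a ha => ?_⟩
    obtain ⟨y, hy⟩ := h a ha
    obtain ⟨y, rfl⟩ := Ideal.Quotient.mk_surjective y
    refine ⟨y, ?_⟩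
    simpa [Algebra.smul_def] using hy
  obtain ⟨α, hα⟩ := Field.exists_primitive_element p.ResidueField k
  obtain ⟨q, c, hqm, hc, hq0, hq1⟩ := FlatMorWeight.exists_simple_root (R := R) hF α
    (Algebra.IsSeparable.isSeparable p.ResidueField α)
  let P : StandardEtalePair R :=
    { f := q, monic_f := hqm, g := derivative q, cond := ⟨1, 0, 1, by simp⟩ }
  have hP : P.HasMap (c • α) := ⟨hq0, isUnit_iff_ne_zero.2 hq1⟩
  let ψ : P.Ring →ₐ[R] k := P.lift (c • α) hP
  let P₁ : Ideal P.Ring := RingHom.ker ψ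
  haveI : P₁.IsPrime := RingHom.ker_isPrime ψ
  have hker : RingHom.ker (algebraMap R k) = p := by
    ext r
    exact ((map_eq_zero (algebraMap p.ResidueField k)).trans Ideal.algebraMap_residueField_eq_zero)
  have h : p = P₁.comap (algebraMap R P.Ring) := by
    rw [← hker]
    ext r
    simp [P₁]
  let jF : P₁.ResidueField →+* k := Ideal.ResidueField.lift P₁ ψ.toRingHom le_rfl
    (fun r hr => Ne.isUnit fun h0 => hr h0)
  have hj : jF.comp (Ideal.ResidueField.map p P₁ (algebraMap R P.Ring) h) = algebraMap p.ResidueField k := by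
    apply Ideal.ResidueField.ringHom_ext
    ext r
    simp [jF, RingHom.algebraMap_toAlgebra]
  let Φ : P₁.ResidueField →+* k := jF
  have hsurj : Function.Surjective Φ := by
    let F' : IntermediateField p.ResidueField k :=
      { Φ.fieldRange with algebraMap_mem' := fun x => ⟨_, RingHom.congr_fun hj x⟩ }
    have hβ : c • α ∈ F' := ⟨algebraMap P.Ring P₁.ResidueField P.X, by simp [Φ, jF, ψ]⟩
    have hmem : α ∈ F' := by
      rw [Algebra.smul_def, IsScalarTower.algebraMap_apply R p.ResidueField k] at hβ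
      have h0 : algebraMap p.ResidueField k (algebraMap R p.ResidueField c) ≠ 0 :=
        (_root_.map_ne_zero _).2 hc
      have := mul_mem (inv_mem (F'.algebraMap_mem (algebraMap R p.ResidueField c))) hβ
      rwa [← mul_assoc, inv_mul_cancel₀ h0, one_mul] at this
    have : (⊤ : IntermediateField p.ResidueField k) ≤ F' := by
      rw [← hα]; exact IntermediateField.adjoin_le_iff.2 (by simpa using hmem)
    exact fun x => this trivial
  let E : P₁.ResidueField ≃+* k := RingEquiv.ofBijective Φ ⟨Φ.injective, hsurj⟩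
  refine ⟨P.Ring, inferInstance, inferInstance, inferInstance, P₁, inferInstance, h, E.symm.toRingHom,
    fun x => E.injective ?_⟩
  simpa [E, Φ] using (RingHom.congr_fun hj x).symm

theorem purelyInseparable_of_split {R A S T : Type u} [CommRing R] [CommRing A] [CommRing S] [CommRing T]
    (a : R →+* A) (b : R →+* S) (α : A →+* T) (β : S →+* T) (hab : α.comp a = β.comp b)
    (hgen : ∀ H : Subring T, α.range ≤ H → β.range ≤ H → H = ⊤)
    (p : Ideal R) [p.IsPrime] (P : Ideal A) [P.IsPrime] (q : Ideal S) [q.IsPrime] (Q : Ideal T) [Q.IsPrime]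
    (ha : p = P.comap a) (hb : p = q.comap b) (hα : P = Q.comap α) (hβ : q = Q.comap β)
    (hint : letI := (Ideal.ResidueField.map p q b hb).toAlgebra; Algebra.IsIntegral p.ResidueField q.ResidueField)
    (hsplit : letI := (Ideal.ResidueField.map p q b hb).toAlgebra
      ∀ x : separableClosure p.ResidueField q.ResidueField,
        ∀ σ : q.ResidueField →+* Q.ResidueField,
          (∀ z, σ (Ideal.ResidueField.map p q b hb z) =
            Ideal.ResidueField.map P Q α hα (Ideal.ResidueField.map p P a ha z)) →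
          σ (x : q.ResidueField) ∈ (Ideal.ResidueField.map P Q α hα).range) :
    letI := (Ideal.ResidueField.map P Q α hα).toAlgebra
    IsPurelyInseparable P.ResidueField Q.ResidueField := by
  letI := (Ideal.ResidueField.map p q b hb).toAlgebra
  letI := (Ideal.ResidueField.map P Q α hα).toAlgebra
  haveI : Algebra.IsAlgebraic p.ResidueField q.ResidueField :=
    Algebra.isAlgebraic_iff_isIntegral.2 hint
  let σ := Ideal.ResidueField.map q Q β hβ
  have hσ : σ.comp (Ideal.ResidueField.map p q b hb) =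
      (Ideal.ResidueField.map P Q α hα).comp (Ideal.ResidueField.map p P a ha) := by
    apply Ideal.ResidueField.ringHom_ext
    ext r
    simpa [σ] using congrArg (algebraMap T Q.ResidueField) (RingHom.congr_fun hab r).symm
  obtain ⟨e, he⟩ := ExpChar.exists p.ResidueField
  haveI : ExpChar q.ResidueField e :=
    expChar_of_injective_ringHom (Ideal.ResidueField.map p q b hb).injective e
  haveI : ExpChar P.ResidueField e :=
    expChar_of_injective_ringHom (Ideal.ResidueField.map p P a ha).injective e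
  rw [isPurelyInseparable_iff_perfectClosure_eq_top]
  let C := perfectClosure P.ResidueField Q.ResidueField
  have hS : ∀ y : q.ResidueField, σ y ∈ C := fun y => by
    obtain ⟨n, z, hz⟩ := IsPurelyInseparable.pow_mem (separableClosure p.ResidueField q.ResidueField) e y
    obtain ⟨w, hw⟩ := hsplit z σ (fun z => RingHom.congr_fun hσ z)
    refine mem_perfectClosure_iff_pow_mem e |>.2 ⟨n, w, ?_⟩
    have hz' : (z : q.ResidueField) = y ^ e ^ n := hz
    rw [← map_pow, ← hz']
    exact hw
  have htop : C.toSubfield.toSubring.comap (algebraMap T Q.ResidueField) = ⊤ := by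
    refine hgen _ ?_ ?_
    · rintro _ ⟨x, rfl⟩
      have : algebraMap T Q.ResidueField (α x) =
          algebraMap P.ResidueField Q.ResidueField (algebraMap A P.ResidueField x) :=
        (Ideal.ResidueField.map_algebraMap P Q α hα x).symm
      show algebraMap T Q.ResidueField (α x) ∈ C
      rw [this]
      exact C.algebraMap_mem _
    · rintro _ ⟨x, rfl⟩
      show algebraMap T Q.ResidueField (β x) ∈ C
      rw [← Ideal.ResidueField.map_algebraMap q Q β hβ x]
      exact hS _
  refine eq_top_iff.2 fun y _ => ?_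
  obtain ⟨u, v, -, rfl⟩ := IsFractionRing.div_surjective (T ⧸ Q) y
  obtain ⟨u, rfl⟩ := Ideal.Quotient.mk_surjective u
  obtain ⟨v, rfl⟩ := Ideal.Quotient.mk_surjective v
  have hmem : ∀ t : T, algebraMap T Q.ResidueField t ∈ C := fun t => by
    have : t ∈ C.toSubfield.toSubring.comap (algebraMap T Q.ResidueField) := htop ▸ trivial
    exact this
  exact div_mem (by simpa using hmem u) (by simpa using hmem v)

theorem isIntegral_residueField {R S : Type u} [CommRing R] [CommRing S] [Algebra R S] [Algebra.IsIntegral R S]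
    (p : Ideal R) [p.IsPrime] (q : Ideal S) [q.IsPrime] (h : p = q.comap (algebraMap R S)) :
    letI := (Ideal.ResidueField.map p q (algebraMap R S) h).toAlgebra
    Algebra.IsIntegral p.ResidueField q.ResidueField := by
  letI := (Ideal.ResidueField.map p q (algebraMap R S) h).toAlgebra
  haveI : IsScalarTower R p.ResidueField q.ResidueField := .of_algebraMap_eq fun r =>
    ((Ideal.ResidueField.map_algebraMap p q (algebraMap R S) h r).trans
      (IsScalarTower.algebraMap_apply R S q.ResidueField r).symm).symm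
  haveI : Algebra.IsAlgebraic p.ResidueField q.ResidueField := by
    refine ⟨fun y => ?_⟩
    obtain ⟨u, v, -, rfl⟩ := IsFractionRing.div_surjective (S ⧸ q) y
    obtain ⟨u, rfl⟩ := Ideal.Quotient.mk_surjective u
    obtain ⟨v, rfl⟩ := Ideal.Quotient.mk_surjective v
    have hh : ∀ z : S, IsIntegral p.ResidueField (algebraMap S q.ResidueField z) := fun z =>
      ((Algebra.IsIntegral.isIntegral (R := R) z).map (IsScalarTower.toAlgHom R S q.ResidueField)).tower_top
    have := ((hh u).mul (hh v).inv).isAlgebraic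
    rwa [← div_eq_mul_inv] at this
  exact Algebra.isAlgebraic_iff_isIntegral.1 this

theorem exists_splitting {F E : Type u} [Field F] [Field E] [Algebra F E] (s : Finset E)
    (hs : ∀ x ∈ s, IsSeparable F x) (Ω : Type u) [Field Ω] [Algebra F Ω] [IsSepClosed Ω] :
    ∃ t : Finset Ω, (∀ x ∈ t, IsSeparable F x) ∧ ∀ x ∈ s, ∀ y ∈ (minpoly F x).rootSet Ω, y ∈ t := by
  classical
  refine ⟨s.biUnion fun x => ((minpoly F x).rootSet Ω).toFinset, fun y hy => ?_, fun x hx y hy =>
    Finset.mem_biUnion.2 ⟨x, hx, Set.mem_toFinset.2 hy⟩⟩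
  obtain ⟨x, hx, hy⟩ := Finset.mem_biUnion.1 hy
  exact Polynomial.Separable.of_dvd (hs x hx)
    (minpoly.dvd F y (Polynomial.mem_rootSet.1 (Set.mem_toFinset.1 hy)).2)

/-- Let R → S be integral and p a prime of R with only finitely many primes of S above it, such that for
each of them the separable closure of κ(p) in its residue field is finite over κ(p). Then there are
an étale R-algebra R' and a prime p' of R' over p such that R' ⊗ S is a finite product of
R'-algebras, each integral over R' with exactly one prime over p', whose residue field is purely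
inseparable over κ(p'). -/
theorem result {R S : Type u} [CommRing R] [CommRing S] [Algebra R S] [Algebra.IsIntegral R S]
    (p : Ideal R) [p.IsPrime] (hfin : {q : PrimeSpectrum S | q.asIdeal.comap (algebraMap R S) = p}.Finite)
    (hsep : ∀ (q : PrimeSpectrum S) (hq : q.asIdeal.comap (algebraMap R S) = p),
      letI := (Ideal.ResidueField.map p q.asIdeal (algebraMap R S) hq.symm).toAlgebra
      Module.Finite p.ResidueField (separableClosure p.ResidueField q.asIdeal.ResidueField)) :
    ∃ (R' : Type u) (_ : CommRing R') (_ : Algebra R R') (p' : PrimeSpectrum R'), Algebra.Etale R R' ∧ p'.asIdeal.comap (algebraMap R R') = p ∧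
      ∃ (m : ℕ) (A : Fin m → Type u) (_ : ∀ j, CommRing (A j)) (_ : ∀ j, Algebra R' (A j)) (e : R' ⊗[R] S ≃ₐ[R'] (∀ j, A j)),
        ∀ j, Algebra.IsIntegral R' (A j) ∧ ∃ (r : PrimeSpectrum (A j)) (hr : r.asIdeal.comap (algebraMap R' (A j)) = p'.asIdeal),
          (∀ r' : PrimeSpectrum (A j), r'.asIdeal.comap (algebraMap R' (A j)) = p'.asIdeal → r' = r) ∧
          letI := (Ideal.ResidueField.map p'.asIdeal r.asIdeal (algebraMap R' (A j)) hr.symm).toAlgebra
          IsPurelyInseparable p'.asIdeal.ResidueField r.asIdeal.ResidueField := by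
  classical
  by_cases hne : {q : PrimeSpectrum S | q.asIdeal.comap (algebraMap R S) = p} = ∅
  · have hker : ¬ RingHom.ker (algebraMap R S) ≤ p := fun h => by
      obtain ⟨Q, -, hQ, hQp⟩ := Ideal.exists_ideal_over_prime_of_isIntegral p (⊥ : Ideal S) h
      exact Set.eq_empty_iff_forall_notMem.1 hne ⟨Q, hQ⟩ hQp
    obtain ⟨f, hf, hfp⟩ := SetLike.not_le_iff_exists.1 hker
    let R' := Localization.Away f
    haveI hprime : (p.map (algebraMap R R')).IsPrime ∧ (p.map (algebraMap R R')).comap (algebraMap R R') = p := by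
      have hd : Disjoint (Submonoid.powers f : Set R) (p : Set R) := by
        rw [Set.disjoint_left]
        rintro _ ⟨n, rfl⟩ h
        exact hfp (Ideal.IsPrime.mem_of_pow_mem inferInstance n h)
      exact ⟨IsLocalization.isPrime_of_isPrime_disjoint (Submonoid.powers f) R' p inferInstance hd,
        IsLocalization.under_map_of_isPrime_disjoint (Submonoid.powers f) R' inferInstance hd⟩
    haveI : Subsingleton (R' ⊗[R] S) := by
      have hu : IsUnit (algebraMap R (R' ⊗[R] S) f) := by
        rw [IsScalarTower.algebraMap_apply R R' (R' ⊗[R] S)]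
        exact (IsLocalization.Away.algebraMap_isUnit f).map _
      have h0 : algebraMap R (R' ⊗[R] S) f = 0 := by
        rw [← Algebra.TensorProduct.includeRight.commutes, RingHom.mem_ker.1 hf, map_zero]
      rw [h0, isUnit_zero_iff] at hu
      exact subsingleton_of_zero_eq_one hu
    refine ⟨R', inferInstance, inferInstance, ⟨_, hprime.1⟩,
      Algebra.Etale.of_isLocalizationAway f, hprime.2, 0, fun j => R', fun j => inferInstance,
      fun j => inferInstance,
      AlgEquiv.ofBijective (Pi.algHom R' (fun _ : Fin 0 => R') (fun i => i.elim0))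
        ⟨fun x y _ => Subsingleton.elim x y, fun x => ⟨0, funext fun i => i.elim0⟩⟩,
      fun j => j.elim0⟩
  -- the splitting field
  let Ω := SeparableClosure p.ResidueField
  let fib := hfin.toFinset
  have hfib : ∀ q, q ∈ fib ↔ q.asIdeal.comap (algebraMap R S) = p := fun q => hfin.mem_toFinset
  have hex : ∀ (q : PrimeSpectrum S) (hq : q.asIdeal.comap (algebraMap R S) = p),
      letI := (Ideal.ResidueField.map p q.asIdeal (algebraMap R S) hq.symm).toAlgebra
      ∃ (s : Finset q.asIdeal.ResidueField) (t : Finset Ω), (∀ x ∈ t, IsSeparable p.ResidueField x) ∧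
        separableClosure p.ResidueField q.asIdeal.ResidueField ≤
          IntermediateField.adjoin p.ResidueField (s : Set q.asIdeal.ResidueField) ∧
        (∀ x ∈ s, IsSeparable p.ResidueField x) ∧
        ∀ x ∈ s, ∀ y ∈ (minpoly p.ResidueField x).rootSet Ω, y ∈ t := by
    intro q hq
    letI := (Ideal.ResidueField.map p q.asIdeal (algebraMap R S) hq.symm).toAlgebra
    haveI := hsep q hq
    obtain ⟨α, hα⟩ := Field.exists_primitive_element p.ResidueField
      (separableClosure p.ResidueField q.asIdeal.ResidueField)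
    have hs' : ∀ x ∈ ({(α : q.asIdeal.ResidueField)} : Finset _), IsSeparable p.ResidueField x := fun x hx =>
      Finset.mem_singleton.1 hx ▸ mem_separableClosure_iff.1 α.2
    obtain ⟨t, ht, ht'⟩ := exists_splitting _ hs' Ω
    refine ⟨_, t, ht, le_of_eq ?_, hs', ht'⟩
    have := congrArg IntermediateField.lift hα
    rw [IntermediateField.lift_adjoin_simple, IntermediateField.lift_top] at this
    rw [Finset.coe_singleton]
    exact this.symm
  choose s t hts hsle hss hst using hex
  let tt : Finset Ω := fib.attach.biUnion fun q => t q.1 ((hfib q.1).1 q.2)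
  let k := IntermediateField.adjoin p.ResidueField (tt : Set Ω)
  have htt : ∀ x ∈ (tt : Set Ω), IsSeparable p.ResidueField x := fun x hx => by
    obtain ⟨q, -, hx⟩ := Finset.mem_biUnion.1 hx
    exact hts _ _ x hx
  haveI : FiniteDimensional p.ResidueField k :=
    IntermediateField.finiteDimensional_adjoin fun x hx => (htt x hx).isIntegral
  haveI : Algebra.IsSeparable p.ResidueField k :=
    (IntermediateField.isSeparable_adjoin_iff_isSeparable _ _).2 htt
  obtain ⟨R₁, _, _, _, P₁, _, hp₁, τ, hτ⟩ := exists_realise p k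
  haveI : P₁.LiesOver p := ⟨hp₁⟩
  -- separate the primes over `P₁` by a finite subalgebra
  let F₁ := {r : PrimeSpectrum (R₁ ⊗[R] S) | r.asIdeal.comap (algebraMap R₁ (R₁ ⊗[R] S)) = P₁}
  have hF₁ : F₁.Finite := by
    haveI : Algebra.QuasiFinite S (S ⊗[R] R₁) := inferInstance
    let ρ : PrimeSpectrum (R₁ ⊗[R] S) → PrimeSpectrum (S ⊗[R] R₁) :=
      PrimeSpectrum.comap (Algebra.TensorProduct.comm R S R₁).toAlgHom.toRingHom
    have hρ : Function.Injective ρ :=
      PrimeSpectrum.comap_injective_of_surjective _ (Algebra.TensorProduct.comm R S R₁).surjective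
    refine Set.Finite.subset ((hfin.biUnion fun q _ =>
      (Algebra.QuasiFinite.finite_comap_preimage_singleton (R := S) (S := S ⊗[R] R₁) q)).preimage hρ.injOn)
      fun r hr => Set.mem_biUnion (x := PrimeSpectrum.comap (algebraMap S (S ⊗[R] R₁)) (ρ r)) ?_ rfl
    have hc : (Algebra.TensorProduct.comm R S R₁).toAlgHom.toRingHom.comp
        ((algebraMap S (S ⊗[R] R₁)).comp (algebraMap R S)) =
        (algebraMap R₁ (R₁ ⊗[R] S)).comp (algebraMap R R₁) := by
      ext x
      simp [← Algebra.TensorProduct.tmul_one_eq_one_tmul]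
    show ((r.asIdeal.comap _).comap _).comap _ = p
    rw [Ideal.comap_comap, Ideal.comap_comap]
    exact (congrArg r.asIdeal.comap hc).trans (by rw [← Ideal.comap_comap, hr, ← hp₁])
  have hdiff : ∀ a b : F₁, a ≠ b → ∃ x, x ∈ a.1.asIdeal ∧ x ∉ b.1.asIdeal := fun a b hab => by
    refine SetLike.not_le_iff_exists.1 fun hle => hab (Subtype.ext (PrimeSpectrum.ext ?_))
    rcases eq_or_lt_of_le hle with h | h
    · exact h
    · exact absurd ((a.2.trans b.2.symm))
        (Ideal.IsIntegral.comap_lt_comap (R := R₁) h).ne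
  choose g hga hgb using hdiff
  haveI := hF₁.fintype
  let gs : Finset (R₁ ⊗[R] S) :=
    Finset.univ.image fun ab : {ab : F₁ × F₁ // ab.1 ≠ ab.2} => g ab.1.1 ab.1.2 ab.2
  let S₀ := Algebra.adjoin R₁ (gs : Set (R₁ ⊗[R] S))
  haveI : Module.Finite R₁ S₀ := Module.Finite.iff_fg.2
    (fg_adjoin_of_finite gs.finite_toSet fun x _ => Algebra.IsIntegral.isIntegral x)
  obtain ⟨R₂, _, _, _, P₂, _, _, n, e, he, Q', _, _, hbij, hQ', hall⟩ :=
    Algebra.exists_etale_completeOrthogonalIdempotents_forall_liesOver_eq (S := S₀) P₁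
  letI : Algebra R R₂ := ((algebraMap R₁ R₂).comp (algebraMap R R₁)).toAlgebra
  haveI : IsScalarTower R R₁ R₂ := .of_algebraMap_eq' rfl
  haveI : Algebra.Etale R R₂ := Algebra.Etale.comp R R₁ R₂
  have hP₂ : P₂.comap (algebraMap R R₂) = p := by
    rw [IsScalarTower.algebraMap_eq R R₁ R₂, ← Ideal.comap_comap, ← Ideal.under_def R₁ P₂, ← P₂.over_def P₁, ← hp₁]
  let cb : R₂ ⊗[R₁] (R₁ ⊗[R] S) ≃ₐ[R₂] R₂ ⊗[R] S := Algebra.TensorProduct.cancelBaseChange R R₁ R₂ R₂ S
  let ι : R₂ ⊗[R₁] S₀ →ₐ[R₂] R₂ ⊗[R] S :=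
    cb.toAlgHom.comp (Algebra.TensorProduct.map (AlgHom.id R₂ R₂) S₀.val)
  -- `n` is positive
  obtain ⟨q₀, hq₀⟩ := Set.nonempty_iff_ne_empty.2 hne
  obtain ⟨Z, hZ₂, -⟩ := HenselLib.AlgRes.exists_prime_tensor (A := R) ⟨P₂, ‹_›⟩ q₀
    (PrimeSpectrum.ext (hP₂.trans hq₀.symm))
  have hover : ∀ (W : Ideal (R₂ ⊗[R] S)), W.comap (algebraMap R₂ (R₂ ⊗[R] S)) = P₂ →
      (W.comap ι.toRingHom).LiesOver P₂ := fun W hW => ⟨by
    show P₂ = (W.comap ι.toRingHom).comap (algebraMap R₂ _)
    rw [Ideal.comap_comap, AlgHom.toRingHom_eq_coe, ι.comp_algebraMap, hW]⟩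
  have hn : 0 < n := by
    by_contra h
    have h1 : e (Fin.last n) = 1 := by
      rw [← he.complete, Fintype.sum_eq_single (Fin.last n)]
      exact fun i hi => absurd (Fin.ext (show (i : ℕ) = n by omega)) hi
    have := (hall (Z.asIdeal.comap ι.toRingHom) inferInstance
      (hover _ (congrArg PrimeSpectrum.asIdeal hZ₂))).1
    exact Ideal.IsPrime.one_notMem (inferInstance : (Z.asIdeal.comap ι.toRingHom).IsPrime) (h1 ▸ this)
  -- absorb the last idempotent
  let j₀ : Fin n := ⟨0, hn⟩
  let e' : Fin n → R₂ ⊗[R₁] S₀ := fun j => e j.castSucc + if j = j₀ then e (Fin.last n) else 0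
  have hlast : ∀ j : Fin n, e j.castSucc * e (Fin.last n) = 0 := fun j => he.ortho (Fin.castSucc_lt_last j).ne
  have hlast' : ∀ j : Fin n, e (Fin.last n) * e j.castSucc = 0 := fun j => he.ortho (Fin.castSucc_lt_last j).ne'
  have he' : CompleteOrthogonalIdempotents e' := by
    refine ⟨⟨fun j => ?_, fun i j hij => ?_⟩, ?_⟩
    · show e' j * e' j = e' j
      by_cases h : j = j₀
      · simp only [e', h, if_true, add_mul, mul_add, (he.idem _).eq, hlast, hlast', add_zero, zero_add]
      · simp only [e', h, if_false, add_zero, (he.idem _).eq]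
    · show e' i * e' j = 0
      have h0 : e i.castSucc * e j.castSucc = 0 := he.ortho (fun h => hij (Fin.castSucc_injective _ h))
      by_cases h : i = j₀
      · have : j ≠ j₀ := fun h' => hij (h.trans h'.symm)
        simp only [e', h, this, if_true, if_false, add_zero, add_mul, hlast', add_zero]
        rwa [h] at h0
      · by_cases h' : j = j₀
        · simp only [e', h, h', if_true, if_false, add_zero, mul_add, hlast]
          rwa [h'] at h0
        · simp only [e', h, h', if_false, add_zero, h0]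
    · rw [← he.complete, Fin.sum_univ_castSucc, Finset.sum_add_distrib, Finset.sum_ite_eq']
      simp
  have huniq : ∀ (W : Ideal (R₂ ⊗[R₁] S₀)), W.IsPrime → W.LiesOver P₂ → ∀ j, e' j ∉ W → W = Q' j := by
    intro W hW hW' j hj
    refine (hall W hW hW').2 j fun h => hj (W.add_mem h ?_)
    split_ifs
    · exact (hall W hW hW').1
    · exact W.zero_mem
  have hQe : ∀ j, e' j ∉ Q' j := fun j h => hQ' j (by
    refine (Ideal.add_mem_iff_left _ ?_).1 h
    split_ifs
    · exact (hall (Q' j) inferInstance inferInstance).1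
    · exact Ideal.zero_mem _)
  have hidem : CompleteOrthogonalIdempotents (ι.toRingHom ∘ e') := he'.map ι.toRingHom
  let A : Fin n → Type u := fun j => (R₂ ⊗[R] S) ⧸ Ideal.span {1 - ι (e' j)}
  let Φ : R₂ ⊗[R] S →ₐ[R₂] ∀ j, A j := Pi.algHom R₂ A fun j => Ideal.Quotient.mkₐ R₂ _
  have hΦ : Function.Bijective Φ := hidem.bijective_pi
  refine ⟨R₂, inferInstance, inferInstance, ⟨P₂, inferInstance⟩, inferInstance, hP₂, n, A,
    fun j => inferInstance, fun j => inferInstance, AlgEquiv.ofBijective Φ hΦ, fun j => ?_⟩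
  let π : R₂ ⊗[R] S →ₐ[R₂] A j := Ideal.Quotient.mkₐ R₂ _
  have hπ : Function.Surjective π := Ideal.Quotient.mkₐ_surjective R₂ _
  refine ⟨Algebra.IsIntegral.of_surjective π hπ, ?_⟩
  -- the primes of a factor
  have hval : ∀ z, ι (1 ⊗ₜ z) = cb (1 ⊗ₜ (z : R₁ ⊗[R] S)) := fun z => by simp [ι]
  let F : Ideal (A j) → Ideal (R₁ ⊗[R] S) := fun W =>
    (W.comap π.toRingHom).comap (cb.toRingHom.comp Algebra.TensorProduct.includeRight.toRingHom)
  have hF : ∀ (W : Ideal (A j)), W.IsPrime → W.comap (algebraMap R₂ (A j)) = P₂ →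
      (W.comap π.toRingHom).comap ι.toRingHom = Q' j := fun W hW hW2 => by
    refine huniq _ inferInstance (hover _ ?_) j fun h => ?_
    · rw [Ideal.comap_comap, AlgHom.toRingHom_eq_coe, π.comp_algebraMap, hW2]
    · have h1 : π (1 - ι (e' j)) = 0 :=
        Ideal.Quotient.eq_zero_iff_mem.2 (Ideal.mem_span_singleton_self _)
      refine hW.one_notMem ?_
      rw [map_sub, map_one, sub_eq_zero] at h1
      rw [h1]
      exact h
  have hFover : ∀ (W : Ideal (A j)), W.comap (algebraMap R₂ (A j)) = P₂ →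
      (F W).comap (algebraMap R₁ (R₁ ⊗[R] S)) = P₁ := fun W hW2 => by
    rw [P₂.over_def P₁, Ideal.under_def, ← hW2, Ideal.comap_comap, Ideal.comap_comap,
      Ideal.comap_comap]
    congr 1
    ext x
    show π (cb (1 ⊗ₜ[R₁] algebraMap R₁ (R₁ ⊗[R] S) x)) = algebraMap R₂ (A j) (algebraMap R₁ R₂ x)
    rw [Algebra.algebraMap_eq_smul_one, TensorProduct.tmul_smul, TensorProduct.smul_tmul',
      ← Algebra.algebraMap_eq_smul_one, ← π.commutes, ← cb.commutes]
    rfl
  -- existence
  let c₀ := (Q' j).comap (Algebra.TensorProduct.includeRight (R := R₁) (A := R₂) (B := S₀)).toRingHom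
  haveI : Algebra.IsIntegral S₀ (R₁ ⊗[R] S) := Algebra.IsIntegral.tower_top R₁
  obtain ⟨r₁, -, hr₁, hr₁'⟩ := Ideal.exists_ideal_over_prime_of_isIntegral c₀ (⊥ : Ideal (R₁ ⊗[R] S))
    (fun x hx => by rw [show x = 0 from Subtype.ext hx]; exact zero_mem _)
  haveI : c₀.LiesOver P₁ := ⟨by
    show P₁ = c₀.comap _
    rw [P₂.over_def P₁, Ideal.under_def, (Q' j).over_def P₂, Ideal.under_def, Ideal.comap_comap,
      Ideal.comap_comap, AlgHom.toRingHom_eq_coe, AlgHom.comp_algebraMap, ← IsScalarTower.algebraMap_eq]⟩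
  have hr₁P : r₁.comap (algebraMap R₁ (R₁ ⊗[R] S)) = P₁ := by
    rw [c₀.over_def P₁, Ideal.under_def, ← hr₁', Ideal.comap_comap, ← IsScalarTower.algebraMap_eq]
  obtain ⟨Z₁, hZ₁, hZ₁'⟩ := HenselLib.AlgRes.exists_prime_tensor (A := R₁) (C := R₂)
    (B := R₁ ⊗[R] S) ⟨P₂, ‹_›⟩ ⟨r₁, hr₁⟩ (PrimeSpectrum.ext ((P₂.over_def P₁).symm.trans hr₁P.symm))
  let W₁ : Ideal (R₂ ⊗[R] S) := Z₁.asIdeal.comap cb.symm.toRingHom
  have hW₁ : W₁.comap (algebraMap R₂ _) = P₂ := by
    refine Eq.trans ?_ (congrArg PrimeSpectrum.asIdeal hZ₁)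
    rw [Ideal.comap_comap]
    congr 1
  have hW₁ι : W₁.comap ι.toRingHom = Q' j := by
    haveI := hover W₁ hW₁
    refine Ideal.eq_of_comap_eq_comap_of_bijective_residueFieldMap hbij _ _ ?_
    show _ = c₀
    rw [← hr₁', show r₁ = _ from (congrArg PrimeSpectrum.asIdeal hZ₁').symm]
    ext z
    show cb.symm (ι (1 ⊗ₜ z)) ∈ Z₁.asIdeal ↔ (1 : R₂) ⊗ₜ[R₁] (z : R₁ ⊗[R] S) ∈ Z₁.asIdeal
    rw [hval, AlgEquiv.symm_apply_apply]
  have hej : ι (e' j) ∉ W₁ := fun h => hQe j (hW₁ι ▸ h)
  have hsub : RingHom.ker π.toRingHom ≤ W₁ := by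
    rw [show RingHom.ker π.toRingHom = Ideal.span {1 - ι (e' j)} from Ideal.mk_ker,
      Ideal.span_singleton_le_iff_mem]
    refine ((inferInstance : W₁.IsPrime).mem_or_mem (?_ : ι (e' j) * (1 - ι (e' j)) ∈ W₁)).resolve_left hej
    rw [((he'.idem j).map ι).mul_one_sub_self]
    exact zero_mem _
  haveI : (W₁.map π.toRingHom).IsPrime := Ideal.map_isPrime_of_surjective hπ hsub
  let r : PrimeSpectrum (A j) := ⟨W₁.map π.toRingHom, inferInstance⟩
  have hrW : r.asIdeal.comap π.toRingHom = W₁ := by
    show (W₁.map π.toRingHom).comap π.toRingHom = W₁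
    rw [Ideal.comap_map_of_surjective π.toRingHom hπ, sup_eq_left]
    exact hsub
  have hr : r.asIdeal.comap (algebraMap R₂ (A j)) = P₂ := by
    rw [← π.comp_algebraMap, ← Ideal.comap_comap]
    exact (congrArg _ hrW).trans hW₁
  refine ⟨r, hr, fun r' hr' => ?_, ?_⟩
  · -- uniqueness
    apply PrimeSpectrum.ext
    refine Ideal.comap_injective_of_surjective π.toRingHom hπ ?_
    have hFr : F r'.asIdeal = F r.asIdeal := by
      by_contra hne'
      let a : F₁ := ⟨⟨F r'.asIdeal, inferInstance⟩, hFover _ hr'⟩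
      let b : F₁ := ⟨⟨F r.asIdeal, inferInstance⟩, hFover _ hr⟩
      have hab : a ≠ b := fun h => hne' (congrArg (fun x : F₁ => x.1.asIdeal) h)
      have hg : g a b hab ∈ S₀ := Algebra.subset_adjoin
        (Finset.mem_image.2 ⟨⟨(a, b), hab⟩, Finset.mem_univ _, rfl⟩)
      apply hgb a b hab
      have h1 := hga a b hab
      change π (cb (1 ⊗ₜ _)) ∈ r'.asIdeal at h1
      show π (cb (1 ⊗ₜ _)) ∈ r.asIdeal
      rw [← hval ⟨_, hg⟩] at h1 ⊢
      have h2 : (1 : R₂) ⊗ₜ[R₁] (⟨_, hg⟩ : S₀) ∈ (r'.asIdeal.comap π.toRingHom).comap ι.toRingHom := h1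
      rw [hF _ r'.isPrime hr', ← hF _ r.isPrime hr] at h2
      exact h2
    haveI : ((r'.asIdeal.comap π.toRingHom).comap cb.toRingHom).LiesOver P₂ := ⟨by
      show P₂ = Ideal.comap _ _
      refine hr'.symm.trans ?_
      rw [Ideal.comap_comap, Ideal.comap_comap]
      congr 1
      ext x
      exact ((congrArg π (cb.commutes x)).trans (π.commutes x)).symm⟩
    haveI : ((r.asIdeal.comap π.toRingHom).comap cb.toRingHom).LiesOver P₂ := ⟨by
      show P₂ = Ideal.comap _ _
      refine hr.symm.trans ?_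
      rw [Ideal.comap_comap, Ideal.comap_comap]
      congr 1
      ext x
      exact ((congrArg π (cb.commutes x)).trans (π.commutes x)).symm⟩
    exact Ideal.comap_injective_of_surjective cb.toRingHom cb.surjective
      (Ideal.eq_of_comap_eq_comap_of_bijective_residueFieldMap hbij _ _ hFr)
  -- residue fields
  let β : S →+* A j := π.toRingHom.comp Algebra.TensorProduct.includeRight.toRingHom
  let q : PrimeSpectrum S := PrimeSpectrum.comap β r
  have hcomm : (algebraMap R₂ (A j)).comp (algebraMap R R₂) = β.comp (algebraMap R S) := by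
    ext x
    show algebraMap R₂ (A j) (algebraMap R R₂ x) = π (1 ⊗ₜ algebraMap R S x)
    rw [← π.commutes, ← Algebra.TensorProduct.tmul_one_eq_one_tmul]
    rfl
  have hq : q.asIdeal.comap (algebraMap R S) = p := by
    show (r.asIdeal.comap β).comap _ = p
    rw [Ideal.comap_comap, ← hcomm, ← Ideal.comap_comap, hr, hP₂]
  refine purelyInseparable_of_split (algebraMap R R₂) (algebraMap R S) (algebraMap R₂ (A j)) β hcomm ?_
    p P₂ q.asIdeal r.asIdeal hP₂.symm hq.symm hr.symm rfl ?_ ?_
  · intro H hα hβ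
    refine eq_top_iff.2 fun y _ => ?_
    obtain ⟨y, rfl⟩ := hπ y
    induction y using TensorProduct.induction_on with
    | zero => rw [map_zero]; exact H.zero_mem
    | tmul a b =>
      rw [show a ⊗ₜ[R] b = algebraMap R₂ (R₂ ⊗[R] S) a * (1 ⊗ₜ[R] b) by simp, map_mul, π.commutes]
      exact H.mul_mem (hα ⟨a, rfl⟩) (hβ ⟨b, rfl⟩)
    | add a b ha hb => exact (map_add π a b).symm ▸ H.add_mem (ha trivial) (hb trivial)
  · letI := (Ideal.ResidueField.map p q.asIdeal (algebraMap R S) hq.symm).toAlgebra
    haveI : q.asIdeal.LiesOver p := ⟨hq.symm⟩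
    exact isIntegral_residueField p q.asIdeal hq.symm
  intro x σ hσ
  letI := (Ideal.ResidueField.map p q.asIdeal (algebraMap R S) hq.symm).toAlgebra
  let ρ := Ideal.ResidueField.map P₂ r.asIdeal (algebraMap R₂ (A j)) hr.symm
  let G : IntermediateField p.ResidueField q.asIdeal.ResidueField :=
    { ρ.fieldRange.comap σ with algebraMap_mem' := fun z => ⟨_, (hσ z).symm⟩ }
  suffices IntermediateField.adjoin p.ResidueField (s q hq : Set q.asIdeal.ResidueField) ≤ G from
    this (hsle q hq x.2)
  refine IntermediateField.adjoin_le_iff.2 fun a ha => ?_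
  let f := minpoly p.ResidueField a
  have hk : (f.map (algebraMap p.ResidueField k)).Splits := by
    refine (IntermediateField.splits_iff_mem (IsSepClosed.splits_codomain _ (hss q hq a ha))).2
      fun y hy => ?_
    exact IntermediateField.subset_adjoin _ _ (Finset.mem_biUnion.2
      ⟨⟨q, (hfib q).2 hq⟩, Finset.mem_attach _ _, hst q hq a ha y hy⟩)
  let θ : k →+* P₂.ResidueField := (Ideal.ResidueField.map P₁ P₂ (algebraMap R₁ R₂) (P₂.over_def P₁)).comp τ
  have hθ : θ.comp (algebraMap p.ResidueField k) = Ideal.ResidueField.map p P₂ (algebraMap R R₂) hP₂.symm := by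
    apply Ideal.ResidueField.ringHom_ext
    ext z
    simp [θ, hτ, IsScalarTower.algebraMap_apply R R₁ R₂]
  have h2 := hk.map θ
  rw [Polynomial.map_map, hθ] at h2
  refine h2.mem_range_of_isRoot (Polynomial.map_ne_zero (minpoly.ne_zero (hss q hq a ha).isIntegral)) ?_
  have hroot : Polynomial.eval₂ (algebraMap p.ResidueField q.asIdeal.ResidueField) a f = 0 := minpoly.aeval _ a
  have := congrArg σ hroot
  rw [map_zero, Polynomial.hom_eval₂] at this
  rw [Polynomial.IsRoot, Polynomial.eval_map, Polynomial.eval₂_map]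
  rw [← this]
  congr 1
  exact RingHom.ext fun z => (hσ z).symm

end Groth.Agent.S1380
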