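import Groth.Statements.S13800
import Groth.Agent.CdAffine9.Devissage
import Groth.Agent.Et18.KummerH1.Punctured
import Groth.Agent.Et18.LocAcycBC.ConstTors
-- import your own Groth.Agent.* helpers here

set_option autoImplicit false
set_option linter.all false
set_option backward.isDefEq.respectTransparency.types false
set_option backward.isDefEq.respectTransparency false
set_option synthInstance.maxHeartbeats 400000
set_option maxHeartbeats 2000000
universe u
open CategoryTheory AlgebraicGeometry Polynomial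
open EtCoh

namespace Groth.Agent.S13800


noncomputable section Helpers

open CategoryTheory.Limits CategoryTheory.Abelian Opposite
open Groth.Agent Groth.Agent.Et18 Groth.Agent.Et18.CdField Groth.Agent.CdCurve24

/-- `μ_n` is constant over an algebraically closed field. -/
theorem nonempty_mu_iso {k : Type u} [Field k] [IsAlgClosed k] {X : Scheme.{u}}
    (g : X ⟶ Spec (CommRingCat.of k)) (n : ℕ) (hn1 : 1 ≤ n) (hn : (n : k) ≠ 0) :
    Nonempty (EtCoh.mu X n ≅ EtCoh.const X (ZMod n)) := by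
  let φ : k →+* Γ(X, ⊤) := g.appTop.hom.comp (Scheme.ΓSpecIso (CommRingCat.of k)).inv.hom
  have hu : IsUnit (n : Γ(X, ⊤)) := by
    have := (isUnit_iff_ne_zero.2 hn).map φ
    rwa [map_natCast] at this
  haveI : NeZero (n : k) := ⟨hn⟩
  obtain ⟨ζ, hζ⟩ := HasEnoughRootsOfUnity.exists_primitiveRoot k n
  let z : Γ(X, ⊤)ˣ := Units.map φ.toMonoidHom (hζ.isUnit (by omega)).unit
  have hz : z ^ n = 1 := Units.ext (by
    show φ ζ ^ n = 1
    rw [← map_pow, hζ.pow_eq_one, map_one])
  have hc : Polynomial.aeval (z : Γ(X, ⊤)) (Polynomial.cyclotomic n ℤ) = 0 := by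
    show Polynomial.aeval (φ ζ) (Polynomial.cyclotomic n ℤ) = 0
    rw [Polynomial.aeval_def, show algebraMap ℤ Γ(X, ⊤) = φ.comp (Int.castRingHom k) from RingHom.ext_int _ _,
      ← Polynomial.hom_eval₂, ← Polynomial.eval_map, Polynomial.map_cyclotomic_int,
      (hζ.isRoot_cyclotomic (by omega)).eq_zero, map_zero]
  exact HenselLib.Kummer.nonempty_iso n hn1 z hz hu hc

/-- `H^1(S, μ_n) = 0` without Picard group and with divisible units. -/
theorem subsingleton_H_one_mu (S : Scheme.{u}) (n : ℕ) (hn : IsUnit (n : Γ(S, ⊤)))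
    [Subsingleton (EtCoh.H S (EtCoh.Gm S) 1)] (hdiv : ∀ v : Γ(S, ⊤)ˣ, ∃ w : Γ(S, ⊤)ˣ, v = w ^ n) :
    Subsingleton (EtCoh.H S (EtCoh.mu S n) 1) := by
  have hepi := HenselLib.Kummer.epi_powMap n hn
  have hS := EtSix.kummerShortExact hepi
  refine GalEt.subsingleton_of_forall_eq_zero fun c => ?_
  obtain ⟨y, rfl⟩ := Ext.covariant_sequence_exact₁ (EtCoh.const S ℤ) hS c
    (Subsingleton.elim (α := EtCoh.H S (EtCoh.Gm S) 1) _ _) (n₀ := 0) rfl
  obtain ⟨f, rfl⟩ := EtLimit.exists_eq_mk₀ y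
  obtain ⟨v, hv⟩ := HenselLib.Kummer.sec_surjective (EtLimit.secOf f)
  obtain ⟨w, hw⟩ := hdiv v
  obtain ⟨f', hf'⟩ := EtLimit.exists_secOf (F := EtCoh.Gm S) (HenselLib.Kummer.sec (U := EtCoh.top S) w)
  have hf : f = f' ≫ (EtSix.kummerSC S n).g := by
    show f = f' ≫ EtCoh.powMap S n
    rw [EtCoh.powMap, Preadditive.comp_nsmul, Category.comp_id]
    refine EtLimit.secOf_injective ?_
    rw [TorsionColim.secOf_nsmul, hf', ← hv, hw, HenselLib.Kummer.sec_pow]
  subst hf
  rw [← Ext.mk₀_comp_mk₀]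
  exact (Ext.comp_assoc_of_second_deg_zero _ _ hS.extClass _).trans
    ((congrArg (fun t => Ext.comp (Ext.mk₀ f') t (rfl : 0 + 1 = 0 + 1)) hS.comp_extClass).trans
      (Ext.comp_zero _ _ _ _ _))

/-- Composition with the unit is bijective on homomorphisms of constant sheaves. -/
theorem bijective_comp_unit {Y T : Scheme.{u}} (f : T ⟶ Y) [Nonempty Y] [PreconnectedSpace Y]
    [Nonempty T] [PreconnectedSpace T] (M : Type) [AddCommGroup M] :
    Function.Bijective (fun g : EtCoh.const Y ℤ ⟶ EtCoh.const Y M =>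
      g ≫ (EtCoh.pullPushAdj f).unit.app (EtCoh.const Y M)) := by
  let Zu : AddCommGrpCat.{u + 1} := AddCommGrpCat.of (ULift.{u + 1} ℤ)
  let A : AddCommGrpCat.{u + 1} := AddCommGrpCat.of (ULift.{u + 1} M)
  let c := constantSheaf Y.smallEtaleTopology AddCommGrpCat.{u+1}
  let c' := constantSheaf T.smallEtaleTopology AddCommGrpCat.{u+1}
  have hY : Function.Bijective (fun a : Zu ⟶ A => c.map a) := LocAcycBC.bijective_cst_map Zu A
  have hT : Function.Bijective (fun a : Zu ⟶ A => c'.map a) := LocAcycBC.bijective_cst_map Zu A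
  let η := EtCore.pullConstIso f
  have h2 : Function.Bijective (fun a : Zu ⟶ A =>
      (EtCoh.pullPushAdj f).homEquiv (c.obj Zu) ((EtCoh.pull f).obj (c.obj A))
        (η.hom.app Zu ≫ c'.map a ≫ η.inv.app A)) := by
    refine ((EtCoh.pullPushAdj f).homEquiv _ _).bijective.comp ?_
    exact (Iso.homCongr (η.app Zu).symm (η.app A).symm).bijective.comp hT
  refine (Function.Bijective.of_comp_iff (fun g : c.obj Zu ⟶ c.obj A =>
      g ≫ (EtCoh.pullPushAdj f).unit.app (c.obj A)) hY).mp ?_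
  convert h2 using 1
  funext a
  show c.map a ≫ (EtCoh.pullPushAdj f).unit.app (c.obj A) = _
  have hn : η.hom.app Zu ≫ c'.map a ≫ η.inv.app A = (EtCoh.pull f).map (c.map a) := by
    have h := η.hom.naturality a
    rw [← Category.assoc, ← h, Category.assoc, Iso.hom_inv_id_app, Category.comp_id]
    rfl
  rw [hn, Adjunction.homEquiv_unit]
  exact (EtCoh.pullPushAdj f).unit.naturality (c.map a)

/-- Biproducts of sheaves without cohomology. -/
theorem subsingleton_H_biproduct {Y : Scheme.{u}} {ι : Type u} [Fintype ι] (G : ι → EtCoh.Ab Y) (n : ℕ)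
    (h : ∀ i, Subsingleton (EtCoh.H Y (G i) n)) : Subsingleton (EtCoh.H Y (⨁ G) n) := by
  classical
  refine GalEt.subsingleton_of_forall_eq_zero fun x => ?_
  have e : ∑ i, biproduct.π G i ≫ biproduct.ι G i = 𝟙 (⨁ G) := IsBilimit.total (biproduct.isBilimit _)
  let φ : (⨁ G ⟶ ⨁ G) →+ EtCoh.H Y (⨁ G) n :=
    AddMonoidHom.mk' (fun f => x.comp (Ext.mk₀ f) (add_zero n)) fun a b => by simp only [Ext.mk₀_add, Ext.comp_add]
  have h1 := congrArg φ e
  rw [map_sum] at h1
  refine Eq.trans ?_ (h1.symm.trans (Finset.sum_eq_zero fun i _ => ?_))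
  · exact (Ext.comp_mk₀_id x).symm
  · show x.comp (Ext.mk₀ (_ ≫ _)) (add_zero n) = 0
    rw [← Ext.mk₀_comp_mk₀, ← Ext.comp_assoc_of_third_deg_zero,
      show x.comp (Ext.mk₀ (biproduct.π G i)) (add_zero n) = 0 from @Subsingleton.elim _ (h i) _ _, Ext.zero_comp]

/-- The sequence at finitely many rational points. -/
theorem main {k : Type u} [Field k] [IsAlgClosed k] (T : Scheme.{u}) (g : T ⟶ Spec (CommRingCat.of k))
    [LocallyOfFiniteType g] [IsAffine T] [IsIntegral T] (hdim : topologicalKrullDim T = 1)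
    (n : ℕ) (hn1 : 1 ≤ n) (hnk : (n : k) ≠ 0) (h1 : Subsingleton (EtCoh.H T (EtCoh.mu T n) 1))
    (m : ℕ) (x : ULift.{u} (Fin (m + 1)) → (Spec (CommRingCat.of k) ⟶ T)) [∀ a, IsClosedImmersion (x a)]
    (hx : Function.Injective fun a => x a default)
    {U : Scheme.{u}} (j : U ⟶ T) [IsOpenImmersion j] [EtShriek.JCont j]
    (hj : Set.range j = (Set.range fun a => x a default)ᶜ) :
    (∀ s : ℕ, s ≠ 1 → Subsingleton (EtCoh.H T ((EtShriek.extZero j).obj (EtCoh.mu U n)) s)) ∧
      Nonempty (EtCoh.H T ((EtShriek.extZero j).obj (EtCoh.mu U n)) 1 ≃+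
        (Fin m → Additive (rootsOfUnity n k))) := by
  classical
  haveI : IsSeparated g := inferInstance
  haveI : QuasiCompact g := inferInstance
  haveI : IsLocallyNoetherian T := LocallyOfFiniteType.isLocallyNoetherian g
  haveI : CompactSpace T := QuasiCompact.compactSpace_of_compactSpace g
  haveI : IsNoetherian T := {}
  let F := EtCoh.const T (ZMod n)
  obtain ⟨i⟩ := nonempty_mu_iso g n hn1 hnk
  obtain ⟨iU⟩ := nonempty_mu_iso (j ≫ g) n hn1 hnk
  let P : ULift.{u} (Fin (m + 1)) → EtCoh.Ab T := fun a => (EtCoh.push (x a)).obj ((EtCoh.pull (x a)).obj F)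
  let u : F ⟶ ⨁ P := biproduct.lift fun a => (EtCoh.pullPushAdj (x a)).unit.app F
  have hrange : ∀ a, Set.range (x a) = {x a default} := fun a => by
    ext t
    constructor
    · rintro ⟨p, rfl⟩
      exact congrArg (x a) (Subsingleton.elim p _)
    · rintro rfl
      exact ⟨default, rfl⟩
  -- stalks at the removed points
  have hstalk : ∀ a, ∃ (Ω : Type u) (_ : Field Ω) (_ : IsSepClosed Ω) (ξ : Spec (CommRingCat.of Ω) ⟶ T),
      ξ default = x a default ∧ IsIso ((EtCoh.stalk ξ).map u) := fun a => by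
    let ξ₀ := sepPoint (Spec (CommRingCat.of k)) default
    have hξ : (ξ₀ ≫ x a) default = x a default := by rw [Scheme.Hom.comp_apply, sepPoint_default]
    refine ⟨_, inferInstance, inferInstance, ξ₀ ≫ x a, hξ, ?_⟩
    haveI := S19255.isIso_stalk_biproduct_π P (ξ₀ ≫ x a) a fun b hb => by
      refine isZero_stalk_push_of_disjoint (x b) _ _
        ⟨{x b default}ᶜ, (hrange b ▸ (x b).isClosedEmbedding.isClosed_range).isOpen_compl⟩ ?_ ?_
      · rw [hξ]
        exact fun h => hb (hx h).symm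
      · exact disjoint_compl_left.mono_right (hrange b).le
    haveI : IsIso ((EtCoh.stalk (ξ₀ ≫ x a)).map u ≫ (EtCoh.stalk (ξ₀ ≫ x a)).map (biproduct.π P a)) := by
      rw [← Functor.map_comp, biproduct.lift_π]
      exact isIso_stalk_map_of_pull (x a) ξ₀ _
    exact IsIso.of_isIso_comp_right _ ((EtCoh.stalk (ξ₀ ≫ x a)).map (biproduct.π P a))
  -- the sum vanishes on the open
  have hZ : IsZero ((EtCoh.pull j).obj (⨁ P)) := by
    have hP : ∀ b, IsZero ((EtCoh.pull j).obj (P b)) := fun b => by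
      refine isZero_of_stalks fun y => IsZero.of_iso ?_ ((stalkPullIso j (sepPoint U y)).app _)
      refine isZero_stalk_push_of_disjoint (x b) _ _
        ⟨{x b default}ᶜ, (hrange b ▸ (x b).isClosedEmbedding.isClosed_range).isOpen_compl⟩ ?_ ?_
      · intro h
        have : j (sepPoint U y default) ∈ (Set.range fun a => x a default)ᶜ := hj ▸ ⟨_, rfl⟩
        exact this ⟨b, h.symm⟩
      · exact disjoint_compl_left.mono_right (hrange b).le
    have e : ∑ b, biproduct.π P b ≫ biproduct.ι P b = 𝟙 (⨁ P) := IsBilimit.total (biproduct.isBilimit _)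
    rw [IsZero.iff_id_eq_zero, ← (EtCoh.pull j).map_id, ← e, Functor.map_sum]
    exact Finset.sum_eq_zero fun b _ => by
      rw [Functor.map_comp, (hP b).eq_of_tgt ((EtCoh.pull j).map (biproduct.π P b)) 0, Limits.zero_comp]
  haveI : Epi u := by
    refine Preadditive.epi_of_isZero_cokernel _ (ClosedPointSupport.isZero_of_supp_empty
      (Set.eq_empty_iff_forall_notMem.2 fun y hy => ?_))
    by_cases hyj : y ∈ Set.range j
    · refine ClosedPointSupport.supp_subset_of_isZero_pull j ?_ hy hyj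
      exact IsZero.of_epi ((EtCoh.pull j).map (cokernel.π u)) hZ
    · rw [hj, Set.notMem_compl_iff] at hyj
      obtain ⟨a, rfl⟩ := hyj
      obtain ⟨Ω, _, _, ξ, hξ, _⟩ := hstalk a
      exact (mem_supp_iff _ ξ hξ).1 hy (IsZero.of_iso (isZero_cokernel_of_epi _) (PreservesCokernel.iso _ u))
  let S := ShortComplex.mk (kernel.ι u) u (kernel.condition u)
  have hS : S.ShortExact :=
    { exact := ShortComplex.exact_kernel u
      mono_f := inferInstanceAs (Mono (kernel.ι u))
      epi_g := ‹Epi u› }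
  -- the kernel is the extension by zero
  obtain ⟨eK⟩ : Nonempty (kernel u ≅ (EtShriek.extZero j).obj (EtCoh.mu U n)) := by
    have hu0 : (EtCoh.pull j).map u = 0 := hZ.eq_of_tgt _ _
    haveI : IsIso ((EtCoh.pull j).map (kernel.ι u)) := by
      rw [← kernelComparison_comp_ι u (EtCoh.pull j)]
      haveI : IsIso (kernel.ι ((EtCoh.pull j).map u)) := isIso_kernel_ι_of_eq_zero hu0
      infer_instance
    refine nonempty_iso_extZero j (EtCoh.mu U n) (kernel u) (((pullRestrIso j).app _).symm ≪≫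
      asIso ((EtCoh.pull j).map (kernel.ι u)) ≪≫ EtCore.pullConst j (ZMod n) ≪≫ iU.symm) fun y hy => ?_
    by_contra hne
    have hys : y ∈ EtPBC.supp (kernel u) := (mem_supp_iff _ (sepPoint T y) (sepPoint_default T y)).2 hne
    rw [hj, Set.notMem_compl_iff] at hy
    obtain ⟨a, rfl⟩ := hy
    obtain ⟨Ω, _, _, ξ, hξ, _⟩ := hstalk a
    exact (mem_supp_iff _ ξ hξ).1 hys (IsZero.of_iso (isZero_kernel_of_mono _) (PreservesKernel.iso _ u))
  -- vanishing
  have htor : EtCoh.IsTorsion F := by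
    intro V s y
    refine ⟨V, 𝟙 V, ⟨y, rfl⟩, isOfFinAddOrder_iff_nsmul_eq_zero.2 ⟨n, hn1, ?_⟩⟩
    rw [op_id, CategoryTheory.Functor.map_id]
    haveI : Mono (EtCoh.muι T n) := inferInstanceAs (Mono (kernel.ι _))
    have h0 : n • 𝟙 (EtCoh.mu T n) = 0 := by
      rw [← cancel_mono (EtCoh.muι T n), Preadditive.nsmul_comp, Category.id_comp, Limits.zero_comp]
      have := kernel.condition (EtCoh.powMap T n)
      rwa [EtCoh.powMap, Preadditive.comp_nsmul, Category.comp_id] at this
    have h0' : n • 𝟙 F = 0 := by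
      rw [← i.inv_hom_id, ← Category.id_comp i.hom, ← Preadditive.comp_nsmul, ← Preadditive.nsmul_comp, h0,
        Limits.zero_comp, Limits.comp_zero]
    show n • s = 0
    have e : ∀ m : ℕ, ((m • 𝟙 F).hom.app (op V)).hom s = m • s := fun m => by
      induction m with
      | zero => simp
      | succ m ih => rw [succ_nsmul, succ_nsmul, ← ih]; rfl
    rw [← e, h0']
    rfl
  have hF1 : Subsingleton (EtCoh.H T F 1) := CdDev9.subsingleton_H_of_iso i 1 h1
  have hF2 : ∀ s, 2 ≤ s → Subsingleton (EtCoh.H T F s) := fun s hs =>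
    CdAffine9.Devissage.cohDimLE_one g hdim.le F htor s hs
  have hP2 : ∀ s, 0 < s → Subsingleton (EtCoh.H T (⨁ P) s) := fun s hs =>
    subsingleton_H_biproduct P s fun a => (subsingleton_H_push_iff (x a) _ s).2
      (AlgClosedFunctionField.subsingleton_H k _ s hs)
  -- degree zero
  let A := EtCoh.const T ℤ ⟶ F
  have hb : ∀ a, Function.Bijective (fun f : A => f ≫ (EtCoh.pullPushAdj (x a)).unit.app F) := fun a =>
    bijective_comp_unit (x a) (ZMod n)
  let β : ∀ a, A ≃+ (EtCoh.const T ℤ ⟶ P a) := fun a => AddEquiv.ofBijective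
    (AddMonoidHom.mk' (fun f : A => f ≫ (EtCoh.pullPushAdj (x a)).unit.app F) fun f f' => Preadditive.add_comp _ _ _ _ _ _)
    (hb a)
  have hinj : ∀ f : A, f ≫ u = 0 → f = 0 := fun f hf => by
    refine (hb ⟨Fin.last m⟩).1 (Eq.trans ?_ Limits.zero_comp.symm)
    show f ≫ _ = 0
    have h := congrArg (· ≫ biproduct.π P ⟨Fin.last m⟩) hf
    simpa [u] using h
  refine ⟨fun s hs => CdDev9.subsingleton_H_of_iso eK s ?_, ?_⟩
  · rcases Nat.lt_or_ge s 2 with h | h
    · obtain rfl : s = 0 := by omega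
      refine GalEt.subsingleton_of_forall_eq_zero fun z => ?_
      obtain ⟨f, rfl⟩ := EtLimit.exists_eq_mk₀ z
      have : f ≫ kernel.ι u = 0 := hinj _ (by rw [Category.assoc, kernel.condition, Limits.comp_zero])
      rw [show f = 0 from (cancel_mono (kernel.ι u)).1 (this.trans Limits.zero_comp.symm), Ext.mk₀_zero]
    · obtain ⟨q, rfl⟩ : ∃ q, s = q + 1 := ⟨s - 1, by omega⟩
      exact subsingleton_left hS (hP2 q (by omega)) (hF2 _ h)
  -- degree one
  let E : EtCoh.H T (EtCoh.mu T n) 0 ≃+ Additive ↥(rootsOfUnity n k) :=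
    (CdAffine9.nonempty_H_zero_mu T g n hn1 hnk).some
  let eA : A ≃+ Additive ↥(rootsOfUnity n k) :=
    Ext.addEquiv₀.symm.trans (((EtCoh.HF T 0).mapIso i).symm.addCommGroupIsoToAddEquiv.trans E)
  let ext' : (Fin m → A) → ULift.{u} (Fin (m + 1)) → A := fun w a => Fin.snoc (α := fun _ => A) w 0 a.down
  let Θ : (Fin m → A) →+ (EtCoh.const T ℤ ⟶ ⨁ P) := AddMonoidHom.mk'
    (fun w => biproduct.lift fun a => β a (ext' w a)) fun w w' => biproduct.hom_ext _ _ fun a => by
      rw [Preadditive.add_comp, biproduct.lift_π, biproduct.lift_π, biproduct.lift_π, ← map_add]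
      congr 1
      obtain ⟨a⟩ := a
      induction a using Fin.lastCases with
      | last => simp [ext']
      | cast a => simp [ext']
  let Λ : (Fin m → A) →+ EtCoh.H T (kernel u) 1 :=
    AddMonoidHom.mk' (fun w => (Ext.mk₀ (Θ w)).comp hS.extClass (zero_add 1)) fun w w' => by
      rw [map_add, Ext.mk₀_add, Ext.add_comp]
  have hΛ : Function.Bijective Λ := by
    constructor
    · refine (injective_iff_map_eq_zero Λ).2 fun w hw => ?_
      obtain ⟨y, hy⟩ := Ext.covariant_sequence_exact₃ (EtCoh.const T ℤ) hS (Ext.mk₀ (Θ w)) rfl hw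
      obtain ⟨f, rfl⟩ := EtLimit.exists_eq_mk₀ y
      rw [Ext.mk₀_comp_mk₀] at hy
      have hf : f ≫ u = Θ w := (Ext.mk₀_bijective _ _).1 hy
      have key : ∀ a, f = ext' w a := fun a => (β a).injective (by
        show f ≫ _ = _
        have h := congrArg (· ≫ biproduct.π P a) hf
        simpa [u, Θ] using h)
      have h0 : f = 0 := (key ⟨Fin.last m⟩).trans (by simp [ext'])
      funext b
      have := key ⟨b.castSucc⟩
      simpa [ext', h0] using this.symm
    · intro z
      obtain ⟨y, rfl⟩ := Ext.covariant_sequence_exact₁ (EtCoh.const T ℤ) hS z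
        (@Subsingleton.elim _ hF1 _ _) (n₀ := 0) rfl
      obtain ⟨h, rfl⟩ := EtLimit.exists_eq_mk₀ y
      let v : ULift.{u} (Fin (m + 1)) → A := fun a => (β a).symm (h ≫ biproduct.π P a)
      let f0 := v ⟨Fin.last m⟩
      refine ⟨fun b => v ⟨b.castSucc⟩ - f0, ?_⟩
      have hv : h = Θ (fun b => v ⟨b.castSucc⟩ - f0) + f0 ≫ u := biproduct.hom_ext _ _ fun a => by
        rw [Preadditive.add_comp, Category.assoc]
        show _ = (biproduct.lift fun a => β a (ext' _ a)) ≫ _ + f0 ≫ biproduct.lift _ ≫ _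
        rw [biproduct.lift_π, biproduct.lift_π, show f0 ≫ (EtCoh.pullPushAdj (x a)).unit.app F = β a f0 from rfl,
          ← map_add]
        refine ((β a).apply_symm_apply _).symm.trans (congrArg (β a) ?_)
        show v a = _
        obtain ⟨a⟩ := a
        induction a using Fin.lastCases with
        | last => simp [ext', f0]
        | cast a => simp [ext', f0]
      show _ = (Ext.mk₀ h).comp hS.extClass _
      rw [hv, Ext.mk₀_add, Ext.add_comp, ← Ext.mk₀_comp_mk₀]
      show _ = _ + _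
      rw [Ext.comp_assoc_of_second_deg_zero]
      exact ((congrArg (fun t => _ + Ext.comp (Ext.mk₀ f0) t (rfl : 0 + 1 = 0 + 1)) hS.comp_extClass).trans
        (by rw [Ext.comp_zero, add_zero]; rfl)).symm
  exact ⟨((EtCoh.HF T 1).mapIso eK.symm).addCommGroupIsoToAddEquiv.trans ((AddEquiv.ofBijective Λ hΛ).symm.trans
    (AddEquiv.piCongrRight fun _ => eA))⟩

end Helpers

/-- Let k be an algebraically closed field, ℓ ≥ 1 an integer invertible in k, and a₁, …, a_r (r ≥ 1)
distinct elements of k, viewed as k-points of the affine line 𝔸¹_k = Spec k[x]. Let j : U → 𝔸¹_k be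
an open immersion whose image is the complement of these points (the basic open set of ∏ (x − a_i)),
and let j_! μ_ℓ be the extension by zero of the sheaf of ℓ-th roots of unity on the small étale
site. Then H^s(𝔸¹_k, j_! μ_ℓ) = 0 for s ≠ 1, and H¹(𝔸¹_k, j_! μ_ℓ) is isomorphic to μ_ℓ(k)^(r−1)
(existence of an isomorphism of abelian groups). -/
theorem result {k : Type u} [Field k] [IsAlgClosed k]
    (ℓ : ℕ) (hℓ : (ℓ : k) ≠ 0) (r : ℕ) (hr : 0 < r) (a : Fin r → k) (ha : Function.Injective a)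
    {U : Scheme.{u}} (j : U ⟶ Spec (CommRingCat.of k[X])) [IsOpenImmersion j] [Etale j] [EtShriek.JCont j]
    (hj : j.opensRange = (Spec (CommRingCat.of k[X])).basicOpen ((Scheme.ΓSpecIso (CommRingCat.of k[X])).inv
      (Finset.univ.prod fun i => (X - C (a i))))) :
    (∀ s : ℕ, s ≠ 1 → Subsingleton (EtCoh.H (Spec (CommRingCat.of k[X])) ((EtShriek.extZero j).obj (EtCoh.mu U ℓ)) s)) ∧
      Nonempty (EtCoh.H (Spec (CommRingCat.of k[X])) ((EtShriek.extZero j).obj (EtCoh.mu U ℓ)) 1 ≃+
        (Fin (r - 1) → Additive (rootsOfUnity ℓ k))) := by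
  classical
  obtain ⟨m, rfl⟩ : ∃ m, r = m + 1 := ⟨r - 1, by omega⟩
  rw [Nat.add_sub_cancel]
  let T := Spec (CommRingCat.of k[X])
  let g : T ⟶ Spec (CommRingCat.of k) := Spec.map (CommRingCat.ofHom (algebraMap k k[X]))
  haveI : LocallyOfFiniteType g := HasRingHomProperty.Spec_iff.2 (RingHom.finiteType_algebraMap.2 inferInstance)
  have hdim : topologicalKrullDim T = 1 := by
    show topologicalKrullDim (PrimeSpectrum k[X]) = 1
    rw [PrimeSpectrum.topologicalKrullDim_eq_ringKrullDim, Polynomial.ringKrullDim_of_isNoetherianRing,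
      ringKrullDim_eq_zero_of_field, zero_add]
  have hℓ1 : 1 ≤ ℓ := Nat.one_le_iff_ne_zero.2 fun h => hℓ (by rw [h, Nat.cast_zero])
  have h1 : Subsingleton (EtCoh.H T (EtCoh.mu T ℓ) 1) := by
    haveI : Subsingleton (EtCoh.H T (EtCoh.Gm T) 1) :=
      (Groth.Agent.S0236.result T).mpr (Groth.Agent.Et18.KummerH1.invertible_trivial k[X])
    let e : k[X] ≃+* Γ(T, ⊤) := (Scheme.ΓSpecIso (CommRingCat.of k[X])).commRingCatIsoToRingEquiv.symm
    refine subsingleton_H_one_mu T ℓ ?_ fun v => ?_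
    · have := ((isUnit_iff_ne_zero.2 hℓ).map (algebraMap k k[X])).map e.toRingHom
      rwa [map_natCast, map_natCast] at this
    · obtain ⟨c, hc, hcv⟩ := Polynomial.isUnit_iff.1 (v.isUnit.map e.symm.toRingHom)
      obtain ⟨d, hd⟩ := IsAlgClosed.exists_pow_nat_eq c hℓ1
      have hd0 : d ≠ 0 := fun h => hc.ne_zero (by rw [← hd, h, zero_pow (by omega)])
      refine ⟨Units.map (e.toRingHom.comp (algebraMap k k[X])).toMonoidHom (Units.mk0 d hd0), Units.ext ?_⟩
      show (v : Γ(T, ⊤)) = (e (algebraMap k k[X] d)) ^ ℓ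
      rw [← map_pow, ← map_pow, hd]
      exact ((congrArg e hcv).trans (e.apply_symm_apply _)).symm
  let x : ULift.{u} (Fin (m + 1)) → (Spec (CommRingCat.of k) ⟶ T) := fun b =>
    Spec.map (CommRingCat.ofHom (Polynomial.evalRingHom (a b.down)))
  have hsurj : ∀ b : ULift.{u} (Fin (m + 1)), Function.Surjective (Polynomial.evalRingHom (a b.down)) :=
    fun b c => ⟨Polynomial.C c, Polynomial.eval_C⟩
  haveI : ∀ b, IsClosedImmersion (x b) := fun b => IsClosedImmersion.spec_of_surjective _ (hsurj b)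
  have hpt : ∀ b, PrimeSpectrum.asIdeal (x b default) = RingHom.ker (Polynomial.evalRingHom (a b.down)) := fun b => by
    show Ideal.comap (Polynomial.evalRingHom (a b.down)) _ = Ideal.comap _ ⊥
    congr 1
  refine main T g hdim ℓ hℓ1 hℓ h1 m x (fun b b' h => ?_) j ?_
  · have h' : (Polynomial.X - Polynomial.C (a b.down)) ∈ RingHom.ker (Polynomial.evalRingHom (a b'.down)) := by
      rw [← hpt b', ← show x b default = x b' default from h, hpt b]
      simp [RingHom.mem_ker]
    simp [RingHom.mem_ker, sub_eq_zero] at h'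
    exact ULift.ext _ _ (ha h'.symm)
  · rw [← Scheme.Hom.coe_opensRange, hj, basicOpen_eq_of_affine]
    ext t
    rw [Set.mem_compl_iff]
    show (Finset.univ.prod fun i => (Polynomial.X - Polynomial.C (a i))) ∉ PrimeSpectrum.asIdeal t ↔ _
    refine not_congr ⟨fun h => ?_, ?_⟩
    · obtain ⟨i, -, hi⟩ := (PrimeSpectrum.isPrime t).prod_mem_iff.1 h
      refine ⟨⟨i⟩, PrimeSpectrum.ext ?_⟩
      rw [hpt ⟨i⟩]
      refine (RingHom.ker_isMaximal_of_surjective _ (hsurj ⟨i⟩)).eq_of_le (PrimeSpectrum.isPrime t).ne_top fun f hf => ?_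
      obtain ⟨q, rfl⟩ := Polynomial.dvd_iff_isRoot.2 (RingHom.mem_ker.1 hf)
      exact Ideal.mul_mem_right _ _ hi
    · rintro ⟨b, rfl⟩
      rw [hpt b, RingHom.mem_ker]
      show Polynomial.eval _ _ = 0
      rw [Polynomial.eval_prod]
      exact Finset.prod_eq_zero (Finset.mem_univ b.down) (by simp)

end Groth.Agent.S13800
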