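import Groth.Statements.S13801
import Mathlib.Data.Nat.Choose.Multinomial
import Mathlib.NumberTheory.Padics.PadicVal.Basic
import Mathlib.Tactic

set_option autoImplicit false
open ChowMon

namespace Groth.Agent.S13801

/-- For a prime p and positive natural numbers a_1, ..., a_k with sum n one has v_p(a_1!) + ... +
v_p(a_k!) ≤ v_p(n!), and the inequality is strict whenever some a_i is not divisible by p^(v_p(n)). -/
theorem result {k : ℕ} (p : ℕ) [Fact p.Prime]
    (a : Fin k → ℕ) (ha : ∀ i, 0 < a i) :
    (∑ i, padicValNat p (a i).factorial ≤ padicValNat p (∑ i, a i).factorial) ∧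
      ((∃ i, ¬ p ^ padicValNat p (∑ j, a j) ∣ a i) →
        ∑ i, padicValNat p (a i).factorial < padicValNat p (∑ i, a i).factorial) := by
  have hp : p.Prime := Fact.out
  have h0 : ∀ (b : Fin k → ℕ), ∑ i, padicValNat p (b i).factorial = padicValNat p (∏ i, (b i).factorial) := by
    intro b
    symm
    induction (Finset.univ : Finset (Fin k)) using Finset.induction with
    | empty => simp
    | insert i s hi ih =>
      rw [Finset.prod_insert hi, Finset.sum_insert hi, padicValNat.mul (Nat.factorial_ne_zero _)
        (Finset.prod_ne_zero_iff.2 fun j _ => Nat.factorial_ne_zero _), ih]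
  refine ⟨?_, fun ⟨i, hi⟩ => ?_⟩
  · rw [h0]
    exact (padicValNat_dvd_iff_le (Nat.factorial_ne_zero _)).1
      (pow_padicValNat_dvd.trans (Nat.prod_factorial_dvd_factorial_sum _ _))
  let b : Fin k → ℕ := Function.update a i (a i - 1)
  have hb : ∑ j, b j = ∑ j, a j - 1 := by
    rw [Finset.sum_update_of_mem (Finset.mem_univ i), ← Finset.add_sum_erase Finset.univ a (Finset.mem_univ i),
      Finset.sdiff_singleton_eq_erase]
    have := ha i
    omega
  have hn : 0 < ∑ j, a j := lt_of_lt_of_le (ha i) (Finset.single_le_sum (fun j _ => Nat.zero_le (a j)) (Finset.mem_univ i))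
  have hprod : (∏ j, (a j).factorial) = a i * ∏ j, (b j).factorial := by
    rw [← Finset.mul_prod_erase Finset.univ (fun j => (a j).factorial) (Finset.mem_univ i),
      ← Finset.mul_prod_erase Finset.univ (fun j => (b j).factorial) (Finset.mem_univ i), ← mul_assoc]
    congr 1
    · simp only [b, Function.update_self]
      exact (Nat.mul_factorial_pred (ha i).ne').symm
    · exact Finset.prod_congr rfl fun j hj => by simp only [b, Function.update_of_ne (Finset.ne_of_mem_erase hj)]
  have hfac : padicValNat p (∑ j, a j).factorial = padicValNat p (∑ j, a j) + padicValNat p (∑ j, a j - 1).factorial := by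
    rw [← padicValNat.mul hn.ne' (Nat.factorial_ne_zero _), Nat.mul_factorial_pred hn.ne']
  have hle : padicValNat p (∏ j, (b j).factorial) ≤ padicValNat p (∑ j, a j - 1).factorial := by
    rw [← hb]
    exact (padicValNat_dvd_iff_le (Nat.factorial_ne_zero _)).1
      (pow_padicValNat_dvd.trans (Nat.prod_factorial_dvd_factorial_sum _ _))
  have hlt : padicValNat p (a i) < padicValNat p (∑ j, a j) :=
    not_le.1 fun h => hi ((pow_dvd_pow p h).trans pow_padicValNat_dvd)
  rw [h0, hprod, padicValNat.mul (ha i).ne' (Finset.prod_ne_zero_iff.2 fun j _ => Nat.factorial_ne_zero _), hfac]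
  omega

end Groth.Agent.S13801
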