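import Groth.Statements.S13807
import Groth.Agent.EtaLib.Pow

set_option autoImplicit false
universe u
open EtaPt

namespace Groth.Agent.S13807

/-- For a field K the pointwise ring M_η(K) is all of N_η(K) = F(k((0))). Here η is a natural
transformation from the identity of the category of fields to an endofunctor F with F(η_K) bijective
and η_K purely inseparable for every field K, N_η(A) is the product of the F(k(p)) over the primes p
of A with diagonal map t_A, and M_η(A) ⊆ N_η(A) is the subring of elements sent into the range of
t_R by every ring map from A to a valuation ring R at whose fraction field η is bijective; q_A : A →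
M_η(A) is the corestriction of t_A. -/
theorem result (η : EtaPt.FieldEndo.{u}) (K : Type u) [Field K] : η.M K = ⊤ := by
    rw [eq_top_iff]
    rintro x -
    have hp : ∀ p : PrimeSpectrum K, p = ⟨⊥, Ideal.isPrime_bot⟩ := fun p => Subsingleton.elim _ _
    let P : PrimeSpectrum K := ⟨⊥, Ideal.isPrime_bot⟩
    obtain ⟨n, z, hz⟩ := η.exists_pow_mem_range_eta P.asIdeal.ResidueField (x P)
    obtain ⟨a, rfl⟩ : ∃ a, algebraMap K P.asIdeal.ResidueField a = z :=
      IsFractionRing.surjective_iff_isField.2 (Field.toIsField K) z
    have he : ringExpChar P.asIdeal.ResidueField = ringExpChar K :=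
      Groth.Agent.EtaLib.ringExpChar_eq (algebraMap K P.asIdeal.ResidueField)
    refine Groth.Agent.EtaLib.mem_M_of_pow η (a := a) (m := ringExpChar P.asIdeal.ResidueField ^ n) ?_ ?_ ?_
    · rw [he]
      exact pow_pos (expChar_pos K _) n
    · intro S _ ψ s t h
      rw [he] at h
      exact Groth.Agent.EtaLib.pow_expChar_inj ψ h
    · funext p
      obtain rfl : p = P := hp p
      exact hz.symm

end Groth.Agent.S13807
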