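import Groth.Statements.S13809
import Groth.Agent.EtaLib.Pow

set_option autoImplicit false
universe u
open EtaPt

namespace Groth.Agent.S13809

/-- For an integrally closed domain A such that η is bijective at the fraction field of A, the map q_A :
A → M_η(A) is bijective. Here η is a natural transformation from the identity of the category of
fields to an endofunctor F with F(η_K) bijective and η_K purely inseparable for every field K,
N_η(A) is the product of the F(k(p)) over the primes p of A with diagonal map t_A, and M_η(A) ⊆
N_η(A) is the subring of elements sent into the range of t_R by every ring map from A to a valuation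
ring R at whose fraction field η is bijective; q_A : A → M_η(A) is the corestriction of t_A. -/
theorem result (η : EtaPt.FieldEndo.{u}) (A : Type u) [CommRing A] [IsDomain A] [IsIntegrallyClosed A]
    (hA : η.InV A) : Function.Bijective (η.q A) := by
    refine ⟨fun a b h => Groth.Agent.EtaLib.t_injective η (congrArg Subtype.val h), fun ⟨x, hx⟩ => ?_⟩
    obtain ⟨y, hy⟩ := ((Groth.Agent.EtaLib.inV_iff η A (⊥ : Ideal A).ResidueField).1 hA).2 (x ⟨⊥, Ideal.isPrime_bot⟩)
    obtain ⟨P, hP, hev⟩ := Groth.Agent.EtaLib.isIntegralElem_proj η hx ⟨⊥, Ideal.isPrime_bot⟩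
    have hint : IsIntegral A y := by
      refine ⟨P, hP, (η.eta (⊥ : Ideal A).ResidueField).injective ?_⟩
      rw [Polynomial.hom_eval₂, hy, map_zero]
      exact hev
    obtain ⟨a, rfl⟩ := IsIntegrallyClosed.isIntegral_iff.1 hint
    refine ⟨a, Subtype.ext (Groth.Agent.EtaLib.M_ext η (η.t_mem_M A a) hx fun p hp => ?_)⟩
    rw [IsDomain.minimalPrimes_eq_singleton_bot A, Set.mem_singleton_iff] at hp
    obtain rfl : p = ⟨⊥, Ideal.isPrime_bot⟩ := PrimeSpectrum.ext hp
    exact hy

end Groth.Agent.S13809
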