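import Groth.Statements.S13810
import Groth.Agent.EtaLib.Lift
import Mathlib.RingTheory.Spectrum.Prime.Topology
import Mathlib.RingTheory.SurjectiveOnStalks

set_option autoImplicit false
universe u
open EtaPt

namespace Groth.Agent.S13810

/-- For commutative rings A and B, the pair of maps N_η of the two projections restricts to a bijection
from M_η(A × B) onto M_η(A) × M_η(B). Here η is a natural transformation from the identity of the
category of fields to an endofunctor F with F(η_K) bijective and η_K purely inseparable for every
field K, N_η(A) is the product of the F(k(p)) over the primes p of A with diagonal map t_A, and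
M_η(A) ⊆ N_η(A) is the subring of elements sent into the range of t_R by every ring map from A to a
valuation ring R at whose fraction field η is bijective; q_A : A → M_η(A) is the corestriction of
t_A. -/
theorem result (η : EtaPt.FieldEndo.{u}) (A B : Type u) [CommRing A] [CommRing B] :
    Set.BijOn (fun x : η.N (A × B) => (η.Nmap (RingHom.fst A B) x, η.Nmap (RingHom.snd A B) x))
      (η.M (A × B)) ((η.M A : Set (η.N A)) ×ˢ (η.M B : Set (η.N B))) := by
    classical
    set f1 := RingHom.fst A B
    set f2 := RingHom.snd A B
    have hb1 : ∀ q, Function.Bijective (η.map (Groth.Agent.EtaLib.res f1 q)) := fun q =>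
      Groth.Agent.EtaLib.map_bijective η
        ((RingHom.surjectiveOnStalks_of_surjective Prod.fst_surjective).residueFieldMap_bijective _ _ rfl)
    have hb2 : ∀ q, Function.Bijective (η.map (Groth.Agent.EtaLib.res f2 q)) := fun q =>
      Groth.Agent.EtaLib.map_bijective η
        ((RingHom.surjectiveOnStalks_of_surjective Prod.snd_surjective).residueFieldMap_bijective _ _ rfl)
    have hcover : ∀ p : PrimeSpectrum (A × B),
        (∃ q, PrimeSpectrum.comap f1 q = p) ∨ ∃ q, PrimeSpectrum.comap f2 q = p := fun p => by
      obtain ⟨x | x, rfl⟩ := (PrimeSpectrum.primeSpectrumProd A B).symm.surjective p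
      · exact .inl ⟨x, (PrimeSpectrum.primeSpectrumProd_symm_inl x).symm⟩
      · exact .inr ⟨x, (PrimeSpectrum.primeSpectrumProd_symm_inr x).symm⟩
    have hdisj : ∀ q q', PrimeSpectrum.comap f1 q ≠ PrimeSpectrum.comap f2 q' := fun q q' e => by
      rw [← PrimeSpectrum.primeSpectrumProd_symm_inl, ← PrimeSpectrum.primeSpectrumProd_symm_inr] at e
      exact Sum.inl_ne_inr ((PrimeSpectrum.primeSpectrumProd A B).symm.injective e)
    have hi1 := PrimeSpectrum.comap_injective_of_surjective f1 Prod.fst_surjective
    have hi2 := PrimeSpectrum.comap_injective_of_surjective f2 Prod.snd_surjective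
    refine ⟨fun x hx => ⟨Groth.Agent.EtaLib.mem_M_map η _ hx, Groth.Agent.EtaLib.mem_M_map η _ hx⟩, ?_, ?_⟩
    · intro x _ y _ h
      funext p
      rcases hcover p with ⟨q, rfl⟩ | ⟨q, rfl⟩
      · exact (hb1 q).1 (congrFun (congrArg Prod.fst h) q)
      · exact (hb2 q).1 (congrFun (congrArg Prod.snd h) q)
    · rintro ⟨a, b⟩ ⟨ha, hb⟩
      choose za hza using fun q => (hb1 q).2 (a q)
      choose zb hzb using fun q => (hb2 q).2 (b q)
      have key : ∀ p, ∃ v : η.obj (PrimeSpectrum.asIdeal p).ResidueField,
          (∀ q, (h : PrimeSpectrum.comap f1 q = p) → v = h ▸ za q) ∧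
          ∀ q, (h : PrimeSpectrum.comap f2 q = p) → v = h ▸ zb q := fun p => by
        rcases hcover p with ⟨q, rfl⟩ | ⟨q, rfl⟩
        · exact ⟨za q, fun q' h => by obtain rfl := hi1 h; rfl, fun q' h => (hdisj q q' h.symm).elim⟩
        · exact ⟨zb q, fun q' h => (hdisj q' q h).elim, fun q' h => by obtain rfl := hi2 h; rfl⟩
      choose x hxa hxb using key
      have ha' : η.Nmap f1 x = a := funext fun q => by
        rw [Groth.Agent.EtaLib.Nmap_apply, hxa _ q rfl]; exact hza q
      have hb' : η.Nmap f2 x = b := funext fun q => by
        rw [Groth.Agent.EtaLib.Nmap_apply, hxb _ q rfl]; exact hzb q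
      refine ⟨x, fun R _ _ _ hR g => ?_, Prod.ext ha' hb'⟩
      -- `g` factors through one of the projections
      have he : g (1, 0) + g (0, 1) = 1 := by rw [← map_add]; simp only [Prod.mk_add_mk, add_zero, zero_add]; exact map_one g
      have he2 : g (1, 0) * g (0, 1) = 0 := by rw [← map_mul]; simp only [Prod.mk_mul_mk, mul_zero, zero_mul]; exact map_zero g
      rcases mul_eq_zero.1 he2 with h0 | h0
      · rw [h0, zero_add] at he
        have hg : ∀ p : A × B, g p = g (0, p.2) := fun p => by
          have : g p * g (0, 1) = g (0, p.2) := by rw [← map_mul]; congr 1; ext <;> simp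
          rwa [he, mul_one] at this
        let g' : B →+* R :=
          { toFun := fun b => g (0, b)
            map_one' := he
            map_zero' := map_zero g
            map_mul' := fun u v => by rw [← map_mul]; congr 1; ext <;> simp
            map_add' := fun u v => by rw [← map_add]; congr 1; ext <;> simp }
        rw [show g = g'.comp f2 from RingHom.ext hg, Groth.Agent.EtaLib.Nmap_comp, hb']
        exact hb R hR g'
      · rw [h0, add_zero] at he
        have hg : ∀ p : A × B, g p = g (p.1, 0) := fun p => by
          have : g p * g (1, 0) = g (p.1, 0) := by rw [← map_mul]; congr 1; ext <;> simp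
          rwa [he, mul_one] at this
        let g' : A →+* R :=
          { toFun := fun a => g (a, 0)
            map_one' := he
            map_zero' := map_zero g
            map_mul' := fun u v => by rw [← map_mul]; congr 1; ext <;> simp
            map_add' := fun u v => by rw [← map_add]; congr 1; ext <;> simp }
        rw [show g = g'.comp f1 from RingHom.ext hg, Groth.Agent.EtaLib.Nmap_comp, ha']
        exact ha R hR g'

end Groth.Agent.S13810
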