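import Groth.Statements.S13820
import Groth.Agent.EtaLib.Lift

set_option autoImplicit false
universe u
open EtaPt

namespace Groth.Agent.S13820

/-- Let A have finitely many minimal prime ideals and let B be an A-algebra with Spec B → Spec A
surjective, C the integral closure of A in B; then the inclusion C ⊆ B carries (C/A)_η onto (B/A)_η.
Here η is a natural transformation from the identity of the category of fields to an endofunctor F
with F(η_K) bijective and η_K purely inseparable for every field K, N_η(A) is the product of the
F(k(p)) over the primes p of A with diagonal map t_A, and M_η(A) ⊆ N_η(A) is the subring of elements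
sent into the range of t_R by every ring map from A to a valuation ring R at whose fraction field η
is bijective; q_A : A → M_η(A) is the corestriction of t_A. For a ring map f : A → B, (B/A)_η ⊆ B
denotes the subring of elements b with t_B(b) in N_η(f)(M_η(A)) (the image in B of the fibre product
of M_η(A) and B over M_η(B)), and q_{B/A} : A → (B/A)_η the corestriction of f. -/
theorem result (η : EtaPt.FieldEndo.{u}) (A B : Type u) [CommRing A] [CommRing B] [Algebra A B]
    (hA : (minimalPrimes A).Finite) (hs : Function.Surjective (PrimeSpectrum.comap (algebraMap A B))) :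
    (η.rel (algebraMap A (integralClosure A B))).map (integralClosure A B).val.toRingHom =
      η.rel (algebraMap A B) := by
    set C := integralClosure A B
    have hv : C.val.toRingHom.comp (algebraMap A C) = algebraMap A B := rfl
    apply le_antisymm
    · rintro b ⟨c, ⟨x, hx, hxc⟩, rfl⟩
      refine ⟨x, hx, ?_⟩
      rw [← hv, Groth.Agent.EtaLib.Nmap_comp, hxc, Groth.Agent.EtaLib.Nmap_t]
    · intro b hb
      obtain ⟨x, hx, hxb⟩ := hb
      have hint : IsIntegral A b := by
        obtain ⟨P, hP, hev⟩ := Groth.Agent.EtaLib.qRel_isIntegral η hA (algebraMap A B) ⟨b, x, hx, hxb⟩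
        refine ⟨P, hP, ?_⟩
        have h1 := congrArg (η.rel (algebraMap A B)).subtype hev
        rw [Polynomial.hom_eval₂] at h1
        exact h1
      refine ⟨⟨b, hint⟩, ⟨x, hx, ?_⟩, rfl⟩
      refine Groth.Agent.EtaLib.M_ext η (Groth.Agent.EtaLib.mem_M_map η _ hx) (η.t_mem_M C _) fun P hP => ?_
      obtain ⟨Q, hQ, hQP⟩ := Ideal.exists_comap_eq_of_mem_minimalPrimes_of_injective
        (f := C.val.toRingHom) Subtype.val_injective P.asIdeal hP
      obtain rfl : P = PrimeSpectrum.comap C.val.toRingHom ⟨Q, hQ⟩ := PrimeSpectrum.ext hQP.symm
      refine (η.map (Ideal.ResidueField.map _ Q C.val.toRingHom rfl)).injective ?_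
      have h2 : η.Nmap C.val.toRingHom (η.Nmap (algebraMap A C) x) = η.Nmap C.val.toRingHom (η.t C ⟨b, hint⟩) := by
        rw [← Groth.Agent.EtaLib.Nmap_comp, hv, Groth.Agent.EtaLib.Nmap_t, hxb]
        rfl
      exact congrFun h2 ⟨Q, hQ⟩

end Groth.Agent.S13820
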