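import Groth.Statements.S13822
import Groth.Agent.EtaLib.Lift
import Mathlib.RingTheory.Flat.FaithfullyFlat.Algebra

set_option autoImplicit false
universe u
open scoped TensorProduct
open EtaPt

namespace Groth.Agent.S13822

/-- Let A → A' be faithfully flat with A and A' having finitely many minimal prime ideals, and B an
A-algebra with Spec B → Spec A surjective; if q_{(A' ⊗ B)/A'} is bijective then q_{B/A} is
bijective. Here η is a natural transformation from the identity of the category of fields to an
endofunctor F with F(η_K) bijective and η_K purely inseparable for every field K, N_η(A) is the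
product of the F(k(p)) over the primes p of A with diagonal map t_A, and M_η(A) ⊆ N_η(A) is the
subring of elements sent into the range of t_R by every ring map from A to a valuation ring R at
whose fraction field η is bijective; q_A : A → M_η(A) is the corestriction of t_A. For a ring map f
: A → B, (B/A)_η ⊆ B denotes the subring of elements b with t_B(b) in N_η(f)(M_η(A)) (the image in B
of the fibre product of M_η(A) and B over M_η(B)), and q_{B/A} : A → (B/A)_η the corestriction of f. -/
theorem result (η : EtaPt.FieldEndo.{u}) (A A' B : Type u) [CommRing A] [CommRing A'] [CommRing B]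
    [Algebra A A'] [Algebra A B] [Module.FaithfullyFlat A A']
    (hA : (minimalPrimes A).Finite) (hA' : (minimalPrimes A').Finite)
    (hs : Function.Surjective (PrimeSpectrum.comap (algebraMap A B)))
    (h : Function.Bijective (η.qRel (Algebra.TensorProduct.includeLeftRingHom : A' →+* A' ⊗[A] B))) :
    Function.Bijective (η.qRel (algebraMap A B)) := by
    rw [Groth.Agent.EtaLib.qRel_bijective_iff] at h ⊢
    have hcomm : (Algebra.TensorProduct.includeLeftRingHom : A' →+* A' ⊗[A] B).comp (algebraMap A A') =
        (Algebra.TensorProduct.includeRight : B →ₐ[A] A' ⊗[A] B).toRingHom.comp (algebraMap A B) := by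
      ext a
      simp
    refine ⟨(injective_iff_map_eq_zero _).2 fun a ha => ?_, ?_⟩
    · have h0 : algebraMap A A' a = 0 := h.1 (by
        rw [← RingHom.comp_apply, hcomm, RingHom.comp_apply, ha, map_zero, map_zero])
      exact FaithfulSMul.algebraMap_injective A A' (h0.trans (map_zero _).symm)
    · rintro b ⟨x, hx, hxb⟩
      obtain ⟨a', ha'⟩ := h.2 _ ⟨η.Nmap (algebraMap A A') x, Groth.Agent.EtaLib.mem_M_map η _ hx, by
        rw [← Groth.Agent.EtaLib.Nmap_comp, hcomm, Groth.Agent.EtaLib.Nmap_comp, hxb, Groth.Agent.EtaLib.Nmap_t]⟩
      have h1 : (Submodule.Quotient.mk b : B ⧸ LinearMap.range (Algebra.linearMap A B)) = 0 := by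
        apply Module.FaithfullyFlat.tensorProduct_mk_injective (A := A) (B := A') (B ⧸ LinearMap.range (Algebra.linearMap A B))
        have h2 := congrArg (LinearMap.lTensor A' (LinearMap.range (Algebra.linearMap A B)).mkQ) ha'
        have h3 : (Submodule.Quotient.mk (1 : B) : B ⧸ LinearMap.range (Algebra.linearMap A B)) = 0 :=
          (Submodule.Quotient.mk_eq_zero _).2 ⟨1, by simp⟩
        simpa [h3] using h2.symm
      obtain ⟨a, ha⟩ := (Submodule.Quotient.mk_eq_zero _).1 h1
      exact ⟨a, ha⟩

end Groth.Agent.S13822
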