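import Groth.Statements.S13823
import Groth.Agent.EtaLib.Lift
import Mathlib.RingTheory.Flat.FaithfullyFlat.Algebra
import Mathlib.RingTheory.Flat.TorsionFree

set_option autoImplicit false
universe u
open EtaPt

namespace Groth.Agent.S13823

/-- Let A → A' be faithfully flat with A and A' having finitely many minimal prime ideals, and let Ā, Ā'
be the integral closures of A, A' in their total rings of fractions; if q_{Ā'/A'} is bijective then
q_{Ā/A} is bijective. Here η is a natural transformation from the identity of the category of fields
to an endofunctor F with F(η_K) bijective and η_K purely inseparable for every field K, N_η(A) is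
the product of the F(k(p)) over the primes p of A with diagonal map t_A, and M_η(A) ⊆ N_η(A) is the
subring of elements sent into the range of t_R by every ring map from A to a valuation ring R at
whose fraction field η is bijective; q_A : A → M_η(A) is the corestriction of t_A. For a ring map f
: A → B, (B/A)_η ⊆ B denotes the subring of elements b with t_B(b) in N_η(f)(M_η(A)) (the image in B
of the fibre product of M_η(A) and B over M_η(B)), and q_{B/A} : A → (B/A)_η the corestriction of f. -/
theorem result (η : EtaPt.FieldEndo.{u}) (A A' : Type u) [CommRing A] [CommRing A'] [Algebra A A'] [Module.FaithfullyFlat A A']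
    (hA : (minimalPrimes A).Finite) (hA' : (minimalPrimes A').Finite)
    (h : Function.Bijective (η.qRel (algebraMap A' (integralClosure A' (FractionRing A'))))) :
    Function.Bijective (η.qRel (algebraMap A (integralClosure A (FractionRing A)))) := by
    rw [Groth.Agent.EtaLib.qRel_bijective_iff] at h ⊢
    set C := integralClosure A (FractionRing A)
    set C' := integralClosure A' (FractionRing A')
    have hnzd : ∀ s : A, s ∈ nonZeroDivisors A → algebraMap A A' s ∈ nonZeroDivisors A' := fun s hs => by
      rw [mem_nonZeroDivisors_iff_right]
      intro y hy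
      refine (Module.Flat.isSMulRegular_of_nonZeroDivisors (M := A') hs) ?_
      simp only [Algebra.smul_def, mul_zero]
      rw [mul_comm]; exact hy
    let G : FractionRing A →+* FractionRing A' :=
      IsLocalization.map (M := nonZeroDivisors A) (T := nonZeroDivisors A') (FractionRing A') (algebraMap A A') (fun s hs => hnzd s hs)
    have hG : ∀ a, G (algebraMap A (FractionRing A) a) = algebraMap A' (FractionRing A') (algebraMap A A' a) :=
      fun a => IsLocalization.map_eq _ a
    have hGC : ∀ c : C, G c ∈ C' := fun c => by
      obtain ⟨P, hP, hev⟩ := c.2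
      refine ⟨P.map (algebraMap A A'), hP.map _, ?_⟩
      rw [Polynomial.eval₂_map, show (algebraMap A' (FractionRing A')).comp (algebraMap A A') =
          G.comp (algebraMap A (FractionRing A)) from RingHom.ext fun a => (hG a).symm, ← Polynomial.hom_eval₂, hev, map_zero]
    let g : C →+* C' := (G.comp C.val.toRingHom).codRestrict C'.toSubring hGC
    have hcomm : (algebraMap A' C').comp (algebraMap A A') = g.comp (algebraMap A C) :=
      RingHom.ext fun a => Subtype.ext (hG a).symm
    refine ⟨fun a a' e => IsFractionRing.injective A (FractionRing A) (congrArg Subtype.val e), ?_⟩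
    rintro b ⟨x, hx, hxb⟩
    obtain ⟨a', ha'⟩ := h.2 (g b) ⟨η.Nmap (algebraMap A A') x, Groth.Agent.EtaLib.mem_M_map η _ hx, by
      rw [← Groth.Agent.EtaLib.Nmap_comp, hcomm, Groth.Agent.EtaLib.Nmap_comp, hxb, Groth.Agent.EtaLib.Nmap_t]⟩
    obtain ⟨⟨c, s⟩, hcs⟩ := IsLocalization.surj (nonZeroDivisors A) (b : FractionRing A)
    have h1 : algebraMap A A' c = algebraMap A A' s * a' := by
      refine IsFractionRing.injective A' (FractionRing A') ?_
      rw [map_mul, ← hG, ← hG, ← hcs, map_mul, mul_comm]
      exact congrArg (fun z => G (algebraMap A (FractionRing A) s) * z) (congrArg Subtype.val ha').symm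
    obtain ⟨a, ha⟩ : (s : A) ∣ c := by
      rw [← Ideal.mem_span_singleton, ← Ideal.comap_map_eq_self_of_faithfullyFlat (B := A') (Ideal.span {(s : A)}),
        Ideal.mem_comap, Ideal.map_span, Set.image_singleton, Ideal.mem_span_singleton]
      exact ⟨a', h1⟩
    refine ⟨a, Subtype.ext ?_⟩
    refine (IsLocalization.map_units (FractionRing A) s).mul_left_cancel ?_
    change _ * algebraMap A (FractionRing A) a = _ * (b : FractionRing A)
    rw [← map_mul, ← ha, ← hcs, mul_comm]

end Groth.Agent.S13823
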