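import Groth.Statements.S13827
import Groth.Agent.EtaLib.Lift
import Groth.Prelude.Def_EGA4b

set_option autoImplicit false
universe u
open EtaPt

namespace Groth.Agent.S13827

/-- For a normal ring A (every localization at a prime is an integrally closed domain) with finitely
many minimal prime ideals such that η is bijective at the residue field of every minimal prime, q_A
: A → M_η(A) is bijective. Here η is a natural transformation from the identity of the category of
fields to an endofunctor F with F(η_K) bijective and η_K purely inseparable for every field K,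
N_η(A) is the product of the F(k(p)) over the primes p of A with diagonal map t_A, and M_η(A) ⊆
N_η(A) is the subring of elements sent into the range of t_R by every ring map from A to a valuation
ring R at whose fraction field η is bijective; q_A : A → M_η(A) is the corestriction of t_A. -/
theorem result (η : EtaPt.FieldEndo.{u}) (A : Type u) [CommRing A] (hn : EGA4.IsNormalRing A)
    (hA : (minimalPrimes A).Finite)
    (hη : ∀ p : PrimeSpectrum A, p.asIdeal ∈ minimalPrimes A → Function.Bijective (η.eta p.asIdeal.ResidueField)) :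
    Function.Bijective (η.q A) := by
    haveI hred : IsReduced A := ⟨fun a ha => by
      have h1 : Module.annihilator A (Submodule.span A {a}) = ⊤ := by
        by_contra hne
        obtain ⟨m, hm, hle⟩ := Ideal.exists_le_maximal _ hne
        haveI := (hn m).1
        obtain ⟨⟨s, hs⟩, hsa⟩ := (IsLocalization.map_eq_zero_iff m.primeCompl (Localization.AtPrime m) a).1
          (ha.map (algebraMap A (Localization.AtPrime m))).eq_zero
        refine hs (hle (Submodule.mem_annihilator_span_singleton a s |>.2 ?_))
        rw [smul_eq_mul]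
        exact hsa
      have := (Submodule.mem_annihilator_span_singleton a (1 : A)).1 (by rw [show (A ∙ a).annihilator = ⊤ from h1]; exact Submodule.mem_top)
      simpa using this⟩
    refine ⟨fun a b h => Groth.Agent.EtaLib.t_injective η (congrArg Subtype.val h), fun ⟨x, hx⟩ => ?_⟩
    let I : Ideal A :=
      { carrier := {a | ∃ b, η.t A b = η.t A a * x}
        add_mem' := by
          rintro a a' ⟨b, hb⟩ ⟨b', hb'⟩
          exact ⟨b + b', by rw [map_add, map_add, add_mul, hb, hb']⟩
        zero_mem' := ⟨0, by simp⟩
        smul_mem' := by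
          rintro c a ⟨b, hb⟩
          exact ⟨c * b, by rw [smul_eq_mul, map_mul, map_mul, hb, mul_assoc]⟩ }
    suffices hI : I = ⊤ by
      obtain ⟨b, hb⟩ : (1 : A) ∈ I := hI ▸ Submodule.mem_top
      exact ⟨b, Subtype.ext (hb.trans (by rw [map_one, one_mul]))⟩
    by_contra hne
    obtain ⟨m, hm, hle⟩ := Ideal.exists_le_maximal _ hne
    haveI := (hn m).1
    haveI := (hn m).2
    -- the only minimal prime below `m`
    set p : PrimeSpectrum A := PrimeSpectrum.comap (algebraMap A (Localization.AtPrime m)) ⟨⊥, Ideal.isPrime_bot⟩ with hp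
    have hpa : ∀ {a : A}, a ∈ p.asIdeal ↔ algebraMap A (Localization.AtPrime m) a = 0 := Iff.rfl
    have hpP : ∀ P ∈ minimalPrimes A, P ≤ m → P = p.asIdeal := fun P hP hPm => by
      haveI := hP.isPrime
      have hle' : p.asIdeal ≤ P := fun a ha => by
        obtain ⟨⟨s, hs⟩, hsa⟩ := (IsLocalization.map_eq_zero_iff m.primeCompl (Localization.AtPrime m) a).1 (hpa.1 ha)
        exact (hP.isPrime.mem_or_mem (show s * a ∈ P by rw [hsa]; exact zero_mem _)).resolve_left fun h => hs (hPm h)
      exact (hP.2 ⟨p.2, bot_le⟩ hle').antisymm hle'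
    have hpm : p.asIdeal ∈ minimalPrimes A := by
      obtain ⟨P, hP, hPm⟩ := Ideal.exists_minimalPrimes_le (I := ⊥) (J := m) bot_le
      exact hpP P hP hPm ▸ hP
    obtain ⟨y, hy⟩ := (hη p hpm).2 (x p)
    obtain ⟨P, hP, hev⟩ := Groth.Agent.EtaLib.isIntegralElem_proj η hx p
    -- `k(p)` inside the fraction field of `A_m`
    let K := FractionRing (Localization.AtPrime m)
    let ψ : p.asIdeal.ResidueField →+* K := Ideal.ResidueField.lift _ ((algebraMap (Localization.AtPrime m) K).comp (algebraMap A (Localization.AtPrime m)))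
      (fun a ha => by rw [RingHom.mem_ker, RingHom.comp_apply, hpa.1 ha, map_zero])
      (fun a ha => isUnit_iff_ne_zero.2 fun h0 => ha (hpa.2 (IsFractionRing.injective (Localization.AtPrime m) K (h0.trans (map_zero _).symm))))
    have hψ : ∀ a, ψ (algebraMap A p.asIdeal.ResidueField a) = algebraMap (Localization.AtPrime m) K (algebraMap A _ a) :=
      fun a => Ideal.ResidueField.lift_algebraMap (I := p.asIdeal) _ _ _ a
    obtain ⟨z, hz⟩ := IsIntegrallyClosed.isIntegral_iff.1 (show IsIntegral (Localization.AtPrime m) (ψ y) from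
      ⟨P.map (algebraMap A _), hP.map _, by
        rw [Polynomial.eval₂_map, show (algebraMap (Localization.AtPrime m) K).comp (algebraMap A (Localization.AtPrime m)) =
          ψ.comp (algebraMap A p.asIdeal.ResidueField) from RingHom.ext fun a => (hψ a).symm, ← Polynomial.hom_eval₂]
        have h1 : Polynomial.eval₂ (algebraMap A p.asIdeal.ResidueField) y P = 0 :=
          (η.eta p.asIdeal.ResidueField).injective (by rw [Polynomial.hom_eval₂, hy, map_zero]; exact hev)
        rw [h1, map_zero]⟩)
    obtain ⟨⟨a, s⟩, hzs⟩ := IsLocalization.surj m.primeCompl z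
    have hys : y * algebraMap A p.asIdeal.ResidueField s = algebraMap A p.asIdeal.ResidueField a := ψ.injective (by
      rw [map_mul, hψ, hψ, ← hz, ← map_mul, hzs])
    -- kill the other minimal primes
    classical
    have hch : ∀ P ∈ hA.toFinset.erase p.asIdeal, ∃ c ∈ P, c ∉ m := fun P hP => by
      obtain ⟨hPp, hPmin⟩ := Finset.mem_erase.1 hP
      exact SetLike.not_le_iff_exists.1 fun h => hPp (hpP P (hA.mem_toFinset.1 hPmin) h)
    choose c hc hcm using hch
    let s1 : A := ∏ P ∈ (hA.toFinset.erase p.asIdeal).attach, c P.1 P.2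
    have hs1 : s1 ∉ m := fun h => by
      obtain ⟨P, -, hPm⟩ := Ideal.IsPrime.prod_mem_iff.1 h
      exact hcm _ _ hPm
    refine (hm.isPrime.mem_or_mem (hle (?_ : (s : A) * s1 ∈ I))).elim s.2 hs1
    refine ⟨a * s1, Groth.Agent.EtaLib.M_ext η (η.t_mem_M A _) (Subring.mul_mem _ (η.t_mem_M A _) hx) fun Q hQ => ?_⟩
    simp only [Pi.mul_apply, map_mul, Groth.Agent.EtaLib.t_apply]
    rcases eq_or_ne Q p with rfl | hQp
    · rw [← hy, ← hys, map_mul]
      ring
    · have h0 : algebraMap A Q.asIdeal.ResidueField s1 = 0 := by
        have hmem : Q.asIdeal ∈ hA.toFinset.erase p.asIdeal :=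
          Finset.mem_erase.2 ⟨fun h => hQp (PrimeSpectrum.ext h), hA.mem_toFinset.2 hQ⟩
        exact Ideal.algebraMap_residueField_eq_zero.2
          (Ideal.IsPrime.prod_mem_iff.2 ⟨⟨_, hmem⟩, Finset.mem_attach _ _, hc _ hmem⟩)
      rw [h0, map_zero, mul_zero, mul_zero, zero_mul]

end Groth.Agent.S13827
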