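import Groth.Statements.S13831
import Groth.Agent.ChowSym29.DegreeBound

set_option autoImplicit false
universe u
open AlgebraicGeometry
open ChowMon

namespace Groth.Agent.S13831

/-- For a finite universal homeomorphism p : T' → T of Noetherian schemes there is an integer d ≥ 1 such
that for every point t' of T' over t the residue field degree [k(t') : k(t)] is a power of the
exponential characteristic of k(t) dividing d. -/
theorem result {T' T : Scheme.{u}} (p : T' ⟶ T) [IsFinite p] (hp : FlatMor.IsUnivHomeo p)
    [IsNoetherian T] [IsNoetherian T'] [T.IsSeparated] [T'.IsSeparated] :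
    ∃ d : ℕ, 0 < d ∧ ∀ t' : T', ∃ e : ℕ,
      @Module.finrank (T.residueField (p t')) (T'.residueField t') _ _
          (p.residueFieldMap t').hom.toAlgebra.toModule =
        ringExpChar (T.residueField (p t')) ^ e ∧
      ringExpChar (T.residueField (p t')) ^ e ∣ d := by

  obtain ⟨N, hN⟩ := Groth.Agent.ChowSym29.exists_bound p
  haveI : UniversallyInjective p := ⟨CategoryTheory.MorphismProperty.universally_mono (fun _ _ _ h => h.injective) _ hp⟩
  refine ⟨N.factorial, N.factorial_pos, fun t' => ?_⟩
  obtain ⟨hfin, hle⟩ := hN t'
  letI : Algebra (T.residueField (p t')) (T'.residueField t') := (p.residueFieldMap t').hom.toAlgebra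
  haveI := hfin
  haveI : IsPurelyInseparable (T.residueField (p t')) (T'.residueField t') :=
    ((List.TFAE.out (tfae_universallyInjective p) 0 2 (a := _) (b := _) rfl rfl).mp inferInstance).2 t'
  haveI : ExpChar (T.residueField (p t')) (ringExpChar (T.residueField (p t'))) := ringExpChar.expChar _
  obtain ⟨e, he⟩ := IsPurelyInseparable.finrank_eq_pow (T.residueField (p t')) (T'.residueField t')
    (ringExpChar (T.residueField (p t')))
  refine ⟨e, he, Nat.dvd_factorial ?_ (he ▸ hle)⟩
  exact he ▸ Module.finrank_pos

end Groth.Agent.S13831
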