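import Groth.Prelude.Def_HTop2
import Groth.Prelude.Def_Flat
import Mathlib.AlgebraicGeometry.Morphisms.Finite
import Mathlib.AlgebraicGeometry.Morphisms.FiniteType
import Mathlib.AlgebraicGeometry.Noetherian
import Mathlib.AlgebraicGeometry.Morphisms.Separated
import Groth.Agent.HTop16.Factor
import Groth.Agent.HTop16.SN

set_option autoImplicit false
universe u
namespace AlgebraicGeometry
end AlgebraicGeometry
namespace CategoryTheory
end CategoryTheory
open AlgebraicGeometry CategoryTheory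
namespace HTop
end HTop
open HTop

namespace Groth.Agent.S13833

/-- Let S be a Noetherian scheme, X → S locally of finite type, T a Noetherian S-scheme and ν : T' → T a
seminormalization (all schemes separated). Then S-morphisms T' → X are the colimit of S-morphisms T₁
→ X over the finite universal homeomorphisms T₁ → T inducing isomorphisms on residue fields: every
S-morphism g : T' → X factors as T' → T₁ → X for such a T₁ → T, and two such factorizations through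
T₁ and T₂ become equal on some such T₃ → T dominating both. -/
theorem result {S X T T' : Scheme.{u}} [IsNoetherian S] [IsNoetherian T] [S.IsSeparated] [X.IsSeparated]
    [T.IsSeparated] [T'.IsSeparated] (fX : X ⟶ S) [LocallyOfFiniteType fX] (fT : T ⟶ S)
    (ν : T' ⟶ T) (hν : HTop.IsSeminormalization ν) :
    (∀ g : T' ⟶ X, g ≫ fX = ν ≫ fT →
      ∃ (T₁ : Scheme.{u}) (π : T₁ ⟶ T) (_ : IsFinite π) (_ : FlatMor.IsUnivHomeo π)
        (_ : HTop.ResidueFieldsIso π) (g₁ : T₁ ⟶ X) (h : T' ⟶ T₁),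
        h ≫ π = ν ∧ g₁ ≫ fX = π ≫ fT ∧ h ≫ g₁ = g) ∧
    (∀ (T₁ T₂ : Scheme.{u}) (π₁ : T₁ ⟶ T) (π₂ : T₂ ⟶ T) [IsFinite π₁] [IsFinite π₂],
      FlatMor.IsUnivHomeo π₁ → FlatMor.IsUnivHomeo π₂ →
      HTop.ResidueFieldsIso π₁ → HTop.ResidueFieldsIso π₂ →
      ∀ (g₁ : T₁ ⟶ X) (g₂ : T₂ ⟶ X) (h₁ : T' ⟶ T₁) (h₂ : T' ⟶ T₂),
        g₁ ≫ fX = π₁ ≫ fT → g₂ ≫ fX = π₂ ≫ fT → h₁ ≫ π₁ = ν → h₂ ≫ π₂ = ν → h₁ ≫ g₁ = h₂ ≫ g₂ →
        ∃ (T₃ : Scheme.{u}) (π₃ : T₃ ⟶ T) (_ : IsFinite π₃) (_ : FlatMor.IsUnivHomeo π₃)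
          (_ : HTop.ResidueFieldsIso π₃) (a₁ : T₃ ⟶ T₁) (a₂ : T₃ ⟶ T₂),
          a₁ ≫ π₁ = π₃ ∧ a₂ ≫ π₂ = π₃ ∧ a₁ ≫ g₁ = a₂ ≫ g₂) := by
  haveI : IsReduced T' := by
    let i := T'.nilradical.subschemeι
    haveI : IsReduced T'.nilradical.subscheme := by
      rw [← Scheme.IdealSheafData.vanishingIdeal_top]
      exact Props12.isReduced_subscheme_vanishingIdeal _
    haveI : Surjective i := by
      constructor
      intro x
      have hr : Set.range i = (T'.nilradical.support : Set T') := Scheme.IdealSheafData.range_subschemeι _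
      have : x ∈ (T'.nilradical.support : Set T') := by simp
      rw [← hr] at this
      exact this
    have hi : FlatMor.IsUnivHomeo i := UnivHomeo.isUnivHomeo_of_integral_univInjective_surjective _
    have hcomp : FlatMor.IsUnivHomeo (i ≫ ν) := (S0415.result (i ≫ ν)).2
      ⟨MorphismProperty.comp_mem @IsIntegralHom i ν inferInstance ((S0415.result ν).1 hν.1.1).1,
        MorphismProperty.comp_mem @UniversallyInjective i ν inferInstance ((S0415.result ν).1 hν.1.1).2.1,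
        MorphismProperty.comp_mem @Surjective i ν inferInstance ((S0415.result ν).1 hν.1.1).2.2⟩
    obtain ⟨h, hh, -⟩ := hν.2 _ _ hcomp
      (HTop16.res_comp (HTop16.res_of_surjectiveOnStalks i) hν.1.2)
    have hhi : h ≫ i = 𝟙 T' :=
      (hν.2 _ ν hν.1.1 hν.1.2).unique (by rw [Category.assoc, hh]) (Category.id_comp _)
    haveI : IsIso i := ⟨h, by rw [← cancel_mono i, Category.assoc, hhi, Category.comp_id,
      Category.id_comp], hhi⟩
    exact isReduced_of_isOpenImmersion (inv i)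
  refine ⟨fun g hg => ?_, fun T₁ T₂ π₁ π₂ _ _ _ _ _ _ g₁ g₂ h₁ h₂ _ _ e₁ e₂ eg => ?_⟩
  · obtain ⟨T₁, π, a, b, g₁, h, hh, hr⟩ := HTop16.exists_factor fX fT ν hν.1.1 g hg
    exact ⟨T₁, π, a, b, hr hν.1.2, g₁, h, hh⟩
  · obtain ⟨T₃, π₃, a, b, a₁, a₂, hh, hr⟩ :=
      HTop16.exists_common π₁ π₂ ν hν.1.1 g₁ g₂ h₁ h₂ e₁ e₂ eg
    exact ⟨T₃, π₃, a, b, hr hν.1.2, a₁, a₂, hh⟩

end Groth.Agent.S13833
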