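import Groth.Statements.S13835


set_option autoImplicit false
universe u
open AlgebraicGeometry CategoryTheory
open ChowMon

open CategoryTheory.Limits

namespace Groth.Agent.S13835

/-- Let p : T' → T be a universal homeomorphism of separated schemes with T reduced and f' : T' → Y a
morphism (Y separated); if T has an open cover by affine opens U_i such that each restriction of f'
to p⁻¹(U_i) factors through p⁻¹(U_i) → U_i, then f' factors through p. -/
theorem result {T' T Y : Scheme.{u}} (p : T' ⟶ T) (hp : FlatMor.IsUnivHomeo p) [IsReduced T]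
    [T.IsSeparated] [T'.IsSeparated] [Y.IsSeparated] (f' : T' ⟶ Y)
    {ι : Type u} (U : ι → T.affineOpens) (hU : ⨆ i, (U i : T.Opens) = ⊤)
    (hloc : ∀ i, ∃ fi : ((U i : T.Opens) : Scheme.{u}) ⟶ Y, (p ⁻¹ᵁ (U i : T.Opens)).ι ≫ f' = (p ∣_ (U i : T.Opens)) ≫ fi) :
    ∃ f : T ⟶ Y, p ≫ f = f' := by

  choose fi hfi using hloc
  let 𝒰 := T.openCoverOfIsOpenCover (fun i => (U i : T.Opens)) hU
  have key : ∀ i j, pullback.fst (𝒰.f i) (𝒰.f j) ≫ fi i = pullback.snd (𝒰.f i) (𝒰.f j) ≫ fi j := by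
    intro i j
    haveI : IsReduced (pullback (𝒰.f i) (𝒰.f j)) := isReduced_of_isOpenImmersion (pullback.fst (𝒰.f i) (𝒰.f j) ≫ 𝒰.f i)
    haveI : Surjective p := ⟨(CategoryTheory.MorphismProperty.universally_le _ _ hp : IsHomeomorph _).surjective⟩
    let c := pullback.fst (𝒰.f i) (𝒰.f j) ≫ 𝒰.f i
    let π : pullback p c ⟶ pullback (𝒰.f i) (𝒰.f j) := pullback.snd p c
    haveI : Surjective π := MorphismProperty.pullback_snd (P := @Surjective) _ _ inferInstance
    haveI : IsDominant π := inferInstance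
    refine ext_of_isDominant π ?_
    have hk : ∀ (k : ι) (r : pullback (𝒰.f i) (𝒰.f j) ⟶ ((U k : T.Opens) : Scheme.{u})), r ≫ 𝒰.f k = c →
        π ≫ r ≫ fi k = pullback.fst p c ≫ f' := by
      intro k r hr
      have hrange : Set.range (pullback.fst p c) ⊆ Set.range (p ⁻¹ᵁ (U k : T.Opens)).ι := by
        rintro _ ⟨z, rfl⟩
        rw [Scheme.Opens.range_ι]
        show p (pullback.fst p c z) ∈ (U k : T.Opens)
        have h : pullback.fst p c ≫ p = π ≫ r ≫ 𝒰.f k := pullback.condition.trans (congrArg (π ≫ ·) hr.symm)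
        exact (congrArg (· ∈ (U k : T.Opens)) (congrArg (fun m : pullback p c ⟶ T => m z) h)).mpr (r (π z)).2
      let l := IsOpenImmersion.lift (p ⁻¹ᵁ (U k : T.Opens)).ι (pullback.fst p c) hrange
      have hl : l ≫ (p ⁻¹ᵁ (U k : T.Opens)).ι = pullback.fst p c := IsOpenImmersion.lift_fac _ _ _
      have h2 : l ≫ (p ∣_ (U k : T.Opens)) = π ≫ r := by
        rw [← cancel_mono (U k : T.Opens).ι, Category.assoc, morphismRestrict_ι, reassoc_of% hl, Category.assoc]
        exact pullback.condition.trans (congrArg (π ≫ ·) hr.symm)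
      rw [← hl, Category.assoc, hfi k, ← Category.assoc, ← Category.assoc, h2]
    exact (hk i _ rfl).trans (hk j _ pullback.condition.symm).symm
  refine ⟨𝒰.glueMorphisms fi key, ?_⟩
  refine Scheme.Cover.hom_ext (T'.openCoverOfIsOpenCover (fun i => p ⁻¹ᵁ (U i : T.Opens)) (p.iSup_preimage_eq_top hU)) _ _ fun i => ?_
  show (p ⁻¹ᵁ (U i : T.Opens)).ι ≫ p ≫ _ = (p ⁻¹ᵁ (U i : T.Opens)).ι ≫ f'
  rw [← morphismRestrict_ι_assoc, hfi i]
  congr 1
  exact Scheme.Cover.ι_glueMorphisms 𝒰 fi key i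

end Groth.Agent.S13835
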