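import Groth.Prelude.Def_Flat
import Mathlib.RingTheory.Ideal.MinimalPrime.Basic
import Mathlib.RingTheory.TensorProduct.Basic
import Mathlib.RingTheory.Nilpotent.Defs
import Mathlib.RingTheory.IntegralClosure.Algebra.Defs
import Mathlib.Algebra.Algebra.Subalgebra.Basic
import Mathlib.AlgebraicGeometry.Scheme
import Groth.Agent.UnivHomeo.Scheme
import Groth.Agent.UnivHomeo.Ring
import Mathlib.RingTheory.TensorProduct.Maps
import Mathlib.RingTheory.Nilpotent.Lemmas

set_option autoImplicit false
universe u
namespace AlgebraicGeometry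
end AlgebraicGeometry
open AlgebraicGeometry
namespace TensorProduct
end TensorProduct
open scoped TensorProduct
namespace HTop
end HTop
open HTop

namespace Groth.Agent.S13837

/-- Let A ⊆ B be an integral ring extension where A and B have finitely many minimal prime ideals; then
the weak normalization of A in B is the equaliser of the two maps B ⇉ (B ⊗_A B)_red: the
A-subalgebra E of elements b with b ⊗ 1 − 1 ⊗ b nilpotent in B ⊗_A B has Spec E → Spec A a universal
homeomorphism, and every A-subalgebra C of B with Spec C → Spec A a universal homeomorphism is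
contained in E. -/
theorem result (A B : Type u) [CommRing A] [CommRing B] [Algebra A B] (hinj : Function.Injective (algebraMap A B))
    [Algebra.IsIntegral A B] (hA : (minimalPrimes A).Finite) (hB : (minimalPrimes B).Finite) :
    ∃ E : Subalgebra A B, (∀ b : B, b ∈ E ↔ IsNilpotent (b ⊗ₜ[A] (1 : B) - (1 : B) ⊗ₜ[A] b)) ∧
      FlatMor.IsUnivHomeo (Spec.map (CommRingCat.ofHom (algebraMap A E))) ∧
      ∀ C : Subalgebra A B, FlatMor.IsUnivHomeo (Spec.map (CommRingCat.ofHom (algebraMap A C))) → C ≤ E := by
  let D : B → B ⊗[A] B := fun b => b ⊗ₜ[A] (1 : B) - (1 : B) ⊗ₜ[A] b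
  have hrad : ∀ (b : B), IsNilpotent (D b) ↔ ∀ P : Ideal (B ⊗[A] B), P.IsPrime → D b ∈ P := by
    intro b
    rw [← mem_nilradical, nilradical_eq_sInf, Submodule.mem_sInf]
    rfl
  let E : Subalgebra A B :=
    { carrier := {b | IsNilpotent (D b)}
      mul_mem' := fun {x y} (hx : IsNilpotent _) (hy : IsNilpotent _) => by
        show IsNilpotent (D (x * y))
        rw [hrad] at hx hy ⊢
        intro P hP
        have : D (x * y) = D x * ((y : B) ⊗ₜ[A] (1 : B)) + ((1 : B) ⊗ₜ[A] x) * D y := by
          simp only [D, sub_mul, mul_sub, Algebra.TensorProduct.tmul_mul_tmul, mul_one, one_mul]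
          abel
        rw [this]
        exact P.add_mem (P.mul_mem_right _ (hx P hP)) (P.mul_mem_left _ (hy P hP))
      add_mem' := fun {x y} (hx : IsNilpotent _) (hy : IsNilpotent _) => by
        show IsNilpotent (D (x + y))
        rw [hrad] at hx hy ⊢
        intro P hP
        have : D (x + y) = D x + D y := by
          simp only [D, TensorProduct.add_tmul, TensorProduct.tmul_add]; abel
        rw [this]
        exact P.add_mem (hx P hP) (hy P hP)
      algebraMap_mem' := fun a => by
        show IsNilpotent (D (algebraMap A B a))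
        have : D (algebraMap A B a) = 0 := by
          simp [D, Algebra.algebraMap_eq_smul_one, TensorProduct.smul_tmul]
        rw [this]; exact IsNilpotent.zero }
  refine ⟨E, fun b => Iff.rfl, ?_, ?_⟩
  · have hE : Algebra.IsIntegral A E := ⟨fun e =>
      (isIntegral_algHom_iff E.val Subtype.val_injective).1 (Algebra.IsIntegral.isIntegral (e : B))⟩
    refine (UnivHomeo.isUnivHomeo_iff _).2 ⟨fun e => hE.isIntegral e, ?_, ?_⟩
    · intro K _ g₁ g₂ hg
      let L := AlgebraicClosure K
      let i : K →+* L := algebraMap K L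
      have hBE : (E.val.toRingHom).IsIntegral := fun b =>
        (Algebra.IsIntegral.isIntegral (R := A) b).map_of_comp_eq (algebraMap A E) (RingHom.id B) rfl
      have hker : ∀ g : E →+* L, RingHom.ker E.val.toRingHom ≤ RingHom.ker g := fun g x hx => by
        have : x = 0 := Subtype.val_injective hx
        simp [this]
      obtain ⟨G₁, hG₁⟩ := UnivHomeo.exists_extend E.val.toRingHom hBE (i.comp g₁) (hker _)
      obtain ⟨G₂, hG₂⟩ := UnivHomeo.exists_extend E.val.toRingHom hBE (i.comp g₂) (hker _)
      letI : Algebra A L := (G₁.comp (algebraMap A B)).toAlgebra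
      let H₁ : B →ₐ[A] L := { G₁ with commutes' := fun _ => rfl }
      have hcomm : ∀ a : A, G₂ (algebraMap A B a) = algebraMap A L a := fun a => by
        show G₂ (algebraMap A B a) = G₁ (algebraMap A B a)
        rw [show algebraMap A B a = E.val.toRingHom (algebraMap A E a) from rfl,
          ← RingHom.comp_apply G₂, hG₂, ← RingHom.comp_apply G₁, hG₁]
        exact congrArg i (RingHom.congr_fun hg a).symm
      let H₂ : B →ₐ[A] L := ⟨G₂, hcomm⟩
      refine RingHom.ext fun e => i.injective ?_
      have h0 := ((e.2 : IsNilpotent (D (e : B))).map (Algebra.TensorProduct.productMap H₁ H₂)).eq_zero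
      simp only [D, map_sub, Algebra.TensorProduct.productMap_apply_tmul, map_one, mul_one, one_mul,
        sub_eq_zero] at h0
      calc i (g₁ e) = G₁ e := (RingHom.congr_fun hG₁ e).symm
        _ = G₂ e := h0
        _ = _ := RingHom.congr_fun hG₂ e
    · intro a ha
      have : algebraMap A B a = 0 := congrArg Subtype.val (RingHom.mem_ker.1 ha)
      rw [show a = 0 from hinj (by rw [this, map_zero])]
      exact Submodule.zero_mem _
  · intro C hC c hc
    show IsNilpotent (D c)
    rw [hrad]
    intro P hP
    let i : (B ⊗[A] B) →+* FractionRing ((B ⊗[A] B) ⧸ P) :=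
      (algebraMap _ _).comp (Ideal.Quotient.mk P)
    let q₁ : C →+* FractionRing ((B ⊗[A] B) ⧸ P) :=
      i.comp ((Algebra.TensorProduct.includeLeft : B →ₐ[A] B ⊗[A] B).toRingHom.comp C.val.toRingHom)
    let q₂ : C →+* FractionRing ((B ⊗[A] B) ⧸ P) :=
      i.comp ((Algebra.TensorProduct.includeRight : B →ₐ[A] B ⊗[A] B).toRingHom.comp C.val.toRingHom)
    have h := (((UnivHomeo.isUnivHomeo_iff _).1 hC).2.1) _ q₁ q₂ (RingHom.ext fun a => by
      show i ((Algebra.TensorProduct.includeLeft : B →ₐ[A] B ⊗[A] B) (algebraMap A B a)) =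
        i ((Algebra.TensorProduct.includeRight : B →ₐ[A] B ⊗[A] B) (algebraMap A B a))
      rw [AlgHom.commutes, AlgHom.commutes])
    have h' : i (D c) = 0 := by
      simp only [D, map_sub, sub_eq_zero]
      exact RingHom.congr_fun h ⟨c, hc⟩
    rw [RingHom.comp_apply, map_eq_zero_iff _ (IsFractionRing.injective _ _),
      Ideal.Quotient.eq_zero_iff_mem] at h'
    exact h'

end Groth.Agent.S13837
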