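import Groth.Prelude.Def_Flat
import Groth.Prelude.Def_HTop2
import Mathlib.RingTheory.Ideal.MinimalPrime.Basic
import Mathlib.RingTheory.IntegralClosure.Algebra.Defs
import Mathlib.Algebra.Algebra.Subalgebra.Basic
import Mathlib.RingTheory.LocalRing.ResidueField.Ideal
import Mathlib.RingTheory.Spectrum.Prime.RingHom
import Mathlib.Algebra.CharP.Defs
import Groth.Agent.UnivHomeo.Scheme
import Groth.Agent.UnivHomeo.Ring
import Mathlib.RingTheory.LocalRing.ResidueField.Ideal
import Mathlib.FieldTheory.PurelyInseparable.Basic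

set_option autoImplicit false
universe u
namespace AlgebraicGeometry
end AlgebraicGeometry
open AlgebraicGeometry
namespace HTop
end HTop
open HTop

namespace Groth.Agent.S13838

/-- the residue field extension of a radicial integral map is purely inseparable -/
lemma pinsep {A C : Type u} [CommRing A] [CommRing C] (φ : A →+* C) (hint : φ.IsIntegral)
    (hrad : UnivHomeo.Rad φ) (P : Ideal A) [P.IsPrime] (Q : Ideal C) [Q.IsPrime]
    (h : P = Q.comap φ) (x : Q.ResidueField) :
    ∃ n : ℕ, x ^ ringExpChar P.ResidueField ^ n ∈ Set.range (Ideal.ResidueField.map P Q φ h) := by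
  letI : Algebra P.ResidueField Q.ResidueField := (Ideal.ResidueField.map P Q φ h).toAlgebra
  have hfrac : ∀ z : Q.ResidueField, ∃ a s : C, algebraMap C Q.ResidueField s ≠ 0 ∧
      z * algebraMap C Q.ResidueField s = algebraMap C Q.ResidueField a := by
    intro z
    obtain ⟨⟨a, s⟩, hz⟩ := IsLocalization.surj (nonZeroDivisors (C ⧸ Q)) z
    obtain ⟨a, rfl⟩ := Ideal.Quotient.mk_surjective a
    obtain ⟨s, hs⟩ := s
    obtain ⟨s, rfl⟩ := Ideal.Quotient.mk_surjective s
    refine ⟨a, s, fun h0 => nonZeroDivisors.ne_zero hs ?_, hz⟩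
    exact Ideal.Quotient.eq_zero_iff_mem.2 (Ideal.algebraMap_residueField_eq_zero.1 h0)
  have hi : ∀ c : C, IsIntegral P.ResidueField (algebraMap C Q.ResidueField c) := by
    intro c
    obtain ⟨F, hF, hFc⟩ := hint c
    refine ⟨F.map (algebraMap A P.ResidueField), hF.map _, ?_⟩
    rw [Polynomial.eval₂_map]
    have e : (algebraMap P.ResidueField Q.ResidueField).comp (algebraMap A P.ResidueField) =
        (algebraMap C Q.ResidueField).comp φ :=
      RingHom.ext fun a => Ideal.ResidueField.map_algebraMap P Q φ h a
    rw [e, ← Polynomial.hom_eval₂, hFc, map_zero]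
  haveI : Algebra.IsAlgebraic P.ResidueField Q.ResidueField := ⟨fun z => by
    obtain ⟨a, s, hs, hz⟩ := hfrac z
    have e : z = algebraMap C Q.ResidueField a * (algebraMap C Q.ResidueField s)⁻¹ := by
      rw [← hz, mul_assoc, mul_inv_cancel₀ hs, mul_one]
    rw [e]
    exact ((hi a).isAlgebraic).mul (hi s).isAlgebraic.inv⟩
  haveI : IsPurelyInseparable P.ResidueField Q.ResidueField := by
    rw [isPurelyInseparable_iff_subsingleton_emb, subsingleton_iff]
    intro σ₁ σ₂
    have hc := hrad _ (σ₁.toRingHom.comp (algebraMap C Q.ResidueField))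
      (σ₂.toRingHom.comp (algebraMap C Q.ResidueField)) (RingHom.ext fun a => by
        show σ₁ (algebraMap C Q.ResidueField (φ a)) = σ₂ (algebraMap C Q.ResidueField (φ a))
        rw [← Ideal.ResidueField.map_algebraMap P Q φ h]
        exact (σ₁.commutes _).trans (σ₂.commutes _).symm)
    refine AlgHom.ext fun z => ?_
    obtain ⟨a, s, hs, hz⟩ := hfrac z
    have ha := RingHom.congr_fun hc a
    have hs' := RingHom.congr_fun hc s
    simp only [RingHom.comp_apply, AlgHom.toRingHom_eq_coe, RingHom.coe_coe] at ha hs'
    rw [← hz, map_mul, map_mul, ← hs'] at ha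
    refine mul_right_cancel₀ ?_ ha
    simpa using hs
  exact IsPurelyInseparable.pow_mem P.ResidueField (ringExpChar P.ResidueField) x

/-- Let A ⊆ B be an integral ring extension where A and B have finitely many minimal prime ideals, such
that every prime p of A has a prime q of B above it for which k(p) is closed under extracting
p-power roots inside k(q) (the purely inseparable closure of k(p) in k(q) is k(p)); then the semi-
and weak normalizations of A in B coincide: every A-subalgebra C of B with Spec C → Spec A a
universal homeomorphism already induces isomorphisms on residue fields. -/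
theorem result (A B : Type u) [CommRing A] [CommRing B] [Algebra A B] (hinj : Function.Injective (algebraMap A B))
    [Algebra.IsIntegral A B] (hA : (minimalPrimes A).Finite) (hB : (minimalPrimes B).Finite)
    (hpi : ∀ p : PrimeSpectrum A, ∃ q : PrimeSpectrum B, ∃ hq : p.asIdeal = Ideal.comap (algebraMap A B) q.asIdeal,
      ∀ x : q.asIdeal.ResidueField,
        (∃ n : ℕ, x ^ ringExpChar p.asIdeal.ResidueField ^ n ∈
            Set.range (Ideal.ResidueField.map p.asIdeal q.asIdeal (algebraMap A B) hq)) →
        x ∈ Set.range (Ideal.ResidueField.map p.asIdeal q.asIdeal (algebraMap A B) hq)) :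
    ∀ C : Subalgebra A B, FlatMor.IsUnivHomeo (Spec.map (CommRingCat.ofHom (algebraMap A C))) →
      HTop.ResidueFieldsIso (Spec.map (CommRingCat.ofHom (algebraMap A C))) := by
  intro C hC
  obtain ⟨hint, hrad, -⟩ := (UnivHomeo.isUnivHomeo_iff _).1 hC
  have hbij := (show IsHomeomorph (Spec.map (CommRingCat.ofHom (algebraMap A C))) from
    CategoryTheory.MorphismProperty.universally_le _ _ hC).bijective
  have htriv : UnivHomeo.Triv (algebraMap A C) := by
    intro Q hQ c
    obtain ⟨q, hq, hx⟩ := hpi ⟨Q.comap (algebraMap A C), inferInstance⟩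
    have hQq : q.asIdeal.comap C.val.toRingHom = Q := by
      have := hbij.1 (a₁ := (⟨q.asIdeal.comap C.val.toRingHom, inferInstance⟩ :
        PrimeSpectrum C)) (a₂ := ⟨Q, hQ⟩) (PrimeSpectrum.ext (by
          show (q.asIdeal.comap C.val.toRingHom).comap (algebraMap A C) = Q.comap (algebraMap A C)
          rw [Ideal.comap_comap]; exact hq.symm))
      exact congrArg PrimeSpectrum.asIdeal this
    let P : Ideal A := Q.comap (algebraMap A C)
    let ι := Ideal.ResidueField.map Q q.asIdeal C.val.toRingHom hQq.symm
    have hι : ι.comp (Ideal.ResidueField.map P Q (algebraMap A C) rfl) =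
        Ideal.ResidueField.map P q.asIdeal (algebraMap A B) hq := by
      refine RingHom.ext fun z => ?_
      obtain ⟨⟨a, s⟩, hz⟩ := IsLocalization.surj (nonZeroDivisors (A ⧸ P)) z
      obtain ⟨a, rfl⟩ := Ideal.Quotient.mk_surjective a
      obtain ⟨s, hs⟩ := s
      obtain ⟨s, rfl⟩ := Ideal.Quotient.mk_surjective s
      have hs0 : algebraMap A P.ResidueField s ≠ 0 := fun h0 => nonZeroDivisors.ne_zero hs
        (Ideal.Quotient.eq_zero_iff_mem.2 (Ideal.algebraMap_residueField_eq_zero.1 h0))
      have key : ∀ r : A, ι (Ideal.ResidueField.map P Q (algebraMap A C) rfl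
          (algebraMap A P.ResidueField r)) = Ideal.ResidueField.map P q.asIdeal (algebraMap A B) hq
          (algebraMap A P.ResidueField r) := fun r => by
        simp only [ι, Ideal.ResidueField.map_algebraMap]; rfl
      refine mul_right_cancel₀ (b := Ideal.ResidueField.map P q.asIdeal (algebraMap A B) hq
        (algebraMap A P.ResidueField s)) (fun h0 => hs0 ((map_eq_zero _).1 h0)) ?_
      rw [RingHom.comp_apply]
      conv_lhs => rw [← key s, ← map_mul, ← map_mul]
      rw [← map_mul]
      change ι (Ideal.ResidueField.map P Q (algebraMap A C) rfl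
        (z * algebraMap (A ⧸ P) P.ResidueField (Ideal.Quotient.mk P s))) =
        Ideal.ResidueField.map P q.asIdeal (algebraMap A B) hq
        (z * algebraMap (A ⧸ P) P.ResidueField (Ideal.Quotient.mk P s))
      rw [hz]
      exact key a
    obtain ⟨n, y, hy⟩ := pinsep (algebraMap A C) hint hrad P Q rfl (algebraMap C Q.ResidueField c)
    obtain ⟨z, hz⟩ := hx (ι (algebraMap C Q.ResidueField c)) ⟨n, y, by
      rw [← map_pow, ← hy]; exact (RingHom.congr_fun hι y).symm⟩
    have hzc : Ideal.ResidueField.map P Q (algebraMap A C) rfl z = algebraMap C Q.ResidueField c :=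
      ι.injective ((RingHom.congr_fun hι z).trans hz)
    obtain ⟨⟨a, s⟩, hw⟩ := IsLocalization.surj (nonZeroDivisors (A ⧸ P)) z
    obtain ⟨a, rfl⟩ := Ideal.Quotient.mk_surjective a
    obtain ⟨s, hs⟩ := s
    obtain ⟨s, rfl⟩ := Ideal.Quotient.mk_surjective s
    refine ⟨a, s, fun hsQ => nonZeroDivisors.ne_zero hs (Ideal.Quotient.eq_zero_iff_mem.2 hsQ), ?_⟩
    refine Ideal.algebraMap_residueField_eq_zero.1 ?_
    have h := congrArg (Ideal.ResidueField.map P Q (algebraMap A C) rfl) hw
    rw [map_mul, hzc] at h
    change algebraMap C Q.ResidueField c *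
      Ideal.ResidueField.map P Q (algebraMap A C) rfl (algebraMap A P.ResidueField s) =
      Ideal.ResidueField.map P Q (algebraMap A C) rfl (algebraMap A P.ResidueField a) at h
    rw [Ideal.ResidueField.map_algebraMap, Ideal.ResidueField.map_algebraMap] at h
    rw [map_sub, map_mul, sub_eq_zero, mul_comm]
    exact h
  intro y
  rw [CategoryTheory.ConcreteCategory.isIso_iff_bijective]
  exact ⟨RingHom.injective _, (UnivHomeo.residueFieldMap_surjective_iff _).2 htriv y⟩

end Groth.Agent.S13838
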