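import Groth.Statements.S13841
import Groth.Agent.CSA.PeriodPrimes
import Groth.Agent.CSA.IndexRank

set_option autoImplicit false
universe u v
open scoped TensorProduct
open Brauer

namespace Groth.Agent.S13841

/-- Let k be a field and A a finite-dimensional central simple k-algebra of period n. Then A has index n
if and only if there is a finite field extension k' of k of degree coprime to n such that the index
of the k'-algebra k' ⊗_k A divides n. (The published statement is for a class of period n in H²(X,
G_m) on a scheme X over k; this row is the case where X is the spectrum of k.) -/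
theorem result (k : Type u) [Field k] (A : Type v) [Ring A] [Algebra k A]
    [Algebra.IsCentral k A] [IsSimpleRing A] [FiniteDimensional k A] (n : ℕ) (hper : CSAGal.IsPeriod k A n) :
    CSAGal.IsIndex k A n ↔
      ∃ (k' : Type u) (_ : Field k') (_ : Algebra k k') (_ : FiniteDimensional k k'),
        Nat.Coprime n (Module.finrank k k') ∧ ∃ d' : ℕ, CSAGal.IsIndex k' (k' ⊗[k] A) d' ∧ d' ∣ n := by
  open Groth.Agent.CSA in
    haveI : IsCSA k A := {}
    constructor
    · intro h
      refine ⟨k, inferInstance, inferInstance, inferInstance, by simp, n, ?_, dvd_rfl⟩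
      exact isIndex_congr (BrEq.one_tensor (k := k) A).symm h
    · rintro ⟨k', _, _, _, hcop, d', hd', hdvd⟩
      obtain ⟨d, hd⟩ := exists_isIndex (k := k) A
      have hn : BrEq k (TPow k A n) k := (isPeriod_trivial_iff_dvd hper n).2 dvd_rfl
      have h1 : d ∣ n :=
        dvd_trans ((coprime_index hd hn hcop).dvd_of_dvd_mul_left (isIndex_dvd_baseChange_mul hd k' hd')) hdvd
      exact Nat.dvd_antisymm h1 (isPeriod_dvd_index hper hd) ▸ hd
end Groth.Agent.S13841
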