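import Groth.Statements.S9800
import Groth.Agent.CAlgH3.Serre
import Mathlib.AlgebraicGeometry.Properties
import Mathlib.Topology.KrullDimension

set_option autoImplicit false
universe u
open CategoryTheory AlgebraicGeometry TopologicalSpace
open Props

namespace Groth.Agent.S9800

/-- A locally Noetherian normal scheme of dimension at most one is regular, that is, all of its local
rings are regular local rings. -/
theorem result (X : Scheme.{u})
    [IsLocallyNoetherian X] (hN : Pi1.IsNormalScheme X) (hd : topologicalKrullDim X ≤ 1) (x : X) :
    IsRegularLocalRing (X.presheaf.stalk x) := by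
  have := (hN x).1
  have := (hN x).2
  have hd' : topologicalKrullDim (PrimeSpectrum (X.presheaf.stalk x)) ≤ 1 :=
    (X.fromSpecStalk x).isEmbedding.isInducing.topologicalKrullDim_le.trans hd
  rw [PrimeSpectrum.topologicalKrullDim_eq_ringKrullDim] at hd'
  exact Groth.Agent.CAlgH3.isRegularLocalRing_of_normal_dim_le_one hd'

end Groth.Agent.S9800
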