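import Groth.Statements.S13844
import Groth.Agent.NodeLib7.ClosedSub
import Groth.Agent.S9800
-- import your own Groth.Agent.* helpers here

set_option autoImplicit false
universe u
open CategoryTheory CategoryTheory.Limits AlgebraicGeometry
attribute [local instance] Curv2.resAlgebra
open Curves

set_option backward.isDefEq.respectTransparency.types false
open Groth.Agent
attribute [local instance] Curv2.stalkAlgebra
namespace Groth.Agent.S13844

/-- Let K be a field and C a normal curve over K, namely an integral normal separated K-scheme of finite
type of dimension one, and let S be a set of closed points of C whose residue fields are separable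
over K. If the structure morphism of C is smooth at every point outside S, then it is smooth. (The
published statement takes S to be a closed subscheme finite étale over K, that is finitely many such
points; this row allows any set of closed points with separable residue fields.) -/
theorem result (K : Type u) [Field K] (C : Scheme.{u}) [C.Over (Spec (CommRingCat.of K))]
    [IsIntegral C] [IsSeparated (C ↘ (Spec (CommRingCat.of K)))] [LocallyOfFinitePresentation (C ↘ (Spec (CommRingCat.of K)))]
    [QuasiCompact (C ↘ (Spec (CommRingCat.of K)))] (hN : ∀ x : C, IsIntegrallyClosed (C.presheaf.stalk x))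
    (hdim : topologicalKrullDim C = 1) (S : Set C)
    (hS : ∀ x ∈ S, IsClosed ({x} : Set C) ∧ Algebra.IsSeparable K (C.residueField x))
    (hsm : ∀ x : C, x ∉ S → x ∈ (C ↘ (Spec (CommRingCat.of K))).smoothLocus) :
    AlgebraicGeometry.Smooth (C ↘ (Spec (CommRingCat.of K))) := by
  haveI : IsLocallyNoetherian C := LocallyOfFiniteType.isLocallyNoetherian (C ↘ (Spec (CommRingCat.of K)))
  rw [← Scheme.Hom.smoothLocus_eq_top_iff]
  refine top_unique fun x _ => ?_
  by_cases hxS : x ∈ S
  · obtain ⟨-, hsep⟩ := hS x hxS
    rw [Scheme.Hom.mem_smoothLocus]
    haveI : IsRegularLocalRing (C.presheaf.stalk x) :=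
      Groth.Agent.S9800.result C (fun y => ⟨inferInstance, hN y⟩) hdim.le x
    haveI : Algebra.EssFiniteType K (C.presheaf.stalk x) := by
      obtain ⟨_, ⟨V, hV, rfl⟩, hxV, -⟩ :=
        C.isBasis_affineOpens.exists_subset_of_mem_open (Set.mem_univ x) isOpen_univ
      have h3 := (Synt15.stalk_algebra_data (C ↘ Spec (CommRingCat.of K)) hV hxV).1
      have e : (C ↘ Spec (CommRingCat.of K)).appLE ⊤ ⊤ le_top = (C ↘ Spec (CommRingCat.of K)).appTop :=
        (C ↘ Spec (CommRingCat.of K)).appLE_eq_app (U := ⊤)
      exact Eq.mp (by rw [e]; rfl) h3
    haveI : Algebra.IsSeparable K (IsLocalRing.ResidueField (C.presheaf.stalk x)) :=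
      AlgEquiv.Algebra.isSeparable (AlgEquiv.ofRingEquiv (f := RingEquiv.refl (C.residueField x)) fun _ => rfl :
        (C.residueField x) ≃ₐ[K] IsLocalRing.ResidueField (C.presheaf.stalk x))
    haveI : Algebra.EssFiniteType K (IsLocalRing.ResidueField (C.presheaf.stalk x)) :=
      Algebra.EssFiniteType.comp K (C.presheaf.stalk x) _
    haveI : Algebra.FormallyEtale K (IsLocalRing.ResidueField (C.presheaf.stalk x)) :=
      Algebra.FormallyEtale.of_isSeparable _ _
    haveI := NodeLib7.formallySmooth_of_regular_of_residueField K (C.presheaf.stalk x)
    exact NodeLib7.formallySmooth_stalkMap K x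
  · exact hsm x hxS

end Groth.Agent.S13844
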