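import Groth.Statements.S13846
import Mathlib.LinearAlgebra.GeneralLinearGroup.AlgEquiv
import Mathlib.LinearAlgebra.Dual.Lemmas
import Mathlib.Algebra.DirectSum.Module
-- import your own Groth.Agent.* helpers here

set_option autoImplicit false
universe u v
open TwSh

namespace Groth.Agent.S13846

/-- Let k be a field and V, W finite-dimensional ℤ-graded k-vector spaces, V = ⊕ V_i with V ≠ 0 and W =
⊕ W_i. Let φ : End_k(V) ≃ End_k(W) be a k-algebra isomorphism which sends every endomorphism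
homogeneous of degree d (one mapping V_i into V_{i+d} for all i) to an endomorphism homogeneous of
degree d. Then there are an integer n and a k-linear isomorphism g : V ≅ W with g(V_i) = W_{i+n} for
every i such that φ(f) = g ∘ f ∘ g⁻¹ for all f; moreover n is unique and g is unique up to a nonzero
scalar: if g' : V ≅ W satisfies g'(V_i) = W_{i+n'} for all i and φ(f) = g' ∘ f ∘ g'⁻¹ for all f,
then n' = n and g' = c·g for some c ∈ kˣ. (The published statement is about non-zero perfect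
complexes over k: an isomorphism of their derived endomorphism algebras, as algebra objects of the
derived category, is induced by an isomorphism from the first complex to a shift of the second, for
a unique shift and up to a unit; this row is its form for finite-dimensional ℤ-graded vector spaces,
to which the bounded derived category of a field is equivalent by taking cohomology.) -/
theorem result (k : Type u) [Field k] (V W : Type v) [AddCommGroup V] [Module k V] [FiniteDimensional k V] [Nontrivial V] [AddCommGroup W] [Module k W] [FiniteDimensional k W] (𝒱 : ℤ → Submodule k V) (h𝒱 : DirectSum.IsInternal 𝒱) (𝒲 : ℤ → Submodule k W) (h𝒲 : DirectSum.IsInternal 𝒲) (φ : Module.End k V ≃ₐ[k] Module.End k W) (hφ : ∀ (d : ℤ) (f : Module.End k V), (∀ (i : ℤ) (x : V), x ∈ 𝒱 i → f x ∈ 𝒱 (i + d)) → ∀ (i : ℤ) (y : W), y ∈ 𝒲 i → φ f y ∈ 𝒲 (i + d)) : ∃ (n : ℤ) (g : V ≃ₗ[k] W), (∀ i : ℤ, Submodule.map (g : V →ₗ[k] W) (𝒱 i) = 𝒲 (i +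 n)) ∧ (∀ f : Module.End k V, φ f = (g : V →ₗ[k] W) ∘ₗ f ∘ₗ (g.symm : W →ₗ[k] V)) ∧ ∀ (n' : ℤ) (g' : V ≃ₗ[k] W), (∀ i : ℤ, Submodule.map (g' : V →ₗ[k] W) (𝒱 i) = 𝒲 (i + n')) → (∀ f : Module.End k V, φ f = (g' : V →ₗ[k] W) ∘ₗ f ∘ₗ (g'.symm : W →ₗ[k] V)) → n' = n ∧ ∃ c : kˣ, ∀ x : V, g' x = c • g x := by
  classical
  obtain ⟨g, hg⟩ := φ.eq_linearEquivConjAlgEquiv
  have hg' : ∀ f : Module.End k V, φ f = (g : V →ₗ[k] W) ∘ₗ f ∘ₗ (g.symm : W →ₗ[k] V) := fun f => by
    rw [hg]; rfl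
  -- a non-zero homogeneous vector and its coordinate functional
  obtain ⟨i₀, v₀, hv₀, hv₀0⟩ : ∃ (i : ℤ) (v : V), v ∈ 𝒱 i ∧ v ≠ 0 := by
    by_contra! h
    have : (⊤ : Submodule k V) = ⊥ := by
      rw [← h𝒱.submodule_iSup_eq_top]
      exact iSup_eq_bot.2 fun i => (Submodule.eq_bot_iff _).2 (h i)
    exact top_ne_bot this
  have hdis := h𝒱.submodule_iSupIndep i₀
  have hnot : v₀ ∉ ⨆ (j) (_ : j ≠ i₀), 𝒱 j := fun h =>
    hv₀0 (Submodule.disjoint_def.1 hdis v₀ hv₀ h)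
  obtain ⟨ℓ, hℓ1, hℓ0⟩ := Submodule.exists_dual_map_eq_bot_of_notMem hnot inferInstance
  have hℓ : ∀ (j : ℤ) (x : V), x ∈ 𝒱 j → j ≠ i₀ → ℓ x = 0 := fun j x hx hj => by
    have hx' : ℓ x ∈ Submodule.map ℓ (⨆ (j) (_ : j ≠ i₀), 𝒱 j) :=
      Submodule.mem_map_of_mem (Submodule.mem_iSup_of_mem j (Submodule.mem_iSup_of_mem hj hx))
    rw [hℓ0] at hx'
    exact (Submodule.mem_bot k).1 hx'
  have hℓne : ℓ ∘ₗ (g.symm : W →ₗ[k] V) ≠ 0 := fun h => hℓ1 (by simpa using LinearMap.congr_fun h (g v₀))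
  obtain ⟨j₀, w, hw, hwℓ⟩ : ∃ (j : ℤ) (w : W), w ∈ 𝒲 j ∧ ℓ (g.symm w) ≠ 0 := by
    by_contra! h
    apply hℓne
    rw [← LinearMap.ker_eq_top, eq_top_iff, ← h𝒲.submodule_iSup_eq_top]
    exact iSup_le fun j x hx => h j x hx
  have hmaps : ∀ (i : ℤ) (v : V), v ∈ 𝒱 i → g v ∈ 𝒲 (i + (j₀ - i₀)) := by
    intro i v hv
    have hdeg : ∀ (a : ℤ) (x : V), x ∈ 𝒱 a → LinearMap.smulRight ℓ v x ∈ 𝒱 (a + (i - i₀)) := by
      intro a x hx
      rw [LinearMap.smulRight_apply]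
      by_cases ha : a = i₀
      · subst ha
        rw [add_sub_cancel]
        exact Submodule.smul_mem _ _ hv
      · rw [hℓ a x hx ha, zero_smul]
        exact Submodule.zero_mem _
    have h1 := hφ (i - i₀) _ hdeg j₀ w hw
    rw [hg'] at h1
    simp only [LinearMap.comp_apply, LinearEquiv.coe_coe, LinearMap.smulRight_apply, map_smul] at h1
    rw [show j₀ + (i - i₀) = i + (j₀ - i₀) by ring] at h1
    exact (Submodule.smul_mem_iff _ hwℓ).1 h1
  have heq : ∀ i : ℤ, Submodule.map (g : V →ₗ[k] W) (𝒱 i) = 𝒲 (i + (j₀ - i₀)) := by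
    intro i
    refine le_antisymm (Submodule.map_le_iff_le_comap.2 fun v hv => hmaps i v hv) fun y hy => ?_
    have hy' : y ∈ Submodule.map (g : V →ₗ[k] W) (𝒱 i) ⊔
        Submodule.map (g : V →ₗ[k] W) (⨆ (a) (_ : a ≠ i), 𝒱 a) := by
      rw [← Submodule.map_sup, ← iSup_split_single 𝒱 i, h𝒱.submodule_iSup_eq_top]
      exact ⟨g.symm y, trivial, by simp⟩
    obtain ⟨a, ha, r, hr, rfl⟩ := Submodule.mem_sup.1 hy'
    have ha' : a ∈ 𝒲 (i + (j₀ - i₀)) := by
      obtain ⟨v, hv, rfl⟩ := ha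
      exact hmaps i v hv
    have hr' : r ∈ ⨆ (b) (_ : b ≠ i + (j₀ - i₀)), 𝒲 b := by
      refine (?_ : Submodule.map (g : V →ₗ[k] W) (⨆ (a) (_ : a ≠ i), 𝒱 a) ≤ _) hr
      simp only [Submodule.map_iSup]
      refine iSup₂_le fun b hb => ?_
      exact le_trans (Submodule.map_le_iff_le_comap.2 fun v hv => hmaps b v hv)
        (le_iSup₂_of_le (b + (j₀ - i₀)) (by omega) le_rfl)
    have hr0 : r = 0 := Submodule.disjoint_def.1 (h𝒲.submodule_iSupIndep _) r
      (by simpa using Submodule.sub_mem _ hy ha') hr'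
    rw [hr0, add_zero]
    exact ha
  refine ⟨j₀ - i₀, g, heq, hg', fun n' g' hn' hg'' => ?_⟩
  let T : V →ₗ[k] V := (g.symm : W →ₗ[k] V) ∘ₗ (g' : V →ₗ[k] W)
  have hcomm : ∀ (f : Module.End k V) (x : V), T (f x) = f (T x) := by
    intro f x
    have h := LinearMap.congr_fun ((hg' f).symm.trans (hg'' f)) (g' x)
    simp only [LinearMap.comp_apply, LinearEquiv.coe_coe, LinearEquiv.symm_apply_apply] at h
    simp only [T, LinearMap.comp_apply, LinearEquiv.coe_coe]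
    rw [← h, LinearEquiv.symm_apply_apply]
  have hT : ∀ x : V, T x = ((ℓ v₀)⁻¹ * ℓ (T v₀)) • x := by
    intro x
    have h := hcomm (LinearMap.smulRight ℓ x) v₀
    simp only [LinearMap.smulRight_apply, map_smul] at h
    rw [mul_smul, ← h, inv_smul_smul₀ hℓ1]
  set c : k := (ℓ v₀)⁻¹ * ℓ (T v₀) with hc
  have hg'g : ∀ x : V, g' x = c • g x := fun x => by
    have h := congrArg g (hT x)
    simpa [T, map_smul] using h
  have hc0 : c ≠ 0 := fun h => hv₀0 (g'.injective (by rw [hg'g, h, zero_smul, map_zero]))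
  refine ⟨?_, Units.mk0 c hc0, fun x => hg'g x⟩
  by_contra hne
  refine hv₀0 (g'.injective ?_)
  rw [map_zero]
  have h1 : g' v₀ ∈ 𝒲 (i₀ + n') := hn' i₀ ▸ Submodule.mem_map_of_mem hv₀
  have h2 : g' v₀ ∈ 𝒲 (i₀ + (j₀ - i₀)) := by
    rw [hg'g]
    exact Submodule.smul_mem _ c (hmaps i₀ v₀ hv₀)
  exact Submodule.disjoint_def.1 (h𝒲.submodule_iSupIndep (i₀ + n')) _ h1
    (Submodule.mem_iSup_of_mem (i₀ + (j₀ - i₀)) (Submodule.mem_iSup_of_mem (by omega) h2))

end Groth.Agent.S13846
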