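import Groth.Statements.S13847
import Mathlib
-- import your own Groth.Agent.* helpers here

set_option autoImplicit false
universe u v
open TwSh

namespace Groth.Agent.S13847

section Helpers

variable {A : Type u} [Ring A]

/-- The reduction of a module modulo the Jacobson radical. -/
abbrev Bar (M : Type v) [AddCommGroup M] [Module A M] : Type v :=
  M ⧸ (Ring.jacobson A • ⊤ : Submodule A M)

variable {M N L : Type v} [AddCommGroup M] [Module A M] [AddCommGroup N] [Module A N]
  [AddCommGroup L] [Module A L]

lemma smul_top_le_comap (f : M →ₗ[A] N) :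
    (Ring.jacobson A • ⊤ : Submodule A M) ≤ Submodule.comap f (Ring.jacobson A • ⊤) := by
  rw [← Submodule.map_le_iff_le_comap, Submodule.map_smul'']
  exact smul_mono_right _ le_top

/-- The map induced modulo the Jacobson radical. -/
def bar (f : M →ₗ[A] N) : Bar (A := A) M →ₗ[A] Bar (A := A) N :=
  Submodule.mapQ _ _ f (smul_top_le_comap f)

@[simp] lemma bar_mk (f : M →ₗ[A] N) (x : M) :
    bar f (Submodule.Quotient.mk x) = Submodule.Quotient.mk (f x) := rfl

lemma exists_bar_eq [Module.Projective A M] (h : Bar (A := A) M →ₗ[A] Bar (A := A) N) :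
    ∃ f : M →ₗ[A] N, bar f = h := by
  obtain ⟨f, hf⟩ := Module.projective_lifting_property
    (Ring.jacobson A • ⊤ : Submodule A N).mkQ (h ∘ₗ (Ring.jacobson A • ⊤ : Submodule A M).mkQ)
    (Submodule.mkQ_surjective _)
  exact ⟨f, Submodule.linearMap_qext _ (LinearMap.ext fun x => LinearMap.congr_fun hf x)⟩

lemma surjective_of_bar [Module.Finite A N] (f : M →ₗ[A] N) (h : Function.Surjective (bar f)) :
    Function.Surjective f := by
  set Q := N ⧸ LinearMap.range f
  have hQ : (⊤ : Submodule A Q) ≤ Ring.jacobson A • (⊤ : Submodule A Q) := by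
    intro x _
    obtain ⟨y, rfl⟩ := Submodule.mkQ_surjective (LinearMap.range f) x
    obtain ⟨z, hz⟩ := h (Submodule.Quotient.mk y)
    obtain ⟨a, rfl⟩ := Submodule.Quotient.mk_surjective _ z
    rw [bar_mk, Submodule.Quotient.eq] at hz
    have hmap : (LinearMap.range f).mkQ (f a - y) ∈ Ring.jacobson A • (⊤ : Submodule A Q) :=
      smul_top_le_comap (LinearMap.range f).mkQ hz
    have h0 : (LinearMap.range f).mkQ (f a) = 0 :=
      (Submodule.Quotient.mk_eq_zero _).2 ⟨a, rfl⟩
    rw [map_sub, h0, zero_sub, Submodule.neg_mem_iff] at hmap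
    exact hmap
  have hbot := Submodule.FG.eq_bot_of_le_jacobson_smul Module.Finite.fg_top hQ
  rw [← LinearMap.range_eq_top, eq_top_iff]
  intro y _
  have hy : (LinearMap.range f).mkQ y ∈ (⊥ : Submodule A Q) := hbot ▸ trivial
  exact (Submodule.Quotient.mk_eq_zero _).1 ((Submodule.mem_bot A).1 hy)

lemma bar_comp (g : N →ₗ[A] L) (f : M →ₗ[A] N) : bar (g ∘ₗ f) = bar g ∘ₗ bar f :=
  Submodule.linearMap_qext _ (LinearMap.ext fun _ => rfl)

lemma bijective_of_bar [Module.Projective A N] [Module.Finite A M] [Module.Finite A N]
    (f : M →ₗ[A] N) (h : Function.Bijective (bar f)) : Function.Bijective f := by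
  have hf := surjective_of_bar f h.2
  obtain ⟨s, hs⟩ := Module.projective_lifting_property f LinearMap.id hf
  have hbs : ∀ y, bar f (bar s y) = y := fun y => by
    obtain ⟨x, rfl⟩ := Submodule.Quotient.mk_surjective _ y
    rw [bar_mk, bar_mk]
    exact congrArg _ (LinearMap.congr_fun hs x)
  have hssurj : Function.Surjective (bar s) := fun z => ⟨bar f z, h.1 (hbs _)⟩
  refine ⟨fun a b hab => ?_, hf⟩
  obtain ⟨a', rfl⟩ := surjective_of_bar s hssurj a
  obtain ⟨b', rfl⟩ := surjective_of_bar s hssurj b
  have ha := LinearMap.congr_fun hs a'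
  have hb := LinearMap.congr_fun hs b'
  simp only [LinearMap.comp_apply, LinearMap.id_apply] at ha hb
  rw [ha, hb] at hab
  rw [hab]

lemma bar_eq_zero_iff [IsSemisimpleModule A (Bar (A := A) M)] [Module.Projective A M]
    [Module.Finite A M] (f : Module.End A M) :
    bar f = 0 ↔ ∀ g : Module.End A M, IsUnit (g * f + 1) := by
  have hbar1 : ∀ g : Module.End A M, ∀ z, bar (g * f + 1) z = bar g (bar f z) + z := fun g z => by
    obtain ⟨x, rfl⟩ := Submodule.Quotient.mk_surjective _ z
    simp
  constructor
  · intro h g
    rw [Module.End.isUnit_iff]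
    refine bijective_of_bar _ ?_
    have : ⇑(bar (g * f + 1)) = id := funext fun z => by rw [hbar1, h]; simp
    rw [this]
    exact Function.bijective_id
  · intro h
    obtain ⟨C, hC⟩ := exists_isCompl (LinearMap.ker (bar f))
    have hinj : Function.Injective (bar f ∘ₗ C.subtype) := by
      rw [← LinearMap.ker_eq_bot, eq_bot_iff]
      intro c hc
      rw [Submodule.mem_bot]
      exact Subtype.ext (Submodule.disjoint_def.1 hC.disjoint (c : Bar (A := A) M) hc c.2)
    obtain ⟨p, hp⟩ := IsSemisimpleModule.extension_property _ hinj C.subtype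
    obtain ⟨g, hg⟩ := exists_bar_eq (-p)
    have hu := (Module.End.isUnit_iff _).1 (h g)
    have hbu : Function.Injective (bar (g * f + 1)) := by
      obtain ⟨⟨u, v, huv, hvu⟩, hu'⟩ := h g
      intro a b hab
      have hinv : ∀ z, bar v (bar u z) = z := fun z => by
        obtain ⟨x, rfl⟩ := Submodule.Quotient.mk_surjective _ z
        rw [bar_mk, bar_mk]
        exact congrArg _ (LinearMap.congr_fun hvu x)
      have hu'' : u = g * f + 1 := hu'
      rw [← hu''] at hab
      rw [← hinv a, ← hinv b, hab]
    have hCbot : C = ⊥ := by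
      rw [eq_bot_iff]
      intro c hc
      rw [Submodule.mem_bot]
      refine hbu ?_
      have hpc : p (bar f c) = c := LinearMap.congr_fun hp ⟨c, hc⟩
      rw [hbar1, hg, LinearMap.neg_apply, hpc, neg_add_cancel, map_zero]
    have := hC.codisjoint
    rw [hCbot, codisjoint_bot, LinearMap.ker_eq_top] at this
    exact this


lemma le_length_of_orthogonal {W : Type v} [AddCommGroup W] [Module A W] {n : ℕ}
    (q : Fin n → Module.End A W) (hq : ∀ i j, q i * q j = if i = j then q i else 0)
    (hne : ∀ i, q i ≠ 0) : (n : ℕ∞) ≤ Module.length A W := by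
  classical
  let Ψ : W →ₗ[A] ((i : Fin n) → LinearMap.range (q i)) := LinearMap.pi fun i => (q i).rangeRestrict
  have hΨ : Function.Surjective Ψ := by
    intro y
    choose x hx using fun i => LinearMap.mem_range.1 (y i).2
    refine ⟨∑ j, q j (x j), funext fun i => Subtype.ext ?_⟩
    have : ∀ j, q i (q j (x j)) = if i = j then (y i : W) else 0 := fun j => by
      have hmul := LinearMap.congr_fun (hq i j) (x j)
      simp only [Module.End.mul_apply] at hmul
      rw [hmul]
      split_ifs with hij
      · subst hij; exact hx i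
      · rfl
    simp [Ψ, this]
  refine le_trans ?_ (Module.length_le_of_surjective Ψ hΨ)
  rw [Module.length_pi_of_fintype]
  calc (n : ℕ∞) = ∑ _i : Fin n, (1 : ℕ∞) := by simp
    _ ≤ _ := Finset.sum_le_sum fun i _ => by
        haveI : Nontrivial (LinearMap.range (q i)) := by
          rw [Submodule.nontrivial_iff_ne_bot, Ne, LinearMap.range_eq_bot]
          exact hne i
        exact Order.one_le_iff_pos.2 Module.length_pos

lemma le_of_ringEquiv {S : Type v} [AddCommGroup S] [Module A S] [IsSimpleModule A S]
    [Module.Projective A M] [Module.Finite A M] [Module.Projective A N] [Module.Finite A N]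
    [IsSemisimpleModule A (Bar (A := A) M)] [IsSemisimpleModule A (Bar (A := A) N)]
    (e : Module.End A M ≃+* Module.End A N) {m n : ℕ}
    (eM : Bar (A := A) M ≃ₗ[A] (Fin m → S)) (eN : Bar (A := A) N ≃ₗ[A] (Fin n → S)) : m ≤ n := by
  classical
  let p : Fin m → Module.End A (Bar (A := A) M) := fun i =>
    eM.symm.toLinearMap ∘ₗ LinearMap.single A (fun _ : Fin m => S) i ∘ₗ LinearMap.proj i ∘ₗ eM.toLinearMap
  have hp : ∀ i j, p i * p j = if i = j then p i else 0 := by
    intro i j
    refine LinearMap.ext fun z => ?_
    split_ifs with hij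
    · subst hij; simp [p]
    · simp [p, Pi.single_eq_of_ne hij]
  have hp0 : ∀ i, p i ≠ 0 := by
    intro i h
    haveI := IsSimpleModule.nontrivial A S
    obtain ⟨s, hs⟩ := exists_ne (0 : S)
    apply hs
    have := congrArg eM (LinearMap.congr_fun h (eM.symm (Pi.single i s)))
    simpa [p] using congrFun this i
  choose f hf using fun i => exists_bar_eq (p i)
  have key : ∀ u : Module.End A M, bar u = 0 → bar (e u) = 0 := by
    intro u hu
    rw [bar_eq_zero_iff] at hu ⊢
    intro g
    obtain ⟨g', rfl⟩ := e.surjective g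
    rw [← map_mul, ← map_one e, ← map_add]
    exact (hu g').map e
  have key' : ∀ u : Module.End A M, bar (e u) = 0 → bar u = 0 := by
    intro u hu
    rw [bar_eq_zero_iff] at hu ⊢
    intro g
    have := hu (e g)
    rw [← map_mul, ← map_one e, ← map_add] at this
    simpa using this.map e.symm
  have hsub : ∀ u v : N →ₗ[A] N, bar (u - v) = bar u - bar v := fun u v =>
    Submodule.linearMap_qext _ (LinearMap.ext fun _ => rfl)
  have hsubM : ∀ u v : M →ₗ[A] M, bar (u - v) = bar u - bar v := fun u v =>
    Submodule.linearMap_qext _ (LinearMap.ext fun _ => rfl)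
  have h0 : bar (0 : Module.End A M) = 0 := Submodule.linearMap_qext _ (LinearMap.ext fun _ => rfl)
  have h0' : bar (0 : Module.End A N) = 0 := Submodule.linearMap_qext _ (LinearMap.ext fun _ => rfl)
  have hn : (m : ℕ∞) ≤ Module.length A (Bar (A := A) N) := by
    refine le_length_of_orthogonal (fun i => bar (e (f i))) (fun i j => ?_) fun i hi => ?_
    · have h1 : bar (f i * f j - if i = j then f i else 0) = 0 := by
        have hmul : bar (f i * f j) = p i * p j := by
          rw [show f i * f j = f i ∘ₗ f j from rfl, bar_comp, hf, hf]; rfl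
        rw [hsubM, hmul, hp]
        split_ifs with hij
        · rw [hf, sub_self]
        · rw [h0, sub_self]
      have h2 := key _ h1
      rw [map_sub, map_mul, hsub, sub_eq_zero] at h2
      rw [show bar (e (f i)) * bar (e (f j)) = bar (e (f i)) ∘ₗ bar (e (f j)) from rfl, ← bar_comp]
      refine h2.trans ?_
      split_ifs with hij
      · rfl
      · rw [map_zero, h0']
    · exact hp0 i ((hf i).symm.trans (key' _ hi))
  rw [eN.length_eq, Module.length_pi_of_fintype] at hn
  simp [Module.length_eq_one] at hn
  exact hn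

end Helpers

/-- Let A be a ring which is strongly local, that is, the quotient of A by its Jacobson radical J is a
simple left-Artinian ring, and let P and Q be finitely generated projective left A-modules. If
End_A(P) and End_A(Q) are isomorphic as rings, then P ≅ Q as A-modules. (The published assertion
says more, that every ring isomorphism End_A(P) ≅ End_A(Q) is induced by an isomorphism P ≅ Q; that
is not correct for isomorphisms which are not linear over the centre — complex conjugation is a ring
automorphism of End_ℂ(ℂ) = ℂ induced by no ℂ-linear map — and this row keeps the existence of an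
isomorphism P ≅ Q, which is what the first part of the printed proof establishes.) -/
theorem result (A : Type u) [Ring A] [IsSimpleRing (A ⧸ Ring.jacobson A)] [IsArtinianRing (A ⧸ Ring.jacobson A)] (P Q : Type v) [AddCommGroup P] [Module A P] [Module.Finite A P] [Module.Projective A P] [AddCommGroup Q] [Module A Q] [Module.Finite A Q] [Module.Projective A Q] (e : Module.End A P ≃+* Module.End A Q) : Nonempty (P ≃ₗ[A] Q) := by
  let J := Ring.jacobson A
  let B := A ⧸ J
  haveI : IsSemisimpleRing B := inferInstance
  have hss : ∀ (M : Type v) [AddCommGroup M] [Module A M], IsSemisimpleModule A (Bar (A := A) M) := by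
    intro M _ _
    let l : Bar (A := A) M →ₛₗ[Ideal.Quotient.mk J] Bar (A := A) M :=
      { toFun := id, map_add' := fun _ _ => rfl,
        map_smul' := fun r x => by
          obtain ⟨y, rfl⟩ := Submodule.Quotient.mk_surjective _ x
          rfl }
    exact (l.isSemisimpleModule_iff_of_bijective Function.bijective_id).2 inferInstance
  haveI := hss P
  haveI := hss Q
  suffices h : Nonempty (Bar (A := A) P ≃ₗ[A] Bar (A := A) Q) by
    obtain ⟨b⟩ := h
    obtain ⟨f, hf⟩ := exists_bar_eq b.toLinearMap
    exact ⟨LinearEquiv.ofBijective f (bijective_of_bar f (hf ▸ b.bijective))⟩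
  rcases subsingleton_or_nontrivial (Bar (A := A) P × Bar (A := A) Q) with hN | hN
  · haveI : Subsingleton (Bar (A := A) P) := ⟨fun a b => (Prod.ext_iff.1 (Subsingleton.elim (a, (0 : Bar (A := A) Q)) (b, 0))).1⟩
    haveI : Subsingleton (Bar (A := A) Q) := ⟨fun a b => (Prod.ext_iff.1 (Subsingleton.elim ((0 : Bar (A := A) P), a) (0, b))).2⟩
    exact ⟨LinearEquiv.ofBijective 0 ⟨fun a b _ => Subsingleton.elim a b, fun a => ⟨0, Subsingleton.elim _ _⟩⟩⟩
  haveI : Module.Finite B (Bar (A := A) P) := Module.Finite.of_restrictScalars_finite A B _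
  haveI : Module.Finite B (Bar (A := A) Q) := Module.Finite.of_restrictScalars_finite A B _
  obtain ⟨S, hS⟩ := IsAtomic.exists_atom (Submodule B (Bar (A := A) P × Bar (A := A) Q))
  rw [← isSimpleModule_iff_isAtom] at hS
  have hiso := IsSimpleRing.isIsotypic B (Bar (A := A) P × Bar (A := A) Q) S
  obtain ⟨m, ⟨eP⟩⟩ := (hiso.of_injective (LinearMap.inl B _ _) LinearMap.inl_injective).linearEquiv_fun
  obtain ⟨n, ⟨eQ⟩⟩ := (hiso.of_injective (LinearMap.inr B _ _) LinearMap.inr_injective).linearEquiv_fun
  haveI : IsSimpleModule A S := by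
    let l : S →ₛₗ[Ideal.Quotient.mk J] S :=
      { toFun := id, map_add' := fun _ _ => rfl,
        map_smul' := fun r x => by
          apply Subtype.ext
          obtain ⟨y, hy⟩ := Submodule.Quotient.mk_surjective _ (x : Bar (A := A) P × Bar (A := A) Q).1
          obtain ⟨z, hz⟩ := Submodule.Quotient.mk_surjective _ (x : Bar (A := A) P × Bar (A := A) Q).2
          refine Prod.ext ?_ ?_
          · show r • (x : Bar (A := A) P × Bar (A := A) Q).1 = Ideal.Quotient.mk J r • (x : Bar (A := A) P × Bar (A := A) Q).1
            rw [← hy]; rfl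
          · show r • (x : Bar (A := A) P × Bar (A := A) Q).2 = Ideal.Quotient.mk J r • (x : Bar (A := A) P × Bar (A := A) Q).2
            rw [← hz]; rfl }
    exact (l.isSimpleModule_iff_of_bijective Function.bijective_id).2 hS
  have hmn : m = n := le_antisymm
    (le_of_ringEquiv e (eP.restrictScalars A) (eQ.restrictScalars A))
    (le_of_ringEquiv e.symm (eQ.restrictScalars A) (eP.restrictScalars A))
  subst hmn
  exact ⟨(eP.trans eQ.symm).restrictScalars A⟩

end Groth.Agent.S13847
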