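import Groth.Statements.S13848
import Mathlib
import Groth.Prelude

set_option linter.all false

set_option autoImplicit false
universe u v
open TwSh

open CategoryTheory

namespace Groth.Agent.S13848

/-- Let A be a ring with A/J a simple left-Artinian ring, J the Jacobson radical, and let P be a
non-zero finitely generated projective left A-module. An A-linear automorphism u of P which commutes
with every A-linear endomorphism of P (equivalently, induces the identity on End_A(P) by
conjugation) is scalar multiplication by a unique central element a of A: u(x) = a·x for all x ∈ P,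
and a is determined by u. (So the automorphisms of P acting trivially on End_A(P) are exactly the
central units of A acting by scalars; the published assertion does not exclude P = 0, where
uniqueness fails.) -/
theorem result (A : Type u) [Ring A] [IsSimpleRing (A ⧸ Ring.jacobson A)] [IsArtinianRing (A ⧸ Ring.jacobson A)] (P : Type v) [AddCommGroup P] [Module A P] [Module.Finite A P] [Module.Projective A P] [Nontrivial P] (u : P ≃ₗ[A] P) (hu : ∀ f : Module.End A P, (u : P →ₗ[A] P) ∘ₗ f = f ∘ₗ (u : P →ₗ[A] P)) : ∃! a : A, (∀ b : A, a * b = b * a) ∧ ∀ x : P, u x = a • x := by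
  classical
  set J := Ring.jacobson A
  let τ : Ideal A := ⨆ f : P →ₗ[A] A, LinearMap.range f
  haveI hτ2 : τ.IsTwoSided := ⟨fun {a} b ha => by
    refine Submodule.iSup_induction (fun f : P →ₗ[A] A => LinearMap.range f) (motive := fun a => a * b ∈ τ) ha (fun f x hx => ?_) (by rw [zero_mul]; exact τ.zero_mem)
      fun x y hx hy => by rw [add_mul]; exact τ.add_mem hx hy
    obtain ⟨p, rfl⟩ := hx
    exact Submodule.mem_iSup_of_mem (LinearMap.toSpanSingleton A A b ∘ₗ f) ⟨p, by simp⟩⟩
  obtain ⟨s, hs⟩ := (Module.projective_def (R := A) (P := P)).1 inferInstance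
  have hJ : ¬ τ ≤ J := by
    intro hle
    apply not_subsingleton P
    refine Submodule.subsingleton_iff A |>.1 (subsingleton_of_bot_eq_top ?_)
    refine (Submodule.FG.eq_bot_of_le_jacobson_smul Module.Finite.fg_top ?_).symm
    intro x _
    rw [← hs x, Finsupp.linearCombination_apply]
    exact Submodule.sum_mem _ fun i _ => Submodule.smul_mem_smul (hle (Submodule.mem_iSup_of_mem (Finsupp.lapply i ∘ₗ s) ⟨x, rfl⟩)) trivial
  have htop : τ = ⊤ := by
    set M := τ.map (Ideal.Quotient.mk J)
    have hsurj : Function.Surjective (Ideal.Quotient.mk J) := Ideal.Quotient.mk_surjective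
    haveI : M.IsTwoSided := ⟨fun {a} b ha => by
      obtain ⟨a, ha', rfl⟩ := (Ideal.mem_map_iff_of_surjective _ hsurj).1 ha
      obtain ⟨b, rfl⟩ := hsurj b
      rw [← map_mul]; exact Ideal.mem_map_of_mem _ (τ.mul_mem_right b ha')⟩
    have hM : TwoSidedIdeal.fromIdeal M = ⊥ ∨ TwoSidedIdeal.fromIdeal M = ⊤ := eq_bot_or_eq_top _
    rcases hM with h | h
    · exfalso; refine hJ fun x hx => ?_
      have : Ideal.Quotient.mk J x ∈ TwoSidedIdeal.fromIdeal M := TwoSidedIdeal.subset_span (Ideal.mem_map_of_mem _ hx)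
      rw [h, TwoSidedIdeal.mem_bot] at this
      exact Ideal.Quotient.eq_zero_iff_mem.1 this
    · have h1 : (1 : A ⧸ J) ∈ M := by
        have hle : TwoSidedIdeal.fromIdeal M ≤ M.toTwoSided := TwoSidedIdeal.span_le.2 fun x hx => by simpa using hx
        have := hle (h ▸ trivial : (1 : A ⧸ J) ∈ TwoSidedIdeal.fromIdeal M)
        simpa using this
      obtain ⟨t, ht, ht1⟩ := (Ideal.mem_map_iff_of_surjective _ hsurj).1 h1
      rw [← map_one (Ideal.Quotient.mk J), Ideal.Quotient.eq] at ht1
      have ht2 : t - 1 ∈ Ideal.jacobson (⊥ : Ideal A) := by rw [Ideal.jacobson_bot]; exact ht1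
      obtain ⟨z, hz⟩ := Ideal.mem_jacobson_iff.1 ht2 1
      rw [Ideal.mem_bot, mul_one, mul_sub, mul_one, sub_add_cancel, sub_eq_zero] at hz
      exact (Ideal.eq_top_iff_one τ).2 (hz ▸ τ.mul_mem_left z ht)
  have hrep : ∀ a ∈ τ, ∃ a' : A, ∀ x : P, u (a • x) = a' • x := by
    intro a ha
    refine Submodule.iSup_induction (fun f : P →ₗ[A] A => LinearMap.range f) (motive := fun a => ∃ a' : A, ∀ x : P, u (a • x) = a' • x) ha
      (fun f y hy => ?_) ⟨0, fun x => by simp⟩ fun y z hy hz => ?_
    · obtain ⟨p, rfl⟩ := hy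
      exact ⟨f (u p), fun x => LinearMap.congr_fun (hu (LinearMap.toSpanSingleton A P x ∘ₗ f)) p⟩
    · obtain ⟨a, ha⟩ := hy; obtain ⟨b, hb⟩ := hz
      exact ⟨a + b, fun x => by simp [add_smul, ha, hb]⟩
  obtain ⟨a, ha⟩ := hrep 1 (htop ▸ Submodule.mem_top)
  have ha' : ∀ x, u x = a • x := fun x => by simpa using ha x
  have hfaith : ∀ c : A, (∀ x : P, c • x = 0) → c = 0 := by
    intro c hc
    have h : ∀ y ∈ τ, c * y = 0 := fun y hy =>
      Submodule.iSup_induction (fun f : P →ₗ[A] A => LinearMap.range f) (motive := fun y => c * y = 0) hy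
        (fun f z hz => by obtain ⟨p, rfl⟩ := hz; rw [← smul_eq_mul, ← map_smul, hc, map_zero]) (mul_zero c)
        fun y z hy hz => by rw [mul_add, hy, hz, add_zero]
    simpa using h 1 (htop ▸ Submodule.mem_top)
  refine ⟨a, ⟨fun b => sub_eq_zero.1 (hfaith _ fun x => ?_), ha'⟩, fun a' h => sub_eq_zero.1 (hfaith _ fun x => ?_)⟩
  · rw [sub_smul, mul_smul, mul_smul, ← ha', ← ha', map_smul, sub_self]
  · rw [sub_smul, ← h.2, ← ha', sub_self]

end Groth.Agent.S13848
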