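import Groth.Statements.S17119
import Groth.Agent.KTor28.Divisor
import Groth.Agent.Misc15.DefoConnAlg
-- import your own Groth.Agent.* helpers here

set_option autoImplicit false
set_option backward.isDefEq.respectTransparency false
set_option backward.isDefEq.respectTransparency.types false
set_option linter.style.haveILetI false
universe u
open CategoryTheory CategoryTheory.Limits AlgebraicGeometry
open LogNCD

namespace Groth.Agent.S17119

open Opposite
open Groth.Agent Groth.Agent.DCat Groth.Agent.AmpleLib Groth.Agent.Coherent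

/-- A function of the ideal kills the quotient. -/
theorem smul_quot {X : Scheme.{u}} (I : X.IdealSheafData) (U : X.Opens) (a : Γ(X, U))
    (ha : I.subschemeι.app U a = 0) (q : Γ(ClSub.quotMod I, U)) : a • q = 0 := by
  show (I.subschemeι.app U a) * (show Γ(I.subscheme, I.subschemeι ⁻¹ᵁ U) from q) = 0
  rw [ha, zero_mul]

/-- A function of the ideal kills `E ⊗ O_D`. -/
theorem smul_tensor_quot {X : Scheme.{u}} (E : X.Modules) (I : X.IdealSheafData) :
    ∀ (U : X.Opens) (z : Γ(CohB1.tensorMod E (ClSub.quotMod I), U)) (a : Γ(X, U)),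
      I.subschemeι.app U a = 0 → a • z = 0 := by
  refine induction_local (P := fun U z => ∀ a : Γ(X, U), I.subschemeι.app U a = 0 → a • z = 0)
    (fun U z z' h h' a ha => by rw [smul_add, h a ha, h' a ha, add_zero]) (fun U a _ => smul_zero a) ?_ ?_
  · intro U z h a ha
    refine KTor28.gm_ext _ fun x hx => ?_
    obtain ⟨W, hW, hxW, hP⟩ := h x hx
    have h0 : resM _ hW (a • z) = 0 := by
      rw [resM_smul]
      refine hP _ ?_
      show I.subschemeι.app W (X.presheaf.map (homOfLE hW).op a) = 0
      rw [← CommRingCat.comp_apply, I.subschemeι.naturality, CommRingCat.comp_apply, ha, map_zero]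
    rw [← KTor28.gm_res _ hW hxW, h0, KTor28.gm_zero, KTor28.gm_zero]
  · intro U e q a ha
    rw [← tmul_smul_right, smul_quot I U a ha q,
      ← zero_smul Γ(X, U) (0 : Γ(ClSub.quotMod I, U)), tmul_smul_right, zero_smul]

/-- Let f : X → S be smooth, (Ω', d) a universal receptacle for the differentials of X over S, D = (D_1,
…, D_r) a relative strict normal crossing divisor with pinned log module Ω¹(log D) and residues
res_j : Ω¹(log D) → O_{D_j}, E a finite locally free O_X-module and ∇ : E → E ⊗ Ω¹(log D) a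
logarithmic connection along D (a map of abelian sheaves with the Leibniz rule). Then for every
component D_i the residue of ∇ along D_i, the composite (1 ⊗ res_i) ∘ ∇ : E → E ⊗ O_{D_i}, is
O_X-linear, i.e. it is induced by an O_X-module morphism ρ, and ρ factors through the restriction
map E ≅ E ⊗ O_X → E ⊗ O_{D_i}: there is an O_X-linear endomorphism R of E ⊗ O_{D_i} whose composite
with the restriction is ρ (the residue as an endomorphism of E restricted to D_i). (Stated relative
to an arbitrary base; the published statement is over an algebraically closed field, with the module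
as the right tensor factor.) -/
theorem result {X S : Scheme.{u}} (f : X ⟶ S) [Smooth f]
    {Ω' : X.Modules} (d : OmegaSh.Der f Ω') (hd : OmegaSh.IsUniversal d)
    {r : ℕ} (D : Fin r → X.IdealSheafData) (hD : LogNCD.IsNCD D f) (Λ : LogNCD.LogMod d D)
    (E : X.Modules) (hE : FlatMod.IsFinLocFree E)
    (nabla : Coh.toAb E ⟶ Coh.toAb (CohB1.tensorMod E Λ.L)) (hc : ConnSh.IsConn (LogNCD.der Λ) E nabla)
    (i : Fin r) :
    ∃ ρ : E ⟶ CohB1.tensorMod E (ClSub.quotMod (D i)), LogNCD.IsResidue Λ E nabla i ρ ∧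
      ∃ R : CohB1.tensorMod E (ClSub.quotMod (D i)) ⟶ CohB1.tensorMod E (ClSub.quotMod (D i)),
        (SecTwist.unitorR E).inv ≫ KoszTw.tensorMap (𝟙 E) (ClSub.toSubscheme (D i)) ≫ R = ρ := by
  let β : CohB1.tensorMod E Λ.L ⟶ CohB1.tensorMod E (ClSub.quotMod (D i)) := KoszTw.tensorMap (𝟙 E) (Λ.res i)
  obtain ⟨ρ, hρ⟩ := Misc15.DefoConnAlg.exists_linear (nabla ≫ Misc15.DefoConnAlg.A β) fun U t e => by
    show β.app U (ConnSh.secApp nabla U (t • e)) = t • β.app U (ConnSh.secApp nabla U e)
    rw [hc U t e, map_add, Scheme.Modules.Hom.app_smul]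
    have h0 : β.app U (SecTwist.tmul E Λ.L U e ((LogNCD.der Λ).app U t)) = 0 := by
      rw [KoszTw.tensorMap_tmul]
      have h1 : (Λ.res i).app U ((LogNCD.der Λ).app U t) = 0 := by
        show (Λ.ι ≫ Λ.res i).app U (d.app U t) = 0
        rw [Λ.res_ι i]; rfl
      rw [h1]
      exact (congrArg _ (TensorProduct.tmul_zero _ _)).trans (map_zero _)
    rw [h0, add_zero]
  refine ⟨ρ, hρ, ?_⟩
  haveI := CurveRR24.epi_toSubscheme (D i)
  haveI : Coh.IsQCoh E := CAlgH3.LocFreeFactor.isQCoh_of_finLocFree hE
  have hS := KTor28.shortExact_tensor_flat (Props12.isFlat_of_isFinLocFree E hE) (KTor28.shortExact_ideal' (D i))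
  haveI := hS.epi_g
  have hmap : ∀ {N N' : X.Modules} (φ : N ⟶ N'), ((shT X).obj E).map φ = KoszTw.tensorMap (𝟙 E) φ :=
    fun φ => KoszTw.tensorBi_obj_map E φ
  have hf : ((shT X).obj E).map (ClSub.idealModι (D i)) ≫ ((SecTwist.unitorR E).hom ≫ ρ) = 0 := by
    rw [hmap]
    refine AmpleLib.hom_ext fun U e s => ?_
    show ρ.app U ((SecTwist.unitorR E).hom.app U ((KoszTw.tensorMap (𝟙 E) (ClSub.idealModι (D i))).app U
      (SecTwist.tmul E _ U e s))) = 0
    rw [KoszTw.tensorMap_tmul]
    rw [show (SecTwist.unitorR E).hom.app U (SecTwist.tmul E _ U ((𝟙 E : E ⟶ E).app U e) ((ClSub.idealModι (D i)).app U s)) =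
      (OmegaSh.idealSect (D i) U s) • e from SecTwist.unitorR_tmul E U e _, Scheme.Modules.Hom.app_smul]
    refine smul_tensor_quot E (D i) U _ _ ?_
    have h2 : (ClSub.idealModι (D i) ≫ ClSub.toSubscheme (D i)).app U s = 0 := by
      rw [show ClSub.idealModι (D i) ≫ ClSub.toSubscheme (D i) = 0 from kernel.condition _]; rfl
    exact h2
  refine ⟨hS.exact.desc _ hf, ?_⟩
  rw [← hmap]
  have h3 := hS.exact.g_desc _ hf
  exact (congrArg (fun φ => (SecTwist.unitorR E).inv ≫ φ) h3).trans (Iso.inv_hom_id_assoc _ _)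

end Groth.Agent.S17119
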