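import Groth.Statements.S13858
import Groth.Agent.S17119
import Groth.Agent.Mod22.GGDual
import Groth.Agent.CohCmpLib.AffineBase

set_option autoImplicit false
set_option backward.isDefEq.respectTransparency false
set_option backward.isDefEq.respectTransparency.types false
set_option linter.style.haveILetI false
set_option maxHeartbeats 200000
universe u
open CategoryTheory CategoryTheory.Limits AlgebraicGeometry
open AdjLin

namespace Groth.Agent.S13858

open Opposite Groth.Agent Groth.Agent.DCat Groth.Agent.Coherent Groth.Agent.PicLib Groth.Agent.AmpleLib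

variable {X : Scheme.{u}} (I : X.IdealSheafData)

/-- Restriction to the closed subscheme. -/
noncomputable def toQ (E : X.Modules) : E ⟶ CohB1.tensorMod E (ClSub.quotMod I) :=
  (SecTwist.unitorR E).inv ≫ KoszTw.tensorMap (𝟙 E) (ClSub.toSubscheme I)

theorem unitorR_inv_app (E : X.Modules) (U : X.Opens) (e : Γ(E, U)) :
    (SecTwist.unitorR E).inv.app U e = tmul e (show Γ(Coh.structureModule X, U) from (1 : Γ(X, U))) := by
  have h : (SecTwist.unitorR E).hom.app U (tmul e (show Γ(Coh.structureModule X, U) from (1 : Γ(X, U)))) = e :=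
    (SecTwist.unitorR_tmul E U e _).trans (one_smul Γ(X, U) e)
  have h2 := congrArg ((SecTwist.unitorR E).inv.app U) h
  rw [← ConcreteCategory.comp_apply, ← Scheme.Modules.Hom.comp_app, Iso.hom_inv_id] at h2
  exact h2.symm

theorem toQ_app (E : X.Modules) (U : X.Opens) (e : Γ(E, U)) :
    (toQ I E).app U e =
      tmul e ((ClSub.toSubscheme I).app U (show Γ(Coh.structureModule X, U) from (1 : Γ(X, U)))) := by
  show (KoszTw.tensorMap (𝟙 E) (ClSub.toSubscheme I)).app U ((SecTwist.unitorR E).inv.app U e) = _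
  rw [unitorR_inv_app]
  exact KoszTw.tensorMap_tmul _ _ U e _

theorem tm_tmul {A A' B B' : X.Modules} (φ : A ⟶ A') (ψ : B ⟶ B') (U : X.Opens) (a : Γ(A, U)) (b : Γ(B, U)) :
    (KoszTw.tensorMap φ ψ).app U (tmul a b) = tmul (φ.app U a) (ψ.app U b) :=
  KoszTw.tensorMap_tmul φ ψ U a b

theorem inv_hom_app {A B : X.Modules} (e : A ≅ B) (U : X.Opens) (a : Γ(A, U)) :
    e.inv.app U (e.hom.app U a) = a :=
  congr(($(e.hom_inv_id)).app U a)

/-- The ideal sequence tensored by a locally free module. -/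
noncomputable def seqT (E : X.Modules) : ShortComplex X.Modules :=
  (ShortComplex.mk (ClSub.idealModι I) (ClSub.toSubscheme I) (kernel.condition _)).map ((shT X).obj E)

theorem shortExact_seqT {E : X.Modules} (hE : FlatMod.IsFinLocFree E) : (seqT I E).ShortExact := by
  haveI : Coh.IsQCoh E := CAlgH3.LocFreeFactor.isQCoh_of_finLocFree hE
  exact KTor28.shortExact_tensor_flat (Props12.isFlat_of_isFinLocFree E hE) (KTor28.shortExact_ideal' I)

theorem seqT_g (E : X.Modules) : (seqT I E).g = KoszTw.tensorMap (𝟙 E) (ClSub.toSubscheme I) :=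
  KoszTw.tensorBi_obj_map E (ClSub.toSubscheme I)

theorem seqT_f (E : X.Modules) : (seqT I E).f = KoszTw.tensorMap (𝟙 E) (ClSub.idealModι I) :=
  KoszTw.tensorBi_obj_map E (ClSub.idealModι I)

/-- Tensored with a module killed by the ideal, restriction is injective. -/
theorem mono_tensor_toQ (H E : X.Modules)
    (hH : ∀ (U : X.Opens) (h : Γ(H, U)) (a : Γ(X, U)), I.subschemeι.app U a = 0 → a • h = 0) :
    Mono (KoszTw.tensorMap (𝟙 H) (toQ I E)) := by
  let S := ShortComplex.mk (ClSub.idealModι I) (ClSub.toSubscheme I) (kernel.condition _)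
  have hS : S.ShortExact := KTor28.shortExact_ideal' I
  let F : X.Modules ⥤ X.Modules := (shT X).obj E ⋙ (shT X).obj H
  haveI : Epi S.g := hS.epi_g
  haveI : F.Additive := by
    haveI : ((shT X).obj E).Additive := DCoh.additive_tensorBi_obj E
    haveI : ((shT X).obj H).Additive := DCoh.additive_tensorBi_obj H
    exact inferInstanceAs (((shT X).obj E ⋙ (shT X).obj H).Additive)
  haveI : PreservesColimitsOfSize.{0, 0} ((shT X).obj E) := (Groth.Agent.Coherent.tensorHomAdj E).leftAdjoint_preservesColimits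
  haveI : PreservesColimitsOfSize.{0, 0} ((shT X).obj H) := (Groth.Agent.Coherent.tensorHomAdj H).leftAdjoint_preservesColimits
  have hex : (S.map F).Exact := hS.exact.map_of_epi_of_preservesCokernel F inferInstance inferInstance
  have hF : ∀ {A B : X.Modules} (φ : A ⟶ B), F.map φ = KoszTw.tensorMap (𝟙 H) (KoszTw.tensorMap (𝟙 E) φ) := fun φ =>
    (congrArg ((shT X).obj H).map (KoszTw.tensorBi_obj_map E φ)).trans (KoszTw.tensorBi_obj_map H _)
  have hzero : (S.map F).f = 0 := by
    show F.map (ClSub.idealModι I) = 0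
    rw [hF]
    refine AmpleLib.hom_ext fun U h t => ?_
    show (KoszTw.tensorMap (𝟙 H) (KoszTw.tensorMap (𝟙 E) (ClSub.idealModι I))).app U (SecTwist.tmul H _ U h t) = 0
    rw [KoszTw.tensorMap_tmul]
    show tmul h ((KoszTw.tensorMap (𝟙 E) (ClSub.idealModι I)).app U t) = 0
    revert h
    refine AmpleLib.induction_local (P := fun U t => ∀ h : Γ(H, U),
      tmul h ((KoszTw.tensorMap (𝟙 E) (ClSub.idealModι I)).app U t) = 0) ?_ ?_ ?_ ?_ U t
    · intro U z z' hz hz' h
      rw [map_add, tmul_add_right, hz h, hz' h, add_zero]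
    · intro U h
      have := tmul_add_right (L := H) h (0 : Γ(CohB1.tensorMod E (Coh.structureModule X), U)) 0
      rw [add_zero, left_eq_add] at this
      rw [map_zero]
      exact this
    · intro U z hz h
      refine KTor28.gm_ext _ fun x hx => ?_
      obtain ⟨W, hW, hxW, hP⟩ := hz x hx
      rw [← KTor28.gm_res _ hW hxW, resM_tmul, ← app_resM, hP (resM H hW h), KTor28.gm_zero, KTor28.gm_zero]
    · intro U e i h
      show tmul h ((KoszTw.tensorMap (𝟙 E) (ClSub.idealModι I)).app U (SecTwist.tmul E _ U e i)) = 0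
      rw [KoszTw.tensorMap_tmul]
      have h1 : (ClSub.idealModι I).app U i =
          OmegaSh.idealSect I U i • (show Γ(Coh.structureModule X, U) from (1 : Γ(X, U))) :=
        (mul_one (OmegaSh.idealSect I U i)).symm
      show tmul h (tmul ((𝟙 E : E ⟶ E).app U e) ((ClSub.idealModι I).app U i)) = 0
      rw [h1, tmul_smul_right, tmul_smul_right, ← tmul_smul_left, hH U h _ ?_, tmul_zero_left]
      have h2 : (ClSub.idealModι I ≫ ClSub.toSubscheme I).app U i = 0 := by
        rw [show ClSub.idealModι I ≫ ClSub.toSubscheme I = 0 from kernel.condition _]; rfl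
      exact h2
  haveI : Mono (S.map F).g := hex.mono_g hzero
  haveI : Mono (KoszTw.tensorMap (𝟙 H) (KoszTw.tensorMap (𝟙 E) (ClSub.toSubscheme I))) :=
    (hF (ClSub.toSubscheme I)) ▸ (‹Mono (S.map F).g› : Mono (F.map (ClSub.toSubscheme I)))
  have h3 : KoszTw.tensorMap (𝟙 H) (toQ I E) = ((shT X).obj H).map (SecTwist.unitorR E).inv ≫
      KoszTw.tensorMap (𝟙 H) (KoszTw.tensorMap (𝟙 E) (ClSub.toSubscheme I)) := by
    rw [← KoszTw.tensorBi_obj_map H (KoszTw.tensorMap (𝟙 E) _), ← KoszTw.tensorBi_obj_map H (toQ I E)]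
    exact ((shT X).obj H).map_comp _ _
  rw [h3]
  exact mono_comp _ _

/-- The same with the factors exchanged. -/
theorem mono_toQ_tensor (H E : X.Modules)
    (hH : ∀ (U : X.Opens) (h : Γ(H, U)) (a : Γ(X, U)), I.subschemeι.app U a = 0 → a • h = 0) :
    Mono (KoszTw.tensorMap (toQ I E) (𝟙 H)) := by
  haveI := mono_tensor_toQ I H E hH
  have h : KoszTw.tensorMap (toQ I E) (𝟙 H) = (tensorComm E H).hom ≫
      KoszTw.tensorMap (𝟙 H) (toQ I E) ≫ (tensorComm H _).hom := by
    refine AmpleLib.hom_ext fun U e h => ?_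
    show (KoszTw.tensorMap (toQ I E) (𝟙 H)).app U (SecTwist.tmul E H U e h) =
      (tensorComm H _).hom.app U ((KoszTw.tensorMap (𝟙 H) (toQ I E)).app U ((tensorComm E H).hom.app U (tmul e h)))
    rw [KoszTw.tensorMap_tmul, show (tensorComm E H).hom.app U (tmul e h) = SecTwist.tmul H E U h e from Bilin.desc_tmul _ U e h,
      KoszTw.tensorMap_tmul]
    exact (show (tensorComm H (CohB1.tensorMod E (ClSub.quotMod I))).hom.app U
      (tmul ((𝟙 H : H ⟶ H).app U h) ((toQ I E).app U e)) = tmul _ _ from Bilin.desc_tmul _ U _ _).symm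
  rw [h]
  infer_instance


/-- Let X be a regular projective variety over the complex numbers (an integral scheme, proper over ℂ,
with H^1(X, O_X) = 0), E a finite locally free O_X-module, I a quasi-coherent ideal of O_X with
closed subscheme D and O_D its structure sheaf viewed on X, and L an invertible module generated by
its global sections with L ⊗ I ≅ O_X (so that L = O_X(D)) and H^1(E ⊗ I) = 0 (that is, H^1(E ⊗
L^{-1}) = 0). If the multiplication map H^0(E ⊗ O_D) ⊗ H^0(L ⊗ O_D) → H^0(E ⊗ O_D ⊗ L ⊗ O_D) on the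
restrictions to D is surjective, then the multiplication map H^0(E) ⊗ H^0(L) → H^0(E ⊗ L) is
surjective (such a multiplication map is written as the map from the global sections of the
sectionwise tensor product presheaf to the global sections of its sheafification). -/
theorem result
    (X : Scheme.{0}) [X.Over (Spec (CommRingCat.of ℂ))] [IsIntegral X] [IsProper (X ↘ Spec (CommRingCat.of ℂ))]
    (hreg : Subsingleton (Coh.HH X (Coh.structureModule X) 1))
    (E : X.Modules) (hE : FlatMod.IsFinLocFree E)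
    (I : X.IdealSheafData) (L : X.Modules) (hLi : PicF.IsInvertible L) (hLg : Curv2.IsGloballyGenerated L)
    (hLI : ClSub.IsInverseOf L (ClSub.idealMod I))
    (h1 : Subsingleton (Coh.HH X (CohB1.tensorMod E (ClSub.idealMod I)) 1))
    (hD : Function.Surjective
      ((toSheafify (Opens.grothendieckTopology X) (CohB1.tensorPre (CohB1.tensorMod E (ClSub.quotMod I)) (CohB1.tensorMod L (ClSub.quotMod I))).presheaf).app (Opposite.op ⊤))) :
    Function.Surjective
      ((toSheafify (Opens.grothendieckTopology X) (CohB1.tensorPre E L).presheaf).app (Opposite.op ⊤)) := by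
  classical
  haveI : IsLocallyNoetherian X := LocallyOfFiniteType.isLocallyNoetherian (X ↘ Spec (CommRingCat.of ℂ))
  obtain ⟨θ⟩ := hLI
  have hLf : FlatMod.IsFinLocFree L := fun x =>
    let ⟨U, hx, e⟩ := PicLib.isFinLocFreeOfRank_one hLi x; ⟨U, 1, hx, e⟩
  have hsurj : ∀ M : X.Modules, FlatMod.IsFinLocFree M →
      Subsingleton (Coh.HH X (CohB1.tensorMod M (ClSub.idealMod I)) 1) → Function.Surjective ((toQ I M).app ⊤) := by
    intro M hM hM1 w
    haveI : Subsingleton (Coh.HH X (seqT I M).X₁ 1) := hM1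
    obtain ⟨t, ht⟩ := Mod22.GGDual.surjective_app_top_of_h1_injective (k := ℂ) (shortExact_seqT I hM)
      (Function.injective_of_subsingleton _) w
    let t' : Γ(CohB1.tensorMod M (Coh.structureModule X), (⊤ : X.Opens)) := t
    refine ⟨(SecTwist.unitorR M).hom.app ⊤ t', ?_⟩
    show (KoszTw.tensorMap (𝟙 M) (ClSub.toSubscheme I)).app ⊤
      ((SecTwist.unitorR M).inv.app ⊤ ((SecTwist.unitorR M).hom.app ⊤ t')) = w
    rw [inv_hom_app]
    exact (congrArg (fun φ : (seqT I M).X₂ ⟶ (seqT I M).X₃ => φ.app ⊤ t) (seqT_g I M)).symm.trans ht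
  haveI : Subsingleton (Coh.HH X (CohB1.tensorMod L (ClSub.idealMod I)) 1) :=
    Groth.Agent.Coherent.Serre.HH_subsingleton_of_iso ℂ θ.symm 1 hreg
  have hsE := hsurj E hE h1
  have hsL := hsurj L hLf inferInstance
  let σ : Coh.structureModule X ⟶ L := θ.inv ≫ (seqT I L).f ≫ (SecTwist.unitorR L).hom
  let s : Γ(L, ⊤) := σ.app ⊤ (show Γ(Coh.structureModule X, ⊤) from (1 : Γ(X, ⊤)))
  let H := CohB1.tensorMod L (ClSub.quotMod I)
  let π₁ := KoszTw.tensorMap (𝟙 E) (toQ I L)
  let π₂ := KoszTw.tensorMap (toQ I E) (𝟙 H)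
  haveI : Mono π₂ := mono_toQ_tensor I H E fun U h a ha => Groth.Agent.S17119.smul_tensor_quot L I U h a ha
  let R : Set Γ(CohB1.tensorMod E L, (⊤ : X.Opens)) := {z | ∃ e l, z = tmul e l}
  have hker : ∀ z : Γ(CohB1.tensorMod E L, (⊤ : X.Opens)), π₁.app ⊤ z = 0 → ∃ e, z = tmul e s := by
    intro z hz
    let T := (seqT I L).map ((shT X).obj E)
    have hT : T.ShortExact :=
      haveI : Coh.IsQCoh E := CAlgH3.LocFreeFactor.isQCoh_of_finLocFree hE
      KTor28.shortExact_tensor_flat (Props12.isFlat_of_isFinLocFree E hE) (shortExact_seqT I hLf)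
    let uL := KoszTw.tensorMap (𝟙 E) (SecTwist.unitorR L).inv
    have hg : T.g.app ⊤ (uL.app ⊤ z) = 0 := by
      rw [show T.g = KoszTw.tensorMap (𝟙 E) (seqT I L).g from KoszTw.tensorBi_obj_map E _, ← hz]
      show (uL ≫ KoszTw.tensorMap (𝟙 E) (seqT I L).g).app ⊤ z = π₁.app ⊤ z
      refine congrArg (fun φ : CohB1.tensorMod E L ⟶ CohB1.tensorMod E (CohB1.tensorMod L (ClSub.quotMod I)) => φ.app ⊤ z) (AmpleLib.hom_ext fun U e l => ?_)
      show (KoszTw.tensorMap (𝟙 E) (seqT I L).g).app U (uL.app U (tmul e l)) = π₁.app U (tmul e l)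
      refine ((congrArg ((KoszTw.tensorMap (𝟙 E) (seqT I L).g).app U) (tm_tmul _ _ U e l)).trans
        (tm_tmul (𝟙 E) (seqT I L).g U _ _)).trans (Eq.trans ?_ (tm_tmul _ _ U e l).symm)
      refine congrArg (fun v => tmul ((𝟙 E : E ⟶ E).app U e) v) ?_
      exact congrArg (fun φ : (seqT I L).X₂ ⟶ (seqT I L).X₃ => φ.app U ((SecTwist.unitorR L).inv.app U l)) (seqT_g I L)
    obtain ⟨w, hw⟩ := CohCmpLib.exists_app_eq_of_app_eq_zero ⊤ hT _ hg
    let w' := (KoszTw.tensorMap (𝟙 E) θ.hom).app ⊤ w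
    let e := (SecTwist.unitorR E).hom.app ⊤ w'
    refine ⟨e, ?_⟩
    have hw' : w' = tmul e (show Γ(Coh.structureModule X, ⊤) from (1 : Γ(X, ⊤))) := by
      rw [← unitorR_inv_app]
      show w' = ((SecTwist.unitorR E).hom ≫ (SecTwist.unitorR E).inv).app ⊤ w'
      rw [Iso.hom_inv_id]; rfl
    have key : uL ≫ KoszTw.tensorMap (𝟙 E) (SecTwist.unitorR L).hom = 𝟙 _ := by
      refine AmpleLib.hom_ext fun U e l => ?_
      show (KoszTw.tensorMap (𝟙 E) (SecTwist.unitorR L).hom).app U (uL.app U (tmul e l)) = tmul e l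
      refine ((congrArg ((KoszTw.tensorMap (𝟙 E) (SecTwist.unitorR L).hom).app U) (tm_tmul _ _ U e l)).trans
        (tm_tmul (𝟙 E) (SecTwist.unitorR L).hom U _ _)).trans ?_
      exact congrArg (fun v => tmul e v) (inv_hom_app (SecTwist.unitorR L).symm U l)
    have key2 : T.f ≫ KoszTw.tensorMap (𝟙 E) (SecTwist.unitorR L).hom =
        KoszTw.tensorMap (𝟙 E) θ.hom ≫ KoszTw.tensorMap (𝟙 E) σ := by
      rw [show T.f = KoszTw.tensorMap (𝟙 E) (seqT I L).f from KoszTw.tensorBi_obj_map E _]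
      refine AmpleLib.hom_ext fun U e t => ?_
      show (KoszTw.tensorMap (𝟙 E) (SecTwist.unitorR L).hom).app U
          ((KoszTw.tensorMap (𝟙 E) (seqT I L).f).app U (tmul e t)) =
        (KoszTw.tensorMap (𝟙 E) σ).app U ((KoszTw.tensorMap (𝟙 E) θ.hom).app U (tmul e t))
      refine ((congrArg ((KoszTw.tensorMap (𝟙 E) (SecTwist.unitorR L).hom).app U) (tm_tmul _ _ U e t)).trans
        (tm_tmul (𝟙 E) (SecTwist.unitorR L).hom U _ _)).trans (Eq.trans ?_
        ((congrArg ((KoszTw.tensorMap (𝟙 E) σ).app U) (tm_tmul _ _ U e t)).trans (tm_tmul (𝟙 E) σ U _ _)).symm)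
      refine congrArg (fun v => tmul e v) ?_
      show _ = (SecTwist.unitorR L).hom.app U ((seqT I L).f.app U (θ.inv.app U (θ.hom.app U t)))
      rw [inv_hom_app]
      rfl
    calc z = (uL ≫ KoszTw.tensorMap (𝟙 E) (SecTwist.unitorR L).hom).app ⊤ z := by rw [key]; rfl
      _ = (T.f ≫ KoszTw.tensorMap (𝟙 E) (SecTwist.unitorR L).hom).app ⊤ w :=
          (congrArg ((KoszTw.tensorMap (𝟙 E) (SecTwist.unitorR L).hom).app ⊤) hw).symm
      _ = (KoszTw.tensorMap (𝟙 E) σ).app ⊤ w' := by rw [key2]; rfl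
      _ = tmul e s := by rw [hw']; exact KoszTw.tensorMap_tmul _ _ _ _ _
  -- the products exhaust the sections
  let G := ((toSheafify (Opens.grothendieckTopology X) (CohB1.tensorPre E L).presheaf).app (op ⊤)).hom
  have hG : ∀ e l, tmul e l ∈ G.range := fun e l => ⟨_, rfl⟩
  intro z
  change z ∈ G.range
  have hlift : ∀ y, ∃ z₀ ∈ G.range, π₂.app ⊤ (π₁.app ⊤ z₀) = y := by
    intro y
    obtain ⟨ξ, rfl⟩ := hD y
    induction ξ using TensorProduct.induction_on with
    | zero => exact ⟨0, zero_mem _, by rw [map_zero, map_zero]; exact (map_zero _).symm⟩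
    | tmul a b =>
      obtain ⟨e, rfl⟩ := hsE a
      obtain ⟨l, rfl⟩ := hsL b
      refine ⟨tmul e l, hG e l, ?_⟩
      show π₂.app ⊤ (π₁.app ⊤ (SecTwist.tmul E L ⊤ e l)) = _
      exact (congrArg (π₂.app ⊤) (tm_tmul _ _ ⊤ e l)).trans (tm_tmul _ _ ⊤ _ _)
    | add a b ha hb =>
      obtain ⟨za, hza, ea⟩ := ha
      obtain ⟨zb, hzb, eb⟩ := hb
      exact ⟨za + zb, add_mem hza hzb, by rw [map_add, map_add, ea, eb]; exact (map_add _ _ _).symm⟩
  obtain ⟨z₀, hz₀, h2⟩ := hlift (π₂.app ⊤ (π₁.app ⊤ z))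
  have h3 := (Groth.Agent.Coherent.app_injective_of_mono π₂ ⊤) h2
  obtain ⟨e, he⟩ := hker (z - z₀) (by rw [map_sub, h3, sub_self])
  rw [← sub_add_cancel z z₀, he]
  exact add_mem (hG e s) hz₀

end Groth.Agent.S13858
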