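import Groth.Statements.S1386
import Groth.Agent.EGA43.Cons.FibreCritScheme
import Groth.Agent.EGA43.FlatDescent.SchemeOpen

set_option autoImplicit false
set_option backward.isDefEq.respectTransparency false
universe u
open FlatMor

namespace Groth.Agent.S1386

open AlgebraicGeometry CategoryTheory Limits in
/-- Fibrewise flatness criterion (critère de platitude par fibres), for the structure sheaf: let f : X →
Y and g : Y → S be morphisms of schemes with X locally of finite presentation over S (via g ∘ f) and
Y locally of finite type over S. For a point x of X with images y = f(x) and s = g(y) the following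
are equivalent: (1) X → S is flat at x and the induced morphism of fibres X_s → Y_s is flat at x;
(2) Y → S is flat at y and f is flat at x. Moreover the set of points x at which (2) holds is open
in X. The published statement treats a finitely presented quasi-coherent O_X-module; here the module
is O_X. -/
theorem result {X Y S : Scheme.{u}} (f : X ⟶ Y) (g : Y ⟶ S) [LocallyOfFinitePresentation (f ≫ g)] [LocallyOfFiniteType g] :
    (∀ x : X, ((f ≫ g).stalkMap x).hom.Flat ∧ ((MoreMor.fiberMap f g (g (f x))).stalkMap ((f ≫ g).asFiber x)).hom.Flat ↔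
        (g.stalkMap (f x)).hom.Flat ∧ (f.stalkMap x).hom.Flat) ∧
      IsOpen {x : ↑X | (g.stalkMap (f x)).hom.Flat ∧ (f.stalkMap x).hom.Flat} := by
  have hfp := Groth.Agent.EGA43.Limit.locallyOfFinitePresentation_of_comp f g
  have hcomp : ∀ x : X, (g.stalkMap (f x)).hom.Flat → (f.stalkMap x).hom.Flat →
      ((f ≫ g).stalkMap x).hom.Flat := fun x h₁ h₂ => by
    rw [Scheme.Hom.stalkMap_comp, CommRingCat.hom_comp]
    exact h₁.comp h₂
  constructor
  · intro x
    have hfib := Groth.Agent.EGA43.Cons.flat_stalkMap_fibMap_iff f g (g (f x)) ((f ≫ g).asFiber x)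
    replace hfib := hfib.trans (iff_of_eq (congrArg (Groth.Agent.EGA43.Cons.IsFibFlatMorAt f g)
      ((f ≫ g).fiberι_asFiber x)))
    constructor
    · rintro ⟨h₁, h₂⟩
      exact (Groth.Agent.EGA43.Cons.flat_stalkMap_of_isFibFlatMorAt f g x h₁ (hfib.1 h₂)).symm
    · rintro ⟨h₁, h₂⟩
      exact ⟨hcomp x h₁ h₂, hfib.2 (Groth.Agent.EGA43.Cons.isFibFlatMorAt_of_flat f g x h₂)⟩
  · have he : {x : ↑X | (g.stalkMap (f x)).hom.Flat ∧ (f.stalkMap x).hom.Flat} =
        {x : ↑X | ((f ≫ g).stalkMap x).hom.Flat} ∩ {x : ↑X | (f.stalkMap x).hom.Flat} := by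
      ext x
      exact ⟨fun h => ⟨hcomp x h.1 h.2, h.2⟩, fun h =>
        ⟨(Groth.Agent.EGA43.Cons.flat_stalkMap_of_isFibFlatMorAt f g x h.1
          (Groth.Agent.EGA43.Cons.isFibFlatMorAt_of_flat f g x h.2)).2, h.2⟩⟩
    rw [he]
    exact (Groth.Agent.EGA43.FlatDescent.isOpen_flat_stalkMap (f ≫ g)).inter
      (Groth.Agent.EGA43.FlatDescent.isOpen_flat_stalkMap f)
end Groth.Agent.S1386
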