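import Groth.Statements.S13860
import Mathlib

set_option linter.all false

set_option autoImplicit false
universe u v w
open ModRep

open TensorProduct

namespace Groth.Agent.S13860

/-- For k a field of characteristic p > 0, G a finite group and P a Sylow p-subgroup of G, a short exact
sequence of k[G]-modules has a k[G]-linear splitting exactly when it has a k[P]-linear one. Stated
here for the surjection of the sequence: a G-equivariant k-linear map g : B → C between k-linear
representations of G admits a G-equivariant k-linear section if and only if it admits a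
P-equivariant k-linear section. -/
theorem result {k : Type u} [Field k] (p : ℕ) [Fact p.Prime]
    [CharP k p] {G : Type v} [Group G] [Finite G] (P : Sylow p G)
    {B C : Type w} [AddCommGroup B] [Module k B] [AddCommGroup C] [Module k C]
    (ρB : Representation k G B) (ρC : Representation k G C)
    (g : B →ₗ[k] C) (hg : ∀ x : G, g ∘ₗ ρB x = ρC x ∘ₗ g) :
    (∃ s : C →ₗ[k] B, g ∘ₗ s = LinearMap.id ∧ ∀ x : G, s ∘ₗ ρC x = ρB x ∘ₗ s) ↔
      (∃ s : C →ₗ[k] B, g ∘ₗ s = LinearMap.id ∧ ∀ x : G, x ∈ P → s ∘ₗ ρC x = ρB x ∘ₗ s) := by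
  classical
  refine ⟨fun ⟨s, h1, h2⟩ => ⟨s, h1, fun x _ => h2 x⟩, ?_⟩
  rintro ⟨s, hs, hP⟩
  haveI := Fintype.ofFinite (G ⧸ (P : Subgroup G))
  have hidx : ((Fintype.card (G ⧸ (P : Subgroup G)) : ℕ) : k) ≠ 0 := by
    rw [Ne, CharP.cast_eq_zero_iff k p, ← Nat.card_eq_fintype_card]
    exact P.not_dvd_index
  let F : G → (C →ₗ[k] B) := fun x => ρB x ∘ₗ s ∘ₗ ρC x⁻¹
  have hF : ∀ x y : G, x⁻¹ * y ∈ (P : Subgroup G) → F x = F y := by
    intro x y hxy
    obtain ⟨h, rfl⟩ : ∃ h, y = x * h := ⟨x⁻¹ * y, by group⟩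
    rw [inv_mul_cancel_left] at hxy
    refine LinearMap.ext fun c => ?_
    have := LinearMap.congr_fun (hP h hxy) (ρC h⁻¹ (ρC x⁻¹ c))
    simp only [LinearMap.comp_apply] at this
    rw [← Module.End.mul_apply, ← map_mul, mul_inv_cancel, map_one, Module.End.one_apply] at this
    simp only [F, LinearMap.comp_apply, mul_inv_rev, map_mul, Module.End.mul_apply, ← this]
  let Fq : G ⧸ (P : Subgroup G) → (C →ₗ[k] B) := Quotient.lift F fun x y h => hF x y (QuotientGroup.leftRel_apply.1 h)
  refine ⟨((Fintype.card (G ⧸ (P : Subgroup G)) : ℕ) : k)⁻¹ • ∑ q, Fq q, ?_, fun x => ?_⟩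
  · refine LinearMap.ext fun c => ?_
    have : ∀ q, g (Fq q c) = c := by
      intro q
      obtain ⟨z, rfl⟩ := QuotientGroup.mk_surjective q
      show g (ρB z (s (ρC z⁻¹ c))) = c
      rw [show g (ρB z (s (ρC z⁻¹ c))) = ρC z (g (s (ρC z⁻¹ c))) from LinearMap.congr_fun (hg z) _,
        show g (s (ρC z⁻¹ c)) = ρC z⁻¹ c from LinearMap.congr_fun hs _, ← Module.End.mul_apply, ← map_mul,
        mul_inv_cancel, map_one, Module.End.one_apply]
    simp only [LinearMap.comp_apply, LinearMap.smul_apply, map_smul, LinearMap.coe_sum, Finset.sum_apply, map_sum, this]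
    rw [Finset.sum_const, Finset.card_univ, ← Nat.cast_smul_eq_nsmul k, smul_smul, inv_mul_cancel₀ hidx, one_smul,
      LinearMap.id_apply]
  · refine LinearMap.ext fun c => ?_
    simp only [LinearMap.comp_apply, LinearMap.smul_apply, map_smul, LinearMap.coe_sum, Finset.sum_apply, map_sum]
    congr 1
    refine (Fintype.sum_equiv (MulAction.toPerm x) _ _ fun q => ?_).symm
    obtain ⟨z, rfl⟩ := QuotientGroup.mk_surjective q
    show ρB x (ρB z (s (ρC z⁻¹ c))) = ρB (x * z) (s (ρC (x * z)⁻¹ (ρC x c)))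
    simp only [map_mul, mul_inv_rev, Module.End.mul_apply]
    rw [← Module.End.mul_apply (ρC x⁻¹) (ρC x), ← map_mul, inv_mul_cancel, map_one, Module.End.one_apply]

end Groth.Agent.S13860
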