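import Groth.Statements.S13861
import Groth.Agent.ASCoverLib.H1Basis
-- import your own Groth.Agent.* helpers here

set_option autoImplicit false
universe u
open ASCover

namespace Groth.Agent.S13861

open Groth.Agent.ASCoverLib

theorem card_basisIdx (p : ℕ) (hp : 0 < p) (a : ℤ) (n : ℕ) :
    ((basisIdx p n a).card : ℤ) = n - (a - 1) / (p : ℤ) + (a - 1 - n) / (p : ℤ) := by
  have hstep : ∀ x : ℤ, x / (p : ℤ) = (x - 1) / (p : ℤ) + if (p : ℤ) ∣ x then 1 else 0 := by
    intro x
    have hp' : (0 : ℤ) < p := by exact_mod_cast hp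
    have h1 := Int.emod_add_mul_ediv x p
    have h2 := Int.emod_nonneg x hp'.ne'
    have h3 := Int.emod_lt_of_pos x hp'
    split_ifs with h
    · rw [Int.dvd_iff_emod_eq_zero] at h
      have : (x - 1) / (p : ℤ) = x / p - 1 :=
        ((Int.ediv_emod_unique hp').2 ⟨(by linarith : ((p : ℤ) - 1) + p * (x / p - 1) = x - 1), by omega, by omega⟩).1
      omega
    · rw [Int.dvd_iff_emod_eq_zero] at h
      have : (x - 1) / (p : ℤ) = x / p :=
        ((Int.ediv_emod_unique hp').2 ⟨(by linarith : (x % p - 1) + p * (x / p) = x - 1), by omega, by omega⟩).1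
      omega
  induction n with
  | zero => simp [basisIdx]
  | succ n ih =>
    have h := hstep (a - 1 - n)
    rw [show a - 1 - (n : ℤ) - 1 = a - 1 - ((n + 1 : ℕ) : ℤ) by push_cast; ring] at h
    have hins : Finset.Icc 1 (n + 1) = insert (n + 1) (Finset.Icc 1 n) :=
      (Finset.insert_Icc_right_eq_Icc_add_one (by omega)).symm
    have ha : a - ((n + 1 : ℕ) : ℤ) = a - 1 - (n : ℤ) := by push_cast; ring
    unfold basisIdx at ih ⊢
    rw [hins, Finset.filter_insert, ha]
    by_cases hd : (p : ℤ) ∣ a - 1 - n
    · rw [if_pos hd] at h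
      rw [if_neg (not_not.2 hd)]
      omega
    · rw [if_neg hd] at h
      rw [if_pos hd, Finset.card_insert_of_notMem (by simp)]
      push_cast at h ⊢
      omega


/-- Let k be an algebraically closed field of characteristic p > 0 and n ≥ 1 an integer prime to p; let
u ∈ k[[t]] be the power series with constant term 1 and u^n · (1 + t^n) = 1, so that t ↦ t·u = t(1 +
t^n)^(-1/n) defines a k-automorphism σ of k((t)) of order p (the action at a totally ramified point
of a ℤ/p-cover of curves with break n). For an integer a, the fractional ideal t^a·k[[t]] is stable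
under σ; transported to B = k[[t]] along h ↦ t^a·h the action of σ reads h ↦ u^a · h(t·u). For a
group G of order p generated by g acting on B through this map, the first group cohomology H^1(G, B)
is finite-dimensional over k, of dimension n − ⌊(a−1)/p⌋ + ⌊(a−1−n)/p⌋. (The published lemma also
identifies this H^1 with the cokernel of k((t))^G → (k((t))/t^a k[[t]])^G and names explicit
representatives t^i, a − n ≤ i ≤ a − 1 with p ∤ i, of a basis; those parts are not restated here.) -/
theorem result {k : Type u} [Field k] [IsAlgClosed k] (p : ℕ)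
    [Fact p.Prime] [CharP k p] (n : ℕ) (hn : 0 < n) (hpn : ¬ p ∣ n)
    (u : PowerSeries k) (hu1 : PowerSeries.constantCoeff u = 1)
    (hun : u ^ n * (1 + PowerSeries.X ^ n) = 1) (hu : IsUnit u) (a : ℤ)
    {G : Type u} [Group G] [Finite G] (g : G) (hG : Nat.card G = p)
    (hg : ∀ x : G, x ∈ Subgroup.zpowers g)
    (ρ : Representation k G (PowerSeries k))
    (hρ : ∀ h : PowerSeries k, ρ g h =
      ((hu.unit ^ a : (PowerSeries k)ˣ) : PowerSeries k) * PowerSeries.subst (PowerSeries.X * u) h) :
    Module.Finite k (groupCohomology.H1 (Rep.of ρ)) ∧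
      (Module.finrank k (groupCohomology.H1 (Rep.of ρ)) : ℤ) =
        n - (a - 1) / (p : ℤ) + (a - 1 - n) / (p : ℤ) := by
  have hn0 : (n : k) ≠ 0 := fun h => hpn ((CharP.cast_eq_zero_iff k p n).mp h)
  have hρ' : ρ g = tw hu.unit a := LinearMap.ext fun h => by rw [hρ, tw_apply, subU_apply]; rfl
  have hU1 : PowerSeries.constantCoeff (hu.unit : PowerSeries k) = 1 := hu1
  have hUn : (hu.unit : PowerSeries k) ^ n * (1 + PowerSeries.X ^ n) = 1 := hun
  obtain ⟨t, ht⟩ := exists_lead hU1 hUn hn hn0
  let b := Module.Basis.mk (leadClass_linearIndependent p hG hg hρ' hU1 hUn hn0 (fun e => (ht e).1) hn hpn)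
    (leadClass_span p hG hg hρ' hU1 hUn hn0 (fun e => (ht e).1) hn (fun e => (ht e).2)).ge
  refine ⟨Module.Finite.of_basis b, ?_⟩
  rw [Module.finrank_eq_card_basis b, Fintype.card_coe]
  exact card_basisIdx p (Fact.out : p.Prime).pos a n

end Groth.Agent.S13861
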