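import Groth.Statements.S13863
import Groth.Agent.ASCoverLib.Twist
-- import your own Groth.Agent.* helpers here

set_option autoImplicit false
universe u
open ASCover

namespace Groth.Agent.S13863

/-- For k an algebraically closed field of characteristic p > 0, n ≥ 1 an integer prime to p, and u ∈
k[[t]] the power series with constant term 1 and u^n · (1 + t^n) = 1, the substitution σ(t) = t·u is
a k-automorphism of k((t)) of order p and, for an integer a, σ acts on the fractional ideal I =
t^a·k[[t]]; transported to B = k[[t]] along h ↦ t^a·h this action is h ↦ u^a · h(t·u). For an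
integer i with a − n ≤ i ≤ a − 1 the element σ(t^i) − t^i lies in I, so t^i defines a class in
H^1(⟨σ⟩, I); the classes with p ∤ i form a basis of this H^1, and when p divides i the class
vanishes, i.e. σ(t^i) − t^i = σ(w) − w for some w ∈ I. (The published statement of this vanishing is
printed with the condition p ∤ i, which contradicts the basis assertion of the same lemma; its proof
treats p | i, and this row states that case.) In transported form, with m = a − i ∈ [1, n] and c ∈
k[[t]] defined by t^m · c = u^i − 1: there is h ∈ k[[t]] with u^a · h(t·u) − h = c. -/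
theorem result {k : Type u} [Field k] [IsAlgClosed k] (p : ℕ)
    [Fact p.Prime] [CharP k p] (n : ℕ) (hn : 0 < n) (hpn : ¬ p ∣ n)
    (u : PowerSeries k) (hu1 : PowerSeries.constantCoeff u = 1)
    (hun : u ^ n * (1 + PowerSeries.X ^ n) = 1) (hu : IsUnit u) (a : ℤ) (m : ℕ)
    (hm1 : 1 ≤ m) (hmn : m ≤ n) (hdvd : (p : ℤ) ∣ a - m) (c : PowerSeries k)
    (hc : PowerSeries.X ^ m * c = ((hu.unit ^ (a - m) : (PowerSeries k)ˣ) : PowerSeries k) - 1) :
    ∃ h : PowerSeries k,
      ((hu.unit ^ a : (PowerSeries k)ˣ) : PowerSeries k) * PowerSeries.subst (PowerSeries.X * u) h - h = c := by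
  have hn0 : (n : k) ≠ 0 := fun h => hpn ((CharP.cast_eq_zero_iff k p n).mp h)
  obtain ⟨v, s, hv, hinv⟩ := ASCoverLib.exists_invariant (u := u) p hn hn0 hu1 hun
  have hvu : IsUnit v := PowerSeries.isUnit_iff_constantCoeff.mpr (by simp [hv, hn.ne'])
  obtain ⟨q, hq⟩ := hdvd
  obtain ⟨t, ht, -⟩ := ASCoverLib.exists_zpow_eq_one_add hn hvu.unit hv q
  let σ : PowerSeries k →ₐ[k] PowerSeries k := PowerSeries.substAlgHom (ASCoverLib.hasSubst u)
  have hσ : ∀ z, PowerSeries.subst (PowerSeries.X * u) z = σ z := fun z => by rw [PowerSeries.coe_substAlgHom]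
  let σu : (PowerSeries k)ˣ →* (PowerSeries k)ˣ := Units.map σ.toMonoidHom
  let U := hu.unit
  let V := hvu.unit
  have hVU : U ^ (p : ℤ) * σu V = V := Units.ext (by
    rw [zpow_natCast]
    simpa [U, V, σu, hσ] using hinv)
  have hkey : U ^ (a - (m : ℤ)) * σu (V ^ q) = V ^ q := by
    rw [map_zpow, hq, zpow_mul, ← mul_zpow, hVU]
  refine ⟨-(PowerSeries.X ^ (n - m) * t), ?_⟩
  refine mul_left_cancel₀ (pow_ne_zero m PowerSeries.X_ne_zero) ?_
  rw [hσ]
  have hXm : PowerSeries.X ^ m * PowerSeries.X ^ (n - m) = (PowerSeries.X : PowerSeries k) ^ n := by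
    rw [← pow_add, Nat.add_sub_cancel' hmn]
  have hxσ : σ PowerSeries.X = PowerSeries.X * u := PowerSeries.substAlgHom_X (ASCoverLib.hasSubst u)
  have hT : PowerSeries.X ^ m * -(PowerSeries.X ^ (n - m) * t) = 1 - ((V ^ q : (PowerSeries k)ˣ) : PowerSeries k) := by
    rw [ht]
    linear_combination (-t) * hXm
  have hσT : PowerSeries.X ^ m * (u ^ m * σ (-(PowerSeries.X ^ (n - m) * t))) =
      1 - ((σu (V ^ q) : (PowerSeries k)ˣ) : PowerSeries k) := by
    have := congrArg σ hT
    rw [map_mul σ, map_pow σ, hxσ, map_sub, map_one] at this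
    rw [← mul_assoc, ← mul_pow, this]
    rfl
  have hum : ((U ^ a : (PowerSeries k)ˣ) : PowerSeries k) = ((U ^ (a - (m : ℤ)) : (PowerSeries k)ˣ) : PowerSeries k) * u ^ m := by
    rw [show a = a - (m : ℤ) + (m : ℤ) by ring, zpow_add, Units.val_mul, zpow_natCast, Units.val_pow_eq_pow_val]
    simp [U]
  have hk := congrArg Units.val hkey
  rw [Units.val_mul] at hk
  rw [hum, hc]
  linear_combination ((U ^ (a - (m : ℤ)) : (PowerSeries k)ˣ) : PowerSeries k) * hσT - hk - hT

end Groth.Agent.S13863
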