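import Groth.Statements.S13862
import Groth.Agent.ASCoverLib.H1Basis
import Groth.Agent.S13863
-- import your own Groth.Agent.* helpers here

set_option autoImplicit false
universe u
open ASCover

namespace Groth.Agent.S13862

open Groth.Agent.ASCoverLib PowerSeries

theorem derivative_lead {k : Type u} [Field k] {n : ℕ} (hn : 0 < n) (hn0 : (n : k) ≠ 0)
    {U : (k⟦X⟧)ˣ} (hUn : (U : k⟦X⟧) ^ n * (1 + X ^ n) = 1) {t : ℤ → k⟦X⟧}
    (ht : ∀ e, X ^ n * t e = ((U ^ e : (k⟦X⟧)ˣ) : k⟦X⟧) - 1) (m : ℕ) (hm : m ≤ n) :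
    derivative k (X ^ (n - m) * t (0 - m)) =
      if m + 1 ≤ n then -(m : k) • (X ^ (n - (m + 1)) * t (((n + 1 : ℕ) : ℤ) - (m + 1 : ℕ))) else 0 := by
  set c := X ^ (n - m) * t (0 - m) with hc
  set u : k⟦X⟧ := (U : k⟦X⟧) with hu
  have hXc : X ^ m * c = ((U ^ (0 - (m : ℤ)) : (k⟦X⟧)ˣ) : k⟦X⟧) - 1 := by
    rw [hc, ← mul_assoc, ← pow_add, Nat.add_sub_cancel' hm, ht]
  have h1 : (u ^ m) * (X ^ m * c) = 1 - u ^ m := by
    rw [hXc, mul_sub, mul_one, hu, ← Units.val_pow_eq_pow_val, ← Units.val_mul, ← zpow_natCast, ← zpow_add]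
    simp
  have h2 : u ^ (n - m) = ((U ^ (((n + 1 : ℕ) : ℤ) - (m + 1 : ℕ)) : (k⟦X⟧)ˣ) : k⟦X⟧) := by
    rw [show (((n + 1 : ℕ) : ℤ) - (m + 1 : ℕ)) = ((n - m : ℕ) : ℤ) by omega, zpow_natCast,
      Units.val_pow_eq_pow_val]
  have dU := congrArg (derivative k) hUn
  simp only [Derivation.leibniz, Derivation.leibniz_pow, map_add, Derivation.map_one_eq_zero, derivative_X,
    smul_eq_mul, mul_one, zero_add, nsmul_eq_mul] at dU
  have dc := congrArg (derivative k) h1
  simp only [Derivation.leibniz, Derivation.leibniz_pow, map_sub, Derivation.map_one_eq_zero, derivative_X,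
    smul_eq_mul, mul_one, zero_sub, nsmul_eq_mul] at dc
  set u' := derivative k u with hu'
  set c' := derivative k c with hc'
  have hu0 : u ≠ 0 := U.ne_zero
  have hn0' : (n : k⟦X⟧) ≠ 0 := by
    rw [← map_natCast (C (R := k))]
    exact (map_ne_zero_iff _ C_injective).2 hn0
  have hu'eq : u' = -(X ^ (n - 1)) * u ^ (n + 1) := by
    have e : u ^ n = u ^ (n - 1) * u := by rw [← pow_succ]; congr 1; omega
    have h3 : (n : k⟦X⟧) * (u' + X ^ (n - 1) * u ^ (n + 1)) = 0 := by
      rw [pow_succ]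
      linear_combination u * dU - (n : k⟦X⟧) * u' * hUn + ((n : k⟦X⟧) * u' * (1 + X ^ n)) * e
    have := (mul_eq_zero.1 h3).resolve_left hn0'
    linear_combination this
  rcases Nat.eq_zero_or_pos m with rfl | hm0
  · simp only [pow_zero, one_mul] at h1
    simp [hc', show c = 0 by linear_combination h1]
  have eX : (X : k⟦X⟧) ^ m = X ^ (m - 1) * X := by rw [← pow_succ]; congr 1; omega
  have eu : u ^ m = u ^ (m - 1) * u := by rw [← pow_succ]; congr 1; omega
  have eXn : (X : k⟦X⟧) ^ n = X ^ (n - 1) * X := by rw [← pow_succ]; congr 1; omega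
  have eun : u ^ n = u ^ m * u ^ (n - m) := by rw [← pow_add, Nat.add_sub_cancel' hm]
  have key : u ^ m * (X ^ (m + 1) * c') = u ^ m * (-(m : k⟦X⟧) * (u ^ (n - m) - 1)) := by
    have e3 : u ^ (m - 1) * u' * X = -(X ^ n * (u ^ m * u ^ n)) := by
      rw [hu'eq, eXn, eu, pow_succ]; ring
    have e4 : u ^ m * X ^ m * c' + u ^ m * ((m : k⟦X⟧) * X ^ (m - 1) * c) +
        (m : k⟦X⟧) * u ^ (m - 1) * u' * (X ^ m * c) = -((m : k⟦X⟧) * u ^ (m - 1) * u') := by
      linear_combination dc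
    rw [pow_succ]
    linear_combination X * e4 - (m : k⟦X⟧) * (1 + X ^ m * c) * e3 + (u ^ m * (m : k⟦X⟧) * c) * eX -
      (m : k⟦X⟧) * h1 + ((m : k⟦X⟧) * X ^ n * u ^ n) * h1 + (m : k⟦X⟧) * hUn - (m : k⟦X⟧) * eun
  have key' : X ^ (m + 1) * c' = -(m : k⟦X⟧) * (u ^ (n - m) - 1) := mul_left_cancel₀ (pow_ne_zero m hu0) key
  refine mul_left_cancel₀ (pow_ne_zero (m + 1) X_ne_zero) ?_
  rw [key']
  split_ifs with hmn
  · rw [mul_smul_comm, ← mul_assoc, ← pow_add, Nat.add_sub_cancel' hmn, ht, ← h2, smul_eq_C_mul, map_neg,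
      map_natCast]
  · rw [show n - m = 0 by omega]
    simp

theorem card_good (p n : ℕ) [Fact p.Prime] (hpn : ¬ p ∣ n) :
    (((Finset.Icc 1 n).filter fun m => ¬ p ∣ m ∧ ¬ p ∣ n - m).card : ℤ) =
      ((n + 1) * (p - 1) : ℤ) / p - 1 - (n - 1 : ℤ) / p := by
  have hp := (Fact.out : p.Prime).two_le
  have hn : 0 < n := Nat.pos_of_ne_zero fun h => hpn (h ▸ dvd_zero p)
  set q := (n - 1) / p with hq
  set r := (n - 1) % p with hr
  have hqr : r + p * q = n - 1 := Nat.mod_add_div _ _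
  have hrp : r < p := Nat.mod_lt _ (by omega)
  have hr' : r + 2 ≤ p := by
    by_contra hc
    exact hpn ⟨q + 1, by rw [Nat.mul_succ]; omega⟩
  let A := (Finset.Icc 1 n).filter fun m => p ∣ m
  let B := (Finset.Icc 1 n).filter fun m => p ∣ n - m
  have hA : A.card = q := by
    have h := Nat.Ioc_filter_dvd_card_eq_div n p
    rw [show n / p = q from Nat.div_eq_of_lt_le (by rw [mul_comm]; omega) (by rw [Nat.succ_mul, mul_comm q p]; omega)] at h
    exact h
  have hB : B.card = q + 1 := by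
    have h : B.card = ((Finset.range n).filter fun i => p ∣ i).card := by
      refine Finset.card_nbij' (fun m => n - m) (fun i => n - i) ?_ ?_ ?_ ?_
      · intro m hm
        simp only [B, Finset.coe_filter, Set.mem_setOf_eq, Finset.mem_Icc] at hm
        simp only [Finset.coe_filter, Set.mem_setOf_eq, Finset.mem_range]
        exact ⟨by omega, hm.2⟩
      · intro i hi
        simp only [Finset.coe_filter, Set.mem_setOf_eq, Finset.mem_range] at hi
        simp only [B, Finset.coe_filter, Set.mem_setOf_eq, Finset.mem_Icc]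
        exact ⟨⟨by omega, by omega⟩, by rw [show n - (n - i) = i by omega]; exact hi.2⟩
      · intro m hm
        simp only [B, Finset.coe_filter, Set.mem_setOf_eq, Finset.mem_Icc] at hm
        show n - (n - m) = m
        omega
      · intro i hi
        simp only [Finset.coe_filter, Set.mem_setOf_eq, Finset.mem_range] at hi
        show n - (n - i) = i
        omega
    have h3 : (Finset.range n).filter (fun i => p ∣ i) =
        insert 0 ((Finset.Ioc 0 (n - 1)).filter fun i => p ∣ i) := by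
      ext i
      simp only [Finset.mem_filter, Finset.mem_range, Finset.mem_insert, Finset.mem_Ioc]
      constructor
      · rintro ⟨h1, h2⟩
        rcases Nat.eq_zero_or_pos i with rfl | hi
        · exact Or.inl rfl
        · exact Or.inr ⟨⟨hi, by omega⟩, h2⟩
      · rintro (rfl | ⟨⟨h1, h2⟩, h3⟩)
        · exact ⟨hn, dvd_zero p⟩
        · exact ⟨by omega, h3⟩
    rw [h, h3, Finset.card_insert_of_notMem (by simp), Nat.Ioc_filter_dvd_card_eq_div]
  have hAB : Disjoint A B := by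
    rw [Finset.disjoint_filter]
    intro m hm h1 h2
    rw [Finset.mem_Icc] at hm
    exact hpn (by simpa [Nat.add_sub_cancel' hm.2] using dvd_add h1 h2)
  have hgood : ((Finset.Icc 1 n).filter fun m => ¬ p ∣ m ∧ ¬ p ∣ n - m) = Finset.Icc 1 n \ (A ∪ B) := by
    ext m
    simp only [A, B, Finset.mem_filter, Finset.mem_sdiff, Finset.mem_union]
    tauto
  rw [hgood, Finset.card_sdiff_of_subset (Finset.union_subset (Finset.filter_subset _ _) (Finset.filter_subset _ _)),
    Finset.card_union_of_disjoint hAB, hA, hB, Nat.card_Icc]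
  have hp' : (0 : ℤ) < p := by omega
  have hnz : (n : ℤ) = r + p * q + 1 := by
    have h : r + p * q + 1 = n := by omega
    exact_mod_cast h.symm
  have e1 : (n - 1 : ℤ) / p = q :=
    ((Int.ediv_emod_unique hp').2 ⟨(by linarith : (r : ℤ) + p * q = n - 1), by omega, by omega⟩).1
  have e2 : ((n + 1) * (p - 1) : ℤ) / p = n - q :=
    ((Int.ediv_emod_unique hp').2 ⟨(by rw [hnz]; ring : ((p : ℤ) - (r + 2)) + p * (n - q) = (n + 1) * (p - 1)),
      by omega, by omega⟩).1
  rw [e1, e2]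
  have : q + (q + 1) ≤ n := by nlinarith
  omega


/-- For k an algebraically closed field of characteristic p > 0, n ≥ 1 an integer prime to p, u ∈ k[[t]]
the power series with constant term 1 and u^n · (1 + t^n) = 1, and G a group of order p generated by
g, consider two k-linear actions of G on B = k[[t]]: ρ₀(g) h = h(t·u), i.e. B with its order-p
automorphism σ(t) = t·u, and ρ₁(g) h = u^(n+1) · h(t·u), which is the σ-module B·dt identified with
B through h·dt ↦ h (because d(σ t) = u^(n+1) dt). The derivative d/dt : (B, ρ₀) → (B, ρ₁) is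
G-equivariant, and the image of the map it induces on first group cohomology, H^1(G, (B, ρ₀)) →
H^1(G, (B, ρ₁)), is finite-dimensional over k of dimension ⌊(n+1)(p−1)/p⌋ − 1 − ⌊(n−1)/p⌋. This is
the dimension of the image of H^1(G, O) → H^1(G, Ω) at a ramified point with break n of a ℤ/p-cover
of smooth curves, computed in the completed local ring; the published statement is phrased for the
stalks, at a point of the quotient curve, of the direct images of the structure sheaf and of the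
sheaf of differentials, and its proof passes to this completed form. -/
theorem result {k : Type u} [Field k] [IsAlgClosed k] (p : ℕ)
    [Fact p.Prime] [CharP k p] (n : ℕ) (hn : 0 < n) (hpn : ¬ p ∣ n)
    (u : PowerSeries k) (hu1 : PowerSeries.constantCoeff u = 1)
    (hun : u ^ n * (1 + PowerSeries.X ^ n) = 1)
    {G : Type u} [Group G] [Finite G] (g : G) (hG : Nat.card G = p)
    (hg : ∀ x : G, x ∈ Subgroup.zpowers g)
    (ρ₀ ρ₁ : Representation k G (PowerSeries k))
    (hρ₀ : ∀ h : PowerSeries k, ρ₀ g h = PowerSeries.subst (PowerSeries.X * u) h)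
    (hρ₁ : ∀ h : PowerSeries k, ρ₁ g h = u ^ (n + 1) * PowerSeries.subst (PowerSeries.X * u) h)
    (φ : Rep.of ρ₀ ⟶ Rep.of ρ₁) (hφ : ∀ h : PowerSeries k, φ.hom h = PowerSeries.derivative k h) :
    Module.Finite k (LinearMap.range ((groupCohomology.functor k G 1).map φ).hom) ∧
      (Module.finrank k (LinearMap.range ((groupCohomology.functor k G 1).map φ).hom) : ℤ) =
        ((n + 1) * (p - 1) : ℤ) / p - 1 - (n - 1 : ℤ) / p := by
  classical
  have hn0 : (n : k) ≠ 0 := fun h => hpn ((CharP.cast_eq_zero_iff k p n).mp h)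
  have hu : IsUnit u := isUnit_iff_constantCoeff.mpr (by simp [hu1])
  have hU1 : constantCoeff (hu.unit : k⟦X⟧) = 1 := hu1
  have hUn : (hu.unit : k⟦X⟧) ^ n * (1 + X ^ n) = 1 := hun
  have h0 : ρ₀ g = tw hu.unit (0 : ℤ) := LinearMap.ext fun h => by
    rw [hρ₀, tw_apply, subU_apply, zpow_zero, Units.val_one, one_mul]; rfl
  have h1 : ρ₁ g = tw hu.unit ((n + 1 : ℕ) : ℤ) := LinearMap.ext fun h => by
    rw [hρ₁, tw_apply, subU_apply, zpow_natCast, Units.val_pow_eq_pow_val]; rfl
  obtain ⟨t, ht⟩ := exists_lead hU1 hUn hn hn0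
  have ht1 := fun e => (ht e).1
  let S := (Finset.Icc 1 n).filter fun m => ¬ p ∣ m ∧ ¬ p ∣ n - m
  let C1 := leadClass p hG hg h1 hU1 hUn hn0 ht1
  let ψ : groupCohomology.H1 (Rep.of ρ₀) →ₗ[k] groupCohomology.H1 (Rep.of ρ₁) :=
    ((groupCohomology.functor k G 1).map φ).hom
  have hmap : ∀ m, m ≤ n → ψ (leadClass p hG hg h0 hU1 hUn hn0 ht1 m) =
      if m + 1 ≤ n then -(m : k) • C1 (m + 1) else 0 := by
    intro m hm
    rw [leadClass, dif_pos hm]
    by_cases hmn : m + 1 ≤ n
    · rw [if_pos hmn]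
      simp only [C1, leadClass, dif_pos hmn]
      rw [← map_smul]
      refine map_classMap hg φ _ _ ((hφ _).trans ?_)
      rw [derivative_lead hn hn0 hUn ht1 m hm, if_pos hmn]
      rfl
    · rw [if_neg hmn, ← map_zero (classMap (Rep.of ρ₁) hg)]
      refine map_classMap hg φ _ 0 ((hφ _).trans ?_)
      rw [derivative_lead hn hn0 hUn ht1 m hm, if_neg hmn]
      rfl
  have hzero : ∀ m, m + 1 ≤ n → p ∣ n - m → C1 (m + 1) = 0 := by
    intro m hmn hd
    simp only [C1, leadClass, dif_pos hmn]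
    rw [classMap_eq_zero_iff]
    obtain ⟨h, hh⟩ := Groth.Agent.S13863.result p n hn hpn u hu1 hun hu ((n + 1 : ℕ) : ℤ) (m + 1) (by omega) hmn
      (by
        rw [show ((n + 1 : ℕ) : ℤ) - ((m + 1 : ℕ) : ℤ) = ((n - m : ℕ) : ℤ) by omega]
        exact_mod_cast hd)
      (X ^ (n - (m + 1)) * t (((n + 1 : ℕ) : ℤ) - (m + 1 : ℕ)))
      (by rw [← mul_assoc, ← pow_add, Nat.add_sub_cancel' hmn, ht1])
    refine ⟨h, ?_⟩
    show ρ₁ g h - h = _
    rw [h1, tw_apply, subU_apply]
    exact hh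
  have hS : ∀ m : S, 1 ≤ (m : ℕ) ∧ (m : ℕ) + 1 ≤ n ∧ ¬ p ∣ (m : ℕ) ∧ ¬ p ∣ n - m := by
    intro m
    obtain ⟨hI, h2, h3⟩ := Finset.mem_filter.1 m.2
    rw [Finset.mem_Icc] at hI
    refine ⟨hI.1, ?_, h2, h3⟩
    by_contra hc
    exact h3 (by rw [show n - (m : ℕ) = 0 by omega]; exact dvd_zero p)
  have hidx : ∀ m : S, (m : ℕ) + 1 ∈ basisIdx p n ((n + 1 : ℕ) : ℤ) := fun m => by
    obtain ⟨-, h2, -, h4⟩ := hS m
    refine Finset.mem_filter.2 ⟨Finset.mem_Icc.2 ⟨by omega, h2⟩, ?_⟩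
    rw [show ((n + 1 : ℕ) : ℤ) - (((m : ℕ) + 1 : ℕ) : ℤ) = ((n - m : ℕ) : ℤ) by omega]
    exact_mod_cast h4
  have hli : LinearIndependent k fun m : S => C1 ((m : ℕ) + 1) :=
    (leadClass_linearIndependent p hG hg h1 hU1 hUn hn0 ht1 hn hpn).comp (fun m : S => ⟨(m : ℕ) + 1, hidx m⟩)
      (fun a b h => Subtype.ext (by simpa using congrArg Subtype.val h))
  have hrange : LinearMap.range ψ = Submodule.span k (Set.range fun m : S => C1 ((m : ℕ) + 1)) := by
    rw [LinearMap.range_eq_map]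
    refine (congrArg (Submodule.map ψ)
      (leadClass_span p hG hg h0 hU1 hUn hn0 ht1 hn (fun e => (ht e).2)).symm).trans ?_
    refine (Submodule.map_span ψ _).trans ?_
    refine le_antisymm (Submodule.span_le.2 ?_) (Submodule.span_le.2 ?_)
    · rintro _ ⟨_, ⟨⟨m, hm⟩, rfl⟩, rfl⟩
      obtain ⟨hI, hpm⟩ := Finset.mem_filter.1 hm
      rw [Finset.mem_Icc] at hI
      rw [zero_sub, dvd_neg, Int.natCast_dvd_natCast] at hpm
      show ψ (leadClass p hG hg h0 hU1 hUn hn0 ht1 m) ∈ _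
      rw [hmap m hI.2]
      split_ifs with hmn
      · refine Submodule.smul_mem _ _ ?_
        by_cases hd : p ∣ n - m
        · rw [hzero m hmn hd]
          exact zero_mem _
        · exact Submodule.subset_span ⟨⟨m, Finset.mem_filter.2 ⟨Finset.mem_Icc.2 hI, hpm, hd⟩⟩, rfl⟩
      · exact zero_mem _
    · rintro _ ⟨m, rfl⟩
      obtain ⟨h11, h2, h3, -⟩ := hS m
      have hm0 : -((m : ℕ) : k) ≠ 0 := neg_ne_zero.2 fun h => h3 ((CharP.cast_eq_zero_iff k p _).1 h)
      have hmem : -((m : ℕ) : k) • C1 ((m : ℕ) + 1) = ψ (leadClass p hG hg h0 hU1 hUn hn0 ht1 m) := by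
        rw [hmap m (by omega), if_pos h2]
      refine (Submodule.smul_mem_iff _ hm0).1 ?_
      rw [hmem]
      refine Submodule.subset_span ⟨_, ⟨⟨m, Finset.mem_filter.2 ⟨Finset.mem_Icc.2 ⟨h11, by omega⟩, ?_⟩⟩, rfl⟩, rfl⟩
      rw [zero_sub, dvd_neg, Int.natCast_dvd_natCast]
      exact h3
  show Module.Finite k (LinearMap.range ψ) ∧ (Module.finrank k (LinearMap.range ψ) : ℤ) = _
  rw [hrange]
  refine ⟨Module.Finite.of_basis (Module.Basis.span hli), ?_⟩
  rw [finrank_span_eq_card hli, Fintype.card_coe]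
  exact card_good p n hpn

end Groth.Agent.S13862
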