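import Groth.Statements.S1387
import Groth.Agent.FlatMorDim.VerticalDivisor
import Groth.Agent.EGA43.SectionComp.Dim
import Groth.Agent.EGA43.Chevalley.Fibre
import Groth.Agent.FlatMorDim.Semicont

set_option autoImplicit false
universe u
open FlatMor

namespace Groth.Agent.S1387

open AlgebraicGeometry CategoryTheory Limits in
/-- Let f : X → S be dominant and locally of finite type with X and S irreducible, let η be the generic
point of S and s a point with dim X_s ≤ dim X_η, and let Z be a locally principal closed subscheme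
of X (its ideal sheaf is generated by one section on an affine neighbourhood of each point) whose
generic fibre is empty. Then, set-theoretically, the fibre of Z over s is a union of irreducible
components of the fibre of X over s. -/
theorem result {X S : Scheme.{u}} (f : X ⟶ S) [IrreducibleSpace ↑S] [IrreducibleSpace ↑X] [IsDominant f] [LocallyOfFiniteType f]
    (s : S) (hdim : topologicalKrullDim ↑(f.fiber s) ≤ topologicalKrullDim ↑(f.fiber (genericPoint ↑S)))
    (Z : X.IdealSheafData) (hZ : ∀ x : X, ∃ (U : X.Opens) (hU : IsAffineOpen U) (g : Γ(X, U)), x ∈ U ∧ Z.ideal ⟨U, hU⟩ = Ideal.span {g})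
    (hη : ∀ x ∈ (Z.support : Set ↑X), f x ≠ genericPoint ↑S) :
    ∀ x : ↑(f ⁻¹' {s}), (x : ↑X) ∈ (Z.support : Set ↑X) →
      ∃ C ∈ irreducibleComponents ↑(f ⁻¹' {s}), x ∈ C ∧ Subtype.val '' C ⊆ (Z.support : Set ↑X) := by
  open Groth.Agent in
  intro x hxZ
  by_contra hcon
  push Not at hcon
  -- the components through points of `Z` in the fibre
  haveI : QuasiSober ↑(f ⁻¹' {s}) :=
    (f.fiberHomeo s).symm.isOpenEmbedding.quasiSober
  have key : ∀ w : X, w ⤳ (x : X) → f w = s → w ∈ (Z.support : Set ↑X) →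
      ∃ ζ : X, f ζ = s ∧ EGA43.DimFormula.trdAt f w < EGA43.DimFormula.trdAt f ζ := by
    intro w hw hws hwZ
    let w' : ↑(f ⁻¹' {s}) := ⟨w, hws⟩
    obtain ⟨ζ, hζ⟩ := QuasiSober.sober (S := irreducibleComponent w')
      isIrreducible_irreducibleComponent isClosed_irreducibleComponent
    have hwx : w' ⤳ x := (subtype_specializes_iff _ _).2 hw
    have hxC : x ∈ irreducibleComponent w' :=
      hwx.mem_closed isClosed_irreducibleComponent mem_irreducibleComponent
    obtain ⟨c, hc, hcZ⟩ : ∃ c, c ∈ irreducibleComponent w' ∧ (c : X) ∉ (Z.support : Set ↑X) := by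
      obtain ⟨_, ⟨c, hc, rfl⟩, hcZ⟩ := Set.not_subset.1
        (hcon _ (irreducibleComponent_mem_irreducibleComponents w') hxC)
      exact ⟨c, hc, hcZ⟩
    have hζc : (ζ : X) ⤳ (c : X) := (subtype_specializes_iff _ _).1 (hζ.specializes hc)
    have hζw : (ζ : X) ⤳ w := (subtype_specializes_iff _ _).1 (hζ.specializes (y := w') mem_irreducibleComponent)
    refine ⟨ζ, ζ.2, EGA43.SectionComp.trdAt_lt f hζw ((show f ζ = s from ζ.2).trans hws.symm) fun e => ?_⟩
    exact hcZ (hζc.mem_closed Z.support.isClosed (e ▸ hwZ))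
  -- an affine chart
  obtain ⟨U, hU, g, hxU, hUg⟩ := hZ x
  obtain ⟨W, hW, hxW, -⟩ := exists_isAffineOpen_mem_and_subset (x := f x) (U := ⊤) (Set.mem_univ _)
  obtain ⟨V, hV, hxV, hVU⟩ := exists_isAffineOpen_mem_and_subset (x := (x : X)) (U := U ⊓ f ⁻¹ᵁ W)
    ⟨hxU, hxW⟩
  have e : V ≤ f ⁻¹ᵁ W := fun y hy => (hVU hy).2
  have hVU' : V ≤ U := fun y hy => (hVU hy).1
  let gV : Γ(X, V) := X.presheaf.map (homOfLE hVU').op g
  have hsupp : ∀ y (hy : y ∈ V), y ∈ (Z.support : Set ↑X) ↔ gV ∈ (hV.primeIdealOf ⟨y, hy⟩).asIdeal := by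
    intro y hy
    have h2 : y ∈ (Z.support : Set ↑X) ↔ y ∉ X.basicOpen g := by
      have h3 := Set.ext_iff.1 (Z.coe_support_inter ⟨U, hU⟩) y
      rw [hUg, Scheme.zeroLocus_span, Scheme.zeroLocus_singleton] at h3
      exact ⟨fun h => (h3.1 ⟨h, hVU' hy⟩).1, fun h => (h3.2 ⟨h, hVU' hy⟩).1⟩
    rw [h2]
    have h4 : y ∈ X.basicOpen g ↔ y ∈ X.basicOpen gV := by
      rw [Scheme.basicOpen_res]
      exact ⟨fun h => ⟨hy, h⟩, fun h => h.2⟩
    have h5 : hV.primeIdealOf ⟨y, hy⟩ ∈ hV.fromSpec ⁻¹ᵁ X.basicOpen gV ↔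
        hV.primeIdealOf ⟨y, hy⟩ ∈ PrimeSpectrum.basicOpen gV := by
      rw [hV.fromSpec_preimage_basicOpen, ← basicOpen_eq_of_affine]; rfl
    rw [h4, show y ∈ X.basicOpen gV ↔ hV.primeIdealOf ⟨y, hy⟩ ∈ hV.fromSpec ⁻¹ᵁ X.basicOpen gV by
      show _ ↔ hV.fromSpec (hV.primeIdealOf ⟨y, hy⟩) ∈ X.basicOpen gV
      rw [hV.fromSpec_primeIdealOf], h5, PrimeSpectrum.mem_basicOpen, not_not]
  -- generic points
  let ξ := genericPoint X
  have hξ : f ξ = genericPoint ↑S := by
    have hd : IsGenericPoint (f ξ) (Set.univ : Set ↑S) := by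
      have := (genericPoint_spec X).image f.continuous
      rwa [Set.image_univ, f.denseRange.closure_range] at this
    exact hd.eq (genericPoint_spec _)
  have hξV : ξ ∈ V := (genericPoint_specializes (x : X)).mem_open V.2 hxV
  -- the generic fibre
  let n := EGA43.DimFormula.trdAt f ξ
  have hn : ∀ ζ : X, f ζ = s → EGA43.DimFormula.trdAt f ζ ≤ n := fun ζ hζ => by
    have h1 : topologicalKrullDim ↑(f.fiber (genericPoint ↑S)) ≤ (n : WithBot ℕ∞) :=
      (FlatMorDim.fiber_dim_le_iff f _ n).2 fun y hy =>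
        EGA43.Chevalley.trdegHom_le_of_specializes f (genericPoint_specializes y) (hξ.trans hy.symm)
    exact (FlatMorDim.fiber_dim_le_iff f s n).1 (hdim.trans h1) ζ hζ
  obtain ⟨ζ, hζ, hlt⟩ := key x specializes_rfl x.2 hxZ
  have hn1 : 1 ≤ n := by
    have := hn ζ hζ
    omega
  -- horizontal lifting
  have hft := LocallyOfFiniteType.finiteType_appLE f hW hV e
  algebraize [(f.appLE W V e).hom]
  let z := hV.primeIdealOf ⟨ξ, hξV⟩
  let q := hV.primeIdealOf ⟨(x : X), hxV⟩
  have hcomap : ∀ y (hy : y ∈ V), (hV.primeIdealOf ⟨y, hy⟩).asIdeal.comap (algebraMap Γ(S, W) Γ(X, V)) =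
      (hW.primeIdealOf ⟨f y, e hy⟩).asIdeal := fun y hy =>
    EGA43.FibDepth.comap_primeIdealOf f hW hV e hy
  have hpt : ∀ q' : PrimeSpectrum Γ(X, V), ∃ hy : hV.fromSpec q' ∈ V, hV.primeIdealOf ⟨hV.fromSpec q', hy⟩ = q' :=
    fun q' => ⟨hV.range_fromSpec.le ⟨q', rfl⟩,
      hV.fromSpec.isOpenEmbedding.injective (hV.fromSpec_primeIdealOf _)⟩
  have hzle : z.asIdeal ≤ nilradical Γ(X, V) := by
    rw [nilradical_eq_sInf]
    refine le_sInf fun P hP => ?_
    obtain ⟨hy, hyq⟩ := hpt ⟨P, hP⟩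
    have h1 : z ⤳ (⟨P, hP⟩ : PrimeSpectrum Γ(X, V)) := by
      refine hV.fromSpec.isOpenEmbedding.isInducing.specializes_iff.1 ?_
      rw [hV.fromSpec_primeIdealOf]
      exact genericPoint_specializes _
    exact (PrimeSpectrum.le_iff_specializes z ⟨P, hP⟩).2 h1
  obtain ⟨P, hPq, hgP, hP⟩ := FlatMorDim.exists_horizontal_of_le_nilradical
    (hW.primeIdealOf ⟨f ξ, e hξV⟩) z hzle (hcomap ξ hξV) q ((hsupp x hxV).1 hxZ) (m := n - 1) (by
      rw [← EGA43.FibDepth.trdegHom_residueFieldMap f hW hV e hξV]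
      show n - 1 + 1 ≤ n
      omega) fun q' hle hc hg' => by
      obtain ⟨hy, hyq⟩ := hpt q'
      have hw : hV.fromSpec q' ⤳ (x : X) := by
        have := ((PrimeSpectrum.le_iff_specializes q' q).1 hle).map hV.fromSpec.continuous
        rwa [hV.fromSpec_primeIdealOf] at this
      have hws : f (hV.fromSpec q') = s := by
        have h1 := hcomap _ hy
        rw [hyq, hc, hcomap _ hxV] at h1
        have h2 := congrArg hW.fromSpec (PrimeSpectrum.ext h1)
        rw [hW.fromSpec_primeIdealOf, hW.fromSpec_primeIdealOf] at h2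
        exact h2.symm.trans x.2
      obtain ⟨ζ, hζ, hlt⟩ := key _ hw hws ((hsupp _ hy).2 (hyq.symm ▸ hg'))
      have h3 := EGA43.FibDepth.trdegHom_residueFieldMap f hW hV e hy
      rw [hyq] at h3
      rw [← h3]
      have := hn ζ hζ
      change DimLib.trdegHom _ ≤ n - 1
      simp only [EGA43.DimFormula.trdAt] at hlt this
      omega
  obtain ⟨hy, hyP⟩ := hpt P
  refine hη _ ((hsupp _ hy).2 (hyP.symm ▸ hgP)) ?_
  have h1 := hcomap _ hy
  rw [hyP, hP] at h1
  have h2 := congrArg hW.fromSpec (PrimeSpectrum.ext h1)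
  rw [hW.fromSpec_primeIdealOf, hW.fromSpec_primeIdealOf] at h2
  exact h2.symm.trans hξ

end Groth.Agent.S1387
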