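import Groth.Statements.S13875
import Mathlib
import Groth.Agent.PolLawLib.DetGeneric

set_option autoImplicit false
universe u
open scoped TensorProduct
open ZeroCyc

namespace Groth.Agent.S13875

/-- Affine form of the determinant law over a normal base. Let A be an integrally closed domain with
fraction field K, B a commutative A-algebra and M a B-module that is finitely generated as an
A-module (not necessarily flat over A), and let d be the generic rank of M, the dimension of the
K-vector space K ⊗_A M. Then there is exactly one multiplicative polynomial law N : B → A over A,
homogeneous of degree d, such that for every n and every x ∈ A[t_1, …, t_n] ⊗_A B the value N(x) ∈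
A[t_1, …, t_n], read in the fraction field L of A[t_1, …, t_n], is the determinant of x acting on
the finite-dimensional L-vector space L ⊗_A M. (Over a general test algebra the law is the unique
extension of these members; for M free of rank d over A it is the determinant law of M.) -/
theorem result {A B M : Type u} [CommRing A] [IsDomain A] [IsIntegrallyClosed A]
    [CommRing B] [Algebra A B] [AddCommGroup M] [Module A M] [Module B M] [IsScalarTower A B M] [Module.Finite A M]
    (d : ℕ) (hd : Module.finrank (FractionRing A) (FractionRing A ⊗[A] M) = d) :
    ∃! N : PolLaw.MulLaw A B A d, ∀ (n : ℕ) (x : MvPolynomial (Fin n) A ⊗[A] B),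
      algebraMap (MvPolynomial (Fin n) A) (FractionRing (MvPolynomial (Fin n) A))
          (TensorProduct.rid A (MvPolynomial (Fin n) A) (N.law.toFun' (MvPolynomial (Fin n) A) x)) =
        LinearMap.det (PolLaw.actEnd M (FractionRing (MvPolynomial (Fin n) A))
          (Algebra.TensorProduct.map
            (IsScalarTower.toAlgHom A (MvPolynomial (Fin n) A) (FractionRing (MvPolynomial (Fin n) A)))
            (AlgHom.id A B) x)) := by
  exact Groth.Agent.PolLawLib.existsUnique_detGeneric hd
end Groth.Agent.S13875
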