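import Groth.Statements.S13877
import Mathlib

set_option linter.all false

set_option autoImplicit false
universe u v
open Crimp


namespace Groth.Agent.S13877

/-- Over R = k⟦t⟧ with k an algebraically closed field of characteristic zero, let S' be a commutative
R-algebra with an R-basis of size d whose discriminant generates the ideal (t ^ a) (a finite cover
of the formal disk of degree d, unramified over the punctured disk, with branch divisor (t ^ a)),
and let S be an R-subalgebra of S' with an R-basis of size d whose discriminant generates (t ^ b) (a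
crimp with branch divisor (t ^ b)). Then t ^ b annihilates S' / S and twice the R-length of S' / S
plus a equals b. (The published statement is for a family of such subalgebras over a k-scheme T and
also asserts T-flatness of the quotient; this row is its restriction to T a point.) -/
theorem result {k : Type u} [Field k] [IsAlgClosed k] [CharZero k]
    {St : Type v} [CommRing St] [Algebra (PowerSeries k) St] (d a b : ℕ)
    (bt : Module.Basis (Fin d) (PowerSeries k) St)
    (ha : Ideal.span {Algebra.discr (PowerSeries k) ⇑bt} = Ideal.span {(PowerSeries.X : PowerSeries k) ^ a})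
    (S : Subalgebra (PowerSeries k) St) (bS : Module.Basis (Fin d) (PowerSeries k) S)
    (hb : Ideal.span {Algebra.discr (PowerSeries k) ⇑bS} = Ideal.span {(PowerSeries.X : PowerSeries k) ^ b}) :
    (∀ q : St ⧸ Subalgebra.toSubmodule S, ((PowerSeries.X : PowerSeries k) ^ b) • q = 0) ∧
    2 * Module.length (PowerSeries k) (St ⧸ Subalgebra.toSubmodule S) + (a : ℕ∞) = (b : ℕ∞) := by
  classical
  haveI : Module.Finite (PowerSeries k) St := Module.Finite.of_basis bt
  haveI : Module.Finite (PowerSeries k) S := Module.Finite.of_basis bS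
  haveI : Module.Free (PowerSeries k) St := Module.Free.of_basis bt
  haveI : Module.Free (PowerSeries k) S := Module.Free.of_basis bS
  set W := Subalgebra.toSubmodule S
  let P : Matrix (Fin d) (Fin d) (PowerSeries k) := bt.toMatrix (fun i => (bS i : St))
  have hP : Matrix.vecMul (⇑bt) (P.map (algebraMap (PowerSeries k) St)) = fun i => (bS i : St) := funext fun i => by
    simp only [Matrix.vecMul, dotProduct, Matrix.map_apply, P, Module.Basis.toMatrix_apply]
    conv_rhs => rw [← bt.sum_repr (bS i : St)]
    exact Finset.sum_congr rfl fun j _ => by rw [Algebra.smul_def, mul_comm]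
  have hdet : P.det ≠ 0 := by
    intro h
    obtain ⟨c, hc0, hc⟩ := Matrix.exists_mulVec_eq_zero_iff.2 h
    refine hc0 (funext fun i => Fintype.linearIndependent_iff.1 bS.linearIndependent c (Subtype.val_injective ?_) i)
    rw [AddSubmonoidClass.coe_finsetSum, ZeroMemClass.coe_zero]
    refine bt.ext_elem fun j => ?_
    have := congrFun hc j
    simp only [Matrix.mulVec, dotProduct, P, Module.Basis.toMatrix_apply, Pi.zero_apply] at this
    simp only [map_sum, map_smul, SetLike.val_smul, Finsupp.coe_finset_sum, Finset.sum_apply, Finsupp.smul_apply, map_zero, Finsupp.coe_zero,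
      Pi.zero_apply, smul_eq_mul, ← this]
    exact Finset.sum_congr rfl fun i _ => mul_comm _ _
  have hcol : ∀ i, (bS i : St) = ∑ j, P j i • bt j := fun i => (bt.sum_repr _).symm
  have htr : ∀ x : S, Algebra.trace (PowerSeries k) S x = Algebra.trace (PowerSeries k) St (x : St) := by
    intro x
    rw [Algebra.trace_eq_matrix_trace bS, Algebra.trace_eq_matrix_trace bt]
    set A := Algebra.leftMulMatrix bS x
    set B := Algebra.leftMulMatrix bt (x : St)
    have hcomm : B * P = P * A := by
      refine Matrix.ext fun j i => ?_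
      have h1 : (B * P) j i = bt.repr ((x : St) * (bS i : St)) j := by
        rw [hcol i, Finset.mul_sum, map_sum, Finsupp.coe_finset_sum, Finset.sum_apply, Matrix.mul_apply]
        refine Finset.sum_congr rfl fun l _ => ?_
        rw [mul_smul_comm, map_smul, Finsupp.smul_apply, smul_eq_mul, mul_comm (P l i)]
        simp only [B, Algebra.leftMulMatrix_eq_repr_mul]
      have h2 : (P * A) j i = bt.repr ((x * bS i : S) : St) j := by
        rw [← bS.sum_repr (x * bS i), AddSubmonoidClass.coe_finsetSum, map_sum, Finsupp.coe_finset_sum, Finset.sum_apply, Matrix.mul_apply]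
        refine Finset.sum_congr rfl fun l _ => ?_
        rw [SetLike.val_smul, map_smul, Finsupp.smul_apply, smul_eq_mul]
        simp only [A, Algebra.leftMulMatrix_eq_repr_mul]
        exact mul_comm _ _
      rw [h1, h2]; rfl
    refine mul_left_cancel₀ hdet ?_
    rw [← smul_eq_mul, ← smul_eq_mul, ← Matrix.trace_smul, ← Matrix.trace_smul,
      show P.det • A = P.adjugate * (P * A) by rw [← mul_assoc, Matrix.adjugate_mul, Matrix.smul_mul, one_mul],
      ← hcomm, Matrix.trace_mul_comm, mul_assoc, Matrix.mul_adjugate, Matrix.mul_smul, mul_one]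
  have hdiscr : Algebra.discr (PowerSeries k) ⇑bS = P.det ^ 2 * Algebra.discr (PowerSeries k) ⇑bt := by
    rw [← Algebra.discr_of_matrix_vecMul, hP, Algebra.discr_def, Algebra.discr_def]
    congr 1
    ext i j
    simp [Algebra.traceMatrix_apply, Algebra.traceForm_apply, htr]
  have hX : ∀ n : ℕ, Ring.ord (PowerSeries k) ((PowerSeries.X : PowerSeries k) ^ n) = n := fun n => by
    have h1 : Ring.ord (PowerSeries k) (PowerSeries.X : PowerSeries k) = 1 := by
      rw [Ring.ord]
      haveI : (Ideal.span {(PowerSeries.X : PowerSeries k)}).IsMaximal := by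
        rw [← PowerSeries.maximalIdeal_eq_span_X]; exact IsLocalRing.maximalIdeal.isMaximal _
      haveI : IsSimpleModule (PowerSeries k) (PowerSeries k ⧸ Ideal.span {(PowerSeries.X : PowerSeries k)}) :=
        isSimpleModule_iff_isCoatom.2 Ideal.IsMaximal.out
      exact Module.length_eq_one _ _
    rw [Ring.ord_pow (R := PowerSeries k) (mem_nonZeroDivisors_of_ne_zero PowerSeries.X_ne_zero), h1]; simp
  have hordC : ∀ (x : PowerSeries k) (n : ℕ), Ideal.span {x} = Ideal.span {(PowerSeries.X : PowerSeries k) ^ n} → Ring.ord (PowerSeries k) x = n := fun x n h => by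
    rw [← hX n]; unfold Ring.ord; rw [h]
  have hlen : Module.length (PowerSeries k) (St ⧸ W) = Ring.ord (PowerSeries k) P.det := by
    let bW : Module.Basis (Fin d) (PowerSeries k) W := bS.map (show S ≃ₗ[PowerSeries k] W from { toFun := fun x => ⟨x.1, x.2⟩, invFun := fun x => ⟨x.1, x.2⟩, map_add' := fun _ _ => rfl, map_smul' := fun _ _ => rfl })
    have hfr : Module.finrank (PowerSeries k) W = Module.finrank (PowerSeries k) St := by
      rw [Module.finrank_eq_card_basis bW, Module.finrank_eq_card_basis bt]
    let c := Submodule.smithNormalFormCoeffs bt hfr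
    let b' := Submodule.smithNormalFormTopBasis bt hfr
    let ab := Submodule.smithNormalFormBotBasis bt hfr
    have hab := Submodule.smithNormalFormBotBasis_def bt hfr
    rw [(Submodule.quotientEquivPiSpan W bt hfr).length_eq, Module.length_pi_of_fintype]
    have hPeq : P = bt.toMatrix ⇑b' * Matrix.diagonal c * ab.toMatrix ⇑bW := by
      refine Matrix.ext fun j i => ?_
      have h1 : (bS i : St) = ∑ l, ab.toMatrix (⇑bW) l i • (c l • b' l) := by
        have e := congrArg Subtype.val (ab.sum_repr (bW i))
        rw [AddSubmonoidClass.coe_finsetSum] at e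
        simp only [SetLike.val_smul, ab, hab] at e
        exact e.symm
      show bt.repr (bS i : St) j = _
      rw [h1, map_sum, Finsupp.coe_finset_sum, Finset.sum_apply, Matrix.mul_apply]
      refine Finset.sum_congr rfl fun l _ => ?_
      rw [Matrix.mul_diagonal, map_smul, map_smul, Finsupp.smul_apply, Finsupp.smul_apply, smul_eq_mul, smul_eq_mul, Module.Basis.toMatrix_apply, Module.Basis.toMatrix_apply]
      ring
    have hu1 : IsUnit (bt.toMatrix ⇑b').det := IsUnit.map Matrix.detMonoidHom
      ⟨⟨_, b'.toMatrix ⇑bt, bt.toMatrix_mul_toMatrix_flip b', b'.toMatrix_mul_toMatrix_flip bt⟩, rfl⟩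
    have hu2 : IsUnit (ab.toMatrix ⇑bW).det := IsUnit.map Matrix.detMonoidHom
      ⟨⟨_, bW.toMatrix ⇑ab, ab.toMatrix_mul_toMatrix_flip bW, bW.toMatrix_mul_toMatrix_flip ab⟩, rfl⟩
    rw [hPeq, Matrix.det_mul, Matrix.det_mul, Ring.ord_mul_of_isUnit_right (R := PowerSeries k) hu2, Ring.ord_mul_of_isUnit_left (R := PowerSeries k) hu1, Matrix.det_diagonal]
    have hc0 : ∀ i, c i ≠ 0 := fun i h => ab.ne_zero i (Subtype.val_injective (by rw [hab i]; simp [show Submodule.smithNormalFormCoeffs bt hfr i = 0 from h]))
    have : ∀ t : Finset (Fin d), Ring.ord (PowerSeries k) (∏ i ∈ t, c i) = ∑ i ∈ t, Ring.ord (PowerSeries k) (c i) := by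
      intro t
      induction t using Finset.induction_on with
      | empty => simp [Ring.ord_of_isUnit]
      | @insert i t hit ih =>
        rw [Finset.prod_insert hit, Finset.sum_insert hit, Ring.ord_mul (R := PowerSeries k) (mem_nonZeroDivisors_of_ne_zero (Finset.prod_ne_zero_iff.2 fun j _ => hc0 j)), ih]
    rw [this]
    rfl
  have hbdvd : P.det ∣ (PowerSeries.X : PowerSeries k) ^ b := by
    have h1 : Algebra.discr (PowerSeries k) ⇑bS ∣ (PowerSeries.X : PowerSeries k) ^ b :=
      Ideal.span_singleton_le_span_singleton.1 hb.ge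
    exact (Dvd.intro (P.det * Algebra.discr (PowerSeries k) ⇑bt) (by rw [hdiscr]; ring)).trans h1
  refine ⟨fun q => ?_, ?_⟩
  · obtain ⟨x, rfl⟩ := Submodule.Quotient.mk_surjective W q
    rw [← Submodule.Quotient.mk_smul, Submodule.Quotient.mk_eq_zero]
    obtain ⟨e, he⟩ := hbdvd
    rw [he, mul_comm, mul_smul]
    refine Submodule.smul_mem _ _ ?_
    rw [← bt.sum_repr x, Finset.smul_sum]
    refine Submodule.sum_mem _ fun l _ => ?_
    rw [smul_comm]
    refine Submodule.smul_mem _ _ ?_
    have : P.det • bt l = ∑ i, P.adjugate i l • (bS i : St) := by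
      simp only [hcol, Finset.smul_sum, smul_smul]
      rw [Finset.sum_comm]
      simp only [← Finset.sum_smul]
      have h2 : ∀ j, ∑ i, P.adjugate i l * P j i = if j = l then P.det else 0 := fun j => by
        have h3 := congrFun (congrFun (Matrix.mul_adjugate P) j) l
        simp only [Matrix.mul_apply, Matrix.smul_apply, Matrix.one_apply, smul_eq_mul, mul_ite, mul_one, mul_zero] at h3
        rw [← h3]; exact Finset.sum_congr rfl fun i _ => mul_comm _ _
      simp [h2]
    rw [this]
    exact Submodule.sum_mem _ fun i _ => Submodule.smul_mem _ _ (bS i).2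
  · have hd0 : Algebra.discr (PowerSeries k) ⇑bt ≠ 0 := fun h => by
      rw [h] at ha
      simp [Ideal.span_singleton_eq_bot, eq_comm (a := (⊥ : Ideal (PowerSeries k)))] at ha
    rw [hlen, ← hordC _ _ ha, ← hordC _ _ hb, hdiscr, Ring.ord_mul (R := PowerSeries k) (mem_nonZeroDivisors_of_ne_zero hd0),
      Ring.ord_pow (R := PowerSeries k) (mem_nonZeroDivisors_of_ne_zero hdet)]
    simp

end Groth.Agent.S13877
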