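import Groth.Statements.S13878
import Mathlib

set_option linter.all false

set_option autoImplicit false
universe u
open Crimp


namespace Groth.Agent.S13878

/-- Over R = k⟦t⟧ with k an algebraically closed field of characteristic zero, let S' = R × R × R (the
unramified triple cover of the formal disk) and let S be an R-submodule of S' containing 1 such that
S' / S is isomorphic to R / (t ^ m) ⊕ R / (t ^ n) with m ≤ n. Then t ^ n S' is contained in S, and
there is f in S', not lying in R·1 + t S', such that S = R·1 + R·(t ^ m f) + t ^ n S'. -/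
theorem result {k : Type u} [Field k] [IsAlgClosed k] [CharZero k] (m n : ℕ) (hmn : m ≤ n)
    (S : Submodule (PowerSeries k) (Fin 3 → PowerSeries k))
    (h1 : (1 : (Fin 3 → PowerSeries k)) ∈ S)
    (e : ((Fin 3 → PowerSeries k) ⧸ S) ≃ₗ[PowerSeries k]
      ((PowerSeries k ⧸ Ideal.span {(PowerSeries.X : PowerSeries k) ^ m}) × (PowerSeries k ⧸ Ideal.span {(PowerSeries.X : PowerSeries k) ^ n}))) :
    Ideal.span {(PowerSeries.X : PowerSeries k) ^ n} • (⊤ : Submodule (PowerSeries k) (Fin 3 → PowerSeries k)) ≤ S ∧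
    ∃ f : (Fin 3 → PowerSeries k),
      f ∉ Submodule.span (PowerSeries k) {(1 : (Fin 3 → PowerSeries k))} ⊔ Ideal.span {(PowerSeries.X : PowerSeries k)} • (⊤ : Submodule (PowerSeries k) (Fin 3 → PowerSeries k)) ∧
      S = Submodule.span (PowerSeries k) {(1 : (Fin 3 → PowerSeries k)), ((PowerSeries.X : PowerSeries k) ^ m) • f} ⊔
        Ideal.span {(PowerSeries.X : PowerSeries k) ^ n} • (⊤ : Submodule (PowerSeries k) (Fin 3 → PowerSeries k)) := by
  classical
  set T : PowerSeries k := PowerSeries.X
  let E : (Fin 3 → PowerSeries k) →ₗ[PowerSeries k] _ := e.toLinearMap ∘ₗ S.mkQ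
  have hE : ∀ x, E x = 0 ↔ x ∈ S := fun x => by simp [E]
  have hEsurj : Function.Surjective E := e.surjective.comp S.mkQ_surjective
  have hTkill : ∀ (j : ℕ) (c : PowerSeries k), c • Ideal.Quotient.mk (Ideal.span {T ^ j}) 1 = 0 ↔ T ^ j ∣ c := fun j c => by
    rw [show c • Ideal.Quotient.mk (Ideal.span {T ^ j}) 1 = Ideal.Quotient.mk (Ideal.span {T ^ j}) (c • 1) from rfl,
      Ideal.Quotient.eq_zero_iff_mem, smul_eq_mul, mul_one, Ideal.mem_span_singleton]
  have hle : Ideal.span {T ^ n} • (⊤ : Submodule (PowerSeries k) (Fin 3 → PowerSeries k)) ≤ S := by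
    rw [Submodule.ideal_span_singleton_smul]
    rintro _ ⟨x, -, rfl⟩
    show T ^ n • x ∈ S
    rw [← hE, map_smul]
    generalize E x = p
    obtain ⟨p, q⟩ := p
    obtain ⟨p, rfl⟩ := Ideal.Quotient.mk_surjective p
    obtain ⟨q, rfl⟩ := Ideal.Quotient.mk_surjective q
    refine Prod.ext ?_ ?_ <;> simp only [Prod.smul_fst, Prod.smul_snd, Prod.fst_zero, Prod.snd_zero]
    · exact Ideal.Quotient.eq_zero_iff_mem.2 (Ideal.mem_span_singleton.2 ((pow_dvd_pow T hmn).trans (dvd_mul_right _ _)))
    · exact Ideal.Quotient.eq_zero_iff_mem.2 (Ideal.mem_span_singleton.2 (dvd_mul_right _ _))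
  refine ⟨hle, ?_⟩
  let r : (Fin 3 → PowerSeries k) → (Fin 3 → k) := fun x i => PowerSeries.constantCoeff (x i)
  have hnotin : ∀ f, LinearIndependent k ![r 1, r f] → f ∉ Submodule.span (PowerSeries k) {(1 : (Fin 3 → PowerSeries k))} ⊔ Ideal.span {T} • ⊤ := by
    intro f hli hf
    rw [Submodule.ideal_span_singleton_smul] at hf
    obtain ⟨u, hu, v, hv, huv⟩ := Submodule.mem_sup.1 hf
    obtain ⟨a, rfl⟩ := Submodule.mem_span_singleton.1 hu
    obtain ⟨z, -, rfl⟩ := hv
    have h := Fintype.linearIndependent_iff.1 hli ![- PowerSeries.constantCoeff a, 1] ?_ 1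
    · simp at h
    · rw [← huv]
      funext i
      simp [r, Fin.sum_univ_two, T]
  by_cases hn : n = 0
  · subst hn
    have hm : m = 0 := by omega
    subst hm
    refine ⟨Pi.single 0 1, hnotin _ ?_, ?_⟩
    · rw [LinearIndependent.pair_iff]
      intro s t hst
      have e1 := congrFun hst 1
      have e0 := congrFun hst 0
      simp [r] at e0 e1
      subst e1; simp at e0; exact ⟨rfl, e0⟩
    · have ht : Ideal.span {T ^ 0} • (⊤ : Submodule (PowerSeries k) (Fin 3 → PowerSeries k)) = ⊤ := by
        rw [pow_zero, Ideal.span_singleton_one, Submodule.top_smul]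
      rw [ht] at hle ⊢
      rw [sup_top_eq, top_le_iff.1 hle]
  obtain ⟨g₂, hg₂⟩ := hEsurj (0, Ideal.Quotient.mk _ 1)
  have hT : ∀ c : PowerSeries k, PowerSeries.constantCoeff c = 0 ↔ T ∣ c := fun c => PowerSeries.X_dvd_iff.symm
  -- relations mod T
  have hlift : ∀ x : Fin 3 → PowerSeries k, r x = 0 → ∃ z, x = T • z := by
    intro x hx
    choose z hz using fun i => (hT (x i)).1 (congrFun hx i)
    exact ⟨z, funext fun i => by simp [hz i]⟩
  have hrel : ∀ (g : Fin 3 → PowerSeries k) (a b c : k), a • r 1 + b • r g + c • r g₂ = 0 →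
      ∃ z, PowerSeries.C a • (1 : Fin 3 → PowerSeries k) + PowerSeries.C b • g + PowerSeries.C c • g₂ = T • z := by
    intro g a b c h
    refine hlift _ ?_
    rw [← h]; funext i; simp [r]
  have hpair : ∀ a c : k, a • r 1 + c • r g₂ = 0 → a = 0 ∧ c = 0 := by
    intro a c h
    obtain ⟨z, hz⟩ := hrel 0 a 0 c (by simpa using h)
    have h' := congrArg (fun p => (E p).2) hz
    simp only [map_add, map_smul, (hE 1).2 h1, hg₂, Prod.snd_add, Prod.smul_snd] at h'
    obtain ⟨q, hq⟩ := Ideal.Quotient.mk_surjective (E z).2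
    rw [← hq] at h'
    simp only [map_zero, Prod.snd_zero, smul_zero, zero_add] at h'
    have hd : T ^ n ∣ PowerSeries.C c - T * q := Ideal.mem_span_singleton.1 ((Ideal.Quotient.eq).1 (by
      rw [← smul_eq_mul T q, ← mul_one (PowerSeries.C c), ← smul_eq_mul (PowerSeries.C c) 1]; exact h'))
    have hc : c = 0 := by
      have := (hT _).2 ((dvd_pow_self T hn).trans hd)
      simpa [T] using this
    subst hc
    refine ⟨?_, rfl⟩
    have := congrFun h 0
    simpa [r] using this
  obtain ⟨g, hg2, hg1, hli⟩ : ∃ g, (E g).2 = 0 ∧ (E g).1 = Ideal.Quotient.mk _ 1 ∧ LinearIndependent k ![r 1, r g, r g₂] := by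
    rcases Nat.eq_zero_or_pos m with hm | hm
    · subst hm
      haveI : Subsingleton (PowerSeries k ⧸ Ideal.span {T ^ 0}) := Ideal.Quotient.subsingleton_iff.2 (by simp)
      obtain ⟨w, hw⟩ : ∃ w : Fin 3 → k, w ∉ Submodule.span k (Set.range ![r 1, r g₂]) := by
        by_contra h'
        push Not at h'
        have h : Submodule.span k (Set.range ![r 1, r g₂]) = ⊤ := eq_top_iff.2 fun w _ => h' w
        have h2 := finrank_range_le_card (R := k) ![r 1, r g₂]
        rw [Set.finrank, h, finrank_top] at h2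
        simp at h2
      let wl : Fin 3 → PowerSeries k := fun i => PowerSeries.C (w i)
      obtain ⟨d, hd⟩ := Ideal.Quotient.mk_surjective (E wl).2
      refine ⟨wl - d • g₂, ?_, Subsingleton.elim _ _, ?_⟩
      · rw [map_sub, map_smul, Prod.snd_sub, Prod.smul_snd, hg₂, ← hd, sub_eq_zero]
        show _ = Ideal.Quotient.mk _ (d • 1)
        rw [smul_eq_mul, mul_one]
      · rw [Fintype.linearIndependent_iff]
        intro c hc
        simp [Fin.sum_univ_three] at hc
        have e0 : r (wl - d • g₂) = w - PowerSeries.constantCoeff d • r g₂ := by funext i; simp [r, wl]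
        rw [e0] at hc
        by_cases h : c 1 = 0
        · rw [h, zero_smul, add_zero] at hc
          obtain ⟨h0, h2⟩ := hpair _ _ hc
          intro i; fin_cases i <;> assumption
        · refine absurd ?_ hw
          have : w = (-(c 1)⁻¹ * c 0) • r 1 + (PowerSeries.constantCoeff d - (c 1)⁻¹ * c 2) • r g₂ := by
            linear_combination (norm := skip) (c 1)⁻¹ • hc
            funext i
            simp
            field_simp
            ring
          rw [this]
          exact add_mem (Submodule.smul_mem _ _ (Submodule.subset_span ⟨0, rfl⟩)) (Submodule.smul_mem _ _ (Submodule.subset_span ⟨1, rfl⟩))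
    · obtain ⟨g, hg⟩ := hEsurj (Ideal.Quotient.mk _ 1, 0)
      refine ⟨g, by rw [hg], by rw [hg], ?_⟩
      rw [Fintype.linearIndependent_iff]
      intro c hc
      simp [Fin.sum_univ_three] at hc
      obtain ⟨z, hz⟩ := hrel g (c 0) (c 1) (c 2) hc
      have h' := congrArg (fun p => (E p).1) hz
      simp only [map_add, map_smul, (hE 1).2 h1, hg₂, hg, smul_zero, zero_add, Prod.smul_fst, Prod.fst_add, Prod.fst_zero, add_zero] at h'
      obtain ⟨q, hq⟩ := Ideal.Quotient.mk_surjective (E z).1
      rw [← hq] at h'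
      have hd : T ^ m ∣ PowerSeries.C (c 1) - T * q := Ideal.mem_span_singleton.1 ((Ideal.Quotient.eq).1 (by
        rw [← smul_eq_mul T q, ← mul_one (PowerSeries.C (c 1)), ← smul_eq_mul (PowerSeries.C (c 1)) 1]; exact h'))
      have h1' : c 1 = 0 := by
        have := (hT _).2 ((dvd_pow_self T (by omega)).trans hd)
        simpa [T] using this
      rw [h1', zero_smul, add_zero] at hc
      obtain ⟨h0, h2⟩ := hpair _ _ hc
      intro i; fin_cases i <;> assumption
  refine ⟨g, hnotin g ?_, le_antisymm (fun x hx => ?_) (sup_le (Submodule.span_le.2 ?_) hle)⟩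
  · have := hli.comp ![0, 1] (by decide)
    convert this using 1
    funext i; fin_cases i <;> rfl
  · let A : Matrix (Fin 3) (Fin 3) (PowerSeries k) := Matrix.of ![(1 : Fin 3 → PowerSeries k), g, g₂]
    have hAu : IsUnit A := by
      rw [Matrix.isUnit_iff_isUnit_det, PowerSeries.isUnit_iff_constantCoeff, RingHom.map_det, ← Matrix.isUnit_iff_isUnit_det,
        ← Matrix.linearIndependent_rows_iff_isUnit]
      convert hli using 1
      funext i; fin_cases i <;> rfl
    obtain ⟨c, hc⟩ := Matrix.vecMul_surjective_iff_isUnit.2 hAu x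
    have hx' : x = c 0 • 1 + c 1 • g + c 2 • g₂ := by
      rw [← hc]; funext i; simp [Matrix.vecMul, dotProduct, Fin.sum_univ_three, A]
    rw [hx'] at hx ⊢
    have hEx := (hE _).2 hx
    rw [map_add, map_add, map_smul, map_smul, map_smul, (hE 1).2 h1, hg₂, smul_zero, zero_add] at hEx
    have ha := congrArg Prod.fst hEx
    have hb := congrArg Prod.snd hEx
    simp only [Prod.fst_add, Prod.smul_fst, hg1, smul_zero, add_zero, Prod.fst_zero] at ha
    simp only [Prod.snd_add, Prod.smul_snd, hg2, smul_zero, zero_add, Prod.snd_zero] at hb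
    obtain ⟨p, hp⟩ := (hTkill m (c 1)).1 ha
    obtain ⟨q, hq⟩ := (hTkill n (c 2)).1 hb
    refine add_mem (Submodule.mem_sup_left (add_mem (Submodule.smul_mem _ _ (Submodule.subset_span (Or.inl rfl))) ?_)) (Submodule.mem_sup_right ?_)
    · rw [hp, mul_comm, mul_smul]; exact Submodule.smul_mem _ _ (Submodule.subset_span (Or.inr rfl))
    · rw [hq, mul_smul]; exact Submodule.smul_mem_smul (Ideal.mem_span_singleton_self _) trivial
  · rintro y (rfl | rfl)
    · exact h1
    · refine (hE _).1 ?_
      rw [map_smul]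
      refine Prod.ext ?_ ?_
      · rw [Prod.smul_fst, hg1, Prod.fst_zero]; exact (hTkill m _).2 dvd_rfl
      · rw [Prod.smul_snd, hg2, smul_zero, Prod.snd_zero]

end Groth.Agent.S13878
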