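import Groth.Statements.S13879
import Mathlib
import Groth.Prelude
import Groth.Agent.CAlgMisc2.Normal

set_option linter.all false

set_option autoImplicit false
universe u
open Crimp

open AlgebraicGeometry CategoryTheory DirectSum

namespace Groth.Agent.S13879

/-- Over R = k⟦t⟧ with k an algebraically closed field of characteristic zero, let S' = R × R × R and
let S be the R-submodule R·1 + R·(t ^ m f) + t ^ n S' of S' for some f in S' and natural numbers m,
n. Then S is closed under multiplication (equivalently, is an R-subalgebra of S') if and only if t ^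
(2m) f ^ 2 lies in S. (The published statement has m ≤ n and S' / S isomorphic to R / (t ^ m) ⊕ R /
(t ^ n), under which S has this shape; this row states the criterion for every submodule of this
shape.) -/
theorem result {k : Type u} [Field k] [IsAlgClosed k] [CharZero k] (m n : ℕ) (f : (Fin 3 → PowerSeries k))
    (S : Submodule (PowerSeries k) (Fin 3 → PowerSeries k))
    (hS : S = Submodule.span (PowerSeries k) {(1 : (Fin 3 → PowerSeries k)), ((PowerSeries.X : PowerSeries k) ^ m) • f} ⊔
        Ideal.span {(PowerSeries.X : PowerSeries k) ^ n} • (⊤ : Submodule (PowerSeries k) (Fin 3 → PowerSeries k))) :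
    (∀ x ∈ S, ∀ y ∈ S, x * y ∈ S) ↔ ((PowerSeries.X : PowerSeries k) ^ (2 * m)) • (f * f) ∈ S := by
  let R := PowerSeries k
  let t : R := PowerSeries.X
  constructor
  · intro h
    have hmem : t ^ m • f ∈ S := hS ▸ Submodule.mem_sup_left (Submodule.subset_span (by simp [t]))
    have := h _ hmem _ hmem
    rwa [smul_mul_smul_comm, ← pow_add, ← two_mul] at this
  · intro h x hx y hy
    have hdec : ∀ z ∈ S, ∃ (a b : R) (w : Fin 3 → R), z = a • 1 + b • (t ^ m • f) + t ^ n • w := by
      intro z hz
      rw [hS] at hz
      obtain ⟨u, hu, v, hv, rfl⟩ := Submodule.mem_sup.1 hz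
      obtain ⟨a, b, rfl⟩ := Submodule.mem_span_pair.1 hu
      rw [Submodule.ideal_span_singleton_smul] at hv
      obtain ⟨w, -, rfl⟩ := hv
      exact ⟨a, b, w, rfl⟩
    obtain ⟨a, b, w, rfl⟩ := hdec x hx
    obtain ⟨a', b', w', rfl⟩ := hdec y hy
    have h1 : (1 : Fin 3 → R) ∈ S := hS ▸ Submodule.mem_sup_left (Submodule.subset_span (by simp))
    have h2 : t ^ m • f ∈ S := hS ▸ Submodule.mem_sup_left (Submodule.subset_span (by simp [t]))
    have h3 : ∀ z : Fin 3 → R, t ^ n • z ∈ S := fun z =>
      hS ▸ Submodule.mem_sup_right (Submodule.smul_mem_smul (Ideal.mem_span_singleton_self _) trivial)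
    have he : (a • 1 + b • (t ^ m • f) + t ^ n • w) * (a' • 1 + b' • (t ^ m • f) + t ^ n • w') =
        (a * a') • 1 + (a * b' + b * a') • (t ^ m • f) + (b * b') • (t ^ (2 * m) • (f * f)) +
          t ^ n • (w * (a' • 1 + b' • (t ^ m • f) + t ^ n • w') + (a • 1 + b • (t ^ m • f)) * w') := by
      funext i
      simp only [Pi.add_apply, Pi.mul_apply, Pi.smul_apply, Pi.one_apply, smul_eq_mul, two_mul, pow_add]
      ring
    rw [he]
    exact add_mem (add_mem (add_mem (S.smul_mem _ h1) (S.smul_mem _ h2)) (S.smul_mem _ h)) (h3 _)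

end Groth.Agent.S13879
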