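import Groth.Statements.S13882


set_option autoImplicit false
universe u
open FinCov

namespace Groth.Agent.S13882

/-- Over a field K of characteristic zero, the functor that sends a K-scheme S to the set of isomorphism
classes of pairs (A, τ) of an O_S-algebra A and an O_S-module isomorphism τ from A to the free
module of rank d, equivalently to the set of commutative unital algebra structures on the rank-d
free module with its standard basis, is represented by an affine K-scheme of finite type. Stated on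
affine K-schemes in one universe: there is a finitely generated commutative K-algebra B with
bijections between K-algebra maps B → A and based algebra structures of rank d over A, natural in
the commutative K-algebra A. -/
theorem result (K : Type u) [Field K] [CharZero K] (d : ℕ) :
    ∃ (B : Type u) (_ : CommRing B) (_ : Algebra K B) (_ : Algebra.FiniteType K B)
      (η : ∀ (A : Type u) [CommRing A] [Algebra K A], (B →ₐ[K] A) ≃ W4c1hurwitzcpt.BasedAlg d A),
      ∀ (A A' : Type u) [CommRing A] [Algebra K A] [CommRing A'] [Algebra K A']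
        (f : A →ₐ[K] A') (g : B →ₐ[K] A),
        η A' (f.comp g) = (η A g).map f.toRingHom := by
  classical
  let c : Fin d → Fin d → Fin d → (MvPolynomial (Fin d × Fin d × Fin d ⊕ Fin d) K) := fun i j k => MvPolynomial.X (Sum.inl (i, j, k))
  let u : Fin d → (MvPolynomial (Fin d × Fin d × Fin d ⊕ Fin d) K) := fun i => MvPolynomial.X (Sum.inr i)
  let rel : Set (MvPolynomial (Fin d × Fin d × Fin d ⊕ Fin d) K) :=
    Set.range (fun t : Fin d × Fin d × Fin d => c t.1 t.2.1 t.2.2 - c t.2.1 t.1 t.2.2) ∪
    Set.range (fun t : Fin d × Fin d × Fin d × Fin d => (∑ k, c t.1 t.2.1 k * c k t.2.2.1 t.2.2.2) -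
      ∑ k, c t.2.1 t.2.2.1 k * c t.1 k t.2.2.2) ∪
    Set.range (fun t : Fin d × Fin d => (∑ i, u i * c i t.1 t.2) - if t.1 = t.2 then 1 else 0)
  let I := Ideal.span rel
  let π : (MvPolynomial (Fin d × Fin d × Fin d ⊕ Fin d) K) →ₐ[K] (MvPolynomial (Fin d × Fin d × Fin d ⊕ Fin d) K) ⧸ I := Ideal.Quotient.mkₐ K I
  let univ : W4c1hurwitzcpt.BasedAlg d ((MvPolynomial (Fin d × Fin d × Fin d ⊕ Fin d) K) ⧸ I) :=
    { c := fun i j k => π (c i j k)
      u := fun i => π (u i)
      comm := fun i j k => Ideal.Quotient.eq.2 (Ideal.subset_span (Or.inl (Or.inl ⟨(i, j, k), rfl⟩)))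
      assoc := fun i j l m => by
        simp only [← map_mul, ← map_sum]
        exact Ideal.Quotient.eq.2 (Ideal.subset_span (Or.inl (Or.inr ⟨(i, j, l, m), rfl⟩)))
      unit := fun j m => by
        simp only [← map_mul, ← map_sum]
        rw [show (if j = m then (1 : (MvPolynomial (Fin d × Fin d × Fin d ⊕ Fin d) K) ⧸ I) else 0) = π (if j = m then 1 else 0) by split <;> simp]
        exact Ideal.Quotient.eq.2 (Ideal.subset_span (Or.inr ⟨(j, m), rfl⟩)) }
  have hv : ∀ (A : Type u) [CommRing A] [Algebra K A] (s : W4c1hurwitzcpt.BasedAlg d A),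
      I ≤ RingHom.ker (MvPolynomial.aeval (R := K) (Sum.elim (fun t : Fin d × Fin d × Fin d => s.c t.1 t.2.1 t.2.2) s.u) : (MvPolynomial (Fin d × Fin d × Fin d ⊕ Fin d) K) →ₐ[K] A) := by
    intro A _ _ s
    refine Ideal.span_le.2 ?_
    rintro x ((⟨t, rfl⟩ | ⟨t, rfl⟩) | ⟨t, rfl⟩)
    · simp [c, s.comm t.1 t.2.1]
    · simp [c, s.assoc t.1 t.2.1 t.2.2.1 t.2.2.2]
    · simp [c, u, s.unit t.1 t.2]
  refine ⟨(MvPolynomial (Fin d × Fin d × Fin d ⊕ Fin d) K) ⧸ I, inferInstance, inferInstance, inferInstance, fun A _ _ =>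
    { toFun := fun g => univ.map g.toRingHom
      invFun := fun s => Ideal.Quotient.liftₐ I
        (MvPolynomial.aeval (Sum.elim (fun t : Fin d × Fin d × Fin d => s.c t.1 t.2.1 t.2.2) s.u))
        (fun a ha => hv A s ha)
      left_inv := fun g => ?_
      right_inv := fun s => ?_ }, fun A A' _ _ _ _ f g => ?_⟩
  · refine Ideal.Quotient.algHom_ext _ (MvPolynomial.algHom_ext fun v => ?_)
    rcases v with ⟨i, j, k⟩ | i <;>
      simp [univ, W4c1hurwitzcpt.BasedAlg.map, π, c, u]
  · ext <;> simp [univ, W4c1hurwitzcpt.BasedAlg.map, π, c, u]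
  · ext <;> rfl

end Groth.Agent.S13882
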