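import Groth.Statements.S13885
import Groth.Agent.RootDiskLib

set_option autoImplicit false
universe u
open Crimp

namespace Groth.Agent.S13885

/-- Over R = k⟦t⟧ with k an algebraically closed field of characteristic zero, let S' = k⟦x⟧ × R, where
k⟦x⟧ is regarded as an R-algebra through t ↦ x ^ 2, that is S' = R[x] / (x ^ 2 - t) ⊕ R, the smooth
simply ramified triple cover of the formal disk, with R embedded diagonally. If M is an R-submodule
of S' containing 1 which is free of rank 3, then M is spanned by 1, (f₁, 0) and (f₂, 0) for some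
power series f₁, f₂ whose x-adic valuations are distinct modulo 2. (Items (2) and (3) of the
published proposition, on the base change of M to R[s] / (s ^ 2 - t), are not restated.) -/
theorem result {k : Type u} [Field k] [IsAlgClosed k] [CharZero k]
    (M : Submodule (PowerSeries k) (W4c1hurwitzcpt.RootDisk 2 k × PowerSeries k))
    (h1 : (1 : (W4c1hurwitzcpt.RootDisk 2 k × PowerSeries k)) ∈ M)
    (bM : Module.Basis (Fin 3) (PowerSeries k) M) :
    ∃ f₁ f₂ : W4c1hurwitzcpt.RootDisk 2 k,
      ¬ Nat.ModEq 2 (PowerSeries.order (W4c1hurwitzcpt.RootDisk.val (f₁ : W4c1hurwitzcpt.RootDisk 2 k))).toNat (PowerSeries.order (W4c1hurwitzcpt.RootDisk.val (f₂ : W4c1hurwitzcpt.RootDisk 2 k))).toNat ∧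
      M = Submodule.span (PowerSeries k) {(1 : (W4c1hurwitzcpt.RootDisk 2 k × PowerSeries k)), (f₁, 0), (f₂, 0)} := by
  classical
  let A := W4c1hurwitzcpt.RootDisk 2 k
  let R := PowerSeries k
  let M' : Submodule R A := M.comap (LinearMap.inl R A R)
  have hM' : ∀ f, f ∈ M' ↔ ((f, 0) : A × R) ∈ M := fun f => Iff.rfl
  have hkey : ∀ x ∈ M, x.1 - algebraMap R A x.2 ∈ M' := fun x hx => by
    have := M.sub_mem hx (M.smul_mem x.2 h1)
    rw [hM']
    convert this using 1
    ext1 <;> simp [Algebra.algebraMap_eq_smul_one]
  let e : M ≃ₗ[R] R × M' :=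
  { toFun := fun x => (x.1.2, ⟨x.1.1 - algebraMap R A x.1.2, hkey _ x.2⟩)
    invFun := fun y => ⟨(algebraMap R A y.1 + (y.2 : A), y.1), by
      have := M.add_mem (M.smul_mem y.1 h1) ((hM' _).1 y.2.2)
      convert this using 1
      ext1 <;> simp [Algebra.algebraMap_eq_smul_one]⟩
    map_add' := fun x y => by
      refine Prod.ext rfl (Subtype.ext ?_)
      simp only [Submodule.coe_add, Prod.fst_add, Prod.snd_add, map_add, Prod.mk_add_mk, AddMemClass.mk_add_mk]
      abel
    map_smul' := fun a x => by
      refine Prod.ext rfl (Subtype.ext ?_)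
      simp [smul_sub, Algebra.algebraMap_eq_smul_one, smul_smul]
    left_inv := fun x => by ext1; ext1 <;> simp
    right_inv := fun y => by refine Prod.ext rfl (Subtype.ext ?_); simp }
  haveI : Module.Free R M := Module.Free.of_basis bM
  haveI : Module.Finite R M := Module.Finite.of_basis bM
  haveI : Module.Finite R (R × M') := Module.Finite.equiv e
  haveI : Module.Finite R M' := Module.Finite.of_surjective (LinearMap.snd R R M') LinearMap.snd_surjective
  haveI : Module.Projective R (R × M') := Module.Projective.of_equiv e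
  haveI : Module.Projective R M' :=
    Module.Projective.of_split (LinearMap.inr R R M') (LinearMap.snd R R M') (LinearMap.snd_comp_inr _ _ _)
  haveI : Module.Free R M' := Module.free_of_flat_of_isLocalRing
  have hrk : Module.finrank R M' = 2 := by
    have h := e.finrank_eq
    rw [Module.finrank_eq_card_basis bM, Fintype.card_fin, Module.finrank_prod, Module.finrank_self] at h
    omega
  obtain ⟨g, hg⟩ := RootDiskLib.exists_basis M' (Module.finBasisOfFinrankEq R M' hrk)
  refine ⟨(g 0 : A), (g 1 : A), fun h => ?_, le_antisymm (fun x hx => ?_) (Submodule.span_le.2 ?_)⟩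
  · have e' : _ % 2 = _ % 2 := h
    rw [hg 0, hg 1] at e'
    exact absurd e' (by decide)
  · let w : M' := ⟨_, hkey x hx⟩
    have hw : (g.repr w 0) • (g 0 : A) + (g.repr w 1) • (g 1 : A) = x.1 - algebraMap R A x.2 := by
      have := congrArg Subtype.val (g.sum_repr w)
      simp only [Fin.sum_univ_two, Submodule.coe_add, SetLike.val_smul] at this
      exact this
    rw [show x = x.2 • (1 : A × R) + (g.repr w 0) • ((g 0 : A), (0 : R)) + (g.repr w 1) • ((g 1 : A), (0 : R)) by
      ext1
      · simp only [Prod.fst_add, Prod.smul_fst, Prod.fst_one]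
        rw [add_assoc, hw, Algebra.algebraMap_eq_smul_one, add_sub_cancel]
      · simp]
    refine Submodule.add_mem _ (Submodule.add_mem _ ?_ ?_) ?_ <;>
      exact Submodule.smul_mem _ _ (Submodule.subset_span (by simp [A, R]))
  · rintro _ (rfl | rfl | rfl)
    · exact h1
    · exact (g 0).2
    · exact (g 1).2

end Groth.Agent.S13885
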