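import Groth.Statements.S13886
import Mathlib
import Groth.Prelude

set_option linter.all false

set_option autoImplicit false
universe u
open Crimp


namespace Groth.Agent.S13886

/-- Over R = k⟦t⟧ with k an algebraically closed field of characteristic zero, let S' = R × R × R be the
unramified triple cover of the formal disk and let m ≤ n ≤ 2m be natural numbers. For every f in S'
not lying in R·1 + t S', the R-submodule S = R·1 + R·(t ^ m f) + t ^ n S' is closed under
multiplication, hence an R-subalgebra (a crimp), and S' / S is isomorphic to R / (t ^ m) ⊕ R / (t ^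
n) (so the crimp has μ-invariant n - m and branch divisor (t ^ (2(m+n)))). Together with the
structure result for submodules with this quotient, this identifies the k-points of the space of
crimps of splitting type (m, n), 2m ≥ n, with the submodules of this shape. (The published statement
moreover asserts that this stratum is an irreducible variety of dimension n - m; that part is not
restated.) -/
theorem result {k : Type u} [Field k] [IsAlgClosed k] [CharZero k]
    (m n : ℕ) (hmn : m ≤ n) (hn : n ≤ 2 * m)
    (f : (Fin 3 → PowerSeries k)) (hf : f ∉ Submodule.span (PowerSeries k) {(1 : (Fin 3 → PowerSeries k))} ⊔ Ideal.span {(PowerSeries.X : PowerSeries k)} • (⊤ : Submodule (PowerSeries k) (Fin 3 → PowerSeries k)))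
    (S : Submodule (PowerSeries k) (Fin 3 → PowerSeries k))
    (hS : S = Submodule.span (PowerSeries k) {(1 : (Fin 3 → PowerSeries k)), ((PowerSeries.X : PowerSeries k) ^ m) • f} ⊔
        Ideal.span {(PowerSeries.X : PowerSeries k) ^ n} • (⊤ : Submodule (PowerSeries k) (Fin 3 → PowerSeries k))) :
    (∀ x ∈ S, ∀ y ∈ S, x * y ∈ S) ∧
    Nonempty (((Fin 3 → PowerSeries k) ⧸ S) ≃ₗ[PowerSeries k]
      ((PowerSeries k ⧸ Ideal.span {(PowerSeries.X : PowerSeries k) ^ m}) × (PowerSeries k ⧸ Ideal.span {(PowerSeries.X : PowerSeries k) ^ n}))) := by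
  classical
  let R := PowerSeries k
  let t : R := PowerSeries.X
  have h1 : (1 : Fin 3 → R) ∈ S := hS ▸ Submodule.mem_sup_left (Submodule.subset_span (by simp))
  have h2 : t ^ m • f ∈ S := hS ▸ Submodule.mem_sup_left (Submodule.subset_span (by simp [t]))
  have h3 : ∀ z : Fin 3 → R, t ^ n • z ∈ S := fun z =>
    hS ▸ Submodule.mem_sup_right (Submodule.smul_mem_smul (Ideal.mem_span_singleton_self _) trivial)
  have hdec : ∀ z ∈ S, ∃ (a b : R) (w : Fin 3 → R), z = a • 1 + b • (t ^ m • f) + t ^ n • w := by
    intro z hz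
    rw [hS] at hz
    obtain ⟨u, hu, v, hv, rfl⟩ := Submodule.mem_sup.1 hz
    obtain ⟨a, b, rfl⟩ := Submodule.mem_span_pair.1 hu
    rw [Submodule.ideal_span_singleton_smul] at hv
    obtain ⟨w, -, rfl⟩ := hv
    exact ⟨a, b, w, rfl⟩
  constructor
  · intro x hx y hy
    obtain ⟨a, b, w, rfl⟩ := hdec x hx
    obtain ⟨a', b', w', rfl⟩ := hdec y hy
    have he : (a • 1 + b • (t ^ m • f) + t ^ n • w) * (a' • 1 + b' • (t ^ m • f) + t ^ n • w') =
        (a * a') • 1 + (a * b' + b * a') • (t ^ m • f) +
          t ^ n • ((b * b' * t ^ (2 * m - n)) • (f * f) + (w * (a' • 1 + b' • (t ^ m • f) + t ^ n • w') + (a • 1 + b • (t ^ m • f)) * w')) := by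
      have ht : t ^ m * t ^ m = t ^ n * t ^ (2 * m - n) := by rw [← pow_add, ← pow_add]; congr 1; omega
      funext i
      simp only [Pi.add_apply, Pi.mul_apply, Pi.smul_apply, Pi.one_apply, smul_eq_mul]
      linear_combination (b * b' * f i * f i) * ht
    rw [he]
    exact add_mem (add_mem (S.smul_mem _ h1) (S.smul_mem _ h2)) (h3 _)
  · obtain ⟨i, j, l, hij, hil, hd, hcov⟩ : ∃ i j l : Fin 3, i ≠ j ∧ i ≠ l ∧ IsUnit (f j - f l) ∧ ∀ q, q = i ∨ q = j ∨ q = l := by
      by_cases h01 : IsUnit (f 0 - f 1)
      · exact ⟨2, 0, 1, by decide, by decide, h01, by decide⟩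
      by_cases h12 : IsUnit (f 1 - f 2)
      · exact ⟨0, 1, 2, by decide, by decide, h12, by decide⟩
      exfalso
      apply hf
      have hdiv : ∀ q : Fin 3, t ∣ f q - f 1 := by
        intro q
        fin_cases q
        · rw [PowerSeries.X_dvd_iff]; by_contra hne; exact h01 (PowerSeries.isUnit_iff_constantCoeff.2 (isUnit_iff_ne_zero.2 hne))
        · simp
        · rw [dvd_sub_comm, PowerSeries.X_dvd_iff]; by_contra hne; exact h12 (PowerSeries.isUnit_iff_constantCoeff.2 (isUnit_iff_ne_zero.2 hne))
      choose g hg using hdiv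
      refine Submodule.mem_sup.2 ⟨f 1 • 1, Submodule.smul_mem _ _ (Submodule.mem_span_singleton_self _), t • g,
        Submodule.smul_mem_smul (Ideal.mem_span_singleton_self _) trivial, ?_⟩
      funext q
      simp only [Pi.add_apply, Pi.smul_apply, Pi.one_apply, smul_eq_mul, mul_one, ← hg q]
      ring
    obtain ⟨d, hd'⟩ := hd
    let pr : Fin 3 → ((Fin 3 → R) →ₗ[R] R) := fun q => LinearMap.proj q
    let B : (Fin 3 → R) →ₗ[R] R := (↑d⁻¹ : R) • (pr j - pr l)
    let Cc : (Fin 3 → R) →ₗ[R] R := pr i - pr j - (f i - f j) • B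
    let φ : (Fin 3 → R) →ₗ[R] (R ⧸ Ideal.span {t ^ m}) × (R ⧸ Ideal.span {t ^ n}) :=
      LinearMap.prod ((Submodule.mkQ _).comp B) ((Submodule.mkQ _).comp Cc)
    have hB : ∀ v, B v = (↑d⁻¹ : R) * (v j - v l) := fun v => rfl
    have hC : ∀ v, Cc v = v i - v j - (f i - f j) * B v := fun v => rfl
    have hBf : B f = 1 := by rw [hB, ← hd', Units.inv_mul]
    have hjl : j ≠ l := fun h => by rw [h, sub_self] at hd'; exact d.ne_zero hd'
    have hBe : B (Pi.single i 1) = 0 := by rw [hB, Pi.single_eq_of_ne hij.symm, Pi.single_eq_of_ne hil.symm]; ring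
    have hCf : Cc f = 0 := by rw [hC, hBf]; ring
    have hCe : Cc (Pi.single i 1) = 1 := by rw [hC, hBe, Pi.single_eq_same, Pi.single_eq_of_ne hij.symm]; ring
    have hsurj : Function.Surjective φ := by
      rintro ⟨p, q⟩
      obtain ⟨p, rfl⟩ := Submodule.mkQ_surjective _ p
      obtain ⟨q, rfl⟩ := Submodule.mkQ_surjective _ q
      refine ⟨p • f + q • Pi.single i 1, ?_⟩
      refine Prod.ext ?_ ?_
      · show Submodule.mkQ _ (B _) = _
        rw [map_add, map_smul, map_smul, hBf, hBe, smul_eq_mul, smul_eq_mul, mul_one, mul_zero, add_zero]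
      · show Submodule.mkQ _ (Cc _) = _
        rw [map_add, map_smul, map_smul, hCf, hCe, smul_eq_mul, smul_eq_mul, mul_one, mul_zero, zero_add]
    have hker : LinearMap.ker φ = S := by
      apply le_antisymm
      · intro v hv
        have hb : B v ∈ Ideal.span {t ^ m} := (Submodule.Quotient.mk_eq_zero _).1 (congrArg Prod.fst hv)
        have hc : Cc v ∈ Ideal.span {t ^ n} := (Submodule.Quotient.mk_eq_zero _).1 (congrArg Prod.snd hv)
        obtain ⟨b', hb'⟩ := Ideal.mem_span_singleton.1 hb
        obtain ⟨c', hc'⟩ := Ideal.mem_span_singleton.1 hc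
        have hv' : v = (v j - B v * f j) • 1 + b' • (t ^ m • f) + t ^ n • (c' • Pi.single i 1) := by
          have hdB : (f j - f l) * B v = v j - v l := by rw [hB, ← hd', ← mul_assoc, Units.mul_inv, one_mul]
          funext q
          simp only [Pi.add_apply, Pi.smul_apply, Pi.one_apply, smul_eq_mul, mul_one, ← mul_assoc, ← hc']
          rw [mul_comm b' (t ^ m), ← hb']
          rcases hcov q with rfl | rfl | rfl
          · rw [Pi.single_eq_same, mul_one, hC]; ring
          · rw [Pi.single_eq_of_ne hij.symm]; ring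
          · rw [Pi.single_eq_of_ne hil.symm]; linear_combination hdB
        rw [hv']
        exact add_mem (add_mem (S.smul_mem _ h1) (S.smul_mem _ h2)) (h3 _)
      · intro v hv
        obtain ⟨a, b, w, rfl⟩ := hdec v hv
        refine Prod.ext ((Submodule.Quotient.mk_eq_zero _).2 (Ideal.mem_span_singleton.2 ?_))
          ((Submodule.Quotient.mk_eq_zero _).2 (Ideal.mem_span_singleton.2 ?_))
        · show t ^ m ∣ B _
          rw [map_add, map_add, map_smul, map_smul, map_smul, map_smul, hBf, show B 1 = 0 by rw [hB]; simp]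
          simp only [smul_eq_mul, mul_zero, zero_add, mul_one]
          exact dvd_add (dvd_mul_left _ _) (dvd_mul_of_dvd_left (pow_dvd_pow t hmn) _)
        · show t ^ n ∣ Cc _
          rw [map_add, map_add, map_smul, map_smul, map_smul, map_smul, hCf,
            show Cc 1 = 0 by rw [hC, hB]; simp]
          simp only [smul_eq_mul, mul_zero, zero_add]
          exact dvd_mul_right _ _
    exact ⟨(Submodule.quotEquivOfEq _ _ hker.symm).trans (φ.quotKerEquivOfSurjective hsurj)⟩

end Groth.Agent.S13886
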