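import Groth.Statements.S13887
import Groth.Agent.SurfBl13.Coker
import Groth.Agent.Inters29.Class
-- import your own Groth.Agent.* helpers here

set_option autoImplicit false
universe u
open AlgebraicGeometry CategoryTheory CategoryTheory.Limits
open SurfBl

namespace Groth.Agent.S13887

/-- Let k be an algebraically closed field of characteristic zero, X a k-scheme smooth of relative
dimension 2 over k, s a closed point of X, β : B → X a blowing up of X in the reduced point s, E ⊆ B
the exceptional divisor with ideal I_E (the inverse image ideal of the ideal of s), V a finite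
locally free O_B-module and e : β^*β_*V → V the counit of the pull-back / direct-image adjunction.
If l ≥ 0 is such that (I_E ^ l ⊗ V)|_E, which is V|_E ⊗ O_E(l), is generated by its global sections,
then the cokernel of e is annihilated by I_E ^ l: over every affine open U of B, every section of
I_E ^ l over U multiplies every section of coker(e) over U to zero. -/
theorem result
    {k : Type u} [Field k] [IsAlgClosed k] [CharZero k]
    (X : Scheme.{u}) [X.Over (Spec (CommRingCat.of k))] [SmoothOfRelativeDimension 2 (X ↘ Spec (CommRingCat.of k))]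
    (s : X) (hs : IsClosed ({s} : Set X))
    {B : Scheme.{u}} (β : B ⟶ X) (hβ : BlowUp.IsBlowUp β (Scheme.IdealSheafData.vanishingIdeal ⟨{s}, hs⟩))
    (V : B.Modules) (hV : FlatMod.IsFinLocFree V) (l : ℕ)
    (hgen : Curv2.IsGloballyGenerated ((Scheme.Modules.pullback (BlowUp.exceptional β (Scheme.IdealSheafData.vanishingIdeal ⟨{s}, hs⟩)).subschemeι).obj
      (CohB1.tensorMod (ClSub.idealMod ((BlowUp.exceptional β (Scheme.IdealSheafData.vanishingIdeal ⟨{s}, hs⟩)) ^ l)) V))) :
    ∀ (U : B.affineOpens)
      (q : (cokernel ((Scheme.Modules.pullbackPushforwardAdjunction β).counit.app V)).presheaf.obj (Opposite.op U.1))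
      (a : Γ(B, U.1)), a ∈ ((BlowUp.exceptional β (Scheme.IdealSheafData.vanishingIdeal ⟨{s}, hs⟩)) ^ l).ideal U → a • q = 0 := by
  haveI : Smooth (X ↘ Spec (CommRingCat.of k)) := SmoothOfRelativeDimension.smooth 2 _
  haveI : IsLocallyNoetherian X := LocallyOfFiniteType.isLocallyNoetherian (X ↘ Spec (CommRingCat.of k))
  have hpts : Groth.Agent.SurfBl13.Points (⟨{s}, hs⟩ : TopologicalSpace.Closeds X) := by
    intro z (hz : z ∈ ({s} : Set X))
    obtain rfl := Set.mem_singleton_iff.1 hz
    obtain ⟨h1, h2⟩ := Groth.Agent.SurfBl13.regular_of_surface k (X ↘ Spec (CommRingCat.of k)) z hs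
    exact ⟨hs, by simp, h1, h2⟩
  have hW : FlatMod.IsFinLocFree (CohB1.tensorMod (ClSub.idealMod
      ((BlowUp.exceptional β (Scheme.IdealSheafData.vanishingIdeal ⟨{s}, hs⟩)) ^ l)) V) :=
    Groth.Agent.WeilFin.isFinLocFree_tensorMod (Groth.Agent.SurfBl13.isFinLocFree_of_invertible
      (Groth.Agent.FlatMor12.IdealModGen.isInvertible_idealMod _ (Groth.Agent.Inters29.isEffCartier_pow hβ.1 l))) hV
  exact fun U q a ha => Groth.Agent.SurfBl13.coker_killed β hpts hβ _ hW hgen U q a ha

end Groth.Agent.S13887
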