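import Groth.Statements.S13901
import Groth.Agent.P1Lib24.Basic
import Mathlib.AlgebraicGeometry.Morphisms.QuasiFinite

set_option autoImplicit false
universe u
open P1Fin

namespace Groth.Agent.S13901

open AlgebraicGeometry CategoryTheory in
/-- Let S be a scheme with preconnected underlying space and f : X → P^1_S a finite, flat, locally
finitely presented morphism (finite locally free). Then f restricted to any connected component of X
is surjective onto P^1_S. (The published statement allows an arbitrary base S; over a base with two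
points and X a copy of the projective line over one of them, mapped identically into P^1_S, the
connected X misses the other fibre, so the base is taken connected here.) -/
theorem result (S X : Scheme.{u}) [PreconnectedSpace S]
    (f : X ⟶ CohB1.ProjSpaceOver 1 S) [IsFinite f] [Flat f] [LocallyOfFinitePresentation f]
    (x : X) (p : CohB1.ProjSpaceOver 1 S) : ∃ y ∈ connectedComponent x, f y = p := by
  haveI := Groth.Agent.P1Lib24.preconnectedSpace S
  have hsurj : ∀ W : Set X, IsClopen W → W.Nonempty → f '' W = Set.univ := fun W hW hne ↦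
    (Groth.Agent.P1Lib24.isClopen_image f hW).eq_univ (hne.image _)
  let F : Set X := f ⁻¹' {p}
  have hF : F.Finite := f.finite_preimage_singleton p
  let 𝒲 : Set (Set X) := {W | IsClopen W ∧ x ∈ W}
  have h𝒲 : ∃ W ∈ 𝒲, ∀ W' ∈ 𝒲, (W ∩ F).ncard ≤ (W' ∩ F).ncard := by
    classical
    have he : ∃ n, ∃ W ∈ 𝒲, (W ∩ F).ncard = n := ⟨_, Set.univ, ⟨isClopen_univ, trivial⟩, rfl⟩
    obtain ⟨W, hW, hn⟩ := Nat.find_spec he
    exact ⟨W, hW, fun W' hW' ↦ hn ▸ Nat.find_min' he ⟨W', hW', rfl⟩⟩
  obtain ⟨W, ⟨hW, hxW⟩, hmin⟩ := h𝒲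
  obtain ⟨y, hyW, hy⟩ := (hsurj W hW ⟨x, hxW⟩).symm.subset (Set.mem_univ p)
  refine ⟨y, ?_, hy⟩
  refine IsPreconnected.subset_connectedComponent ?_ hxW hyW
  rw [isPreconnected_iff_subset_of_fully_disjoint_closed hW.1]
  intro u v hu hv hsub hdis
  have hcl : ∀ u' v' : Set X, IsClosed u' → IsClosed v' → W ⊆ u' ∪ v' → Disjoint u' v' → IsClopen (W ∩ u') :=
    fun u' v' hu' hv' hs hd ↦ ⟨hW.1.inter hu', by
      have e : W ∩ u' = W ∩ v'ᶜ := by
        ext z
        exact ⟨fun hz ↦ ⟨hz.1, fun hzv ↦ Set.disjoint_left.mp hd hz.2 hzv⟩,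
          fun hz ↦ ⟨hz.1, (hs hz.1).resolve_right hz.2⟩⟩
      rw [e]
      exact hW.2.inter hv'.isOpen_compl⟩
  have key : ∀ u' v' : Set X, IsClosed u' → IsClosed v' → W ⊆ u' ∪ v' → Disjoint u' v' → x ∈ u' → W ⊆ u' := by
    intro u' v' hu' hv' hs hd hx z hz
    refine (hs hz).resolve_right fun hzv ↦ ?_
    have hV : IsClopen (W ∩ v') := hcl v' u' hv' hu' (by rwa [Set.union_comm]) hd.symm
    obtain ⟨q, hq, hqp⟩ := (hsurj _ hV ⟨z, hz, hzv⟩).symm.subset (Set.mem_univ p)
    have hmono : W ∩ u' ∩ F ⊆ W ∩ F := Set.inter_subset_inter_left _ Set.inter_subset_left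
    have heq := Set.eq_of_subset_of_ncard_le hmono (hmin _ ⟨hcl u' v' hu' hv' hs hd, hxW, hx⟩) (hF.inter_of_right _)
    have : q ∈ W ∩ u' ∩ F := heq.symm ▸ ⟨hq.1, hqp⟩
    exact Set.disjoint_left.mp hd this.1.2 hq.2
  rcases hsub hxW with hx | hx
  · exact Or.inl (key u v hu hv hsub hdis hx)
  · exact Or.inr (key v u hv hu (by rwa [Set.union_comm]) hdis.symm hx)

end Groth.Agent.S13901
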