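import Groth.Statements.S13903
import Groth.Agent.AbCubeLib.PointCount
-- import your own Groth.Agent.* helpers here

set_option autoImplicit false
universe u
open EtAlg

namespace Groth.Agent.S13903

/-- Let K be a field and L a finite-dimensional reduced commutative K-algebra of dimension d all of
whose elements are separable over K, generated as a K-algebra by z and t. In any finite set of at
least d^(4d) elements of K there is an element c such that c • z + t generates L as a K-algebra.
(The published statement does not require separability; for K of characteristic p and L obtained by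
adjoining p-th roots of two independent indeterminates, L is a reduced finite K-algebra generated by
two elements with no single generator, so separability over K is assumed here, as the counting in
the published proof requires.) -/
theorem result (K L : Type u) [Field K] [CommRing L]
    [Algebra K L] [Module.Finite K L] [IsReduced L] [Algebra.IsSeparable K L] (z t : L)
    (hgen : Algebra.adjoin K ({z, t} : Set L) = ⊤) (S : Finset K)
    (hS : Module.finrank K L ^ (4 * Module.finrank K L) ≤ S.card) :
    ∃ c ∈ S, Algebra.adjoin K ({c • z + t} : Set L) = ⊤ := by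
  classical
  let Ω := AlgebraicClosure K
  haveI : IsArtinianRing L := IsArtinianRing.of_finite K L
  haveI : Algebra.FormallyEtale K L := by
    letI : ∀ m : MaximalSpectrum L, Field (L ⧸ m.asIdeal) := fun m => Ideal.Quotient.field m.asIdeal
    refine (Algebra.FormallyEtale.iff_exists_algEquiv_prod K L).mpr ⟨MaximalSpectrum L, inferInstance,
      fun m => L ⧸ m.asIdeal, inferInstance, inferInstance,
      (IsArtinianRing.equivPi L).restrictScalars K, fun m => ⟨fun x => ?_⟩⟩
    obtain ⟨x, rfl⟩ := Ideal.Quotient.mk_surjective x
    have hx : IsSeparable K x := Algebra.IsSeparable.isSeparable K x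
    exact hx.of_dvd (minpoly.dvd K _ (by
      rw [← Ideal.Quotient.mkₐ_eq_mk K, Polynomial.aeval_algHom_apply, minpoly.aeval, map_zero]))
  haveI : IsReduced (TensorProduct K Ω L) := Algebra.FormallyUnramified.isReduced_of_field Ω _
  have hcard : Nat.card (L →ₐ[K] Ω) = Module.finrank K L := by
    rw [Nat.card_congr (AlgHom.liftEquiv K Ω L Ω), AbCubeLib.natCard_algHom_eq_of_isReduced,
      Module.finrank_baseChange]
  haveI : Finite (L →ₐ[K] Ω) := inferInstance
  letI := Fintype.ofFinite (L →ₐ[K] Ω)
  let bad : Finset K := S.filter fun c => ∃ i j : L →ₐ[K] Ω, i ≠ j ∧ i (c • z + t) = j (c • z + t)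
  have hpair : ∀ i j : L →ₐ[K] Ω, i ≠ j → (S.filter fun c => i (c • z + t) = j (c • z + t)).card ≤ 1 := by
    intro i j hij
    rw [Finset.card_le_one]
    intro a ha b hb
    simp only [Finset.mem_filter, map_add, map_smul] at ha hb
    by_contra hab
    have h1 : (a - b) • (i z - j z) = 0 := by
      rw [smul_sub, sub_smul, sub_smul]
      linear_combination ha.2 - hb.2
    have hz : i z = j z := sub_eq_zero.1 ((smul_eq_zero.1 h1).resolve_left (sub_ne_zero.2 hab))
    have ht : i t = j t := by
      have := ha.2; rw [hz] at this; exact add_left_cancel this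
    refine hij (AlgHom.ext_of_adjoin_eq_top hgen fun x hx => ?_)
    rcases hx with rfl | rfl <;> assumption
  have hbad : bad.card ≤ Fintype.card (L →ₐ[K] Ω) * Fintype.card (L →ₐ[K] Ω) - Fintype.card (L →ₐ[K] Ω) := by
    calc bad.card ≤ ((Finset.univ : Finset (L →ₐ[K] Ω)).offDiag.biUnion
          fun p => S.filter fun c => p.1 (c • z + t) = p.2 (c • z + t)).card :=
        Finset.card_le_card fun c hc => by
          obtain ⟨hc1, i, j, hij, e⟩ := Finset.mem_filter.1 hc
          exact Finset.mem_biUnion.2 ⟨(i, j), Finset.mem_offDiag.2 ⟨Finset.mem_univ _, Finset.mem_univ _, hij⟩,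
            Finset.mem_filter.2 ⟨hc1, e⟩⟩
      _ ≤ (Finset.univ : Finset (L →ₐ[K] Ω)).offDiag.card * 1 :=
        Finset.card_biUnion_le_card_mul _ _ _ fun p hp => hpair _ _ (Finset.mem_offDiag.1 hp).2.2
      _ = _ := by rw [mul_one, Finset.offDiag_card]; rfl
  rw [← Nat.card_eq_fintype_card, hcard] at hbad
  have hlt : bad.card < S.card := by
    refine lt_of_le_of_lt hbad (lt_of_lt_of_le ?_ hS)
    generalize Module.finrank K L = d
    rcases Nat.lt_or_ge d 2 with hd | hd
    · interval_cases d <;> simp
    · calc d * d - d < d * d := by have : 0 < d * d := by positivity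
                                   omega
        _ = d ^ 2 := (sq d).symm
        _ ≤ d ^ (4 * d) := Nat.pow_le_pow_right (by omega) (by omega)
  obtain ⟨c, hc, hcb⟩ := Finset.exists_mem_notMem_of_card_lt_card hlt
  refine ⟨c, hc, ?_⟩
  let w := c • z + t
  have hinj : Function.Injective fun i : L →ₐ[K] Ω => i w := fun i j e => by
    by_contra hij
    exact hcb (Finset.mem_filter.2 ⟨hc, i, j, hij, e⟩)
  have hw : IsIntegral K w := Algebra.IsIntegral.isIntegral w
  have hdeg : Module.finrank K L ≤ (minpoly K w).natDegree := by
    rw [← hcard, Nat.card_eq_fintype_card, ← Finset.card_univ, ← Finset.card_image_of_injective _ hinj]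
    refine le_trans (Finset.card_le_card (t := ((minpoly K w).aroots Ω).toFinset) fun y hy => ?_) ?_
    · obtain ⟨i, -, rfl⟩ := Finset.mem_image.1 hy
      rw [Multiset.mem_toFinset, Polynomial.mem_aroots, Polynomial.aeval_algHom_apply, minpoly.aeval, map_zero]
      exact ⟨minpoly.ne_zero hw, rfl⟩
    · exact (Multiset.toFinset_card_le _).trans ((Polynomial.card_roots' _).trans
        (Polynomial.natDegree_map_le))
  apply Algebra.toSubmodule_eq_top.1
  apply Submodule.eq_top_of_finrank_eq
  apply le_antisymm (Submodule.finrank_le _)
  refine hdeg.trans (le_of_eq ?_)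
  rw [show Module.finrank K (Subalgebra.toSubmodule (Algebra.adjoin K {w})) =
    Module.finrank K (Algebra.adjoin K {w}) from rfl, (Algebra.adjoin.powerBasis hw).finrank]
  rfl

end Groth.Agent.S13903
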