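import Groth.Statements.S13905
import Mathlib.LinearAlgebra.FiniteDimensional.Lemmas
import Mathlib.Data.Finset.Card

set_option autoImplicit false
universe u
open ProjGeom

namespace Groth.Agent.S13905

open W4c1etcurveeff3b in
/-- Hyperplanes of projective n-space in general position, in linear-algebra form (V of dimension n + 1
over a field k, hyperplanes as n-dimensional subspaces, points as nonzero vectors): if S is a finite
set of hyperplanes in general position with at least n members and H is a hyperplane containing none
of the lines cut out by n members of S, then S with H added is again in general position. (The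
published statement is for hyperplanes of P^n_k and closed points; a closed point lying on n + 1
members is automatically one of the rational points cut out by n of them, so the condition on
nonzero vectors of V is the same condition.) -/
theorem result (k V : Type u) [Field k]
    [AddCommGroup V] [Module k V] [DecidableEq (Submodule k V)] (n : ℕ) (S : Finset (Submodule k V))
    (hS : InGeneralPosition k V n S) (hn : n ≤ S.card) (H : Submodule k V)
    (hH : Module.finrank k H = n)
    (havoid : ∀ T ⊆ S, T.card = n → ¬ (T.inf id ≤ H)) :
    InGeneralPosition k V n (insert H S) := by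
  obtain ⟨hV, hdim, hint, hvec⟩ := hS
  have : FiniteDimensional k V := Module.finite_of_finrank_eq_succ hV
  have hnle : ∀ T ⊆ S, T.card ≤ n → ¬ T.inf id ≤ H := by
    intro T hT hc hle
    obtain ⟨T', hTT', hT'S, hT'c⟩ := Finset.exists_subsuperset_card_eq hT hc hn
    exact havoid T' hT'S hT'c ((Finset.inf_mono hTT').trans hle)
  refine ⟨hV, fun K hK ↦ (Finset.mem_insert.mp hK).elim (fun e ↦ e ▸ hH) (hdim K),
    fun T hT hc ↦ ?_, fun v hv T hT hvT ↦ ?_⟩
  · by_cases hHT : H ∈ T
    · have hT₀ : T.erase H ⊆ S := fun K hK ↦ (Finset.mem_insert.mp
        (hT (Finset.mem_of_mem_erase hK))).resolve_left (Finset.ne_of_mem_erase hK)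
      have hc₀ := Finset.card_erase_add_one hHT
      set L := (T.erase H).inf id with hL
      have hLd : Module.finrank k ↥L = n + 1 - (T.erase H).card := hint _ hT₀ (by omega)
      have e : T.inf id = H ⊓ L := by
        rw [hL, show H ⊓ (T.erase H).inf id = (insert H (T.erase H)).inf id by
          rw [Finset.inf_insert]; rfl, Finset.insert_erase hHT]
      rw [e]
      have hlt : Module.finrank k ↥H < Module.finrank k ↥(H ⊔ L) :=
        Submodule.finrank_lt_finrank_of_lt (lt_of_le_not_ge le_sup_left fun h ↦
          hnle _ hT₀ (by omega) (le_sup_right.trans h))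
      have hup : Module.finrank k ↥(H ⊔ L) ≤ Module.finrank k V := Submodule.finrank_le _
      have hadd := Submodule.finrank_sup_add_finrank_inf_eq H L
      omega
    · exact hint T (fun K hK ↦ (Finset.mem_insert.mp (hT hK)).resolve_left
        (fun e ↦ hHT (e ▸ hK))) hc
  · have hT₀ : T.erase H ⊆ S := fun K hK ↦ (Finset.mem_insert.mp
      (hT (Finset.mem_of_mem_erase hK))).resolve_left (Finset.ne_of_mem_erase hK)
    have h₀ := hvec v hv _ hT₀ fun K hK ↦ hvT K (Finset.mem_of_mem_erase hK)
    by_cases hHT : H ∈ T
    · have hc₀ := Finset.card_erase_add_one hHT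
      by_contra hcon
      have hline := hint _ hT₀ h₀
      have hle : Submodule.span k {v} ≤ (T.erase H).inf id := Finset.le_inf fun K hK ↦
        (Submodule.span_singleton_le_iff_mem v K).mpr (hvT K (Finset.mem_of_mem_erase hK))
      have e := Submodule.eq_of_le_of_finrank_le hle (by rw [finrank_span_singleton hv]; omega)
      exact hnle _ hT₀ h₀ (e ▸ (Submodule.span_singleton_le_iff_mem v H).mpr (hvT H hHT))
    · rwa [Finset.erase_eq_of_notMem hHT] at h₀

end Groth.Agent.S13905
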