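import Groth.Statements.S13907
import Groth.Agent.ProjLib.ProjSpace
import Groth.Agent.Coherent.ProjSpaceFinite
import Mathlib.AlgebraicGeometry.Artinian
import Mathlib.Topology.KrullDimension
import Mathlib.AlgebraicGeometry.Morphisms.Proper
-- import your own Groth.Agent.* helpers here

set_option autoImplicit false
universe u
open ProjGeom

namespace Groth.Agent.S13907

set_option backward.isDefEq.respectTransparency.types false in
open AlgebraicGeometry CategoryTheory in
/-- Over an algebraically closed field k, let C be a nonempty irreducible closed subset of the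
underlying space of projective n-space with homogeneous coordinates x_0, …, x_n, and for i ≤ n let
L_i be the linear subspace where x_1, …, x_i vanish. Then there is an index i ≤ n with C ∩ L_i
nonempty and of topological Krull dimension zero. -/
theorem result (k : Type u) [Field k]
    [IsAlgClosed k] (n : ℕ) (C : Set (ProjectiveSpectrum (CohB1.polyGrading n k)))
    (hC : IsClosed C) (hirr : IsIrreducible C) :
    ∃ i : ℕ, i ≤ n ∧
      (C ∩ ProjectiveSpectrum.zeroLocus (CohB1.polyGrading n k)
          ((fun j : Fin (n + 1) => (MvPolynomial.X j : MvPolynomial (Fin (n + 1)) k)) ''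
            {j : Fin (n + 1) | 1 ≤ j.val ∧ j.val ≤ i})).Nonempty ∧
      topologicalKrullDim ↥(C ∩ ProjectiveSpectrum.zeroLocus (CohB1.polyGrading n k)
          ((fun j : Fin (n + 1) => (MvPolynomial.X j : MvPolynomial (Fin (n + 1)) k)) ''
            {j : Fin (n + 1) | 1 ≤ j.val ∧ j.val ≤ i})) = 0 := by
  classical
  let S : ℕ → Set (Fin (n + 1)) := fun i => {j | 1 ≤ j.val ∧ j.val ≤ i}
  let L : ℕ → Set (ProjectiveSpectrum (CohB1.polyGrading n k)) := fun i =>
    C ∩ ProjectiveSpectrum.zeroLocus (CohB1.polyGrading n k)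
      ((fun j : Fin (n + 1) => (MvPolynomial.X j : MvPolynomial (Fin (n + 1)) k)) '' S i)
  have hmemL : ∀ i x, x ∈ L i ↔ x ∈ C ∧ ∀ j ∈ S i, (MvPolynomial.X j : MvPolynomial (Fin (n + 1)) k) ∈
      x.asHomogeneousIdeal := by
    intro i x
    simp only [L, Set.mem_inter_iff, ProjectiveSpectrum.mem_zeroLocus, Set.image_subset_iff]
    exact Iff.rfl
  have hP0 : (L 0).Nonempty := by
    obtain ⟨x, hx⟩ := hirr.nonempty
    refine ⟨x, (hmemL 0 x).2 ⟨hx, fun j hj => ?_⟩⟩
    have h1 := hj.1; have h2 := hj.2
    omega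
  let i := Nat.findGreatest (fun i => (L i).Nonempty) n
  have hin : i ≤ n := Nat.findGreatest_le n
  have hne : (L i).Nonempty := Nat.findGreatest_spec (P := fun i => (L i).Nonempty) (Nat.zero_le n) hP0
  refine ⟨i, hin, hne, le_antisymm ?_ ?_⟩
  · -- the closed set misses a hyperplane
    obtain ⟨m, hm⟩ : ∃ m : Fin (n + 1), ∀ x ∈ L i, (MvPolynomial.X m : MvPolynomial (Fin (n + 1)) k) ∉
        x.asHomogeneousIdeal := by
      rcases hin.lt_or_eq with hlt | heq
      · refine ⟨⟨i + 1, by omega⟩, fun x hx hxm => ?_⟩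
        refine Nat.findGreatest_is_greatest (P := fun i => (L i).Nonempty) (Nat.lt_succ_self i) hlt ⟨x, ?_⟩
        refine (hmemL _ x).2 ⟨((hmemL i x).1 hx).1, fun j hj => ?_⟩
        rcases Nat.lt_or_ge j.val (i + 1) with h | h
        · exact ((hmemL i x).1 hx).2 j ⟨hj.1, by omega⟩
        · have : j = ⟨i + 1, by omega⟩ := Fin.ext (le_antisymm hj.2 h)
          rw [this]; exact hxm
      · refine ⟨0, fun x hx hx0 => x.not_irrelevant_le ((ProjLib.irrelevant_le_span_X n k).trans ?_)⟩
        rw [Ideal.span_le]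
        rintro _ ⟨j, rfl⟩
        rcases Nat.eq_zero_or_pos j.val with h | h
        · rw [show j = 0 from Fin.ext h]; exact hx0
        · exact ((hmemL i x).1 hx).2 j ⟨h, by have := j.2; omega⟩
    have hcl : IsClosed (L i) := hC.inter (ProjectiveSpectrum.isClosed_zeroLocus _ _)
    let I : (CohB1.ProjSpace n k).IdealSheafData := AlgebraicGeometry.Scheme.IdealSheafData.vanishingIdeal (X := CohB1.ProjSpace n k) ⟨L i, hcl⟩
    have hr : Set.range I.subschemeι = L i :=
      I.range_subschemeι.trans (by
      rw [AlgebraicGeometry.Scheme.IdealSheafData.coe_support_vanishingIdeal]; rfl)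
    haveI hci : IsClosedImmersion I.subschemeι := inferInstance
    haveI : IsFinite I.subschemeι := inferInstance
    have hA : IsAffineOpen (I.subschemeι ⁻¹ᵁ (Proj.basicOpen (CohB1.polyGrading n k) (MvPolynomial.X m) :
        (CohB1.ProjSpace n k).Opens)) :=
      IsAffineOpen.preimage (X := I.subscheme) (Y := CohB1.ProjSpace n k) (Proj.isAffineOpen_basicOpen (CohB1.polyGrading n k) (MvPolynomial.X m)
        (MvPolynomial.isHomogeneous_X _ m) one_pos) I.subschemeι
    rw [show I.subschemeι ⁻¹ᵁ (Proj.basicOpen (CohB1.polyGrading n k) (MvPolynomial.X m) :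
        (CohB1.ProjSpace n k).Opens) = ⊤ from top_le_iff.1 fun z _ => hm _ (hr.le ⟨z, rfl⟩)] at hA
    haveI : IsAffine I.subscheme := haveI : IsAffine (⊤ : I.subscheme.Opens).toScheme := hA; IsAffine.of_isIso I.subscheme.topIso.inv
    haveI := Coherent.isProper_projSpace_toSpec (n := n) (R := k)
    let p := I.subschemeι ≫ CohB1.ProjSpace.toSpec n k
    haveI : IsAffineHom p := isAffineHom_of_isAffine p
    haveI : IsFinite p := IsFinite.iff_isProper_and_isAffineHom.2 ⟨inferInstance, inferInstance⟩
    haveI : IsArtinianRing Γ(Spec (CommRingCat.of k), ⊤) :=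
      (Scheme.ΓSpecIso (CommRingCat.of k)).commRingCatIsoToRingEquiv.symm.surjective.isArtinianRing
        (f := (Scheme.ΓSpecIso (CommRingCat.of k)).commRingCatIsoToRingEquiv.symm.toRingHom)
    letI := p.appTop.hom.toAlgebra
    haveI : Module.Finite Γ(Spec (CommRingCat.of k), ⊤) Γ(I.subscheme, ⊤) :=
      p.finite_app ⊤ (isAffineOpen_top _)
    haveI : IsArtinianRing Γ(I.subscheme, ⊤) := IsArtinianRing.of_finite Γ(Spec (CommRingCat.of k), ⊤) _
    haveI : IsArtinianRing (CommRingCat.of Γ(I.subscheme, ⊤)) := ‹_›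
    haveI : DiscreteTopology I.subscheme :=
      DiscreteTopology.of_continuous_injective (Scheme.homeoOfIso I.subscheme.isoSpec).continuous
        (Scheme.homeoOfIso I.subscheme.isoSpec).injective
    refine le_trans (le_of_eq ?_) (topologicalKrullDim_zero_of_discreteTopology I.subscheme)
    let e := (I.subschemeι.isClosedEmbedding.isEmbedding.toHomeomorph).trans (Homeomorph.setCongr hr)
    exact (IsHomeomorph.topologicalKrullDim_eq e e.isHomeomorph).symm
  · haveI : Nonempty (L i) := hne.to_subtype
    haveI : Nonempty (TopologicalSpace.IrreducibleCloseds (L i)) :=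
      ⟨⟨closure {⟨_, hne.some_mem⟩}, isIrreducible_singleton.closure, isClosed_closure⟩⟩
    exact Order.krullDim_nonneg

end Groth.Agent.S13907
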