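import Groth.Statements.S13909
import Groth.Agent.BlowUpCoh.LocFree

set_option autoImplicit false
universe u
open CategoryTheory CategoryTheory.Limits AlgebraicGeometry
open BlowUp

open Groth.Agent.BlowUpCoh

namespace Groth.Agent.S13909

/-- For the blowing up σ : X ⟶ Y of a smooth separated finite-type scheme over a characteristic-zero
algebraically closed field along a closed subscheme regularly immersed of constant codimension d ≥
2, and a finite locally free O_Y-module E, the unit E ⟶ σ_* σ^* E is an isomorphism and R^p σ_*(σ^*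
E) = 0 for all p ≥ 1 (higher direct images of the underlying abelian sheaf). -/
theorem result (k : Type u) [Field k] [IsAlgClosed k] [CharZero k]
    {S Y X : Scheme.{u}} [Y.Over (Spec (CommRingCat.of k))] [Smooth (Y ↘ Spec (CommRingCat.of k))]
    [IsSeparated (Y ↘ Spec (CommRingCat.of k))] [QuasiCompact (Y ↘ Spec (CommRingCat.of k))]
    (i : S ⟶ Y) [IsClosedImmersion i] (d : ℕ) (hd : 2 ≤ d) (hi : RegImm.IsRegularImmersionOfCodim .regular d i)
    (σ : X ⟶ Y) (hσ : BlowUp.IsBlowUp σ i.ker)
    (E : Y.Modules) (hE : FlatMod.IsFinLocFree E) :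
    IsIso ((Scheme.Modules.pullbackPushforwardAdjunction σ).unit.app E) ∧
    ∀ p : ℕ, 1 ≤ p → IsZero ((Coh.RpushAb σ p).obj (Coh.toAb ((Scheme.Modules.pullback σ).obj E))) := by
  obtain ⟨k', rfl⟩ : ∃ k', d = k' + 1 := ⟨d - 1, by omega⟩
  have hI := koszulBasis_of_codim i hi
  haveI := isIso_unitMap hσ hI
  haveI : Coh.IsQCoh (Coh.structureModule X) := StMod.isQCoh_structureModule X
  have hO : ∀ p : ℕ, 1 ≤ p → IsZero ((Coh.RpushAb σ p).obj (Coh.toAb (Coh.structureModule X))) :=
    fun p hp => isZero_rpushAb hσ hI (twistO (i.ker.comap σ)) (by omega) p hp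
  exact ⟨isIso_unit_of_locFree σ hE, fun p hp => isZero_rpushAb_pullback σ hE p (hO p hp)⟩


end Groth.Agent.S13909
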