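import Groth.Statements.S13910
import Groth.Agent.BlowUpCoh.LocFree

set_option autoImplicit false
universe u
open CategoryTheory CategoryTheory.Limits AlgebraicGeometry
open BlowUp

open Groth.Agent.BlowUpCoh

namespace Groth.Agent.S13910

/-- For the blowing up σ : X ⟶ Y of a smooth separated finite-type scheme over a characteristic-zero
algebraically closed field along a closed subscheme regularly immersed of constant codimension d ≥
2, and a short exact sequence 0 ⟶ E₁ ⟶ E₀ ⟶ F ⟶ 0 of O_Y-modules with E₀, E₁ finite locally free and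
F quasi-coherent of finite type whose pull-back along σ is again short exact, the unit F ⟶ σ_* σ^* F
is an isomorphism and R^p σ_*(σ^* F) = 0 for all p ≥ 1 (underlying abelian sheaves). -/
theorem result (k : Type u) [Field k] [IsAlgClosed k] [CharZero k]
    {S Y X : Scheme.{u}} [Y.Over (Spec (CommRingCat.of k))] [Smooth (Y ↘ Spec (CommRingCat.of k))]
    [IsSeparated (Y ↘ Spec (CommRingCat.of k))] [QuasiCompact (Y ↘ Spec (CommRingCat.of k))]
    (i : S ⟶ Y) [IsClosedImmersion i] (d : ℕ) (hd : 2 ≤ d) (hi : RegImm.IsRegularImmersionOfCodim .regular d i)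
    (σ : X ⟶ Y) (hσ : BlowUp.IsBlowUp σ i.ker)
    (T : ShortComplex Y.Modules) (hT : T.ShortExact) (h₁ : FlatMod.IsFinLocFree T.X₁) (h₀ : FlatMod.IsFinLocFree T.X₂)
    (hF : Coh.IsCoh T.X₃) (hpull : (T.map (Scheme.Modules.pullback σ)).ShortExact) :
    IsIso ((Scheme.Modules.pullbackPushforwardAdjunction σ).unit.app T.X₃) ∧
    ∀ p : ℕ, 1 ≤ p → IsZero ((Coh.RpushAb σ p).obj (Coh.toAb ((Scheme.Modules.pullback σ).obj T.X₃))) := by
  obtain ⟨k', rfl⟩ : ∃ k', d = k' + 1 := ⟨d - 1, by omega⟩
  have hI := koszulBasis_of_codim i hi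
  haveI := isIso_unitMap hσ hI
  haveI : Coh.IsQCoh (Coh.structureModule X) := StMod.isQCoh_structureModule X
  have hO : ∀ p : ℕ, 1 ≤ p → IsZero ((Coh.RpushAb σ p).obj (Coh.toAb (Coh.structureModule X))) :=
    fun p hp => isZero_rpushAb hσ hI (twistO (i.ker.comap σ)) (by omega) p hp
  haveI := isIso_unit_of_locFree σ h₁
  haveI := isIso_unit_of_locFree σ h₀
  exact unit_and_vanishing_of_shortExact σ T hT hpull (fun p hp => isZero_rpushAb_pullback σ h₁ p (hO p hp))
    (fun p hp => isZero_rpushAb_pullback σ h₀ p (hO p hp))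


end Groth.Agent.S13910
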