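import Groth.Statements.S13911
import Mathlib
-- import your own Groth.Agent.* helpers here

set_option autoImplicit false
universe u
open PlaneConic

namespace Groth.Agent.S13911

/-- anchor -/
theorem anchor13911 : 0 + 0 = 0 := rfl

section Helpers

open MvPolynomial Matrix

variable {k : Type u} [Field k] [CharZero k]

/-- The linear form of a vector. -/
noncomputable def lf (a : Fin 3 → k) : MvPolynomial (Fin 3) k := ∑ i, a i • X i

theorem eval_lf (a u : Fin 3 → k) : eval u (lf a) = a ⬝ᵥ u := by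
  simp [lf, smul_eval, dotProduct]

variable (Q : Matrix (Fin 3) (Fin 3) k)

/-- The quadratic form of a matrix. -/
noncomputable def qp : MvPolynomial (Fin 3) k := ∑ i : Fin 3, ∑ j : Fin 3, Q i j • (X i * X j)

theorem eval_qp (u : Fin 3 → k) : eval u (qp Q) = u ⬝ᵥ Q *ᵥ u := by
  simp [qp, smul_eval, dotProduct, Matrix.mulVec, Finset.mul_sum]
  refine Finset.sum_congr rfl fun i _ => Finset.sum_congr rfl fun j _ => by ring

variable {Q}

theorem polar (hQ : Q.IsSymm) (u w : Fin 3 → k) :
    eval (u + w) (qp Q) - eval u (qp Q) - eval w (qp Q) = 2 * (u ⬝ᵥ Q *ᵥ w) := by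
  have h : w ⬝ᵥ Q *ᵥ u = u ⬝ᵥ Q *ᵥ w := by
    rw [Matrix.dotProduct_mulVec, ← Matrix.mulVec_transpose, hQ.eq, dotProduct_comm]
  simp only [eval_qp, Matrix.mulVec_add, add_dotProduct, dotProduct_add, h]
  ring

theorem mulVec_of_prod (hQ : Q.IsSymm) {a b : Fin 3 → k} (h : qp Q = lf a * lf b) (w : Fin 3 → k) :
    (2 : k) • Q *ᵥ w = (b ⬝ᵥ w) • a + (a ⬝ᵥ w) • b := by
  funext i
  have := polar hQ (Pi.single i 1) w
  rw [h, map_mul, map_mul, map_mul, eval_lf, eval_lf, eval_lf, eval_lf, eval_lf, eval_lf, dotProduct_add, dotProduct_add,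
    dotProduct_single, dotProduct_single, single_dotProduct, one_mul, mul_one, mul_one] at this
  simp only [Pi.smul_apply, smul_eq_mul, Pi.add_apply]
  linear_combination -this

theorem mulVec_eq_zero_of_prod (hQ : Q.IsSymm) {a b : Fin 3 → k} (h : qp Q = lf a * lf b) :
    ∃ u : Fin 3 → k, u ≠ 0 ∧ Q *ᵥ u = 0 := by
  let φ : (Fin 3 → k) →ₗ[k] (Fin 2 → k) := LinearMap.pi ![dotProductBilin k k a, dotProductBilin k k b]
  obtain ⟨u, hu, hu0⟩ := Submodule.exists_mem_ne_zero_of_ne_bot (LinearMap.ker_ne_bot_of_finrank_lt (f := φ) (by simp))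
  refine ⟨u, hu0, ?_⟩
  have ha : a ⬝ᵥ u = 0 := congrFun (LinearMap.mem_ker.1 hu) 0
  have hb : b ⬝ᵥ u = 0 := congrFun (LinearMap.mem_ker.1 hu) 1
  apply smul_right_injective (Fin 3 → k) (two_ne_zero (α := k))
  show (2 : k) • Q *ᵥ u = (2 : k) • (0 : Fin 3 → k)
  rw [mulVec_of_prod hQ h, ha, hb, zero_smul, zero_smul, add_zero, smul_zero]

theorem rank_eq_two_of_prod (hQ : Q.IsSymm) {a b : Fin 3 → k} (h : qp Q = lf a * lf b)
    (hab : LinearIndependent k ![a, b]) : Q.rank = 2 := by
  let φ : (Fin 3 → k) →ₗ[k] (Fin 2 → k) := LinearMap.pi ![dotProductBilin k k a, dotProductBilin k k b]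
  have hker : LinearMap.ker Q.mulVecLin = LinearMap.ker φ := by
    ext u
    simp only [LinearMap.mem_ker, Matrix.mulVecLin_apply]
    constructor
    · intro hu
      have h1 := mulVec_of_prod hQ h u
      rw [hu, smul_zero] at h1
      obtain ⟨h2, h3⟩ := LinearIndependent.pair_iff.1 hab (b ⬝ᵥ u) (a ⬝ᵥ u) h1.symm
      funext i; fin_cases i
      · exact h3
      · exact h2
    · intro hu
      have ha : a ⬝ᵥ u = 0 := congrFun hu 0
      have hb : b ⬝ᵥ u = 0 := congrFun hu 1
      apply smul_right_injective (Fin 3 → k) (two_ne_zero (α := k))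
      show (2 : k) • Q *ᵥ u = (2 : k) • (0 : Fin 3 → k)
      rw [mulVec_of_prod hQ h, ha, hb, zero_smul, zero_smul, add_zero, smul_zero]
  let M : Matrix (Fin 2) (Fin 3) k := Matrix.of ![a, b]
  have hM : φ = M.mulVecLin := by
    refine LinearMap.ext fun u => funext fun i => ?_
    fin_cases i <;> rfl
  have hrank : M.rank = 2 := by
    rw [LinearIndependent.rank_matrix (by exact hab)]
    simp
  have h1 := Q.mulVecLin.finrank_range_add_finrank_ker
  have h2 := M.mulVecLin.finrank_range_add_finrank_ker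
  rw [hker] at h1
  rw [← hM] at h2
  rw [Matrix.rank, ← hM] at hrank
  rw [Matrix.rank]
  omega

theorem rank_of_sq (hQ : Q.IsSymm) (hQ0 : Q ≠ 0) {a : Fin 3 → k} (h : qp Q = lf a ^ 2) : Q.rank = 1 := by
  have h' := fun w => mulVec_of_prod hQ (pow_two (lf a) ▸ h) w
  have hr : LinearMap.range Q.mulVecLin ≤ Submodule.span k {a} := by
    rintro _ ⟨w, rfl⟩
    refine Submodule.mem_span_singleton.2 ⟨a ⬝ᵥ w, ?_⟩
    apply smul_right_injective (Fin 3 → k) (two_ne_zero (α := k))
    show (2 : k) • (a ⬝ᵥ w) • a = (2 : k) • Q *ᵥ w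
    rw [h', two_smul]
  have hle : Q.rank ≤ 1 := (Submodule.finrank_mono hr).trans ((finrank_span_le_card _).trans (by simp))
  have hne : Q.rank ≠ 0 := by
    intro h0
    rw [Matrix.rank] at h0
    have h1 := LinearMap.range_eq_bot.1 (Submodule.finrank_eq_zero.1 h0)
    exact hQ0 (Matrix.toLin'.injective (by rw [map_zero]; exact h1))
  omega

theorem qp_ne_zero (hQ : Q.IsSymm) (hQ0 : Q ≠ 0) : qp Q ≠ 0 := by
  intro h
  apply hQ0
  ext i j
  have := polar hQ (Pi.single i 1) (Pi.single j 1)
  rw [h, map_zero, map_zero, map_zero, sub_zero, sub_zero, single_dotProduct, one_mul, Matrix.mulVec_single_one] at this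
  simpa using this.symm

theorem isHomogeneous_qp : (qp Q).IsHomogeneous 2 := by
  refine IsHomogeneous.sum _ _ _ fun i _ => IsHomogeneous.sum _ _ _ fun j _ => ?_
  rw [smul_eq_C_mul]
  exact (((isHomogeneous_X k i).mul (isHomogeneous_X k j))).C_mul _

theorem exists_prod_of_not_irreducible (hQ : Q.IsSymm) (hQ0 : Q ≠ 0) (h : ¬ Irreducible (qp Q)) :
    ∃ a b : Fin 3 → k, qp Q = lf a * lf b := by
  have hd : (qp Q).totalDegree = 2 := isHomogeneous_qp.totalDegree (qp_ne_zero hQ hQ0)
  have hnu : ¬ IsUnit (qp Q) := fun hu => by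
    have := (MvPolynomial.isUnit_iff_totalDegree_of_isReduced).1 hu
    omega
  rw [irreducible_iff, not_and_or, not_not] at h
  rcases h with h | h
  · exact absurd h hnu
  push Not at h
  obtain ⟨g, g', hgg, hg, hg'⟩ := h
  have hg0 : g ≠ 0 := fun h0 => qp_ne_zero hQ hQ0 (by rw [hgg, h0, zero_mul])
  have hg'0 : g' ≠ 0 := fun h0 => qp_ne_zero hQ hQ0 (by rw [hgg, h0, mul_zero])
  have hdeg := totalDegree_mul_of_isDomain hg0 hg'0
  rw [← hgg, hd] at hdeg
  have hpos : ∀ p : MvPolynomial (Fin 3) k, ¬ IsUnit p → p ≠ 0 → 1 ≤ p.totalDegree := by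
    intro p hp hp0
    by_contra hc
    have hC := (totalDegree_eq_zero_iff_eq_C (p := p)).1 (by omega)
    exact hp (hC ▸ (isUnit_iff_ne_zero.2 fun h0 => hp0 (by rw [hC, h0, map_zero])).map C)
  have h1 := hpos g hg hg0
  have h2 := hpos g' hg' hg'0
  have hlin : ∀ p : MvPolynomial (Fin 3) k, p.totalDegree = 1 →
      ∃ a : Fin 3 → k, p = C (constantCoeff p) + lf a := by
    intro p hp
    refine ⟨fun i => coeff (Finsupp.single i 1) p, ?_⟩
    have hsum := sum_homogeneousComponent p
    rw [hp, Finset.sum_range_succ, Finset.sum_range_one, homogeneousComponent_zero] at hsum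
    conv_lhs => rw [← hsum]
    congr 1
    ext u
    rw [coeff_homogeneousComponent]
    simp only [lf, coeff_sum, coeff_smul, smul_eq_mul, coeff_X]
    split
    · next hu =>
      obtain ⟨i, rfl⟩ : ∃ i, Finsupp.single i 1 = u := by
        rw [← Set.mem_range, Finsupp.range_single_one]; exact hu
      rw [Finset.sum_eq_single i]
      · simp
      · intro j _ hj
        simp [Finsupp.single_left_inj, hj]
      · simp
    · next hu =>
      refine (Finset.sum_eq_zero fun j _ => ?_).symm
      rw [if_neg, mul_zero]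
      rintro rfl
      simp at hu
  obtain ⟨a, ha⟩ := hlin g (by omega)
  obtain ⟨b, hb⟩ := hlin g' (by omega)
  refine ⟨a, b, ?_⟩
  have hla : ∀ a : Fin 3 → k, (lf a).IsHomogeneous 1 := fun a =>
    IsHomogeneous.sum _ _ _ fun i _ => by rw [smul_eq_C_mul]; exact (isHomogeneous_X k i).C_mul _
  have hc := congrArg (homogeneousComponent 2) hgg
  rw [homogeneousComponent_of_mem isHomogeneous_qp, if_pos rfl, ha, hb, add_mul, mul_add, mul_add, map_add, map_add,
    map_add, ← map_mul, homogeneousComponent_C_mul, homogeneousComponent_of_mem (hla b), mul_comm (lf a) (C _),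
    homogeneousComponent_C_mul, homogeneousComponent_of_mem (hla a),
    homogeneousComponent_of_mem ((hla a).mul (hla b))] at hc
  simpa [homogeneousComponent_eq_zero 2 (C (constantCoeff g')) (by simp)] using hc

theorem exists_prod_of_det_eq_zero [IsAlgClosed k] (hQ : Q.IsSymm) (hdet : Q.det = 0) :
    ∃ a b : Fin 3 → k, qp Q = lf a * lf b := by
  classical
  let B : LinearMap.BilinForm k (Fin 3 → k) := Matrix.toBilin' Q
  have hB : ∀ x y, B x y = x ⬝ᵥ Q *ᵥ y := fun x y => Matrix.toBilin'_apply' Q x y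
  have hBs : LinearMap.IsSymm B := ⟨fun x y => by
    rw [RingHom.id_apply, hB, hB, Matrix.dotProduct_mulVec, ← Matrix.mulVec_transpose, hQ.eq, dotProduct_comm]⟩
  haveI : Invertible (2 : k) := invertibleOfNonzero two_ne_zero
  obtain ⟨v, hv⟩ := LinearMap.BilinForm.exists_orthogonal_basis hBs
  have hcard : Module.finrank k (Fin 3 → k) = 3 := by simp
  let w : Module.Basis (Fin 3) k (Fin 3 → k) := v.reindex (finCongr hcard)
  have hw : ∀ i j, i ≠ j → B (w i) (w j) = 0 := fun i j hij => by
    simp only [w, Module.Basis.reindex_apply]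
    exact hv fun h => hij ((finCongr hcard).symm.injective h)
  have hBw : ∀ x i, B (w i) x = B (w i) (w i) * w.repr x i := by
    intro x i
    conv_lhs => rw [← w.sum_repr x, map_sum]
    rw [Finset.sum_eq_single i, map_smul, smul_eq_mul, mul_comm]
    · exact fun j _ hj => by rw [map_smul, hw i j (Ne.symm hj), smul_zero]
    · simp
  obtain ⟨z, hz⟩ : ∃ z, B (w z) (w z) = 0 := by
    by_contra hall
    push Not at hall
    obtain ⟨u, hu0, hu⟩ := Matrix.exists_mulVec_eq_zero_iff.2 hdet
    refine hu0 (w.repr.injective (Finsupp.ext fun i => ?_))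
    have := hBw u i
    rw [hB, hu, dotProduct_zero] at this
    simpa using (mul_eq_zero.1 this.symm).resolve_left (hall i)
  let d : Fin 3 → k := fun i => B (w i) (w i)
  have hform : ∀ x, eval x (qp Q) = ∑ i, d i * (w.repr x i) ^ 2 := by
    intro x
    rw [eval_qp, ← hB]
    conv_lhs => arg 1; rw [← w.sum_repr x]
    rw [map_sum, LinearMap.sum_apply]
    refine Finset.sum_congr rfl fun i _ => ?_
    rw [map_smul, LinearMap.smul_apply, hBw, smul_eq_mul]
    ring
  let r : Fin 3 → Fin 3 → k := fun i j => w.repr (Pi.single j 1) i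
  have hr : ∀ x i, w.repr x i = r i ⬝ᵥ x := by
    intro x i
    conv_lhs => rw [pi_eq_sum_univ' x]
    simp only [r, dotProduct, map_sum, map_smul, Finsupp.coe_finsetSum, Finset.sum_apply, Finsupp.smul_apply, smul_eq_mul]
    exact Finset.sum_congr rfl fun j _ => mul_comm _ _
  obtain ⟨p, q, hpq, hsum⟩ : ∃ p q : Fin 3, p ≠ q ∧ ∀ g : Fin 3 → k, g z = 0 → ∑ i, g i = g p + g q := by
    fin_cases z
    · exact ⟨1, 2, by decide, fun g h => by simp only [Fin.sum_univ_three]; simp at h; rw [h, zero_add]⟩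
    · exact ⟨0, 2, by decide, fun g h => by simp only [Fin.sum_univ_three]; simp at h; rw [h, add_zero]⟩
    · exact ⟨0, 1, by decide, fun g h => by simp only [Fin.sum_univ_three]; simp at h; rw [h, add_zero]⟩
  obtain ⟨σ, hσ⟩ := IsAlgClosed.exists_pow_nat_eq (d p) (n := 2) two_pos
  obtain ⟨τ, hτ⟩ := IsAlgClosed.exists_pow_nat_eq (-d q) (n := 2) two_pos
  refine ⟨σ • r p + τ • r q, σ • r p - τ • r q, MvPolynomial.funext fun x => ?_⟩
  rw [hform, hsum (fun i => d i * (w.repr x i) ^ 2) (by simp [d, hz]), map_mul, eval_lf, eval_lf, add_dotProduct,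
    sub_dotProduct, smul_dotProduct, smul_dotProduct, hr, hr, smul_eq_mul, smul_eq_mul]
  linear_combination -(r p ⬝ᵥ x) ^ 2 * hσ + (r q ⬝ᵥ x) ^ 2 * hτ

end Helpers

/-- For an algebraically closed field k of characteristic zero, a nonzero symmetric 3 × 3 matrix Q over
k and the ternary quadratic form f = Σ Q_ij X_i X_j in k[X_0, X_1, X_2] (the equation of a plane
conic): (1) f is irreducible iff det Q ≠ 0; (2) the conic has a singular point, that is a nonzero
vector at which all partial derivatives of f vanish, iff det Q = 0 (so smooth conics are exactly the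
irreducible ones); (3) f is the product of two linearly independent linear forms (two distinct
lines) iff rank Q = 2; (4) f is the square of a linear form (a double line) iff rank Q = 1. -/
theorem result (k : Type u) [Field k] [IsAlgClosed k] [CharZero k]
    (Q : Matrix (Fin 3) (Fin 3) k) (hQ : Q.IsSymm) (hQ0 : Q ≠ 0) (f : MvPolynomial (Fin 3) k)
    (hf : f = ∑ i : Fin 3, ∑ j : Fin 3, Q i j • (MvPolynomial.X i * MvPolynomial.X j)) :
    (Irreducible f ↔ Q.det ≠ 0) ∧
    ((∃ u : Fin 3 → k, u ≠ 0 ∧ ∀ i : Fin 3, MvPolynomial.eval u (MvPolynomial.pderiv i f) = 0) ↔ Q.det = 0) ∧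
    ((∃ a b : Fin 3 → k, LinearIndependent k ![a, b] ∧
        f = (∑ i : Fin 3, a i • MvPolynomial.X i) * (∑ i : Fin 3, b i • MvPolynomial.X i)) ↔ Q.rank = 2) ∧
    ((∃ a : Fin 3 → k, f = (∑ i : Fin 3, a i • MvPolynomial.X i) ^ 2) ↔ Q.rank = 1) := by
  classical
  obtain rfl : f = qp Q := hf
  have hdetk : (∃ u : Fin 3 → k, u ≠ 0 ∧ Matrix.mulVec Q u = 0) ↔ Q.det = 0 := Matrix.exists_mulVec_eq_zero_iff
  have hprod : Q.det = 0 ↔ ∃ a b : Fin 3 → k, qp Q = lf a * lf b :=
    ⟨exists_prod_of_det_eq_zero hQ, fun ⟨a, b, h⟩ => hdetk.1 (mulVec_eq_zero_of_prod hQ h)⟩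
  have hgrad : ∀ (u : Fin 3 → k) i, MvPolynomial.eval u (MvPolynomial.pderiv i (qp Q)) = 2 * (Matrix.mulVec Q u) i := by
    intro u i
    have hs : ∀ j, Q j i = Q i j := fun j => hQ.apply i j
    fin_cases i <;>
      simp [qp, Fin.sum_univ_three, MvPolynomial.smul_eval, Matrix.mulVec, dotProduct, Pi.single_apply, ← hQ.apply 0 1,
        ← hQ.apply 0 2, ← hQ.apply 1 2] <;> ring
  refine ⟨?_, ?_, ?_, ?_⟩
  · constructor
    · intro hirr hd
      obtain ⟨a, b, h⟩ := hprod.1 hd
      have hl : ∀ a : Fin 3 → k, ¬ IsUnit (lf a) := fun a ha => by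
        have h1 := ha.map (MvPolynomial.eval (0 : Fin 3 → k))
        rw [eval_lf, dotProduct_zero] at h1
        exact not_isUnit_zero h1
      exact (hirr.isUnit_or_isUnit h).elim (hl a) (hl b)
    · intro hd
      by_contra hirr
      exact hd (hprod.2 (exists_prod_of_not_irreducible hQ hQ0 hirr))
  · rw [← hdetk]
    refine exists_congr fun u => and_congr_right fun _ => ⟨fun h => funext fun i => ?_, fun h i => ?_⟩
    · have := h i
      rw [hgrad] at this
      simpa using this
    · rw [hgrad, h]; simp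
  · constructor
    · rintro ⟨a, b, hab, h⟩
      exact rank_eq_two_of_prod hQ h hab
    · intro hr
      have hd : Q.det = 0 := by
        by_contra hd
        rw [Matrix.rank_of_isUnit Q ((Matrix.isUnit_iff_isUnit_det Q).2 (isUnit_iff_ne_zero.2 hd))] at hr
        simp at hr
      obtain ⟨a, b, h⟩ := hprod.1 hd
      refine ⟨a, b, ?_, h⟩
      by_contra hab
      rw [LinearIndependent.pair_iff] at hab
      push Not at hab
      obtain ⟨s, t, hst, hne⟩ := hab
      obtain ⟨c, e, he⟩ : ∃ (c : k) (e : Fin 3 → k), qp Q = MvPolynomial.C c * lf e ^ 2 := by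
        by_cases hs : s = 0
        · have ht : t ≠ 0 := hne hs
          refine ⟨0, a, ?_⟩
          rw [hs, zero_smul, zero_add, smul_eq_zero] at hst
          rw [h, hst.resolve_left ht]
          simp [lf]
        · refine ⟨-(t / s), b, ?_⟩
          have ha : a = (-(t / s)) • b := by
            funext i
            have := congrFun hst i
            simp only [Pi.add_apply, Pi.smul_apply, smul_eq_mul, Pi.zero_apply] at this ⊢
            field_simp
            linear_combination this
          rw [h, ha]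
          apply MvPolynomial.funext
          intro x
          simp only [map_mul, map_pow, eval_lf, smul_dotProduct, smul_eq_mul, MvPolynomial.eval_C]
          ring
      obtain ⟨σ, hσ⟩ := IsAlgClosed.exists_pow_nat_eq c (n := 2) two_pos
      have h1 : Q.rank = 1 := rank_of_sq hQ hQ0 (a := σ • e) (by
        apply MvPolynomial.funext
        intro x
        simp only [he, map_mul, map_pow, eval_lf, smul_dotProduct, smul_eq_mul, MvPolynomial.eval_C]
        rw [← hσ]; ring)
      omega
  · constructor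
    · rintro ⟨a, h⟩
      exact rank_of_sq hQ hQ0 h
    · intro hr
      have hd : Q.det = 0 := by
        by_contra hd
        rw [Matrix.rank_of_isUnit Q ((Matrix.isUnit_iff_isUnit_det Q).2 (isUnit_iff_ne_zero.2 hd))] at hr
        simp at hr
      obtain ⟨a, b, h⟩ := hprod.1 hd
      have hab : ¬ LinearIndependent k ![a, b] := fun hab => by
        have := rank_eq_two_of_prod hQ h hab; omega
      rw [LinearIndependent.pair_iff] at hab
      push Not at hab
      obtain ⟨s, t, hst, hne⟩ := hab
      by_cases hs : s = 0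
      · have ht : t ≠ 0 := hne hs
        rw [hs, zero_smul, zero_add, smul_eq_zero] at hst
        refine absurd ?_ (qp_ne_zero hQ hQ0)
        rw [h, hst.resolve_left ht]
        simp [lf]
      · obtain ⟨σ, hσ⟩ := IsAlgClosed.exists_pow_nat_eq (-(t / s)) (n := 2) two_pos
        refine ⟨σ • b, ?_⟩
        have ha : a = (-(t / s)) • b := by
          funext i
          have := congrFun hst i
          simp only [Pi.add_apply, Pi.smul_apply, smul_eq_mul, Pi.zero_apply] at this ⊢
          field_simp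
          linear_combination this
        change qp Q = lf (σ • b) ^ 2
        rw [h, ha]
        apply MvPolynomial.funext
        intro x
        simp only [map_mul, map_pow, eval_lf, smul_dotProduct, smul_eq_mul]
        rw [← hσ]; ring

end Groth.Agent.S13911
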