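import Groth.Statements.S13912
import Mathlib
-- import your own Groth.Agent.* helpers here

set_option autoImplicit false
universe u
open PlaneConic

namespace Groth.Agent.S13912

section
variable {k : Type u} [Field k]

open MvPolynomial in
theorem exists_lin {f : MvPolynomial (Fin 3) k} (hf : f.IsHomogeneous 1) :
    ∃ L : (Fin 3 → k) →ₗ[k] k, ∀ x, eval x f = L x := by
  have hf' : f ∈ homogeneousSubmodule (Fin 3) k 1 := hf
  rw [homogeneousSubmodule_one_eq_span_X] at hf'
  clear hf
  induction hf' using Submodule.span_induction with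
  | mem x hx => obtain ⟨i, rfl⟩ := hx; exact ⟨LinearMap.proj i, fun x => by simp⟩
  | zero => exact ⟨0, fun x => by simp⟩
  | add x y _ _ hx hy =>
    obtain ⟨L, hL⟩ := hx
    obtain ⟨L', hL'⟩ := hy
    exact ⟨L + L', fun z => by simp [hL, hL']⟩
  | smul a x _ hx =>
    obtain ⟨L, hL⟩ := hx
    exact ⟨a • L, fun z => by simp [hL]⟩

/-- A nonzero vector is a row of an invertible matrix. -/
theorem exists_gl (u : Fin 2 → k) (hu : u ≠ 0) : ∃ g : GL (Fin 2) k, ∀ j, g.val 0 j = u j := by
  by_cases h : u 0 = 0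
  · have h1 : u 1 ≠ 0 := fun h1 => hu (funext fun i => by fin_cases i <;> assumption)
    refine ⟨Matrix.GeneralLinearGroup.mkOfDetNeZero !![u 0, u 1; 1, 0] (by simp [Matrix.det_fin_two, h1]), ?_⟩
    intro j; fin_cases j <;> rfl
  · refine ⟨Matrix.GeneralLinearGroup.mkOfDetNeZero !![u 0, u 1; 0, 1] (by simp [Matrix.det_fin_two, h]), ?_⟩
    intro j; fin_cases j <;> rfl

theorem key [IsAlgClosed k] [CharZero k] (A : Fin 2 → Fin 2 → (Fin 3 → k) →ₗ[k] k)
    (l₁ l₂ : (Fin 3 → k) →ₗ[k] k) (hdet : ∀ x, A 0 0 x * A 1 1 x - A 0 1 x * A 1 0 x = l₁ x * l₂ x) :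
    ∃ u v : Fin 2 → k, u ≠ 0 ∧ v ≠ 0 ∧ ∀ x, ∑ i, ∑ j, u i * v j * A i j x = 0 := by
  -- pairing with a matrix of scalars
  let Φ : Matrix (Fin 2) (Fin 2) k →ₗ[k] ((Fin 3 → k) →ₗ[k] k) :=
    { toFun := fun Q => ∑ i, ∑ j, Q i j • A i j
      map_add' := fun P Q => by simp only [Matrix.add_apply, add_smul, Finset.sum_add_distrib]
      map_smul' := fun c Q => by simp only [Matrix.smul_apply, smul_eq_mul, mul_smul, Finset.smul_sum, RingHom.id_apply] }
  have hrk1 : ∀ Q : Matrix (Fin 2) (Fin 2) k, Q ≠ 0 → Φ Q = 0 → Q.det = 0 →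
      ∃ u v : Fin 2 → k, u ≠ 0 ∧ v ≠ 0 ∧ ∀ x, ∑ i, ∑ j, u i * v j * A i j x = 0 := by
    intro Q hQ hΦ hd
    obtain ⟨i₀, j₀, hne⟩ : ∃ i j, Q i j ≠ 0 := by
      by_contra h
      push Not at h
      exact hQ (Matrix.ext h)
    have hrel : ∀ i j, Q i j * Q i₀ j₀ = Q i j₀ * Q i₀ j := by
      intro i j
      rw [Matrix.det_fin_two] at hd
      have h2 : ∀ a : Fin 2, a = 0 ∨ a = 1 := by decide
      rcases h2 i with rfl | rfl <;> rcases h2 j with rfl | rfl <;> rcases h2 i₀ with rfl | rfl <;> rcases h2 j₀ with rfl | rfl <;> first | ring1 | linear_combination hd | linear_combination (-1 : k) * hd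
    refine ⟨fun i => Q i j₀, fun j => Q i₀ j / Q i₀ j₀, fun h => hne (congrFun h i₀),
      fun h => one_ne_zero (α := k) (by rw [← div_self hne]; exact congrFun h j₀), fun x => ?_⟩
    have h2 := congrArg (fun L : (Fin 3 → k) →ₗ[k] k => L x) hΦ
    simp only [Φ, LinearMap.coe_mk, AddHom.coe_mk, LinearMap.coe_sum, Finset.sum_apply, LinearMap.smul_apply, smul_eq_mul, LinearMap.zero_apply] at h2
    rw [← h2]
    refine Finset.sum_congr rfl fun i _ => Finset.sum_congr rfl fun j _ => ?_
    field_simp
    linear_combination (-(A i j x)) * hrel i j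
  obtain ⟨Q, hQ0, hQ⟩ : ∃ Q, Q ≠ 0 ∧ Φ Q = 0 := by
    by_contra h
    push Not at h
    have hinj : Function.Injective Φ := by
      rw [injective_iff_map_eq_zero]
      exact fun Q hQ => by_contra fun h0 => h Q h0 hQ
    have := LinearMap.finrank_le_finrank_of_injective hinj
    simp [Module.finrank_matrix, Module.finrank_linearMap] at this
  by_cases hd : Q.det = 0
  · exact hrk1 Q hQ0 hQ hd
  -- `M' = M Qᵀ` is traceless
  let B : Fin 2 → Fin 2 → (Fin 3 → k) →ₗ[k] k := fun i j => ∑ l, Q j l • A i l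
  have hB : ∀ i j x, B i j x = ∑ l, Q j l * A i l x := fun i j x => by simp [B]
  have htr : ∀ x, B 1 1 x = - B 0 0 x := fun x => by
    have h2 := congrArg (fun L : (Fin 3 → k) →ₗ[k] k => L x) hQ
    simp only [Φ, LinearMap.coe_mk, AddHom.coe_mk, LinearMap.coe_sum, Finset.sum_apply, LinearMap.smul_apply, LinearMap.add_apply, smul_eq_mul, LinearMap.zero_apply, Fin.sum_univ_two] at h2
    rw [hB, hB]; simp only [Fin.sum_univ_two]
    linear_combination h2
  have hquad : ∀ x, -(B 0 0 x * B 0 0 x) - B 0 1 x * B 1 0 x = Q.det * (l₁ x * l₂ x) := fun x => by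
    have h1 : B 0 0 x * B 1 1 x - B 0 1 x * B 1 0 x = Q.det * (l₁ x * l₂ x) := by
      rw [← hdet, Matrix.det_fin_two, hB, hB, hB, hB]; simp only [Fin.sum_univ_two]; ring
    rw [htr] at h1
    linear_combination h1
  let T : (Fin 3 → k) →ₗ[k] (Fin 3 → k) := LinearMap.pi ![B 0 0, B 0 1, B 1 0]
  by_cases hT : Function.Injective T
  · exfalso
    obtain ⟨p, hp0, hp⟩ : ∃ p, p ≠ 0 ∧ l₁.prod l₂ p = 0 := by
      by_contra h
      push Not at h
      have hinj : Function.Injective (l₁.prod l₂) := by
        rw [injective_iff_map_eq_zero]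
        exact fun x hx => by_contra fun h0 => h x h0 hx
      have := LinearMap.finrank_le_finrank_of_injective hinj
      simp [Module.finrank_prod] at this
    have hp1 : l₁ p = 0 := congrArg Prod.fst hp
    have hp2 : l₂ p = 0 := congrArg Prod.snd hp
    have hpol : ∀ v, 2 * (B 0 0 p * B 0 0 v) + B 0 1 p * B 1 0 v + B 0 1 v * B 1 0 p = 0 := by
      intro v
      have e1 := hquad (p + v)
      have e2 := hquad p
      have e3 := hquad v
      simp only [map_add, hp1, hp2, zero_add, mul_zero, zero_mul] at e1 e2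
      linear_combination e2 + e3 - e1
    have hsurj := LinearMap.injective_iff_surjective.1 hT
    refine hp0 (hT ?_)
    rw [map_zero]
    funext i
    fin_cases i
    · obtain ⟨v, hv⟩ := hsurj ![1, 0, 0]
      have := hpol v
      rw [show B 0 0 v = 1 from congrFun hv 0, show B 0 1 v = 0 from congrFun hv 1, show B 1 0 v = 0 from congrFun hv 2] at this
      simpa [T] using this
    · obtain ⟨v, hv⟩ := hsurj ![0, 0, 1]
      have := hpol v
      rw [show B 0 0 v = 0 from congrFun hv 0, show B 0 1 v = 0 from congrFun hv 1, show B 1 0 v = 1 from congrFun hv 2] at this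
      simpa [T] using this
    · obtain ⟨v, hv⟩ := hsurj ![0, 1, 0]
      have := hpol v
      rw [show B 0 0 v = 0 from congrFun hv 0, show B 0 1 v = 1 from congrFun hv 1, show B 1 0 v = 0 from congrFun hv 2] at this
      simpa [T] using this
  · -- all `A i j` vanish at a common point, so the kernel of `Φ` is at least two-dimensional
    rw [injective_iff_map_eq_zero] at hT
    push Not at hT
    obtain ⟨p, hp, hp0⟩ := hT
    have hBp : ∀ i j, B i j p = 0 := by
      intro i j
      fin_cases i <;> fin_cases j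
      · exact congrFun hp 0
      · exact congrFun hp 1
      · exact congrFun hp 2
      · show B 1 1 p = 0
        rw [htr, show B 0 0 p = 0 from congrFun hp 0, neg_zero]
    have hAp : ∀ i l, A i l p = 0 := by
      intro i l
      have h0 : Q.mulVec (fun l => A i l p) = 0 := by
        funext j
        exact (hB i j p).symm.trans (hBp i j)
      exact congrFun (Matrix.eq_zero_of_mulVec_eq_zero hd h0) l
    have hle : LinearMap.range Φ ≤ LinearMap.ker (Module.Dual.eval k (Fin 3 → k) p) := by
      rintro _ ⟨P, rfl⟩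
      simp [Φ, hAp]
    have hlt : Module.finrank k (LinearMap.range Φ) ≤ 2 := by
      refine (Submodule.finrank_mono hle).trans ?_
      have h1 := LinearMap.finrank_range_add_finrank_ker (Module.Dual.eval k (Fin 3 → k) p)
      have h2 : (Module.Dual.eval k (Fin 3 → k) p) ≠ 0 := fun h => hp0 (Module.eval_apply_eq_zero_iff k p |>.1 h)
      have h3 : 1 ≤ Module.finrank k (LinearMap.range (Module.Dual.eval k (Fin 3 → k) p)) :=
        Submodule.one_le_finrank_iff.2 (fun h => h2 (LinearMap.range_eq_bot.1 h))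
      simp [Module.Dual] at h1
      omega
    have hker := LinearMap.finrank_range_add_finrank_ker Φ
    simp [Module.finrank_matrix] at hker
    obtain ⟨P, hP, hPQ⟩ : ∃ P ∈ LinearMap.ker Φ, P ∉ Submodule.span k {Q} := by
      by_contra h
      push Not at h
      have := (Submodule.finrank_mono (show LinearMap.ker Φ ≤ Submodule.span k {Q} from h)).trans_eq (finrank_span_singleton hQ0)
      omega
    let f : Polynomial k := (Polynomial.C (P 0 0) + Polynomial.X * Polynomial.C (Q 0 0)) * (Polynomial.C (P 1 1) + Polynomial.X * Polynomial.C (Q 1 1)) - (Polynomial.C (P 0 1) + Polynomial.X * Polynomial.C (Q 0 1)) * (Polynomial.C (P 1 0) + Polynomial.X * Polynomial.C (Q 1 0))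
    have hf : f.coeff 2 = Q.det := by
      have : f = Polynomial.C P.det + Polynomial.C (P 0 0 * Q 1 1 + P 1 1 * Q 0 0 - P 0 1 * Q 1 0 - P 1 0 * Q 0 1) * Polynomial.X + Polynomial.C Q.det * Polynomial.X ^ 2 := by
        simp only [f, Matrix.det_fin_two, map_sub, map_mul, map_add]; ring
      rw [this]; simp [Polynomial.coeff_X, Polynomial.coeff_C, Polynomial.coeff_X_pow]
    obtain ⟨t, ht⟩ := IsAlgClosed.exists_root f (fun h0 => by
      have := Polynomial.natDegree_eq_of_degree_eq_some (n := 0) (by rw [h0]; rfl)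
      exact hd (hf ▸ Polynomial.coeff_eq_zero_of_natDegree_lt (by omega)))
    refine hrk1 (P + t • Q) (fun h0 => hPQ ?_) (by rw [map_add, map_smul, hQ, LinearMap.mem_ker.1 hP, smul_zero, add_zero]) ?_
    · rw [eq_neg_of_add_eq_zero_left h0]
      exact neg_mem (Submodule.smul_mem _ _ (Submodule.mem_span_singleton_self Q))
    · rw [Polynomial.IsRoot] at ht
      simp [f, Polynomial.eval_mul] at ht
      simp [Matrix.det_fin_two]
      linear_combination ht
end


/-- Over an algebraically closed field k of characteristic zero, for a 2 × 2 matrix M of linear forms in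
k[X_0, X_1, X_2] (entries homogeneous of degree 1, zero allowed), det M is a product of two linear
forms if and only if M can be brought by invertible scalar row and column operations g M h, with g,
h in GL_2(k), to a matrix with zero upper-right entry. (The published statement concerns matrices
with nonzero determinant; this row also allows determinant zero, where both sides hold.) -/
theorem result (k : Type u) [Field k] [IsAlgClosed k] [CharZero k]
    (M : Matrix (Fin 2) (Fin 2) (MvPolynomial (Fin 3) k)) (hM : ∀ a b : Fin 2, (M a b).IsHomogeneous 1) :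
    (∃ l₁ l₂ : MvPolynomial (Fin 3) k, l₁.IsHomogeneous 1 ∧ l₂.IsHomogeneous 1 ∧ M.det = l₁ * l₂) ↔
    ∃ g h : GL (Fin 2) k,
      ((MvPolynomial.C : k →+* MvPolynomial (Fin 3) k).mapMatrix g.val * M *
        (MvPolynomial.C : k →+* MvPolynomial (Fin 3) k).mapMatrix h.val) 0 1 = 0 := by
  constructor
  · rintro ⟨l₁, l₂, h₁, h₂, hdet⟩
    choose A hA using fun i j => exists_lin (hM i j)
    obtain ⟨L₁, hL₁⟩ := exists_lin h₁
    obtain ⟨L₂, hL₂⟩ := exists_lin h₂
    obtain ⟨u, v, hu, hv, h0⟩ := key A L₁ L₂ fun x => by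
      have := congrArg (MvPolynomial.eval x) hdet
      rw [Matrix.det_fin_two] at this
      simpa [hA, hL₁, hL₂] using this
    obtain ⟨g, hg⟩ := exists_gl u hu
    obtain ⟨h', hh'⟩ := exists_gl v hv
    -- move the row `v` to column `1`
    refine ⟨g, Matrix.GeneralLinearGroup.mkOfDetNeZero (Matrix.of fun i j => h'.val (Equiv.swap 0 1 j) i) ?_, ?_⟩
    · rw [show (Matrix.of fun i j => h'.val (Equiv.swap 0 1 j) i) = h'.val.transpose.submatrix id (Equiv.swap 0 1) from rfl,
        Matrix.det_permute', Matrix.det_transpose]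
      exact mul_ne_zero (by simp) ((Matrix.isUnit_iff_isUnit_det _).1 h'.isUnit).ne_zero
    refine MvPolynomial.funext fun x => ?_
    rw [map_zero]
    refine Eq.trans ?_ (h0 x)
    simp [Matrix.mul_apply, Fin.sum_univ_two, hA, hg, hh', Matrix.GeneralLinearGroup.mkOfDetNeZero]
    ring
  · rintro ⟨g, h, h0⟩
    set N := (MvPolynomial.C : k →+* MvPolynomial (Fin 3) k).mapMatrix g.val * M *
        (MvPolynomial.C : k →+* MvPolynomial (Fin 3) k).mapMatrix h.val with hN
    have hN1 : ∀ i j, (N i j).IsHomogeneous 1 := fun i j => by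
      rw [hN]
      simp only [Matrix.mul_apply, RingHom.mapMatrix_apply, Matrix.map_apply]
      refine MvPolynomial.IsHomogeneous.sum _ _ _ fun l _ => ?_
      have h1 : (∑ x, MvPolynomial.C (g.val i x) * M x l).IsHomogeneous 1 :=
        MvPolynomial.IsHomogeneous.sum _ _ _ fun m _ => (hM m l).C_mul _
      simpa using h1.mul (MvPolynomial.isHomogeneous_C (Fin 3) (h.val l j))
    have hc : g.val.det * h.val.det ≠ 0 :=
      mul_ne_zero ((Matrix.isUnit_iff_isUnit_det _).1 g.isUnit).ne_zero ((Matrix.isUnit_iff_isUnit_det _).1 h.isUnit).ne_zero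
    refine ⟨MvPolynomial.C (g.val.det * h.val.det)⁻¹ * N 0 0, N 1 1, (hN1 0 0).C_mul _, hN1 1 1, ?_⟩
    have hdetN : N.det = MvPolynomial.C (g.val.det * h.val.det) * M.det := by
      rw [hN, Matrix.det_mul, Matrix.det_mul, ← RingHom.map_det, ← RingHom.map_det, map_mul]; ring
    rw [Matrix.det_fin_two N, h0, zero_mul, sub_zero] at hdetN
    rw [mul_assoc, hdetN, ← mul_assoc, ← map_mul, inv_mul_cancel₀ hc, map_one, one_mul]

end Groth.Agent.S13912
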