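import Groth.Statements.S13913
import Mathlib
import Groth.Prelude

set_option linter.all false

set_option autoImplicit false
universe u
open PlaneCubic

open scoped TensorProduct
open MvPolynomial

namespace Groth.Agent.S13913

/-- Over an algebraically closed field of characteristic zero, for linearly independent linear forms z₁,
z₂ and quadratic forms q₁, q₂ in three variables and a nonzero common zero p of z₁ and z₂, the point
p is a singular point of the plane cubic z₁q₂ − z₂q₁ = 0 (all three partial derivatives vanish at p)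
if and only if q₁ and q₂ both vanish at p. -/
theorem result (k : Type u) [Field k] [IsAlgClosed k] [CharZero k]
    (z₁ z₂ q₁ q₂ : MvPolynomial (Fin 3) k) (hz₁ : z₁.IsHomogeneous 1) (hz₂ : z₂.IsHomogeneous 1)
    (hq₁ : q₁.IsHomogeneous 2) (hq₂ : q₂.IsHomogeneous 2) (hind : LinearIndependent k ![z₁, z₂])
    (p : Fin 3 → k) (hp : p ≠ 0) (hp₁ : MvPolynomial.eval p z₁ = 0) (hp₂ : MvPolynomial.eval p z₂ = 0) :
    (∀ i : Fin 3, MvPolynomial.eval p (MvPolynomial.pderiv i (z₁ * q₂ - z₂ * q₁)) = 0) ↔
      (MvPolynomial.eval p q₁ = 0 ∧ MvPolynomial.eval p q₂ = 0) := by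
  constructor
  · intro h
    set w := eval p q₂ • z₁ - eval p q₁ • z₂
    have hw : w.IsHomogeneous 1 :=
      Submodule.sub_mem (homogeneousSubmodule (Fin 3) k 1) (Submodule.smul_mem _ _ hz₁) (Submodule.smul_mem _ _ hz₂)
    have hd : ∀ i, pderiv i w = 0 := by
      intro i
      obtain ⟨c, hc⟩ : ∃ c, pderiv i w = C c := ⟨_, (totalDegree_eq_zero_iff_eq_C).1 (Nat.le_zero.1 ((hw.pderiv (i := i)).totalDegree_le))⟩
      have := h i
      simp only [map_sub, pderiv_mul, map_add, map_mul, hp₁, hp₂, zero_mul, add_zero] at this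
      have h2 : eval p (pderiv i w) = 0 := by
        simp only [w, map_sub, Derivation.map_smul, smul_eval]; linear_combination this
      rw [hc, eval_C] at h2
      rw [hc, h2, map_zero]
    have hw0 : w = 0 := by
      have := hw.sum_X_mul_pderiv
      simp [hd] at this
      exact this.symm
    have := LinearIndependent.pair_iff.1 hind (eval p q₂) (-eval p q₁) (by rw [neg_smul, ← sub_eq_add_neg]; exact hw0)
    exact ⟨neg_eq_zero.1 this.2, this.1⟩
  · rintro ⟨h1, h2⟩ i
    simp [pderiv_mul, hp₁, hp₂, h1, h2]

end Groth.Agent.S13913
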