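import Groth.Statements.S13914
import Mathlib
import Groth.Prelude

set_option linter.all false

set_option autoImplicit false
universe u
open PlaneConic

open scoped TensorProduct
open MvPolynomial

namespace Groth.Agent.S13914

/-- Over an algebraically closed field of characteristic zero, an invertible 3 × 3 matrix g, acting on
row vectors and so on the projective plane, fixes every point of the line u_0 = 0 if and only if g
is a nonzero scalar multiple of a matrix with rows (α, β, γ), (0, 1, 0), (0, 0, 1). -/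
theorem result (k : Type u) [Field k] [IsAlgClosed k] [CharZero k]
    (g : Matrix (Fin 3) (Fin 3) k) (hg : IsUnit g.det) :
    (∀ v : Fin 3 → k, v 0 = 0 → ∃ c : k, Matrix.vecMul v g = c • v) ↔
      ∃ c α β γ : k, c ≠ 0 ∧ g = c • !![α, β, γ; 0, 1, 0; 0, 0, 1] := by
  constructor
  · intro h
    obtain ⟨a, ha⟩ := h ![0, 1, 0] rfl
    obtain ⟨b, hb⟩ := h ![0, 0, 1] rfl
    obtain ⟨c, hc⟩ := h ![0, 1, 1] rfl
    simp [funext_iff, Fin.forall_fin_succ, Matrix.vecMul, dotProduct, Fin.sum_univ_three] at ha hb hc
    obtain ⟨h10, h11, h12⟩ := ha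
    obtain ⟨h20, h21, h22⟩ := hb
    have hab : a = b := by linear_combination (h21 - h12) + hc.2.1 - hc.2.2 - h11 + h22 - h21 + h12 - h21 + h12
    have ha0 : a ≠ 0 := by
      intro h0
      apply hg.ne_zero
      rw [Matrix.det_fin_three, h10, h20, h11, h22, h12, h21, h0, ← hab, h0]; ring
    refine ⟨a, g 0 0 / a, g 0 1 / a, g 0 2 / a, ha0, ?_⟩
    ext i j
    fin_cases i <;> fin_cases j <;> simp [h10, h11, h12, h20, h21, h22, hab] <;> field_simp [hab ▸ ha0]
  · rintro ⟨c, α, β, γ, hc, rfl⟩ v hv
    refine ⟨c, ?_⟩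
    funext j
    fin_cases j <;> simp [Matrix.vecMul, dotProduct, Fin.sum_univ_three, hv, mul_comm]

end Groth.Agent.S13914
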