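import Groth.Statements.S13915
import Groth.Agent.BlowUpCoh.EulerPush
import Groth.Agent.BlowUpPlane.PointEuler
import Groth.Agent.Coherent.ProjSpaceFinite
import Groth.Agent.TwistLib.G.Inv
import Groth.Agent.S0844
import Groth.Agent.S4466

set_option autoImplicit false
universe u
open CategoryTheory CategoryTheory.Limits AlgebraicGeometry
open BlowUp

open Groth.Agent.Coherent Groth.Agent.BlowUpCoh Groth.Agent.BlowUpPlane

namespace Groth.Agent.S13915

/-- On the blowing up σ : X ⟶ P²_k of the projective plane over an algebraically closed field k of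
characteristic zero at a closed point, with E the ideal of the exceptional line and H the pull-back
of O(1), one has χ(X, σ^*O(a) ⊗ E^b) = (a² + 3a)/2 − (b² + b)/2 + 1 for all integers a and natural
numbers b (the line bundle written aH − bL; the k-structure on X is the composite through σ). -/
theorem result (k : Type u) [Field k] [IsAlgClosed k] [CharZero k]
    (p : ↥(CohB1.ProjSpace 2 k)) (hp : IsClosed ({p} : Set ↥(CohB1.ProjSpace 2 k)))
    {X : Scheme.{u}} [X.Over (Spec (CommRingCat.of k))] (σ : X ⟶ CohB1.ProjSpace 2 k)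
    (hσk : σ ≫ CohB1.ProjSpace.toSpec 2 k = X ↘ Spec (CommRingCat.of k))
    (hσ : BlowUp.IsBlowUp σ (Scheme.IdealSheafData.vanishingIdeal ⟨{p}, hp⟩)) (a : ℤ) (b : ℕ) :
    Curv2.euler k X (CohB1.tensorMod ((Scheme.Modules.pullback σ).obj (Twist.twistProjSpace 2 k a))
      (ClSub.idealMod ((BlowUp.exceptional σ (Scheme.IdealSheafData.vanishingIdeal ⟨{p}, hp⟩)) ^ b))) =
      (a * a + 3 * a) / 2 - ((b : ℤ) * b + b) / 2 + 1 := by
  haveI : IsProper (CohB1.ProjSpace 2 k ↘ Spec (CommRingCat.of k)) := isProper_projSpace_toSpec 2 k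
  have hI := koszulBasis_point k p hp
  have hL : PicF.IsInvertible (Twist.twistProjSpace 2 k a) := Groth.Agent.TwistLib.G.isInvertible_twist (fun x => by
    obtain ⟨i, hi⟩ := TopologicalSpace.Opens.mem_iSup.1 ((ProjLib.iSup_basicOpen_X 2 k).ge (Set.mem_univ x))
    exact ⟨_, ProjLib.X_mem_polyGrading 2 k i, hi⟩) a
  rw [euler_twist_idealPow k hσ hI hσk hL b, euler_twist_pointPow k rfl p hp hL b,
    EulerLib.euler_eq_sum k _ _ 2 fun q hq => S0844.result k 2 a q (by omega) (by omega),
    S4466.result k 2 two_pos a]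
  have h1 : 2 * Ring.choose (a + (2 : ℕ)) 2 = (a + 2) * (a + 1) := by
    have h := Ring.descPochhammer_eq_factorial_smul_choose (a + (2 : ℕ) : ℤ) 2
    simp [descPochhammer, Polynomial.smeval_comp, Polynomial.smeval_mul] at h
    push_cast
    linarith
  have h2 : 2 * (((b + 1).choose 2 : ℕ) : ℤ) = ((b : ℤ) + 1) * b := by
    rw [Nat.choose_two_right]
    have hd : 2 ∣ (b + 1) * (b + 1 - 1) := (Nat.even_mul_pred_self (b + 1)).two_dvd
    have := Nat.mul_div_cancel' hd
    zify at this ⊢
    push_cast at this ⊢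
    rw [this]
  have e1 : a * a + 3 * a = 2 * (Ring.choose (a + (2 : ℕ)) 2 - 1) := by linarith [h1]
  have e2 : (b : ℤ) * b + b = 2 * (((b + 1).choose 2 : ℕ) : ℤ) := by linarith [h2]
  rw [e1, e2, Int.mul_ediv_cancel_left _ two_ne_zero, Int.mul_ediv_cancel_left _ two_ne_zero]
  ring


end Groth.Agent.S13915
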