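import Groth.Statements.S13916
import Mathlib
import Groth.Prelude

set_option linter.all false

set_option autoImplicit false
universe u
open PlaneConic


namespace Groth.Agent.S13916

/-- Over an algebraically closed field k of characteristic zero, with u_0, u_1, u_2 the coordinate
linear forms of k[X_0, X_1, X_2] and 2 × 2 matrices of linear forms compared up to M ↦ g M h with g,
h invertible scalar matrices: (1) the matrices with rows (u_1, 0), (u_0, u_2) and (u_2, 0), (u_0,
u_1) are not equivalent; (2) for α ≠ 0 the matrix with rows (u_1, 0), (αu_0 + βu_1 + γu_2, u_2) is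
equivalent to the one with rows (u_1, 0), (u_0, u_2). -/
theorem result (k : Type u) [Field k] [IsAlgClosed k] [CharZero k] :
    (¬ ∃ g h : GL (Fin 2) k,
      (MvPolynomial.C : k →+* MvPolynomial (Fin 3) k).mapMatrix g.val *
          !![MvPolynomial.X 1, 0; MvPolynomial.X 0, MvPolynomial.X 2] *
        (MvPolynomial.C : k →+* MvPolynomial (Fin 3) k).mapMatrix h.val =
      !![MvPolynomial.X 2, 0; MvPolynomial.X 0, MvPolynomial.X 1]) ∧
    (∀ α β γ : k, α ≠ 0 → ∃ g h : GL (Fin 2) k,
      (MvPolynomial.C : k →+* MvPolynomial (Fin 3) k).mapMatrix g.val *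
          !![MvPolynomial.X 1, 0;
             MvPolynomial.C α * MvPolynomial.X 0 + MvPolynomial.C β * MvPolynomial.X 1 + MvPolynomial.C γ * MvPolynomial.X 2,
             MvPolynomial.X 2] *
        (MvPolynomial.C : k →+* MvPolynomial (Fin 3) k).mapMatrix h.val =
      !![MvPolynomial.X 1, 0; MvPolynomial.X 0, MvPolynomial.X 2]) := by
  refine ⟨?_, fun α β γ hα => ?_⟩
  · rintro ⟨g, h, he⟩
    have e := fun (v : Fin 3 → k) (i j : Fin 2) => congrArg (MvPolynomial.eval v) (congrFun (congrFun he i) j)
    have a10 := e ![1, 0, 0] 1 0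
    have a11 := e ![1, 0, 0] 1 1
    have b11 := e ![0, 1, 0] 1 1
    simp [Matrix.mul_apply, Fin.sum_univ_two] at a10 a11 b11
    rcases mul_eq_zero.1 (show g.val 1 1 * h.val 0 1 = 0 by first | exact mul_eq_zero.2 a11 | exact a11) with hz | hz
    · rw [hz, zero_mul] at a10; exact zero_ne_one a10
    · rw [hz, mul_zero] at b11; exact zero_ne_one b11
  · let g : Matrix (Fin 2) (Fin 2) k := !![1, 0; -β / α, 1 / α]
    let h : Matrix (Fin 2) (Fin 2) k := !![1, 0; -γ, α]
    have hg : g.det ≠ 0 := by simp [g, Matrix.det_fin_two, hα]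
    have hh : h.det ≠ 0 := by simp [h, Matrix.det_fin_two, hα]
    refine ⟨Matrix.GeneralLinearGroup.mkOfDetNeZero g hg, Matrix.GeneralLinearGroup.mkOfDetNeZero h hh, ?_⟩
    show (MvPolynomial.C : k →+* MvPolynomial (Fin 3) k).mapMatrix g * _ * (MvPolynomial.C : k →+* MvPolynomial (Fin 3) k).mapMatrix h = _
    have hinv : (MvPolynomial.C (1 / α) : MvPolynomial (Fin 3) k) * MvPolynomial.C α = 1 := by
      rw [← map_mul, one_div, inv_mul_cancel₀ hα, map_one]
    ext i j : 1
    fin_cases i <;> fin_cases j <;> simp [g, h, Matrix.mul_apply, Fin.sum_univ_two, neg_div, div_eq_inv_mul]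
    · rw [one_div] at hinv
      linear_combination MvPolynomial.X 0 * hinv
    · rw [one_div] at hinv
      linear_combination MvPolynomial.X 2 * hinv

end Groth.Agent.S13916
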