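import Groth.Statements.S13919
import Groth.Agent.CommAlg4.RamP1Three
-- import your own Groth.Agent.* helpers here

set_option autoImplicit false
universe u
open W4c1limliniiii

namespace Groth.Agent.S13919

open Polynomial in
/-- Over an algebraically closed field of characteristic p (zero allowed), fix three distinct points of
the affine line and indices 2 ≤ e_i ≤ d prime to p with ∑ (e_i − 1) = 2d − 2, and encode self-maps
of the projective line up to automorphisms of the target as base-point-free separable pencils of
polynomials of degree at most d. If p is positive, the first two indices are less than p and p ≤ d,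
then there is no separable degree-d self-map of the projective line with ramification index exactly
e_i at the i-th point; if p = 0 or d < p there is exactly one up to automorphisms of the target.
(The first clause includes the case d = p; with it, when all e_i are less than p, the three-point
count is one map if p = 0 or p > d and none otherwise.) -/
theorem result (k : Type u) [Field k] [IsAlgClosed k]
    (p : ℕ) [CharP k p] (d : ℕ) (P : Fin 3 → k) (hP : Function.Injective P)
    (e : Fin 3 → ℕ) (he : W4c1limliniiii.Admissible p d e) :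
    (p ≠ 0 → e 0 < p → e 1 < p → p ≤ d → W4c1limliniiii.ramMaps d P e = ∅) ∧
      (p = 0 ∨ d < p → ∃ V : Submodule k k[X], W4c1limliniiii.ramMaps d P e = {V}) := by
  have hd : ∀ i, e i ≤ d := fun i => (he.1 i).2.1
  have h1 : ∀ i, 1 ≤ e i := fun i => le_trans one_le_two (he.1 i).1
  have hs : (∑ i, e i) = 2 * d + 1 := by have := he.2; omega
  refine ⟨fun hp h0 h1' hpd => ?_, fun hp => ?_⟩
  · -- characteristic `p ≤ d`: an inseparable pencil with the vanishing
    have hprime : p.Prime := (CharP.char_is_prime_or_zero k p).resolve_right hp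
    haveI : ExpChar k[X] p := ExpChar.prime hprime
    set h := (X - C (P 2)) ^ (d - p) with hh
    have hne : ∀ i, h * (X - C (P i)) ^ p ≠ 0 := fun i =>
      mul_ne_zero (pow_ne_zero _ (X_sub_C_ne_zero _)) (pow_ne_zero _ (X_sub_C_ne_zero _))
    have hmul : ∀ i, e i ≤ rootMultiplicity (P i) (h * (X - C (P i)) ^ p) := by
      intro i
      rw [le_rootMultiplicity_iff (hne i)]
      fin_cases i
      · exact (pow_dvd_pow _ h0.le).trans (dvd_mul_left _ _)
      · exact (pow_dvd_pow _ h1'.le).trans (dvd_mul_left _ _)
      · rw [hh]
        show _ ∣ (X - C (P 2)) ^ (d - p) * (X - C (P 2)) ^ p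
        rw [← pow_add, Nat.sub_add_cancel hpd]
        exact pow_dvd_pow _ (hd 2)
    have hli : LinearIndependent k ![h * (X - C (P 0)) ^ p, h * (X - C (P 1)) ^ p] := by
      rw [LinearIndependent.pair_iff' (hne 0)]
      intro a ha
      rw [smul_eq_C_mul, ← mul_assoc, mul_comm (C a) h, mul_assoc] at ha
      have ha' := congrArg (eval (P 0)) (mul_left_cancel₀ (pow_ne_zero _ (X_sub_C_ne_zero _)) ha)
      simp [hp, sub_eq_zero] at ha'
      have h01 : P 0 - P 1 = 0 := by
        by_contra hc; exact pow_ne_zero p hc ha'.symm
      exact absurd (hP (sub_eq_zero.1 h01)) (by decide)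
    refine CommAlg4.RamP1Three.empty_of_insep hP hd hs ?_ (CommAlg4.RamP1Three.finrank_span_pair hli) ?_
      (fun i => ⟨_, ?_, hne i, hmul i⟩)
    · have : ∀ i, h * (X - C (P i)) ^ p ∈ degreeLE k d := fun i => by
        refine mem_degreeLE.2 (natDegree_le_iff_degree_le.1 (natDegree_mul_le.trans ?_))
        rw [hh, natDegree_pow, natDegree_pow, natDegree_X_sub_C, natDegree_X_sub_C]; omega
      exact Submodule.span_le.2 (Set.insert_subset (this 0) (Set.singleton_subset_iff.2 (this 1)))
    · rintro ⟨F, hF, G, hG, hFG⟩
      obtain ⟨c, hc⟩ := CommAlg4.RamP1Three.wronskian_span hF hG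
      refine hFG ?_
      rw [hc]
      simp [wronskian, derivative_mul, derivative_pow, CharP.cast_eq_zero]
      right; ring
    · fin_cases i
      · exact Submodule.subset_span (by simp)
      · exact Submodule.subset_span (by simp)
      · have key : ∀ a : k, (X - C a) ^ p = X ^ p - C (a ^ p) := fun a => by
          rw [sub_pow_expChar, C_pow]
        obtain ⟨u, v, huv, hu⟩ : ∃ u v : k, u + v = 1 ∧ u * P 0 ^ p + v * P 1 ^ p = P 2 ^ p := by
          have hne01 : P 0 ^ p - P 1 ^ p ≠ 0 := by
            haveI : ExpChar k p := ExpChar.prime hprime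
            rw [← sub_pow_expChar]
            exact pow_ne_zero _ (sub_ne_zero.2 fun h => absurd (hP h) (by decide))
          refine ⟨(P 2 ^ p - P 1 ^ p) / (P 0 ^ p - P 1 ^ p), 1 - (P 2 ^ p - P 1 ^ p) / (P 0 ^ p - P 1 ^ p),
            by ring, ?_⟩
          field_simp
          ring
        refine Submodule.mem_span_pair.2 ⟨u, v, ?_⟩
        show _ = h * (X - C (P 2)) ^ p
        rw [key, key, key, ← hu, smul_eq_C_mul, smul_eq_C_mul, map_add, map_mul, map_mul]
        have : C u + C v = (1 : k[X]) := by rw [← map_add, huv, map_one]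
        linear_combination (h * X ^ p) * this
  · -- no inseparable pencils when `p = 0` or `d < p`
    rcases CommAlg4.RamP1Three.exists_ramMaps_or_insep hP hd h1 hs with ⟨V, hV⟩ | ⟨V, hV, h2, hsep, -⟩
    · exact ⟨V, Set.eq_singleton_iff_unique_mem.2
        ⟨hV, fun W hW => CommAlg4.RamP1Three.subsingleton_ramMaps hP hd hs hW hV⟩⟩
    exfalso
    apply hsep
    haveI : Module.Finite k V := Module.finite_of_finrank_eq_succ h2
    obtain ⟨F, hF, hF0⟩ := Submodule.exists_mem_ne_zero_of_ne_bot (p := V) (by
      rintro rfl; simp at h2)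
    obtain ⟨G, hG, hGF⟩ : ∃ G ∈ V, G ∉ Submodule.span k {F} := by
      by_contra hcon
      push Not at hcon
      have := Submodule.finrank_mono (show V ≤ Submodule.span k {F} from hcon)
      rw [finrank_span_singleton hF0, h2] at this
      omega
    obtain ⟨G', hG', hG0, hne⟩ : ∃ G' ∈ V, G' ≠ 0 ∧ G'.natDegree ≠ F.natDegree := by
      by_cases hd' : G.natDegree = F.natDegree
      · refine ⟨G - C (G.leadingCoeff / F.leadingCoeff) * F, ?_, ?_, ?_⟩
        · rw [← smul_eq_C_mul]; exact V.sub_mem hG (V.smul_mem _ hF)
        · intro h0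
          rw [sub_eq_zero, ← smul_eq_C_mul] at h0
          exact hGF (h0 ▸ Submodule.smul_mem _ _ (Submodule.mem_span_singleton_self F))
        · intro hh
          have hc : (G - C (G.leadingCoeff / F.leadingCoeff) * F).leadingCoeff = 0 := by
            rw [leadingCoeff, hh, coeff_sub, coeff_C_mul, show F.coeff F.natDegree = F.leadingCoeff from rfl,
              div_mul_cancel₀ _ (leadingCoeff_ne_zero.2 hF0), ← hd']
            exact sub_self _
          rw [leadingCoeff_eq_zero, sub_eq_zero, ← smul_eq_C_mul] at hc
          exact hGF (hc ▸ Submodule.smul_mem _ _ (Submodule.mem_span_singleton_self F))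
      · exact ⟨G, hG, fun h => hGF (h ▸ Submodule.zero_mem _), hd'⟩
    refine ⟨F, hF, G', hG', fun hw => ?_⟩
    -- the coefficient of degree `m + n - 1`
    set m := F.natDegree with hm
    set n := G'.natDegree with hn
    have hmd : m ≤ d := CommAlg4.RamP1Three.natDegree_le_of_mem (hV hF)
    have hnd : n ≤ d := CommAlg4.RamP1Three.natDegree_le_of_mem (hV hG')
    have key : ∀ A B : k[X], (derivative A * B * X).coeff (A.natDegree + B.natDegree) =
        (A.natDegree : k) * A.leadingCoeff * B.leadingCoeff := by
      intro A B
      rw [show derivative A * B * X = (derivative A * X) * B by ring]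
      have hA : (derivative A * X).natDegree ≤ A.natDegree := by
        refine natDegree_le_iff_coeff_eq_zero.2 fun N hN => ?_
        obtain ⟨N', rfl⟩ : ∃ N', N = N' + 1 := ⟨N - 1, by omega⟩
        rw [coeff_mul_X, coeff_derivative, coeff_eq_zero_of_natDegree_lt hN, zero_mul]
      rw [coeff_mul_add_eq_of_natDegree_le hA le_rfl, leadingCoeff, leadingCoeff]
      congr 1
      rcases Nat.eq_zero_or_pos A.natDegree with h | h
      · rw [h, coeff_mul_X_zero]; simp
      · obtain ⟨N', hN'⟩ : ∃ N', A.natDegree = N' + 1 := ⟨A.natDegree - 1, by omega⟩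
        rw [hN', coeff_mul_X, coeff_derivative]
        push_cast; ring
    have h0 : (wronskian F G' * X).coeff (m + n) = 0 := by simp [hw]
    rw [wronskian, show (F * derivative G' - derivative F * G') * X =
      derivative G' * F * X - derivative F * G' * X by ring, coeff_sub] at h0
    have hk1 := key G' F
    rw [← hn, ← hm, add_comm n m] at hk1
    rw [hk1, key F G'] at h0
    have h3 : ((n : k) - (m : k)) * (F.leadingCoeff * G'.leadingCoeff) = 0 := by linear_combination h0
    have h4 := (mul_eq_zero.1 h3).resolve_right (mul_ne_zero (leadingCoeff_ne_zero.2 hF0) (leadingCoeff_ne_zero.2 hG0))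
    rw [sub_eq_zero, CharP.natCast_eq_natCast k p] at h4
    rcases hp with rfl | hp
    · exact hne (Nat.modEq_zero_iff.1 h4)
    · exact hne (Nat.ModEq.eq_of_lt_of_lt h4 (by omega) (by omega))

end Groth.Agent.S13919
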