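import Groth.Statements.S13920
import Groth.Agent.Ram15.Wron
-- import your own Groth.Agent.* helpers here

set_option autoImplicit false
universe u
open W4c1limliniiii

namespace Groth.Agent.S13920

open Groth.Agent.CommAlg4

open Polynomial in
/-- Over an algebraically closed field of prime characteristic p, fix n points of the affine line with
ramification indices e_i < p, and at infinity an index E with p < E and E prime to p, the datum (E,
e_1, …, e_n) being admissible for degree d (each index between 2 and d, ∑ (index − 1) = 2d − 2). If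
one separable degree-d self-map of the projective line (up to automorphisms of the target, encoded
as a base-point-free separable pencil of polynomials of degree at most d) has ramification index
exactly e_i at the i-th point and exactly E at infinity, then infinitely many do: the set of such
pencils is empty or infinite. (The consequence for general points, that no such map exists, is not
restated.) -/
theorem result
    (k : Type u) [Field k] [IsAlgClosed k] (p : ℕ) [Fact p.Prime] [CharP k p]
    (d n : ℕ) (P : Fin n → k) (e : Fin n → ℕ) (E : ℕ)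
    (he : W4c1limliniiii.Admissible p d (Fin.cons E e : Fin (n + 1) → ℕ))
    (hlt : ∀ i, e i < p) (hE : p < E) :
    {V : Submodule k k[X] | V ∈ W4c1limliniiii.ramMaps d P e ∧ W4c1limliniiii.HasRamIdxInf d V E} = ∅ ∨
      {V : Submodule k k[X] | V ∈ W4c1limliniiii.ramMaps d P e ∧
        W4c1limliniiii.HasRamIdxInf d V E}.Infinite := by
  rcases Set.eq_empty_or_nonempty {V : Submodule k k[X] | V ∈ W4c1limliniiii.ramMaps d P e ∧
      W4c1limliniiii.HasRamIdxInf d V E} with h | ⟨V, ⟨⟨hVd, h2, ⟨F, hF, hFd⟩, hbp⟩, hsep, hram⟩,
        ⟨⟨G, hG, hG0, hGE⟩, hall⟩⟩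
  · exact Or.inl h
  refine Or.inr ?_
  obtain ⟨hei, -⟩ := he
  have hE2 : 2 ≤ E ∧ E ≤ d := ⟨by simpa using (hei 0).1, by simpa using (hei 0).2.1⟩
  have he2 : ∀ i, 2 ≤ e i := fun i => by simpa using (hei i.succ).1
  have hpE : p < E := hE
  have hFne : F.coeff d ≠ 0 := by
    rw [← hFd]; exact leadingCoeff_ne_zero.2 fun h => by rw [h, natDegree_zero] at hFd; omega
  have hli : ∀ F' : k[X], F'.natDegree ≤ d → F'.coeff d ≠ 0 → LinearIndependent k ![F', G] := by
    intro F' _ hc
    rw [LinearIndependent.pair_iff]
    intro a b hab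
    have ha : a = 0 := by
      have := congrArg (fun q : k[X] => q.coeff d) hab
      simp only [coeff_add, coeff_smul, coeff_zero, smul_eq_mul,
        coeff_eq_zero_of_natDegree_lt (p := G) (n := d) (by omega), mul_zero, add_zero] at this
      exact (mul_eq_zero.1 this).resolve_right hc
    subst ha
    simpa [hG0] using hab
  have hspan : V = Submodule.span k ({F, G} : Set k[X]) :=
    (RamP1Three.span_pair_eq h2 hF hG (hli F hFd.le hFne)).symm
  subst hspan
  obtain ⟨A, hA, B, hB, hAB⟩ := hsep
  obtain ⟨c, hc⟩ := RamP1Three.wronskian_span hA hB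
  have hW : wronskian F G ≠ 0 := fun h => hAB (by rw [hc, h, mul_zero])
  have hz : ∀ z : k, ¬(F.eval z = 0 ∧ G.eval z = 0) := by
    rintro z ⟨h1, h3⟩
    obtain ⟨s, hs, hs'⟩ := hbp z
    obtain ⟨u, v, rfl⟩ := Submodule.mem_span_pair.1 hs
    exact hs' (by simp [h1, h3])
  set T : k → k[X] := fun t => F + C t * X ^ p * G with hT
  have hTc : ∀ t, (T t).coeff d = F.coeff d := fun t => by
    rw [hT, coeff_add, add_eq_left, mul_assoc, coeff_C_mul, mul_comm (X ^ p), coeff_mul_X_pow']
    split_ifs with h
    · rw [coeff_eq_zero_of_natDegree_lt (by omega), mul_zero]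
    · rw [mul_zero]
  have hTd : ∀ t, (T t).natDegree ≤ d := fun t => by
    refine (natDegree_add_le _ _).trans (max_le hFd.le (natDegree_mul_le.trans ?_))
    have := natDegree_C_mul_X_pow_le t p
    omega
  have hTW : ∀ t, wronskian (T t) G = wronskian F G := fun t => by
    simp only [hT, wronskian, derivative_add, derivative_mul, derivative_C, derivative_X_pow,
      CharP.cast_eq_zero]
    simp
    ring
  have hdeg : ∀ {q : k[X]}, q.natDegree ≤ d → q ∈ degreeLE k (d : WithBot ℕ) := fun h =>
    mem_degreeLE.2 (natDegree_le_iff_degree_le.1 h)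
  have hTz : ∀ t z, ¬((T t).eval z = 0 ∧ G.eval z = 0) := fun t z ⟨h1, h3⟩ =>
    hz z ⟨by simpa [hT, h3] using h1, h3⟩
  refine Set.infinite_of_injective_forall_mem
    (f := fun t : k => Submodule.span k ({T t, G} : Set k[X])) ?_ fun t => ?_
  · intro s t hst
    have hmem : T s ∈ Submodule.span k ({T t, G} : Set k[X]) := by
      rw [← show Submodule.span k ({T s, G} : Set k[X]) = Submodule.span k ({T t, G} : Set k[X]) from hst]
      exact Submodule.subset_span (by simp)
    obtain ⟨a, b, hab⟩ := Submodule.mem_span_pair.1 hmem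
    have hGd : G.natDegree < d := by omega
    have ha : a = 1 := by
      have h1 := congrArg (fun q : k[X] => q.coeff d) hab
      simp only [coeff_add, coeff_smul, smul_eq_mul, hTc,
        coeff_eq_zero_of_natDegree_lt hGd, mul_zero, add_zero] at h1
      exact mul_right_cancel₀ hFne (h1.trans (one_mul _).symm)
    subst ha
    have h1 : (C (t - s) * X ^ p + C b) * G = 0 := by
      simp only [hT, one_smul, smul_eq_C_mul] at hab
      rw [C_sub]
      linear_combination hab
    have h3 := congrArg (fun q : k[X] => q.coeff p) ((mul_eq_zero.1 h1).resolve_right hG0)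
    simp only [coeff_add, coeff_C_mul_X_pow, coeff_C, if_neg (Fact.out : p.Prime).ne_zero, if_pos, add_zero, coeff_zero] at h3
    exact (sub_eq_zero.1 h3).symm
  · refine ⟨⟨⟨Submodule.span_le.2 ?_, RamP1Three.finrank_span_pair (hli _ (hTd t) (by rw [hTc]; exact hFne)),
      ⟨T t, Submodule.subset_span (by simp), le_antisymm (hTd t)
        (le_natDegree_of_ne_zero (by rw [hTc]; exact hFne))⟩, fun z => ?_⟩,
      ⟨T t, Submodule.subset_span (by simp), G, Submodule.subset_span (by simp), by rw [hTW]; exact hW⟩,
      fun i => ?_⟩, ⟨G, Submodule.subset_span (by simp), hG0, hGE⟩, fun v hv hv0 => ?_⟩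
    · rintro x (rfl | rfl)
      · exact hdeg (hTd t)
      · exact hVd (Submodule.subset_span (by simp))
    · by_contra hcon
      push Not at hcon
      exact hTz t z ⟨hcon _ (Submodule.subset_span (by simp)), hcon _ (Submodule.subset_span (by simp))⟩
    · rw [Ram15.Wron.hasRamIdx_iff (p := p) (hTz t _) (by rw [hTW]; exact hW) (he2 i) (hlt i), hTW,
        ← Ram15.Wron.hasRamIdx_iff (p := p) (hz _) hW (he2 i) (hlt i)]
      exact hram i
    · obtain ⟨a, b, rfl⟩ := Submodule.mem_span_pair.1 hv
      by_cases ha : a = 0
      · subst ha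
        have hb : b ≠ 0 := fun h => hv0 (by simp [h])
        simp only [zero_smul, zero_add] at hv0 ⊢
        exact hall _ (Submodule.smul_mem _ b (Submodule.subset_span (by simp))) hv0
      · have : (a • T t + b • G).coeff d ≠ 0 := by
          simp [hTc, coeff_eq_zero_of_natDegree_lt (p := G) (n := d) (by omega), ha, hFne]
        have := le_natDegree_of_ne_zero this
        omega

end Groth.Agent.S13920
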