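import Groth.Statements.S13921
import Groth.Agent.Ram15.Main
-- import your own Groth.Agent.* helpers here

set_option autoImplicit false
universe u
open W4c1limliniiii

namespace Groth.Agent.S13921

open Polynomial in
/-- Over an algebraically closed field of characteristic p (zero allowed), let d and indices e_1, …, e_n
be admissible (2 ≤ e_i ≤ d, e_i prime to p, ∑ (e_i − 1) = 2d − 2). Then for a general choice of n
points of the affine line — every configuration outside the zero set of some non-zero polynomial in
the n coordinates — the separable degree-d self-maps of the projective line with ramification index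
exactly e_i at the i-th point, taken up to automorphisms of the target (encoded as base-point-free
separable pencils of polynomials of degree at most d), are finite in number, and none of them maps
two of the points to the same point: no non-zero member of the pencil vanishes at two of the points. -/
theorem result (k : Type u) [Field k]
    [IsAlgClosed k] (p : ℕ) [CharP k p] (d n : ℕ) (e : Fin n → ℕ)
    (he : W4c1limliniiii.Admissible p d e) :
    ∃ Φ : MvPolynomial (Fin n) k, Φ ≠ 0 ∧ ∀ P : Fin n → k, MvPolynomial.eval P Φ ≠ 0 →
      (W4c1limliniiii.ramMaps d P e).Finite ∧
        ∀ V ∈ W4c1limliniiii.ramMaps d P e, ∀ i j : Fin n, i ≠ j →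
          ∀ s ∈ V, (s.IsRoot (P i) ∧ s.IsRoot (P j)) → s = 0 := by
  exact Groth.Agent.Ram15.main p d n e he

end Groth.Agent.S13921
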