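import Groth.Statements.S13922
import Groth.Agent.Ram9.Flip

set_option autoImplicit false
universe u
open W4c1limliniiii

namespace Groth.Agent.S13922

open Groth.Agent.Ram9

theorem transfer {k : Type u} [Field k] {n d d' : ℕ} {e e' : Fin n → ℕ} {Ψ : MvPolynomial (Fin n) k}
    (hΨ : Ψ ≠ 0) (h : ∀ P : Fin n → k, MvPolynomial.eval P Ψ ≠ 0 →
      (ramMaps d P e).Finite ∧ (ramMaps d' P e').Finite ∧
        Nat.card (ramMaps d P e) = Nat.card (ramMaps d' P e')) (m : ℕ) :
    HasGenericCount (k := k) d e m ↔ HasGenericCount (k := k) d' e' m := by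
  constructor <;> rintro ⟨Φ, hΦ, hP⟩ <;> refine ⟨Φ * Ψ, mul_ne_zero hΦ hΨ, fun P h0 => ?_⟩ <;>
    rw [map_mul, mul_ne_zero_iff] at h0 <;> obtain ⟨f1, f2, hc⟩ := h P h0.2
  · exact ⟨f2, hc ▸ (hP P h0.1).2⟩
  · exact ⟨f1, hc.symm ▸ (hP P h0.1).2⟩

open Polynomial in
/-- Over an algebraically closed field of prime characteristic p, let (d; e_1, …, e_n) be admissible
ramification data (2 ≤ e_i ≤ d, ∑ (e_i − 1) = 2d − 2) with every e_i < p, and for two distinct
indices i ≠ j replace e_i, e_j by p − e_i, p − e_j and d by d + p − e_i − e_j. Then the number of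
separable self-maps of the projective line with the prescribed ramification at general points, up to
automorphisms of the target (counted as base-point-free separable pencils of polynomials, for
configurations of points of the affine line off the zero set of a non-zero polynomial), is the same
for the two data: a number is the general count for one if and only if it is the general count for
the other. -/
theorem result (k : Type u) [Field k] [IsAlgClosed k]
    (p : ℕ) [Fact p.Prime] [CharP k p] (d n : ℕ) (e : Fin n → ℕ)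
    (he : W4c1limliniiii.Admissible p d e) (hlt : ∀ l, e l < p) (i j : Fin n) (hij : i ≠ j)
    (m : ℕ) :
    W4c1limliniiii.HasGenericCount (k := k) d e m ↔
      W4c1limliniiii.HasGenericCount (k := k) (d + p - e i - e j)
        (Function.update (Function.update e i (p - e i)) j (p - e j)) m := by
  classical
  have hp : p.Prime := Fact.out
  have he1 : ∀ l, 1 ≤ e l ∧ e l < p := fun l => ⟨by have := (he.1 l).1; omega, hlt l⟩
  set e' := Function.update (Function.update e i (p - e i)) j (p - e j) with he'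
  set d' := d + p - e i - e j with hd'
  have hi' : e' i = p - e i := by rw [he', Function.update_of_ne hij, Function.update_self]
  have hj' : e' j = p - e j := by rw [he', Function.update_self]
  have ho' : ∀ l, l ≠ i → l ≠ j → e' l = e l := fun l h1 h2 => by
    rw [he', Function.update_of_ne h2, Function.update_of_ne h1]
  have he1' : ∀ l, 1 ≤ e' l ∧ e' l < p := by
    intro l
    by_cases h2 : l = j
    · rw [h2, hj']; have := he1 j; omega
    by_cases h1 : l = i
    · rw [h1, hi']; have := he1 i; omega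
    rw [ho' l h1 h2]; exact he1 l
  have hcast : ∀ r : ℕ, 1 ≤ r ∧ r < p → ((r : ℕ) : k) ≠ 0 := fun r hr h => by
    have := Nat.le_of_dvd hr.1 ((CharP.cast_eq_zero_iff k p r).1 h)
    omega
  have hei := he1 i
  have hej := he1 j
  have hid := (he.1 i).2.1
  have hjd := (he.1 j).2.1
  have hsum := he.2
  have hsum' : (∑ l, e' l) + 2 = 2 * d' + n := by
    have hf : ∀ f : Fin n → ℕ, ∑ l, f l =
        f i + (f j + ∑ l ∈ (Finset.univ.erase i).erase j, f l) := fun f => by
      rw [Finset.add_sum_erase _ f (Finset.mem_erase.2 ⟨hij.symm, Finset.mem_univ j⟩),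
        Finset.add_sum_erase _ f (Finset.mem_univ i)]
    have hr : ∑ l ∈ (Finset.univ.erase i).erase j, e' l = ∑ l ∈ (Finset.univ.erase i).erase j, e l :=
      Finset.sum_congr rfl fun l hl => ho' l (Finset.mem_erase.1 (Finset.mem_erase.1 hl).2).1
        (Finset.mem_erase.1 hl).1
    have h1 := hf e
    have h2 := hf e'
    rw [hr, hi', hj'] at h2
    omega
  obtain ⟨Φ1, hΦ1, h1⟩ := Groth.Agent.Ram9.main (k := k) d n e (fun l => (he1 l).1)
    (fun l => hcast _ (he1 l)) hsum (by omega)
  obtain ⟨Φ2, hΦ2, h2⟩ := Groth.Agent.Ram9.main (k := k) d' n e' (fun l => (he1' l).1)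
    (fun l => hcast _ (he1' l)) hsum' (by omega)
  refine transfer (Ψ := Φ1 * Φ2 * ∏ l : Fin n, ∏ q ∈ Finset.univ.erase l,
    (MvPolynomial.X l - MvPolynomial.X q)) ?_ (fun P hP => ?_) m
  · exact mul_ne_zero (mul_ne_zero hΦ1 hΦ2) (Finset.prod_ne_zero_iff.2 fun l _ =>
      Finset.prod_ne_zero_iff.2 fun q hq => sub_ne_zero.2 fun h => (Finset.mem_erase.1 hq).1
        (MvPolynomial.X_injective h).symm)
  rw [map_mul, map_mul, mul_ne_zero_iff, mul_ne_zero_iff, map_prod, Finset.prod_ne_zero_iff] at hP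
  obtain ⟨⟨hP1, hP2⟩, hP3⟩ := hP
  have hinj : Function.Injective P := by
    intro l q hlq
    by_contra hne
    have := hP3 l (Finset.mem_univ _)
    rw [map_prod, Finset.prod_ne_zero_iff] at this
    exact this q (Finset.mem_erase.2 ⟨Ne.symm hne, Finset.mem_univ _⟩) (by simp [hlq])
  obtain ⟨f1, s1⟩ := h1 P hP1
  obtain ⟨f2, s2⟩ := h2 P hP2
  refine ⟨f1, f2, ?_⟩
  have sep1 : ∀ V ∈ ramMaps d P e, Sep V (P i) (P j) := fun V hV s hs ha hb =>
    s1 V hV i j hij s hs ⟨ha, hb⟩
  have sep2 : ∀ V ∈ ramMaps d' P e', Sep V (P i) (P j) := fun V hV s hs ha hb =>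
    s2 V hV i j hij s hs ⟨ha, hb⟩
  have hback : d' + p - e' i - e' j = d ∧
      Function.update (Function.update e' i (p - e' i)) j (p - e' j) = e := by
    refine ⟨by rw [hi', hj']; omega, funext fun l => ?_⟩
    by_cases g2 : l = j
    · rw [g2, Function.update_self, hj']; omega
    rw [Function.update_of_ne g2]
    by_cases g1 : l = i
    · rw [g1, Function.update_self, hi']; omega
    rw [Function.update_of_ne g1, ho' l g1 g2]
  have hA : ∀ V ∈ ramMaps d P e, ∃ V', Flip p (P i) (P j) (e i) (e j) V V' ∧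
      V' ∈ ramMaps d' P e' := fun V hV => exists_flip hV he1 hij hinj (sep1 V hV)
  have hB : ∀ W ∈ ramMaps d' P e', ∃ V, Flip p (P i) (P j) (p - e i) (p - e j) W V ∧
      V ∈ ramMaps d P e := fun W hW => by
    have h := exists_flip hW he1' hij hinj (sep2 W hW)
    rw [hback.1, hback.2, hi', hj'] at h
    exact h
  choose f hf hfm using hA
  refine Nat.card_congr (Equiv.ofBijective (fun V => ⟨f V.1 V.2, hfm V.1 V.2⟩) ⟨?_, ?_⟩)
  · rintro ⟨V, hV⟩ ⟨V1, hV1⟩ h
    have h' : f V hV = f V1 hV1 := congrArg Subtype.val h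
    have g := hfm V hV
    refine Subtype.ext (flip_unique (hinj.ne hij) (by omega) (by omega)
      (hi' ▸ g.2.2 i) (hj' ▸ g.2.2 j) g.1 (sep2 _ g) ((hf V hV).symm hei.2.le hej.2.le)
      (h' ▸ (hf V1 hV1).symm hei.2.le hej.2.le))
  · rintro ⟨W, hW⟩
    obtain ⟨V, hV, hVm⟩ := hB W hW
    refine ⟨⟨V, hVm⟩, Subtype.ext ?_⟩
    have hV' := hV.symm (Nat.sub_le p (e i)) (Nat.sub_le p (e j))
    rw [Nat.sub_sub_self hei.2.le, Nat.sub_sub_self hej.2.le] at hV'
    exact flip_unique (hinj.ne hij) hei.1 hej.1 (hVm.2.2 i) (hVm.2.2 j) hVm.1 (sep1 V hVm)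
      (hf V hVm) hV' 

end Groth.Agent.S13922
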