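import Groth.Statements.S13925
import Mathlib.Tactic

set_option autoImplicit false
universe u v w x
open W4c1limliniiii

namespace Groth.Agent.S13925

/-- Let k be a field and U, E, W vector spaces over k with linear maps f : U → E, g' : E → U, f₂ : E → W
and g : W → E such that g' ∘ f = 0, the kernel of f₂ is contained in the image of g, and the image
of g meets the kernel of g' only in 0 — the conditions holding at a point of a linked Grassmannian
at which the linking scalar vanishes. Let V₁ ≤ U and V₂ ≤ E be subspaces and let C' ≤ V₂ be a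
subspace contained in the kernel of g' and meeting f(V₁) only in 0. Then the subspaces f(V₁), ker f₂
∩ V₂ and C' of E are independent: their sum is direct. (The published statement is for two
consecutive members V_{i-1}, V_i of a point of a linked Grassmannian at which the linking scalar
vanishes and adds the decomposition V_i = f(V_{i-1}) ⊕ (ker f_i ∩ V_i) ⊕ C with C ⊇ C'; this row
states the independence, with only the three conditions the argument uses.) -/
theorem result (k : Type u) [Field k]
    (U : Type v) (E : Type w) (W : Type x) [AddCommGroup U] [Module k U] [AddCommGroup E]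
    [Module k E] [AddCommGroup W] [Module k W]
    (f : U →ₗ[k] E) (g' : E →ₗ[k] U) (f₂ : E →ₗ[k] W) (g : W →ₗ[k] E)
    (hgf : g'.comp f = 0) (hII : LinearMap.ker f₂ ≤ LinearMap.range g)
    (hIII : LinearMap.range g ⊓ LinearMap.ker g' = ⊥)
    (V₁ : Submodule k U) (V₂ : Submodule k E) (C' : Submodule k E) (hC : C' ≤ V₂)
    (hCg : C' ≤ LinearMap.ker g') (hCf : Submodule.map f V₁ ⊓ C' = ⊥) :
    iSupIndep ![Submodule.map f V₁, LinearMap.ker f₂ ⊓ V₂, C'] := by
  have hzero : ∀ a ∈ Submodule.map f V₁, ∀ b ∈ LinearMap.ker f₂ ⊓ V₂, ∀ c ∈ C', a + b + c = 0 →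
      a = 0 ∧ b = 0 ∧ c = 0 := by
    intro a ha b hb c hc habc
    obtain ⟨u, hu, rfl⟩ := Submodule.mem_map.1 ha
    have ga : g' (f u) = 0 := by rw [← LinearMap.comp_apply, hgf, LinearMap.zero_apply]
    have gc : g' c = 0 := hCg hc
    have gb : g' b = 0 := by
      have := congrArg g' habc
      simpa [ga, gc] using this
    have hb0 : b = 0 := by
      have : b ∈ LinearMap.range g ⊓ LinearMap.ker g' := ⟨hII hb.1, gb⟩
      rwa [hIII, Submodule.mem_bot] at this
    subst hb0
    rw [add_zero] at habc
    have hfc : f u = -c := eq_neg_of_add_eq_zero_left habc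
    have : f u ∈ Submodule.map f V₁ ⊓ C' := ⟨⟨u, hu, rfl⟩, by rw [hfc]; exact neg_mem hc⟩
    rw [hCf, Submodule.mem_bot] at this
    exact ⟨this, rfl, by rw [this, zero_add] at habc; exact habc⟩
  rw [iSupIndep_def]
  intro i
  rw [Submodule.disjoint_def]
  intro x hx hx'
  fin_cases i
  · have e : (⨆ j, ⨆ (_ : j ≠ (0 : Fin 3)), ![Submodule.map f V₁, LinearMap.ker f₂ ⊓ V₂, C'] j) ≤
        (LinearMap.ker f₂ ⊓ V₂) ⊔ C' := by
      refine iSup₂_le fun j hj => ?_
      fin_cases j <;> simp_all
    obtain ⟨b, hb, c, hc, hbc⟩ := Submodule.mem_sup.1 (e hx')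
    have := hzero (-x) (neg_mem hx) b hb c hc (by rw [← hbc]; abel)
    simpa using this.1
  · have e : (⨆ j, ⨆ (_ : j ≠ (1 : Fin 3)), ![Submodule.map f V₁, LinearMap.ker f₂ ⊓ V₂, C'] j) ≤
        Submodule.map f V₁ ⊔ C' := by
      refine iSup₂_le fun j hj => ?_
      fin_cases j <;> simp_all
    obtain ⟨a, ha, c, hc, hac⟩ := Submodule.mem_sup.1 (e hx')
    have := hzero a ha (-x) (neg_mem hx) c hc (by rw [← hac]; abel)
    simpa using this.2.1
  · have e : (⨆ j, ⨆ (_ : j ≠ (2 : Fin 3)), ![Submodule.map f V₁, LinearMap.ker f₂ ⊓ V₂, C'] j) ≤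
        Submodule.map f V₁ ⊔ (LinearMap.ker f₂ ⊓ V₂) := by
      refine iSup₂_le fun j hj => ?_
      fin_cases j <;> simp_all
    obtain ⟨a, ha, b, hb, hab⟩ := Submodule.mem_sup.1 (e hx')
    have := hzero a ha b hb (-x) (neg_mem hx) (by rw [← hab]; abel)
    simpa using this.2.2

end Groth.Agent.S13925
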