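import Groth.Statements.S13926
import Mathlib.Tactic
import Mathlib.LinearAlgebra.FiniteDimensional.Lemmas
import Mathlib.LinearAlgebra.Dimension.RankNullity

set_option autoImplicit false
universe u v w
open W4c1limliniiii

namespace Groth.Agent.S13926

theorem between {k : Type u} [Field k] {E : Type w} [AddCommGroup E] [Module k E]
    [FiniteDimensional k E] (A B : Submodule k E) (hAB : A ≤ B) : ∀ d : ℕ,
    Module.finrank k A ≤ d → d ≤ Module.finrank k B →
    ∃ C : Submodule k E, Module.finrank k C = d ∧ A ≤ C ∧ C ≤ B := by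
  intro d
  induction d with
  | zero => intro h1 _; exact ⟨A, Nat.le_zero.1 h1, le_rfl, hAB⟩
  | succ d ih =>
    intro h1 h2
    rcases Nat.lt_or_eq_of_le h1 with h | h
    · obtain ⟨C, hC, hAC, hCB⟩ := ih (by omega) (by omega)
      obtain ⟨x, hxB, hxC⟩ := SetLike.exists_of_lt (lt_of_le_of_ne hCB (fun e => by subst e; omega))
      refine ⟨C ⊔ Submodule.span k {x}, ?_, hAC.trans le_sup_left,
        sup_le hCB ((Submodule.span_singleton_le_iff_mem _ _).2 hxB)⟩
      have hx0 : x ≠ 0 := fun e => hxC (e ▸ C.zero_mem)
      have hdisj : C ⊓ Submodule.span k {x} = ⊥ := by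
        rw [← disjoint_iff]
        exact Submodule.disjoint_span_singleton_of_notMem hxC
      have := Submodule.finrank_sup_add_finrank_inf_eq C (Submodule.span k {x})
      rw [hdisj, finrank_bot, finrank_span_singleton hx0] at this
      omega
    · exact ⟨A, h, le_rfl, hAB⟩


/-- Let k be a field, E₁ and E₂ finite-dimensional vector spaces over k of the same dimension, f : E₁ →
E₂ and g : E₂ → E₁ linear maps whose composite g ∘ f is multiplication by a scalar s, and V₁ a
subspace of E₁. Then there is a subspace V₂ of E₂ of the same dimension as V₁ with f(V₁) ≤ V₂ and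
g(V₂) ≤ V₁. (The published statement is the surjectivity of the truncation morphisms of a linked
Grassmannian, with a further assertion on lifting families; this row is the lifting step over a
field — over a point the chain of linked subspaces V_1, …, V_{n'} extends one index at a time — and
assumes only g ∘ f = s.) -/
theorem result (k : Type u) [Field k]
    (E₁ : Type v) (E₂ : Type w) [AddCommGroup E₁] [Module k E₁] [FiniteDimensional k E₁]
    [AddCommGroup E₂] [Module k E₂] [FiniteDimensional k E₂]
    (hdim : Module.finrank k E₁ = Module.finrank k E₂)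
    (f : E₁ →ₗ[k] E₂) (g : E₂ →ₗ[k] E₁) (s : k) (hgf : g.comp f = s • LinearMap.id)
    (V₁ : Submodule k E₁) :
    ∃ V₂ : Submodule k E₂, Module.finrank k V₂ = Module.finrank k V₁ ∧
      Submodule.map f V₁ ≤ V₂ ∧ Submodule.map g V₂ ≤ V₁ := by
  have hle : Submodule.map f V₁ ≤ Submodule.comap g V₁ := by
    rintro _ ⟨x, hx, rfl⟩
    show g (f x) ∈ V₁
    rw [← LinearMap.comp_apply, hgf, LinearMap.smul_apply, LinearMap.id_apply]
    exact V₁.smul_mem _ hx
  have hlow : Module.finrank k (Submodule.map f V₁) ≤ Module.finrank k V₁ :=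
    Submodule.finrank_map_le _ _
  have hhigh : Module.finrank k V₁ ≤ Module.finrank k (Submodule.comap g V₁) := by
    set q : E₂ →ₗ[k] (E₁ ⧸ V₁) := V₁.mkQ.comp g with hq
    have hker : LinearMap.ker q = Submodule.comap g V₁ := by
      rw [hq, LinearMap.ker_comp, Submodule.ker_mkQ]
    have h1 := LinearMap.finrank_range_add_finrank_ker q
    have h2 := Submodule.finrank_le (LinearMap.range q)
    have h3 := Submodule.finrank_quotient_add_finrank V₁
    rw [hker] at h1
    omega
  obtain ⟨V₂, h1, h2, h3⟩ := between _ _ hle _ hlow hhigh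
  exact ⟨V₂, h1, h2, fun x hx => by
    obtain ⟨y, hy, rfl⟩ := hx
    exact h3 hy⟩

end Groth.Agent.S13926
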