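import Groth.Statements.S1393
import Groth.Agent.FlatMor12.FreeLocusBC
import Groth.Agent.Props12.FinLocFree

set_option autoImplicit false
universe u
open FlatMor

namespace Groth.Agent.S1393

open AlgebraicGeometry CategoryTheory Limits in
/-- Let f : X → S be of finite presentation, F a finitely presented quasi-coherent O_X-module and x a
point with image s. If F is flat over S at x and the stalk at x of the restriction of F to the
fibre, namely F_x / m_s F_x, is flat over the local ring of the fibre at x, namely O_{X,x} / m_s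
O_{X,x}, then F is free of finite rank on some open neighbourhood of x. -/
theorem result {X S : Scheme.{u}} (f : X ⟶ S) [LocallyOfFinitePresentation f] [QuasiCompact f] [QuasiSeparated f]
    (F : X.Modules) (hFq : Coh.IsQCoh F) (hFp : CohB1.IsFP F) (x : X) (h1 : FlatMod.IsFlatOverAt f F x)
    (h2 : Module.Flat (↑(X.presheaf.stalk x) ⧸ Ideal.map (f.stalkMap x).hom (IsLocalRing.maximalIdeal ↑(S.presheaf.stalk (f x))))
      (↑(F.presheaf.stalk x) ⧸ (Ideal.map (f.stalkMap x).hom (IsLocalRing.maximalIdeal ↑(S.presheaf.stalk (f x))) • (⊤ : Submodule ↑(X.presheaf.stalk x) ↑(F.presheaf.stalk x))))) :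
    ∃ (U : X.Opens) (n : ℕ), x ∈ U ∧ Nonempty (F.restrict U.ι ≅ FlatMod.freeMod (↑U) n) := by
  haveI : Coh.IsQCoh F := hFq
  classical
  refine Props12.exists_nhd_free F hFp x ?_
  let _ := (f.stalkMap x).hom.toAlgebra
  let _ := FlatMod.moduleStalkOver f F x
  haveI : IsScalarTower (S.presheaf.stalk (f x)) (X.presheaf.stalk x) (F.presheaf.stalk x) :=
    IsScalarTower.of_algebraMap_smul fun _ _ => rfl
  haveI : Module.Flat (S.presheaf.stalk (f x)) (F.presheaf.stalk x) := h1
  haveI := FlatMor12.FreeLocusBC.finitePresentation_stalk F hFp x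
  have hle : Ideal.map (f.stalkMap x).hom (IsLocalRing.maximalIdeal ↑(S.presheaf.stalk (f x))) ≤
      IsLocalRing.maximalIdeal ↑(X.presheaf.stalk x) :=
    Ideal.map_le_iff_le_comap.2 fun b hb => map_nonunit (f.stalkMap x).hom b hb
  set I : Ideal ↑(X.presheaf.stalk x) :=
    Ideal.map (f.stalkMap x).hom (IsLocalRing.maximalIdeal ↑(S.presheaf.stalk (f x))) with hI
  haveI : IsLocalRing (↑(X.presheaf.stalk x) ⧸ I) :=
    have : Nontrivial (↑(X.presheaf.stalk x) ⧸ I) :=
      Ideal.Quotient.nontrivial_iff.2 (ne_top_of_le_ne_top (IsLocalRing.maximalIdeal.isMaximal _).ne_top hle)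
    IsLocalRing.of_surjective' (Ideal.Quotient.mk I) Ideal.Quotient.mk_surjective
  haveI := h2
  haveI : Module.Finite (↑(X.presheaf.stalk x) ⧸ I)
      (↑(F.presheaf.stalk x) ⧸ (I • (⊤ : Submodule ↑(X.presheaf.stalk x) ↑(F.presheaf.stalk x)))) :=
    Module.Finite.of_restrictScalars_finite ↑(X.presheaf.stalk x) _ _
  haveI : Module.Free (↑(X.presheaf.stalk x) ⧸ I)
      (↑(F.presheaf.stalk x) ⧸ (I • (⊤ : Submodule ↑(X.presheaf.stalk x) ↑(F.presheaf.stalk x)))) :=
    Module.free_of_flat_of_isLocalRing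
  refine FlatMor12.FreeLocusBC.free_of_fibre (R := ↑(S.presheaf.stalk (f x)))
    (B := ↑(X.presheaf.stalk x) ⧸ I) (IsLocalRing.maximalIdeal _) Ideal.Quotient.mk_surjective
    (Ideal.mk_ker.trans hI) hle ?_
  exact Module.Free.of_equiv
    ((TensorProduct.quotTensorEquivQuotSMul (↑(F.presheaf.stalk x)) I).extendScalarsOfSurjective
      Ideal.Quotient.mk_surjective).symm

end Groth.Agent.S1393
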