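import Groth.Statements.S13934
import Groth.Agent.VB5.Bound
import Groth.Agent.KLLib.Basic
import Groth.Agent.VB5.Line
import Groth.Agent.VB5.Ext
import Groth.Agent.SGA3cLib.CentralDescent
import Groth.Agent.AbVarLib.GeomIntegralSmooth

set_option autoImplicit false
universe u
open CategoryTheory CategoryTheory.Limits AlgebraicGeometry
open W4c1limliniiii

namespace Groth.Agent.S13934

open Groth.Agent

set_option linter.style.haveILetI false

/-- On a smooth proper integral curve over an algebraically closed field (any characteristic), let 0 → L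
→ E → M → 0 be a short exact sequence of O_X-modules with E finite locally free of rank 2 and degree
0, L and M invertible and deg L > 0 (so M is det E ⊗ L⁻¹). Then: every invertible sheaf N admitting
a non-zero map N → E has deg N ≤ deg L, so L is the line bundle of maximal degree in E; every
invertible subsheaf N of E of positive degree with invertible quotient E/N coincides with L (some
isomorphism N ≅ L commutes with the inclusions); and E is not an extension of two invertible sheaves
of degree 0. Degrees are χ(−) minus rank times χ(O_X). (The published lemma is stated on a curve of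
genus 2 in characteristic p; its argument uses neither, and this row assumes neither.) -/
theorem result (k : Type u) [Field k] [IsAlgClosed k] (X : Scheme.{u}) [X.Over (Spec (CommRingCat.of k))]
    [IsIntegral X] [IsProper (X ↘ Spec (CommRingCat.of k))] [Smooth (X ↘ Spec (CommRingCat.of k))]
    (hdim : topologicalKrullDim X = 1)
    (S : ShortComplex X.Modules) (hS : S.ShortExact)
    (hE : FlatMod.IsFinLocFreeOfRank 2 S.X₂) (hE0 : Curv2.deg k X S.X₂ 2 = 0)
    (hL : PicF.IsInvertible S.X₁) (hM : PicF.IsInvertible S.X₃) (hpos : 0 < Curv2.deg k X S.X₁ 1) :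
    (∀ (N : X.Modules), PicF.IsInvertible N → ∀ j : N ⟶ S.X₂, j ≠ 0 →
        Curv2.deg k X N 1 ≤ Curv2.deg k X S.X₁ 1) ∧
    (∀ (N : X.Modules), PicF.IsInvertible N → ∀ (j : N ⟶ S.X₂), Mono j →
        PicF.IsInvertible (cokernel j) → 0 < Curv2.deg k X N 1 → ∃ φ : N ≅ S.X₁, φ.hom ≫ S.f = j) ∧
    (∀ (N N' : X.Modules), PicF.IsInvertible N → PicF.IsInvertible N' →
        Curv2.deg k X N 1 = 0 → Curv2.deg k X N' 1 = 0 →
        ∀ (a : N ⟶ S.X₂) (b : S.X₂ ⟶ N') (w : a ≫ b = 0), ¬ (ShortComplex.mk a b w).ShortExact) := by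
  haveI : GeometricallyConnected (X ↘ Spec (CommRingCat.of k)) :=
    SGA3cLib.CentralDescent.geometricallyConnected_of_isAlgClosed _
  haveI : GeometricallyIntegral (X ↘ Spec (CommRingCat.of k)) := AbVarLib.geometricallyIntegral_of_smooth _
  haveI := CurveRR24.isLocallyNoetherian_of_proper k (X := X)
  have hn := VB5.isIntegrallyClosed_stalk k (X := X)
  haveI := hS.mono_f
  haveI := hS.epi_g
  have hsum := VB5.gdeg_additive k hS (VB5.isCoh_of_line hL) (SplitP1.isCoh_of_rank hE) (VB5.isCoh_of_line hM)
  have hE' : VB5.gdeg k S.X₂ = 0 := by rw [← VB5.deg_eq_gdeg k hE, hE0]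
  rw [VB5.deg_line k hL] at hpos
  let e : cokernel S.f ≅ S.X₃ := (cokernelIsCokernel S.f).coconePointUniqueUpToIso hS.gIsCokernel
  have he : cokernel.π S.f ≫ e.hom = S.g :=
    (cokernelIsCokernel S.f).comp_coconePointUniqueUpToIso_hom hS.gIsCokernel WalkingParallelPair.one
  have hsub : ∀ (N : X.Modules), PicF.IsInvertible N → ∀ (j : N ⟶ S.X₂), PicF.IsInvertible (cokernel j) →
      Mono j → j ≫ S.g = 0 → ∃ φ : N ≅ S.X₁, φ.hom ≫ S.f = j := fun N hN j hq hj h => by
    refine VB5.exists_iso_of_comp_eq_zero k hdim hn hN hL j S.f hq ?_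
    rw [← cancel_mono e.hom, Category.assoc, he, h, zero_comp]
  have hg : ∀ (N : X.Modules), PicF.IsInvertible N → ∀ (j : N ⟶ S.X₂),
      0 ≤ Curv2.deg k X N 1 → j ≫ S.g = 0 := fun N hN j hd => by
    by_contra h
    have := (VB5.line_map k hdim hn hN hM _ h).1
    rw [VB5.deg_line k hN] at hd
    omega
  refine ⟨fun N hN j hj => ?_, fun N hN j hj hq hd => hsub N hN j hq hj (hg N hN j hd.le),
    fun N N' hN hN' hd hd' a b w hab => ?_⟩
  · rw [VB5.deg_line k hN, VB5.deg_line k hL]
    by_cases h : j ≫ S.g = 0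
    · obtain ⟨t, ht⟩ : ∃ t : N ⟶ S.X₁, t ≫ S.f = j := ⟨hS.exact.lift j h, hS.exact.lift_f j h⟩
      exact (VB5.line_map k hdim hn hN hL t (fun h0 => hj (by rw [← ht, h0, zero_comp]))).1
    · have := (VB5.line_map k hdim hn hN hM _ h).1
      omega
  · haveI := hab.mono_f
    let e' : cokernel a ≅ N' := (cokernelIsCokernel a).coconePointUniqueUpToIso hab.gIsCokernel
    obtain ⟨φ, -⟩ := hsub N hN a (KLLib.isInvertible_of_iso e'.symm hN') inferInstance (hg N hN a hd.ge)
    have h1 := VB5.gdeg_congr k φ
    rw [VB5.deg_line k hN] at hd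
    omega

end Groth.Agent.S13934
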