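import Groth.Statements.S13936
import Mathlib
-- import your own Groth.Agent.* helpers here

set_option autoImplicit false
set_option maxHeartbeats 1000000
universe u
open W4c1limliniiii

namespace Groth.Agent.S13936

open TensorProduct

lemma sup_pow_le {Q : Type*} [CommRing Q] (A J : Ideal Q) (j : ℕ) : (A ⊔ J) ^ j ≤ A ^ j ⊔ J := by
  induction j with
  | zero => simp
  | succ j ih =>
    rw [pow_succ, pow_succ]
    refine le_trans (Ideal.mul_mono_left ih) ?_
    rw [Ideal.mul_sup, Ideal.sup_mul]
    exact sup_le (sup_le le_sup_left (le_trans (Ideal.mul_le_inf.trans inf_le_left) le_sup_right))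
      (le_trans (Ideal.mul_le_inf.trans inf_le_right) le_sup_right)

/-- Let R be a commutative ring, S_Y → S_X a homomorphism of R-algebras (an affine piece of a morphism f
: X → Y of schemes over Spec R) and σ : S_X → R an R-algebra retraction (a section of X over the
base) with kernel I. For e ≥ 1 write T^{e−1} for the augmentation ideal of the ring of principal
parts of order e − 1 (the kernel of P^{e−1} → the algebra; for e = 2 this is the module of
differentials). Then the natural map T^{e−1}(S_Y/R) → T^{e−1}(S_X/R) takes values in I ·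
T^{e−1}(S_X/R) — that is, the induced map f^*T^{e−1}_Y → T^{e−1}_X vanishes at the section σ — if
and only if every element of S_Y whose image in S_X lies in I has image in I^e, which says that the
fibre of f through σ contains the e-th order thickening of σ. (The published statement is for a
morphism of separated schemes over a base and sections over an arbitrary base change; this row is
the affine computation it reduces to.) -/
theorem result (R SY SX : Type u)
    [CommRing R] [CommRing SY] [CommRing SX] [Algebra R SY] [Algebra R SX] [Algebra SY SX]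
    [IsScalarTower R SY SX] (σ : SX →ₐ[R] R) (e : ℕ) (he : 1 ≤ e) :
    (∀ y ∈ PP16.augIdeal (e - 1) R SY,
        PP16.map (e - 1) R SY R SX y ∈
          RingHom.ker σ.toRingHom • (PP16.augIdeal (e - 1) R SX).restrictScalars SX) ↔
      (∀ b : SY, algebraMap SY SX b ∈ RingHom.ker σ.toRingHom →
        algebraMap SY SX b ∈ RingHom.ker σ.toRingHom ^ e) := by
  obtain ⟨n, rfl⟩ : ∃ n, e = n + 1 := ⟨e - 1, by omega⟩
  show (∀ y ∈ PP16.augIdeal n R SY, PP16.map n R SY R SX y ∈
    RingHom.ker σ.toRingHom • (PP16.augIdeal n R SX).restrictScalars SX) ↔ _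
  set 𝔪 := RingHom.ker σ.toRingHom with h𝔪
  let a : SX →+* PP16.P n R SX := algebraMap SX (PP16.P n R SX)
  let d : SX →ₐ[R] PP16.P n R SX := PP16.dn n R SX
  set J : Ideal (PP16.P n R SX) := Ideal.map a 𝔪 with hJ
  set A : Ideal (PP16.P n R SX) := PP16.augIdeal n R SX with hA
  -- submodule product versus ideal product
  have hsm : ∀ w : PP16.P n R SX, w ∈ 𝔪 • A.restrictScalars SX ↔ w ∈ J * A := by
    intro w
    rw [← Ideal.smul_restrictScalars, Submodule.restrictScalars_mem]
    rfl
  have hd : ∀ x : SX, d x - a x ∈ A := fun x =>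
    Ideal.mem_map_of_mem _ (KaehlerDifferential.one_smul_sub_smul_one_mem_ideal R x)
  -- evaluation at the section
  let ψ : SX ⊗[R] SX →ₐ[R] SX :=
    Algebra.TensorProduct.lift ((Algebra.ofId R SX).comp σ) (AlgHom.id R SX) (fun _ _ => Commute.all _ _)
  have hσ : ∀ x, x - algebraMap R SX (σ x) ∈ 𝔪 := fun x => by
    simp [h𝔪, RingHom.mem_ker]
  have hψI : (KaehlerDifferential.ideal R SX).map ψ ≤ 𝔪 := by
    rw [← KaehlerDifferential.span_range_eq_ideal, Ideal.map_span, Ideal.span_le]
    rintro _ ⟨_, ⟨s, rfl⟩, rfl⟩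
    simp only [ψ, map_sub, Algebra.TensorProduct.lift_tmul, map_one, one_mul, mul_one, AlgHom.id_apply,
      AlgHom.comp_apply, Algebra.ofId_apply]
    exact hσ s
  let ψ' : PP16.P n R SX →+* SX ⧸ 𝔪 ^ (n + 1) :=
    Ideal.Quotient.lift _ ((Ideal.Quotient.mk (𝔪 ^ (n + 1))).comp ψ.toRingHom) (fun x hx => by
      rw [RingHom.comp_apply, Ideal.Quotient.eq_zero_iff_mem]
      exact (Ideal.map_pow (ψ : SX ⊗[R] SX →+* SX) (KaehlerDifferential.ideal R SX) (n + 1) ▸
        Ideal.pow_right_mono hψI (n + 1)) (Ideal.mem_map_of_mem _ hx))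
  have hψJ : ∀ w ∈ J, ψ' w = 0 := by
    intro w hw
    have : J ≤ RingHom.ker ψ' := by
      rw [hJ, Ideal.map_le_iff_le_comap]
      intro m hm
      rw [Ideal.mem_comap, RingHom.mem_ker]
      show Ideal.Quotient.mk _ (ψ (m ⊗ₜ[R] (1 : SX))) = 0
      simp only [ψ, Algebra.TensorProduct.lift_tmul, map_one, mul_one, AlgHom.comp_apply, Algebra.ofId_apply]
      rw [show σ m = 0 from hm, map_zero, map_zero]
    exact this hw
  have hψd : ∀ x, ψ' (d x) = Ideal.Quotient.mk (𝔪 ^ (n + 1)) x := fun x => by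
    show Ideal.Quotient.mk _ (ψ ((1 : SX) ⊗ₜ[R] x)) = _
    congr 1
    simp [ψ]
  have hψa : ∀ x, ψ' (a x) = Ideal.Quotient.mk (𝔪 ^ (n + 1)) (algebraMap R SX (σ x)) := fun x => by
    show Ideal.Quotient.mk _ (ψ (x ⊗ₜ[R] (1 : SX))) = _
    congr 1
    simp [ψ, Algebra.ofId_apply]
  -- the splitting
  let μ : PP16.P n R SX →+* SX :=
    Ideal.Quotient.lift _ (Algebra.TensorProduct.lmul' (S := SX) R).toRingHom (fun x hx =>
      (Ideal.pow_le_self (Nat.succ_ne_zero n)) hx)
  have hμa : ∀ x, μ (a x) = x := fun x => by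
    show Algebra.TensorProduct.lmul' (S := SX) R (x ⊗ₜ[R] (1 : SX)) = x
    simp
  have hμd : ∀ x, μ (d x) = x := fun x => by
    show Algebra.TensorProduct.lmul' (S := SX) R ((1 : SX) ⊗ₜ[R] x) = x
    simp
  have hμA : ∀ w, w - a (μ w) ∈ A := by
    intro w
    obtain ⟨t, rfl⟩ := Ideal.Quotient.mk_surjective w
    show Ideal.Quotient.mk _ t - Ideal.Quotient.mk _ ((Algebra.TensorProduct.lmul' (S := SX) R t) ⊗ₜ[R] (1 : SX)) ∈ A
    rw [← map_sub]
    refine Ideal.mem_map_of_mem _ ?_
    show Algebra.TensorProduct.lmul' (S := SX) R (t - _) = 0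
    simp
  have hsplit : ∀ w ∈ J, w - a (μ w) ∈ J * A := by
    intro w hw
    refine Submodule.span_induction (p := fun w _ => w - a (μ w) ∈ J * A) ?_ ?_ ?_ ?_ hw
    · rintro _ ⟨m, -, rfl⟩; rw [hμa, sub_self]; exact Submodule.zero_mem _
    · simp
    · intro x y _ _ hx hy
      rw [map_add, map_add, add_sub_add_comm]; exact Submodule.add_mem _ hx hy
    · intro r x hxJ hx
      rw [smul_eq_mul, map_mul, map_mul,
        show r * x - a (μ r) * a (μ x) = (r - a (μ r)) * x + a (μ r) * (x - a (μ x)) by ring]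
      refine Submodule.add_mem _ ?_ (Ideal.mul_mem_left _ _ hx)
      rw [mul_comm]
      exact Ideal.mul_mem_mul hxJ (hμA r)
  have hdJ : ∀ z ∈ 𝔪 ^ (n + 1), d z ∈ J := by
    have h1 : 𝔪.map (d : SX →+* PP16.P n R SX) ≤ A ⊔ J := by
      rw [Ideal.map_le_iff_le_comap]
      intro m hm
      rw [Ideal.mem_comap]
      exact Submodule.mem_sup.mpr ⟨_, hd m, a m, Ideal.mem_map_of_mem a hm, sub_add_cancel _ _⟩
    have h2 : (A ⊔ J) ^ (n + 1) ≤ J := by
      have e : A ^ (n + 1) = ⊥ := by
        rw [hA, PP16.augIdeal, ← Ideal.map_pow, Ideal.map_quotient_self]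
      exact (sup_pow_le A J (n + 1)).trans (by rw [e, bot_sup_eq])
    intro z hz
    have := Ideal.mem_map_of_mem (d : SX →+* PP16.P n R SX) hz
    rw [Ideal.map_pow] at this
    exact h2 (Ideal.pow_right_mono h1 _ this)
  have hy : ∀ b : SY, PP16.map n R SY R SX (Ideal.Quotient.mk _ ((1 : SY) ⊗ₜ[R] b - b ⊗ₜ[R] (1 : SY))) =
      d (algebraMap SY SX b) - a (algebraMap SY SX b) := by
    intro b
    rw [PP16.map_mk, map_sub, PP16.tensorMap_tmul, PP16.tensorMap_tmul, map_one, map_sub]
    rfl
  constructor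
  · intro h b hb
    have hmem : Ideal.Quotient.mk _ ((1 : SY) ⊗ₜ[R] b - b ⊗ₜ[R] (1 : SY)) ∈ PP16.augIdeal n R SY :=
      Ideal.mem_map_of_mem _ (KaehlerDifferential.one_smul_sub_smul_one_mem_ideal R b)
    have h0 := h _ hmem
    have h0' := (hsm (PP16.map n R SY R SX (Ideal.Quotient.mk _ ((1 : SY) ⊗ₜ[R] b - b ⊗ₜ[R] (1 : SY))))).mp h0
    have h1 := hψJ _ (Ideal.mul_le_left h0')
    rw [hy, map_sub, hψd, hψa, show σ (algebraMap SY SX b) = 0 from hb, map_zero, map_zero, sub_zero,
      Ideal.Quotient.eq_zero_iff_mem] at h1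
    exact h1
  · intro h y hy'
    have hle : (PP16.augIdeal n R SY).map (PP16.map n R SY R SX) ≤ J * A := by
      refine Ideal.map_le_iff_le_comap.mpr (Ideal.map_le_iff_le_comap.mpr
        ((KaehlerDifferential.span_range_eq_ideal R SY).symm.trans_le (Ideal.span_le.mpr ?_)))
      rintro _ ⟨b, rfl⟩
      show PP16.map n R SY R SX (Ideal.Quotient.mk _ _) ∈ J * A
      rw [hy]
      set r := σ (algebraMap SY SX b)
      set b' := b - algebraMap R SY r with hb'
      have e1 : algebraMap SY SX b' = algebraMap SY SX b - algebraMap R SX r := by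
        rw [hb', map_sub, ← IsScalarTower.algebraMap_apply]
      have hb'm : algebraMap SY SX b' ∈ 𝔪 := by rw [e1]; exact hσ _
      have e2 : d (algebraMap SY SX b) - a (algebraMap SY SX b) =
          d (algebraMap SY SX b') - a (algebraMap SY SX b') := by
        rw [e1, map_sub, map_sub, AlgHom.commutes]
        have : a (algebraMap R SX r) = algebraMap R (PP16.P n R SX) r := rfl
        rw [this]; ring
      rw [e2]
      have hT : d (algebraMap SY SX b') - a (algebraMap SY SX b') ∈ J :=
        Submodule.sub_mem _ (hdJ _ (h b' hb'm)) (Ideal.mem_map_of_mem a hb'm)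
      have := hsplit _ hT
      rwa [map_sub μ, hμd, hμa, sub_self, map_zero, sub_zero] at this
    exact (hsm _).mpr (hle (Ideal.mem_map_of_mem _ hy'))

end Groth.Agent.S13936
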