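import Groth.Statements.S13937
import Mathlib
-- import your own Groth.Agent.* helpers here

set_option autoImplicit false
universe u
open W4c1limliniiii

namespace Groth.Agent.S13937

open Polynomial in
/-- Over an algebraically closed field of characteristic p (zero allowed), fix three distinct points
P_1, P_2, P_3 of the affine line and admissible indices (2 ≤ e_i ≤ d, e_i prime to p, ∑ (e_i − 1) =
2d − 2). The two-dimensional spaces V of polynomials of degree at most d that contain, for each i, a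
non-zero member vanishing to order at least e_i at P_i (the intersection of the three Schubert
cycles in the Grassmannian of pencils) form a projective space of some dimension m ≥ 0: there is a
non-zero linear space L of pairs of polynomials such that sending a non-zero pair (F, G) ∈ L to the
span of F and G is a surjection onto that set of spaces under which two non-zero pairs have the same
image exactly when they are proportional. -/
theorem result (k : Type u) [Field k]
    [IsAlgClosed k] (p : ℕ) [CharP k p] (d : ℕ) (P : Fin 3 → k) (hP : Function.Injective P)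
    (e : Fin 3 → ℕ) (he : W4c1limliniiii.Admissible p d e) :
    ∃ L : Submodule k (k[X] × k[X]), L ≠ ⊥ ∧
      (∀ v ∈ L, v ≠ 0 →
        Submodule.span k {v.1, v.2} ≤ Polynomial.degreeLE k d ∧
          Module.finrank k (Submodule.span k {v.1, v.2}) = 2 ∧
          ∀ i, ∃ s ∈ Submodule.span k {v.1, v.2}, s ≠ 0 ∧
            e i ≤ Polynomial.rootMultiplicity (P i) s) ∧
      (∀ V : Submodule k k[X], V ≤ Polynomial.degreeLE k d → Module.finrank k V = 2 →
        (∀ i, ∃ s ∈ V, s ≠ 0 ∧ e i ≤ Polynomial.rootMultiplicity (P i) s) →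
          ∃ v ∈ L, v ≠ 0 ∧ Submodule.span k {v.1, v.2} = V) ∧
      (∀ v ∈ L, ∀ w ∈ L, v ≠ 0 → w ≠ 0 →
        Submodule.span k {v.1, v.2} = Submodule.span k {w.1, w.2} → ∃ c : k, w = c • v) := by
  classical
  obtain ⟨hlim, hsum⟩ := he
  rw [Fin.sum_univ_three] at hsum
  let A : Fin 3 → Submodule k (Polynomial k) := fun i =>
    (Polynomial.degreeLE k (d - e i : ℕ)).map (LinearMap.mulLeft k ((Polynomial.X - Polynomial.C (P i)) ^ e i))
  have hq : ∀ i, ((Polynomial.X - Polynomial.C (P i)) ^ e i : Polynomial k) ≠ 0 := fun i =>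
    pow_ne_zero _ (Polynomial.X_sub_C_ne_zero _)
  have hmem : ∀ i s, s ∈ A i ↔ s ∈ Polynomial.degreeLE k d ∧ (Polynomial.X - Polynomial.C (P i)) ^ e i ∣ s := by
    intro i s
    constructor
    · rintro ⟨g, hg, rfl⟩
      refine ⟨?_, ⟨g, rfl⟩⟩
      rw [SetLike.mem_coe, Polynomial.mem_degreeLE, ← Polynomial.natDegree_le_iff_degree_le] at hg
      rw [Polynomial.mem_degreeLE, ← Polynomial.natDegree_le_iff_degree_le, LinearMap.mulLeft_apply]
      refine Polynomial.natDegree_mul_le.trans ?_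
      rw [Polynomial.natDegree_pow, Polynomial.natDegree_X_sub_C]
      have := (hlim i).2.1
      omega
    · rintro ⟨hd, g, rfl⟩
      refine ⟨g, ?_, rfl⟩
      rw [SetLike.mem_coe, Polynomial.mem_degreeLE, ← Polynomial.natDegree_le_iff_degree_le]
      rw [Polynomial.mem_degreeLE, ← Polynomial.natDegree_le_iff_degree_le] at hd
      by_cases hg : g = 0
      · simp [hg]
      rw [Polynomial.natDegree_mul (hq i) hg, Polynomial.natDegree_pow, Polynomial.natDegree_X_sub_C] at hd
      omega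
  have hdisj : ∀ i j, i ≠ j → ∀ s, s ∈ A i → s ∈ A j → s = 0 := fun i j hij s hi hj => by
    by_contra hs
    obtain ⟨hd, h1⟩ := (hmem i s).1 hi
    have h2 := ((hmem j s).1 hj).2
    have hdvd := IsCoprime.mul_dvd ((Polynomial.isCoprime_X_sub_C_of_isUnit_sub
      (sub_ne_zero.2 (hP.ne hij)).isUnit).pow) h1 h2
    have hdeg := Polynomial.natDegree_le_of_dvd hdvd hs
    rw [Polynomial.natDegree_mul (hq i) (hq j), Polynomial.natDegree_pow, Polynomial.natDegree_pow,
      Polynomial.natDegree_X_sub_C, Polynomial.natDegree_X_sub_C] at hdeg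
    rw [Polynomial.mem_degreeLE, ← Polynomial.natDegree_le_iff_degree_le] at hd
    obtain ⟨l, hl⟩ : ∃ l, e i + e j + e l = e 0 + e 1 + e 2 := by
      have hfin : ∀ a b : Fin 3, ∃ c, a ≠ b → c ≠ a ∧ c ≠ b ∧ ({a, b, c} : Finset (Fin 3)) = Finset.univ := by decide
      obtain ⟨l, hl⟩ := hfin i j
      obtain ⟨h1, h2, h3⟩ := hl hij
      refine ⟨l, ?_⟩
      rw [← Fin.sum_univ_three e, ← h3, Finset.sum_insert (by simp [hij, h1.symm]),
        Finset.sum_insert (by simp [h2.symm]), Finset.sum_singleton]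
      ring
    have := (hlim l).2.1
    omega
  have hmult : ∀ i s, s ≠ 0 → ((Polynomial.X - Polynomial.C (P i)) ^ e i ∣ s ↔ e i ≤ Polynomial.rootMultiplicity (P i) s) :=
    fun i s hs => (Polynomial.le_rootMultiplicity_iff hs).symm
  let L : Submodule k (Polynomial k × Polynomial k) := (A 0).prod (A 1) ⊓
    (A 2).comap (LinearMap.fst k _ _ + LinearMap.snd k _ _)
  have key : ∀ v ∈ L, v ≠ 0 → v.1 ≠ 0 ∧ v.2 ≠ 0 ∧ v.1 + v.2 ≠ 0 := by
    rintro ⟨F, G⟩ ⟨⟨hF, hG⟩, hFG⟩ hv
    change F + G ∈ A 2 at hFG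
    have hz : ∀ a b : Polynomial k, F = a → G = b → ¬(a = 0 ∧ b = 0) := fun a b ha hb h =>
      hv (by rw [ha, hb, h.1, h.2]; rfl)
    refine ⟨fun h : F = 0 => hz 0 G h rfl ⟨rfl, hdisj 1 2 (by decide) G hG (by simpa [h] using hFG)⟩,
      fun h : G = 0 => hz F 0 rfl h ⟨hdisj 0 2 (by decide) F hF (by simpa [h] using hFG), rfl⟩, fun h : F + G = 0 => ?_⟩
    have hF0 := hdisj 0 1 (by decide) F hF (by rw [eq_neg_of_add_eq_zero_left h]; exact neg_mem hG)
    exact hz 0 G hF0 rfl ⟨rfl, by simpa [hF0] using h⟩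
  have hpair : ∀ v ∈ L, v ≠ 0 → LinearIndependent k ![v.1, v.2] := by
    intro v hv hv0
    obtain ⟨h1, h2, -⟩ := key v hv hv0
    refine (LinearIndependent.pair_iff' h1).2 fun c hc => h2 (hdisj 0 1 (by decide) v.2 ?_ hv.1.2)
    rw [← hc]; exact (A 0).smul_mem c hv.1.1
  have hfr : ∀ v ∈ L, v ≠ 0 → Module.finrank k (Submodule.span k {v.1, v.2}) = 2 := fun v hv hv0 => by
    have := finrank_span_eq_card (hpair v hv hv0)
    rwa [Matrix.range_cons, Matrix.range_cons, Matrix.range_empty, Set.union_empty, Set.singleton_union,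
      Fintype.card_fin] at this
  refine ⟨L, ?_, fun v hv hv0 => ⟨?_, hfr v hv hv0, ?_⟩, fun V hV hV2 hs => ?_, fun v hv w hw hv0 hw0 he => ?_⟩
  · let μ : (↥(Polynomial.degreeLE k (d - e 0 : ℕ)) × ↥(Polynomial.degreeLE k (d - e 1 : ℕ))) →ₗ[k] Polynomial k :=
      ((LinearMap.mulLeft k ((Polynomial.X - Polynomial.C (P 0)) ^ e 0)).comp (Submodule.subtype _)).coprod
        ((LinearMap.mulLeft k ((Polynomial.X - Polynomial.C (P 1)) ^ e 1)).comp (Submodule.subtype _))
    let π : Polynomial k →ₗ[k] Polynomial k :=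
      Polynomial.modByMonicHom ((Polynomial.X - Polynomial.C (P 2)) ^ e 2)
    have hmon := (Polynomial.monic_X_sub_C (P 2)).pow (e 2)
    have hrange : LinearMap.range (π.comp μ) ≤ Polynomial.degreeLT k (e 2) := by
      rintro _ ⟨x, rfl⟩
      rw [Polynomial.mem_degreeLT]
      refine (Polynomial.degree_modByMonic_lt _ hmon).trans_le ?_
      rw [Polynomial.degree_pow, Polynomial.degree_X_sub_C, nsmul_one]
    obtain ⟨⟨g, g'⟩, hx, hx0⟩ : ∃ x, (π.comp μ) x = 0 ∧ x ≠ 0 := by
      by_contra hc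
      push Not at hc
      let η := LinearMap.codRestrict _ (π.comp μ) fun x => hrange ⟨x, rfl⟩
      haveI hfin : ∀ n : ℕ, Module.Finite k ↥(Polynomial.degreeLT k n) := fun n =>
        Module.Finite.equiv (Polynomial.degreeLTEquiv k n).symm
      have hle' : ∀ n : ℕ, Polynomial.degreeLE k (n : WithBot ℕ) = Polynomial.degreeLT k (n + 1) := fun n =>
        Polynomial.degreeLT_succ_eq_degreeLE.symm
      haveI hfin' : ∀ n : ℕ, Module.Finite k ↥(Polynomial.degreeLE k (n : WithBot ℕ)) := fun n => (hle' n).symm ▸ hfin (n + 1)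
      haveI := hfin' (d - e 0)
      haveI := hfin' (d - e 1)
      have hinj : Function.Injective η := (injective_iff_map_eq_zero η).2 fun x hx => hc x (congrArg Subtype.val hx)
      have h := LinearMap.finrank_le_finrank_of_injective hinj
      have hdim : ∀ n : ℕ, Module.finrank k ↥(Polynomial.degreeLT k n) = n := fun n => by
        rw [(Polynomial.degreeLTEquiv k n).finrank_eq, Module.finrank_fin_fun]
      rw [Module.finrank_prod, hle', hle', hdim, hdim, hdim] at h
      have := (hlim 0).2.1; have := (hlim 1).2.1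
      omega
    refine (Submodule.ne_bot_iff _).2 ⟨((Polynomial.X - Polynomial.C (P 0)) ^ e 0 * g.1,
      (Polynomial.X - Polynomial.C (P 1)) ^ e 1 * g'.1), ⟨⟨⟨g.1, g.2, rfl⟩, ⟨g'.1, g'.2, rfl⟩⟩, ?_⟩, fun h => hx0 ?_⟩
    · refine (hmem 2 _).2 ⟨add_mem ((hmem 0 _).1 ⟨g.1, g.2, rfl⟩).1 ((hmem 1 _).1 ⟨g'.1, g'.2, rfl⟩).1, ?_⟩
      exact (Polynomial.modByMonic_eq_zero_iff_dvd hmon).1 hx
    · exact Prod.ext (Subtype.ext ((mul_eq_zero.1 (congrArg Prod.fst h)).resolve_left (hq 0)))
        (Subtype.ext ((mul_eq_zero.1 (congrArg Prod.snd h)).resolve_left (hq 1)))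
  · rw [Submodule.span_le]
    rintro x (rfl | rfl)
    exacts [((hmem 0 _).1 hv.1.1).1, ((hmem 1 _).1 hv.1.2).1]
  · obtain ⟨h1, h2, h3⟩ := key v hv hv0
    intro i
    fin_cases i
    · exact ⟨v.1, Submodule.subset_span (by simp), h1, (hmult 0 _ h1).1 ((hmem 0 _).1 hv.1.1).2⟩
    · exact ⟨v.2, Submodule.subset_span (by simp), h2, (hmult 1 _ h2).1 ((hmem 1 _).1 hv.1.2).2⟩
    · exact ⟨v.1 + v.2, add_mem (Submodule.subset_span (by simp)) (Submodule.subset_span (by simp)), h3,
        (hmult 2 _ h3).1 ((hmem 2 _).1 hv.2).2⟩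
  · choose s hsV hs0 hse using hs
    have hsA : ∀ i, s i ∈ A i := fun i => (hmem i _).2 ⟨hV (hsV i), (hmult i _ (hs0 i)).2 (hse i)⟩
    have hli : LinearIndependent k ![s 0, s 1] := (LinearIndependent.pair_iff' (hs0 0)).2 fun c hc => hs0 1
      (hdisj 0 1 (by decide) _ (hc ▸ (A 0).smul_mem c (hsA 0)) (hsA 1))
    haveI : Module.Finite k ↥V := Module.finite_of_finrank_eq_succ hV2
    have hsp : Submodule.span k {s 0, s 1} = V := by
      refine Submodule.eq_of_le_of_finrank_le (Submodule.span_le.2 ?_) ?_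
      · rintro x (rfl | rfl) <;> exact hsV _
      · have := finrank_span_eq_card hli
        rw [Matrix.range_cons, Matrix.range_cons, Matrix.range_empty, Set.union_empty, Set.singleton_union,
          Fintype.card_fin] at this
        omega
    obtain ⟨a, b, hab⟩ := Submodule.mem_span_pair.1 (hsp.symm ▸ hsV 2)
    have ha : a ≠ 0 := fun h => hs0 2 (hdisj 1 2 (by decide) _
      (by rw [← hab, h, zero_smul, zero_add]; exact (A 1).smul_mem b (hsA 1)) (hsA 2))
    have hb : b ≠ 0 := fun h => hs0 2 (hdisj 0 2 (by decide) _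
      (by rw [← hab, h, zero_smul, add_zero]; exact (A 0).smul_mem a (hsA 0)) (hsA 2))
    refine ⟨(a • s 0, b • s 1), ⟨⟨(A 0).smul_mem a (hsA 0), (A 1).smul_mem b (hsA 1)⟩, ?_⟩,
      fun h => smul_ne_zero ha (hs0 0) (congrArg Prod.fst h), ?_⟩
    · show a • s 0 + b • s 1 ∈ A 2
      rw [hab]; exact hsA 2
    · rw [← hsp, Submodule.span_insert, Submodule.span_insert, Submodule.span_singleton_smul_eq ha.isUnit,
        Submodule.span_singleton_smul_eq hb.isUnit]
  · obtain ⟨hv1, hv2, -⟩ := key v hv hv0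
    have hw1 : w.1 ∈ Submodule.span k {v.1, v.2} := he ▸ Submodule.subset_span (by simp)
    have hw2 : w.2 ∈ Submodule.span k {v.1, v.2} := he ▸ Submodule.subset_span (by simp)
    obtain ⟨a, b, hab⟩ := Submodule.mem_span_pair.1 hw1
    obtain ⟨a', b', hab'⟩ := Submodule.mem_span_pair.1 hw2
    have hb : b • v.2 = 0 := hdisj 0 1 (by decide) _ (by
      rw [show b • v.2 = w.1 - a • v.1 by rw [← hab]; module]
      exact sub_mem hw.1.1 ((A 0).smul_mem a hv.1.1)) ((A 1).smul_mem b hv.1.2)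
    have ha' : a' • v.1 = 0 := hdisj 0 1 (by decide) _ ((A 0).smul_mem a' hv.1.1) (by
      rw [show a' • v.1 = w.2 - b' • v.2 by rw [← hab']; module]
      exact sub_mem hw.1.2 ((A 1).smul_mem b' hv.1.2))
    rw [hb, add_zero] at hab
    rw [ha', zero_add] at hab'
    have hkey : (a - b') • v.1 = 0 := hdisj 0 2 (by decide) _ ((A 0).smul_mem _ hv.1.1) (by
      rw [show (a - b') • v.1 = (w.1 + w.2) - b' • (v.1 + v.2) by rw [← hab, ← hab']; module]
      exact sub_mem hw.2 ((A 2).smul_mem b' hv.2))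
    have hab2 : a = b' := sub_eq_zero.1 ((smul_eq_zero.1 hkey).resolve_right hv1)
    exact ⟨a, Prod.ext hab.symm (by rw [Prod.smul_snd, hab2]; exact hab'.symm)⟩

end Groth.Agent.S13937
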