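import Groth.Statements.S1394
import Groth.Agent.FlatMor12.CutQF
import Mathlib.RingTheory.ZariskisMainTheorem

set_option autoImplicit false
universe u
open FlatMor
set_option backward.isDefEq.respectTransparency false

namespace Groth.Agent.S1394

/-- Let A → B be a local homomorphism of local rings with A Noetherian, B essentially of finite type
over A, and the residue field of B finite over that of A. Let V ⊆ Spec B be an open subset
containing some prime that does not lie over the maximal ideal of A. Then V contains a prime q, not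
lying over the maximal ideal of A, such that B/q is quasi-finite over A in the sense that every
fibre ring of A → B/q is finite over the corresponding residue field of A. (The published statement
is stronger: there B/q is moreover a localization of a quasi-finite A-algebra of finite type, which
implies this.) -/
theorem result {A B : Type u} [CommRing A] [CommRing B] [IsLocalRing A] [IsLocalRing B] [IsNoetherianRing A]
    [Algebra A B] [IsLocalHom (algebraMap A B)] [Algebra.EssFiniteType A B]
    [Module.Finite (IsLocalRing.ResidueField A) (IsLocalRing.ResidueField B)]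
    (V : Set (PrimeSpectrum B)) (hV : IsOpen V) (hne : ∃ q ∈ V, q.asIdeal.comap (algebraMap A B) ≠ IsLocalRing.maximalIdeal A) :
    ∃ q ∈ V, q.asIdeal.comap (algebraMap A B) ≠ IsLocalRing.maximalIdeal A ∧ Algebra.QuasiFinite A (B ⧸ q.asIdeal) := by
  classical
  obtain ⟨q₀, hq₀V, hq₀⟩ := hne
  have : IsNoetherianRing B := Algebra.EssFiniteType.isNoetherianRing A B
  have hmB : (IsLocalRing.maximalIdeal B).comap (algebraMap A B) = IsLocalRing.maximalIdeal A :=
    ((IsLocalRing.local_hom_TFAE (algebraMap A B)).out 0 4).1 ‹_›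
  obtain ⟨-, ⟨-, ⟨g₀, rfl⟩, rfl⟩, hg₀q, hg₀V⟩ :=
    PrimeSpectrum.isBasis_basic_opens.exists_subset_of_mem_open hq₀V hV
  simp only [SetLike.mem_coe, PrimeSpectrum.mem_basicOpen] at hg₀q
  obtain ⟨a, ham, haq⟩ : ∃ a ∈ IsLocalRing.maximalIdeal A, a ∉ q₀.asIdeal.comap (algebraMap A B) := by
    by_contra! h
    exact hq₀ ((IsLocalRing.maximalIdeal.isMaximal A).eq_of_le
      (Ideal.IsPrime.ne_top inferInstance) h).symm
  obtain ⟨P, hP, -, hgP, hcut⟩ := Groth.Agent.FlatMor12.exists_prime_cut (A := A)
    (IsLocalRing.maximalIdeal B) (g₀ * algebraMap A B a)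
    (fun Q _ h => Q.mul_mem_left _ (show a ∈ Q.comap (algebraMap A B) by rw [h, hmB]; exact ham))
    ⟨q₀.asIdeal, q₀.isPrime, IsLocalRing.le_maximalIdeal q₀.isPrime.ne_top,
      fun h => (q₀.isPrime.mem_or_mem h).elim hg₀q haq⟩
  refine ⟨⟨P, hP⟩, hg₀V (show g₀ ∉ P from fun h => hgP (P.mul_mem_right _ h)),
    fun h => hgP (P.mul_mem_left _ (show a ∈ P.comap (algebraMap A B) by rw [h]; exact ham)), ?_⟩
  show Algebra.QuasiFinite A (B ⧸ P)
  have : IsLocalRing (B ⧸ P) := IsLocalRing.of_surjective' _ Ideal.Quotient.mk_surjective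
  have : Algebra.EssFiniteType A (B ⧸ P) := Algebra.EssFiniteType.comp A B (B ⧸ P)
  let C := Algebra.EssFiniteType.subalgebra A (B ⧸ P)
  let n : Ideal C := (IsLocalRing.maximalIdeal (B ⧸ P)).comap (algebraMap C (B ⧸ P))
  have hunit : ∀ r : C, r ∈ n.primeCompl ↔ IsUnit (algebraMap C (B ⧸ P) r) := fun r =>
    not_iff_comm.1 (IsLocalRing.mem_maximalIdeal _).symm
  have : IsLocalHom (algebraMap B (B ⧸ P)) := IsLocalHom.of_surjective _ Ideal.Quotient.mk_surjective
  have : IsLocalization n.primeCompl (B ⧸ P) :=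
    IsLocalization.of_le (M := Algebra.EssFiniteType.submonoid A (B ⧸ P)) _
      (fun r hr => (hunit r).2 hr) (fun r hr => (hunit r).1 hr)
  let e : (B ⧸ P) ≃ₐ[A] Localization.AtPrime n :=
    (IsLocalization.algEquiv n.primeCompl (B ⧸ P) (Localization.AtPrime n)).restrictScalars A
  have hnA : n.under A = IsLocalRing.maximalIdeal A := by
    show n.comap (algebraMap A C) = _
    rw [Ideal.comap_comap, ← IsScalarTower.algebraMap_eq, IsScalarTower.algebraMap_eq A B (B ⧸ P),
      ← Ideal.comap_comap, IsLocalRing.maximalIdeal_comap, hmB]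
  suffices Algebra.WeaklyQuasiFiniteAt A n by
    have : Algebra.QuasiFiniteAt A n := Algebra.QuasiFiniteAt.of_weaklyQuasiFiniteAt n
    exact (Algebra.QuasiFinite.iff_of_algEquiv e).2 this
  rw [Algebra.weaklyQuasiFiniteAt_iff, hnA]
  let J : Ideal B := P ⊔ (IsLocalRing.maximalIdeal A).map (algebraMap A B)
  have hJm : J ≤ IsLocalRing.maximalIdeal B := sup_le (IsLocalRing.le_maximalIdeal hP.ne_top)
    (Ideal.map_le_iff_le_comap.2 hmB.ge)
  have : Module.Finite A (IsLocalRing.ResidueField B) :=
    Module.Finite.trans (IsLocalRing.ResidueField A) _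
  let f₀ : (B ⧸ J) →ₐ[A] IsLocalRing.ResidueField B := Ideal.Quotient.factorₐ A hJm
  have hfin : Module.Finite A (B ⧸ J) := by
    refine Module.finite_of_surjective_of_ker_le_nilradical f₀
      (Ideal.Quotient.factor_surjective hJm) ?_ (IsNoetherian.noetherian _)
    intro x hx
    obtain ⟨x, rfl⟩ := Ideal.Quotient.mk_surjective x
    rw [nilradical_eq_sInf, Ideal.mem_sInf]
    intro Q (hQ : Q.IsPrime)
    have hJQ : J ≤ Q.comap (Ideal.Quotient.mk J) := by
      intro y hy
      rw [Ideal.mem_comap, Ideal.Quotient.eq_zero_iff_mem.2 hy]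
      exact Q.zero_mem
    have hQm : Q.comap (Ideal.Quotient.mk J) = IsLocalRing.maximalIdeal B := by
      refine hcut _ inferInstance (le_sup_left.trans hJQ)
        (IsLocalRing.le_maximalIdeal (Ideal.IsPrime.ne_top inferInstance)) ?_
      rw [hmB]
      exact ((IsLocalRing.maximalIdeal.isMaximal A).eq_of_le (Ideal.IsPrime.ne_top inferInstance)
        (Ideal.map_le_iff_le_comap.1 (le_sup_right.trans hJQ))).symm
    show x ∈ Q.comap (Ideal.Quotient.mk J)
    rw [hQm]
    exact Ideal.Quotient.eq_zero_iff_mem.1 hx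
  let h₁ : B →ₐ[A] Localization.AtPrime n ⧸
      (IsLocalRing.maximalIdeal A).map (algebraMap A (Localization.AtPrime n)) :=
    (Ideal.Quotient.mkₐ A _).comp (e.toAlgHom.comp (Ideal.Quotient.mkₐ A P))
  have hs : Function.Surjective h₁ := Ideal.Quotient.mk_surjective.comp
    (e.surjective.comp Ideal.Quotient.mk_surjective)
  have hJ : J ≤ RingHom.ker h₁ := by
    refine sup_le (fun y hy => ?_) (Ideal.map_le_iff_le_comap.2 fun y hy => ?_)
    · show Ideal.Quotient.mk _ (e (Ideal.Quotient.mk P y)) = 0
      rw [Ideal.Quotient.eq_zero_iff_mem.2 hy, map_zero, map_zero]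
    · show h₁ (algebraMap A B y) = 0
      rw [AlgHom.commutes]
      exact Ideal.Quotient.eq_zero_iff_mem.2 (Ideal.mem_map_of_mem _ hy)
  exact Algebra.QuasiFinite.of_surjective_algHom (Ideal.Quotient.liftₐ J h₁ hJ)
    (Ideal.Quotient.lift_surjective_of_surjective _ _ hs)

end Groth.Agent.S1394
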