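import Groth.Statements.S13951
import Groth.Agent.AlgSpLib.EtaleAscend
import Mathlib.AlgebraicGeometry.Morphisms.ClosedImmersion
import Mathlib.AlgebraicGeometry.Morphisms.QuasiFinite
import Mathlib.Topology.Separation.Connected
import Mathlib.AlgebraicGeometry.Morphisms.Separated

set_option autoImplicit false
universe u
open TateLoc

namespace Groth.Agent.S13951

open CategoryTheory AlgebraicGeometry CategoryTheory.Limits in
theorem eq_comp_section {S X W : Scheme.{u}} (π : X ⟶ S) [IsFinite π]
    (hconn : ∀ s : S, ConnectedSpace ↥(π.fiber s)) (e : S ⟶ X) (he : e ≫ π = 𝟙 S) [IsReduced W] (f : W ⟶ X) :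
    f = (f ≫ π) ≫ e := by
  haveI : IsClosedImmersion e := by
    haveI : IsSplitMono e := ⟨⟨π, he⟩⟩
    haveI : IsClosedImmersion (e ≫ π) := by rw [he]; infer_instance
    exact IsClosedImmersion.of_comp e π
  haveI : Surjective e := ⟨fun x => by
    haveI := hconn (π x)
    haveI : Subsingleton ↥(π.fiber (π x)) := PreconnectedSpace.trivial_of_discrete
    obtain ⟨a, ha⟩ := (π.range_fiberι (π x)).ge (show x ∈ π ⁻¹' {π x} from rfl)
    obtain ⟨b, hb⟩ := (π.range_fiberι (π x)).ge (show e (π x) ∈ π ⁻¹' {π x} by
      show π (e (π x)) = π x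
      rw [← Scheme.Hom.comp_apply, he]
      rfl)
    exact ⟨π x, hb.symm.trans ((congrArg _ (Subsingleton.elim b a)).trans ha)⟩⟩
  haveI : IsIso (pullback.fst f e) := isIso_of_isClosedImmersion_of_surjective _
  calc f = inv (pullback.fst f e) ≫ pullback.fst f e ≫ f := by simp
    _ = inv (pullback.fst f e) ≫ pullback.snd f e ≫ e := by rw [pullback.condition]
    _ = (inv (pullback.fst f e) ≫ pullback.snd f e ≫ e ≫ π) ≫ e := by simp [reassoc_of% he]
    _ = _ := by rw [← pullback.condition_assoc, IsIso.inv_hom_id_assoc]

open CategoryTheory AlgebraicGeometry CategoryTheory.Limits in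
/-- Let S be a reduced scheme and I a finite locally free commutative S-group scheme (finite, flat, of
finite presentation) whose fibres over all points of S are connected. Then the restriction of the
sheaf of points of I from the big fppf site of S to the small etale site of S is the zero sheaf. -/
theorem result (S : Scheme.{u}) [IsReduced S]
    (I : Over S) [GrpObj I] [IsCommMonObj I] [IsFinite I.hom] [Flat I.hom] [LocallyOfFinitePresentation I.hom]
    (hconn : ∀ s : S, ConnectedSpace ↥(I.hom.fiber s)) :
    IsZero ((BigSite.resEt Scheme.fppfPrecoverage S).obj (CGrpSh.pts Scheme.fppfPrecoverage I)) := by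
  rw [IsZero.iff_id_eq_zero]
  refine Sheaf.hom_ext (NatTrans.ext (funext fun U => AddCommGrpCat.ext fun x => ?_))
  let T : Over S := (EtFppf.a S).obj U.unop
  haveI : IsReduced T.left := by
    haveI : Etale T.hom := U.unop.prop
    exact Groth.Agent.AlgSpLib.isReduced_of_etale' T.hom
  have hs : Subsingleton (T ⟶ I) := ⟨fun a b => Over.OverMorphism.ext (by
    have he : (MonObj.one (X := I)).left ≫ I.hom = 𝟙 S := Over.w _
    rw [eq_comp_section I.hom hconn _ he a.left, eq_comp_section I.hom hconn _ he b.left, Over.w a, Over.w b])⟩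
  exact ULift.ext _ _ (@Subsingleton.elim (Additive (T ⟶ I)) hs _ _)

end Groth.Agent.S13951
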