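import Groth.Statements.S13953
import Mathlib.RingTheory.Ideal.Operations
import Mathlib.Algebra.BigOperators.Pi

set_option autoImplicit false
universe u
open TateLoc

namespace Groth.Agent.S13953

/-- Let (R_i) be a family of local commutative rings and R = ∏ R_i. Any open cover of Spec R can be
refined by one coming from a finite partition of the index set: there is a map c from the index set
to a finite set such that, for each value m, the basic open subset of Spec R defined by the
idempotent which is 1 at the indices with c i = m and 0 elsewhere (this open is the spectrum of the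
product of the R_i over that class) is contained in some member of the cover. -/
theorem result {ι : Type u} (R : ι → Type u)
    [∀ i, CommRing (R i)] [∀ i, IsLocalRing (R i)] {J : Type u}
    (U : J → TopologicalSpace.Opens (PrimeSpectrum (∀ i, R i))) (hU : ⨆ j, U j = ⊤) :
    ∃ (n : ℕ) (c : ι → Fin n), ∀ m : Fin n, ∃ j : J,
      PrimeSpectrum.basicOpen (fun i => if c i = m then (1 : R i) else 0) ≤ U j := by
  classical
  let S : Set (∀ i, R i) := {f | ∃ j, PrimeSpectrum.basicOpen f ≤ U j}
  have htop : Ideal.span S = ⊤ := by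
    by_contra hne
    obtain ⟨M, hM, hle⟩ := Ideal.exists_le_maximal _ hne
    have hmem : (⟨M, hM.isPrime⟩ : PrimeSpectrum (∀ i, R i)) ∈ (⨆ j, U j) := hU ▸ trivial
    obtain ⟨j, hj⟩ := TopologicalSpace.Opens.mem_iSup.1 hmem
    obtain ⟨_, ⟨f, rfl⟩, hf1, hf2⟩ := PrimeSpectrum.isTopologicalBasis_basic_opens.exists_subset_of_mem_open hj (U j).isOpen
    exact hf1 (hle (Ideal.subset_span ⟨j, hf2⟩))
  obtain ⟨T, hTS, hT⟩ := (Ideal.span_eq_top_iff_finite S).1 htop
  obtain ⟨a, ha⟩ := Submodule.mem_span_finset'.1 ((Ideal.eq_top_iff_one _).1 hT)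
  let e : ↥T ≃ Fin (Fintype.card ↥T) := Fintype.equivFin _
  have hex : ∀ i, ∃ t : ↥T, IsUnit ((t : ∀ i, R i) i) := by
    intro i
    by_contra hcon
    push Not at hcon
    have h1 : (1 : R i) ∈ IsLocalRing.maximalIdeal (R i) := by
      have := congrFun ha i
      simp only [Finset.sum_apply, Pi.smul_apply', smul_eq_mul, Pi.one_apply] at this
      rw [← this]
      exact Submodule.sum_mem _ fun t _ => Ideal.mul_mem_left _ _ (hcon t)
    exact (IsLocalRing.maximalIdeal.isMaximal _).ne_top ((Ideal.eq_top_iff_one _).2 h1)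
  choose t ht using hex
  refine ⟨_, fun i => e (t i), fun m => ?_⟩
  obtain ⟨j, hj⟩ := hTS (e.symm m).2
  refine ⟨j, le_trans ?_ hj⟩
  let v : ∀ i, R i := fun i => if e (t i) = m then Ring.inverse (((e.symm m : ↥T) : ∀ i, R i) i) else 0
  have hv : (fun i => if e (t i) = m then (1 : R i) else 0) = ((e.symm m : ↥T) : ∀ i, R i) * v := by
    funext i
    simp only [Pi.mul_apply, v]
    split_ifs with h
    · rw [← h, Equiv.symm_apply_apply, Ring.mul_inverse_cancel _ (ht i)]
    · rw [mul_zero]
  rw [hv]
  exact PrimeSpectrum.basicOpen_mul_le_left _ _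

end Groth.Agent.S13953
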