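import Groth.Statements.S13954
import Groth.Prelude
import Groth.Agent.PicAff27.Glue
-- import your own Groth.Agent.* helpers here

set_option autoImplicit false
set_option linter.style.haveILetI false
set_option backward.isDefEq.respectTransparency.types false
universe u
open TateLoc

namespace Groth.Agent.S13954

open CategoryTheory AlgebraicGeometry in
open CategoryTheory CategoryTheory.Limits MonObj AlgebraicGeometry in
open Groth.Agent in
/-- Let X be a reduced scheme whose invertible modules are all trivial (Pic X = 0), and n a natural
number. If for every point x of X all invertible modules on affine n-space over Spec of the local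
ring of X at x are trivial, then all invertible modules on affine n-space over X are trivial. -/
theorem result (X : Scheme.{u}) [IsReduced X] (n : ℕ)
    (hX : (∀ L : (X).Modules, PicF.IsInvertible L → Nonempty (L ≅ Coh.structureModule (X))))
    (hloc : ∀ x : X, (∀ L : (AffineSpace (ULift.{u} (Fin n)) (Spec (X.presheaf.stalk x))).Modules, PicF.IsInvertible L → Nonempty (L ≅ Coh.structureModule (AffineSpace (ULift.{u} (Fin n)) (Spec (X.presheaf.stalk x)))))) :
    (∀ L : (AffineSpace (ULift.{u} (Fin n)) X).Modules, PicF.IsInvertible L → Nonempty (L ≅ Coh.structureModule (AffineSpace (ULift.{u} (Fin n)) X))) := by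
  intro L hL
  exact Groth.Agent.PicAff27.nonempty_iso hX hL fun x => hloc x _ (PicLoc.isInvertible_pullback _ hL)

end Groth.Agent.S13954
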