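import Groth.Statements.S13955
import Mathlib.RingTheory.PicardGroup
import Mathlib.RingTheory.UniqueFactorizationDomain.ClassGroup
import Mathlib.RingTheory.Polynomial.Content
import Mathlib.Algebra.MvPolynomial.Equiv
import Mathlib.Algebra.MvPolynomial.NoZeroDivisors

set_option autoImplicit false
universe u
open TateLoc

namespace Groth.Agent.S13955

theorem isGCD_mvPoly {A : Type u} [CommRing A] [IsDomain A] [IsGCDMonoid A] :
    ∀ n : ℕ, IsGCDMonoid (MvPolynomial (Fin n) A) := by
  have tr : ∀ {α β : Type u} [CommRing α] [CommRing β], (α ≃+* β) → IsGCDMonoid β → IsGCDMonoid α := by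
    intro α β _ _ e h
    rw [isGCDMonoid_iff_exists_gcd] at h ⊢
    obtain ⟨hc, h⟩ := h
    refine ⟨e.injective.isCancelMulZero e (map_zero e) (map_mul e), fun a b => ?_⟩
    obtain ⟨c, hcd⟩ := h (e a) (e b)
    refine ⟨e.symm c, fun d => ?_⟩
    rw [← map_dvd_iff e (b := a), ← map_dvd_iff e (b := b), hcd, ← map_dvd_iff e (b := e.symm c),
      e.apply_symm_apply]
  intro n
  induction n with
  | zero => exact tr (MvPolynomial.isEmptyAlgEquiv A (Fin 0)).toRingEquiv ‹_›
  | succ n ih =>
    haveI := ih
    have h : IsGCDMonoid (Polynomial (MvPolynomial (Fin n) A)) := by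
      haveI := Classical.arbitrary (NormalizedGCDMonoid (MvPolynomial (Fin n) A))
      exact ⟨(Polynomial.normalizedGcdMonoid (R := MvPolynomial (Fin n) A)).toGCDMonoid⟩
    exact tr (MvPolynomial.finSuccEquiv A n).toRingEquiv h

theorem rankOne_split {A : Type u} [CommRing A] [IsDomain A] [IsGCDMonoid A] {N : ℕ}
    (P : Fin N → Fin N → A) (h : ∀ a b c d, P a b * P c d = P a d * P c b)
    (htr : ∑ a, P a a = 1) :
    ∃ v w : Fin N → A, (∀ a b, v a * w b = P a b) ∧ (∑ a, v a * w a = 1) ∧
      ∀ a, ∃ c, v a ∣ P a c := by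
  classical
  obtain ⟨c, hc⟩ : ∃ c, P c c ≠ 0 := by
    by_contra hne
    push Not at hne
    simp [hne] at htr
  let J : Ideal A := Ideal.span (Set.range fun a => P a c)
  let K : Ideal A := Ideal.span (Set.range fun b => P c b)
  have hJK : J * K = Ideal.span {P c c} := by
    apply le_antisymm
    · rw [Ideal.span_mul_span', Ideal.span_le]
      rintro _ ⟨_, ⟨a, rfl⟩, _, ⟨b, rfl⟩, rfl⟩
      exact Ideal.mem_span_singleton'.2 ⟨P a b, h a b c c⟩
    · rw [Ideal.span_singleton_le_iff_mem,
        show P c c = ∑ a, P a c * P c a by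
          conv_lhs => rw [← one_mul (P c c), ← htr, Finset.sum_mul]
          exact Finset.sum_congr rfl fun a _ => h a a c c]
      exact sum_mem fun a _ => Ideal.mul_mem_mul (Ideal.subset_span ⟨a, rfl⟩) (Ideal.subset_span ⟨a, rfl⟩)
  have hJ : J.IsPrincipal := IsGCDMonoid.isPrincipal_of_exists_mul_ne_zero_isPrincipal (J := J)
    ⟨K, by rw [hJK]; simpa using hc, by rw [hJK]; infer_instance⟩
  obtain ⟨d, hd⟩ := hJ.principal
  have hv : ∀ a, ∃ x, d * x = P a c := fun a => by
    have : P a c ∈ J := Ideal.subset_span ⟨a, rfl⟩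
    rw [hd] at this
    obtain ⟨x, hx⟩ := Submodule.mem_span_singleton.1 this
    exact ⟨x, by rw [mul_comm]; simpa using hx⟩
  choose v hv using hv
  have hd0 : d ≠ 0 := by
    rintro rfl
    exact hc (by simpa using (hv c).symm)
  obtain ⟨x, hx⟩ : ∃ x : Fin N → A, ∑ a, x a * P a c = d := by
    have : d ∈ J := hd ▸ Submodule.mem_span_singleton_self d
    exact Ideal.mem_span_range_iff_exists_fun.1 this
  have hxv : ∑ a, x a * v a = 1 := by
    refine mul_left_cancel₀ hd0 ?_
    rw [Finset.mul_sum, mul_one]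
    conv_rhs => rw [← hx]
    exact Finset.sum_congr rfl fun a _ => by rw [← hv a]; ring
  have key : ∀ a b e, v a * P e b = v e * P a b := fun a b e => by
    refine mul_left_cancel₀ hd0 ?_
    rw [← mul_assoc, ← mul_assoc, hv a, hv e, h a c e b, mul_comm]
  have hvw : ∀ a b, v a * (∑ e, x e * P e b) = P a b := fun a b => by
    rw [Finset.mul_sum]
    trans ∑ e, (x e * v e) * P a b
    · exact Finset.sum_congr rfl fun e _ => by rw [mul_left_comm, key a b e, mul_assoc]
    · rw [← Finset.sum_mul, hxv, one_mul]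
  exact ⟨v, fun b => ∑ e, x e * P e b, hvw, by simpa only [hvw] using htr,
    fun a => ⟨c, hv a ▸ dvd_mul_left _ _⟩⟩

theorem smul_comm_dual {S M : Type u} [CommRing S] [AddCommGroup M] [Module S M]
    [Module.Invertible S M] (f : M →ₗ[S] S) (x y : M) : f x • y = f y • x := by
  have := congrArg (TensorProduct.lift ((LinearMap.lsmul S M).comp f))
    (Module.Invertible.tmul_comm (R := S) (m₁ := x) (m₂ := y))
  simpa using this

/-- For a family (R_i) of valuation rings with product A = ∏ R_i and any n, the Picard group of the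
polynomial ring in n variables over A is trivial. -/
theorem result {ι : Type u} (R : ι → Type u)
    [∀ i, CommRing (R i)] [∀ i, IsDomain (R i)] [∀ i, ValuationRing (R i)]
    (n : ℕ) : Subsingleton (CommRing.Pic (MvPolynomial (Fin n) (∀ i, R i))) := by
  classical
  rw [CommRing.Pic.subsingleton_iff]
  intro M _ _ hM
  obtain ⟨N, g, hg⟩ := Module.Finite.exists_fin' (MvPolynomial (Fin n) (∀ i, R i)) M
  obtain ⟨s, hs⟩ := Module.projective_lifting_property g LinearMap.id hg
  let m : Fin N → M := fun a => g (Pi.single a 1)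
  let φ : Fin N → (M →ₗ[MvPolynomial (Fin n) (∀ i, R i)] MvPolynomial (Fin n) (∀ i, R i)) :=
    fun a => (LinearMap.proj a).comp s
  have hφ : ∀ z : M, ∑ a, φ a z • m a = z := fun z => by
    conv_rhs => rw [← show g (s z) = z from DFunLike.congr_fun hs z, pi_eq_sum_univ' (s z)]
    simp [φ, m]
  let P : Fin N → Fin N → MvPolynomial (Fin n) (∀ i, R i) := fun a b => φ a (m b)
  have htr : ∑ a, P a a = 1 := by
    refine FaithfulSMul.eq_of_smul_eq_smul (α := M) fun z => ?_
    rw [one_smul, Finset.sum_smul]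
    conv_rhs => rw [← hφ z]
    exact Finset.sum_congr rfl fun a _ => smul_comm_dual (φ a) (m a) z
  have hrk : ∀ a b c d, P a b * P c d = P a d * P c b := fun a b c d => by
    have := congrArg (φ c) (smul_comm_dual (φ a) (m b) (m d))
    simpa [P] using this
  let pr : ∀ i, MvPolynomial (Fin n) (∀ j, R j) →+* MvPolynomial (Fin n) (R i) :=
    fun i => MvPolynomial.map (Pi.evalRingHom R i)
  have hsp : ∀ i, ∃ v w : Fin N → MvPolynomial (Fin n) (R i),
      (∀ a b, v a * w b = pr i (P a b)) ∧ (∑ a, v a * w a = 1) ∧ ∀ a, ∃ c, v a ∣ pr i (P a c) := by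
    intro i
    haveI := isGCD_mvPoly (A := R i) n
    exact rankOne_split (fun a b => pr i (P a b))
      (fun a b c d => by simp only [← map_mul, hrk]) (by rw [← map_sum, htr, map_one])
  choose v w hvw htr' hdvd using hsp
  let D : ℕ := Finset.univ.sup fun p : Fin N × Fin N => (P p.1 p.2).totalDegree
  have hP : ∀ i a b, (pr i (P a b)).totalDegree ≤ D := fun i a b =>
    le_trans (Finset.sup_mono (MvPolynomial.support_map_subset _ _))
      (Finset.le_sup (f := fun p : Fin N × Fin N => (P p.1 p.2).totalDegree) (Finset.mem_univ (a, b)))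
  -- `v` and `w` have bounded degree
  have hv : ∀ i a, (v i a).totalDegree ≤ D := fun i a => by
    obtain ⟨c, hc⟩ := hdvd i a
    by_cases h0 : pr i (P a c) = 0
    · by_cases hva : v i a = 0
      · simp [hva]
      obtain ⟨e, -, he⟩ : ∃ e ∈ Finset.univ, v i e * w i e ≠ 0 :=
        Finset.exists_ne_zero_of_sum_ne_zero (by rw [htr' i]; exact one_ne_zero)
      have hae : v i a * w i e ≠ 0 := mul_ne_zero hva (right_ne_zero_of_mul he)
      exact (MvPolynomial.totalDegree_le_of_dvd_of_isDomain ⟨w i e, (hvw i a e).symm⟩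
        (hvw i a e ▸ hae)).trans (hP i a e)
    · exact (MvPolynomial.totalDegree_le_of_dvd_of_isDomain hc h0).trans (hP i a c)
  have hw : ∀ i b, (w i b).totalDegree ≤ D := fun i b => by
    by_cases hwb : w i b = 0
    · simp [hwb]
    obtain ⟨e, -, he⟩ : ∃ e ∈ Finset.univ, v i e * w i e ≠ 0 :=
      Finset.exists_ne_zero_of_sum_ne_zero (by rw [htr' i]; exact one_ne_zero)
    have heb : v i e * w i b ≠ 0 := mul_ne_zero (left_ne_zero_of_mul he) hwb
    exact (MvPolynomial.totalDegree_le_of_dvd_of_isDomain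
      ⟨v i e, by rw [← hvw i e b, mul_comm]⟩ (hvw i e b ▸ heb)).trans (hP i e b)
  have glue : ∀ q : ∀ i, MvPolynomial (Fin n) (R i), (∀ i, (q i).totalDegree ≤ D) →
      ∃ Q, ∀ i, pr i Q = q i := by
    intro q hq
    let T : Finset (Fin n →₀ ℕ) := Finset.univ.image
      fun f : Fin n → Fin (D + 1) => Finsupp.equivFunOnFinite.symm fun k => (f k : ℕ)
    refine ⟨∑ t ∈ T, MvPolynomial.monomial t (fun i => MvPolynomial.coeff t (q i)), fun i => ?_⟩
    rw [map_sum]
    simp only [pr, MvPolynomial.map_monomial, Pi.evalRingHom_apply]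
    conv_rhs => rw [MvPolynomial.as_sum (q i)]
    refine (Finset.sum_subset (fun t ht => ?_) fun t _ ht => ?_).symm
    · have hle : ∀ k, t k ≤ D := fun k => by
        refine le_trans ?_ ((MvPolynomial.le_totalDegree ht).trans (hq i))
        rw [Finsupp.sum_fintype _ _ (fun _ => rfl)]
        exact Finset.single_le_sum (f := fun k => t k) (fun _ _ => Nat.zero_le _) (Finset.mem_univ k)
      exact Finset.mem_image.2 ⟨fun k => ⟨t k, Nat.lt_succ_of_le (hle k)⟩, Finset.mem_univ _,
        Finsupp.ext fun k => rfl⟩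
    · rw [MvPolynomial.notMem_support_iff.1 ht, map_zero]
  choose V hV using fun a => glue (fun i => v i a) (fun i => hv i a)
  choose W hW using fun a => glue (fun i => w i a) (fun i => hw i a)
  have ext : ∀ x y, (∀ i, pr i x = pr i y) → x = y := fun x y h => by
    ext t i
    have := congrArg (MvPolynomial.coeff t) (h i)
    simpa [pr, MvPolynomial.coeff_map] using this
  have hVW : ∀ a b, V a * W b = P a b := fun a b =>
    ext _ _ fun i => by rw [map_mul, hV, hW, hvw]
  have hVW1 : ∑ a, V a * W a = 1 := by simp only [hVW, htr]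
  let toS : M →ₗ[MvPolynomial (Fin n) (∀ i, R i)] MvPolynomial (Fin n) (∀ i, R i) :=
    ∑ b, W b • φ b
  let back : MvPolynomial (Fin n) (∀ i, R i) →ₗ[MvPolynomial (Fin n) (∀ i, R i)] M :=
    LinearMap.toSpanSingleton _ M (∑ a, V a • m a)
  refine Module.Invertible.free_iff_linearEquiv.2 ⟨LinearEquiv.ofLinear toS back ?_ ?_⟩
  · apply LinearMap.ext_ring
    simp only [toS, back, LinearMap.comp_apply, LinearMap.toSpanSingleton_apply, one_smul,
      LinearMap.sum_apply, LinearMap.smul_apply, LinearMap.id_apply, map_sum, map_smul, smul_eq_mul]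
    calc ∑ a, V a * ∑ b, W b * φ b (m a)
        = ∑ a, ∑ b, (V b * W b) * (V a * W a) := by
          refine Finset.sum_congr rfl fun a _ => ?_
          rw [Finset.mul_sum]
          exact Finset.sum_congr rfl fun b _ => by
            rw [show φ b (m a) = V b * W a from (hVW b a).symm]; ring
      _ = 1 := by simp only [← Finset.sum_mul, hVW1, one_mul]
  · refine LinearMap.ext fun z => ?_
    simp only [toS, back, LinearMap.comp_apply, LinearMap.toSpanSingleton_apply, LinearMap.sum_apply,
      LinearMap.smul_apply, LinearMap.id_apply, smul_eq_mul, Finset.smul_sum, smul_smul]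
    conv_rhs => rw [← hφ z]
    refine Finset.sum_congr rfl fun a _ => ?_
    congr 1
    rw [Finset.sum_mul]
    trans ∑ b, P a b * φ b z
    · exact Finset.sum_congr rfl fun b _ => by rw [← hVW a b]; ring
    · conv_rhs => rw [← hφ z, map_sum]
      exact Finset.sum_congr rfl fun b _ => by rw [map_smul, smul_eq_mul, mul_comm]

end Groth.Agent.S13955
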