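import Groth.Statements.S13958
import Mathlib.GroupTheory.FiniteAbelian.Basic
open CategoryTheory ProfiniteGrp.ProfiniteCompletion

set_option autoImplicit false
universe u
open TateLoc

namespace Groth.Agent.S13958

open DirectSum in
lemma exists_finite_hom_ne_zero {M : Type u} [AddCommGroup M] [AddGroup.FG M] (x : M) (hx : x ≠ 0) :
    ∃ (Q : Type u) (_ : AddCommGroup Q) (_ : Finite Q) (φ : M →+ Q), φ x ≠ 0 := by
  classical
  obtain ⟨n, ι, _, p, hp, e, ⟨E⟩⟩ := AddCommGroup.equiv_free_prod_directSum_zmod M
  have hne : E x ≠ 0 := (map_ne_zero_iff E E.injective).2 hx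
  let m : ℕ := (∑ i, ((E x).1 i).natAbs) + 1
  have : ∀ i, NeZero (p i ^ e i) := fun i => ⟨pow_ne_zero _ (hp i).ne_zero⟩
  have : Finite (⨁ i, ZMod (p i ^ e i)) := Finite.of_injective _ DFunLike.coe_injective
  let φ : M →+ ULift.{u} ((Fin n → ZMod m) × (⨁ i, ZMod (p i ^ e i))) :=
    (AddEquiv.ulift.symm.toAddMonoidHom.comp
      (AddMonoidHom.prodMap (AddMonoidHom.mk' (fun v : Fin n →₀ ℤ => fun i => ((v i : ℤ) : ZMod m))
        (fun a b => by funext i; simp)) (AddMonoidHom.id _))).comp E.toAddMonoidHom
  refine ⟨_, inferInstance, inferInstance, φ, fun h => hne ?_⟩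
  have h1 := congrArg (fun t => t.down.1) h
  have h2 : (E x).2 = 0 := congrArg (fun t => t.down.2) h
  refine Prod.ext (Finsupp.ext fun i => ?_) h2
  have h3 : (((E x).1 i : ℤ) : ZMod m) = 0 := congrFun h1 i
  rw [ZMod.intCast_zmod_eq_zero_iff_dvd] at h3
  refine Int.eq_zero_of_dvd_of_natAbs_lt_natAbs h3 ?_
  rw [Int.natAbs_natCast]
  exact Nat.lt_succ_of_le (Finset.single_le_sum (f := fun i => ((E x).1 i).natAbs) (fun _ _ => Nat.zero_le _) (Finset.mem_univ i))


open CategoryTheory in
/-- Let A' be a finitely generated abelian group (written multiplicatively, discrete) and A a subgroup.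
If the image of x ∈ A' in the profinite completion of A' lies in the image of the profinite
completion of A under the map induced by the inclusion, then x ∈ A. (The published statement says
that the square formed by the two completion maps and the two inclusions is Cartesian; given the
injectivity of the induced map on completions, which holds here, that amounts to this membership
criterion.) -/
theorem result (A' : Type u) [CommGroup A'] [Group.FG A']
    (A : Subgroup A') (x : A')
    (hx : ProfiniteGrp.ProfiniteCompletion.etaFn (GrpCat.of A') x ∈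
      Set.range ⇑(ProfiniteGrp.profiniteCompletion.map (GrpCat.ofHom A.subtype)).hom) :
    x ∈ A := by
  by_contra hxA
  have hne : Additive.ofMul (QuotientGroup.mk (s := A) x) ≠ 0 := fun h =>
    hxA ((QuotientGroup.eq_one_iff x).1 h)
  have : AddGroup.FG (Additive (A' ⧸ A)) := inferInstance
  obtain ⟨Q, _, _, φ, hφ⟩ := exists_finite_hom_ne_zero _ hne
  let ψ : A' →* Multiplicative Q := (AddMonoidHom.toMultiplicativeRight φ).comp (QuotientGroup.mk' A)
  have hfin : ψ.ker.FiniteIndex := Subgroup.finiteIndex_ker ψ
  let N : FiniteIndexNormalSubgroup (GrpCat.of A') := ⟨ψ.ker, inferInstance, hfin⟩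
  obtain ⟨y, hy⟩ := hx
  -- the `N`-component of the image of the completion of `A` is trivial
  let π := fun z : completion (GrpCat.of A) =>
    ((ProfiniteGrp.profiniteCompletion.map (GrpCat.ofHom A.subtype)).hom z).1 N
  have hπc : Continuous π :=
    ((continuous_apply N).comp continuous_subtype_val).comp
      (ProfiniteGrp.profiniteCompletion.map (GrpCat.ofHom A.subtype)).hom.continuous
  have hπ : π = fun _ => (etaFn (GrpCat.of A') (1 : A')).1 N := by
    refine (denseRange (G := GrpCat.of A)).equalizer hπc continuous_const (funext fun a => ?_)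
    have h := congrArg (fun F => F a) (lift_eta ((GrpCat.ofHom A.subtype) ≫ eta (GrpCat.of A')))
    refine (congrArg (fun t => t.1 N) h).trans ?_
    refine (QuotientGroup.eq_one_iff _).2 ?_
    show φ (Additive.ofMul (QuotientGroup.mk (s := A) (a.1 : A'))) = 0
    rw [(QuotientGroup.eq_one_iff _).2 a.2]
    exact map_zero φ
  have h1 : QuotientGroup.mk (s := ψ.ker) x = QuotientGroup.mk (s := ψ.ker) (1 : A') :=
    (congrArg (fun t => t.1 N) hy).symm.trans (congrFun hπ y)
  exact hφ ((QuotientGroup.eq_one_iff (N := ψ.ker) x).1 h1)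

end Groth.Agent.S13958
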