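import Groth.Statements.S13959
import Groth.Agent.CAlgH3.FpqcTorsorLocal
-- import your own Groth.Agent.* helpers here

set_option autoImplicit false
set_option linter.style.haveILetI false
set_option backward.isDefEq.respectTransparency.types false
universe u
open TateLoc

namespace Groth.Agent.S13959

open CategoryTheory AlgebraicGeometry in
open CategoryTheory CategoryTheory.Limits MonoidalCategory CartesianMonoidalCategory MonObj AlgebraicGeometry in
open Groth.Agent in
/-- Let k be a field, L an extension field of k which is separable over k in the sense that L ⊗_k L is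
reduced (not necessarily algebraic), and I an infinitesimal k-group scheme (finite over k with
one-point underlying space). If a k-scheme E with an action of I is an fppf torsor under I and
acquires a point over L, then E already has a k-point. (The published statement is the injectivity
of H^1(k, I) → H^1(L, I); this row is its torsor form.) -/
theorem result (k : Type u) [Field k] (L : Type u) [Field L] [Algebra k L]
    [IsReduced (TensorProduct k L L)]
    (I E : Over (Spec (CommRingCat.of k))) [GrpObj I] [IsFinite I.hom] [Subsingleton ↥(I.left)]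
    (a : AlgGrp.Action I E) (hE : NonAbH1.IsTorsorFor Scheme.fppfPrecoverage a)
    (hL : NonAbH1.HasSectionOver E (Spec.map (CommRingCat.ofHom (algebraMap k L)))) :
    NonAbH1.HasSectionOver E (𝟙 (Spec (CommRingCat.of k))) := by
  let j : Spec (CommRingCat.of k) ⟶ Spec (CommRingCat.of k) := 𝟙 _
  obtain ⟨s, hs⟩ := hL
  let x : CAlgH3.FpqcTorsorLocal.Tm j L ⟶ E := Over.homMk s (by
    show s ≫ E.hom = Spec.map (CommRingCat.ofHom (algebraMap k L)) ≫ 𝟙 _
    rw [Category.comp_id]; exact hs)
  obtain ⟨g, hg, -⟩ := CAlgH3.FpqcTorsorLocal.exists_cocycle j L hE.1 x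
  haveI : IsReduced (CommRingCat.of (TensorProduct k L L)) := ‹IsReduced (TensorProduct k L L)›
  haveI : AlgebraicGeometry.IsReduced (CAlgH3.FpqcTorsorLocal.Tm j (TensorProduct k L L)).left :=
    inferInstanceAs (AlgebraicGeometry.IsReduced (Spec (CommRingCat.of (TensorProduct k L L))))
  haveI : IsClosedImmersion (η[I].left ≫ I.hom) := by
    rw [Over.w η[I]]
    exact inferInstanceAs (IsClosedImmersion (𝟙 (Spec (CommRingCat.of k))))
  haveI : IsClosedImmersion η[I].left := IsClosedImmersion.of_comp η[I].left I.hom
  haveI : Nonempty ↥((𝟙_ (Over (Spec (CommRingCat.of k)))).left) :=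
    inferInstanceAs (Nonempty (Spec (CommRingCat.of k)))
  haveI : Surjective η[I].left := ⟨fun p => ⟨Classical.arbitrary _, Subsingleton.elim _ _⟩⟩
  haveI : IsIso (pullback.fst g.left η[I].left) := isIso_of_isClosedImmersion_of_surjective _
  have hg1 : g = 1 := by
    have e : g.left = (inv (pullback.fst g.left η[I].left) ≫ pullback.snd g.left η[I].left) ≫ η[I].left := by
      rw [Category.assoc, IsIso.eq_inv_comp]
      exact pullback.condition
    rw [Hom.one_def]
    refine Over.OverMorphism.ext ?_
    show g.left = (toUnit (CAlgH3.FpqcTorsorLocal.Tm j (TensorProduct k L L))).left ≫ η[I].left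
    rw [e]
    congr 1
    have h1 := congrArg (· ≫ I.hom) e
    simp only [Category.assoc, Over.w η[I]] at h1
    rw [Over.w g] at h1
    have h2 := Over.w (toUnit (CAlgH3.FpqcTorsorLocal.Tm j (TensorProduct k L L)))
    exact (Category.comp_id _).symm.trans ((h1.symm.trans h2.symm).trans (Category.comp_id _))
  rw [hg1, NonAbLib.actPt_one] at hg
  exact CAlgH3.FpqcTorsorLocal.hasSection_of_descent j L x hg

end Groth.Agent.S13959
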