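import Groth.Statements.S13963
import Mathlib.Topology.Algebra.Group.OpenMapping
import Mathlib.Topology.Compactness.SigmaCompact
import Mathlib.Topology.Baire.LocallyCompactRegular

set_option autoImplicit false
universe u
open TateLoc

namespace Groth.Agent.S13963

/-- Let A' → A → A'' be continuous homomorphisms of locally compact, second-countable, Hausdorff abelian
topological groups which form a short exact sequence of abstract groups (the first injective, the
second surjective, image equal to kernel). If A' and A'' are compact, then A is compact. -/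
theorem result (A' A A'' : Type u)
    [AddCommGroup A'] [TopologicalSpace A'] [IsTopologicalAddGroup A'] [SecondCountableTopology A'] [T2Space A']
    [CompactSpace A']
    [AddCommGroup A] [TopologicalSpace A] [IsTopologicalAddGroup A] [LocallyCompactSpace A]
    [SecondCountableTopology A] [T2Space A]
    [AddCommGroup A''] [TopologicalSpace A''] [IsTopologicalAddGroup A''] [SecondCountableTopology A''] [T2Space A'']
    [CompactSpace A'']
    (f : A' →+ A) (g : A →+ A'') (hf : Continuous f) (hg : Continuous g)
    (hinj : Function.Injective f) (hsurj : Function.Surjective g) (hex : g.ker = f.range) :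
    CompactSpace A := by
  have hgo : IsOpenMap g := g.isOpenMap_of_sigmaCompact hsurj hg
  choose K hKc hK using fun x : A => exists_compact_mem_nhds x
  obtain ⟨s, hs⟩ := (isCompact_univ (X := A'')).elim_finite_subcover (fun x : A => g '' interior (K x))
    (fun x => hgo _ isOpen_interior) (fun y _ => by
      obtain ⟨x, rfl⟩ := hsurj y
      exact Set.mem_iUnion.2 ⟨x, x, mem_interior_iff_mem_nhds.2 (hK x), rfl⟩)
  have hKs : IsCompact (⋃ x ∈ s, K x) := s.isCompact_biUnion fun x _ => hKc x
  refine isCompact_univ_iff.1 ?_
  have hc : IsCompact ((fun p : A × A' => p.1 + f p.2) '' ((⋃ x ∈ s, K x) ×ˢ (Set.univ : Set A'))) :=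
    (hKs.prod isCompact_univ).image (continuous_fst.add (hf.comp continuous_snd))
  convert hc
  symm
  rw [Set.eq_univ_iff_forall]
  intro a
  have ha := hs (Set.mem_univ (g a))
  simp only [Set.mem_iUnion] at ha
  obtain ⟨x, hx, k, hk, hgk⟩ := ha
  have : -k + a ∈ f.range := by
    rw [← hex, AddMonoidHom.mem_ker]; simp [hgk]
  obtain ⟨b, hb⟩ := this
  refine ⟨(k, b), ⟨?_, trivial⟩, ?_⟩
  · exact Set.mem_biUnion hx (interior_subset hk)
  · simp [hb]

end Groth.Agent.S13963
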