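import Groth.Statements.S13971
import Groth.Agent.S12732
import Groth.Agent.S12722
import Groth.Agent.S12721
import Groth.Agent.S12723
import Groth.Agent.ArtFunLib.PowerSeriesVersal
import Groth.Agent.ArtFunLib.Cotangent
import Mathlib.RingTheory.MvPowerSeries.Derivative
import Mathlib.RingTheory.Artinian.Module
import Mathlib.Algebra.TrivSqZeroExt.Basic
-- import your own Groth.Agent.* helpers here

set_option autoImplicit false
universe u v
open CategoryTheory
open ArtFun

namespace Groth.Agent.S13971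

universe w
set_option backward.isDefEq.respectTransparency false
open IsLocalRing

variable {k : Type u} [Field k]

theorem isArtinian_tsze {A : Type u} [CommRing A] [IsArtinianRing A] (M : Type u) [AddCommGroup M] [Module A M]
    [Module Aᵐᵒᵖ M] [IsCentralScalar A M] [Module.Finite A M] : IsArtinianRing (TrivSqZeroExt A M) := by
  haveI : Module.Finite A (TrivSqZeroExt A M) := inferInstanceAs (Module.Finite A (A × M))
  exact IsArtinianRing.of_finite A (TrivSqZeroExt A M)

theorem isLocalRing_tszeExt {A : Type u} [CommRing A] [IsLocalRing A] (M : Type u) [AddCommGroup M] [Module A M]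
    [Module Aᵐᵒᵖ M] [IsCentralScalar A M] : IsLocalRing (TrivSqZeroExt A M) := by
  haveI : Nontrivial (TrivSqZeroExt A M) := ⟨⟨TrivSqZeroExt.inl 0, TrivSqZeroExt.inl 1,
    fun h => zero_ne_one (α := A) (congrArg TrivSqZeroExt.fst h)⟩⟩
  exact IsLocalRing.of_isUnit_or_isUnit_one_sub_self fun a => by
    rcases IsLocalRing.isUnit_or_isUnit_one_sub_self a.fst with h | h
    · exact Or.inl (TrivSqZeroExt.isUnit_iff_isUnit_fst.mpr h)
    · exact Or.inr (TrivSqZeroExt.isUnit_iff_isUnit_fst.mpr h)

/-- The coefficient ring `k`. -/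
noncomputable abbrev kC (k : Type u) [Field k] : ArtFun.CRing k k := ArtFunLib.artCRing (ArtFun.Art.base k k)

/-- Power series over `k`. -/
abbrev PS (k : Type u) [Field k] (n : ℕ) : Type u := MvPowerSeries (Fin n) k

/-- Relations map to zero partial derivatives under lifting of split square-zero extensions. -/
theorem pderiv_eq_zero (F : ArtFun.Art k k ⥤ Type w)
    (hT1 : ∀ ⦃A A' A'' : ArtFun.Art k k⦄ (π' : A' ⟶ A) (i' : A ⟶ A') (π'' : A'' ⟶ A) (i'' : A ⟶ A'')
        (q : A'' ⟶ A'), i' ≫ π' = 𝟙 A → i'' ≫ π'' = 𝟙 A →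
        RingHom.ker π'.toAlgHom * RingHom.ker π'.toAlgHom = ⊥ →
        RingHom.ker π''.toAlgHom * RingHom.ker π''.toAlgHom = ⊥ →
        q ≫ π' = π'' → i'' ≫ q = i' → Function.Surjective q → Function.Surjective (F.map q))
    (R : ArtFun.CRing k k) (ξ : ArtFun.Family R.carrier R.res F) (hξ : ArtFun.IsVersal ξ)
    {n : ℕ} (pr : (ArtFunLib.psRing (kC k) n).carrier →ₐ[k] R.carrier)
    (hpr : R.res.comp pr = (ArtFunLib.psRing (kC k) n).res) (hsurj : Function.Surjective pr)
    (hlin : ∀ f : PS k n, pr f = 0 → ∀ i, MvPowerSeries.constantCoeff (MvPowerSeries.pderiv k i f) = 0)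
    (A : ArtFun.Art k k) (φ : ArtFun.HomSet R.carrier R.res A)
    (f : PS k n) (hf : pr f = 0) (i : Fin n) : φ.1 (pr (MvPowerSeries.pderiv k i f)) = 0 := by
  classical
  let a : PS k n →ₐ[k] A := φ.1.comp pr
  have hres : ∀ g : PS k n, A.res (a g) = MvPowerSeries.constantCoeff g := fun g =>
    (AlgHom.congr_fun φ.2 (pr g)).trans (AlgHom.congr_fun hpr g)
  let df : PS k n → (Fin n → A) := fun g j => a (MvPowerSeries.pderiv k j g)
  let K : Submodule A (Fin n → A) := Submodule.span A (df '' {g | pr g = 0})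
  let M' := Fin n → A
  let M := M' ⧸ K
  haveI := isArtinian_tsze (A := A) M'
  haveI := isLocalRing_tszeExt (A := A) M'
  haveI := isArtinian_tsze (A := A) M
  haveI := isLocalRing_tszeExt (A := A) M
  let E₁ : ArtFun.Art k k := ArtFun.Art.of (TrivSqZeroExt A M) (A.res.comp (TrivSqZeroExt.fstHom k A M))
    (fun c => by obtain ⟨x, hx⟩ := A.res_surjective c; exact ⟨TrivSqZeroExt.inl x, hx⟩)
  let E₂ : ArtFun.Art k k := ArtFun.Art.of (TrivSqZeroExt A M') (A.res.comp (TrivSqZeroExt.fstHom k A M'))
    (fun c => by obtain ⟨x, hx⟩ := A.res_surjective c; exact ⟨TrivSqZeroExt.inl x, hx⟩)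
  let qm : TrivSqZeroExt A M' →ₐ[k] TrivSqZeroExt A M := (TrivSqZeroExt.map K.mkQ).restrictScalars k
  let π₁ : E₁ ⟶ A := ArtFun.Art.homMk (TrivSqZeroExt.fstHom k A M) rfl
  let π₂ : E₂ ⟶ A := ArtFun.Art.homMk (TrivSqZeroExt.fstHom k A M') rfl
  let i₁ : A ⟶ E₁ := ArtFun.Art.homMk (TrivSqZeroExt.inlAlgHom k A M) (AlgHom.ext fun x => rfl)
  let i₂ : A ⟶ E₂ := ArtFun.Art.homMk (TrivSqZeroExt.inlAlgHom k A M') (AlgHom.ext fun x => rfl)
  let q : E₂ ⟶ E₁ := ArtFun.Art.homMk qm (AlgHom.ext fun x => congrArg A.res (TrivSqZeroExt.fst_map K.mkQ x))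
  have hqf : ∀ x, TrivSqZeroExt.fst (qm x) = TrivSqZeroExt.fst x := fun x => TrivSqZeroExt.fst_map K.mkQ x
  have hqs : ∀ x, TrivSqZeroExt.snd (qm x) = K.mkQ (TrivSqZeroExt.snd x) := fun x => TrivSqZeroExt.snd_map K.mkQ x
  have hq : Function.Surjective q := fun y => by
    obtain ⟨m, hm⟩ := K.mkQ_surjective (TrivSqZeroExt.snd (show TrivSqZeroExt A M from y))
    let z : TrivSqZeroExt A M' := TrivSqZeroExt.inl (TrivSqZeroExt.fst (show TrivSqZeroExt A M from y)) + TrivSqZeroExt.inr m
    have hz1 : TrivSqZeroExt.fst z = TrivSqZeroExt.fst (show TrivSqZeroExt A M from y) := by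
      simp only [z, TrivSqZeroExt.fst_add, TrivSqZeroExt.fst_inl, TrivSqZeroExt.fst_inr, add_zero]
    have hz2 : TrivSqZeroExt.snd z = m := by
      simp only [z, TrivSqZeroExt.snd_add, TrivSqZeroExt.snd_inl, TrivSqZeroExt.snd_inr, zero_add]
    exact ⟨z, TrivSqZeroExt.ext ((hqf z).trans hz1) ((hqs z).trans ((congrArg K.mkQ hz2).trans hm))⟩
  have hsq : ∀ (N : Type u) [AddCommGroup N] [Module A N] [Module Aᵐᵒᵖ N] [IsCentralScalar A N]
      [Module k N] [IsScalarTower k A N],
      RingHom.ker (TrivSqZeroExt.fstHom k A N) * RingHom.ker (TrivSqZeroExt.fstHom k A N) = ⊥ := by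
    intro N _ _ _ _ _ _
    rw [eq_bot_iff, Ideal.mul_le]
    intro x (hx : x.fst = 0) y (hy : y.fst = 0)
    rw [Ideal.mem_bot]
    ext
    · simp [hx]
    · simp [hx, hy]
  -- the point over `A ⊕ M`
  let D₁ : PS k n → M := fun g => K.mkQ (df g)
  let Φ : PS k n →ₐ[k] TrivSqZeroExt A M :=
    { toFun := fun g => TrivSqZeroExt.inl (a g) + TrivSqZeroExt.inr (D₁ g)
      map_one' := by
        have : df 1 = 0 := funext fun j => by simp [df]
        refine TrivSqZeroExt.ext ?_ ?_ <;> simp [D₁, this]
      map_zero' := by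
        have : df 0 = 0 := funext fun j => by simp [df]
        refine TrivSqZeroExt.ext ?_ ?_ <;> simp [D₁, this]
      map_add' := fun x y => by
        have : df (x + y) = df x + df y := funext fun j => by simp [df]
        refine TrivSqZeroExt.ext ?_ ?_ <;> simp [D₁, this] <;> abel
      map_mul' := fun x y => by
        have : df (x * y) = a x • df y + a y • df x := funext fun j => by
          simp [df, mul_comm]
        refine TrivSqZeroExt.ext ?_ ?_ <;> simp [D₁, this, op_smul_eq_smul]
      commutes' := fun c => by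
        have : df (algebraMap k (PS k n) c) = 0 := funext fun j => by simp [df]
        refine TrivSqZeroExt.ext ?_ ?_ <;>
          simp [D₁, this, TrivSqZeroExt.algebraMap_eq_inl'] }
  have hker : RingHom.ker pr.toRingHom ≤ RingHom.ker Φ.toRingHom := fun g (hg : pr g = 0) => by
    show TrivSqZeroExt.inl (a g) + TrivSqZeroExt.inr (D₁ g) = 0
    have h1 : a g = 0 := by show φ.1 (pr g) = 0; rw [hg, map_zero]
    have h2 : D₁ g = 0 := (Submodule.Quotient.mk_eq_zero _).2 (Submodule.subset_span ⟨g, hg, rfl⟩)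
    rw [h1, h2, TrivSqZeroExt.inl_zero, TrivSqZeroExt.inr_zero, add_zero]
  let φ₁ : R.carrier →ₐ[k] TrivSqZeroExt A M := AlgHom.liftOfSurjective pr hsurj Φ hker
  have hφ₁ : ∀ g, φ₁ (pr g) = Φ g := fun g => AlgHom.congr_fun (AlgHom.liftOfSurjective_comp pr hsurj Φ hker) g
  let φ₁' : ArtFun.HomSet R.carrier R.res E₁ := ⟨φ₁, AlgHom.ext fun r => by
    obtain ⟨g, rfl⟩ := hsurj r
    show A.res (TrivSqZeroExt.fst (φ₁ (pr g))) = R.res (pr g)
    rw [hφ₁]
    show A.res (TrivSqZeroExt.fst (TrivSqZeroExt.inl (a g) + TrivSqZeroExt.inr (D₁ g))) = _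
    rw [TrivSqZeroExt.fst_add, TrivSqZeroExt.fst_inl, TrivSqZeroExt.fst_inr, add_zero]
    exact AlgHom.congr_fun φ.2 (pr g)⟩
  obtain ⟨y, hy⟩ := hT1 π₁ i₁ π₂ i₂ q
    (ArtFun.Art.hom_ext (AlgHom.ext fun x => rfl)) (ArtFun.Art.hom_ext (AlgHom.ext fun x => rfl))
    (hsq M) (hsq M') (ArtFun.Art.hom_ext (AlgHom.ext fun x => TrivSqZeroExt.fst_map K.mkQ x))
    (ArtFun.Art.hom_ext (AlgHom.ext fun x => TrivSqZeroExt.map_inl K.mkQ x)) hq (ξ.app E₁ φ₁')
  obtain ⟨ψ, hψ, -⟩ := hξ q hq φ₁' y hy
  let Ψ : PS k n →ₐ[k] TrivSqZeroExt A M' := (show R.carrier →ₐ[k] TrivSqZeroExt A M' from ψ.1).comp pr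
  have hψ' : ∀ g, qm (Ψ g) = Φ g := fun g =>
    (AlgHom.congr_fun (congrArg Subtype.val hψ) (pr g)).trans (hφ₁ g)
  have hfst : ∀ g, TrivSqZeroExt.fst (Ψ g) = a g := fun g => by
    have := congrArg TrivSqZeroExt.fst (hψ' g)
    rw [hqf] at this
    simpa [Φ] using this
  let w : Fin n → M' := fun l => TrivSqZeroExt.snd (Ψ (MvPowerSeries.X l))
  let Ψ' : PS k n →ₐ[k] TrivSqZeroExt A M' :=
    { toFun := fun g => TrivSqZeroExt.inl (a g) + TrivSqZeroExt.inr (∑ l, df g l • w l)
      map_one' := by
        have : df 1 = 0 := funext fun j => by simp [df]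
        refine TrivSqZeroExt.ext ?_ ?_ <;> simp [this]
      map_zero' := by
        have : df 0 = 0 := funext fun j => by simp [df]
        refine TrivSqZeroExt.ext ?_ ?_ <;> simp [this]
      map_add' := fun x y => by
        have : df (x + y) = df x + df y := funext fun j => by simp [df]
        refine TrivSqZeroExt.ext ?_ ?_ <;> simp [this, add_smul, Finset.sum_add_distrib] <;> abel
      map_mul' := fun x y => by
        have : df (x * y) = a x • df y + a y • df x := funext fun j => by
          simp [df, mul_comm]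
        refine TrivSqZeroExt.ext ?_ ?_ <;>
          simp [this, op_smul_eq_smul, add_smul, Finset.sum_add_distrib, Finset.smul_sum, smul_smul]
      commutes' := fun c => by
        have : df (algebraMap k (PS k n) c) = 0 := funext fun j => by simp [df]
        refine TrivSqZeroExt.ext ?_ ?_ <;> simp [this, TrivSqZeroExt.algebraMap_eq_inl'] }
  have hdX : ∀ l, df (MvPowerSeries.X l) = Pi.single l (1 : A) := fun l => funext fun j => by
    simp only [df]
    rcases eq_or_ne j l with rfl | h
    · rw [MvPowerSeries.pderiv_X_self, map_one, Pi.single_eq_same]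
    · rw [MvPowerSeries.pderiv_X_of_ne h.symm, map_zero, Pi.single_eq_of_ne h]
  have hΨ : Ψ = Ψ' := by
    refine ArtFunLib.ps_hom_ext (R := kC k) (T := ArtFunLib.artCRing E₂) (g := Ψ) (g' := Ψ') ?_ ?_ ?_ ?_
    · exact (AlgHom.comp_assoc _ _ _).symm.trans ((congrArg (fun z => AlgHom.comp z pr) ψ.2).trans hpr)
    · exact AlgHom.ext fun g => by
        show A.res (TrivSqZeroExt.fst (TrivSqZeroExt.inl (a g) + TrivSqZeroExt.inr (∑ l, df g l • w l))) = _
        rw [TrivSqZeroExt.fst_add, TrivSqZeroExt.fst_inl, TrivSqZeroExt.fst_inr, add_zero]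
        exact hres g
    · intro c
      exact (Ψ.commutes c).trans (Ψ'.commutes c).symm
    · intro l
      show Ψ (MvPowerSeries.X l) = TrivSqZeroExt.inl (a (MvPowerSeries.X l)) +
        TrivSqZeroExt.inr (∑ j, df (MvPowerSeries.X l) j • w j)
      refine TrivSqZeroExt.ext ?_ ?_
      · simp [hfst]
      · simp [hdX, Pi.single_apply, ite_smul, w]
  let 𝔞 : Ideal A := Ideal.span {x | ∃ g, pr g = 0 ∧ ∃ l, x = df g l}
  have hK : ∀ m ∈ K, ∀ j, m j ∈ 𝔞 := by
    intro m hm
    induction hm using Submodule.span_induction with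
    | mem m hm => obtain ⟨g, hg, rfl⟩ := hm; exact fun j => Ideal.subset_span ⟨g, hg, j, rfl⟩
    | zero => exact fun j => zero_mem _
    | add x y _ _ hx hy => exact fun j => add_mem (hx j) (hy j)
    | smul c x _ hx => exact fun j => Ideal.mul_mem_left _ c (hx j)
  have hw : ∀ l, w l - Pi.single l (1 : A) ∈ K := fun l => by
    have := congrArg TrivSqZeroExt.snd (hψ' (MvPowerSeries.X l))
    rw [← hdX l]
    refine (Submodule.Quotient.eq K).1 ?_
    rw [hqs] at this
    simpa [Φ, D₁, w] using this
  have h2 : 𝔞 ≤ 𝔞 * 𝔞 := Ideal.span_le.2 fun x ⟨g, hg, j, hx⟩ => by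
    have h0 : ∑ l, df g l • w l = 0 := by
      have h := congrArg TrivSqZeroExt.snd (AlgHom.congr_fun hΨ g)
      have hz : Ψ g = 0 := by show ψ.1 (pr g) = 0; rw [hg, map_zero]
      rw [hz] at h
      simpa [Ψ'] using h.symm
    have h1 := congrArg (fun m : Fin n → A => m j) h0
    have h1 : ∑ l, df g l * w l j = 0 := Eq.trans (Finset.sum_apply j Finset.univ (fun l => df g l • w l)).symm h1
    have e : df g j = ∑ l, df g l * ((Pi.single l (1 : A) : Fin n → A) j - w l j) := by
      rw [Finset.sum_congr rfl (fun l _ => mul_sub _ _ _), Finset.sum_sub_distrib, h1, sub_zero]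
      simp [Pi.single_apply]
    rw [hx, e]
    refine Ideal.sum_mem _ fun l _ => Ideal.mul_mem_mul (Ideal.subset_span ⟨g, hg, l, rfl⟩) ?_
    rw [← neg_sub]
    exact neg_mem (hK _ (hw l) j)
  have h3 : 𝔞 ≤ maximalIdeal A := Ideal.span_le.2 fun x ⟨g, hg, j, hx⟩ => by
    rw [SetLike.mem_coe, ArtFun.Art.mem_maximalIdeal_iff, hx]
    exact (hres _).trans (hlin g hg j)
  have h4 : 𝔞 = ⊥ := Submodule.eq_bot_of_le_smul_of_le_jacobson_bot (maximalIdeal A) 𝔞 (IsNoetherian.noetherian _)
    (h2.trans (Ideal.mul_mono_left h3)) (le_of_eq (IsLocalRing.jacobson_eq_maximalIdeal ⊥ bot_ne_top).symm)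
  have h5 : df f i ∈ 𝔞 := Ideal.subset_span ⟨f, hf, i, rfl⟩
  rw [h4] at h5
  exact h5

/-- Let k be a field of characteristic zero and F a deformation functor on Artinian local k-algebras
with residue field k — F(k) is a point and the comparison map F(A₁ ×_A A₂) → F(A₁) ×_{F(A)} F(A₂) is
bijective whenever A₂ → A is surjective — whose tangent space F(k[ε]) is finite-dimensional. Suppose
that for every object A and every surjective morphism q : A'' → A' between split square-zero
extensions of A (A' and A'' come with retractions onto A whose kernels have square zero and with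
sections from A, and q commutes with the retractions and the sections), the map F(q) : F(A'') →
F(A') is surjective. Then F is unobstructed: F(B) → F(A) is surjective for every surjective B → A.
(The published statement is for deformation categories, with the hypothesis that, for every object
over A, the functor M ↦ {isomorphism classes of its liftings to A ⊕ M} on finite A-modules carries
surjections to surjections; this row is the case of a category fibred in sets, for which a split
square-zero extension of A is A ⊕ M with M the kernel, a finite A-module, and that hypothesis is the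
displayed surjectivity.) -/
theorem result {k : Type u} [Field k] [CharZero k]
    (F : ArtFun.Art k k ⥤ Type v) [ArtFun.TangentStr F]
    (h0 : ArtFun.H0 F)
    (hRS : (∀ ⦃B A A' A'' : ArtFun.Art k k⦄ (p' : B ⟶ A') (p'' : B ⟶ A'') (f' : A' ⟶ A) (f'' : A'' ⟶ A)
        (h : ArtFun.Art.IsFibreProd p' p'' f' f''), Function.Surjective f'' → Function.Bijective (ArtFun.cmp F h)))
    (hfin : ArtFun.Hfin F)
    (hT1 : ∀ ⦃A A' A'' : ArtFun.Art k k⦄ (π' : A' ⟶ A) (i' : A ⟶ A') (π'' : A'' ⟶ A) (i'' : A ⟶ A'')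
        (q : A'' ⟶ A'), i' ≫ π' = 𝟙 A → i'' ≫ π'' = 𝟙 A →
        RingHom.ker π'.toAlgHom * RingHom.ker π'.toAlgHom = ⊥ →
        RingHom.ker π''.toAlgHom * RingHom.ker π''.toAlgHom = ⊥ →
        q ≫ π' = π'' → i'' ≫ q = i' → Function.Surjective q → Function.Surjective (F.map q)) :
    ArtFun.IsSmoothFunctor F := by
  haveI : IsAdicComplete (maximalIdeal k) k := (ArtFunLib.artCRing (ArtFun.Art.base k k)).isAdicComplete
  have hk : Subsingleton (Derivation k k k) := ⟨fun D D' => Derivation.ext fun x => by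
    rw [← mul_one x, ← smul_eq_mul x, D.map_smul, D'.map_smul, D.map_one_eq_zero, D'.map_one_eq_zero]⟩
  have hS1 : ArtFun.S1 F := fun B A A' A'' p' p'' f' f'' h hf => (hRS p' p'' f' f'' h hf).2
  have hH : ArtFun.Heps F := fun B A' p' p'' h => hRS p' p'' _ _ h (ArtFun.Art.dual k k).res_surjective
  obtain ⟨⟨R, ξ, hξ⟩⟩ := Groth.Agent.S12732.result hk F h0 hS1 hH hfin
  have hsm : ArtFun.IsSmoothFunctor (ArtFun.hR R.carrier R.res) := by
    refine (Groth.Agent.S12722.result (fun c => ⟨c, rfl⟩) R).2 ?_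
    haveI := R.isAdicComplete
    obtain ⟨n, s, hs, hmin⟩ := ArtFunLib.exists_minimal_gens (maximalIdeal R.carrier ^ 2)
      (Ideal.pow_le_self two_ne_zero)
    have hs0 : ∀ i, R.res (s i) = 0 := fun i => (ArtFun.CRing.mem_maximalIdeal_iff R _).1
      (hs ▸ Ideal.mem_sup_left (Ideal.subset_span ⟨i, rfl⟩))
    obtain ⟨pr, hpr, hprC, hprX⟩ := ArtFunLib.exists_ps_eval (R := kC k) (T := R) (n := n)
      (Algebra.ofId k R.carrier) (AlgHom.ext fun c => R.res.commutes c) s hs0
    haveI hPc := (ArtFunLib.psRing (kC k) n).isAdicComplete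
    have hle := ArtFunLib.map_le_max pr (ArtFunLib.psRing (kC k) n).res_surjective R.res_surjective hpr
    have hmap : Ideal.map pr (maximalIdeal _) ⊔ maximalIdeal R.carrier ^ 2 = maximalIdeal R.carrier := by
      refine le_antisymm (sup_le hle (Ideal.pow_le_self two_ne_zero)) ?_
      conv_lhs => rw [← hs]
      refine sup_le_sup_right (Ideal.span_le.2 ?_) _
      rintro _ ⟨i, rfl⟩
      rw [← hprX i]
      exact Ideal.mem_map_of_mem _ (ArtFunLib.X_mem_max_ps (kC k) n i)
    have hsurj : Function.Surjective pr :=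
      ArtFunLib.surjective_of_cotangent pr (ArtFunLib.psRing (kC k) n).res_surjective R.res_surjective hpr hmap
    have hlin : ∀ f : PS k n, pr f = 0 → ∀ i, MvPowerSeries.constantCoeff (MvPowerSeries.pderiv k i f) = 0 := by
      intro f hf i
      obtain ⟨g, -, hfg⟩ := CAlgH.exists_eq_C_add_sum_X_mul f
      have hc : MvPowerSeries.constantCoeff f = 0 := by
        have := AlgHom.congr_fun hpr f
        rw [AlgHom.comp_apply, hf, map_zero] at this
        exact this.symm
      rw [hc, map_zero, zero_add] at hfg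
      have hd : MvPowerSeries.constantCoeff (MvPowerSeries.pderiv k i f) = MvPowerSeries.constantCoeff (g i) := by
        classical
        rw [hfg, map_sum, map_sum, Finset.sum_eq_single i]
        · simp [Derivation.leibniz, MvPowerSeries.pderiv_X_self]
        · intro j _ hj
          simp [Derivation.leibniz, MvPowerSeries.pderiv_X_of_ne hj]
        · simp
      rw [hd]
      have h1 : ∑ j, pr (g j) * s j ∈ maximalIdeal R.carrier ^ 2 := by
        have e : ∑ j, pr (g j) * s j = pr f := by
          have : (pr : PS k n → R.carrier) f = ∑ j, (pr : PS k n → R.carrier) (MvPowerSeries.X j * g j) := by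
            conv_lhs => rw [hfg]
            exact map_sum pr (fun j => (MvPowerSeries.X j * g j : PS k n)) _
          refine Eq.trans ?_ this.symm
          exact Finset.sum_congr rfl fun j _ => (mul_comm _ _).trans
            ((congrArg (· * pr (g j)) (hprX j).symm).trans (map_mul pr _ _).symm)
        rw [e, hf]; exact zero_mem _
      have h2 := (ArtFun.CRing.mem_maximalIdeal_iff R _).1 (hmin _ h1 i)
      exact (AlgHom.congr_fun hpr (g i)).symm.trans h2
    have hd : ∀ f : PS k n, pr f = 0 → ∀ i, pr (MvPowerSeries.pderiv k i f) = 0 := fun f hf i =>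
      ArtFunLib.hausdorff_ext R fun N => by
        rw [map_zero]
        exact pderiv_eq_zero F hT1 R ξ hξ.1 pr hpr hsurj hlin (R.trunc N) (R.truncHom N) f hf i
    have hzero : ∀ (N : ℕ) (m : Fin n →₀ ℕ), (∑ l, m l) = N → ∀ f : PS k n, pr f = 0 →
        MvPowerSeries.coeff m f = 0 := by
      intro N
      induction N with
      | zero =>
        intro m hm f hf
        have : m = 0 := Finsupp.ext fun l => (Finset.sum_eq_zero_iff.1 hm) l (Finset.mem_univ l)
        rw [this, MvPowerSeries.coeff_zero_eq_constantCoeff]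
        have := AlgHom.congr_fun hpr f
        rw [AlgHom.comp_apply, hf, map_zero] at this
        exact this.symm
      | succ N ih =>
        intro m hm f hf
        obtain ⟨l, hl⟩ : ∃ l, m l ≠ 0 := by
          by_contra h
          push_neg at h
          simp [h] at hm
        let m' : Fin n →₀ ℕ := m - Finsupp.single l 1
        have hm' : m' + Finsupp.single l 1 = m := tsub_add_cancel_of_le
          (Finsupp.single_le_iff.2 (Nat.one_le_iff_ne_zero.2 hl))
        have h1 := ih m' (by
          have : ∑ x, m x = ∑ x, m' x + 1 := by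
            conv_lhs => rw [← hm']
            simp [Finset.sum_add_distrib, Finsupp.single_apply]
          omega) _ (hd f hf l)
        rw [MvPowerSeries.coeff_pderiv, hm'] at h1
        exact (mul_eq_zero.1 h1).resolve_right (by exact_mod_cast Nat.succ_ne_zero (m' l))
    have hinj : Function.Injective pr := (injective_iff_map_eq_zero pr).2 fun f hf =>
      MvPowerSeries.ext fun m => (hzero _ m rfl f hf).trans (map_zero _).symm
    exact ⟨n, ⟨(AlgEquiv.ofBijective pr ⟨hinj, hsurj⟩).symm⟩⟩
  exact (Groth.Agent.S12723.result h0 R ξ hξ.1).2 ((Groth.Agent.S12721.result R).1 hsm)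

end Groth.Agent.S13971
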