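import Groth.Statements.S13974
import Groth.Agent.EulerPn5.TangentSurface

set_option autoImplicit false
universe u
open CategoryTheory CategoryTheory.Limits AlgebraicGeometry
open LefPen

namespace Groth.Agent.S13974

/-- Let k be a field and Z₀ = V(F) ⊂ P³_k a smooth surface of degree d ≥ 6 (F a nonzero form of degree
d). Then H²(Z₀, T_{Z₀}) ≠ 0, where T_{Z₀} = Hom(Ω_{Z₀/k}, O_{Z₀}) is the tangent sheaf (the sheaf
Hom, assumed to exist as the right adjoint of tensoring with Ω_{Z₀/k}). (The second assertion, that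
Z₀ is nevertheless unobstructed, is a separate row.) -/
theorem result (k : Type u) [Field k] (d : ℕ) (hd : 6 ≤ d)
    (F : LefPen.Form 3 k d) (hF : F ≠ 0)
    [Smooth ((LefPen.hypIdeal F).subschemeι ≫ CohB1.ProjSpace.toSpec 3 k)]
    [DCoh.HasSheafHom (Omega.sheaf ((LefPen.hypIdeal F).subschemeι ≫ CohB1.ProjSpace.toSpec 3 k))] :
    Nontrivial (Coh.HH (LefPen.hypIdeal F).subscheme
        ((DCoh.sheafHom (Omega.sheaf ((LefPen.hypIdeal F).subschemeι ≫ CohB1.ProjSpace.toSpec 3 k))).obj
          (Coh.structureModule (LefPen.hypIdeal F).subscheme)) 2) := by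
  refine not_subsingleton_iff_nontrivial.1 fun h => ?_
  exact Groth.Agent.EulerPn5.not_V_tangent rfl hd F hF
    (Groth.Agent.CAlgH3.ModCohSeq.V_of_iso ((Groth.Agent.Coherent.sheafHomIso
      (Omega.sheaf ((LefPen.hypIdeal F).subschemeι ≫ CohB1.ProjSpace.toSpec 3 k))).app _) h)

end Groth.Agent.S13974
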