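import Groth.Statements.S13975
import Groth.Agent.InfAut13975.Main

set_option backward.isDefEq.respectTransparency false
set_option backward.isDefEq.respectTransparency.types false
set_option linter.style.haveILetI false

set_option autoImplicit false
universe u
open CategoryTheory CategoryTheory.Limits AlgebraicGeometry
open Deform

namespace Groth.Agent.S13975

/-- Let k be a field and X₀ a locally Noetherian k-scheme, and let X_ε be the trivial first-order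
deformation X₀ ×_k Spec k[ε], presented by a cartesian square with projections q : X_ε → X₀ and p :
X_ε → Spec k[ε], together with the closed immersion i : X₀ → X_ε over ε = 0 which is a section of q.
Then the infinitesimal automorphisms of X₀ — automorphisms of X_ε over Spec k[ε] that restrict to
the identity of X₀ along i — form a group isomorphic to the additive group of derivations
Der_k(O_{X₀}, O_{X₀}) = Hom_{O_{X₀}}(Ω_{X₀/k}, O_{X₀}): there is a bijection taking composition to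
addition. -/
theorem result (k : Type u) [Field k]
    (X₀ : Scheme.{u}) [IsLocallyNoetherian X₀] (x : X₀ ⟶ Spec (CommRingCat.of k))
    (Xε : Scheme.{u}) (q : Xε ⟶ X₀) (p : Xε ⟶ Spec (CommRingCat.of (DualNumber k)))
    (hsq : IsPullback q p x (Spec.map (CommRingCat.ofHom (algebraMap k (DualNumber k)))))
    (i : X₀ ⟶ Xε) (hiq : i ≫ q = 𝟙 X₀)
    (hip : i ≫ p = x ≫ Spec.map (CommRingCat.ofHom (TrivSqZeroExt.fstHom k k k).toRingHom)) :
    ∃ e : {φ : Xε ≅ Xε // φ.hom ≫ p = p ∧ i ≫ φ.hom = i} ≃ (Omega.sheaf x ⟶ Coh.structureModule X₀),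
      ∀ φ ψ χ : {φ : Xε ≅ Xε // φ.hom ≫ p = p ∧ i ≫ φ.hom = i},
        φ.1 ≪≫ ψ.1 = χ.1 → e χ = e φ + e ψ := by
  classical
  haveI : Surjective i := Groth.Agent.H8Coh.DualThickening.surjective_section hsq hiq hip
  haveI : QuasiSeparatedSpace X₀ := IsLocallyNoetherian.quasiSeparatedSpace
  have hd := @Groth.Agent.OmegaLib.isUniversal_dOmega _ _ x (QuasiSeparated.of_quasiSeparatedSpace x)
  let d := OmegaSh.dOmega x
  let T := {φ : Xε ≅ Xε // φ.hom ≫ p = p ∧ i ≫ φ.hom = i}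
  let R : (φ : Xε ⟶ Xε) → i ≫ φ = i → (Omega.sheaf x ⟶ Coh.structureModule X₀) → Prop := fun φ hφ α =>
    ∀ (V : X₀.Opens) (a : Γ(X₀, V)),
      (φ ≫ q).appLE V (q ⁻¹ᵁ V) (Groth.Agent.InfAut13975.le_comp_preimage hiq hφ V) a =
        q.app V a + Groth.Agent.InfAut13975.ins p q V (OmegaSh.fnSect X₀ V (α.app V (d.app V a)))
  have inj : ∀ {V : X₀.Opens} {b c : Γ(X₀, V)},
      Groth.Agent.InfAut13975.ins p q V b = Groth.Agent.InfAut13975.ins p q V c → b = c :=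
    fun h => Groth.Agent.InfAut13975.ins_injective hsq hiq hip h
  have uniq : ∀ {φ : Xε ⟶ Xε} (h : i ≫ φ = i) {α β}, R φ h α → R φ h β → α = β := fun {φ} h {α β} hα hβ =>
    Groth.Agent.OmegaLib.hom_ext_of_isUniversal hd fun V a => inj (add_left_cancel ((hα V a).symm.trans (hβ V a)))
  have ex : ∀ φ : T, ∃ α, R φ.1.hom φ.2.2 α := fun φ => by
    obtain ⟨D, hD⟩ := Groth.Agent.InfAut13975.exists_der hsq hiq hip φ.2.1 φ.2.2
    obtain ⟨α, hα, -⟩ := hd _ D
    refine ⟨α, fun V a => ?_⟩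
    rw [hD V a, ← hα]
    rfl
  have comp : ∀ {φ ψ : Xε ⟶ Xε} (hφp : φ ≫ p = p) (hφ : i ≫ φ = i) (hψ : i ≫ ψ = i) (hc : i ≫ φ ≫ ψ = i) {α β},
      R φ hφ α → R ψ hψ β → R (φ ≫ ψ) hc (α + β) := fun {φ ψ} hφp hφ hψ hc {α β} hα hβ V a => by
    refine (Groth.Agent.InfAut13975.appLE_comp hsq hiq hip hφp hφ hψ hc (hα V a) (hβ V a) (hα V _)).trans ?_
    rfl
  have hid : R (𝟙 Xε) (Category.comp_id i) 0 := fun V a => by
    rw [show OmegaSh.fnSect X₀ V (((0 : Omega.sheaf x ⟶ Coh.structureModule X₀)).app V (d.app V a)) = 0 from rfl,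
      Groth.Agent.InfAut13975.ins_zero, add_zero]
    have key : ∀ (m : Xε ⟶ X₀), m = q → ∀ e : q ⁻¹ᵁ V ≤ m ⁻¹ᵁ V, m.appLE V (q ⁻¹ᵁ V) e a = q.app V a := by
      rintro m rfl e
      rw [← Scheme.Hom.app_eq_appLE]
    exact key _ (Category.id_comp q) _
  have extd : ∀ {φ ψ : Xε ⟶ Xε} (hφp : φ ≫ p = p) (hφ : i ≫ φ = i) (hψp : ψ ≫ p = p) (hψ : i ≫ ψ = i) {α},
      R φ hφ α → R ψ hψ α → φ = ψ := fun {φ ψ} hφp hφ hψp hψ {α} h h' =>
    Groth.Agent.InfAut13975.hom_ext hsq hiq hip hφp hφ hψp hψ fun V a => (h V a).trans (h' V a).symm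
  choose e he using ex
  have hbij : Function.Bijective e := by
    refine ⟨fun φ ψ h => ?_, fun α => ?_⟩
    · exact Subtype.ext (Iso.ext (extd φ.2.1 φ.2.2 ψ.2.1 ψ.2.2 (he φ) (h ▸ he ψ)))
    · obtain ⟨φ, hφp, hφ, h₁⟩ := Groth.Agent.InfAut13975.exists_lift hsq hiq hip (d.postcomp α.val)
      obtain ⟨ψ, hψp, hψ, h₂⟩ := Groth.Agent.InfAut13975.exists_lift hsq hiq hip (d.postcomp (-α).val)
      have r₁ : R φ hφ α := fun V a => h₁ V a
      have r₂ : R ψ hψ (-α) := fun V a => h₂ V a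
      have c₁ : i ≫ φ ≫ ψ = i := by rw [reassoc_of% hφ, hψ]
      have c₂ : i ≫ ψ ≫ φ = i := by rw [reassoc_of% hψ, hφ]
      have e₁ : φ ≫ ψ = 𝟙 Xε := extd (by rw [Category.assoc, hψp, hφp]) c₁ (Category.id_comp p) (Category.comp_id i)
        (α := 0) (by simpa using comp hφp hφ hψ c₁ r₁ r₂) hid
      have e₂ : ψ ≫ φ = 𝟙 Xε := extd (by rw [Category.assoc, hφp, hψp]) c₂ (Category.id_comp p) (Category.comp_id i)
        (α := 0) (by simpa using comp hψp hψ hφ c₂ r₂ r₁) hid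
      exact ⟨⟨⟨φ, ψ, e₁, e₂⟩, hφp, hφ⟩, uniq hφ (he ⟨⟨φ, ψ, e₁, e₂⟩, hφp, hφ⟩) r₁⟩
  refine ⟨Equiv.ofBijective e hbij, fun φ ψ χ h => ?_⟩
  show e χ = e φ + e ψ
  have h' : φ.1.hom ≫ ψ.1.hom = χ.1.hom := congrArg Iso.hom h
  have hc : i ≫ φ.1.hom ≫ ψ.1.hom = i := by rw [h']; exact χ.2.2
  refine uniq χ.2.2 (he χ) ?_
  intro V a
  have := comp φ.2.1 φ.2.2 ψ.2.2 hc (he φ) (he ψ) V a
  simp only [h'] at this
  exact this

end Groth.Agent.S13975
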