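import Groth.Statements.S13977
import Groth.Agent.SerreDual.ExtShRegSeq
import Groth.Agent.Coherent.PullUnit
import Groth.Agent.Coherent.QcohOps
import Groth.Agent.Desc19b.QDesc.EffectiveIso
-- import your own Groth.Agent.* helpers here

set_option autoImplicit false
universe u
open CategoryTheory CategoryTheory.Limits AlgebraicGeometry
open Deform

namespace Groth.Agent.S13977

theorem dual_decomp {k : Type u} [Field k] (s : DualNumber k) :
    s = algebraMap k (DualNumber k) (TrivSqZeroExt.fst s) +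
      algebraMap k (DualNumber k) (TrivSqZeroExt.snd s) * DualNumber.eps := by
  ext <;> simp [TrivSqZeroExt.algebraMap_eq_inl, DualNumber.fst_eps, DualNumber.snd_eps]

noncomputable def dualMap {k A : Type u} [CommRing k] [CommRing A] (σ : k →+* A) : DualNumber k →+* DualNumber A where
  toFun s := TrivSqZeroExt.inl (σ (TrivSqZeroExt.fst s)) + TrivSqZeroExt.inr (σ (TrivSqZeroExt.snd s))
  map_one' := by ext <;> simp
  map_mul' s t := by ext <;> simp [mul_comm]
  map_zero' := by ext <;> simp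
  map_add' s t := by ext <;> simp

noncomputable def dualEval {A B : Type u} [CommRing A] [CommRing B] (γ : A →+* B) (e : B) (he : e * e = 0) :
    DualNumber A →+* B where
  toFun s := γ (TrivSqZeroExt.fst s) + γ (TrivSqZeroExt.snd s) * e
  map_one' := by simp
  map_mul' s t := by
    simp only [TrivSqZeroExt.fst_mul, TrivSqZeroExt.snd_mul, map_mul, map_add, smul_eq_mul, op_smul_eq_mul,
      MulOpposite.smul_eq_mul_unop, MulOpposite.unop_op]
    linear_combination (-(γ (TrivSqZeroExt.snd s) * γ (TrivSqZeroExt.snd t))) * he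
  map_zero' := by simp
  map_add' s t := by simp only [TrivSqZeroExt.fst_add, TrivSqZeroExt.snd_add, map_add]; ring

section
variable {k : Type u} [Field k] {X₀ : Scheme.{u}} {x : X₀ ⟶ Spec (CommRingCat.of k)}
  {Xε : Scheme.{u}} {q : Xε ⟶ X₀} {p : Xε ⟶ Spec (CommRingCat.of (DualNumber k))}

noncomputable def epsG (p : Xε ⟶ Spec (CommRingCat.of (DualNumber k))) : Γ(Xε, ⊤) :=
  p.appTop ((Scheme.ΓSpecIso (CommRingCat.of (DualNumber k))).inv DualNumber.eps)

theorem epsG_sq (p : Xε ⟶ Spec (CommRingCat.of (DualNumber k))) : epsG p * epsG p = 0 := by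
  rw [epsG, ← map_mul, ← map_mul, DualNumber.eps_mul_eps, map_zero, map_zero]

theorem ring_coords (hsq : IsPullback q p x (Spec.map (CommRingCat.ofHom (algebraMap k (DualNumber k)))))
    {U : X₀.Opens} (hU : IsAffineOpen U) :
    Function.Bijective fun a : Γ(X₀, U) × Γ(X₀, U) =>
      q.app U a.1 + q.app U a.2 * Groth.Agent.PicLib.res (le_top : q ⁻¹ᵁ U ≤ ⊤) (epsG p) := by
  let f := Spec.map (CommRingCat.ofHom (algebraMap k (DualNumber k)))
  let V := q ⁻¹ᵁ U
  have hPO := (isIso_pushoutSection_iff hsq (US := ⊤) (UT := ⊤) (UX := U) (UY := V) le_top le_top (by simp [V])).mp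
    (isIso_pushoutSection_of_isAffineOpen hsq (US := ⊤) (UT := ⊤) (UX := U) (UY := V) le_top le_top (by simp [V])
      (isAffineOpen_top _) (isAffineOpen_top _) hU)
  let γ : Γ(X₀, U) →+* Γ(Xε, V) := (q.appLE U V le_rfl).hom
  have hγ : ∀ a, q.app U a = γ a := fun a => by
    show _ = q.appLE U (q ⁻¹ᵁ U) le_rfl a
    rw [← Scheme.Hom.app_eq_appLE]
  let e := Groth.Agent.PicLib.res (le_top : V ≤ ⊤) (epsG p)
  have hepe : ∀ s, p.appLE ⊤ V le_top s = Groth.Agent.PicLib.res (le_top : V ≤ ⊤) (p.appTop s) := fun s => rfl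
  have he : e * e = 0 := by
    show Groth.Agent.PicLib.res (le_top : V ≤ ⊤) (epsG p) * Groth.Agent.PicLib.res (le_top : V ≤ ⊤) (epsG p) = 0
    rw [← map_mul, epsG_sq, map_zero]
  let σ : k →+* Γ(X₀, U) :=
    (x.appLE ⊤ U le_top).hom.comp (Scheme.ΓSpecIso (CommRingCat.of k)).inv.hom
  let l₂ := (Scheme.ΓSpecIso (CommRingCat.of (DualNumber k))).hom ≫ CommRingCat.ofHom (dualMap σ)
  have hw : x.appLE ⊤ U le_top ≫ CommRingCat.ofHom (TrivSqZeroExt.inlHom Γ(X₀, U) Γ(X₀, U)) =
      f.appLE ⊤ ⊤ le_top ≫ l₂ := by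
    refine CommRingCat.hom_ext (RingHom.ext fun r => ?_)
    obtain ⟨r, rfl⟩ : ∃ r', (Scheme.ΓSpecIso (CommRingCat.of k)).inv r' = r :=
      ⟨(Scheme.ΓSpecIso (CommRingCat.of k)).hom r,
        congrArg (fun m => m.hom r) (Scheme.ΓSpecIso (CommRingCat.of k)).hom_inv_id⟩
    have hn : (Scheme.ΓSpecIso (CommRingCat.of (DualNumber k))).hom
        (f.appLE ⊤ ⊤ le_top ((Scheme.ΓSpecIso (CommRingCat.of k)).inv r)) = algebraMap k (DualNumber k) r := by
      have e1 : f.appLE ⊤ ⊤ le_top = f.appTop := (Scheme.Hom.app_eq_appLE f).symm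
      rw [e1]
      refine (congrArg (fun m => m.hom ((Scheme.ΓSpecIso (CommRingCat.of k)).inv r)) (Scheme.ΓSpecIso_naturality (CommRingCat.ofHom (algebraMap k (DualNumber k))))).trans ?_
      show algebraMap k (DualNumber k) ((Scheme.ΓSpecIso (CommRingCat.of k)).hom ((Scheme.ΓSpecIso (CommRingCat.of k)).inv r)) = _
      exact congrArg _ (congrArg (fun m => m.hom r) (Scheme.ΓSpecIso (CommRingCat.of k)).inv_hom_id)
    show TrivSqZeroExt.inl (σ r) = dualMap σ ((Scheme.ΓSpecIso (CommRingCat.of (DualNumber k))).hom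
      (f.appLE ⊤ ⊤ le_top ((Scheme.ΓSpecIso (CommRingCat.of k)).inv r)))
    rw [hn]
    ext <;> simp [dualMap, TrivSqZeroExt.algebraMap_eq_inl]
  let θ := hPO.desc _ _ hw
  have hθ1 : ∀ a, θ (γ a) = TrivSqZeroExt.inl a := fun a =>
    congrArg (fun m => m.hom a) (hPO.inl_desc _ _ hw)
  have hθ2 : θ e = DualNumber.eps := by
    refine (congrArg (fun m => m.hom ((Scheme.ΓSpecIso (CommRingCat.of (DualNumber k))).inv DualNumber.eps)) (hPO.inr_desc _ _ hw)).trans ?_
    show dualMap σ ((Scheme.ΓSpecIso (CommRingCat.of (DualNumber k))).hom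
      ((Scheme.ΓSpecIso (CommRingCat.of (DualNumber k))).inv DualNumber.eps)) = _
    rw [show (Scheme.ΓSpecIso (CommRingCat.of (DualNumber k))).hom
      ((Scheme.ΓSpecIso (CommRingCat.of (DualNumber k))).inv DualNumber.eps) = DualNumber.eps from
      congrArg (fun m => m.hom DualNumber.eps) (Scheme.ΓSpecIso (CommRingCat.of (DualNumber k))).inv_hom_id]
    ext <;> simp [dualMap, DualNumber.fst_eps, DualNumber.snd_eps]
  have hid : θ ≫ CommRingCat.ofHom (dualEval γ e he) = 𝟙 _ := by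
    refine hPO.hom_ext ?_ ?_
    · refine CommRingCat.hom_ext (RingHom.ext fun a => ?_)
      show dualEval γ e he (θ (γ a)) = γ a
      rw [hθ1]; simp [dualEval]
    · refine CommRingCat.hom_ext (RingHom.ext fun s => ?_)
      obtain ⟨s, rfl⟩ : ∃ s', (Scheme.ΓSpecIso (CommRingCat.of (DualNumber k))).inv s' = s :=
        ⟨(Scheme.ΓSpecIso (CommRingCat.of (DualNumber k))).hom s,
          congrArg (fun m => m.hom s) (Scheme.ΓSpecIso (CommRingCat.of (DualNumber k))).hom_inv_id⟩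
      show dualEval γ e he (θ (p.appLE ⊤ V le_top _)) = p.appLE ⊤ V le_top _
      let P : DualNumber k →+* Γ(Xε, V) :=
        (p.appLE ⊤ V le_top).hom.comp (Scheme.ΓSpecIso (CommRingCat.of (DualNumber k))).inv.hom
      show dualEval γ e he (θ (P s)) = P s
      have hPk : ∀ r, P (algebraMap k (DualNumber k) r) = γ (σ r) := by
        intro r
        have hw' := congrArg (fun m => m.hom ((Scheme.ΓSpecIso (CommRingCat.of k)).inv r)) hPO.w
        refine Eq.trans ?_ hw'.symm
        show p.appLE ⊤ V le_top ((Scheme.ΓSpecIso (CommRingCat.of (DualNumber k))).inv (algebraMap k (DualNumber k) r)) =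
          p.appLE ⊤ V le_top (f.appLE ⊤ ⊤ le_top ((Scheme.ΓSpecIso (CommRingCat.of k)).inv r))
        refine congrArg _ ?_
        rw [show f.appLE ⊤ ⊤ le_top = f.appTop from (Scheme.Hom.app_eq_appLE f).symm]
        exact congrArg (fun m => m.hom r) (Scheme.ΓSpecIso_inv_naturality (CommRingCat.ofHom (algebraMap k (DualNumber k))))
      have hPe : P DualNumber.eps = e := rfl
      rw [dual_decomp s, map_add, map_mul, hPk, hPk, hPe, map_add, map_mul, hθ1, hθ1, hθ2]
      simp [dualEval, DualNumber.fst_eps, DualNumber.snd_eps]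
  constructor
  · rintro ⟨a0, a1⟩ ⟨b0, b1⟩ h
    have h' := congrArg θ (show γ a0 + γ a1 * e = γ b0 + γ b1 * e by simpa only [hγ] using h)
    rw [map_add, map_mul, map_add, map_mul, hθ1, hθ1, hθ1, hθ1, hθ2] at h'
    exact Prod.ext (by simpa [DualNumber.fst_eps, DualNumber.snd_eps] using congrArg TrivSqZeroExt.fst h')
      (by simpa [DualNumber.fst_eps, DualNumber.snd_eps] using congrArg TrivSqZeroExt.snd h')
  · intro b
    refine ⟨(TrivSqZeroExt.fst (θ b), TrivSqZeroExt.snd (θ b)), ?_⟩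
    simp only [hγ]
    exact congrArg (fun m => m.hom b) hid

open Groth.Agent.PicLib TensorProduct in
theorem module_coords (hsq : IsPullback q p x (Spec.map (CommRingCat.ofHom (algebraMap k (DualNumber k)))))
    {U : X₀.Opens} (hU : IsAffineOpen U) (hV : IsAffineOpen (q ⁻¹ᵁ U)) (E₀ : X₀.Modules) [Coh.IsQCoh E₀] :
    Function.Bijective fun m : Γ(E₀, U) × Γ(E₀, U) =>
      pullSec q m.1 + res (le_top : q ⁻¹ᵁ U ≤ ⊤) (epsG p) • pullSec q m.2 := by
  let φ := q.appLE U (q ⁻¹ᵁ U) le_rfl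
  letI := φ.hom.toAlgebra
  letI := Module.compHom Γ((Scheme.Modules.pullback q).obj E₀, q ⁻¹ᵁ U) φ.hom
  haveI : IsScalarTower Γ(X₀, U) Γ(Xε, q ⁻¹ᵁ U) Γ((Scheme.Modules.pullback q).obj E₀, q ⁻¹ᵁ U) :=
    IsScalarTower.of_algebraMap_smul fun _ _ => rfl
  obtain ⟨μ, hμ, hμe⟩ := Groth.Agent.EGA43.InjFibre.pullMap_isBaseChange q hU hV le_rfl E₀
  have hμp : ∀ m, μ m = pullSec q m := fun m => by
    rw [hμe, Groth.Agent.Coherent.pullMap_eq_resM_pullSec, Groth.Agent.Coherent.resM_refl]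
  let e := res (le_top : q ⁻¹ᵁ U ≤ ⊤) (epsG p)
  let r : (Γ(X₀, U) × Γ(X₀, U)) →ₗ[Γ(X₀, U)] Γ(Xε, q ⁻¹ᵁ U) :=
    (Algebra.linearMap _ _).comp (LinearMap.fst _ _ _) +
      ((LinearMap.mulRight Γ(X₀, U) e).comp (Algebra.linearMap _ _)).comp (LinearMap.snd _ _ _)
  have hr : Function.Bijective r := by
    have := ring_coords hsq hU
    convert this using 1
    funext a
    simp [r, φ, e, RingHom.algebraMap_toAlgebra, Scheme.Hom.app_eq_appLE]
  let E₁ : (Γ(X₀, U) × Γ(X₀, U)) ≃ₗ[Γ(X₀, U)] Γ(Xε, q ⁻¹ᵁ U) := LinearEquiv.ofBijective r hr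
  let T : (Γ(E₀, U) × Γ(E₀, U)) ≃ₗ[Γ(X₀, U)] Γ((Scheme.Modules.pullback q).obj E₀, q ⁻¹ᵁ U) :=
    ((TensorProduct.lid _ _).symm.prodCongr (TensorProduct.lid _ _).symm).trans
      (((TensorProduct.prodLeft Γ(X₀, U) Γ(X₀, U) Γ(X₀, U) Γ(X₀, U) Γ(E₀, U)).symm).trans
        ((TensorProduct.congr E₁ (LinearEquiv.refl _ _)).trans (hμ.equiv.restrictScalars Γ(X₀, U))))
  have hT : ∀ m : Γ(E₀, U) × Γ(E₀, U), T m = pullSec q m.1 + e • pullSec q m.2 := by
    intro m
    have hp0 : ∀ a : Γ(E₀, U), (TensorProduct.prodLeft Γ(X₀, U) Γ(X₀, U) Γ(X₀, U) Γ(X₀, U) Γ(E₀, U)).symm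
        ((1 : Γ(X₀, U)) ⊗ₜ a, 0) = ((1 : Γ(X₀, U)), (0 : Γ(X₀, U))) ⊗ₜ a := fun a => by
      rw [LinearEquiv.symm_apply_eq]; simp
    have hp1 : ∀ a : Γ(E₀, U), (TensorProduct.prodLeft Γ(X₀, U) Γ(X₀, U) Γ(X₀, U) Γ(X₀, U) Γ(E₀, U)).symm
        (0, (1 : Γ(X₀, U)) ⊗ₜ a) = ((0 : Γ(X₀, U)), (1 : Γ(X₀, U))) ⊗ₜ a := fun a => by
      rw [LinearEquiv.symm_apply_eq]; simp
    have h0 : ∀ a : Γ(E₀, U), T (a, 0) = pullSec q a := fun a => by
      simp [T, E₁, r, hp0, IsBaseChange.equiv_tmul, hμp]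
    have h1 : ∀ a : Γ(E₀, U), T (0, a) = e • pullSec q a := fun a => by
      simp [T, E₁, r, hp1, IsBaseChange.equiv_tmul, hμp]
    rw [show m = (m.1, 0) + (0, m.2) by simp, map_add, h0, h1]
    simp
  rw [show (fun m : Γ(E₀, U) × Γ(E₀, U) => pullSec q m.1 + e • pullSec q m.2) = T from funext fun m => (hT m).symm]
  exact T.bijective

end

open Groth.Agent.PicLib in
theorem pullSec_id_injective {X : Scheme.{u}} (f : X ⟶ X) (hf : f = 𝟙 X) (M : X.Modules) (U : X.Opens) :
    Function.Injective fun m : Γ(M, U) => pullSec f m := by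
  subst hf
  haveI : (Scheme.Modules.pullback (𝟙 X)).Full := Functor.Full.of_iso (Scheme.Modules.pullbackId X).symm
  haveI : (Scheme.Modules.pullback (𝟙 X)).Faithful := Functor.Faithful.of_iso (Scheme.Modules.pullbackId X).symm
  haveI := (Scheme.Modules.pullbackPushforwardAdjunction (𝟙 X)).unit_isIso_of_L_fully_faithful
  haveI : IsIso ((Scheme.Modules.pullbackPushforwardAdjunction (𝟙 X)).unit.app M) := inferInstance
  exact ((ConcreteCategory.isIso_iff_bijective _).1 ((Scheme.Modules.Hom.isIso_iff_isIso_app.1 this) U)).1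

open Opposite
/-- Let k be a field, X₀ a locally Noetherian k-scheme and E₀ a quasi-coherent O_{X₀}-module. Let X_ε =
X₀ ×_k Spec k[ε] be the trivial first-order deformation, presented by a cartesian square with
projections q : X_ε → X₀ and p : X_ε → Spec k[ε], with the closed immersion i : X₀ → X_ε over ε = 0,
a section of q, and let E_ε = q^*E₀ be the trivial lifting of E₀. Then the infinitesimal
automorphisms of E₀ — the O_{X_ε}-linear automorphisms of E_ε whose pullback along i is the identity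
— form a group isomorphic to the additive group Hom_{O_{X₀}}(E₀, E₀): there is a bijection taking
composition to addition. -/
theorem result (k : Type u) [Field k]
    (X₀ : Scheme.{u}) [IsLocallyNoetherian X₀] (x : X₀ ⟶ Spec (CommRingCat.of k))
    (E₀ : X₀.Modules) (hE₀ : Coh.IsQCoh E₀)
    (Xε : Scheme.{u}) (q : Xε ⟶ X₀) (p : Xε ⟶ Spec (CommRingCat.of (DualNumber k)))
    (hsq : IsPullback q p x (Spec.map (CommRingCat.ofHom (algebraMap k (DualNumber k)))))
    (i : X₀ ⟶ Xε) (hiq : i ≫ q = 𝟙 X₀)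
    (hip : i ≫ p = x ≫ Spec.map (CommRingCat.ofHom (TrivSqZeroExt.fstHom k k k).toRingHom)) :
    ∃ e : {φ : (Scheme.Modules.pullback q).obj E₀ ≅ (Scheme.Modules.pullback q).obj E₀ //
            (Scheme.Modules.pullback i).map φ.hom = 𝟙 _} ≃ (E₀ ⟶ E₀),
      ∀ φ ψ χ : {φ : (Scheme.Modules.pullback q).obj E₀ ≅ (Scheme.Modules.pullback q).obj E₀ //
            (Scheme.Modules.pullback i).map φ.hom = 𝟙 _},
        φ.1 ≪≫ ψ.1 = χ.1 → e χ = e φ + e ψ := by
  haveI : Coh.IsQCoh E₀ := hE₀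
  let G := (Scheme.Modules.pullback q).obj E₀
  let u := (Scheme.Modules.pullbackPushforwardAdjunction i).unit.app G
  let ea := epsG p
  let se := Groth.Agent.SerreDual.smulEndo ea G
  have hi0 : i.appTop ea = 0 := by
    show i.appTop (p.appTop _) = 0
    rw [← ConcreteCategory.comp_apply, ← Scheme.Hom.comp_appTop, hip, Scheme.Hom.comp_appTop,
      ConcreteCategory.comp_apply,
      show (Spec.map (CommRingCat.ofHom (TrivSqZeroExt.fstHom k k k).toRingHom)).appTop
          ((Scheme.ΓSpecIso (CommRingCat.of (DualNumber k))).inv DualNumber.eps) =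
        (Scheme.ΓSpecIso (CommRingCat.of k)).inv ((TrivSqZeroExt.fstHom k k k).toRingHom DualNumber.eps) from
        (congrArg (fun m => m.hom DualNumber.eps)
          (Scheme.ΓSpecIso_inv_naturality (CommRingCat.ofHom (TrivSqZeroExt.fstHom k k k).toRingHom))).symm]
    rw [show (TrivSqZeroExt.fstHom k k k).toRingHom (DualNumber.eps : DualNumber k) = 0 from rfl, map_zero]
    exact map_zero _
  have hu_e : ∀ (W : Xε.Opens) (g : Γ(G, W)), u.app W (Groth.Agent.PicLib.res (le_top : W ≤ ⊤) ea • g) = 0 := by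
    intro W g
    show Groth.Agent.PicLib.pullSec i (Groth.Agent.PicLib.res (le_top : W ≤ ⊤) ea • g) = 0
    rw [Groth.Agent.PicLib.pullSec_smul,
      show i.app W (Groth.Agent.PicLib.res (le_top : W ≤ ⊤) ea) =
        Groth.Agent.PicLib.res (le_top : i ⁻¹ᵁ W ≤ ⊤) (i.appTop ea) from
        congrArg (fun m => m.hom ea) (i.naturality (homOfLE (le_top : W ≤ ⊤)).op),
      hi0, map_zero, zero_smul]
  have hseu : se ≫ u = 0 :=
    Scheme.Modules.hom_ext _ _ fun W => ConcreteCategory.hom_ext _ _ fun g => hu_e W g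
  have hse2 : se ≫ se = 0 := Scheme.Modules.hom_ext _ _ fun W => ConcreteCategory.hom_ext _ _ fun g => by
    show Groth.Agent.PicLib.res (le_top : W ≤ ⊤) ea • (Groth.Agent.PicLib.res (le_top : W ≤ ⊤) ea • g) = (0 : Γ(G, W))
    rw [smul_smul, ← map_mul, epsG_sq, map_zero, zero_smul]
  let l : G ⟶ kernel u := kernel.lift u se hseu
  let adj := Scheme.Modules.pullbackPushforwardAdjunction q
  let c : E₀ ⟶ (Scheme.Modules.pushforward q).obj (kernel u) :=
    adj.unit.app E₀ ≫ (Scheme.Modules.pushforward q).map l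
  haveI : IsAffineHom q := MorphismProperty.of_isPullback hsq.flip inferInstance
  haveI : IsIso c := by
    refine Groth.Agent.Desc19b.QDesc.isIso_of_bijective_basis c (fun B => IsAffineOpen B) (fun V y hy => ?_) ?_
    · obtain ⟨B, hB, hyB, hBV⟩ :=
        TopologicalSpace.Opens.isBasis_iff_nbhd.1 X₀.isBasis_affineOpens hy
      exact ⟨B, hB, hyB, hBV⟩
    intro U hU
    have hV : IsAffineOpen (q ⁻¹ᵁ U) := hU.preimage q
    have hc : ∀ m : Γ(E₀, U), (kernel.ι u).app (q ⁻¹ᵁ U) (c.app U m) =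
        Groth.Agent.PicLib.res (le_top : q ⁻¹ᵁ U ≤ ⊤) ea • Groth.Agent.PicLib.pullSec q m := fun m => by
      show (l ≫ kernel.ι u).app (q ⁻¹ᵁ U) (Groth.Agent.PicLib.pullSec q m) = _
      rw [kernel.lift_ι]; rfl
    refine ⟨fun a b hab => ?_, fun z => ?_⟩
    · have h := congrArg ((kernel.ι u).app (q ⁻¹ᵁ U)) hab
      rw [hc, hc] at h
      have h2 := (module_coords hsq hU hV E₀).1 (a₁ := (0, a)) (a₂ := (0, b)) (by
        show Groth.Agent.PicLib.pullSec q (0 : Γ(E₀, U)) + _ = Groth.Agent.PicLib.pullSec q (0 : Γ(E₀, U)) + _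
        exact congrArg _ h)
      exact (Prod.mk.inj h2).2
    · obtain ⟨⟨m0, m1⟩, hm⟩ := (module_coords hsq hU hV E₀).2 ((kernel.ι u).app (q ⁻¹ᵁ U) z)
      have hz := Groth.Agent.Coherent.kernel_ι_app_zero u (q ⁻¹ᵁ U) z
      rw [← hm, map_add, hu_e, add_zero] at hz
      have hm0 : m0 = 0 := by
        refine pullSec_id_injective (i ≫ q) hiq E₀ U (a₁ := m0) (a₂ := 0) ?_
        have h := Groth.Agent.Coherent.pullbackComp_inv_app_pullSec i q E₀ U m0
        rw [show Groth.Agent.PicLib.pullSec i (Groth.Agent.PicLib.pullSec q m0) = 0 from hz] at h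
        have hinj := ((ConcreteCategory.isIso_iff_bijective _).1 (Scheme.Modules.Hom.isIso_iff_isIso_app.1
          (show IsIso ((Scheme.Modules.pullbackComp i q).inv.app E₀) from inferInstance) ((i ≫ q) ⁻¹ᵁ U))).1
        show Groth.Agent.PicLib.pullSec (i ≫ q) m0 = Groth.Agent.PicLib.pullSec (i ≫ q) 0
        rw [show Groth.Agent.PicLib.pullSec (i ≫ q) (0 : Γ(E₀, U)) = 0 from map_zero _]
        exact hinj (h.trans (map_zero _).symm)
      refine ⟨m1, Groth.Agent.Coherent.app_injective_of_mono (kernel.ι u) _ ?_⟩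
      rw [hc, ← hm, hm0]
      exact ((congrArg (· + _) (map_zero _)).trans (zero_add _)).symm
  -- the correspondence
  let ψ : (E₀ ⟶ E₀) → (G ⟶ G) := fun a => (adj.homEquiv _ _).symm (a ≫ c) ≫ kernel.ι u
  have hψu : ∀ a, ψ a ≫ u = 0 := fun a => by
    simp only [ψ, Category.assoc, kernel.condition, comp_zero]
  have hψse : ∀ a, ψ a = (Scheme.Modules.pullback q).map a ≫ se := by
    intro a
    have h1 : (adj.homEquiv _ _).symm c = l := (adj.homEquiv _ _).symm_apply_eq.2 (adj.homEquiv_unit _ _ _).symm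
    show (adj.homEquiv _ _).symm (a ≫ c) ≫ kernel.ι u = _
    rw [adj.homEquiv_naturality_left_symm, h1, Category.assoc]
    exact congrArg _ (kernel.lift_ι _ _ _)
  have hψadd : ∀ a b, ψ (a + b) = ψ a + ψ b := by
    intro a b
    haveI : (Scheme.Modules.pullback q).Additive := adj.left_adjoint_additive
    simp only [hψse, Functor.map_add, Preadditive.add_comp]
  have hψinj : Function.Injective ψ := fun a b h => by
    have h1 := (cancel_mono (kernel.ι u)).1 h
    exact (cancel_mono c).1 ((adj.homEquiv _ _).symm.injective h1)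
  have hψsurj : ∀ t : G ⟶ G, t ≫ u = 0 → ∃ a, ψ a = t := by
    intro t ht
    refine ⟨adj.homEquiv _ _ (kernel.lift u t ht) ≫ inv c, ?_⟩
    simp only [ψ, Category.assoc, IsIso.inv_hom_id, Category.comp_id, Equiv.symm_apply_apply, kernel.lift_ι]
  have hψmul : ∀ a b, ψ a ≫ ψ b = 0 := by
    intro a b
    rw [hψse a, Category.assoc, show se ≫ ψ b = ψ b ≫ se from Groth.Agent.SerreDual.smulEndo_natural ea (ψ b),
      hψse b, Category.assoc, hse2, comp_zero, comp_zero]
  let adji := Scheme.Modules.pullbackPushforwardAdjunction i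
  haveI : (Scheme.Modules.pullback i).Additive := adji.left_adjoint_additive
  have hker : ∀ t : G ⟶ G, (Scheme.Modules.pullback i).map t = 0 ↔ t ≫ u = 0 := by
    intro t
    have h := adji.homEquiv_unit G ((Scheme.Modules.pullback i).obj G) ((Scheme.Modules.pullback i).map t)
    have hn : t ≫ u = u ≫ (Scheme.Modules.pushforward i).map ((Scheme.Modules.pullback i).map t) :=
      adji.unit.naturality t
    rw [hn, ← h]
    constructor
    · intro ht; rw [ht, adji.homEquiv_unit, Functor.map_zero, comp_zero]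
    · intro ht
      refine (adji.homEquiv _ _).injective (ht.trans ?_)
      rw [adji.homEquiv_unit, Functor.map_zero, comp_zero]
  let toIso : (E₀ ⟶ E₀) → {φ : G ≅ G // (Scheme.Modules.pullback i).map φ.hom = 𝟙 _} := fun a =>
    ⟨⟨𝟙 G + ψ a, 𝟙 G - ψ a, by simp [hψmul], by simp [hψmul]⟩, by
      show (Scheme.Modules.pullback i).map (𝟙 G + ψ a) = _
      rw [Functor.map_add, (hker _).2 (hψu a), add_zero, CategoryTheory.Functor.map_id]⟩
  have hbij : Function.Bijective toIso := by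
    refine ⟨fun a b h => hψinj (add_left_cancel (congrArg (fun φ => φ.1.hom) h)), fun φ => ?_⟩
    obtain ⟨a, ha⟩ := hψsurj (φ.1.hom - 𝟙 G) ((hker _).1 (by
      rw [Functor.map_sub, φ.2, CategoryTheory.Functor.map_id, sub_self]))
    refine ⟨a, Subtype.ext (Iso.ext ?_)⟩
    show 𝟙 G + ψ a = φ.1.hom
    rw [ha, add_sub_cancel]
  refine ⟨(Equiv.ofBijective toIso hbij).symm, fun φ φ' χ h => ?_⟩
  obtain ⟨a, rfl⟩ := hbij.2 φ
  obtain ⟨b, rfl⟩ := hbij.2 φ'
  obtain ⟨d, rfl⟩ := hbij.2 χ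
  simp only [Equiv.ofBijective_symm_apply_apply]
  refine hψinj ?_
  have h1 : (𝟙 G + ψ a) ≫ (𝟙 G + ψ b) = 𝟙 G + ψ d := congrArg Iso.hom h
  rw [hψadd]
  simp only [Preadditive.add_comp, Preadditive.comp_add, Category.id_comp, Category.comp_id, hψmul, add_zero] at h1
  exact add_left_cancel (a := 𝟙 G) (by rw [← h1]; abel)

end Groth.Agent.S13977
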