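import Groth.Statements.S13978
import Groth.Agent.ArtFunLib.ObsHR
-- import your own Groth.Agent.* helpers here

set_option autoImplicit false
universe u v
open CategoryTheory
open scoped TensorProduct
open ArtFun ArtFun.ObsTheory

namespace Groth.Agent.S13978

open Groth.Agent.ArtFunLib IsLocalRing in
theorem aux {k : Type u} [Field k]
    {F : ArtFun.Art k k ⥤ Type v} {V : Type u} [AddCommGroup V] [Module k V]
    (T : ArtFun.ObsTheory F V) {C' C : ArtFun.Art k k} (p : C' ⟶ C) (hp : ArtFun.Art.IsSemismallExt p)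
    (u : F.obj C) (Ω : Submodule k V)
    (hΩ : ∀ (B' B : ArtFun.Art k k) (t : B' ⟶ B) (ht : ArtFun.Art.IsSmallExt t)
          (w : F.obj B) (φ : ↥(RingHom.ker t.toAlgHom) ≃ₗ[k] k),
          TensorProduct.rid k V (LinearMap.lTensor V φ.toLinearMap (T.obs t ht.isSemismallExt w)) ∈ Ω) :
    T.obs p hp u ∈ LinearMap.range (LinearMap.rTensor (↥(RingHom.ker p.toAlgHom)) Ω.subtype) := by
  classical
  have := (finiteLength C').1
  have : Module.Finite k ↥(RingHom.ker p.toAlgHom) :=
    inferInstanceAs (Module.Finite k ↥((RingHom.ker p.toAlgHom).restrictScalars k))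
  let b := Module.finBasis k ↥(RingHom.ker p.toAlgHom)
  have hdec : ∀ x : V ⊗[k] ↥(RingHom.ker p.toAlgHom),
      x = ∑ i, TensorProduct.rid k V (LinearMap.lTensor V (b.coord i) x) ⊗ₜ[k] b i := by
    intro x
    induction x using TensorProduct.induction_on with
    | zero => simp
    | tmul v j =>
      simp only [LinearMap.lTensor_tmul, TensorProduct.rid_tmul, TensorProduct.smul_tmul,
        ← TensorProduct.tmul_sum]
      exact congrArg (v ⊗ₜ[k] ·) (b.sum_repr j).symm
    | add x y hx hy =>
      simp only [map_add, TensorProduct.add_tmul, Finset.sum_add_distrib, ← hx, ← hy]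
  rw [hdec (T.obs p hp u)]
  refine Submodule.sum_mem _ fun i _ => ?_
  suffices h : TensorProduct.rid k V (LinearMap.lTensor V (b.coord i) (T.obs p hp u)) ∈ Ω from
    ⟨⟨_, h⟩ ⊗ₜ b i, rfl⟩
  set f := b.coord i with hfdef
  have hf : Function.Surjective f := fun c => ⟨c • b i, by
    rw [map_smul, hfdef, Module.Basis.coord_apply, b.repr_self, Finsupp.single_eq_same, smul_eq_mul, mul_one]⟩
  let K : Ideal C' :=
    { carrier := {x | ∃ h : x ∈ RingHom.ker p.toAlgHom, f ⟨x, h⟩ = 0}
      add_mem' := by
        rintro x y ⟨hx, hx'⟩ ⟨hy, hy'⟩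
        exact ⟨add_mem hx hy, (f.map_add ⟨x, hx⟩ ⟨y, hy⟩).trans ((congrArg₂ (· + ·) hx' hy').trans (add_zero 0))⟩
      zero_mem' := ⟨zero_mem _, f.map_zero⟩
      smul_mem' := by
        rintro a x ⟨hx, hx'⟩
        refine ⟨Ideal.mul_mem_left _ a hx, ?_⟩
        have e : (⟨a * x, Ideal.mul_mem_left _ a hx⟩ : ↥(RingHom.ker p.toAlgHom)) = C'.res a • ⟨x, hx⟩ :=
          Subtype.ext (smul_eq_res_smul hp a hx)
        exact (congrArg f e).trans ((f.map_smul _ _).trans ((congrArg _ hx').trans (smul_zero _))) }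
  have hKJ : K ≤ RingHom.ker p.toAlgHom := fun x hx => hx.elim fun h _ => h
  have hK : K ≤ maximalIdeal C' := hKJ.trans (ker_le_max p)
  let g := (ArtFun.Art.kerToQuot hK p hKJ).restrictScalars k
  have hg : Function.Surjective g := by
    rintro ⟨z, hz⟩
    obtain ⟨a, rfl⟩ := Ideal.Quotient.mk_surjective z
    exact ⟨⟨a, hz⟩, rfl⟩
  have hgf : LinearMap.ker g = LinearMap.ker f := by
    ext j
    refine ⟨fun h => ?_, fun h => Subtype.ext ?_⟩
    · obtain ⟨_, h2⟩ := (Ideal.Quotient.eq_zero_iff_mem.1 (congrArg Subtype.val (LinearMap.mem_ker.1 h)) :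
        (j : C') ∈ K)
      exact LinearMap.mem_ker.2 h2
    · exact Ideal.Quotient.eq_zero_iff_mem.2 ⟨j.2, LinearMap.mem_ker.1 h⟩
  let q := ArtFun.Art.quotFactor hK p hKJ
  let φ : ↥(RingHom.ker q.toAlgHom) ≃ₗ[k] k :=
    ((LinearMap.quotKerEquivOfSurjective g hg).symm.trans (Submodule.quotEquivOfEq _ _ hgf)).trans
      (LinearMap.quotKerEquivOfSurjective f hf)
  have hφ : φ.toLinearMap.comp g = f := LinearMap.ext fun j => by
    have e : (LinearMap.quotKerEquivOfSurjective g hg).symm (g j) = Submodule.Quotient.mk j :=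
      (LinearEquiv.symm_apply_eq _).2 rfl
    show φ (g j) = f j
    simp only [φ, LinearEquiv.trans_apply, e]
    rfl
  have hq : ArtFun.Art.IsSmallExt q := by
    obtain ⟨z, hz⟩ : ∃ z, φ z = 1 := ⟨_, φ.apply_symm_apply 1⟩
    refine ⟨fun c => ?_, fun h0 => ?_, ⟨⟨(z : ArtFun.Art.quot C' K hK), le_antisymm (fun w hw => ?_) ?_⟩⟩, ?_⟩
    · obtain ⟨a, rfl⟩ := hp.1 c
      exact ⟨Ideal.Quotient.mk K a, rfl⟩
    · have : z = 0 := Subtype.ext (by
        exact (SetLike.ext_iff.1 h0 _).1 z.2)
      rw [this, map_zero] at hz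
      exact zero_ne_one hz
    · have : (⟨w, hw⟩ : ↥(RingHom.ker q.toAlgHom)) = φ ⟨w, hw⟩ • z :=
        φ.injective (by rw [map_smul, hz, smul_eq_mul, mul_one])
      have e : w = φ ⟨w, hw⟩ • (z : ArtFun.Art.quot C' K hK) := congrArg Subtype.val this
      rw [e, Algebra.smul_def]
      exact Submodule.mem_span_singleton.2 ⟨_, rfl⟩
    · exact (Ideal.span_singleton_le_iff_mem _).2 z.2
    · refine le_bot_iff.1 (Ideal.mul_le.2 fun a ha x hx => ?_)
      obtain ⟨a, rfl⟩ := Ideal.Quotient.mk_surjective a
      obtain ⟨x, rfl⟩ := Ideal.Quotient.mk_surjective x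
      have ham : a ∈ maximalIdeal C' := fun hu => (mem_maximalIdeal _).1 ha (hu.map (Ideal.Quotient.mk K))
      rw [Ideal.mem_bot]
      exact (map_mul _ a x).symm.trans
        ((congrArg (Ideal.Quotient.mk K) (mul_eq_zero_of_semismall hp ham hx)).trans (map_zero _))
  have h := hΩ _ _ q hq u φ
  rw [T.obs_quot p hp K hK hKJ hq.isSemismallExt u, ← LinearMap.comp_apply,
    ← LinearMap.lTensor_comp] at h
  rwa [hφ] at h

/-- For obstruction theories of functors in the vector-space form, let k be a field, F a functor on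
Artinian local k-algebras with residue field k and (V, ω) an obstruction theory for F — for each
surjection p : C' → C whose kernel J is killed by the maximal ideal and each u ∈ F(C) an obstruction
ω(p, u) ∈ V ⊗_k J, zero exactly when u lifts, and compatible with replacing C' → C by C'/K → C for
ideals K ≤ J. Let Ω ⊆ V be the subspace spanned by the obstructions along tiny extensions (those p
whose kernel is one-dimensional), transported into V by the isomorphisms V ⊗ J ≅ V coming from
linear isomorphisms J ≅ k. Then for every p and u the obstruction ω(p, u) lies in the image of Ω ⊗_k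
J → V ⊗_k J. (The published statement is for deformation categories and obstruction theories
functorial along all morphisms of extensions; this row assumes functoriality along quotients C'/K
only, which is all its proof uses, and no condition on F.) -/
theorem result {k : Type u} [Field k]
    {F : ArtFun.Art k k ⥤ Type v} {V : Type u} [AddCommGroup V] [Module k V]
    (T : ArtFun.ObsTheory F V) {C' C : ArtFun.Art k k} (p : C' ⟶ C) (hp : ArtFun.Art.IsSemismallExt p)
    (u : F.obj C) :
    T.obs p hp u ∈ LinearMap.range (LinearMap.rTensor (↥(RingHom.ker p.toAlgHom))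
      (Submodule.span k {v : V | ∃ (B' B : ArtFun.Art k k) (t : B' ⟶ B) (ht : ArtFun.Art.IsSmallExt t)
          (w : F.obj B) (φ : ↥(RingHom.ker t.toAlgHom) ≃ₗ[k] k),
          v = TensorProduct.rid k V (LinearMap.lTensor V φ.toLinearMap (T.obs t ht.isSemismallExt w))}).subtype) := by
  exact aux T p hp u _ fun B' B t ht w φ => Submodule.subset_span ⟨B', B, t, ht, w, φ, rfl⟩

end Groth.Agent.S13978
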