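import Groth.Statements.S13981
import Groth.Agent.ArtFunLib.Formal
import Groth.Prelude.Def_W4sfdMinVersal
-- import your own Groth.Agent.* helpers here

set_option autoImplicit false
universe u v
open CategoryTheory
open ArtFun

namespace Groth.Agent.S13981

open Groth.Agent.ArtFunLib IsLocalRing ArtFun in
theorem aux {Λ : Type u} {k : Type u} [CommRing Λ] [Field k]
    [Algebra Λ k] [IsNoetherianRing Λ] [Module.Finite Λ k]
    {F : ArtFun.Art Λ k ⥤ Type v}
    (hRS : ∀ ⦃B A A₁ A₂ : ArtFun.Art Λ k⦄ (p₁ : B ⟶ A₁) (p₂ : B ⟶ A₂) (f₁ : A₁ ⟶ A) (f₂ : A₂ ⟶ A)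
        (h : ArtFun.Art.IsFibreProd p₁ p₂ f₁ f₂), Function.Surjective f₂ → Function.Bijective (ArtFun.cmp F h))
    (R : ArtFun.CRing Λ k) (ξ : ArtFun.Family R.carrier R.res F) (hξ : ArtFun.IsVersal ξ)
    (A' A : ArtFun.CRing Λ k) (g : A'.carrier →ₐ[Λ] A.carrier) (hg : A.res.comp g = A'.res)
    (hgs : Function.Surjective g) (η' : ArtFun.FormalElt F A')
    (φ : R.carrier →ₐ[Λ] A.carrier) (hφ : A.res.comp φ = R.res)
    (hsq : (ξ.along φ hφ).toFormalElt = η'.push g hg) :
    ∃ (ψ : R.carrier →ₐ[Λ] A'.carrier) (hψ : A'.res.comp ψ = R.res),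
      g.comp ψ = φ ∧ (ξ.along ψ hψ).toFormalElt = η' := by
  classical
  let G := fun n => CRing.truncMapOfHom g hg n
  have hmax : maximalIdeal A.carrier ≤ Ideal.map g (maximalIdeal A'.carrier) := fun y hy => by
    obtain ⟨x, rfl⟩ := hgs y
    refine Ideal.mem_map_of_mem _ ((CRing.mem_maximalIdeal_iff A' x).2 ?_)
    exact (AlgHom.congr_fun hg x).symm.trans ((CRing.mem_maximalIdeal_iff A _).1 hy)
  have hGs : ∀ n, Function.Surjective (G n) := fun n z => by
    obtain ⟨a, rfl⟩ := truncHom_surjective A n z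
    obtain ⟨x, rfl⟩ := hgs a
    exact ⟨(A'.truncHom n).1 x, rfl⟩
  let φn : ∀ n, HomSet R.carrier R.res (A.trunc n) := fun n =>
    ⟨(A.truncHom n).1.comp φ, AlgHom.ext fun r => AlgHom.congr_fun hφ r⟩
  have hφn : ∀ n, ξ.app _ (φn n) = F.map (G n) (η'.elt n) := fun n =>
    congrArg (fun u : FormalElt F A => u.elt n) hsq
  have step : ∀ n (ψ : HomSet R.carrier R.res (A'.trunc n)),
      HomSet.map (G n) ψ = φn n → ξ.app _ ψ = η'.elt n →
      ∃ ψ' : HomSet R.carrier R.res (A'.trunc (n + 1)), HomSet.map (A'.truncMap n) ψ' = ψ ∧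
        HomSet.map (G (n + 1)) ψ' = φn (n + 1) ∧ ξ.app _ ψ' = η'.elt (n + 1) := by
    intro n ψ hψ₁ hψ₂
    obtain ⟨T, p', p'', hT⟩ := exists_fibreProd (G n) (A.truncMap n) (truncMap_surjective A n)
    obtain ⟨m, hm₁, hm₂⟩ := IsFibreProd.exists_lift hT (A'.truncMap n) (G (n + 1))
      (CRing.truncMapOfHom_truncMap g hg n).symm
    have hms : Function.Surjective m := fun t => by
      obtain ⟨a, ha⟩ := truncHom_surjective A' n (p' t)
      obtain ⟨b, hb⟩ := truncHom_surjective A (n + 1) (p'' t)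
      have e := hT.w_apply t
      rw [← ha, ← hb] at e
      have hab : b - g a ∈ CRing.mpow A n := (truncHom_eq_iff A n b (g a)).1 e.symm
      have hle : CRing.mpow A n ≤ Ideal.map g (CRing.mpow A' n) :=
        (Ideal.pow_right_mono hmax _).trans (Ideal.map_pow _ _ _).ge
      obtain ⟨c, hc, hgc⟩ := (Ideal.mem_map_iff_of_surjective _ hgs).1 (hle hab)
      refine ⟨(A'.truncHom (n + 1)).1 (a + c), hT.inj _ _ ?_ ?_⟩
      · refine ((congrArg (fun q : A'.trunc (n + 1) ⟶ A'.trunc n => q ((A'.truncHom (n + 1)).1 (a + c))) hm₁)).trans ?_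
        refine Eq.trans ?_ ha
        exact (truncHom_eq_iff A' n (a + c) a).2 (by rwa [add_sub_cancel_left])
      · refine ((congrArg (fun q : A'.trunc (n + 1) ⟶ A.trunc (n + 1) => q ((A'.truncHom (n + 1)).1 (a + c))) hm₂)).trans ?_
        refine Eq.trans ?_ hb
        show (A.truncHom (n + 1)).1 (g (a + c)) = (A.truncHom (n + 1)).1 b
        rw [map_add, hgc, add_sub_cancel]
    obtain ⟨χ, hχ₁, hχ₂⟩ := HomSet.exists_lift hT ψ (φn (n + 1))
      (hψ₁.trans (Subtype.ext (AlgHom.ext fun r => (truncMap_apply A n _).symm)))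
    have hχ : F.map m (η'.elt (n + 1)) = ξ.app _ χ := by
      refine (cmp_injective_iff hT).1 (hRS p' p'' _ _ hT (truncMap_surjective A n)).1 _ _ ?_ ?_
      · rw [map_map, hm₁, η'.compat, ← ξ.natural, hχ₁, hψ₂]
      · rw [map_map, hm₂, ← ξ.natural, hχ₂, hφn]
    obtain ⟨ψ', hψ'₁, hψ'₂⟩ := hξ m hms χ (η'.elt (n + 1)) hχ
    refine ⟨ψ', ?_, ?_, hψ'₂⟩
    · rw [← hm₁, ← HomSet.map_map, hψ'₁, hχ₁]
    · rw [← hm₂, ← HomSet.map_map, hψ'₁, hχ₂]
  choose next hn₁ hn₂ hn₃ using step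
  obtain ⟨ψ₀, h₀₁, h₀₂⟩ := hξ (G 0) (hGs 0) (φn 0) (η'.elt 0) (hφn 0).symm
  let W : ∀ n, {ψ : HomSet R.carrier R.res (A'.trunc n) // HomSet.map (G n) ψ = φn n ∧ ξ.app _ ψ = η'.elt n} :=
    fun n => Nat.rec (motive := fun n =>
      {ψ : HomSet R.carrier R.res (A'.trunc n) // HomSet.map (G n) ψ = φn n ∧ ξ.app _ ψ = η'.elt n})
      ⟨ψ₀, h₀₁, h₀₂⟩ (fun n p => ⟨next n p.1 p.2.1 p.2.2, hn₂ n p.1 p.2.1 p.2.2, hn₃ n p.1 p.2.1 p.2.2⟩) n
  obtain ⟨ψ, hψ, hψn⟩ := exists_hom_of_compat A' (fun n => (W n).1)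
    (fun n => hn₁ n (W n).1 (W n).2.1 (W n).2.2)
  refine ⟨ψ, hψ, hom_ext_trunc A fun n => AlgHom.ext fun r => ?_, FormalElt.ext' fun n => ?_⟩
  · exact (congrArg (G n).toAlgHom (AlgHom.congr_fun (hψn n) r)).trans
      (congrArg (fun w : HomSet R.carrier R.res (A.trunc n) => w.1 r) (W n).2.1)
  · exact (truncHom_comp A' hψ (hψn n) ξ).trans (W n).2.2

/-- Let F be a functor on Artinian local Λ-algebras with residue field k (Λ Noetherian, Λ → k finite and
surjective) satisfying (RS) — the comparison map for A₁ ×_A A₂ is bijective whenever A₂ → A is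
surjective — and let ξ be a versal family of F over a complete local Noetherian Λ-algebra R with
residue field k. Then the lifting property defining versality also holds along surjections of
complete local Noetherian algebras: if g : A' → A is such a surjection, η' is a formal element of F
over A' (a compatible system over the truncations A'/m^(n+1)) and φ : R → A is a map under which the
formal element of ξ becomes the pushforward of η' along g, then φ lifts to ψ : R → A' with g ∘ ψ = φ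
and with ξ inducing η' along ψ. (The published statement takes Λ complete local Noetherian with
residue field k; its proof does not use completeness of Λ, and this row assumes only Λ Noetherian
with Λ → k surjective.) -/
theorem result {Λ : Type u} {k : Type u} [CommRing Λ] [Field k]
    [Algebra Λ k] [IsNoetherianRing Λ] [Module.Finite Λ k] (hΛ : Function.Surjective (algebraMap Λ k))
    {F : ArtFun.Art Λ k ⥤ Type v}
    (hRS : ∀ ⦃B A A₁ A₂ : ArtFun.Art Λ k⦄ (p₁ : B ⟶ A₁) (p₂ : B ⟶ A₂) (f₁ : A₁ ⟶ A) (f₂ : A₂ ⟶ A)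
        (h : ArtFun.Art.IsFibreProd p₁ p₂ f₁ f₂), Function.Surjective f₂ → Function.Bijective (ArtFun.cmp F h))
    (R : ArtFun.CRing Λ k) (ξ : ArtFun.Family R.carrier R.res F) (hξ : ArtFun.IsVersal ξ)
    (A' A : ArtFun.CRing Λ k) (g : A'.carrier →ₐ[Λ] A.carrier) (hg : A.res.comp g = A'.res)
    (hgs : Function.Surjective g) (η' : ArtFun.FormalElt F A')
    (φ : R.carrier →ₐ[Λ] A.carrier) (hφ : A.res.comp φ = R.res)
    (hsq : (ξ.along φ hφ).toFormalElt = η'.push g hg) :
    ∃ (ψ : R.carrier →ₐ[Λ] A'.carrier) (hψ : A'.res.comp ψ = R.res),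
      g.comp ψ = φ ∧ (ξ.along ψ hψ).toFormalElt = η' := by
  exact aux hRS R ξ hξ A' A g hg hgs η' φ hφ hsq

end Groth.Agent.S13981
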