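import Groth.Statements.S13982
import Groth.Agent.NodeSm24.Scheme
-- import your own Groth.Agent.* helpers here

set_option autoImplicit false
universe u
open CategoryTheory CategoryTheory.Limits AlgebraicGeometry
open Curves

set_option backward.isDefEq.respectTransparency.types false
namespace Groth.Agent.S13982

/-- The implication its proof establishes. Let Λ be a complete Noetherian local ring of Krull dimension
1 and u ∈ Λ an element whose radical ideal is the maximal ideal (a system of parameters). Let f : X
→ Spec Λ be proper and flat with X locally Noetherian, and let P be a finite set of points of X over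
the closed point of Spec Λ such that: (a) at every point of the closed fibre outside P the morphism
f is smooth of relative dimension 1 on an open neighbourhood (the closed fibre is a curve, smooth
away from P), and (b) for every p ∈ P the completion of the local ring O_{X,p} is isomorphic,
compatibly with the maps from Λ, to Λ[[x, y]]/(xy − u) (p is a node of the closed fibre deformed by
the parameter u). Then f is smooth of relative dimension 1 on an open neighbourhood of every point
of X that does not lie over the closed point. (The published statement asserts that a flat
projective family over Λ with a prescribed projective nodal closed fibre exists and that it is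
smooth over the punctured spectrum away from the closed fibre; this row states the smoothness
implication for a given proper flat family, with smoothness of the closed fibre away from P put on
f, which for flat f is equivalent to smoothness of the fibre there.) -/
theorem result
    (Λ : Type u) [CommRing Λ] [IsLocalRing Λ] [IsNoetherianRing Λ]
    [IsAdicComplete (IsLocalRing.maximalIdeal Λ) Λ] (hdim : ringKrullDim Λ = 1)
    (u : Λ) (hu : (Ideal.span {u}).radical = IsLocalRing.maximalIdeal Λ)
    (X : Scheme.{u}) [IsLocallyNoetherian X] (f : X ⟶ Spec (CommRingCat.of Λ)) [IsProper f] [Flat f]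
    (P : Finset X) (hP : ∀ p ∈ P, f.base p = IsLocalRing.closedPoint Λ)
    (hsm : ∀ q : X, f.base q = IsLocalRing.closedPoint Λ → q ∉ P →
      ∃ U : X.Opens, q ∈ U ∧ SmoothOfRelativeDimension 1 (U.ι ≫ f))
    (hnode : ∀ p ∈ P, ∃ e : AdicCompletion (IsLocalRing.maximalIdeal (X.presheaf.stalk p)) (X.presheaf.stalk p) ≃+*
        (MvPowerSeries (Fin 2) Λ ⧸ Ideal.span {MvPowerSeries.X 0 * MvPowerSeries.X 1 - MvPowerSeries.C u}),
      ∀ c : Λ, e (algebraMap (X.presheaf.stalk p) _ (((X.presheaf.germ ⊤ p trivial).hom.comp (Coh.toGlobal f)) c)) =
        Ideal.Quotient.mk _ (MvPowerSeries.C c)) :
    ∀ q : X, f.base q ≠ IsLocalRing.closedPoint Λ →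
      ∃ U : X.Opens, q ∈ U ∧ SmoothOfRelativeDimension 1 (U.ι ≫ f) := by
  exact fun q hq => Groth.Agent.NodeSm24.main f hdim u hu P hP hsm hnode q hq

end Groth.Agent.S13982
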