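import Groth.Statements.S13985


set_option autoImplicit false
universe u
open CategoryTheory
open CohGab

namespace Groth.Agent.S13985

/-- For a ring A, the canonical map from the centre of A to the centre of the category of finitely
generated left A-modules (the endomorphism ring of its identity functor), sending a to
multiplication by a, is bijective: every natural endomorphism of the identity functor acts on each
finitely generated module as multiplication by a unique element of A, and that element is central.
(The published statement calls this map an isomorphism of commutative rings; this row states its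
bijectivity.) -/
theorem result (A : Type u) [Ring A]
    (φ : 𝟭 (FGModuleCat.{u} A) ⟶ 𝟭 (FGModuleCat.{u} A)) :
    ∃! a : A, a ∈ Subring.center A ∧
      ∀ (M : FGModuleCat.{u} A) (x : M), (φ.app M).hom.hom x = a • x := by
  refine ⟨(φ.app (FGModuleCat.of A A)).hom.hom (1 : A), ?_, ?_⟩
  · have key : ∀ (M : FGModuleCat.{u} A) (x : M), (φ.app M).hom.hom x =
        ((φ.app (FGModuleCat.of A A)).hom.hom (1 : A) : A) • x := by
      intro M x
      let g : FGModuleCat.of A A ⟶ M :=
        ObjectProperty.homMk (ModuleCat.ofHom ((LinearMap.id (R := A) (M := A)).smulRight x))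
      have hg : ∀ c : A, g.hom.hom c = c • x := fun c => rfl
      have h1 : (φ.app M).hom.hom (g.hom.hom (1 : A)) =
          g.hom.hom ((φ.app (FGModuleCat.of A A)).hom.hom (1 : A)) :=
        congrArg (fun t => t.hom.hom (1 : A)) (φ.naturality g)
      rw [hg, hg] at h1
      exact ((congrArg (φ.app M).hom.hom (one_smul A x)).symm.trans h1)
    refine ⟨Subring.mem_center_iff.2 fun b => ?_, key⟩
    have h := φ.naturality (FGModuleCat.ofHom ((LinearMap.id (R := A) (M := A)).smulRight b) :
        FGModuleCat.of A A ⟶ FGModuleCat.of A A)
    have h2 := key (FGModuleCat.of A A) b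
    have h3 : (φ.app (FGModuleCat.of A A)).hom.hom (b • (1 : A)) =
        b • (φ.app (FGModuleCat.of A A)).hom.hom (1 : A) := map_smul _ b (1 : A)
    simp only [smul_eq_mul, mul_one] at h3
    exact h3.symm.trans h2
  · rintro a ⟨-, ha⟩
    have := ha (FGModuleCat.of A A) (1 : A)
    exact ((smul_eq_mul a (1 : A)).trans (mul_one a)).symm.trans this.symm

end Groth.Agent.S13985
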