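import Groth.Statements.S13986
import Groth.Agent.S4458
import Groth.Agent.Coherent.SupportPullback
import Groth.Agent.Coherent.DevissageTwoThree
import Groth.Agent.Coherent.ClosedEquiv
import Groth.Agent.SubAvoid14.Roof
import Groth.Agent.Hyper24.BiratH1
import Groth.Agent.EGA43.InjFibre.Scheme
import Groth.Agent.Coherent.QcohOps
-- import your own Groth.Agent.* helpers here

set_option autoImplicit false
universe u
open CategoryTheory AlgebraicGeometry
open CohGab

set_option backward.isDefEq.respectTransparency.types false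
set_option maxHeartbeats 800000
namespace Groth.Agent.S13986
open Groth.Agent Groth.Agent.Coherent Groth.Agent.AssSch12 CategoryTheory CategoryTheory.Limits

/-- Let X be a Noetherian scheme and F, E coherent O_X-modules. Then E lies in the smallest Serre
subcategory of Coh(X) containing F — that is, E has every property P of O_X-modules such that P
holds for F and P is a Serre class on coherent modules (for a short exact sequence of coherent
modules the middle term has P iff both outer terms do) — if and only if Supp(E) ⊆ Supp(F).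
Equivalently: for a closed subset Z, the coherent modules supported in Z form the Serre subcategory
generated by any coherent module whose support is exactly Z. (The published statement is about
coherent sheaves twisted by a class in the second etale cohomology group of the units of the
structure sheaf; this row is its case of the trivial class, ordinary coherent sheaves.) -/
theorem result (X : Scheme.{u}) [IsNoetherian X]
    (F E : X.Modules) (hF : Coh.IsCoh F) (hE : Coh.IsCoh E) :
    (∀ P : ObjectProperty X.Modules, P F →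
      (∀ S : ShortComplex X.Modules, S.ShortExact → Coh.IsCoh S.X₁ → Coh.IsCoh S.X₂ →
        Coh.IsCoh S.X₃ → (P S.X₂ ↔ P S.X₁ ∧ P S.X₃)) → P E) ↔
    CohB1.support E ⊆ CohB1.support F := by
  constructor
  · intro h
    refine h (fun M => CohB1.support M ⊆ CohB1.support F) le_rfl fun S hS _ _ _ => ?_
    haveI := hS.mono_f
    haveI := hS.epi_g
    exact ⟨fun h2 => ⟨(support_subset_of_mono S.f).trans h2, (support_subset_of_epi S.g).trans h2⟩,
      fun h13 => (support_X₂_subset hS).trans (Set.union_subset h13.1 h13.2)⟩
  intro hsupp P hPF hP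
  have hzero : ∀ Z : X.Modules, IsZero Z → P Z := fun Z hZ => by
    have hS : (ShortComplex.mk (𝟙 F) (0 : F ⟶ Z) comp_zero).ShortExact :=
      { exact := (ShortComplex.exact_iff_epi _ rfl).2 inferInstance
        mono_f := inferInstanceAs (Mono (𝟙 F))
        epi_g := ⟨fun a b _ => hZ.eq_of_src a b⟩ }
    exact ((hP _ hS hF hF (isCoh_of_isZero hZ)).1 hPF).2
  let K' : ObjectProperty X.Modules := fun M => Coh.IsCoh M → P M
  have hiso : ∀ {M N : X.Modules}, (M ≅ N) → K' M → K' N := fun {M N} e h hN => by
    have hM : Coh.IsCoh M := (isCoh_of_iso e.symm hN)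
    obtain ⟨Z, hZ⟩ : ∃ Z : X.Modules, IsZero Z := ⟨cokernel e.hom, isZero_cokernel_of_epi e.hom⟩
    have hS : (ShortComplex.mk e.hom (0 : N ⟶ Z) comp_zero).ShortExact :=
      { exact := (ShortComplex.exact_iff_epi _ rfl).2 inferInstance
        mono_f := inferInstanceAs (Mono e.hom)
        epi_g := ⟨fun a b _ => hZ.eq_of_src a b⟩ }
    exact (hP _ hS hM hN (isCoh_of_isZero hZ)).2 ⟨h hM, hzero Z hZ⟩
  haveI : K'.IsClosedUnderIsomorphisms := ⟨hiso⟩
  have hFcl : IsClosed (CohB1.support F) := isClosed_support F (locallyFinGen_of_isFT F hF.2)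
  refine S4458.result X K' (fun M hM _ => hzero M hM) (fun S hS h1 h2 h3 => ?_) ?_ (CohB1.support F) hFcl ?_
    E hE hsupp hE
  · exact ⟨fun _ b c => ((hP S hS h1 h2 c).1 (b h2)).2, fun a c b => (hP S hS h1 b h3).2 ⟨a h1, c h3⟩,
      fun b _ a => ((hP S hS a h2 h3).1 (b h2)).1⟩
  · intro M N i r hir hM hN hKM _
    haveI : Mono i := mono_of_mono_fac hir
    have hS : (ShortComplex.mk i (cokernel.π i) (cokernel.condition i)).ShortExact :=
      { exact := ShortComplex.exact_cokernel i }
    exact ((hP _ hS hN hM (isCoh_cokernel i hN.1 hM)).1 (hKM hM)).1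
  intro Z hZ _ hZF y hy
  let I := Scheme.IdealSheafData.vanishingIdeal ⟨Z, hZ⟩
  let j := I.subschemeι
  haveI := hF.1
  haveI : IsLocallyNoetherian I.subscheme := LocallyOfFiniteType.isLocallyNoetherian j
  let H := (Scheme.Modules.pullback j).obj F
  haveI : Coh.IsQCoh F := hF.1
  have hH : Coh.IsQCoh H := Groth.Agent.EGA43.InjFibre.isQCoh_pullback j F
  let G := (Coh.push j).obj H
  have hepi : Epi (clUnit j F) := epi_clUnit (i := j) (F := F)
  have hGq : Coh.IsQCoh G := @isQCoh_push _ _ j _ _ H hH
  have hG : Coh.IsCoh G := Hyper24.isCoh_of_epi' (clUnit j F) hepi hF hGq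
  have hrange : Set.range j.base = Z := by
    rw [I.range_subschemeι, Scheme.IdealSheafData.coe_support_vanishingIdeal]
    rfl
  obtain ⟨η, hη⟩ : y ∈ Set.range j.base := by rw [hrange, ← hy]; exact subset_closure rfl
  refine ⟨G, hG, fun _ => ?_, (support_push_subset j H).trans hrange.le, ?_, ?_⟩
  · have hk : Coh.IsCoh (kernel (clUnit j F)) := isCoh_kernel _ hF hGq
    have hS : (ShortComplex.mk (kernel.ι (clUnit j F)) (clUnit j F) (kernel.condition _)).ShortExact :=
      { exact := ShortComplex.exact_kernel _, mono_f := inferInstanceAs (Mono (kernel.ι _)), epi_g := hepi }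
    exact ((hP _ hS hk hF hG).1 hPF).2
  · intro U r hr m
    exact killedByIdeal_of_mono j H (𝟙 G) U r (by rw [Scheme.IdealSheafData.ker_subschemeι]; exact hr) m
  · have hyF : η ∈ CohB1.support H := by
      show η ∈ CohB1.support ((Scheme.Modules.pullback j).obj F)
      rw [support_pullback_qcoh (f := j) (F := F) hF.1 hF.2]
      show j.base η ∈ CohB1.support F
      rw [hη]
      exact hZF (by rw [← hy]; exact subset_closure rfl)
    subst hη
    intro hsub
    refine hyF (subsingleton_of_forall_eq 0 fun u => ?_)
    obtain ⟨W, hW, s, rfl⟩ := H.presheaf.exists_germ_eq u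
    obtain ⟨W', rfl⟩ : ∃ W' : X.Opens, W = j ⁻¹ᵁ W' := by
      obtain ⟨V, hV, hVW⟩ := j.isClosedEmbedding.isInducing.isOpen_iff.1 W.2
      exact ⟨⟨V, hV⟩, TopologicalSpace.Opens.ext hVW.symm⟩
    obtain ⟨V, hyV, i₁, i₂, h1⟩ := TopCat.Presheaf.germ_eq G.presheaf (j.base η)
      (U := W') (V := W') hW hW (s : Γ(G, W')) 0 (hsub.elim _ _)
    rw [map_zero] at h1
    have h2 := congrArg (H.presheaf.germ (j ⁻¹ᵁ V) η hyV) h1
    exact (TopCat.Presheaf.germ_res_apply H.presheaf ((TopologicalSpace.Opens.map j.base).map i₁) _ hyV s).symm.trans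
      (h2.trans (map_zero _))

end Groth.Agent.S13986
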