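import Groth.Statements.S13987
import Groth.Agent.CohGab24.Restrict
-- import your own Groth.Agent.* helpers here

set_option autoImplicit false
universe u
open CategoryTheory CategoryTheory.Limits AlgebraicGeometry
open CohGab

set_option backward.isDefEq.respectTransparency.types false
open Groth.Agent Groth.Agent.Coherent Groth.Agent.CohGab24 CategoryTheory CategoryTheory.Limits AlgebraicGeometry
namespace Groth.Agent.S13987

/-- Let X be a Noetherian scheme, Z ⊆ X a closed subset and U = X ∖ Z. Then restriction to U induces an
equivalence between the quotient abelian category Coh(X)/Coh_Z(X) (coherent modules modulo those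
supported in Z) and Coh(U): the restriction functor Coh(X) ⥤ Coh(U) is a localization functor for
the class of morphisms of coherent O_X-modules whose kernel and cokernel (taken in O_X-modules) have
support contained in Z. The hypothesis that restriction to U preserves coherence always holds and is
carried only to form the functor between the full subcategories. (The published statement is about
coherent sheaves twisted by a class in the second etale cohomology group of the units of the
structure sheaf; this row is its case of the trivial class, ordinary coherent sheaves.) -/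
theorem result (X : Scheme.{u}) [IsNoetherian X]
    (U : X.Opens)
    (hres : ∀ M : X.Modules, Coh.IsCoh M → Coh.IsCoh ((Scheme.Modules.restrictFunctor U.ι).obj M)) :
    (ObjectProperty.lift (fun N : (↑U : Scheme.{u}).Modules => Coh.IsCoh N)
        (ObjectProperty.ι (fun M : X.Modules => Coh.IsCoh M) ⋙ Scheme.Modules.restrictFunctor U.ι)
        (fun M => hres M.obj M.property)).IsLocalization
      (fun (A B : ObjectProperty.FullSubcategory (fun M : X.Modules => Coh.IsCoh M)) (f : A ⟶ B) =>
        CohB1.support (kernel f.hom) ⊆ (↑U : Set X)ᶜ ∧
          CohB1.support (cokernel f.hom) ⊆ (↑U : Set X)ᶜ) := by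
  let P : ObjectProperty X.Modules := fun M => Coh.IsCoh M
  let Q : ObjectProperty (↑U : Scheme.{u}).Modules := fun N => Coh.IsCoh N
  let R := Scheme.Modules.restrictFunctor U.ι
  let F : P.FullSubcategory ⥤ Q.FullSubcategory :=
    ObjectProperty.lift Q (P.ι ⋙ R) (fun M => hres M.obj M.property)
  have hiso : ∀ {A B : P.FullSubcategory} (f : A ⟶ B), IsIso (F.map f) ↔ IsIso (R.map f.hom) :=
    fun f => (isIso_iff_of_reflects_iso (F.map f) Q.ι).symm
  haveI : F.EssSurj := ⟨fun N => by
    haveI := N.property.1
    obtain ⟨G, h1, h2, ⟨e⟩⟩ := exists_finiteType_extension_module_qcqs U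
      (TopologicalSpace.NoetherianSpace.isCompact (U : Set X)) N.obj N.property.2
    exact ⟨⟨G, h1, h2⟩, ⟨Q.fullyFaithfulι.preimageIso e⟩⟩⟩
  have hW : (fun (A B : P.FullSubcategory) (f : A ⟶ B) =>
      CohB1.support (kernel f.hom) ⊆ (↑U : Set X)ᶜ ∧ CohB1.support (cokernel f.hom) ⊆ (↑U : Set X)ᶜ) =
      (MorphismProperty.isomorphisms Q.FullSubcategory).inverseImage F := by
    funext A B f
    exact propext ((support_iff f.hom U).trans ((hiso f).symm))
  show F.IsLocalization _
  rw [hW]
  refine isLocalization_of_roofs F (fun {A B} φ => ?_) (fun {A B} f₁ f₂ h => ?_)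
  · obtain ⟨A', ι, φ', -, hA', hi, he⟩ :=
      SubAvoid14.exists_hom_extension A.obj B.obj A.property B.property U φ.hom
    exact ⟨⟨A', hA'⟩, ObjectProperty.homMk ι, ObjectProperty.homMk φ', (hiso _).2 hi,
      InducedCategory.hom_ext he⟩
  · have h' : (F.map f₁).hom = (F.map f₂).hom := by rw [h]
    obtain ⟨A', s, hA', hs, he⟩ := exists_equalizer f₁.hom f₂.hom U A.property B.property h'
    exact ⟨⟨A', hA'⟩, ObjectProperty.homMk s, (hiso _).2 hs, InducedCategory.hom_ext he⟩

end Groth.Agent.S13987
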