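import Groth.Statements.S13988
import Groth.Agent.S7679
import Groth.Agent.SubAvoid14.Extend
import Groth.Agent.AmpleLib.Power
-- import your own Groth.Agent.* helpers here

set_option autoImplicit false
universe u
open CategoryTheory AlgebraicGeometry
open CohGab

set_option backward.isDefEq.respectTransparency.types false
set_option maxHeartbeats 1000000
open Groth.Agent Groth.Agent.Coherent Groth.Agent.PicLib Groth.Agent.AmpleLib CategoryTheory CategoryTheory.Limits AlgebraicGeometry
namespace Groth.Agent.S13988

/-- Let X be a Noetherian scheme. The canonical ring map from the global functions Γ(X, O_X) to the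
centre of the category of coherent O_X-modules (the endomorphisms of its identity functor), sending
r to multiplication by r, is bijective: for every natural endomorphism φ of the identity functor of
Coh(X) there is a unique global function r such that, for every coherent module M, φ_M is
multiplication by r (compared as maps of the underlying abelian sheaves). (The published result
builds a ringed space from Coh(X) — irreducible Serre subcategories of finite type, with the centres
of the categories Coh(U) as structure sheaf — and proves it isomorphic to X, for coherent sheaves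
twisted by a class in the cohomological Brauer group and with X over a field, a hypothesis its proof
does not use; this row is the ring-theoretic content of that isomorphism on global sections, for the
trivial class; applied to the open subschemes of X it gives the statement on every open.) -/
theorem result (X : Scheme.{u}) [IsNoetherian X]
    (φ : 𝟭 (ObjectProperty.FullSubcategory (fun M : X.Modules => Coh.IsCoh M)) ⟶ 𝟭 (ObjectProperty.FullSubcategory (fun M : X.Modules => Coh.IsCoh M))) :
    ∃! r : Coh.Γtop X, ∀ M : ObjectProperty.FullSubcategory (fun M : X.Modules => Coh.IsCoh M),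
      (SheafOfModules.toSheaf X.ringCatSheaf).map (φ.app M).hom = Coh.smulAb M.obj r := by
  let O : ObjectProperty.FullSubcategory (fun M : X.Modules => Coh.IsCoh M) :=
    ⟨Coh.structureModule X, isCoh_structureModule X⟩
  let fO : Coh.structureModule X ⟶ Coh.structureModule X := (φ.app O).hom
  let r : Coh.Γtop X := fO.app ⊤ (oneSec ⊤)
  have hO : ∀ (U : X.Opens), fO.app U (oneSec U) =
      (X.presheaf.map (homOfLE (le_top : U ≤ ⊤)).op (r : Γ(X, ⊤)) : Γ(X, U)) := by
    intro U
    rw [← resM_oneSec (le_top : U ≤ ⊤), app_resM]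
    rfl
  refine ⟨r, ?_, ?_⟩
  · intro M
    have key : ∀ (U : X.Opens) (m : Γ(M.obj, U.ι ''ᵁ ⊤)), (φ.app M).hom.app _ m =
        (X.presheaf.map (homOfLE (le_top : U.ι ''ᵁ ⊤ ≤ ⊤)).op (r : Γ(X, ⊤)) : Γ(X, U.ι ''ᵁ ⊤)) • m := by
      intro U m
      let R := Scheme.Modules.restrictFunctor U.ι
      let adj := Scheme.Modules.restrictAdjunction U.ι
      obtain ⟨g, hg⟩ := S7679.exists_hom_of_sec (G := (Coh.push U.ι).obj (R.obj M.obj))
        (m : Γ((Coh.push U.ι).obj (R.obj M.obj), (⊤ : X.Opens)))
      let ψ : R.obj (Coh.structureModule X) ⟶ R.obj M.obj := (adj.homEquiv _ _).symm g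
      have hψ : adj.unit.app _ ≫ (Coh.push U.ι).map ψ = g :=
        ((adj.homEquiv_unit (f := ψ)).symm.trans (Equiv.apply_symm_apply _ g))
      obtain ⟨F', ι, φ', hι, hF', hiso, hφ', -⟩ :=
        SubAvoid14.exists_hom_extension' (Coh.structureModule X) M.obj O.property M.property U ψ
      haveI := hiso
      have hb : Function.Bijective (ι.app (U.ι ''ᵁ ⊤)) :=
        ConcreteCategory.bijective_of_isIso ((R.map ι).app ⊤)
      obtain ⟨e, he⟩ := hb.2 (oneSec (U.ι ''ᵁ ⊤))
      have hm : φ'.app (U.ι ''ᵁ ⊤) e = m := by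
        have h1 : φ'.app (U.ι ''ᵁ ⊤) e = ψ.app ⊤ (ι.app (U.ι ''ᵁ ⊤) e) :=
          congrArg (fun q : R.obj F' ⟶ R.obj M.obj => q.app ⊤ e) hφ'
        rw [h1, he]
        have h2 : g.app ⊤ (oneSec ⊤) = ψ.app (U.ι ⁻¹ᵁ ⊤)
            ((adj.unit.app (Coh.structureModule X)).app ⊤ (oneSec ⊤)) :=
          (congrArg (fun q : Coh.structureModule X ⟶ (Coh.push U.ι).obj (R.obj M.obj) =>
            q.app ⊤ (oneSec ⊤)) hψ).symm
        have h3 := (hg ⊤).symm.trans (congrArg _ rfl)
        refine Eq.trans ?_ ((h2.symm.trans (hg ⊤)).trans (resM_self _ _ _))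
        refine congrArg (ψ.app ⊤) ?_
        exact (resM_oneSec (U := (⊤ : X.Opens)) (le_top : U.ι ''ᵁ ⊤ ≤ ⊤)).symm
      let J : ObjectProperty.FullSubcategory (fun M : X.Modules => Coh.IsCoh M) := ⟨F', hF'⟩
      have n1 : ι ≫ fO = (φ.app J).hom ≫ ι :=
        congrArg InducedCategory.Hom.hom (φ.naturality (ObjectProperty.homMk ι : J ⟶ O))
      have n2 : φ' ≫ (φ.app M).hom = (φ.app J).hom ≫ φ' :=
        congrArg InducedCategory.Hom.hom (φ.naturality (ObjectProperty.homMk φ' : J ⟶ M))
      have h4 : (φ.app J).hom.app _ e =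
          (X.presheaf.map (homOfLE (le_top : U.ι ''ᵁ ⊤ ≤ ⊤)).op (r : Γ(X, ⊤)) : Γ(X, U.ι ''ᵁ ⊤)) • e := by
        apply hb.1
        rw [Scheme.Modules.Hom.app_smul, he]
        refine ((congrArg (fun q : F' ⟶ Coh.structureModule X => q.app _ e) n1).symm.trans
          ((congrArg (fO.app _) he).trans (hO _))).trans ?_
        exact (mul_one (M := Γ(X, U.ι ''ᵁ ⊤)) _).symm
      rw [← hm]
      refine ((congrArg (fun q : F' ⟶ M.obj => q.app _ e) n2).trans ((congrArg (φ'.app _) h4).trans ?_))
      exact Scheme.Modules.Hom.app_smul _ _ _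
    ext U m
    obtain ⟨U⟩ := U
    have h := key (U : X.Opens)
    rw [show (Scheme.Opens.ι (U : X.Opens)) ''ᵁ ⊤ = U from Scheme.Opens.ι_image_top U] at h
    exact h m
  · intro r' hr'
    have h := congrArg (fun q => q.hom.app (Opposite.op (⊤ : X.Opens)) (oneSec ⊤)) (hr' O)
    refine (Eq.trans ?_ h.symm).trans ?_
    · show r' = @HMul.hMul Γ(X,⊤) Γ(X,⊤) Γ(X,⊤) _ (Coh.resTop X (Opposite.op ⊤) r') 1
      rw [mul_one]
      exact Eq.trans (by simp) (congrArg (fun f => (X.presheaf.map f) r') (Subsingleton.elim (𝟙 _) _))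
    · rfl

end Groth.Agent.S13988
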