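import Groth.Statements.S13989
import Mathlib

set_option linter.all false

set_option autoImplicit false
universe v u v' u' v'' u''
open CategoryTheory CategoryTheory.Limits
open CohGab

open CategoryTheory CategoryTheory.Limits

namespace Groth.Agent.S13989

section
variable {A A' : Type*} [Category A] [Abelian A] [Category A'] [Abelian A']
  (i : A' ⥤ A) [PreservesFiniteLimits i] [PreservesFiniteColimits i]
  (J : ObjectProperty A) [J.IsSerreClass] [(J.inverseImage i).IsSerreClass]

theorem inverseImage_isoModSerre_iff {X Y : A'} (m : X ⟶ Y) :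
    (J.inverseImage i).isoModSerre m ↔ J.isoModSerre (i.map m) := by
  haveI : i.PreservesZeroMorphisms := by
    haveI := i.additive_of_preserves_binary_products
    infer_instance
  simp only [ObjectProperty.isoModSerre_iff]
  exact and_congr (J.prop_iff_of_iso (PreservesKernel.iso i m))
    (J.prop_iff_of_iso (PreservesCokernel.iso i m))

variable [i.Full] [i.Faithful]

theorem exists_sub_of_quot
    (hquot : ∀ (M : A') (N : A) (p : i.obj M ⟶ N), Epi p → J N → i.essImage N)
    {X : A'} {C : A} (p : i.obj X ⟶ C) [Epi p] (hC : J C) :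
    ∃ (X' : A') (m : X' ⟶ X) (a : kernel p ≅ i.obj X'),
      a.hom ≫ i.map m = kernel.ι p ∧ (J.inverseImage i).isoModSerre m := by
  haveI : i.PreservesZeroMorphisms := by
    haveI := i.additive_of_preserves_binary_products
    infer_instance
  obtain ⟨C', ⟨e⟩⟩ := hquot X C p inferInstance hC
  let c : X ⟶ C' := i.preimage (p ≫ e.inv)
  have hc : i.map c = p ≫ e.inv := i.map_preimage _
  let a : kernel p ≅ i.obj (kernel c) :=
    (kernelCompMono p e.inv).symm ≪≫ kernelIsoOfEq hc.symm ≪≫ (PreservesKernel.iso i c).symm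
  have ha : a.hom ≫ i.map (kernel.ι c) = kernel.ι p := by
    rw [← Iso.eq_inv_comp]
    simp [a, kernelCompMono]
  refine ⟨kernel c, kernel.ι c, a, ha, ?_⟩
  rw [inverseImage_isoModSerre_iff, ← Iso.inv_comp_eq a |>.mpr ha.symm]
  refine J.isoModSerre.comp_mem _ _ (J.isoModSerre_of_isIso _) ?_
  rw [ObjectProperty.isoModSerre_iff_of_mono]
  exact J.prop_of_iso ((Abelian.epiIsCokernelOfKernel _ (kernelIsKernel p)).coconePointUniqueUpToIso (colimit.isColimit (parallelPair (kernel.ι p) 0))) hC

theorem exists_quot_of_sub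
    (hsub : ∀ (M : A') (N : A) (f : N ⟶ i.obj M), Mono f → J N → i.essImage N)
    {Y : A'} {K : A} (k : K ⟶ i.obj Y) [Mono k] (hK : J K) :
    ∃ (Y' : A') (q : Y ⟶ Y') (b : cokernel k ≅ i.obj Y'),
      cokernel.π k ≫ b.hom = i.map q ∧ (J.inverseImage i).isoModSerre q := by
  haveI : i.PreservesZeroMorphisms := by
    haveI := i.additive_of_preserves_binary_products
    infer_instance
  obtain ⟨K', ⟨e⟩⟩ := hsub Y K k inferInstance hK
  let c : K' ⟶ Y := i.preimage (e.hom ≫ k)
  have hc : i.map c = e.hom ≫ k := i.map_preimage _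
  let b : cokernel k ≅ i.obj (cokernel c) :=
    (cokernelEpiComp e.hom k).symm ≪≫ cokernelIsoOfEq hc.symm ≪≫ (PreservesCokernel.iso i c).symm
  have hb : cokernel.π k ≫ b.hom = i.map (cokernel.π c) := by
    simp [b, cokernelEpiComp]
  refine ⟨cokernel c, cokernel.π c, b, hb, ?_⟩
  rw [inverseImage_isoModSerre_iff, ← hb]
  refine J.isoModSerre.comp_mem _ _ ?_ (J.isoModSerre_of_isIso _)
  rw [ObjectProperty.isoModSerre_iff_of_epi]
  exact J.prop_of_iso ((Abelian.monoIsKernelOfCokernel _ (cokernelIsCokernel k)).conePointUniqueUpToIso (limit.isLimit (parallelPair (cokernel.π k) 0))) hK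

end

/-- Let A be an abelian category, A' a full abelian subcategory (given as a fully faithful exact functor
i : A' ⥤ A) and J a Serre subcategory of A, with J' = J ∩ A' (the preimage of J under i, a Serre
subcategory of A'). Assume that every subobject and every quotient object, in A, of an object of A'
which belongs to J belongs to A' (lies in the essential image of i). Then the functor A'/J' ⥤ A/J
induced between the quotient categories is fully faithful: for L : A ⥤ Q and L' : A' ⥤ Q'
localization functors at the morphisms whose kernel and cokernel lie in J, resp. J', every functor Φ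
: Q' ⥤ Q with L' ⋙ Φ ≅ i ⋙ L is full and faithful. -/
theorem result
    {A A' : Type u} [Category.{v} A] [Abelian A] [Category.{v} A'] [Abelian A']
    (i : A' ⥤ A) [i.Full] [i.Faithful] [PreservesFiniteLimits i] [PreservesFiniteColimits i]
    (J : ObjectProperty A) [J.IsSerreClass] [(J.inverseImage i).IsSerreClass]
    (hsub : ∀ (M : A') (N : A) (f : N ⟶ i.obj M), Mono f → J N → i.essImage N)
    (hquot : ∀ (M : A') (N : A) (p : i.obj M ⟶ N), Epi p → J N → i.essImage N)
    {Q : Type u'} [Category.{v'} Q] (L : A ⥤ Q) [L.IsLocalization J.isoModSerre]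
    {Q' : Type u''} [Category.{v''} Q'] (L' : A' ⥤ Q') [L'.IsLocalization (J.inverseImage i).isoModSerre]
    (Φ : Q' ⥤ Q) (e : L' ⋙ Φ ≅ i ⋙ L) : Φ.Full ∧ Φ.Faithful := by
  haveI := i.additive_of_preserves_binary_products
  haveI := Localization.essSurj L' (J.inverseImage i).isoModSerre
  have nat : ∀ {X Y : A'} (a : X ⟶ Y), Φ.map (L'.map a) = e.hom.app X ≫ L.map (i.map a) ≫ e.inv.app Y :=
    fun {X Y} a => by
      have := e.hom.naturality a
      simp only [Functor.comp_map] at this
      rw [← Category.assoc, ← this, Category.assoc, Iso.hom_inv_id_app]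
      exact (Category.comp_id _).symm
  -- faithfulness on morphisms coming from `A'`
  have h0 : ∀ {X Y : A'} (a b : X ⟶ Y), L.map (i.map a) = L.map (i.map b) → L'.map a = L'.map b := by
    intro X Y a b hab
    obtain ⟨Z, s, hs, hsab⟩ := (MorphismProperty.map_eq_iff_precomp L J.isoModSerre _ _).mp hab
    rw [MorphismProperty.map_eq_iff_precomp L' (J.inverseImage i).isoModSerre]
    have h1 : J (Abelian.image (i.map (a - b))) :=
      (J.exists_isoModSerre_comp_eq_zero_iff _).mp
        ⟨Z, s, hs, by rw [i.map_sub, Preadditive.comp_sub, hsab, sub_self]⟩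
    have h2 : (J.inverseImage i) (Abelian.image (a - b)) :=
      J.prop_of_iso (Abelian.PreservesImage.iso i (a - b)).symm h1
    obtain ⟨Z', s', hs', h⟩ := ((J.inverseImage i).exists_isoModSerre_comp_eq_zero_iff _).mpr h2
    exact ⟨Z', s', hs', by rwa [Preadditive.comp_sub, sub_eq_zero] at h⟩
  have hiso : ∀ {X Y : A'} (s : X ⟶ Y), (J.inverseImage i).isoModSerre s → IsIso (L'.map s) :=
    fun s hs => Localization.inverts L' _ s hs
  constructor
  · refine ⟨fun {U V} g => ?_⟩
    let X := L'.objPreimage U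
    let Y := L'.objPreimage V
    let eX : L'.obj X ≅ U := L'.objObjPreimageIso U
    let eY : L'.obj Y ≅ V := L'.objObjPreimageIso V
    suffices h : ∀ g' : L.obj (i.obj X) ⟶ L.obj (i.obj Y),
        ∃ u : L'.obj X ⟶ L'.obj Y, e.inv.app X ≫ Φ.map u ≫ e.hom.app Y = g' by
      obtain ⟨u, hu⟩ := h (e.inv.app X ≫ Φ.map eX.hom ≫ g ≫ Φ.map eY.inv ≫ e.hom.app Y)
      rw [cancel_epi] at hu
      simp only [← Category.assoc] at hu
      rw [cancel_mono] at hu
      simp only [Category.assoc] at hu
      refine ⟨eX.inv ≫ u ≫ eY.hom, ?_⟩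
      rw [Φ.map_comp, Φ.map_comp, hu]
      simp only [Category.assoc, ← Φ.map_comp_assoc, Iso.inv_hom_id, Φ.map_id, Category.id_comp]
      rw [← Φ.map_comp, Iso.inv_hom_id, Φ.map_id, Category.comp_id]
    intro g'
    obtain ⟨φ, hφ⟩ := Localization.exists_rightFraction L J.isoModSerre g'
    haveI : IsIso (L.map φ.s) := Localization.inverts L _ _ φ.hs
    have hg : L.map φ.s ≫ g' = L.map φ.f := by
      rw [hφ, MorphismProperty.RightFraction.map_s_comp_map]
    -- replace the source
    obtain ⟨X', m, a, ha, hm⟩ := exists_sub_of_quot i J hquot (cokernel.π φ.s) φ.hs.2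
    let t : φ.X' ⟶ i.obj X' := Abelian.factorThruImage φ.s ≫ a.hom
    have htm : t ≫ i.map m = φ.s := by
      rw [Category.assoc, ha]; exact Abelian.image.fac φ.s
    have ht : J.isoModSerre t :=
      J.isoModSerre.comp_mem _ _ φ.hs.1.isoModSerre_factorThruImage (J.isoModSerre_of_isIso _)
    haveI : IsIso (L.map t) := Localization.inverts L _ _ ht
    haveI : Epi t := epi_comp _ _
    -- replace the target
    have hK : J (Abelian.image (kernel.ι φ.s ≫ φ.f)) :=
      J.prop_of_epi (Abelian.factorThruImage (kernel.ι φ.s ≫ φ.f)) φ.hs.1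
    obtain ⟨Y', q, b, hb, hq⟩ :=
      exists_quot_of_sub i J hsub (Abelian.image.ι (kernel.ι φ.s ≫ φ.f)) hK
    have hz : kernel.ι t ≫ φ.f ≫ i.map q = 0 := by
      have e1 : kernel.ι φ.s ≫ φ.f ≫ i.map q = 0 := by
        have e0 : (kernel.ι φ.s ≫ φ.f) ≫ cokernel.π (Abelian.image.ι (kernel.ι φ.s ≫ φ.f)) = 0 :=
          (congrArg (· ≫ cokernel.π (Abelian.image.ι (kernel.ι φ.s ≫ φ.f)))
            (Abelian.image.fac (kernel.ι φ.s ≫ φ.f)).symm).trans
            (by rw [Category.assoc, cokernel.condition, comp_zero])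
        rw [← hb, ← Category.assoc φ.f, ← Category.assoc, ← Category.assoc, e0, zero_comp]
      have e3 : kernel.ι t ≫ φ.s = 0 := (congrArg (kernel.ι t ≫ ·) htm.symm).trans
        (by rw [← Category.assoc, kernel.condition, zero_comp])
      have e2 : kernel.ι t = kernel.lift φ.s (kernel.ι t) e3 ≫ kernel.ι φ.s :=
        (kernel.lift_ι _ _ _).symm
      rw [e2, Category.assoc, e1, comp_zero]
    let h : i.obj X' ⟶ i.obj Y' := Abelian.epiDesc t (φ.f ≫ i.map q) hz
    have hh : t ≫ h = φ.f ≫ i.map q := Abelian.comp_epiDesc t (φ.f ≫ i.map q) hz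
    have hgh : L.map (i.map m) ≫ g' ≫ L.map (i.map q) = L.map h := by
      rw [← cancel_epi (L.map t), ← L.map_comp_assoc, htm, ← Category.assoc, hg,
        ← L.map_comp, ← L.map_comp, hh]
    haveI := hiso m hm
    haveI := hiso q hq
    refine ⟨inv (L'.map m) ≫ L'.map (i.preimage h) ≫ inv (L'.map q), ?_⟩
    haveI : IsIso (L.map (i.map m)) :=
      Localization.inverts L _ _ ((inverseImage_isoModSerre_iff i J m).mp hm)
    haveI : IsIso (L.map (i.map q)) :=
      Localization.inverts L _ _ ((inverseImage_isoModSerre_iff i J q).mp hq)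
    rw [← cancel_epi (L.map (i.map m)), ← cancel_mono (L.map (i.map q))]
    have hL : ∀ {Z : A'} (c : Z ⟶ X), L.map (i.map c) ≫ e.inv.app X = e.inv.app Z ≫ Φ.map (L'.map c) :=
      fun c => e.inv.naturality c
    have hR : ∀ {Z : A'} (c : Y ⟶ Z), e.hom.app Y ≫ L.map (i.map c) = Φ.map (L'.map c) ≫ e.hom.app Z :=
      fun c => (e.hom.naturality c).symm
    simp only [Category.assoc]
    rw [reassoc_of% (hL m), hR q, ← Φ.map_comp_assoc, ← Φ.map_comp_assoc, hgh]
    simp [nat]
  · refine ⟨fun {U V} u v huv => ?_⟩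
    let eX := L'.objObjPreimageIso U
    let eY := L'.objObjPreimageIso V
    suffices h : ∀ {X Y : A'} (u v : L'.obj X ⟶ L'.obj Y), Φ.map u = Φ.map v → u = v by
      have := h (eX.hom ≫ u ≫ eY.inv) (eX.hom ≫ v ≫ eY.inv) (by simp [huv])
      rwa [cancel_epi, cancel_mono] at this
    intro X Y u v huv
    obtain ⟨α, hα⟩ := Localization.exists_rightFraction L' (J.inverseImage i).isoModSerre u
    haveI := hiso α.s α.hs
    obtain ⟨β, hβ⟩ := Localization.exists_rightFraction L' (J.inverseImage i).isoModSerre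
      (L'.map α.s ≫ v)
    haveI := hiso β.s β.hs
    have hu : L'.map β.s ≫ L'.map α.s ≫ u = L'.map (β.s ≫ α.f) := by
      rw [hα, MorphismProperty.RightFraction.map_s_comp_map, ← L'.map_comp]
    have hv : L'.map β.s ≫ L'.map α.s ≫ v = L'.map β.f := by
      rw [hβ, MorphismProperty.RightFraction.map_s_comp_map]
    rw [← cancel_epi (L'.map α.s), ← cancel_epi (L'.map β.s), hu, hv]
    apply h0
    have : Φ.map (L'.map (β.s ≫ α.f)) = Φ.map (L'.map β.f) := by
      rw [← hu, ← hv, Φ.map_comp, Φ.map_comp, Φ.map_comp, Φ.map_comp, huv]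
    rw [nat, nat, cancel_epi, cancel_mono] at this
    exact this

end Groth.Agent.S13989
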