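import Groth.Statements.S13996
import Groth.Agent.CAlgH3.Serre

set_option autoImplicit false
universe u
open CAlg

namespace Groth.Agent.S13996

/-- Let R be a reduced Noetherian local ring of Krull dimension one with maximal ideal m, and M a
non-zero finitely generated R-module. Then M is torsion-free in the sense that no element of m which
is a non-zero-divisor on R is a zero-divisor on M, if and only if M has depth one, i.e. some element
of m is a non-zero-divisor on M. (The published statement is for a non-zero coherent sheaf F on a
connected reduced projective curve over a characteristic-zero algebraically closed field and asserts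
the equivalence of: F torsion-free in the above sense at every closed point; F pure of dimension
one; depth of F_p equal to one at every closed point p. This row is the equivalence of the first and
third conditions at a single closed point p with F_p ≠ 0; at points outside the support the third
condition as published cannot hold, so the row assumes the stalk non-zero.) -/
theorem result (R : Type u) [CommRing R] [IsLocalRing R] [IsNoetherianRing R] [IsReduced R] (hdim : ringKrullDim R = 1) (M : Type u) [AddCommGroup M] [Module R M] [Module.Finite R M] [Nontrivial M] : (∀ r : R, r ∈ IsLocalRing.maximalIdeal R → IsSMulRegular R r → IsSMulRegular M r) ↔ (∃ x : R, x ∈ IsLocalRing.maximalIdeal R ∧ IsSMulRegular M x) := by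
  have key : (∃ r : R, r ∈ IsLocalRing.maximalIdeal R ∧ IsSMulRegular R r) := by
    have hm : IsLocalRing.maximalIdeal R ∉ associatedPrimes R R := by
      intro hass
      obtain ⟨-, c, hc⟩ := isAssociatedPrime_iff.1 hass
      have hmem : ∀ z ∈ IsLocalRing.maximalIdeal R, z * c = 0 := fun z hz => by
        rw [hc, Submodule.mem_colon_singleton, Submodule.mem_bot] at hz; exact hz
      by_cases hcu : IsUnit c
      · have := ringKrullDim_eq_zero_of_isField (IsLocalRing.isField_iff_maximalIdeal_eq.2
          (eq_bot_iff.2 fun z hz => hcu.mul_left_eq_zero.1 (hmem z hz) : IsLocalRing.maximalIdeal R = ⊥))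
        rw [this] at hdim
        exact absurd hdim (by decide)
      · have := IsReduced.eq_zero c ⟨2, by rw [pow_two]; exact hmem c hcu⟩
        subst this
        exact (IsLocalRing.maximalIdeal.isMaximal R).ne_top (eq_top_iff.2 fun z _ => hc ▸ Submodule.mem_colon_singleton.2 (by simp))
    exact CAlgH3.exists_regular_iff_notMem_associatedPrimes.2 hm
  constructor
  · intro h
    obtain ⟨r, hr, hreg⟩ := key
    exact ⟨r, hr, h r hr hreg⟩
  · rintro hex r hr hreg
    have hm := CAlgH3.exists_regular_iff_notMem_associatedPrimes.1 hex
    rw [isSMulRegular_iff_right_eq_zero_of_smul]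
    intro z hz
    by_contra hz0
    have : r ∈ ⋃ q ∈ associatedPrimes R M, (q : Set R) := by
      rw [biUnion_associatedPrimes_eq_zero_divisors]; exact ⟨z, hz0, hz⟩
    simp only [Set.mem_iUnion, SetLike.mem_coe] at this
    obtain ⟨q, hq, hrq⟩ := this
    have hqp : q.IsPrime := IsAssociatedPrime.isPrime hq
    have hlt : q < IsLocalRing.maximalIdeal R :=
      lt_of_le_of_ne (IsLocalRing.le_maximalIdeal hqp.ne_top) fun e => hm (e ▸ hq)
    obtain ⟨P, hP, hPq⟩ := Ideal.exists_minimalPrimes_le (bot_le : ⊥ ≤ q)
    have := hP.1.1
    have hPq' : P = q := by
      by_contra hne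
      have h1 := Ideal.height_add_one_le_of_lt_of_isPrime (lt_of_le_of_ne hPq hne)
      have h2 := (add_le_add h1 le_rfl).trans (Ideal.height_add_one_le_of_lt_of_isPrime hlt)
      have h3 : (IsLocalRing.maximalIdeal R).height ≤ 1 := by
        rw [← WithBot.coe_le_coe, IsLocalRing.maximalIdeal_height_eq_ringKrullDim, hdim]; rfl
      exact absurd (le_trans (add_le_add le_add_self le_rfl) (h2.trans h3)) (by decide)
    subst hPq'
    obtain ⟨y, hy, hry⟩ := Ideal.exists_mul_mem_of_mem_minimalPrimes hP hrq
    exact hy (by simpa using hreg.right_eq_zero_of_smul (by simpa using hry : r • y = 0))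

end Groth.Agent.S13996
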