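import Groth.Statements.S14001
import Groth.Agent.KZeroLib.KoszulPoint
import Mathlib

set_option autoImplicit false
universe u
open CategoryTheory
attribute [local instance] HasDerivedCategory.standard
open KZero

namespace Groth.Agent.S14001

/-- Let R be a Noetherian local ring whose maximal ideal is generated by an R-regular sequence f_1, …,
f_n. Let K_0 be the Grothendieck group of the full triangulated subcategory of D(R) consisting of
the perfect complexes all of whose cohomology modules are supported at the closed point (the perfect
complexes acyclic off the closed point): the free abelian group on these objects modulo the
relations of distinguished triangles with all three vertices in the subcategory. Then K_0 is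
generated by the class of the Koszul complex of f_1, …, f_n. -/
theorem result (R : Type u) [CommRing R]
    [IsNoetherianRing R] [IsLocalRing R] (fs : List R) (hreg : RingTheory.Sequence.IsRegular R fs)
    (hgen : Ideal.ofList fs = IsLocalRing.maximalIdeal R) :
    AddSubgroup.closure
        {KZero.clTr (fun K : Dual.D R => DRing.IsPerfect R K ∧
            ∀ i : ℤ, Module.support R (Dual.HD R K i) ⊆ {IsLocalRing.closedPoint R})
          (DRing.toD (Koszul.koszul R fs))} = ⊤ := by
  exact Groth.Agent.KZeroLib.KoszulPoint.closure_koszul R fs hreg hgen
end Groth.Agent.S14001
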