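import Groth.Statements.S14003
import Groth.Agent.Coherent.DevissageMain
import Groth.Agent.Coherent.DevissageTwoThree
import Groth.Agent.Coherent.DevissageApps
import Groth.Agent.Resolution28.Basic
import Mathlib

set_option autoImplicit false
universe u
open CategoryTheory AlgebraicGeometry
open KZero

namespace Groth.Agent.S14003

/-- Let X be a Noetherian scheme and Y' a closed subset; write K_0 for the Grothendieck group of the
abelian category of coherent O_X-modules with support in Y' (free abelian group on its objects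
modulo the relations of short exact sequences). Let (F_a) be a family of such modules such that for
every irreducible closed subset Z ⊆ Y' with generic point ζ there is an index a with the support of
F_a contained in Z and the stalk of F_a at ζ of length one over the local ring (a one-dimensional
vector space over the residue field). Then the classes of the F_a generate K_0. (The published
statement omits the condition that the support of F_a lie in Z; without it the claim fails already
for the spectrum of a product of two fields, where the modules k_1 ⊕ k_2 ⊕ k_2 and k_1 ⊕ k_1 ⊕ k_2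
have one-dimensional stalks at the two points but their classes generate a subgroup of index 3 in
K_0 = ℤ².) -/
theorem result (X : Scheme.{u}) [IsNoetherian X]
    (Y' : Set X) (hY' : IsClosed Y') {ι : Type u} (F : ι → X.Modules)
    (hF : ∀ a : ι, Coh.IsCoh (F a) ∧ CohB1.support (F a) ⊆ Y')
    (hgen : ∀ (Z : Set X), IsClosed Z → IsIrreducible Z → Z ⊆ Y' → ∀ y : X, closure ({y} : Set X) = Z →
      ∃ a : ι, CohB1.support (F a) ⊆ Z ∧ Module.length (X.presheaf.stalk y) ((F a).presheaf.stalk y) = 1) :
    AddSubgroup.closure (Set.range fun a : ι =>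
        KZero.clSub (fun G : X.Modules => Coh.IsCoh G ∧ CohB1.support G ⊆ Y') (F a)) = ⊤ := by
  open CategoryTheory CategoryTheory.Limits in
  classical
  let P : ObjectProperty X.Modules := fun G : X.Modules => Coh.IsCoh G ∧ CohB1.support G ⊆ Y'
  let H := AddSubgroup.closure (Set.range fun a : ι => KZero.clSub P (F a))
  let K : X.Modules → Prop := fun G => CohB1.support G ⊆ Y' ∧ KZero.clSub P G ∈ H
  have zero_supp : ∀ W : X.Modules, IsZero W → CohB1.support W ⊆ Y' := fun W hW z hz => by
    refine absurd hz ?_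
    rw [Groth.Agent.Coherent.notMem_support_iff]
    exact Functor.map_isZero _ hW
  have cl_zero : ∀ W : X.Modules, IsZero W → KZero.clSub P W = 0 := by
    intro W hW
    have hS : (ShortComplex.mk (𝟙 W) (0 : W ⟶ W) comp_zero).ShortExact :=
      ShortComplex.ShortExact.mk' (ShortComplex.exact_of_isZero_X₂ _ hW) inferInstance
        ⟨fun _ _ _ => hW.eq_of_src _ _⟩
    have hP : P W := ⟨Groth.Agent.Coherent.isCoh_of_isZero hW, zero_supp W hW⟩
    exact left_eq_add.1 (Groth.Agent.Resolution28.clSub_rel hS hP hP hP)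
  have cl_iso : ∀ {M N : X.Modules}, (M ≅ N) → P M → P N → KZero.clSub P N = KZero.clSub P M := by
    intro M N e hM hN
    obtain ⟨W, hW⟩ := HasZeroObject.zero (C := X.Modules)
    have hS : (ShortComplex.mk e.hom (0 : N ⟶ W) comp_zero).ShortExact :=
      ShortComplex.ShortExact.mk' ((ShortComplex.exact_iff_epi _ rfl).2 inferInstance) inferInstance
        ⟨fun _ _ _ => hW.eq_of_src _ _⟩
    rw [Groth.Agent.Resolution28.clSub_rel hS hM hN ⟨Groth.Agent.Coherent.isCoh_of_isZero hW, zero_supp W hW⟩]
    show _ + KZero.clSub P W = _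
    rw [cl_zero W hW, add_zero]
  have supp_iso : ∀ {M N : X.Modules}, (M ≅ N) → CohB1.support N ⊆ CohB1.support M := fun e =>
    Groth.Agent.Coherent.support_subset_of_epi e.hom
  have hK : Groth.Agent.Coherent.DevClass K := by
    refine ⟨fun {M N} e h => ⟨(supp_iso e).trans h.1, ?_⟩, fun W hW => ⟨zero_supp W hW, ?_⟩, fun S hS h₁ h₂ h₃ => ?_⟩
    · by_cases hN : P N
      · have hM : P M := ⟨Groth.Agent.Coherent.isCoh_iso e.symm hN.1, h.1⟩
        rw [cl_iso e hM hN]; exact h.2
      · rw [KZero.clSub, dif_neg hN]; exact zero_mem _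
    · rw [cl_zero W hW]; exact zero_mem _
    · haveI := hS.mono_f
      haveI := hS.epi_g
      have s13 : CohB1.support S.X₂ ⊆ Y' → CohB1.support S.X₁ ⊆ Y' ∧ CohB1.support S.X₃ ⊆ Y' := fun h =>
        ⟨(Groth.Agent.Coherent.support_subset_of_mono S.f).trans h,
          (Groth.Agent.Coherent.support_subset_of_epi S.g).trans h⟩
      have s2 : CohB1.support S.X₁ ⊆ Y' → CohB1.support S.X₃ ⊆ Y' → CohB1.support S.X₂ ⊆ Y' := fun ha hb =>
        (Groth.Agent.Coherent.support_X₂_subset hS).trans (Set.union_subset ha hb)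
      have rel : CohB1.support S.X₂ ⊆ Y' →
          KZero.clSub P S.X₂ = KZero.clSub P S.X₁ + KZero.clSub P S.X₃ := fun h =>
        Groth.Agent.Resolution28.clSub_rel hS ⟨h₁, (s13 h).1⟩ ⟨h₂, h⟩ ⟨h₃, (s13 h).2⟩
      refine ⟨fun k1 k2 => ⟨(s13 k2.1).2, ?_⟩, fun k1 k3 => ⟨s2 k1.1 k3.1, ?_⟩, fun k2 k3 => ⟨(s13 k2.1).1, ?_⟩⟩
      · rw [show KZero.clSub P S.X₃ = KZero.clSub P S.X₂ - KZero.clSub P S.X₁ by rw [rel k2.1, add_sub_cancel_left]]
        exact sub_mem k2.2 k1.2
      · rw [rel (s2 k1.1 k3.1)]; exact add_mem k1.2 k3.2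
      · rw [show KZero.clSub P S.X₁ = KZero.clSub P S.X₂ - KZero.clSub P S.X₃ by rw [rel k2.1, add_sub_cancel_right]]
        exact sub_mem k2.2 k3.2
  have main : ∀ G : X.Modules, Coh.IsCoh G → CohB1.support G ⊆ Y' → K G := by
    refine Groth.Agent.Coherent.mem_of_support hK.toExt Y' ?_ ⟨Y', hY'⟩ le_rfl
    intro Z hZ hirr hZY y hy Z₀ hZZ₀ hsm
    obtain ⟨a, haZ, hal⟩ := hgen Z hZ hirr hZY y hy
    exact Groth.Agent.Coherent.oneK_of_length_one hK hsm (hF a).1
      ⟨(hF a).2, AddSubgroup.subset_closure ⟨a, rfl⟩⟩ (haZ.trans hZZ₀) hal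
  rw [eq_top_iff]
  rintro x -
  obtain ⟨z, rfl⟩ := QuotientAddGroup.mk_surjective x
  induction z using FreeAbelianGroup.induction_on with
  | zero => exact zero_mem _
  | of G =>
    obtain ⟨G, hG⟩ := G
    have := (main G hG.1 hG.2).2
    rwa [KZero.clSub, dif_pos (show P G from hG)] at this
  | neg X hX => exact neg_mem hX
  | add a b ha hb => exact add_mem ha hb
end Groth.Agent.S14003
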