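import Groth.Statements.S14004
import Groth.Agent.FSchLib.Levels
import Mathlib.AlgebraicGeometry.Morphisms.SmoothFiber
import Mathlib.AlgebraicGeometry.Fiber
-- import your own Groth.Agent.* helpers here

set_option autoImplicit false
universe u
open CategoryTheory AlgebraicGeometry
open FSch

namespace Groth.Agent.S14004

open CategoryTheory CategoryTheory.Limits AlgebraicGeometry in
theorem fiber_of_thick' {U V U₀ V₀ : Scheme.{u}} {jU : U₀ ⟶ U} {h₀ : U₀ ⟶ V₀} {h : U ⟶ V} {jV : V₀ ⟶ V}
    {P : MorphismProperty Scheme.{u}} [P.IsStableUnderBaseChange]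
    (sq : IsPullback jU h₀ h jV) [IsClosedImmersion jV] [Surjective jV] (hP : P h₀) (v : V) :
    P (h.fiberToSpecResidueField v) := by
  obtain ⟨v₀, rfl⟩ := jV.surjective v
  let i := V.fromSpecResidueField (jV v₀)
  have : IsIso (pullback.snd jV i) := isIso_of_isClosedImmersion_of_surjective _
  let i₀ := inv (pullback.snd jV i) ≫ pullback.fst jV i
  have e : i₀ ≫ jV = i := by simp [i₀, pullback.condition]
  let l := sq.lift (pullback.fst h i) (pullback.snd h i ≫ i₀) (by
    rw [pullback.condition, Category.assoc, e])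
  have big : IsPullback (pullback.fst h i) (pullback.snd h i) h (i₀ ≫ jV) := e ▸ IsPullback.of_hasPullback h i
  have : IsPullback l (pullback.snd h i) h₀ i₀ :=
    IsPullback.of_right (h₁₂ := jU) (by rw [sq.lift_fst]; exact big) (sq.lift_snd _ _ _) sq
  exact MorphismProperty.of_isPullback this hP

open CategoryTheory AlgebraicGeometry in
theorem lfp_of_lft {X Y : Scheme.{u}} (f : X ⟶ Y) [IsLocallyNoetherian Y] [hf : LocallyOfFiniteType f] :
    LocallyOfFinitePresentation f := by
  rw [HasRingHomProperty.iff_appLE (P := @LocallyOfFinitePresentation)]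
  intro U V e
  have := IsLocallyNoetherian.component_noetherian U
  exact RingHom.FinitePresentation.of_finiteType.mp ((HasRingHomProperty.iff_appLE.mp hf) U V e)

/-- Formal schemes are modelled as ℕ-indexed systems of thickenings. Let 𝔛 and 𝔜 be locally Noetherian
adic formal systems and f : 𝔛 ⟶ 𝔜 an adic morphism (every square X_n → X_{n+1}, Y_n → Y_{n+1}
cartesian) all of whose levels f_n : X_n ⟶ Y_n are flat. Then f is smooth, in the sense that every
level f_n is smooth, if and only if the bottom level f_0 is smooth. -/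
theorem result (𝔛 𝔜 : FSch.Sys.{u})
    (h𝔛 : 𝔛.IsLocNoethFormal) (h𝔜 : 𝔜.IsLocNoethFormal) (f : 𝔛 ⟶ 𝔜) (hf : FSch.IsAdicHom f)
    (hflat : ∀ n : ℕ, Flat ((f : FSch.Hom 𝔛 𝔜).app n)) :
    (∀ n : ℕ, AlgebraicGeometry.Smooth ((f : FSch.Hom 𝔛 𝔜).app n)) ↔
      AlgebraicGeometry.Smooth ((f : FSch.Hom 𝔛 𝔜).app 0) := by
  refine ⟨fun h => h 0, fun h0 n => ?_⟩
  obtain ⟨h1, h2, h3, h4, hk, w⟩ := FSchLib.thickening_data h𝔜 hf n
  have := h𝔜.2.2 n
  haveI := hflat n
  haveI : LocallyOfFiniteType ((f : FSch.Hom 𝔛 𝔜).app n) := by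
    have := FSchLib.locallyOfFiniteType_of_thickening (f := (f : FSch.Hom 𝔛 𝔜).app n) hk w
    exact this
  haveI := lfp_of_lft ((f : FSch.Hom 𝔛 𝔜).app n)
  exact Smooth.of_smooth_fiberToSpecResidueField _ (fiber_of_thick' (FSchLib.isPullback_toX hf n) h0)

end Groth.Agent.S14004
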