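import Mathlib.AlgebraicGeometry.Scheme
import Mathlib.Topology.Sheaves.Stalks
import Mathlib.Algebra.Category.Grp.Basic
import Mathlib.Topology.NoetherianSpace
import Mathlib.Topology.NoetherianSpace
import Mathlib.Topology.Sober
import Mathlib.AlgebraicGeometry.Properties
import Mathlib.Topology.Sheaves.Stalks

set_option autoImplicit false
universe u
namespace CategoryTheory
end CategoryTheory
namespace AlgebraicGeometry
end AlgebraicGeometry
open CategoryTheory AlgebraicGeometry
namespace CohTop
end CohTop
open CohTop

namespace Groth.Agent.S14005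

/-- Take a scheme X with a locally Noetherian underlying topological space, F a sheaf of abelian groups
on X, x a point of X and s an element of the stalk F_x. Then the following are equivalent: (i) s is
the germ of a section t over some open neighbourhood U of x whose support in U is contained in the
closure of {x} (that is, s belongs to the subgroup Γ_x(F) of F_x); (ii) for every generization y ≠ x
of x the image of s under the cospecialisation map F_x → F_y is zero (that is, viewed as a global
section of the inverse image of F on Spec O_{X,x}, s is supported at the closed point). -/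
theorem result {X : Scheme.{u}}
    (hX : ∀ x : X, ∃ U : X.Opens, x ∈ U ∧ TopologicalSpace.NoetherianSpace U)
    (F : TopCat.Sheaf AddCommGrpCat.{u} X.carrier) (x : X) (s : F.presheaf.stalk x) :
    (∃ (U : X.Opens) (hx : x ∈ U) (t : F.presheaf.obj (Opposite.op U)),
        F.presheaf.germ U x hx t = s ∧
          ∀ (u : X) (hu : u ∈ U), F.presheaf.germ U u hu t ≠ 0 → u ∈ closure ({x} : Set X)) ↔
      ∀ (y : X) (h : y ⤳ x), y ≠ x → F.presheaf.stalkSpecializes h s = 0 := by
  open TopologicalSpace Opposite in
  constructor
  · rintro ⟨U, hx, t, rfl, ht⟩ y h hy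
    rw [TopCat.Presheaf.germ_stalkSpecializes_apply]
    by_contra hne
    have hxy : x ⤳ y := specializes_iff_mem_closure.2 (ht y (h.mem_open U.2 hx) hne)
    exact hy (h.antisymm hxy).eq
  · intro hs
    obtain ⟨U₁, hx₁, t₁, rfl⟩ := TopCat.Presheaf.exists_germ_eq _ s
    obtain ⟨U₀, hx₀, hN⟩ := hX x
    let U : X.Opens := U₁ ⊓ U₀
    let t : F.presheaf.obj (op U) := F.presheaf.map (homOfLE inf_le_left : U ⟶ U₁).op t₁
    have hxU : x ∈ U := ⟨hx₁, hx₀⟩
    haveI : NoetherianSpace U := by
      have hU : (U : Set X) ⊆ U₀ := fun _ h => h.2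
      haveI : NoetherianSpace (U₀ : Set X) := hN
      exact (Topology.IsEmbedding.inclusion hU).isInducing.noetherianSpace
    let Z : Set U := {u | F.presheaf.germ U u.1 u.2 t ≠ 0}
    have hZ : IsClosed Z := by
      rw [← isOpen_compl_iff, isOpen_iff_forall_mem_open]
      intro u hu
      have hu' : F.presheaf.germ U u.1 u.2 t = F.presheaf.germ U u.1 u.2 0 := by
        rw [map_zero]; exact not_not.1 hu
      obtain ⟨W, hW, i, j, e⟩ := TopCat.Presheaf.germ_eq F.presheaf u.1 u.2 u.2 t 0 hu'
      refine ⟨Subtype.val ⁻¹' (W : Set X), fun v hv => ?_, W.2.preimage continuous_subtype_val, hW⟩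
      show ¬ (F.presheaf.germ U v.1 v.2 t ≠ 0)
      rw [not_not, ← TopCat.Presheaf.germ_res_apply F.presheaf i v.1 hv t, e,
        TopCat.Presheaf.germ_res_apply F.presheaf j v.1 hv (0 : F.presheaf.obj (op U)), map_zero]
    obtain ⟨S, hSf, hSc, hSi, hSu⟩ :=
      NoetherianSpace.exists_finite_set_isClosed_irreducible hZ
    let bad : Set X := ⋃ C ∈ {C ∈ S | x ∉ closure (Subtype.val '' C)}, closure (Subtype.val '' C)
    have hbad : IsClosed bad :=
      (hSf.subset (Set.sep_subset _ _)).isClosed_biUnion fun _ _ => isClosed_closure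
    have hxbad : x ∉ bad := fun h => by
      simp only [bad, Set.mem_iUnion] at h
      obtain ⟨C, ⟨_, hC⟩, h⟩ := h
      exact hC h
    let V : X.Opens := U ⊓ ⟨badᶜ, hbad.isOpen_compl⟩
    refine ⟨V, ⟨hxU, hxbad⟩, F.presheaf.map (homOfLE inf_le_left : V ⟶ U).op t, ?_, ?_⟩
    · rw [TopCat.Presheaf.germ_res_apply, TopCat.Presheaf.germ_res_apply]
    · intro u hu hne
      rw [TopCat.Presheaf.germ_res_apply] at hne
      have huZ : (⟨u, hu.1⟩ : U) ∈ Z := hne
      obtain ⟨C, hC, huC⟩ := Set.mem_sUnion.1 (hSu ▸ huZ)
      have hmem : u ∈ closure (Subtype.val '' C) := subset_closure ⟨_, huC, rfl⟩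
      by_cases hxC : x ∈ closure (Subtype.val '' C)
      swap
      · exact absurd (Set.mem_biUnion (show C ∈ {C ∈ S | x ∉ closure (Subtype.val '' C)} from
          ⟨hC, hxC⟩) hmem) hu.2
      have hirr : IsIrreducible (closure (Subtype.val '' C : Set X)) :=
        ((hSi C hC).image _ continuous_subtype_val.continuousOn).closure
      obtain ⟨η, hη⟩ := QuasiSober.sober hirr isClosed_closure
      have hηU : η ∈ U := (hη.specializes hmem).mem_open U.2 hu.1
      have hηC : (⟨η, hηU⟩ : U) ∈ C := by
        have : (⟨η, hηU⟩ : U) ∈ closure C := by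
          rw [Topology.IsInducing.subtypeVal.closure_eq_preimage_closure_image]
          exact hη.mem
        exact (hSc C hC).closure_subset this
      have hηZ : (⟨η, hηU⟩ : U) ∈ Z := hSu ▸ Set.mem_sUnion.2 ⟨C, hC, hηC⟩
      by_cases hηx : η = x
      · subst hηx
        rw [← (hη : closure {η} = _)] at hmem
        exact hmem
      · refine absurd ?_ hηZ
        have := hs η (hη.specializes hxC) hηx
        rw [TopCat.Presheaf.germ_stalkSpecializes_apply] at this
        show F.presheaf.germ U η hηU t = 0
        rw [TopCat.Presheaf.germ_res_apply]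
        exact this

end Groth.Agent.S14005
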