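import Groth.Statements.S14006
import Groth.Agent.LiftObs29.Exists
import Groth.Agent.FSchLib.Systems
import Groth.Agent.Coherent.Existence.StrEmbed
import Groth.Agent.AlgSpLib.SmoothLift
-- import your own Groth.Agent.* helpers here

set_option autoImplicit false
set_option backward.isDefEq.respectTransparency.types false
set_option backward.isDefEq.respectTransparency false
set_option linter.style.haveILetI false
universe u
open CategoryTheory AlgebraicGeometry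
open FSch

namespace Groth.Agent.S14006

open CategoryTheory.Limits in
/-- An affine open of a smooth scheme over a closed subscheme lifts to a smooth affine scheme. -/
theorem exists_affine_lift {S X₀ : Scheme.{u}} (I : S.IdealSheafData) (f₀ : X₀ ⟶ I.subscheme) [Smooth f₀]
    (T : S.affineOpens) (O : X₀.Opens) (hO : IsAffineOpen O) (e' : O ≤ f₀ ⁻¹ᵁ (I.subschemeι ⁻¹ᵁ T.1)) :
    ∃ (X : Scheme.{u}) (_ : IsAffine X) (f : X ⟶ T.1.toScheme) (j : O.toScheme ⟶ X), Smooth f ∧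
      IsPullback j (O.ι ≫ f₀) (f ≫ T.1.ι) I.subschemeι := by
  have hT₀ : IsAffineOpen (I.subschemeι ⁻¹ᵁ T.1) := T.2.preimage I.subschemeι
  letI := (I.subschemeι.app T.1).hom.toAlgebra
  letI := (f₀.appLE (I.subschemeι ⁻¹ᵁ T.1) O e').hom.toAlgebra
  letI := ((f₀.appLE (I.subschemeι ⁻¹ᵁ T.1) O e').hom.comp (I.subschemeι.app T.1).hom).toAlgebra
  haveI : IsScalarTower Γ(S, T.1) Γ(I.subscheme, I.subschemeι ⁻¹ᵁ T.1) Γ(X₀, O) :=
    IsScalarTower.of_algebraMap_eq fun _ => rfl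
  haveI : Algebra.Smooth Γ(I.subscheme, I.subschemeι ⁻¹ᵁ T.1) Γ(X₀, O) := f₀.smooth_appLE hT₀ hO e'
  obtain ⟨B, _, _, hB, q, hq, hk⟩ := CAlgH.IndSmoothSquareZero.exists_smooth_lift' (R := Γ(S, T.1))
    (R₀ := Γ(I.subscheme, I.subschemeι ⁻¹ᵁ T.1)) (A₀ := Γ(X₀, O)) (I.subschemeι.app_surjective T.1 T.2)
  have hpo := AlgSpLib.ThickAff.isPushout_of_surjective_of_ker (algebraMap Γ(S, T.1) B) (I.subschemeι.app T.1).hom
    q.toRingHom (f₀.appLE (I.subschemeι ⁻¹ᵁ T.1) O e').hom (RingHom.ext q.commutes)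
    (I.subschemeι.app_surjective T.1 T.2) hq hk
  have h1 := isPullback_SpecMap_of_isPushout _ _ _ _ hpo
  have h2 : IsPullback (Spec.map (I.subschemeι.app T.1)) hT₀.fromSpec T.2.fromSpec I.subschemeι :=
    IsOpenImmersion.isPullback _ _ _ _
      (by rw [Scheme.Hom.app_eq_appLE, IsAffineOpen.SpecMap_appLE_fromSpec])
      (by rw [T.2.opensRange_fromSpec, hT₀.opensRange_fromSpec])
  refine ⟨Spec (CommRingCat.of B), inferInstance,
    Spec.map (CommRingCat.ofHom (algebraMap Γ(S, T.1) B)) ≫ T.2.isoSpec.inv,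
    hO.isoSpec.hom ≫ Spec.map (CommRingCat.ofHom q.toRingHom), ?_, ?_⟩
  · haveI : Smooth (Spec.map (CommRingCat.ofHom (algebraMap Γ(S, T.1) B))) :=
      (HasRingHomProperty.Spec_iff (P := @Smooth)).2 (RingHom.smooth_algebraMap.2 hB)
    infer_instance
  · rw [Category.assoc, IsAffineOpen.isoSpec_inv_ι]
    refine (h1.paste_vert h2).of_iso hO.isoSpec.symm (Iso.refl _) (Iso.refl _) (Iso.refl _) ?_ ?_ (by simp) (by simp)
    · simp
    · simp only [Iso.symm_hom, Iso.refl_hom, Category.comp_id]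
      show Spec.map (f₀.appLE _ O e') ≫ hT₀.fromSpec = hO.isoSpec.inv ≫ O.ι ≫ f₀
      rw [IsAffineOpen.SpecMap_appLE_fromSpec f₀ hT₀ hO e', ← Category.assoc, IsAffineOpen.isoSpec_inv_ι]

/-- Lifting along nil thickenings of affines into smooth affine schemes. -/
theorem exists_lift_nil {X Y Z Z₀ : Scheme.{u}} [IsAffine X] [IsAffine Y] [IsAffine Z] (h : X ⟶ Y) [Smooth h]
    (i : Z₀ ⟶ Z) [IsClosedImmersion i] [Surjective i] (m : Z₀ ⟶ X) (β : Z ⟶ Y) (w : m ≫ h = i ≫ β) :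
    ∃ l : Z ⟶ X, l ≫ h = β ∧ i ≫ l = m := by
  haveI : IsAffine Z₀ := isAffine_of_isAffineHom i
  have hn : ∀ x, i.appTop.hom x = 0 → IsNilpotent x := fun x hx => by
    refine (Scheme.isNilpotent_iff_basicOpen_eq_bot_of_isCompact isCompact_univ x).2 ?_
    refine le_bot_iff.1 fun y hy => ?_
    obtain ⟨y₀, rfl⟩ := i.surjective y
    have h1 : y₀ ∈ i ⁻¹ᵁ Z.basicOpen x := hy
    rw [Scheme.preimage_basicOpen, show (i.app ⊤).hom x = 0 from hx, Scheme.basicOpen_zero] at h1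
    exact h1
  have e1 : h.appTop ≫ m.appTop = β.appTop ≫ i.appTop := by
    rw [← Scheme.Hom.comp_appTop, ← Scheme.Hom.comp_appTop, w]
  letI := h.appTop.hom.toAlgebra
  letI := β.appTop.hom.toAlgebra
  letI := (h.appTop ≫ m.appTop).hom.toAlgebra
  haveI : Algebra.Smooth Γ(Y, ⊤) Γ(X, ⊤) := HasRingHomProperty.appTop (P := @Smooth) h inferInstance
  obtain ⟨q, hq⟩ := AlgSpLib.exists_algHom_lift_of_nil (R := Γ(Y, ⊤))
    (π := ({ i.appTop.hom with commutes' := fun r => congr($e1 r).symm } : Γ(Z, ⊤) →ₐ[Γ(Y, ⊤)] Γ(Z₀, ⊤)))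
    (i.app_surjective ⊤ (isAffineOpen_top Z)) hn
    ({ m.appTop.hom with commutes' := fun r => rfl } : Γ(X, ⊤) →ₐ[Γ(Y, ⊤)] Γ(Z₀, ⊤))
  let q' : Γ(X, ⊤) ⟶ Γ(Z, ⊤) := CommRingCat.ofHom q.toRingHom
  have hq1 : h.appTop ≫ q' = β.appTop := CommRingCat.hom_ext q.comp_algebraMap
  have hq2 : q' ≫ i.appTop = m.appTop := CommRingCat.hom_ext (RingHom.ext fun x => congr($hq x))
  refine ⟨Z.isoSpec.hom ≫ Spec.map q' ≫ X.isoSpec.inv, ?_, ?_⟩
  · rw [← cancel_mono Y.isoSpec.hom, Category.assoc, Category.assoc, Category.assoc,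
      ← Scheme.isoSpec_hom_naturality h, Iso.inv_hom_id_assoc, ← Spec.map_comp, hq1, Scheme.isoSpec_hom_naturality]
  · rw [← cancel_mono X.isoSpec.hom, Category.assoc, Category.assoc, Category.assoc, Iso.inv_hom_id,
      Category.comp_id, ← Category.assoc i, ← Scheme.isoSpec_hom_naturality i, Category.assoc, ← Spec.map_comp,
      hq2, Scheme.isoSpec_hom_naturality]

/-- Formal schemes are modelled as ℕ-indexed systems of thickenings. Let S be a locally Noetherian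
scheme, 𝒥 a quasi-coherent ideal of O_S, 𝔖 the completion of S along 𝒥 (the system of the closed
subschemes defined by the powers 𝒥^{n+1}) and S₀ its bottom level. Let X₀ and Y₀ be schemes smooth
over S₀ via a and b, f : X₀ ⟶ Y₀ a morphism with f ≫ b = a, and x a point of X₀. Then there are an
open neighbourhood U₀ of x and an open V₀ of Y₀ with f(U₀) ⊆ V₀, systems 𝔘 and 𝔙 with adic morphisms
p : 𝔘 ⟶ 𝔖 and q : 𝔙 ⟶ 𝔖 (all squares cartesian) all of whose levels are smooth, a morphism Φ : 𝔘 ⟶ 𝔙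
with Φ ≫ q = p, and isomorphisms of the bottom levels of 𝔘 and 𝔙 with U₀ and V₀, compatible with the
maps to S₀, under which the bottom level of Φ is the restriction U₀ ⟶ V₀ of f. In words: locally on
X₀ the morphism f has a smooth formal lifting over 𝔖. -/
theorem result (S : Scheme.{u}) [IsLocallyNoetherian S]
    (𝒥 : S.IdealSheafData) {X₀ Y₀ : Scheme.{u}}
    (a : X₀ ⟶ (FSch.completionAlong S 𝒥).X 0) (b : Y₀ ⟶ (FSch.completionAlong S 𝒥).X 0)
    [AlgebraicGeometry.Smooth a] [AlgebraicGeometry.Smooth b] (f : X₀ ⟶ Y₀) (w : f ≫ b = a) (x : X₀) :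
    ∃ (U₀ : X₀.Opens) (V₀ : Y₀.Opens) (hU : x ∈ U₀) (hUV : U₀ ≤ f ⁻¹ᵁ V₀)
      (𝔘 𝔙 : FSch.Sys.{u}) (p : 𝔘 ⟶ FSch.completionAlong S 𝒥) (q : 𝔙 ⟶ FSch.completionAlong S 𝒥)
      (Φ : 𝔘 ⟶ 𝔙) (eU : 𝔘.X 0 ≅ U₀.toScheme) (eV : 𝔙.X 0 ≅ V₀.toScheme),
      Φ ≫ q = p ∧ FSch.IsAdicHom p ∧ FSch.IsAdicHom q ∧
      (∀ n : ℕ, AlgebraicGeometry.Smooth ((p : FSch.Hom 𝔘 _).app n)) ∧
      (∀ n : ℕ, AlgebraicGeometry.Smooth ((q : FSch.Hom 𝔙 _).app n)) ∧
      eU.hom ≫ U₀.ι ≫ a = (p : FSch.Hom 𝔘 _).app 0 ∧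
      eV.hom ≫ V₀.ι ≫ b = (q : FSch.Hom 𝔙 _).app 0 ∧
      (Φ : FSch.Hom 𝔘 𝔙).app 0 ≫ eV.hom = eU.hom ≫ f.resLE V₀ U₀ hUV := by
  let I := 𝒥 ^ (0 + 1)
  let K := 𝒥
  obtain ⟨_, ⟨(W : S.Opens), hW, rfl⟩, hxW, -⟩ := S.isBasis_affineOpens.exists_subset_of_mem_open
    (Set.mem_univ (I.subschemeι (a x))) isOpen_univ
  have hfx : b (f x) = a x := by rw [← Scheme.Hom.comp_apply, w]
  obtain ⟨_, ⟨(V₀ : Y₀.Opens), hV₀, rfl⟩, hV, hV'⟩ := Y₀.isBasis_affineOpens.exists_subset_of_mem_open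
    (show f x ∈ b ⁻¹ᵁ (I.subschemeι ⁻¹ᵁ W) by show I.subschemeι (b (f x)) ∈ W; rw [hfx]; exact hxW)
    (b ⁻¹ᵁ (I.subschemeι ⁻¹ᵁ W)).isOpen
  obtain ⟨_, ⟨(U₀ : X₀.Opens), hU₀, rfl⟩, hU, hU'⟩ := X₀.isBasis_affineOpens.exists_subset_of_mem_open
    (show x ∈ f ⁻¹ᵁ V₀ from hV) (f ⁻¹ᵁ V₀).isOpen
  have hUV : U₀ ≤ f ⁻¹ᵁ V₀ := hU'
  have eU' : U₀ ≤ a ⁻¹ᵁ (I.subschemeι ⁻¹ᵁ W) := fun z hz => by
    have := hV' (hU' hz)
    show I.subschemeι (a z) ∈ W
    rwa [← w]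
  obtain ⟨U, _, gU, jU, _, hcU⟩ := exists_affine_lift I a ⟨W, hW⟩ U₀ hU₀ eU'
  obtain ⟨V, _, gV, jV, _, hcV⟩ := exists_affine_lift I b ⟨W, hW⟩ V₀ hV₀ hV'
  haveI : IsAffine W.toScheme := hW
  let g := gU ≫ W.ι
  let g' := gV ≫ W.ι
  haveI : Smooth g := inferInstanceAs (Smooth (_ ≫ _))
  haveI : Smooth g' := inferInstanceAs (Smooth (_ ≫ _))
  have hpow : ∀ {T : Scheme.{u}} (t : T ⟶ S), FSch.PowCompat t (K.comap t) K := fun t n =>
    (FSchLib.comap_pow t K (n + 1)).le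
  let p := FSch.completionMap g (K.comap g) K (hpow g)
  let q := FSch.completionMap g' (K.comap g') K (hpow g')
  have hlev : ∀ {T : Scheme.{u}} (t : T ⟶ S) (n : ℕ), IsPullback
      ((FSch.completionMap t (K.comap t) K (hpow t) : FSch.Hom _ _).app n)
      ((K.comap t) ^ (n + 1)).subschemeι (K ^ (n + 1)).subschemeι t := fun t n => by
    have hk : ((K.comap t) ^ (n + 1)).subschemeι.ker = (K ^ (n + 1)).subschemeι.ker.comap t := by
      rw [Scheme.IdealSheafData.ker_subschemeι, Scheme.IdealSheafData.ker_subschemeι, FSchLib.comap_pow]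
    exact Coherent.Existence.isPullback_of_ker_comap (K ^ (n + 1)).subschemeι t ((K.comap t) ^ (n + 1)).subschemeι
      ((FSch.completionMap t (K.comap t) K (hpow t) : FSch.Hom _ _).app n)
      (Scheme.IdealSheafData.subschemeMap_subschemeι _ _ t (Scheme.IdealSheafData.le_map_iff_comap_le.mpr (hpow t n))) hk
  have hι : ∀ {T : Scheme.{u}} (J : T.IdealSheafData) (n : ℕ),
      (FSch.completionAlong T J).ι n ≫ (J ^ (n + 1 + 1)).subschemeι = (J ^ (n + 1)).subschemeι := fun J n =>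
    Scheme.IdealSheafData.inclusion_subschemeι _
  have hadic : ∀ {T : Scheme.{u}} (t : T ⟶ S), FSch.IsAdicHom (FSch.completionMap t (K.comap t) K (hpow t)) := fun t n => by
    refine (IsPullback.of_right (h₁₂ := ((K.comap t) ^ (n + 1 + 1)).subschemeι) (h₂₂ := (K ^ (n + 1 + 1)).subschemeι)
      ?_ ((FSch.completionMap t (K.comap t) K (hpow t) : FSch.Hom _ _).comm n).symm (hlev t (n + 1)).flip)
    rw [hι, hι]
    exact (hlev t n).flip
  have hform : (FSch.completionAlong U (K.comap g)).IsFormal :=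
    (FSchLib.isFormal_isAdic_of_embedding (𝔛 := FSch.completionAlong U (K.comap g))
      (fun n => ((K.comap g) ^ (n + 1)).subschemeι) (hι _) (K.comap g)
      (fun n => Scheme.IdealSheafData.ker_subschemeι _)).1
  have hgW : ∀ n, ((K.comap g) ^ (n + 1)).subschemeι ≫ gU ≫ W.ι =
      (p : FSch.Hom _ _).app n ≫ (K ^ (n + 1)).subschemeι := fun n => (hlev g n).w.symm
  let eU := (hlev g 0).flip.isoIsPullback _ _ hcU
  let eV := (hlev g' 0).flip.isoIsPullback _ _ hcV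
  have step : ∀ (n : ℕ) (φ : { φ : (FSch.completionAlong U (K.comap g)).X n ⟶ V //
      φ ≫ gV = ((K.comap g) ^ (n + 1)).subschemeι ≫ gU }),
      ∃ ψ : { φ : (FSch.completionAlong U (K.comap g)).X (n + 1) ⟶ V //
        φ ≫ gV = ((K.comap g) ^ (n + 1 + 1)).subschemeι ≫ gU },
        (FSch.completionAlong U (K.comap g)).ι n ≫ ψ.1 = φ.1 := fun n φ => by
    haveI := (hform n).1
    haveI : Surjective ((FSch.completionAlong U (K.comap g)).ι n) := ⟨(hform n).2⟩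
    haveI : IsAffine ((FSch.completionAlong U (K.comap g)).X (n + 1)) :=
      isAffine_of_isAffineHom ((K.comap g) ^ (n + 1 + 1)).subschemeι
    obtain ⟨l, hl, hl'⟩ := exists_lift_nil gV ((FSch.completionAlong U (K.comap g)).ι n) φ.1
      (((K.comap g) ^ (n + 1 + 1)).subschemeι ≫ gU) (by rw [φ.2, ← Category.assoc, hι])
    exact ⟨⟨l, hl⟩, hl'⟩
  choose nxt hnxt using step
  let φ₀ : { φ : (FSch.completionAlong U (K.comap g)).X 0 ⟶ V //
      φ ≫ gV = ((K.comap g) ^ (0 + 1)).subschemeι ≫ gU } :=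
    ⟨eU.hom ≫ f.resLE V₀ U₀ hUV ≫ jV, by
      rw [← cancel_mono W.ι]
      simp only [Category.assoc]
      rw [hcV.w]
      simp only [Category.assoc]
      rw [Scheme.Hom.resLE_comp_ι_assoc, ← Category.assoc f, w, ← Category.assoc U₀.ι, ← hcU.w,
        IsPullback.isoIsPullback_hom_fst_assoc]⟩
  let Φs : ∀ n, { φ : (FSch.completionAlong U (K.comap g)).X n ⟶ V //
      φ ≫ gV = ((K.comap g) ^ (n + 1)).subschemeι ≫ gU } := fun n => Nat.rec φ₀ nxt n
  have hΦw : ∀ n, (p : FSch.Hom _ _).app n ≫ (K ^ (n + 1)).subschemeι = (Φs n).1 ≫ g' := fun n =>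
    (hgW n).symm.trans ((Category.assoc _ _ _).symm.trans
      ((congrArg (· ≫ W.ι) (Φs n).2.symm).trans (Category.assoc _ _ _)))
  let L := fun n => (hlev g' n).lift ((p : FSch.Hom _ _).app n) (Φs n).1 (hΦw n)
  have hL : ∀ n, L n ≫ (FSch.completionAlong V (K.comap g')).ι n =
      (FSch.completionAlong U (K.comap g)).ι n ≫ L (n + 1) := fun n => by
    refine (hlev g' (n + 1)).hom_ext ?_ ?_
    · rw [Category.assoc, Category.assoc, (hlev g' (n + 1)).lift_fst,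
        ← (q : FSch.Hom _ _).comm n, ← Category.assoc, (hlev g' n).lift_fst]
      exact (p : FSch.Hom _ _).comm n
    · rw [Category.assoc, Category.assoc, (hlev g' (n + 1)).lift_snd, hι, (hlev g' n).lift_snd]
      exact (hnxt n (Φs n)).symm
  refine ⟨U₀, V₀, hU, hUV, FSch.completionAlong U (K.comap g), FSch.completionAlong V (K.comap g'), p, q,
    (⟨L, hL⟩ : FSch.Hom _ _), eU, eV, FSch.Hom.ext (funext fun n => (hlev g' n).lift_fst _ _ _),
    hadic g, hadic g', fun n => MorphismProperty.of_isPullback (P := @Smooth) (hlev g n).flip inferInstance,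
    fun n => MorphismProperty.of_isPullback (P := @Smooth) (hlev g' n).flip inferInstance, ?_, ?_, ?_⟩
  · exact IsPullback.isoIsPullback_hom_snd _ _ _ _
  · exact IsPullback.isoIsPullback_hom_snd _ _ _ _
  · refine hcV.hom_ext ?_ ?_
    · show (L 0 ≫ eV.hom) ≫ jV = (eU.hom ≫ f.resLE V₀ U₀ hUV) ≫ jV
      rw [Category.assoc, IsPullback.isoIsPullback_hom_fst, (hlev g' 0).lift_snd, Category.assoc]
      rfl
    · show (L 0 ≫ eV.hom) ≫ V₀.ι ≫ b = (eU.hom ≫ f.resLE V₀ U₀ hUV) ≫ V₀.ι ≫ b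
      rw [Category.assoc, IsPullback.isoIsPullback_hom_snd, (hlev g' 0).lift_fst, Category.assoc,
        Scheme.Hom.resLE_comp_ι_assoc, w]
      exact (IsPullback.isoIsPullback_hom_snd _ _ _ _).symm

end Groth.Agent.S14006
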