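import Groth.Statements.S14016
import Groth.Agent.EtCmp.Derived
-- import your own Groth.Agent.* helpers here

set_option autoImplicit false
open CategoryTheory CategoryTheory.Limits AlgebraicGeometry Opposite
universe u
open ProEtS

namespace Groth.Agent.S14016

/-- Let X be a scheme and S a weak Serre subcategory of the abelian sheaves on the small étale site of
X, i.e. a property of objects holding for a zero object and closed under kernels, cokernels and
extensions. Then the essential image of S under the pullback ε⁻¹ to the small pro-étale site (the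
abelian pro-étale sheaves isomorphic to ε⁻¹G for some G satisfying S) is again a weak Serre
subcategory, now of the abelian sheaves on the small pro-étale site of X. (Continuity of the
inclusion of the étale site into the pro-étale site is carried as a binder.) -/
theorem result
    (X : Scheme.{u}) [ProEtS.EpsCont X]
    (S : ObjectProperty (EtCoh.Ab X)) [WSerre.IsWeakSerre S] :
    WSerre.IsWeakSerre (fun F : ProEtS.AbP X => ∃ G : EtCoh.Ab X, S G ∧ Nonempty ((ProEtS.epsPull X).obj G ≅ F)) := by
  haveI := (Groth.Agent.EtCmp.fullyFaithful_epsPull X).full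
  haveI := (Groth.Agent.EtCmp.fullyFaithful_epsPull X).faithful
  exact
    { exists_zero := by
        obtain ⟨Z, hZ, hS⟩ := S.exists_prop_of_containsZero
        exact ⟨(ProEtS.epsPull X).obj Z, (ProEtS.epsPull X).map_isZero hZ, Z, hS, ⟨Iso.refl _⟩⟩
      kernels_le := by
        rintro K hK
        obtain ⟨f, k, hk, ⟨G₁, h₁, ⟨e₁⟩⟩, ⟨G₂, h₂, ⟨e₂⟩⟩⟩ := hK
        obtain ⟨g, hg⟩ := (ProEtS.epsPull X).map_surjective (e₁.hom ≫ f ≫ e₂.inv)
        refine ⟨kernel g, S.prop_kernel g h₁ h₂, ⟨PreservesKernel.iso _ g ≪≫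
          kernel.mapIso ((ProEtS.epsPull X).map g) f e₁ e₂ (by rw [hg]; simp) ≪≫
          (kernelIsKernel f).conePointUniqueUpToIso hk⟩⟩
      cokernels_le := by
        rintro K hK
        obtain ⟨f, k, hk, ⟨G₁, h₁, ⟨e₁⟩⟩, ⟨G₂, h₂, ⟨e₂⟩⟩⟩ := hK
        obtain ⟨g, hg⟩ := (ProEtS.epsPull X).map_surjective (e₁.hom ≫ f ≫ e₂.inv)
        refine ⟨cokernel g, S.prop_cokernel g h₁ h₂, ⟨PreservesCokernel.iso _ g ≪≫
          cokernel.mapIso ((ProEtS.epsPull X).map g) f e₁ e₂ (by rw [hg]; simp) ≪≫
          (cokernelIsCokernel f).coconePointUniqueUpToIso hk⟩⟩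
      prop_X₂_of_shortExact := by
        rintro T hT ⟨G₁, h₁, ⟨e₁⟩⟩ ⟨G₃, h₃, ⟨e₃⟩⟩
        let adj := ProEtS.epsAdj X
        have hr : IsZero (((ProEtS.epsPush X).rightDerived 1).obj T.X₁) :=
          (Groth.Agent.EtCmp.isZero_rightDerived_pull G₁ 0).of_iso
            (((ProEtS.epsPush X).rightDerived 1).mapIso e₁.symm)
        haveI := hT.mono_f
        have hep : Epi ((ProEtS.epsPush X).map T.g) := by
          let _ := HasDerivedCategory.standard (ProEtS.AbP X)
          exact Groth.Agent.SpecSeq.epi_map_of_isZero_rightDerived_one hT hr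
        have hT' : (T.map (ProEtS.epsPush X)).ShortExact :=
          { exact := hT.exact.map_of_mono_of_preservesKernel _ hT.mono_f inferInstance
            mono_f := inferInstanceAs (Mono ((ProEtS.epsPush X).map T.f))
            epi_g := hep }
        have m₁ : S ((ProEtS.epsPush X).obj T.X₁) :=
          S.prop_of_iso (asIso (adj.unit.app G₁) ≪≫ (ProEtS.epsPush X).mapIso e₁) h₁
        have m₃ : S ((ProEtS.epsPush X).obj T.X₃) :=
          S.prop_of_iso (asIso (adj.unit.app G₃) ≪≫ (ProEtS.epsPush X).mapIso e₃) h₃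
        refine ⟨(ProEtS.epsPush X).obj T.X₂, S.prop_X₂_of_shortExact hT' m₁ m₃, ?_⟩
        let T' := (T.map (ProEtS.epsPush X)).map (ProEtS.epsPull X)
        let φ : T' ⟶ T :=
          { τ₁ := adj.counit.app _
            τ₂ := adj.counit.app _
            τ₃ := adj.counit.app _
            comm₁₂ := (adj.counit.naturality T.f).symm
            comm₂₃ := (adj.counit.naturality T.g).symm }
        haveI : IsIso φ.τ₁ := adj.isIso_counit_app_of_iso e₁.symm
        haveI : IsIso φ.τ₃ := adj.isIso_counit_app_of_iso e₃.symm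
        have h2 : IsIso φ.τ₂ := ShortComplex.isIso₂_of_shortExact_of_isIso₁₃ φ (hT'.map_of_exact (ProEtS.epsPull X)) hT
        exact ⟨@asIso _ _ _ _ φ.τ₂ h2⟩ }

end Groth.Agent.S14016
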