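import Mathlib.CategoryTheory.Sites.Sheaf
import Mathlib.CategoryTheory.Limits.IsLimit
import Mathlib.CategoryTheory.Types.Basic
import Mathlib.CategoryTheory.Sites.LocallySurjective
import Mathlib.CategoryTheory.Sites.Limits

set_option autoImplicit false
namespace CategoryTheory
end CategoryTheory
namespace CategoryTheory.Limits
end CategoryTheory.Limits
namespace Opposite
end Opposite
open CategoryTheory CategoryTheory.Limits Opposite
universe w v u
namespace CohSite
end CohSite
open CohSite

namespace Groth.Agent.S14018

/-- Let (C, J) be a site with enough weakly contractible objects — every object V has a covering sieve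
all of whose arrows factor through some weakly contractible object, an object U being weakly
contractible when every epimorphism of sheaves of sets (valued in a fixed universe) is surjective on
sections over U. Then the topos of sheaves of sets is replete: if (F_n) is an inverse system of
sheaves of sets indexed by ℕ with every transition map F_(n+1) ⟶ F_n an epimorphism, then each
projection lim_n F_n ⟶ F_n is an epimorphism; the limit is taken as any limit cone. (The small
pro-étale site of a scheme is such a site.) -/
theorem result
    {C : Type u} [Category.{v} C] (J : GrothendieckTopology C)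
    (hwc : ∀ V : C, ∃ S : Sieve V, S ∈ J V ∧ ∀ ⦃W : C⦄ (f : W ⟶ V), S.arrows f →
      ∃ (U : C) (g : W ⟶ U) (h : U ⟶ V), (∀ (A B : Sheaf J (Type w)) (ψ : A ⟶ B), Epi ψ → Function.Surjective (ψ.hom.app (op U))) ∧ g ≫ h = f)
    (F : ℕᵒᵖ ⥤ Sheaf J (Type w))
    (hF : ∀ n : ℕ, Epi (F.map (homOfLE (Nat.le_succ n)).op))
    (c : Cone F) (hc : IsLimit c) (n : ℕ) :
    Epi (c.π.app (op n)) := by
  classical
  haveI : Presheaf.IsLocallySurjective J (c.π.app (op n)).hom := by
    refine ⟨fun {V} s => ?_⟩
    obtain ⟨S, hS, hS'⟩ := hwc V
    refine J.superset_covering ?_ hS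
    intro W f hf
    obtain ⟨U, g, h, hU, rfl⟩ := hS' f hf
    have hsurj : ∀ k, Function.Surjective ((F.map (homOfLE (Nat.le_succ k)).op).hom.app (op U)) :=
      fun k => hU _ _ _ (hF k)
    let G := F ⋙ sheafToPresheaf J _ ⋙ (evaluation _ _).obj (op U)
    have hG : IsLimit ((sheafToPresheaf J _ ⋙ (evaluation _ _).obj (op U)).mapCone c) :=
      isLimitOfPreserves _ hc
    let s₀ : G.obj (op n) := (F.obj (op n)).obj.map h.op s
    let up : ∀ k, G.obj (op (n + k)) := fun k => Nat.rec s₀
      (fun k a => (hsurj (n + k) a).choose) k
    have hup : ∀ k, G.map (homOfLE (Nat.le_succ (n + k))).op (up (k + 1)) = up k := fun k =>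
      (hsurj (n + k) (up k)).choose_spec
    let sec : ∀ j : ℕᵒᵖ, G.obj j := fun j =>
      G.map (homOfLE (show j.unop ≤ n + j.unop by omega)).op (up j.unop)
    have hcomp : ∀ {a b c : ℕ} (p : a ≤ b) (q : b ≤ c) (x : G.obj (op c)),
        G.map (homOfLE p).op (G.map (homOfLE q).op x) = G.map (homOfLE (p.trans q)).op x := by
      intro a b c p q x
      rw [← Functor.map_comp_apply]
      rfl
    have hle : ∀ k d, G.map (homOfLE (show n + k ≤ n + (k + d) by omega)).op (up (k + d)) = up k := by
      intro k d
      induction d with
      | zero => exact Functor.map_id_apply G _ _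
      | succ d ih =>
        rw [← hcomp (show n + k ≤ n + (k + d) by omega) (Nat.le_succ (n + (k + d)))]
        exact (congrArg _ (hup (k + d))).trans ih
    have hsec : sec ∈ G.sections := by
      rintro ⟨a⟩ ⟨b⟩ f
      obtain ⟨d, rfl⟩ := Nat.exists_eq_add_of_le (leOfHom f.unop)
      change G.map f (G.map (homOfLE _).op (up (b + d))) = G.map (homOfLE _).op (up b)
      rw [show f = (homOfLE (show b ≤ b + d by omega)).op from Subsingleton.elim _ _]
      rw [hcomp, ← hle b d, hcomp]
    obtain ⟨x, hx, -⟩ := (Types.isLimit_iff _).1 ⟨hG⟩ sec hsec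
    have hn : (c.π.app (op n)).hom.app (op U) x = s₀ := by
      refine (hx (op n)).trans ?_
      change G.map (homOfLE _).op (up n) = up 0
      have key : ∀ m (hm : m = 0 + n) (p : n ≤ n + m), G.map (homOfLE p).op (up m) = up 0 := by
        intro m hm p
        subst hm
        exact hle 0 n
      exact key n (by omega) _
    refine ⟨c.pt.obj.map g.op x, ?_⟩
    refine (NatTrans.naturality_apply (c.π.app (op n)).hom g.op x).trans ?_
    refine (congrArg _ hn).trans ?_
    rw [op_comp, Functor.map_comp_apply]
  haveI : Sheaf.IsLocallySurjective (c.π.app (op n)) := this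
  infer_instance

end Groth.Agent.S14018
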