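import Groth.Statements.S14019
import Groth.Agent.Et18.ModEps.Basic
import Groth.Agent.Et18.Mod.Generators
-- import your own Groth.Agent.* helpers here

set_option autoImplicit false
open CategoryTheory CategoryTheory.Limits AlgebraicGeometry Opposite
universe u
open ZeroObject
open EtModW

namespace Groth.Agent.S14019

/-- Let X be a scheme and Λ a Noetherian commutative ring. A sheaf of Λ-modules on the small pro-étale
site of X is called constructible when it is isomorphic to the pro-étale pullback ε⁻¹G of a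
constructible sheaf G of Λ-modules on the small étale site. Then the constructible sheaves form a
weak Serre subcategory of the category of all sheaves of Λ-modules on the small pro-étale site: the
property holds for zero, for the kernel and cokernel of any morphism between constructible sheaves,
and for any extension of two constructible sheaves. (Continuity of the inclusion of the étale site
into the pro-étale site is carried as a binder.) -/
theorem result
    (Λ : Type (u + 1)) [CommRing Λ] [IsNoetherianRing Λ]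
    (X : Scheme.{u}) [ProEtS.EpsCont X] :
    WSerre.IsWeakSerre (fun F : EtModW.ModP Λ X =>
      ∃ E : EtModW.Mod Λ X, EtModW.IsConstructible Λ E ∧ Nonempty ((EtModW.epsPullMod Λ X).obj E ≅ F)) := by
  exact
    { exists_zero := by
        refine ⟨(EtModW.epsPullMod Λ X).obj 0, (EtModW.epsPullMod Λ X).map_isZero (isZero_zero _), 0,
          Groth.Agent.Et18.Mod.isConstructible_of_isZero (isZero_zero _), ⟨Iso.refl _⟩⟩
      kernels_le := by
        rintro K hK
        obtain ⟨f, k, hk, ⟨G₁, h₁, ⟨e₁⟩⟩, ⟨G₂, h₂, ⟨e₂⟩⟩⟩ := hK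
        obtain ⟨g, hg⟩ := (EtModW.epsPullMod Λ X).map_surjective (e₁.hom ≫ f ≫ e₂.inv)
        exact ⟨kernel g, Groth.Agent.Et18.Mod.isConstructible_kernel g h₁ h₂, ⟨PreservesKernel.iso _ g ≪≫
          kernel.mapIso ((EtModW.epsPullMod Λ X).map g) f e₁ e₂ (by rw [hg]; simp) ≪≫
          (kernelIsKernel f).conePointUniqueUpToIso hk⟩⟩
      cokernels_le := by
        rintro K hK
        obtain ⟨f, k, hk, ⟨G₁, h₁, ⟨e₁⟩⟩, ⟨G₂, h₂, ⟨e₂⟩⟩⟩ := hK
        obtain ⟨g, hg⟩ := (EtModW.epsPullMod Λ X).map_surjective (e₁.hom ≫ f ≫ e₂.inv)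
        exact ⟨cokernel g, Groth.Agent.Et18.Mod.isConstructible_cokernel g h₁ h₂, ⟨PreservesCokernel.iso _ g ≪≫
          cokernel.mapIso ((EtModW.epsPullMod Λ X).map g) f e₁ e₂ (by rw [hg]; simp) ≪≫
          (cokernelIsCokernel f).coconePointUniqueUpToIso hk⟩⟩
      prop_X₂_of_shortExact := by
        rintro T hT ⟨G₁, h₁, ⟨e₁⟩⟩ ⟨G₃, h₃, ⟨e₃⟩⟩
        obtain ⟨S, hS, ⟨i₁⟩, ⟨i₃⟩, h⟩ := Groth.Agent.Et18.ModEps.exists_iso_of_extension hT e₁ e₃
        exact ⟨S.X₂, Groth.Agent.Et18.Mod.isConstructible_extension hS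
          (Groth.Agent.Et18.Mod.isConstructible_of_iso h₁ i₁)
          (Groth.Agent.Et18.Mod.isConstructible_of_iso h₃ i₃), h⟩ }

end Groth.Agent.S14019
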