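import Groth.Statements.S14021
import Groth.Agent.Et18.ModEps.EpsBC
-- import your own Groth.Agent.* helpers here

set_option autoImplicit false
open CategoryTheory CategoryTheory.Limits AlgebraicGeometry Opposite
universe u
open EtModW

namespace Groth.Agent.S14021

/-- Let X be a Noetherian scheme, Λ a Noetherian commutative ring, I an ideal of Λ and F an I-adic
pro-étale sheaf of Λ-modules on X, given with its tower of quotient maps F ⟶ Q_n modulo I^(n+1)
(each Q_n isomorphic to the pro-étale pullback of a constructible étale sheaf of Λ-modules, and F ⟶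
lim_n Q_n an isomorphism). Then there is a finite partition of X into locally closed strata, the
images of immersions g_i : T_i ⟶ X, such that F is lisse on every stratum: for all i and n the
pullback of Q_n to the small pro-étale site of T_i is isomorphic to the pro-étale pullback of a
finite-type locally constant sheaf of Λ-modules on the small étale site of T_i. (Continuity of the
inclusions of étale into pro-étale sites and of the base-change functors between pro-étale sites is
carried as binders.) -/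
theorem result
    (Λ : Type (u + 1)) [CommRing Λ] [IsNoetherianRing Λ] (I : Ideal Λ)
    (X : Scheme.{u}) [IsNoetherian X] [∀ T : Scheme.{u}, ProEtS.EpsCont T]
    [∀ (T : Scheme.{u}) (g : T ⟶ X), ProEtS.PCont g]
    (F : EtModW.ModP Λ X) (Q : ℕᵒᵖ ⥤ EtModW.ModP Λ X) (p : (Functor.const ℕᵒᵖ).obj F ⟶ Q)
    (hQ : ∀ n : ℕ, ARSys.IsQuot (I ^ (n + 1)) (p.app (op n)))
    (hc : ∀ n : ℕ, ∃ E : EtModW.Mod Λ X, EtModW.IsConstructible Λ E ∧
      Nonempty ((EtModW.epsPullMod Λ X).obj E ≅ Q.obj (op n)))
    (hlim : IsIso (limit.lift Q (Cone.mk F p))) :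
    ∃ (m : ℕ) (T : Fin m → Scheme.{u}) (g : ∀ i, T i ⟶ X),
      (∀ i, IsImmersion (g i)) ∧
      Pairwise (fun i j => Disjoint (Set.range (fun t => (g i).base t)) (Set.range (fun t => (g j).base t))) ∧
      (⋃ i, Set.range (fun t => (g i).base t)) = Set.univ ∧
      ∀ (i : Fin m) (n : ℕ), ∃ E : EtModW.Mod Λ (T i), EtModW.IsFTLocConst Λ E ∧
          Nonempty ((EtModW.epsPullMod Λ (T i)).obj E ≅ (((ProEtS.bcP (g i)).sheafPullback (ModuleCat.{u + 1} Λ) (Scheme.ProEt.topology X) (Scheme.ProEt.topology (T i)))).obj (Q.obj (op n))) := by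
  have hI : I.FG := IsNoetherian.noetherian I
  obtain ⟨G, hGc, ⟨α⟩⟩ := Et18.ModEps.exists_system hc
  have hG : ARSys.IsAdic I G := by
    refine Et18.ModEps.isAdic_of_epsPull (Et18.ModEps.isAdic_of_quots (p ≫ α.inv) fun n => ?_)
    refine ⟨ARLib.killedBy_of_epi (α.inv.app (op n)) (hQ n).1, fun Y φ hφ => ?_⟩
    obtain ⟨ψ, hψ, hu⟩ := (hQ n).2 Y φ hφ
    refine ⟨α.hom.app (op n) ≫ ψ, ?_, fun χ hχ => ?_⟩
    · exact ((Category.assoc _ _ _).trans (congrArg (fun t => p.app (op n) ≫ t) (α.inv_hom_id_app_assoc _ ψ))).trans hψ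
    · rw [← hu (α.inv.app (op n) ≫ χ) ((Category.assoc _ _ _).symm.trans hχ), Iso.hom_inv_id_app_assoc]
  obtain ⟨ι, _, T, g, hg, hd, hu, hl⟩ := Et18.Mod.part_univ hG hGc
  obtain ⟨m, ⟨e⟩⟩ := Finite.exists_equiv_fin ι
  refine ⟨m, fun i => T (e.symm i), fun i => g (e.symm i), fun i => hg _,
    fun i j hij => hd (fun h => hij (e.symm.injective h)), ?_, fun i n => ⟨_, hl (e.symm i) n, ⟨?_⟩⟩⟩
  · rw [← hu]
    exact e.symm.surjective.iUnion_comp (fun j => Set.range (fun t => (g j).base t))
  · exact (Et18.ModEps.pullEpsIso (g (e.symm i))).app (G.obj (op n)) ≪≫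
      (Et18.ModEps.pullPMod (g (e.symm i))).mapIso (α.app (op n))

end Groth.Agent.S14021
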