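import Groth.Statements.S14022
import Groth.Agent.Et18.ModEps.EpsBC
-- import your own Groth.Agent.* helpers here

set_option autoImplicit false
open CategoryTheory CategoryTheory.Limits AlgebraicGeometry Opposite
universe u
open EtModW

namespace Groth.Agent.S14022

/-- Let X be a Noetherian scheme, Λ a Noetherian commutative ring, I an ideal of Λ and F an I-adic
pro-étale sheaf of Λ-modules on X, given with its tower of quotient maps F ⟶ Q_n modulo I^(n+1)
(each Q_n isomorphic to the pro-étale pullback of a constructible étale sheaf of Λ-modules, and F ⟶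
lim_n Q_n an isomorphism). Then there is a dense open subscheme U of X on which F is lisse: for
every n the pullback of Q_n to the small pro-étale site of U is isomorphic to the pro-étale pullback
of a finite-type locally constant sheaf of Λ-modules on the small étale site of U. (Continuity of
the inclusions of étale into pro-étale sites and of the base-change functors between pro-étale sites
is carried as binders.) -/
theorem result
    (Λ : Type (u + 1)) [CommRing Λ] [IsNoetherianRing Λ] (I : Ideal Λ)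
    (X : Scheme.{u}) [IsNoetherian X] [∀ T : Scheme.{u}, ProEtS.EpsCont T]
    [∀ (T : Scheme.{u}) (g : T ⟶ X), ProEtS.PCont g]
    (F : EtModW.ModP Λ X) (Q : ℕᵒᵖ ⥤ EtModW.ModP Λ X) (p : (Functor.const ℕᵒᵖ).obj F ⟶ Q)
    (hQ : ∀ n : ℕ, ARSys.IsQuot (I ^ (n + 1)) (p.app (op n)))
    (hc : ∀ n : ℕ, ∃ E : EtModW.Mod Λ X, EtModW.IsConstructible Λ E ∧
      Nonempty ((EtModW.epsPullMod Λ X).obj E ≅ Q.obj (op n)))
    (hlim : IsIso (limit.lift Q (Cone.mk F p))) :
    ∃ U : X.Opens, Dense (U : Set X) ∧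
      ∀ n : ℕ, ∃ E : EtModW.Mod Λ (↑U), EtModW.IsFTLocConst Λ E ∧
          Nonempty ((EtModW.epsPullMod Λ (↑U)).obj E ≅ (((ProEtS.bcP U.ι).sheafPullback (ModuleCat.{u + 1} Λ) (Scheme.ProEt.topology X) (Scheme.ProEt.topology (↑U)))).obj (Q.obj (op n))) := by
  have hI : I.FG := IsNoetherian.noetherian I
  obtain ⟨G, hGc, ⟨α⟩⟩ := Et18.ModEps.exists_system hc
  have hG : ARSys.IsAdic I G := by
    refine Et18.ModEps.isAdic_of_epsPull (Et18.ModEps.isAdic_of_quots (p ≫ α.inv) fun n => ?_)
    refine ⟨ARLib.killedBy_of_epi (α.inv.app (op n)) (hQ n).1, fun Y φ hφ => ?_⟩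
    obtain ⟨ψ, hψ, hu⟩ := (hQ n).2 Y φ hφ
    refine ⟨α.hom.app (op n) ≫ ψ, ?_, fun χ hχ => ?_⟩
    · exact ((Category.assoc _ _ _).trans (congrArg (fun t => p.app (op n) ≫ t) (α.inv_hom_id_app_assoc _ ψ))).trans hψ
    · rw [← hu (α.inv.app (op n) ≫ χ) ((Category.assoc _ _ _).symm.trans hχ), Iso.hom_inv_id_app_assoc]
  obtain ⟨U, hU, hl⟩ := Et18.Mod.exists_dense_open_lisse hG hGc
  exact ⟨U, hU, fun n => ⟨_, hl n, ⟨(Et18.ModEps.pullEpsIso U.ι).app (G.obj (op n)) ≪≫
    (Et18.ModEps.pullPMod U.ι).mapIso (α.app (op n))⟩⟩⟩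

end Groth.Agent.S14022
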