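import Mathlib.CategoryTheory.Sites.Over
import Mathlib.CategoryTheory.Sites.Pullback
import Mathlib.CategoryTheory.Types.Basic
import Mathlib.CategoryTheory.Sites.CoverLifting
import Mathlib.CategoryTheory.Sites.Over
import Mathlib.CategoryTheory.Adjunction.Triple
import Mathlib.CategoryTheory.Sites.Pullback

set_option autoImplicit false
namespace CategoryTheory
end CategoryTheory
namespace CategoryTheory.Limits
end CategoryTheory.Limits
namespace Opposite
end Opposite
open CategoryTheory CategoryTheory.Limits Opposite
universe v u
namespace CohSite
end CohSite
open CohSite

namespace Groth.Agent.S14026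

/-- Let C be a site with topology J and U an object of C such that every object has at most one morphism
to U (a subobject of the terminal object). For sheaves of sets, let j^* be restriction to the
localized site C/U and j_! its left adjoint (extension by the empty set), which exists under the
stated sheafification and Kan-extension hypotheses. Then for every sheaf F on C/U the unit morphism
F ⟶ j^* j_! F is an isomorphism. -/
theorem result
    {C : Type u} [Category.{v} C] (J : GrothendieckTopology C) (U : C)
    (hU : ∀ V : C, Subsingleton (V ⟶ U))
    [HasWeakSheafify J (Type (max u v))]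
    [∀ (P : (Over U)ᵒᵖ ⥤ (Type (max u v))), (Over.forget U).op.HasLeftKanExtension P]
    (F : Sheaf (J.over U) (Type (max u v))) :
    IsIso (((Over.forget U).sheafAdjunctionContinuous (Type (max u v)) (J.over U) J).unit.app F) := by
  haveI : ∀ V, Subsingleton (V ⟶ U) := hU
  haveI : (Over.forget U).Full := ⟨fun {X Y} f => ⟨Over.homMk f (Subsingleton.elim _ _), rfl⟩⟩
  haveI : (Over.forget U).op.Full := inferInstance
  let adj₂ := (Over.forget U).sheafAdjunctionCocontinuous (Type (max u v)) (J.over U) J
  haveI : IsIso adj₂.counit := by
    haveI : ∀ G, IsIso (adj₂.counit.app G) := fun G => by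
      haveI : IsIso ((sheafToPresheaf _ (Type (max u v))).map (adj₂.counit.app G)) := by
        show IsIso ((adj₂.counit.app G).hom)
        rw [(Over.forget U).sheafAdjunctionCocontinuous_counit_app_hom]
        have hc : IsIso ((Over.forget U).op.ranCounit.app G.obj) := inferInstance
        rw [Functor.ranAdjunction_counit]
        exact hc
      exact isIso_of_reflects_iso _ (sheafToPresheaf _ (Type (max u v)))
    exact NatIso.isIso_of_isIso_app _
  let t : Adjunction.Triple _ _ _ :=
    { adj₁ := (Over.forget U).sheafAdjunctionContinuous (Type (max u v)) (J.over U) J, adj₂ := adj₂ }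
  haveI : IsIso t.adj₁.unit := t.isIso_unit_iff_isIso_counit.2 inferInstance
  exact inferInstanceAs (IsIso (t.adj₁.unit.app F))

end Groth.Agent.S14026
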