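import Mathlib.CategoryTheory.Sites.Over
import Mathlib.CategoryTheory.Sites.Pullback
import Mathlib.Algebra.Category.Grp.Basic
import Mathlib.CategoryTheory.Sites.CoverLifting
import Mathlib.CategoryTheory.Sites.Over
import Mathlib.CategoryTheory.Adjunction.Triple
import Mathlib.CategoryTheory.Sites.Pullback
import Mathlib.Algebra.Category.Grp.Limits

set_option autoImplicit false
namespace CategoryTheory
end CategoryTheory
namespace CategoryTheory.Limits
end CategoryTheory.Limits
namespace Opposite
end Opposite
open CategoryTheory CategoryTheory.Limits Opposite
universe v u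
namespace CohSite
end CohSite
open CohSite

namespace Groth.Agent.S14027

/-- Let C be a site with topology J and U an object of C such that every object has at most one morphism
to U (a subobject of the terminal object). For abelian sheaves, let j^* be restriction to the
localized site C/U and j_! its left adjoint (extension by zero), which exists under the stated
sheafification and Kan-extension hypotheses. Then for every sheaf F on C/U the unit morphism F ⟶ j^*
j_! F is an isomorphism. -/
theorem result
    {C : Type u} [Category.{v} C] (J : GrothendieckTopology C) (U : C)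
    (hU : ∀ V : C, Subsingleton (V ⟶ U))
    [HasWeakSheafify J AddCommGrpCat.{max u v}]
    [∀ (P : (Over U)ᵒᵖ ⥤ AddCommGrpCat.{max u v}), (Over.forget U).op.HasLeftKanExtension P]
    (F : Sheaf (J.over U) AddCommGrpCat.{max u v}) :
    IsIso (((Over.forget U).sheafAdjunctionContinuous AddCommGrpCat.{max u v} (J.over U) J).unit.app F) := by
  haveI : ∀ V, Subsingleton (V ⟶ U) := hU
  haveI : (Over.forget U).Full := ⟨fun {X Y} f => ⟨Over.homMk f (Subsingleton.elim _ _), rfl⟩⟩
  haveI : (Over.forget U).op.Full := inferInstance
  let adj₂ := (Over.forget U).sheafAdjunctionCocontinuous AddCommGrpCat.{max u v} (J.over U) J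
  haveI : IsIso adj₂.counit := by
    haveI : ∀ G, IsIso (adj₂.counit.app G) := fun G => by
      haveI : IsIso ((sheafToPresheaf _ AddCommGrpCat.{max u v}).map (adj₂.counit.app G)) := by
        show IsIso ((adj₂.counit.app G).hom)
        rw [(Over.forget U).sheafAdjunctionCocontinuous_counit_app_hom]
        have hc : IsIso ((Over.forget U).op.ranCounit.app G.obj) := inferInstance
        rw [Functor.ranAdjunction_counit]
        exact hc
      exact isIso_of_reflects_iso _ (sheafToPresheaf _ AddCommGrpCat.{max u v})
    exact NatIso.isIso_of_isIso_app _
  let t : Adjunction.Triple _ _ _ :=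
    { adj₁ := (Over.forget U).sheafAdjunctionContinuous AddCommGrpCat.{max u v} (J.over U) J, adj₂ := adj₂ }
  haveI : IsIso t.adj₁.unit := t.isIso_unit_iff_isIso_counit.2 inferInstance
  exact inferInstanceAs (IsIso (t.adj₁.unit.app F))

end Groth.Agent.S14027
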