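import Mathlib.CategoryTheory.Sites.Over
import Mathlib.CategoryTheory.Sites.Pullback
import Mathlib.CategoryTheory.Types.Basic
import Groth.Agent.S14026
import Mathlib.CategoryTheory.Sites.EpiMono

set_option autoImplicit false
namespace CategoryTheory
end CategoryTheory
namespace CategoryTheory.Limits
end CategoryTheory.Limits
namespace Opposite
end Opposite
open CategoryTheory CategoryTheory.Limits Opposite
universe v u
namespace CohSite
end CohSite
open CohSite

namespace Groth.Agent.S14029

/-- Let (C, J) be a site and U an object such that every object has at most one morphism to U; assume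
extension by the empty set j_! from sheaves of sets on the localized site C/U to sheaves of sets on
C exists (through sheafification on C and left Kan extensions along C/U → C). If V is weakly
contractible in C — every epimorphism of sheaves of sets on C is surjective on sections over V —
then for any morphism a : V ⟶ U the object V → U of C/U is weakly contractible in C/U: every
epimorphism of sheaves of sets on C/U is surjective on sections over it. Hence C/U has enough weakly
contractible objects when C does. -/
theorem result
    {C : Type u} [Category.{v} C] (J : GrothendieckTopology C) (U : C)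
    (hU : ∀ W : C, Subsingleton (W ⟶ U))
    [HasWeakSheafify J (Type (max u v))]
    [∀ (P : (Over U)ᵒᵖ ⥤ Type (max u v)), (Over.forget U).op.HasLeftKanExtension P]
    (V : C) (hV : (∀ (A B : Sheaf J (Type (max u v))) (ψ : A ⟶ B), Epi ψ → Function.Surjective (ψ.hom.app (op V)))) (a : V ⟶ U) :
    ∀ (A B : Sheaf (J.over U) (Type (max u v))) (ψ : A ⟶ B), Epi ψ →
      Function.Surjective (ψ.hom.app (op (Over.mk a))) := by
  intro A B ψ hψ
  let L := (Over.forget U).sheafPullback (Type (max u v)) (J.over U) J
  let adj := (Over.forget U).sheafAdjunctionContinuous (Type (max u v)) (J.over U) J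
  haveI : L.IsLeftAdjoint := adj.isLeftAdjoint
  haveI : Epi (L.map ψ) := inferInstance
  have hs := hV _ _ (L.map ψ) inferInstance
  intro b
  obtain ⟨t, ht⟩ := hs ((adj.unit.app B).hom.app (op (Over.mk a)) b)
  haveI := Groth.Agent.S14026.result J U hU A
  haveI := Groth.Agent.S14026.result J U hU B
  haveI hA : IsIso ((adj.unit.app A).hom.app (op (Over.mk a))) :=
    inferInstanceAs (IsIso ((asIso (adj.unit.app A)).hom.hom.app (op (Over.mk a))))
  haveI hB : IsIso ((adj.unit.app B).hom.app (op (Over.mk a))) :=
    inferInstanceAs (IsIso ((asIso (adj.unit.app B)).hom.hom.app (op (Over.mk a))))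
  obtain ⟨s, rfl⟩ := ((isIso_iff_bijective _).1 hA).2 t
  refine ⟨s, ((isIso_iff_bijective _).1 hB).1 ?_⟩
  have hn := congrArg (fun t => t.hom.app (op (Over.mk a))) (adj.unit.naturality ψ)
  exact (ConcreteCategory.congr_hom hn s).trans ht

end Groth.Agent.S14029
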