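import Groth.Statements.S1403
import Groth.Agent.FlatMorDim.DimEq

set_option autoImplicit false
universe u
open FlatMor

namespace Groth.Agent.S1403

/-- Let A → B be an injective local homomorphism of local domains with B essentially of finite type and
flat over A. Then dim(B / m_A B) + trdeg_{κ(A)} κ(B) = trdeg_A B; all three quantities are finite
here, and the statement gives them as natural numbers d, e with d + e the transcendence degree of B
over A. -/
theorem result {A B : Type u} [CommRing A] [CommRing B] [IsDomain A] [IsDomain B] [IsLocalRing A] [IsLocalRing B]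
    [Algebra A B] [IsLocalHom (algebraMap A B)] [FaithfulSMul A B] [Algebra.EssFiniteType A B] [Module.Flat A B] :
    ∃ d e : ℕ, ringKrullDim (B ⧸ Ideal.map (algebraMap A B) (IsLocalRing.maximalIdeal A)) = d ∧
      Algebra.trdeg (IsLocalRing.ResidueField A) (IsLocalRing.ResidueField B) = e ∧ Algebra.trdeg A B = (d + e : ℕ) := by
  open Groth.Agent FlatMorDim in
  obtain ⟨⟨P, hP, -, hdim⟩, hle⟩ := DimEq.dim_fibre (A := A) (B := B)
  obtain ⟨P₀, hP₀, hn⟩ := DimEq.exists_le_trd (A := A) (B := B)
  let n := EGA43.FibDepth.trd A (⟨⊥, Ideal.isPrime_bot⟩ : PrimeSpectrum B)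
  let e := EGA43.FibDepth.trd A (IsLocalRing.closedPoint B)
  have h1 : (e : WithBot ℕ∞) + ringKrullDim (B ⧸ Ideal.map (algebraMap A B) (IsLocalRing.maximalIdeal A)) = n := by
    rw [add_comm]
    refine le_antisymm ?_ ?_
    · rw [hdim, DimEq.fibre_formula P hP]
      exact_mod_cast DimEq.trd_le_of_flat P
    · refine le_trans ?_ (add_le_add (hle P₀ hP₀) le_rfl)
      rw [DimEq.fibre_formula P₀ hP₀]
      exact_mod_cast hn
  obtain ⟨d, hd⟩ : ∃ d : ℕ, ringKrullDim (B ⧸ Ideal.map (algebraMap A B) (IsLocalRing.maximalIdeal A)) = d := by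
    generalize ringKrullDim (B ⧸ Ideal.map (algebraMap A B) (IsLocalRing.maximalIdeal A)) = x at h1
    induction x using WithBot.recBotCoe with
    | bot => simp at h1
    | coe x =>
      induction x using ENat.recTopCoe with
      | top =>
        rw [← WithBot.coe_natCast, ← WithBot.coe_natCast, ← WithBot.coe_add, WithBot.coe_inj] at h1
        simp at h1
      | coe d => exact ⟨d, rfl⟩
  refine ⟨d, e, hd, DimEq.trd_closedPoint.symm, ?_⟩
  rw [hd] at h1
  have h2 : e + d = n := by exact_mod_cast h1
  rw [← DimEq.trd_bot, add_comm d e, h2]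

end Groth.Agent.S1403
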