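import Groth.Statements.S14032
import Mathlib.RingTheory.Noetherian.Basic
import Mathlib.RingTheory.Noetherian.Nilpotent
import Mathlib.LinearAlgebra.TensorProduct.Quotient

set_option autoImplicit false
universe u v
open W4c1frobunstiva

namespace Groth.Agent.S14032

open TensorProduct in
/-- Let R be a commutative Noetherian ring with nilradical n, M an R-module and r a natural number. Then
M is NR-free of rank r — generated by r elements such that every linear relation among them has
nilpotent coefficients — if and only if (R/n) ⊗_R M is free of rank r over R/n, in the sense of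
admitting a basis indexed by r elements. (The published statement assumes M finitely generated and
also gives the converse when R is local; over a Noetherian ring the nilradical is nilpotent, the
case used here, and finite generation is not needed.) -/
theorem result (R : Type u) [CommRing R]
    [IsNoetherianRing R] (M : Type v) [AddCommGroup M] [Module R M] (r : ℕ) :
    W4c1frobunstiva.IsNRFree R M r ↔
      Nonempty (Module.Basis (Fin r) (R ⧸ nilradical R) ((R ⧸ nilradical R) ⊗[R] M)) := by
  classical
  obtain ⟨n, hn⟩ : ∃ n : Ideal R, n = nilradical R := ⟨_, rfl⟩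
  subst n
  set n := nilradical R with hn
  let mk : M →ₗ[R] (R ⧸ n) ⊗[R] M := TensorProduct.mk R (R ⧸ n) M 1
  have hmk : ∀ x : M, mk x = (1 : R ⧸ n) ⊗ₜ[R] x := fun _ => rfl
  have hker : ∀ x : M, mk x = 0 ↔ x ∈ (n • ⊤ : Submodule R M) := fun x => by
    rw [hmk]
    constructor
    · intro h
      have h1 := congrArg (TensorProduct.quotTensorEquivQuotSMul M n) h
      rw [map_zero, show (1 : R ⧸ n) = Ideal.Quotient.mk n 1 from rfl,
        TensorProduct.quotTensorEquivQuotSMul_mk_tmul, one_smul] at h1
      exact (Submodule.Quotient.mk_eq_zero _).1 h1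
    · intro h
      refine (TensorProduct.quotTensorEquivQuotSMul M n).injective ?_
      rw [map_zero, show (1 : R ⧸ n) = Ideal.Quotient.mk n 1 from rfl,
        TensorProduct.quotTensorEquivQuotSMul_mk_tmul, one_smul]
      exact (Submodule.Quotient.mk_eq_zero _).2 h
  have hmks : Function.Surjective mk := fun z => by
    obtain ⟨q, hq⟩ := Submodule.Quotient.mk_surjective _ (TensorProduct.quotTensorEquivQuotSMul M n z)
    refine ⟨q, (TensorProduct.quotTensorEquivQuotSMul M n).injective ?_⟩
    rw [← hq, hmk, show (1 : R ⧸ n) = Ideal.Quotient.mk n 1 from rfl,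
      TensorProduct.quotTensorEquivQuotSMul_mk_tmul, one_smul]
  have hsmul : ∀ (c : R) (x : M), (Ideal.Quotient.mk n c) • mk x = mk (c • x) := fun c x => by
    rw [hmk, hmk, TensorProduct.smul_tmul', smul_eq_mul, mul_one, ← TensorProduct.smul_tmul]
    congr 1
    exact (mul_one _).symm
  constructor
  · rintro ⟨m, hspan, hrel⟩
    refine ⟨Module.Basis.mk (v := fun i => mk (m i)) ?_ ?_⟩
    · rw [Fintype.linearIndependent_iff]
      intro g hg i
      choose a ha using fun i => Ideal.Quotient.mk_surjective (g i)
      have h1 : mk (∑ i, a i • m i) = 0 := by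
        rw [map_sum, ← hg]
        exact Finset.sum_congr rfl fun i _ => by rw [← hsmul, ha]
      have h2 := (hker _).1 h1
      rw [← hspan, Submodule.mem_ideal_smul_span_iff_exists_sum] at h2
      obtain ⟨c, hcn, hc⟩ := h2
      rw [Finsupp.sum_fintype _ _ (by simp)] at hc
      have h3 := hrel (fun i => a i - c i) (by simp only [sub_smul, Finset.sum_sub_distrib, hc, sub_self]) i
      rw [← ha i, Ideal.Quotient.eq_zero_iff_mem, ← sub_add_cancel (a i) (c i)]
      exact Ideal.add_mem _ (mem_nilradical.2 h3) (hcn i)
    · rintro z -
      obtain ⟨x, rfl⟩ := hmks z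
      have hx : x ∈ Submodule.span R (Set.range m) := hspan ▸ Submodule.mem_top
      induction hx using Submodule.span_induction with
      | mem y hy => obtain ⟨i, rfl⟩ := hy; exact Submodule.subset_span ⟨i, rfl⟩
      | zero => rw [map_zero]; exact zero_mem _
      | add y z _ _ hy hz => rw [map_add]; exact add_mem hy hz
      | smul c y _ hy => rw [← hsmul]; exact Submodule.smul_mem _ _ hy
  · rintro ⟨b⟩
    choose m hm using fun i => hmks (b i)
    refine ⟨m, ?_, fun a ha i => ?_⟩
    · have hsup : (⊤ : Submodule R M) ≤ Submodule.span R (Set.range m) ⊔ n • ⊤ := by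
        intro x _
        obtain ⟨c, hc⟩ : ∃ c : Fin r → R, mk x = ∑ i, Ideal.Quotient.mk n (c i) • b i := by
          choose c hc using fun i => Ideal.Quotient.mk_surjective (b.repr (mk x) i)
          exact ⟨c, by simp only [hc, b.sum_repr]⟩
        refine Submodule.mem_sup.2 ⟨∑ i, c i • m i, Submodule.sum_mem _ fun i _ =>
          Submodule.smul_mem _ _ (Submodule.subset_span ⟨i, rfl⟩), x - ∑ i, c i • m i, (hker _).1 ?_, by abel⟩
        rw [map_sub, map_sum, hc, sub_eq_zero]
        exact Finset.sum_congr rfl fun i _ => by rw [← hm i, hsmul]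
      obtain ⟨k, hk⟩ := IsNoetherianRing.isNilpotent_nilradical R
      have hpow : ∀ j, (⊤ : Submodule R M) ≤ Submodule.span R (Set.range m) ⊔ n ^ j • ⊤ := by
        intro j
        induction j with
        | zero => rw [pow_zero, Ideal.one_eq_top, Submodule.top_smul]; exact le_sup_right
        | succ j ih =>
          refine ih.trans (sup_le le_sup_left ?_)
          refine (smul_mono_right (n ^ j) hsup).trans ?_
          rw [Submodule.smul_sup, ← Submodule.smul_assoc, smul_eq_mul, ← pow_succ]
          exact sup_le_sup_right Submodule.smul_le_right _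
      have h4 := hpow k
      rw [show n ^ k = ⊥ from hk, Submodule.bot_smul, sup_bot_eq] at h4
      exact top_le_iff.1 h4
    · refine mem_nilradical.1 (Ideal.Quotient.eq_zero_iff_mem.1 (Fintype.linearIndependent_iff.1 b.linearIndependent
        (fun i => Ideal.Quotient.mk n (a i)) ?_ i))
      have h5 : ∑ i, Ideal.Quotient.mk n (a i) • b i = mk (∑ i, a i • m i) := by
        rw [map_sum]
        exact Finset.sum_congr rfl fun i _ => by rw [← hm i, hsmul]
      rw [h5, ha, map_zero]

end Groth.Agent.S14032
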