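import Groth.Statements.S14033
import Mathlib
import Groth.Prelude

set_option linter.all false

set_option autoImplicit false
universe u v
open W4c1frobunstiva

open DualNumber Pointwise

namespace Groth.Agent.S14033

open DualNumber Pointwise in
/-- Let R be a commutative ring, R[ε] its ring of dual numbers (ε² = 0), M an R[ε]-module and r a
natural number. Then M is free of rank r over R[ε] (admits a basis of r elements) if and only if the
R-modules M/εM and εM are both free of rank r. (The published statement concerns a coherent sheaf on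
the product of a scheme S with Spec ℤ[ε] and local freeness of rank r; that assertion is local, and
this row is its form over one ring, with no finiteness assumption on M and no hypothesis on R.) -/
theorem result (R : Type u) [CommRing R] (M : Type v)
    [AddCommGroup M] [Module R[ε] M] [Module R M] [IsScalarTower R R[ε] M] (r : ℕ) :
    Nonempty (Module.Basis (Fin r) R[ε] M) ↔
      (Nonempty (Module.Basis (Fin r) R (M ⧸ ((ε : R[ε]) • (⊤ : Submodule R[ε] M)))) ∧
        Nonempty (Module.Basis (Fin r) R (((ε : R[ε]) • (⊤ : Submodule R[ε] M)).restrictScalars R))) := by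
  classical
  set E := (ε : R[ε]) • (⊤ : Submodule R[ε] M)
  have hE : ∀ x, x ∈ E ↔ ∃ m, (ε : R[ε]) • m = x := fun x => by
    rw [Submodule.mem_smul_pointwise_iff_exists]; simp
  have he2 : ∀ m : M, (ε : R[ε]) • (ε : R[ε]) • m = 0 := fun m => by
    rw [← mul_smul, DualNumber.eps_mul_eps, zero_smul]
  have hdec : ∀ (c : R[ε]) (m : M), c • m = c.fst • m + c.snd • ((ε : R[ε]) • m) := fun c m => by
    conv_lhs => rw [show c = algebraMap R R[ε] c.fst + algebraMap R R[ε] c.snd * ε from
      TrivSqZeroExt.ext (by simp [TrivSqZeroExt.algebraMap_eq_inl]) (by simp [TrivSqZeroExt.algebraMap_eq_inl])]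
    rw [add_smul, mul_smul, algebraMap_smul, algebraMap_smul]
  constructor
  · rintro ⟨b⟩
    constructor
    · let φ : M →ₗ[R] (Fin r → R) :=
        { toFun := fun m i => (b.repr m i).fst
          map_add' := fun x y => by ext i; simp
          map_smul' := fun c x => by
            ext i; rw [← algebraMap_smul R[ε] c x, map_smul, Finsupp.smul_apply]; simp [TrivSqZeroExt.algebraMap_eq_inl] }
      have hφ : ∀ m, φ m = 0 ↔ m ∈ E := fun m => by
        refine ⟨fun h => (hE m).2 ⟨∑ i, algebraMap R R[ε] (b.repr m i).snd • b i, ?_⟩, fun h => ?_⟩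
        · conv_rhs => rw [← b.sum_repr m]
          rw [Finset.smul_sum]
          refine Finset.sum_congr rfl fun i _ => ?_
          have h0 : (b.repr m i).fst = 0 := congrFun h i
          rw [hdec (b.repr m i), h0, zero_smul, zero_add, algebraMap_smul, smul_comm]
        · obtain ⟨y, rfl⟩ := (hE m).1 h
          ext i; simp [φ]
      let q : (M ⧸ E) →ₗ[R] (Fin r → R) :=
        (Submodule.liftQ (E.restrictScalars R) φ fun x hx => (hφ x).2 hx) ∘ₗ (Submodule.Quotient.restrictScalarsEquiv R E).symm.toLinearMap
      have hq : ∀ m, q (Submodule.Quotient.mk m) = φ m := fun m => rfl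
      have hinj : Function.Injective q := (injective_iff_map_eq_zero q).2 fun x hx => by
        obtain ⟨m, rfl⟩ := Submodule.Quotient.mk_surjective E x
        exact (Submodule.Quotient.mk_eq_zero E).2 ((hφ m).1 (hq m ▸ hx))
      have hsurj : Function.Surjective q := fun c =>
        ⟨Submodule.Quotient.mk (∑ i, algebraMap R R[ε] (c i) • b i), by
          rw [hq]; ext i; simp [φ, Finsupp.single_apply, TrivSqZeroExt.algebraMap_eq_inl, apply_ite TrivSqZeroExt.fst]⟩
      exact ⟨(Pi.basisFun R (Fin r)).map (LinearEquiv.ofBijective q ⟨hinj, hsurj⟩).symm⟩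
    · let ψ : (Fin r → R) →ₗ[R] E.restrictScalars R :=
        ((Fintype.linearCombination R fun i => (ε : R[ε]) • b i)).codRestrict _ fun c => by
          show _ ∈ E
          rw [Fintype.linearCombination_apply]
          exact Submodule.sum_mem _ fun i _ => E.smul_of_tower_mem _ ((hE _).2 ⟨b i, rfl⟩)
      have hinj : Function.Injective ψ := (injective_iff_map_eq_zero ψ).2 fun c hc => by
        funext i
        have h0 : ∑ i, ((algebraMap R R[ε] (c i)) * ε) • b i = 0 := by
          have := congrArg Subtype.val hc
          simpa [ψ, Fintype.linearCombination_apply, mul_smul, algebraMap_smul] using this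
        have := congrArg TrivSqZeroExt.snd (Fintype.linearIndependent_iff.1 b.linearIndependent _ h0 i)
        simpa [TrivSqZeroExt.algebraMap_eq_inl] using this
      have hsurj : Function.Surjective ψ := by
        rintro ⟨x, hx⟩
        obtain ⟨m, rfl⟩ := (hE x).1 hx
        refine ⟨fun i => (b.repr m i).fst, Subtype.ext ?_⟩
        show Fintype.linearCombination R (fun i => (ε : R[ε]) • b i) _ = (ε : R[ε]) • m
        conv_rhs => rw [← b.sum_repr m]
        rw [Fintype.linearCombination_apply, Finset.smul_sum]
        refine Finset.sum_congr rfl fun i _ => ?_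
        rw [hdec (b.repr m i), smul_add, smul_comm (ε : R[ε]) ((b.repr m i).snd), he2, smul_zero, add_zero, smul_comm]
      exact ⟨(Pi.basisFun R (Fin r)).map (LinearEquiv.ofBijective ψ ⟨hinj, hsurj⟩)⟩
  · rintro ⟨⟨b1⟩, ⟨b2⟩⟩
    choose y hy using fun i => Submodule.Quotient.mk_surjective E (b1 i)
    let e2 := b2.equivFun
    let μ0 : M →ₗ[R] E.restrictScalars R :=
      { toFun := fun m => ⟨(ε : R[ε]) • m, (hE _).2 ⟨m, rfl⟩⟩
        map_add' := fun a b => Subtype.ext (smul_add _ _ _)
        map_smul' := fun c a => Subtype.ext (smul_comm _ _ _) }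
    let θ : (Fin r → R) →ₗ[R] (Fin r → R) := e2.toLinearMap ∘ₗ μ0 ∘ₗ Fintype.linearCombination R y
    have hdecomp : ∀ m : M, ∃ c : Fin r → R, m - ∑ i, c i • y i ∈ E := fun m =>
      ⟨b1.repr (Submodule.Quotient.mk m), by
        rw [← Submodule.Quotient.mk_eq_zero, Submodule.Quotient.mk_sub, sub_eq_zero]
        conv_lhs => rw [← b1.sum_repr (Submodule.Quotient.mk m)]
        rw [show Submodule.Quotient.mk (p := E) (∑ i, b1.repr (Submodule.Quotient.mk m) i • y i) = (E.mkQ.restrictScalars R) (∑ i, b1.repr (Submodule.Quotient.mk m) i • y i) from rfl, map_sum]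
        refine Finset.sum_congr rfl fun i _ => ?_
        rw [map_smul, ← hy i]; rfl⟩
    have hsurjμ : ∀ x ∈ E, ∃ c : Fin r → R, ∑ i, c i • ((ε : R[ε]) • y i) = x := fun x hx => by
      obtain ⟨m, rfl⟩ := (hE x).1 hx
      obtain ⟨c, hc⟩ := hdecomp m
      obtain ⟨z, hz⟩ := (hE _).1 hc
      refine ⟨c, ?_⟩
      rw [← sub_add_cancel m (∑ i, c i • y i), smul_add, ← hz, he2, zero_add, Finset.smul_sum]
      exact Finset.sum_congr rfl fun i _ => smul_comm _ _ _
    have hθ : Function.Surjective θ := fun v => by
      obtain ⟨c, hc⟩ := hsurjμ (e2.symm v).1 (e2.symm v).2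
      refine ⟨c, ?_⟩
      show e2 _ = v
      rw [← LinearEquiv.eq_symm_apply]
      apply Subtype.ext
      rw [← hc]
      show (ε : R[ε]) • Fintype.linearCombination R y c = _
      rw [Fintype.linearCombination_apply, Finset.smul_sum]
      exact Finset.sum_congr rfl fun i _ => smul_comm _ _ _
    have hθi : Function.Injective θ := OrzechProperty.injective_of_surjective_endomorphism θ hθ
    have hker : ∀ c : Fin r → R, ∑ i, c i • ((ε : R[ε]) • y i) = 0 → c = 0 := fun c hc => by
      apply hθi
      rw [map_zero]
      show e2 _ = 0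
      rw [LinearEquiv.map_eq_zero_iff]
      apply Subtype.ext
      show (ε : R[ε]) • Fintype.linearCombination R y c = 0
      rw [Fintype.linearCombination_apply, Finset.smul_sum, ← hc]
      exact Finset.sum_congr rfl fun i _ => smul_comm _ _ _
    refine ⟨Module.Basis.mk (v := y) (Fintype.linearIndependent_iff.2 fun g hg i => ?_) fun m _ => ?_⟩
    · have h1 : ∑ i, (g i).fst • y i + ∑ i, (g i).snd • ((ε : R[ε]) • y i) = 0 := by
        rw [← Finset.sum_add_distrib, ← hg]; exact Finset.sum_congr rfl fun i _ => (hdec _ _).symm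
      have hmem : ∑ i, (g i).fst • y i ∈ E := by
        rw [eq_neg_of_add_eq_zero_left h1]
        exact E.neg_mem (Submodule.sum_mem _ fun i _ => E.smul_of_tower_mem _ ((hE _).2 ⟨_, rfl⟩))
      have ha : (fun i => (g i).fst) = 0 := by
        funext j
        have h2 : (E.mkQ.restrictScalars R) (∑ i, (g i).fst • y i) = 0 := (Submodule.Quotient.mk_eq_zero E).2 hmem
        rw [map_sum] at h2
        refine (Fintype.linearIndependent_iff.1 b1.linearIndependent (fun i => (g i).fst) ?_ j)
        rw [← h2]
        refine Finset.sum_congr rfl fun i _ => ?_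
        rw [map_smul, ← hy i]; rfl
      have hb := hker (fun i => (g i).snd) (by
        simpa [show ∀ i, (g i).fst = 0 from congrFun ha] using h1)
      exact TrivSqZeroExt.ext (congrFun ha i) (congrFun hb i)
    · obtain ⟨c, hc⟩ := hdecomp m
      obtain ⟨d, hd⟩ := hsurjμ _ hc
      rw [← sub_add_cancel m (∑ i, c i • y i), ← hd]
      refine Submodule.add_mem _ (Submodule.sum_mem _ fun i _ => ?_) (Submodule.sum_mem _ fun i _ => ?_)
      · exact Submodule.smul_of_tower_mem _ _ (Submodule.smul_mem _ _ (Submodule.subset_span ⟨i, rfl⟩))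
      · exact Submodule.smul_of_tower_mem _ _ (Submodule.subset_span ⟨i, rfl⟩)

end Groth.Agent.S14033
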