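import Groth.Statements.S14034
import Mathlib

set_option autoImplicit false
universe u
open W4c1frobunstiva

namespace Groth.Agent.S14034

/-- Let R be a Noetherian local ring and f an element of R whose annihilator consists of nilpotent
elements (a f = 0 forces a nilpotent), r, s and l ≤ s natural numbers, N the quotient of the free
module R^s by the submodule spanned by f e_1, …, f e_l (e_i the standard basis vectors), and φ : R^r
→ N a surjective linear map. Then the kernel of φ is NR-free of rank r + l − s: it is generated by r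
+ l − s elements every linear relation among which has nilpotent coefficients; and when l = 0 the
kernel is free of rank r − s. (The published statement takes R Noetherian with irreducible spectrum
and R_red a domain, not necessarily local, and f arbitrary. Over the coordinate ring of the real
2-sphere the kernel of (x, y, z) : R³ → R is not free, and over k[x, y]/(y², xy) localised at (x, y)
with f = y the kernel of R → R/(y) is spanned by y with the non-nilpotent relation x·y = 0. The
published argument uses that the kernel of a surjection of free modules is free, true over a local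
ring, and that a f = 0 forces a nilpotent, which is the hypothesis taken here; it holds when R_red
is a domain and f is not nilpotent, and also for f = ε in A[ε] with A a domain, so primality of the
nilradical is not assumed.) -/
theorem result (R : Type u)
    [CommRing R] [IsNoetherianRing R] [IsLocalRing R] (f : R)
    (hann : ∀ a : R, a * f = 0 → IsNilpotent a) (r s l : ℕ) (hls : l ≤ s)
    (φ : (Fin r → R) →ₗ[R]
      ((Fin s → R) ⧸ Submodule.span R (Set.range fun i : Fin l => (Pi.single (Fin.castLE hls i) f : Fin s → R))))
    (hφ : Function.Surjective φ) :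
    W4c1frobunstiva.IsNRFree R (LinearMap.ker φ) (r + l - s) ∧
      (l = 0 → Nonempty (Module.Basis (Fin (r - s)) R (LinearMap.ker φ))) := by
  classical
  let q := Submodule.span R (Set.range fun i : Fin l => (Pi.single (Fin.castLE hls i) f : Fin s → R))
  obtain ⟨ψ, hψ⟩ := Module.projective_lifting_property q.mkQ φ q.mkQ_surjective
  let ι : (Fin l → R) →ₗ[R] (Fin s → R) := Fintype.linearCombination R fun i => Pi.single (Fin.castLE hls i) f
  have hι : LinearMap.range ι = q := Fintype.range_linearCombination R _
  have hιk : ∀ y, ι y = 0 → ∀ i, IsNilpotent (y i) := fun y hy i => by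
    apply hann
    have h := congr_fun hy (Fin.castLE hls i)
    rw [Fintype.linearCombination_apply, Finset.sum_apply, Finset.sum_eq_single i] at h
    · simpa using h
    · intro j _ hj
      rw [Pi.smul_apply, Pi.single_eq_of_ne fun e => hj ((Fin.castLE_injective hls e).symm), smul_zero]
    · simp
  let Φ : (Fin r → R) × (Fin l → R) →ₗ[R] (Fin s → R) := ψ.coprod ι
  have hΦ : Function.Surjective Φ := fun v => by
    obtain ⟨x, hx⟩ := hφ (q.mkQ v)
    have hm : v - ψ x ∈ q := by
      rw [← Submodule.Quotient.eq]
      exact hx.symm.trans (LinearMap.congr_fun hψ x).symm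
    rw [← hι] at hm
    obtain ⟨y, hy⟩ := hm
    exact ⟨(x, y), by simp [Φ, hy]⟩
  obtain ⟨sec, hsec⟩ := Module.projective_lifting_property Φ LinearMap.id hΦ
  have hsec' : ∀ v, Φ (sec v) = v := LinearMap.congr_fun hsec
  let retr : (Fin r → R) × (Fin l → R) →ₗ[R] LinearMap.ker Φ :=
    (LinearMap.id - sec ∘ₗ Φ).codRestrict _ fun v => by simp [hsec']
  have hretr : ∀ w : LinearMap.ker Φ, retr w = w := fun w => Subtype.ext (by
    simp [retr, LinearMap.mem_ker.1 w.2])
  haveI : Module.Projective R (LinearMap.ker Φ) :=
    Module.Projective.of_split (LinearMap.ker Φ).subtype retr (LinearMap.ext hretr)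
  haveI : Module.Free R (LinearMap.ker Φ) := Module.free_of_flat_of_isLocalRing
  let e : ((Fin r → R) × (Fin l → R)) ≃ₗ[R] (LinearMap.ker Φ) × (Fin s → R) :=
    LinearEquiv.ofLinear (retr.prod Φ) ((LinearMap.ker Φ).subtype.coprod sec)
      (LinearMap.ext fun ⟨w, v⟩ => by
        have hw := LinearMap.mem_ker.1 w.2
        refine Prod.ext (Subtype.ext ?_) ?_ <;> simp [retr, hsec', hw])
      (LinearMap.ext fun v => by simp [retr])
  have hrk : Module.finrank R (LinearMap.ker Φ) = r + l - s := by
    have h := e.finrank_eq
    simp only [Module.finrank_prod, Module.finrank_fin_fun] at h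
    omega
  let b : Module.Basis (Fin (r + l - s)) R (LinearMap.ker Φ) := Module.finBasisOfFinrankEq R _ hrk
  let π : LinearMap.ker Φ →ₗ[R] LinearMap.ker φ :=
    ((LinearMap.fst R _ _) ∘ₗ (LinearMap.ker Φ).subtype).codRestrict _ fun w => by
      have hw : ψ w.1.1 + ι w.1.2 = 0 := LinearMap.mem_ker.1 w.2
      rw [LinearMap.mem_ker, ← hψ]
      show q.mkQ (ψ w.1.1) = 0
      rw [Submodule.mkQ_apply, Submodule.Quotient.mk_eq_zero, eq_neg_of_add_eq_zero_left hw]
      exact q.neg_mem (hι ▸ ⟨_, rfl⟩)
  have hπ : Function.Surjective π := fun x => by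
    have hm : -ψ x.1 ∈ LinearMap.range ι := by
      rw [hι, neg_mem_iff, ← Submodule.Quotient.mk_eq_zero]
      exact (LinearMap.congr_fun hψ x.1).trans (LinearMap.mem_ker.1 x.2)
    obtain ⟨y, hy⟩ := hm
    exact ⟨⟨(x.1, y), by simp [Φ, LinearMap.mem_ker, hy]⟩, Subtype.ext rfl⟩
  refine ⟨⟨fun i => π (b i), ?_, fun a ha i => ?_⟩, fun hl => ?_⟩
  · rw [show (fun i => π (b i)) = π ∘ b from rfl, Set.range_comp, Submodule.span_image, b.span_eq,
      Submodule.map_top, LinearMap.range_eq_top.2 hπ]
  · let w := ∑ j, a j • b j
    have hw1 : w.1.1 = 0 := by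
      have h : π w = 0 := by simp [w, map_sum, ha]
      exact congrArg Subtype.val h
    have hw2 : ∀ j, IsNilpotent (w.1.2 j) := hιk _ (by
      have h : ψ w.1.1 + ι w.1.2 = 0 := LinearMap.mem_ker.1 w.2
      rwa [hw1, map_zero, zero_add] at h)
    have hval : (b.repr w) i = a i := by simp [w, Finsupp.single_apply]
    rw [← hval, ← hretr w, show (w : (Fin r → R) × (Fin l → R)) = (0, w.1.2) from Prod.ext hw1 rfl,
      pi_eq_sum_univ w.1.2, ← LinearMap.inr_apply (R := R) (M := Fin r → R)]
    simp only [map_sum, map_smul, Finsupp.coe_finset_sum, Finset.sum_apply, Finsupp.coe_smul, Pi.smul_apply]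
    rw [← mem_nilradical]
    exact Ideal.sum_mem _ fun j _ => Ideal.mul_mem_right _ _ (mem_nilradical.2 (hw2 j))
  · subst hl
    refine ⟨(b.map (LinearEquiv.ofBijective π ⟨?_, hπ⟩)).reindex (finCongr (by omega))⟩
    rintro ⟨⟨x₁, y₁⟩, h₁⟩ ⟨⟨x₂, y₂⟩, h₂⟩ h
    have hx : x₁ = x₂ := congrArg Subtype.val h
    exact Subtype.ext (Prod.ext hx (Subsingleton.elim _ _))

end Groth.Agent.S14034
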