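import Groth.Statements.S14035
import Mathlib
import Groth.Prelude

set_option linter.all false

set_option autoImplicit false
universe u v
open W4c1frobunstiva

open IsLocalRing TensorProduct

set_option maxRecDepth 4000

namespace Groth.Agent.S14035

theorem nilpotent_one_tmul {A : Type u} {B : Type v} [CommRing A] [CommRing B] [Algebra A B]
    (C : Type*) [CommRing C] [Algebra A C] [IsReduced (C ⊗[A] B)] {x : B} (hx : x ∈ nilradical B) :
    (1 : C) ⊗ₜ[A] x = 0 := by
  obtain ⟨n, hn⟩ := mem_nilradical.1 hx
  exact IsReduced.eq_zero _ ⟨n, by rw [Algebra.TensorProduct.tmul_pow, hn, TensorProduct.tmul_zero]⟩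

open TensorProduct in
/-- Let A → B be a ring homomorphism with B Noetherian. If B modulo its nilradical is flat over A and
every fibre ring κ(p) ⊗_A B, p a prime of A, is reduced, then B is reduced. (This is the affine form
of the statement for a morphism of schemes X → Y all of whose fibres are reduced and whose
restriction to the reduced closed subscheme X_red is flat. The published statement does not say X is
locally Noetherian, but its proof applies Nakayama's lemma to the nilradical as a finitely generated
ideal; without it the square-zero extension of a discrete valuation ring A by Frac(A)/A is a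
counterexample.) -/
theorem result (A : Type u) (B : Type v)
    [CommRing A] [CommRing B] [Algebra A B] [IsNoetherianRing B]
    [Module.Flat A (B ⧸ nilradical B)]
    (hfib : ∀ p : PrimeSpectrum A, IsReduced (p.asIdeal.ResidueField ⊗[A] B)) :
    IsReduced B := by
  have hsub : Subsingleton (nilradical B) := by
    rw [← Module.support_eq_empty_iff (R := B)]
    ext q
    simp only [Set.mem_empty_iff_false, iff_false]
    rw [Module.mem_support_iff_nontrivial_residueField_tensorProduct, not_nontrivial_iff_subsingleton]
    let p : PrimeSpectrum A := ⟨q.asIdeal.comap (algebraMap A B), inferInstance⟩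
    haveI := hfib p
    have hz : ∀ x : nilradical B, (1 : p.asIdeal.ResidueField) ⊗ₜ[A] x = 0 := by
      intro x
      have hinj := LinearMap.lTensor_injective_of_exact_of_flat
        ((Ideal.Quotient.mkₐ A (nilradical B)).toLinearMap) Ideal.Quotient.mk_surjective
        ((nilradical B).subtype.restrictScalars A) Subtype.val_injective (by
          intro y
          exact ⟨fun h => ⟨⟨y, Ideal.Quotient.eq_zero_iff_mem.1 h⟩, rfl⟩,
            by rintro ⟨z, rfl⟩; exact Ideal.Quotient.eq_zero_iff_mem.2 z.2⟩) p.asIdeal.ResidueField
      apply hinj
      rw [map_zero]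
      exact nilpotent_one_tmul _ x.2
    let f : p.asIdeal.ResidueField →ₐ[A] q.asIdeal.ResidueField :=
      Ideal.ResidueField.mapₐ p.asIdeal q.asIdeal (Algebra.ofId A B) rfl
    let L : p.asIdeal.ResidueField ⊗[A] (nilradical B) →ₗ[A] q.asIdeal.ResidueField ⊗[B] (nilradical B) :=
      (TensorProduct.mapOfCompatibleSMul B A A q.asIdeal.ResidueField (nilradical B)).comp
        (TensorProduct.map f.toLinearMap LinearMap.id)
    have h1 : ∀ x : nilradical B, (1 : q.asIdeal.ResidueField) ⊗ₜ[B] x = 0 := fun x => by
      have : L ((1 : p.asIdeal.ResidueField) ⊗ₜ[A] x) = 0 := by rw [hz, map_zero]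
      simpa [L] using this
    refine subsingleton_of_forall_eq 0 fun z => ?_
    induction z with
    | zero => rfl
    | add a b ha hb => rw [ha, hb, add_zero]
    | tmul c x =>
      rw [show c ⊗ₜ[B] x = c • ((1 : q.asIdeal.ResidueField) ⊗ₜ[B] x) by rw [TensorProduct.smul_tmul', smul_eq_mul, mul_one], h1, smul_zero]
  constructor
  intro x hx
  exact congrArg Subtype.val (hsub.elim ⟨x, mem_nilradical.2 hx⟩ 0)

end Groth.Agent.S14035
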