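import Groth.Statements.S14037
import Groth.Agent.FlatMorAdm.Nagata
import Groth.Agent.EGA43.UnibranchFibre.Main
import Groth.Agent.FEtFF.NormalGeomUnibranch

set_option autoImplicit false
set_option linter.style.haveILetI false
set_option backward.isDefEq.respectTransparency.types false
universe u
open CategoryTheory CategoryTheory.Limits AlgebraicGeometry
open W4c1frobunstiva

namespace Groth.Agent.S14037

open Limits

/-- Connectedness of the geometric fibres is geometric connectedness. -/
theorem geometricallyConnected_of_algClosed {X Y : Scheme.{u}} (f : X ⟶ Y)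
    (h : ∀ (Ω : Type u) [Field Ω] [IsAlgClosed Ω] (y : Spec (CommRingCat.of Ω) ⟶ Y), ConnectedSpace ↥(pullback f y)) :
    GeometricallyConnected f := by
  refine ⟨fun K _ y Z fst snd hZ => ?_⟩
  let t : Spec (CommRingCat.of (AlgebraicClosure K)) ⟶ Spec (CommRingCat.of K) :=
    Spec.map (CommRingCat.ofHom (algebraMap K (AlgebraicClosure K)))
  have : Surjective t := ⟨fun x => ⟨IsLocalRing.closedPoint _, Subsingleton.elim (α := PrimeSpectrum K) _ _⟩⟩
  have := h (AlgebraicClosure K) (t ≫ y)
  have sq : IsPullback (pullback.fst snd t ≫ fst) (pullback.snd snd t) f (t ≫ y) :=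
    (IsPullback.of_hasPullback snd t).paste_horiz hZ
  have : ConnectedSpace ↥(pullback snd t) := sq.isoPullback.hom.homeomorph.connectedSpace_iff.2 ‹_›
  have : Surjective (pullback.fst snd t) := inferInstance
  exact (pullback.fst snd t).surjective.connectedSpace (pullback.fst snd t).continuous

/-- In a fibre of a compactification with proper geometric fibres the original scheme is closed. -/
theorem isClosed_fibre {X Xb Y : Scheme.{u}} (j : X ⟶ Xb) [IsOpenImmersion j] (g : Xb ⟶ Y) [IsSeparated g]
    (h : ∀ (Ω : Type u) [Field Ω] [IsAlgClosed Ω] (y : Spec (CommRingCat.of Ω) ⟶ Y), IsProper (pullback.snd (j ≫ g) y))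
    (y : Y) : IsClosed ((g.fiberι y) ⁻¹' Set.range j) := by
  let Ω := AlgebraicClosure (Y.residueField y)
  let t : Spec (CommRingCat.of Ω) ⟶ Spec (CommRingCat.of (Y.residueField y)) :=
    Spec.map (CommRingCat.ofHom (algebraMap (Y.residueField y) Ω))
  have : IsIntegralHom t := IsIntegralHom.SpecMap_iff.2
    (algebraMap_isIntegral_iff.2 (inferInstance : Algebra.IsIntegral (Y.residueField y) Ω))
  have : Surjective t := ⟨fun x => ⟨IsLocalRing.closedPoint _, Subsingleton.elim (α := PrimeSpectrum (Y.residueField y)) _ _⟩⟩
  let q := g.fiberToSpecResidueField y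
  let π := pullback.fst q t
  let z := t ≫ Y.fromSpecResidueField y
  have := h Ω z
  have sq₁ : IsPullback (π ≫ g.fiberι y) (pullback.snd q t) g z :=
    (IsPullback.of_hasPullback q t).paste_horiz (IsPullback.of_hasPullback g (Y.fromSpecResidueField y))
  let i := pullback.snd j (π ≫ g.fiberι y)
  have sq₂ : IsPullback (pullback.fst j (π ≫ g.fiberι y)) (i ≫ pullback.snd q t) (j ≫ g) z :=
    (IsPullback.of_hasPullback j (π ≫ g.fiberι y)).paste_vert sq₁
  have : IsProper (i ≫ pullback.snd q t) := by
    rw [← sq₂.isoPullback_hom_snd]; infer_instance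
  have : IsSeparated q := inferInstanceAs (IsSeparated (pullback.snd g (Y.fromSpecResidueField y)))
  have : IsProper i := MorphismProperty.of_postcomp (W := @IsProper.{u}) (W' := @IsSeparated.{u}) i
    (pullback.snd q t) inferInstance inferInstance
  have hi : Set.range i = π ⁻¹' ((g.fiberι y) ⁻¹' Set.range j) := by
    rw [Scheme.Pullback.range_snd]; rfl
  have hπ : Function.Surjective π := π.surjective
  rw [← Set.image_preimage_eq ((g.fiberι y) ⁻¹' Set.range j) hπ, ← hi]
  exact π.isClosedMap _ i.isClosedMap.isClosed_range

/-- Let f : X → Y be separated and of finite type, with X and Y integral, Y Noetherian and normal.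
Suppose that every geometric fibre of f — the base change of X along any morphism from the spectrum
of an algebraically closed field to Y — is proper over that field and connected (so non-empty). Then
f is proper. -/
theorem result {X Y : Scheme.{u}}
    (f : X ⟶ Y) [IsSeparated f] [LocallyOfFiniteType f] [QuasiCompact f]
    [IsIntegral X] [IsIntegral Y] [IsNoetherian Y] (hY : Pi1.IsNormalScheme Y)
    (hfib : ∀ (Ω : Type u) [Field Ω] [IsAlgClosed Ω] (y : Spec (CommRingCat.of Ω) ⟶ Y),
      IsProper (pullback.snd f y) ∧ ConnectedSpace ↥(pullback f y)) :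
    IsProper f := by
  haveI hgc : GeometricallyConnected f := geometricallyConnected_of_algClosed f fun Ω _ _ y => (hfib Ω y).2
  obtain ⟨P, j₀, p, _, _, _, hjp⟩ := FlatMorAdm.compactifiable_of_isNoetherian f
  -- replace the compactification by the closure of `X`
  let j := j₀.toImage
  let g := j₀.imageι ≫ p
  have hfg : j ≫ g = f := by rw [Scheme.Hom.toImage_imageι_assoc, hjp]
  haveI : IsReduced j₀.image := Coherent.isReduced_image j₀
  have hden : DenseRange j := j.denseRange
  haveI : IrreducibleSpace j₀.image := by
    have hi := ((IrreducibleSpace.isIrreducible_univ X).image j j.continuous.continuousOn).closure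
    rw [Set.image_univ, hden.closure_range] at hi
    exact irreducibleSpace_def _ |>.2 hi
  haveI : IsIntegral j₀.image := isIntegral_of_irreducibleSpace_of_isReduced _
  haveI : Surjective (j ≫ g) := by rw [hfg]; infer_instance
  haveI : Surjective g := Surjective.of_comp j g
  haveI : IsDominant g := inferInstance
  have hclosed := isClosed_fibre j g (fun Ω _ _ y => by rw [hfg]; exact (hfib Ω y).1)
  -- the generic fibre of the compactification is the one of `X`
  have hη : ∀ x : g.fiber (genericPoint Y), g.fiberι _ x ∈ Set.range j := by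
    intro x
    have hgen : genericPoint j₀.image ∈ Set.range j :=
      (genericPoint_spec j₀.image).mem_open_set_iff j.isOpenEmbedding.isOpen_range |>.2
        ⟨j (genericPoint X), Set.mem_univ _, Set.mem_range_self _⟩
    have hgη : g (genericPoint j₀.image) = genericPoint Y := by
      refine ((genericPoint_spec Y).eq ?_).symm
      have h := (genericPoint_spec j₀.image).image g.continuous
      rwa [Set.image_univ, Set.range_eq_univ.2 g.surjective, closure_univ] at h
    obtain ⟨ξ, hξ⟩ : genericPoint j₀.image ∈ Set.range (g.fiberι (genericPoint Y)) := by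
      rw [Scheme.Hom.range_fiberι]; exact hgη
    have hspec : ξ ⤳ x := (g.fiberι _).isEmbedding.toIsInducing.specializes_iff.1
      (hξ ▸ genericPoint_specializes _)
    exact hspec.mem_closed (hclosed _) (show g.fiberι _ ξ ∈ Set.range j from hξ.symm ▸ hgen)
  have hgη : GeometricallyConnected (g.fiberToSpecResidueField (genericPoint Y)) := by
    refine ⟨fun K _ z Z a b hZ => ?_⟩
    have sq₁ : IsPullback (a ≫ g.fiberι _) b g (z ≫ Y.fromSpecResidueField _) :=
      hZ.paste_horiz (IsPullback.of_hasPullback g (Y.fromSpecResidueField _))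
    have sq₂ := (IsPullback.of_hasPullback j (a ≫ g.fiberι _)).paste_vert sq₁
    rw [hfg] at sq₂
    haveI : ConnectedSpace ↥(pullback j (a ≫ g.fiberι _)) :=
      hgc.geometrically_connectedSpace _ _ _ sq₂
    haveI : Surjective (pullback.snd j (a ≫ g.fiberι (genericPoint Y))) := ⟨fun w => by
      rw [← Set.mem_range, Scheme.Pullback.range_snd]
      exact hη (a w)⟩
    exact (pullback.snd j (a ≫ g.fiberι (genericPoint Y))).surjective.connectedSpace
      (pullback.snd j (a ≫ g.fiberι (genericPoint Y))).continuous
  -- the fibres of the compactification are connected, so they are the ones of `X`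
  haveI : Surjective j := ⟨fun x => by
    let y := g x
    haveI := (hY y).1
    haveI := (hY y).2
    haveI := EGA43.UnibranchFibre.geometricallyConnected_of_geomUnibranch g y
      (FEtFF.isGeomUnibranch_of_normal _) hgη
    haveI : ConnectedSpace ↥(g.fiber y) :=
      GeometricallyConnected.connectedSpace_of_subsingleton (g.fiberToSpecResidueField y)
    have hclo : IsClopen ((g.fiberι y) ⁻¹' Set.range j) :=
      ⟨hclosed y, j.isOpenEmbedding.isOpen_range.preimage (g.fiberι y).continuous⟩
    have hne : ((g.fiberι y) ⁻¹' Set.range j).Nonempty := by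
      obtain ⟨x₀, hx₀⟩ := (j ≫ g).surjective y
      obtain ⟨w, hw⟩ : j x₀ ∈ Set.range (g.fiberι y) := by
        rw [Scheme.Hom.range_fiberι]; exact hx₀
      exact ⟨w, x₀, hw.symm⟩
    obtain ⟨w, hw⟩ : x ∈ Set.range (g.fiberι y) := by rw [Scheme.Hom.range_fiberι]; exact rfl
    have huniv := (isClopen_iff.1 hclo).resolve_left hne.ne_empty
    have : w ∈ (g.fiberι y) ⁻¹' Set.range j := huniv ▸ Set.mem_univ w
    rw [← hw]
    exact this⟩
  haveI : IsIso j := (isIso_iff_isOpenImmersion_and_surjective j).2 ⟨inferInstance, inferInstance⟩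
  rw [← hfg]
  infer_instance

end Groth.Agent.S14037
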