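import Groth.Statements.S14038
import Groth.Agent.HNF15.Basic
-- import your own Groth.Agent.* helpers here

set_option autoImplicit false
universe u
open W4c1frobunstiva

namespace Groth.Agent.S14038

/-- Let k be a field and M a square matrix of size r over the formal power series ring k[[t]] with
non-zero determinant. Call a matrix H over k[[t]] row-reduced when it is upper triangular, each
diagonal entry is a power t^{e_i} of the variable, and every entry above the diagonal in column j is
a polynomial of degree less than e_j (all its coefficients in degrees ≥ e_j vanish). Then there is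
exactly one row-reduced H obtainable from M by left multiplication with an invertible matrix over
k[[t]]. (The published statement takes k algebraically closed; the row-reduction argument needs only
a field.) -/
theorem result (k : Type u) [Field k] (r : ℕ)
    (M : Matrix (Fin r) (Fin r) (PowerSeries k)) (hM : M.det ≠ 0) :
    ∃! H : Matrix (Fin r) (Fin r) (PowerSeries k),
      (∃ e : Fin r → ℕ, (∀ i, H i i = PowerSeries.X ^ e i) ∧ (∀ i j, j < i → H i j = 0) ∧
        (∀ i j, i < j → ∀ n, e j ≤ n → PowerSeries.coeff n (H i j) = 0)) ∧
      ∃ N : Matrix (Fin r) (Fin r) (PowerSeries k), IsUnit N ∧ N * M = H := by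
  classical
  obtain ⟨N, P, e, hN, -, hP, hR, -⟩ := HNF15.exists_form (k := k) (fun n P => P = 1) (fun _ _ => False) rfl
    (fun n P e f hP => ⟨0, by
      subst hP
      refine Matrix.ext fun i j => ?_
      induction i using Fin.cases with
      | zero => induction j using Fin.cases with
        | zero => rfl
        | succ j => rw [HNF15.blk_zero_succ, Matrix.one_apply_ne (Fin.succ_ne_zero j).symm]; rfl
      | succ i => induction j using Fin.cases with
        | zero => rw [HNF15.blk_succ_zero, Matrix.one_apply_ne (Fin.succ_ne_zero i)]
        | succ j => rw [HNF15.blk_succ_succ]; simp [Matrix.one_apply, Fin.succ_inj],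
      fun j m => ⟨False.elim, fun h => by simpa using h⟩⟩) r M hM
  subst hP
  rw [mul_one] at hR
  refine ⟨N * M, ⟨⟨e, hR⟩, N, hN, rfl⟩, ?_⟩
  rintro H ⟨⟨e', hR'⟩, N', hN', rfl⟩
  obtain ⟨u, rfl⟩ := hN
  refine (HNF15.red_unique (N := N' * (↑u⁻¹ : Matrix _ _ _)) hR hR' (hN'.mul (Units.isUnit _)) ?_).symm
  rw [mul_assoc, Units.inv_mul_cancel_left]

end Groth.Agent.S14038
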