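import Groth.Statements.S14039
import Mathlib
import Groth.Prelude

set_option linter.all false

set_option autoImplicit false
open W4c1frobunstiva


namespace Groth.Agent.S14039

section
open Finset PowerSeries

theorem card_fun_fin (p n : ℕ) (P : (Fin n → ℕ) → Prop) [DecidablePred P] :
    Fintype.card {e : Fin n → Fin p // P fun i => (e i : ℕ)} =
      ((Fintype.piFinset fun _ : Fin n => Finset.range p).filter P).card := by
  rw [Fintype.card_subtype]
  refine Finset.card_bij (fun e _ i => (e i : ℕ)) (fun e he => ?_) (fun e _ f _ h => funext fun i => Fin.ext (congrFun h i)) (fun g hg => ?_)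
  · simp at he ⊢
    exact he
  · simp only [Finset.mem_filter, Fintype.mem_piFinset, Finset.mem_range] at hg
    exact ⟨fun i => ⟨g i, hg.1 i⟩, by simpa using hg.2, rfl⟩

theorem card_sum_eq_coeff {ι : Type*} [Fintype ι] [DecidableEq ι] (t : ι → Finset ℕ) (s : ℕ) :
    (((Fintype.piFinset t).filter fun e => ∑ i, e i = s).card : ℤ) =
      PowerSeries.coeff s (∏ i, ∑ j ∈ t i, (PowerSeries.X : ℤ⟦X⟧) ^ j) := by
  rw [Finset.prod_univ_sum, map_sum, Finset.card_filter, Nat.cast_sum]
  refine Finset.sum_congr rfl fun e _ => ?_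
  rw [Finset.prod_pow_eq_pow_sum, PowerSeries.coeff_X_pow, Nat.cast_ite, Nat.cast_one, Nat.cast_zero]
  exact if_congr eq_comm rfl rfl

theorem part_mul_one_sub (p : ℕ) :
    (∑ j ∈ Finset.Ico 1 p, (PowerSeries.X : ℤ⟦X⟧) ^ j) * (1 - PowerSeries.X) =
      PowerSeries.X * (1 - PowerSeries.X ^ (p - 1)) := by
  rcases p with _ | p
  · simp
  rw [Finset.sum_Ico_eq_sum_range, Nat.add_sub_cancel]
  simp only [pow_add, pow_one, ← Finset.mul_sum, mul_assoc, geom_sum_mul_neg]
end

/-- For natural numbers p, n ≥ 1 and s, the number of monomials of degree s in n variables in which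
every variable occurs with a positive exponent strictly less than p — that is, of exponent vectors
(e_1, …, e_n) with sum s and 1 ≤ e_i ≤ p − 1 — equals the inclusion–exclusion sum over i from 0 to n
of (−1)^i · C(n, i) · C(s − i(p − 1) − 1, n − 1), the last factor counting monomials of degree s −
i(p − 1) − n in n variables and read as 0 when s < i(p − 1) + n. (A companion count, by how many
exponents lie below p/2, and a remark on polynomiality in s and p are not part of this row.) -/
theorem result (p n s : ℕ)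
    (hn : 1 ≤ n) :
    (Fintype.card {e : Fin n → Fin p // (∀ i, 1 ≤ (e i : ℕ)) ∧ ∑ i, (e i : ℕ) = s} : ℤ) =
      ∑ i ∈ Finset.range (n + 1),
        (-1 : ℤ) ^ i * (n.choose i : ℤ) *
          (if i * (p - 1) + n ≤ s then (((s - i * (p - 1) - 1).choose (n - 1) : ℕ) : ℤ) else 0) := by
  classical
  rw [card_fun_fin p n fun e => (∀ i, 1 ≤ e i) ∧ ∑ i, e i = s]
  have hset : ((Fintype.piFinset fun _ : Fin n => Finset.range p).filter fun e => (∀ i, 1 ≤ e i) ∧ ∑ i, e i = s) =
      (Fintype.piFinset fun _ : Fin n => Finset.Ico 1 p).filter fun e => ∑ i, e i = s := by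
    ext e
    simp only [Finset.mem_filter, Fintype.mem_piFinset, Finset.mem_range, Finset.mem_Ico]
    exact ⟨fun h => ⟨fun i => ⟨h.2.1 i, h.1 i⟩, h.2.2⟩, fun h => ⟨fun i => (h.1 i).2, fun i => (h.1 i).1, h.2⟩⟩
  rw [hset, card_sum_eq_coeff, Finset.prod_const, Finset.card_univ, Fintype.card_fin]
  obtain ⟨m, rfl⟩ : ∃ m, n = m + 1 := ⟨n - 1, by omega⟩
  have hu : (1 - PowerSeries.X : PowerSeries ℤ) ^ (m + 1) * (PowerSeries.invOneSubPow ℤ (m + 1)).val = 1 := by
    rw [← PowerSeries.invOneSubPow_inv_eq_one_sub_pow]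
    exact (PowerSeries.invOneSubPow ℤ (m + 1)).inv_val
  have hgf : (∑ j ∈ Finset.Ico 1 p, (PowerSeries.X : PowerSeries ℤ) ^ j) ^ (m + 1) =
      ∑ i ∈ Finset.range (m + 1 + 1), PowerSeries.C ((-1 : ℤ) ^ i * ((m + 1).choose i : ℤ)) *
        (PowerSeries.X ^ (m + 1 + i * (p - 1)) * (PowerSeries.invOneSubPow ℤ (m + 1)).val) := by
    calc (∑ j ∈ Finset.Ico 1 p, (PowerSeries.X : PowerSeries ℤ) ^ j) ^ (m + 1)
        = ((∑ j ∈ Finset.Ico 1 p, (PowerSeries.X : PowerSeries ℤ) ^ j) * (1 - PowerSeries.X)) ^ (m + 1) * (PowerSeries.invOneSubPow ℤ (m + 1)).val := by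
          rw [mul_pow, mul_assoc, hu, mul_one]
      _ = _ := by
          rw [part_mul_one_sub, mul_pow, show (1 - PowerSeries.X ^ (p - 1) : PowerSeries ℤ) = -PowerSeries.X ^ (p - 1) + 1 by ring, add_pow,
            Finset.mul_sum, Finset.sum_mul]
          refine Finset.sum_congr rfl fun i _ => ?_
          rw [neg_pow, ← pow_mul, one_pow, mul_one, map_mul, map_pow, map_neg, map_one, map_natCast, pow_add, mul_comm (p - 1) i]
          ring
  rw [hgf, map_sum]
  refine Finset.sum_congr rfl fun i _ => ?_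
  rw [PowerSeries.coeff_C_mul, PowerSeries.coeff_X_pow_mul', PowerSeries.invOneSubPow_val_succ_eq_mk_add_choose, PowerSeries.coeff_mk]
  congr 1
  by_cases h : i * (p - 1) + (m + 1) ≤ s
  · rw [if_pos (by omega), if_pos h]
    congr 2
    omega
  · rw [if_neg (by omega), if_neg h]

end Groth.Agent.S14039
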