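import Groth.Statements.S1404
import Groth.Agent.FlatMorDim.DimEq
import Groth.Agent.FlatMorDim.HorizontalLift

set_option autoImplicit false
universe u
open FlatMor

namespace Groth.Agent.S1404

/-- Let A → B be an injective local homomorphism of local domains with B essentially of finite type over
A, and g an element of the maximal ideal of B lying in no minimal prime over m_A B. Assume dim(B /
m_A B) + trdeg_{κ(A)} κ(B) = trdeg_A B (with all three finite). Then A → B/gB is injective. -/
theorem result {A B : Type u} [CommRing A] [CommRing B] [IsDomain A] [IsDomain B] [IsLocalRing A] [IsLocalRing B]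
    [Algebra A B] [IsLocalHom (algebraMap A B)] [FaithfulSMul A B] [Algebra.EssFiniteType A B]
    (g : B) (hg : g ∈ IsLocalRing.maximalIdeal B)
    (hmin : ∀ q ∈ (Ideal.map (algebraMap A B) (IsLocalRing.maximalIdeal A)).minimalPrimes, g ∉ q)
    (d e : ℕ) (hd : ringKrullDim (B ⧸ Ideal.map (algebraMap A B) (IsLocalRing.maximalIdeal A)) = d)
    (he : Algebra.trdeg (IsLocalRing.ResidueField A) (IsLocalRing.ResidueField B) = e) (hsum : Algebra.trdeg A B = (d + e : ℕ)) :
    Function.Injective (algebraMap A (B ⧸ Ideal.span {g})) := by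
  open Groth.Agent FlatMorDim IsLocalRing in
  let R := Algebra.EssFiniteType.subalgebra A B
  haveI := DimEq.isLocalization_atPrime A B
  let M := ((maximalIdeal B).comap (algebraMap R B)).primeCompl
  let φ := IsScalarTower.toAlgHom A R B
  have hφ : φ.toRingHom.SurjectiveOnStalks := DimEq.surjectiveOnStalks_val
  haveI : FaithfulSMul A R := (faithfulSMul_iff_algebraMap_injective _ _).2 fun a b h =>
    FaithfulSMul.algebraMap_injective A B (congrArg Subtype.val h)
  let q : PrimeSpectrum R := PrimeSpectrum.comap φ.toRingHom (closedPoint B)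
  obtain ⟨r, s, hrs⟩ := IsLocalization.exists_mk'_eq M g
  have hgs : g * algebraMap R B s = algebraMap R B r := by
    rw [← hrs]; exact IsLocalization.mk'_spec B r s
  have hu : IsUnit (algebraMap R B s) := IsLocalization.map_units B s
  have hrq : r ∈ q.asIdeal := by
    show algebraMap R B r ∈ maximalIdeal B
    rw [← hgs]
    exact Ideal.mul_mem_right _ _ hg
  have he' : EGA43.FibDepth.trd A (closedPoint B) = e := by
    exact_mod_cast (DimEq.trd_closedPoint (A := A) (B := B)).trans he
  have hd1 : 1 ≤ d := by
    by_contra h0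
    push Not at h0
    obtain ⟨⟨P, hP, hPmin, hPd⟩, -⟩ := DimEq.dim_fibre (A := A) (B := B)
    have hne : (closedPoint B).asIdeal ∉
        (Ideal.map (algebraMap A B) (maximalIdeal A)).minimalPrimes := fun h => hmin _ h hg
    have := DimEq.dim_add_one_le (closedPoint B) (maximalIdeal_comap (algebraMap A B)) hne
    rw [hd, show d = 0 by omega] at this
    have h2 : (0 : WithBot ℕ∞) ≤ ringKrullDim (B ⧸ (closedPoint B).asIdeal) :=
      ringKrullDim_nonneg_of_nontrivial
    have h3 := (add_le_add h2 (le_refl (1 : WithBot ℕ∞))).trans this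
    rw [zero_add, Nat.cast_zero] at h3
    exact absurd h3 (by norm_num)
  have hm : ((d + e - 1 : ℕ) : Cardinal.{u}) + 1 ≤ Algebra.trdeg A R := by
    rw [← (DimEq.trdeg_lt_of_essFiniteType (k := A) (L := B)).2, hsum]
    exact_mod_cast (show d + e - 1 + 1 ≤ d + e by omega)
  have key : ∀ q' : PrimeSpectrum R, q'.asIdeal ≤ q.asIdeal → ∃ P : PrimeSpectrum B,
      PrimeSpectrum.comap φ.toRingHom P = q' ∧ (r ∈ q'.asIdeal → g ∈ P.asIdeal) := by
    intro q' hle
    have hdis : Disjoint (M : Set R) q'.asIdeal := Set.disjoint_left.2 fun x hx hx' => hx (hle hx')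
    let P : PrimeSpectrum B := ⟨q'.asIdeal.map (algebraMap R B),
      IsLocalization.isPrime_of_isPrime_disjoint M B _ q'.isPrime hdis⟩
    refine ⟨P, PrimeSpectrum.ext (IsLocalization.under_map_of_isPrime_disjoint M B q'.isPrime hdis),
      fun h => ?_⟩
    have h1 : g * algebraMap R B s ∈ P.asIdeal := hgs.symm ▸ Ideal.mem_map_of_mem _ h
    exact (P.isPrime.mem_or_mem h1).resolve_right fun h2 =>
      P.isPrime.ne_top (Ideal.eq_top_of_isUnit_mem _ h2 hu)
  obtain ⟨P₀, hP₀le, hrP₀, hP₀⟩ := HorizontalLift.exists_horizontal (A := A) q hrq hm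
    fun q' hle hc hr' => by
      obtain ⟨P, hP, hgP⟩ := key q' hle
      have hPm : P.asIdeal.comap (algebraMap A B) = maximalIdeal A := by
        rw [IsScalarTower.algebraMap_eq A R B, ← Ideal.comap_comap]
        show (PrimeSpectrum.comap φ.toRingHom P).asIdeal.comap (algebraMap A R) = _
        rw [hP, hc]
        show (Ideal.comap (algebraMap R B) (maximalIdeal B)).comap (algebraMap A R) = _
        rw [Ideal.comap_comap, ← IsScalarTower.algebraMap_eq, maximalIdeal_comap]
      have h1 := DimEq.dim_add_one_le P hPm fun h => hmin _ h (hgP hr')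
      have h2 := DimEq.fibre_formula P hPm
      rw [← hP, EGA43.FibDepth.trd_comap_of_surjectiveOnStalks φ hφ]
      rw [he'] at h2
      rw [hd] at h1
      have h3 := add_le_add h1 (le_refl ((e : ℕ) : WithBot ℕ∞))
      rw [add_right_comm, h2] at h3
      have h4 : EGA43.FibDepth.trd A P + 1 ≤ d + e := by exact_mod_cast h3
      omega
  obtain ⟨P, hP, hgP⟩ := key P₀ hP₀le
  refine (injective_iff_map_eq_zero _).2 fun a ha => ?_
  have hag : algebraMap A B a ∈ P.asIdeal := by
    have : algebraMap A B a ∈ Ideal.span {g} := Ideal.Quotient.eq_zero_iff_mem.1 ha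
    exact (Ideal.span_singleton_le_iff_mem _).2 (hgP hrP₀) this
  have : a ∈ P₀.asIdeal.comap (algebraMap A R) := by
    rw [← hP]
    exact hag
  rw [hP₀] at this
  exact this

end Groth.Agent.S1404
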