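import Groth.Statements.S14040
import Mathlib
import Groth.Prelude

set_option linter.all false

set_option autoImplicit false
universe u v
open W4c1frobunstiva

open IsLocalRing TensorProduct

set_option maxRecDepth 4000

namespace Groth.Agent.S14040

theorem nilpotent_one_tmul {A : Type u} {B : Type v} [CommRing A] [CommRing B] [Algebra A B]
    (C : Type*) [CommRing C] [Algebra A C] [IsReduced (C ⊗[A] B)] {x : B} (hx : x ∈ nilradical B) :
    (1 : C) ⊗ₜ[A] x = 0 := by
  obtain ⟨n, hn⟩ := mem_nilradical.1 hx
  exact IsReduced.eq_zero _ ⟨n, by rw [Algebra.TensorProduct.tmul_pow, hn, TensorProduct.tmul_zero]⟩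

open TensorProduct in
/-- Let A be a discrete valuation ring and B a Noetherian A-algebra such that the nilradical of B is
prime and meets the image of A only in 0 — the spectrum of B is irreducible and its generic point
lies over the generic point of A. If every fibre ring κ(p) ⊗_A B, p a prime of A, is reduced, then B
is reduced and flat over A. (Affine form of the statement for a dominant morphism from an
irreducible scheme to the spectrum of a discrete valuation ring with reduced fibres. The published
statement also covers a scheme that is already reduced and does not assume it locally Noetherian;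
this row treats reduced fibres with B Noetherian, without which the square-zero extension A ⊕
Frac(A)/A is a counterexample.) -/
theorem result (A : Type u) [CommRing A]
    [IsDomain A] [IsDiscreteValuationRing A] (B : Type v) [CommRing B] [Algebra A B]
    [IsNoetherianRing B] (hirr : (nilradical B).IsPrime)
    (hdom : (nilradical B).comap (algebraMap A B) = ⊥)
    (hfib : ∀ p : PrimeSpectrum A, IsReduced (p.asIdeal.ResidueField ⊗[A] B)) :
    IsReduced B ∧ Module.Flat A B := by
  obtain ⟨π, hπ⟩ := IsDiscreteValuationRing.exists_irreducible A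
  let P : B := algebraMap A B π
  have hP : P ∉ nilradical B := fun h => hπ.ne_zero (by simpa [hdom] using (show π ∈ (nilradical B).comap (algebraMap A B) from h))
  have hgen : ∀ x ∈ nilradical B, ∃ k : ℕ, P ^ k * x = 0 := by
    intro x hx
    let C := Localization.Away P
    haveI := hfib ⟨⊥, Ideal.isPrime_bot⟩
    haveI : (⊥ : Ideal A).IsPrime := Ideal.isPrime_bot
    let f : (⊥ : Ideal A).ResidueField →ₐ[A] C := Ideal.ResidueField.liftₐ ⊥ (Algebra.ofId A C) bot_le (by
      intro a ha
      have ha0 : a ≠ 0 := fun h => ha (by simp [h])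
      obtain ⟨k, w, rfl⟩ := IsDiscreteValuationRing.eq_unit_mul_pow_irreducible ha0 hπ
      show IsUnit (algebraMap A C (↑w * π ^ k))
      rw [map_mul, map_pow, IsScalarTower.algebraMap_apply A B C π]
      exact (w.isUnit.map _).mul ((IsLocalization.Away.algebraMap_isUnit P).pow k))
    have h1 := congrArg (Algebra.TensorProduct.lift f (IsScalarTower.toAlgHom A B C) fun _ _ => Commute.all _ _)
      (nilpotent_one_tmul (⊥ : Ideal A).ResidueField hx)
    rw [map_zero, Algebra.TensorProduct.lift_tmul, map_one, one_mul] at h1
    obtain ⟨⟨_, k, rfl⟩, hk⟩ := (IsLocalization.map_eq_zero_iff (Submonoid.powers P) C x).1 h1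
    exact ⟨k, hk⟩
  have hdiv : ∀ x ∈ nilradical B, ∃ y ∈ nilradical B, x = P * y := by
    intro x hx
    let m := IsLocalRing.maximalIdeal A
    haveI := hfib ⟨m, inferInstance⟩
    let Q := B ⧸ Ideal.span {P}
    let f : m.ResidueField →ₐ[A] Q := Ideal.ResidueField.liftₐ m (Algebra.ofId A Q) (by
        show IsLocalRing.maximalIdeal A ≤ _
        rw [hπ.maximalIdeal_eq, Ideal.span_le, Set.singleton_subset_iff]
        exact Ideal.Quotient.eq_zero_iff_mem.2 (Ideal.mem_span_singleton_self P))
      (fun a ha => (IsLocalRing.notMem_maximalIdeal.1 ha).map (algebraMap A Q))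
    have h1 := congrArg (Algebra.TensorProduct.lift f (Ideal.Quotient.mkₐ A (Ideal.span {P})) fun _ _ => Commute.all _ _)
      (nilpotent_one_tmul m.ResidueField hx)
    rw [map_zero, Algebra.TensorProduct.lift_tmul, map_one, one_mul] at h1
    obtain ⟨y, hy⟩ := Ideal.mem_span_singleton.1 (Ideal.Quotient.eq_zero_iff_mem.1 h1)
    refine ⟨y, ?_, hy⟩
    exact (hirr.mem_or_mem (hy ▸ hx)).resolve_left hP
  have hle : nilradical B ≤ Ideal.span {P} • nilradical B := fun x hx => by
    obtain ⟨y, hy, rfl⟩ := hdiv x hx
    exact Ideal.mul_mem_mul (Ideal.mem_span_singleton_self P) hy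
  obtain ⟨r, hr1, hr⟩ := Submodule.exists_sub_one_mem_and_smul_eq_zero_of_fg_of_le_smul
    (Ideal.span {P}) (nilradical B) (IsNoetherian.noetherian _) hle
  obtain ⟨b, hb⟩ := Ideal.mem_span_singleton.1 hr1
  have hN : ∀ x ∈ nilradical B, x = 0 := by
    intro x hx
    obtain ⟨k, hk⟩ := hgen x hx
    have h1 : r * x = 0 := hr x hx
    have h2 : x = (-b * P) * x := by linear_combination h1 - x * hb
    have h3 : ∀ j : ℕ, x = (-b * P) ^ j * x := fun j => by
      induction j with
      | zero => simp
      | succ j ih => rw [pow_succ, mul_assoc, ← h2, ← ih]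
    rw [h3 k, mul_pow, mul_assoc, hk, mul_zero]
  haveI : IsReduced B := ⟨fun x hx => hN x (mem_nilradical.2 hx)⟩
  refine ⟨inferInstance, ?_⟩
  rw [nilradical_eq_zero] at hirr hdom
  haveI : IsDomain B := IsDomain.of_bot_isPrime (hbp := hirr) B
  rw [Module.Flat.flat_iff_torsion_eq_bot_of_isBezout, eq_bot_iff]
  rintro y ⟨⟨a, ha⟩, h⟩
  have h' : algebraMap A B a * y = 0 := by rw [← Algebra.smul_def]; exact h
  refine (Submodule.mem_bot A).2 ((mul_eq_zero.1 h').resolve_left fun h0 => nonZeroDivisors.ne_zero ha ?_)
  have : a ∈ (⊥ : Ideal B).comap (algebraMap A B) := by simp [h0]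
  simpa using hdom.le this

end Groth.Agent.S14040
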