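import Mathlib
-- Template for statement S14041 (row 14040; see the milestone table for weights).
-- Copy to Groth/Agent/S14041.lean and replace the sorry. The statement below is byte-identical to the frozen
-- statement W4c1frobunstiva.GrothFrozen.S14041 (Groth/Statements/S14041.lean; the theorem W4c1frobunstiva.finite_functionField_and_fibreRank_eq_degree_on_open);
-- the grader kernel-checks Groth.Agent.S14041.result against that frozen type. Keep the theorem IN THIS FILE
-- (a `result` declared elsewhere and merely imported here is not credited); helpers may live anywhere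
-- under Groth/Agent/.
import Groth.Statements.S14041
import Groth.Agent.CAlgSmall.GenericFiniteTFAE
import Groth.Agent.DimLib.Components
import Groth.Agent.DimLib.Morphism
-- import your own Groth.Agent.* helpers here

set_option autoImplicit false
set_option backward.isDefEq.respectTransparency.types false
universe u
open CategoryTheory CategoryTheory.Limits AlgebraicGeometry
open W4c1frobunstiva

namespace Groth.Agent.S14041

open TopologicalSpace

theorem free_of_algEquiv {R R₁ R₂ M N : Type u} [CommRing R] [CommRing R₁] [CommRing R₂] [Algebra R R₁] [Algebra R R₂]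
    [AddCommGroup M] [Module R M] [AddCommGroup N] [Module R N] [Module R₂ N] [IsScalarTower R R₂ N]
    [Module.Free R₁ (TensorProduct R R₁ M)] {g : M →ₗ[R] N} (hg : IsBaseChange R₂ g) (e : R₁ ≃ₐ[R] R₂) :
    Module.Free R₂ N := by
  haveI : Module.Free R₂ (TensorProduct R R₂ M) := by
    letI : Algebra R₁ R₂ := e.toAlgHom.toRingHom.toAlgebra
    haveI : IsScalarTower R R₁ R₂ := .of_algebraMap_eq fun r => (e.commutes r).symm
    exact Module.Free.of_equiv (TensorProduct.AlgebraTensorModule.cancelBaseChange R R₁ R₂ R₂ M)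
  exact Module.Free.of_equiv hg.equiv

theorem free_app_of_eq {X Y : Scheme.{u}} (f : X ⟶ Y) {U : Y.Opens} {W : X.Opens} (e : f ⁻¹ᵁ U = W)
    (h : W ≤ f ⁻¹ᵁ U)
    (hf : letI := (f.appLE U W h).hom.toAlgebra; Module.Free Γ(Y, U) Γ(X, W)) :
    letI := (f.app U).hom.toAlgebra; Module.Free Γ(Y, U) Γ(X, f ⁻¹ᵁ U) := by
  subst e
  rwa [← Scheme.Hom.app_eq_appLE] at hf

theorem finrank_pushout {A B C D : CommRingCat.{u}} {a : A ⟶ B} {b : A ⟶ C} {c : B ⟶ D} {d : C ⟶ D}
    [Nontrivial C] (h : IsPushout a b c d) (hfin : a.hom.Finite)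
    (hfree : letI := a.hom.toAlgebra; Module.Free A B) :
    (letI := d.hom.toAlgebra; Module.finrank C D) = (letI := a.hom.toAlgebra; Module.finrank A B) := by
  algebraize [a.hom, b.hom, c.hom, d.hom, (a ≫ c).hom]
  haveI : Nontrivial A := b.hom.domain_nontrivial
  haveI : IsScalarTower A B D := .of_algebraMap_eq fun _ => rfl
  haveI : IsScalarTower A C D := .of_algebraMap_eq fun r => ConcreteCategory.congr_hom h.w r
  haveI : Module.Free A B := hfree
  haveI : Algebra.IsPushout A C B D := CommRingCat.isPushout_iff_isPushout.1 h.flip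
  rw [← (Algebra.IsPushout.out (R := A) (S := C) (R' := B) (S' := D)).equiv.finrank_eq, Module.finrank_baseChange]

theorem fractionRing_transport {R : Type u} [CommRing R] {B K : Type u} [CommRing B] [CommRing K] [Algebra R B]
    [IsFractionRing R B] (e : B ≃+* K) :
    letI := (e.toRingHom.comp (algebraMap R B)).toAlgebra; IsFractionRing R K := by
  letI := (e.toRingHom.comp (algebraMap R B)).toAlgebra
  exact IsLocalization.isLocalization_of_algEquiv (nonZeroDivisors R) (AlgEquiv.ofRingEquiv (f := e) fun _ => rfl)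

theorem finrank_fraction (R K S L : Type u) [CommRing R] [IsDomain R] [Field K] [CommRing S] [IsDomain S] [Field L]
    [Algebra R K] [IsFractionRing R K] [Algebra R S] [Algebra S L] [IsFractionRing S L] [Algebra K L]
    (hfin : (algebraMap R S).Finite)
    (hc : ∀ r, algebraMap K L (algebraMap R K r) = algebraMap S L (algebraMap R S r)) :
    Module.finrank K L = Module.finrank R S := by
  haveI : Module.Finite R S := RingHom.finite_algebraMap.1 hfin
  letI : Algebra R L := ((algebraMap S L).comp (algebraMap R S)).toAlgebra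
  haveI : IsScalarTower R S L := .of_algebraMap_eq fun _ => rfl
  haveI : IsScalarTower R K L := .of_algebraMap_eq fun r => (hc r).symm
  haveI : FaithfulSMul R S := (faithfulSMul_iff_algebraMap_injective R S).2 (fun x y h => by
    have := congrArg (algebraMap S L) h
    rw [← hc, ← hc] at this
    exact IsFractionRing.injective R K ((algebraMap K L).injective this))
  exact IsFractionRing.finrank_eq R K S L

theorem isFinite_restrict_le {X Y : Scheme.{u}} (f : X ⟶ Y) {U V : Y.Opens} (h : U ≤ V) [IsFinite (f ∣_ V)] :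
    IsFinite (f ∣_ U) := by
  have := IsZariskiLocalAtTarget.restrict (P := @IsFinite.{u}) ‹IsFinite (f ∣_ V)› (V.ι ⁻¹ᵁ U)
  rw [(MorphismProperty.arrow_mk_iso_iff @IsFinite.{u} (morphismRestrictRestrict f V (V.ι ⁻¹ᵁ U)))] at this
  rwa [show V.ι ''ᵁ (V.ι ⁻¹ᵁ U) = U by
    rw [Scheme.Hom.image_preimage_eq_opensRange_inf, Scheme.Opens.opensRange_ι, inf_eq_right.2 h]] at this

theorem isAffineOpen_preimage {X Y : Scheme.{u}} (f : X ⟶ Y) {U : Y.Opens} (hU : IsAffineOpen U)
    [IsFinite (f ∣_ U)] : IsAffineOpen (f ⁻¹ᵁ U) := by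
  haveI : IsAffine U.toScheme := hU
  exact isAffine_of_isAffineHom (f ∣_ U)

theorem finite_app_congr {X Y : Scheme.{u}} (f : X ⟶ Y) {U V : Y.Opens} (h : U = V) :
    (f.app U).hom.Finite ↔ (f.app V).hom.Finite := by subst h; rfl

theorem finite_app {X Y : Scheme.{u}} (f : X ⟶ Y) {U : Y.Opens} (hU : IsAffineOpen U)
    [IsFinite (f ∣_ U)] : (f.app U).hom.Finite := by
  haveI : IsAffine U.toScheme := hU
  have h := ((HasAffineProperty.iff_of_isAffine (P := @IsFinite.{u})).1 (inferInstance : IsFinite (f ∣_ U))).2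
  rw [← Scheme.Hom.resLE_eq_morphismRestrict] at h
  rw [RingHom.finite_respectsIso.arrow_mk_iso_iff (arrowResLEAppIso f U (f ⁻¹ᵁ U) le_rfl),
    ← Scheme.Hom.app_eq_appLE] at h
  exact h

theorem exists_free_open {X Y : Scheme.{u}} [IsIntegral Y] [IsLocallyNoetherian Y] (f : X ⟶ Y) {V : Y.Opens}
    (hV : IsAffineOpen V) [IsFinite (f ∣_ V)] (hne : (V : Set Y).Nonempty) :
    ∃ U : Y.Opens, IsAffineOpen U ∧ (U : Set Y).Nonempty ∧ U ≤ V ∧
      (letI := (f.app U).hom.toAlgebra; Module.Free Γ(Y, U) Γ(X, f ⁻¹ᵁ U)) := by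
  letI := (f.app V).hom.toAlgebra
  haveI : Module.Finite Γ(Y, V) Γ(X, f ⁻¹ᵁ V) := finite_app f hV
  haveI : Nonempty V := ⟨⟨hne.some, hne.some_mem⟩⟩
  haveI : IsNoetherianRing Γ(Y, V) := IsLocallyNoetherian.component_noetherian ⟨V, hV⟩
  haveI : Module.FinitePresentation Γ(Y, V) Γ(X, f ⁻¹ᵁ V) := Module.finitePresentation_of_finite _ _
  let K := FractionRing Γ(Y, V)
  obtain ⟨a, ha, hfree, -⟩ := Module.FinitePresentation.exists_free_localizedModule_powers
    (nonZeroDivisors Γ(Y, V)) (LocalizedModule.mkLinearMap (nonZeroDivisors Γ(Y, V)) Γ(X, f ⁻¹ᵁ V)) K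
  haveI := hfree
  refine ⟨Y.basicOpen a, hV.basicOpen a, ?_, Y.basicOpen_le a, ?_⟩
  · refine (Opens.ne_bot_iff_nonempty _).1 ?_
    exact fun e => nonZeroDivisors.ne_zero ha ((basicOpen_eq_bot_iff _).1 e)
  haveI : IsLocalization.Away a Γ(Y, Y.basicOpen a) := hV.isLocalization_basicOpen a
  haveI hB : IsLocalization.Away (f.app V a) Γ(X, X.basicOpen (f.app V a)) :=
    (isAffineOpen_preimage f hV).isLocalization_basicOpen _
  letI := (f.appLE (Y.basicOpen a) (X.basicOpen (f.app V a)) (Scheme.preimage_basicOpen f a).ge).hom.toAlgebra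
  have hfr : Module.Free Γ(Y, Y.basicOpen a) Γ(X, X.basicOpen (f.app V a)) := by
    letI : Algebra Γ(Y, V) Γ(X, X.basicOpen (f.app V a)) :=
      ((algebraMap Γ(X, f ⁻¹ᵁ V) Γ(X, X.basicOpen (f.app V a))).comp (f.app V).hom).toAlgebra
    haveI : IsScalarTower Γ(Y, V) Γ(X, f ⁻¹ᵁ V) Γ(X, X.basicOpen (f.app V a)) := .of_algebraMap_eq fun _ => rfl
    haveI : IsScalarTower Γ(Y, V) Γ(Y, Y.basicOpen a) Γ(X, X.basicOpen (f.app V a)) := .of_algebraMap_eq fun x => by
      show _ = f.appLE _ _ _ (Y.presheaf.map _ x)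
      rw [← CommRingCat.comp_apply, Scheme.Hom.map_appLE]
      show X.presheaf.map _ (f.app V x) = _
      rw [← CommRingCat.comp_apply]
      rfl
    haveI : IsLocalizedModule (Submonoid.powers a)
        (IsScalarTower.toAlgHom Γ(Y, V) Γ(X, f ⁻¹ᵁ V) Γ(X, X.basicOpen (f.app V a))).toLinearMap := by
      rw [isLocalizedModule_iff_isLocalization, Algebra.algebraMapSubmonoid_powers]
      exact hB
    have hb := (isLocalizedModule_iff_isBaseChange (Submonoid.powers a) (Localization.Away a) _).1
      (localizedModuleIsLocalizedModule (M := Γ(X, f ⁻¹ᵁ V)) (Submonoid.powers a))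
    haveI : Module.Free (Localization.Away a) (TensorProduct Γ(Y, V) (Localization.Away a) Γ(X, f ⁻¹ᵁ V)) :=
      Module.Free.of_equiv hb.equiv.symm
    have hb' := (isLocalizedModule_iff_isBaseChange (Submonoid.powers a) Γ(Y, Y.basicOpen a)
      (IsScalarTower.toAlgHom Γ(Y, V) Γ(X, f ⁻¹ᵁ V) Γ(X, X.basicOpen (f.app V a))).toLinearMap).1 inferInstance
    exact free_of_algEquiv hb' (IsLocalization.algEquiv (Submonoid.powers a) (Localization.Away a) Γ(Y, Y.basicOpen a))
  have e : f ⁻¹ᵁ Y.basicOpen a = X.basicOpen (f.app V a) := Scheme.preimage_basicOpen f a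
  exact free_app_of_eq f e (Scheme.preimage_basicOpen f a).ge hfr

theorem fibre_rank {X Y : Scheme.{u}} (f : X ⟶ Y) {U : Y.Opens} (hU : IsAffineOpen U) [IsFinite (f ∣_ U)]
    (hfree : letI := (f.app U).hom.toAlgebra; Module.Free Γ(Y, U) Γ(X, f ⁻¹ᵁ U)) (y : Y) (hy : y ∈ U) :
    IsFinite (pullback.snd f (Y.fromSpecResidueField y)) ∧
      (letI := ((Scheme.ΓSpecIso (CommRingCat.of (Y.residueField y))).inv ≫
          (pullback.snd f (Y.fromSpecResidueField y)).appTop).hom.toAlgebra;
        Module.finrank (Y.residueField y) Γ(pullback f (Y.fromSpecResidueField y), ⊤)) =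
      (letI := (f.app U).hom.toAlgebra; Module.finrank Γ(Y, U) Γ(X, f ⁻¹ᵁ U)) := by
  have hy' : Set.range (Y.fromSpecResidueField y) ⊆ U := by
    rw [Scheme.range_fromSpecResidueField]; simpa using hy
  have hp : (Y.fromSpecResidueField y) ⁻¹ᵁ U = ⊤ := Opens.ext (Set.eq_univ_of_forall fun z => hy' ⟨z, rfl⟩)
  have H := IsPullback.of_hasPullback f (Y.fromSpecResidueField y)
  refine ⟨?_, ?_⟩
  · let p' : Spec (Y.residueField y) ⟶ U.toScheme := IsOpenImmersion.lift U.ι (Y.fromSpecResidueField y) (by simpa using hy')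
    have hp' : p' ≫ U.ι = Y.fromSpecResidueField y := IsOpenImmersion.lift_fac _ _ _
    let q : pullback f (Y.fromSpecResidueField y) ⟶ (f ⁻¹ᵁ U).toScheme :=
      IsOpenImmersion.lift (f ⁻¹ᵁ U).ι (pullback.fst f (Y.fromSpecResidueField y)) (by
        rintro _ ⟨z, rfl⟩
        simp only [Scheme.Opens.range_ι, SetLike.mem_coe, Scheme.Hom.mem_preimage]
        rw [← Scheme.Hom.comp_apply, pullback.condition, Scheme.Hom.comp_apply]
        exact hy' ⟨_, rfl⟩)
    have hq : q ≫ (f ⁻¹ᵁ U).ι = pullback.fst f (Y.fromSpecResidueField y) := IsOpenImmersion.lift_fac _ _ _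
    have sq : IsPullback q (pullback.snd f (Y.fromSpecResidueField y)) (f ∣_ U) p' := by
      refine IsPullback.of_right (h₁₂ := (f ⁻¹ᵁ U).ι) (v₁₃ := f) (h₂₂ := U.ι) ?_ ?_ (isPullback_morphismRestrict f U).flip
      · rw [hq, hp']; exact H
      · rw [← cancel_mono U.ι, Category.assoc, morphismRestrict_ι, ← Category.assoc, hq, Category.assoc, hp']
        exact H.w
    exact MorphismProperty.of_isPullback (P := @IsFinite.{u}) sq inferInstance
  have hUY : (⊤ : (pullback f (Y.fromSpecResidueField y)).Opens) = pullback.fst f (Y.fromSpecResidueField y) ⁻¹ᵁ (f ⁻¹ᵁ U) ⊓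
      pullback.snd f (Y.fromSpecResidueField y) ⁻¹ᵁ ⊤ := by
    rw [← Scheme.Hom.comp_preimage, pullback.condition, Scheme.Hom.comp_preimage, hp]; simp
  have h0 := (isIso_pushoutSection_iff H (US := U) (UT := ⊤) (UX := f ⁻¹ᵁ U) (by rw [hp]) le_rfl hUY).1
    (isIso_pushoutSection_of_isAffineOpen H (US := U) (UT := ⊤) (UX := f ⁻¹ᵁ U) _ le_rfl hUY hU (isAffineOpen_top _)
      (isAffineOpen_preimage f hU))
  let ι₀ := Scheme.ΓSpecIso (Y.residueField y)
  have h1 : IsPushout (f.app U) ((Y.fromSpecResidueField y).appLE U ⊤ (by rw [hp]) ≫ ι₀.hom)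
      ((pullback.fst f (Y.fromSpecResidueField y)).appLE (f ⁻¹ᵁ U) ⊤ (hUY.trans_le inf_le_left))
      (ι₀.inv ≫ (pullback.snd f (Y.fromSpecResidueField y)).appTop) :=
    IsPushout.of_iso h0 (Iso.refl _) (Iso.refl _) ι₀ (Iso.refl _)
      (by simp [Scheme.Hom.app_eq_appLE]) (by simp) (by simp) (by simp [Scheme.Hom.appTop, Scheme.Hom.app_eq_appLE])
  exact finrank_pushout h1 (finite_app f hU) hfree

theorem rank_eq_degree {X Y : Scheme.{u}} [IsIntegral X] [IsIntegral Y] (f : X ⟶ Y) [IsDominant f]
    [LocallyOfFiniteType f] {U : Y.Opens} (hU : IsAffineOpen U) [IsFinite (f ∣_ U)] (hne : (U : Set Y).Nonempty) :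
    (letI := (f.app U).hom.toAlgebra; Module.finrank Γ(Y, U) Γ(X, f ⁻¹ᵁ U)) =
      (letI := (f.residueFieldMap (genericPoint X)).hom.toAlgebra;
        Module.finrank (Y.residueField (f.base (genericPoint X))) (X.residueField (genericPoint X))) := by
  letI := (f.app U).hom.toAlgebra
  have hgU : genericPoint Y ∈ U := ((genericPoint_spec Y).mem_open_set_iff U.2).2 (by simpa using hne)
  have hξ : genericPoint X ∈ f ⁻¹ᵁ U := by
    show f (genericPoint X) ∈ U; rw [CAlgSmall.map_genericPoint f]; exact hgU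
  have hfξ : f (genericPoint X) ∈ U := hξ
  haveI : Nonempty (f ⁻¹ᵁ U) := ⟨⟨_, hξ⟩⟩
  haveI : Nonempty U := ⟨⟨_, hgU⟩⟩
  have key : ∀ (z : Y) (hz : z ∈ U) (_ : z = genericPoint Y),
      letI := ((Y.residue z).hom.comp (Y.presheaf.germ U z hz).hom).toAlgebra
      IsFractionRing Γ(Y, U) (Y.residueField z) := by
    rintro z hz rfl
    haveI := functionField_isFractionRing_of_isAffineOpen Y U hU
    exact fractionRing_transport (B := Y.functionField)
      (RingEquiv.ofBijective (Y.residue (genericPoint Y)).hom (CAlgSmall.residue_bijective_generic rfl))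
  letI algY := ((Y.residue (f (genericPoint X))).hom.comp (Y.presheaf.germ U (f (genericPoint X)) hfξ).hom).toAlgebra
  haveI := key (f (genericPoint X)) hfξ (CAlgSmall.map_genericPoint f)
  letI algX := ((X.residue (genericPoint X)).hom.comp (X.presheaf.germ (f ⁻¹ᵁ U) (genericPoint X) hξ).hom).toAlgebra
  haveI : IsFractionRing Γ(X, f ⁻¹ᵁ U) (X.residueField (genericPoint X)) := by
    haveI := functionField_isFractionRing_of_isAffineOpen X (f ⁻¹ᵁ U) (isAffineOpen_preimage f hU)
    exact fractionRing_transport (B := X.functionField)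
      (RingEquiv.ofBijective (X.residue (genericPoint X)).hom (CAlgSmall.residue_bijective_generic rfl))
  letI := (f.residueFieldMap (genericPoint X)).hom.toAlgebra
  refine (finrank_fraction Γ(Y, U) (Y.residueField (f (genericPoint X))) Γ(X, f ⁻¹ᵁ U)
    (X.residueField (genericPoint X)) (finite_app f hU) ?_).symm
  intro r
  show f.residueFieldMap (genericPoint X) (Y.residue (f (genericPoint X)) (Y.presheaf.germ U _ hfξ r)) =
    X.residue (genericPoint X) (X.presheaf.germ (f ⁻¹ᵁ U) _ hξ (f.app U r))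
  rw [← CommRingCat.comp_apply (Y.residue _), Scheme.residue_residueFieldMap, CommRingCat.comp_apply,
    Scheme.Hom.germ_stalkMap_apply]

/-- Let k be a field, X and Y integral schemes of finite type over k of the same (topological Krull)
dimension, and f : X → Y a dominant k-morphism, so that f sends the generic point ξ of X to the
generic point of Y. Then κ(ξ) is a finite extension of the residue field at f(ξ), say of degree d,
and there is a non-empty open subset U of Y such that for every point y of U the fibre X_y = X ×_Y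
Spec κ(y) is finite over κ(y) and its ring of global sections has dimension exactly d over κ(y).
(The published statement speaks of the length of X_y; the κ(y)-dimension of Γ(X_y, O) is the
invariant for which the equality holds on U, including at the generic point.) -/
theorem result (k : Type u) [Field k] {X Y : Scheme.{u}}
    [X.Over (Spec (CommRingCat.of k))] [Y.Over (Spec (CommRingCat.of k))]
    [LocallyOfFiniteType (X ↘ Spec (CommRingCat.of k))] [QuasiCompact (X ↘ Spec (CommRingCat.of k))]
    [LocallyOfFiniteType (Y ↘ Spec (CommRingCat.of k))] [QuasiCompact (Y ↘ Spec (CommRingCat.of k))]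
    [IsIntegral X] [IsIntegral Y] (f : X ⟶ Y) [IsDominant f]
    (hf : f ≫ (Y ↘ Spec (CommRingCat.of k)) = X ↘ Spec (CommRingCat.of k))
    (hdim : topologicalKrullDim ↥X = topologicalKrullDim ↥Y) :
    (letI := (f.residueFieldMap (genericPoint ↥X)).hom.toAlgebra;
      Module.Finite (Y.residueField (f.base (genericPoint ↥X))) (X.residueField (genericPoint ↥X))) ∧
    ∃ U : Y.Opens, Nonempty ↥U ∧ ∀ y : Y, y ∈ U →
      IsFinite (pullback.snd f (Y.fromSpecResidueField y)) ∧
        (letI := ((Scheme.ΓSpecIso (CommRingCat.of (Y.residueField y))).inv ≫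
            (pullback.snd f (Y.fromSpecResidueField y)).appTop).hom.toAlgebra;
          Module.finrank (Y.residueField y) ↑(Γ(pullback f (Y.fromSpecResidueField y), ⊤))) =
        (letI := (f.residueFieldMap (genericPoint ↥X)).hom.toAlgebra;
          Module.finrank (Y.residueField (f.base (genericPoint ↥X))) (X.residueField (genericPoint ↥X))) := by
  haveI : IsLocallyNoetherian X := LocallyOfFiniteType.isLocallyNoetherian (X ↘ Spec (CommRingCat.of k))
  haveI : IsLocallyNoetherian Y := LocallyOfFiniteType.isLocallyNoetherian (Y ↘ Spec (CommRingCat.of k))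
  haveI : LocallyOfFiniteType (f ≫ (Y ↘ Spec (CommRingCat.of k))) := by rw [hf]; infer_instance
  haveI : LocallyOfFiniteType f := locallyOfFiniteType_of_comp f (Y ↘ Spec (CommRingCat.of k))
  haveI : CompactSpace X := QuasiCompact.compactSpace_of_compactSpace (X ↘ Spec (CommRingCat.of k))
  haveI : IsNoetherian X := {}
  haveI : QuasiCompact f := inferInstance
  have hC : ∀ x : X, f.base x = genericPoint Y → x = genericPoint X := by
    intro x hx
    by_contra hne
    have h1 := DimLib.ptDim_lt_of_specializes (X ↘ Spec (CommRingCat.of k)) (genericPoint_specializes x) (Ne.symm hne)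
    have h2 := DimLib.ptDim_apply_le (Y ↘ Spec (CommRingCat.of k)) f x
    simp only [hf] at h2
    rw [DimLib.topologicalKrullDim_eq_ptDim_genericPoint (X ↘ Spec (CommRingCat.of k)),
      DimLib.topologicalKrullDim_eq_ptDim_genericPoint (Y ↘ Spec (CommRingCat.of k))] at hdim
    have h3 : DimLib.ptDim (X ↘ Spec (CommRingCat.of k)) (genericPoint X) =
        DimLib.ptDim (Y ↘ Spec (CommRingCat.of k)) (genericPoint Y) := by exact_mod_cast hdim
    rw [← hx] at h3
    omega
  obtain ⟨-, hAC, hAD⟩ := CAlgSmall.generic_finite_tfae f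
  have hA := hAC.2 hC
  obtain ⟨V, hV, hVne, hVfin⟩ := (hAD (Or.inr inferInstance)).1 hA
  haveI := hVne
  haveI := hVfin
  obtain ⟨U, hU, hUne, hUV, hfree⟩ := exists_free_open f hV (hVne.elim fun x => ⟨x.1, x.2⟩)
  refine ⟨hA, U, ⟨⟨hUne.some, hUne.some_mem⟩⟩, fun y hy => ?_⟩
  haveI : IsFinite (f ∣_ U) := isFinite_restrict_le f hUV
  obtain ⟨h1, h2⟩ := fibre_rank f hU hfree y hy
  exact ⟨h1, h2.trans (rank_eq_degree f hU hUne)⟩

end Groth.Agent.S14041
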