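import Groth.Statements.S14042
import Groth.Agent.S14041
import Groth.Agent.FlatMor12.MiracleScheme
import Groth.Agent.GrpdLib.InvariantAffine
-- import your own Groth.Agent.* helpers here

set_option autoImplicit false
set_option backward.isDefEq.respectTransparency.types false
universe u
open CategoryTheory CategoryTheory.Limits AlgebraicGeometry
open W4c1frobunstiva

namespace Groth.Agent.S14042

open TopologicalSpace TensorProduct in
theorem finrank_tensor_le (A C R K L : Type u) [CommRing A] [IsDomain A] [CommRing C] [Algebra A C]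
    [Module.Flat A C] [CommRing R] [IsLocalRing R] [Algebra A R] (M : Submonoid A) (hM : M ≤ nonZeroDivisors A)
    [IsLocalization M R] [Field K] [Algebra A K] [IsFractionRing A K] [Field L] [Algebra C L] [Algebra K L]
    [Algebra A L] [IsScalarTower A C L] [IsScalarTower A K L] [Module.Finite K L]
    (hinj : Function.Injective (algebraMap C L)) :
    Module.finrank (IsLocalRing.ResidueField R) (IsLocalRing.ResidueField R ⊗[A] C) ≤ Module.finrank K L := by
  by_cases hfin : Module.Finite (IsLocalRing.ResidueField R) (IsLocalRing.ResidueField R ⊗[A] C)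
  swap
  · exact (Module.finrank_of_not_finite hfin).le.trans (Nat.zero_le _)
  have hu : ∀ s : M, IsUnit (algebraMap A L s) := fun s => by
    rw [IsScalarTower.algebraMap_apply A K L]
    exact (IsUnit.mk0 _ ((IsFractionRing.to_map_eq_zero_iff (K := K)).not.2
      (nonZeroDivisors.ne_zero (hM s.2)))).map _
  letI : Algebra R L := (IsLocalization.lift (S := R) hu).toAlgebra
  haveI : IsScalarTower A R L := .of_algebraMap_eq fun a => (IsLocalization.lift_eq hu a).symm
  let φ : R ⊗[A] C →ₐ[R] L :=
    Algebra.TensorProduct.lift (Algebra.ofId R L) (IsScalarTower.toAlgHom A C L) (fun _ _ => .all _ _)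
  have hφ : Function.Injective φ := by
    rw [injective_iff_map_eq_zero]
    intro z hz
    haveI : IsLocalizedModule M (TensorProduct.mk A R C 1) :=
      (isLocalizedModule_iff_isBaseChange M R _).2 (TensorProduct.isBaseChange A C R)
    obtain ⟨⟨c, s⟩, h⟩ := IsLocalizedModule.surj M (TensorProduct.mk A R C 1) z
    have h' : algebraMap A R s • z = (1 : R) ⊗ₜ[A] c := by
      rw [algebraMap_smul]; exact h
    have h0 : algebraMap C L c = 0 := by
      have := congrArg φ h'
      rw [map_smul, hz, smul_zero] at this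
      simpa [φ] using this.symm
    rw [(injective_iff_map_eq_zero _).1 hinj c h0, TensorProduct.tmul_zero] at h'
    exact (IsLocalization.map_units R s).smul_eq_zero.1 h'
  let e := Algebra.TensorProduct.cancelBaseChange A R R (IsLocalRing.ResidueField R) C
  let b := Module.finBasis (IsLocalRing.ResidueField R) (IsLocalRing.ResidueField R ⊗[A] C)
  let b' := b.map ((TensorProduct.AlgebraTensorModule.cancelBaseChange A R (IsLocalRing.ResidueField R)
    (IsLocalRing.ResidueField R) C).symm)
  have hsurj := TensorProduct.mk_surjective R (R ⊗[A] C) (IsLocalRing.ResidueField R) Ideal.Quotient.mk_surjective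
  choose v hv using fun i => hsurj (b' i)
  have hind : LinearIndependent R v := by
    refine Module.IsLocalRing.linearIndependent_of_flat v ?_
    convert b'.linearIndependent using 1
    exact funext hv
  have hind2 : LinearIndependent R (φ ∘ v) := hind.map' φ.toLinearMap (LinearMap.ker_eq_bot.2 hφ)
  have hA : LinearIndependent A (φ ∘ v) := hind2.restrict_scalars (fun x y h => by
    simp only [Algebra.smul_def, mul_one] at h
    exact IsLocalization.injective R hM h)
  simpa using ((LinearIndependent.iff_fractionRing A K).1 hA).fintype_card_le_finrank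

theorem exists_affine_nhd {X Y : Scheme.{u}} (f : X ⟶ Y) [LocallyOfFiniteType f] [IsSeparated f] [QuasiCompact f]
    {V : Y.Opens} (hV : IsAffineOpen V) (y : Y) (hyV : y ∈ V)
    (hy : IsFinite (pullback.snd f (Y.fromSpecResidueField y))) :
    ∃ W : X.Opens, IsAffineOpen W ∧ W ≤ f ⁻¹ᵁ V ∧ (∀ x ∈ W, f.QuasiFiniteAt x) ∧ f ⁻¹' {y} ⊆ (W : Set X) := by
  haveI : IsAffine V.toScheme := hV
  let g := f ∣_ V
  have hqf : ∀ z : (f ⁻¹ᵁ V).toScheme, g.QuasiFiniteAt z ↔ f.QuasiFiniteAt ((f ⁻¹ᵁ V).ι z) := fun z => by
    rw [← Scheme.Hom.quasiFiniteAt_comp_iff (f := g) (g := V.ι), morphismRestrict_ι,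
      Scheme.Hom.quasiFiniteAt_comp_iff_of_isOpenImmersion]
  haveI : IsFinite (f.fiberToSpecResidueField y) := hy
  haveI : IsArtinianScheme (Spec (Y.residueField y)) := inferInstance
  haveI : IsLocallyArtinian (f.fiber y) := .of_locallyQuasiFinite (f.fiberToSpecResidueField y)
  haveI : CompactSpace ↥(f.fiber y) := QuasiCompact.compactSpace_of_compactSpace (f.fiberToSpecResidueField y)
  haveI : Finite ↥(f.fiber y) := finite_of_compact_of_discrete
  have hfin : (f ⁻¹' {y}).Finite := f.range_fiberι y ▸ Set.finite_range _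
  have hmem : ∀ x : X, f x = y → f.QuasiFiniteAt x := by
    rintro x rfl
    exact Scheme.Hom.quasiFiniteAt_iff_isOpen_singleton_asFiber.2 (isOpen_discrete _)
  let j := g.quasiFiniteLocus.ι ≫ g.toNormalization
  haveI : IsAffine g.normalization := isAffine_of_isAffineHom g.fromNormalization
  let O : Set g.normalization := j '' ((g.quasiFiniteLocus.ι ≫ (f ⁻¹ᵁ V).ι) ⁻¹' (f ⁻¹' {y}))
  have hO : O.Finite := ((hfin.preimage (g.quasiFiniteLocus.ι ≫ (f ⁻¹ᵁ V).ι).isOpenEmbedding.injective.injOn)).image _
  obtain ⟨r, hr, hrle⟩ := GrpdLib.exists_basicOpen_of_finite O hO j.opensRange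
    (by rintro _ ⟨z, -, rfl⟩; exact ⟨z, rfl⟩)
  let ι' := g.quasiFiniteLocus.ι ≫ (f ⁻¹ᵁ V).ι
  have hD : IsAffineOpen (j ⁻¹ᵁ g.normalization.basicOpen r) :=
    ((isAffineOpen_top _).basicOpen r).preimage_of_isOpenImmersion j (by exact hrle)
  refine ⟨ι' ''ᵁ (j ⁻¹ᵁ g.normalization.basicOpen r), hD.image_of_isOpenImmersion ι', ?_, ?_, ?_⟩
  · rintro _ ⟨z, -, rfl⟩
    exact (g.quasiFiniteLocus.ι z).2
  · rintro _ ⟨z, -, rfl⟩
    exact (hqf _).1 z.2
  · intro x hx
    have hxV : x ∈ f ⁻¹ᵁ V := by show f x ∈ V; rw [show f x = y from hx]; exact hyV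
    have hz : g.QuasiFiniteAt ⟨x, hxV⟩ := (hqf _).2 (hmem x hx)
    refine ⟨⟨⟨x, hxV⟩, hz⟩, hr ⟨_, ?_, rfl⟩, rfl⟩
    exact hx

theorem flat_nhd (k : Type u) [Field k] {X Y : Scheme.{u}}
    [X.Over (Spec (CommRingCat.of k))] [Y.Over (Spec (CommRingCat.of k))]
    [LocallyOfFiniteType (X ↘ Spec (CommRingCat.of k))] [QuasiCompact (X ↘ Spec (CommRingCat.of k))]
    [LocallyOfFiniteType (Y ↘ Spec (CommRingCat.of k))]
    [IsIntegral X] [IsIntegral Y] (f : X ⟶ Y) [LocallyOfFiniteType f]
    (hf : f ≫ (Y ↘ Spec (CommRingCat.of k)) = X ↘ Spec (CommRingCat.of k))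
    (hdim : topologicalKrullDim ↥X = topologicalKrullDim ↥Y)
    (hX : ∀ x : X, IsRegularLocalRing (X.presheaf.stalk x))
    (hY : ∀ y : Y, IsRegularLocalRing (Y.presheaf.stalk y)) (W : X.Opens)
    (hW : ∀ x ∈ W, f.QuasiFiniteAt x) (hne : (W : Set X).Nonempty) : Flat (W.ι ≫ f) := by
  let q := Y ↘ Spec (CommRingCat.of k)
  haveI : Nonempty W := ⟨⟨_, hne.some_mem⟩⟩
  haveI : LocallyOfFiniteType (f ≫ q) := by rw [hf]; infer_instance
  haveI : LocallyOfFiniteType ((W.ι ≫ f) ≫ q) := by rw [Category.assoc]; infer_instance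
  haveI : LocallyQuasiFinite (W.ι ≫ f) := by
    rw [← Scheme.Hom.quasiFiniteLocus_eq_top_iff, eq_top_iff]
    exact fun z _ => (Scheme.Hom.quasiFiniteAt_comp_iff_of_isOpenImmersion).2 (hW _ z.2)
  let e := DimLib.ptDim (X ↘ Spec (CommRingCat.of k)) (genericPoint X)
  have hXd : topologicalKrullDim X = (e : WithBot ℕ∞) :=
    DimLib.topologicalKrullDim_eq_ptDim_genericPoint (X ↘ Spec (CommRingCat.of k))
  refine FlatMor12.flat_of_cm_of_regular q (W.ι ≫ f) hY ?_ e e le_rfl ?_ ?_ ?_
  · intro x
    haveI := hX x.1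
    haveI : IsRegularLocalRing (W.toScheme.presheaf.stalk x) :=
      IsRegularLocalRing.of_ringEquiv (W.stalkIso x).symm.commRingCatIsoToRingEquiv
    exact CAlgH3.isCohenMacaulayLocalRing_of_regular _
  · intro Z hZ
    haveI : IrreducibleSpace W.toScheme := inferInstance
    rw [irreducibleComponents_eq_singleton, Set.mem_singleton_iff] at hZ
    rw [hZ, IsHomeomorph.topologicalKrullDim_eq _ (Homeomorph.Set.univ _).isHomeomorph, ← hXd,
      DimLib.topologicalKrullDim_eq_ptDim_genericPoint ((W.ι ≫ f) ≫ q),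
      DimLib.topologicalKrullDim_eq_ptDim_genericPoint (X ↘ Spec (CommRingCat.of k))]
    simp only [Category.assoc, hf]
    rw [DimLib.ptDim_comp_preimmersion]
    congr 3
    exact genericPoint_eq_of_isOpenImmersion W.ι
  · intro Z hZ
    haveI : IrreducibleSpace Y := inferInstance
    rw [irreducibleComponents_eq_singleton, Set.mem_singleton_iff] at hZ
    rw [hZ, IsHomeomorph.topologicalKrullDim_eq _ (Homeomorph.Set.univ _).isHomeomorph, ← hdim, hXd]
  · intro y Z hZ
    haveI : DiscreteTopology ↥((W.ι ≫ f).base ⁻¹' {y}) :=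
      isDiscrete_iff_discreteTopology.1 ((W.ι ≫ f).isDiscrete_preimage_singleton y)
    obtain ⟨a, ha⟩ := hZ.1.1
    have hZs : Z = {a} := Set.eq_singleton_iff_unique_mem.2 ⟨ha, fun b hb =>
      by
        obtain ⟨c, -, h1, h2⟩ := hZ.1.isPreirreducible {b} {a} (isOpen_discrete _) (isOpen_discrete _)
          ⟨b, hb, rfl⟩ ⟨a, ha, rfl⟩
        exact h1.symm.trans h2⟩
    haveI : Subsingleton Z := by rw [hZs]; infer_instance
    haveI : Nonempty Z := ⟨⟨a, ha⟩⟩
    rw [Nat.sub_self, Nat.cast_zero]
    haveI : Nonempty (TopologicalSpace.IrreducibleCloseds ↥Z) :=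
      ⟨⟨{⟨a, ha⟩}, isIrreducible_singleton, isClosed_discrete _⟩⟩
    exact le_antisymm (topologicalKrullDim_zero_of_discreteTopology Z) Order.krullDim_nonneg

theorem appLE_fromSpecResidueField {Y : Scheme.{u}} {V : Y.Opens} (hV : IsAffineOpen V) (y : Y) (hy : y ∈ V)
    (e : ⊤ ≤ Y.fromSpecResidueField y ⁻¹ᵁ V) :
    (Y.fromSpecResidueField y).appLE V ⊤ e ≫ (Scheme.ΓSpecIso (Y.residueField y)).hom =
      Y.presheaf.germ V y hy ≫ Y.residue y := by
  have h := hV.SpecMap_appLE_fromSpec (Y.fromSpecResidueField y) (isAffineOpen_top _) e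
  rw [IsAffineOpen.fromSpec_top, Scheme.isoSpec_Spec_inv] at h
  apply Spec.map_injective
  rw [← cancel_mono hV.fromSpec, Spec.map_comp, Spec.map_comp, Category.assoc, h, ← Category.assoc,
    ← Spec.map_comp, Iso.inv_hom_id, Spec.map_id, Category.id_comp, Category.assoc]
  conv_lhs => rw [Scheme.fromSpecResidueField, ← hV.fromSpecStalk_eq_fromSpecStalk hy]
  rfl

theorem fibre_le {X Y : Scheme.{u}} [IsIntegral X] [IsIntegral Y] (f : X ⟶ Y) [IsDominant f]
    {V : Y.Opens} (hV : IsAffineOpen V) {W : X.Opens} (hW : IsAffineOpen W) (hne : (W : Set X).Nonempty)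
    (hWV : W ≤ f ⁻¹ᵁ V) [Flat (W.ι ≫ f)]
    [hfin : letI := (f.residueFieldMap (genericPoint X)).hom.toAlgebra;
      Module.Finite (Y.residueField (f.base (genericPoint X))) (X.residueField (genericPoint X))]
    {y : Y} (hy : y ∈ V) (hWy : f ⁻¹' {y} ⊆ (W : Set X)) :
    (letI := ((Scheme.ΓSpecIso (CommRingCat.of (Y.residueField y))).inv ≫
            (pullback.snd f (Y.fromSpecResidueField y)).appTop).hom.toAlgebra;
          Module.finrank (Y.residueField y) ↑(Γ(pullback f (Y.fromSpecResidueField y), ⊤))) ≤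
      (letI := (f.residueFieldMap (genericPoint ↥X)).hom.toAlgebra;
          Module.finrank (Y.residueField (f.base (genericPoint ↥X))) (X.residueField (genericPoint ↥X))) := by
  have hξ : genericPoint X ∈ W := ((genericPoint_spec X).mem_open_set_iff W.2).2 (by simpa using hne)
  have hfξ : f (genericPoint X) ∈ V := hWV hξ
  haveI : Nonempty W := ⟨⟨_, hξ⟩⟩
  haveI : Nonempty V := ⟨⟨_, hfξ⟩⟩
  have hflat : (f.appLE V W hWV).hom.Flat := by
    have h := (W.ι ≫ f).flat_appLE hV (show IsAffineOpen (⊤ : W.toScheme.Opens) from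
      haveI : IsAffine W.toScheme := hW; isAffineOpen_top _) (fun z _ => hWV z.2)
    have he : (W.ι ≫ f).appLE V ⊤ (fun z _ => hWV z.2) ≫ W.topIso.hom = f.appLE V W hWV := by
      simp [Scheme.Hom.appLE]
      erw [← Functor.map_comp, ← Functor.map_comp]
      rfl
    rw [← he, CommRingCat.hom_comp]
    exact h.comp (RingHom.Flat.of_bijective (ConcreteCategory.bijective_of_isIso W.topIso.hom))
  letI := (f.appLE V W hWV).hom.toAlgebra
  haveI : Module.Flat Γ(Y, V) Γ(X, W) := hflat
  -- generic fibre
  have key : ∀ (z : Y) (hz : z ∈ V) (_ : z = genericPoint Y),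
      letI := ((Y.residue z).hom.comp (Y.presheaf.germ V z hz).hom).toAlgebra
      IsFractionRing Γ(Y, V) (Y.residueField z) := by
    rintro z hz rfl
    haveI := functionField_isFractionRing_of_isAffineOpen Y V hV
    exact S14041.fractionRing_transport (B := Y.functionField)
      (RingEquiv.ofBijective (Y.residue (genericPoint Y)).hom (CAlgSmall.residue_bijective_generic rfl))
  letI algY := ((Y.residue (f (genericPoint X))).hom.comp (Y.presheaf.germ V (f (genericPoint X)) hfξ).hom).toAlgebra
  haveI := key (f (genericPoint X)) hfξ (CAlgSmall.map_genericPoint f)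
  letI algX := ((X.residue (genericPoint X)).hom.comp (X.presheaf.germ W (genericPoint X) hξ).hom).toAlgebra
  have hinj : Function.Injective (algebraMap Γ(X, W) (X.residueField (genericPoint X))) := by
    haveI : IsFractionRing Γ(X, W) (X.residueField (genericPoint X)) := by
      haveI := functionField_isFractionRing_of_isAffineOpen X W hW
      exact S14041.fractionRing_transport (B := X.functionField)
        (RingEquiv.ofBijective (X.residue (genericPoint X)).hom (CAlgSmall.residue_bijective_generic rfl))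
    exact IsFractionRing.injective _ _
  letI := (f.residueFieldMap (genericPoint X)).hom.toAlgebra
  letI : Algebra Γ(Y, V) (X.residueField (genericPoint X)) :=
    ((algebraMap Γ(X, W) (X.residueField (genericPoint X))).comp (f.appLE V W hWV).hom).toAlgebra
  haveI : IsScalarTower Γ(Y, V) Γ(X, W) (X.residueField (genericPoint X)) := .of_algebraMap_eq fun _ => rfl
  haveI : IsScalarTower Γ(Y, V) (Y.residueField (f (genericPoint X))) (X.residueField (genericPoint X)) :=
    .of_algebraMap_eq fun r => by
      show X.residue (genericPoint X) (X.presheaf.germ W _ hξ (f.appLE V W hWV r)) =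
        f.residueFieldMap (genericPoint X) (Y.residue (f (genericPoint X)) (Y.presheaf.germ V _ hfξ r))
      conv_rhs => rw [← CommRingCat.comp_apply (Y.residue _), Scheme.residue_residueFieldMap, CommRingCat.comp_apply,
        Scheme.Hom.germ_stalkMap_apply]
      rw [Scheme.Hom.appLE, CommRingCat.comp_apply, TopCat.Presheaf.germ_res_apply]
  -- the local ring at `y`
  letI := (Y.presheaf.germ V y hy).hom.toAlgebra
  haveI : IsLocalization.AtPrime (Y.presheaf.stalk y) (hV.primeIdealOf ⟨y, hy⟩).asIdeal :=
    hV.isLocalization_stalk ⟨y, hy⟩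
  have hmain := finrank_tensor_le Γ(Y, V) Γ(X, W) (Y.presheaf.stalk y) (Y.residueField (f (genericPoint X)))
    (X.residueField (genericPoint X)) (hV.primeIdealOf ⟨y, hy⟩).asIdeal.primeCompl
    (Ideal.primeCompl_le_nonZeroDivisors _) hinj
  -- the fibre
  have hy' : Set.range (Y.fromSpecResidueField y) ⊆ V := by
    rw [Scheme.range_fromSpecResidueField]; simpa using hy
  have hp : (Y.fromSpecResidueField y) ⁻¹ᵁ V = ⊤ :=
    TopologicalSpace.Opens.ext (Set.eq_univ_of_forall fun z => hy' ⟨z, rfl⟩)
  have H := IsPullback.of_hasPullback f (Y.fromSpecResidueField y)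
  have hUY : (⊤ : (pullback f (Y.fromSpecResidueField y)).Opens) = pullback.fst f (Y.fromSpecResidueField y) ⁻¹ᵁ W ⊓
      pullback.snd f (Y.fromSpecResidueField y) ⁻¹ᵁ ⊤ := by
    refine (eq_top_iff.2 fun z _ => ⟨hWy ?_, trivial⟩).symm
    show f (f.fiberι y z) ∈ ({y} : Set Y)
    exact (f.range_fiberι y).le ⟨z, rfl⟩
  have h0 := (isIso_pushoutSection_iff H (US := V) (UT := ⊤) (UX := W) (by rw [hp]) hWV hUY).1
    (isIso_pushoutSection_of_isAffineOpen H (US := V) (UT := ⊤) (UX := W) _ hWV hUY hV (isAffineOpen_top _) hW)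
  let ι₀ := Scheme.ΓSpecIso (Y.residueField y)
  have h1 : IsPushout (f.appLE V W hWV) (Y.presheaf.germ V y hy ≫ Y.residue y)
      ((pullback.fst f (Y.fromSpecResidueField y)).appLE W ⊤ (hUY.trans_le inf_le_left))
      (ι₀.inv ≫ (pullback.snd f (Y.fromSpecResidueField y)).appTop) :=
    IsPushout.of_iso h0 (Iso.refl _) (Iso.refl _) ι₀ (Iso.refl _)
      (by simp) (by simp only [Iso.refl_hom, Category.id_comp]; exact appLE_fromSpecResidueField hV y hy _)
      (by simp) (by simp [Scheme.Hom.appTop, Scheme.Hom.app_eq_appLE])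
  refine le_of_eq_of_le ?_ hmain
  letI : Algebra Γ(Y, V) (Y.residueField y) := (Y.presheaf.germ V y hy ≫ Y.residue y).hom.toAlgebra
  letI : Algebra (Y.residueField y) Γ(pullback f (Y.fromSpecResidueField y), ⊤) :=
    (ι₀.inv ≫ (pullback.snd f (Y.fromSpecResidueField y)).appTop).hom.toAlgebra
  algebraize [((pullback.fst f (Y.fromSpecResidueField y)).appLE W ⊤ (hUY.trans_le inf_le_left)).hom]
  letI : Algebra Γ(Y, V) Γ(pullback f (Y.fromSpecResidueField y), ⊤) :=
    (f.appLE V W hWV ≫ (pullback.fst f (Y.fromSpecResidueField y)).appLE W ⊤ (hUY.trans_le inf_le_left)).hom.toAlgebra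
  haveI : IsScalarTower Γ(Y, V) Γ(X, W) Γ(pullback f (Y.fromSpecResidueField y), ⊤) := .of_algebraMap_eq fun _ => rfl
  haveI : IsScalarTower Γ(Y, V) (Y.residueField y) Γ(pullback f (Y.fromSpecResidueField y), ⊤) :=
    .of_algebraMap_eq fun r => ConcreteCategory.congr_hom h1.w r
  haveI : Algebra.IsPushout Γ(Y, V) (Y.residueField y) Γ(X, W) Γ(pullback f (Y.fromSpecResidueField y), ⊤) :=
    CommRingCat.isPushout_iff_isPushout.1 h1.flip
  exact ((Algebra.IsPushout.out (R := Γ(Y, V)) (S := Y.residueField y) (R' := Γ(X, W))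
    (S' := Γ(pullback f (Y.fromSpecResidueField y), ⊤))).equiv.finrank_eq).symm

/-- Let k be a field, X and Y integral schemes of finite type over k of the same dimension whose local
rings are all regular, and f : X → Y a dominant and separated k-morphism; let d be the degree of the
residue field of the generic point of X over that of the generic point of Y, a finite extension.
Then for every point y of Y, either the fibre X_y has positive dimension — it is not finite over
κ(y) — or its ring of global sections has dimension at most d over κ(y). (The published statement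
speaks of length; the κ(y)-rank used here is at least the length, so this form implies the printed
one. The published statement does not mention separatedness: for the affine line with doubled origin
mapping to the affine line — regular, dominant, degree 1 — the fibre over the origin is two reduced
points, of rank 2; the étale-local splitting of a quasi-finite morphism used in the published proof
needs f separated, so f is taken separated here.) -/
theorem result (k : Type u) [Field k] {X Y : Scheme.{u}}
    [X.Over (Spec (CommRingCat.of k))] [Y.Over (Spec (CommRingCat.of k))]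
    [LocallyOfFiniteType (X ↘ Spec (CommRingCat.of k))] [QuasiCompact (X ↘ Spec (CommRingCat.of k))]
    [LocallyOfFiniteType (Y ↘ Spec (CommRingCat.of k))] [QuasiCompact (Y ↘ Spec (CommRingCat.of k))]
    [IsIntegral X] [IsIntegral Y] (f : X ⟶ Y) [IsDominant f]
    (hf : f ≫ (Y ↘ Spec (CommRingCat.of k)) = X ↘ Spec (CommRingCat.of k))
    (hdim : topologicalKrullDim ↥X = topologicalKrullDim ↥Y)
    [IsSeparated f] (hX : ∀ x : X, IsRegularLocalRing (X.presheaf.stalk x))
    (hY : ∀ y : Y, IsRegularLocalRing (Y.presheaf.stalk y)) (y : Y)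
    (hy : IsFinite (pullback.snd f (Y.fromSpecResidueField y))) :
    (letI := ((Scheme.ΓSpecIso (CommRingCat.of (Y.residueField y))).inv ≫
            (pullback.snd f (Y.fromSpecResidueField y)).appTop).hom.toAlgebra;
          Module.finrank (Y.residueField y) ↑(Γ(pullback f (Y.fromSpecResidueField y), ⊤))) ≤
      (letI := (f.residueFieldMap (genericPoint ↥X)).hom.toAlgebra;
          Module.finrank (Y.residueField (f.base (genericPoint ↥X))) (X.residueField (genericPoint ↥X))) := by
  haveI : IsLocallyNoetherian X := LocallyOfFiniteType.isLocallyNoetherian (X ↘ Spec (CommRingCat.of k))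
  haveI : LocallyOfFiniteType (f ≫ (Y ↘ Spec (CommRingCat.of k))) := by rw [hf]; infer_instance
  haveI : LocallyOfFiniteType f := locallyOfFiniteType_of_comp f (Y ↘ Spec (CommRingCat.of k))
  haveI : CompactSpace X := QuasiCompact.compactSpace_of_compactSpace (X ↘ Spec (CommRingCat.of k))
  haveI : IsNoetherian X := {}
  haveI : QuasiCompact f := inferInstance
  letI := (f.residueFieldMap (genericPoint X)).hom.toAlgebra
  haveI : Module.Finite (Y.residueField (f.base (genericPoint X))) (X.residueField (genericPoint X)) :=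
    (Groth.Agent.S14041.result k f hf hdim).1
  obtain ⟨_, ⟨V, hV, rfl⟩, hyV, -⟩ := Y.isBasis_affineOpens.exists_subset_of_mem_open (Set.mem_univ y) isOpen_univ
  obtain ⟨W, hW, hWV, hWq, hWy⟩ := exists_affine_nhd f hV y hyV hy
  rcases Set.eq_empty_or_nonempty (W : Set X) with he | hne
  · rw [he, Set.subset_empty_iff] at hWy
    haveI : IsEmpty ↥(pullback f (Y.fromSpecResidueField y)) := ⟨fun z => by
      have : (f.fiberι y z) ∈ f ⁻¹' {y} := f.range_fiberι y ▸ ⟨z, rfl⟩
      rwa [hWy] at this⟩
    letI := ((Scheme.ΓSpecIso (CommRingCat.of (Y.residueField y))).inv ≫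
      (pullback.snd f (Y.fromSpecResidueField y)).appTop).hom.toAlgebra
    haveI : Subsingleton Γ(pullback f (Y.fromSpecResidueField y), ⊤) := inferInstance
    exact (Module.finrank_zero_of_subsingleton (R := Y.residueField y)).le.trans (Nat.zero_le _)
  haveI : Flat (W.ι ≫ f) := flat_nhd k f hf hdim hX hY W hWq hne
  exact fibre_le f hV hW hne hWV hyV hWy

end Groth.Agent.S14042
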