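import Groth.Statements.S14043
import Mathlib.LinearAlgebra.Matrix.NonsingularInverse
import Mathlib.RingTheory.Nilpotent.Basic
import Mathlib.RingTheory.Ideal.Quotient.Operations

set_option autoImplicit false
universe u v
open W4c1frobunstiva

namespace Groth.Agent.S14043

/-- Let R be a commutative Noetherian ring, M an R-module that is NR-free of rank r — generated by some
r elements all of whose linear relations have nilpotent coefficients — and m, m' two generating
families of M, each indexed by the same finite set of size r. Then some invertible r × r matrix T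
over R expresses m' in terms of m, m'_j = Σ_i T_{ji} m_i; reducing modulo the nilradical n, such a T
induces the change-of-basis matrix between the bases of M/nM given by the images of m and m' (an
r-element generating family of M is itself an NR-basis), so only the existence of an invertible T is
asserted here. (T is not unique.) -/
theorem result (R : Type u) [CommRing R]
    [IsNoetherianRing R] (M : Type v) [AddCommGroup M] [Module R M] (r : ℕ)
    (hM : W4c1frobunstiva.IsNRFree R M r) (m m' : Fin r → M)
    (hm : Submodule.span R (Set.range m) = ⊤) (hm' : Submodule.span R (Set.range m') = ⊤) :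
    ∃ T : Matrix (Fin r) (Fin r) R, IsUnit T ∧ ∀ j, m' j = ∑ i, T j i • m i := by
  classical
  obtain ⟨m₀, hspan, hrel⟩ := hM
  have key : ∀ n : Fin r → M, Submodule.span R (Set.range n) = ⊤ →
      ∃ S : Matrix (Fin r) (Fin r) R, IsUnit S ∧ ∀ j, n j = ∑ i, S j i • m₀ i := by
    intro n hn
    have h1 : ∀ j, ∃ c : Fin r → R, ∑ i, c i • m₀ i = n j := fun j =>
      (Submodule.mem_span_range_iff_exists_fun R).1 (hspan ▸ Submodule.mem_top)
    have h2 : ∀ j, ∃ c : Fin r → R, ∑ i, c i • n i = m₀ j := fun j =>
      (Submodule.mem_span_range_iff_exists_fun R).1 (hn ▸ Submodule.mem_top)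
    choose S hS using h1
    choose S' hS' using h2
    refine ⟨Matrix.of S, ?_, fun j => (hS j).symm⟩
    have h3 : ∀ j i, IsNilpotent ((Matrix.of S' * Matrix.of S - 1) j i) := by
      intro j
      refine hrel _ ?_
      simp only [Matrix.sub_apply, sub_smul, Finset.sum_sub_distrib, Matrix.mul_apply, Matrix.of_apply,
        Finset.sum_smul, mul_smul, Matrix.one_apply, ite_smul, one_smul, zero_smul]
      rw [Finset.sum_comm]
      simp only [← Finset.smul_sum, hS, hS', Finset.sum_ite_eq, Finset.mem_univ, if_true, sub_self]
    let q := Ideal.Quotient.mk (nilradical R)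
    have h4 : (Matrix.of S' * Matrix.of S).map q = 1 := Matrix.ext fun j i => by
      rw [Matrix.map_apply, ← sub_add_cancel ((Matrix.of S' * Matrix.of S) j i) ((1 : Matrix (Fin r) (Fin r) R) j i),
        map_add, show q ((Matrix.of S' * Matrix.of S) j i - (1 : Matrix (Fin r) (Fin r) R) j i) = 0 from
          Ideal.Quotient.eq_zero_iff_mem.2 (mem_nilradical.2 (h3 j i)), zero_add, Matrix.one_apply, Matrix.one_apply]
      split <;> simp
    rw [Matrix.isUnit_iff_isUnit_det]
    have h5 : q ((Matrix.of S' * Matrix.of S).det) = 1 := by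
      rw [RingHom.map_det, RingHom.mapMatrix_apply, h4, Matrix.det_one]
    have h6 : IsUnit ((Matrix.of S' * Matrix.of S).det) := by
      have h8 : IsNilpotent ((Matrix.of S' * Matrix.of S).det - 1) :=
        mem_nilradical.1 (Ideal.Quotient.eq.1 (h5.trans (map_one q).symm))
      have := IsNilpotent.isUnit_add_one h8
      rwa [sub_add_cancel] at this
    rw [Matrix.det_mul] at h6
    exact (IsUnit.mul_iff.1 h6).2
  obtain ⟨S, hSu, hS⟩ := key m hm
  obtain ⟨S₁, hS₁u, hS₁⟩ := key m' hm'
  obtain ⟨uS, rfl⟩ := hSu
  refine ⟨S₁ * ((uS⁻¹ : (Matrix (Fin r) (Fin r) R)ˣ) : Matrix (Fin r) (Fin r) R), hS₁u.mul (Units.isUnit _), fun j => ?_⟩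
  have h7 : ∀ (T : Matrix (Fin r) (Fin r) R), (∑ i, T j i • m i) =
      ∑ i, (T * (uS : Matrix (Fin r) (Fin r) R)) j i • m₀ i := fun T => by
    simp only [hS, Finset.smul_sum, smul_smul, Matrix.mul_apply, Finset.sum_smul]
    rw [Finset.sum_comm]
  rw [h7, mul_assoc, Units.inv_mul, mul_one]
  exact hS₁ j

end Groth.Agent.S14043
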