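import Groth.Statements.S14044
import Groth.Agent.HNF15.Basic
-- import your own Groth.Agent.* helpers here

set_option autoImplicit false
universe u
open W4c1frobunstiva

namespace Groth.Agent.S14044

/-- Let k be a field, p a prime number and M a square matrix of size r over k[[t]] with non-zero
determinant. Allowing, besides invertible row operations over k[[t]], invertible column operations
by matrices with entries in k[[t^p]] (power series whose coefficients vanish in all degrees not
divisible by p), M can be brought to a row-reduced form — upper triangular, diagonal entries
t^{e_i}, entries above the diagonal in column j polynomials of degree less than e_j — in which in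
addition the (i, j) entry (i < j) has no term in a degree that is at least e_i and congruent to e_i
modulo p. (Existence only; the form is not unique. The published statement asks that no term in any
degree congruent to e_i modulo p remain; the published reduction — adding k[[t^p]]-multiples of
column i to column j — removes exactly the terms of degree at least e_i, which is what is asserted
here. The published statement takes k algebraically closed of characteristic p, where k[[t^p]] is
the ring of p-th powers; neither assumption is used.) -/
theorem result (k : Type u)
    [Field k] (p : ℕ) [Fact p.Prime] (r : ℕ) (M : Matrix (Fin r) (Fin r) (PowerSeries k))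
    (hM : M.det ≠ 0) :
    ∃ (N P : Matrix (Fin r) (Fin r) (PowerSeries k)) (e : Fin r → ℕ), IsUnit N ∧ IsUnit P ∧
      (∀ i j n, ¬ p ∣ n → PowerSeries.coeff n (P i j) = 0) ∧
      (∀ i, (N * M * P) i i = PowerSeries.X ^ e i) ∧ (∀ i j, j < i → (N * M * P) i j = 0) ∧
      (∀ i j, i < j → ∀ n, (e j ≤ n ∨ (e i ≤ n ∧ n % p = e i % p)) →
        PowerSeries.coeff n ((N * M * P) i j) = 0) := by
  classical
  have hp : 0 < p := (Fact.out : p.Prime).pos
  obtain ⟨N, P, e, hN, hP, hA, hR, hC⟩ := HNF15.exists_form (k := k)
    (fun n P => ∀ i j m, ¬ p ∣ m → PowerSeries.coeff m (P i j) = 0) (fun e m => e ≤ m ∧ m % p = e % p)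
    (fun i => i.elim0) (fun n P e f hP => by
      refine ⟨fun j => PowerSeries.mk fun m => if p ∣ m then - PowerSeries.coeff (m + e) (f j) else 0, ?_, fun j m => ?_⟩
      · intro i j m hm
        induction i using Fin.cases with
        | zero => induction j using Fin.cases with
          | zero =>
            rw [HNF15.blk_zero_zero, PowerSeries.coeff_one, if_neg]
            rintro rfl; exact hm (dvd_zero p)
          | succ j => rw [HNF15.blk_zero_succ, PowerSeries.coeff_mk, if_neg hm]
        | succ i => induction j using Fin.cases with
          | zero => rw [HNF15.blk_succ_zero, map_zero]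
          | succ j => rw [HNF15.blk_succ_succ]; exact hP i j m hm
      · rw [map_add, PowerSeries.coeff_X_pow_mul']
        by_cases hem : e ≤ m
        · rw [if_pos hem, PowerSeries.coeff_mk, Nat.sub_add_cancel hem]
          refine ⟨fun hc => ?_, fun h0 => ?_⟩
          · rw [if_pos ((Nat.modEq_iff_dvd' hem).1 hc.2.symm), add_neg_cancel]
          · rw [h0, neg_zero, ite_self, add_zero]
        · rw [if_neg hem]
          exact ⟨fun hc => absurd hc.1 hem, fun h0 => by rw [h0, add_zero]⟩) r M hM
  refine ⟨N, P, e, hN, hP, hA, hR.1, hR.2.1, fun i j hij m hm => ?_⟩
  rcases hm with hm | hm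
  · exact hR.2.2 i j hij m hm
  · exact hC i j hij m hm

end Groth.Agent.S14044
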