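import Groth.Statements.S14046
import Mathlib

set_option linter.all false

set_option autoImplicit false
universe u v w
open W4c1frobunstiva

open TensorProduct

namespace Groth.Agent.S14046

open TensorProduct in
/-- Let R → A be a homomorphism of commutative rings and I, J ideals of A with I ∩ J = 0 — so that A is
the fibre product of A/I and A/J over A/(I + J), i.e. Spec A is the union of the two closed
subschemes in the strong sense — and suppose A/(I + J) is flat over R. Then this persists under
every base change: for every commutative R-algebra R', the ideals generated by I and J in R' ⊗_R A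
again meet in 0. (This is the ideal-theoretic, affine form of the base-change step; the exact
sequence of unit sheaves deduced from it in the published statement — restriction of units to a
closed subscheme being surjective locally — is not restated. Without flatness of A/(I + J) the
conclusion fails: for A = k[x, y]/(xy) over R = k[u] with u ↦ x + y, I = (x) and J = (y), the base
change to R/(u) gives k[x]/(x²), in which both ideals become (x).) -/
theorem result (R : Type u) (A : Type v)
    [CommRing R] [CommRing A] [Algebra R A] (I J : Ideal A) (hIJ : I ⊓ J = ⊥)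
    [Module.Flat R (A ⧸ (I ⊔ J))] (R' : Type w) [CommRing R'] [Algebra R R'] :
    I.map (Algebra.TensorProduct.includeRight : A →ₐ[R] R' ⊗[R] A) ⊓
      J.map (Algebra.TensorProduct.includeRight : A →ₐ[R] R' ⊗[R] A) = ⊥ := by
  let a : A →ₗ[R] (A ⧸ I) × (A ⧸ J) := LinearMap.prod (Ideal.Quotient.mkₐ R I).toLinearMap (Ideal.Quotient.mkₐ R J).toLinearMap
  let b : (A ⧸ I) × (A ⧸ J) →ₗ[R] A ⧸ (I ⊔ J) :=
    LinearMap.coprod (Ideal.Quotient.factorₐ R le_sup_left).toLinearMap (-(Ideal.Quotient.factorₐ R le_sup_right).toLinearMap)
  have ha : Function.Injective a := by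
    rw [injective_iff_map_eq_zero]
    intro x hx
    simp only [a, LinearMap.prod_apply, Function.prod, Prod.mk_eq_zero, AlgHom.toLinearMap_apply, Ideal.Quotient.mkₐ_eq_mk, Ideal.Quotient.eq_zero_iff_mem] at hx
    rw [← Ideal.mem_bot, ← hIJ]
    exact hx
  have hb : Function.Surjective b := fun z => by
    obtain ⟨z, rfl⟩ := Ideal.Quotient.mk_surjective z
    exact ⟨(Ideal.Quotient.mk I z, 0), by simp [b]⟩
  have hab : Function.Exact a b := by
    intro z
    constructor
    · intro hz
      obtain ⟨x, hx⟩ := Ideal.Quotient.mk_surjective z.1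
      obtain ⟨y, hy⟩ := Ideal.Quotient.mk_surjective z.2
      simp only [b, LinearMap.coprod_apply, LinearMap.neg_apply, AlgHom.toLinearMap_apply, ← hx, ← hy, Ideal.Quotient.factorₐ_apply_mk] at hz
      rw [← sub_eq_add_neg, sub_eq_zero, Ideal.Quotient.eq, Submodule.mem_sup] at hz
      obtain ⟨i, hi, j, hj, hij⟩ := hz
      refine ⟨x - i, Prod.ext ?_ ?_⟩
      · simp only [a, LinearMap.prod_apply, Function.prod, AlgHom.toLinearMap_apply, Ideal.Quotient.mkₐ_eq_mk, ← hx, Ideal.Quotient.eq]
        simpa using neg_mem hi
      · simp only [a, LinearMap.prod_apply, Function.prod, AlgHom.toLinearMap_apply, Ideal.Quotient.mkₐ_eq_mk, ← hy, Ideal.Quotient.eq]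
        rw [show x - i - y = j by linear_combination -hij]
        exact hj
    · rintro ⟨x, rfl⟩
      simp [a, b]
  have hinj := LinearMap.lTensor_injective_of_exact_of_flat b hb a ha hab R'
  have hker : ∀ (K : Ideal A), ∀ z ∈ K.map (Algebra.TensorProduct.includeRight : A →ₐ[R] R' ⊗[R] A),
      LinearMap.lTensor R' (Ideal.Quotient.mkₐ R K).toLinearMap z = 0 := by
    intro K z hz
    have hle : K.map (Algebra.TensorProduct.includeRight : A →ₐ[R] R' ⊗[R] A) ≤
        RingHom.ker (Algebra.TensorProduct.map (AlgHom.id R R') (Ideal.Quotient.mkₐ R K)) := by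
      rw [Ideal.map_le_iff_le_comap]
      intro x hx
      simp [RingHom.mem_ker, Ideal.Quotient.eq_zero_iff_mem.2 hx]
    have := RingHom.mem_ker.1 (hle hz)
    rw [← this]
    clear this hz hle
    induction z with
    | zero => simp
    | add p q hp hq => rw [map_add, map_add, hp, hq]
    | tmul c d => simp
  rw [eq_bot_iff]
  rintro z ⟨hzI, hzJ⟩
  rw [Ideal.mem_bot]
  refine hinj ?_
  rw [map_zero]
  refine (TensorProduct.prodRight R R R' (A ⧸ I) (A ⧸ J)).injective ?_
  rw [map_zero]
  have hsplit : ∀ w, TensorProduct.prodRight R R R' (A ⧸ I) (A ⧸ J) (a.lTensor R' w) =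
      (LinearMap.lTensor R' (Ideal.Quotient.mkₐ R I).toLinearMap w, LinearMap.lTensor R' (Ideal.Quotient.mkₐ R J).toLinearMap w) := by
    intro w
    induction w with
    | zero => simp; rfl
    | add p q hp hq => rw [map_add, map_add, hp, hq, map_add, map_add]; rfl
    | tmul c d => simp [a]
  rw [hsplit, hker I z hzI, hker J z hzJ]
  rfl

end Groth.Agent.S14046
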