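import Groth.Statements.S14048
import Mathlib.Algebra.Algebra.Rat
import Mathlib.Algebra.MvPolynomial.Funext
import Mathlib.Algebra.Order.Ring.Star
import Mathlib.Algebra.Ring.IsFormallyReal
import Mathlib.Data.Rat.Star
import Mathlib.LinearAlgebra.Charpoly.Basic
import Mathlib.LinearAlgebra.FreeModule.PID
import Mathlib.RingTheory.AdicCompletion.AsTensorProduct
import Mathlib.RingTheory.AdicCompletion.Noetherian
import Mathlib.RingTheory.Adjoin.PowerBasis
import Mathlib.RingTheory.Etale.Field
import Mathlib.RingTheory.Flat.TorsionFree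
import Mathlib.RingTheory.Henselian
import Mathlib.RingTheory.Polynomial.GaussLemma
import Mathlib.RingTheory.PowerSeries.NoZeroDivisors
import Mathlib.RingTheory.RegularLocalRing.Defs
import Mathlib.RingTheory.SimpleRing.Principal
import Mathlib.Tactic

set_option linter.all false

set_option autoImplicit false
universe u
open TensorProduct
open CAlg

open scoped TensorProduct

namespace Groth.Agent.S14048

/-- Let A be an integral domain in which 2 is invertible and let t be an element of A, so that Spec A is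
a scheme over the affine line Spec ℤ[1/2][t]. Assume that (1) the ℚ-algebra map ℚ[X] → ℚ ⊗_ℤ A
sending X to 1 ⊗ t is bijective (the map Spec A → Spec ℤ[1/2][t] becomes an isomorphism after base
change to ℚ); (2) every prime number is invertible in A/(t) (the fibre over t = 0 is of pure
characteristic zero); and (3) there is a ring homomorphism s : A → ℤ[1/2] with s(t) = 1 (the fibre
over t = 1 admits a section). Then A is not Noetherian. -/
theorem result (A : Type u) [CommRing A]
    [IsDomain A] (h2 : IsUnit (2 : A)) (t : A)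
    (h1 : Function.Bijective (Polynomial.aeval (R := ℚ) ((1 : ℚ) ⊗ₜ[ℤ] t : ℚ ⊗[ℤ] A)))
    (h0 : ∀ p : ℕ, p.Prime → IsUnit ((p : ℕ) : A ⧸ Ideal.span ({t} : Set A)))
    (s : A →+* Localization.Away (2 : ℤ)) (hs : s t = 1) :
    ¬ IsNoetherianRing A := by
  intro hN
  classical
  open Polynomial in
  let e : ℚ[X] ≃ₐ[ℚ] ℚ ⊗[ℤ] A := AlgEquiv.ofBijective _ h1
  let ψ : A →+* ℚ[X] := e.symm.toRingEquiv.toRingHom.comp
    (Algebra.TensorProduct.includeRight : A →ₐ[ℤ] ℚ ⊗[ℤ] A).toRingHom
  have hψt : ψ t = X := by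
    apply e.injective
    show e (e.symm ((1 : ℚ) ⊗ₜ[ℤ] t)) = _
    rw [e.apply_symm_apply]
    exact (Polynomial.aeval_X _).symm
  have h2q : IsUnit (algebraMap ℤ ℚ 2) := by simp
  let ι : Localization.Away (2 : ℤ) →+* ℚ := IsLocalization.Away.lift (2 : ℤ) h2q
  let s' : A →ₐ[ℤ] ℚ := (ι.comp s).toIntAlgHom
  let S : ℚ ⊗[ℤ] A →ₐ[ℚ] ℚ := Algebra.TensorProduct.lift (AlgHom.id ℚ ℚ) s' fun _ _ => Commute.all _ _
  have heval : ∀ f, (ψ f).eval 1 = ι (s f) := by
    intro f
    have : S.comp e.toAlgHom = aeval (1 : ℚ) := by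
      apply Polynomial.algHom_ext
      show S (e X) = aeval (1 : ℚ) X
      rw [show e X = (1 : ℚ) ⊗ₜ[ℤ] t from aeval_X _, aeval_X]
      simp [S, s', hs]
    have h := AlgHom.congr_fun this (ψ f)
    rw [coe_aeval_eq_eval] at h
    rw [← h]
    show S (e (e.symm ((1 : ℚ) ⊗ₜ[ℤ] f))) = _
    rw [e.apply_symm_apply]
    simp [S, s']
  obtain ⟨gs, hgs⟩ := hN.noetherian (RingHom.ker s)
  let D : ℕ := ∏ g ∈ gs, ∏ k ∈ ((ψ g).comp (X + 1)).support, (((ψ g).comp (X + 1)).coeff k).den
  obtain ⟨p, hpD, hp⟩ := Nat.exists_infinite_primes (D + 3)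
  haveI := Fact.mk hp
  let Zp : Subring ℚ :=
    { carrier := {q | ¬ p ∣ q.den}
      mul_mem' := fun {a b} ha hb h => (hp.dvd_mul.mp (h.trans (Rat.mul_den_dvd a b))).elim ha hb
      one_mem' := by simp [hp.ne_one]
      add_mem' := fun {a b} ha hb h => (hp.dvd_mul.mp (h.trans (Rat.add_den_dvd a b))).elim ha hb
      zero_mem' := by simp [hp.ne_one]
      neg_mem' := fun {a} ha => by simpa using ha }
  have hZp : ∀ q : ℚ, q ∈ Zp ↔ ¬ p ∣ q.den := fun q => Iff.rfl
  have hι : ∀ z, ι z ∈ Zp := by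
    intro z
    obtain ⟨a, ⟨_, k, rfl⟩, rfl⟩ := IsLocalization.exists_mk'_eq (Submonoid.powers (2 : ℤ)) z
    have h := congrArg ι (IsLocalization.mk'_spec (Localization.Away (2 : ℤ)) a (⟨(2 : ℤ) ^ k, k, rfl⟩ : Submonoid.powers (2 : ℤ)))
    simp only [map_mul, ι, IsLocalization.Away.lift_eq, map_pow] at h
    set v := ι (IsLocalization.mk' _ a (⟨(2 : ℤ) ^ k, k, rfl⟩ : Submonoid.powers (2 : ℤ)))
    have hv : v = (a : ℚ) * ((2 : ℚ)⁻¹) ^ k := by
      rw [inv_pow, eq_mul_inv_iff_mul_eq₀ (pow_ne_zero _ two_ne_zero)]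
      simpa using h
    rw [hv]
    have hp2 : ¬ p ∣ 2 := fun h => by have := Nat.le_of_dvd two_pos h; omega
    exact mul_mem ((hZp _).mpr (by simp [hp.ne_one])) (pow_mem ((hZp _).mpr (by simpa using hp2)) k)
  let τ : A →+* ℚ[X] := (Polynomial.compRingHom (X + 1 : ℚ[X])).comp ψ
  have hτ : ∀ f, τ f = (ψ f).comp (X + 1) := fun f => rfl
  have hg : ∀ g ∈ gs, ∀ k, (τ g).coeff k ∈ Zp := by
    intro g hg k
    by_cases hk : k ∈ (τ g).support
    · intro h
      have : ((τ g).coeff k).den ∣ D := (Finset.dvd_prod_of_mem _ hk).trans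
        (Finset.dvd_prod_of_mem (fun g => ∏ k ∈ ((ψ g).comp (X + 1)).support, (((ψ g).comp (X + 1)).coeff k).den) hg)
      have hD : 0 < D := Finset.prod_pos fun g _ => Finset.prod_pos fun k _ => Rat.den_pos _
      have := Nat.le_of_dvd hD (h.trans this)
      omega
    · rw [Polynomial.notMem_support_iff.mp hk]; exact zero_mem _
  have hg0 : ∀ g ∈ gs, (τ g).coeff 0 = 0 := by
    intro g hg
    rw [coeff_zero_eq_eval_zero, hτ, eval_comp]
    simp only [eval_add, eval_X, eval_one, zero_add]
    rw [heval, show s g = 0 from RingHom.mem_ker.mp (hgs ▸ Submodule.subset_span (Finset.mem_coe.mpr hg) : g ∈ RingHom.ker s), map_zero]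
  have hall : ∀ k, ∀ f : A, (τ f).coeff k ∈ Zp := by
    intro k
    induction k using Nat.strong_induction_on with
    | _ k ih =>
      intro f
      have h00 : ∀ f, (τ f).coeff 0 ∈ Zp := fun f => by
        rw [coeff_zero_eq_eval_zero, hτ, eval_comp]
        simp only [eval_add, eval_X, eval_one, zero_add]
        rw [heval]; exact hι _
      rcases Nat.eq_zero_or_pos k with rfl | hk
      · exact h00 f
      have key : ∀ q ∈ RingHom.ker s, (τ q).coeff k ∈ Zp := by
        intro q hq
        rw [← hgs] at hq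
        induction hq using Submodule.span_induction generalizing f with
        | mem g hg' => exact hg g hg' k
        | zero => simp
        | add a b _ _ ha hb => rw [map_add, coeff_add]; exact add_mem (ha f) (hb f)
        | smul r g hg' hgk =>
          rw [smul_eq_mul, map_mul, coeff_mul]
          refine sum_mem fun ij hij => ?_
          rw [Finset.HasAntidiagonal.mem_antidiagonal] at hij
          rcases Nat.eq_zero_or_pos ij.1 with h1 | h1
          · rw [h1, show ij.2 = k by omega]; exact mul_mem (h00 r) (hgk f)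
          · rcases Nat.eq_zero_or_pos ij.2 with h2 | h2
            · have : g ∈ RingHom.ker s := hgs ▸ hg'
              have hz : (τ g).coeff 0 = 0 := by
                rw [coeff_zero_eq_eval_zero, hτ, eval_comp]
                simp only [eval_add, eval_X, eval_one, zero_add]
                rw [heval, show s g = 0 from this, map_zero]
              rw [h2, hz, mul_zero]; exact zero_mem _
            · exact mul_mem (ih _ (by omega) r) (ih _ (by omega) g)
      obtain ⟨a, ⟨_, j, rfl⟩, ha⟩ := IsLocalization.exists_mk'_eq (Submonoid.powers (2 : ℤ)) (s f)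
      have hq : (2 : A) ^ j * f - (a : A) ∈ RingHom.ker s := by
        rw [RingHom.mem_ker, map_sub, map_mul, map_pow, ← ha, sub_eq_zero, map_intCast, map_ofNat s 2]
        have := IsLocalization.mk'_spec' (Localization.Away (2 : ℤ)) a (⟨(2 : ℤ) ^ j, j, rfl⟩ : Submonoid.powers (2 : ℤ))
        simpa using this
      have h' := key _ hq
      rw [map_sub, map_mul, map_pow, map_ofNat, map_intCast] at h'
      rw [show ((2 : ℚ[X]) ^ j * τ f - (a : ℚ[X])).coeff k = (2 : ℚ) ^ j * (τ f).coeff k by
        rw [show (2 : ℚ[X]) ^ j = C ((2 : ℚ) ^ j) by rw [map_pow, map_ofNat], coeff_sub, coeff_C_mul, ← Polynomial.C_eq_intCast, coeff_C, if_neg hk.ne', sub_zero]] at h'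
      have hp2 : ¬ p ∣ 2 := fun h => by have := Nat.le_of_dvd two_pos h; omega
      have := mul_mem (pow_mem ((hZp (2 : ℚ)⁻¹).mpr (by simpa using hp2)) j) h'
      rwa [← mul_assoc, ← mul_pow, inv_mul_cancel₀ two_ne_zero, one_pow, one_mul] at this
  obtain ⟨u, hu⟩ := h0 p hp
  obtain ⟨a, ha⟩ := Ideal.Quotient.mk_surjective (↑u⁻¹ : A ⧸ Ideal.span ({t} : Set A))
  have : (p : A) * a - 1 ∈ Ideal.span ({t} : Set A) := by
    rw [← Ideal.Quotient.eq, map_mul, map_natCast, ha, ← hu, map_one, Units.mul_inv]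
  obtain ⟨b, hb⟩ := Ideal.mem_span_singleton'.mp this
  have h := congrArg (fun f => (ψ f).eval 0) hb
  simp only [map_mul, map_sub, map_natCast, map_one, hψt, eval_mul, eval_X, mul_zero, eval_sub, eval_natCast, eval_one] at h
  have hmem : (ψ a).eval 0 ∈ Zp := by
    have : (ψ a).eval 0 = (τ a).eval (-1) := by rw [hτ, eval_comp]; simp
    rw [this, eval_eq_sum]
    exact sum_mem fun k _ => mul_mem (hall k a) (pow_mem (neg_mem (one_mem _)) k)
  have hval : (ψ a).eval 0 = (p : ℚ)⁻¹ := eq_inv_of_mul_eq_one_right (by linarith)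
  rw [hval, hZp] at hmem
  apply hmem
  simp [Rat.inv_natCast_den, hp.ne_zero]

end Groth.Agent.S14048
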