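import Groth.Statements.S14049
import Groth.Agent.FlatMorThick.Affine

set_option autoImplicit false
universe u
open CategoryTheory AlgebraicGeometry
open LocStr

namespace Groth.Agent.S14049

theorem surjective_of_sq {A B : Type*} [CommRing A] [CommRing B] (φ : B →+* A) (J : Ideal A) (n : ℕ) (hn : J ^ n = ⊥)
    (h : ∀ a : A, ∃ b, a - φ b ∈ J ^ 2) : Function.Surjective φ := by
  let S := φ.range
  have key : ∀ m : ℕ, ∀ a : A, ∃ b, a - φ b ∈ J ^ (m + 2) := by
    have step : ∀ m : ℕ, ∀ a ∈ J ^ (m + 1), ∃ b, a - φ b ∈ J ^ (m + 2) := by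
      intro m
      induction m with
      | zero =>
        intro a _
        exact h a
      | succ m ih =>
        intro a ha
        rw [pow_succ] at ha
        refine Submodule.mul_induction_on ha (fun x hx y hy => ?_) (fun x y hx hy => ?_)
        · obtain ⟨b, hb⟩ := ih x hx
          obtain ⟨c, hc⟩ := h y
          refine ⟨b * c, ?_⟩
          have hφb : φ b ∈ J ^ (m + 1) := by
            simpa using Ideal.sub_mem _ hx (Ideal.pow_le_pow_right (by omega) hb)
          have : x * y - φ (b * c) = (x - φ b) * y + φ b * (y - φ c) := by rw [map_mul]; ring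
          rw [this]
          refine Ideal.add_mem _ ?_ ?_
          · rw [pow_succ _ (m + 1 + 1)]
            exact Ideal.mul_mem_mul hb hy
          · rw [show m + 1 + 2 = (m + 1) + 2 from rfl, pow_add]
            exact Ideal.mul_mem_mul hφb hc
        · obtain ⟨b, hb⟩ := hx
          obtain ⟨c, hc⟩ := hy
          exact ⟨b + c, by rw [map_add, add_sub_add_comm]; exact Ideal.add_mem _ hb hc⟩
    intro m
    induction m with
    | zero => exact h
    | succ m ih =>
      intro a
      obtain ⟨b, hb⟩ := ih a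
      obtain ⟨c, hc⟩ := step (m + 1) _ hb
      exact ⟨b + c, by rw [map_add, ← sub_sub]; exact hc⟩
  intro a
  obtain ⟨b, hb⟩ := key n a
  exact ⟨b, (sub_eq_zero.1 ((Submodule.mem_bot A).1 ((Ideal.pow_le_pow_right (by omega : n ≤ n + 2)).trans hn.le hb))).symm⟩

/-- For schemes. Let f : X → Y be a morphism of schemes and let I be a quasi-coherent sheaf of ideals on
X which is nilpotent (some power of I is zero). Let X₁ ⊆ X be the closed subscheme defined by I².
Then f is a closed immersion as soon as the composite X₁ → X → Y is one. (The published statement is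
the same assertion for a morphism of algebraic stacks; it is stated here for schemes.) -/
theorem result (X Y : Scheme.{u}) (f : X ⟶ Y)
    (I : X.IdealSheafData) (hI : IsNilpotent I)
    (h : IsClosedImmersion ((I ^ 2).subschemeι ≫ f)) :
    IsClosedImmersion f := by
  obtain ⟨n, hn⟩ := hI
  have hnil : ∀ U : X.affineOpens, I.ideal U ^ n = ⊥ := fun U => by
    have := congr_fun (congrArg Scheme.IdealSheafData.ideal hn) U
    simpa using this
  haveI : Surjective (I ^ 2).subschemeι := by
    refine ⟨fun x => ?_⟩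
    rw [← Set.mem_range, Scheme.IdealSheafData.range_subschemeι]
    obtain ⟨_, ⟨U, hU, rfl⟩, hxU, -⟩ := X.isBasis_affineOpens.exists_subset_of_mem_open (Set.mem_univ x) isOpen_univ
    refine (Scheme.IdealSheafData.mem_support_iff_of_mem (U := ⟨U, hU⟩) hxU).2 ?_
    rw [Scheme.mem_zeroLocus_iff]
    intro a ha hxa
    have : a ^ n ∈ I.ideal ⟨U, hU⟩ ^ n :=
      Ideal.pow_mem_pow (Ideal.pow_le_self two_ne_zero (by simpa using ha)) n
    rw [hnil, Submodule.mem_bot] at this
    rcases Nat.eq_zero_or_pos n with rfl | hn0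
    · haveI : Subsingleton Γ(X, U) := subsingleton_of_zero_eq_one (by simpa using this.symm)
      rw [Subsingleton.elim a 0, Scheme.basicOpen_zero] at hxa
      exact hxa
    · rw [← Scheme.basicOpen_pow (n := n) X a hn0, this, Scheme.basicOpen_zero] at hxa
      exact hxa
  haveI : IsAffineHom f := FlatMorThick.isAffineHom_of_comp_surjective (I ^ 2).subschemeι f
  refine isClosedImmersion_iff_isAffineHom.2 ⟨inferInstance, fun V hV => ?_⟩
  have hU : IsAffineOpen (f ⁻¹ᵁ V) := hV.preimage f
  refine surjective_of_sq (f.app V).hom (I.ideal ⟨_, hU⟩) n (hnil _) fun a => ?_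
  obtain ⟨b, hb⟩ := ((I ^ 2).subschemeι ≫ f).app_surjective V hV ((I ^ 2).subschemeι.app (f ⁻¹ᵁ V) a)
  refine ⟨b, ?_⟩
  show _ ∈ (I ^ 2).ideal ⟨f ⁻¹ᵁ V, hU⟩
  rw [← Scheme.IdealSheafData.ker_subschemeι_app (I ^ 2) ⟨f ⁻¹ᵁ V, hU⟩, RingHom.mem_ker, map_sub, sub_eq_zero]
  exact hb.symm

end Groth.Agent.S14049
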