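import Groth.Statements.S14051
import Mathlib

set_option linter.all false

set_option autoImplicit false
universe u
open CAlg

open MvPolynomial
open scoped TensorProduct

namespace Groth.Agent.S14051

theorem graded_add (R : Type u) [CommRing R] (A : Type u) [CommRing A] [Algebra R A]
    (𝒜 : ℕ → Submodule R A) [GradedAlgebra 𝒜] (hA : ∀ n : ℕ, 𝒜 (n + 1) = 𝒜 1 * 𝒜 n) :
    ∀ a b, 𝒜 (a + b) ≤ 𝒜 a * 𝒜 b := by
  intro a b
  induction a with
  | zero =>
    rw [zero_add]
    intro x hx
    simpa using Submodule.mul_mem_mul (SetLike.one_mem_graded 𝒜) hx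
  | succ a ih =>
    rw [Nat.add_right_comm, hA, hA a, mul_assoc]
    exact mul_le_mul' le_rfl ih
theorem main (R : Type u) [CommRing R] (A : Type u) [CommRing A] [Algebra R A]
    (𝒜 : ℕ → Submodule R A) [GradedAlgebra 𝒜]
    (hA : ∀ n : ℕ, 𝒜 (n + 1) = 𝒜 1 * 𝒜 n)
    (M : Type u) [AddCommGroup M] [Module R M] [Module A M] [IsScalarTower R A M]
    (ℳ : ℕ → Submodule R M) [DirectSum.Decomposition ℳ] [SetLike.GradedSMul 𝒜 ℳ]
    (s : Set M) (n₀ : ℕ) (hs : ∀ y ∈ s, ∃ d : ℕ, d ≤ n₀ ∧ y ∈ ℳ d)
    (hspan : Submodule.span A s = ⊤)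
    (n k : ℕ) (hn : n₀ ≤ n) :
    ℳ (n + k) = 𝒜 k • ℳ n := by
  classical
  refine le_antisymm (fun x hx => ?_) (Submodule.smul_le.2 fun a ha m hm => by
    rw [add_comm]; exact SetLike.GradedSMul.smul_mem ha hm)
  suffices ∀ z : M, (DirectSum.decompose ℳ z (n + k) : M) ∈ 𝒜 k • ℳ n by
    have := this x
    rwa [DirectSum.decompose_of_mem_same ℳ hx] at this
  intro z
  have hz : z ∈ Submodule.span A s := by rw [hspan]; trivial
  induction hz using Submodule.closure_induction with
  | zero => simp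
  | add a b _ _ ha hb => rw [DirectSum.decompose_add]; simpa using add_mem ha hb
  | smul_mem a y hy =>
    obtain ⟨d, hd, hyd⟩ := hs y hy
    induction a using DirectSum.Decomposition.inductionOn 𝒜 with
    | zero => simp
    | add a b ha hb => rw [add_smul, DirectSum.decompose_add]; simpa using add_mem ha hb
    | @homogeneous i a =>
      have hmem : (a : A) • y ∈ ℳ (i + d) := SetLike.GradedSMul.smul_mem a.2 hyd
      by_cases h : i + d = n + k
      · rw [h] at hmem
        rw [DirectSum.decompose_of_mem_same ℳ hmem]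
        have hi : i = k + (n - d) := by omega
        obtain ⟨a, ha⟩ := a
        subst hi
        refine Submodule.mul_induction_on (C := fun a => a • y ∈ 𝒜 k • ℳ n) (graded_add R A 𝒜 hA k (n - d) ha) (fun b hb c hc => ?_) (fun b c hb hc => ?_)
        · rw [mul_smul]
          refine Submodule.smul_mem_smul hb ?_
          have := SetLike.GradedSMul.smul_mem (A := 𝒜) (B := ℳ) hc hyd
          rwa [vadd_eq_add, Nat.sub_add_cancel (hd.trans hn)] at this
        · rw [add_smul]; exact add_mem hb hc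
      · rw [DirectSum.decompose_of_mem_ne ℳ hmem h]
        exact zero_mem _

/-- Let A be a commutative ℕ-graded algebra over a base ring R which is generated by A_1 as an
A_0-algebra, written as A_{n+1} = A_1 · A_n for every n, and let M be a graded A-module: an A-module
with R-submodules M_n giving a direct-sum decomposition and A_i · M_j ⊆ M_{i+j}. If M is spanned
over A by a set of homogeneous elements all of degree at most n₀, then for every n ≥ n₀ and every k
≥ 0 the degree-(n+k) part of M is A_k · M_n. -/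
theorem result
    (R : Type u) [CommRing R] (A : Type u) [CommRing A] [Algebra R A]
    (𝒜 : ℕ → Submodule R A) [GradedAlgebra 𝒜]
    (hA : ∀ n : ℕ, 𝒜 (n + 1) = 𝒜 1 * 𝒜 n)
    (M : Type u) [AddCommGroup M] [Module R M] [Module A M] [IsScalarTower R A M]
    (ℳ : ℕ → Submodule R M) [DirectSum.Decomposition ℳ] [SetLike.GradedSMul 𝒜 ℳ]
    (s : Set M) (n₀ : ℕ) (hs : ∀ y ∈ s, ∃ d : ℕ, d ≤ n₀ ∧ y ∈ ℳ d)
    (hspan : Submodule.span A s = ⊤)
    (n k : ℕ) (hn : n₀ ≤ n) :
    ℳ (n + k) = 𝒜 k • ℳ n := by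
  exact main R A 𝒜 hA M ℳ s n₀ hs hspan n k hn

end Groth.Agent.S14051
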