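import Groth.Statements.S14053
import Mathlib.FieldTheory.PurelyInseparable.Exponent
import Mathlib.LinearAlgebra.FreeModule.PID
import Mathlib.RingTheory.Flat.TorsionFree
import Mathlib.RingTheory.Henselian
import Mathlib.RingTheory.MvPolynomial.IrreducibleQuadratic
import Mathlib.RingTheory.PicardGroup
import Mathlib.RingTheory.RegularLocalRing.Defs
import Mathlib.RingTheory.SimpleRing.Principal
import Mathlib.Tactic

set_option linter.all false

set_option autoImplicit false
universe u
open CAlg

open scoped TensorProduct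

namespace Groth.Agent.S14053

/-- Let k be a field and R a commutative ℕ-graded k-algebra with R_0 = k · 1 which is generated as a
k-algebra by R_1, R_2 and R_3, each a finite-dimensional k-vector space, of dimensions d_1, d_2,
d_3. Then for every natural number e ≥ 5 d_1 + 4 d_2 + 3 d_3 the (6e)-th Veronese subring of R is
generated in degree one over k: R_{6em} = (R_{6e})^m for every m > 0. -/
theorem result
    (k : Type u) [Field k] (R : Type u) [CommRing R] [Algebra k R]
    (ℛ : ℕ → Submodule k R) [GradedAlgebra ℛ]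
    (h0 : ℛ 0 = 1)
    (hgen : Algebra.adjoin k ((ℛ 1 : Set R) ∪ (ℛ 2 : Set R) ∪ (ℛ 3 : Set R)) = ⊤)
    [Module.Finite k (ℛ 1)] [Module.Finite k (ℛ 2)] [Module.Finite k (ℛ 3)]
    (e : ℕ) (he : 5 * Module.finrank k (ℛ 1) + 4 * Module.finrank k (ℛ 2) + 3 * Module.finrank k (ℛ 3) ≤ e)
    (m : ℕ) (hm : 0 < m) :
    ℛ (m * (6 * e)) = ℛ (6 * e) ^ m := by
  classical
  let d : Fin 3 → ℕ := fun w => Module.finrank k (ℛ (w + 1))
  haveI : ∀ w : Fin 3, Module.Finite k (ℛ (w + 1)) := by
    intro w; fin_cases w <;> assumption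
  let ι := (w : Fin 3) × Fin (d w)
  let v : ι → R := fun i => (Module.finBasis k (ℛ (i.1 + 1)) i.2 : R)
  let wt : ι → ℕ := fun i => i.1 + 1
  let φ : MvPolynomial ι k →ₐ[k] R := MvPolynomial.aeval v
  have hv : ∀ c : ι →₀ ℕ, φ (MvPolynomial.monomial c 1) ∈ ℛ (∑ i, c i * wt i) := by
    intro c
    rw [MvPolynomial.aeval_monomial, map_one, one_mul, Finsupp.prod_fintype _ _ (fun i => pow_zero _)]
    refine SetLike.prod_mem_graded _ _ _ fun i _ => ?_
    simpa [wt] using SetLike.pow_mem_graded (c i) (Module.finBasis k (ℛ (i.1 + 1)) i.2).2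
  have hsurj : Function.Surjective φ := by
    rw [← AlgHom.range_eq_top, eq_top_iff, ← hgen, Algebra.adjoin_le_iff]
    have hw : ∀ w : Fin 3, (ℛ (w + 1) : Set R) ⊆ φ.range := by
      intro w x hx
      have := congrArg Subtype.val ((Module.finBasis k (ℛ (w + 1))).sum_repr ⟨x, hx⟩)
      rw [show x = _ from this.symm, Submodule.coe_sum]
      exact sum_mem fun j _ => Subalgebra.smul_mem _ (show v ⟨w, j⟩ ∈ φ.range from ⟨MvPolynomial.X ⟨w, j⟩, MvPolynomial.aeval_X _ _⟩) _
    rintro x ((hx | hx) | hx)
    · exact hw 0 hx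
    · exact hw 1 hx
    · exact hw 2 hx
  have hspan : ∀ N, ∀ x ∈ ℛ N, x ∈ Submodule.span k
      {y | ∃ c : ι →₀ ℕ, ∑ i, c i * wt i = N ∧ φ (MvPolynomial.monomial c 1) = y} := by
    intro N x hx
    obtain ⟨p, rfl⟩ := hsurj x
    rw [← DirectSum.decompose_of_mem_same ℛ hx]
    conv => arg 2; rw [p.as_sum, map_sum, DirectSum.decompose_sum, DFinsupp.finsetSum_apply, Submodule.coe_sum]
    refine sum_mem fun c _ => ?_
    have hcp : φ (MvPolynomial.monomial c (p.coeff c)) = p.coeff c • φ (MvPolynomial.monomial c 1) := by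
      rw [← map_smul, MvPolynomial.smul_monomial, smul_eq_mul, mul_one]
    rw [hcp]
    have hmem := Submodule.smul_mem _ (p.coeff c) (hv c)
    by_cases hN : ∑ i, c i * wt i = N
    · subst hN
      rw [DirectSum.decompose_of_mem_same ℛ hmem]
      exact Submodule.smul_mem _ _ (Submodule.subset_span ⟨c, rfl, rfl⟩)
    · rw [DirectSum.decompose_of_mem_ne ℛ hmem hN]
      exact zero_mem _
  have hcomb : ∀ (B : ι → ℕ) (T : ℕ), T ≤ ∑ i, B i → ∃ B' : ι → ℕ, (∀ i, B' i ≤ B i) ∧ ∑ i, B' i = T := by
    intro B T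
    induction T with
    | zero => exact fun _ => ⟨0, fun _ => Nat.zero_le _, by simp⟩
    | succ T ih =>
      intro hT
      obtain ⟨B', hB', hsum⟩ := ih (by omega)
      obtain ⟨i, -, hi⟩ : ∃ i ∈ Finset.univ, B' i < B i := Finset.exists_lt_of_sum_lt (by omega)
      refine ⟨Function.update B' i (B' i + 1), fun j => ?_, ?_⟩
      · rcases eq_or_ne j i with rfl | hj
        · rw [Function.update_self]; omega
        · rw [Function.update_of_ne hj]; exact hB' j
      · rw [Finset.sum_update_of_mem (Finset.mem_univ i), ← hsum, Finset.sum_eq_add_sum_sdiff_singleton_of_mem (Finset.mem_univ i) B']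
        ring
  have hle : ∀ m, 0 < m → ℛ (m * (6 * e)) ≤ ℛ (6 * e) ^ m := by
    intro m hm
    induction m using Nat.strong_induction_on with
    | _ m ih =>
      rcases Nat.lt_or_ge m 2 with h2 | h2
      · obtain rfl : m = 1 := by omega
        simp
      intro x hx
      refine (Submodule.span_le.mpr ?_) (hspan _ x hx)
      rintro _ ⟨c, hc, rfl⟩
      let q : ι → ℕ := fun i => 6 / wt i
      have hq : ∀ i, q i * wt i = 6 := fun i => by
        obtain ⟨w, j⟩ := i; fin_cases w <;> simp [q, wt]
      let B : ι → ℕ := fun i => c i / q i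
      have hbound : ∀ i, c i * wt i ≤ 6 * B i + (6 - wt i) := by
        intro i
        have hq0 : 0 < q i := Nat.pos_of_ne_zero fun h => by simpa [h] using hq i
        have h1 := Nat.div_add_mod (c i) (q i)
        have h2 : (c i % q i + 1) * wt i ≤ q i * wt i := Nat.mul_le_mul_right _ (Nat.mod_lt _ hq0)
        calc c i * wt i = 6 * B i + c i % q i * wt i := by
              conv_lhs => rw [← h1, add_mul, mul_right_comm, hq]
          _ ≤ _ := by rw [hq, add_mul, one_mul] at h2; omega
      have hwt : ∑ i, (6 - wt i) ≤ e := by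
        refine le_trans (le_of_eq ?_) he
        rw [← Finset.univ_sigma_univ, Finset.sum_sigma, Fin.sum_univ_three]
        simp [wt, d]; ring
      have hB : e ≤ ∑ i, B i := by
        have h1 : m * (6 * e) ≤ 6 * ∑ i, B i + ∑ i, (6 - wt i) := by
          rw [← hc, Finset.mul_sum, ← Finset.sum_add_distrib]
          exact Finset.sum_le_sum fun i _ => hbound i
        have h3 : 2 * (6 * e) ≤ m * (6 * e) := Nat.mul_le_mul_right _ h2
        omega
      obtain ⟨B', hB', hsum⟩ := hcomb B e hB
      let c' : ι →₀ ℕ := Finsupp.equivFunOnFinite.symm fun i => q i * B' i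
      have hc' : c' ≤ c := fun i => by
        show q i * B' i ≤ c i
        exact (Nat.mul_le_mul_left _ (hB' i)).trans (Nat.mul_div_le _ _)
      have hw' : ∑ i, c' i * wt i = 6 * e := by
        rw [← hsum, Finset.mul_sum]
        refine Finset.sum_congr rfl fun i _ => ?_
        show q i * B' i * wt i = _
        rw [mul_right_comm, hq]
      have hw'' : ∑ i, (c - c') i * wt i = (m - 1) * (6 * e) := by
        have : ∑ i, (c - c') i * wt i + ∑ i, c' i * wt i = m * (6 * e) := by
          rw [← hc, ← Finset.sum_add_distrib]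
          refine Finset.sum_congr rfl fun i _ => ?_
          rw [← add_mul, Finsupp.tsub_apply, Nat.sub_add_cancel (hc' i)]
        rw [Nat.sub_mul, one_mul]; omega
      rw [show c = c' + (c - c') from (add_tsub_cancel_of_le hc').symm,
        ← one_mul (1 : k), ← MvPolynomial.monomial_mul, map_mul, SetLike.mem_coe]
      conv => arg 1; rw [show m = (m - 1) + 1 by omega, pow_succ']
      exact Submodule.mul_mem_mul (hw' ▸ hv c') (ih (m - 1) (by omega) (by omega) (hw'' ▸ hv (c - c')))
  refine le_antisymm (hle m hm) ?_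
  clear hm
  induction m with
  | zero => rw [pow_zero, zero_mul, h0]
  | succ m ih =>
    rw [pow_succ, Submodule.mul_le]
    intro a ha b hb
    rw [add_mul, one_mul]
    exact SetLike.GradedMul.mul_mem (ih ha) hb

end Groth.Agent.S14053
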