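import Groth.Statements.S14054
import Groth.Agent.KoszMul22.Sheaf
import Groth.Agent.NumTriv23.Basic
import Groth.Agent.H0Growth23.Ztwist

set_option autoImplicit false
universe u
open CategoryTheory CategoryTheory.Limits AlgebraicGeometry TopologicalSpace
open Variety

set_option backward.isDefEq.respectTransparency false
set_option maxHeartbeats 1000000

namespace Groth.Agent.S14054

open Groth.Agent Groth.Agent.Coherent Groth.Agent.PicLib Groth.Agent.AmpleLib Groth.Agent.EulerLib
open Groth.Agent.CurveRR24 Groth.Agent.KoszPn17 Opposite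

attribute [local instance] Abelian.hasFiniteBiproducts

/-- Integral tensor powers of `L` with inverse `M`. -/
noncomputable def zp {X : Scheme.{u}} (L M : X.Modules) : ℤ → X.Modules
  | Int.ofNat n => CohB1.tensorPow L n
  | Int.negSucc n => CohB1.tensorPow M (n + 1)

theorem exists_step {X : Scheme.{u}} {L M : X.Modules} (hL : PicF.IsInvertible L) (hMi : PicF.IsInvertible M)
    (hM : ClSub.IsInverseOf M L) (a : ℤ) : Nonempty (CohB1.tensorMod (zp L M a) L ≅ zp L M (a + 1)) := by
  obtain ⟨e⟩ := hM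
  match a with
  | Int.ofNat n => exact ⟨Iso.refl _⟩
  | Int.negSucc 0 => exact ⟨AmpleLib.tensorIso (unitTensorIso M) (Iso.refl L) ≪≫ e⟩
  | Int.negSucc (n + 1) =>
    obtain ⟨α, -⟩ := exists_assocIso (isInvertible_tensorPow hMi (n + 1)) hMi hL
    exact ⟨α ≪≫ AmpleLib.tensorIso (Iso.refl _) e ≪≫ (tensorComm _ _ ≪≫ unitTensorIso _)⟩

/-- Let X be a proper scheme over a field k, L a globally generated invertible O_X-module with tensor
inverse M, r = dim_k H⁰(X, L), and b ≥ 1 an integer such that H^q(X, L^{⊗(b−q)}) = 0 whenever 1 ≤ q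
≤ r − 1, where for q > b the module L^{⊗(b−q)} is the tensor power M^{⊗(q−b)}. Then the
multiplication map H⁰(X, L^{⊗b}) ⊗ H⁰(X, L) → H⁰(X, L^{⊗(b+1)}) is surjective. The map is written as
the canonical map from the global sections of the sectionwise tensor product presheaf of L^{⊗b} and
L (these are H⁰(L^{⊗b}) ⊗ H⁰(L), tensor over the global functions) to the global sections of its
sheafification L^{⊗b} ⊗ L = L^{⊗(b+1)}. The base field is arbitrary. -/
theorem result (k : Type u) [Field k]
    (X : Scheme.{u}) [X.Over (Spec (CommRingCat.of k))] [IsProper (X ↘ (Spec (CommRingCat.of k)))]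
    (L : X.Modules) (hL : PicF.IsInvertible L) (hgg : Curv2.IsGloballyGenerated L)
    (M : X.Modules) (hM : ClSub.IsInverseOf M L)
    (b : ℕ) (hb : 1 ≤ b)
    (hvan₁ : ∀ q : ℕ, 1 ≤ q → q ≤ b → q < Module.finrank k (Coh.HH X L 0) →
      Subsingleton (Coh.HH X (CohB1.tensorPow L (b - q)) q))
    (hvan₂ : ∀ q : ℕ, b < q → q < Module.finrank k (Coh.HH X L 0) →
      Subsingleton (Coh.HH X (CohB1.tensorPow M (q - b)) q)) :
    Function.Surjective
      ((toSheafify (Opens.grothendieckTopology X) (CohB1.tensorPre (CohB1.tensorPow L b) L).presheaf).app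
        (Opposite.op ⊤)) := by
  haveI := EulerLib.isNoetherian_of_proper (X := X) k
  have hMi : PicF.IsInvertible M :=
    H0Growth23.isInvertible_of_isInverseOf hL (hM.map fun e => tensorComm L M ≪≫ e)
  let φ := fun a => (exists_step hL hMi hM a).some
  haveI : Module.Finite k (Coh.HH X L 0) := CurveRR24.finite_HH_of_isCoh k (isCoh_of_isInvertible hL) 0
  let N := Module.finrank k (Coh.HH X L 0)
  let bs := Module.finBasis k (Coh.HH X L 0)
  obtain ⟨n, hn, s, hs⟩ : ∃ (n : ℕ), (∀ q : ℕ, 1 ≤ q → q ≤ n → q < N) ∧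
      ∃ s : Fin (n + 1) → Γ(L, ⊤), ∀ x : X, ∃ i, x ∈ glocus L (s i) := by
    let ev := (HHBaseEquiv k L 0).trans (secA (baseHom k X) L)
    have hx : ∀ x : X, ∃ i : Fin N, x ∈ glocus L (ev (bs i) : Γ(L, ⊤)) := fun x => by
      obtain ⟨u, hu⟩ := NumTriv23.exists_mem_glocus_of_gg hL hgg x
      refine KoszMul22.exists_mem_glocus_of_sum hL (fun i => (ev (bs i) : Γ(L, ⊤)))
        (fun i => baseHom k X (bs.repr (ev.symm u) i)) (x := x) ?_
      have e : (∑ i, baseHom k X (bs.repr (ev.symm u) i) • (show Γ(L, ⊤) from ev (bs i))) = u := by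
        refine Eq.trans ?_ (ev.apply_symm_apply u)
        conv_rhs => rw [← bs.sum_repr (ev.symm u), map_sum]
        exact Finset.sum_congr rfl fun i _ => (map_smul ev _ (bs i)).symm
      exact e.symm ▸ hu
    rcases Nat.eq_zero_or_pos N with h0 | h0
    · exact ⟨0, fun q h1 h2 => absurd h2 (by omega), 0, fun x => absurd (hx x).choose.2 (by omega)⟩
    · obtain ⟨n, hn⟩ : ∃ n, N = n + 1 := ⟨N - 1, by omega⟩
      exact ⟨n, fun q h1 h2 => by omega, fun i => ev (bs (i.cast hn.symm)), fun x =>
        ⟨(hx x).choose.cast hn, by simpa using (hx x).choose_spec⟩⟩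
  let μ : Fin (n + 1) → ∀ a, zp L M a ⟶ zp L M (a + 1) := fun i a =>
    Serre.rightMul (zp L M a) (s i) ≫ (φ a).hom
  have hμ : ∀ i j a, μ i a ≫ μ j (a + 1) = μ j a ≫ μ i (a + 1) := fun i j a => by
    have key : ∀ v w, Serre.rightMul (zp L M a) v ≫ Serre.rightMul (CohB1.tensorMod (zp L M a) L) w =
        Serre.rightMul (zp L M a) w ≫ Serre.rightMul (CohB1.tensorMod (zp L M a) L) v := fun v w =>
      Scheme.Modules.hom_ext _ _ fun U => ConcreteCategory.hom_ext _ _ fun p =>
        Serre.tmul_tmul_comm hL p (resM L le_top v) (resM L le_top w)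
    simp only [μ, Category.assoc, reassoc_of% (Serre.rightMul_naturality (φ a).hom (s j)),
      reassoc_of% (Serre.rightMul_naturality (φ a).hom (s i)), reassoc_of% (key (s i) (s j))]
  have hiso : ∀ j a, IsIso ((Scheme.Modules.restrictFunctor (glocus L (s j)).ι).map (μ j a)) := fun j a => by
    haveI : IsIso ((Scheme.Modules.restrictFunctor (glocus L (s j)).ι).map (Serre.rightMul (zp L M a) (s j))) := by
      refine KoszPn17.isIso_restrict_of_bijective _ _ fun V hV => ?_
      have h := bijective_tmul_gen (M := zp L M a) (isGen_glocus (s j)) V hV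
      simp only [resM_resM] at h
      exact h
    simp only [μ, Functor.map_comp]
    infer_instance
  have hsurj := KoszMul22.surjective_desc_top n (zp L M) μ hμ (fun j => glocus L (s j)) hs hiso (b : ℤ)
    fun q hq hqn => by
      by_cases hqb : q ≤ b
      · rw [show (b : ℤ) - q = Int.ofNat (b - q) by simp; omega]
        exact hvan₁ q hq hqb (hn q hq hqn)
      · obtain ⟨d, hd⟩ : ∃ d, q - b = d + 1 := ⟨q - b - 1, by omega⟩
        rw [show (b : ℤ) - q = Int.negSucc d by omega]
        have := hvan₂ q (by omega) (hn q hq hqn)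
        rwa [hd] at this
  intro z
  haveI : IsIso (φ (b : ℤ)).hom := inferInstance
  obtain ⟨p, hp⟩ := hsurj ((φ (b : ℤ)).hom.app ⊤ z)
  let π' : Fin (n + 1) → ((⨁ fun _ : Fin (n + 1) => zp L M b) ⟶ zp L M b) := fun i => biproduct.π _ i
  have hz : z = ∑ i, tmul (L := CohB1.tensorPow L b) ((π' i).app ⊤ p) (s i) := by
    refine (ConcreteCategory.bijective_of_isIso ((φ (b : ℤ)).hom.app ⊤)).1 ?_
    rw [← hp, map_sum]
    conv_lhs => rw [← biproduct_sections_total (fun _ : Fin (n + 1) => zp L M b) ⊤ p, map_sum]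
    refine Finset.sum_congr rfl fun i _ => ?_
    refine (congrArg (fun θ : zp L M b ⟶ _ => θ.app ⊤ ((π' i).app ⊤ p))
      (biproduct.ι_desc (fun s => μ s (b : ℤ)) i)).trans ?_
    show (φ (b : ℤ)).hom.app ⊤ (tmul _ (resM L le_top (s i))) = _
    rw [resM_self]
  refine ⟨∑ i, ModStalk.secTmul (CohB1.toPMod (CohB1.tensorPow L b)) (CohB1.toPMod L) ((π' i).app ⊤ p) (s i), ?_⟩
  rw [hz, map_sum]
  rfl

end Groth.Agent.S14054
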