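import Groth.Statements.S14055
import Groth.Agent.Surf15.RRCor
import Groth.Agent.Surf15.IntPush
import Groth.Agent.PicLib.PicMonoid
-- import your own Groth.Agent.* helpers here

set_option autoImplicit false
universe u
open CategoryTheory CategoryTheory.Limits AlgebraicGeometry TopologicalSpace
open Surf

open TopologicalSpace
open Groth.Agent.Coherent Groth.Agent.PicLib Groth.Agent.AmpleLib Groth.Agent.EulerLib Groth.Agent.CurveRR24 Groth.Agent.DimLib Groth.Agent.Surf15
set_option linter.style.haveILetI false
set_option backward.isDefEq.respectTransparency.types false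

namespace Groth.Agent.S14055

/-- Let k be an algebraically closed field and X a smooth surface over k: an integral scheme, proper and
smooth over k, of dimension 2; let W be its canonical module, a second exterior power of Ω_{X/k}.
For an invertible module L and an integral closed one-dimensional subscheme C ⊆ X write (L·C) =
χ(O_C ⊗ L) − χ(O_C). If W is nef, that is (W·C) ≥ 0 for every such C, then X is minimal: it contains
no (−1)-curve, where a (−1)-curve is taken, through its numerical characterization, to be an
integral closed one-dimensional subscheme E with H¹(E, O_E) = 0 and (O_X(E)·E) = −1, O_X(E) being a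
tensor inverse of the ideal sheaf of E. -/
theorem result (k : Type u) [Field k] [IsAlgClosed k] (X : Scheme.{u})
    [X.Over (Spec (CommRingCat.of k))] [IsProper (X ↘ (Spec (CommRingCat.of k)))] [Smooth (X ↘ (Spec (CommRingCat.of k)))]
    [IsIntegral X] (hdim : topologicalKrullDim X = 2)
    (W : X.Modules) (hW : ExtPow.IsExtPow 2 (Omega.sheaf (X ↘ (Spec (CommRingCat.of k)))) W)
    (hnef : (∀ C : X.IdealSheafData, IsIntegral C.subscheme → topologicalKrullDim (C.support : Set X) = 1 →
      0 ≤ Curv2.euler k X (CohB1.tensorMod (ClSub.quotMod C) W) - Curv2.euler k X (ClSub.quotMod C))) :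
    (∀ (E : X.IdealSheafData) (N : X.Modules), IsIntegral E.subscheme →
      topologicalKrullDim (E.support : Set X) = 1 → ClSub.IsInverseOf N (ClSub.idealMod E) →
      Subsingleton (Coh.HH E.subscheme (Coh.structureModule E.subscheme) 1) →
      Curv2.euler k X (CohB1.tensorMod (ClSub.quotMod E) N) - Curv2.euler k X (ClSub.quotMod E) ≠ -1) := by
  intro E N hEi hE1 hN hH1 he
  have hX : topologicalKrullDim X = ((2 : ℕ) : WithBot ℕ∞) := by exact_mod_cast hdim
  have hE1' : topologicalKrullDim (E.support : Set X) = ((1 : ℕ) : WithBot ℕ∞) := by exact_mod_cast hE1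
  have hEc := isEffCartier_of_curve k hX hEi hE1'
  have hWi := isInvertible_canonical k hX hW
  have h := two_euler_quotMod k hX hW hWi hEc
  obtain ⟨hg, hiff⟩ := euler_quotMod_curve k hX hEi hE1'
  rw [hiff.2 hH1] at hg
  have hI := Groth.Agent.FlatMor12.IdealModGen.isInvertible_idealMod E hEc
  have hNi : PicF.IsInvertible N := by
    obtain ⟨e⟩ := hN
    exact Groth.Agent.PicLib.PicM.isInvertible_of_tensor hI
      (glocus_isInvertible_of_iso ((Groth.Agent.AmpleLib.tensorComm _ _ ≪≫ e).symm) isInvertible_structureModule)
  have hn := hnef E hEi hE1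
  rw [← deg_mk k _ hWi, deg_quotMod k hEc] at hn
  rw [← deg_mk k _ hNi, deg_quotMod k hEc, B_inv_right k hX.le (mk_inverse_clI' hEc hNi hN)] at he
  rw [intNum_eq_B k hX.le hI hWi, intNum_eq_B k hX.le hI hI] at h
  unfold clI' at hn he
  omega

end Groth.Agent.S14055
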