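import Groth.Statements.S14056
import Groth.Agent.Surf15.RRCor
import Groth.Agent.Surf15.IntPush
import Groth.Agent.PicLib.PicMonoid
-- import your own Groth.Agent.* helpers here

set_option autoImplicit false
universe u
open CategoryTheory CategoryTheory.Limits AlgebraicGeometry TopologicalSpace
open Surf

open TopologicalSpace
open Groth.Agent.Coherent Groth.Agent.PicLib Groth.Agent.AmpleLib Groth.Agent.EulerLib Groth.Agent.CurveRR24 Groth.Agent.DimLib Groth.Agent.Surf15
set_option linter.style.haveILetI false
set_option backward.isDefEq.respectTransparency.types false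

namespace Groth.Agent.S14056

/-- Let k be an algebraically closed field and X a smooth surface over k: an integral scheme, proper and
smooth over k, of dimension 2; let W be its canonical module, a second exterior power of Ω_{X/k}.
For an invertible module L and an integral closed one-dimensional subscheme C ⊆ X write (L·C) =
χ(O_C ⊗ L) − χ(O_C). Suppose that X has non-negative Kodaira dimension, that is some tensor power
W^{⊗m} with m > 0 has a nonzero global section, and that X is minimal: it contains no (−1)-curve,
where a (−1)-curve is taken, through its numerical characterization, to be an integral closed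
one-dimensional subscheme E with H¹(E, O_E) = 0 and (O_X(E)·E) = −1, O_X(E) being a tensor inverse
of the ideal sheaf of E. Then W is nef: (W·C) ≥ 0 for every integral closed one-dimensional C ⊆ X.
(Together with the first assertion: under non-negative Kodaira dimension, X is minimal if and only
if W is nef.) -/
theorem result (k : Type u) [Field k] [IsAlgClosed k] (X : Scheme.{u})
    [X.Over (Spec (CommRingCat.of k))] [IsProper (X ↘ (Spec (CommRingCat.of k)))] [Smooth (X ↘ (Spec (CommRingCat.of k)))]
    [IsIntegral X] (hdim : topologicalKrullDim X = 2)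
    (W : X.Modules) (hW : ExtPow.IsExtPow 2 (Omega.sheaf (X ↘ (Spec (CommRingCat.of k)))) W)
    (m : ℕ) (hm : 0 < m) (hsec : Nontrivial (Coh.HH X (CohB1.tensorPow W m) 0))
    (hmin : (∀ (E : X.IdealSheafData) (N : X.Modules), IsIntegral E.subscheme →
      topologicalKrullDim (E.support : Set X) = 1 → ClSub.IsInverseOf N (ClSub.idealMod E) →
      Subsingleton (Coh.HH E.subscheme (Coh.structureModule E.subscheme) 1) →
      Curv2.euler k X (CohB1.tensorMod (ClSub.quotMod E) N) - Curv2.euler k X (ClSub.quotMod E) ≠ -1)) :
    (∀ C : X.IdealSheafData, IsIntegral C.subscheme → topologicalKrullDim (C.support : Set X) = 1 →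
      0 ≤ Curv2.euler k X (CohB1.tensorMod (ClSub.quotMod C) W) - Curv2.euler k X (ClSub.quotMod C)) := by
  intro C hCi hC1
  have hX : topologicalKrullDim X = ((2 : ℕ) : WithBot ℕ∞) := by exact_mod_cast hdim
  have hC1' : topologicalKrullDim (C.support : Set X) = ((1 : ℕ) : WithBot ℕ∞) := by exact_mod_cast hC1
  have hreg : ∀ x : X, IsRegularLocalRing (X.presheaf.stalk x) := fun x =>
    Groth.Agent.VarietyLib.isRegularLocalRing_stalk_of_smooth k X (X ↘ Spec (CommRingCat.of k)) x
  haveI := isNoetherian_of_proper (X := X) k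
  have hCc := isEffCartier_of_curve k hX hCi hC1'
  have hWi := isInvertible_canonical k hX hW
  rw [← deg_mk k _ hWi, deg_quotMod k hCc]
  by_contra hcon
  have h := two_euler_quotMod k hX hW hWi hCc
  obtain ⟨hg, hiff⟩ := euler_quotMod_curve k hX hCi hC1'
  have hI := Groth.Agent.FlatMor12.IdealModGen.isInvertible_idealMod C hCc
  rw [intNum_eq_B k hX.le hI hWi, intNum_eq_B k hX.le hI hI, hg] at h
  change ¬ 0 ≤ - B k (clI' C hCc) (InvCl.mk W hWi) at hcon
  change _ = B k (clI' C hCc) (InvCl.mk W hWi) - B k (clI' C hCc) (clI' C hCc) at h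
  -- a negative canonical degree forces nonnegative self intersection
  have hcc : 0 ≤ B k (clI' C hCc) (clI' C hCc) := by
    by_contra hneg
    letI : C.subscheme.Over (Spec (CommRingCat.of k)) := ⟨C.subschemeι ≫ (X ↘ Spec (CommRingCat.of k))⟩
    have hg0 : Curv2.genus k C.subscheme = 0 := by omega
    obtain ⟨N, hN⟩ := Groth.Agent.VarietyLib.exists_isInverseOf hI
    have hN' : ClSub.IsInverseOf N (ClSub.idealMod C) :=
      hN.map fun e => Groth.Agent.AmpleLib.tensorComm _ _ ≪≫ e
    have hNi := isInvertible_inverse hI hN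
    refine hmin C N hCi hC1 hN' (hiff.1 hg0) ?_
    rw [← deg_mk k _ hNi, deg_quotMod k hCc, B_inv_right k hX.le (mk_inverse_clI' hCc hNi hN')]
    omega
  -- the class of the curve is nef
  obtain ⟨a, ha⟩ := exists_inv (clI' C hCc)
  obtain ⟨s, hs⟩ : ∃ s : Γ(CohB1.tensorPow W m, ⊤), s ≠ 0 := by
    obtain ⟨z, hz⟩ := exists_ne (0 : Coh.HH X (CohB1.tensorPow W m) 0)
    exact ⟨hhZero k (CohB1.tensorPow W m) z, fun e => hz ((hhZero k (CohB1.tensorPow W m)).injective (e.trans (map_zero _).symm))⟩
  have hnef : ∀ y : X, topologicalKrullDim (closure {y} : Set X) = ((1 : ℕ) : WithBot ℕ∞) →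
      0 ≤ deg k (Groth.Agent.AssSch12.clM y) a := fun y hy => by
    have hc : IsCrv (Groth.Agent.AssSch12.clI y) :=
      ⟨Groth.Agent.VarietyLib.isIntegral_clI y, by rw [Groth.Agent.VarietyLib.support_clI]; exact hy⟩
    have hE := hc.isEffCartier k hX hreg
    rw [show Groth.Agent.AssSch12.clM y = ClSub.quotMod (Groth.Agent.AssSch12.clI y) from rfl,
      deg_quotMod k hE, B_inv_right k hX.le ha, neg_neg]
    by_cases hsub : ((Groth.Agent.AssSch12.clI y).support : Set X) ⊆ (C.support : Set X)
    · obtain ⟨-, e⟩ := exists_eq_of_crv k (fun _ : Unit => C) (fun _ => ⟨hCi, hC1'⟩) hc le_rfl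
        (hsub.trans (Set.subset_iUnion (fun _ : Unit => (C.support : Set X)) ()))
      rw [clI'_congr e hE hCc]
      exact hcc
    · haveI := hc.1
      exact B_clI'_nonneg k hX.le hCc hE hc.2 hsub
  have hpos := deg_eff_nonneg k hX hnef (isInvertible_tensorPow hWi m) hs
  rw [InvCl.mk_tensorPow hWi, B_pow_left k hX.le, B_inv_right k hX.le ha, B_comm k] at hpos
  have hm' : (0 : ℤ) < m := by exact_mod_cast hm
  nlinarith

end Groth.Agent.S14056
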