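import Groth.Statements.S14057
import Groth.Agent.Surf15.Ampleness
import Groth.Agent.Surf15.Inverse
import Groth.Agent.Surf15.Goodman
import Groth.Agent.Surf15.Positivity
import Groth.Agent.Surf15.Hodge
-- import your own Groth.Agent.* helpers here

set_option autoImplicit false
universe u
open CategoryTheory CategoryTheory.Limits AlgebraicGeometry TopologicalSpace
open Surf

open TopologicalSpace
open Groth.Agent.Coherent Groth.Agent.PicLib Groth.Agent.AmpleLib Groth.Agent.EulerLib Groth.Agent.CurveRR24 Groth.Agent.DimLib Groth.Agent.Surf15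
set_option linter.style.haveILetI false
set_option backward.isDefEq.respectTransparency.types false

namespace Groth.Agent.S14057

/-- Let k be an algebraically closed field and X a smooth surface over k: an integral scheme, proper and
smooth over k, of dimension 2; let W be its canonical module, a second exterior power of Ω_{X/k}.
For an invertible module L and an integral closed one-dimensional subscheme C ⊆ X write (L·C) =
χ(O_C ⊗ L) − χ(O_C), and (W·W) for the self-intersection number of W (the alternating sum χ(O_X) −
2χ(W) + χ(W ⊗ W)). Suppose W is nef and (W·W) > 0. Then W is ample if and only if X contains no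
(−2)-curve, where a (−2)-curve is taken, through its numerical characterization, to be an integral
closed one-dimensional subscheme E with H¹(E, O_E) = 0 and (O_X(E)·E) = −2, O_X(E) being a tensor
inverse of the ideal sheaf of E. (The published statement is for a minimal surface of general type;
its proof uses exactly that the canonical module is nef with positive self-intersection, which is
how the hypothesis is written here.) -/
theorem result (k : Type u) [Field k] [IsAlgClosed k] (X : Scheme.{u})
    [X.Over (Spec (CommRingCat.of k))] [IsProper (X ↘ (Spec (CommRingCat.of k)))] [Smooth (X ↘ (Spec (CommRingCat.of k)))]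
    [IsIntegral X] (hdim : topologicalKrullDim X = 2)
    (W : X.Modules) (hW : ExtPow.IsExtPow 2 (Omega.sheaf (X ↘ (Spec (CommRingCat.of k)))) W)
    (hnef : (∀ C : X.IdealSheafData, IsIntegral C.subscheme → topologicalKrullDim (C.support : Set X) = 1 →
      0 ≤ Curv2.euler k X (CohB1.tensorMod (ClSub.quotMod C) W) - Curv2.euler k X (ClSub.quotMod C)))
    (hpos : 0 < FGA.intNum k X 2 ![W, W] (Coh.structureModule X)) :
    CohB1.IsAmple W ↔
    (∀ (E : X.IdealSheafData) (N : X.Modules), IsIntegral E.subscheme →
      topologicalKrullDim (E.support : Set X) = 1 → ClSub.IsInverseOf N (ClSub.idealMod E) →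
      Subsingleton (Coh.HH E.subscheme (Coh.structureModule E.subscheme) 1) →
      Curv2.euler k X (CohB1.tensorMod (ClSub.quotMod E) N) - Curv2.euler k X (ClSub.quotMod E) ≠ -2) := by
  have hX : topologicalKrullDim X = ((2 : ℕ) : WithBot ℕ∞) := by exact_mod_cast hdim
  have hreg : ∀ x : X, IsRegularLocalRing (X.presheaf.stalk x) := fun x =>
    Groth.Agent.VarietyLib.isRegularLocalRing_stalk_of_smooth k X (X ↘ Spec (CommRingCat.of k)) x
  haveI := isNoetherian_of_proper (X := X) k
  have hWi := isInvertible_canonical k hX hW
  rw [intNum_eq_B k hX.le hWi hWi] at hpos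
  -- adjunction in terms of the pairing
  have adj : ∀ (E : X.IdealSheafData) (hEi : IsIntegral E.subscheme)
      (hE1 : topologicalKrullDim (E.support : Set X) = ((1 : ℕ) : WithBot ℕ∞)) (hEc : BlowUp.IsEffCartierIdeal E),
      letI : E.subscheme.Over (Spec (CommRingCat.of k)) := ⟨E.subschemeι ≫ (X ↘ Spec (CommRingCat.of k))⟩
      2 * (1 - (Curv2.genus k E.subscheme : ℤ)) =
          B k (clI' E hEc) (InvCl.mk W hWi) - B k (clI' E hEc) (clI' E hEc) ∧
        (Curv2.genus k E.subscheme = 0 ↔
          Subsingleton (Coh.HH E.subscheme (Coh.structureModule E.subscheme) 1)) := fun E hEi hE1 hEc => by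
    obtain ⟨hg, hiff⟩ := euler_quotMod_curve k hX hEi hE1
    have h := two_euler_quotMod k hX hW hWi hEc
    rw [hg, intNum_eq_B k hX.le (Groth.Agent.FlatMor12.IdealModGen.isInvertible_idealMod E hEc) hWi,
      intNum_eq_B k hX.le (Groth.Agent.FlatMor12.IdealModGen.isInvertible_idealMod E hEc)
        (Groth.Agent.FlatMor12.IdealModGen.isInvertible_idealMod E hEc)] at h
    exact ⟨h, hiff⟩
  constructor
  · intro hamp E N hEi hE1 hN hH1 he
    have hE1' : topologicalKrullDim (E.support : Set X) = ((1 : ℕ) : WithBot ℕ∞) := by exact_mod_cast hE1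
    haveI := hEi
    have hEc := isEffCartier_of_curve k hX hEi hE1'
    obtain ⟨h, hiff⟩ := adj E hEi hE1' hEc
    have hI := Groth.Agent.FlatMor12.IdealModGen.isInvertible_idealMod E hEc
    have hNi := isInvertible_inverse hI (hN.map fun e => Groth.Agent.AmpleLib.tensorComm _ _ ≪≫ e)
    rw [← deg_mk k _ hNi, deg_quotMod k hEc, B_inv_right k hX.le (mk_inverse_clI' hEc hNi hN)] at he
    rw [hiff.2 hH1] at h
    have hw : B k (clI' E hEc) (InvCl.mk W hWi) < 0 := B_curve_ample_neg k E hE1' hEc hamp
    omega
  · intro hmin
    refine isAmple_of_B_pos k hX hreg hWi hpos fun I hI hIc => ?_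
    haveI := hIc.1
    have hd1 : topologicalKrullDim (I.support : Set X) = 1 := by exact_mod_cast hIc.2
    have hn := hnef I hIc.1 hd1
    rw [← deg_mk k _ hWi, deg_quotMod k hI] at hn
    by_contra hcon
    have h0 : B k (clI' I hI) (InvCl.mk W hWi) = 0 := by omega
    obtain ⟨H, hH⟩ := exists_ample k hX hreg
    have hcc := B_index k hX hH hpos (b := clI' I hI) (by rw [B_comm k]; exact h0)
    obtain ⟨a, ha⟩ := exists_inv (clI' I hI)
    rcases hcc.lt_or_eq with hlt | heq
    · obtain ⟨h, hiff⟩ := adj I hIc.1 hIc.2 hI
      letI : I.subscheme.Over (Spec (CommRingCat.of k)) := ⟨I.subschemeι ≫ (X ↘ Spec (CommRingCat.of k))⟩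
      have hII := Groth.Agent.FlatMor12.IdealModGen.isInvertible_idealMod I hI
      obtain ⟨N, hN⟩ := Groth.Agent.VarietyLib.exists_isInverseOf hII
      have hN' : ClSub.IsInverseOf N (ClSub.idealMod I) :=
        hN.map fun e => Groth.Agent.AmpleLib.tensorComm _ _ ≪≫ e
      have hNi := isInvertible_inverse hII hN
      refine hmin I N hIc.1 hd1 hN' (hiff.1 (by omega)) ?_
      rw [← deg_mk k _ hNi, deg_quotMod k hI, B_inv_right k hX.le (mk_inverse_clI' hI hNi hN')]
      omega
    · have hnefa := deg_inv_crv_nonneg k hX hreg hIc hI heq.ge ha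
      have hz := B_eq_zero_of_nef_orth k hX hH hpos (a := a)
        (by rw [B_inv_right k hX.le ha, B_comm k, h0, neg_zero]) hnefa (InvCl.mk H hH.1)
      rw [B_inv_left k hX.le ha] at hz
      have := B_curve_ample_neg k I hIc.2 hI hH
      omega

end Groth.Agent.S14057
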