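import Groth.Statements.S14059
import Groth.Agent.CohDer1.GroupEtale
-- import your own Groth.Agent.* helpers here

set_option autoImplicit false
universe u
open CategoryTheory MonoidalCategory CartesianMonoidalCategory MonObj GrpObj AlgebraicGeometry
open GrpSch

namespace Groth.Agent.S14059

/-- Let k be an algebraically closed field and G a group scheme of finite type over k, with unit point e
(the image of the unit section). Then the tangent space of G at e is zero, that is the cotangent
space m_e/m_e² of the local ring O_{G,e} vanishes, if and only if G is isomorphic over k to a finite
disjoint union of copies of Spec k, stated as: the underlying space of G is finite and discrete and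
the structure map k → O_{G,g} is bijective for every point g. (The published statement is over an
arbitrary field; the group scheme of cube roots of unity over the rationals has zero tangent space
at the unit but a point with residue field larger than the base field, and the printed argument
translates by rational points, so the base field is taken algebraically closed here.) -/
theorem result (k : Type u) [Field k] [IsAlgClosed k]
    (G : Over (Spec (CommRingCat.of k))) [GrpObj G] [LocallyOfFiniteType G.hom] [QuasiCompact G.hom]
    (e : G.left) (he : e ∈ Set.range (η[G]).left.base) :
    letI : G.left.Over (Spec (CommRingCat.of k)) := ⟨G.hom⟩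
    Subsingleton (IsLocalRing.CotangentSpace (G.left.presheaf.stalk e)) ↔
      (Finite G.left ∧ DiscreteTopology G.left ∧
        ∀ g : G.left, Function.Bijective (Curv2.stalkMap k G.left g)) := by
  letI : G.left.Over (Spec (CommRingCat.of k)) := ⟨G.hom⟩
  haveI : IsLocallyNoetherian G.left := LocallyOfFiniteType.isLocallyNoetherian G.hom
  haveI : LocallyOfFiniteType (G.left ↘ Spec (CommRingCat.of k)) := ‹LocallyOfFiniteType G.hom›
  rw [IsLocalRing.subsingleton_cotangentSpace_iff]
  constructor
  · intro hf
    obtain ⟨h1, h2, h3⟩ := Groth.Agent.CohDer1.GroupEtale.discrete_of_isField G e he hf
    exact ⟨h1, h2, fun g => Groth.Agent.CohDer1.GroupEtale.bijective_stalkMap G.left g (h3 g).1 (h3 g).2⟩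
  · intro h
    exact (RingEquiv.ofBijective (Curv2.stalkMap k G.left e) (h.2.2 e)).symm.toMulEquiv.isField (Field.toIsField k)
end Groth.Agent.S14059
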