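import Mathlib.Topology.Sheaves.Sheaf
import Mathlib.CategoryTheory.Sites.SheafCohomology.Basic
import Mathlib.CategoryTheory.Abelian.GrothendieckCategory.HasExt
import Mathlib.CategoryTheory.Abelian.GrothendieckAxioms.Sheaf
import Mathlib.Algebra.Category.Grp.AB
import Mathlib.Algebra.Homology.ShortComplex.HomologicalComplex
import Mathlib.Algebra.Homology.HomologicalComplex
import Groth.Agent.SiteCoh.ExtAcyclic
import Groth.Agent.SiteCoh.Basics

set_option autoImplicit false
universe u
open CategoryTheory CategoryTheory.Limits TopologicalSpace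
open CohTop

namespace Groth.Agent.S14060

open CategoryTheory.Limits CategoryTheory.Abelian Groth.Agent.SiteCoh in
/-- Dimension shifting along an exact complex. -/
lemma exists_lift_of_chain {A : Type*} [Category* A] [Abelian A] [HasExt.{u} A] {Z : A}
    (F : ChainComplex A ℕ) (r : ℕ) (hr : 1 ≤ r) [Mono (F.d r (r - 1))] [Epi (F.d 1 0)]
    (hex : ∀ j : ℕ, 1 ≤ j → j < r → F.ExactAt j)
    (hvan : ∀ j : ℕ, 2 ≤ j → j ≤ r → Subsingleton (Ext Z (F.X j) (j - 1)))
    (a : Z ⟶ F.X 0) : ∃ b, b ≫ F.d 1 0 = a := by
  obtain ⟨k, rfl⟩ : ∃ k, r = k + 1 := ⟨r - 1, by omega⟩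
  have hm : Mono (F.d (k + 1) k) := by simpa using ‹Mono (F.d (k + 1) (k + 1 - 1))›
  have key : ∀ m j : ℕ, j + m = k → Subsingleton (Ext Z (kernel (F.d (j + 1) j)) (j + 1)) := by
    intro m
    induction m with
    | zero =>
      intro j hj
      obtain rfl : j = k := by omega
      have : IsZero (kernel (F.d (j + 1) j)) := isZero_kernel_of_mono _
      exact subsingleton_of_forall_eq 0 fun x => by
        rw [← x.comp_mk₀_id, this.eq_of_src (𝟙 _) 0, Ext.mk₀_zero, Ext.comp_zero]
    | succ m ih =>
      intro j hj
      have hK := ih (j + 1) (by omega)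
      have h := (F.exactAt_iff' (j + 2) (j + 1) j (by simp) (by simp)).1
        (hex (j + 1) (by omega) (by omega))
      have hS : (ShortComplex.mk (kernel.ι (F.d (j + 2) (j + 1)))
          (kernel.lift (F.d (j + 1) j) (F.d (j + 2) (j + 1)) (F.d_comp_d _ _ _))
          (by rw [← cancel_mono (kernel.ι (F.d (j + 1) j))]; simp)).ShortExact :=
        { exact := by
            refine (ShortComplex.exact_iff_of_epi_of_isIso_of_mono
              (S₁ := ShortComplex.mk (kernel.ι (F.d (j + 2) (j + 1)))
                (kernel.lift (F.d (j + 1) j) (F.d (j + 2) (j + 1)) (F.d_comp_d _ _ _))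
                (by rw [← cancel_mono (kernel.ι (F.d (j + 1) j))]; simp)) (S₂ := ShortComplex.mk (kernel.ι (F.d (j + 2) (j + 1)))
                (F.d (j + 2) (j + 1)) (kernel.condition _))
              { τ₁ := 𝟙 _, τ₂ := 𝟙 _, τ₃ := kernel.ι (F.d (j + 1) j) }).2 ?_
            exact ShortComplex.exact_kernel _
          mono_f := inferInstanceAs (Mono (kernel.ι _))
          epi_g := (ShortComplex.exact_iff_epi_kernel_lift _).1 h }
      exact subsingleton_ext_X₃ hS (j + 1) (hvan (j + 2) (by omega) (by omega)) hK
  exact exists_comp_eq_of_subsingleton_ext (S := ShortComplex.mk (kernel.ι (F.d 1 0)) (F.d 1 0)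
      (kernel.condition _))
    { exact := ShortComplex.exact_kernel _
      mono_f := inferInstanceAs (Mono (kernel.ι _))
      epi_g := inferInstanceAs (Epi (F.d 1 0)) } (key k 0 (Nat.zero_add k)) a

/-- Let X be a topological space, r ≥ 1 an integer and 0 → F_r → ⋯ → F_2 → F_1 → F_0 → 0 an exact
sequence of sheaves of abelian groups on X, presented as a chain complex F of abelian sheaves
indexed by the natural numbers whose differential F_r → F_{r−1} is a monomorphism, whose
differential F_1 → F_0 is an epimorphism of sheaves, and which is exact at F_j for 1 ≤ j ≤ r − 1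
(for r = 1 the single map F_1 → F_0 is mono and epi). Assume the sheaf cohomology groups H^{j−1}(X,
F_j) vanish for 2 ≤ j ≤ r. Then the map on global sections F_1(X) → F_0(X) is surjective. (The
instance hypothesis that the category of abelian sheaves on X has Ext groups in the universe of X
holds for every X, abelian sheaves on a space forming a Grothendieck abelian category; it is the
setting in which sheaf cohomology is defined.) -/
theorem result (X : TopCat.{u})
    [HasExt.{u} (Sheaf (Opens.grothendieckTopology X) AddCommGrpCat.{u})]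
    (r : ℕ) (hr : 1 ≤ r)
    (F : ChainComplex (Sheaf (Opens.grothendieckTopology X) AddCommGrpCat.{u}) ℕ)
    (hmono : Mono (F.d r (r - 1))) (hepi : Epi (F.d 1 0))
    (hex : ∀ j : ℕ, 1 ≤ j → j < r → F.ExactAt j)
    (hvan : ∀ j : ℕ, 2 ≤ j → j ≤ r → Subsingleton (Sheaf.H (F.X j) (j - 1))) :
    Function.Surjective ((F.d 1 0).hom.app (Opposite.op ⊤)) := by
  refine (Groth.Agent.SiteCoh.surjective_sections_iff (J := Opens.grothendieckTopology X)
    (F.d 1 0) ⊤).2 fun a => ?_
  let e := Groth.Agent.SiteCoh.freeSheafTerminalIso (Opens.grothendieckTopology X)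
    (isTerminalTop (α := TopologicalSpace.Opens X))
  obtain ⟨b, hb⟩ := exists_lift_of_chain F r hr hex hvan (e.inv ≫ a)
  exact ⟨e.hom ≫ b, by rw [Category.assoc, hb, Iso.hom_inv_id_assoc]⟩

end Groth.Agent.S14060
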