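import Groth.Statements.S14064
import Groth.Agent.Surf15.CycleSections
import Groth.Agent.Surf15.PlaneNef
import Groth.Agent.S8124
-- import your own Groth.Agent.* helpers here

set_option autoImplicit false
universe u
open CategoryTheory CategoryTheory.Limits AlgebraicGeometry TopologicalSpace
open Surf

open TopologicalSpace
open Groth.Agent.Coherent Groth.Agent.PicLib Groth.Agent.AmpleLib Groth.Agent.EulerLib Groth.Agent.CurveRR24 Groth.Agent.DimLib Groth.Agent.Surf15
set_option linter.style.haveILetI false
set_option backward.isDefEq.respectTransparency.types false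

namespace Groth.Agent.S14064

/-- Fix a field k, an integral proper k-scheme X, and an invertible O_X-module L with tensor inverse M.
Suppose that L^{⊗j} has a nonzero global section for every j ≥ 4 and that no tensor power L^{⊗j}
with j ≥ 1 is isomorphic to O_X. Then H⁰(X, M^{⊗i}) = 0 for every i ≥ 1: the negative powers of L
have no nonzero global sections. (The published statement is for the canonical module of a minimal
surface of general type over an algebraically closed field, where the fourth and higher powers are
globally generated by a deep result quoted without proof, and non-triviality of the positive powers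
comes from bigness; the published deduction of this part uses exactly the two hypotheses carried
here, on an integral proper X.) -/
theorem result (k : Type u) [Field k]
    (X : Scheme.{u}) [X.Over (Spec (CommRingCat.of k))] [IsProper (X ↘ (Spec (CommRingCat.of k)))] [IsIntegral X]
    (L M : X.Modules) (hL : PicF.IsInvertible L) (hM : ClSub.IsInverseOf M L)
    (hsec : ∀ j : ℕ, 4 ≤ j → Nontrivial (Coh.HH X (CohB1.tensorPow L j) 0))
    (hnt : ∀ j : ℕ, 1 ≤ j → IsEmpty (CohB1.tensorPow L j ≅ Coh.structureModule X))
    (i : ℕ) (hi : 1 ≤ i) :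
    Subsingleton (Coh.HH X (CohB1.tensorPow M i) 0) := by
  obtain ⟨e⟩ := hM
  have hMi : PicF.IsInvertible M := PicM.isInvertible_of_tensor hL
    (glocus_isInvertible_of_iso (tensorComm L M ≪≫ e).symm isInvertible_structureModule)
  have hMp := isInvertible_tensorPow hMi i
  have hLp := isInvertible_tensorPow hL (4 * i)
  by_contra hc
  obtain ⟨s, hs⟩ := exists_section_ne_zero k (not_subsingleton_iff_nontrivial.1 hc)
  obtain ⟨t, ht⟩ := exists_section_ne_zero k (hsec (4 * i) (by omega))
  have hinv : InvCl.mk M hMi * InvCl.mk L hL = 1 := InvCl.mk_eq _ _ e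
  have hP := isInvertible_tensorPow hMp (3 + 1)
  obtain ⟨j⟩ : Nonempty (CohB1.tensorMod (CohB1.tensorPow (CohB1.tensorPow M i) (3 + 1)) (CohB1.tensorPow L (4 * i)) ≅
      Coh.structureModule X) := by
    refine Quotient.exact ((InvCl.mk_mul hP hLp).symm.trans (?_ : _ = (1 : InvCl X)))
    rw [InvCl.mk_tensorPow hMp, InvCl.mk_tensorPow hMi, InvCl.mk_tensorPow hL, ← pow_mul,
      mul_comm i (3 + 1), ← mul_pow, hinv, one_pow]
  let c := j.hom.app ⊤ (tmul (powSec s (3 + 1)) t)
  have hc' : glocus (Coh.structureModule X) c = glocus _ s ⊓ glocus _ t := by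
    rw [glocus_map_iso, glocus_tmul hP hLp, glocus_powSec hMp s 3]
  have hne : glocus (Coh.structureModule X) c ≠ ⊥ := by
    rw [hc']
    intro h
    obtain ⟨y, hy⟩ : ((glocus _ s : X.Opens) ⊓ glocus _ t : X.Opens).1.Nonempty := by
      refine nonempty_preirreducible_inter (glocus _ s).2 (glocus _ t).2 ?_ ?_
      · exact (TopologicalSpace.Opens.ne_bot_iff_nonempty _).1 (Groth.Agent.S8124.glocus_ne_bot hMp hs)
      · exact (TopologicalSpace.Opens.ne_bot_iff_nonempty _).1 (Groth.Agent.S8124.glocus_ne_bot hLp ht)
    rw [h] at hy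
    exact hy
  have htop : glocus (Coh.structureModule X) c = ⊤ := by
    have h0 : (show Γ(X, ⊤) from c) ≠ 0 := Groth.Agent.S8124.eq_zero_of_glocus_ne_bot hne
    obtain ⟨b, hb⟩ := (isField_of_universallyClosed k (X ↘ Spec (CommRingCat.of k))).mul_inv_cancel h0
    rw [show c = (show Γ(Coh.structureModule X, ⊤) from (show Γ(X, ⊤) from c)) from rfl,
      AmpleLib.glocus_structureModule]
    exact X.basicOpen_of_isUnit ⟨⟨_, b, hb, (mul_comm _ _).trans hb⟩, rfl⟩
  obtain ⟨u⟩ := nonempty_iso_of_glocus_eq_top (s := s) (top_le_iff.1 (htop ▸ hc' ▸ inf_le_left))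
  have h1 : InvCl.mk M hMi ^ i = 1 := by
    rw [← InvCl.mk_tensorPow hMi]
    exact InvCl.mk_eq _ _ u
  have h2 : InvCl.mk (CohB1.tensorPow L i) (isInvertible_tensorPow hL i) = 1 := by
    have h3 : (InvCl.mk M hMi * InvCl.mk L hL) ^ i = 1 := by rw [hinv, one_pow]
    rw [mul_pow, h1, one_mul] at h3
    rw [InvCl.mk_tensorPow hL]
    exact h3
  obtain ⟨w⟩ : Nonempty (CohB1.tensorPow L i ≅ Coh.structureModule X) := Quotient.exact h2
  exact (hnt i hi).false w

end Groth.Agent.S14064
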