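import Groth.Statements.S14065
import Groth.Agent.Clifford24.Main

set_option autoImplicit false
universe u
open CategoryTheory CategoryTheory.Limits AlgebraicGeometry TopologicalSpace
open Curves

namespace Groth.Agent.S14065

/-- Let k be an algebraically closed field and C a smooth projective connected curve over k — an
integral scheme, proper and smooth over k, of dimension 1 — of genus g = dim_k H¹(C, O_C) with g ≥
2, and let T be the tangent module of C, a tensor inverse of the module of differentials Ω_{C/k}.
Then dim_k H¹(C, T) = 3g − 3. (The published proof makes this computation, together with the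
vanishing of H⁰(C, T), to find the dimension of the tangent space of the moduli stack of genus-g
curves at C; only the dimension of H¹(C, T) is stated here.) -/
theorem result (k : Type u) [Field k] [IsAlgClosed k]
    (C : Scheme.{u}) [C.Over (Spec (CommRingCat.of k))] [IsProper (C ↘ (Spec (CommRingCat.of k)))] [Smooth (C ↘ (Spec (CommRingCat.of k)))] [IsIntegral C]
    (hdim : topologicalKrullDim C = 1) (g : ℕ) (hg : Curv2.genus k C = g) (h2 : 2 ≤ g)
    (T : C.Modules) (hT : ClSub.IsInverseOf T (Omega.sheaf (C ↘ (Spec (CommRingCat.of k))))) :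
    Module.finrank k (Coh.HH C T 1) = 3 * g - 3 := by
  haveI : GeometricallyConnected (C ↘ Spec (CommRingCat.of k)) :=
    Groth.Agent.SGA3cLib.CentralDescent.geometricallyConnected_of_isAlgClosed _
  haveI : GeometricallyIntegral (C ↘ Spec (CommRingCat.of k)) :=
    Groth.Agent.AbVarLib.geometricallyIntegral_of_smooth _
  haveI := Groth.Agent.EulerLib.isNoetherian_of_proper k (X := C)
  subst hg
  have hΩ := Groth.Agent.OmegaDual24.isInvertible_omega (k := k) (X := C) hdim
  obtain ⟨e⟩ := hT
  have hTi := Groth.Agent.Clifford24.isInvertible_of_isInverseOf hΩ ⟨Groth.Agent.AmpleLib.tensorComm _ _ ≪≫ e⟩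
  have h := Groth.Agent.CurveRR24.deg_tensor k hdim.le hTi hΩ
  rw [Groth.Agent.CurveRR24.deg_congr k e, Groth.Agent.CurveRR24.deg_structure,
    Groth.Agent.OmegaDual24.deg_omega k hdim] at h
  have hd : Curv2.deg k C T 1 < 0 := by omega
  haveI := Groth.Agent.CurveRR24.subsingleton_h0_of_deg_neg k hdim.le hTi hd
  have e1 := Groth.Agent.CurveRR24.euler_eq_h0_sub_h1 k hdim.le T (Groth.Agent.CurveRR24.isCoh_of_isInvertible k hTi).1
  have e2 := Groth.Agent.CurveRR24.euler_eq_h0_sub_h1 k hdim.le (Coh.structureModule C)
    Groth.Agent.Coherent.isQCoh_structureModule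
  rw [Groth.Agent.CurveRR24.h0_structure_of_geomIntegral k] at e2
  rw [Module.finrank_zero_of_subsingleton (M := Coh.HH C T 0)] at e1
  simp only [Curv2.deg, Curv2.genus, Nat.cast_one, Nat.cast_zero, one_mul] at e1 e2 h hd h2 ⊢
  omega

end Groth.Agent.S14065
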