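import Groth.Statements.S14066
import Groth.Agent.RelVALib.CoprodImm
import Groth.Agent.EssDimP1.PointAt
import Groth.Agent.ProjLib.MapLocal

set_option autoImplicit false
universe u
open CategoryTheory CategoryTheory.Limits AlgebraicGeometry TopologicalSpace
open Variety

set_option backward.isDefEq.respectTransparency.types false
open MvPolynomial HomogeneousLocalization
open Groth.Agent.ProjLib

namespace Groth.Agent.S14066

variable {k : Type u} [CommRing k] {a N : ℕ} (e : Fin (a + 1) → Fin (N + 1))

/-- The substitution killing the coordinates outside the range of `e`. -/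
noncomputable def subst : MvPolynomial (Fin (N + 1)) k →ₐ[k] MvPolynomial (Fin (a + 1)) k :=
  aeval fun j => if h : ∃ i, e i = j then X h.choose else 0

theorem subst_X (he : Function.Injective e) (i : Fin (a + 1)) : subst (k := k) e (X (e i)) = X i := by
  have h : ∃ i', e i' = e i := ⟨i, rfl⟩
  rw [subst, aeval_X, dif_pos h, he h.choose_spec]

theorem subst_X_of_notMem (j : Fin (N + 1)) (hj : ¬ ∃ i, e i = j) : subst (k := k) e (X j) = 0 := by
  rw [subst, aeval_X, dif_neg hj]

/-- The graded substitution. -/
noncomputable def substGr : CohB1.polyGrading N k →+*ᵍ CohB1.polyGrading a k :=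
  { (subst (k := k) e).toRingHom with
    map_mem := fun {n p} hp => by
      show (subst (k := k) e p).IsHomogeneous n
      have h := ((mem_homogeneousSubmodule n p).1 hp).aeval (n := 1)
        (fun j => if h : ∃ i, e i = j then (X h.choose : MvPolynomial (Fin (a + 1)) k) else 0) fun j => by
          split
          · exact isHomogeneous_X k _
          · exact isHomogeneous_zero _ _ _
      simpa [subst] using h }

theorem substGr_irrelevant (he : Function.Injective e) :
    HomogeneousIdeal.irrelevant (CohB1.polyGrading a k) ≤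
      (HomogeneousIdeal.irrelevant (CohB1.polyGrading N k)).map (substGr (k := k) e) := by
  intro p hp
  refine (Ideal.span_le.2 ?_ : Ideal.span _ ≤ _) (ProjLib.irrelevant_le_span_X a k hp)
  rintro _ ⟨i, rfl⟩
  rw [← subst_X e he i]
  exact Ideal.mem_map_of_mem (substGr (k := k) e)
    (HomogeneousIdeal.mem_irrelevant_of_mem _ one_pos (ProjLib.X_mem_polyGrading N k (e i)))

/-- The linear embedding. -/
noncomputable def lin (he : Function.Injective e) : CohB1.ProjSpace a k ⟶ CohB1.ProjSpace N k :=
  Proj.map (substGr (k := k) e) (substGr_irrelevant e he)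

theorem lin_toSpec (he : Function.Injective e) :
    lin (k := k) e he ≫ CohB1.ProjSpace.toSpec N k = CohB1.ProjSpace.toSpec a k := by
  refine (Proj.mapAffineOpenCover (substGr (k := k) e) (substGr_irrelevant e he)).openCover.hom_ext _ _ fun s => ?_
  rw [Scheme.AffineOpenCover.openCover_f, Proj.mapAffineOpenCover_f]
  refine (Proj.awayι_comp_map_assoc (substGr (k := k) e) (substGr_irrelevant e he) s.1.2 _ s.2.2 _).trans ?_
  refine (congrArg (_ ≫ ·) (ProjLib.awayι_toSpec N k s.2.2 s.1.2)).trans ?_
  refine Eq.trans ?_ (ProjLib.awayι_toSpec a k ((substGr (k := k) e).2 s.2.2) s.1.2).symm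
  rw [← Spec.map_comp, ← CommRingCat.ofHom_comp]
  refine congrArg (fun h => Spec.map (CommRingCat.ofHom h)) (RingHom.ext fun r => val_injective _ ?_)
  rw [RingHom.comp_apply, val_toAway]
  show (HomogeneousLocalization.map (substGr (k := k) e) _ (HomogeneousLocalization.mk _)).val = _
  rw [HomogeneousLocalization.map_mk, val_mk, ← Localization.mk_one_eq_algebraMap]
  congr 1
  · show subst (k := k) e (C r) = C r
    simp [subst]
  · exact Subtype.ext (map_one _)

theorem isClosedImmersion_lin (he : Function.Injective e) : IsClosedImmersion (lin (k := k) e he) :=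
  ProjLib.map_isClosedImmersion _ (substGr_irrelevant e he) fun n _ b hb =>
    ProjLib.exists_preimage_homogeneous (substGr (k := k) e) (fun q => ⟨rename e q, by
      show subst (k := k) e (rename e q) = q
      rw [subst, aeval_rename]
      refine Eq.trans ?_ (aeval_X_left_apply q)
      congr 1
      ext i : 1
      have h : ∃ i', e i' = e i := ⟨i, rfl⟩
      simp only [aeval_X, Function.comp_apply, dif_pos h, he h.choose_spec]⟩) n hb

/-- Points in the image have all other coordinates zero. -/
theorem X_mem_of_range (he : Function.Injective e) {z : CohB1.ProjSpace N k}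
    (hz : z ∈ Set.range (lin (k := k) e he)) (j : Fin (N + 1)) (hj : ¬ ∃ i, e i = j) :
    (X j : MvPolynomial (Fin (N + 1)) k) ∈ z.asHomogeneousIdeal.toIdeal := by
  obtain ⟨y, rfl⟩ := hz
  show subst (k := k) e (X j) ∈ y.asHomogeneousIdeal.toIdeal
  rw [subst_X_of_notMem e j hj]
  exact zero_mem _


/-- Let k be a field, and let X₁ and X₂ be k-schemes with closed immersions i₁ : X₁ → P^n_k and i₂ : X₂
→ P^m_k over k. Then there is a closed immersion of the disjoint union X₁ ⨿ X₂ into P^{n+m+1}_k over
k, that is, compatible with the structure morphism of the coproduct induced by those of X₁ and X₂.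
(Stated as the step of the published proof showing that a disjoint union of two projective k-schemes
is projective.) -/
theorem result (k : Type u) [Field k] (n m : ℕ)
    (X₁ X₂ : Scheme.{u}) [X₁.Over (Spec (CommRingCat.of k))] [X₂.Over (Spec (CommRingCat.of k))]
    (i₁ : X₁ ⟶ CohB1.ProjSpace n k) [IsClosedImmersion i₁] (h₁ : i₁ ≫ CohB1.ProjSpace.toSpec n k = X₁ ↘ (Spec (CommRingCat.of k)))
    (i₂ : X₂ ⟶ CohB1.ProjSpace m k) [IsClosedImmersion i₂] (h₂ : i₂ ≫ CohB1.ProjSpace.toSpec m k = X₂ ↘ (Spec (CommRingCat.of k))) :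
    ∃ j : X₁ ⨿ X₂ ⟶ CohB1.ProjSpace (n + m + 1) k, IsClosedImmersion j ∧
      j ≫ CohB1.ProjSpace.toSpec (n + m + 1) k = coprod.desc (X₁ ↘ (Spec (CommRingCat.of k))) (X₂ ↘ (Spec (CommRingCat.of k))) := by
  let e₁ : Fin (n + 1) → Fin (n + m + 1 + 1) := fun i => ⟨i.1, by have := i.2; omega⟩
  let e₂ : Fin (m + 1) → Fin (n + m + 1 + 1) := fun i => ⟨n + 1 + i.1, by have := i.2; omega⟩
  have he₁ : Function.Injective e₁ := fun i j h => Fin.ext (by simpa [e₁] using h)
  have he₂ : Function.Injective e₂ := fun i j h => Fin.ext (by simpa [e₂] using h)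
  haveI := isClosedImmersion_lin (k := k) e₁ he₁
  haveI := isClosedImmersion_lin (k := k) e₂ he₂
  refine ⟨coprod.desc (i₁ ≫ lin e₁ he₁) (i₂ ≫ lin e₂ he₂),
    RelVALib.isClosedImmersion_coprod_desc _ _ (Set.disjoint_left.2 ?_), ?_⟩
  · rintro z ⟨x, rfl⟩ ⟨y, hy⟩
    let z : CohB1.ProjSpace (n + m + 1) k := (i₁ ≫ lin e₁ he₁) x
    refine z.not_irrelevant_le fun p hp => ?_
    refine (Ideal.span_le.2 ?_ : Ideal.span _ ≤ _) (ProjLib.irrelevant_le_span_X (n + m + 1) k hp)
    rintro _ ⟨j, rfl⟩
    by_cases hj : j.1 < n + 1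
    · exact X_mem_of_range e₂ he₂ ⟨i₂ y, (Scheme.Hom.comp_apply _ _ _).symm.trans hy⟩ j fun ⟨i, hi⟩ => by
        have := congrArg Fin.val hi
        simp [e₂] at this
        omega
    · exact X_mem_of_range e₁ he₁ ⟨i₁ x, (Scheme.Hom.comp_apply _ _ _).symm⟩ j fun ⟨i, hi⟩ => by
        have := congrArg Fin.val hi
        have := i.2
        simp [e₁] at *
        omega
  · apply coprod.hom_ext
    · rw [coprod.inl_desc_assoc, coprod.inl_desc, Category.assoc, lin_toSpec, h₁]
    · rw [coprod.inr_desc_assoc, coprod.inr_desc, Category.assoc, lin_toSpec, h₂]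

end Groth.Agent.S14066
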