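import Groth.Statements.S14067
import Groth.Agent.S4876
import Groth.Agent.AlgSpLib.EtaleAscend
import Groth.Agent.FlatMor12.EtaleCut
import Groth.Agent.VarietyLib.SeparablePoints
-- import your own Groth.Agent.* helpers here

set_option autoImplicit false
set_option backward.isDefEq.respectTransparency false
set_option backward.isDefEq.respectTransparency.types false
universe u
open CategoryTheory AlgebraicGeometry
open FamCyc

namespace Groth.Agent.S14067

/-- Residue fields at primes are formally unramified. -/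
theorem formallyUnramified_residue {R : Type u} [CommRing R] (p : Ideal R) [p.IsPrime] :
    Algebra.FormallyUnramified R p.ResidueField := by
  haveI : Algebra.FormallyUnramified R (Localization.AtPrime p) :=
    Algebra.FormallyUnramified.of_isLocalization p.primeCompl
  haveI : Algebra.FormallyUnramified (Localization.AtPrime p) p.ResidueField :=
    Algebra.FormallyUnramified.of_surjective (Algebra.ofId (Localization.AtPrime p) _) Ideal.Quotient.mk_surjective
  exact Algebra.FormallyUnramified.comp R (Localization.AtPrime p) p.ResidueField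

open CategoryTheory Limits AlgebraicGeometry in
/-- A prime carrying a point with formally unramified residue field has formally unramified residue field. -/
theorem formallyUnramified_residueField {R B Ω : Type u} [CommRing R] [CommRing B] [Field Ω] [Algebra R B]
    [Algebra R Ω] (ρ : B →ₐ[R] Ω) [Algebra.FormallyUnramified R Ω] [Algebra.EssFiniteType R Ω]
    (q : Ideal B) [q.IsPrime] (hq : q = RingHom.ker ρ.toRingHom) : Algebra.FormallyUnramified R q.ResidueField := by
  let p := q.comap (algebraMap R B)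
  haveI : q.LiesOver p := ⟨rfl⟩
  letI := Localization.AtPrime.algebraOfLiesOver p q
  let φ : q.ResidueField →+* Ω := Ideal.ResidueField.lift q ρ.toRingHom hq.le (by
    intro x hx
    exact isUnit_iff_ne_zero.2 fun h => hx (hq ▸ (RingHom.mem_ker.2 h)))
  letI := φ.toAlgebra
  letI : Algebra p.ResidueField Ω := (φ.comp (algebraMap p.ResidueField q.ResidueField)).toAlgebra
  haveI : IsScalarTower p.ResidueField q.ResidueField Ω := IsScalarTower.of_algebraMap_eq' rfl
  haveI : IsScalarTower R p.ResidueField Ω := IsScalarTower.of_algebraMap_eq fun r => by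
    show algebraMap R Ω r = φ (algebraMap p.ResidueField q.ResidueField (algebraMap R p.ResidueField r))
    rw [← IsScalarTower.algebraMap_apply R p.ResidueField q.ResidueField,
      IsScalarTower.algebraMap_apply R B q.ResidueField, Ideal.ResidueField.lift_algebraMap]
    exact (ρ.commutes r).symm
  haveI := Algebra.FormallyUnramified.of_restrictScalars R p.ResidueField Ω
  haveI := Algebra.EssFiniteType.of_comp R p.ResidueField Ω
  haveI := Algebra.FormallyUnramified.isSeparable p.ResidueField Ω
  haveI : Algebra.IsSeparable p.ResidueField q.ResidueField :=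
    Algebra.isSeparable_tower_bot_of_isSeparable p.ResidueField q.ResidueField Ω
  haveI := Algebra.FormallyUnramified.of_isSeparable p.ResidueField q.ResidueField
  haveI := formallyUnramified_residue p
  exact Algebra.FormallyUnramified.comp R p.ResidueField q.ResidueField

open CategoryTheory Limits AlgebraicGeometry in
/-- Smooth over a Noetherian ring: the étale cuts form a universally schematically dominant family. -/
theorem exists_family {R B : Type u} [CommRing R] [CommRing B] [Algebra R B] [Algebra.Smooth R B]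
    [IsNoetherianRing R] :
    ∃ (ι : Type u) (Z : ι → Scheme.{u}) (f : ∀ i, Z i ⟶ Spec (CommRingCat.of B)),
      (∀ i, IsImmersion (f i)) ∧ (∀ i, Etale (f i ≫ Spec.map (CommRingCat.ofHom (algebraMap R B)))) ∧
      ∀ (S' : Scheme.{u}) (g : S' ⟶ Spec (CommRingCat.of R))
        (V : (pullback (Spec.map (CommRingCat.ofHom (algebraMap R B))) g).Opens) (t : Γ(pullback (Spec.map (CommRingCat.ofHom (algebraMap R B))) g, V)),
        (∀ i, (pullback.map (f i ≫ Spec.map (CommRingCat.ofHom (algebraMap R B))) g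
          (Spec.map (CommRingCat.ofHom (algebraMap R B))) g (f i) (𝟙 S') (𝟙 _) (Category.comp_id _)
          ((Category.comp_id _).trans (Category.id_comp _).symm)).app V t = 0) → t = 0 := by
  classical
  let ι := {q : PrimeSpectrum B // Algebra.FormallyUnramified R q.asIdeal.ResidueField}
  have hcut := fun i : ι => by
    haveI := i.2
    exact Groth.Agent.FlatMor12.exists_etale_cut (A := R) i.1.asIdeal
  choose J c hJ hc het huniq using hcut
  let Z : ι → Scheme.{u} := fun i => Spec (CommRingCat.of (Localization.Away (Ideal.Quotient.mk (J i) (c i))))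
  let f : ∀ i, Z i ⟶ Spec (CommRingCat.of B) := fun i =>
    Spec.map (CommRingCat.ofHom (algebraMap (B ⧸ J i) (Localization.Away (Ideal.Quotient.mk (J i) (c i))))) ≫
      Spec.map (CommRingCat.ofHom (Ideal.Quotient.mk (J i)))
  let p := Spec.map (CommRingCat.ofHom (algebraMap R B))
  haveI : IsNoetherianRing B := Algebra.FiniteType.isNoetherianRing R B
  haveI hp : Smooth p := HasRingHomProperty.Spec_iff.2 (RingHom.smooth_algebraMap.2 ‹_›)
  have hetale : ∀ i, Etale (f i ≫ p) := fun i => by
    show Etale ((Spec.map _ ≫ Spec.map _) ≫ Spec.map _)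
    rw [← Spec.map_comp, ← Spec.map_comp]
    refine HasRingHomProperty.Spec_iff.2 ?_
    have : ((CommRingCat.ofHom (algebraMap R B) ≫ CommRingCat.ofHom (Ideal.Quotient.mk (J i)) ≫
        CommRingCat.ofHom (algebraMap (B ⧸ J i) (Localization.Away (Ideal.Quotient.mk (J i) (c i))))).hom) =
        algebraMap R (Localization.Away (Ideal.Quotient.mk (J i) (c i))) := by
      ext r
      exact (IsScalarTower.algebraMap_apply R (B ⧸ J i) _ r).symm
    rw [this]
    exact RingHom.etale_algebraMap.2 (het i)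
  refine ⟨ι, Z, f, fun i => ?_, hetale, ?_⟩
  · haveI : IsOpenImmersion (Spec.map (CommRingCat.ofHom
        (algebraMap (B ⧸ J i) (Localization.Away (Ideal.Quotient.mk (J i) (c i)))))) :=
      IsOpenImmersion.of_isLocalization (Ideal.Quotient.mk (J i) (c i))
    haveI : IsClosedImmersion (Spec.map (CommRingCat.ofHom (Ideal.Quotient.mk (J i)))) :=
      IsClosedImmersion.spec_of_surjective _ Ideal.Quotient.mk_surjective
    show IsImmersion (Spec.map _ ≫ Spec.map _)
    infer_instance
  haveI : ∀ i, Flat (f i ≫ p) := fun i => by haveI := hetale i; infer_instance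
  refine (Groth.Agent.S4876.result p Z f).2 fun s V t ht => ?_
  haveI : Smooth (p.fiberToSpecResidueField s) :=
    MorphismProperty.pullback_snd (P := @Smooth) p _ hp
  haveI : IsReduced (p.fiber s) := Groth.Agent.AlgSpLib.isReduced_of_smooth' (p.fiberToSpecResidueField s)
  by_contra hne
  have hbo : (p.fiber s).basicOpen t ≠ ⊥ := fun h => hne ((basicOpen_eq_bot_iff t).1 h)
  obtain ⟨v, hv⟩ : ∃ v, v ∈ (p.fiber s).basicOpen t := by
    by_contra hn
    exact hbo (TopologicalSpace.Opens.ext (Set.eq_empty_iff_forall_notMem.2 fun v hv => hn ⟨v, hv⟩))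
  obtain ⟨W, hW, hvW, hWle⟩ := exists_isAffineOpen_mem_and_subset hv
  let s' : PrimeSpectrum R := s
  let κ := s'.asIdeal.ResidueField
  let q₀ : Spec ((Spec (CommRingCat.of R)).residueField s) ⟶ Spec (CommRingCat.of κ) :=
    Spec.map (Scheme.Spec.residueFieldIso (CommRingCat.of R) s).inv
  obtain ⟨χ, hχ⟩ := Spec.map_surjective (hW.fromSpec ≫ p.fiberToSpecResidueField s ≫ q₀)
  haveI : Smooth (Spec.map χ) := by rw [hχ]; infer_instance
  letI : Algebra κ Γ(p.fiber s, W) := χ.hom.toAlgebra
  haveI : Algebra.Smooth κ Γ(p.fiber s, W) := RingHom.smooth_algebraMap.1 (HasRingHomProperty.Spec_iff.1 ‹Smooth (Spec.map χ)›)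
  haveI : Nontrivial Γ(p.fiber s, W) := PrimeSpectrum.nonempty_iff_nontrivial.1 ⟨hW.primeIdealOf ⟨v, hvW⟩⟩
  obtain ⟨Ω, _, _, hfin, hsep, ⟨ψ⟩⟩ := Groth.Agent.VarietyLib.exists_separable_point κ Γ(p.fiber s, W)
  let t₁ : Spec (CommRingCat.of Ω) ⟶ p.fiber s := Spec.map (CommRingCat.ofHom ψ.toRingHom) ≫ hW.fromSpec
  obtain ⟨ρ, hρ⟩ := Spec.map_surjective (t₁ ≫ p.fiberι s)
  letI : Algebra R Ω := ((algebraMap κ Ω).comp (algebraMap R κ)).toAlgebra
  haveI : IsScalarTower R κ Ω := IsScalarTower.of_algebraMap_eq' rfl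
  have hcomp : CommRingCat.ofHom (algebraMap R B) ≫ ρ = CommRingCat.ofHom (algebraMap R Ω) := by
    refine Spec.map_injective ?_
    rw [Spec.map_comp, hρ]
    show (t₁ ≫ p.fiberι s) ≫ p = _
    rw [Category.assoc, Scheme.Hom.fiber_fac,
      ← Scheme.Spec.map_residueFieldIso_inv_eq_fromSpecResidueField, Category.assoc,
      ← reassoc_of% hχ, ← Spec.map_comp_assoc, ← Spec.map_comp]
    exact congrArg (fun r => Spec.map (CommRingCat.ofHom r))
      ((congrArg (fun r => r.comp (algebraMap R κ)) ψ.comp_algebraMap))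
  let ρ' : B →ₐ[R] Ω := { ρ.hom with commutes' := fun r => ConcreteCategory.congr_hom hcomp r }
  haveI := Algebra.FormallyUnramified.of_isSeparable κ Ω
  haveI : Algebra.FormallyUnramified R κ := formallyUnramified_residue s'.asIdeal
  haveI : Algebra.FormallyUnramified R Ω := Algebra.FormallyUnramified.comp R κ Ω
  haveI : Algebra.EssFiniteType R Ω := Algebra.EssFiniteType.comp R κ Ω
  let x : PrimeSpectrum B := ⟨RingHom.ker ρ'.toRingHom, RingHom.ker_isPrime _⟩
  haveI : x.asIdeal.IsPrime := x.isPrime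
  let i : ι := ⟨x, formallyUnramified_residueField ρ' x.asIdeal rfl⟩
  let z₁ : PrimeSpectrum Ω := ⟨⊥, Ideal.isPrime_bot⟩
  have hx : p.fiberι s (t₁ z₁) = x := by
    show (t₁ ≫ p.fiberι s) z₁ = x
    rw [← hρ]
    rfl
  -- a point of the cut over `x`
  let P : Ideal (B ⧸ J i) := x.asIdeal.map (Ideal.Quotient.mk (J i))
  have hPc : P.comap (Ideal.Quotient.mk (J i)) = x.asIdeal := by
    rw [Ideal.comap_map_of_surjective _ Ideal.Quotient.mk_surjective, ← RingHom.ker_eq_comap_bot,
      Ideal.mk_ker, sup_eq_left.2 (hJ i)]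
  haveI : P.IsPrime := Ideal.map_isPrime_of_surjective Ideal.Quotient.mk_surjective (by rw [Ideal.mk_ker]; exact hJ i)
  obtain ⟨z, hz⟩ : (⟨P, inferInstance⟩ : PrimeSpectrum (B ⧸ J i)) ∈ Set.range
      (PrimeSpectrum.comap (algebraMap (B ⧸ J i) (Localization.Away (Ideal.Quotient.mk (J i) (c i))))) := by
    rw [PrimeSpectrum.localization_away_comap_range _ (Ideal.Quotient.mk (J i) (c i))]
    intro h
    exact hc i (hPc ▸ (h : c i ∈ P.comap (Ideal.Quotient.mk (J i))))
  have hz' : f i z = x := by
    show PrimeSpectrum.comap (Ideal.Quotient.mk (J i))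
      (PrimeSpectrum.comap (algebraMap (B ⧸ J i) (Localization.Away (Ideal.Quotient.mk (J i) (c i)))) z) = x
    rw [hz]
    exact PrimeSpectrum.ext hPc
  obtain ⟨w, hw⟩ : ∃ w, (f i ≫ p).fiberι s w = z := by
    have h1 : (f i ≫ p) z = s := by
      show p (f i z) = s
      rw [hz', ← hx]
      exact Set.mem_singleton_iff.1 ((Scheme.Hom.range_fiberι p s).le ⟨t₁ z₁, rfl⟩)
    exact (Scheme.Hom.range_fiberι (f i ≫ p) s).ge h1
  have hwt : MoreMor.fiberMap (f i) p s w = t₁ z₁ := by
    refine (p.fiberι s).isEmbedding.injective ?_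
    rw [hx, ← hz', ← hw]
    show (MoreMor.fiberMap (f i) p s ≫ p.fiberι s) w = ((f i ≫ p).fiberι s ≫ f i) w
    rw [show MoreMor.fiberMap (f i) p s ≫ p.fiberι s = (f i ≫ p).fiberι s ≫ f i from pullback.lift_fst _ _ _]
  have hmem : t₁ z₁ ∈ (p.fiber s).basicOpen t := by
    refine hWle ?_
    rw [← hW.opensRange_fromSpec]
    exact ⟨_, rfl⟩
  rw [← hwt] at hmem
  have : w ∈ MoreMor.fiberMap (f i) p s ⁻¹ᵁ (p.fiber s).basicOpen t := hmem
  rw [Scheme.preimage_basicOpen, ht i, Scheme.basicOpen_zero] at this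
  exact this

end Groth.Agent.S14067

namespace Groth.Agent.S14067

/-- Let p : X ⟶ S be a smooth morphism of schemes. The family of all immersions j : Z ⟶ X such that Z is
étale over S is schematically dominant: if t is a section of the structure sheaf of X over an open V
whose pullback along every such j is zero, then t = 0. -/
theorem result {X S : Scheme.{u}} (p : X ⟶ S) [Smooth p]
    (V : X.Opens) (t : Γ(X, V))
    (h : ∀ (Z : Scheme.{u}) (j : Z ⟶ X), IsImmersion j → Etale (j ≫ p) → j.app V t = 0) : t = 0 := by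
  haveI : Smooth (V.ι ≫ p) := inferInstance
  refine TopCat.Sheaf.eq_of_locally_eq' ⟨X.presheaf, X.sheaf.2⟩
    (fun W : {W : X.Opens // W ≤ V ∧ IsAffineOpen W ∧ ∃ T : S.Opens, IsAffineOpen T ∧ W ≤ p ⁻¹ᵁ T} => W.1) V
    (fun W => homOfLE W.2.1) (fun x hx => ?_) _ _ fun W => ?_
  · obtain ⟨T, hT, hxT, -⟩ := exists_isAffineOpen_mem_and_subset (x := p x) (U := (⊤ : S.Opens)) trivial
    obtain ⟨W, hW, hxW, hWle⟩ := exists_isAffineOpen_mem_and_subset (x := x) (U := V ⊓ p ⁻¹ᵁ T) ⟨hx, hxT⟩
    exact TopologicalSpace.Opens.mem_iSup.2 ⟨⟨W, fun z hz => (hWle hz).1, hW, T, hT, fun z hz => (hWle hz).2⟩, hxW⟩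
  obtain ⟨W, hWV, hW, T, hT, e⟩ := W
  show X.presheaf.map (homOfLE hWV).op t = X.presheaf.map (homOfLE hWV).op 0
  rw [map_zero]
  letI : Algebra Γ(S, T) Γ(X, W) := (p.appLE T W e).hom.toAlgebra
  haveI : Algebra.Smooth Γ(S, T) Γ(X, W) :=
    RingHom.smooth_algebraMap.1 (HasRingHomProperty.appLE @Smooth p ‹_› ⟨T, hT⟩ ⟨W, hW⟩ e)
  obtain ⟨A₀, B₀, _, _, hA₀, _, ⟨eB⟩⟩ := Algebra.Smooth.exists_subalgebra_fg ℤ Γ(S, T) Γ(X, W)
  haveI : Algebra.FiniteType ℤ A₀ := (Subalgebra.fg_iff_finiteType A₀).1 hA₀
  haveI : IsNoetherianRing A₀ := Algebra.FiniteType.isNoetherianRing ℤ A₀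
  obtain ⟨ι, Z, f, himm, het, huniv⟩ := exists_family (R := A₀) (B := B₀)
  let p₀ := Spec.map (CommRingCat.ofHom (algebraMap A₀ B₀))
  let g := Spec.map (CommRingCat.ofHom (algebraMap A₀ Γ(S, T)))
  let eS : Spec (CommRingCat.of (TensorProduct A₀ Γ(S, T) B₀)) ⟶ Spec Γ(X, W) :=
    Spec.map (CommRingCat.ofHom eB.toRingEquiv.toRingHom)
  haveI : IsIso eS := by
    show IsIso (Spec.map (RingEquiv.toCommRingCatIso eB.toRingEquiv).hom)
    infer_instance
  let e₀ : Limits.pullback p₀ g ⟶ X :=
    (Limits.pullbackSymmetry p₀ g).hom ≫ (pullbackSpecIso A₀ Γ(S, T) B₀).hom ≫ eS ≫ hW.fromSpec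
  haveI : IsOpenImmersion e₀ := inferInstanceAs (IsOpenImmersion (_ ≫ _ ≫ _ ≫ _))
  have he₀ : e₀ ≫ p = Limits.pullback.snd p₀ g ≫ hT.fromSpec := by
    simp only [e₀, eS, Category.assoc]
    rw [← IsAffineOpen.SpecMap_appLE_fromSpec p hT hW e, ← Spec.map_comp_assoc,
      show p.appLE T W e ≫ CommRingCat.ofHom eB.toRingEquiv.toRingHom =
        CommRingCat.ofHom Algebra.TensorProduct.includeLeftRingHom from
          CommRingCat.hom_ext (RingHom.ext fun r => eB.commutes r),
      pullbackSpecIso_hom_fst_assoc, Limits.pullbackSymmetry_hom_comp_fst_assoc]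
  have hran : e₀.opensRange = W := by
    simp only [e₀, Scheme.Hom.opensRange_comp_of_isIso, hW.opensRange_fromSpec]
  have h0 : e₀.app V t = 0 := huniv _ g _ _ fun i => by
    haveI := himm i
    haveI := het i
    let m := Limits.pullback.map (f i ≫ p₀) g p₀ g (f i) (𝟙 _) (𝟙 _) (Category.comp_id _)
      ((Category.comp_id _).trans (Category.id_comp _).symm)
    haveI : IsImmersion m := by
      have sq : IsPullback (Limits.pullback.fst (f i ≫ p₀) g) m (f i) (Limits.pullback.fst p₀ g) := by
        refine IsPullback.of_bot ?_ (Limits.pullback.lift_fst _ _ _).symm (IsPullback.of_hasPullback p₀ g)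
        rw [Limits.pullback.lift_snd, Category.comp_id]
        exact IsPullback.of_hasPullback (f i ≫ p₀) g
      exact MorphismProperty.of_isPullback (P := @IsImmersion) sq (himm i)
    haveI : Etale (Limits.pullback.snd (f i ≫ p₀) g) :=
      MorphismProperty.pullback_snd (P := @Etale) _ _ (het i)
    refine h _ (m ≫ e₀) inferInstance ?_
    rw [Category.assoc, he₀, Limits.pullback.lift_snd_assoc, Category.assoc, Category.id_comp]
    infer_instance
  have hiso := e₀.isIso_app W hran.ge
  refine (ConcreteCategory.bijective_of_isIso (e₀.app W)).1 ?_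
  rw [map_zero]
  have hn := ConcreteCategory.congr_hom (e₀.naturality (homOfLE hWV).op) t
  rw [show e₀.app W (X.presheaf.map (homOfLE hWV).op t) = _ from hn]
  show (Limits.pullback p₀ g).presheaf.map _ (e₀.app V t) = 0
  rw [h0, map_zero]

end Groth.Agent.S14067
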