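import Groth.Statements.S14068
import Groth.Agent.S4875
import Groth.Agent.S14067

set_option autoImplicit false
universe u
open CategoryTheory AlgebraicGeometry
open FamCyc

namespace Groth.Agent.S14068

theorem app_eq_zero_of_fac {Y M X : Scheme.{u}} (e : Y ⟶ M) (m : M ⟶ X) (j : Y ⟶ X) (hje : e ≫ m = j)
    (W : X.Opens) (s : Γ(X, W)) (h : m.app W s = 0) : j.app W s = 0 := by
  subst hje
  show (e.app _) (m.app W s) = 0
  rw [h, map_zero]

/-- Let g : S' ⟶ S be a smooth morphism and q : B' ⟶ S' a flat morphism locally of finite presentation.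
Then the family of base changes Z ×_{S'} B' ⟶ B' of all immersions j : Z ⟶ S' with Z étale over S is
schematically dominant: a section of the structure sheaf of B' over an open V whose pullback along
every member of the family is zero is itself zero. -/
theorem result {S S' B' : Scheme.{u}} (g : S' ⟶ S) [Smooth g]
    (q : B' ⟶ S') [Flat q] [LocallyOfFinitePresentation q] (V : B'.Opens) (t : Γ(B', V))
    (h : ∀ (Z : Scheme.{u}) (j : Z ⟶ S'), IsImmersion j → Etale (j ≫ g) →
      (Limits.pullback.snd j q).app V t = 0) : t = 0 := by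
  let ι := {P : Σ U : S'.Opens, U.toScheme.IdealSheafData // Etale ((P.2.subschemeι ≫ P.1.ι) ≫ g)}
  let Z : ι → Scheme.{u} := fun i => i.1.2.subscheme
  let f : ∀ i, Z i ⟶ S' := fun i => i.1.2.subschemeι ≫ i.1.1.ι
  have hf : ∀ i, IsImmersion (f i) := fun i =>
    inferInstanceAs (IsImmersion (i.1.2.subschemeι ≫ i.1.1.ι))
  refine Groth.Agent.S4875.result Z f q (fun W s hs => ?_) V t (fun i => h (Z i) (f i) (hf i) i.2)
  refine Groth.Agent.S14067.result g W s fun Y j hj he => ?_
  haveI := hj
  haveI := he
  let e : Y ⟶ j.liftCoborder.image := j.liftCoborder.toImage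
  have hje : e ≫ (j.liftCoborder.ker.subschemeι ≫ j.coborderRange.ι) = j := by
    rw [← Category.assoc, show e ≫ j.liftCoborder.ker.subschemeι = j.liftCoborder from
      j.liftCoborder.toImage_imageι, j.liftCoborder_ι]
  haveI : IsIso e := inferInstanceAs (IsIso j.liftCoborder.toImage)
  have hi : Etale ((j.liftCoborder.ker.subschemeι ≫ j.coborderRange.ι) ≫ g) := by
    rw [← MorphismProperty.cancel_left_of_respectsIso @Etale e, ← Category.assoc, hje]
    exact he
  have h0 := hs ⟨⟨j.coborderRange, j.liftCoborder.ker⟩, hi⟩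
  have h1 : (j.liftCoborder.ker.subschemeι ≫ j.coborderRange.ι).app W s = 0 := h0
  exact app_eq_zero_of_fac e _ j hje W s h1

end Groth.Agent.S14068
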