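import Groth.Statements.S14074
import Groth.Agent.FlatCx12.AmpStalks
import Groth.Agent.Dual22Lib.RelAmpStalk
import Groth.Agent.KSix16.ProjRel
-- import your own Groth.Agent.* helpers here

set_option autoImplicit false
set_option backward.isDefEq.respectTransparency false
set_option synthInstance.maxHeartbeats 100000
open CategoryTheory AlgebraicGeometry
universe u
attribute [local instance] HasDerivedCategory.standard
open FamCyc

namespace Groth.Agent.S14074

/-- Let h : B ⟶ S be a smooth morphism, φ : X ⟶ B a morphism locally of finite type and F a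
quasi-coherent O_X-module of pointwise finite tor dimension over S, i.e. at every point x of X the
stalk F_x is, over the local ring of S below x, isomorphic in the derived category to a bounded
complex of flat modules. Then F has finite tor dimension over B pointwise in the same sense. -/
theorem result {X B S : Scheme.{u}} (h : B ⟶ S) [Smooth h]
    (φ : X ⟶ B) [LocallyOfFiniteType φ] (F : X.Modules) (hF : Coh.IsQCoh F)
    (hS : ∀ x : X, ∃ a b : ℤ,
      DerSch.HasTorAmplitudeAt (φ ≫ h) a b ((HomologicalComplex.single X.Modules (ComplexShape.up ℤ) 0).obj F) x) :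
    ∀ x : X, ∃ a b : ℤ,
      DerSch.HasTorAmplitudeAt φ a b ((HomologicalComplex.single X.Modules (ComplexShape.up ℤ) 0).obj F) x := by
  intro x
  obtain ⟨a, b, hab⟩ := hS x
  obtain ⟨U, V, hle, hx⟩ := Groth.Agent.FlatCx12.RelPCOps.exists_affine_pair φ x
  algebraize [(φ.appLE V U hle).hom]
  obtain ⟨n, π, hπ⟩ := Algebra.FiniteType.iff_quotient_mvPolynomial''.1
    (show Algebra.FiniteType Γ(B, V.1) Γ(X, U.1) from φ.finiteType_appLE V.2 U.2 hle)
  let c : Groth.Agent.FlatCx12.RelPCOps.Chart φ :=
    ⟨U, V, hle, n, π.toRingHom, hπ, RingHom.ext fun r => π.commutes r⟩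
  let p := Groth.Agent.KSix16.chartBase c
  haveI : IsClosedImmersion c.imm := Groth.Agent.FlatCx12.RelPCChart.isClosedImmersion_along c.U.2 c.isChart.1
  haveI : Smooth (Spec.map (CommRingCat.ofHom
      (MvPolynomial.C : Γ(B, (c.V : B.Opens)) →+* MvPolynomial (Fin c.n) Γ(B, (c.V : B.Opens))))) := by
    rw [HasRingHomProperty.Spec_iff (P := @Smooth)]
    show RingHom.Smooth (algebraMap Γ(B, (c.V : B.Opens)) (MvPolynomial (Fin c.n) Γ(B, (c.V : B.Opens))))
    rw [RingHom.smooth_algebraMap]
    exact { }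
  haveI : Smooth p := inferInstanceAs (Smooth (_ ≫ _))
  have hw : c.imm ≫ p = (U : X.Opens).ι ≫ φ := Groth.Agent.KSix16.imm_chartBase c
  let F₀ := (HomologicalComplex.single X.Modules (ComplexShape.up ℤ) 0).obj F
  let F' := ((Scheme.Modules.restrictFunctor (U : X.Opens).ι).mapHomologicalComplex (ComplexShape.up ℤ)).obj F₀
  let z : ((U : X.Opens) : Scheme) := ⟨x, hx⟩
  obtain ⟨d, W, hW, hd⟩ := Groth.Agent.FlatCx12.AmpStalks.exists_smoothOfRelativeDimension (p ≫ h) (c.imm.base z)
  have h₀ : DerSch.HasTorAmplitudeAt (c.imm ≫ p ≫ h) a b F' z :=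
    Groth.Agent.Dual22Lib.RelAmpStalk.amp_congr_hom (by rw [← Category.assoc c.imm, hw, Category.assoc])
      ((Groth.Agent.Dual22Lib.RelAmpStalk.amp_restrict_iff (φ ≫ h) (U : X.Opens).ι F₀ a b z).2 hab)
  have h₁ := Groth.Agent.FlatCx12.AmpStalks.amp_stalk_push c.imm (p ≫ h) d F' (c.imm.base z) ⟨d, W, le_rfl, hW, hd⟩
    (fun z' hz' => by rw [c.imm.isClosedEmbedding.injective hz']; exact h₀)
  refine ⟨a - d, b, ?_⟩
  refine (Groth.Agent.Dual22Lib.RelAmpStalk.amp_restrict_iff φ (U : X.Opens).ι F₀ (a - d) b z).1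
    (Groth.Agent.Dual22Lib.RelAmpStalk.amp_congr_hom hw
      ((Groth.Agent.FlatCx12.PushStalk.amp_push_iff c.imm p F' (a - d) b z).1 ?_))
  let G := ((Scheme.Modules.pushforward c.imm).mapHomologicalComplex (ComplexShape.up ℤ)).obj F'
  let c₀ : (DerSch.stalkCxOver p (c.imm.base z)).obj G ≅
      (DRing.restrictCx (p.stalkMap (c.imm.base z)).hom).obj
        (((DerSch.stalkFunctor c.space (c.imm.base z)).mapHomologicalComplex (ComplexShape.up ℤ)).obj G) :=
    HomologicalComplex.Hom.isoOfComponents (fun _ => Iso.refl _)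
      (fun _ _ _ => (Category.id_comp _).trans (Category.comp_id _).symm)
  exact Groth.Agent.FlatCx12.TorAmpComp.amp_iso (DerivedCategory.Q.mapIso c₀.symm)
    (Groth.Agent.FlatCx12.DiagDim.amp_restrict_of_flat _ (Flat.stalkMap p _) _ h₁)

end Groth.Agent.S14074
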