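import Groth.Statements.S14078
import Groth.Agent.S1353

set_option autoImplicit false
set_option linter.style.haveILetI false
set_option backward.isDefEq.respectTransparency false
open CategoryTheory CategoryTheory.Limits AlgebraicGeometry
universe u
open FamCyc

namespace Groth.Agent.S14078

/-- Let f : X ⟶ S be a morphism of schemes locally of finite type, i : Z ⟶ X an immersion such that Z ⟶
S is locally quasi-finite, and z a point of Z. Then there are an étale morphism g : T ⟶ S and an
open subscheme U of X ×_S T such that the preimage U ×_X Z of Z in U is finite over T and contains a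
point u over z whose residue field extension κ(z) → κ(u) is an isomorphism, u being moreover the
only point of U ×_X Z in its fibre over T. (The published statement covers algebraic spaces X, with
U ⟶ X ×_S T étale in general and an open subspace when X is a scheme; this row is the scheme case.) -/
theorem result {Z X S : Scheme.{u}} (f : X ⟶ S)
    [LocallyOfFiniteType f] (i : Z ⟶ X) [IsImmersion i] [LocallyQuasiFinite (i ≫ f)] (z : Z) :
    ∃ (T : Scheme.{u}) (g : T ⟶ S) (U : (pullback f g).Opens)
      (u : ↥(pullback (U.ι ≫ pullback.fst f g) i)),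
      Etale g ∧
      IsFinite (pullback.fst (U.ι ≫ pullback.fst f g) i ≫ U.ι ≫ pullback.snd f g) ∧
      (pullback.snd (U.ι ≫ pullback.fst f g) i).base u = z ∧
      IsIso ((pullback.snd (U.ι ≫ pullback.fst f g) i).residueFieldMap u) ∧
      ∀ u' : ↥(pullback (U.ι ≫ pullback.fst f g) i),
        (pullback.fst (U.ι ≫ pullback.fst f g) i ≫ U.ι ≫ pullback.snd f g).base u' =
          (pullback.fst (U.ι ≫ pullback.fst f g) i ≫ U.ι ≫ pullback.snd f g).base u → u' = u := by
  obtain ⟨T, g, t, hn, V, v, hvV, hfinV, hvt, huniq, hvz, hres⟩ :=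
    Groth.Agent.S1353.result (i ≫ f) z (Scheme.Hom.quasiFiniteAt _ z)
  let j : pullback (i ≫ f) g ⟶ pullback f g :=
    pullback.lift (pullback.fst _ _ ≫ i) (pullback.snd _ _) (by rw [Category.assoc]; exact pullback.condition)
  haveI hj : IsImmersion j := by
    have : IsPullback j (pullback.fst (i ≫ f) g) (pullback.fst f g) i := by
      refine IsPullback.of_right ?_ (by simp [j]) (IsPullback.of_hasPullback f g).flip
      simp only [j, pullback.lift_snd]
      exact (IsPullback.of_hasPullback (i ≫ f) g).flip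
    exact MorphismProperty.of_isPullback this.flip inferInstance
  obtain ⟨O, hO, hOV⟩ := j.isEmbedding.isInducing.isOpen_iff.mp V.2
  change j ⁻¹' O = (V : Set _) at hOV
  let U : (pullback f g).Opens := ⟨O, hO⟩
  let b : pullback (U.ι ≫ pullback.fst f g) i ⟶ pullback (i ≫ f) g :=
    pullback.lift (pullback.snd _ _) (pullback.fst _ _ ≫ U.ι ≫ pullback.snd f g) (by
      rw [← reassoc_of% pullback.condition]; simp [pullback.condition])
  have hb : b ≫ j = pullback.fst _ _ ≫ U.ι := by
    apply pullback.hom_ext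
    · simp [b, j, pullback.condition]
    · simp [b, j]
  have hbV : Set.range b ⊆ Set.range V.ι := by
    rw [Scheme.Opens.range_ι]
    rintro _ ⟨p, rfl⟩
    show b p ∈ (V : Set _)
    rw [← hOV]
    show (b ≫ j) p ∈ O
    rw [hb]
    exact ((pullback.fst (U.ι ≫ pullback.fst f g) i) p).2
  let a' : (V : Scheme) ⟶ (U : Scheme) := IsOpenImmersion.lift U.ι (V.ι ≫ j) (by
    rw [Scheme.Opens.range_ι]
    rintro _ ⟨p, rfl⟩
    have hp : V.ι p ∈ (V : Set _) := p.2
    rw [← hOV] at hp
    exact hp)
  have ha' : a' ≫ U.ι = V.ι ≫ j := IsOpenImmersion.lift_fac _ _ _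
  let a : (V : Scheme) ⟶ pullback (U.ι ≫ pullback.fst f g) i :=
    pullback.lift a' (V.ι ≫ pullback.fst _ _) (by rw [reassoc_of% ha']; simp [j])
  let b' := IsOpenImmersion.lift V.ι b hbV
  have hb' : b' ≫ V.ι = b := IsOpenImmersion.lift_fac _ _ _
  have hba : b' ≫ a = 𝟙 _ := by
    apply pullback.hom_ext
    · rw [← cancel_mono U.ι]
      simp [a, ha', reassoc_of% hb', hb]
    · simp [a, reassoc_of% hb', b]
  have hab : a ≫ b' = 𝟙 _ := by
    rw [← cancel_mono V.ι]
    apply pullback.hom_ext
    · simp [hb', b, a]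
    · simp [hb', b, a, reassoc_of% ha', j]
  haveI : IsIso b' := ⟨a, hba, hab⟩
  haveI : IsIso a := ⟨b', hab, hba⟩
  have hsnd : pullback.fst (U.ι ≫ pullback.fst f g) i ≫ U.ι ≫ pullback.snd f g =
      b' ≫ V.ι ≫ pullback.snd (i ≫ f) g := by
    rw [reassoc_of% hb']; simp [b]
  have hfst : pullback.snd (U.ι ≫ pullback.fst f g) i = b' ≫ V.ι ≫ pullback.fst (i ≫ f) g := by
    rw [reassoc_of% hb']; simp [b]
  refine ⟨T, g, U, a ⟨v, hvV⟩, hn.etale, ?_, ?_, ?_, ?_⟩
  · rw [hsnd]; infer_instance
  · show (a ≫ pullback.snd _ _) ⟨v, hvV⟩ = z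
    simp [a]; exact hvz
  · rw [hfst]
    simp only [Scheme.residueFieldMap_comp]
    have hp : V.ι (b' (a ⟨v, hvV⟩)) = v := by
      show (a ≫ b' ≫ V.ι) ⟨v, hvV⟩ = v
      rw [reassoc_of% hab]; rfl
    haveI : IsIso ((pullback.fst (i ≫ f) g).residueFieldMap (V.ι (b' (a ⟨v, hvV⟩)))) := by
      rw [hp]; exact (ConcreteCategory.isIso_iff_bijective _).mpr hres
    infer_instance
  · intro u' h
    rw [hsnd] at h
    have h1 : b' u' = ⟨v, hvV⟩ := by
      apply Subtype.ext
      refine huniq _ (b' u').2 ?_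
      have h2 : b' (a ⟨v, hvV⟩) = ⟨v, hvV⟩ := by
        show (a ≫ b') ⟨v, hvV⟩ = _
        rw [hab]; rfl
      simp only [Scheme.Hom.comp_apply] at h
      rw [h2] at h
      exact h.trans hvt
    rw [← h1]
    show u' = (b' ≫ a) u'
    rw [hba]; rfl

end Groth.Agent.S14078
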