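import Groth.Statements.S14079
import Groth.Agent.EGA43.Chevalley.ConditionTConv
import Groth.Agent.EGA43.Chevalley.Tfae

set_option autoImplicit false
set_option backward.isDefEq.respectTransparency false
set_option linter.all false
open CategoryTheory AlgebraicGeometry
universe u
open FamCyc
open Groth.Agent Groth.Agent.EGA43.Chevalley Groth.Agent.FlatMorWeight

namespace Groth.Agent.S14079

/-- (iv) ⇒ (iii): let f : X ⟶ S be locally of finite type. Suppose that every point x of X which is a
maximal point of its fibre (no other point of the fibre over f x specializes to x) lies on an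
irreducible component W of X, given its reduced subscheme structure, with W ⟶ S equidimensional at
x. Then every point of X lies on such an irreducible component. -/
theorem result {X S : Scheme.{u}} (f : X ⟶ S) [LocallyOfFiniteType f]
    (h : ∀ x : X, (∀ x' : X, f.base x' = f.base x → x ∈ closure ({x'} : Set X) → x' = x) →
      ∃ W : TopologicalSpace.Closeds X, (W : Set X) ∈ irreducibleComponents (X : Type u) ∧
      ∃ w : ↥((Scheme.IdealSheafData.vanishingIdeal W).subscheme),
        (Scheme.IdealSheafData.vanishingIdeal W).subschemeι.base w = x ∧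
        EGA43.IsEquidimAt ((Scheme.IdealSheafData.vanishingIdeal W).subschemeι ≫ f) w)
    (x : X) :
    ∃ W : TopologicalSpace.Closeds X, (W : Set X) ∈ irreducibleComponents (X : Type u) ∧
      ∃ w : ↥((Scheme.IdealSheafData.vanishingIdeal W).subscheme),
        (Scheme.IdealSheafData.vanishingIdeal W).subschemeι.base w = x ∧
        EGA43.IsEquidimAt ((Scheme.IdealSheafData.vanishingIdeal W).subschemeι ≫ f) w := by
  obtain ⟨z, hzx, hzf, hzmax, hd⟩ := exists_maximal_fibreDimAt f x
  obtain ⟨W, hW, w, hw, he⟩ := h z fun x' he hx' => hzmax x' (specializes_iff_mem_closure.2 hx') he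
  set ι := (Scheme.IdealSheafData.vanishingIdeal W).subschemeι with hι
  have hr : Set.range ι.base = (W : Set X) := by
    rw [hι, Scheme.IdealSheafData.range_subschemeι, Scheme.IdealSheafData.coe_support_vanishingIdeal]
  obtain ⟨ξ, hgen, hξ⟩ := exists_isGenericPoint hW
  obtain ⟨g, hg⟩ : ξ ∈ Set.range ι.base := hr.ge hgen.mem
  obtain ⟨e, U, hwU, hc, hdim⟩ := (isEquidimAt_iff _ w).1 he
  have hgw : g ⤳ w := by
    refine ι.isEmbedding.isInducing.specializes_iff.1 ?_
    rw [hg]
    exact hgen.specializes (hr.le ⟨w, rfl⟩)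
  have hgmax : ∀ a, a ⤳ g → a = g := fun a ha => by
    refine ι.isEmbedding.injective ?_
    rw [hg]
    exact hξ _ (hg ▸ ha.map ι.continuous)
  have hgU : g ∈ U := hgw.mem_open U.isOpen hwU
  have hmaxg : IsMaximalPt ((ι ≫ f) g) := (hc g hgU hgmax).1
  have hξe : DimLib.trdegHom (f.residueFieldMap ξ).hom = e := by
    rw [← hdim g hgU fun a ha _ => hgmax a ha, trdegHom_residueFieldMap_comp, hg]
  have hze : DimLib.trdegHom (f.residueFieldMap z).hom = e := by
    rw [← hdim w hwU fun a ha hfa => ι.isEmbedding.injective
      ((hzmax _ (hw ▸ ha.map ι.continuous) (by rw [Scheme.Hom.comp_apply, Scheme.Hom.comp_apply] at hfa; rw [hfa]; exact congrArg f hw)).trans hw.symm),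
      trdegHom_residueFieldMap_comp]
    rw [show ι w = z from hw]
  refine exists_component_isEquidimAt f hξ
    ((hgen.specializes (hr.le ⟨w, hw⟩)).trans hzx)
    (by rw [← hg]; exact hmaxg) ⟨_, FlatMorDim.isOpen_fibreDimAt_le f e⟩
    (show FlatMor.fibreDimAt f x ≤ (e : WithBot ℕ∞) by rw [hd, hze]) fun x' hx' _ => ?_
  rw [hξe]
  exact_mod_cast (le_fibreDimAt f x').trans hx'

end Groth.Agent.S14079
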