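import Groth.Statements.S14080
import Mathlib

set_option linter.all false

set_option autoImplicit false
universe u
open ArSing

open TensorProduct

namespace Groth.Agent.S14080

theorem ps_endo_eq_subst {k : Type u} [Field k] (φ : PowerSeries k →ₐ[k] PowerSeries k)
    (h0 : PowerSeries.constantCoeff (φ PowerSeries.X) = 0) (f : PowerSeries k) :
    φ f = f.subst (φ PowerSeries.X) := by
  have hs : PowerSeries.HasSubst (φ PowerSeries.X) := PowerSeries.HasSubst.of_constantCoeff_zero' h0
  rw [← PowerSeries.coe_substAlgHom (R := k) hs]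
  have hsX : PowerSeries.substAlgHom hs (PowerSeries.X : PowerSeries k) = φ PowerSeries.X := PowerSeries.substAlgHom_X hs
  ext d
  obtain ⟨g, hg⟩ : ∃ g, f = ((f.trunc (d + 1) : Polynomial k) : PowerSeries k) + PowerSeries.X ^ (d + 1) * g := by
    obtain ⟨g, hg⟩ := PowerSeries.X_pow_dvd_iff.2 (show ∀ m < d + 1, PowerSeries.coeff m (f - ((f.trunc (d + 1) : Polynomial k) : PowerSeries k)) = 0 from
      fun m hm => by rw [map_sub, Polynomial.coeff_coe, PowerSeries.coeff_trunc, if_pos hm, sub_self])
    exact ⟨g, by rw [← hg]; ring⟩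
  have hkill : ∀ (ψ : PowerSeries k →ₐ[k] PowerSeries k), ψ PowerSeries.X = φ PowerSeries.X →
      PowerSeries.coeff d (ψ f) = PowerSeries.coeff d (ψ ((f.trunc (d + 1) : Polynomial k) : PowerSeries k)) := by
    intro ψ hψ
    conv_lhs => rw [hg, map_add, map_add, map_mul, map_pow, hψ]
    have : (PowerSeries.X : PowerSeries k) ^ (d + 1) ∣ (φ PowerSeries.X) ^ (d + 1) * ψ g :=
      Dvd.dvd.mul_right (pow_dvd_pow_of_dvd (PowerSeries.X_dvd_iff.2 h0) _) _
    rw [PowerSeries.X_pow_dvd_iff.1 this d (Nat.lt_succ_self d), add_zero]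
  rw [hkill φ rfl, hkill (PowerSeries.substAlgHom hs) hsX]
  have : φ.comp (Polynomial.coeToPowerSeries.algHom k) = (PowerSeries.substAlgHom hs).comp (Polynomial.coeToPowerSeries.algHom k) := by
    refine Polynomial.algHom_ext ?_
    simpa [hsX] using hsX.symm
  exact congrArg _ (by simpa using DFunLike.congr_fun this (f.trunc (d + 1)))

/-- Let k be a field in which 2 is invertible and σ an involutive k-algebra automorphism of the power
series ring k[[t]], with ξ the coefficient of t in σ(t). Then ξ^2 = 1, the k-algebra endomorphism φ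
with φ(t) = (t + ξ σ(t))/2 is an automorphism, and φ⁻¹ σ φ is the automorphism t ↦ ξ t. (The
published statement is over an algebraically closed field of characteristic prime to 2; only the
invertibility of 2 is used, so any field with 2 ≠ 0 is allowed here.) -/
theorem result (k : Type u) [Field k] (h2 : (2 : k) ≠ 0)
    (σ : PowerSeries k ≃ₐ[k] PowerSeries k) (hσ : ∀ f, σ (σ f) = f) :
    (PowerSeries.coeff 1 (σ PowerSeries.X)) ^ 2 = 1 ∧
    ∃ φ : PowerSeries k ≃ₐ[k] PowerSeries k,
      φ PowerSeries.X = PowerSeries.C (2⁻¹ : k) *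
        (PowerSeries.X + PowerSeries.C (PowerSeries.coeff 1 (σ PowerSeries.X)) * σ PowerSeries.X) ∧
      ∀ f, φ.symm (σ (φ f)) = PowerSeries.rescale (PowerSeries.coeff 1 (σ PowerSeries.X)) f := by
  set ξ := PowerSeries.coeff 1 (σ PowerSeries.X) with hξ
  have h0 : PowerSeries.constantCoeff (σ PowerSeries.X) = 0 := by
    by_contra h
    have hu : IsUnit (σ PowerSeries.X) := PowerSeries.isUnit_iff_constantCoeff.2 (isUnit_iff_ne_zero.2 h)
    have := hu.map σ.symm
    rw [σ.symm_apply_apply, PowerSeries.isUnit_iff_constantCoeff, PowerSeries.constantCoeff_X] at this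
    exact not_isUnit_zero this
  have hsq : ξ ^ 2 = 1 := by
    obtain ⟨g, hg⟩ := PowerSeries.X_dvd_iff.2 h0
    have hg0 : PowerSeries.constantCoeff g = ξ := by rw [hξ, hg, PowerSeries.coeff_succ_X_mul]; simp
    have h := hσ PowerSeries.X
    rw [hg, map_mul, hg, mul_assoc] at h
    have e := mul_left_cancel₀ PowerSeries.X_ne_zero (h.trans (mul_one _).symm)
    have hc : PowerSeries.constantCoeff (σ g) = ξ := by
      have hd : (PowerSeries.X : PowerSeries k) ∣ g - PowerSeries.C ξ := by rw [PowerSeries.X_dvd_iff]; simp [hg0]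
      obtain ⟨q, hq⟩ := hd
      have := congrArg (fun z => PowerSeries.constantCoeff (σ z)) hq
      simp only [map_sub, map_mul, h0, zero_mul] at this
      rw [show σ (PowerSeries.C ξ) = PowerSeries.C ξ from σ.commutes ξ, PowerSeries.constantCoeff_C] at this
      exact sub_eq_zero.1 this
    have := congrArg PowerSeries.constantCoeff e
    rw [map_mul, hg0, hc, map_one] at this
    rw [pow_two]; exact this
  refine ⟨hsq, ?_⟩
  set F := PowerSeries.C (2⁻¹ : k) * (PowerSeries.X + PowerSeries.C ξ * σ PowerSeries.X) with hF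
  have hF0 : PowerSeries.constantCoeff F = 0 := by simp [hF, h0]
  have hF1 : IsUnit (PowerSeries.coeff 1 F) := by
    rw [hF, PowerSeries.coeff_C_mul, map_add, PowerSeries.coeff_one_X, PowerSeries.coeff_C_mul, ← hξ, ← pow_two, hsq,
      show (1 : k) + 1 = 2 by norm_num, inv_mul_cancel₀ h2]
    exact isUnit_one
  have hsF : PowerSeries.HasSubst F := PowerSeries.HasSubst.of_constantCoeff_zero' hF0
  set Gi := PowerSeries.substInvOfIsUnit F hF1
  have hsG : PowerSeries.HasSubst Gi := PowerSeries.HasSubst.substInvOfIsUnit F hF1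
  let φ : PowerSeries k ≃ₐ[k] PowerSeries k := AlgEquiv.ofAlgHom (PowerSeries.substAlgHom hsF) (PowerSeries.substAlgHom hsG)
    (AlgHom.ext fun f => by
      simp only [AlgHom.comp_apply, PowerSeries.coe_substAlgHom, AlgHom.id_apply]
      rw [PowerSeries.subst_comp_subst_apply hsG hsF, PowerSeries.subst_substInvOfIsUnit_left F hF0 hF1, PowerSeries.X_subst])
    (AlgHom.ext fun f => by
      simp only [AlgHom.comp_apply, PowerSeries.coe_substAlgHom, AlgHom.id_apply]
      rw [PowerSeries.subst_comp_subst_apply hsF hsG, PowerSeries.subst_substInvOfIsUnit_right F hF0 hF1, PowerSeries.X_subst])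
  have hφX : φ PowerSeries.X = F := PowerSeries.substAlgHom_X hsF
  refine ⟨φ, hφX, fun f => ?_⟩
  have hσF : σ F = PowerSeries.C ξ * F := by
    have hC : ∀ c, σ (PowerSeries.C c) = PowerSeries.C c := fun c => σ.commutes c
    have hcc : PowerSeries.C ξ * PowerSeries.C ξ = (1 : PowerSeries k) := by rw [← map_mul, ← pow_two, hsq, map_one]
    simp only [hF, map_add, map_mul, hC, hσ]
    linear_combination (-(PowerSeries.C (2⁻¹ : k)) * σ PowerSeries.X) * hcc
  let Ψ : PowerSeries k →ₐ[k] PowerSeries k := (φ.symm.toAlgHom.comp σ.toAlgHom).comp φ.toAlgHom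
  have hΨX : Ψ PowerSeries.X = PowerSeries.C ξ * PowerSeries.X := by
    show φ.symm (σ (φ PowerSeries.X)) = _
    rw [hφX, hσF, map_mul, show φ.symm (PowerSeries.C ξ) = PowerSeries.C ξ from φ.symm.commutes ξ]
    rw [← hφX, φ.symm_apply_apply]
  show Ψ f = _
  rw [ps_endo_eq_subst Ψ (by rw [hΨX]; simp) f, hΨX, PowerSeries.rescale_eq_subst, PowerSeries.smul_eq_C_mul]

end Groth.Agent.S14080
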