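import Groth.Statements.S14081
import Groth.Agent.CommAlg4.ASInvolution
-- import your own Groth.Agent.* helpers here

set_option autoImplicit false
universe u
open ArSing

namespace Groth.Agent.S14081

/-- Over an algebraically closed field k of characteristic prime to 2 and to r+1, with r even, every
non-trivial k-algebra involution σ of A_r = k[[x,y]]/(y^2 - x^(r+1)) is conjugate, by a k-algebra
automorphism φ of A_r, to the involution x ↦ x, y ↦ -y (that is, φ⁻¹σφ fixes the class of x and
negates the class of y). -/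
theorem result (k : Type u) [Field k] [IsAlgClosed k] (r : ℕ)
    (h2 : (2 : k) ≠ 0) (hr : ((r + 1 : ℕ) : k) ≠ 0) (hev : Even r)
    (σ : ArSing.ring k r ≃ₐ[k] ArSing.ring k r) (hσ : ∀ a, σ (σ a) = a) (hne : σ ≠ AlgEquiv.refl) :
    ∃ φ : ArSing.ring k r ≃ₐ[k] ArSing.ring k r,
      φ.symm (σ (φ (ArSing.x k r))) = ArSing.x k r ∧
      φ.symm (σ (φ (ArSing.y k r))) = -ArSing.y k r := by
  classical
  rcases Nat.eq_zero_or_pos r with rfl | hpos
  · open MvPowerSeries Groth.Agent.CommAlg4.DoubleLine Groth.Agent.CommAlg4.ASInvolution in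
    set G := ArSing.eqn k 0 with hG
    let q : MvPowerSeries (Fin 2) k →ₐ[k] ArSing.ring k 0 := Ideal.Quotient.mkₐ k _
    have hq : Function.Surjective q := Ideal.Quotient.mk_surjective
    obtain ⟨S, hS⟩ := hq (σ (ArSing.y k 0))
    have hG0 : MvPowerSeries.constantCoeff G = 0 := by simp [hG, ArSing.eqn]
    have hX0 : ArSing.x k 0 = ArSing.y k 0 ^ 2 := by
      rw [ArSing.x, ArSing.y, ← map_pow, eq_comm, Ideal.Quotient.eq]
      convert Ideal.mem_span_singleton_self _ using 1
      simp [ArSing.eqn]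
    have hS0 : MvPowerSeries.constantCoeff S = 0 := by
      by_contra h
      have hu := ((MvPowerSeries.isUnit_iff_constantCoeff.2 (Ne.isUnit h)).map q).map σ
      rw [hS, hσ] at hu
      obtain ⟨v, hv⟩ := hu.exists_left_inv
      obtain ⟨v', rfl⟩ := hq v
      rw [ArSing.y, show Ideal.Quotient.mk _ (MvPowerSeries.X 1) = q (MvPowerSeries.X 1) from rfl, ← map_mul,
        ← map_one q] at hv
      obtain ⟨c, hc⟩ := Ideal.mem_span_singleton'.1 (Ideal.Quotient.eq.1 hv)
      simpa [ArSing.eqn] using congrArg MvPowerSeries.constantCoeff hc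
    let P : k → MvPowerSeries (Fin 2) k := fun e => MvPowerSeries.C 2⁻¹ * (MvPowerSeries.X 1 + MvPowerSeries.C e * S)
    have hσP : ∀ e : k, e * e = 1 → σ (q (P e)) = e • q (P e) := by
      intro e he
      rw [show ∀ z : ArSing.ring k 0, e • z = algebraMap k _ e * z from fun z => Algebra.smul_def (R := k) (A := ArSing.ring k 0) e z]
      have hqC : ∀ c : k, q (MvPowerSeries.C c) = algebraMap k _ c := fun c => q.commutes c
      have hy : q (MvPowerSeries.X 1) = ArSing.y k 0 := rfl
      simp only [P, map_mul, map_add, hqC, hS, hy, hσ, AlgEquiv.commutes, Algebra.smul_def]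
      have hee : algebraMap k (ArSing.ring k 0) e * algebraMap k _ e = 1 := by rw [← map_mul, he, map_one]
      linear_combination (-(algebraMap k (ArSing.ring k 0) 2⁻¹ * σ (ArSing.y k 0))) * hee
    have hP0 : ∀ e, MvPowerSeries.constantCoeff (P e) = 0 := fun e => by simp [P, hS0]
    have hlin : ∀ e : k, Groth.Agent.CommAlg4.DoubleLine.lin k 1 (P e) =
        2⁻¹ * (1 + e * Groth.Agent.CommAlg4.DoubleLine.lin k 1 S) := by
      intro e
      simp [P, Groth.Agent.CommAlg4.DoubleLine.lin_mul, Groth.Agent.CommAlg4.DoubleLine.lin, Derivation.leibniz,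
        MvPowerSeries.pderiv_X_self]
    obtain ⟨e, he, hP⟩ : ∃ e : k, e * e = 1 ∧ Groth.Agent.CommAlg4.DoubleLine.lin k 1 (P e) ≠ 0 := by
      by_contra hcon
      push Not at hcon
      have h1 := hcon 1 (by simp)
      have h1' := hcon (-1) (by simp)
      rw [hlin] at h1 h1'
      have hk : (2 : k) * 2⁻¹ = 1 := mul_inv_cancel₀ h2
      have : (1 : k) = 0 := by linear_combination h1 + h1' - hk
      exact one_ne_zero this
    obtain ⟨Λ, hΛ0, hΛ1⟩ := Groth.Agent.CommAlg4.ASInvolution.exists_algEquiv_of_det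
      (a := P e ^ 2 - G) (b := P e) (by simp [hP0, hG0]) (hP0 e) (by
        simp [Groth.Agent.CommAlg4.DoubleLine.lin_sub, pow_two, Groth.Agent.CommAlg4.DoubleLine.lin_mul, hP0, hG,
          ArSing.eqn, Groth.Agent.CommAlg4.DoubleLine.lin_X, hP])
    have hΛG : Λ G = G := by
      have e1 : G = MvPowerSeries.X 1 ^ 2 - MvPowerSeries.X 0 := by rw [hG, ArSing.eqn]; ring
      conv_lhs => rw [e1]
      rw [map_sub, map_pow, hΛ0, hΛ1]
      ring
    let φ : ArSing.ring k 0 ≃ₐ[k] ArSing.ring k 0 := Ideal.quotientEquivAlg _ _ Λ (by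
      rw [Ideal.map_span, Set.image_singleton]
      exact congrArg (fun z => Ideal.span {z}) hΛG.symm)
    have hφy : φ (ArSing.y k 0) = q (P e) := congrArg q hΛ1
    rcases mul_self_eq_one_iff.1 he with rfl | rfl
    · exfalso
      refine hne (AlgEquiv.ext fun a => ?_)
      have hall : σ.toAlgHom.comp (q.comp Λ.toAlgHom) = q.comp Λ.toAlgHom := by
        refine Groth.Agent.CommAlg4.ASInvolution.hom_ext_quot (Groth.Agent.CommAlg4.ASInvolution.span_le_M 0) _ _
          fun i => ?_
        have hy' : σ (φ (ArSing.y k 0)) = φ (ArSing.y k 0) := by rw [hφy, hσP 1 he, one_smul]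
        fin_cases i
        · change σ (φ (ArSing.x k 0)) = φ (ArSing.x k 0)
          rw [hX0, map_pow, map_pow, hy']
        · exact hy'
      obtain ⟨t, rfl⟩ := hq a
      have := AlgHom.congr_fun hall (Λ.symm t)
      simpa [Λ.apply_symm_apply] using this
    · refine ⟨φ, ?_, ?_⟩
      · rw [AlgEquiv.symm_apply_eq, hX0, map_pow, map_pow, hφy, hσP _ he, neg_smul, one_smul]
        ring
      · rw [AlgEquiv.symm_apply_eq, map_neg, hφy, hσP _ he, neg_smul, one_smul]
  · obtain ⟨φ, h⟩ := Groth.Agent.CommAlg4.ASInvolution.classify h2 (r := r) hpos σ hσ hne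
    rcases h with ⟨e0, e1, he0, he1, hne', hp, hx, hy⟩ | ⟨hr1, -, -⟩
    · have h0 : e0 = 1 := by
        rcases mul_self_eq_one_iff.1 he0 with h | h
        · exact h
        · rw [h, pow_succ, hev.neg_one_pow, one_mul] at hp
          rw [h]
          exact hp
      have h1 : e1 = -1 := (mul_self_eq_one_iff.1 he1).resolve_left fun h => hne' ⟨h0, h⟩
      subst h0 h1
      refine ⟨φ, ?_, ?_⟩
      · rw [hx, one_smul, φ.symm_apply_apply]
      · rw [hy, neg_smul, one_smul, map_neg, φ.symm_apply_apply]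
    · subst hr1
      exact absurd hev (by decide)

end Groth.Agent.S14081
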