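import Groth.Statements.S14083
import Groth.Agent.CommAlg4.ASInvolution
-- import your own Groth.Agent.* helpers here

set_option autoImplicit false
universe u
open ArSing

namespace Groth.Agent.S14083

/-- Over an algebraically closed field k of characteristic different from 2, every non-trivial k-algebra
involution σ of the node algebra A_1 = k[[x,y]]/(y^2 - x^2) is conjugate, by a k-algebra
automorphism φ of A_1, to one of the three involutions (x, y) ↦ (x, -y), (x, y) ↦ (-x, -y), (x, y) ↦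
(y, x). -/
theorem result (k : Type u) [Field k] [IsAlgClosed k]
    (h2 : (2 : k) ≠ 0)
    (σ : ArSing.ring k 1 ≃ₐ[k] ArSing.ring k 1) (hσ : ∀ a, σ (σ a) = a) (hne : σ ≠ AlgEquiv.refl) :
    ∃ φ : ArSing.ring k 1 ≃ₐ[k] ArSing.ring k 1,
      (φ.symm (σ (φ (ArSing.x k 1))) = ArSing.x k 1 ∧ φ.symm (σ (φ (ArSing.y k 1))) = -ArSing.y k 1) ∨
      (φ.symm (σ (φ (ArSing.x k 1))) = -ArSing.x k 1 ∧ φ.symm (σ (φ (ArSing.y k 1))) = -ArSing.y k 1) ∨
      (φ.symm (σ (φ (ArSing.x k 1))) = ArSing.y k 1 ∧ φ.symm (σ (φ (ArSing.y k 1))) = ArSing.x k 1) := by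
  obtain ⟨φ, h⟩ := Groth.Agent.CommAlg4.ASInvolution.classify h2 (r := 1) le_rfl σ hσ hne
  rcases h with ⟨e0, e1, he0, he1, hne', -, hx, hy⟩ | ⟨-, hx, hy⟩
  · rcases mul_self_eq_one_iff.1 he0 with rfl | rfl <;> rcases mul_self_eq_one_iff.1 he1 with rfl | rfl
    · exact absurd ⟨rfl, rfl⟩ hne'
    · refine ⟨φ, Or.inl ⟨?_, ?_⟩⟩
      · rw [hx, one_smul, φ.symm_apply_apply]
      · rw [hy, neg_smul, one_smul, map_neg, φ.symm_apply_apply]
    · obtain ⟨sw, h0, h1⟩ := Groth.Agent.CommAlg4.GermNormal.exists_swap (k := k)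
      have hspan : Ideal.span {ArSing.eqn k 1} = (Ideal.span {ArSing.eqn k 1}).map (sw : MvPowerSeries (Fin 2) k →+* MvPowerSeries (Fin 2) k) := by
        rw [Ideal.map_span, Set.image_singleton]
        change _ = Ideal.span {sw (ArSing.eqn k 1)}
        rw [ArSing.eqn, map_sub, map_pow, map_pow, h0, h1, ← neg_sub, Ideal.span_singleton_neg]
      let ψ : ArSing.ring k 1 ≃ₐ[k] ArSing.ring k 1 := Ideal.quotientEquivAlg _ _ sw hspan
      have hψx : ψ (ArSing.x k 1) = ArSing.y k 1 := congrArg (Ideal.Quotient.mk _) h0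
      have hψy : ψ (ArSing.y k 1) = ArSing.x k 1 := congrArg (Ideal.Quotient.mk _) h1
      refine ⟨ψ.trans φ, Or.inl ⟨?_, ?_⟩⟩
      · rw [AlgEquiv.trans_apply, hψx, AlgEquiv.symm_apply_eq, hy, one_smul, AlgEquiv.trans_apply, hψx]
      · rw [AlgEquiv.trans_apply, hψy, AlgEquiv.symm_apply_eq, hx, neg_smul, one_smul, map_neg,
          AlgEquiv.trans_apply, hψy]
    · refine ⟨φ, Or.inr (Or.inl ⟨?_, ?_⟩)⟩
      · rw [hx, neg_smul, one_smul, map_neg, φ.symm_apply_apply]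
      · rw [hy, neg_smul, one_smul, map_neg, φ.symm_apply_apply]
  · refine ⟨φ, Or.inr (Or.inr ⟨?_, ?_⟩)⟩
    · rw [hx, φ.symm_apply_apply]
    · rw [hy, φ.symm_apply_apply]

end Groth.Agent.S14083
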