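import Groth.Statements.S14084
import Groth.Agent.CommAlg4.NodeInvolution
-- import your own Groth.Agent.* helpers here

set_option autoImplicit false
universe u
open ArSing

namespace Groth.Agent.S14084
open MvPowerSeries Groth.Agent.CommAlg4

/-- Let k be an algebraically closed field with 2 invertible, R → S a flat local homomorphism of
complete Noetherian local k-algebras whose closed fibre S/m_R S is isomorphic over k to the node
algebra k[[x,y]]/(y^2 - x^2), and σ an R-algebra involution of S whose reduction to the closed fibre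
does not exchange the two branches (it maps each minimal prime ideal over m_R S to itself). Then
there are t in R, signs ξ₁, ξ₂ in k and an R-algebra isomorphism of S with R[[x,y]]/(xy - t)
transporting σ to x ↦ ξ₂ x, y ↦ ξ₁ y; moreover t = 0 when ξ₁ = -ξ₂. -/
theorem result (k R S : Type u) [Field k] [IsAlgClosed k]
    (h2 : (2 : k) ≠ 0)
    [CommRing R] [IsLocalRing R] [IsNoetherianRing R] [IsAdicComplete (IsLocalRing.maximalIdeal R) R]
    [CommRing S] [IsLocalRing S] [IsNoetherianRing S] [IsAdicComplete (IsLocalRing.maximalIdeal S) S]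
    [Algebra k R] [Algebra R S] [Algebra k S] [IsScalarTower k R S]
    [IsLocalHom (algebraMap R S)] [Module.Flat R S]
    (e : (S ⧸ Ideal.map (algebraMap R S) (IsLocalRing.maximalIdeal R)) ≃ₐ[k]
      (MvPowerSeries (Fin 2) k ⧸
        Ideal.span {(MvPowerSeries.X 1 ^ 2 - MvPowerSeries.X 0 ^ 2 : MvPowerSeries (Fin 2) k)}))
    (σ : S ≃ₐ[R] S) (hσ : ∀ s, σ (σ s) = s)
    (hbr : ∀ P ∈ (Ideal.map (algebraMap R S) (IsLocalRing.maximalIdeal R)).minimalPrimes,
      Ideal.map (σ : S →+* S) P = P) :
    ∃ (t : R) (ξ₁ ξ₂ : k), ξ₁ ^ 2 = 1 ∧ ξ₂ ^ 2 = 1 ∧ (ξ₁ = -ξ₂ → t = 0) ∧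
      ∃ f : S ≃ₐ[R] (MvPowerSeries (Fin 2) R ⧸
          Ideal.span {(MvPowerSeries.X 0 * MvPowerSeries.X 1 - MvPowerSeries.C t : MvPowerSeries (Fin 2) R)}),
        f (σ (f.symm (Ideal.Quotient.mk _ (MvPowerSeries.X 0)))) =
          algebraMap k R ξ₂ • Ideal.Quotient.mk _ (MvPowerSeries.X 0) ∧
        f (σ (f.symm (Ideal.Quotient.mk _ (MvPowerSeries.X 1)))) =
          algebraMap k R ξ₁ • Ideal.Quotient.mk _ (MvPowerSeries.X 1) := by
  classical
  have h2' : (2 : k) * 2⁻¹ = 1 := mul_inv_cancel₀ h2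
  let T := MvPowerSeries (Fin 2) k
  let G : T := X 1 ^ 2 - X 0 ^ 2
  let mR := IsLocalRing.maximalIdeal R
  let I : Ideal S := mR.map (algebraMap R S)
  -- the residue maps
  let ε0 : T →ₐ[k] k := { (constantCoeff : T →+* k) with commutes' := fun c => constantCoeff_C c }
  have hG0 : ∀ a ∈ Ideal.span {G}, ε0 a = 0 := by
    intro a ha
    obtain ⟨c, rfl⟩ := Ideal.mem_span_singleton'.1 ha
    show constantCoeff (c * G) = 0
    simp [G]
  let cc : (T ⧸ Ideal.span {G}) →ₐ[k] k := Ideal.Quotient.liftₐ _ ε0 hG0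
  let hS : S →ₐ[k] k := cc.comp (e.toAlgHom.comp (Ideal.Quotient.mkₐ k I))
  have hS_surj : Function.Surjective hS := fun c => ⟨algebraMap k S c, hS.commutes c⟩
  have hkerS : RingHom.ker hS = IsLocalRing.maximalIdeal S :=
    IsLocalRing.eq_maximalIdeal (RingHom.ker_isMaximal_of_surjective _ hS_surj)
  have hmemS : ∀ s, hS s = 0 ↔ s ∈ IsLocalRing.maximalIdeal S := fun s => by rw [← hkerS, RingHom.mem_ker]
  have hunit : ∀ s, hS s ≠ 0 → IsUnit s := fun s h => by
    by_contra hh
    exact h ((hmemS s).2 hh)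
  have hkR : ∀ c : k, algebraMap R S (algebraMap k R c) = algebraMap k S c := fun c =>
    (IsScalarTower.algebraMap_apply k R S c).symm
  let hR : R →ₐ[k] k := hS.comp (IsScalarTower.toAlgHom k R S)
  have hR_surj : Function.Surjective hR := fun c => ⟨algebraMap k R c, hR.commutes c⟩
  have hkerR : RingHom.ker hR = IsLocalRing.maximalIdeal R :=
    IsLocalRing.eq_maximalIdeal (RingHom.ker_isMaximal_of_surjective _ hR_surj)
  let εR : IsLocalRing.ResidueField R ≃+* k :=
    (Ideal.quotEquivOfEq hkerR.symm).trans (RingHom.quotientKerEquivOfSurjective hR_surj)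
  have hres : Function.Bijective (IsLocalRing.ResidueField.map (algebraMap R S)) := by
    refine ⟨RingHom.injective _, fun z => ?_⟩
    obtain ⟨s, rfl⟩ := IsLocalRing.residue_surjective z
    refine ⟨IsLocalRing.residue R (algebraMap k R (hS s)), ?_⟩
    rw [IsLocalRing.ResidueField.map_residue, hkR]
    refine sub_eq_zero.1 ?_
    rw [← map_sub, IsLocalRing.residue_eq_zero_iff, ← hmemS, map_sub, hS.commutes]
    exact sub_self _
  -- the linear change of variables
  obtain ⟨L, hL0, hL1⟩ := ASInvolution.exists_algEquiv_of_det (k := k) (a := X 1 - X 0) (b := X 1 + X 0)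
    (by simp) (by simp) (by
      simp [DoubleLine.lin_sub, DoubleLine.lin_X, DoubleLine.lin]
      intro h
      exact h2 (by linear_combination -h))
  have hLG : L (X 0 * X 1) = G := by rw [map_mul, hL0, hL1]; simp only [G]; ring
  obtain ⟨u, hu⟩ := Ideal.Quotient.mk_surjective (e.symm (Ideal.Quotient.mk _ (L (X 0))))
  obtain ⟨v, hv⟩ := Ideal.Quotient.mk_surjective (e.symm (Ideal.Quotient.mk _ (L (X 1))))
  have hS_of : ∀ (s : S) (f : T), e (Ideal.Quotient.mk I s) = Ideal.Quotient.mk _ f → hS s = constantCoeff f := by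
    intro s f h
    show cc (e (Ideal.Quotient.mk I s)) = _
    rw [h]
    rfl
  have hum : u ∈ IsLocalRing.maximalIdeal S := by
    rw [← hmemS, hS_of u (L (X 0)) (by rw [hu, e.apply_symm_apply]), ASInvolution.cc_eq, constantCoeff_X]
  have hvm : v ∈ IsLocalRing.maximalIdeal S := by
    rw [← hmemS, hS_of v (L (X 1)) (by rw [hv, e.apply_symm_apply]), ASInvolution.cc_eq, constantCoeff_X]
  have huv : u * v ∈ I := by
    rw [← Ideal.Quotient.eq_zero_iff_mem, map_mul, hu, hv, ← map_mul, ← map_mul, ← map_mul, hLG,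
      Ideal.Quotient.eq_zero_iff_mem.2 (Ideal.mem_span_singleton_self G), map_zero]
  have hgen : IsLocalRing.maximalIdeal S = Ideal.span {u, v} ⊔ I := by
    refine le_antisymm (fun s hs => ?_) (sup_le (Ideal.span_le.2 ?_) (IsLocalRing.map_maximalIdeal_le _))
    · obtain ⟨f, hf⟩ := Ideal.Quotient.mk_surjective (e (Ideal.Quotient.mk I s))
      have hf0 : constantCoeff f = 0 := (hS_of s f hf.symm).symm.trans ((hmemS s).2 hs)
      obtain ⟨a, b, hab⟩ := DoubleLine.exists_decomp (f := L.symm f) (by rw [ASInvolution.cc_eq, hf0])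
      obtain ⟨a', ha'⟩ := Ideal.Quotient.mk_surjective (e.symm (Ideal.Quotient.mk _ (L a)))
      obtain ⟨b', hb'⟩ := Ideal.Quotient.mk_surjective (e.symm (Ideal.Quotient.mk _ (L b)))
      have : s - (a' * u + b' * v) ∈ I := by
        rw [← Ideal.Quotient.eq, map_add, map_mul, map_mul, ha', hu, hb', hv]
        apply e.injective
        rw [map_add, map_mul, map_mul, e.apply_symm_apply, e.apply_symm_apply, e.apply_symm_apply,
          e.apply_symm_apply, ← hf, ← L.apply_symm_apply f, hab]
        simp only [map_add, map_mul]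
      rw [← sub_add_cancel s (a' * u + b' * v)]
      exact add_mem (Ideal.mem_sup_right this) (Ideal.mem_sup_left (Ideal.mem_span_pair.2 ⟨a', b', rfl⟩))
    · rintro z (rfl | rfl) <;> assumption
  -- the completed fibre
  let T' := MvPowerSeries (Fin 2) (IsLocalRing.ResidueField R)
  have hεbij : Function.Bijective (MvPowerSeries.map (σ := Fin 2) εR.symm.toRingHom) := by
    refine ⟨fun f g h => MvPowerSeries.ext fun m => εR.symm.injective ?_, fun g => ?_⟩
    · simpa using congrArg (coeff m) h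
    · refine ⟨MvPowerSeries.map εR.toRingHom g, MvPowerSeries.ext fun m => ?_⟩
      simp
  let εT : T ≃+* T' := RingEquiv.ofBijective _ hεbij
  have hεX : ∀ i, εT (X i) = X i := fun i => by
    show MvPowerSeries.map εR.symm.toRingHom (X i) = X i
    exact MvPowerSeries.map_X _ i
  let π := Ideal.Quotient.mk I
  haveI : Nontrivial (S ⧸ I) := Ideal.Quotient.nontrivial_iff.2 fun h =>
    (IsLocalRing.maximalIdeal.isMaximal S).ne_top (top_le_iff.1 (h ▸ IsLocalRing.map_maximalIdeal_le _))
  haveI : IsLocalRing (S ⧸ I) := .of_surjective' π Ideal.Quotient.mk_surjective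
  haveI : IsLocalHom π := IsLocalHom.of_surjective _ Ideal.Quotient.mk_surjective
  have hmS : (IsLocalRing.maximalIdeal S).map π = IsLocalRing.maximalIdeal (S ⧸ I) := by
    have hc : (IsLocalRing.maximalIdeal (S ⧸ I)).comap π = IsLocalRing.maximalIdeal S :=
      ((IsLocalRing.local_hom_TFAE π).out 0 4).mp ‹IsLocalHom π›
    rw [← hc, Ideal.map_comap_of_surjective _ Ideal.Quotient.mk_surjective]
  obtain ⟨eB, -⟩ := Groth.Agent.CommAlg6.completion_quotient_algEquiv π Ideal.Quotient.mk_surjective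
  let eS : S ≃ₐ[S] AdicCompletion (IsLocalRing.maximalIdeal S) S := AdicCompletion.ofAlgEquiv _
  have hIS : (RingHom.ker π).map (algebraMap S (AdicCompletion (IsLocalRing.maximalIdeal S) S)) =
      I.map (eS : S →+* AdicCompletion (IsLocalRing.maximalIdeal S) S) := by
    rw [Ideal.mk_ker]
    congr 1
  let e1 : (S ⧸ I) ≃+* AdicCompletion (IsLocalRing.maximalIdeal (S ⧸ I)) (S ⧸ I) :=
    (Ideal.quotientEquiv I _ eS.toRingEquiv hIS).trans eB
  let e2 : (T ⧸ Ideal.span {G}) ≃+* (T' ⧸ Ideal.span {(X 0 * X 1 : T')}) :=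
    (Ideal.quotientEquiv (Ideal.span {G}) (Ideal.span {(X 0 * X 1 : T')}) (L.symm.toRingEquiv.trans εT) (by
      rw [Ideal.map_span, Set.image_singleton]
      congr 1
      rw [Set.singleton_eq_singleton_iff]
      show _ = εT (L.symm G)
      rw [← hLG, L.symm_apply_apply, map_mul, hεX, hεX]))
  have efib : Nonempty (AdicCompletion ((IsLocalRing.maximalIdeal S).map π) (S ⧸ I) ≃+*
      (T' ⧸ Ideal.span {(X 0 * X 1 : T')})) := by
    rw [hmS]
    exact ⟨(e1.symm.trans e.toRingEquiv).trans e2⟩
  obtain ⟨efib⟩ := efib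
  obtain ⟨α, -, ψ, -, -⟩ := NodeFlat.exists_equiv R S hres u v hum hvm huv hgen efib
  -- descend from the completions
  let Rh := AdicCompletion mR R
  let eR : R ≃ₐ[R] Rh := AdicCompletion.ofAlgEquiv _
  let t : R := eR.symm α
  let eP : MvPowerSeries (Fin 2) R ≃ₐ[R] MvPowerSeries (Fin 2) Rh :=
    AlgEquiv.ofBijective (mapAlgHom eR.toAlgHom) ⟨fun f g h => MvPowerSeries.ext fun m =>
        eR.injective (by simpa [mapAlgHom_apply] using congrArg (coeff m) h), fun g =>
      ⟨mapAlgHom eR.symm.toAlgHom g, MvPowerSeries.ext fun m => by simp [mapAlgHom_apply]⟩⟩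
  let eN : NodeInvolution.Node t ≃ₐ[R] _ := Ideal.quotientEquivAlg _
      (Ideal.span {(X 0 * X 1 - C α : MvPowerSeries (Fin 2) Rh)}) eP (by
    rw [Ideal.map_span, Set.image_singleton]
    congr 1
    rw [Set.singleton_eq_singleton_iff]
    show _ = MvPowerSeries.map eR.toAlgHom.toRingHom (X 0 * X 1 - C t)
    rw [map_sub, map_mul, map_X, map_X, map_C]
    congr 2
    exact (eR.apply_symm_apply α).symm)
  let φ : NodeInvolution.Node t ≃ₐ[R] S := (eN.trans ψ).trans (eS.symm.restrictScalars R)
  let mkN := Ideal.Quotient.mk (Ideal.span {(X 0 * X 1 - C t : MvPowerSeries (Fin 2) R)})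
  let x : S := φ (mkN (X 0))
  let y : S := φ (mkN (X 1))
  have hxy : x * y = algebraMap R S t := by
    rw [← φ.commutes, ← map_mul, ← map_mul]
    congr 1
    show mkN _ = mkN (algebraMap R (MvPowerSeries (Fin 2) R) t)
    rw [← c_eq_algebraMap, Ideal.Quotient.eq]
    exact Ideal.mem_span_singleton_self _
  haveI : Nontrivial (NodeInvolution.Node t) := φ.toEquiv.nontrivial
  have htm : t ∈ mR := by
    intro htu
    have h1 : IsUnit (mkN (X 0) * mkN (X 1)) := by
      rw [← map_mul, show mkN (X 0 * X 1) = mkN (C t) from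
        Ideal.Quotient.eq.2 (Ideal.mem_span_singleton_self _)]
      exact (htu.map C).map mkN
    haveI : IsLocalHom mkN := IsLocalHom.of_surjective _ Ideal.Quotient.mk_surjective
    have h2 := (isUnit_map_iff mkN _).1 (isUnit_of_mul_isUnit_left h1)
    simpa [isUnit_iff_constantCoeff] using h2
  let A := R ⧸ Ideal.span {t}
  haveI : Nontrivial A := Ideal.Quotient.nontrivial_iff.2 fun h => (IsLocalRing.maximalIdeal.isMaximal R).ne_top
    (top_le_iff.1 (h ▸ (Ideal.span_singleton_le_iff_mem _).2 htm))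
  haveI : IsLocalRing A := .of_surjective' (Ideal.Quotient.mk _) Ideal.Quotient.mk_surjective
  have hA : Function.Surjective (algebraMap R A) := Ideal.Quotient.mk_surjective
  obtain ⟨c0, hc0s, hc0x, hc0y, hc0k⟩ := NodeInvolution.exists_axis t 0 1 (by decide)
  obtain ⟨c1, hc1s, hc1y, hc1x, hc1k⟩ := NodeInvolution.exists_axis t 1 0 (by decide)
  let χ0 : S →ₐ[R] PowerSeries A := c0.comp φ.symm.toAlgHom
  let χ1 : S →ₐ[R] PowerSeries A := c1.comp φ.symm.toAlgHom
  have hχ0s : Function.Surjective χ0 := hc0s.comp φ.symm.surjective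
  have hχ1s : Function.Surjective χ1 := hc1s.comp φ.symm.surjective
  have h0x : χ0 x = 0 := by show c0 (φ.symm (φ _)) = 0; rw [φ.symm_apply_apply]; exact hc0x
  have h0y : χ0 y = PowerSeries.X := by show c0 (φ.symm (φ _)) = _; rw [φ.symm_apply_apply]; exact hc0y
  have h1y : χ1 y = 0 := by show c1 (φ.symm (φ _)) = 0; rw [φ.symm_apply_apply]; exact hc1y
  have h1x : χ1 x = PowerSeries.X := by show c1 (φ.symm (φ _)) = _; rw [φ.symm_apply_apply]; exact hc1x
  have h0k : ∀ s, χ0 s = 0 → x ∣ s := fun s hs => by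
    have := map_dvd φ (hc0k _ hs)
    simpa using this
  have h1k : ∀ s, χ1 s = 0 → y ∣ s := fun s hs => by
    have := map_dvd φ (hc1k _ hs)
    simpa using this
  have htI : algebraMap R S t ∈ I := Ideal.mem_map_of_mem _ htm
  have hP0 := hbr _ (NodeInvolution.span_sup_mem_minimalPrimes hA χ0 x y hχ0s h0k h0x h0y (hxy ▸ htI))
  have hP1 := hbr _ (NodeInvolution.span_sup_mem_minimalPrimes hA χ1 y x hχ1s h1k h1y h1x
    (by rw [mul_comm, hxy]; exact htI))
  have hσxy : σ (x * y) = x * y := by rw [hxy, σ.commutes]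
  have hσx : σ x ∈ Ideal.span {x} ⊔ I := hP0.le (Ideal.mem_map_of_mem _
    (Ideal.mem_sup_left (Ideal.mem_span_singleton_self x)))
  have hσy : σ y ∈ Ideal.span {y} ⊔ I := hP1.le (Ideal.mem_map_of_mem _
    (Ideal.mem_sup_left (Ideal.mem_span_singleton_self y)))
  obtain ⟨p, hp⟩ := NodeInvolution.dvd_apply_of_branch hA χ0 x y h0k h0x h0y σ hσ hσxy hσy
  obtain ⟨q, hq⟩ := NodeInvolution.dvd_apply_of_branch hA χ1 y x h1k h1y h1x σ hσ
    (by rw [mul_comm y x]; exact hσxy) hσx
  -- the residues of `p`, `q`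
  have hSσ : ∀ s, hS (σ s) = hS s := by
    intro s
    have h1 : s - algebraMap k S (hS s) ∈ IsLocalRing.maximalIdeal S := by
      rw [← hmemS, map_sub, hS.commutes]; exact sub_self _
    have h3 : σ (s - algebraMap k S (hS s)) ∈ IsLocalRing.maximalIdeal S := fun hu =>
      (IsLocalRing.mem_maximalIdeal _).1 h1 (by simpa [hσ] using hu.map σ)
    rwa [map_sub, ← hkR, σ.commutes, hkR, ← hmemS, map_sub, hS.commutes, sub_eq_zero] at h3
  have hσk : ∀ c : k, σ (algebraMap k S c) = algebraMap k S c := fun c => by rw [← hkR, σ.commutes]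
  have hx0 : x ≠ 0 := fun h => by
    rw [h, map_zero] at h1x
    exact PowerSeries.X_ne_zero h1x.symm
  have hy0 : y ≠ 0 := fun h => by
    rw [h, map_zero] at h0y
    exact PowerSeries.X_ne_zero h0y.symm
  have sq : ∀ z r : S, z ≠ 0 → σ z = z * r → hS r * hS r = 1 := by
    intro z r hz hr
    by_contra h
    refine hz ((hunit (r * σ r - 1) ?_).mul_left_eq_zero.1 ?_)
    · rwa [map_sub, map_mul, hSσ, map_one, sub_ne_zero]
    · have e := congrArg σ hr
      rw [hσ, map_mul, hr] at e
      linear_combination -e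
  let ξ2 := hS p
  let ξ1 := hS q
  have h22 : ξ2 * ξ2 = 1 := sq x p hx0 hp
  have h11 : ξ1 * ξ1 = 1 := sq y q hy0 hq
  have hSk : ∀ c : k, hS (algebraMap k S c) = c := fun c => hS.commutes c
  -- opposite signs
  have hne : ξ1 ≠ ξ2 → t = 0 := by
    intro hne
    have hpq : ξ2 * ξ1 = -1 := by
      rcases mul_self_eq_one_iff.1 h11 with e1 | e1 <;> rcases mul_self_eq_one_iff.1 h22 with e2' | e2' <;>
        simp_all
    have hu : IsUnit (p * q - 1) := hunit _ (by
      rw [map_sub, map_mul, map_one, show hS p * hS q = -1 from hpq]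
      intro h; exact h2 (by linear_combination -h))
    have h0 : algebraMap R S t * (p * q - 1) = 0 := by
      have e := hσxy
      rw [map_mul, hp, hq] at e
      rw [← hxy]
      linear_combination e
    haveI := Module.FaithfullyFlat.of_flat_of_isLocalHom (A := R) (B := S)
    exact FaithfulSMul.algebraMap_injective R S ((hu.mul_left_eq_zero.1 h0).trans (map_zero _).symm)
  let c := algebraMap k S 2⁻¹
  have hc : c * 2 = 1 := by rw [← map_ofNat (algebraMap k S) 2, ← map_mul, mul_comm, h2', map_one]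
  let s1 := algebraMap k S ξ1
  let s2 := algebraMap k S ξ2
  have hs1 : s1 * s1 = 1 := by rw [← map_mul, h11, map_one]
  have hs2 : s2 * s2 = 1 := by rw [← map_mul, h22, map_one]
  let a := c * (1 + s2 * p)
  let b := c * (1 + s1 * q)
  have eig : ∀ z r s : S, σ z = z * r → s * s = 1 → σ s = s →
      σ (z * (c * (1 + s * r))) = s * (z * (c * (1 + s * r))) := by
    intro z r s hr hs hσs
    have e := congrArg σ hr
    rw [hσ, map_mul, hr] at e
    rw [map_mul, map_mul, map_add, map_one, map_mul, hσs, show σ c = c from hσk _, hr]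
    linear_combination (-(c * s)) * e - (c * z * r) * hs
  let X' := x * a
  let Y0 := y * b
  have hX' : σ X' = s2 * X' := eig x p s2 hp hs2 (hσk _)
  have hY0 : σ Y0 = s1 * Y0 := eig y q s1 hq hs1 (hσk _)
  let w := a * b
  have hS2 : (2 : k)⁻¹ * (1 + 1) = 1 := by linear_combination h2'
  have hSc : hS c = 2⁻¹ := hSk _
  have haS : hS a = 1 := by
    show hS (c * (1 + s2 * p)) = 1
    rw [map_mul, map_add, map_one, map_mul, hSc, show hS s2 = ξ2 from hSk _, show hS p = ξ2 from rfl, h22, hS2]
  have hbS : hS b = 1 := by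
    show hS (c * (1 + s1 * q)) = 1
    rw [map_mul, map_add, map_one, map_mul, hSc, show hS s1 = ξ1 from hSk _, show hS q = ξ1 from rfl, h11, hS2]
  obtain ⟨w', hσw', hw'S, htw⟩ : ∃ w' : S, σ w' = w' ∧ hS w' = 1 ∧
      algebraMap R S t * w = algebraMap R S t * w' := by
    by_cases h : ξ1 = ξ2
    · refine ⟨c * (w + σ w), ?_, ?_, ?_⟩
      · rw [map_mul, map_add, hσ, show σ c = c from hσk _, add_comm]
      · rw [map_mul, map_add, hSσ, hSc, map_mul, haS, hbS, mul_one, hS2]
      · have e : σ (algebraMap R S t * w) = algebraMap R S t * w := by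
          have e1 : algebraMap R S t * w = X' * Y0 := by rw [← hxy]; simp only [w, X', Y0]; ring
          rw [e1, map_mul, hX', hY0, show s1 = s2 from congrArg (algebraMap k S) h]
          linear_combination (X' * Y0) * hs2
        rw [map_mul, σ.commutes] at e
        linear_combination (-(algebraMap R S t * w)) * hc - c * e
    · exact ⟨1, map_one _, map_one _, by simp [hne h]⟩
  obtain ⟨i', hi'⟩ := (hunit w' (by simp [hw'S])).exists_right_inv
  have hσi : σ i' = i' := by
    have e := congrArg σ hi'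
    rw [map_mul, hσw', map_one] at e
    linear_combination (-σ i') * hi' + i' * e
  let Y' := y * (b * i')
  have hY' : σ Y' = s1 * Y' := by
    show σ (y * (b * i')) = _
    rw [show y * (b * i') = Y0 * i' by ring, map_mul, hY0, hσi]
    ring
  have hXY : X' * Y' = algebraMap R S t := by
    show x * a * (y * (b * i')) = _
    linear_combination (a * b * i') * hxy + i' * htw + (algebraMap R S t) * hi'
  obtain ⟨P, hP⟩ := Ideal.Quotient.mk_surjective (φ.symm a)
  obtain ⟨Q, hQ⟩ := Ideal.Quotient.mk_surjective (φ.symm (b * i'))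
  haveI : IsLocalHom mkN := IsLocalHom.of_surjective _ Ideal.Quotient.mk_surjective
  have hPu : IsUnit P := (isUnit_map_iff mkN _).1 (by
    rw [show mkN P = φ.symm a from hP]; exact (hunit a (by simp [haS])).map φ.symm)
  have hQu : IsUnit Q := (isUnit_map_iff mkN _).1 (by
    rw [show mkN Q = φ.symm (b * i') from hQ]
    exact ((hunit b (by simp [hbS])).mul (IsUnit.of_mul_eq_one w' (by rw [mul_comm]; exact hi'))).map φ.symm)
  obtain ⟨Θ, hΘ0, hΘ1⟩ := NodeInvolution.exists_rescale t P Q hPu hQu (by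
    show mkN _ = mkN (C t)
    apply φ.injective
    rw [map_mul mkN, map_mul mkN, map_mul mkN, show mkN P = φ.symm a from hP, show mkN Q = φ.symm (b * i') from hQ,
      map_mul φ, map_mul φ, map_mul φ, φ.apply_symm_apply, φ.apply_symm_apply]
    exact hXY.trans (φ.commutes t).symm)
  let f : S ≃ₐ[R] NodeInvolution.Node t := (Θ.trans φ).symm
  have hfX : f.symm (mkN (X 0)) = X' := by
    show φ (Θ _) = _
    rw [hΘ0, map_mul, map_mul, show Ideal.Quotient.mk _ P = φ.symm a from hP, φ.apply_symm_apply]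
  have hfY : f.symm (mkN (X 1)) = Y' := by
    show φ (Θ _) = _
    rw [hΘ1, map_mul, map_mul, show Ideal.Quotient.mk _ Q = φ.symm (b * i') from hQ, φ.apply_symm_apply]
  refine ⟨t, ξ1, ξ2, by rw [sq_eq_one_iff]; exact mul_self_eq_one_iff.1 h11,
    by rw [sq_eq_one_iff]; exact mul_self_eq_one_iff.1 h22, fun h => hne fun e => ?_, f, ?_, ?_⟩
  · rw [e] at h
    have : (2 : k) * ξ2 = 0 := by linear_combination h
    rcases mul_eq_zero.1 this with h' | h'
    · exact h2 h'
    · rw [h', mul_zero] at h22; exact zero_ne_one h22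
  · rw [hfX, hX', map_mul, show s2 = algebraMap R S (algebraMap k R ξ2) from (hkR _).symm, f.commutes,
      ← hfX, f.apply_symm_apply]
    exact (Algebra.smul_def _ _).symm
  · rw [hfY, hY', map_mul, show s1 = algebraMap R S (algebraMap k R ξ1) from (hkR _).symm, f.commutes,
      ← hfY, f.apply_symm_apply]
    exact (Algebra.smul_def _ _).symm

end Groth.Agent.S14084
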