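import Groth.Statements.S14087
import Mathlib
import Groth.Prelude

set_option linter.all false

set_option autoImplicit false
universe u
open ArSing

universe v

open Polynomial TensorProduct AlgebraicGeometry

namespace Groth.Agent.S14087

theorem curvilinear {k : Type u} {B : Type v} [Field k] [IsAlgClosed k] [CommRing B] [IsLocalRing B] [Algebra k B] [Module.Finite k B]
    (hprin : ∃ t : B, IsLocalRing.maximalIdeal B = Ideal.span {t}) :
    Nonempty (B ≃ₐ[k] (k[X] ⧸ Ideal.span {(X : k[X]) ^ Module.finrank k B})) := by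
  classical
  haveI : IsArtinianRing B := IsArtinianRing.of_finite k B
  obtain ⟨t, ht⟩ := hprin
  obtain ⟨N, hN⟩ : ∃ N, t ^ N = 0 := by
    obtain ⟨N, hN⟩ := IsArtinianRing.isNilpotent_jacobson_bot (R := B)
    refine ⟨N, ?_⟩
    have h1 : t ∈ Ideal.jacobson (⊥ : Ideal B) := by
      rw [IsLocalRing.jacobson_eq_maximalIdeal ⊥ bot_ne_top, ht]; exact Ideal.mem_span_singleton_self t
    have h2 := Ideal.pow_mem_pow h1 N
    rw [hN] at h2
    exact h2
  have hres : Function.Bijective (algebraMap k (IsLocalRing.ResidueField B)) :=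
    IsAlgClosed.algebraMap_bijective_of_isIntegral
  let φ : k[X] →ₐ[k] B := aeval t
  have hsurj : Function.Surjective φ := by
    have key : ∀ (j : ℕ) (b : B), ∃ (p : k[X]) (c : B), b = φ p + t ^ j * c := by
      intro j
      induction j with
      | zero => exact fun b => ⟨0, b, by simp⟩
      | succ j ih =>
        intro b
        obtain ⟨p, c, rfl⟩ := ih b
        obtain ⟨a, ha⟩ := hres.2 (IsLocalRing.residue B c)
        have hca : c - algebraMap k B a ∈ IsLocalRing.maximalIdeal B := by
          rw [← IsLocalRing.residue_eq_zero_iff, map_sub, ← ha]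
          exact sub_self _
        rw [ht, Ideal.mem_span_singleton] at hca
        obtain ⟨d, hd⟩ := hca
        refine ⟨p + C a * X ^ j, d, ?_⟩
        simp only [φ, map_add, map_mul, map_pow, aeval_C, aeval_X]
        linear_combination t ^ j * hd
    intro b
    obtain ⟨p, c, rfl⟩ := key N b
    exact ⟨p, by rw [hN, zero_mul, add_zero]⟩
  have hXN : X ^ N ∈ RingHom.ker φ := RingHom.mem_ker.2 (by simp [φ, hN])
  obtain ⟨q, hq⟩ := (inferInstance : (RingHom.ker φ).IsPrincipal)
  have hdvd : q ∣ X ^ N := Ideal.mem_span_singleton.1 (hq.le hXN)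
  obtain ⟨d, -, hd⟩ := (dvd_prime_pow (prime_X) N).1 hdvd
  have hker : RingHom.ker φ = Ideal.span {(X : k[X]) ^ d} := hq.trans (Ideal.span_singleton_eq_span_singleton.2 hd)
  let e : B ≃ₐ[k] (k[X] ⧸ Ideal.span {(X : k[X]) ^ d}) :=
    (Ideal.quotientKerAlgEquivOfSurjective hsurj).symm.trans (Ideal.quotientEquivAlgOfEq k hker)
  have hfr : Module.finrank k B = d := by
    rw [e.toLinearEquiv.finrank_eq, finrank_quotient_span_eq_natDegree, natDegree_X_pow]
  rw [hfr]
  exact ⟨e⟩

open Polynomial in
/-- Over an algebraically closed field k, if B = k[t]/(t^n) with n ≥ 1 is flat over a k-subalgebra A ⊆ B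
(a finite flat extension of pointed finite algebras with curvilinear top), then A is curvilinear
too: A is isomorphic as a k-algebra to k[t]/(t^m) for some m. -/
theorem result (k : Type u) [Field k] [IsAlgClosed k]
    (n : ℕ) (hn : 0 < n)
    (A : Subalgebra k (Polynomial k ⧸ Ideal.span {(X : Polynomial k) ^ n}))
    [Module.Flat A (Polynomial k ⧸ Ideal.span {(X : Polynomial k) ^ n})] :
    ∃ m : ℕ, Nonempty (A ≃ₐ[k] (Polynomial k ⧸ Ideal.span {(X : Polynomial k) ^ m})) := by
  classical
  let B := Polynomial k ⧸ Ideal.span {(X : Polynomial k) ^ n}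
  haveI : Module.Finite k B := (monic_X_pow n).finite_quotient
  haveI : Nontrivial B := Ideal.Quotient.nontrivial_iff.2 fun h => by
    rw [Ideal.span_singleton_eq_top, isUnit_pow_iff hn.ne'] at h
    exact not_isUnit_X h
  let t : B := Ideal.Quotient.mk _ X
  have hsurj : ∀ b : B, ∃ (c : k) (e : B), b = algebraMap k B c + t * e := by
    intro b
    obtain ⟨p, rfl⟩ := Ideal.Quotient.mk_surjective b
    refine ⟨p.coeff 0, Ideal.Quotient.mk _ p.divX, ?_⟩
    show Ideal.Quotient.mk _ p = Ideal.Quotient.mk _ (C (p.coeff 0)) + _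
    rw [← map_mul, ← map_add, add_comm, X_mul_divX_add]
  have hnil : IsNilpotent t := ⟨n, by rw [← map_pow]; exact Ideal.Quotient.eq_zero_iff_mem.2 (Ideal.mem_span_singleton_self _)⟩
  have hunit : ∀ (c : k) (e : B), c ≠ 0 → IsUnit (algebraMap k B c + t * e) := fun c e hc =>
    IsNilpotent.isUnit_add_left_of_commute ((Commute.all t e).isNilpotent_mul_right hnil) ((isUnit_iff_ne_zero.2 hc).map _) (Commute.all _ _)
  have hmax : ∀ b : B, ¬ IsUnit b → t ∣ b := fun b hb => by
    obtain ⟨c, e, rfl⟩ := hsurj b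
    by_cases hc : c = 0
    · subst hc; exact ⟨e, by simp⟩
    · exact absurd (hunit c e hc) hb
  have hnu : ∀ b : B, t ∣ b → ¬ IsUnit b := fun b hb hu => by
    obtain ⟨e, rfl⟩ := hb
    exact ((Commute.all t e).isNilpotent_mul_right hnil).not_isUnit hu
  haveI : IsLocalRing B := IsLocalRing.of_nonunits_add fun a b ha hb => hnu _ (dvd_add (hmax a ha) (hmax b hb))
  have hloc : ∀ a : A, IsUnit (a : B) → IsUnit a := by
    intro a ha
    haveI : Module.Finite k A := FiniteDimensional.of_injective A.val.toLinearMap Subtype.val_injective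
    have hinj : Function.Injective (LinearMap.mulLeft k a) := fun x y h => Subtype.ext (ha.mul_left_cancel (congrArg Subtype.val h))
    obtain ⟨b, hb⟩ := LinearMap.injective_iff_surjective.1 hinj 1
    exact IsUnit.of_mul_eq_one b hb
  haveI : IsLocalHom (algebraMap A B) := ⟨hloc⟩
  haveI : IsLocalRing A := IsLocalRing.of_nonunits_add fun a b ha hb h =>
    IsLocalRing.nonunits_add (R := B) (show (a : B) ∈ nonunits B from fun h' => ha (hloc a h')) (show (b : B) ∈ nonunits B from fun h' => hb (hloc b h')) (h.map A.val)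
  haveI := Module.FaithfullyFlat.of_flat_of_isLocalHom (A := A) (B := B)
  haveI : Module.Finite k A := FiniteDimensional.of_injective A.val.toLinearMap Subtype.val_injective
  have hord : ∀ (j : ℕ) (b : B), (∃ d u, IsUnit u ∧ b = t ^ d * u) ∨ t ^ j ∣ b := by
    intro j
    induction j with
    | zero => exact fun b => Or.inr ⟨b, by simp⟩
    | succ j ih =>
      intro b
      rcases ih b with h | ⟨e, rfl⟩
      · exact Or.inl h
      · by_cases he : IsUnit e
        · exact Or.inl ⟨j, e, he, rfl⟩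
        · obtain ⟨e', rfl⟩ := hmax e he
          exact Or.inr ⟨e', by ring⟩
  have htn : t ^ n = 0 := by rw [← map_pow]; exact Ideal.Quotient.eq_zero_iff_mem.2 (Ideal.mem_span_singleton_self _)
  have hgen : ∃ a ∈ IsLocalRing.maximalIdeal A, (IsLocalRing.maximalIdeal A).map (algebraMap A B) = Ideal.span {(a : B)} := by
    by_cases hz : ∀ a ∈ IsLocalRing.maximalIdeal A, (a : B) = 0
    · refine ⟨0, Ideal.zero_mem _, le_antisymm (Ideal.map_le_iff_le_comap.2 fun a ha => ?_) (by simp)⟩
      rw [Ideal.mem_comap, show algebraMap A B a = 0 from hz a ha]; exact Ideal.zero_mem _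
    push Not at hz
    have hd : ∃ d, ∃ a ∈ IsLocalRing.maximalIdeal A, ∃ u : B, IsUnit u ∧ (a : B) = t ^ d * u := by
      obtain ⟨a, ha, ha0⟩ := hz
      rcases hord n (a : B) with ⟨d, u, hu, e⟩ | h
      · exact ⟨d, a, ha, u, hu, e⟩
      · rw [htn, zero_dvd_iff] at h; exact absurd h ha0
    obtain ⟨a, ha, u, hu, hau⟩ := Nat.find_spec hd
    refine ⟨a, ha, le_antisymm (Ideal.map_le_iff_le_comap.2 fun b hb => ?_)
      ((Ideal.span_singleton_le_iff_mem _).2 (Ideal.mem_map_of_mem _ ha))⟩
    show (b : B) ∈ (Ideal.span {(a : B)} : Ideal B)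
    rw [Ideal.mem_span_singleton, hau, hu.mul_right_dvd]
    rcases hord n (b : B) with ⟨d, v, hv, e⟩ | h
    · rw [e]
      exact dvd_mul_of_dvd_left (pow_dvd_pow t (Nat.find_min' hd ⟨b, hb, v, hv, e⟩)) _
    · rw [htn, zero_dvd_iff] at h; rw [h]; exact dvd_zero _
  obtain ⟨a, ha, hmap⟩ := hgen
  refine ⟨_, curvilinear ⟨a, ?_⟩⟩
  apply le_antisymm _ ((Ideal.span_singleton_le_iff_mem _).2 ha)
  intro x hx
  rw [← Ideal.comap_map_eq_self_of_faithfullyFlat (B := B) (Ideal.span {a})]
  show algebraMap A B x ∈ (Ideal.span {a}).map (algebraMap A B)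
  rw [Ideal.map_span, Set.image_singleton]
  exact hmap ▸ Ideal.mem_map_of_mem _ hx

end Groth.Agent.S14087
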