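import Groth.Statements.S14088
import Mathlib.Tactic
import Mathlib.Data.Nat.Factorial.Basic
import Mathlib.Data.Nat.Choose.Sum

set_option autoImplicit false
universe u
open ArSing

namespace Groth.Agent.S14088

def R {A : Type u} [CommRing A] (h τ : A) (k : ℕ) : A :=
  ∏ i ∈ Finset.range k, (h + (i : A) * τ)

theorem R_mul {A : Type u} [CommRing A] (h τ : A) : ∀ n m : ℕ, R h τ n * R h τ m =
    ∑ s ∈ Finset.range (n + 1), (-1 : A) ^ s * (Nat.factorial s : A) * (Nat.choose n s : A) *
      (Nat.choose m s : A) * τ ^ s * R h τ (m + n - s) := by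
  intro n m
  induction n with
  | zero => simp [R]
  | succ n ih =>
    set c : ℕ → ℕ → A := fun k s =>
      (-1 : A) ^ s * (Nat.factorial s : A) * (Nat.choose k s : A) * (Nat.choose m s : A) * τ ^ s
      with hc
    have step : ∀ s, s ≤ n → (h + (n : A) * τ) * (c n s * R h τ (m + n - s)) =
        c n s * R h τ (m + (n + 1) - s) +
          (c (n + 1) (s + 1) - c n (s + 1)) * R h τ (m + n - s) := by
      intro s hs
      have e : m + (n + 1) - s = (m + n - s) + 1 := by omega
      rw [e]
      conv_rhs => arg 1; rw [R, Finset.prod_range_succ, ← R]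
      simp only [hc]
      rcases Nat.lt_or_ge m s with hms | hms
      · simp [Nat.choose_eq_zero_of_lt hms, Nat.choose_eq_zero_of_lt (Nat.lt_succ_of_lt hms)]
      · have e2 : ((m.choose (s + 1) : A)) * ((s : A) + 1) = (m.choose s : A) * ((m : A) - s) := by
          have := congrArg (Nat.cast : ℕ → A) (Nat.choose_succ_right_eq m s)
          push_cast [Nat.cast_sub hms] at this
          exact this
        rw [Nat.choose_succ_succ, Nat.factorial_succ, Nat.cast_sub (by omega : s ≤ m + n)]
        push_cast
        linear_combination ((-1 : A) ^ s * (Nat.factorial s : A) * (n.choose s : A) * τ ^ (s + 1) * R h τ (m + n - s)) * e2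
    have lhs : R h τ (n + 1) * R h τ m = (h + (n : A) * τ) * (R h τ n * R h τ m) := by
      conv_lhs => arg 1; rw [R, Finset.prod_range_succ, ← R]
      ring
    rw [lhs, ih, Finset.mul_sum, Finset.sum_congr rfl fun s hs => step s (Nat.le_of_lt_succ (Finset.mem_range.1 hs))]
    rw [Finset.sum_add_distrib]
    show _ = ∑ s ∈ Finset.range (n + 1 + 1), c (n + 1) s * R h τ (m + (n + 1) - s)
    rw [Finset.sum_range_succ' (fun s => c (n + 1) s * R h τ (m + (n + 1) - s))]
    simp only [sub_mul, Finset.sum_sub_distrib]
    have e3 : ∑ s ∈ Finset.range (n + 1), c n s * R h τ (m + (n + 1) - s)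
        - ∑ s ∈ Finset.range (n + 1), c n (s + 1) * R h τ (m + n - s)
        = c (n + 1) 0 * R h τ (m + (n + 1) - 0) := by
      rw [Finset.sum_range_succ' (fun s => c n s * R h τ (m + (n + 1) - s)), Finset.sum_range_succ _ n]
      have z : c n (n + 1) = 0 := by simp [hc]
      have z0 : c n 0 = c (n + 1) 0 := by simp [hc]
      simp only [z, z0, zero_mul, add_zero, show ∀ s, m + (n + 1) - (s + 1) = m + n - s from fun s => by omega]
      ring
    have e4 : ∀ s, m + (n + 1) - (s + 1) = m + n - s := fun s => by omega
    simp only [e4]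
    linear_combination e3


/-- The identity behind the torus-equivariant classes h_i = h_0 + i τ of the coordinate hyperplanes of a
projective space of binary forms, stated in an arbitrary commutative ring: for n ≤ m, (h_0 ⋯
h_(n-1))^2 · h_n ⋯ h_(m-1) equals the sum over s = 0, …, n of (-1)^s s! (n choose s) (m choose s)
τ^s h_0 ⋯ h_(m+n-s-1), where h_i = h + i τ. (The published statement is in the equivariant Chow ring
of that projective space; only the relations h_i = h_j + (j - i) τ are used, so it holds in any
commutative ring.) -/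
theorem result (A : Type u) [CommRing A] (h τ : A) (n m : ℕ) (hnm : n ≤ m) :
    (∏ i ∈ Finset.range n, (h + (i : A) * τ) ^ 2) * ∏ i ∈ Finset.Ico n m, (h + (i : A) * τ) =
      ∑ s ∈ Finset.range (n + 1), (-1 : A) ^ s * (Nat.factorial s : A) * (Nat.choose n s : A) *
        (Nat.choose m s : A) * τ ^ s * ∏ i ∈ Finset.range (m + n - s), (h + (i : A) * τ) := by
  have key := R_mul h τ n m
  unfold R at key
  rw [← key]
  rw [Finset.prod_pow, pow_two, mul_assoc, Finset.prod_range_mul_prod_Ico _ hnm]

end Groth.Agent.S14088
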