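import Groth.Statements.S14091
import Mathlib
import Groth.Prelude

set_option linter.all false

set_option autoImplicit false
universe u
open ArSing

universe v

open Polynomial TensorProduct AlgebraicGeometry

namespace Groth.Agent.S14091

theorem curvilinear {k : Type u} {B : Type v} [Field k] [IsAlgClosed k] [CommRing B] [IsLocalRing B] [Algebra k B] [Module.Finite k B]
    (hprin : ∃ t : B, IsLocalRing.maximalIdeal B = Ideal.span {t}) :
    Nonempty (B ≃ₐ[k] (k[X] ⧸ Ideal.span {(X : k[X]) ^ Module.finrank k B})) := by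
  classical
  haveI : IsArtinianRing B := IsArtinianRing.of_finite k B
  obtain ⟨t, ht⟩ := hprin
  obtain ⟨N, hN⟩ : ∃ N, t ^ N = 0 := by
    obtain ⟨N, hN⟩ := IsArtinianRing.isNilpotent_jacobson_bot (R := B)
    refine ⟨N, ?_⟩
    have h1 : t ∈ Ideal.jacobson (⊥ : Ideal B) := by
      rw [IsLocalRing.jacobson_eq_maximalIdeal ⊥ bot_ne_top, ht]; exact Ideal.mem_span_singleton_self t
    have h2 := Ideal.pow_mem_pow h1 N
    rw [hN] at h2
    exact h2
  have hres : Function.Bijective (algebraMap k (IsLocalRing.ResidueField B)) :=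
    IsAlgClosed.algebraMap_bijective_of_isIntegral
  let φ : k[X] →ₐ[k] B := aeval t
  have hsurj : Function.Surjective φ := by
    have key : ∀ (j : ℕ) (b : B), ∃ (p : k[X]) (c : B), b = φ p + t ^ j * c := by
      intro j
      induction j with
      | zero => exact fun b => ⟨0, b, by simp⟩
      | succ j ih =>
        intro b
        obtain ⟨p, c, rfl⟩ := ih b
        obtain ⟨a, ha⟩ := hres.2 (IsLocalRing.residue B c)
        have hca : c - algebraMap k B a ∈ IsLocalRing.maximalIdeal B := by
          rw [← IsLocalRing.residue_eq_zero_iff, map_sub, ← ha]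
          exact sub_self _
        rw [ht, Ideal.mem_span_singleton] at hca
        obtain ⟨d, hd⟩ := hca
        refine ⟨p + C a * X ^ j, d, ?_⟩
        simp only [φ, map_add, map_mul, map_pow, aeval_C, aeval_X]
        linear_combination t ^ j * hd
    intro b
    obtain ⟨p, c, rfl⟩ := key N b
    exact ⟨p, by rw [hN, zero_mul, add_zero]⟩
  have hXN : X ^ N ∈ RingHom.ker φ := RingHom.mem_ker.2 (by simp [φ, hN])
  obtain ⟨q, hq⟩ := (inferInstance : (RingHom.ker φ).IsPrincipal)
  have hdvd : q ∣ X ^ N := Ideal.mem_span_singleton.1 (hq.le hXN)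
  obtain ⟨d, -, hd⟩ := (dvd_prime_pow (prime_X) N).1 hdvd
  have hker : RingHom.ker φ = Ideal.span {(X : k[X]) ^ d} := hq.trans (Ideal.span_singleton_eq_span_singleton.2 hd)
  let e : B ≃ₐ[k] (k[X] ⧸ Ideal.span {(X : k[X]) ^ d}) :=
    (Ideal.quotientKerAlgEquivOfSurjective hsurj).symm.trans (Ideal.quotientEquivAlgOfEq k hker)
  have hfr : Module.finrank k B = d := by
    rw [e.toLinearEquiv.finrank_eq, finrank_quotient_span_eq_natDegree, natDegree_X_pow]
  rw [hfr]
  exact ⟨e⟩

open Polynomial in
/-- Over an algebraically closed field k, a finite local k-algebra B whose cotangent space m/m^2 has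
dimension at most one over the residue field is isomorphic, as a k-algebra, to k[t]/(t^n) with n =
dim_k B (curvilinear pointed algebras of degree n have a single isomorphism class). -/
theorem result (k B : Type u) [Field k] [IsAlgClosed k]
    [CommRing B] [IsLocalRing B] [Algebra k B] [Module.Finite k B]
    (hcurv : Module.finrank (IsLocalRing.ResidueField B) (IsLocalRing.CotangentSpace B) ≤ 1) :
    Nonempty (B ≃ₐ[k] (Polynomial k ⧸ Ideal.span {(X : Polynomial k) ^ Module.finrank k B})) := by
  haveI : IsArtinianRing B := IsArtinianRing.of_finite k B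
  refine curvilinear ?_
  have h := IsLocalRing.finrank_cotangentSpace_le_one_iff.1 hcurv
  exact ⟨_, (@Submodule.IsPrincipal.span_singleton_generator _ _ _ _ _ _ h).symm⟩

end Groth.Agent.S14091
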