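import Groth.Statements.S14092
import Groth.Agent.Clifford24.Lipman.Field
import Groth.Agent.CurveRR24.Degree

set_option autoImplicit false
universe u
open CategoryTheory CategoryTheory.Limits AlgebraicGeometry TopologicalSpace
open Curv2

open Groth.Agent Groth.Agent.Coherent Groth.Agent.EulerLib

namespace Groth.Agent.S14092

/-- Fix an algebraically closed field k and a genus-0 nodal curve Z over k (connected, reduced, proper,
one-dimensional, at-worst-nodal singularities, h^1(O_Z) = 0) and L an invertible O_Z-module whose
pullback to every irreducible component (integral closed subscheme of dimension one) has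
non-negative degree. Then L is generated by global sections and H^1(Z, L) = 0. (The published
statement also includes converse and weaker implications — a section vanishing identically on no
component forces non-negative degrees, and global generation is equivalent to non-negative degrees;
only the two implications from non-negative degrees are asserted here.) -/
theorem result (k : Type u) [Field k] [IsAlgClosed k]
    (Z : Scheme.{u}) [Z.Over (Spec (CommRingCat.of k))] [IsProper (Z ↘ (Spec (CommRingCat.of k)))] [IsReduced Z]
    [ConnectedSpace Z] (hdim : topologicalKrullDim Z = 1) (hnod : Curv2.AtWorstNodal k Z)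
    (hg : Curv2.genus k Z = 0) (L : Z.Modules) (hL : PicF.IsInvertible L)
    (hdeg : ∀ C : Z.IdealSheafData, IsIntegral C.subscheme → topologicalKrullDim (C.support : Set Z) = 1 →
      0 ≤ @Curv2.deg k _ C.subscheme ⟨C.subschemeι ≫ (Z ↘ Spec (CommRingCat.of k))⟩
        ((Scheme.Modules.pullback C.subschemeι).obj L) 1) :
    Curv2.IsGloballyGenerated L ∧ Subsingleton (Coh.HH Z L 1) := by
  haveI := EulerLib.isNoetherian_of_proper k (X := Z)
  haveI := CurveRR24.finite_HH_of_isCoh k (isCoh_structureModule Z) 1
  have h1 : Subsingleton (Coh.HH Z (Coh.structureModule Z) 1) := Module.finrank_zero_iff.1 hg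
  obtain ⟨hgl, hL1⟩ := Lipman24.gl_and_H1_of_nef k hdim.le h1 hL fun J hJ hJd =>
    hdeg J hJ (by
      rw [← hJd, ← J.range_subschemeι]
      exact (J.subschemeι.isClosedEmbedding.isEmbedding.toHomeomorph.isHomeomorph.topologicalKrullDim_eq _).symm)
  exact ⟨hgl.globallyGenerated hL, hL1⟩

end Groth.Agent.S14092
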