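import Groth.Statements.S14093
import Groth.Agent.ArSing15.Basis
import Groth.Agent.CAlgH3.DedekindTrace
import Mathlib
-- import your own Groth.Agent.* helpers here

set_option autoImplicit false
universe u
open ArSing

namespace Groth.Agent.S14093

/-- For an algebraically closed field k of characteristic prime to 2 and to r+1 and the involution σ of
A_r = k[[x,y]]/(y^2 - x^(r+1)) with σ(x) = x, σ(y) = -y: the invariant subalgebra is k[[x]] (the
image of t ↦ x from k[[t]]), the inclusion k[[x]] → A_r is faithfully flat (flat, and the maximal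
ideal of k[[t]] does not generate the unit ideal of A_r), and the fixed locus (the closed subscheme
cut out by all σ(a) - a) is a Cartier divisor of length r + 1, i.e. its ideal is generated by one
nonzerodivisor and the quotient has length r + 1. -/
theorem result (k : Type u) [Field k] [IsAlgClosed k] (r : ℕ)
    (h2 : (2 : k) ≠ 0) (hr : ((r + 1 : ℕ) : k) ≠ 0)
    (σ : ArSing.ring k r ≃ₐ[k] ArSing.ring k r) (hx : σ (ArSing.x k r) = ArSing.x k r)
    (hy : σ (ArSing.y k r) = -ArSing.y k r) :
    (∀ a : ArSing.ring k r, σ a = a ↔ a ∈ (ArSing.xMap k r).range) ∧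
    ((ArSing.xMap k r).toRingHom.Flat ∧
      Ideal.map (ArSing.xMap k r) (IsLocalRing.maximalIdeal (PowerSeries k)) ≠ ⊤) ∧
    (∃ g : ArSing.ring k r, g ∈ nonZeroDivisors (ArSing.ring k r) ∧
      Ideal.span (Set.range fun a : ArSing.ring k r => σ a - a) = Ideal.span {g}) ∧
    Module.length (ArSing.ring k r)
      (ArSing.ring k r ⧸ Ideal.span (Set.range fun a : ArSing.ring k r => σ a - a)) = r + 1 := by
  have hfix := Groth.Agent.ArSing15.fix_xMap r σ hx
  letI : Algebra (PowerSeries k) (ArSing.ring k r) := (ArSing.xMap k r).toRingHom.toAlgebra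
  let y := ArSing.y k r
  let ψ := ArSing.xMap k r
  have hsurj := Groth.Agent.ArSing15.pair_surjective (k := k) r
  have hinj := Groth.Agent.ArSing15.pair_injective (k := k) r
  have hu : IsUnit (2 : ArSing.ring k r) := by
    have := (isUnit_iff_ne_zero.2 h2).map (algebraMap k (ArSing.ring k r))
    rwa [map_ofNat] at this
  have hσ : ∀ a b : PowerSeries k, σ (Groth.Agent.ArSing15.pair k r (a, b)) = Groth.Agent.ArSing15.pair k r (a, -b) := fun a b => by
    simp only [Groth.Agent.ArSing15.pair, map_add, map_mul, map_neg, hfix, hy]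
    ring
  have hspan : Ideal.span (Set.range fun a : ArSing.ring k r => σ a - a) = Ideal.span {y} := by
    refine le_antisymm (Ideal.span_le.2 ?_) ((Ideal.span_singleton_le_iff_mem _).2 ?_)
    · rintro _ ⟨z, rfl⟩
      obtain ⟨⟨a, b⟩, rfl⟩ := hsurj z
      refine Ideal.mem_span_singleton'.2 ⟨-(2 * ψ b), ?_⟩
      show -(2 * ψ b) * y = σ (Groth.Agent.ArSing15.pair k r (a, b)) - Groth.Agent.ArSing15.pair k r (a, b)
      rw [hσ]
      simp only [Groth.Agent.ArSing15.pair, map_neg, y, ψ]
      ring
    · have h1 : σ y - y ∈ Ideal.span (Set.range fun a : ArSing.ring k r => σ a - a) := Ideal.subset_span ⟨y, rfl⟩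
      obtain ⟨w, hw⟩ := hu.exists_left_inv
      have h3 := Ideal.mul_mem_left _ (-w) h1
      rw [show σ y = -y from hy] at h3
      convert h3 using 1
      linear_combination (-y) * hw
  refine ⟨fun z => ⟨fun hz => ?_, ?_⟩, ⟨?_, ?_⟩, ⟨y, mem_nonZeroDivisors_iff_right.2 fun z hz => ?_, hspan⟩, ?_⟩
  · obtain ⟨⟨a, b⟩, rfl⟩ := hsurj z
    rw [hσ] at hz
    have hb : -b = b := congrArg Prod.snd (hinj hz)
    have hb2 : (2 : k) • b = 0 := by
      rw [two_smul]
      linear_combination -hb
    have hb0 : b = 0 := (smul_eq_zero.1 hb2).resolve_left h2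
    exact ⟨a, by simp [Groth.Agent.ArSing15.pair, hb0]⟩
  · rintro ⟨a, rfl⟩
    exact hfix a
  · let e : (PowerSeries k × PowerSeries k) ≃ₗ[PowerSeries k] ArSing.ring k r :=
      LinearEquiv.ofBijective
        { toFun := Groth.Agent.ArSing15.pair k r
          map_add' := fun u v => by simp only [Groth.Agent.ArSing15.pair, Prod.fst_add, Prod.snd_add, map_add]; ring
          map_smul' := fun c u => by
            show _ = ψ c * Groth.Agent.ArSing15.pair k r u
            simp only [Groth.Agent.ArSing15.pair, Prod.smul_fst, Prod.smul_snd, smul_eq_mul, map_mul, ψ]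
            ring } ⟨hinj, hsurj⟩
    have : Module.Free (PowerSeries k) (ArSing.ring k r) := Module.Free.of_equiv e
    show Module.Flat (PowerSeries k) (ArSing.ring k r)
    infer_instance
  · intro h
    rw [PowerSeries.maximalIdeal_eq_span_X, Ideal.map_span, Set.image_singleton, Ideal.span_singleton_eq_top] at h
    obtain ⟨z, hz⟩ := isUnit_iff_exists_inv.1 h
    obtain ⟨⟨a, b⟩, rfl⟩ := hsurj z
    have h1 : Groth.Agent.ArSing15.pair k r (PowerSeries.X * a, PowerSeries.X * b) = Groth.Agent.ArSing15.pair k r (1, 0) := by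
      simp only [Groth.Agent.ArSing15.pair, map_mul, map_one, map_zero, mul_zero, add_zero] at hz ⊢
      linear_combination hz
    exact PowerSeries.X_prime.not_unit (isUnit_iff_exists_inv.2 ⟨a, congrArg Prod.fst (hinj h1)⟩)
  · obtain ⟨⟨a, b⟩, rfl⟩ := hsurj z
    rw [mul_comm, Groth.Agent.ArSing15.y_mul_pair] at hz
    have h0 := hinj (hz.trans (show (0 : ArSing.ring k r) = Groth.Agent.ArSing15.pair k r (0, 0) by simp [Groth.Agent.ArSing15.pair]))
    have hb : b = 0 := (mul_eq_zero.1 (congrArg Prod.fst h0)).resolve_left (pow_ne_zero _ PowerSeries.X_ne_zero)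
    have ha : a = 0 := congrArg Prod.snd h0
    simp [Groth.Agent.ArSing15.pair, ha, hb]
  · rw [hspan]
    let J : Ideal (ArSing.ring k r) := Ideal.span {y}
    let π : PowerSeries k →ₗ[PowerSeries k] ArSing.ring k r ⧸ J :=
      (Algebra.linearMap (PowerSeries k) (ArSing.ring k r ⧸ J))
    have hπ : Function.Surjective π := fun q => by
      obtain ⟨z, rfl⟩ := Ideal.Quotient.mk_surjective q
      obtain ⟨⟨a, b⟩, rfl⟩ := hsurj z
      refine ⟨a, ?_⟩
      show Ideal.Quotient.mk J (ψ a) = _
      rw [Ideal.Quotient.eq]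
      refine Ideal.mem_span_singleton'.2 ⟨-ψ b, ?_⟩
      simp only [Groth.Agent.ArSing15.pair, y, ψ]
      ring
    have hker : LinearMap.ker π = Ideal.span {PowerSeries.X} ^ (r + 1) := by
      ext a
      rw [LinearMap.mem_ker, Ideal.span_singleton_pow, Ideal.mem_span_singleton]
      show Ideal.Quotient.mk J (ψ a) = 0 ↔ _
      rw [Ideal.Quotient.eq_zero_iff_mem, Ideal.mem_span_singleton]
      constructor
      · rintro ⟨z, hz⟩
        obtain ⟨⟨c, d⟩, rfl⟩ := hsurj z
        rw [Groth.Agent.ArSing15.y_mul_pair] at hz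
        have h0 := hinj ((show Groth.Agent.ArSing15.pair k r (a, 0) = ψ a by simp [Groth.Agent.ArSing15.pair, ψ]).trans hz)
        exact ⟨d, congrArg Prod.fst h0⟩
      · rintro ⟨c, rfl⟩
        exact ⟨y * ψ c, by simp only [ψ, y, map_mul, ← Groth.Agent.ArSing15.y_sq]; ring⟩
    have e := ((Submodule.quotEquivOfEq _ _ hker.symm).trans (π.quotKerEquivOfSurjective hπ)).length_eq
    have : (Ideal.span {(PowerSeries.X : PowerSeries k)}).IsPrime :=
      (Ideal.span_singleton_prime PowerSeries.X_ne_zero).2 PowerSeries.X_prime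
    rw [CAlgH3.DedekindTrace.length_quotient_pow (by simp [PowerSeries.X_ne_zero])] at e
    rw [Module.length_eq_of_surjective (S := ArSing.ring k r) (R := ArSing.ring k r ⧸ J) Ideal.Quotient.mk_surjective,
      ← Module.length_eq_of_surjective (S := PowerSeries k) (R := ArSing.ring k r ⧸ J) hπ, ← e]
    norm_num

end Groth.Agent.S14093
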