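import Groth.Statements.S14094
import Groth.Agent.CommAlg4.ASFold
import Mathlib
-- import your own Groth.Agent.* helpers here

set_option autoImplicit false
universe u
open ArSing

namespace Groth.Agent.S14094

/-- K algebraically closed of characteristic prime to 2 and to r+1, r = 2m - 1 with m ≥ 2, σ the
involution x ↦ -x, y ↦ y of A_r = k[[x,y]]/(y^2 - x^(r+1)), and φ : A_(m-1) → A_r the k-algebra map
x ↦ x^2, y ↦ y. Then the invariant subalgebra of σ is the image of φ (so A_r^σ ≅ A_(m-1)), φ is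
faithfully flat (flat, and the maximal ideal of A_(m-1) does not generate the unit ideal), and the
fixed locus of σ is a Cartier divisor of length 2: its ideal, generated by the elements σ(a) - a, is
generated by one nonzerodivisor and has quotient of length 2. -/
theorem result (k : Type u) [Field k] [IsAlgClosed k] (m r : ℕ)
    (hm : 2 ≤ m) (hr : r = 2 * m - 1) (h2 : (2 : k) ≠ 0) (hr1 : ((r + 1 : ℕ) : k) ≠ 0)
    (σ : ArSing.ring k r ≃ₐ[k] ArSing.ring k r) (hx : σ (ArSing.x k r) = -ArSing.x k r)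
    (hy : σ (ArSing.y k r) = ArSing.y k r)
    (φ : ArSing.ring k (m - 1) →ₐ[k] ArSing.ring k r) (hφx : φ (ArSing.x k (m - 1)) = ArSing.x k r ^ 2)
    (hφy : φ (ArSing.y k (m - 1)) = ArSing.y k r) :
    (∀ a : ArSing.ring k r, σ a = a ↔ a ∈ φ.range) ∧
    (φ.toRingHom.Flat ∧ ∀ I : Ideal (ArSing.ring k (m - 1)), I.IsMaximal → Ideal.map φ I ≠ ⊤) ∧
    (∃ g : ArSing.ring k r, g ∈ nonZeroDivisors (ArSing.ring k r) ∧ Ideal.span (Set.range fun a : ArSing.ring k r => σ a - a) = Ideal.span {g}) ∧
    Module.length (ArSing.ring k r) (ArSing.ring k r ⧸ Ideal.span (Set.range fun a : ArSing.ring k r => σ a - a)) = 2 := by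
  classical
  open Groth.Agent.CommAlg4.ASFold Groth.Agent.ArSing15 in
  exact (by
  have hσx : ∀ a, σ (ArSing.xMap k r a) = ArSing.xMap k r (neg k a) :=
    map_xMap σ.toAlgHom (neg k) (by
      show σ (ArSing.x k r) = _
      rw [hx, neg_X, map_neg, xMap_X])
  have hσ : ∀ a b, σ (pair k r (a, b)) = pair k r (neg k a, neg k b) := fun a b => by
    simp only [pair, map_add, map_mul, hσx, hy]
  have hφc : ∀ c, φ (ArSing.xMap k (m - 1) c) = ArSing.xMap k r (sq k c) :=
    map_xMap φ (sq k) (by rw [hφx, CommAlg4.ASFold.sq, PowerSeries.expand_X, map_pow, xMap_X])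
  have hφ : ∀ c d, φ (pair k (m - 1) (c, d)) = pair k r (sq k c, sq k d) := fun c d => by
    simp only [pair, map_add, map_mul, hφc, hφy]
  have hsub : ∀ p q : PowerSeries k × PowerSeries k, pair k r p - pair k r q = pair k r (p - q) := fun p q => by
    rw [sub_eq_iff_eq_add, pair_add, sub_add_cancel]
  obtain ⟨w, hw⟩ := ((isUnit_iff_ne_zero.2 h2).map (algebraMap k (ArSing.ring k r))).exists_left_inv
  rw [map_ofNat] at hw
  let I := Ideal.span {ArSing.x k r}
  let J := Ideal.span {ArSing.x k r, ArSing.y k r}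
  have hspan : Ideal.span (Set.range fun a : ArSing.ring k r => σ a - a) = I := by
    refine le_antisymm (Ideal.span_le.2 ?_) (Ideal.span_le.2 ?_)
    · rintro _ ⟨z, rfl⟩
      obtain ⟨⟨a, b⟩, rfl⟩ := pair_surjective (k := k) r z
      show σ (pair k r (a, b)) - pair k r (a, b) ∈ _
      rw [hσ, hsub, SetLike.mem_coe, mem_span_x_iff]
      exact ⟨X_dvd_neg_sub a, X_dvd_neg_sub b⟩
    · rintro z rfl
      have h1 : σ (ArSing.x k r) - ArSing.x k r ∈ Ideal.span (Set.range fun a : ArSing.ring k r => σ a - a) :=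
        Ideal.subset_span ⟨_, rfl⟩
      rw [hx] at h1
      have h3 := Ideal.mul_mem_left _ (-w) h1
      show _ ∈ Ideal.span _
      convert h3 using 1
      linear_combination (-ArSing.x k r) * hw
  have hrange : ∀ z : ArSing.ring k r, σ z = z ↔ z ∈ φ.range := by
    intro z
    obtain ⟨⟨a, b⟩, rfl⟩ := pair_surjective (k := k) r z
    rw [hσ]
    constructor
    · intro h
      obtain ⟨c, hc⟩ := (neg_eq_self_iff h2 a).1 (congrArg Prod.fst (pair_injective r h))
      obtain ⟨d, hd⟩ := (neg_eq_self_iff h2 b).1 (congrArg Prod.snd (pair_injective r h))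
      exact ⟨pair k (m - 1) (c, d), by rw [hc, hd]; exact hφ c d⟩
    · rintro ⟨u, hu⟩
      obtain ⟨⟨c, d⟩, rfl⟩ := pair_surjective (k := k) (m - 1) u
      change φ (pair k (m - 1) (c, d)) = _ at hu
      rw [hφ] at hu
      obtain ⟨h1, h2'⟩ := Prod.ext_iff.1 (pair_injective r hu)
      obtain rfl : sq k c = a := h1
      obtain rfl : _ = b := h2'
      simp only [(neg_eq_self_iff h2 _).2 ⟨c, rfl⟩, (neg_eq_self_iff h2 _).2 ⟨d, rfl⟩]
  letI : Algebra (ArSing.ring k (m - 1)) (ArSing.ring k r) := φ.toRingHom.toAlgebra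
  let f : (ArSing.ring k (m - 1) × ArSing.ring k (m - 1)) →ₗ[ArSing.ring k (m - 1)] ArSing.ring k r :=
    { toFun := fun uv => φ uv.1 + ArSing.x k r * φ uv.2
      map_add' := fun p q => by simp only [Prod.fst_add, Prod.snd_add, map_add]; ring
      map_smul' := fun c p => by
        show _ = φ c * _
        simp only [Prod.smul_fst, Prod.smul_snd, smul_eq_mul, map_mul]
        ring }
  have hf : ∀ c d c' d', f (pair k (m - 1) (c, d), pair k (m - 1) (c', d')) =
      pair k r (sq k c + PowerSeries.X * sq k c', sq k d + PowerSeries.X * sq k d') := fun c d c' d' => by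
    show φ _ + ArSing.x k r * φ _ = _
    rw [hφ, hφ, x_mul_pair, pair_add]
    rfl
  have hbij : Function.Bijective f := by
    constructor
    · rintro ⟨u, v⟩ ⟨u', v'⟩ h
      obtain ⟨⟨c, d⟩, rfl⟩ := pair_surjective (k := k) (m - 1) u
      obtain ⟨⟨c', d'⟩, rfl⟩ := pair_surjective (k := k) (m - 1) v
      obtain ⟨⟨e, g⟩, rfl⟩ := pair_surjective (k := k) (m - 1) u'
      obtain ⟨⟨e', g'⟩, rfl⟩ := pair_surjective (k := k) (m - 1) v'
      rw [hf, hf] at h
      obtain ⟨h1, h2'⟩ := Prod.ext_iff.1 (pair_injective r h)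
      obtain ⟨rfl, rfl⟩ := split_unique h1
      obtain ⟨rfl, rfl⟩ := split_unique h2'
      rfl
    · intro z
      obtain ⟨⟨a, b⟩, rfl⟩ := pair_surjective (k := k) r z
      obtain ⟨c, c', rfl⟩ := CommAlg4.ASFold.split a
      obtain ⟨d, d', rfl⟩ := CommAlg4.ASFold.split b
      exact ⟨_, hf c d c' d'⟩
  haveI : Module.Free (ArSing.ring k (m - 1)) (ArSing.ring k r) := Module.Free.of_equiv (LinearEquiv.ofBijective f hbij)
  haveI : Nontrivial (ArSing.ring k r) := by
    have := (isMaximal_span_xy (k := k) r).ne_top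
    exact ⟨0, 1, fun h => this ((Ideal.eq_top_iff_one _).2 (h ▸ Ideal.zero_mem _))⟩
  have hyx : ∀ a b, ArSing.y k r * pair k r (a, b) ∈ I ↔ PowerSeries.X ∣ a := fun a b => by
    rw [y_mul_pair, mem_span_x_iff]
    exact ⟨fun h => h.2, fun h => ⟨(dvd_pow_self _ (Nat.succ_ne_zero r)).mul_right b, h⟩⟩
  refine ⟨hrange, ⟨?_, ?_⟩, ⟨ArSing.x k r, ?_, hspan⟩, ?_⟩
  · exact inferInstanceAs (Module.Flat (ArSing.ring k (m - 1)) (ArSing.ring k r))
  · intro K hK h
    exact hK.ne_top (by
      rw [← Ideal.comap_map_eq_self_of_faithfullyFlat (B := ArSing.ring k r) K]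
      show ((K.map φ).comap _) = ⊤
      rw [h, Ideal.comap_top])
  · refine mem_nonZeroDivisors_iff_right.2 fun z hz => ?_
    obtain ⟨⟨a, b⟩, rfl⟩ := pair_surjective (k := k) r z
    rw [mul_comm, x_mul_pair] at hz
    have h := pair_injective r (hz.trans (show (0 : ArSing.ring k r) = pair k r (0, 0) by simp [pair]))
    obtain rfl : a = 0 := (mul_eq_zero.1 (congrArg Prod.fst h)).resolve_left PowerSeries.X_ne_zero
    obtain rfl : b = 0 := (mul_eq_zero.1 (congrArg Prod.snd h)).resolve_left PowerSeries.X_ne_zero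
    simp [pair]
  · rw [hspan]
    haveI hmax : J.IsMaximal := isMaximal_span_xy (k := k) r
    haveI : IsSimpleModule (ArSing.ring k r) (ArSing.ring k r ⧸ J) :=
      isSimpleModule_iff_isCoatom.2 (Ideal.isMaximal_def.1 inferInstance)
    have hJI : J ≤ Submodule.comap (LinearMap.mulLeft (ArSing.ring k r) (ArSing.y k r)) I := fun z hz => by
      obtain ⟨⟨a, b⟩, rfl⟩ := pair_surjective (k := k) r z
      exact (hyx a b).2 ((mem_span_xy_iff r (a, b)).1 hz)
    let μy := Submodule.mapQ J I (LinearMap.mulLeft (ArSing.ring k r) (ArSing.y k r)) hJI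
    have hIJ : I ≤ J := Ideal.span_mono (Set.singleton_subset_iff.2 (Set.mem_insert _ _))
    let g := Submodule.factor hIJ
    rw [Module.length_eq_add_of_exact μy g ?_ (Submodule.factor_surjective hIJ) ?_, Module.length_eq_one]
    · rfl
    · rw [← LinearMap.ker_eq_bot, Submodule.eq_bot_iff]
      intro q hq
      obtain ⟨z, rfl⟩ := Submodule.Quotient.mk_surjective J q
      obtain ⟨⟨a, b⟩, rfl⟩ := pair_surjective (k := k) r z
      rw [LinearMap.mem_ker, Submodule.mapQ_apply, Submodule.Quotient.mk_eq_zero] at hq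
      exact (Submodule.Quotient.mk_eq_zero J).2 ((mem_span_xy_iff r (a, b)).2 ((hyx a b).1 hq))
    · intro q
      obtain ⟨z, rfl⟩ := Submodule.Quotient.mk_surjective I q
      constructor
      · intro hq
        change Submodule.factor hIJ (Submodule.Quotient.mk z) = 0 at hq
        change Submodule.Quotient.mk z = (0 : ArSing.ring k r ⧸ J) at hq
        rw [Submodule.Quotient.mk_eq_zero] at hq
        obtain ⟨⟨a, b⟩, rfl⟩ := pair_surjective (k := k) r z
        refine ⟨Submodule.Quotient.mk (ArSing.xMap k r b), ?_⟩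
        show Submodule.Quotient.mk (ArSing.y k r * ArSing.xMap k r b) = _
        rw [Submodule.Quotient.eq, show ArSing.y k r * ArSing.xMap k r b = pair k r (0, b) by simp [pair], hsub,
          mem_span_x_iff]
        refine ⟨?_, by simp⟩
        simpa using (mem_span_xy_iff r (a, b)).1 hq
      · rintro ⟨p, hp⟩
        obtain ⟨s, rfl⟩ := Submodule.Quotient.mk_surjective J p
        rw [← hp]
        show (Submodule.Quotient.mk (ArSing.y k r * s) : ArSing.ring k r ⧸ J) = 0
        rw [Submodule.Quotient.mk_eq_zero]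
        exact J.mul_mem_right _ (Ideal.subset_span (Set.mem_insert_of_mem _ rfl)))

end Groth.Agent.S14094
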