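import Groth.Statements.S14095
import Groth.Agent.ArSing15.Parity
import Mathlib
-- import your own Groth.Agent.* helpers here

set_option autoImplicit false
universe u
open ArSing
open Groth.Agent.ArSing15

namespace Groth.Agent.S14095

/-- K algebraically closed of characteristic prime to 2 and to r+1, r = 2m - 1 with m ≥ 1, σ the
involution x ↦ -x, y ↦ -y of A_r = k[[x,y]]/(y^2 - x^(r+1)), and φ : A_m → A_r the k-algebra map x ↦
x^2, y ↦ xy. Then the invariant subalgebra of σ is the image of φ and φ is injective (so A_r^σ ≅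
A_m), φ is not flat, and the fixed locus of σ is the reduced closed point and is not a Cartier
divisor: the ideal generated by the elements σ(a) - a has quotient of length 1 and is not generated
by one nonzerodivisor. -/
theorem result (k : Type u) [Field k] [IsAlgClosed k] (m r : ℕ)
    (hm : 1 ≤ m) (hr : r = 2 * m - 1) (h2 : (2 : k) ≠ 0) (hr1 : ((r + 1 : ℕ) : k) ≠ 0)
    (σ : ArSing.ring k r ≃ₐ[k] ArSing.ring k r) (hx : σ (ArSing.x k r) = -ArSing.x k r)
    (hy : σ (ArSing.y k r) = -ArSing.y k r)
    (φ : ArSing.ring k m →ₐ[k] ArSing.ring k r) (hφx : φ (ArSing.x k m) = ArSing.x k r ^ 2)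
    (hφy : φ (ArSing.y k m) = ArSing.x k r * ArSing.y k r) :
    (∀ a : ArSing.ring k r, σ a = a ↔ a ∈ φ.range) ∧ Function.Injective φ ∧
    ¬ φ.toRingHom.Flat ∧
    Module.length (ArSing.ring k r) (ArSing.ring k r ⧸ Ideal.span (Set.range fun a : ArSing.ring k r => σ a - a)) = 1 ∧
    ¬ (∃ g : ArSing.ring k r, g ∈ nonZeroDivisors (ArSing.ring k r) ∧ Ideal.span (Set.range fun a : ArSing.ring k r => σ a - a) = Ideal.span {g}) := by
  have hr' : 1 ≤ r := by omega
  let z := ArSing.x k r
  let y := ArSing.y k r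
  have hσN : ∀ a, σ (ArSing.xMap k r a) = ArSing.xMap k r (Nm a) :=
    map_xMap σ.toAlgHom Nm (by rw [Nm_X, map_neg, xMap_X]; exact hx)
  have hσ : ∀ a b, σ (pair k r (a, b)) = pair k r (Nm a, -Nm b) := fun a b => by
    simp only [pair, map_add, map_mul, map_neg, hσN, hy]
    ring
  have hφE : ∀ a, φ (ArSing.xMap k m a) = ArSing.xMap k r (Ex a) :=
    map_xMap φ Ex (by rw [Ex_X, map_pow, xMap_X]; exact hφx)
  have hφ : ∀ a b, φ (pair k m (a, b)) = pair k r (Ex a, PowerSeries.X * Ex b) := fun a b => by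
    simp only [pair, map_add, map_mul, hφE, hφy, xMap_X]
    ring
  have hu := isUnit_two h2 r
  have hspan : Ideal.span (Set.range fun a : ArSing.ring k r => σ a - a) = mI k r := by
    refine le_antisymm (Ideal.span_le.2 ?_) (Ideal.span_le.2 ?_)
    · rintro _ ⟨w, rfl⟩
      obtain ⟨⟨p, q⟩, rfl⟩ := pair_surjective r w
      show σ _ - _ ∈ mI k r
      rw [hσ, show pair k r (Nm p, -Nm q) - pair k r (p, q) = pair k r (Nm p - p, -Nm q - q) by
        simp only [pair, map_sub, map_neg]; ring, pair_mem_mI_iff]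
      rw [map_sub, ← PowerSeries.coeff_zero_eq_constantCoeff_apply, ← PowerSeries.coeff_zero_eq_constantCoeff_apply,
        coeff_Nm, pow_zero, one_mul, sub_self]
    · obtain ⟨w, hw⟩ := hu.exists_left_inv
      rintro v (rfl | rfl)
      · have h3 := Ideal.mul_mem_left _ (-w)
          (Ideal.subset_span ⟨z, rfl⟩ : σ z - z ∈ Ideal.span (Set.range fun a : ArSing.ring k r => σ a - a))
        rw [show σ z = -z from hx] at h3
        show z ∈ Ideal.span _
        convert h3 using 1
        linear_combination (-z) * hw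
      · have h3 := Ideal.mul_mem_left _ (-w)
          (Ideal.subset_span ⟨y, rfl⟩ : σ y - y ∈ Ideal.span (Set.range fun a : ArSing.ring k r => σ a - a))
        rw [show σ y = -y from hy] at h3
        show y ∈ Ideal.span _
        convert h3 using 1
        linear_combination (-y) * hw
  refine ⟨fun w => ⟨fun hw => ?_, ?_⟩, ?_, ?_, ?_, ?_⟩
  · obtain ⟨⟨p, q⟩, rfl⟩ := pair_surjective r w
    rw [hσ] at hw
    have h0 := pair_injective r hw
    obtain ⟨a, rfl⟩ := even_of_Nm_eq h2 (congrArg Prod.fst h0)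
    obtain ⟨b, rfl⟩ := odd_of_Nm_eq_neg h2 (congrArg Prod.snd h0)
    exact ⟨pair k m (a, b), hφ a b⟩
  · rintro ⟨u, rfl⟩
    obtain ⟨⟨a, b⟩, rfl⟩ := pair_surjective _ u
    show σ (φ _) = φ _
    rw [hφ, hσ, map_mul, Nm_Ex, Nm_Ex, Nm_X, neg_mul, neg_neg]
  · intro u v h
    obtain ⟨⟨a, b⟩, rfl⟩ := pair_surjective _ u
    obtain ⟨⟨a', b'⟩, rfl⟩ := pair_surjective _ v
    rw [hφ, hφ] at h
    have h0 := pair_injective r h
    have ha := parity_inj (k := k) (e := a) (e' := a') (o := 0) (o' := 0) (by simpa using congrArg Prod.fst h0)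
    have hb := parity_inj (k := k) (e := 0) (e' := 0) (o := b) (o' := b') (by simpa using congrArg Prod.snd h0)
    rw [ha.1, hb.2]
  · intro hflat
    letI : Algebra (ArSing.ring k m) (ArSing.ring k r) := φ.toRingHom.toAlgebra
    have : Module.Flat (ArSing.ring k m) (ArSing.ring k r) := hflat
    have hrel : ∑ i : Fin 2, (![ArSing.y k m, -ArSing.x k m] i) • (![z, y] i) = 0 := by
      simp only [Fin.sum_univ_two, Matrix.cons_val_zero, Matrix.cons_val_one, Algebra.smul_def,
        RingHom.algebraMap_toAlgebra, map_neg]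
      show φ (ArSing.y k m) * z + -φ (ArSing.x k m) * y = 0
      rw [hφy, hφx]
      ring
    obtain ⟨κ, a, v, hv, ha⟩ : Module.IsTrivialRelation ![ArSing.y k m, -ArSing.x k m] ![z, y] :=
      Module.Flat.isTrivialRelation_of_sum_smul_eq_zero (R := ArSing.ring k m) (M := ArSing.ring k r) hrel
    have hmem : ∀ j, φ (a 0 j) ∈ mI k r * mI k r := fun j => by
      have h1 : ArSing.y k m * a 0 j = ArSing.x k m * a 1 j := by
        have := ha j
        simp only [Fin.sum_univ_two, Matrix.cons_val_zero, Matrix.cons_val_one] at this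
        linear_combination this
      have h2 : a 0 j ∈ mI k m := by
        by_contra hc
        obtain ⟨w, hw⟩ := (isUnit_of_not_mem m hc).exists_right_inv
        have h3 : ArSing.y k m = ArSing.x k m * (a 1 j * w) := by
          linear_combination w * h1 - ArSing.y k m * hw
        obtain ⟨⟨c, d⟩, hcd⟩ := pair_surjective m (a 1 j * w)
        rw [← hcd, x_mul_pair] at h3
        have h4 : pair k m (0, 1) = ArSing.y k m := by simp [pair]
        have h5 := congrArg (fun p => PowerSeries.constantCoeff p.2) (pair_injective m (h4.trans h3))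
        simp at h5
      obtain ⟨u, w, huw⟩ := Ideal.mem_span_pair.1 h2
      rw [← huw, map_add, map_mul, map_mul, hφx, hφy, pow_two]
      refine add_mem (Ideal.mul_mem_left _ _ (Ideal.mul_mem_mul ?_ ?_)) (Ideal.mul_mem_left _ _ (Ideal.mul_mem_mul ?_ ?_)) <;>
        exact Ideal.subset_span (by simp)
    refine x_not_mem_mul r hr' (z := z) ?_ rfl
    have h6 : z = ∑ j, φ (a 0 j) * v j := (hv 0).trans (Finset.sum_congr rfl fun j _ => Algebra.smul_def _ _)
    rw [h6]
    exact Ideal.sum_mem _ fun j _ => Ideal.mul_mem_right _ _ (hmem j)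
  · rw [hspan, length_quot_mI]
  · rintro ⟨g, -, hg⟩
    rw [hspan] at hg
    have hgm : g ∈ mI k r := hg ▸ Ideal.mem_span_singleton_self g
    have hzm : z ∈ mI k r := Ideal.subset_span (Set.mem_insert _ _)
    have hym : y ∈ mI k r := Ideal.subset_span (Set.mem_insert_of_mem _ rfl)
    rw [hg] at hzm hym
    obtain ⟨u, hu'⟩ := Ideal.mem_span_singleton'.1 hzm
    by_cases hum : u ∈ mI k r
    · exact x_not_mem_mul r hr' (z := u * g) (Ideal.mul_mem_mul hum hgm) hu'
    · obtain ⟨w, hw⟩ := (isUnit_of_not_mem r hum).exists_right_inv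
      obtain ⟨v, hv⟩ := Ideal.mem_span_singleton'.1 hym
      have h3 : y = z * (v * w) := by linear_combination -hv + v * w * hu' - v * g * hw
      obtain ⟨⟨c, d⟩, hcd⟩ := pair_surjective r (v * w)
      rw [← hcd, x_mul_pair] at h3
      have h4 : pair k r (0, 1) = y := by simp [pair, y]
      have h5 := congrArg (fun p => PowerSeries.constantCoeff p.2) (pair_injective r (h4.trans h3))
      simp at h5

end Groth.Agent.S14095
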