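import Groth.Statements.S14096
import Groth.Agent.CommAlg4.TwoBranchSeries
-- import your own Groth.Agent.* helpers here

set_option autoImplicit false
universe u
open ArSing

namespace Groth.Agent.S14096

lemma mem_span_of_flat_of_mul_eq_zero {A B : Type*} [CommRing A] [CommRing B] (f : A →+* B) (hf : f.Flat)
    (a : A) (b : B) (h : f a * b = 0) : b ∈ Ideal.span (f '' {c | a * c = 0}) := by
  algebraize [f]
  have hrel : ∑ i : Fin 1, (fun _ => a) i • (fun _ => b) i = (0 : B) := by
    rw [Fin.sum_univ_one, Algebra.smul_def]; exact h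
  obtain ⟨m, c, y, h1, h3⟩ := Module.Flat.iff_forall_isTrivialRelation.1 ‹Module.Flat A B› hrel
  have h1' : b = ∑ j, c 0 j • y j := h1 0
  rw [h1']
  refine Submodule.sum_mem _ fun j _ => ?_
  rw [Algebra.smul_def]
  refine Ideal.mul_mem_right _ _ (Ideal.subset_span ⟨c 0 j, ?_, rfl⟩)
  simpa [Fin.sum_univ_one] using h3 j

/-- K algebraically closed of characteristic ≠ 2, σ the involution of the node algebra A_1 =
k[[x,y]]/(y^2 - x^2) exchanging x and y, and φ : A_1 → A_1 the k-algebra map with φ(x + y) = x + y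
and φ(y - x) = (y - x)^2 (in the branch coordinates u = x + y, v = y - x with uv = 0: u ↦ u, v ↦
v^2). Then the invariant subalgebra of σ is the image of φ and φ is injective (so A_1^σ ≅ A_1), and
the fixed locus of σ is the branch v = 0: the ideal generated by the elements σ(a) - a is the ideal
(y - x), a minimal prime ideal generated by a zero-divisor (so not a Cartier divisor). Moreover φ is
not flat. (The published statement asserts that this extension is faithfully flat; it is not: as a
module over the invariant subalgebra B = k[[u,w]]/(uw), w = v^2, A_1 is B ⊕ (B/uB)·v, and B/uB is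
not flat over B — equivalently the fibre length jumps from 1 on the branch w = 0 to 2 at the closed
point.) -/
theorem result (k : Type u) [Field k] [IsAlgClosed k]
    (h2 : (2 : k) ≠ 0)
    (σ : ArSing.ring k 1 ≃ₐ[k] ArSing.ring k 1) (hx : σ (ArSing.x k 1) = ArSing.y k 1)
    (hy : σ (ArSing.y k 1) = ArSing.x k 1)
    (φ : ArSing.ring k 1 →ₐ[k] ArSing.ring k 1) (hφu : φ (ArSing.x k 1 + ArSing.y k 1) = ArSing.x k 1 + ArSing.y k 1)
    (hφv : φ (ArSing.y k 1 - ArSing.x k 1) = (ArSing.y k 1 - ArSing.x k 1) ^ 2) :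
    (∀ a : ArSing.ring k 1, σ a = a ↔ a ∈ φ.range) ∧ Function.Injective φ ∧
    Ideal.span (Set.range fun a : ArSing.ring k 1 => σ a - a) = Ideal.span {ArSing.y k 1 - ArSing.x k 1} ∧
    (ArSing.y k 1 - ArSing.x k 1) ∉ nonZeroDivisors (ArSing.ring k 1) ∧
    Ideal.span {ArSing.y k 1 - ArSing.x k 1} ∈ minimalPrimes (ArSing.ring k 1) ∧
    ¬ φ.toRingHom.Flat := by
  open CommAlg4.TwoBranch in
  classical
  set R := ArSing.ring k 1
  set I : Ideal (MvPowerSeries (Fin 2) k) := Ideal.span {ArSing.eqn k 1} with hI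
  set u : R := ArSing.x k 1 + ArSing.y k 1 with hu
  set v : R := ArSing.y k 1 - ArSing.x k 1 with hv
  have hI0 : ∀ s : k, s * s = 1 → ∀ f ∈ I, line s f = 0 := by
    intro s hs f hf
    obtain ⟨g, rfl⟩ := Ideal.mem_span_singleton.1 hf
    rw [map_mul, ArSing.eqn, map_sub, map_pow, map_pow, line_X0, line_X1,
      show ((PowerSeries.C s * PowerSeries.X) ^ 2 - PowerSeries.X ^ (1 + 1) : PowerSeries k) =
        (PowerSeries.C (s * s) - 1) * PowerSeries.X ^ 2 by rw [map_mul]; ring, hs, map_one, sub_self,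
      zero_mul, zero_mul]
  let p : R →ₐ[k] PowerSeries k := Ideal.Quotient.liftₐ I (line (1 : k)) (fun f hf => hI0 1 (one_mul 1) f hf)
  let q : R →ₐ[k] PowerSeries k := Ideal.Quotient.liftₐ I (line (-1 : k)) (fun f hf => hI0 (-1) (by ring) f hf)
  have hp : ∀ f, p (Ideal.Quotient.mk I f) = line 1 f := fun f => rfl
  have hq : ∀ f, q (Ideal.Quotient.mk I f) = line (-1) f := fun f => rfl
  have px : p (ArSing.x k 1) = PowerSeries.X := line_X0 _
  have py : p (ArSing.y k 1) = PowerSeries.X := by rw [ArSing.y, hp, line_X1, map_one, one_mul]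
  have qx : q (ArSing.x k 1) = PowerSeries.X := line_X0 _
  have qy : q (ArSing.y k 1) = -PowerSeries.X := by rw [ArSing.y, hq, line_X1, map_neg, map_one, neg_one_mul]
  have pv : p v = 0 := by rw [hv, map_sub, px, py, sub_self]
  have qu : q u = 0 := by rw [hu, map_add, qx, qy, add_neg_cancel]
  have two : (2 : PowerSeries k) ≠ 0 := fun h => h2 (by simpa [map_ofNat] using congrArg PowerSeries.constantCoeff h)
  have hker : ∀ a, p a = 0 → ∃ h, a = v * h := by
    intro a ha
    obtain ⟨f, rfl⟩ := Ideal.Quotient.mk_surjective a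
    rw [hp] at ha
    obtain ⟨h, rfl⟩ := dvd_of_line_eq_zero (one_mul 1) ha
    exact ⟨Ideal.Quotient.mk I h, by rw [map_one, one_mul, map_mul, map_sub]⟩
  have hkerq : ∀ a, q a = 0 → ∃ h, a = u * h := by
    intro a ha
    obtain ⟨f, rfl⟩ := Ideal.Quotient.mk_surjective a
    rw [hq] at ha
    obtain ⟨h, rfl⟩ := dvd_of_line_eq_zero (by ring) ha
    exact ⟨Ideal.Quotient.mk I h, by
      rw [map_neg, map_one, neg_one_mul, sub_neg_eq_add, map_mul, map_add, add_comm]⟩
  have huv : u * v = 0 := by
    have : Ideal.Quotient.mk I (ArSing.eqn k 1) = 0 :=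
      Ideal.Quotient.eq_zero_iff_mem.2 (Ideal.mem_span_singleton_self _)
    simp only [ArSing.eqn, map_sub, map_pow] at this
    rw [hu, hv, ← this, ArSing.x, ArSing.y]; ring
  have hext : ∀ a, p a = 0 → q a = 0 → a = 0 := by
    intro a ha ha'
    obtain ⟨h, rfl⟩ := hker a ha
    rw [map_mul] at ha'
    rcases mul_eq_zero.1 ha' with h' | h'
    · exfalso
      rw [hv, map_sub, qy, qx, show (-PowerSeries.X - PowerSeries.X : PowerSeries k) = -(2 * PowerSeries.X) by ring,
        neg_eq_zero] at h'
      exact (mul_ne_zero two PowerSeries.X_ne_zero) h'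
    · obtain ⟨h'', rfl⟩ := hkerq h h'
      rw [← mul_assoc, mul_comm v u, huv, zero_mul]
  have homExt : ∀ {ψ₁ ψ₂ : R →ₐ[k] PowerSeries k}, PowerSeries.constantCoeff (ψ₁ (ArSing.x k 1)) = 0 →
      PowerSeries.constantCoeff (ψ₁ (ArSing.y k 1)) = 0 → ψ₁ (ArSing.x k 1) = ψ₂ (ArSing.x k 1) →
      ψ₁ (ArSing.y k 1) = ψ₂ (ArSing.y k 1) → ψ₁ = ψ₂ := by
    intro ψ₁ ψ₂ c0 c1 e0 e1
    refine Ideal.Quotient.algHom_ext k (mv_hom_ext (fun i => ?_) fun i => ?_)
    · fin_cases i
      · exact c0
      · exact c1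
    · fin_cases i
      · exact e0
      · exact e1
  -- the two branch endomorphisms
  let neg : PowerSeries k →ₐ[k] PowerSeries k :=
    PowerSeries.substAlgHom (PowerSeries.HasSubst.of_constantCoeff_zero'
      (show PowerSeries.constantCoeff (-PowerSeries.X : PowerSeries k) = 0 by simp))
  let sq : PowerSeries k →ₐ[k] PowerSeries k :=
    PowerSeries.substAlgHom (PowerSeries.HasSubst.of_constantCoeff_zero'
      (show PowerSeries.constantCoeff (PowerSeries.C (-2 : k) * PowerSeries.X ^ 2) = 0 by simp))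
  have negX : neg PowerSeries.X = -PowerSeries.X := PowerSeries.substAlgHom_X _
  have sqX : sq PowerSeries.X = PowerSeries.C (-2 : k) * PowerSeries.X ^ 2 := PowerSeries.substAlgHom_X _
  have pσ : p.comp σ.toAlgHom = p := by
    apply homExt <;> simp [hx, hy, px, py]
  have qσ : q.comp σ.toAlgHom = neg.comp q := by
    apply homExt <;> simp [hx, hy, qx, qy, negX]
  have h2x : ∀ (ψ : R →ₐ[k] PowerSeries k), ψ (φ (ArSing.x k 1)) * 2 = ψ u - ψ v ^ 2 ∧
      ψ (φ (ArSing.y k 1)) * 2 = ψ u + ψ v ^ 2 := by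
    intro ψ
    have a1 := congrArg ψ hφu
    have a2 := congrArg ψ hφv
    rw [map_add φ, map_add] at a1
    rw [map_sub φ, map_sub, map_pow] at a2
    constructor
    · linear_combination a1 - a2
    · linear_combination a1 + a2
  have pφx : p (φ (ArSing.x k 1)) = PowerSeries.X := mul_right_cancel₀ two (by
    rw [(h2x p).1, pv, hu, map_add, px, py]; ring)
  have pφy : p (φ (ArSing.y k 1)) = PowerSeries.X := mul_right_cancel₀ two (by
    rw [(h2x p).2, pv, hu, map_add, px, py]; ring)
  have qφx : q (φ (ArSing.x k 1)) = PowerSeries.C (-2 : k) * PowerSeries.X ^ 2 := mul_right_cancel₀ two (by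
    rw [(h2x q).1, qu, hv, map_sub, qx, qy, map_neg, map_ofNat]; ring)
  have qφy : q (φ (ArSing.y k 1)) = -(PowerSeries.C (-2 : k) * PowerSeries.X ^ 2) := mul_right_cancel₀ two (by
    rw [(h2x q).2, qu, hv, map_sub, qx, qy, map_neg, map_ofNat]; ring)
  have pφ : p.comp φ = p := by
    apply homExt <;> simp [pφx, pφy, px, py]
  have qφ : q.comp φ = sq.comp q := by
    apply homExt <;> simp [qφx, qφy, qx, qy, sqX]
  have sqc : ∀ g : PowerSeries k, sq g = PowerSeries.expand 2 two_ne_zero (PowerSeries.rescale (-2 : k) g) := by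
    intro g
    let r : PowerSeries k →ₐ[k] PowerSeries k :=
      { PowerSeries.rescale (-2 : k) with commutes' := fun c => by ext n; cases n <;> simp [PowerSeries.coeff_rescale] }
    refine DFunLike.congr_fun (ps_hom_ext (ψ₁ := sq) (ψ₂ := (PowerSeries.expand 2 two_ne_zero).comp r) ?_ ?_) g
    · rw [sqX]; simp
    · show _ = PowerSeries.expand 2 two_ne_zero (PowerSeries.rescale (-2 : k) PowerSeries.X)
      rw [sqX, PowerSeries.rescale_X, map_mul, PowerSeries.expand_X, PowerSeries.expand_C]
  have negc : ∀ (g : PowerSeries k) n, PowerSeries.coeff n (neg g) = (-1 : k) ^ n * PowerSeries.coeff n g := by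
    intro g n
    let r : PowerSeries k →ₐ[k] PowerSeries k :=
      { PowerSeries.rescale (-1 : k) with commutes' := fun c => by ext n; cases n <;> simp [PowerSeries.coeff_rescale] }
    rw [DFunLike.congr_fun (ps_hom_ext (ψ₁ := neg) (ψ₂ := r) (by rw [negX]; simp) (by
      show _ = PowerSeries.rescale (-1 : k) PowerSeries.X
      rw [negX, PowerSeries.rescale_X, map_neg, map_one, neg_one_mul])) g]
    exact PowerSeries.coeff_rescale g (-1 : k) n
  have sqinj : Function.Injective sq := by
    rw [injective_iff_map_eq_zero]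
    intro g hg
    ext n
    have := congrArg (PowerSeries.coeff (2 * n)) hg
    rw [sqc, PowerSeries.coeff_expand_mul, PowerSeries.coeff_rescale, map_zero] at this
    exact (mul_eq_zero.1 this).resolve_left (pow_ne_zero _ (neg_ne_zero.2 h2))
  have hprime : (Ideal.span {v} : Ideal R).IsPrime := by
    have : Ideal.span {v} = RingHom.ker p := by
      refine le_antisymm ?_ fun a ha => ?_
      · rw [Ideal.span_le, Set.singleton_subset_iff]; exact pv
      · obtain ⟨h, rfl⟩ := hker a ha
        exact Ideal.mul_mem_right _ _ (Ideal.mem_span_singleton_self _)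
    rw [this]; exact RingHom.ker_isPrime _
  have hu0 : u ∉ Ideal.span {v} := by
    intro hm
    obtain ⟨h, hh⟩ := Ideal.mem_span_singleton.1 hm
    have := congrArg p hh
    rw [map_mul, pv, zero_mul, hu, map_add, px, py, show (PowerSeries.X + PowerSeries.X : PowerSeries k) =
      2 * PowerSeries.X by ring] at this
    exact mul_ne_zero two PowerSeries.X_ne_zero this
  refine ⟨fun a => ⟨fun ha => ?_, ?_⟩, ?_, ?_, ?_, ⟨⟨hprime, bot_le⟩, fun Q hQ hle => ?_⟩, ?_⟩
  · -- fixed elements are in the range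
    have hev : ∀ n, Odd n → PowerSeries.coeff n (q a) = 0 := by
      intro n hn
      have e1 : q (σ a) = neg (q a) := DFunLike.congr_fun qσ a
      rw [ha] at e1
      have e2 := congrArg (PowerSeries.coeff n) e1
      rw [negc, hn.neg_one_pow, neg_one_mul] at e2
      have : (2 : k) * PowerSeries.coeff n (q a) = 0 := by linear_combination e2
      exact (mul_eq_zero.1 this).resolve_left h2
    let G : PowerSeries k := PowerSeries.mk fun n => ((-2 : k) ^ n)⁻¹ * PowerSeries.coeff (2 * n) (q a)
    have hG : sq G = q a := by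
      ext n
      rw [sqc]
      rcases Nat.even_or_odd' n with ⟨m, rfl | rfl⟩
      · rw [PowerSeries.coeff_expand_mul, PowerSeries.coeff_rescale, PowerSeries.coeff_mk, ← mul_assoc,
          mul_inv_cancel₀ (pow_ne_zero _ (neg_ne_zero.2 h2)), one_mul]
      · rw [PowerSeries.coeff_expand_of_not_dvd _ _ _ (by omega), hev _ ⟨m, rfl⟩]
    have hhalf : PowerSeries.constantCoeff (PowerSeries.C (2⁻¹ : k) * PowerSeries.X) = 0 := by simp
    obtain ⟨Ju, hJu⟩ : ∃ J : PowerSeries k →ₐ[k] R, p.comp J = AlgHom.id k _ ∧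
        ∀ g, q (J g) = PowerSeries.C (PowerSeries.constantCoeff g) := by
      have hz : MvPowerSeries.constantCoeff (MvPowerSeries.C (2⁻¹ : k) *
          (MvPowerSeries.X (0 : Fin 2) + MvPowerSeries.X 1)) = 0 := by simp
      refine ⟨(Ideal.Quotient.mkₐ k I).comp (PowerSeries.substAlgHom
        (PowerSeries.HasSubst.of_constantCoeff_zero hz)), ?_, fun g => ?_⟩
      · refine ps_hom_ext ?_ ?_ <;>
        · simp only [AlgHom.comp_apply, AlgHom.id_apply, Ideal.Quotient.mkₐ_eq_mk, hp]
          rw [PowerSeries.substAlgHom_X, map_mul, map_add, line_X0, line_X1,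
            show line (1 : k) (MvPowerSeries.C (2⁻¹ : k)) = PowerSeries.C (2⁻¹ : k) from (line (1 : k)).commutes _]
          first | simp | skip
          try rw [← two_mul, ← mul_assoc, ← map_ofNat PowerSeries.C, ← map_mul, inv_mul_cancel₀ h2, map_one, one_mul]
      · obtain ⟨g', hg'⟩ := PowerSeries.X_dvd_iff.2
          (show PowerSeries.constantCoeff (g - PowerSeries.C (PowerSeries.constantCoeff g)) = 0 by simp)
        conv_lhs => rw [show g = algebraMap k _ (PowerSeries.constantCoeff g) + PowerSeries.X * g' by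
          rw [← hg']; simp]
        rw [map_add, map_add, AlgHom.commutes, AlgHom.commutes, map_mul, map_mul]
        simp only [AlgHom.comp_apply, Ideal.Quotient.mkₐ_eq_mk, hq]
        rw [PowerSeries.substAlgHom_X, map_mul, map_add, line_X0, line_X1]
        simp
    obtain ⟨Jv, hJv⟩ : ∃ J : PowerSeries k →ₐ[k] R, q.comp J = AlgHom.id k _ ∧
        ∀ g, p (J g) = PowerSeries.C (PowerSeries.constantCoeff g) := by
      have hz : MvPowerSeries.constantCoeff (MvPowerSeries.C (2⁻¹ : k) *
          (MvPowerSeries.X (0 : Fin 2) - MvPowerSeries.X 1)) = 0 := by simp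
      refine ⟨(Ideal.Quotient.mkₐ k I).comp (PowerSeries.substAlgHom
        (PowerSeries.HasSubst.of_constantCoeff_zero hz)), ?_, fun g => ?_⟩
      · refine ps_hom_ext ?_ ?_ <;>
        · simp only [AlgHom.comp_apply, AlgHom.id_apply, Ideal.Quotient.mkₐ_eq_mk, hq]
          rw [PowerSeries.substAlgHom_X, map_mul, map_sub, line_X0, line_X1,
            show line (-1 : k) (MvPowerSeries.C (2⁻¹ : k)) = PowerSeries.C (2⁻¹ : k) from (line (-1 : k)).commutes _]
          first | simp | skip
          try rw [← two_mul, ← mul_assoc, ← map_ofNat PowerSeries.C, ← map_mul, inv_mul_cancel₀ h2, map_one, one_mul]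
      · obtain ⟨g', hg'⟩ := PowerSeries.X_dvd_iff.2
          (show PowerSeries.constantCoeff (g - PowerSeries.C (PowerSeries.constantCoeff g)) = 0 by simp)
        conv_lhs => rw [show g = algebraMap k _ (PowerSeries.constantCoeff g) + PowerSeries.X * g' by
          rw [← hg']; simp]
        rw [map_add, map_add, AlgHom.commutes, AlgHom.commutes, map_mul, map_mul]
        simp only [AlgHom.comp_apply, Ideal.Quotient.mkₐ_eq_mk, hp]
        rw [PowerSeries.substAlgHom_X, map_mul, map_sub, line_X0, line_X1]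
        simp
    set c := PowerSeries.constantCoeff (p a) with hc
    have hcc : PowerSeries.constantCoeff G = c := by
      obtain ⟨f, rfl⟩ := Ideal.Quotient.mk_surjective a
      rw [hc, ← PowerSeries.coeff_zero_eq_constantCoeff_apply, PowerSeries.coeff_mk, hp, hq, mul_zero,
        coeff_line, ← PowerSeries.coeff_zero_eq_constantCoeff_apply, coeff_line]
      simp
    refine ⟨Ju (p a) + Jv G - algebraMap k R c, sub_eq_zero.1 (hext _ ?_ ?_)⟩
    · rw [map_sub, AlgHom.toRingHom_eq_coe, RingHom.coe_coe, ← AlgHom.comp_apply p φ, pφ, map_sub, map_add,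
        ← AlgHom.comp_apply p Ju, hJu.1, hJv.2, hcc, AlgHom.commutes]
      simp
    · rw [map_sub, AlgHom.toRingHom_eq_coe, RingHom.coe_coe, ← AlgHom.comp_apply q φ, qφ, AlgHom.comp_apply,
        map_sub q, map_add q, ← AlgHom.comp_apply q Jv, hJv.1, hJu.2, ← hc, AlgHom.commutes]
      simp [hG]
  · rintro ⟨b, rfl⟩
    apply sub_eq_zero.1
    refine hext _ ?_ ?_ <;> rw [map_sub, sub_eq_zero, AlgHom.toRingHom_eq_coe, RingHom.coe_coe]
    · exact DFunLike.congr_fun pσ (φ b)
    · refine (DFunLike.congr_fun qσ (φ b)).trans ?_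
      rw [AlgHom.comp_apply, ← AlgHom.comp_apply q φ, qφ, AlgHom.comp_apply]
      have : neg.comp sq = sq := by
        refine ps_hom_ext ?_ ?_
        · simp [sqX, negX, map_ofNat]
        · simp [sqX, negX, map_ofNat]
      exact DFunLike.congr_fun this (q b)
  · rw [injective_iff_map_eq_zero]
    intro a ha
    refine hext a ?_ (sqinj ?_)
    · rw [← DFunLike.congr_fun pφ a, AlgHom.comp_apply, ha, map_zero]
    · rw [map_zero, ← AlgHom.comp_apply, ← qφ, AlgHom.comp_apply, ha, map_zero]
  · refine le_antisymm (Ideal.span_le.2 ?_) (Ideal.span_le.2 (Set.singleton_subset_iff.2 ?_))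
    · rintro _ ⟨a, rfl⟩
      obtain ⟨h, hh⟩ := hker (σ a - a) (by
        rw [map_sub, sub_eq_zero]; exact DFunLike.congr_fun pσ a)
      show σ a - a ∈ Ideal.span {v}
      rw [hh]
      exact Ideal.mul_mem_right _ _ (Ideal.mem_span_singleton_self _)
    · have h1 : ArSing.y k 1 - ArSing.x k 1 = σ (ArSing.x k 1) - ArSing.x k 1 := by rw [hx]
      rw [hv, h1]
      exact Ideal.subset_span ⟨_, rfl⟩
  · intro hnz
    have := (mem_nonZeroDivisors_iff.1 hnz).1 u (by rw [mul_comm]; exact huv)
    exact hu0 (this ▸ Submodule.zero_mem _)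
  · rw [Ideal.span_le, Set.singleton_subset_iff]
    exact (hQ.1.mem_or_mem (show u * v ∈ Q by rw [huv]; exact Q.zero_mem)).resolve_left fun h => hu0 (hle h)
  · intro hflat
    have hmem : v ∈ Ideal.span {v ^ 2} := by
      refine Ideal.span_le.2 ?_ (mem_span_of_flat_of_mul_eq_zero φ.toRingHom hflat u v ?_)
      · rintro _ ⟨c, hc, rfl⟩
        have hav : c ∈ Ideal.span {v} :=
          (hprime.mem_or_mem (show u * c ∈ Ideal.span {v} by rw [hc]; exact Submodule.zero_mem _)).resolve_left hu0
        obtain ⟨b, hb⟩ := Ideal.mem_span_singleton.1 hav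
        show φ c ∈ _
        rw [hb, map_mul, hφv]
        exact Ideal.mul_mem_right _ _ (Ideal.mem_span_singleton_self _)
      · show φ u * v = 0
        rw [hφu]; exact huv
    obtain ⟨b, hb⟩ := Ideal.mem_span_singleton.1 hmem
    have hb' := congrArg (fun z => PowerSeries.coeff 1 (q z)) hb
    simp only [hv, map_mul, map_pow, map_sub, qx, qy] at hb'
    rw [show ((-PowerSeries.X - PowerSeries.X : PowerSeries k)) ^ 2 * q b = PowerSeries.X ^ 2 * (4 * q b) by ring] at hb'
    rw [PowerSeries.X_pow_dvd_iff.1 (dvd_mul_right _ _) 1 one_lt_two] at hb'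
    simp at hb'
    exact h2 (by linear_combination -hb')

end Groth.Agent.S14096
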