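import Groth.Statements.S14097
import Mathlib.Tactic
import Mathlib.Algebra.BigOperators.NatAntidiagonal

set_option autoImplicit false
universe u
open ArSing

namespace Groth.Agent.S14097

theorem esymm_range_succ {A : Type u} [CommRing A] (h : ℕ → A) (k j : ℕ) :
    ((Finset.range (k + 1)).val.map h).esymm (j + 1) =
      ((Finset.range k).val.map h).esymm (j + 1) + h k * ((Finset.range k).val.map h).esymm j := by
  rw [Finset.range_val, Finset.range_val, Multiset.range_succ, Multiset.map_cons, Multiset.esymm,
    Multiset.powersetCard_cons, Multiset.map_add, Multiset.sum_add, Multiset.map_map]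
  congr 1
  simp only [Function.comp_def, Multiset.prod_cons]
  rw [Multiset.sum_map_mul_left]
  rfl

theorem main {A : Type u} [CommRing A] (τ : A) (h : ℕ → A) : ∀ k : ℕ,
    (∀ i, i < k + 1 → h i ^ 2 + τ * h i = 0) →
    (∏ i ∈ Finset.range k, (h i + h (i + 1) + τ) =
      ∑ j ∈ Finset.range (k + 1), τ ^ (k - j) * (((Finset.range (k + 1)).val.map h).esymm j)) ∧
    (∏ i ∈ Finset.range k, (h i + h (i + 1) + τ)) * h k =
      ((Finset.range (k + 1)).val.map h).esymm (k + 1) := by
  intro k
  induction k with
  | zero =>
    intro _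
    have e : ((Finset.range 1).val.map h).esymm 1 = h 0 := by
      rw [esymm_range_succ h 0 0]; simp [Multiset.esymm]
    refine ⟨?_, ?_⟩
    · simp [Multiset.esymm]
    · simpa using e.symm
  | succ k ih =>
    intro hrel
    obtain ⟨h1, h2⟩ := ih fun i hi => hrel i (by omega)
    have hk1 := hrel (k + 1) (by omega)
    have top : ((Finset.range (k + 1)).val.map h).esymm (k + 2) = 0 := by
      rw [Multiset.esymm, Multiset.powersetCard_eq_empty]
      · simp
      · simp
    refine ⟨?_, ?_⟩
    · rw [Finset.prod_range_succ, Finset.sum_range_succ' _ (k + 1)]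
      rw [Finset.sum_congr rfl fun x _ =>
        congrArg (τ ^ (k + 1 - (x + 1)) * ·) (esymm_range_succ h (k + 1) x)]
      simp only [Nat.succ_sub_succ, mul_add, Finset.sum_add_distrib]
      have e0 : τ ^ (k + 1 - 0) * ((Finset.range (k + 1 + 1)).val.map h).esymm 0 =
          τ * (τ ^ (k - 0) * ((Finset.range (k + 1)).val.map h).esymm 0) := by
        simp [Multiset.esymm, pow_succ']
      have eA : ∑ j ∈ Finset.range (k + 1), τ ^ (k - j) * ((Finset.range (k + 1)).val.map h).esymm (j + 1) =
          τ * (∑ j ∈ Finset.range k, τ ^ (k - (j + 1)) * ((Finset.range (k + 1)).val.map h).esymm (j + 1)) +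
            ((Finset.range (k + 1)).val.map h).esymm (k + 1) := by
        rw [Finset.sum_range_succ, Finset.mul_sum, Nat.sub_self, pow_zero, one_mul]
        congr 1
        refine Finset.sum_congr rfl fun j hj => ?_
        rw [Finset.mem_range] at hj
        rw [show k - j = (k - (j + 1)) + 1 by omega, pow_succ']
        ring
      have eB : ∑ j ∈ Finset.range (k + 1), τ ^ (k - j) * (h (k + 1) * ((Finset.range (k + 1)).val.map h).esymm j) =
          h (k + 1) * ∏ i ∈ Finset.range k, (h i + h (i + 1) + τ) := by
        rw [h1, Finset.mul_sum]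
        exact Finset.sum_congr rfl fun j _ => by ring
      rw [eA, eB, e0]
      rw [Finset.sum_range_succ'] at h1
      linear_combination τ * h1 + h2
    · rw [Finset.prod_range_succ, esymm_range_succ, top, zero_add, ← h2]
      linear_combination (∏ i ∈ Finset.range k, (h i + h (i + 1) + τ)) * hk1


/-- In any commutative ring, if h_0, …, h_(k-1) (k ≥ 2) and τ satisfy h_i^2 + τ h_i = 0, then ∏_(i ≤
k-2) (h_i + h_(i+1) + τ) = Σ_(j ≤ k-1) τ^(k-1-j) e_j(h), e_j the elementary symmetric functions.
(The published statement is the resulting formula for the class of the small diagonal in the Chow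
ring of (P^1)^k, where the h_i are the hyperplane classes of the factors and satisfy these
relations; only the ring identity is asserted here.) -/
theorem result (A : Type u) [CommRing A] (k : ℕ) (hk : 2 ≤ k) (τ : A)
    (h : ℕ → A) (hrel : ∀ i, i < k → h i ^ 2 + τ * h i = 0) :
    ∏ i ∈ Finset.range (k - 1), (h i + h (i + 1) + τ) =
      ∑ j ∈ Finset.range k, τ ^ (k - 1 - j) * (((Finset.range k).val.map h).esymm j) := by
  obtain ⟨j, rfl⟩ : ∃ j, k = j + 1 := ⟨k - 1, by omega⟩
  exact (main τ h j hrel).1

end Groth.Agent.S14097
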