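import Groth.Statements.S14099
import Groth.Agent.PinchBl13.Ring
import Groth.Agent.PinchBl13.Gen
import Groth.Agent.FlatMorPush.Props
import Groth.Agent.FlatMorPush.Instances
import Groth.Agent.BlowUpLib.AffineExt
import Groth.Agent.BlowUpLib.LocalTarget
import Groth.Agent.FlatMorThick.FiniteOrder
import Groth.Agent.Resolve13.RatExt
import Groth.Agent.GrpdLib.IdealGlue
import Groth.Agent.EGA43.SchDom

set_option autoImplicit false
set_option linter.style.haveILetI false
set_option backward.isDefEq.respectTransparency.types false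
set_option maxHeartbeats 2000000
universe u
open CategoryTheory AlgebraicGeometry
open BlowUp

namespace Groth.Agent.S14099


open Groth.Agent Groth.Agent.KerEval CategoryTheory.Limits

theorem idealSpec_eq (C : Type u) [CommRing C] (J : Ideal C) : FSch.idealSpec C J = Curv2.idealSheaf C J :=
  Scheme.IdealSheafData.ext_of_isAffine ((FSchLib.idealSpec_ideal_top C J).trans (Resolve13.RatExt.ideal_top J).symm)

theorem ker_sp {C A : Type u} [CommRing C] [CommRing A] (φ : C →+* A) :
    (sp φ).ker = Curv2.idealSheaf C (RingHom.ker φ) :=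
  (FSchLib.ker_specMap φ).trans (idealSpec_eq C _)

theorem idealSheaf_pow (C : Type u) [CommRing C] (J : Ideal C) (n : ℕ) :
    Curv2.idealSheaf C J ^ n = Curv2.idealSheaf C (J ^ n) := Scheme.IdealSheafData.ext_of_isAffine (by
  rw [Scheme.IdealSheafData.ideal_pow, Pi.pow_apply, Resolve13.RatExt.ideal_top, Resolve13.RatExt.ideal_top,
    Ideal.map_pow])

theorem comap_sp {A B : Type u} [CommRing A] [CommRing B] (φ : A →+* B) (J : Ideal A) :
    (Curv2.idealSheaf A J).comap (sp φ) = Curv2.idealSheaf B (J.map φ) := by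
  have h := Resolve13.RatExt.idealSheaf_comap_comp φ (𝟙 (Spec (CommRingCat.of B))) J
  rw [Category.id_comp, Scheme.IdealSheafData.comap_id] at h
  exact h

theorem flat_left {A B C : Scheme.{u}} (g : A ⟶ B) (i : B ⟶ C) [IsOpenImmersion i] (h : Flat (g ≫ i)) : Flat g :=
  MorphismProperty.of_isPullback (P := @Flat)
    (IsPullback.of_vert_isIso_mono (f := i) (g := g ≫ i) (fst := g) (snd := 𝟙 A) ⟨by simp⟩).flip h

theorem flat_quot_comp {C : Type u} [CommRing C] (J : Ideal C) {S : Scheme.{u}} (F : Spec (CommRingCat.of C) ⟶ S)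
    (h : Flat (sp (Ideal.Quotient.mk J) ≫ F)) : Flat ((Curv2.idealSheaf C J).subschemeι ≫ F) := by
  rw [← Ideal.mk_ker (I := J), ← ker_sp]
  haveI : IsClosedImmersion (sp (Ideal.Quotient.mk J)) := IsClosedImmersion.spec_of_surjective _ Ideal.Quotient.mk_surjective
  have e : (sp (Ideal.Quotient.mk J)).ker.subschemeι ≫ F =
      inv (sp (Ideal.Quotient.mk J)).toImage ≫ sp (Ideal.Quotient.mk J) ≫ F := by
    rw [← Category.assoc, show inv (sp (Ideal.Quotient.mk J)).toImage ≫ sp (Ideal.Quotient.mk J) =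
      (sp (Ideal.Quotient.mk J)).ker.subschemeι from (IsIso.inv_comp_eq _).2 (Scheme.Hom.toImage_imageι _).symm]
  rw [e]
  infer_instance


/-- Let ι : D̃ → X̃ be a closed immersion whose ideal is effective Cartier, h : D̃ → D finite flat
surjective, all flat over a scheme S, and let (ι, h, b : X̃ → X, j : D → X) be a pushout of schemes
with b affine and j a closed immersion, X carrying the induced morphism to S. Then the closed
subschemes of X defined by the powers I_D^n, n ≥ 1, are flat over S (so blowing up X in I_D commutes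
with base change), b is a blowing up of X in I_D, and the inverse image ideal of I_D along b is the
ideal of D̃: the pair (X̃, D̃) is recovered from (X, D) by blowing up. (The published statement
assumes all three schemes proper, flat and finitely presented over S and D̃ → D only finite flat,
takes for X the pushout built affine-locally from fibre products of rings — for which X̃ → X is
affine and D → X a closed immersion — and also asserts that X is proper and finitely presented over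
S; this row assumes only flatness over S and D̃ → D surjective, takes such a pushout as given, and
does not assert properness or finite presentation of X. The affineness of X̃ → X cannot be dropped:
the affine line with doubled origin, with its two origins pinched to one point, has the affine line
itself as pushout in the category of schemes, and the line is its own blowing up at the origin.) -/
theorem result {S Xt Dt D X : Scheme.{u}}
    (ι : Dt ⟶ Xt) [IsClosedImmersion ι] (hι : BlowUp.IsEffCartierIdeal ι.ker)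
    (h : Dt ⟶ D) [IsFinite h] [Flat h] [Surjective h]
    (b : Xt ⟶ X) [IsAffineHom b] (j : D ⟶ X) [IsClosedImmersion j] (hP : IsPushout ι h b j)
    (sX : X ⟶ S) [Flat (b ≫ sX)] [Flat (j ≫ sX)] [Flat (ι ≫ b ≫ sX)] :
    (∀ n : ℕ, 1 ≤ n → Flat ((j.ker ^ n).subschemeι ≫ sX)) ∧
    BlowUp.IsBlowUp b j.ker ∧ j.ker.comap b = ι.ker := by
  classical
  have haff : ∀ y : D, ∃ U : Xt.Opens, IsAffineOpen U ∧ h ⁻¹' {y} ⊆ (ι ⁻¹ᵁ U : Set Dt) := by
    intro y
    obtain ⟨U, hU, hyU, -⟩ := exists_isAffineOpen_mem_and_subset (x := j y) (U := (⊤ : X.Opens)) trivial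
    refine ⟨b ⁻¹ᵁ U, hU.preimage b, fun z hz => ?_⟩
    show b (ι z) ∈ U
    rw [← Scheme.Hom.comp_apply, hP.w, Scheme.Hom.comp_apply, show h z = y from hz]
    exact hyU
  haveI := FlatMorPush.hasPairs_of_integral ι h haff
  let e := (FlatMorPush.isPushout ι h).isoIsPushout _ _ hP
  have hea : FlatMorPush.inl ι h ≫ e.hom = b := (FlatMorPush.isPushout ι h).inl_isoIsPushout_hom _ _ hP
  have heb : FlatMorPush.inr ι h ≫ e.hom = j := (FlatMorPush.isPushout ι h).inr_isoIsPushout_hom _ _ hP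
  let eX : ∀ k : FlatMorPush.Pair ι h, k.obj ⟶ X := fun k => FlatMorPush.ι k ≫ e.hom
  have hX : ∀ k : FlatMorPush.Pair ι h, IsPullback (sp k.sq.g) k.hU.fromSpec (eX k) b := fun k =>
    (FlatMorPush.isPullback_inl k).of_iso (Iso.refl _) (Iso.refl _) (Iso.refl _) e (by simp) (by simp)
      (by simp [eX]) (by simpa using hea)
  have hY : ∀ k : FlatMorPush.Pair ι h, IsPullback (sp k.sq.f) k.hV.fromSpec (eX k) j := fun k =>
    (FlatMorPush.isPullback_inr k).of_iso (Iso.refl _) (Iso.refl _) (Iso.refl _) e (by simp) (by simp)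
      (by simp [eX]) (by simpa using heb)
  have hZ : ∀ k : FlatMorPush.Pair ι h, IsPullback (sp k.sq.p) k.hW.fromSpec k.hU.fromSpec ι := fun k =>
    IsOpenImmersion.isPullback _ _ _ _ k.sp_p.symm (by
      rw [FlatMorPush.opensRange_fromSpec, FlatMorPush.opensRange_fromSpec]
      exact k.eq)
  have hq : ∀ k : FlatMorPush.Pair ι h, Function.Injective k.sq.q := fun k =>
    EGA43.app_injective_of_flat_surjective h k.V
  -- charts inside a given affine of `S` and with principal ideal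
  let Good : FlatMorPush.Pair ι h → Prop := fun k =>
    (∃ T : S.Opens, IsAffineOpen T ∧ k.U ≤ b ⁻¹ᵁ (sX ⁻¹ᵁ T) ∧ k.V ≤ j ⁻¹ᵁ (sX ⁻¹ᵁ T)) ∧
      ∃ a : Γ(Xt, k.U), a ∈ nonZeroDivisors Γ(Xt, k.U) ∧ RingHom.ker k.sq.p = Ideal.span {a}
  have hkerp : ∀ k : FlatMorPush.Pair ι h, RingHom.ker k.sq.p = ι.ker.ideal ⟨k.U, k.hU⟩ := fun k => by
    rw [Scheme.Hom.ker_apply]
    refine Ideal.ext fun z => ?_
    rw [RingHom.mem_ker, RingHom.mem_ker]
    show (ι.appLE k.U (h ⁻¹ᵁ k.V) k.eq.ge) z = 0 ↔ ι.app k.U z = 0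
    rw [Scheme.Hom.appLE, CommRingCat.comp_apply]
    refine map_eq_zero_iff _ ?_
    haveI : IsIso (Dt.presheaf.map (homOfLE k.eq.ge).op) := by
      rw [show (homOfLE k.eq.ge : h ⁻¹ᵁ k.V ⟶ ι ⁻¹ᵁ k.U) = eqToHom k.eq.symm from Subsingleton.elim _ _]
      infer_instance
    exact (ConcreteCategory.bijective_of_isIso _).1
  have hgood : ∀ x : X, ∃ k, Good k ∧ x ∈ (eX k).opensRange := by
    intro x
    obtain ⟨T, hT, hxT, -⟩ := exists_isAffineOpen_mem_and_subset (x := sX x) (U := (⊤ : S.Opens)) trivial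
    obtain ⟨w, rfl⟩ : ∃ w, e.hom w = x := ⟨e.inv x, by rw [← Scheme.Hom.comp_apply, e.inv_hom_id]; rfl⟩
    suffices H : ∃ k, Good k ∧ w ∈ (FlatMorPush.ι k).opensRange by
      obtain ⟨k, hk, t, ht⟩ := H
      exact ⟨k, hk, t, by rw [Scheme.Hom.comp_apply]; exact congrArg e.hom ht⟩
    obtain ⟨l, t, rfl⟩ := FlatMorPush.exists_mem_range w
    by_cases hD : ∃ y, FlatMorPush.inr ι h y = FlatMorPush.ι l t
    · obtain ⟨y, hy⟩ := hD
      have hjy : j y = e.hom (FlatMorPush.ι l t) := by rw [← heb, Scheme.Hom.comp_apply, hy]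
      have hbU : h ⁻¹' {y} ⊆ (ι ⁻¹ᵁ (b ⁻¹ᵁ (sX ⁻¹ᵁ T)) : Set Dt) := fun z hz => by
        show sX (b (ι z)) ∈ T
        rw [← Scheme.Hom.comp_apply ι b, hP.w, Scheme.Hom.comp_apply, show h z = y from hz, hjy]
        exact hxT
      obtain ⟨U₀, hU₀, hfib⟩ := haff y
      have hfin : (h ⁻¹' {y} : Set Dt).Finite := h.finite_preimage_singleton y
      obtain ⟨a, ha, hga⟩ := PinchBl13.exists_gens_finset ι.ker hι hU₀ (hfin.toFinset.image ι)
        (fun z hz => by
          obtain ⟨z', hz', rfl⟩ := Finset.mem_image.1 hz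
          exact hfib (hfin.mem_toFinset.1 hz'))
      let G : Xt.Opens := ⟨{z | PinchBl13.Gens ι.ker a z}, isOpen_iff_forall_mem_open.2 fun z hz => by
        obtain ⟨W, hW, hzW, hWa⟩ := hz
        exact ⟨W.1, fun z' hz' => ⟨W, hW, hz', hWa⟩, W.1.isOpen, hzW⟩⟩
      obtain ⟨U, V, hU, hV, hUO, hVT, hyV, he⟩ := FlatMorPush.exists_adaptedOpens ι h hU₀
        (O := U₀ ⊓ G ⊓ b ⁻¹ᵁ (sX ⁻¹ᵁ T)) (inf_le_left.trans inf_le_left) (j ⁻¹ᵁ (sX ⁻¹ᵁ T)) (y := y)
        (show sX (j y) ∈ T by rw [hjy]; exact hxT)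
        (fun z hz => ⟨⟨hfib hz, hga _ (Finset.mem_image_of_mem ι (hfin.mem_toFinset.2 hz))⟩, hbU hz⟩)
      have hle : U ≤ U₀ := hUO.trans (inf_le_left.trans inf_le_left)
      obtain ⟨hspan, hnzd⟩ := PinchBl13.ideal_eq_span_of_gens ι.ker hι hU hle a
        (ι.ker.ideal_le_comap_ideal (U := ⟨U, hU⟩) (V := ⟨U₀, hU₀⟩) hle ha) (fun z hz => (hUO hz).1.2)
      refine ⟨⟨U, V, hU, hV, he⟩, ⟨⟨T, hT, hUO.trans inf_le_right, hVT⟩, _, hnzd, (hkerp _).trans hspan⟩, ?_⟩
      rw [← hy]
      exact FlatMorPush.inr_mem_range_ι.2 hyV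
    · rcases l.sq.exists_point t with ⟨y, hy⟩ | ⟨-, -, -, z, hz⟩
      · exact absurd ⟨l.hV.fromSpec y, by
          rw [← Scheme.Hom.comp_apply, FlatMorPush.fromSpec_inr, Scheme.Hom.comp_apply]
          exact congrArg (FlatMorPush.ι l) hy⟩ hD
      have hw : FlatMorPush.inl ι h (l.hU.fromSpec z) = FlatMorPush.ι l t := by
        rw [← Scheme.Hom.comp_apply, FlatMorPush.fromSpec_inl, Scheme.Hom.comp_apply]
        exact congrArg (FlatMorPush.ι l) hz
      have hbz : b (l.hU.fromSpec z) = e.hom (FlatMorPush.ι l t) := by rw [← hea, Scheme.Hom.comp_apply, hw]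
      have hnot : l.hU.fromSpec z ∉ Set.range ι := by
        rintro ⟨d, hd⟩
        refine hD ⟨h d, ?_⟩
        rw [← hw, ← hd, ← Scheme.Hom.comp_apply, ← Scheme.Hom.comp_apply, FlatMorPush.condition]
      obtain ⟨m, hzm, hmT, hmV⟩ := FlatMorPush.exists_away ι h (b ⁻¹ᵁ (sX ⁻¹ᵁ T)) (x := l.hU.fromSpec z)
        (show sX (b (l.hU.fromSpec z)) ∈ T by rw [hbz]; exact hxT) hnot
      refine ⟨m, ⟨⟨T, hT, hmT, hmV ▸ bot_le⟩, 1, one_mem _, ?_⟩, hw ▸ FlatMorPush.inl_mem_range_ι.2 hzm⟩
      rw [Ideal.span_singleton_one]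
      haveI : Subsingleton Γ(Dt, h ⁻¹ᵁ m.V) := by
        rw [hmV]
        exact inferInstanceAs (Subsingleton Γ(Dt, (⊥ : Dt.Opens)))
      exact eq_top_iff.2 fun z _ => RingHom.mem_ker.2 (Subsingleton.elim _ _)
  -- the ideal on the charts
  have hI : ∀ k, j.ker.comap (eX k) = Curv2.idealSheaf k.C (RingHom.ker k.sq.f) := fun k =>
    ((FlatMorThick.ker_eq_comap_of_isPullback (hY k)).symm.trans (ker_sp k.sq.f))
  have hcomap : j.ker.comap b = ι.ker := by
    refine GrpdLib.IdealGlue.eq_of_comap_eq (fun k : {k // Good k} => k.1.U) (top_le_iff.1 fun z _ => ?_) fun k => ?_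
    · obtain ⟨k, hk, hzk⟩ := hgood (b z)
      obtain ⟨t, ht⟩ := hzk
      obtain ⟨z', rfl, -⟩ := Scheme.Pullback.exists_preimage_pullback (f := b) (g := eX k) z t ht.symm
      refine TopologicalSpace.Opens.mem_iSup.2 ⟨⟨k, hk⟩, ?_⟩
      have := congrArg (fun φ => φ z') (hX k).flip.isoPullback_inv_fst
      rw [← this, Scheme.Hom.comp_apply]
      exact k.hU.range_fromSpec.le ⟨_, rfl⟩
    obtain ⟨k, hk, a, ha, hpa⟩ := k
    have h1 : (j.ker.comap b).comap k.hU.fromSpec = ι.ker.comap k.hU.fromSpec := by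
      rw [← Scheme.IdealSheafData.comap_comp, ← (hX k).w, Scheme.IdealSheafData.comap_comp, hI, comap_sp,
        ← FlatMorThick.ker_eq_comap_of_isPullback (hZ k), ker_sp, (PinchBl13.map_g_ker k.sq a hpa).1, hpa]
    show (j.ker.comap b).comap k.U.ι = ι.ker.comap k.U.ι
    rw [← k.hU.isoSpec_hom_fromSpec, Scheme.IdealSheafData.comap_comp, h1, ← Scheme.IdealSheafData.comap_comp]
  refine ⟨fun n hn => ?_, ?_, hcomap⟩
  · obtain ⟨m, rfl⟩ := Nat.exists_eq_add_of_le' hn
    let J := j.ker ^ (m + 1)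
    let P : {k // Good k} → J.subscheme.Opens := fun k => (pullback.snd (eX k.1) J.subschemeι).opensRange
    refine (IsZariskiLocalAtSource.iff_of_openCover (P := @Flat) (Scheme.openCoverOfIsOpenCover J.subscheme P
      (top_le_iff.1 fun z _ => ?_))).2 fun k => ?_
    · obtain ⟨k, hk, t, ht⟩ := hgood (J.subschemeι z)
      obtain ⟨w, -, hw⟩ := Scheme.Pullback.exists_preimage_pullback (f := eX k) (g := J.subschemeι) t z ht
      exact TopologicalSpace.Opens.mem_iSup.2 ⟨⟨k, hk⟩, w, hw⟩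
    show Flat ((P k).ι ≫ J.subschemeι ≫ sX)
    obtain ⟨k, ⟨T, hT, hUT, hVT⟩, a, ha, hpa⟩ := k
    let τ := (pullback.snd (eX k) J.subschemeι).isoOpensRange
    suffices H : Flat (pullback.snd (eX k) J.subschemeι ≫ J.subschemeι ≫ sX) by
      rw [← MorphismProperty.cancel_left_of_respectsIso @Flat τ.hom, ← Category.assoc,
        Scheme.Hom.isoOpensRange_hom_ι]
      exact H
    rw [← Category.assoc, ← pullback.condition, Category.assoc]
    suffices H : Flat ((J.comap (eX k)).subschemeι ≫ eX k ≫ sX) by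
      rw [← Scheme.IdealSheafData.comapIso_inv_subschemeι, Category.assoc]
      infer_instance
    rw [show J.comap (eX k) = Curv2.idealSheaf k.C (RingHom.ker k.sq.f ^ (m + 1)) by
      rw [FSchLib.comap_pow, hI, idealSheaf_pow]]
    apply flat_quot_comp
    have hrange : Set.range (eX k ≫ sX) ⊆ Set.range hT.fromSpec := by
      rintro _ ⟨t, rfl⟩
      rw [hT.range_fromSpec, Scheme.Hom.comp_apply]
      rcases k.sq.exists_point t with ⟨y, rfl⟩ | ⟨-, -, -, z, rfl⟩
      · show sX ((sp k.sq.f ≫ eX k) y) ∈ (T : Set S)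
        rw [(hY k).w]
        exact hVT (k.hV.range_fromSpec.le ⟨y, rfl⟩)
      · show sX ((sp k.sq.g ≫ eX k) z) ∈ (T : Set S)
        rw [(hX k).w]
        exact hUT (k.hU.range_fromSpec.le ⟨z, rfl⟩)
    let L := IsOpenImmersion.lift hT.fromSpec (eX k ≫ sX) hrange
    have hL : L ≫ hT.fromSpec = eX k ≫ sX := IsOpenImmersion.lift_fac _ _ _
    obtain ⟨ρ, hρ⟩ := Spec.map_surjective L
    have hρ' : sp ρ.hom = L := hρ
    have hflatρ : ∀ {A : Type u} [CommRing A] (φ : k.C →+* A), Flat (sp φ ≫ eX k ≫ sX) → (φ.comp ρ.hom).Flat := by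
      intro A _ φ hφ
      rw [← hL, ← hρ', ← Category.assoc, ← sp_comp] at hφ
      exact (HasRingHomProperty.Spec_iff (P := @Flat)).1 (flat_left _ _ hφ)
    have hA : (k.sq.f.comp ρ.hom).Flat := hflatρ _ (by
      rw [← Category.assoc, (hY k).w, Category.assoc]; infer_instance)
    have hD : (k.sq.p.comp (k.sq.g.comp ρ.hom)).Flat := by
      rw [← RingHom.comp_assoc]
      refine hflatρ _ ?_
      rw [sp_comp, Category.assoc, ← Category.assoc (sp k.sq.g), (hX k).w, Category.assoc, ← Category.assoc,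
        (hZ k).w, Category.assoc]
      infer_instance
    letI : Algebra Γ(S, T) Γ(Xt, k.U) := (k.sq.g.comp ρ.hom).toAlgebra
    have key := PinchBl13.flat_quot_ker_pow k.sq ρ.hom rfl a ha hpa (hq k) hA hD m
    rw [← hL, ← hρ', ← Category.assoc, ← sp_comp]
    haveI : Flat (sp ((Ideal.Quotient.mk (RingHom.ker k.sq.f ^ (m + 1))).comp ρ.hom)) :=
      (HasRingHomProperty.Spec_iff (P := @Flat)).2 key
    infer_instance
  · have heff : BlowUp.IsEffCartierIdeal (j.ker.comap b) := hcomap.symm ▸ hι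
    refine BlowUpLib.isBlowUp_of_cover (fun k : {k // Good k} => (eX k.1).opensRange)
      (top_le_iff.1 fun x _ => ?_) heff fun k => ?_
    · obtain ⟨k, hk, hxk⟩ := hgood x
      exact TopologicalSpace.Opens.mem_iSup.2 ⟨⟨k, hk⟩, hxk⟩
    obtain ⟨k, hk, a, ha, hpa⟩ := k
    obtain ⟨hmap, hsub⟩ := PinchBl13.map_g_ker k.sq a hpa
    letI : Algebra k.C Γ(Xt, k.U) := k.sq.g.toAlgebra
    have h0 : BlowUp.IsBlowUp (sp k.sq.g) (Curv2.idealSheaf k.C (RingHom.ker k.sq.f)) :=
      BlowUpLib.isBlowUp_of_extension k.C Γ(Xt, k.U) (PinchBl13.g_injective k.sq (hq k)) _ hsub a ha hmap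
    let τ := (eX k).isoOpensRange
    have h1 : BlowUp.IsBlowUp (sp k.sq.g ≫ τ.hom) (j.ker.comap (eX k).opensRange.ι) :=
      BlowUpLib.isBlowUp_of_iso_right τ.hom _ (by
        rw [← Scheme.IdealSheafData.comap_comp, Scheme.Hom.isoOpensRange_hom_ι, hI]) h0
    have hsq : IsPullback (sp k.sq.g ≫ τ.hom) k.hU.fromSpec (eX k).opensRange.ι b :=
      (hX k).of_iso (Iso.refl _) τ (Iso.refl _) (Iso.refl _) (by simp) (by simp)
        (by simp [τ, Scheme.Hom.isoOpensRange_hom_ι]) (by simp)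
    let σ := (isPullback_morphismRestrict b (eX k).opensRange).isoIsPullback _ _ hsq
    have hσ : σ.hom ≫ sp k.sq.g ≫ τ.hom = b ∣_ (eX k).opensRange := IsPullback.isoIsPullback_hom_fst _ _ _ _
    rw [← hσ]
    exact BlowUpLib.isBlowUp_iso_comp σ.hom h1

end Groth.Agent.S14099
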