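import Groth.Statements.S1410
import Groth.Agent.FlatMorH1.Apps

set_option autoImplicit false
universe u
open FlatMor

namespace Groth.Agent.S1410

open AlgebraicGeometry CategoryTheory Limits in
/-- Let f : X → Y be proper with every fibre of dimension at most 1 and with H^1(X_y, O) = 0 for all y,
and assume O_Y → f_* O_X is surjective (checked on affine opens). Then for every base change f' : X'
→ Y' of f, O_{Y'} → f'_* O_{X'} is surjective on every affine open of Y'. -/
theorem result {X Y : Scheme.{u}} (f : X ⟶ Y) [IsProper f]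
    (hdim : ∀ y : Y, topologicalKrullDim ↑(f.fiber y) ≤ 1) (hH1 : ∀ y : Y, Subsingleton (Coh.HH (f.fiber y) (Coh.structureModule (f.fiber y)) 1))
    (hsurj : ∀ U : Y.Opens, IsAffineOpen U → Function.Surjective (f.app U))
    {X' Y' : Scheme.{u}} (f' : X' ⟶ Y') (g' : X' ⟶ X) (g : Y' ⟶ Y) (hc : IsPullback g' f' f g) :
    ∀ U' : Y'.Opens, IsAffineOpen U' → Function.Surjective (f'.app U') := by
  exact fun U' hU' => FlatMorH1.surjective_baseChange f (fun y => by exact_mod_cast hdim y) hH1 hsurj f' g' g hc U' hU'

end Groth.Agent.S1410
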