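import Groth.Statements.S14101
import Mathlib.Data.Nat.Prime.Int
import Mathlib.Order.CompletePartialOrder
import Mathlib.RingTheory.Finiteness.ModuleFinitePresentation
import Mathlib.RingTheory.Invariant.Basic
import Mathlib.RingTheory.PicardGroup
import Mathlib.RingTheory.RegularLocalRing.Defs
import Mathlib.RingTheory.TotallySplit
import Mathlib.RingTheory.Trace.Basic
import Mathlib.Tactic

set_option linter.all false

set_option autoImplicit false
universe u
open CAlg

open scoped TensorProduct

namespace Groth.Agent.S14101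

theorem finite_bad (A : Type*) [CommRing A] [IsNoetherianRing A] (M : Type*) [AddCommGroup M]
    [Module A M] [Module.Finite A M] :
    {p : ℕ | p.Prime ∧ ∃ m : M, m ≠ 0 ∧ (p : A) • m = 0}.Finite := by
  have key : {p : ℕ | p.Prime ∧ ∃ m : M, m ≠ 0 ∧ (p : A) • m = 0} ⊆
      ⋃ P ∈ associatedPrimes A M, {p : ℕ | p.Prime ∧ (p : A) ∈ P} := by
    rintro p ⟨hp, m, hm, hpm⟩
    have : (p : A) ∈ ⋃ P ∈ associatedPrimes A M, (P : Set A) := by
      rw [biUnion_associatedPrimes_eq_zero_divisors]
      exact ⟨m, hm, hpm⟩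
    obtain ⟨P, hP, hpP⟩ := Set.mem_iUnion₂.mp this
    exact Set.mem_iUnion₂.mpr ⟨P, hP, hp, hpP⟩
  refine (Set.Finite.biUnion (associatedPrimes.finite A M) fun P hP => ?_).subset key
  refine Set.Subsingleton.finite fun p hp q hq => ?_
  by_contra hne
  apply hP.isPrime.ne_top
  rw [Ideal.eq_top_iff_one]
  have hc : IsCoprime (p : ℤ) (q : ℤ) := Nat.isCoprime_iff_coprime.mpr ((Nat.coprime_primes hp.1 hq.1).mpr hne)
  obtain ⟨a, b, hab⟩ := hc
  have h1 : (a : A) * (p : A) + (b : A) * (q : A) = 1 := by
    have := congrArg (Int.cast (R := A)) hab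
    push_cast at this; exact this
  exact h1 ▸ add_mem (P.mul_mem_left _ hp.2) (P.mul_mem_left _ hq.2)

theorem core {P A L K : Type*} [CommRing P] [IsDomain P] [CommRing A] [IsDomain A] [Algebra P A]
    [Algebra.FiniteType P A] [Field L] [Algebra P L] [IsFractionRing P L]
    [Field K] [Algebra A K] [IsFractionRing A K] [Algebra L K] [Algebra P K] [IsScalarTower P L K]
    [IsScalarTower P A K] [Algebra.IsSeparable L K] {s : Type*} [Fintype s] [DecidableEq s]
    (b : Module.Basis s L K) (e : s → A) (hbe : ∀ i, b i = algebraMap A K (e i)) :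
    ∃ δ : P, δ ≠ 0 ∧ ∀ p : P, Prime p → ∀ (a : A) (n : ℕ), algebraMap P A p ∣ a ^ n →
      ∃ m : ℕ, algebraMap P A p ∣ algebraMap P A δ ^ m * a := by
  classical
  obtain ⟨gens, hgens⟩ := (inferInstance : Algebra.FiniteType P A).out
  let T : Matrix s s L := Matrix.of fun i j => Algebra.trace L K (b i * b j)
  have hT : T.det ≠ 0 := by
    have h := det_traceForm_ne_zero (K := L) (L := K) b
    have e : (Algebra.traceForm L K).toMatrix b = T := by
      ext i j; simp [T, LinearMap.BilinForm.toMatrix_apply, Algebra.traceForm_apply]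
    exact e ▸ h
  let M : A → Matrix s s L := fun a => Algebra.leftMulMatrix b (algebraMap A K a)
  let fin : Finset L := insert T.det⁻¹
    (((Finset.univ : Finset s).biUnion fun i => Finset.univ.biUnion fun j => {T i j}) ∪
     (gens.biUnion fun g => Finset.univ.biUnion fun i => Finset.univ.biUnion fun j => {M g i j}) ∪
     ((Finset.univ : Finset s).biUnion fun i => {b.repr 1 i}))
  obtain ⟨δ, hδ⟩ := IsLocalization.exist_integer_multiples_of_finset (nonZeroDivisors P) fin
  have hδ0 : (δ : P) ≠ 0 := nonZeroDivisors.ne_zero δ.2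
  refine ⟨δ, hδ0, ?_⟩
  let Q := Localization.Away (δ : P)
  have hδu : IsUnit (algebraMap P L (δ : P)) :=
    isUnit_iff_ne_zero.mpr ((map_ne_zero_iff _ (IsFractionRing.injective P L)).mpr hδ0)
  let j : Q →+* L := IsLocalization.Away.lift (δ : P) hδu
  have hjP : ∀ x : P, j (algebraMap P Q x) = algebraMap P L x := IsLocalization.Away.lift_eq _ hδu
  have hjinj : Function.Injective j := by
    refine (IsLocalization.lift_injective_iff _).mpr fun x y => ⟨fun h => ?_, fun h => ?_⟩
    · rw [IsLocalization.injective _ (powers_le_nonZeroDivisors_of_noZeroDivisors hδ0) h]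
    · rw [IsFractionRing.injective P L h]
  have hfin : ∀ x ∈ fin, x ∈ j.range := by
    intro x hx
    obtain ⟨y, hy⟩ := hδ x hx
    refine ⟨IsLocalization.Away.invSelf (S := Q) (δ : P) * algebraMap P Q y, hδu.mul_left_cancel ?_⟩
    rw [map_mul, ← mul_assoc, ← hjP, ← map_mul, IsLocalization.Away.mul_invSelf, map_one, one_mul, hjP, hy, Algebra.smul_def, hjP]
  have hPK : ∀ x : P, algebraMap A K (algebraMap P A x) = algebraMap L K (algebraMap P L x) := fun x => by
    rw [← IsScalarTower.algebraMap_apply P L K, ← IsScalarTower.algebraMap_apply P A K]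
  have hMadd : ∀ x y, M (x + y) = M x + M y := fun x y => by simp only [M, map_add]
  have hMmul : ∀ x y, M (x * y) = M x * M y := fun x y => by simp only [M, map_mul]
  have hMP : ∀ x : P, M (algebraMap P A x) = Matrix.diagonal fun _ => algebraMap P L x := fun x => by
    simp only [M]
    rw [hPK, AlgHom.commutes]; rfl
  have hM : ∀ a : A, ∀ i k, M a i k ∈ j.range := by
    intro a
    have ha : a ∈ Algebra.adjoin P (gens : Set A) := hgens ▸ Algebra.mem_top
    induction ha using Algebra.adjoin_induction with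
    | mem x hx =>
      intro i k; apply hfin
      simp only [fin, Finset.mem_insert, Finset.mem_union, Finset.mem_biUnion, Finset.mem_singleton]
      exact Or.inr (Or.inl (Or.inr ⟨x, hx, i, Finset.mem_univ _, k, Finset.mem_univ _, rfl⟩))
    | algebraMap r =>
      intro i k
      rw [hMP]
      by_cases h : i = k
      · subst h; rw [Matrix.diagonal_apply_eq, ← hjP]; exact ⟨_, rfl⟩
      · rw [Matrix.diagonal_apply_ne _ h]; exact zero_mem _
    | add x y _ _ hx hy => intro i k; rw [hMadd]; exact add_mem (hx i k) (hy i k)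
    | mul x y _ _ hx hy => intro i k; rw [hMmul, Matrix.mul_apply]; exact sum_mem fun l _ => mul_mem (hx i l) (hy l k)
  choose MQ hMQ using fun a i k => RingHom.mem_range.mp (hM a i k)
  let N : A → Matrix s s Q := fun a => Matrix.of (MQ a)
  have hN : ∀ a, j.mapMatrix (N a) = M a := fun a => by ext i k; exact hMQ a i k
  have hNinj : Function.Injective (j.mapMatrix (m := s)) := Matrix.map_injective hjinj
  have hNpow : ∀ a (n : ℕ), N (a ^ n) = N a ^ n := fun a n => hNinj (by
    rw [map_pow, hN, hN]; simp only [M, map_pow])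
  have hN2 : ∀ (x : P) a, N (algebraMap P A x * a) = Matrix.diagonal (fun _ => algebraMap P Q x) * N a :=
    fun x a => hNinj (by
      rw [map_mul, hN, hN, hMmul, hMP]
      congr 1
      ext i k; by_cases h : i = k
      · subst h; simp [hjP]
      · simp [Matrix.diagonal_apply_ne _ h])
  have hone : ∀ i, b.repr 1 i ∈ j.range := fun i => hfin _ (by
    simp only [fin, Finset.mem_insert, Finset.mem_union, Finset.mem_biUnion, Finset.mem_singleton]
    exact Or.inr (Or.inr ⟨i, Finset.mem_univ _, rfl⟩))
  choose oneQ honeQ using fun i => RingHom.mem_range.mp (hone i)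
  have hTr : ∀ i k, T i k ∈ j.range := fun i k => hfin _ (by
    simp only [fin, Finset.mem_insert, Finset.mem_union, Finset.mem_biUnion, Finset.mem_singleton]
    exact Or.inr (Or.inl (Or.inl ⟨i, Finset.mem_univ _, k, Finset.mem_univ _, rfl⟩)))
  choose TQ hTQ using fun i k => RingHom.mem_range.mp (hTr i k)
  obtain ⟨dinv, hdinv⟩ : T.det⁻¹ ∈ j.range := hfin _ (Finset.mem_insert_self _ _)
  have hdet : IsUnit (Matrix.of TQ).det := by
    refine IsUnit.of_mul_eq_one dinv (hjinj ?_)
    have hmap : j.mapMatrix (Matrix.of TQ) = T := by ext i k; exact hTQ i k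
    rw [map_mul, RingHom.map_det, hmap, hdinv, map_one, mul_inv_cancel₀ hT]
  intro p hp a n hdvd
  obtain ⟨c, hc⟩ := hdvd
  let IP : Ideal Q := Ideal.span {algebraMap P Q p}
  haveI hred : IsReduced (Q ⧸ IP) := by
    rw [← Ideal.isRadical_iff_quotient_reduced]
    have hmap : IP = (Ideal.span {p}).map (algebraMap P Q) := by
      rw [Ideal.map_span, Set.image_singleton]
    by_cases hd : Disjoint (Submonoid.powers (δ : P) : Set P) (Ideal.span {p} : Set P)
    · rw [hmap]
      exact (IsLocalization.isPrime_of_isPrime_disjoint (Submonoid.powers (δ : P)) Q _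
        ((Ideal.span_singleton_prime hp.ne_zero).mpr hp) hd).isRadical
    · obtain ⟨x, hx1, hx2⟩ := Set.not_disjoint_iff.mp hd
      have : IP = ⊤ := Ideal.eq_top_of_isUnit_mem _ (hmap ▸ Ideal.mem_map_of_mem _ hx2) (IsLocalization.map_units Q ⟨x, hx1⟩)
      rw [this]
      exact fun x _ => Submodule.mem_top
  let π : Q →+* Q ⧸ IP := Ideal.Quotient.mk IP
  have hπp : π (algebraMap P Q p) = 0 := Ideal.Quotient.eq_zero_iff_mem.mpr (Ideal.mem_span_singleton_self _)
  have hzero : ∀ k, π (N (a * e k)).trace = 0 := by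
    intro k
    refine isNilpotent_iff_eq_zero.mp ?_
    rw [show π (N (a * e k)).trace = (π.mapMatrix (N (a * e k))).trace by
      simp [Matrix.trace, map_sum]]
    refine Matrix.isNilpotent_trace_of_isNilpotent ⟨n, ?_⟩
    rw [← map_pow, ← hNpow, mul_pow, hc, mul_assoc, hN2]
    ext i l
    rw [RingHom.mapMatrix_apply, Matrix.map_apply, Matrix.diagonal_mul, map_mul, hπp, zero_mul]
    rfl
  let cQ : s → Q := fun i => ∑ l, N a i l * oneQ l
  have hcQ : ∀ i, j (cQ i) = b.repr (algebraMap A K a) i := by
    intro i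
    have h := Algebra.leftMulMatrix_mulVec_repr b (algebraMap A K a) 1
    rw [mul_one] at h
    rw [← h]
    simp [cQ, Matrix.mulVec, dotProduct, map_sum, N, hMQ, honeQ, M]
  have hTc : ∀ k, ∑ i, TQ k i * cQ i = (N (a * e k)).trace := by
    intro k
    apply hjinj
    have h1 : j (N (a * e k)).trace = (M (a * e k)).trace := by
      rw [← hN]; simp [Matrix.trace, map_sum]
    have h2 : (M (a * e k)).trace = Algebra.trace L K (algebraMap A K a * b k) := by
      rw [hbe, ← map_mul, Algebra.trace_eq_matrix_trace b]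
    rw [h1, h2, map_sum]
    conv_rhs => rw [← b.sum_repr (algebraMap A K a), Finset.sum_mul, map_sum]
    refine Finset.sum_congr rfl fun i _ => ?_
    rw [map_mul, hTQ, hcQ, smul_mul_assoc, map_smul, smul_eq_mul, mul_comm]
    simp only [T, Matrix.of_apply]
    rw [mul_comm (b k)]
  have hc0 : ∀ i, π (cQ i) = 0 := by
    have hu : IsUnit (π.mapMatrix (Matrix.of TQ)) :=
      ((Matrix.isUnit_iff_isUnit_det _).mpr hdet).map _
    have h0 : (π.mapMatrix (Matrix.of TQ)).mulVec (fun i => π (cQ i)) = 0 := by
      ext k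
      simp only [Matrix.mulVec, dotProduct, RingHom.mapMatrix_apply, Matrix.map_apply, Matrix.of_apply, ← map_mul, ← map_sum, hTc, hzero, Pi.zero_apply]
    exact congrFun (Matrix.mulVec_injective_of_isUnit hu (h0.trans (Matrix.mulVec_zero _).symm))
  choose d hd using fun i => Ideal.mem_span_singleton'.mp (Ideal.Quotient.eq_zero_iff_mem.mp (hc0 i))
  obtain ⟨⟨_, m, rfl⟩, hm⟩ := IsLocalization.exist_integer_multiples_of_finite (Submonoid.powers (δ : P)) d
  choose f hf using hm
  refine ⟨m, ∑ i, algebraMap P A (f i) * e i, IsFractionRing.injective A K ?_⟩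
  have hi : ∀ i, algebraMap P L (δ : P) ^ m * b.repr (algebraMap A K a) i = algebraMap P L p * algebraMap P L (f i) := by
    intro i
    rw [← hcQ, ← hd, map_mul, hjP, ← hjP (f i), hf i, Algebra.smul_def, map_mul, hjP]
    simp only [map_pow]
    ring
  simp only [map_mul, map_pow, map_sum, hPK, ← hbe]
  conv_lhs => rw [← b.sum_repr (algebraMap A K a)]
  rw [Finset.mul_sum, Finset.mul_sum]
  refine Finset.sum_congr rfl fun i _ => ?_
  rw [Algebra.smul_def, ← mul_assoc, ← map_pow, ← map_mul, hi, map_mul, mul_assoc]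

theorem domain_good (A : Type*) [CommRing A] [IsDomain A] [Algebra.FiniteType ℤ A] :
    ∃ E : Set ℕ, E.Finite ∧ ∀ p : ℕ, p.Prime → p ∉ E → ∀ (a : A) (n : ℕ), (p : A) ∣ a ^ n → (p : A) ∣ a := by
  classical
  obtain ⟨q, hq⟩ := CharP.exists A
  rcases eq_or_ne q 0 with rfl | hq0
  swap
  · refine ⟨{q}, Set.finite_singleton q, fun p hp hpE a n _ => ?_⟩
    have hqp : q.Prime := (CharP.char_is_prime_or_zero A q).resolve_right hq0
    obtain ⟨x, y, hxy⟩ := Nat.isCoprime_iff_coprime.mpr ((Nat.coprime_primes hp hqp).mpr hpE)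
    have := congrArg (Int.cast (R := A)) hxy
    push_cast at this
    rw [CharP.cast_eq_zero A q, mul_zero, add_zero] at this
    exact (IsUnit.of_mul_eq_one_right _ this).dvd
  haveI : CharZero A := CharP.charP_to_charZero A
  haveI : FaithfulSMul ℤ A := (faithfulSMul_iff_algebraMap_injective ℤ A).mpr Int.cast_injective
  haveI : IsNoetherianRing A := Algebra.FiniteType.isNoetherianRing ℤ A
  obtain ⟨t, ht⟩ := exists_isTranscendenceBasis ℤ A
  set P := Algebra.adjoin ℤ (Set.range ((↑) : t → A)) with hP
  haveI hPA : Algebra.IsAlgebraic P A := ht.isAlgebraic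
  haveI : CharZero P := charZero_of_injective_algebraMap (R := ℤ) fun x y h => Int.cast_injective (congrArg Subtype.val h : ((x : ℤ) : A) = y)
  haveI : CharZero (FractionRing P) := charZero_of_injective_ringHom (IsFractionRing.injective P (FractionRing P))
  let L := FractionRing P
  let K := FractionRing A
  haveI : FaithfulSMul P K := (faithfulSMul_iff_algebraMap_injective P K).mpr (by
    rw [IsScalarTower.algebraMap_eq P A K]
    exact (IsFractionRing.injective A K).comp Subtype.val_injective)
  letI : Algebra L K := FractionRing.liftAlgebra P K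
  haveI : Algebra.FiniteType P A := Algebra.FiniteType.of_restrictScalars_finiteType ℤ P A
  obtain ⟨gens, hgens⟩ := (inferInstance : Algebra.FiniteType ℤ A).out
  have halg : ∀ a : A, IsIntegral L (algebraMap A K a) := fun a => by
    have h : IsAlgebraic P (algebraMap A K a) := (Algebra.IsAlgebraic.isAlgebraic (R := P) a).algebraMap
    exact ((IsFractionRing.isAlgebraic_iff P L K).mp h).isIntegral
  let S' : Subalgebra L K := Algebra.adjoin L ((gens.image (algebraMap A K) : Finset K) : Set K)
  haveI hfd : FiniteDimensional L S' :=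
    Module.Finite.iff_fg.mpr (fg_adjoin_of_finite (Finset.finite_toSet _) fun x hx => by
      obtain ⟨a, -, rfl⟩ := Finset.mem_image.mp hx; exact halg a)
  have hAS : ∀ a : A, algebraMap A K a ∈ S' := fun a => by
    have ha : a ∈ Algebra.adjoin ℤ (gens : Set A) := hgens ▸ Algebra.mem_top
    induction ha using Algebra.adjoin_induction with
    | mem x hx => exact Algebra.subset_adjoin (Finset.mem_image_of_mem _ hx)
    | algebraMap r => simp
    | add x y _ _ hx hy => rw [map_add]; exact add_mem hx hy
    | mul x y _ _ hx hy => rw [map_mul]; exact mul_mem hx hy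
  have hS : S' = ⊤ := by
    refine eq_top_iff.mpr fun z _ => ?_
    obtain ⟨a, s, -, rfl⟩ := IsFractionRing.div_surjective A z
    rw [div_eq_mul_inv]
    exact mul_mem (hAS a) (Subalgebra.inv_mem_of_algebraic S' (x := ⟨_, hAS s⟩) (halg s).isAlgebraic)
  haveI : FiniteDimensional L K :=
    Module.Finite.equiv ((Subalgebra.equivOfEq _ _ hS).trans Subalgebra.topEquiv).toLinearEquiv
  have hKA : Submodule.span L (Set.range (algebraMap A K)) = ⊤ := by
    refine eq_top_iff.mpr fun z _ => ?_
    have hz : z ∈ S' := hS ▸ Algebra.mem_top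
    induction hz using Algebra.adjoin_induction with
    | mem x hx =>
      obtain ⟨a, -, rfl⟩ := Finset.mem_image.mp hx
      exact Submodule.subset_span ⟨a, rfl⟩
    | algebraMap r =>
      rw [Algebra.algebraMap_eq_smul_one]
      exact Submodule.smul_mem _ _ (Submodule.subset_span ⟨1, map_one _⟩)
    | add x y _ _ hx hy => exact add_mem (hx trivial) (hy trivial)
    | mul x y _ _ hx hy =>
      have h := Submodule.mul_mem_mul (hx trivial) (hy trivial)
      rw [Submodule.span_mul_span] at h
      refine Submodule.span_mono ?_ h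
      rintro _ ⟨_, ⟨a, rfl⟩, _, ⟨b, rfl⟩, rfl⟩
      exact ⟨a * b, map_mul _ _ _⟩
  obtain ⟨s, hs, hspan, hli⟩ := exists_linearIndependent L (Set.range (algebraMap A K))
  let b : Module.Basis s L K := Module.Basis.mk hli (by rw [Subtype.range_coe, hspan]; exact hKA.ge)
  haveI : Fintype s := FiniteDimensional.fintypeBasisIndex b
  choose e he using fun i : s => hs i.2
  obtain ⟨δ, hδ0, hδ⟩ := core (P := P) (A := A) (L := L) (K := K) b e fun i => by rw [he, Module.Basis.mk_apply]
  have hδA : (δ : A) ≠ 0 := fun h => hδ0 (Subtype.ext h)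
  refine ⟨_, (finite_bad A (A ⧸ Ideal.span {(δ : A)})), fun p hp hpE a n hdvd => ?_⟩
  have hgood : ∀ x : A, (p : A) ∣ (δ : A) * x → (p : A) ∣ x := by
    rintro x ⟨y, hxy⟩
    by_contra hx
    refine hpE ⟨hp, Ideal.Quotient.mk _ y, fun h => hx ?_, ?_⟩
    · obtain ⟨z, hz⟩ := Ideal.mem_span_singleton.mp (Ideal.Quotient.eq_zero_iff_mem.mp h)
      exact ⟨z, mul_left_cancel₀ hδA (by rw [hxy, hz]; ring)⟩
    · rw [Algebra.smul_def, Ideal.Quotient.algebraMap_eq, ← map_mul, Ideal.Quotient.eq_zero_iff_mem, ← hxy]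
      exact Ideal.mem_span_singleton'.mpr ⟨x, mul_comm _ _⟩
  have hprime : Prime (p : P) := by
    rw [← MulEquiv.prime_iff ht.1.aevalEquiv.symm.toMulEquiv]
    show Prime (ht.1.aevalEquiv.symm (p : P))
    rw [map_natCast, ← map_natCast (MvPolynomial.C (σ := t) (R := ℤ))]
    exact (MvPolynomial.prime_C_iff _).mpr (Nat.prime_iff_prime_int.mp hp)
  obtain ⟨m, hm⟩ := hδ (p : P) hprime a n (by simpa using hdvd)
  have hm' : (p : A) ∣ (δ : A) ^ m * a := by simpa using hm
  clear hm hdvd
  induction m with
  | zero => simpa using hm'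
  | succ m ih => exact ih (hgood _ (by rwa [← mul_assoc, ← pow_succ']))

/-- Affine form — let A be a reduced commutative ring of finite type over ℤ. Then for all but finitely
many prime numbers p the reduction A/pA is reduced. (The published statement is for a reduced scheme
of finite type over ℤ; such a scheme has a finite affine open cover, so the affine form carries the
same content.) -/
theorem result
    (A : Type u) [CommRing A] [Algebra.FiniteType ℤ A] [IsReduced A] :
    {p : ℕ | p.Prime ∧ ¬ IsReduced (A ⧸ Ideal.span {(p : A)})}.Finite := by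
  classical
  haveI : IsNoetherianRing A := Algebra.FiniteType.isNoetherianRing ℤ A
  let ι := {P : Ideal A // P ∈ minimalPrimes A}
  haveI : Finite ι := (minimalPrimes.finite_of_isNoetherianRing A).to_subtype
  haveI : ∀ P : ι, P.1.IsPrime := fun P => P.2.1.1
  let Φ : A →ₗ[A] ((P : ι) → A ⧸ P.1) := LinearMap.pi fun P => P.1.mkQ
  have hΦ : Function.Injective Φ := by
    rw [injective_iff_map_eq_zero]
    intro a ha
    refine isNilpotent_iff_eq_zero.mp ?_
    rw [← mem_nilradical, nilradical_eq_sInf, Submodule.mem_sInf]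
    intro (P : Ideal A) (hP : P.IsPrime)
    obtain ⟨Q, hQ, hQP⟩ := Ideal.exists_minimalPrimes_le (bot_le : ⊥ ≤ P)
    exact hQP ((Submodule.Quotient.mk_eq_zero Q).mp (congrFun ha ⟨Q, hQ⟩))
  choose E hE hE' using fun P : ι => @domain_good (A ⧸ P.1) _ _
    (Algebra.FiniteType.of_surjective (Ideal.Quotient.mk P.1).toIntAlgHom Ideal.Quotient.mk_surjective)
  refine (Set.Finite.union (finite_bad A (((P : ι) → A ⧸ P.1) ⧸ LinearMap.range Φ)) (Set.finite_iUnion hE)).subset ?_
  rintro p ⟨hp, hnr⟩
  by_contra hpU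
  simp only [Set.mem_union, Set.mem_iUnion, not_or, not_exists] at hpU
  apply hnr
  rw [← Ideal.isRadical_iff_quotient_reduced]
  rintro a ⟨n, hn⟩
  rw [Ideal.mem_span_singleton] at hn ⊢
  have h : ∀ P : ι, ∃ y : A, a - (p : A) * y ∈ P.1 := by
    intro P
    obtain ⟨z, hz⟩ := hE' P p hp (hpU.2 P) (Ideal.Quotient.mk P.1 a) n (by
      simpa using map_dvd (Ideal.Quotient.mk P.1) hn)
    obtain ⟨y, rfl⟩ := Ideal.Quotient.mk_surjective z
    exact ⟨y, by rw [← Ideal.Quotient.eq_zero_iff_mem, map_sub, map_mul, map_natCast, hz, sub_self]⟩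
  choose y hy using h
  let Y : (P : ι) → A ⧸ P.1 := fun P => Submodule.Quotient.mk (y P)
  have hY : (p : A) • Y = Φ a := funext fun P => ((Submodule.Quotient.eq _).mpr (hy P)).symm
  have hYr : Y ∈ LinearMap.range Φ := by
    by_contra hY'
    exact hpU.1 ⟨hp, Submodule.Quotient.mk Y, fun h => hY' ((Submodule.Quotient.mk_eq_zero _).mp h), by
      rw [← Submodule.Quotient.mk_smul, hY]
      exact (Submodule.Quotient.mk_eq_zero _).mpr ⟨a, rfl⟩⟩
  obtain ⟨c, hc⟩ := hYr
  exact ⟨c, hΦ (by rw [← smul_eq_mul, map_smul, hc, hY])⟩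

end Groth.Agent.S14101
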