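import Groth.Statements.S14102
import Groth.Agent.S14100
import Mathlib.RingTheory.Flat.Basic
import Mathlib.RingTheory.Filtration
import Mathlib.Data.Int.Interval
import Mathlib.Algebra.Homology.ShortComplex.ModuleCat

set_option autoImplicit false
set_option backward.isDefEq.respectTransparency false
set_option linter.style.haveILetI false
universe w u
open CategoryTheory CategoryTheory.Limits

namespace Groth.Agent.S14102

open MonoidalCategory HomologicalComplex
open scoped TensorProduct

variable {A : Type u} [CommRing A]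

section
variable (K : CochainComplex (ModuleCat.{u} A) ℤ) (J : Ideal A)

noncomputable abbrev T (k : ℕ) : CochainComplex (ModuleCat.{u} A) ℤ :=
  (((curriedTensor (ModuleCat.{u} A)).obj (ModuleCat.of A ↥(J ^ k))).mapHomologicalComplex (ComplexShape.up ℤ)).obj K

noncomputable abbrev inclM {u' v : ℕ} (h : v ≤ u') : ModuleCat.of A ↥(J ^ u') ⟶ ModuleCat.of A ↥(J ^ v) :=
  ModuleCat.ofHom (Submodule.inclusion (p := J ^ u') (p' := J ^ v) (Ideal.pow_le_pow_right h))

noncomputable abbrev incl {u' v : ℕ} (h : v ≤ u') : T K J u' ⟶ T K J v :=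
  (NatTrans.mapHomologicalComplex ((curriedTensor (ModuleCat.{u} A)).map (inclM J h)) (ComplexShape.up ℤ)).app K

lemma incl_self (v : ℕ) (h : v ≤ v) : incl K J h = 𝟙 (T K J v) := by
  refine HomologicalComplex.hom_ext _ _ fun n => ?_
  exact MonoidalCategory.id_whiskerRight _ (K.X n)

lemma incl_comp {p q r : ℕ} (h₁ : r ≤ q) (h₂ : q ≤ p) (h₃ : r ≤ p) :
    incl K J h₂ ≫ incl K J h₁ = incl K J h₃ := by
  refine HomologicalComplex.hom_ext _ _ fun n => ?_
  exact (MonoidalCategory.comp_whiskerRight (inclM J h₂) (inclM J h₁) (K.X n)).symm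

/-- `x ⊗ y ↦ x • y`. -/
noncomputable def μ (k : ℕ) (q : ℤ) : ↥(J ^ k) ⊗[A] K.X q →ₗ[A] K.X q :=
  (TensorProduct.lid A (K.X q)).toLinearMap ∘ₗ LinearMap.rTensor (K.X q) (J ^ k).subtype

lemma μ_mem (k : ℕ) (q : ℤ) (t : ↥(J ^ k) ⊗[A] K.X q) : μ K J k q t ∈ J ^ k • (⊤ : Submodule A (K.X q)) := by
  induction t using TensorProduct.induction_on with
  | zero => simp
  | tmul x y => simpa [μ] using Submodule.smul_mem_smul x.2 Submodule.mem_top
  | add x y hx hy => simpa using add_mem hx hy

lemma μ_surj (k : ℕ) (q : ℤ) {z : K.X q} (hz : z ∈ J ^ k • (⊤ : Submodule A (K.X q))) :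
    ∃ t, μ K J k q t = z := by
  induction hz using Submodule.smul_induction_on' with
  | smul r hr y hy => exact ⟨(⟨r, hr⟩ : ↥(J ^ k)) ⊗ₜ y, by simp [μ]⟩
  | add x hx y hy ihx ihy =>
    obtain ⟨s, rfl⟩ := ihx
    obtain ⟨t, rfl⟩ := ihy
    exact ⟨s + t, map_add _ _ _⟩

lemma μ_d (k : ℕ) (p q : ℤ) (t : ↥(J ^ k) ⊗[A] K.X p) :
    μ K J k q ((T K J k).d p q t) = K.d p q (μ K J k p t) := by
  induction t using TensorProduct.induction_on with
  | zero => simp
  | tmul x y =>
    show μ K J k q (x ⊗ₜ K.d p q y) = K.d p q (μ K J k p (x ⊗ₜ y))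
    simp [μ]
  | add x y hx hy => exact ((congrArg (μ K J _ q) (map_add _ x y)).trans (map_add _ _ _)).trans ((congrArg₂ (· + ·) hx hy).trans (by simp [map_add]))

lemma μ_incl {u' v : ℕ} (h : v ≤ u') (q : ℤ) (t : ↥(J ^ u') ⊗[A] K.X q) :
    μ K J v q ((incl K J h).f q t) = μ K J u' q t := by
  induction t using TensorProduct.induction_on with
  | zero => simp
  | tmul x y =>
    show μ K J v q (Submodule.inclusion (p := J ^ u') (p' := J ^ v) (Ideal.pow_le_pow_right h) x ⊗ₜ y) = μ K J u' q (x ⊗ₜ y)
    simp [μ]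
  | add x y hx hy => exact ((congrArg (μ K J _ q) (map_add _ x y)).trans (map_add _ _ _)).trans ((congrArg₂ (· + ·) hx hy).trans (by simp [map_add]))

lemma μ_injective (k : ℕ) (q : ℤ) [Module.Flat A (K.X q)] : Function.Injective (μ K J k q) :=
  (TensorProduct.lid A (K.X q)).injective.comp
    (Module.Flat.rTensor_preserves_injective_linearMap _ (J ^ k).subtype_injective)

/-- `J` maps cycles to boundaries. -/
lemma smul_ker_le (hJ : ∀ q : ℤ, ∀ x ∈ J, ∀ c : ↑(K.homology q), x • c = 0) (q : ℤ) :
    J • LinearMap.ker (K.d q (q + 1)).hom ≤ LinearMap.range (K.d (q - 1) q).hom := by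
  refine Submodule.smul_le.2 fun r hr z hz => ?_
  let S := ShortComplex.mk (K.toCycles (q - 1) q) (K.homologyπ q) (K.toCycles_comp_homologyπ _ _)
  have hS : S.Exact := ShortComplex.exact_of_g_is_cokernel _ (K.homologyIsCokernel (q - 1) q (by simp))
  obtain ⟨c, hc⟩ : ∃ c : K.cycles q, K.iCycles q c = z := by
    let g : ModuleCat.of A A ⟶ K.X q := ModuleCat.ofHom (LinearMap.toSpanSingleton A _ z)
    have hg : g ≫ K.d q (q + 1) = 0 := ModuleCat.hom_ext (LinearMap.ext_ring (by simpa [g] using hz))
    refine ⟨K.liftCycles g (q + 1) (by simp) hg (1 : A), ?_⟩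
    exact (ConcreteCategory.congr_hom (K.liftCycles_i g (q + 1) (by simp) hg) (1 : A)).trans
      (one_smul A z)
  obtain ⟨w, hw⟩ := (ShortComplex.moduleCat_exact_iff S).1 hS (r • c) (by
    show K.homologyπ q (r • c) = 0
    rw [map_smul]
    exact hJ q r hr _)
  refine ⟨w, ?_⟩
  rw [← hc, ← map_smul, ← hw]
  exact (ConcreteCategory.congr_hom (K.toCycles_i (q - 1) q) w).symm

/-- The Artin-Rees step. -/
lemma exists_primitive [∀ q, Module.Flat A (K.X q)]
    (hJ : ∀ q : ℤ, ∀ x ∈ J, ∀ c : ↑(K.homology q), x • c = 0) {k u' v : ℕ} (q : ℤ)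
    (hk : ∀ i ≥ k, J ^ i • (⊤ : Submodule A (K.X q)) ⊓ LinearMap.ker (K.d q (q + 1)).hom =
      J ^ (i - k) • (J ^ k • ⊤ ⊓ LinearMap.ker (K.d q (q + 1)).hom))
    (h : v + k + 1 ≤ u') (t : ↥(J ^ u') ⊗[A] K.X q) (ht : (T K J u').d q (q + 1) t = 0) :
    ∃ s, (T K J v).d (q - 1) q s = (incl K J (u' := u') (v := v) (by omega)).f q t := by
  have hker : μ K J u' q t ∈ LinearMap.ker (K.d q (q + 1)).hom := by
    show K.d q (q + 1) (μ K J u' q t) = 0
    rw [← μ_d, ht, map_zero]
  have hz : μ K J u' q t ∈ J ^ v • (J • LinearMap.ker (K.d q (q + 1)).hom) := by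
    have hm : μ K J u' q t ∈ J ^ u' • (⊤ : Submodule A (K.X q)) ⊓ LinearMap.ker (K.d q (q + 1)).hom :=
      ⟨μ_mem K J u' q t, hker⟩
    rw [hk u' (by omega)] at hm
    rw [← Submodule.mul_smul, ← pow_succ]
    exact Submodule.smul_mono (Ideal.pow_le_pow_right (by omega)) inf_le_right hm
  have hz' : μ K J u' q t ∈ Submodule.map (K.d (q - 1) q).hom (J ^ v • ⊤) := by
    rw [Submodule.map_smul'', Submodule.map_top]
    exact Submodule.smul_mono le_rfl (smul_ker_le K J hJ q) hz
  obtain ⟨w, hw, hwz⟩ := hz'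
  obtain ⟨s, rfl⟩ := μ_surj K J v (q - 1) hw
  refine ⟨s, μ_injective K J v q ?_⟩
  rw [μ_d, μ_incl]
  exact hwz

lemma homologyMap_incl [∀ q, Module.Flat A (K.X q)]
    (hJ : ∀ q : ℤ, ∀ x ∈ J, ∀ c : ↑(K.homology q), x • c = 0) {k u' v : ℕ} (q : ℤ)
    (hk : ∀ i ≥ k, J ^ i • (⊤ : Submodule A (K.X q)) ⊓ LinearMap.ker (K.d q (q + 1)).hom =
      J ^ (i - k) • (J ^ k • ⊤ ⊓ LinearMap.ker (K.d q (q + 1)).hom))
    (h : v + k + 1 ≤ u') : homologyMap (incl K J (u' := u') (v := v) (by omega)) q = 0 := by
  rw [← cancel_epi ((T K J u').homologyπ q), homologyπ_naturality, comp_zero]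
  refine ModuleCat.hom_ext (LinearMap.ext fun x => ?_)
  show (T K J v).homologyπ q (cyclesMap (incl K J (u' := u') (v := v) (by omega)) q x) = 0
  obtain ⟨s, hs⟩ := exists_primitive K J hJ q hk h ((T K J u').iCycles q x)
    (ConcreteCategory.congr_hom ((T K J u').iCycles_d q (q + 1)) x)
  have : cyclesMap (incl K J (u' := u') (v := v) (by omega)) q x = (T K J v).toCycles (q - 1) q s := by
    refine (ModuleCat.mono_iff_injective ((T K J v).iCycles q)).1 inferInstance ?_
    exact (ConcreteCategory.congr_hom (cyclesMap_i (incl K J (u' := u') (v := v) (by omega)) q) x).trans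
      (hs.symm.trans (ConcreteCategory.congr_hom ((T K J v).toCycles_i (q - 1) q) s).symm)
  rw [this]
  exact ConcreteCategory.congr_hom ((T K J v).toCycles_comp_homologyπ (q - 1) q) s

variable [HasDerivedCategory.{w} (ModuleCat.{u} A)]

/-- The decreasing chain of complexes. -/
noncomputable def chain (e : ℕ → ℕ) (he : Antitone e) : ℕ ⥤ DerivedCategory (ModuleCat.{u} A) where
  obj i := DerivedCategory.Q.obj (T K J (e i))
  map {i j} f := DerivedCategory.Q.map (incl K J (he (leOfHom f)))
  map_id i := (congrArg DerivedCategory.Q.map (incl_self K J _ _)).trans (DerivedCategory.Q.map_id _)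
  map_comp f g := (congrArg DerivedCategory.Q.map (incl_comp K J (he (leOfHom g)) (he (leOfHom f)) _).symm).trans
    (DerivedCategory.Q.map_comp _ _)

lemma map_incl_eq_zero [IsNoetherianRing A] [∀ q, Module.Finite A (K.X q)] [∀ q, Module.Flat A (K.X q)]
    (a b : ℤ) (hK : ∀ q : ℤ, q < a ∨ b < q → IsZero (K.X q))
    (hJ : ∀ q : ℤ, ∀ x ∈ J, ∀ c : ↑(K.homology q), x • c = 0) :
    ∃ n : ℕ, ∀ m : ℕ, ∀ (h : m ≤ n + m), DerivedCategory.Q.map (incl K J (u' := n + m) (v := m) h) = 0 := by
  choose k hk using fun q : ℤ => Ideal.exists_pow_inf_eq_pow_smul J (LinearMap.ker (K.d q (q + 1)).hom)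
  let c := (Finset.Icc a b).sup k + 1
  let n₀ := (b - a).toNat
  refine ⟨(n₀ + 1) * c, fun m h => ?_⟩
  let e : ℕ → ℕ := fun i => (n₀ + 1 - i) * c + m
  have he : Antitone e := fun i j hij => Nat.add_le_add_right (Nat.mul_le_mul_right c (by omega)) m
  have hX : ∀ i q, (q < a ∨ b < q) → IsZero ((T K J (e i)).X q) := fun i q hq =>
    ((curriedTensor (ModuleCat.{u} A)).obj _).map_isZero (hK q hq)
  have hH : ∀ i q, (q < a ∨ b < q) →
      IsZero ((DerivedCategory.homologyFunctor _ q).obj ((chain K J e he).obj i)) := fun i q hq =>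
    ((exactAt_iff_isZero_homology _ _).1 (ExactAt.of_isZero (hX i q hq))).of_iso
      ((DerivedCategory.homologyFunctorFactors _ q).app (T K J (e i)) :
        (DerivedCategory.homologyFunctor _ q).obj ((chain K J e he).obj i) ≅ (T K J (e i)).homology q)
  have key := Groth.Agent.S14100.result (ModuleCat.{u} A) a n₀ (chain K J e he)
    (fun i _ => (DerivedCategory.isGE_iff _ a).2 fun q hq => hH i q (Or.inl hq))
    (fun i _ => (DerivedCategory.isLE_iff _ _).2 fun q hq => hH i q (Or.inr (by omega)))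
    (fun i hi q => by
      have hstep : e (i + 1) + c = e i := by
        simp only [e]
        rw [show n₀ + 1 - i = (n₀ + 1 - (i + 1)) + 1 by omega, Nat.add_mul]
        omega
      have h0 : homologyMap (incl K J (he (Nat.le_succ i))) q = 0 := by
        by_cases hq : q < a ∨ b < q
        · exact ((exactAt_iff_isZero_homology _ _).1 (ExactAt.of_isZero (hX i q hq))).eq_of_src _ _
        · have : k q + 1 ≤ c := Nat.succ_le_succ (Finset.le_sup (Finset.mem_Icc.2 (by omega)))
          have : e i.succ + c = e i := hstep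
          exact homologyMap_incl K J hJ q (hk q) (by omega)
      show (DerivedCategory.homologyFunctor _ q).map (DerivedCategory.Q.map (incl K J (he (Nat.le_succ i)))) = 0
      rw [← cancel_mono ((DerivedCategory.homologyFunctorFactors (ModuleCat.{u} A) q).hom.app _), zero_comp]
      refine ((DerivedCategory.homologyFunctorFactors (ModuleCat.{u} A) q).hom.naturality _).trans ?_
      show _ ≫ homologyMap _ q = 0
      rw [h0, comp_zero])
  have gen : ∀ (v : ℕ) (hv : v = m) (h' : v ≤ (n₀ + 1) * c + m),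
      DerivedCategory.Q.map (incl K J h') = 0 → DerivedCategory.Q.map (incl K J h) = 0 := by
    intro v hv h' h0
    subst hv
    exact h0
  exact gen (e (n₀ + 1)) (by simp [e]) (he (Nat.zero_le _)) key

end

open CategoryTheory MonoidalCategory in
/-- Affine form — let A be a Noetherian commutative ring, K a bounded cochain complex of finitely
generated projective A-modules and J an ideal of A that annihilates every cohomology module of K.
Then for some natural number n and every positive integer m, the map J^(n+m) ⊗_A K → J^m ⊗_A K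
induced by the inclusion of ideals is zero in the derived category of A-modules. (The published
statement is for a perfect complex on a noetherian scheme or formal scheme with the derived tensor
product; over an affine scheme a perfect complex is represented by a bounded complex of finitely
generated projective modules, for which the derived tensor product with J^m is the termwise tensor
product used here.) -/
theorem result
    (A : Type u) [CommRing A] [IsNoetherianRing A] [HasDerivedCategory.{w} (ModuleCat.{u} A)]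
    (K : CochainComplex (ModuleCat.{u} A) ℤ) (a b : ℤ)
    (hK : ∀ q : ℤ, q < a ∨ b < q → Limits.IsZero (K.X q))
    (hfin : ∀ q : ℤ, Module.Finite A (K.X q)) (hproj : ∀ q : ℤ, Module.Projective A (K.X q))
    (J : Ideal A) (hJ : ∀ q : ℤ, ∀ x ∈ J, ∀ c : ↑(K.homology q), x • c = 0) :
    ∃ n : ℕ, ∀ m : ℕ, 0 < m →
      DerivedCategory.Q.map
        ((NatTrans.mapHomologicalComplex
          ((curriedTensor (ModuleCat.{u} A)).map
            (ModuleCat.ofHom (Submodule.inclusion (p := J ^ (n + m)) (p' := J ^ m)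
              (Ideal.pow_le_pow_right (Nat.le_add_left m n)))))
          (ComplexShape.up ℤ)).app K) = 0 := by
  haveI : ∀ q, Module.Finite A (K.X q) := hfin
  haveI : ∀ q, Module.Flat A (K.X q) := fun q => haveI := hproj q; inferInstance
  obtain ⟨n, hn⟩ := map_incl_eq_zero K J a b hK hJ
  exact ⟨n, fun m _ => hn m (Nat.le_add_left m n)⟩

end Groth.Agent.S14102

#print axioms Groth.Agent.S14102.result
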