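import Groth.Statements.S14105
import Mathlib
import Groth.Agent.AlgSpLib.FibreStalkBC
-- import your own Groth.Agent.* helpers here

set_option autoImplicit false
universe u
open CategoryTheory CategoryTheory.Limits AlgebraicGeometry Opposite TopologicalSpace
open CInt

namespace Groth.Agent.S14105

set_option linter.unusedVariables false
set_option backward.isDefEq.respectTransparency.types false

open CategoryTheory CategoryTheory.Limits AlgebraicGeometry
open Groth.Agent.AlgSpLib.FibreStalkBC (fdim fdim_eq exists_maximal_point)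

variable {X X' Y Y' : Scheme.{u}} {g' : X' ⟶ X} {f' : X' ⟶ Y'} {f : X ⟶ Y} {g : Y' ⟶ Y}

lemma noeth_piece {A R K : CommRingCat.{u}} [IsNoetherianRing A] (φ : R ⟶ A) (ψ : R ⟶ K) (hK : IsField K)
    [hψ : IsPreimmersion (Spec.map ψ)] :
    IsLocallyNoetherian (pullback (Spec.map φ) (Spec.map ψ)) := by
  letI := hK.toField
  letI : Algebra R A := φ.hom.toAlgebra
  letI : Algebra R K := ψ.hom.toAlgebra
  have hs := ((IsPreimmersion.SpecMap_iff ψ).1 hψ).2
  haveI : Algebra.EssFiniteType R K := by
    rw [Algebra.essFiniteType_iff]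
    refine ⟨∅, fun s => ?_⟩
    obtain ⟨x, r, c, hc, hr, h⟩ := (RingHom.surjective_localRingHom_iff (f := ψ.hom) ⊥).1 (hs ⊥ Ideal.isPrime_bot) s
    have hc0 : c ≠ 0 := fun h0 => hc (by simp [h0])
    have hr0 : ψ.hom r ≠ 0 := fun h0 => hr (by simp [h0])
    refine ⟨algebraMap R K r, Subalgebra.algebraMap_mem _ r, Ne.isUnit hr0, ?_⟩
    have : ψ.hom r * s = ψ.hom x := mul_left_cancel₀ hc0 (by rw [← mul_assoc]; exact h)
    show s * ψ.hom r ∈ _
    rw [mul_comm, this]
    exact Subalgebra.algebraMap_mem _ x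
  haveI : IsNoetherianRing (TensorProduct R A K) := Algebra.EssFiniteType.isNoetherianRing A _
  exact isLocallyNoetherian_of_isOpenImmersion (pullbackSpecIso R A K).hom

lemma piece {A R : CommRingCat.{u}} {K : Type u} [Field K] (φ : Spec A ⟶ Spec R)
    (κ : Spec (CommRingCat.of K) ⟶ Spec R) (hκ : IsPreimmersion κ) (hA : IsLocallyNoetherian (Spec A)) :
    IsLocallyNoetherian (pullback φ κ) := by
  obtain ⟨φ, rfl⟩ := Spec.map_surjective φ
  obtain ⟨ψ, rfl⟩ := Spec.map_surjective κ
  haveI := isLocallyNoetherian_Spec.1 hA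
  exact noeth_piece φ ψ (Field.toIsField _)

lemma noeth_fiber {X S : Scheme.{u}} (f : X ⟶ S) [IsLocallyNoetherian X] (s : S) :
    IsLocallyNoetherian (f.fiber s) := by
  obtain ⟨j, p, rfl⟩ := S.affineCover.exists_eq s
  let v := S.affineCover.f j
  let κ : Spec (S.residueField (v p)) ⟶ S.affineCover.X j :=
    inv (Spec.map (v.residueFieldMap p)) ≫ (S.affineCover.X j).fromSpecResidueField p
  have hκ : κ ≫ v = S.fromSpecResidueField (v p) := by
    rw [Category.assoc, ← Scheme.Hom.SpecMap_residueFieldMap_fromSpecResidueField, IsIso.inv_hom_id_assoc]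
  haveI : IsPreimmersion (κ ≫ v) := hκ ▸ inferInstance
  haveI : IsPreimmersion κ := IsPreimmersion.of_comp κ v
  haveI : IsLocallyNoetherian (pullback f v) := isLocallyNoetherian_of_isOpenImmersion (pullback.fst f v)
  let 𝒰 := (pullback f v).affineCover
  have hκi : IsPreimmersion κ := ‹IsPreimmersion κ›
  haveI : IsLocallyNoetherian (pullback (pullback.snd f v) κ) := by
    rw [isLocallyNoetherian_iff_openCover (Scheme.Pullback.openCoverOfLeft 𝒰 (pullback.snd f v) κ)]
    intro i
    show IsLocallyNoetherian (pullback (𝒰.f i ≫ pullback.snd f v) κ)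
    haveI : IsLocallyNoetherian (𝒰.X i) := isLocallyNoetherian_of_isOpenImmersion (𝒰.f i)
    exact piece _ _ hκi this
  let e : f.fiber (v p) ≅ pullback (pullback.snd f v) κ :=
    pullback.congrHom rfl hκ.symm ≪≫ (pullbackLeftPullbackSndIso f v κ).symm
  exact isLocallyNoetherian_of_isOpenImmersion e.hom

theorem fibre_map (hc : IsPullback g' f' f g) [IsLocallyNoetherian X] [IsLocallyNoetherian X'] (y' : Y') :
    ∃ q : f'.fiber y' ⟶ f.fiber (g y'), Flat q ∧ IsLocallyNoetherian (f'.fiber y') ∧
      IsLocallyNoetherian (f.fiber (g y')) ∧ q ≫ f.fiberι (g y') = f'.fiberι y' ≫ g' ∧ Surjective q := by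
  have hsq := isPullback_fiberToSpecResidueField_of_isPullback hc y'
  letI : Algebra (Y.residueField (g y')) (Y'.residueField y') := (g.residueFieldMap y').hom.toAlgebra
  have hflat : Flat (Spec.map (g.residueFieldMap y')) := by
    rw [HasRingHomProperty.Spec_iff (P := @Flat)]
    exact (inferInstance : Module.Flat (Y.residueField (g y')) (Y'.residueField y'))
  have hsurj : Surjective (Spec.map (g.residueFieldMap y')) :=
    ⟨fun p => ⟨default, Subsingleton.elim (α := PrimeSpectrum (Y.residueField (g y'))) _ _⟩⟩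
  refine ⟨_, MorphismProperty.of_isPullback hsq.flip hflat,
    noeth_fiber f' y',
    noeth_fiber f (g y'), pullback.lift_fst _ _ _,
    MorphismProperty.of_isPullback hsq.flip hsurj⟩

theorem fdim_le (hc : IsPullback g' f' f g) [IsLocallyNoetherian X] [IsLocallyNoetherian X'] (z : X') : fdim f (g' z) ≤ fdim f' z := by
  obtain ⟨q, hq, hN', hN, hqw, -⟩ := fibre_map hc (f' z)
  show _ ≤ ringKrullDim _
  rw [CAlgH3.FibreCodim.dim_eq_add_fiberStalk q (f'.asFiber z), fdim_eq (f := f) (x := g' z)]
  · exact le_add_of_nonneg_right ringKrullDim_nonneg_of_nontrivial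
  · rw [← Scheme.Hom.comp_apply, hqw, Scheme.Hom.comp_apply, Scheme.Hom.fiberι_asFiber]

theorem exists_fdim_eq (hc : IsPullback g' f' f g) [IsLocallyNoetherian X] [IsLocallyNoetherian X'] (x : X) (y' : Y') (h : f x = g y') :
    ∃ z : X', g' z = x ∧ f' z = y' ∧ fdim f' z = fdim f x := by
  obtain ⟨q, hq, hN', hN, hqw, hqs⟩ := fibre_map hc y'
  obtain ⟨w, hw⟩ : x ∈ Set.range (f.fiberι (g y')) := by rw [f.range_fiberι]; exact h
  obtain ⟨w', hw'⟩ := q.surjective w
  obtain ⟨t, ht⟩ : w' ∈ Set.range (q.fiberι w) := by rw [q.range_fiberι]; exact hw'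
  obtain ⟨η, -, hη⟩ := exists_maximal_point t
  let w'' := q.fiberι w η
  have hq'' : q w'' = w := by
    have := q.range_fiberι w ▸ Set.mem_range_self (f := q.fiberι w) η
    exact this
  have h0 : ringKrullDim (CInt.fiberStalk q w'') = 0 := by
    show fdim q w'' = 0
    rw [← fdim_eq (f := q) w η (x := w'') rfl, ringKrullDim_stalk_eq_coheight, Order.coheight_eq_zero.2 hη]
    rfl
  let z := f'.fiberι y' w''
  have hz2 : f' z = y' := by
    have := f'.range_fiberι y' ▸ Set.mem_range_self (f := f'.fiberι y') w''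
    exact this
  have hz1 : g' z = x := by
    show g' (f'.fiberι y' w'') = x
    rw [← Scheme.Hom.comp_apply, ← hqw, Scheme.Hom.comp_apply, hq'', hw]
  refine ⟨z, hz1, hz2, ?_⟩
  rw [← fdim_eq (f := f') y' w'' (rfl : _ = z), CAlgH3.FibreCodim.dim_eq_add_fiberStalk q w'', h0, add_zero,
    fdim_eq (f := f) (g y') (q w'') (by rw [hq'', hw])]

/-- Let f : X → S be a morphism and g : S' → S a base change, with X, S, S' and X' = X ×_S S' locally
Noetherian, and let Y be a closed subset of X with preimage Y' under the projection X' → X. Writing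
the codimension of a closed subset relative to a morphism as the infimum, over its points, of the
Krull dimension of the local ring of the fibre through that point: the codimension of Y' relative to
X' → S' is at least the codimension of Y relative to f, and the two are equal when the projection X'
→ X maps Y' onto Y. -/
theorem result {X S S' : Scheme.{u}} (f : X ⟶ S) (g : S' ⟶ S)
    [IsLocallyNoetherian X] [IsLocallyNoetherian S] [IsLocallyNoetherian S']
    [IsLocallyNoetherian (pullback f g)] (Y : Set ↥X) (hY : IsClosed Y) :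
    ((⨅ y : Y, ringKrullDim ↑(CInt.fiberStalk f y.1)) ≤
      ⨅ y' : (fun x' => (pullback.fst f g) x') ⁻¹' Y,
        ringKrullDim ↑(CInt.fiberStalk (pullback.snd f g) y'.1)) ∧
    (Y ⊆ Set.range (pullback.fst f g).base →
      (⨅ y' : (fun x' => (pullback.fst f g) x') ⁻¹' Y,
        ringKrullDim ↑(CInt.fiberStalk (pullback.snd f g) y'.1)) =
        ⨅ y : Y, ringKrullDim ↑(CInt.fiberStalk f y.1)) := by
  have hc : IsPullback (pullback.fst f g) (pullback.snd f g) f g := IsPullback.of_hasPullback f g
  have key : ∀ z : ↥(pullback f g), ringKrullDim ↑(CInt.fiberStalk f ((pullback.fst f g) z)) ≤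
      ringKrullDim ↑(CInt.fiberStalk (pullback.snd f g) z) := fun z => fdim_le hc z
  have h1 : (⨅ y : Y, ringKrullDim ↑(CInt.fiberStalk f y.1)) ≤
      ⨅ y' : (fun x' => (pullback.fst f g) x') ⁻¹' Y,
        ringKrullDim ↑(CInt.fiberStalk (pullback.snd f g) y'.1) :=
    le_iInf fun y' => (iInf_le (fun y : Y => ringKrullDim ↑(CInt.fiberStalk f y.1))
      ⟨(pullback.fst f g) y'.1, y'.2⟩).trans (key y'.1)
  refine ⟨h1, fun hsub => le_antisymm (le_iInf fun y => ?_) h1⟩
  obtain ⟨z₀, hz₀⟩ := hsub y.2
  have hfy : f y.1 = g ((pullback.snd f g) z₀) := by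
    rw [← hz₀]
    exact congrArg (fun m : pullback f g ⟶ S => m z₀) pullback.condition
  obtain ⟨z, hz1, -, hz3⟩ := exists_fdim_eq hc y.1 _ hfy
  have hz4 : ringKrullDim ↑(CInt.fiberStalk (pullback.snd f g) z) ≤ ringKrullDim ↑(CInt.fiberStalk f y.1) := hz3.le
  exact (iInf_le (fun y' : (fun x' => (pullback.fst f g) x') ⁻¹' Y =>
    ringKrullDim ↑(CInt.fiberStalk (pullback.snd f g) y'.1))
    ⟨z, show (pullback.fst f g) z ∈ Y from hz1.symm ▸ y.2⟩).trans hz4

end Groth.Agent.S14105
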