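import Groth.Statements.S14108
import Groth.Agent.CInt15.Depth
import Groth.Agent.CAlgH3.Depth
-- import your own Groth.Agent.* helpers here

set_option autoImplicit false
universe u
open CategoryTheory CategoryTheory.Limits AlgebraicGeometry Opposite TopologicalSpace
open CInt

namespace Groth.Agent.S14108

/-- Let f : X → S be a Cohen–Macaulay morphism of locally Noetherian schemes (flat, every local ring of
every fibre Cohen–Macaulay) and Y a closed subset of X whose codimension relative to f (the infimum
over y ∈ Y of the Krull dimension of the local ring at y of the fibre of f through y) equals its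
codimension in X (the infimum over y ∈ Y of the Krull dimension of O_{X,y}). Then the depth of O_X
along Y, the infimum over y ∈ Y of the depth of O_{X,y}, equals the codimension of Y in X. -/
theorem result {X S : Scheme.{u}} [IsLocallyNoetherian X]
    [IsLocallyNoetherian S] (f : X ⟶ S) [Flat f]
    (hCM : ∀ x : ↥X, LocCoh.IsCohenMacaulayLocalRing ↑(CInt.fiberStalk f x))
    (Y : Set ↥X) (hY : IsClosed Y)
    (hcodim : (⨅ y : Y, ringKrullDim ↑(CInt.fiberStalk f y.1)) = ⨅ y : Y, ringKrullDim ↑(X.presheaf.stalk y.1)) :
    (⨅ y : Y, ((LocCoh.depth ↑(X.presheaf.stalk y.1) ↑(X.presheaf.stalk y.1) : ℕ∞) : WithBot ℕ∞)) =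
      ⨅ y : Y, ringKrullDim ↑(X.presheaf.stalk y.1) := by
  refine le_antisymm (le_iInf fun y => ?_) (le_iInf fun y => ?_)
  · refine (iInf_le _ y).trans ?_
    have := CAlgH3.depth_le_supportDim (R := X.presheaf.stalk y.1) (M := X.presheaf.stalk y.1)
    rwa [Module.supportDim_self_eq_ringKrullDim] at this
  · rw [← hcodim]
    refine (iInf_le _ y).trans ?_
    have h := (hCM y.1).supportDim_eq_depth
    rw [Module.supportDim_self_eq_ringKrullDim] at h
    rw [h, WithBot.coe_le_coe]
    exact CInt15.depth_fiberStalk_le f y.1

end Groth.Agent.S14108
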