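import Groth.Statements.S14109
import Groth.Agent.CAlgH.CIScheme
-- import your own Groth.Agent.* helpers here

set_option autoImplicit false
universe u
open CategoryTheory CategoryTheory.Limits AlgebraicGeometry Opposite TopologicalSpace
open CInt

namespace Groth.Agent.S14109
open IsLocalRing

theorem map_max_le {A B : Type u} [CommRing A] [CommRing B] [IsLocalRing A] [IsLocalRing B] (φ : A →+* B)
    [IsLocalHom φ] : (maximalIdeal A).map φ ≤ maximalIdeal B :=
  ((IsLocalRing.local_hom_TFAE φ).out 0 2).1 (inferInstance : IsLocalHom φ)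

theorem comap_mk {A : Type u} [CommRing A] [IsLocalRing A] (J : Ideal A) [IsLocalRing (A ⧸ J)] :
    (maximalIdeal (A ⧸ J)).comap (Ideal.Quotient.mk J) = maximalIdeal A :=
  IsLocalRing.eq_maximalIdeal (Ideal.comap_isMaximal_of_surjective _ Ideal.Quotient.mk_surjective)

theorem map_mk {A : Type u} [CommRing A] [IsLocalRing A] (J : Ideal A) [IsLocalRing (A ⧸ J)] :
    (maximalIdeal A).map (Ideal.Quotient.mk J) = maximalIdeal (A ⧸ J) := by
  rw [← comap_mk J, Ideal.map_comap_of_surjective _ Ideal.Quotient.mk_surjective]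

open IsLocalRing in
theorem alg {A B : Type u} [CommRing A] [CommRing B] [IsLocalRing A] [IsLocalRing B]
    [IsNoetherianRing A] [IsNoetherianRing B] (φ : A →+* B) (I : Ideal A) (hI : I ≤ maximalIdeal A)
    (hmin : maximalIdeal B ∈ ((maximalIdeal A).map φ).minimalPrimes) :
    ringKrullDim (B ⧸ I.map φ) ≤ ringKrullDim (A ⧸ I) := by
  letI := φ.toAlgebra
  have hJ : I.map φ ≠ ⊤ :=
    ne_top_of_le_ne_top (maximalIdeal.isMaximal B).ne_top ((Ideal.map_mono hI).trans hmin.1.2)
  haveI : Nontrivial (A ⧸ I) := Ideal.Quotient.nontrivial_iff.2 (ne_top_of_le_ne_top (maximalIdeal.isMaximal A).ne_top hI)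
  haveI : Nontrivial (B ⧸ I.map φ) := Ideal.Quotient.nontrivial_iff.2 hJ
  haveI : IsLocalRing (A ⧸ I) := .of_surjective' (Ideal.Quotient.mk I) Ideal.Quotient.mk_surjective
  haveI : IsLocalRing (B ⧸ I.map φ) := .of_surjective' (Ideal.Quotient.mk _) Ideal.Quotient.mk_surjective
  let ψ : A ⧸ I →+* B ⧸ I.map φ := Ideal.quotientMap _ φ Ideal.le_comap_map
  letI := ψ.toAlgebra
  have hψ : (maximalIdeal (A ⧸ I)).map ψ = ((maximalIdeal A).map φ).map (Ideal.Quotient.mk _) := by
    rw [← map_mk I, Ideal.map_map, Ideal.map_map, Ideal.quotientMap_comp_mk]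
  have hmin' : maximalIdeal (B ⧸ I.map φ) ∈ ((maximalIdeal (A ⧸ I)).map (algebraMap _ _)).minimalPrimes := by
    rw [RingHom.algebraMap_toAlgebra, hψ]
    refine ⟨⟨inferInstance, ?_⟩, fun Q hQ hQle => ?_⟩
    · exact Ideal.map_le_iff_le_comap.2 (hmin.1.2.trans (le_of_eq (comap_mk _).symm))
    · haveI := hQ.1
      refine le_of_eq ?_
      have h1 := hmin.2 ⟨Ideal.IsPrime.comap _, Ideal.map_le_iff_le_comap.1 hQ.2⟩
        (le_maximalIdeal (Ideal.IsPrime.ne_top (Ideal.IsPrime.comap _)))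
      rw [← Ideal.map_comap_of_surjective _ Ideal.Quotient.mk_surjective Q,
        le_antisymm (le_maximalIdeal (Ideal.IsPrime.ne_top inferInstance)) h1, map_mk]
  haveI : (maximalIdeal (B ⧸ I.map φ)).LiesOver (maximalIdeal (A ⧸ I)) :=
    ⟨((maximalIdeal.isMaximal _).eq_of_le (Ideal.IsPrime.ne_top inferInstance) (Ideal.map_le_iff_le_comap.1 hmin'.1.2))⟩
  have h := Ideal.height_le_height_add_of_liesOver (maximalIdeal (A ⧸ I)) (maximalIdeal (B ⧸ I.map φ))
  have h0 : ((maximalIdeal (B ⧸ I.map φ)).map (Ideal.Quotient.mk ((maximalIdeal (A ⧸ I)).map (algebraMap (A ⧸ I) (B ⧸ I.map φ))))).height = 0 := by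
    haveI := Ideal.map_isPrime_of_surjective (f := Ideal.Quotient.mk ((maximalIdeal (A ⧸ I)).map (algebraMap (A ⧸ I) (B ⧸ I.map φ)))) Ideal.Quotient.mk_surjective (I := maximalIdeal (B ⧸ I.map φ)) (by rw [Ideal.mk_ker]; exact hmin'.1.2)
    rw [Ideal.height_eq_zero_iff]
    show _ ∈ Ideal.minimalPrimes ⊥
    rw [← Ideal.map_quotient_self ((maximalIdeal (A ⧸ I)).map (algebraMap (A ⧸ I) (B ⧸ I.map φ))), Ideal.minimalPrimes_map_of_surjective Ideal.Quotient.mk_surjective]
    refine ⟨maximalIdeal (B ⧸ I.map φ), ?_, rfl⟩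
    rw [Ideal.mk_ker, sup_idem]; exact hmin'
  rw [h0, add_zero] at h
  rw [← maximalIdeal_height_eq_ringKrullDim, ← maximalIdeal_height_eq_ringKrullDim]
  exact WithBot.coe_le_coe.2 h

open IsLocalRing in
theorem dim_le {X X' S : Scheme.{u}} [IsLocallyNoetherian X] [IsLocallyNoetherian X'] (f : X ⟶ S) (g : X' ⟶ X)
    (y' : X') (hmin : maximalIdeal (X'.presheaf.stalk y') ∈
      ((maximalIdeal (X.presheaf.stalk (g y'))).map (g.stalkMap y').hom).minimalPrimes) :
    ringKrullDim ↑(CInt.fiberStalk (g ≫ f) y') ≤ ringKrullDim ↑(CInt.fiberStalk f (g y')) := by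
  obtain ⟨eB⟩ := Groth.Agent.CAlgH.CIScheme.fiberStalk_equiv (g ≫ f) y'
  obtain ⟨eA⟩ := Groth.Agent.CAlgH.CIScheme.fiberStalk_equiv f (g y')
  rw [← ringKrullDim_eq_of_ringEquiv eA, ← ringKrullDim_eq_of_ringEquiv eB]
  have hmapm : (maximalIdeal (S.presheaf.stalk ((g ≫ f) y'))).map ((g ≫ f).stalkMap y').hom =
      ((maximalIdeal (S.presheaf.stalk (f (g y')))).map (f.stalkMap (g y')).hom).map (g.stalkMap y').hom := by
    rw [Scheme.Hom.stalkMap_comp]
    exact (Ideal.map_map _ _).symm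
  rw [hmapm]
  exact alg (g.stalkMap y').hom _ (map_max_le _) hmin


/-- Let f : X → S and g : X' → X be morphisms of locally Noetherian schemes with g surjective, Y a
closed subset of X and Y' its preimage under g. Then the codimension of Y' relative to the composite
X' → S (the infimum over y' ∈ Y' of the Krull dimension of the local ring at y' of the fibre of that
composite through y') is at most the codimension of Y relative to f (the same infimum over y ∈ Y for
the fibres of f). -/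
theorem result {X X' S : Scheme.{u}} [IsLocallyNoetherian X]
    [IsLocallyNoetherian X'] [IsLocallyNoetherian S] (f : X ⟶ S) (g : X' ⟶ X) [Surjective g]
    (Y : Set ↥X) (hY : IsClosed Y) :
    (⨅ y' : (fun x' => g x') ⁻¹' Y, ringKrullDim ↑(CInt.fiberStalk (g ≫ f) y'.1)) ≤
      ⨅ y : Y, ringKrullDim ↑(CInt.fiberStalk f y.1) := by
  refine le_iInf fun y => ?_
  obtain ⟨y, hy⟩ := y
  obtain ⟨x0, hx0⟩ := g.surjective y
  subst hx0
  -- a maximal point of the fibre through `x0`
  let φ0 := (g.stalkMap x0).hom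
  have hne : (maximalIdeal (X.presheaf.stalk (g x0))).map φ0 ≠ ⊤ :=
    ne_top_of_le_ne_top (maximalIdeal.isMaximal _).ne_top (map_max_le φ0)
  obtain ⟨⟨P, hP⟩⟩ := Ideal.nonempty_minimalPrimes hne
  haveI := hP.1.1
  set y' : X' := X'.fromSpecStalk x0 ⟨P, hP.1.1⟩ with hy'
  have nat : ∀ (w : X') (Q : PrimeSpectrum (X'.presheaf.stalk w)),
      g (X'.fromSpecStalk w Q) = X.fromSpecStalk (g w) (PrimeSpectrum.comap (g.stalkMap w).hom Q) := fun w Q => by
    have := congrArg (fun m => m Q) (Scheme.SpecMap_stalkMap_fromSpecStalk g (x := w))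
    simp only [Scheme.Hom.comp_apply] at this
    exact this.symm
  have closed : ∀ (w : X') (Q : PrimeSpectrum (X'.presheaf.stalk w)),
      (maximalIdeal (X.presheaf.stalk (g w))).map (g.stalkMap w).hom ≤ Q.asIdeal ↔ g (X'.fromSpecStalk w Q) = g w := fun w Q => by
    rw [nat]
    constructor
    · intro h
      have : PrimeSpectrum.comap (g.stalkMap w).hom Q = closedPoint _ := PrimeSpectrum.ext
        ((maximalIdeal.isMaximal _).eq_of_le (Ideal.IsPrime.ne_top inferInstance) (Ideal.map_le_iff_le_comap.1 h)).symm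
      rw [this, Scheme.fromSpecStalk_closedPoint]
    · intro h
      refine Ideal.map_le_iff_le_comap.2 ?_
      have h2 := (X.fromSpecStalk (g w)).isEmbedding.injective (h.trans (Scheme.fromSpecStalk_closedPoint (x := g w)).symm)
      exact (congrArg PrimeSpectrum.asIdeal h2).ge
  have hgy : g y' = g x0 := (closed x0 ⟨P, hP.1.1⟩).1 hP.1.2
  -- the maximal ideal at `y'` is minimal over that of `g y'`
  have hmin : maximalIdeal (X'.presheaf.stalk y') ∈
      ((maximalIdeal (X.presheaf.stalk (g y'))).map (g.stalkMap y').hom).minimalPrimes := by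
    refine ⟨⟨inferInstance, map_max_le _⟩, fun Q hQ hQle => ?_⟩
    haveI := hQ.1
    set z := X'.fromSpecStalk y' ⟨Q, hQ.1⟩ with hz
    have hzg : g z = g x0 := ((closed y' ⟨Q, hQ.1⟩).1 hQ.2).trans hgy
    have hzy : z ⤳ y' := by
      have : z ∈ Set.range (X'.fromSpecStalk y') := ⟨_, rfl⟩
      rwa [Scheme.range_fromSpecStalk] at this
    have hyx : y' ⤳ x0 := by
      have : y' ∈ Set.range (X'.fromSpecStalk x0) := ⟨_, rfl⟩
      rwa [Scheme.range_fromSpecStalk] at this
    obtain ⟨Q0, hQ0⟩ : z ∈ Set.range (X'.fromSpecStalk x0) := by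
      rw [Scheme.range_fromSpecStalk]; exact hzy.trans hyx
    have hQ0P : Q0.asIdeal ≤ P := by
      have : Q0 ⤳ (⟨P, hP.1.1⟩ : PrimeSpectrum _) :=
        (X'.fromSpecStalk x0).isEmbedding.isInducing.specializes_iff.1 (hQ0 ▸ hy' ▸ hzy)
      exact (PrimeSpectrum.le_iff_specializes _ _).2 this
    have hPQ0 : P ≤ Q0.asIdeal := hP.2 ⟨Q0.isPrime, (closed x0 Q0).2 (hQ0 ▸ hzg)⟩ hQ0P
    have hzy' : z = y' := by
      rw [← hQ0, hy']; exact congrArg _ (PrimeSpectrum.ext (le_antisymm hQ0P hPQ0))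
    have h2 := (X'.fromSpecStalk y').isEmbedding.injective
      (hzy'.trans (Scheme.fromSpecStalk_closedPoint (x := y')).symm)
    exact (congrArg PrimeSpectrum.asIdeal h2).ge
  have hy'Y : y' ∈ (fun x' => g x') ⁻¹' Y := by simpa [hgy] using hy
  refine (iInf_le _ ⟨y', hy'Y⟩).trans ?_
  exact (dim_le f g y' hmin).trans_eq (congrArg (fun z => ringKrullDim ↑(CInt.fiberStalk f z)) hgy)

end Groth.Agent.S14109
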