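import Groth.Statements.S1411
import Groth.Agent.S9779

set_option autoImplicit false
universe u
open FlatMor

namespace Groth.Agent.S1411

open AlgebraicGeometry CategoryTheory Limits in
/-- Let f : X → S be locally of finite type with S locally Noetherian, x a point closed in its fibre,
and U an open of X containing a point x' specializing to x with f x' ≠ f x. Then there is a closed
subscheme Z of X passing through x such that Z → S is quasi-finite at x and Z contains a point z ∈ U
with z ⤳ x and f z ≠ f x. -/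
theorem result {X S : Scheme.{u}} (f : X ⟶ S) [LocallyOfFiniteType f] [IsLocallyNoetherian S] (x : X)
    (hcl : IsClosed (Subtype.val ⁻¹' {x} : Set ↑(f ⁻¹' {f x}))) (U : X.Opens) (hx' : ∃ x' : X, x' ∈ U ∧ x' ⤳ x ∧ f x' ≠ f x) :
    ∃ (I : X.IdealSheafData) (z₀ x₀ : ↑I.subscheme), I.subschemeι x₀ = x ∧ (I.subschemeι ≫ f).QuasiFiniteAt x₀ ∧
      I.subschemeι z₀ ∈ U ∧ I.subschemeι z₀ ⤳ x ∧ f (I.subschemeι z₀) ≠ f x := by
  obtain ⟨x', hx'U, hspec, hne⟩ := hx'
  let W : S.Opens := ⟨(closure {f x})ᶜ, isClosed_closure.isOpen_compl⟩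
  have hW : f x' ∈ W := fun h => hne
    ((hspec.map f.continuous).antisymm (specializes_iff_mem_closure.2 h)).eq
  obtain ⟨I, z₀, x₀, h1, h2, h3, h4, h5⟩ := Groth.Agent.S9779.result f x hcl (U ⊓ f ⁻¹ᵁ W)
    (fun y hy h => hy.2 (h ▸ subset_closure (Set.mem_singleton _)))
    (hspec.mem_closed isClosed_closure (subset_closure ⟨hx'U, hW⟩))
  exact ⟨I, z₀, x₀, h1, h2, h3.1, h4, h5⟩

end Groth.Agent.S1411
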