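import Groth.Statements.S14110
import Groth.Agent.CAlgH.CIScheme
import Mathlib.RingTheory.Ideal.GoingDown
import Mathlib.RingTheory.KrullDimension.NonZeroDivisors
import Mathlib.AlgebraicGeometry.Morphisms.Flat

set_option autoImplicit false
universe u
open CategoryTheory CategoryTheory.Limits AlgebraicGeometry Opposite TopologicalSpace
open CInt

set_option backward.isDefEq.respectTransparency.types false
set_option backward.isDefEq.respectTransparency false

namespace Groth.Agent.S14110


theorem dim_quotient_le {A B : Type u} [CommRing A] [CommRing B] [IsLocalRing A] [IsLocalRing B] (φ : A →+* B)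
    [IsLocalHom φ] (hφ : φ.Flat) (I : Ideal A) : ringKrullDim (A ⧸ I) ≤ ringKrullDim (B ⧸ I.map φ) := by
  algebraize [φ]
  rw [ringKrullDim_quotient, ringKrullDim_quotient]
  refine iSup_le fun l => ?_
  let l' : LTSeries (PrimeSpectrum A) := l.map Subtype.val (fun _ _ h => h)
  have htf := (IsLocalRing.local_hom_TFAE φ).out 0 4
  have hm : (IsLocalRing.maximalIdeal B).LiesOver (IsLocalRing.maximalIdeal A) :=
    ⟨(htf.1 ‹IsLocalHom φ›).symm⟩
  obtain ⟨P, -, hP, hPl⟩ := Ideal.exists_ideal_le_liesOver_of_le (p := l'.last.asIdeal)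
    (IsLocalRing.maximalIdeal B) (IsLocalRing.le_maximalIdeal l'.last.2.ne_top)
  obtain ⟨L, hlen, -, hmap⟩ := Ideal.exists_ltSeries_of_hasGoingDown l' P
  have hmem : ∀ i, L i ∈ PrimeSpectrum.zeroLocus (I.map φ : Set B) := fun i => by
    have h1 : PrimeSpectrum.comap (algebraMap A B) (L i) ∈ l'.toList := by
      rw [← hmap]; exact List.mem_map_of_mem (List.mem_ofFn.2 ⟨i, rfl⟩)
    obtain ⟨j, hj⟩ := List.mem_ofFn.1 h1
    intro b hb
    refine (Ideal.map_le_iff_le_comap.2 ?_) hb
    have h2 : (I : Set A) ⊆ (l' j).asIdeal := (l j).2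
    rw [hj] at h2
    exact h2
  calc ((l.length : ℕ∞) : WithBot ℕ∞) = (L.length : ℕ∞) := by rw [hlen]; rfl
    _ ≤ _ := le_iSup (fun L : LTSeries (PrimeSpectrum.zeroLocus (I.map φ : Set B)) => ((L.length : ℕ∞) : WithBot ℕ∞))
        { length := L.length, toFun := fun i => ⟨L i, hmem i⟩, step := fun i => L.step i }

/-- Let f : X → S and g : X' → X be morphisms of locally Noetherian schemes with f a Cohen–Macaulay
morphism (flat, every local ring of every fibre a Cohen–Macaulay local ring) and g flat, Y a closed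
subset of X and Y' its preimage under g. Then the codimension of Y relative to f (the infimum over y
∈ Y of the Krull dimension of the local ring at y of the fibre of f through y) is at most the
codimension of Y' relative to the composite X' → S. -/
theorem result {X X' S : Scheme.{u}} [IsLocallyNoetherian X]
    [IsLocallyNoetherian X'] [IsLocallyNoetherian S] (f : X ⟶ S) [Flat f]
    (hCM : ∀ x : ↥X, LocCoh.IsCohenMacaulayLocalRing ↑(CInt.fiberStalk f x)) (g : X' ⟶ X) [Flat g]
    (Y : Set ↥X) (hY : IsClosed Y) :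
    (⨅ y : Y, ringKrullDim ↑(CInt.fiberStalk f y.1)) ≤
      ⨅ y' : (fun x' => g x') ⁻¹' Y, ringKrullDim ↑(CInt.fiberStalk (g ≫ f) y'.1) := by
  refine le_iInf fun y' => ?_
  obtain ⟨y', hy'⟩ := y'
  refine (iInf_le _ ⟨g y', hy'⟩).trans ?_
  obtain ⟨eB⟩ := Groth.Agent.CAlgH.CIScheme.fiberStalk_equiv (g ≫ f) y'
  obtain ⟨eA⟩ := Groth.Agent.CAlgH.CIScheme.fiberStalk_equiv f (g y')
  rw [← ringKrullDim_eq_of_ringEquiv eA, ← ringKrullDim_eq_of_ringEquiv eB]
  have hmapm : (IsLocalRing.maximalIdeal (S.presheaf.stalk ((g ≫ f) y'))).map ((g ≫ f).stalkMap y').hom =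
      ((IsLocalRing.maximalIdeal (S.presheaf.stalk (f (g y')))).map (f.stalkMap (g y')).hom).map (g.stalkMap y').hom := by
    rw [Scheme.Hom.stalkMap_comp]
    exact (Ideal.map_map _ _).symm
  rw [hmapm]
  exact dim_quotient_le (g.stalkMap y').hom (Flat.stalkMap g y') _

end Groth.Agent.S14110
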