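import Groth.Statements.S14111
import Groth.Agent.DQCoh.SuppVanish17
-- import your own Groth.Agent.* helpers here

set_option autoImplicit false
set_option backward.isDefEq.respectTransparency false
universe u
open CategoryTheory CategoryTheory.Limits AlgebraicGeometry Opposite TopologicalSpace
attribute [local instance] HasDerivedCategory.standard
open CxOX

namespace Groth.Agent.S14111
open Groth.Agent

/-- Let X be a locally Noetherian scheme, j : U → X an open immersion with closed complement Y, and d a
natural number such that the depth of O_X along Y is at least d (every local ring O_{X,y} with y ∈ Y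
has depth at least d). Let K be a cochain complex of O_X-modules whose terms are finite locally free
and vanish in degrees below d. Then H^n_Y(X, K) = 0 for every n < 2d, where H^n_Y(X, K) is the n-th
cohomology of RΓ_Y(X, K) (the unbounded right derived functor of global sections with support in Y,
applied to the image of K in D(O_X)). (The published proposition asserts a natural isomorphism,
linear over the given sheaf of rings, from the global sections of the degree-2d local cohomology
sheaf of K with support in Y to H^{2d}_Y(X, K), and adds that U ↦ H^{2d}_{Y∩U}(U, K|_U), U ⊆ X open,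
is a sheaf; this row states only the vanishing below 2d obtained in the course of the published
proof, which shows that the local cohomology sheaves of K with support in Y vanish in degrees below
2d and then applies the local-to-global spectral sequence. The published statement lets K be a
complex of modules over an arbitrary sheaf of rings on X whose terms are vector bundles on X, such
as a truncated de Rham complex with its non-O_X-linear differentials, and has X smooth over a
locally Noetherian base; this row takes K a cochain complex of O_X-modules and any locally
Noetherian X.) -/
theorem result {U X : Scheme.{u}} [IsLocallyNoetherian X]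
    (j : U ⟶ X) [IsOpenImmersion j] [CxOX.HasRsectZ j] (d : ℕ)
    (hdepth : ∀ y : ↥X, y ∉ Set.range j.base →
      (d : ℕ∞) ≤ LocCoh.depth ↑(X.presheaf.stalk y) ↑(X.presheaf.stalk y))
    (K : CochainComplex X.Modules ℤ) (hK : ∀ i : ℤ, i < (d : ℤ) → IsZero (K.X i))
    (hKlf : ∀ i : ℤ, FlatMod.IsFinLocFree (K.X i)) (n : ℤ) (hn : n < 2 * (d : ℤ)) :
    IsZero ((DerivedCategory.homologyFunctor AddCommGrpCat.{u} n).obj
      ((CxOX.RsectZ j).obj (DCoh.toD X K))) := by
    haveI : HasInjectiveResolutions X.Modules := Coherent.hasInjectiveResolutions_modules X
    haveI : CxOX.HasRgammaZ j := DCat.hasRightDerivedFunctor_of_enoughKInj (DCat.modules_enoughKInj X) _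
    obtain ⟨J, hJd, hJK, hJi, ⟨e⟩, hex⟩ := SuppVanish17.exists_rep j d hdepth K hK hKlf
    haveI := hJd
    haveI := hJK
    obtain ⟨i⟩ := SuppVanish17.nonempty_iso j J (d : ℤ) (2 * (d : ℤ)) hJi hex n hn.le
    refine IsZero.of_iso ((DCoh.gammaAb X).map_isZero
      ((HomologicalComplex.exactAt_iff_isZero_homology _ _).1 (hex n hn)))
      ((DerivedCategory.homologyFunctor AddCommGrpCat.{u} n).mapIso
        ((DCat.rfIso (DCat.modules_enoughKInj X) (CxOX.sectZKh j)).app _ ≪≫
          DCat.rfObjIso (DCat.modules_enoughKInj X) (CxOX.sectZAb j) J e) ≪≫
        (DerivedCategory.homologyFunctorFactors AddCommGrpCat.{u} n).app _ ≪≫ i)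

end Groth.Agent.S14111

#print axioms Groth.Agent.S14111.result
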