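import Groth.Statements.S14113
import Groth.Agent.DQCoh.AffineKProj17
import Groth.Agent.DCat.SuppOpen
-- import your own Groth.Agent.* helpers here

set_option autoImplicit false
universe u
open CategoryTheory CategoryTheory.Limits AlgebraicGeometry Opposite TopologicalSpace
attribute [local instance] HasDerivedCategory.standard
open DCoh

namespace Groth.Agent.S14113

/-- Let X be an affine scheme and E a bounded above cochain complex of finite locally free O_X-modules
(a strictly pseudo-coherent complex). Then E is acyclic if and only if the identity of E is null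
homotopic. -/
theorem result {X : Scheme.{u}} [IsAffine X]
    (E : CochainComplex X.Modules ℤ) (b : ℤ) (hEb : ∀ i : ℤ, b < i → IsZero (E.X i))
    (hE : ∀ i : ℤ, FlatMod.IsFinLocFree (E.X i)) :
    E.Acyclic ↔ Nonempty (Homotopy (𝟙 E) 0) := by
  constructor
  · intro h
    have hq : ∀ i, Coh.IsQCoh (E.X i) := fun i => Groth.Agent.DCat.PullPerf.isQCoh_of_finLocFree (hE i)
    have hb := Groth.Agent.DQCoh.AffineKProj17.bijective_Qh_map_affine X E E b hEb hE hq
    have hz : IsZero (DerivedCategory.Qh.obj ((HomotopyCategory.quotient X.Modules (ComplexShape.up ℤ)).obj E)) :=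
      (Groth.Agent.DCat.SuppOpen.isZero_of_hd (DerivedCategory.Q.obj E) (fun i => ((h i).isZero_homology).of_iso
        ((DerivedCategory.homologyFunctorFactors X.Modules i).app E))).of_iso
        ((DerivedCategory.quotientCompQhIso X.Modules).app E)
    refine ⟨HomotopyCategory.homotopyOfEq _ _ (hb.1 ?_)⟩
    exact hz.eq_of_src _ _
  · rintro ⟨h⟩ i
    rw [HomologicalComplex.exactAt_iff_isZero_homology, IsZero.iff_id_eq_zero, ← HomologicalComplex.homologyMap_id,
      h.homologyMap_eq i, HomologicalComplex.homologyMap_zero]

end Groth.Agent.S14113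

#print axioms Groth.Agent.S14113.result
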