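import Groth.Statements.S14117
import Mathlib

set_option linter.all false

set_option autoImplicit false
universe u v w
open SuperComm

open TensorProduct

namespace Groth.Agent.S14117

theorem trace_eq_sum_blocks {R : Type u} [CommRing R] {ι : Type v} [Fintype ι] [DecidableEq ι]
    (M : ι → Type w) [∀ i, AddCommGroup (M i)] [∀ i, Module R (M i)]
    [∀ i, Module.Free R (M i)] [∀ i, Module.Finite R (M i)] (f : (Π k, M k) →ₗ[R] (Π k, M k)) :
    LinearMap.trace R (Π k, M k) f =
      ∑ i, LinearMap.trace R (M i) (LinearMap.proj i ∘ₗ f ∘ₗ LinearMap.single R M i) := by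
  have hid : f = ∑ i, f ∘ₗ (LinearMap.single R M i ∘ₗ LinearMap.proj i) := by
    refine LinearMap.ext fun x => ?_
    simp only [LinearMap.coe_sum, Finset.sum_apply, LinearMap.comp_apply, LinearMap.proj_apply, LinearMap.single_apply]
    rw [← map_sum, Finset.univ_sum_single x]
  conv_lhs => rw [hid, map_sum]
  refine Finset.sum_congr rfl fun i _ => ?_
  rw [← LinearMap.comp_assoc, LinearMap.trace_comp_comm']

theorem str_eq {R : Type u} [CommRing R] {ι : Type v} [Fintype ι] [DecidableEq ι]
    (deg : ι → ℤ) (M : ι → Type w) [∀ i, AddCommGroup (M i)] [∀ i, Module R (M i)]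
    [∀ i, Module.Free R (M i)] [∀ i, Module.Finite R (M i)] (f : (Π k, M k) →ₗ[R] (Π k, M k)) :
    LinearMap.trace R (Π k, M k) ((∑ i : ι, (LinearMap.single R M i) ∘ₗ (((-1 : R) ^ (deg i).natAbs) • (LinearMap.proj i : (Π k, M k) →ₗ[R] M i))) ∘ₗ f) =
      ∑ i, (-1 : R) ^ (deg i).natAbs * LinearMap.trace R (M i) (LinearMap.proj i ∘ₗ f ∘ₗ LinearMap.single R M i) := by
  rw [trace_eq_sum_blocks]
  refine Finset.sum_congr rfl fun i _ => ?_
  rw [← smul_eq_mul, ← map_smul]
  congr 1
  refine LinearMap.ext fun x => ?_
  simp only [LinearMap.comp_apply, LinearMap.coe_sum, Finset.sum_apply, LinearMap.proj_apply, LinearMap.single_apply,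
    LinearMap.smul_apply]
  rw [Finset.sum_pi_single]
  simp

/-- Let R be a commutative ring and M a finitely ℤ-graded R-module with finitely many nonzero graded
pieces, each finite free, presented as a finite family of finite free R-modules M_i with integer
degrees deg i (the piece of degree n being the product of the M_i with deg i = n); an endomorphism φ
of the total module Π_i M_i has degree a when its (i, j) block vanishes unless deg j = deg i + a;
the supertrace of an endomorphism is the trace of its composite with the grading involution ε = Σ_i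
(-1)^{deg i} pr_i. If φ has degree a ≠ 0 then its supertrace vanishes. (The published statement
allows the graded pieces to be finitely generated projective; this row takes them finite free, where
the trace is the ordinary trace of a free module.) -/
theorem result {R : Type u} [CommRing R] {ι : Type v} [Fintype ι] [DecidableEq ι]
    (deg : ι → ℤ) (M : ι → Type w) [∀ i, AddCommGroup (M i)] [∀ i, Module R (M i)]
    [∀ i, Module.Free R (M i)] [∀ i, Module.Finite R (M i)]
    (a : ℤ) (ha : a ≠ 0) (φ : (Π k, M k) →ₗ[R] (Π k, M k))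
    (hφ : ∀ i j : ι, deg j ≠ deg i + a → (LinearMap.proj j) ∘ₗ φ ∘ₗ (LinearMap.single R M i) = 0) :
    LinearMap.trace R (Π k, M k) ((∑ i : ι, (LinearMap.single R M i) ∘ₗ (((-1 : R) ^ (deg i).natAbs) • (LinearMap.proj i : (Π k, M k) →ₗ[R] M i))) ∘ₗ φ) = 0 := by
  rw [str_eq]
  refine Finset.sum_eq_zero fun i _ => ?_
  rw [hφ i i (by omega), map_zero, mul_zero]

end Groth.Agent.S14117
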