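import Groth.Statements.S14118
import Mathlib

set_option linter.all false

set_option autoImplicit false
universe u v w
open SuperComm

open TensorProduct

namespace Groth.Agent.S14118

theorem trace_eq_sum_blocks {R : Type u} [CommRing R] {ι : Type v} [Fintype ι] [DecidableEq ι]
    (M : ι → Type w) [∀ i, AddCommGroup (M i)] [∀ i, Module R (M i)]
    [∀ i, Module.Free R (M i)] [∀ i, Module.Finite R (M i)] (f : (Π k, M k) →ₗ[R] (Π k, M k)) :
    LinearMap.trace R (Π k, M k) f =
      ∑ i, LinearMap.trace R (M i) (LinearMap.proj i ∘ₗ f ∘ₗ LinearMap.single R M i) := by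
  have hid : f = ∑ i, f ∘ₗ (LinearMap.single R M i ∘ₗ LinearMap.proj i) := by
    refine LinearMap.ext fun x => ?_
    simp only [LinearMap.coe_sum, Finset.sum_apply, LinearMap.comp_apply, LinearMap.proj_apply, LinearMap.single_apply]
    rw [← map_sum, Finset.univ_sum_single x]
  conv_lhs => rw [hid, map_sum]
  refine Finset.sum_congr rfl fun i _ => ?_
  rw [← LinearMap.comp_assoc, LinearMap.trace_comp_comm']

theorem str_eq {R : Type u} [CommRing R] {ι : Type v} [Fintype ι] [DecidableEq ι]
    (deg : ι → ℤ) (M : ι → Type w) [∀ i, AddCommGroup (M i)] [∀ i, Module R (M i)]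
    [∀ i, Module.Free R (M i)] [∀ i, Module.Finite R (M i)] (f : (Π k, M k) →ₗ[R] (Π k, M k)) :
    LinearMap.trace R (Π k, M k) ((∑ i : ι, (LinearMap.single R M i) ∘ₗ (((-1 : R) ^ (deg i).natAbs) • (LinearMap.proj i : (Π k, M k) →ₗ[R] M i))) ∘ₗ f) =
      ∑ i, (-1 : R) ^ (deg i).natAbs * LinearMap.trace R (M i) (LinearMap.proj i ∘ₗ f ∘ₗ LinearMap.single R M i) := by
  rw [trace_eq_sum_blocks]
  refine Finset.sum_congr rfl fun i _ => ?_
  rw [← smul_eq_mul, ← map_smul]
  congr 1
  refine LinearMap.ext fun x => ?_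
  simp only [LinearMap.comp_apply, LinearMap.coe_sum, Finset.sum_apply, LinearMap.proj_apply, LinearMap.single_apply,
    LinearMap.smul_apply]
  rw [Finset.sum_pi_single]
  simp

/-- Let R be a commutative ring and M a finitely ℤ-graded R-module with finitely many nonzero graded
pieces, each finite free, presented as a finite family of finite free R-modules M_i with integer
degrees deg i (the piece of degree n being the product of the M_i with deg i = n); an endomorphism φ
of the total module Π_i M_i has degree a when its (i, j) block vanishes unless deg j = deg i + a;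
the supertrace of an endomorphism is the trace of its composite with the grading involution ε = Σ_i
(-1)^{deg i} pr_i. If φ and ψ have degrees a and b, the supertrace of the supercommutator φψ -
(-1)^{ab} ψφ vanishes. (The published statement allows the graded pieces to be finitely generated
projective; this row takes them finite free, where the trace is the ordinary trace of a free
module.) -/
theorem result {R : Type u} [CommRing R] {ι : Type v} [Fintype ι] [DecidableEq ι]
    (deg : ι → ℤ) (M : ι → Type w) [∀ i, AddCommGroup (M i)] [∀ i, Module R (M i)]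
    [∀ i, Module.Free R (M i)] [∀ i, Module.Finite R (M i)]
    (a b : ℤ) (φ ψ : (Π k, M k) →ₗ[R] (Π k, M k))
    (hφ : ∀ i j : ι, deg j ≠ deg i + a → (LinearMap.proj j) ∘ₗ φ ∘ₗ (LinearMap.single R M i) = 0)
    (hψ : ∀ i j : ι, deg j ≠ deg i + b → (LinearMap.proj j) ∘ₗ ψ ∘ₗ (LinearMap.single R M i) = 0) :
    LinearMap.trace R (Π k, M k)
      ((∑ i : ι, (LinearMap.single R M i) ∘ₗ (((-1 : R) ^ (deg i).natAbs) • (LinearMap.proj i : (Π k, M k) →ₗ[R] M i))) ∘ₗ (φ ∘ₗ ψ - ((-1 : R) ^ (a * b).natAbs) • (ψ ∘ₗ φ))) = 0 := by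
  let blk : ((Π k, M k) →ₗ[R] (Π k, M k)) → ∀ j i : ι, M i →ₗ[R] M j := fun f j i =>
    LinearMap.proj j ∘ₗ f ∘ₗ LinearMap.single R M i
  have hcomp : ∀ (f g : (Π k, M k) →ₗ[R] (Π k, M k)) i, LinearMap.proj i ∘ₗ (f ∘ₗ g) ∘ₗ LinearMap.single R M i =
      ∑ k, blk f i k ∘ₗ blk g k i := by
    intro f g i
    refine LinearMap.ext fun x => ?_
    simp only [blk, LinearMap.comp_apply, LinearMap.coe_sum, Finset.sum_apply, LinearMap.proj_apply, LinearMap.single_apply]
    conv_lhs => rw [← Finset.univ_sum_single (g (Pi.single i x))]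
    rw [map_sum, Finset.sum_apply]
  rw [LinearMap.comp_sub, LinearMap.comp_smul, map_sub, map_smul, str_eq, str_eq, smul_eq_mul, sub_eq_zero]
  simp only [hcomp, map_sum, Finset.mul_sum]
  rw [Finset.sum_comm]
  refine Finset.sum_congr rfl fun i _ => Finset.sum_congr rfl fun k _ => ?_
  -- i, k
  rw [LinearMap.trace_comp_comm']
  by_cases h1 : deg k = deg i + a
  · by_cases h2 : deg i = deg k + b
    · rw [← mul_assoc]
      congr 1
      rw [← pow_add]
      refine neg_one_pow_congr ?_
      have hb : b = -a := by omega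
      rw [hb, mul_neg, Int.natAbs_neg, h1, Nat.even_add, Int.natAbs_even, Int.natAbs_even, Int.natAbs_even,
        Int.even_add, Int.even_mul]
      tauto
    · rw [show blk ψ i k = 0 from hψ k i h2, LinearMap.zero_comp, map_zero, mul_zero, mul_zero, mul_zero]
  · rw [show blk φ k i = 0 from hφ i k h1, LinearMap.comp_zero, map_zero, mul_zero, mul_zero, mul_zero]

end Groth.Agent.S14118
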