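import Groth.Statements.S14121
import Groth.Agent.ValExtLib.EssDVRScheme

set_option autoImplicit false
universe u
open CategoryTheory AlgebraicGeometry
open ValCrit

namespace Groth.Agent.S14121

/-- For schemes, let every affine open of the base `S` have excellent coordinate ring, let `g : Y ⟶ S`
be locally of finite type and `f : X ⟶ Y` quasi-compact and locally of finite type. Then the
uniqueness part of the valuative criterion for `f` over discrete valuation rings (every commutative
square `Spec K ⟶ X`, `Spec R ⟶ Y` with `R` a discrete valuation ring and `K` its fraction field has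
at most one lift `Spec R ⟶ X`) holds as soon as it holds for the squares whose ring `R` is
essentially of finite type over `S`, i.e. `Spec R ⟶ Y ⟶ S` factors through some affine open `U` of
`S` by a ring map `Γ(S, U) ⟶ R` that is essentially of finite type; and conversely. (The published
statement is for algebraic spaces and treats existence and uniqueness together; this row is the
uniqueness half for schemes.) -/
theorem result (S : Scheme.{u})
    (hS : ∀ U : S.affineOpens, EGA4.IsExcellent Γ(S, U.1))
    {X Y : Scheme.{u}} (f : X ⟶ Y) (g : Y ⟶ S)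
    [QuasiCompact f] [LocallyOfFiniteType f] [LocallyOfFiniteType g] :
    (∀ sq : ValuativeCommSq f, IsDiscreteValuationRing sq.R → Subsingleton sq.commSq.LiftStruct) ↔
    (∀ sq : ValuativeCommSq f, IsDiscreteValuationRing sq.R →
      (∃ (U : S.affineOpens) (φ : Γ(S, U.1) ⟶ CommRingCat.of sq.R),
        Spec.map φ ≫ U.2.fromSpec = sq.i₂ ≫ g ∧ φ.hom.EssFiniteType) →
      Subsingleton sq.commSq.LiftStruct) := by
  refine ⟨fun H sq h _ => H sq h, fun H sq _ => ?_⟩
  have := Groth.Agent.ValExtLib.isLocallyNoetherian_of_excellent hS
  have : IsLocallyNoetherian Y := LocallyOfFiniteType.isLocallyNoetherian g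
  have : IsLocallyNoetherian X := LocallyOfFiniteType.isLocallyNoetherian f
  have : QuasiSeparated f := inferInstance
  have hD : UniversallyClosed (Limits.pullback.diagonal f) := by
    refine Groth.Agent.ValExtLib.universallyClosed_of_essDVR
      (fun U => Groth.Agent.ValExtLib.isUniversallyJapanese_of_isExcellent _ (hS U))
      (Limits.pullback.fst f f ≫ f ≫ g) (Limits.pullback.diagonal f) fun sd hsd ⟨U, φ, hφ, hφe⟩ => ?_
    have w := sd.commSq.w
    let sq' : ValuativeCommSq f :=
      { R := sd.R
        K := sd.K
        i₁ := sd.i₁
        i₂ := sd.i₂ ≫ Limits.pullback.fst f f ≫ f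
        commSq := ⟨by rw [← reassoc_of% w, Limits.pullback.diagonal_fst_assoc]⟩ }
    have := H sq' hsd ⟨U, φ, by simpa [sq'] using hφ, hφe⟩
    have w1 := w =≫ Limits.pullback.fst f f
    have w2 := w =≫ Limits.pullback.snd f f
    simp only [Category.assoc, Limits.pullback.diagonal_fst, Limits.pullback.diagonal_snd, Category.comp_id] at w1 w2
    let a : sq'.commSq.LiftStruct := ⟨sd.i₂ ≫ Limits.pullback.fst f f, w1.symm, Category.assoc _ _ _⟩
    let b : sq'.commSq.LiftStruct := ⟨sd.i₂ ≫ Limits.pullback.snd f f, w2.symm, by
      rw [Category.assoc, ← Limits.pullback.condition]⟩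
    have e : sd.i₂ ≫ Limits.pullback.fst f f = sd.i₂ ≫ Limits.pullback.snd f f :=
      congrArg CommSq.LiftStruct.l (Subsingleton.elim a b)
    refine ⟨⟨⟨sd.i₂ ≫ Limits.pullback.fst f f, w1.symm, ?_⟩⟩⟩
    apply Limits.pullback.hom_ext
    · rw [Category.assoc, Category.assoc, Limits.pullback.diagonal_fst, Category.comp_id]
    · rw [Category.assoc, Category.assoc, Limits.pullback.diagonal_snd, Category.comp_id, e]
  refine ⟨fun a b => ?_⟩
  let sd : ValuativeCommSq (Limits.pullback.diagonal f) :=
    { R := sq.R
      K := sq.K
      i₁ := sq.i₁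
      i₂ := Limits.pullback.lift a.l b.l (a.fac_right.trans b.fac_right.symm)
      commSq := ⟨by
        apply Limits.pullback.hom_ext
        · rw [Category.assoc, Category.assoc, Limits.pullback.diagonal_fst, Limits.pullback.lift_fst,
            Category.comp_id, a.fac_left]
        · rw [Category.assoc, Category.assoc, Limits.pullback.diagonal_snd, Limits.pullback.lift_snd,
            Category.comp_id, b.fac_left]⟩ }
  obtain ⟨l, -, hl⟩ := (Groth.Agent.ValExtLib.existence_of_universallyClosed sd).exists_lift.some
  have h1 : l = a.l := by
    have := hl =≫ Limits.pullback.fst f f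
    simpa [sd] using this.trans (Limits.pullback.lift_fst _ _ _)
  have h2 : l = b.l := by
    have := hl =≫ Limits.pullback.snd f f
    simpa [sd] using this.trans (Limits.pullback.lift_snd _ _ _)
  exact CommSq.LiftStruct.ext (h1.symm.trans h2)

end Groth.Agent.S14121
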