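import Groth.Statements.S14122
import Mathlib.Algebra.Module.Lattice
import Mathlib.LinearAlgebra.Matrix.GeneralLinearGroup.Basic
import Mathlib.LinearAlgebra.Matrix.Basis
import Mathlib.LinearAlgebra.FreeModule.Finite.Basic
import Mathlib.GroupTheory.OrderOfElement

set_option autoImplicit false
universe u
open ValCrit

namespace Groth.Agent.S14122

/-- Let `R` be a discrete valuation ring with fraction field `K` and `g ∈ GL_N(K)` an element of finite
order. Then after passing to a finite extension `K'` of `K` and a discrete valuation ring `R'` of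
`K'` dominating `R`, the element `g` becomes conjugate in `GL_N(K')` to an element of `GL_N(R')`.
(The published statement is that the classifying stack of `GL_N` over the integers satisfies a
valuative condition, for discrete valuation rings essentially of finite type over the integers, on
extending finite-order generic automorphisms along nearby modifications; since vector bundles over a
discrete valuation ring are trivial, that condition is this conjugacy statement for such rings, and
this row states it for every discrete valuation ring, as the printed argument gives.) -/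
theorem result
    (R : Type u) [CommRing R] [IsDomain R] [IsDiscreteValuationRing R]
    (K : Type u) [Field K] [Algebra R K] [IsFractionRing R K]
    (N : ℕ) (g : GL (Fin N) K) (hg : IsOfFinOrder g) :
    ∃ (R' : Type u) (_ : CommRing R') (_ : IsDomain R') (_ : IsDiscreteValuationRing R')
      (K' : Type u) (_ : Field K') (_ : Algebra R' K') (_ : IsFractionRing R' K')
      (_ : Algebra R R') (_ : Algebra K K') (_ : Algebra R K')
      (_ : IsScalarTower R R' K') (_ : IsScalarTower R K K')
      (_ : Module.Finite K K') (_ : IsLocalHom (algebraMap R R'))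
      (h : GL (Fin N) K') (g' : GL (Fin N) R'),
      h * Matrix.GeneralLinearGroup.map (algebraMap K K') g * h⁻¹ =
        Matrix.GeneralLinearGroup.map (algebraMap R' K') g' := by
  classical
  have hfin : Finite (Subgroup.zpowers g) := (hg.finite_zpowers).to_subtype
  let v : Subgroup.zpowers g × Fin N → Fin N → K := fun p ↦
    ((p.1 : GL (Fin N) K) : Matrix (Fin N) (Fin N) K).mulVec (Pi.single p.2 1)
  let M : Submodule R (Fin N → K) := Submodule.span R (Set.range v)
  have hinv : ∀ (a : GL (Fin N) K), a ∈ Subgroup.zpowers g → ∀ x ∈ M,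
      (a : Matrix (Fin N) (Fin N) K).mulVec x ∈ M := by
    intro a ha x hx
    induction hx using Submodule.span_induction with
    | mem y hy =>
      obtain ⟨⟨c, j⟩, rfl⟩ := hy
      refine Submodule.subset_span ⟨(⟨a * c, mul_mem ha c.2⟩, j), ?_⟩
      show ((a * c : GL (Fin N) K) : Matrix (Fin N) (Fin N) K).mulVec _ = _
      rw [Units.val_mul, ← Matrix.mulVec_mulVec]
    | zero => simp
    | add y z _ _ hy hz => rw [Matrix.mulVec_add]; exact add_mem hy hz
    | smul r y _ hy => rw [Matrix.mulVec_smul]; exact M.smul_mem r hy
  have hlat : Submodule.IsLattice K M := by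
    refine ⟨Submodule.fg_span (Set.finite_range v), eq_top_iff.mpr ?_⟩
    rw [← (Pi.basisFun K (Fin N)).span_eq]
    refine Submodule.span_mono ?_
    rintro _ ⟨j, rfl⟩
    exact Submodule.subset_span ⟨(1, j), by
      simp only [v, OneMemClass.coe_one, Units.val_one, Matrix.one_mulVec, Pi.basisFun_apply]⟩
  have : Module.IsTorsionFree R K := Module.isTorsionFree_iff_algebraMap_injective.mpr
    (IsFractionRing.injective R K)
  have := Submodule.IsLattice.free (K := K) M
  let b : Module.Basis (Fin N) R M := Module.finBasisOfFinrankEq R M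
    (by rw [Submodule.IsLattice.finrank_of_pi K M, Fintype.card_fin])
  let B := b.extendOfIsLattice K
  let P : Matrix (Fin N) (Fin N) K := (Pi.basisFun K (Fin N)).toMatrix B
  have hP : ∀ i k, P i k = (b k : Fin N → K) i := fun i k ↦ by
    simp [P, B, Module.Basis.toMatrix_apply]
  have : Invertible P := Module.Basis.invertibleToMatrix (Pi.basisFun K (Fin N)) B
  let Pu : GL (Fin N) K := unitOfInvertible P
  let G : GL (Fin N) K → Matrix (Fin N) (Fin N) R := fun a ↦ Matrix.of fun k' k ↦
    if ha : a ∈ Subgroup.zpowers g then b.repr ⟨_, hinv a ha (b k) (b k).2⟩ k' else 0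
  have hG : ∀ a ∈ Subgroup.zpowers g,
      (a : Matrix (Fin N) (Fin N) K) * P = P * (G a).map (algebraMap R K) := by
    intro a ha
    ext i k
    have := congrArg (fun x : M ↦ (x : Fin N → K) i) (b.sum_repr ⟨_, hinv a ha (b k) (b k).2⟩)
    simp only [Submodule.coe_sum, Submodule.coe_smul, Finset.sum_apply, Pi.smul_apply] at this
    simp only [Matrix.mul_apply, Matrix.map_apply, G, Matrix.of_apply, dif_pos ha, hP]
    rw [show ∑ j, (a : Matrix (Fin N) (Fin N) K) i j * (b k : Fin N → K) j =
      (a : Matrix (Fin N) (Fin N) K).mulVec (b k : Fin N → K) i from rfl, ← this]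
    exact Finset.sum_congr rfl fun j _ ↦ by rw [Algebra.smul_def, mul_comm]
  have hmap : ∀ a ∈ Subgroup.zpowers g, (G a).map (algebraMap R K) =
      ((Pu⁻¹ * a * Pu : GL (Fin N) K) : Matrix (Fin N) (Fin N) K) := fun a ha ↦ by
    rw [Units.val_mul, Units.val_mul, mul_assoc]
    exact (congrArg ((↑Pu⁻¹ : Matrix (Fin N) (Fin N) K) * ·) (hG a ha)).trans
      ((mul_assoc _ _ _).symm.trans (by rw [show P = (Pu : Matrix (Fin N) (Fin N) K) from rfl,
        Units.inv_mul, one_mul])) |>.symm
  have hone : ∀ a ∈ Subgroup.zpowers g, G a * G a⁻¹ = 1 := fun a ha ↦ by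
    apply Matrix.map_injective (IsFractionRing.injective R K)
    simp only
    rw [Matrix.map_mul, Matrix.map_one _ (map_zero _) (map_one _), hmap a ha, hmap a⁻¹ (inv_mem ha),
      ← Units.val_mul, ← Units.val_one]
    congr 1
    group
  have hg' := Subgroup.mem_zpowers g
  refine ⟨R, inferInstance, inferInstance, inferInstance, K, inferInstance, inferInstance,
    inferInstance, inferInstance, inferInstance, inferInstance, inferInstance, inferInstance,
    inferInstance, ⟨fun r hr ↦ hr⟩, Pu⁻¹, ⟨G g, G g⁻¹, hone g hg',
      by simpa using hone g⁻¹ (inv_mem hg')⟩, ?_⟩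
  ext i j
  rw [inv_inv]
  simp only [Algebra.algebraMap_self, Matrix.GeneralLinearGroup.map_id, MonoidHom.id_apply]
  rw [← hmap g hg']
  simp

end Groth.Agent.S14122
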