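import Groth.Statements.S14123
import Groth.Agent.EtRamLib.TotGen
-- import your own Groth.Agent.* helpers here

set_option autoImplicit false
universe u v
open GmQuot

namespace Groth.Agent.S14123

/-- Let `A = ⊕_{d ∈ ℤ} A_d` be a graded commutative ring whose ideal `I₊` generated by the homogeneous
elements of positive degree is finitely generated, `R` a discrete valuation ring with fraction field
`K`, and `φ : A → R` a ring map with `φ(I₊) ≠ 0` and `φ(I₊)` inside the maximal ideal. Then after a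
finite extension `K'/K` and a discrete valuation ring `R'` of `K'` dominating `R` there are a
nonzero non-unit `ϖ ∈ R'` and a ring map `g : A → R'` with `g(a) ϖ^d = φ(a)` for every homogeneous
`a` of degree `d` (so `g` is `φ` rescaled through the grading by `ϖ`), such that `g(I₊) R' = R'`.
(The published statement is phrased for the quotient stack of `Spec A` by the multiplicative group
and its closed substack cut out by `I₊`, in a setting where `A` is Noetherian, being of finite type
over a Noetherian base: an `R`-point whose closed point lies in that substack and whose generic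
point does not admits, after a finite extension, an elementary modification avoiding the substack;
this row is the graded-ring statement the printed argument proves, assuming only that `I₊` is
finitely generated, which is all that argument uses, and with `ϖ` not required to be a uniformizer.) -/
theorem result
    {A : Type u} [CommRing A] (𝒜 : ℤ → AddSubgroup A) [GradedRing 𝒜]
    (hfg : (Ideal.span {a : A | ∃ d : ℤ, 0 < d ∧ a ∈ 𝒜 d}).FG)
    (R : Type v) [CommRing R] [IsDomain R] [IsDiscreteValuationRing R]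
    (K : Type v) [Field K] [Algebra R K] [IsFractionRing R K]
    (φ : A →+* R)
    (hle : Ideal.map φ (Ideal.span {a : A | ∃ d : ℤ, 0 < d ∧ a ∈ 𝒜 d}) ≤ IsLocalRing.maximalIdeal R)
    (hne : Ideal.map φ (Ideal.span {a : A | ∃ d : ℤ, 0 < d ∧ a ∈ 𝒜 d}) ≠ ⊥) :
    ∃ (R' : Type v) (_ : CommRing R') (_ : IsDomain R') (_ : IsDiscreteValuationRing R')
      (K' : Type v) (_ : Field K') (_ : Algebra R' K') (_ : IsFractionRing R' K')
      (_ : Algebra R R') (_ : Algebra K K') (_ : Algebra R K')
      (_ : IsScalarTower R R' K') (_ : IsScalarTower R K K')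
      (_ : Module.Finite K K') (_ : IsLocalHom (algebraMap R R'))
      (ϖ : R') (g : A →+* R'),
      ϖ ≠ 0 ∧ ϖ ∈ IsLocalRing.maximalIdeal R' ∧
      (∀ (d : ℤ) (a : A), a ∈ 𝒜 d →
        algebraMap R' K' (g a) * algebraMap R' K' ϖ ^ d = algebraMap R K' (φ a)) ∧
      Ideal.map g (Ideal.span {a : A | ∃ d : ℤ, 0 < d ∧ a ∈ 𝒜 d}) = ⊤ := by
  classical
  open Groth.Agent.EtRamLib in
  obtain ⟨T, hTS, hTspan⟩ := (Submodule.fg_span_iff_fg_span_finset_subset _).1 hfg
  have hTspan' : Ideal.span {a : A | ∃ d : ℤ, 0 < d ∧ a ∈ 𝒜 d} = Ideal.span (T : Set A) := hTspan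
  have hT0 : ∀ t ∈ T, ∃ d : ℤ, 0 < d ∧ t ∈ 𝒜 d := fun t ht => hTS ht
  choose! deg hdeg using hT0
  obtain ⟨π, hπ⟩ := IsDiscreteValuationRing.exists_irreducible R
  let T' := T.filter fun t => φ t ≠ 0
  have hT'ne : T'.Nonempty := by
    by_contra h
    rw [Finset.not_nonempty_iff_eq_empty, Finset.filter_eq_empty_iff] at h
    refine hne ?_
    rw [hTspan', Ideal.map_span, Ideal.span_eq_bot]
    rintro _ ⟨t, ht, rfl⟩
    simpa using h ht
  have hval : ∀ t ∈ T', ∃ (m : ℕ) (u : Rˣ), φ t = u * π ^ m ∧ 0 < m := by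
    intro t ht
    obtain ⟨m, u, hmu⟩ := IsDiscreteValuationRing.eq_unit_mul_pow_irreducible (Finset.mem_filter.1 ht).2 hπ
    refine ⟨m, u, hmu, Nat.pos_of_ne_zero fun h0 => ?_⟩
    have hm : φ t ∈ IsLocalRing.maximalIdeal R :=
      hle (Ideal.mem_map_of_mem φ (Ideal.subset_span (hTS (Finset.mem_filter.1 ht).1)))
    rw [hmu, h0, pow_zero, mul_one] at hm
    exact (IsLocalRing.mem_maximalIdeal _).1 hm u.isUnit
  choose! mv uv hmuv hmpos using hval
  obtain ⟨t₀, ht₀, hmin⟩ := Finset.exists_min_image T' (fun t => (mv t : ℚ) / (deg t : ℚ)) hT'ne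
  have hd₀ := (hdeg t₀ (Finset.mem_filter.1 ht₀).1).1
  obtain ⟨e, he⟩ := Int.eq_ofNat_of_zero_le hd₀.le
  have he0 : 0 < e := by omega
  -- the extension
  obtain ⟨s₀, hs₀⟩ := IsAlgClosed.exists_pow_nat_eq (algebraMap R (AlgebraicClosure K) π) he0
  let L := IntermediateField.adjoin K {s₀}
  have hint : IsIntegral K s₀ := Algebra.IsIntegral.isIntegral s₀
  haveI : FiniteDimensional K L := IntermediateField.adjoin.finiteDimensional hint
  let s : L := ⟨s₀, IntermediateField.mem_adjoin_simple_self K s₀⟩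
  have hs : s ^ e = algebraMap R L π := Subtype.ext (by
    show s₀ ^ e = _
    rw [hs₀, IsScalarTower.algebraMap_apply R K (AlgebraicClosure K), IsScalarTower.algebraMap_apply R K L]
    rfl)
  have hfin : Module.finrank K L ≤ e := by
    rw [IntermediateField.adjoin.finrank hint]
    have hdvd : minpoly K s₀ ∣ Polynomial.X ^ e - Polynomial.C (algebraMap R K π) := minpoly.dvd K s₀ (by
      rw [map_sub, map_pow, Polynomial.aeval_X, Polynomial.aeval_C, hs₀, ← IsScalarTower.algebraMap_apply, sub_self])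
    refine (Polynomial.natDegree_le_of_dvd hdvd (Polynomial.X_pow_sub_C_ne_zero he0 _)).trans ?_
    rw [Polynomial.natDegree_X_pow_sub_C]
  obtain ⟨V, hV⟩ := DegP.exists_dom R (K := K) L
  have hTR := TotGen.of_pow (K := K) hπ he0 (t := s) hfin (fun W hW => by rw [← map_pow, hs])
  obtain ⟨hdvr, -⟩ := hTR.isDVR hπ he0 hV
  obtain ⟨hs0, hs1⟩ := hTR.t_pos hπ he0 hV
  have hsne : s ≠ 0 := fun h => hs0.ne' (by rw [h, map_zero])
  haveI := hdvr
  let ι : R →+* V := (algebraMap R L).codRestrict V.toSubring hV.1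
  letI : Algebra R V := ι.toAlgebra
  haveI : IsScalarTower R V L := IsScalarTower.of_algebraMap_eq fun x => rfl
  have hloc : IsLocalHom (algebraMap R V) := by
    refine ⟨fun a ha => ?_⟩
    by_contra hna
    have h1 := hV.2 a ((IsLocalRing.mem_maximalIdeal a).2 hna)
    exact h1.ne ((V.valuation_eq_one_iff (ι a)).1 ha)
  let w : L := s ^ mv t₀
  have hw0 : w ≠ 0 := pow_ne_zero _ hsne
  have hwV : w ∈ V := (V.valuation_le_one_iff _).1 (by rw [map_pow]; exact pow_le_one' hs1.le _)
  -- homogeneous elements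
  have hbase : ∀ t ∈ T, algebraMap R L (φ t) * w ^ (-deg t) ∈ V := by
    intro t ht
    by_cases h0 : φ t = 0
    · rw [h0, map_zero, zero_mul]; exact V.zero_mem
    have ht' : t ∈ T' := Finset.mem_filter.2 ⟨ht, h0⟩
    have hdt := (hdeg t ht).1
    have hineq : (mv t₀ : ℤ) * deg t ≤ (e : ℤ) * mv t := by
      have h1 : (mv t₀ : ℚ) / (deg t₀ : ℚ) ≤ (mv t : ℚ) / (deg t : ℚ) := hmin t ht'
      rw [div_le_div_iff₀ (by exact_mod_cast hd₀) (by exact_mod_cast hdt)] at h1
      have h2 : (mv t₀ : ℤ) * deg t ≤ (mv t : ℤ) * deg t₀ := by exact_mod_cast h1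
      rw [he] at h2
      linarith
    obtain ⟨r, hr⟩ := Int.eq_ofNat_of_zero_le (sub_nonneg.2 hineq)
    simp only [w]
    rw [hmuv t ht', map_mul, map_pow, ← hs, ← pow_mul, mul_assoc, ← zpow_natCast s (e * mv t),
      ← zpow_natCast s (mv t₀), ← zpow_mul, ← zpow_add₀ hsne,
      show ((e * mv t : ℕ) : ℤ) + (mv t₀ : ℤ) * -deg t = (r : ℤ) by push_cast; linarith, zpow_natCast]
    exact V.mul_mem _ _ (hV.1 _) (pow_mem ((V.valuation_le_one_iff _).1 hs1.le) r)
  have hhom : ∀ (d : ℤ) (a : A), a ∈ 𝒜 d → algebraMap R L (φ a) * w ^ (-d) ∈ V := by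
    suffices key : ∀ (n : ℕ) (d : ℤ), d ≤ n → ∀ a ∈ 𝒜 d, algebraMap R L (φ a) * w ^ (-d) ∈ V from
      fun d a ha => key d.toNat d (Int.self_le_toNat d) a ha
    intro n
    induction n with
    | zero =>
      intro d hd a _
      obtain ⟨r, hr⟩ := Int.eq_ofNat_of_zero_le (show 0 ≤ -d by omega)
      rw [hr, zpow_natCast]
      exact V.mul_mem _ _ (hV.1 _) (pow_mem hwV r)
    | succ n ih =>
      intro d hd a ha
      by_cases hd0 : d ≤ n
      · exact ih d hd0 a ha
      have haI : a ∈ Ideal.span (T : Set A) := by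
        rw [← hTspan']; exact Ideal.subset_span ⟨d, by omega, ha⟩
      obtain ⟨c, hc⟩ := Submodule.mem_span_finset'.1 haI
      have hdec : a = ∑ t : T, (DirectSum.decompose 𝒜 (c t) (d - deg t.1) : A) * t.1 := by
        conv_lhs => rw [← DirectSum.decompose_of_mem_same 𝒜 ha]
        rw [← hc, DirectSum.decompose_sum, DFinsupp.finsetSum_apply, AddSubmonoidClass.coe_finsetSum]
        refine Finset.sum_congr rfl fun t _ => ?_
        rw [smul_eq_mul]
        conv_lhs => rw [show d = (d - deg t.1) + deg t.1 by omega]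
        exact DirectSum.coe_decompose_mul_add_of_right_mem 𝒜 (hdeg t.1 t.2).2
      rw [hdec, map_sum, map_sum, Finset.sum_mul]
      refine sum_mem fun t _ => ?_
      rw [map_mul, map_mul, show -d = -(d - deg t.1) + -deg t.1 by ring, zpow_add₀ hw0, mul_mul_mul_comm]
      refine V.mul_mem _ _ (ih _ ?_ _ (SetLike.coe_mem _)) (hbase t.1 t.2)
      have := (hdeg t.1 t.2).1
      omega
  -- the rescaled map
  let f : ∀ d : ℤ, 𝒜 d →+ L := fun d =>
    { toFun := fun a => algebraMap R L (φ a) * w ^ (-d)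
      map_zero' := by simp
      map_add' := fun a b => by simp [add_mul] }
  let gK : A →+* L := (DirectSum.toSemiring f
    (by show algebraMap R L (φ (1 : A)) * w ^ (-(0 : ℤ)) = 1
        simp)
    (fun {i j} a b => by
      show algebraMap R L (φ ((a : A) * b)) * w ^ (-(i + j)) = _ * _
      rw [map_mul, map_mul, neg_add, zpow_add₀ hw0, mul_mul_mul_comm]
      rfl)).comp (DirectSum.decomposeRingEquiv 𝒜).toRingHom
  have hgK : ∀ (d : ℤ) (a : A), a ∈ 𝒜 d → gK a = algebraMap R L (φ a) * w ^ (-d) := fun d a ha => by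
    have e : (DirectSum.decomposeRingEquiv 𝒜).toRingHom a = DirectSum.of (fun i => 𝒜 i) d ⟨a, ha⟩ :=
      DirectSum.decompose_of_mem 𝒜 ha
    simp only [gK, RingHom.comp_apply]
    rw [e, DirectSum.toSemiring_of]
    rfl
  have hgV : ∀ a, gK a ∈ V.toSubring := by
    intro a
    induction a using DirectSum.Decomposition.inductionOn 𝒜 with
    | zero => rw [map_zero]; exact zero_mem _
    | homogeneous a => rw [hgK _ _ a.2]; exact hhom _ _ a.2
    | add a b ha hb => rw [map_add]; exact add_mem ha hb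
  refine ⟨V, inferInstance, inferInstance, hdvr, L, inferInstance, inferInstance, inferInstance,
    inferInstance, inferInstance, inferInstance, inferInstance, inferInstance, inferInstance, hloc,
    ⟨w, hwV⟩, gK.codRestrict V.toSubring hgV, ?_, ?_, ?_, ?_⟩
  · exact fun h => hw0 (congrArg Subtype.val h)
  · rw [V.valuation_lt_one_iff]
    show V.valuation (s ^ mv t₀) < 1
    rw [map_pow]
    exact pow_lt_one₀ zero_le' hs1 (hmpos t₀ ht₀).ne'
  · intro d a ha
    show gK a * w ^ d = algebraMap R L (φ a)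
    rw [hgK d a ha, mul_assoc, ← zpow_add₀ hw0, neg_add_cancel, zpow_zero, mul_one]
  · refine Ideal.eq_top_of_isUnit_mem _
      (Ideal.mem_map_of_mem _ (Ideal.subset_span (hTS (Finset.mem_filter.1 ht₀).1))) ?_
    apply (V.valuation_eq_one_iff _).2
    show V.valuation (gK t₀) = 1
    rw [hgK _ _ (hdeg t₀ (Finset.mem_filter.1 ht₀).1).2]
    simp only [w]
    rw [hmuv t₀ ht₀, (algebraMap R L).map_mul, (algebraMap R L).map_pow, ← hs, ← pow_mul, he,
      mul_assoc, ← zpow_natCast s (e * mv t₀), ← zpow_natCast s (mv t₀), ← zpow_mul, ← zpow_add₀ hsne,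
      show ((e * mv t₀ : ℕ) : ℤ) + (mv t₀ : ℤ) * -(e : ℤ) = 0 by push_cast; ring, zpow_zero, mul_one]
    exact DegP.val_unit hV (uv t₀).isUnit

end Groth.Agent.S14123
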