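import Groth.Statements.S14126
import Groth.Agent.BCFlat16.FMInv
import Groth.Agent.DQCoh.Push


set_option autoImplicit false
universe u
open CategoryTheory CategoryTheory.Limits MonoidalCategory CartesianMonoidalCategory MonObj GrpObj AlgebraicGeometry
attribute [local instance] HasDerivedCategory.standard
open AbVar

namespace Groth.Agent.S14126

open Groth.Agent Groth.Agent.PicLib Groth.Agent.AbDualLib Groth.Agent.BCFlat16 in
/-- Let k be a field, A an abelian variety over k (a proper smooth k-group scheme with geometrically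
connected fibres), (A^t, φ) a given dual abelian variety of A for the fppf topology with A^t itself
an abelian variety, and P an invertible module on A ×_k A^t whose class is a Poincaré class. Assume
the derived functors Lpr_1^*, − ⊗^L P and Rpr_{2,*} exist and that Φ_P = Rpr_{2,*}(Lpr_1^*(−) ⊗^L P)
sends objects of D(O_A) with quasi-coherent cohomology sheaves to objects of D(O_{A^t}) with
quasi-coherent cohomology sheaves. Then the induced functor D_QCoh(O_A) → D_QCoh(O_{A^t}) is an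
equivalence of categories. -/
theorem result (k : Type u) [Field k]
    (A At : Over (Spec (CommRingCat.of k))) [GrpObj A] [IsProper A.hom] [Smooth A.hom] [GeometricallyConnected A.hom]
    [GrpObj At] [IsProper At.hom] [Smooth At.hom] [GeometricallyConnected At.hom]
    (φ : ∀ T : Over (Spec (CommRingCat.of k)), PicF.Cl (PicF.XT A.hom T) → (T ⟶ At))
    (hφ : AbDual.IsDualAV Scheme.fppfPrecoverage A At φ)
    (P : (pullback A.hom At.hom).Modules) (hP : PicF.IsInvertible P)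
    (hPξ : AbDual.IsPoincareCl A At φ (PicF.cl P))
    [DCoh.HasLpull (pullback.fst A.hom At.hom)] [DCoh.HasLTensorMod P] [DCoh.HasRpush (pullback.snd A.hom At.hom)]
    (h : ∀ M : DCoh.D A.left, DCoh.IsQCohD M → DCoh.IsQCohD ((DCoh.Lpull (pullback.fst A.hom At.hom) ⋙ DCoh.LTensorMod P ⋙ DCoh.Rpush (pullback.snd A.hom At.hom)).obj M)) :
    (ObjectProperty.lift (DCoh.IsQCohD (X := At.left))
        (ObjectProperty.ι (DCoh.IsQCohD (X := A.left)) ⋙ (DCoh.Lpull (pullback.fst A.hom At.hom) ⋙ DCoh.LTensorMod P ⋙ DCoh.Rpush (pullback.snd A.hom At.hom)))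
        (fun M => h M.obj M.property)).IsEquivalence := by
  haveI : GeometricallyIntegral A.hom := AbVarLib.geometricallyIntegral_of_smooth A.hom
  haveI : GeometricallyIntegral At.hom := AbVarLib.geometricallyIntegral_of_smooth At.hom
  obtain ⟨g, hg⟩ := AbCubeLib.exists_dim_eq A
  haveI := DCat.hasRpush (pullback.fst A.hom At.hom)
  haveI := DCat.hasRpush (pullback.fst At.hom A.hom)
  obtain ⟨eA, heA⟩ : ∃ eA : Spec (CommRingCat.of k) ⟶ A.left, eA = η[A].left := ⟨_, rfl⟩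
  obtain ⟨eT, heT⟩ : ∃ eT : Spec (CommRingCat.of k) ⟶ At.left, eT = η[At].left := ⟨_, rfl⟩
  haveI := DCat.hasRpush eA
  haveI := DCat.hasRpush eT
  let σ := (pullbackSymmetry At.hom A.hom).hom
  let τ := (pullbackSymmetry A.hom At.hom).hom
  let P' := (Scheme.Modules.pullback σ).obj P
  let P'' := (Scheme.Modules.pullback τ).obj P'
  have hP' : PicF.IsInvertible P' := PicLoc.isInvertible_pullback _ hP
  have hP'' : PicF.IsInvertible P'' := PicLoc.isInvertible_pullback _ hP'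
  haveI : DCoh.HasLTensorMod P' := DCat.hasLTensorMod _
  haveI : DCoh.HasLTensorMod P'' := DCat.hasLTensorMod _
  haveI := DCat.hasLpull (pullback.fst At.hom A.hom)
  haveI := DCat.hasRpush (pullback.snd At.hom A.hom)
  haveI := DCat.hasLpull ((𝟙 A)⁻¹).left
  haveI := DCat.hasLpull ((𝟙 At)⁻¹).left
  obtain ⟨c₁⟩ := nonempty_conv A At P hP (ev_mul_fst hφ hP hPξ) (-(g : ℤ)) eA heA
    (nonempty_R_fst hφ hP hPξ hg eA heA) (CubeLib.flat_of_field _) (CubeLib.flat_of_field _)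
  obtain ⟨c₂⟩ := nonempty_conv At A P' hP' (ev_mul_swap hφ hP hPξ) (-(g : ℤ)) eT heT
    (nonempty_R_snd hφ hP hPξ hg eT heT) (CubeLib.flat_of_field _) (CubeLib.flat_of_field _)
  obtain ⟨n₁⟩ := nonempty_LTensorMod_nat P
  obtain ⟨n₂⟩ := nonempty_LTensorMod_nat P''
  obtain ⟨e⟩ := nonempty_tens_of_eq hP'' hP (by
    rw [← PicM.pull_of τ hP', ← PicM.pull_of σ hP, PicM.pull_pull,
      show τ ≫ σ = 𝟙 _ by apply pullback.hom_ext <;> simp [τ, σ]]
    exact PicM.pull_id _)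
  let Φ := DCoh.Lpull (pullback.fst A.hom At.hom) ⋙ DCoh.LTensorMod P ⋙ DCoh.Rpush (pullback.snd A.hom At.hom)
  let Ψ := DCoh.Lpull (pullback.fst At.hom A.hom) ⋙ DCoh.LTensorMod P' ⋙ DCoh.Rpush (pullback.snd At.hom A.hom)
  let Φ'' := DCoh.Lpull (pullback.fst A.hom At.hom) ⋙ DCoh.LTensorMod P'' ⋙ DCoh.Rpush (pullback.snd A.hom At.hom)
  let eΦ : Φ'' ≅ Φ := Functor.isoWhiskerLeft _ (Functor.isoWhiskerRight (n₂ ≪≫ e ≪≫ n₁.symm) _)
  let QA := (DCoh.IsQCohD (X := A.left)).ι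
  let QT := (DCoh.IsQCohD (X := At.left)).ι
  have hΨ : ∀ M : DCoh.D At.left, DCoh.IsQCohD M → DCoh.IsQCohD (Ψ.obj M) := fun M hM => by
    obtain ⟨n⟩ := nonempty_LTensorMod_nat P'
    have hq : Coh.IsQCoh P' := AmpleLib.isQCoh_of_isInvertible hP'
    have h₁ : DCoh.IsQCohD ((DCoh.LTensorMod P').obj ((DCoh.Lpull (pullback.fst At.hom A.hom)).obj M)) :=
      DQCoh.isQCohD_of_iso (n.app ((DCoh.Lpull (pullback.fst At.hom A.hom)).obj M)).symm
        (TenBC.isQCohD_tens hq (DQCoh.isQCohD_Lpull (pullback.fst At.hom A.hom) M hM))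
    exact DQCoh.isQCohD_Rpush (pullback.snd At.hom A.hom) _ h₁
  let F := ObjectProperty.lift (DCoh.IsQCohD (X := At.left)) (QA ⋙ Φ) (fun M => h M.obj M.property)
  let G := ObjectProperty.lift (DCoh.IsQCohD (X := A.left)) (QT ⋙ Ψ) (fun M => hΨ M.obj M.property)
  have key : ∀ (X : Over (Spec (CommRingCat.of k))) [GrpObj X] [DCoh.HasLpull ((𝟙 X)⁻¹).left]
      (H : (DCoh.IsQCohD (X := X.left)).FullSubcategory ⥤ (DCoh.IsQCohD (X := X.left)).FullSubcategory),
      Nonempty (H ⋙ (DCoh.IsQCohD (X := X.left)).ι ≅ (DCoh.IsQCohD (X := X.left)).ι ⋙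
        DCoh.Lpull ((𝟙 X)⁻¹).left ⋙ shiftFunctor (DCoh.D X.left) (-(g : ℤ))) → H.IsEquivalence := by
    intro X _ _ H ⟨i⟩
    let f := ((𝟙 X)⁻¹).left
    haveI := DCat.hasLpull (𝟙 X.left)
    have hf : f ≫ f = 𝟙 X.left := by
      rw [show f ≫ f = ((𝟙 X)⁻¹ ≫ (𝟙 X)⁻¹).left from rfl, GrpObj.comp_inv, Category.comp_id, _root_.inv_inv, Over.id_left]
    obtain ⟨l⟩ := nonempty_Lpull_comp f f _ hf
    obtain ⟨u⟩ := nonempty_Lpull_id (X := X.left)
    haveI : (DCoh.Lpull f).IsEquivalence :=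
      (CategoryTheory.Equivalence.mk (DCoh.Lpull f) (DCoh.Lpull f) (l ≪≫ u).symm (l ≪≫ u)).isEquivalence_functor
    let Q := (DCoh.IsQCohD (X := X.left)).ι
    let L := DCoh.Lpull f ⋙ shiftFunctor (DCoh.D X.left) (-(g : ℤ))
    haveI : (H ⋙ Q).Faithful := Functor.Faithful.of_iso (F := Q ⋙ L) i.symm
    haveI : (H ⋙ Q).Full := Functor.Full.of_iso (F := Q ⋙ L) i.symm
    haveI : H.Faithful := Functor.Faithful.of_comp H Q
    haveI : H.Full := Functor.Full.of_comp_faithful H Q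
    haveI : H.EssSurj := ⟨fun K => by
      let K' := (DCoh.Lpull f).obj (K.obj⟦(g : ℤ)⟧)
      refine ⟨⟨K', DQCoh.isQCohD_Lpull _ _ (DQCoh.isQCohD_shift K.2 _)⟩, ⟨Q.preimageIso ?_⟩⟩
      exact i.app _ ≪≫ (shiftFunctor _ (-(g : ℤ))).mapIso ((l ≪≫ u).app _) ≪≫
        (shiftFunctorCompIsoId (DCoh.D X.left) (g : ℤ) (-(g : ℤ)) (by omega)).app _⟩
    exact {}
  haveI : (F ⋙ G).IsEquivalence := key A (F ⋙ G) ⟨c₁⟩
  haveI : (G ⋙ F).IsEquivalence := key At (G ⋙ F) ⟨(Functor.isoWhiskerLeft QT (Functor.isoWhiskerLeft Ψ eΦ.symm) :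
    QT ⋙ Ψ ⋙ Φ ≅ QT ⋙ Ψ ⋙ Φ'') ≪≫ c₂⟩
  haveI : F.Faithful := Functor.Faithful.of_comp F G
  haveI : G.Faithful := Functor.Faithful.of_comp G F
  haveI : F.Full := Functor.Full.of_comp_faithful F G
  haveI : F.EssSurj := ⟨fun K => ⟨G.obj ((G ⋙ F).objPreimage K), ⟨(G ⋙ F).objObjPreimageIso K⟩⟩⟩
  show F.IsEquivalence
  exact {}

end Groth.Agent.S14126
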