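import Groth.Statements.S14130
import Groth.Agent.AbCohLib.Degree
import Groth.Agent.AbCohLib.PoincareExists
-- import your own Groth.Agent.* helpers here

set_option autoImplicit false
set_option linter.style.haveILetI false
set_option backward.isDefEq.respectTransparency.types false
universe u
open CategoryTheory CategoryTheory.Limits MonoidalCategory CartesianMonoidalCategory MonObj GrpObj AlgebraicGeometry
open AbVar

namespace Groth.Agent.S14130

open CategoryTheory CategoryTheory.Limits MonObj AlgebraicGeometry in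
open Groth.Agent in
/-- Let k be an algebraically closed field, A an abelian variety over k (a proper smooth k-group scheme
with geometrically connected fibres), (A^t, φ) a given dual abelian variety of A for the fppf
topology with A^t an abelian variety, L an invertible O_A-module with an inverse L', and Λ a module
on A ×_k A isomorphic to the Mumford module m^*L ⊗ pr_1^*L' ⊗ pr_2^*L', whose class is assumed
algebraically trivial on every geometric fibre of the second projection. Let φ_L = φ(Λ) : A → A^t be
the morphism classifying Λ (on points, x ↦ t_x^*L ⊗ L'), and assume L is non-degenerate in the sense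
that φ_L is finite and flat, of constant rank d (so d is the order of its kernel K(L)). Then χ(A,
L)^2 = d. -/
theorem result (k : Type u) [Field k] [IsAlgClosed k]
    (A At : Over (Spec (CommRingCat.of k))) [GrpObj A] [IsProper A.hom] [Smooth A.hom] [GeometricallyConnected A.hom]
    [GrpObj At] [IsProper At.hom] [Smooth At.hom] [GeometricallyConnected At.hom]
    (φ : ∀ T : Over (Spec (CommRingCat.of k)), PicF.Cl (PicF.XT A.hom T) → (T ⟶ At))
    (hφ : AbDual.IsDualAV Scheme.fppfPrecoverage A At φ)
    (L : A.left.Modules) (hL : PicF.IsInvertible L) (L' : A.left.Modules) (hL' : Nonempty (CohB1.tensorMod L L' ≅ Coh.structureModule A.left))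
    (Λ : (PicF.XT A.hom A).Modules)
    (hΛ : Nonempty (Λ ≅ CohB1.tensorMod (CohB1.tensorMod ((Scheme.Modules.pullback μ[A].left).obj L)
      ((Scheme.Modules.pullback (fst A A).left).obj L')) ((Scheme.Modules.pullback (snd A A).left).obj L')))
    (hΛ0 : AbDual.IsPicZeroCl A.hom A (PicF.cl Λ))
    [IsFinite (φ A (PicF.cl Λ)).left] [Flat (φ A (PicF.cl Λ)).left]
    (d : ℕ) (hd : ∀ y : ↥At.left, Scheme.Hom.finrank (φ A (PicF.cl Λ)).left y = d) :
    @Curv2.euler k _ A.left ⟨A.hom⟩ L ^ 2 = (d : ℤ) := by
  obtain ⟨eL'⟩ := hL'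
  have hL'i : PicF.IsInvertible L' := MorProj.isInvertible_of_tensor_iso (AmpleLib.tensorComm L' L ≪≫ eL')
  have hll : PicLib.PicM.of hL * PicLib.PicM.of hL'i = 1 := by
    rw [PicLib.PicM.of_mul hL hL'i]; exact (PicLib.PicM.of_eq_one_iff _).2 ⟨eL'⟩
  obtain ⟨eΛ⟩ := hΛ
  have hM := AmpleLib.isInvertible_tensorMod (AmpleLib.isInvertible_tensorMod (PicLoc.isInvertible_pullback μ[A].left hL)
    (PicLoc.isInvertible_pullback (fst A A).left hL'i)) (PicLoc.isInvertible_pullback (snd A A).left hL'i)
  have hΛi := KLLib.isInvertible_of_iso eΛ.symm hM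
  haveI := AbVarLib.geometricallyIntegral_of_smooth A.hom
  obtain ⟨g, hg⟩ := AbCubeLib.exists_dim_eq A
  obtain ⟨P, hP, hPξ⟩ := AbCohLib.exists_isPoincareCl hφ
  haveI : IsFinite (φ A (PicLib.PicM.of hΛi).val).left := ‹IsFinite (φ A (PicF.cl Λ)).left›
  haveI : Flat (φ A (PicLib.PicM.of hΛi).val).left := ‹Flat (φ A (PicF.cl Λ)).left›
  refine AbCohLib.euler_sq_eq_degree hφ hP hPξ hg hL hL'i hll (PicLib.PicM.of hΛi) ?_ hΛ0 d hd
  rw [(PicLib.PicM.of_eq_iff hΛi hM).2 ⟨eΛ⟩, ← PicLib.PicM.of_mul (AmpleLib.isInvertible_tensorMod (PicLoc.isInvertible_pullback μ[A].left hL)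
      (PicLoc.isInvertible_pullback (fst A A).left hL'i)) (PicLoc.isInvertible_pullback (snd A A).left hL'i),
    ← PicLib.PicM.of_mul (PicLoc.isInvertible_pullback μ[A].left hL) (PicLoc.isInvertible_pullback (fst A A).left hL'i),
    ← PicLib.PicM.pull_of _ hL, ← PicLib.PicM.pull_of _ hL'i, ← PicLib.PicM.pull_of _ hL'i]

end Groth.Agent.S14130
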