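import Groth.Statements.S14132
import Groth.Agent.BCFlat16.FMMain


set_option autoImplicit false
universe u
open CategoryTheory CategoryTheory.Limits MonoidalCategory CartesianMonoidalCategory MonObj GrpObj AlgebraicGeometry
attribute [local instance] HasDerivedCategory.standard
open AbVar

namespace Groth.Agent.S14132

open Groth.Agent Groth.Agent.PicLib Groth.Agent.AbDualLib Groth.Agent.BCFlat16 in
/-- Let k be a field, A and B abelian varieties over k (proper smooth k-group schemes with geometrically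
connected fibres), f : A → B a homomorphism, (A^t, φ_A) and (B^t, φ_B) given dual abelian varieties
for the fppf topology (both abelian varieties), P_A on A ×_k A^t and P_B on B ×_k B^t invertible
modules whose classes are Poincaré classes, and f^t : B^t → A^t the transpose of f with respect to
these duals. Write Φ_{P_A} = Rpr_{2,*}(Lpr_1^*(−) ⊗^L P_A) : D(O_A) → D(O_{A^t}) and similarly
Φ_{P_B}; the derived functors involved are assumed to exist. Then, restricted to objects of D(O_A)
with quasi-coherent cohomology sheaves, Φ_{P_B} ∘ Rf_* is isomorphic to L(f^t)^* ∘ Φ_{P_A}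
(existence of an isomorphism of functors). -/
theorem result (k : Type u) [Field k]
    (A At B Bt : Over (Spec (CommRingCat.of k))) [GrpObj A] [IsProper A.hom] [Smooth A.hom] [GeometricallyConnected A.hom]
    [GrpObj At] [IsProper At.hom] [Smooth At.hom] [GeometricallyConnected At.hom]
    [GrpObj B] [IsProper B.hom] [Smooth B.hom] [GeometricallyConnected B.hom]
    [GrpObj Bt] [IsProper Bt.hom] [Smooth Bt.hom] [GeometricallyConnected Bt.hom]
    (φA : ∀ T : Over (Spec (CommRingCat.of k)), PicF.Cl (PicF.XT A.hom T) → (T ⟶ At))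
    (hφA : AbDual.IsDualAV Scheme.fppfPrecoverage A At φA)
    (φB : ∀ T : Over (Spec (CommRingCat.of k)), PicF.Cl (PicF.XT B.hom T) → (T ⟶ Bt))
    (hφB : AbDual.IsDualAV Scheme.fppfPrecoverage B Bt φB)
    (PA : (pullback A.hom At.hom).Modules) (hPA : PicF.IsInvertible PA)
    (hPAξ : AbDual.IsPoincareCl A At φA (PicF.cl PA))
    (PB : (pullback B.hom Bt.hom).Modules) (hPB : PicF.IsInvertible PB)
    (hPBξ : AbDual.IsPoincareCl B Bt φB (PicF.cl PB))
    (f : A ⟶ B) [IsMonHom f] (ft : Bt ⟶ At) (hft : AbDual.IsTranspose f φA φB ft)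
    [DCoh.HasLpull (pullback.fst A.hom At.hom)] [DCoh.HasLTensorMod PA] [DCoh.HasRpush (pullback.snd A.hom At.hom)]
    [DCoh.HasLpull (pullback.fst B.hom Bt.hom)] [DCoh.HasLTensorMod PB] [DCoh.HasRpush (pullback.snd B.hom Bt.hom)]
    [DCoh.HasRpush f.left] [DCoh.HasLpull ft.left] :
    Nonempty (ObjectProperty.ι (DCoh.IsQCohD (X := A.left)) ⋙ DCoh.Rpush f.left ⋙ (DCoh.Lpull (pullback.fst B.hom Bt.hom) ⋙ DCoh.LTensorMod PB ⋙ DCoh.Rpush (pullback.snd B.hom Bt.hom)) ≅
      ObjectProperty.ι (DCoh.IsQCohD (X := A.left)) ⋙ (DCoh.Lpull (pullback.fst A.hom At.hom) ⋙ DCoh.LTensorMod PA ⋙ DCoh.Rpush (pullback.snd A.hom At.hom)) ⋙ DCoh.Lpull ft.left) := by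
  obtain ⟨Pc, hPc, h0, hid, hrig⟩ := exists_poincare hPAξ
  obtain rfl : Pc = PicM.of hPA := PicM.ext hPc.symm
  obtain ⟨Pc', hPc', hB0, hBid, hBrig⟩ := exists_poincare hPBξ
  obtain rfl : Pc' = PicM.of hPB := PicM.ext hPc'.symm
  haveI : IsProper f.left := by
    haveI : IsProper (f.left ≫ B.hom) := by rw [Over.w f]; infer_instance
    exact IsProper.of_comp f.left B.hom
  obtain ⟨F, hF⟩ : ∃ F : pullback A.hom Bt.hom ⟶ pullback B.hom Bt.hom,
      F = (CartesianMonoidalCategory.lift (fst A Bt ≫ f) (snd A Bt)).left := ⟨_, rfl⟩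
  obtain ⟨G, hG⟩ : ∃ G : pullback A.hom Bt.hom ⟶ pullback A.hom At.hom,
      G = (CartesianMonoidalCategory.lift (fst A Bt) (snd A Bt ≫ ft)).left := ⟨_, rfl⟩
  have hF₁ : F ≫ pullback.fst B.hom Bt.hom = pullback.fst A.hom Bt.hom ≫ f.left := by
    subst hF
    exact congrArg CommaMorphism.left (lift_fst (fst A Bt ≫ f) (snd A Bt))
  have hF₂ : F ≫ pullback.snd B.hom Bt.hom = pullback.snd A.hom Bt.hom := by
    subst hF
    exact congrArg CommaMorphism.left (lift_snd (fst A Bt ≫ f) (snd A Bt))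
  have hG₁ : G ≫ pullback.fst A.hom At.hom = pullback.fst A.hom Bt.hom := by
    subst hG
    exact congrArg CommaMorphism.left (lift_fst (fst A Bt) (snd A Bt ≫ ft))
  have hG₂ : G ≫ pullback.snd A.hom At.hom = pullback.snd A.hom Bt.hom ≫ ft.left := by
    subst hG
    exact congrArg CommaMorphism.left (lift_snd (fst A Bt) (snd A Bt ≫ ft))
  have hsqF : IsPullback (pullback.fst A.hom Bt.hom) F f.left (pullback.fst B.hom Bt.hom) := by
    refine (IsPullback.of_right ?_ hF₁ (IsPullback.of_hasPullback B.hom Bt.hom).flip).flip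
    rw [hF₂, Over.w f]
    exact (IsPullback.of_hasPullback A.hom Bt.hom).flip
  have hsqG : IsPullback G (pullback.snd A.hom Bt.hom) (pullback.snd A.hom At.hom) ft.left := by
    refine IsPullback.of_right ?_ hG₂ (IsPullback.of_hasPullback A.hom At.hom)
    rw [hG₁, Over.w ft]
    exact IsPullback.of_hasPullback A.hom Bt.hom
  haveI : Flat (pullback.snd A.hom At.hom) := inferInstance
  haveI : Flat (pullback.fst B.hom Bt.hom) := inferInstance
  have hFP : PicF.IsInvertible ((Scheme.Modules.pullback F).obj PB) := PicLoc.isInvertible_pullback _ hPB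
  have hGP : PicF.IsInvertible ((Scheme.Modules.pullback G).obj PA) := PicLoc.isInvertible_pullback _ hPA
  have key : PicM.of hFP = PicM.of hGP := by
    rw [← PicM.pull_of F hPB, ← PicM.pull_of G hPA]
    subst hF hG
    exact BCFlat16.FMClass.ev_transpose hφA h0 hid hrig hB0 hBid hBrig f ft hft
  haveI := DCat.hasLpull (pullback.fst A.hom Bt.hom)
  haveI := DCat.hasRpush F
  haveI := DCat.hasRpush (pullback.snd A.hom Bt.hom)
  obtain ⟨c⟩ := nonempty_kernel_bc (pullback.fst A.hom At.hom) ft.left hsqG _ hG₁ hPA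
  obtain ⟨d⟩ := nonempty_bc_nat hsqF (Or.inr inferInstance) (DCoh.IsQCohD (X := A.left)).ι (fun K => K.2)
  obtain ⟨n⟩ := nonempty_LTensorMod_nat PB
  obtain ⟨π⟩ := nonempty_projection_tens F hPB
  obtain ⟨r⟩ := nonempty_Rpush_comp F (pullback.snd B.hom Bt.hom) _ hF₂
  obtain ⟨b⟩ := nonempty_tens_of_eq hFP hGP key
  refine ⟨(Functor.isoWhiskerLeft _ (Functor.associator _ _ _).symm ≪≫ (Functor.associator _ _ _).symm ≪≫
    Functor.isoWhiskerRight d _ ≪≫ Functor.associator _ _ _ ≪≫ Functor.isoWhiskerLeft _ (Functor.associator _ _ _ ≪≫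
      Functor.isoWhiskerLeft _ (Functor.isoWhiskerLeft _ (Functor.isoWhiskerRight n _) ≪≫
        (Functor.associator _ _ _).symm ≪≫ Functor.isoWhiskerRight π _ ≪≫ Functor.associator _ _ _ ≪≫
        Functor.isoWhiskerLeft _ r ≪≫ Functor.isoWhiskerRight b _))) ≪≫ c.symm⟩

end Groth.Agent.S14132
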