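import Groth.Statements.S14134
import Groth.Agent.BCFlat16.FMMain


set_option autoImplicit false
universe u
open CategoryTheory CategoryTheory.Limits MonoidalCategory CartesianMonoidalCategory MonObj GrpObj AlgebraicGeometry
attribute [local instance] HasDerivedCategory.standard
open AbVar

namespace Groth.Agent.S14134

open Groth.Agent Groth.Agent.PicLib Groth.Agent.AbDualLib Groth.Agent.BCFlat16 in
/-- Let k be a field, A an abelian variety over k (a proper smooth k-group scheme with geometrically
connected fibres), (A^t, φ) a given dual abelian variety of A for the fppf topology with A^t an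
abelian variety, P an invertible module on A ×_k A^t whose class is a Poincaré class, and x a
k-rational point of A^t. Let M_x be the restriction of P along A = A × {x} → A ×_k A^t, and t_x :
A^t → A^t the translation by x (the product of the identity and the constant map x in the group
Hom(A^t, A^t)). Write Φ_P = Rpr_{2,*}(Lpr_1^*(−) ⊗^L P) : D(O_A) → D(O_{A^t}); the derived functors
involved are assumed to exist. Then, restricted to objects of D(O_A) with quasi-coherent cohomology
sheaves, the functor F ↦ Φ_P(F ⊗^L M_x) is isomorphic to F ↦ Lt_x^*Φ_P(F) (existence of an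
isomorphism of functors). -/
theorem result (k : Type u) [Field k]
    (A At : Over (Spec (CommRingCat.of k))) [GrpObj A] [IsProper A.hom] [Smooth A.hom] [GeometricallyConnected A.hom]
    [GrpObj At] [IsProper At.hom] [Smooth At.hom] [GeometricallyConnected At.hom]
    (φ : ∀ T : Over (Spec (CommRingCat.of k)), PicF.Cl (PicF.XT A.hom T) → (T ⟶ At))
    (hφ : AbDual.IsDualAV Scheme.fppfPrecoverage A At φ)
    (P : (pullback A.hom At.hom).Modules) (hP : PicF.IsInvertible P)
    (hPξ : AbDual.IsPoincareCl A At φ (PicF.cl P))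
    (x : 𝟙_ (Over (Spec (CommRingCat.of k))) ⟶ At)
    [DCoh.HasLpull (pullback.fst A.hom At.hom)] [DCoh.HasLTensorMod P] [DCoh.HasRpush (pullback.snd A.hom At.hom)]
    [DCoh.HasLTensorMod ((Scheme.Modules.pullback (CartesianMonoidalCategory.lift (𝟙 A) (toUnit A ≫ x)).left).obj P)]
    [DCoh.HasLpull (𝟙 At * (toUnit At ≫ x)).left] :
    Nonempty (ObjectProperty.ι (DCoh.IsQCohD (X := A.left)) ⋙
        DCoh.LTensorMod ((Scheme.Modules.pullback (CartesianMonoidalCategory.lift (𝟙 A) (toUnit A ≫ x)).left).obj P) ⋙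
        (DCoh.Lpull (pullback.fst A.hom At.hom) ⋙ DCoh.LTensorMod P ⋙ DCoh.Rpush (pullback.snd A.hom At.hom)) ≅
      ObjectProperty.ι (DCoh.IsQCohD (X := A.left)) ⋙ (DCoh.Lpull (pullback.fst A.hom At.hom) ⋙ DCoh.LTensorMod P ⋙ DCoh.Rpush (pullback.snd A.hom At.hom)) ⋙
        DCoh.Lpull (𝟙 At * (toUnit At ≫ x)).left) := by
  obtain ⟨Pc, hPc, h0, hid, hrig⟩ := exists_poincare hPξ
  obtain rfl : Pc = PicM.of hP := PicM.ext hPc.symm
  let t : At ⟶ At := 𝟙 At * (toUnit At ≫ x)
  let j : A ⟶ A ⊗ At := CartesianMonoidalCategory.lift (𝟙 A) (toUnit A ≫ x)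
  obtain ⟨G, hG⟩ : ∃ G : pullback A.hom At.hom ⟶ pullback A.hom At.hom,
      G = (CartesianMonoidalCategory.lift (fst A At) (snd A At ≫ t)).left := ⟨_, rfl⟩
  have hG₁ : G ≫ pullback.fst A.hom At.hom = pullback.fst A.hom At.hom := by
    subst hG
    exact congrArg CommaMorphism.left (lift_fst (fst A At) (snd A At ≫ t))
  have hG₂ : G ≫ pullback.snd A.hom At.hom = pullback.snd A.hom At.hom ≫ t.left := by
    subst hG
    exact congrArg CommaMorphism.left (lift_snd (fst A At) (snd A At ≫ t))
  have hsq : IsPullback G (pullback.snd A.hom At.hom) (pullback.snd A.hom At.hom) t.left := by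
    refine IsPullback.of_right ?_ hG₂ (IsPullback.of_hasPullback A.hom At.hom)
    rw [hG₁, Over.w t]
    exact IsPullback.of_hasPullback A.hom At.hom
  haveI : Flat (pullback.snd A.hom At.hom) := inferInstance
  let M := (Scheme.Modules.pullback j.left).obj P
  have hM : PicF.IsInvertible M := PicLoc.isInvertible_pullback _ hP
  have hGP : PicF.IsInvertible ((Scheme.Modules.pullback G).obj P) := PicLoc.isInvertible_pullback _ hP
  have key : PicM.of hGP = PicM.of (PicLoc.isInvertible_pullback (pullback.fst A.hom At.hom) hM) * PicM.of hP := by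
    rw [← PicM.pull_of G hP, ← PicM.pull_of _ hM, ← PicM.pull_of _ hP]
    subst hG
    show ev (PicM.of hP) (fst A At) (snd A At ≫ t) =
      (PicM.pull (fst A At).left (ev (PicM.of hP) (𝟙 A) (toUnit A ≫ x)) : PicM (A ⊗ At).left) *
        (PicM.of hP : PicM (A ⊗ At).left)
    rw [pull_ev, Category.comp_id, comp_toUnit_assoc, MonObj.comp_mul, Category.comp_id, comp_toUnit_assoc,
      BCFlat16.FMClass.ev_mul_right hφ h0 hid hrig, ev_id, mul_comm]
  haveI := DCat.hasLpull t.left
  obtain ⟨c⟩ := nonempty_kernel_bc (pullback.fst A.hom At.hom) t.left hsq _ hG₁ hP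
  obtain ⟨n⟩ := nonempty_LTensorMod_nat P
  haveI : DCoh.HasLTensorMod M := DCat.hasLTensorMod _
  obtain ⟨n'⟩ := nonempty_LTensorMod_nat M
  obtain ⟨v⟩ := nonempty_Lpull_tens_inv (pullback.fst A.hom At.hom) hM
  obtain ⟨a⟩ := nonempty_tens_tens ((Scheme.Modules.pullback (pullback.fst A.hom At.hom)).obj M) hP
  rw [PicM.of_mul] at key
  obtain ⟨b⟩ := nonempty_tens_of_eq _ hGP key.symm
  refine ⟨Functor.isoWhiskerLeft _ (Functor.isoWhiskerRight n' _ ≪≫ (Functor.associator _ _ _).symm ≪≫
    Functor.isoWhiskerRight v _ ≪≫ Functor.associator _ _ _ ≪≫ Functor.isoWhiskerLeft _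
      (Functor.isoWhiskerLeft _ (Functor.isoWhiskerRight n _) ≪≫ (Functor.associator _ _ _).symm ≪≫
        Functor.isoWhiskerRight (a ≪≫ b) _)) ≪≫ c.symm⟩

end Groth.Agent.S14134
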