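import Groth.Statements.S14135
import Groth.Agent.BCFlat16.FMMain


set_option autoImplicit false
universe u
open CategoryTheory CategoryTheory.Limits MonoidalCategory CartesianMonoidalCategory MonObj GrpObj AlgebraicGeometry
attribute [local instance] HasDerivedCategory.standard
open AbVar

namespace Groth.Agent.S14135

open Groth.Agent Groth.Agent.PicLib Groth.Agent.AbDualLib Groth.Agent.BCFlat16 in
/-- Let k be a field, A an abelian variety over k (a proper smooth k-group scheme with geometrically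
connected fibres), (A^t, φ) a given dual abelian variety of A for the fppf topology with A^t an
abelian variety, P an invertible module on A ×_k A^t whose class is a Poincaré class, and x a
k-rational point of A with translation t_x : A → A. Let N_{−x} be the restriction of P along A^t =
{−x} × A^t → A ×_k A^t, the line bundle on A^t attached to the point −x. Write Φ_P =
Rpr_{2,*}(Lpr_1^*(−) ⊗^L P) : D(O_A) → D(O_{A^t}); the derived functors involved are assumed to
exist. Then, restricted to objects of D(O_A) with quasi-coherent cohomology sheaves, the functor F ↦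
Φ_P(Lt_x^*F) is isomorphic to F ↦ Φ_P(F) ⊗^L N_{−x} (existence of an isomorphism of functors). -/
theorem result (k : Type u) [Field k]
    (A At : Over (Spec (CommRingCat.of k))) [GrpObj A] [IsProper A.hom] [Smooth A.hom] [GeometricallyConnected A.hom]
    [GrpObj At] [IsProper At.hom] [Smooth At.hom] [GeometricallyConnected At.hom]
    (φ : ∀ T : Over (Spec (CommRingCat.of k)), PicF.Cl (PicF.XT A.hom T) → (T ⟶ At))
    (hφ : AbDual.IsDualAV Scheme.fppfPrecoverage A At φ)
    (P : (pullback A.hom At.hom).Modules) (hP : PicF.IsInvertible P)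
    (hPξ : AbDual.IsPoincareCl A At φ (PicF.cl P))
    (x : 𝟙_ (Over (Spec (CommRingCat.of k))) ⟶ A)
    [DCoh.HasLpull (pullback.fst A.hom At.hom)] [DCoh.HasLTensorMod P] [DCoh.HasRpush (pullback.snd A.hom At.hom)]
    [DCoh.HasLpull (𝟙 A * (toUnit A ≫ x)).left]
    [DCoh.HasLTensorMod ((Scheme.Modules.pullback (CartesianMonoidalCategory.lift (toUnit At ≫ x⁻¹) (𝟙 At)).left).obj P)] :
    Nonempty (ObjectProperty.ι (DCoh.IsQCohD (X := A.left)) ⋙ DCoh.Lpull (𝟙 A * (toUnit A ≫ x)).left ⋙ (DCoh.Lpull (pullback.fst A.hom At.hom) ⋙ DCoh.LTensorMod P ⋙ DCoh.Rpush (pullback.snd A.hom At.hom)) ≅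
      ObjectProperty.ι (DCoh.IsQCohD (X := A.left)) ⋙ (DCoh.Lpull (pullback.fst A.hom At.hom) ⋙ DCoh.LTensorMod P ⋙ DCoh.Rpush (pullback.snd A.hom At.hom)) ⋙
        DCoh.LTensorMod ((Scheme.Modules.pullback (CartesianMonoidalCategory.lift (toUnit At ≫ x⁻¹) (𝟙 At)).left).obj P)) := by
  obtain ⟨Pc, hPc, h0, hid, hrig⟩ := exists_poincare hPξ
  obtain rfl : Pc = PicM.of hP := PicM.ext hPc.symm
  let t : A ⟶ A := 𝟙 A * (toUnit A ≫ x)
  let t' : A ⟶ A := 𝟙 A * (toUnit A ≫ x⁻¹)
  have ht : ∀ a b : 𝟙_ (Over (Spec (CommRingCat.of k))) ⟶ A, a * b = 1 →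
      (𝟙 A * (toUnit A ≫ a)) ≫ (𝟙 A * (toUnit A ≫ b)) = 𝟙 A := fun a b h => by
    rw [MonObj.comp_mul, Category.comp_id, comp_toUnit_assoc, _root_.mul_assoc, ← MonObj.comp_mul, h,
      MonObj.comp_one, _root_.mul_one]
  haveI : IsIso t := ⟨t', ht _ _ (mul_inv_cancel x), ht _ _ (inv_mul_cancel x)⟩
  let j : At ⟶ A ⊗ At := CartesianMonoidalCategory.lift (toUnit At ≫ x⁻¹) (𝟙 At)
  obtain ⟨G, hG⟩ : ∃ G : pullback A.hom At.hom ⟶ pullback A.hom At.hom,
      G = (CartesianMonoidalCategory.lift (fst A At ≫ t) (snd A At)).left := ⟨_, rfl⟩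
  have hG₁ : G ≫ pullback.fst A.hom At.hom = pullback.fst A.hom At.hom ≫ t.left := by
    subst hG
    exact congrArg CommaMorphism.left (lift_fst (fst A At ≫ t) (snd A At))
  have hG₂ : G ≫ pullback.snd A.hom At.hom = pullback.snd A.hom At.hom := by
    subst hG
    exact congrArg CommaMorphism.left (lift_snd (fst A At ≫ t) (snd A At))
  haveI : IsIso G := by
    subst hG
    rw [show CartesianMonoidalCategory.lift (fst A At ≫ t) (snd A At) = t ▷ At by ext1 <;> simp]
    exact inferInstanceAs (IsIso ((Over.forget _).map (t ▷ At)))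
  have hsq : IsPullback G (pullback.snd A.hom At.hom) (pullback.snd A.hom At.hom) (𝟙 At.left) :=
    IsPullback.of_horiz_isIso ⟨hG₂.trans (Category.comp_id _).symm⟩
  haveI : Flat (pullback.snd A.hom At.hom) := inferInstance
  let N := (Scheme.Modules.pullback j.left).obj P
  have hN : PicF.IsInvertible N := PicLoc.isInvertible_pullback _ hP
  have hGP : PicF.IsInvertible ((Scheme.Modules.pullback G).obj P) := PicLoc.isInvertible_pullback _ hP
  have key : PicM.of hGP * PicM.of (PicLoc.isInvertible_pullback (pullback.snd A.hom At.hom) hN) = PicM.of hP := by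
    rw [← PicM.pull_of G hP, ← PicM.pull_of _ hN, ← PicM.pull_of _ hP]
    subst hG
    show ev (PicM.of hP) (fst A At ≫ t) (snd A At) *
      (PicM.pull (snd A At).left (ev (PicM.of hP) (toUnit At ≫ x⁻¹) (𝟙 At)) : PicM (A ⊗ At).left) =
        (PicM.of hP : PicM (A ⊗ At).left)
    rw [pull_ev, Category.comp_id, comp_toUnit_assoc, MonObj.comp_mul, Category.comp_id, comp_toUnit_assoc,
      ← BCFlat16.FMClass.ev_mul_left hφ h0 hid hrig, _root_.mul_assoc, ← MonObj.comp_mul, mul_inv_cancel,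
      MonObj.comp_one, _root_.mul_one, ev_id]
  rw [PicM.of_mul] at key
  haveI := DCat.hasLpull G
  haveI := DCat.hasLpull (pullback.fst A.hom At.hom ≫ t.left)
  haveI := DCat.hasLpull (𝟙 At.left)
  haveI := DCat.hasLpull t.left
  haveI : DCoh.HasLTensorMod N := DCat.hasLTensorMod _
  let q := pullback.snd A.hom At.hom
  let p := pullback.fst A.hom At.hom
  obtain ⟨w₁⟩ := nonempty_Lpull_comp p t.left _ rfl
  obtain ⟨w₂⟩ := nonempty_Lpull_comp G p _ hG₁
  obtain ⟨n⟩ := nonempty_LTensorMod_nat P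
  obtain ⟨n'⟩ := nonempty_LTensorMod_nat N
  obtain ⟨a⟩ := nonempty_tens_tens ((Scheme.Modules.pullback G).obj P) (PicLoc.isInvertible_pullback q hN)
  obtain ⟨b⟩ := nonempty_tens_of_eq _ hP key
  obtain ⟨v⟩ := nonempty_Lpull_tens_inv G hP
  obtain ⟨π⟩ := nonempty_projection_tens q hN
  obtain ⟨c⟩ := nonempty_bc_nat hsq (Or.inl inferInstance)
    ((DCoh.IsQCohD (X := A.left)).ι ⋙ DCoh.Lpull p ⋙ tens P) (isQCohD_kernel p hP)
  obtain ⟨u⟩ := nonempty_Lpull_id (X := At.left)
  let Q := (DCoh.IsQCohD (X := A.left)).ι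
  let e₁ : DCoh.Lpull t.left ⋙ DCoh.Lpull p ⋙ DCoh.LTensorMod P ⋙ DCoh.Rpush q ≅
      DCoh.Lpull p ⋙ tens P ⋙ DCoh.Lpull G ⋙ DCoh.Rpush q ⋙ tens N :=
    (Functor.associator _ _ _).symm ≪≫ Functor.isoWhiskerRight (w₁ ≪≫ w₂.symm) _ ≪≫ Functor.associator _ _ _ ≪≫
      Functor.isoWhiskerLeft _ (Functor.isoWhiskerLeft _ (Functor.isoWhiskerRight (n ≪≫ b.symm ≪≫ a.symm) _ ≪≫
        Functor.associator _ _ _ ≪≫ Functor.isoWhiskerLeft _ π.symm) ≪≫ (Functor.associator _ _ _).symm ≪≫
        Functor.isoWhiskerRight v.symm _ ≪≫ Functor.associator _ _ _)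
  refine ⟨Functor.isoWhiskerLeft Q e₁ ≪≫ ?_⟩
  exact Functor.isoWhiskerRight (c.symm ≪≫ Functor.associator _ _ _ ≪≫ Functor.isoWhiskerLeft Q (Functor.associator _ _ _ ≪≫
      Functor.isoWhiskerLeft _ (Functor.isoWhiskerRight n.symm _ ≪≫ Functor.isoWhiskerLeft _
        (Functor.isoWhiskerLeft _ u ≪≫ Functor.rightUnitor _)))) (tens N) ≪≫
    Functor.associator _ _ _ ≪≫ Functor.isoWhiskerLeft Q (Functor.isoWhiskerLeft _ n'.symm)

end Groth.Agent.S14135
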