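import Groth.Statements.S14136
import Groth.Agent.VB5.Bound
import Groth.Agent.SGA3cLib.CentralDescent
import Groth.Agent.AbVarLib.GeomIntegralSmooth
import Groth.Agent.EulerLib.Scalar

set_option autoImplicit false
set_option linter.all false
universe u
open CategoryTheory CategoryTheory.Limits AlgebraicGeometry
open VBCurve

namespace Groth.Agent.S14136

/-- Let C be a smooth proper geometrically connected curve over a field k (proper, smooth and
geometrically connected over k, of dimension one), and E, F finite locally free O_C-modules of ranks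
r ≥ 1 and s ≥ 1 which are semistable: for every finite locally free submodule G of E of rank r' ≥ 1
one has deg G · r ≤ deg E · r', and similarly for F; here the degree of a rank-n locally free module
is χ(G) − n·χ(O_C), and semistability is tested on submodules, which is equivalent to the definition
through quotient bundles. If μ(E) > μ(F), that is deg E · s > deg F · r, then every homomorphism E →
F is zero. -/
theorem result (k : Type u) [Field k] (X : Scheme.{u}) [X.Over (Spec (CommRingCat.of k))]
    [IsProper (X ↘ Spec (CommRingCat.of k))] [Smooth (X ↘ Spec (CommRingCat.of k))]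
    [GeometricallyConnected (X ↘ Spec (CommRingCat.of k))] (hdim : topologicalKrullDim ↥X = 1)
    (r s : ℕ) (hr : 0 < r) (hs : 0 < s) (E F : X.Modules)
    (hE : FlatMod.IsFinLocFreeOfRank r E) (hF : FlatMod.IsFinLocFreeOfRank s F)
    (hEss : (∀ (G : X.Modules) (r' : ℕ) (i : G ⟶ E), Mono i → 0 < r' → FlatMod.IsFinLocFreeOfRank r' G →
      Curv2.deg k X G r' * (r : ℤ) ≤ Curv2.deg k X E r * (r' : ℤ)))
    (hFss : (∀ (G : X.Modules) (r' : ℕ) (i : G ⟶ F), Mono i → 0 < r' → FlatMod.IsFinLocFreeOfRank r' G →
      Curv2.deg k X G r' * (s : ℤ) ≤ Curv2.deg k X F s * (r' : ℤ)))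
    (hslope : Curv2.deg k X F s * (r : ℤ) < Curv2.deg k X E r * (s : ℤ)) (f : E ⟶ F) : f = 0 := by
  haveI : ConnectedSpace X := GeometricallyConnected.connectedSpace_of_subsingleton (f := X ↘ Spec (CommRingCat.of k))
  haveI : IsIntegral X := AbVarLib.isIntegral_of_smooth_connected (X ↘ Spec (CommRingCat.of k))
  haveI := CurveRR24.isLocallyNoetherian_of_proper k (X := X)
  have hn := VB5.isIntegrallyClosed_stalk k (X := X)
  obtain ⟨I, p, j, hp, hj, hpj, hI, hI0⟩ := VB5.exists_image k hdim hn hE hF f
  by_contra hf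
  have hc : (0 : ℤ) < (VB5.grk I : ℤ) := by exact_mod_cast hI0 hf
  have h1 := ((VB5.ss_iff k hdim hn hE).2 hEss).quot k (SplitP1.isCoh_of_rank hE) p hI
  have h2 := (VB5.ss_iff k hdim hn hF).2 hFss I j hj hI
  rw [VB5.deg_eq_gdeg k hE, VB5.deg_eq_gdeg k hF] at hslope
  rw [VB5.grk_eq hE] at h1
  rw [VB5.grk_eq hF] at h2
  have hr' : (0 : ℤ) < r := by exact_mod_cast hr
  have hs' : (0 : ℤ) < s := by exact_mod_cast hs
  nlinarith [mul_le_mul_of_nonneg_right h1 hs'.le, mul_le_mul_of_nonneg_right h2 hr'.le,
    mul_lt_mul_of_pos_right hslope hc]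

end Groth.Agent.S14136
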