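import Groth.Statements.S14139
import Groth.Agent.VB5.Bound
import Groth.Agent.VB5.Line
import Groth.Agent.VB5.Ext
import Groth.Agent.SGA3cLib.CentralDescent
import Groth.Agent.AbVarLib.GeomIntegralSmooth

set_option autoImplicit false
set_option linter.all false
universe u
open CategoryTheory CategoryTheory.Limits AlgebraicGeometry
open VBCurve

namespace Groth.Agent.S14139

/-- Let C be a smooth proper geometrically connected curve over a field k (proper, smooth and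
geometrically connected over k, of dimension one), and 0 → E₁ → E → E₂ → 0 a short exact sequence of
finite locally free O_C-modules of ranks r₁, r, r₂ ≥ 1 whose slopes are all equal: deg E₁ · r = deg
E · r₁ and deg E₂ · r = deg E · r₂, the degree of a rank-n locally free module being χ − n·χ(O_C).
Then E is semistable (deg G · r ≤ deg E · r' for every finite locally free submodule G of E of rank
r' ≥ 1) if and only if both E₁ and E₂ are semistable in the same sense. -/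
theorem result (k : Type u) [Field k] (X : Scheme.{u}) [X.Over (Spec (CommRingCat.of k))]
    [IsProper (X ↘ Spec (CommRingCat.of k))] [Smooth (X ↘ Spec (CommRingCat.of k))]
    [GeometricallyConnected (X ↘ Spec (CommRingCat.of k))] (hdim : topologicalKrullDim ↥X = 1)
    (T : ShortComplex X.Modules) (hT : T.ShortExact)
    (r₁ r r₂ : ℕ) (hr₁ : 0 < r₁) (hr : 0 < r) (hr₂ : 0 < r₂)
    (hE₁ : FlatMod.IsFinLocFreeOfRank r₁ T.X₁) (hE : FlatMod.IsFinLocFreeOfRank r T.X₂) (hE₂ : FlatMod.IsFinLocFreeOfRank r₂ T.X₃)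
    (hμ₁ : Curv2.deg k X T.X₁ r₁ * (r : ℤ) = Curv2.deg k X T.X₂ r * (r₁ : ℤ))
    (hμ₂ : Curv2.deg k X T.X₃ r₂ * (r : ℤ) = Curv2.deg k X T.X₂ r * (r₂ : ℤ)) :
    (∀ (G : X.Modules) (r' : ℕ) (i : G ⟶ T.X₂), Mono i → 0 < r' → FlatMod.IsFinLocFreeOfRank r' G →
      Curv2.deg k X G r' * (r : ℤ) ≤ Curv2.deg k X T.X₂ r * (r' : ℤ)) ↔
      ((∀ (G : X.Modules) (r' : ℕ) (i : G ⟶ T.X₁), Mono i → 0 < r' → FlatMod.IsFinLocFreeOfRank r' G →
      Curv2.deg k X G r' * (r₁ : ℤ) ≤ Curv2.deg k X T.X₁ r₁ * (r' : ℤ)) ∧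
       (∀ (G : X.Modules) (r' : ℕ) (i : G ⟶ T.X₃), Mono i → 0 < r' → FlatMod.IsFinLocFreeOfRank r' G →
      Curv2.deg k X G r' * (r₂ : ℤ) ≤ Curv2.deg k X T.X₃ r₂ * (r' : ℤ))) := by
  haveI : ConnectedSpace X := GeometricallyConnected.connectedSpace_of_subsingleton (f := X ↘ Spec (CommRingCat.of k))
  haveI : IsIntegral X := AbVarLib.isIntegral_of_smooth_connected (X ↘ Spec (CommRingCat.of k))
  haveI := CurveRR24.isLocallyNoetherian_of_proper k (X := X)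
  have hn := VB5.isIntegrallyClosed_stalk k (X := X)
  have c1 := SplitP1.isCoh_of_rank hE₁
  have c2 := SplitP1.isCoh_of_rank hE
  have c3 := SplitP1.isCoh_of_rank hE₂
  rw [VB5.deg_eq_gdeg k hE₁, VB5.deg_eq_gdeg k hE] at hμ₁
  rw [VB5.deg_eq_gdeg k hE₂, VB5.deg_eq_gdeg k hE] at hμ₂
  rw [← VB5.ss_iff k hdim hn hE, ← VB5.ss_iff k hdim hn hE₁, ← VB5.ss_iff k hdim hn hE₂]
  have hr' : (0 : ℤ) < r := by exact_mod_cast hr
  have hr₁' : (0 : ℤ) < r₁ := by exact_mod_cast hr₁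
  have hr₂' : (0 : ℤ) < r₂ := by exact_mod_cast hr₂
  unfold VB5.SS
  rw [VB5.grk_eq hE₁, VB5.grk_eq hE, VB5.grk_eq hE₂]
  constructor
  · intro h
    refine ⟨fun G i hi hG => ?_, fun G i hi hG => ?_⟩
    · haveI := hi; haveI := hT.mono_f
      have := h G (i ≫ T.f) (mono_comp _ _) hG
      refine le_of_mul_le_mul_right ?_ hr'
      calc _ = VB5.gdeg k G * (r : ℤ) * (r₁ : ℤ) := by ring
        _ ≤ VB5.gdeg k T.X₂ * (VB5.grk G : ℤ) * (r₁ : ℤ) := mul_le_mul_of_nonneg_right this hr₁'.le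
        _ = VB5.gdeg k T.X₁ * (r : ℤ) * (VB5.grk G : ℤ) := by rw [hμ₁]; ring
        _ = _ := by ring
    · haveI := hi
      obtain ⟨P, j, hj, hP, hPr, hPd⟩ := VB5.exists_preimage_sub k hT c1 c2 c3 i hG
      have := h P j hj hP
      rw [hPr, hPd, VB5.grk_eq hE₁] at this
      push_cast at this
      have h' : VB5.gdeg k G * (r : ℤ) ≤ VB5.gdeg k T.X₂ * (VB5.grk G : ℤ) := by linarith
      refine le_of_mul_le_mul_right ?_ hr'
      calc _ = VB5.gdeg k G * (r : ℤ) * (r₂ : ℤ) := by ring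
        _ ≤ VB5.gdeg k T.X₂ * (VB5.grk G : ℤ) * (r₂ : ℤ) := mul_le_mul_of_nonneg_right h' hr₂'.le
        _ = VB5.gdeg k T.X₃ * (r : ℤ) * (VB5.grk G : ℤ) := by rw [hμ₂]; ring
        _ = _ := by ring
  · rintro ⟨h1, h2⟩ G i hi hG
    haveI := hi
    obtain ⟨G₁, G₂, i₁, i₂, hi₁, hi₂, hG₁, hG₂, hGr, hGd⟩ := VB5.exists_split_sub k hT c3 i hG
    have e1 : VB5.gdeg k G₁ * (r : ℤ) ≤ VB5.gdeg k T.X₂ * (VB5.grk G₁ : ℤ) := by
      refine le_of_mul_le_mul_right ?_ hr₁'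
      calc _ = VB5.gdeg k G₁ * (r₁ : ℤ) * (r : ℤ) := by ring
        _ ≤ VB5.gdeg k T.X₁ * (VB5.grk G₁ : ℤ) * (r : ℤ) := mul_le_mul_of_nonneg_right (h1 G₁ i₁ hi₁ hG₁) hr'.le
        _ = VB5.gdeg k T.X₁ * (r : ℤ) * (VB5.grk G₁ : ℤ) := by ring
        _ = _ := by rw [hμ₁]; ring
    have e2 : VB5.gdeg k G₂ * (r : ℤ) ≤ VB5.gdeg k T.X₂ * (VB5.grk G₂ : ℤ) := by
      refine le_of_mul_le_mul_right ?_ hr₂'
      calc _ = VB5.gdeg k G₂ * (r₂ : ℤ) * (r : ℤ) := by ring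
        _ ≤ VB5.gdeg k T.X₃ * (VB5.grk G₂ : ℤ) * (r : ℤ) := mul_le_mul_of_nonneg_right (h2 G₂ i₂ hi₂ hG₂) hr'.le
        _ = VB5.gdeg k T.X₃ * (r : ℤ) * (VB5.grk G₂ : ℤ) := by ring
        _ = _ := by rw [hμ₂]; ring
    rw [hGd, hGr]
    push_cast
    linarith

end Groth.Agent.S14139
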