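import Groth.Statements.S1414


set_option autoImplicit false
universe u
open FlatMor

namespace Groth.Agent.S1414

open AlgebraicGeometry CategoryTheory Limits in
/-- Let f : X → Y and g : Y → Z with f ≫ g smooth and g étale. Then f is smooth. -/
theorem result {X Y Z : Scheme.{u}} (f : X ⟶ Y) (g : Y ⟶ Z) [Smooth (f ≫ g)] [Etale g] : Smooth f := by
  have : MorphismProperty.IsMultiplicative @Smooth.{u} :=
    { id_mem := fun _ => inferInstance
      comp_mem := fun a b (_ : Smooth a) (_ : Smooth b) => inferInstance }
  have : MorphismProperty.HasOfPostcompProperty @Smooth.{u} @Etale.{u} := by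
    refine MorphismProperty.hasOfPostcompProperty_iff_le_diagonal.mpr ?_
    intro A B h (hh : Etale h)
    exact inferInstanceAs <| Smooth (pullback.diagonal h)
  exact MorphismProperty.of_postcomp (W := @Smooth.{u}) (W' := @Etale.{u}) f g ‹_› ‹_›

end Groth.Agent.S1414
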