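import Groth.Statements.S14141
import Groth.Agent.AlgGrpLib.RigidityH0
-- import your own Groth.Agent.* helpers here

set_option autoImplicit false
universe u
open CategoryTheory CategoryTheory.Limits AlgebraicGeometry
open AbSch

namespace Groth.Agent.S14141

/-- Let S be a connected Noetherian scheme, f : X → S a proper flat morphism such that for every point s
of S the natural map κ(s) → H^0(X_s, O_{X_s}) on global sections of the fibre is bijective, g : Y →
S a separated morphism and π : X → Y a morphism over S. If for some point s of S the restriction of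
π to the fibre X_s is constant, i.e. factors through the projection X_s → Spec κ(s), then π is
constant over all of S: it factors as f followed by a section S → Y of g. (The published statement
is for arbitrary Noetherian S with the conclusion over the connected component of s; this row
assumes S connected, the reduction made in the first line of the printed proof.) -/
theorem result {X Y S : Scheme.{u}} [IsNoetherian S] [ConnectedSpace ↥S]
    (f : X ⟶ S) [IsProper f] [Flat f]
    (hfib : ∀ s : ↥S, Function.Bijective (algebraMap (S.residueField s) Γ(f.fiber s, ⊤)))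
    (g : Y ⟶ S) [IsSeparated g] (π : X ⟶ Y) (hπ : π ≫ g = f) (s : ↥S)
    (hs : ∃ y : Spec (S.residueField s) ⟶ Y, f.fiberι s ≫ π = f.fiberToSpecResidueField s ≫ y) :
    ∃ σ : S ⟶ Y, σ ≫ g = 𝟙 S ∧ π = f ≫ σ := by
  have : IsLocallyNoetherian X := LocallyOfFiniteType.isLocallyNoetherian f
  refine Groth.Agent.AlgGrpLib.RigidityH0.exists_section_factor_of_proper f (fun t => ?_) π g hπ s ?_
  · exact (Function.Bijective.of_comp_iff (f.fiberToSpecResidueField t).appTop.hom
      (ConcreteCategory.bijective_of_isIso (Scheme.ΓSpecIso (S.residueField t)).inv)).1 (hfib t)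
  · obtain ⟨y, hy⟩ := hs
    rintro _ ⟨x, hx, rfl⟩ _ ⟨x', hx', rfl⟩
    obtain ⟨z, rfl⟩ := (f.range_fiberι s).ge hx
    obtain ⟨z', rfl⟩ := (f.range_fiberι s).ge hx'
    rw [← Scheme.Hom.comp_apply, ← Scheme.Hom.comp_apply, hy, Scheme.Hom.comp_apply, Scheme.Hom.comp_apply]
    exact congrArg _ (Subsingleton.elim _ _)

end Groth.Agent.S14141
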