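import Groth.Statements.S14143
import Groth.Agent.CohEdge27.SquareSurj
import Groth.Agent.AbVarLib.GeomIntegralSmooth
-- import your own Groth.Agent.* helpers here

set_option autoImplicit false
set_option linter.style.haveILetI false
set_option backward.isDefEq.respectTransparency.types false
universe u
open CategoryTheory CategoryTheory.Limits MonoidalCategory CartesianMonoidalCategory MonObj GrpObj AlgebraicGeometry
open AbVar

namespace Groth.Agent.S14143

open CategoryTheory CategoryTheory.Limits MonObj AlgebraicGeometry in
open Groth.Agent Groth.Agent.PicLib Groth.Agent.CubeLib Groth.Agent.AbCubeLib Groth.Agent.AmpleLib in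
/-- Let k be an algebraically closed field, A an abelian variety over k (a proper smooth k-group scheme
with geometrically connected fibres), L an invertible O_A-module which is non-degenerate, i.e. only
finitely many k-rational points x satisfy t_x^*L ≅ L (t_x the translation by x), M an invertible
O_A-module lying in Pic⁰(A), i.e. t_x^*M ≅ M for every k-rational point x, and L' an O_A-module
isomorphic to L ⊗ M. Then L' ≅ t_x^*L for some k-rational point x of A; consequently L and L' have
isomorphic cohomology and equal index. (The published statement assumes L and L' algebraically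
equivalent non-degenerate line bundles and concludes equality of indices; its proof reduces to L' ⊗
L^{-1} ∈ Pic⁰ and proves the displayed isomorphism, which is what is stated here.) -/
theorem result (k : Type u) [Field k] [IsAlgClosed k]
    (A : Over (Spec (CommRingCat.of k))) [GrpObj A] [IsProper A.hom] [Smooth A.hom] [GeometricallyConnected A.hom]
    (L : A.left.Modules) (hL : PicF.IsInvertible L) (hnd : (Set.Finite {x : 𝟙_ (Over (Spec (CommRingCat.of k))) ⟶ A |
      Nonempty ((Scheme.Modules.pullback (𝟙 A * (toUnit A ≫ x)).left).obj L ≅ L)}))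
    (M : A.left.Modules) (hM : PicF.IsInvertible M)
    (hM0 : ∀ x : 𝟙_ (Over (Spec (CommRingCat.of k))) ⟶ A, Nonempty ((Scheme.Modules.pullback (𝟙 A * (toUnit A ≫ x)).left).obj M ≅ M))
    (L' : A.left.Modules) (hL' : Nonempty (L' ≅ CohB1.tensorMod L M)) :
    ∃ x : 𝟙_ (Over (Spec (CommRingCat.of k))) ⟶ A, Nonempty (L' ≅ (Scheme.Modules.pullback (𝟙 A * (toUnit A ≫ x)).left).obj L) := by
  classical
  haveI : GeometricallyIntegral A.hom := Groth.Agent.AbVarLib.geometricallyIntegral_of_smooth _
  let τ : (𝟙_ (Over (Spec (CommRingCat.of k))) ⟶ A) → (A ⟶ A) := fun x => 𝟙 A * (toUnit A ≫ x)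
  have hiff : ∀ {N : A.left.Modules} (hN : PicF.IsInvertible N) x,
      pb (τ x) (PicM.of hN) = PicM.of hN ↔ Nonempty ((Scheme.Modules.pullback (τ x).left).obj N ≅ N) :=
    fun {N} hN x => PicM.of_eq_iff (PicLoc.isInvertible_pullback (τ x).left hN) hN
  obtain ⟨x, hx⟩ := CohEdge27.exists_translate_eq A (PicM.of hL) (PicM.of hM)
    (hnd.subset fun y hy => (hiff hL y).1 hy) (fun y => (hiff hM y).2 (hM0 y))
  rw [pb, PicM.pull_of, _root_.mul_comm, PicM.of_mul, PicM.of_eq_iff] at hx
  obtain ⟨e⟩ := hx
  obtain ⟨e'⟩ := hL'
  exact ⟨x, ⟨e' ≪≫ e.symm⟩⟩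

end Groth.Agent.S14143
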