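import Groth.Statements.S14146
import Groth.Agent.BCFlat16.FMObj
import Groth.Agent.KLLib.Basic


set_option autoImplicit false
universe u
open CategoryTheory CategoryTheory.Limits MonoidalCategory CartesianMonoidalCategory MonObj GrpObj AlgebraicGeometry
attribute [local instance] HasDerivedCategory.standard
open AbVar

namespace Groth.Agent.S14146

open Groth.Agent Groth.Agent.PicLib Groth.Agent.AbDualLib Groth.Agent.BCFlat16 in
/-- Let k be an algebraically closed field, A an abelian variety over k (a proper smooth k-group scheme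
with geometrically connected fibres) with structure map a : A → Spec k, (A^t, φ) a given dual
abelian variety for the fppf topology with A^t an abelian variety, P an invertible module on A ×_k
A^t whose class is a Poincaré class, L an invertible O_A-module with an inverse L', and Λ a module
on A ×_k A isomorphic to the Mumford module m^*L ⊗ pr_1^*L' ⊗ pr_2^*L', whose class is assumed
algebraically trivial on every geometric fibre of the second projection. Let φ_L = φ(Λ) : A → A^t
and assume L non-degenerate in the sense that φ_L is finite and flat. Write Φ_P =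
Rpr_{2,*}(Lpr_1^*(−) ⊗^L P); the derived functors involved are assumed to exist. Then Lφ_L^*(Φ_P(L))
is isomorphic in D(O_A) to La^*(Ra_*L) ⊗^L L', that is, to RΓ(A, L) ⊗_k L^{-1} (existence of an
isomorphism). -/
theorem result (k : Type u) [Field k] [IsAlgClosed k]
    (A At : Over (Spec (CommRingCat.of k))) [GrpObj A] [IsProper A.hom] [Smooth A.hom] [GeometricallyConnected A.hom]
    [GrpObj At] [IsProper At.hom] [Smooth At.hom] [GeometricallyConnected At.hom]
    (φ : ∀ T : Over (Spec (CommRingCat.of k)), PicF.Cl (PicF.XT A.hom T) → (T ⟶ At))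
    (hφ : AbDual.IsDualAV Scheme.fppfPrecoverage A At φ)
    (P : (pullback A.hom At.hom).Modules) (hP : PicF.IsInvertible P)
    (hPξ : AbDual.IsPoincareCl A At φ (PicF.cl P))
    (L : A.left.Modules) (hL : PicF.IsInvertible L) (L' : A.left.Modules) (hL' : Nonempty (CohB1.tensorMod L L' ≅ Coh.structureModule A.left))
    (Λ : (PicF.XT A.hom A).Modules)
    (hΛ : Nonempty (Λ ≅ CohB1.tensorMod (CohB1.tensorMod ((Scheme.Modules.pullback μ[A].left).obj L)
      ((Scheme.Modules.pullback (fst A A).left).obj L')) ((Scheme.Modules.pullback (snd A A).left).obj L')))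
    (hΛ0 : AbDual.IsPicZeroCl A.hom A (PicF.cl Λ))
    [IsFinite (φ A (PicF.cl Λ)).left] [Flat (φ A (PicF.cl Λ)).left]
    [DCoh.HasLpull (pullback.fst A.hom At.hom)] [DCoh.HasLTensorMod P] [DCoh.HasRpush (pullback.snd A.hom At.hom)]
    [DCoh.HasLpull (φ A (PicF.cl Λ)).left] [DCoh.HasRpush A.hom] [DCoh.HasLpull A.hom] [DCoh.HasLTensorMod L'] :
    Nonempty ((DCoh.Lpull (φ A (PicF.cl Λ)).left).obj ((DCoh.Lpull (pullback.fst A.hom At.hom) ⋙ DCoh.LTensorMod P ⋙ DCoh.Rpush (pullback.snd A.hom At.hom)).obj (DCoh.inD A.left L)) ≅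
      (DCoh.LTensorMod L').obj ((DCoh.Lpull A.hom).obj ((DCoh.Rpush A.hom).obj (DCoh.inD A.left L)))) := by
  obtain ⟨Pc, hPc, h0, hid, hrig⟩ := exists_poincare hPξ
  obtain rfl : Pc = PicM.of hP := PicM.ext hPc.symm
  obtain ⟨iL⟩ := hL'
  obtain ⟨iΛ⟩ := hΛ
  have hL' : PicF.IsInvertible L' := PicM.isInvertible_of_tensor hL
    (KLLib.isInvertible_of_iso iL.symm AmpleLib.isInvertible_structureModule)
  have hLL' : PicM.of hL * PicM.of hL' = 1 := by rw [PicM.of_mul, PicM.of_eq_one_iff]; exact ⟨iL⟩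
  let mL : PicM (A ⊗ A).left := PicM.pull μ[A].left (PicM.of hL)
  let pL' : PicM (A ⊗ A).left := PicM.pull (fst A A).left (PicM.of hL')
  let qL' : PicM (A ⊗ A).left := PicM.pull (snd A A).left (PicM.of hL')
  have hΛc : PicF.cl Λ = (mL * pL' * qL').val := (PicGrp.cl_eq_cl_iff _ _).2 ⟨iΛ⟩
  let φL := φ A (PicF.cl Λ)
  obtain ⟨G, hG⟩ : ∃ G : pullback A.hom A.hom ⟶ pullback A.hom At.hom,
      G = (CartesianMonoidalCategory.lift (fst A A) (snd A A ≫ φL)).left := ⟨_, rfl⟩
  have hG₁ : G ≫ pullback.fst A.hom At.hom = pullback.fst A.hom A.hom := by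
    subst hG
    exact congrArg CommaMorphism.left (lift_fst (fst A A) (snd A A ≫ φL))
  have hG₂ : G ≫ pullback.snd A.hom At.hom = pullback.snd A.hom A.hom ≫ φL.left := by
    subst hG
    exact congrArg CommaMorphism.left (lift_snd (fst A A) (snd A A ≫ φL))
  have hsq : IsPullback G (pullback.snd A.hom A.hom) (pullback.snd A.hom At.hom) φL.left := by
    refine IsPullback.of_right ?_ hG₂ (IsPullback.of_hasPullback A.hom At.hom)
    rw [hG₁, Over.w φL]
    exact IsPullback.of_hasPullback A.hom A.hom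
  obtain ⟨m, hm⟩ : ∃ m : pullback A.hom A.hom ⟶ A.left, m = μ[A].left := ⟨_, rfl⟩
  have hsqm : IsPullback m (pullback.snd A.hom A.hom) A.hom A.hom := by
    subst hm
    let s : A ⊗ A ⟶ A ⊗ A := CartesianMonoidalCategory.lift (fst A A * snd A A) (snd A A)
    haveI : IsIso s := ⟨CartesianMonoidalCategory.lift (fst A A * (snd A A)⁻¹) (snd A A),
      by ext1 <;> simp [s, MonObj.comp_mul, GrpObj.comp_inv],
      by ext1 <;> simp [s, MonObj.comp_mul, GrpObj.comp_inv]⟩
    haveI : IsIso s.left := inferInstanceAs (IsIso ((Over.forget _).map s))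
    have hμ : μ[A] = fst A A * snd A A := by
      rw [Hom.mul_def, lift_fst_snd, Category.id_comp]
    refine IsPullback.of_iso_pullback ⟨(Over.w μ[A]).trans (Over.w (snd A A)).symm⟩ (asIso s.left) ?_ ?_
    · rw [hμ]
      exact congrArg CommaMorphism.left (lift_fst (fst A A * snd A A) (snd A A))
    · exact congrArg CommaMorphism.left (lift_snd (fst A A * snd A A) (snd A A))
  have hrΛ : PicM.pull (CartesianMonoidalCategory.lift (1 : A ⟶ A) (𝟙 A)).left (mL * pL' * qL') = 1 := by
    rw [map_mul, map_mul, PicM.pull_pull, PicM.pull_pull, PicM.pull_pull, ← Over.comp_left, ← Over.comp_left,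
      ← Over.comp_left, lift_fst, lift_snd, show CartesianMonoidalCategory.lift (1 : A ⟶ A) (𝟙 A) ≫ μ[A] = 𝟙 A from
        _root_.one_mul (𝟙 A), show (1 : A ⟶ A) = toUnit A ≫ η[A] from rfl, Over.comp_left, ← PicM.pull_pull,
      PicM.eq_one_of_field k (PicM.pull η[A].left (PicM.of hL')), map_one, _root_.mul_one, Over.id_left,
      PicM.pull_id, PicM.pull_id, hLL']
  have hE := poincare_point hφ h0 hid hrig φL
  have hcl : ev (PicM.of hP) (fst A A) (snd A A ≫ φL) = mL * pL' * qL' := by
    refine eq_of_phi_eq hφ _ _ hE.1 (hΛc ▸ hΛ0) hE.2.2 hrΛ ?_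
    rw [hE.2.1, ← hΛc]
  have hGP : PicF.IsInvertible ((Scheme.Modules.pullback G).obj P) := PicLoc.isInvertible_pullback _ hP
  let p := pullback.fst A.hom A.hom
  let q := pullback.snd A.hom A.hom
  have hpL := PicLoc.isInvertible_pullback p hL
  have hmL := PicLoc.isInvertible_pullback m hL
  have hqL := PicLoc.isInvertible_pullback q hL'
  have key : PicM.of hpL * PicM.of hGP = PicM.of hmL * PicM.of hqL := by
    rw [← PicM.pull_of G hP, ← PicM.pull_of p hL, ← PicM.pull_of m hL, ← PicM.pull_of q hL']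
    subst hG hm
    show (PicM.pull (fst A A).left (PicM.of hL) : PicM (A ⊗ A).left) * ev (PicM.of hP) (fst A A) (snd A A ≫ φL) =
      mL * qL'
    rw [hcl, ← _root_.mul_assoc, ← _root_.mul_assoc, mul_comm _ mL, _root_.mul_assoc mL, ← map_mul, hLL', map_one,
      _root_.mul_one]
  rw [PicM.of_mul, PicM.of_mul] at key
  haveI : Flat (pullback.snd A.hom At.hom) := inferInstance
  haveI : Flat A.hom := inferInstance
  haveI := DCat.hasLpull p
  haveI := DCat.hasRpush q
  haveI := DCat.hasLpull m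
  have hLq : DCoh.IsQCohD (DCoh.inD A.left L) := by
    haveI := AmpleLib.isQCoh_of_isInvertible hL
    exact FlatBC14.isQCohD_inD L
  obtain ⟨c⟩ := nonempty_kernel_bc (pullback.fst A.hom At.hom) φL.left hsq p hG₁ hP
  obtain ⟨d⟩ := nonempty_bc_nat hsqm (Or.inl inferInstance) (DCoh.IsQCohD (X := A.left)).ι (fun K => K.2)
  obtain ⟨ip⟩ := nonempty_Lpull_inD p hL
  obtain ⟨im⟩ := nonempty_Lpull_inD m hL
  obtain ⟨tp⟩ := nonempty_inD_tens ((Scheme.Modules.pullback p).obj L)
  obtain ⟨tm⟩ := nonempty_inD_tens ((Scheme.Modules.pullback m).obj L)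
  obtain ⟨a⟩ := nonempty_tens_tens ((Scheme.Modules.pullback p).obj L) hGP
  obtain ⟨a'⟩ := nonempty_tens_tens ((Scheme.Modules.pullback m).obj L) hqL
  obtain ⟨b⟩ := nonempty_tens_of_eq _ _ key
  obtain ⟨π⟩ := nonempty_projection_tens q hL'
  obtain ⟨n'⟩ := nonempty_LTensorMod_nat L'
  exact ⟨c.app ⟨_, hLq⟩ ≪≫ (DCoh.Rpush q).mapIso ((tens _).mapIso (ip ≪≫ tp.symm) ≪≫ a.app _ ≪≫ b.app _ ≪≫
    (a'.app _).symm ≪≫ (tens _).mapIso (tm ≪≫ im.symm)) ≪≫ π.symm.app _ ≪≫
    (tens L').mapIso (d.app ⟨_, hLq⟩).symm ≪≫ n'.symm.app _⟩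

end Groth.Agent.S14146
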