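import Groth.Statements.S14147
import Groth.Agent.BCFlat16.TenInv


set_option autoImplicit false
universe u
open CategoryTheory CategoryTheory.Limits MonoidalCategory CartesianMonoidalCategory MonObj GrpObj AlgebraicGeometry
attribute [local instance] HasDerivedCategory.standard
open AbVar

namespace Groth.Agent.S14147

/-- Let k be a field, A an abelian variety over k (a proper smooth k-group scheme with geometrically
connected fibres) with structure map a : A → Spec k, (A^t, φ) a given dual abelian variety for the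
fppf topology with A^t an abelian variety, P an invertible module on A ×_k A^t whose class is a
Poincaré class, x : Spec k → A^t a k-rational point and M_x the restriction of P along A = A × {x} →
A ×_k A^t. Write Φ_P = Rpr_{2,*}(Lpr_1^*(−) ⊗^L P); the derived functors involved are assumed to
exist. Then, restricted to objects of D(O_A) with quasi-coherent cohomology sheaves, the functor F ↦
Ra_*(F ⊗^L M_x) (global sections RΓ(A, F ⊗ M_x) as an object over Spec k) is isomorphic to F ↦
Lx^*(Φ_P(F)) (existence of an isomorphism of functors). -/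
theorem result (k : Type u) [Field k]
    (A At : Over (Spec (CommRingCat.of k))) [GrpObj A] [IsProper A.hom] [Smooth A.hom] [GeometricallyConnected A.hom]
    [GrpObj At] [IsProper At.hom] [Smooth At.hom] [GeometricallyConnected At.hom]
    (φ : ∀ T : Over (Spec (CommRingCat.of k)), PicF.Cl (PicF.XT A.hom T) → (T ⟶ At))
    (hφ : AbDual.IsDualAV Scheme.fppfPrecoverage A At φ)
    (P : (pullback A.hom At.hom).Modules) (hP : PicF.IsInvertible P)
    (hPξ : AbDual.IsPoincareCl A At φ (PicF.cl P))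
    (x : 𝟙_ (Over (Spec (CommRingCat.of k))) ⟶ At)
    [DCoh.HasLpull (pullback.fst A.hom At.hom)] [DCoh.HasLTensorMod P] [DCoh.HasRpush (pullback.snd A.hom At.hom)]
    [DCoh.HasLTensorMod ((Scheme.Modules.pullback (CartesianMonoidalCategory.lift (𝟙 A) (toUnit A ≫ x)).left).obj P)]
    [DCoh.HasRpush A.hom] [DCoh.HasLpull x.left] :
    Nonempty (ObjectProperty.ι (DCoh.IsQCohD (X := A.left)) ⋙
        DCoh.LTensorMod ((Scheme.Modules.pullback (CartesianMonoidalCategory.lift (𝟙 A) (toUnit A ≫ x)).left).obj P) ⋙ DCoh.Rpush A.hom ≅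
      ObjectProperty.ι (DCoh.IsQCohD (X := A.left)) ⋙ (DCoh.Lpull (pullback.fst A.hom At.hom) ⋙ DCoh.LTensorMod P ⋙ DCoh.Rpush (pullback.snd A.hom At.hom)) ⋙ DCoh.Lpull x.left) := by
  obtain ⟨ii, hii⟩ : ∃ ii : A.left ⟶ pullback A.hom At.hom,
      ii = (CartesianMonoidalCategory.lift (𝟙 A) (toUnit A ≫ x)).left := ⟨_, rfl⟩
  have hι₁ : ii ≫ pullback.fst A.hom At.hom = 𝟙 A.left := by
    subst hii
    exact congrArg CommaMorphism.left (lift_fst (𝟙 A) (toUnit A ≫ x))
  have hι₂ : ii ≫ pullback.snd A.hom At.hom = A.hom ≫ x.left := by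
    subst hii
    exact (congrArg CommaMorphism.left (lift_snd (𝟙 A) (toUnit A ≫ x))).trans (by simp)
  have hx : x.left ≫ At.hom = 𝟙 _ := (Over.w x).trans rfl
  have hsq : IsPullback ii A.hom (pullback.snd A.hom At.hom) x.left := by
    refine IsPullback.of_right ?_ hι₂ (IsPullback.of_hasPullback A.hom At.hom)
    haveI : IsIso (ii ≫ pullback.fst A.hom At.hom) := hι₁ ▸ inferInstance
    haveI : IsIso (x.left ≫ At.hom) := hx ▸ inferInstance
    exact IsPullback.of_horiz_isIso ⟨by rw [hι₁, hx]; exact (Category.id_comp _).trans (Category.comp_id _).symm⟩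
  haveI : Flat (pullback.snd A.hom At.hom) := inferInstance
  let P' := (Scheme.Modules.pullback ii).obj P
  haveI : DCoh.HasLTensorMod P' := Groth.Agent.DCat.hasLTensorMod _
  haveI := Groth.Agent.DCat.hasLpull ii
  haveI := Groth.Agent.DCat.hasLpull (ii ≫ pullback.fst A.hom At.hom)
  haveI := Groth.Agent.DCat.hasLpull (𝟙 A.left)
  obtain ⟨c⟩ := Groth.Agent.BCFlat16.nonempty_bc_nat hsq (Or.inl inferInstance)
    ((DCoh.IsQCohD (X := A.left)).ι ⋙ DCoh.Lpull (pullback.fst A.hom At.hom) ⋙ Groth.Agent.BCFlat16.tens P)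
    (fun K => Groth.Agent.BCFlat16.TenBC.isQCohD_tens (Groth.Agent.AmpleLib.isQCoh_of_isInvertible hP)
      (Groth.Agent.DQCoh.isQCohD_Lpull _ _ K.2))
  obtain ⟨v⟩ := Groth.Agent.BCFlat16.nonempty_Lpull_tens_inv ii hP
  obtain ⟨w⟩ := Groth.Agent.DCat.nonempty_LpullComp ii (pullback.fst A.hom At.hom)
  obtain ⟨u⟩ : Nonempty (DCoh.Lpull (ii ≫ pullback.fst A.hom At.hom) ≅ 𝟭 (DCoh.D A.left)) := by
    have h : ∀ (f : A.left ⟶ A.left) [DCoh.HasLpull f], f = 𝟙 _ → Nonempty (DCoh.Lpull f ≅ 𝟭 _) := by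
      intro f _ hf; subst hf; exact Groth.Agent.BCFlat16.nonempty_Lpull_id
    exact h _ hι₁
  obtain ⟨n⟩ := Groth.Agent.BCFlat16.nonempty_LTensorMod_nat P
  obtain ⟨n'⟩ := Groth.Agent.BCFlat16.nonempty_LTensorMod_nat P'
  subst hii
  let Q := (DCoh.IsQCohD (X := A.left)).ι
  refine ⟨Functor.isoWhiskerLeft Q (Functor.isoWhiskerRight n' _) ≪≫ ?_ ≪≫ c.symm ≪≫ ?_⟩
  · exact Functor.isoWhiskerLeft Q ((Functor.leftUnitor _).symm ≪≫ Functor.isoWhiskerRight (u.symm ≪≫ w.symm) _ ≪≫
      Functor.associator _ _ _ ≪≫ Functor.isoWhiskerLeft _ ((Functor.associator _ _ _).symm ≪≫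
        Functor.isoWhiskerRight v.symm _ ≪≫ Functor.associator _ _ _) ≪≫ (Functor.associator _ _ _).symm)
  · exact Functor.associator _ _ _ ≪≫ Functor.isoWhiskerLeft Q (Functor.associator _ _ _ ≪≫
      Functor.isoWhiskerLeft _ (Functor.isoWhiskerRight n.symm _ ≪≫ (Functor.associator _ _ _).symm) ≪≫
      (Functor.associator _ _ _).symm)

end Groth.Agent.S14147
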