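import Groth.Statements.S14149
import Groth.Agent.VB5.MaxDestab
import Groth.Agent.SGA3cLib.CentralDescent
import Groth.Agent.AbVarLib.GeomIntegralSmooth

set_option autoImplicit false
set_option linter.all false
universe u
open CategoryTheory CategoryTheory.Limits AlgebraicGeometry
open VBCurve

namespace Groth.Agent.S14149

/-- Let C be a smooth proper geometrically connected curve over a field k (proper, smooth and
geometrically connected over k, of dimension one) and E a finite locally free O_C-module of rank r ≥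
1, the degree of a rank-n locally free module being χ − n·χ(O_C). Then there is a finite locally
free submodule E₁ of E, of some rank r₁ ≥ 1, such that: the slope of E₁ is maximal among finite
locally free submodules of E of positive rank (deg G · r₁ ≤ deg E₁ · r' for every such G of rank
r'); among submodules attaining that slope E₁ has the largest rank; and E₁ is semistable. (This is
the first step of the Harder–Narasimhan filtration, whose existence and uniqueness is the published
statement; the full filtration is not restated.) -/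
theorem result (k : Type u) [Field k] (X : Scheme.{u}) [X.Over (Spec (CommRingCat.of k))]
    [IsProper (X ↘ Spec (CommRingCat.of k))] [Smooth (X ↘ Spec (CommRingCat.of k))]
    [GeometricallyConnected (X ↘ Spec (CommRingCat.of k))] (hdim : topologicalKrullDim ↥X = 1)
    (r : ℕ) (hr : 0 < r) (E : X.Modules) (hE : FlatMod.IsFinLocFreeOfRank r E) :
    ∃ (E₁ : X.Modules) (r₁ : ℕ) (i₁ : E₁ ⟶ E), Mono i₁ ∧ 0 < r₁ ∧ FlatMod.IsFinLocFreeOfRank r₁ E₁ ∧
      (∀ (G : X.Modules) (r' : ℕ) (j : G ⟶ E), Mono j → 0 < r' → FlatMod.IsFinLocFreeOfRank r' G →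
        Curv2.deg k X G r' * (r₁ : ℤ) ≤ Curv2.deg k X E₁ r₁ * (r' : ℤ)) ∧
      (∀ (G : X.Modules) (r' : ℕ) (j : G ⟶ E), Mono j → 0 < r' → FlatMod.IsFinLocFreeOfRank r' G →
        Curv2.deg k X G r' * (r₁ : ℤ) = Curv2.deg k X E₁ r₁ * (r' : ℤ) → r' ≤ r₁) ∧
      (∀ (G : X.Modules) (r' : ℕ) (i : G ⟶ E₁), Mono i → 0 < r' → FlatMod.IsFinLocFreeOfRank r' G →
      Curv2.deg k X G r' * (r₁ : ℤ) ≤ Curv2.deg k X E₁ r₁ * (r' : ℤ)) := by
  haveI : ConnectedSpace X := GeometricallyConnected.connectedSpace_of_subsingleton (f := X ↘ Spec (CommRingCat.of k))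
  haveI : IsIntegral X := AbVarLib.isIntegral_of_smooth_connected (X ↘ Spec (CommRingCat.of k))
  haveI := CurveRR24.isLocallyNoetherian_of_proper k (X := X)
  have hn := VB5.isIntegrallyClosed_stalk k (X := X)
  haveI : GeometricallyIntegral (X ↘ Spec (CommRingCat.of k)) := AbVarLib.geometricallyIntegral_of_smooth _
  obtain ⟨E₁, i, hi, hE₁c, hpos, hE₁, hmax⟩ := VB5.exists_max_destab k hdim hn hr hE
  haveI := hi
  refine ⟨E₁, VB5.grk E₁, i, hi, hpos, hE₁, fun G r' j hj _ hG => ?_, fun G r' j hj hr' hG heq => ?_,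
    fun G r' j hj _ hG => ?_⟩
  · rw [VB5.deg_eq_gdeg k hG, VB5.deg_eq_gdeg k hE₁, ← VB5.grk_eq hG]
    exact (hmax G j hj (SplitP1.isCoh_of_rank hG)).1
  · rw [VB5.deg_eq_gdeg k hG, VB5.deg_eq_gdeg k hE₁, ← VB5.grk_eq hG] at heq
    rw [← VB5.grk_eq hG]
    exact (hmax G j hj (SplitP1.isCoh_of_rank hG)).2 (by rwa [VB5.grk_eq hG]) heq
  · haveI := hj
    rw [VB5.deg_eq_gdeg k hG, VB5.deg_eq_gdeg k hE₁, ← VB5.grk_eq hG]
    exact (hmax G (j ≫ i) (mono_comp j i) (SplitP1.isCoh_of_rank hG)).1

end Groth.Agent.S14149
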