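import Groth.Statements.S14150
import Groth.Agent.AbCubeLib.Torsion
import Groth.Agent.AbCubeLib.TateFree
import Groth.Agent.AbVarLib.GeomIntegralSmooth
-- import your own Groth.Agent.* helpers here

set_option autoImplicit false
universe u
open CategoryTheory CategoryTheory.Limits MonoidalCategory CartesianMonoidalCategory MonObj GrpObj AlgebraicGeometry
open AbVar

namespace Groth.Agent.S14150

/-- Let k be an algebraically closed field, A an abelian variety over k (a proper smooth k-group scheme
with geometrically connected fibres) of dimension g, and n ≥ 1 an integer invertible in k. Then the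
group A[n](k) of k-rational points of A killed by n is isomorphic to (ℤ/n)^{2g} (existence of a
group isomorphism; the group of k-points is written multiplicatively). -/
theorem result (k : Type u) [Field k] [IsAlgClosed k]
    (A : Over (Spec (CommRingCat.of k))) [GrpObj A] [IsProper A.hom] [Smooth A.hom] [GeometricallyConnected A.hom] [IsCommMonObj A]
    (g : ℕ) (hg : topologicalKrullDim ↥A.left = g) (n : ℕ) (hn : 0 < n) (hnk : IsUnit (n : k)) :
    Nonempty (AbDual.torsPts A n (𝟙_ (Over (Spec (CommRingCat.of k)))) ≃* Multiplicative (Fin (2 * g) → ZMod n)) := by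
  have : GeometricallyIntegral A.hom := Groth.Agent.AbVarLib.geometricallyIntegral_of_smooth A.hom
  obtain ⟨e⟩ := Groth.Agent.AbCubeLib.nonempty_zmod_pi_equiv
    (M := Additive (𝟙_ (Over (Spec (CommRingCat.of k))) ⟶ A)) (r := 2 * g) hn fun d hd => by
      rw [Groth.Agent.AbCubeLib.natCard_tors_eq]
      refine Groth.Agent.AbCubeLib.natCard_torsPts_eq hg ?_
      obtain ⟨c, rfl⟩ := hd
      rw [Nat.cast_mul] at hnk
      exact (isUnit_of_mul_isUnit_left hnk).ne_zero
  exact ⟨(Groth.Agent.AbCubeLib.torsPtsEquiv A _ n).trans (AddEquiv.toMultiplicative e.symm)⟩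

end Groth.Agent.S14150
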