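import Groth.Statements.S14151
import Groth.Agent.VB5.Bound
import Groth.Agent.VB5.Line
import Groth.Agent.VB5.Ext
import Groth.Agent.SGA3cLib.CentralDescent
import Groth.Agent.AbVarLib.GeomIntegralSmooth

set_option autoImplicit false
set_option linter.all false
universe u
open CategoryTheory CategoryTheory.Limits AlgebraicGeometry
open VBCurve

namespace Groth.Agent.S14151

/-- Let C be a smooth proper geometrically connected curve over a field k (proper, smooth and
geometrically connected over k, of dimension one) and E a finite locally free O_C-module of rank r ≥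
1; degrees of rank-n locally free modules are χ − n·χ(O_C) and slopes are compared by
cross-multiplication. Then: E is semistable in the sense of quotients (μ(E) ≤ μ(F) for every locally
free quotient E ↠ F of rank s ≥ 1) if and only if μ(G) ≤ μ(E) for every finite locally free
submodule G of E of rank r' ≥ 1; and E is stable in the sense of quotients (μ(E) < μ(F) for every
such quotient map which is not an isomorphism) if and only if μ(G) < μ(E) for every such submodule
whose inclusion is not an isomorphism. (The printed lemma says every nonzero subsheaf; for the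
strict inequalities the subsheaf and the quotient must be proper, as its proof uses.) -/
theorem result (k : Type u) [Field k] (X : Scheme.{u}) [X.Over (Spec (CommRingCat.of k))]
    [IsProper (X ↘ Spec (CommRingCat.of k))] [Smooth (X ↘ Spec (CommRingCat.of k))]
    [GeometricallyConnected (X ↘ Spec (CommRingCat.of k))] (hdim : topologicalKrullDim ↥X = 1)
    (r : ℕ) (hr : 0 < r) (E : X.Modules) (hE : FlatMod.IsFinLocFreeOfRank r E) :
    ((∀ (F : X.Modules) (s : ℕ) (p : E ⟶ F), Epi p → 0 < s → FlatMod.IsFinLocFreeOfRank s F →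
      Curv2.deg k X E r * (s : ℤ) ≤ Curv2.deg k X F s * (r : ℤ)) ↔
      (∀ (G : X.Modules) (r' : ℕ) (i : G ⟶ E), Mono i → 0 < r' → FlatMod.IsFinLocFreeOfRank r' G →
      Curv2.deg k X G r' * (r : ℤ) ≤ Curv2.deg k X E r * (r' : ℤ))) ∧
    ((∀ (F : X.Modules) (s : ℕ) (p : E ⟶ F), Epi p → 0 < s → FlatMod.IsFinLocFreeOfRank s F → (¬ IsIso p) →
      Curv2.deg k X E r * (s : ℤ) < Curv2.deg k X F s * (r : ℤ)) ↔
      (∀ (G : X.Modules) (r' : ℕ) (i : G ⟶ E), Mono i → 0 < r' → FlatMod.IsFinLocFreeOfRank r' G → (¬ IsIso i) →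
      Curv2.deg k X G r' * (r : ℤ) < Curv2.deg k X E r * (r' : ℤ))) := by
  haveI : ConnectedSpace X := GeometricallyConnected.connectedSpace_of_subsingleton (f := X ↘ Spec (CommRingCat.of k))
  haveI : IsIntegral X := AbVarLib.isIntegral_of_smooth_connected (X ↘ Spec (CommRingCat.of k))
  haveI := CurveRR24.isLocallyNoetherian_of_proper k (X := X)
  have hn := VB5.isIntegrallyClosed_stalk k (X := X)
  have hEc := SplitP1.isCoh_of_rank hE
  rw [← VB5.ss_iff k hdim hn hE, ← VB5.st_iff k hdim hn hE]
  refine ⟨⟨fun h G ι hι hG => ?_, fun h F s p hp hs hF => ?_⟩, ⟨fun h G ι hι hG hpos hni => ?_, fun h F s p hp hs hF hni => ?_⟩⟩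
  · haveI := hι
    obtain ⟨G', P, j, p, hj, hp, hG', hP, hle, hd⟩ := VB5.exists_saturation k hdim hn hE ι hG
    have hr0 := (VB5.sub_bundle hdim.le hn hE ι hG).1
    rw [VB5.grk_eq hE]
    rcases hr0.lt_or_eq with hlt | heq
    · have := h P _ p hp (by omega) hP
      rw [VB5.deg_eq_gdeg k hP, VB5.deg_eq_gdeg k hE, Nat.cast_sub hr0, hd] at this
      rw [hd]
      have hr' : (0 : ℤ) ≤ r := Int.natCast_nonneg r
      nlinarith [mul_le_mul_of_nonneg_right hle hr']
    · rw [heq]
      exact mul_le_mul_of_nonneg_right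
        (VB5.full_rank k hdim ι hG hEc (heq.trans (VB5.grk_eq hE).symm)).1 (Int.natCast_nonneg r)
  · haveI := hp
    have := h.quot k hEc p (SplitP1.isCoh_of_rank hF)
    rwa [VB5.grk_eq hE, VB5.grk_eq hF, ← VB5.deg_eq_gdeg k hE, ← VB5.deg_eq_gdeg k hF] at this
  · haveI := hι
    have hr0 := (VB5.sub_bundle hdim.le hn hE ι hG).1
    rw [VB5.grk_eq hE]
    rcases hr0.lt_or_eq with hlt | heq
    · obtain ⟨G', P, j, p, hj, hp, hG', hP, hle, hd⟩ := VB5.exists_saturation k hdim hn hE ι hG
      have hnp : ¬ IsIso p := fun hiso => by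
        have := VB5.grk_congr (asIso p)
        rw [VB5.grk_eq hE, VB5.grk_eq hP] at this
        omega
      have := h P _ p hp (by omega) hP hnp
      rw [VB5.deg_eq_gdeg k hP, VB5.deg_eq_gdeg k hE, Nat.cast_sub hr0, hd] at this
      rw [hd]
      have hr' : (0 : ℤ) ≤ r := Int.natCast_nonneg r
      nlinarith [mul_le_mul_of_nonneg_right hle hr']
    · rw [← VB5.grk_eq hE] at heq
      obtain ⟨hd, he⟩ := VB5.full_rank k hdim ι hG hEc heq
      rw [heq, VB5.grk_eq hE]
      exact mul_lt_mul_of_pos_right (lt_of_le_of_ne hd fun e => hni (he e)) (by exact_mod_cast hr)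
  · haveI := hp
    have := h.quot k hdim hn hE p (SplitP1.isCoh_of_rank hF) (by rwa [VB5.grk_eq hF]) hni
    rwa [VB5.grk_eq hE, VB5.grk_eq hF, ← VB5.deg_eq_gdeg k hE, ← VB5.deg_eq_gdeg k hF] at this

end Groth.Agent.S14151
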