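import Groth.Statements.S14152
import Groth.Agent.Clifford24.Canonical
import Groth.Agent.SGA3cLib.CentralDescent
import Groth.Agent.AbVarLib.GeomIntegralSmooth
import Groth.Agent.CurveRR24.GenusZero

set_option autoImplicit false
universe u
open CategoryTheory CategoryTheory.Limits AlgebraicGeometry
open Curves

namespace Groth.Agent.S14152

/-- Let k be an algebraically closed field and C a smooth proper integral curve over k (proper and
smooth over k, integral, of dimension one) of genus g ≥ 1, where g = dim_k H^1(C, O_C). Then for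
every natural number r ≤ g there is an invertible O_C-module L of degree r, the degree being χ(L) −
χ(O_C), with dim_k H^0(C, L) = 1. (The published statement gives a non-empty open set of r-tuples of
points (x_i) with h^0(O(Σ x_i)) = 1 and is placed in a chapter working in characteristic 0; the
existence of one such divisor, stated here, is what the row records, and the printed argument does
not use the characteristic.) -/
theorem result (k : Type u) [Field k] [IsAlgClosed k]
    (X : Scheme.{u}) [X.Over (Spec (CommRingCat.of k))] [IsIntegral X]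
    [IsProper (X ↘ Spec (CommRingCat.of k))] [Smooth (X ↘ Spec (CommRingCat.of k))]
    (hdim : topologicalKrullDim ↥X = 1) (g : ℕ) (hg : Curv2.genus k X = g) (hg1 : 1 ≤ g)
    (r : ℕ) (hr : r ≤ g) :
    ∃ L : X.Modules, PicF.IsInvertible L ∧ Curv2.deg k X L 1 = (r : ℤ) ∧
      Module.finrank k (Coh.HH X L 0) = 1 := by
  classical
  haveI : GeometricallyConnected (X ↘ Spec (CommRingCat.of k)) :=
    SGA3cLib.CentralDescent.geometricallyConnected_of_isAlgClosed _
  haveI : GeometricallyIntegral (X ↘ Spec (CommRingCat.of k)) := AbVarLib.geometricallyIntegral_of_smooth _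
  haveI := EulerLib.isNoetherian_of_proper k (X := X)
  haveI := LocallyOfFiniteType.jacobsonSpace (X ↘ Spec (CommRingCat.of k))
  induction r with
  | zero =>
    refine ⟨Coh.structureModule X, AmpleLib.isInvertible_structureModule, ?_,
      CurveRR24.h0_structure_of_geomIntegral k⟩
    rw [CurveRR24.deg_structure]; rfl
  | succ n ih =>
    obtain ⟨L, hL, hd, h1⟩ := ih (by omega)
    obtain ⟨N, hN, ⟨e⟩⟩ := CurveRR24.exists_inverse k hL
    let Ω := Omega.sheaf (X ↘ Spec (CommRingCat.of k))
    have hΩ : PicF.IsInvertible Ω := OmegaDual24.isInvertible_omega (k := k) hdim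
    have hB : PicF.IsInvertible (CohB1.tensorMod Ω N) := AmpleLib.isInvertible_tensorMod hΩ hN
    have hrr := Clifford24.riemann_roch_omega k hdim hL hN e
    change _ - (Module.finrank k (Coh.HH X (CohB1.tensorMod Ω N) 0) : ℤ) = _ at hrr
    rw [hd, h1, hg] at hrr
    obtain ⟨s, hs⟩ := CurveRR24.exists_ne_zero_of_nontrivial k
      (Module.nontrivial_of_finrank_pos (R := k) (M := Coh.HH X (CohB1.tensorMod Ω N) 0) (by omega))
    obtain ⟨P, hPs, hP⟩ := nonempty_inter_closedPoints (X := X)
      ⟨genericPoint X, CurveRR24.genericPoint_mem_glocus hB hs⟩ (AmpleLib.glocus _ s).2.isLocallyClosed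
    have hne := CurveRR24.h0_ne_of_mem_glocus k hP hB hPs
    obtain ⟨hle, hge⟩ := CurveRR24.h0_tensor_ptIdeal k hP hB
    rw [CurveRR24.finrank_resField k hP] at hge
    have hI := CurveRR24.isInvertible_ptIdeal_of_normal k hdim hP
      (Clifford24.isIntegrallyClosed_stalk_of_smooth k P)
    have hNI := AmpleLib.isInvertible_tensorMod hN hI
    obtain ⟨L', hL', ⟨e'⟩⟩ := CurveRR24.exists_inverse k hNI
    have hdN : Curv2.deg k X N 1 = -(n : ℤ) := by
      have h := CurveRR24.deg_tensor k hdim.le hL hN
      rw [CurveRR24.deg_congr k e 1, CurveRR24.deg_structure, hd] at h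
      omega
    have hdNI : Curv2.deg k X (CohB1.tensorMod N (ClSub.idealMod (CurveRR24.ptIdeal P hP))) 1 = -(n : ℤ) - 1 := by
      rw [CurveRR24.deg_tensor_ptIdeal k hP hN, hdN, CurveRR24.finrank_resField k hP]; norm_num
    have hd' : Curv2.deg k X L' 1 = ((n + 1 : ℕ) : ℤ) := by
      have h := CurveRR24.deg_tensor k hdim.le hNI hL'
      rw [CurveRR24.deg_congr k e' 1, CurveRR24.deg_structure, hdNI] at h
      push_cast; omega
    refine ⟨L', hL', hd', ?_⟩
    have hrr' := Clifford24.riemann_roch_omega k hdim hL' hNI (AmpleLib.tensorComm _ _ ≪≫ e')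
    obtain ⟨a⟩ := EulerLib.exists_assocIso' Ω hN hI
    change _ - (Module.finrank k (Coh.HH X (CohB1.tensorMod Ω _) 0) : ℤ) = _ at hrr'
    rw [← CurveRR24.finrank_HH_congr k a 0, hd', hg] at hrr'
    push_cast at hrr'
    omega

end Groth.Agent.S14152
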