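import Groth.Statements.S14155
import Groth.Agent.VB5.Elliptic
import Groth.Agent.SGA3cLib.CentralDescent
import Groth.Agent.AbVarLib.GeomIntegralSmooth
import Groth.Agent.S14138

set_option autoImplicit false
set_option linter.all false
universe u
open CategoryTheory CategoryTheory.Limits AlgebraicGeometry
open VBCurve

namespace Groth.Agent.S14155

/-- Let k be an algebraically closed field, X a smooth proper integral curve over k (proper and smooth
over k, integral, of dimension one) of genus one, i.e. dim_k H^1(X, O_X) = 1 (an elliptic curve once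
a base point is chosen), and F a finite locally free O_X-module of rank r ≥ 1 which is
indecomposable (nonzero, and in any decomposition F ≅ F₁ ⊕ F₂ one summand is zero), of degree d =
χ(F) − r·χ(O_X). Then F is stable — deg G · r < d · r' for every finite locally free submodule G of
F of rank r' ≥ 1 whose inclusion is not an isomorphism — if and only if gcd(d, r) = 1. (The
published corollary also identifies stability with simplicity in two senses; those equivalences are
not restated.) -/
theorem result (k : Type u) [Field k] [IsAlgClosed k]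
    (X : Scheme.{u}) [X.Over (Spec (CommRingCat.of k))] [IsIntegral X]
    [IsProper (X ↘ Spec (CommRingCat.of k))] [Smooth (X ↘ Spec (CommRingCat.of k))]
    (hdim : topologicalKrullDim ↥X = 1) (hg : Curv2.genus k X = 1)
    (r : ℕ) (hr : 0 < r) (F : X.Modules) (hF : FlatMod.IsFinLocFreeOfRank r F)
    (hind : ¬ IsZero F ∧ ∀ (F₁ F₂ : X.Modules), Nonempty (F ≅ F₁ ⊞ F₂) → IsZero F₁ ∨ IsZero F₂) :
    (∀ (G : X.Modules) (r' : ℕ) (i : G ⟶ F), Mono i → 0 < r' → FlatMod.IsFinLocFreeOfRank r' G → (¬ IsIso i) →
      Curv2.deg k X G r' * (r : ℤ) < Curv2.deg k X F r * (r' : ℤ)) ↔ Int.gcd (Curv2.deg k X F r) (r : ℤ) = 1 := by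
  haveI : GeometricallyConnected (X ↘ Spec (CommRingCat.of k)) :=
    SGA3cLib.CentralDescent.geometricallyConnected_of_isAlgClosed _
  haveI : GeometricallyIntegral (X ↘ Spec (CommRingCat.of k)) := AbVarLib.geometricallyIntegral_of_smooth _
  haveI := CurveRR24.isLocallyNoetherian_of_proper k (X := X)
  have hn := VB5.isIntegrallyClosed_stalk k (X := X)
  constructor
  · intro h
    rw [VB5.deg_eq_gdeg k hF]
    exact VB5.gcd_eq_one_of_st k hdim hg r hr hF ((VB5.st_iff k hdim hn hF).2 h)
  · intro h G r' i hi hr' hG hni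
    haveI := hi
    have hle := S14138.result k X hdim hg r hr F hF hind G r' i hi hr' hG
    refine lt_of_le_of_ne hle fun he => hni ?_
    have hdvd : (r : ℤ) ∣ (r' : ℤ) := by
      refine Int.dvd_of_dvd_mul_right_of_gcd_one (b := Curv2.deg k X F r) ⟨Curv2.deg k X G r', ?_⟩ (by rwa [Int.gcd_comm])
      rw [← he]; ring
    have hle' := (VB5.sub_bundle hdim.le hn hF i (SplitP1.isCoh_of_rank hG)).1
    rw [VB5.grk_eq hG] at hle'
    have hrr : r' = r := le_antisymm hle' (Nat.le_of_dvd hr' (Int.natCast_dvd_natCast.1 hdvd))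
    subst hrr
    rw [VB5.deg_eq_gdeg k hG, VB5.deg_eq_gdeg k hF] at he
    exact (VB5.full_rank k hdim i (SplitP1.isCoh_of_rank hG) (SplitP1.isCoh_of_rank hF)
      (by rw [VB5.grk_eq hG, VB5.grk_eq hF])).2 (mul_right_cancel₀ (by positivity) he)

end Groth.Agent.S14155
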