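import Groth.Statements.S1416
import Groth.Agent.FlatMorDim.SupportLift
import Groth.Agent.EGA43.QcohFlat
import Groth.Agent.S9390
import Groth.Agent.Coherent.FiniteType
import Groth.Agent.EGA43.Chevalley.SetDim

set_option autoImplicit false
universe u
open FlatMor

namespace Groth.Agent.S1416

open AlgebraicGeometry CategoryTheory Limits in
/-- Let f : X → S be locally of finite type with S irreducible with generic point η, and F a
quasi-coherent O_X-module of finite type which is flat over S. If the support of F in the fibre over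
η has dimension ≤ r then the support of F in every fibre has dimension ≤ r (supports in fibres taken
as subspaces of X: the points of the fibre where the stalk of F is nonzero). -/
theorem result {X S : Scheme.{u}} (f : X ⟶ S) [LocallyOfFiniteType f] [IrreducibleSpace ↑S]
    (F : X.Modules) (hF : Coh.IsCoh F) (hfl : FlatMod.IsFlatOver f F) (r : WithBot ℕ∞)
    (h : topologicalKrullDim ↑(f ⁻¹' {genericPoint ↑S} ∩ CohB1.support F) ≤ r) (s : S) :
    topologicalKrullDim ↑(f ⁻¹' {s} ∩ CohB1.support F) ≤ r := by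
  open Groth.Agent in
  haveI : Coh.IsQCoh F := hF.1
  have hsupp : IsClosed (CohB1.support F) :=
    Coherent.isClosed_support F (Coherent.locallyFinGen_of_isFT F hF.2)
  have hgen := fun (w : X) (hw : w ∈ CohB1.support F) =>
    EGA43.Chevalley.le_topologicalKrullDim_inter_fibre f hsupp.isLocallyClosed hw
  rw [Set.inter_comm, EGA43.Chevalley.topologicalKrullDim_inter_fibre f hsupp.isLocallyClosed s]
  rw [Set.inter_comm] at h
  refine iSup_le fun ⟨z, hz, hzs⟩ => ?_
  obtain ⟨V, hV, hzV, -⟩ := exists_isAffineOpen_mem_and_subset (x := f z) (U := ⊤) (Set.mem_univ _)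
  obtain ⟨U, hU, hzU, hUV⟩ := exists_isAffineOpen_mem_and_subset (x := z) (U := f ⁻¹ᵁ V) hzV
  have e : U ≤ f ⁻¹ᵁ V := hUV
  have hft := LocallyOfFiniteType.finiteType_appLE f hV hU e
  algebraize [(f.appLE V U e).hom]
  let _ := EGA43.QcohFlat.overModule f F V U e
  haveI : IsScalarTower Γ(S, V) Γ(X, U) Γ(F, U) := IsScalarTower.of_algebraMap_smul fun _ _ => rfl
  haveI : Module.Finite Γ(X, U) Γ(F, U) :=
    Coherent.finite_sections F (Coherent.locallyFinGen_of_isFT F hF.2) hU
  let q := hU.primeIdealOf ⟨z, hzU⟩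
  haveI : Module.Flat Γ(S, V) (LocalizedModule q.asIdeal.primeCompl Γ(F, U)) :=
    (EGA43.QcohFlat.isFlatOverAt_iff f F hV hU e hzU).1 (hfl z)
  have hηV : genericPoint ↑S ∈ V := (genericPoint_specializes (f z)).mem_open V.2 hzV
  let η' := hV.primeIdealOf ⟨genericPoint ↑S, hηV⟩
  have hηle : ∀ J : PrimeSpectrum Γ(S, V), η'.asIdeal ≤ J.asIdeal := fun J => by
    refine (PrimeSpectrum.le_iff_specializes η' J).2 (hV.fromSpec.isOpenEmbedding.isInducing.specializes_iff.1 ?_)
    rw [hV.fromSpec_primeIdealOf]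
    exact genericPoint_specializes _
  have hqsupp : q ∈ Module.support Γ(X, U) Γ(F, U) :=
    (Groth.Agent.S9390.result X F hF.1 ⟨U, hU⟩ z hzU).2 hz
  obtain ⟨q', hq's, -, hq'p, htr⟩ := FlatMorDim.SupportLift.exists_mem_support_trd_le q hqsupp
    η'.asIdeal ⟨⟨η'.isPrime, bot_le⟩, fun J hJ _ => hηle ⟨J, hJ.1⟩⟩ (hηle (PrimeSpectrum.comap (algebraMap Γ(S, V) Γ(X, U)) q))
  have hw : hU.fromSpec q' ∈ U := hU.range_fromSpec.le ⟨q', rfl⟩
  have hwq : hU.primeIdealOf ⟨hU.fromSpec q', hw⟩ = q' :=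
    hU.fromSpec.isOpenEmbedding.injective (hU.fromSpec_primeIdealOf _)
  have hwη : f (hU.fromSpec q') = genericPoint ↑S := by
    have h1 : (hU.primeIdealOf ⟨hU.fromSpec q', hw⟩).asIdeal.comap (algebraMap Γ(S, V) Γ(X, U)) = _ :=
      EGA43.FibDepth.comap_primeIdealOf f hV hU e hw
    rw [hwq, hq'p] at h1
    have h2 := congrArg hV.fromSpec (PrimeSpectrum.ext h1)
    rw [hV.fromSpec_primeIdealOf, hV.fromSpec_primeIdealOf] at h2
    exact h2.symm
  have hws : hU.fromSpec q' ∈ CohB1.support F :=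
    (Groth.Agent.S9390.result X F hF.1 ⟨U, hU⟩ _ hw).1 (hwq.symm ▸ hq's)
  have h3 := (hgen _ hws).trans_eq
    (congrArg (fun y => topologicalKrullDim ↥(CohB1.support F ∩ f.base ⁻¹' {y})) hwη)
  refine le_trans ?_ (h3.trans h)
  rw [EGA43.FibDepth.trdegHom_residueFieldMap f hV hU e hzU, EGA43.FibDepth.trdegHom_residueFieldMap f hV hU e hw, hwq]
  exact_mod_cast htr

end Groth.Agent.S1416
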