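import Groth.Statements.S14164
import Groth.Agent.AbCohLib.FibreAt
import Groth.Agent.S14124
import Groth.Agent.AmpleLib.Relative2
import Groth.Agent.Props12.AmpleExternal
import Groth.Agent.Quot8.FibreVanish
import Groth.Agent.CohExch.ChartMain

set_option autoImplicit false
set_option linter.style.haveILetI false
set_option backward.isDefEq.respectTransparency.types false
universe u
open CategoryTheory CategoryTheory.Limits MonoidalCategory CartesianMonoidalCategory MonObj AlgebraicGeometry
open AgPol

namespace Groth.Agent.S14164

/-- Let S be a locally Noetherian scheme, A a projective abelian scheme over S of relative dimension g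
with structure morphism π, and L an invertible module on A which is ample relative to π. Then R^i
π_* L = 0 for every i ≥ 1 (right derived functors of the direct image on modules), and π_* L is a
finite locally free module on S. -/
theorem result (S : Scheme.{u}) [IsLocallyNoetherian S]
    (A : Over S) [GrpObj A] (g : ℕ) (hA : AgPol.IsAbSch A g) (hproj : RelProj.IsProjective A.hom)
    [HasInjectiveResolutions A.left.Modules]
    (L : A.left.Modules) (hL : PicF.IsInvertible L) (hample : RelAmple.IsRelAmple A.hom L) :
    (∀ i : ℕ, 1 ≤ i → IsZero ((Coh.Rpush A.hom i).obj L)) ∧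
      FlatMod.IsFinLocFree ((Coh.push A.hom).obj L) := by
  classical
  haveI := hA.smooth
  haveI := hA.proper
  haveI := hA.geomConnected
  haveI : IsLocallyNoetherian A.left := LocallyOfFiniteType.isLocallyNoetherian A.hom
  have hcoh : Coh.IsCoh L := PicLib.isCoh_of_isInvertible hL
  haveI : Coh.IsQCoh L := hcoh.1
  have hfl : FlatMod.IsFlatOver A.hom L := Coherent.CohBC.isFlatOver_of_isFinLocFree A.hom fun x =>
    let ⟨U, hx, e'⟩ := PicLib.isFinLocFreeOfRank_one hL x; ⟨U, 1, hx, e'⟩
  have hv : ∀ (y : S) (p : ℕ), 1 ≤ p → CohIII.fiberRank A.hom L p y = 0 := by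
    intro y p hp
    let Ω := AlgebraicClosure (S.residueField y)
    let σ : Spec (CommRingCat.of Ω) ⟶ S := Red.geomPt y
    let B := Red.bc σ A
    haveI : IsProper B.hom := MorphismProperty.pullback_snd (P := @IsProper) _ _ inferInstance
    haveI : Smooth B.hom := MorphismProperty.pullback_snd (P := @Smooth) _ _ inferInstance
    haveI : GeometricallyConnected B.hom :=
      MorphismProperty.pullback_snd (P := @GeometricallyConnected) _ _ inferInstance
    have hLB : CohB1.IsAmple ((Scheme.Modules.pullback (pullback.fst A.hom σ)).obj L) :=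
      Groth.Agent.Props12.AmpleExternal.isAmple_of_isRelAmple (pullback.snd A.hom σ) _ (AmpleLib.isRelAmple_baseChange A.hom σ hample)
    have hσ : σ (IsLocalRing.closedPoint Ω) = y := Scheme.fromSpecResidueField_apply y _
    rw [← hσ, AbCohLib.fiberRank_eq_zero_iff_of_isPullback A.hom L hcoh (pullback.snd A.hom σ)
      (IsPullback.of_hasPullback A.hom σ) p]
    exact (Groth.Agent.S14124.result Ω B _ hLB).1 p hp
  refine ⟨fun i hi => CohExch.isZero_rpush_of_fibres (f := A.hom) (Coherent.isFP_of_isCoh hcoh) hfl i fun y =>
    (Coherent.CohBC.subsingleton_fiberH_iff_fiberRank A.hom L hcoh y i).2 (hv y i hi), ?_⟩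
  exact Quot8.isFinLocFree_push A.hom hcoh hfl hv

end Groth.Agent.S14164
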