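import Groth.Statements.S14170
import Groth.Agent.CAlgH3.FatPoints
-- import your own Groth.Agent.* helpers here

set_option autoImplicit false
universe u
open CategoryTheory CategoryTheory.Limits AlgebraicGeometry
open Variety

namespace Groth.Agent.S14170

open Groth.Agent.CAlgH3 Groth.Agent.CAlgH3.PSheafSeq Groth.Agent.CAlgH3.FatPoints

/-- An affine section killed by the stalks is in the kernel. -/
theorem mem_ker_of_germ {X P : Scheme.{u}} (i : X ⟶ P) [QuasiCompact i] (U : P.affineOpens) (a : Γ(P, U.1))
    (h : ∀ (x : X) (hx : i x ∈ U.1), i.stalkMap x (P.presheaf.germ U.1 (i x) hx a) = 0) :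
    a ∈ i.ker.ideal U := by
  rw [Scheme.Hom.ker_apply, RingHom.mem_ker]
  refine TopCat.Presheaf.section_ext X.sheaf (i ⁻¹ᵁ U.1) _ _ fun x hx => ?_
  refine Eq.trans ?_ (map_zero _).symm
  exact (Scheme.Hom.germ_stalkMap_apply i U.1 x hx a).symm.trans (h x hx)

/-- The germ at `i x` of a section of the ideal of a point over `i x` is in the maximal ideal. -/
theorem stalkMap_germ_mem {T X P : Scheme.{u}} (i : X ⟶ P) (p : T ⟶ P) [QuasiCompact p] (t : T) (x : X)
    (ht : p t = i x) (U : P.affineOpens) (hx : i x ∈ U.1) :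
    p.ker.ideal U ≤ (IsLocalRing.maximalIdeal (X.presheaf.stalk x)).comap
      ((i.stalkMap x).hom.comp (P.presheaf.germ U.1 (i x) hx).hom) := by
  intro b hb
  rw [Scheme.Hom.ker_apply, RingHom.mem_ker] at hb
  show i.stalkMap x (P.presheaf.germ U.1 (i x) hx b) ∈ IsLocalRing.maximalIdeal (X.presheaf.stalk x)
  rw [IsLocalRing.mem_maximalIdeal, mem_nonunits_iff]
  intro hu
  have hu' : IsUnit (P.presheaf.germ U.1 (i x) hx b) :=
    isUnit_of_map_unit (i.stalkMap x).hom _ hu
  rw [← P.toRingedSpace.mem_basicOpen b (i x) hx] at hu'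
  have h1 : t ∈ p ⁻¹ᵁ (P.basicOpen b) := by
    show p t ∈ P.basicOpen b
    rw [ht]
    exact hu'
  rw [Scheme.preimage_basicOpen, hb, Scheme.basicOpen_zero] at h1
  exact h1

/-- Let k be an algebraically closed field of characteristic zero (the published statement is over the
complex numbers; this row allows any algebraically closed field of characteristic zero), N ≥ 0, and
i : X → P^N_k a closed immersion with X finite as a set, say with t points (a zero-dimensional
closed subscheme supported at t distinct points). Suppose μ : X → ℕ is such that for every point x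
the maximal ideal of the local ring O_{X,x} satisfies m_x^(μ(x)+1) = 0 (so μ(x) bounds the largest
exponent with a nonzero power). Then H^1(P^N_k, I_X(j)) = 0 for every integer j ≥ Σ_x μ(x) + t - 1,
where I_X is the ideal sheaf of i viewed as an O-module; and I_X is (Σ_x μ(x) + t)-regular. -/
theorem result (k : Type u) [Field k] [IsAlgClosed k] [CharZero k]
    (N : ℕ) (X : Scheme.{u}) (i : X ⟶ CohB1.ProjSpace N k) [IsClosedImmersion i] [Finite X]
    (μ : X → ℕ) (hμ : ∀ x : X, IsLocalRing.maximalIdeal (X.presheaf.stalk x) ^ (μ x + 1) = ⊥) :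
    (∀ j : ℤ, (∑ᶠ x : X, (μ x : ℤ)) + (Nat.card X : ℤ) - 1 ≤ j →
      Subsingleton (Coh.HH (CohB1.ProjSpace N k)
        (CohB1.tensorMod (ClSub.idealMod i.ker) (Twist.twistProjSpace N k j)) 1)) ∧
    Curv2.IsMRegular k N (ClSub.idealMod i.ker) ((∑ᶠ x : X, (μ x : ℤ)) + (Nat.card X : ℤ)) := by
  classical
  haveI := Groth.Agent.Coherent.isProper_projSpace_toSpec N k
  haveI : IsLocallyNoetherian (CohB1.ProjSpace N k) :=
    LocallyOfFiniteType.isLocallyNoetherian (CohB1.ProjSpace.toSpec N k)
  haveI : JacobsonSpace X := LocallyOfFiniteType.jacobsonSpace (i ≫ CohB1.ProjSpace.toSpec N k)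
  haveI : DiscreteTopology X := inferInstance
  haveI : Fintype X := Fintype.ofFinite X
  have hcl : ∀ x : X, IsClosed ({i x} : Set (CohB1.ProjSpace N k)) := fun x => by
    rw [← Set.image_singleton]
    exact i.isClosedEmbedding.isClosedMap _ (isClosed_discrete _)
  let pt := fun x : X => pointOfClosedPoint (CohB1.ProjSpace.toSpec N k) (i x) (hcl x)
  let l := (Finset.univ : Finset X).toList.flatMap fun x => List.replicate (μ x + 1) (pt x)
  have hl : (l.length : ℤ) = (∑ᶠ x : X, (μ x : ℤ)) + (Nat.card X : ℤ) := by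
    have h1 : l.length = ∑ x : X, (μ x + 1) := by
      simp [l, List.length_flatMap, Finset.sum_map_toList]
    rw [h1, finsum_eq_sum_of_fintype, Nat.card_eq_fintype_card, Finset.sum_add_distrib]
    push_cast
    simp
  have hreg : Curv2.IsMRegular k N (ClSub.idealMod i.ker) (l.length : ℤ) := by
    refine isMRegular_of_prodKer_le l (fun p hp => ?_) _ fun U a ha => ?_
    · obtain ⟨x, -, hx⟩ := List.mem_flatMap.1 hp
      rw [List.eq_of_mem_replicate hx]
      exact pointOfClosedPoint_comp _ _ _
    · refine mem_ker_of_germ i U a fun x hx => ?_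
      haveI : QuasiCompact (pt x) :=
        have : IsClosedImmersion (pt x) := isClosedImmersion_of_comp_eq_id _ _ (pointOfClosedPoint_comp _ _ _)
        inferInstance
      have h := (prodKer_flatMap_le _ _ x (Finset.mem_toList.2 (Finset.mem_univ x)) U).trans
        (prodKer_replicate (pt x) (μ x + 1) U) ha
      have h2 := Ideal.pow_right_mono (stalkMap_germ_mem i (pt x) (IsLocalRing.closedPoint k) x
        (pointOfClosedPoint_apply _ _ _ _) U hx) (μ x + 1) h
      have h3 := Ideal.le_comap_pow _ (μ x + 1) h2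
      rw [Ideal.mem_comap, hμ x, Ideal.mem_bot] at h3
      exact h3
  rw [← hl]
  exact ⟨fun j hj => W_of_le (Groth.Agent.CurveRR24.isCoh_idealMod' i.ker).1 hreg le_rfl (by push_cast; omega), hreg⟩

end Groth.Agent.S14170
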