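import Groth.Statements.S14172
import Groth.Agent.CAlgH3.PSheafBound
import Groth.Agent.CAlgH3.IdealPowVanish
-- import your own Groth.Agent.* helpers here

set_option autoImplicit false
set_option backward.isDefEq.respectTransparency.types false
universe u
open CategoryTheory CategoryTheory.Limits AlgebraicGeometry
open Variety

open Groth.Agent.Coherent Groth.Agent.PicLib Groth.Agent.AmpleLib Groth.Agent.CAlgH3.ModCohSeq
  Groth.Agent.CAlgH3.PSheaf Groth.Agent.CAlgH3.PSheafSeq Groth.Agent.CAlgH3.PRing Groth.Agent.CAlgH3.PSheafGen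

namespace Groth.Agent.S14172

theorem pow_twist (k : Type u) [Field k] (n : ℕ) (d : ℤ) (p : ℕ) :
    Nonempty (CohB1.tensorPow (Twist.twistProjSpace n k d) p ≅ Twist.twistProjSpace n k (d * p)) := by
  induction p with
  | zero =>
    obtain ⟨e⟩ := TwistLib.G.nonempty_twist_pow_iso (𝒜 := CohB1.polyGrading n k) covers 0
    exact ⟨e.symm ≪≫ twistCompare (((0 : ℕ) : ℤ)) ≪≫ eqToIso (by simp)⟩
  | succ p ih =>
    obtain ⟨e⟩ := ih
    obtain ⟨e'⟩ := TwistLib.G.nonempty_tensor_twist_iso (𝒜 := CohB1.polyGrading n k) covers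
      (show d * (p : ℤ) + d = d * ((p + 1 : ℕ) : ℤ) by push_cast; ring)
    exact ⟨tensorIso e (Iso.refl _) ≪≫ e'⟩

/-- Let k be an algebraically closed field of characteristic zero (the published statement is over the
complex numbers; this row allows any algebraically closed field of characteristic zero), I a
quasi-coherent ideal sheaf on P^n_k, viewed as an O-module, and d an integer such that I(d) = I ⊗
O(d) is generated by its global sections. Then reg(I^p) ≤ d p + e for a suitable integer e and every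
p ≥ 1: the p-th power I^p is m-regular whenever m ≥ d p + e. -/
theorem result (k : Type u) [Field k] [IsAlgClosed k] [CharZero k]
    (n : ℕ) (I : (CohB1.ProjSpace n k).IdealSheafData) (d : ℤ)
    (hd : Curv2.IsGloballyGenerated (CohB1.tensorMod (ClSub.idealMod I) (Twist.twistProjSpace n k d))) :
    ∃ e : ℤ, ∀ p : ℕ, 1 ≤ p → ∀ m : ℤ, d * (p : ℤ) + e ≤ m →
      Curv2.IsMRegular k n (ClSub.idealMod (I ^ p)) m := by
  haveI := isProper_projSpace_toSpec n k
  haveI : IsLocallyNoetherian (CohB1.ProjSpace n k) :=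
    LocallyOfFiniteType.isLocallyNoetherian (CohB1.ProjSpace.toSpec n k)
  haveI : CompactSpace (CohB1.ProjSpace n k) :=
    QuasiCompact.compactSpace_of_compactSpace (CohB1.ProjSpace.toSpec n k)
  obtain ⟨n₀, hn₀⟩ := Groth.Agent.CAlgH3.IdealPowVanish.exists_vanishesFrom (I := I)
    (isInvertible_twistProj d) hd (isInvertible_twistProj 1) (fun F hF => by
      obtain ⟨d₀, hd₀⟩ := Groth.Agent.CAlgH3.PSheafBound.exists_forall_W F hF
      refine ⟨d₀.toNat, fun q hq i hi => ?_⟩
      obtain ⟨e⟩ := Groth.Agent.S14172.pow_twist k n 1 q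
      exact (V_iff_HMod _ i).1 (V_of_iso (tensorIso (Iso.refl F) e.symm)
        (hd₀ ((1 : ℤ) * q) (by omega) i hi)))
  refine ⟨(n₀ : ℤ) + n, fun p _ m hm i hi hin => ?_⟩
  have h1 : V (CohB1.tensorMod (CohB1.tensorMod (ClSub.idealMod (I ^ p)) (CohB1.tensorPow (Twist.twistProjSpace n k d) p))
      (CohB1.tensorPow (Twist.twistProjSpace n k 1) (m - i - d * p).toNat)) i :=
    (V_iff_HMod _ i).2 (hn₀ p _ (by omega) i hi)
  obtain ⟨e₁⟩ := pow_twist k n d p
  obtain ⟨e₂⟩ := pow_twist k n 1 (m - i - d * p).toNat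
  obtain ⟨e₃⟩ := nonempty_twist_assoc (F := ClSub.idealMod (I ^ p)) (a := d * (p : ℤ))
    (b := (1 : ℤ) * ((m - i - d * p).toNat : ℕ)) (c := m - i)
    (Groth.Agent.CurveRR24.isCoh_idealMod' (I ^ p)).1 (by omega)
  exact V_of_iso (tensorIso (tensorIso (Iso.refl _) e₁) e₂ ≪≫ e₃) h1

end Groth.Agent.S14172
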