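import Groth.Statements.S14175
import Mathlib.RepresentationTheory.Coinvariants
import Mathlib.RepresentationTheory.Homological.GroupCohomology.Functoriality
import Mathlib.Topology.Algebra.ClopenNhdofOne
import Mathlib.GroupTheory.PGroup
import Mathlib.FieldTheory.Galois.Basic
import Mathlib.LinearAlgebra.Matrix.GeneralLinearGroup.Defs
import Mathlib.LinearAlgebra.Matrix.Basis

set_option autoImplicit false
universe u v w
open GalCoh

namespace Groth.Agent.S14175
open CategoryTheory

/-- Let G be a finite cyclic group generated by t, let m be a natural number dividing the order of G,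
and let ρ be a linear representation of G on a module V over a commutative ring k such that m·V = 0
and every element of G whose m-th power is the identity acts trivially on V. Then evaluating a
crossed homomorphism at t induces a bijection from the first cohomology of G with values in V
(crossed homomorphisms f, i.e. f(gh) = ρ(g)f(h) + f(g), modulo the principal ones g ↦ ρ(g)x − x)
onto the coinvariants V_G (the quotient of V by the span of all ρ(g)v − v): the class of f(t) in V_G
vanishes exactly when f is principal, and every class of V_G is the class of f(t) for some crossed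
homomorphism f. The bijection depends on the choice of the generator t. -/
theorem result
    {k : Type u} {G : Type v} {V : Type w} [CommRing k] [Group G] [Finite G]
    [AddCommGroup V] [Module k V] (ρ : Representation k G V)
    (t : G) (ht : ∀ g : G, g ∈ Subgroup.zpowers t)
    (m : ℕ) (hm : m ∣ Nat.card G) (htors : ∀ v : V, m • v = 0)
    (htriv : ∀ g : G, g ^ m = 1 → ∀ v : V, ρ g v = v) :
    (∀ f : G → V, (∀ g h : G, f (g * h) = ρ g (f h) + f g) →
        (Representation.Coinvariants.mk ρ (f t) = 0 ↔ ∃ x : V, ∀ g : G, f g = ρ g x - x)) ∧
    (∀ v : V, ∃ f : G → V, (∀ g h : G, f (g * h) = ρ g (f h) + f g) ∧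
        Representation.Coinvariants.mk ρ (f t) = Representation.Coinvariants.mk ρ v) := by
  have hpow : ∀ g : G, ∃ i : ℕ, t ^ i = g := fun g => (mem_powers_iff_mem_zpowers).mpr (ht g)
  constructor
  · intro f hf
    have hker : ∀ x ∈ Representation.Coinvariants.ker ρ, ∃ y, x = ρ t y - y := by
      intro x hx
      refine Submodule.span_induction ?_ ⟨0, by simp⟩ ?_ ?_ hx
      · rintro _ ⟨⟨g, v⟩, rfl⟩
        obtain ⟨i, rfl⟩ := hpow g
        induction i with
        | zero => exact ⟨0, by simp⟩
        | succ i ih =>
          obtain ⟨y, hy⟩ := ih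
          refine ⟨ρ (t ^ i) v + y, ?_⟩
          simp only [map_add] at hy ⊢
          rw [pow_succ', map_mul, Module.End.mul_apply]
          linear_combination (norm := abel) hy
      · rintro a b - - ⟨y, rfl⟩ ⟨z, rfl⟩
        exact ⟨y + z, by simp [map_add]; abel⟩
      · rintro c a - ⟨y, rfl⟩
        exact ⟨c • y, by simp [smul_sub]⟩
    constructor
    · intro h
      obtain ⟨x, hx⟩ := hker _ ((Representation.Coinvariants.mk_eq_zero ρ).mp h)
      refine ⟨x, fun g => ?_⟩
      obtain ⟨i, rfl⟩ := hpow g
      induction i with
      | zero => have := hf 1 1; simpa using this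
      | succ i ih =>
        rw [pow_succ', hf, ih, hx, map_sub, map_mul, Module.End.mul_apply]
        abel
    · rintro ⟨x, hx⟩
      rw [hx]
      exact (Representation.Coinvariants.mk_eq_zero ρ).mpr (Submodule.subset_span ⟨(t, x), rfl⟩)
  · intro v
    let s : ℕ → V := fun i => ∑ j ∈ Finset.range i, ρ (t ^ j) v
    have s_add : ∀ i j, s (i + j) = ρ (t ^ i) (s j) + s i := by
      intro i j
      simp only [s, Finset.sum_range_add, map_sum, pow_add, map_mul, Module.End.mul_apply]
      abel
    set N := orderOf t with hN
    have hNcard : N = Nat.card G := orderOf_eq_card_of_forall_mem_zpowers ht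
    obtain ⟨d, hd⟩ := hm
    rw [← hNcard] at hd
    have hs_mul : ∀ q, s (d * q) = q • s d := by
      intro q
      induction q with
      | zero => simp [s]
      | succ q ih =>
        have htd : ∀ w, ρ (t ^ d) w = w := htriv _ (by rw [← pow_mul, mul_comm, ← hd, pow_orderOf_eq_one])
        rw [Nat.mul_succ, add_comm (d * q), s_add, htd, ih, succ_nsmul]
    have sN : ∀ q, s (N * q) = 0 := by
      intro q
      rw [hd, mul_comm m, mul_assoc, hs_mul, mul_smul, htors]
    have hcongr : ∀ i j, i ≤ j → t ^ i = t ^ j → s j = s i := by
      intro i j hij h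
      obtain ⟨q, hq⟩ := (Nat.modEq_iff_dvd' hij).mp (pow_eq_pow_iff_modEq.mp h)
      have : j = i + N * q := by
        rw [hN] at *
        omega
      rw [this, s_add, sN, map_zero, zero_add]
    have hcongr' : ∀ i j, t ^ i = t ^ j → s i = s j := fun i j h => (le_total i j).elim
      (fun h' => (hcongr i j h' h).symm) (fun h' => hcongr j i h' h.symm)
    choose n hn using hpow
    refine ⟨fun g => s (n g), fun g h => ?_, ?_⟩
    · show s (n (g * h)) = _
      rw [hcongr' (n (g * h)) (n g + n h) (by rw [hn, pow_add, hn, hn]), s_add, hn]
    · show Representation.Coinvariants.mk ρ (s (n t)) = _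
      rw [hcongr' (n t) 1 (by rw [hn, pow_one])]
      simp [s]

end Groth.Agent.S14175
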