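import Groth.Statements.S14176
import Mathlib.GroupTheory.FiniteAbelian.Duality
import Mathlib.Topology.Algebra.OpenSubgroup
import Mathlib.Topology.Algebra.Group.ClosedSubgroup

set_option autoImplicit false
universe u
open Pi1

namespace Groth.Agent.S14176
open scoped commutatorElement

open W4c1etcurveeff2 in
/-- Let G be a topological group in which some finite subset generates a dense subgroup, let n ≥ 1, and
let S be the closure of the subgroup generated by all n-th powers and all commutators. Write D for
the group of continuous homomorphisms from G to the discrete cyclic group ℤ/n, that is,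
homomorphisms with open kernel (the first cohomology of G with coefficients in the trivial module
ℤ/n), and D^∨ for its ℤ/n-dual, the group of homomorphisms D → ℤ/n. Then: S is carried onto itself
by every group automorphism of G that is a homeomorphism; an element g of G lies in S exactly when
every element of D kills g, and every element of D^∨ is evaluation at some element of G, so that
evaluation identifies G/S with D^∨; and S is the only closed normal subgroup H of G with G/H
isomorphic to D^∨. (The published statement is for a topologically finitely generated group, calls S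
characteristic and does not restrict the competing subgroups H; this row asks the automorphisms to
be homeomorphisms and H to be closed, which is what the argument uses: for the integers with the
p-adic topology times a cyclic group of prime order q ≠ p, the subgroup qℤ × ℤ/q is normal, not
closed, and has quotient isomorphic to D^∨ ≅ ℤ/q, while S = ℤ × 0.) -/
theorem result
    {G : Type u} [Group G] [TopologicalSpace G] [IsTopologicalGroup G]
    (s : Finset G) (hs : Dense ((Subgroup.closure (s : Set G) : Subgroup G) : Set G))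
    (n : ℕ) [NeZero n] (S : Subgroup G) (hS : S = powCommClosure G n) :
    (∀ φ : G ≃* G, Continuous φ → Continuous φ.symm → S.map φ.toMonoidHom = S) ∧
    (∀ g : G, g ∈ S ↔
        ∀ χ : G →* Multiplicative (ZMod n), IsOpen ((χ.ker : Subgroup G) : Set G) → χ g = 1) ∧
    (∀ F : ContChar G n →* Multiplicative (ZMod n), ∃ g : G,
        ∀ χ : ContChar G n, F χ = (χ.1 : G →* Multiplicative (ZMod n)) g) ∧
    (∀ (H : Subgroup G) [H.Normal], IsClosed (H : Set G) →
        Nonempty (G ⧸ H ≃* (ContChar G n →* Multiplicative (ZMod n))) → H = S) := by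
  classical
  subst hS
  set S := powCommClosure G n with hS
  have hle : Subgroup.closure (Set.range fun g : G => g ^ n) ⊔ commutator G ≤ S := Subgroup.le_topologicalClosure _
  have hclosed : IsClosed (S : Set G) := Subgroup.isClosed_topologicalClosure _
  have hpow : ∀ g : G, g ^ n ∈ S := fun g => hle (Subgroup.mem_sup_left (Subgroup.subset_closure ⟨g, rfl⟩))
  have hcomm : commutator G ≤ S := le_trans le_sup_right hle
  haveI : S.Normal := Subgroup.Normal.of_commutator_le (G := G) hcomm
  letI : CommGroup (G ⧸ S) :=
    { mul_comm := fun a b => by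
        obtain ⟨x, rfl⟩ := QuotientGroup.mk_surjective a
        obtain ⟨y, rfl⟩ := QuotientGroup.mk_surjective b
        show ((x * y : G) : G ⧸ S) = ((y * x : G) : G ⧸ S)
        rw [QuotientGroup.eq]
        refine hcomm ?_
        rw [show (x * y)⁻¹ * (y * x) = ⁅y⁻¹, x⁻¹⁆ by rw [commutatorElement_def]; group]
        exact Subgroup.commutator_mem_commutator trivial trivial }
  have hexp : ∀ a : G ⧸ S, a ^ n = 1 := fun a => by
    obtain ⟨x, rfl⟩ := QuotientGroup.mk_surjective a
    exact (QuotientGroup.eq_one_iff _).mpr (hpow x)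
  -- the quotient is finite
  haveI hfin : Finite (G ⧸ S) := by
    set Q₀ := (Subgroup.closure (s : Set G)).map (QuotientGroup.mk' S) with hQ₀
    haveI : Group.FG Q₀ := (Group.fg_iff_subgroup_fg _).mpr
      ⟨s.image (QuotientGroup.mk' S), by rw [Finset.coe_image, hQ₀, MonoidHom.map_closure]⟩
    haveI : Finite Q₀ := CommGroup.finite_of_fg_torsion _ fun a =>
      isOfFinOrder_iff_pow_eq_one.mpr ⟨n, NeZero.pos n, Subtype.ext (hexp a.1)⟩
    have hfinite : (Q₀ : Set (G ⧸ S)).Finite := Set.toFinite _
    haveI : T1Space (G ⧸ S) := by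
      haveI : IsClosed (S : Set G) := hclosed
      infer_instance
    have hdense : Dense (Q₀ : Set (G ⧸ S)) := by
      rw [hQ₀, Subgroup.coe_map]
      exact (QuotientGroup.mk_surjective).denseRange.dense_image continuous_quot_mk hs
    have huniv : (Q₀ : Set (G ⧸ S)) = Set.univ := by rw [← hfinite.isClosed.closure_eq]; exact hdense.closure_eq
    exact Set.finite_univ_iff.mp (huniv ▸ hfinite)
  haveI : S.FiniteIndex := Subgroup.finiteIndex_of_finite_quotient
  have hopen : IsOpen (S : Set G) := Subgroup.isOpen_of_isClosed_of_finiteIndex S hclosed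
  -- roots of unity in `ℤ/n`
  let M := Multiplicative (ZMod n)
  haveI : HasEnoughRootsOfUnity M n :=
    { prim := ⟨Multiplicative.ofAdd 1, by
        rw [IsPrimitiveRoot.iff_orderOf, orderOf_ofAdd_eq_addOrderOf, ZMod.addOrderOf_one]⟩
      cyc := by
        haveI : IsCyclic Mˣ := isCyclic_of_surjective (toUnits : M ≃* Mˣ).toMonoidHom (toUnits : M ≃* Mˣ).surjective
        infer_instance }
  have hdvd : Monoid.exponent (G ⧸ S) ∣ n := Monoid.exponent_dvd_of_forall_pow_eq_one hexp
  haveI : HasEnoughRootsOfUnity M (Monoid.exponent (G ⧸ S)) := HasEnoughRootsOfUnity.of_dvd M hdvd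
  let v : Mˣ ≃* M := (toUnits : M ≃* Mˣ).symm
  have hker : ∀ χ : G →* M, IsOpen ((χ.ker : Subgroup G) : Set G) → S ≤ χ.ker := by
    intro χ hχ
    refine Subgroup.topologicalClosure_minimal _ (sup_le ?_ ?_) (Subgroup.isClosed_of_isOpen _ hχ)
    · rw [Subgroup.closure_le]
      rintro _ ⟨g, rfl⟩
      show χ (g ^ n) = 1
      rw [map_pow]
      apply Multiplicative.toAdd.injective
      rw [toAdd_pow, toAdd_one, nsmul_eq_mul, ZMod.natCast_self, zero_mul]
    · exact Abelianization.commutator_subset_ker χ
  let mkχ : (G ⧸ S →* Mˣ) → ContChar G n := fun φ =>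
    ⟨v.toMonoidHom.comp (φ.comp (QuotientGroup.mk' S)), Subgroup.isOpen_mono (H₁ := S) (fun g hg => by
      rw [MonoidHom.mem_ker, MonoidHom.comp_apply, MonoidHom.comp_apply, QuotientGroup.mk'_apply,
        (QuotientGroup.eq_one_iff g).mpr hg, map_one, map_one]) hopen⟩
  have hchar : ∀ g : G, g ∈ S ↔
      ∀ χ : G →* Multiplicative (ZMod n), IsOpen ((χ.ker : Subgroup G) : Set G) → χ g = 1 := by
    refine fun g => ⟨fun hg χ hχ => hker χ hχ hg, fun h => ?_⟩
    by_contra hg
    obtain ⟨φ, hφ⟩ := CommGroup.exists_apply_ne_one_of_hasEnoughRootsOfUnity (G ⧸ S) M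
      (a := (g : G ⧸ S)) (fun h' => hg ((QuotientGroup.eq_one_iff g).mp h'))
    refine hφ (v.injective ?_)
    rw [map_one]
    exact h (mkχ φ).1 (mkχ φ).2
  refine ⟨fun φ hφ hφ' => ?_, hchar, ?_, ?_⟩
  · have key : ∀ (ψ : G ≃* G), Continuous ψ → ∀ g ∈ S, ψ g ∈ S := fun ψ hψ g hg =>
      (hchar _).mpr fun χ hχ => (hchar g).mp hg (χ.comp ψ.toMonoidHom) (by
        rw [← MonoidHom.comap_ker, Subgroup.coe_comap]
        exact hχ.preimage hψ)
    ext g
    refine ⟨?_, fun hg => ⟨φ.symm g, key φ.symm hφ' g hg, φ.apply_symm_apply g⟩⟩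
    rintro ⟨x, hx, rfl⟩
    exact key φ hφ x hx
  · let ev : G ⧸ S →* (ContChar G n →* M) := QuotientGroup.lift S
      { toFun := fun g => { toFun := fun χ => χ.1 g, map_one' := rfl, map_mul' := fun _ _ => rfl }
        map_one' := MonoidHom.ext fun χ => map_one χ.1
        map_mul' := fun g h => MonoidHom.ext fun χ => map_mul χ.1 g h }
      fun g hg => MonoidHom.ext fun χ => hker χ.1 χ.2 hg
    have hinj : Function.Injective ev := by
      rw [injective_iff_map_eq_one]
      intro a ha
      obtain ⟨g, rfl⟩ := QuotientGroup.mk_surjective a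
      exact (QuotientGroup.eq_one_iff g).mpr ((hchar g).mpr fun χ hχ => DFunLike.congr_fun ha ⟨χ, hχ⟩)
    have hmk : Function.Bijective mkχ := by
      refine ⟨fun a b hab => MonoidHom.ext fun x => ?_, fun χ => ?_⟩
      · obtain ⟨g, rfl⟩ := QuotientGroup.mk_surjective x
        exact v.injective (DFunLike.congr_fun (congrArg Subtype.val hab) g)
      · refine ⟨v.symm.toMonoidHom.comp (QuotientGroup.lift S χ.1 (hker χ.1 χ.2)), Subtype.ext (MonoidHom.ext fun g => ?_)⟩
        exact v.apply_symm_apply _
    haveI : Finite (G ⧸ S →* Mˣ) := Nat.finite_of_card_ne_zero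
      (by rw [CommGroup.card_monoidHom_of_hasEnoughRootsOfUnity]; exact Nat.card_pos.ne')
    haveI : Finite (ContChar G n) := Finite.of_surjective mkχ hmk.2
    haveI : HasEnoughRootsOfUnity M (Monoid.exponent (ContChar G n)) := by
      refine HasEnoughRootsOfUnity.of_dvd M (n := n) (Monoid.exponent_dvd_of_forall_pow_eq_one fun χ => Subtype.ext (MonoidHom.ext fun g => ?_))
      apply Multiplicative.toAdd.injective
      show Multiplicative.toAdd ((χ.1 g) ^ n) = 0
      rw [toAdd_pow, nsmul_eq_mul, ZMod.natCast_self, zero_mul]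
    let w : (ContChar G n →* Mˣ) ≃ (ContChar G n →* M) := (MulEquiv.monoidHomCongrRight v).toEquiv
    have hcard : Nat.card (ContChar G n →* M) = Nat.card (G ⧸ S) := by
      rw [← Nat.card_congr w, CommGroup.card_monoidHom_of_hasEnoughRootsOfUnity,
        ← Nat.card_congr (Equiv.ofBijective mkχ hmk), CommGroup.card_monoidHom_of_hasEnoughRootsOfUnity]
    haveI : Finite (ContChar G n →* M) := Nat.finite_of_card_ne_zero (by rw [hcard]; exact Nat.card_pos.ne')
    intro F
    obtain ⟨a, ha⟩ := ((Nat.bijective_iff_injective_and_card ev).mpr ⟨hinj, hcard.symm⟩).2 F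
    obtain ⟨g, rfl⟩ := QuotientGroup.mk_surjective a
    exact ⟨g, fun χ => (DFunLike.congr_fun ha χ).symm⟩
  · rintro H hH hHc ⟨e⟩
    have hSH : S ≤ H := by
      refine Subgroup.topologicalClosure_minimal _ (sup_le ?_ ?_) hHc
      · rw [Subgroup.closure_le]
        rintro _ ⟨g, rfl⟩
        rw [SetLike.mem_coe, ← QuotientGroup.eq_one_iff]
        refine e.injective ?_
        rw [QuotientGroup.mk_pow, map_pow, map_one]
        refine MonoidHom.ext fun χ => ?_
        apply Multiplicative.toAdd.injective
        show Multiplicative.toAdd ((e (g : G ⧸ H) χ) ^ n) = 0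
        rw [toAdd_pow, nsmul_eq_mul, ZMod.natCast_self, zero_mul]
      · rw [commutator_def, Subgroup.commutator_le]
        intro a _ b _
        rw [← QuotientGroup.eq_one_iff]
        refine e.injective ?_
        rw [← QuotientGroup.mk'_apply, map_commutatorElement, map_commutatorElement, map_one,
          commutatorElement_eq_one_iff_commute]
        exact Commute.all _ _
    refine le_antisymm ?_ hSH
    -- equal finite index
    let ev : G ⧸ S →* (ContChar G n →* M) := QuotientGroup.lift S
      { toFun := fun g => { toFun := fun χ => χ.1 g, map_one' := rfl, map_mul' := fun _ _ => rfl }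
        map_one' := MonoidHom.ext fun χ => map_one χ.1
        map_mul' := fun g h => MonoidHom.ext fun χ => map_mul χ.1 g h }
      fun g hg => MonoidHom.ext fun χ => hker χ.1 χ.2 hg
    let r : G ⧸ S →* G ⧸ H := QuotientGroup.map S H (MonoidHom.id G) hSH
    have hinj : Function.Injective ev := by
      rw [injective_iff_map_eq_one]
      intro a ha
      obtain ⟨g, rfl⟩ := QuotientGroup.mk_surjective a
      exact (QuotientGroup.eq_one_iff g).mpr ((hchar g).mpr fun χ hχ => DFunLike.congr_fun ha ⟨χ, hχ⟩)
    have hr : Function.Surjective r := fun a => by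
      obtain ⟨g, rfl⟩ := QuotientGroup.mk_surjective a
      exact ⟨g, rfl⟩
    have hcard : Nat.card (G ⧸ S) ≤ Nat.card (G ⧸ H) := by
      haveI : Finite (G ⧸ H) := Finite.of_surjective r hr
      haveI : Finite (ContChar G n →* M) := Finite.of_equiv _ e.toEquiv
      rw [Nat.card_congr e.toEquiv]
      exact Nat.card_le_card_of_injective ev hinj
    have hbij : Function.Bijective r := hr.bijective_of_nat_card_le hcard
    intro g hg
    have : r (g : G ⧸ S) = r 1 := by
      rw [map_one]
      exact (QuotientGroup.eq_one_iff g).mpr hg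
    exact (QuotientGroup.eq_one_iff g).mp (hbij.1 this)

end Groth.Agent.S14176
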