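import Groth.Statements.S14177
import Mathlib.RingTheory.DedekindDomain.Different
import Mathlib.RingTheory.Smooth.Fiber
import Mathlib.RingTheory.Flat.TorsionFree

set_option autoImplicit false
universe u v w
open scoped nonZeroDivisors
open EtAlg

namespace Groth.Agent.S14177


open Polynomial in
/-- `n a b ∈ A[β]` for `b` integral, if `β ^ n = a` generates. -/
theorem mul_mem_adjoin {A : Type u} {K : Type v} {L : Type w} [CommRing A] [IsDomain A] [IsIntegrallyClosed A]
    [Field K] [Algebra A K] [IsFractionRing A K] [Field L] [Algebra K L] [Algebra A L] [IsScalarTower A K L]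
    [FiniteDimensional K L] [Algebra.IsSeparable K L] (n : ℕ) (hn : 0 < n) (β : L) (a : A)
    (hβ : β ^ n = algebraMap A L a) (hgen : Algebra.adjoin K {β} = ⊤) (b : L) (hb : IsIntegral A b) :
    algebraMap A L (n * a) * b ∈ Algebra.adjoin A ({β} : Set L) := by
  haveI : FaithfulSMul A L := (faithfulSMul_iff_algebraMap_injective A L).2 (by
    rw [IsScalarTower.algebraMap_eq A K L]
    exact (algebraMap K L).injective.comp (IsFractionRing.injective A K))
  have hβi : IsIntegral A β := IsIntegral.of_pow hn (hβ ▸ isIntegral_algebraMap)
  obtain ⟨Q, hQ⟩ := minpoly.isIntegrallyClosed_dvd hβi (p := X ^ n - C a) (by simp [hβ])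
  have hd := congrArg (fun p => aeval β (derivative p)) hQ
  simp only [derivative_sub, derivative_X_pow, derivative_C, sub_zero, derivative_mul, map_add, map_mul,
    minpoly.aeval, zero_mul, add_zero, aeval_C, map_natCast, map_pow, aeval_X] at hd
  have hz : b ∈ (Algebra.traceForm K L).dualSubmodule (Subalgebra.toSubmodule (Algebra.adjoin A ({β} : Set L))) := by
    rw [LinearMap.BilinForm.mem_dualSubmodule]
    intro y hy
    rw [Algebra.traceForm_apply, Submodule.mem_one]
    have hyi : IsIntegral A y :=
      (Algebra.adjoin_le (Set.singleton_subset_iff.2 hβi) : Algebra.adjoin A ({β} : Set L) ≤ integralClosure A L) hy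
    exact IsIntegrallyClosed.isIntegral_iff.1 (Algebra.isIntegral_trace (R := A) (L := K) (hb.mul hyi))
  rw [traceForm_dualSubmodule_adjoin A K hgen hβi] at hz
  obtain ⟨c, hc, rfl⟩ := (Submodule.mem_smul_pointwise_iff_exists _ _ _).1 hz
  have hP : aeval β (derivative (minpoly K β)) = aeval β (derivative (minpoly A β)) := by
    rw [minpoly.isIntegrallyClosed_eq_field_fractions' K hβi, derivative_map, aeval_map_algebraMap]
  rw [smul_eq_mul, hP]
  have key : algebraMap A L (n * a) = aeval β (derivative (minpoly A β)) * (aeval β Q * β) := by
    rw [← mul_assoc, ← hd, map_mul, map_natCast, ← hβ, mul_assoc, ← pow_succ, Nat.sub_add_cancel hn]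
  have hu : aeval β (derivative (minpoly A β)) ≠ 0 := by
    rw [← hP]
    exact (Algebra.IsSeparable.isSeparable K β).aeval_derivative_ne_zero (minpoly.aeval K β)
  rw [key, show aeval β (derivative (minpoly A β)) * (aeval β Q * β) * ((aeval β (derivative (minpoly A β)))⁻¹ * c) =
    aeval β Q * β * c * (aeval β (derivative (minpoly A β)) * (aeval β (derivative (minpoly A β)))⁻¹) by ring,
    mul_inv_cancel₀ hu, mul_one]
  exact mul_mem (mul_mem (Polynomial.aeval_mem_adjoin_singleton A β) (Algebra.self_mem_adjoin_singleton A β)) hc

open scoped nonZeroDivisors in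
/-- Local `n`-th root of `f` up to a unit. -/
theorem exists_local_root {A : Type u} {K : Type v} [CommRing A] [IsDedekindDomain A]
    [Field K] [Algebra A K] [IsFractionRing A K] (n : ℕ) (hn : 0 < n) (f : K) (hf : f ≠ 0)
    (I : FractionalIdeal A⁰ K) (hI : FractionalIdeal.spanSingleton A⁰ f = I ^ n) (p : Ideal A) [p.IsPrime] :
    ∃ (c : K) (a : A), a ∉ p ∧ c ^ n = algebraMap A K a * f := by
  open FractionalIdeal in
  have hI0 : I ≠ 0 := fun h => hf (by
    rwa [h, zero_pow hn.ne', spanSingleton_eq_zero_iff] at hI)
  have hlt : (p : FractionalIdeal A⁰ K) * I < I := by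
    refine lt_of_le_of_ne ((mul_le_mul' (coeIdeal_le_one (I := p)) le_rfl).trans (one_mul I).le) fun h => ?_
    have h1 : (p : FractionalIdeal A⁰ K) = 1 := mul_right_cancel₀ hI0 (h.trans (one_mul I).symm)
    exact (inferInstance : p.IsPrime).ne_top ((coeIdeal_eq_one.1 h1).trans Ideal.one_eq_top)
  obtain ⟨c, hcI, hcp⟩ := SetLike.exists_of_lt hlt
  have hJ : FractionalIdeal.spanSingleton A⁰ c * I⁻¹ ≤ 1 := by
    rw [← mul_inv_cancel₀ hI0]
    exact mul_le_mul' (FractionalIdeal.spanSingleton_le_iff_mem.2 hcI) le_rfl
  obtain ⟨J, hJe⟩ := FractionalIdeal.le_one_iff_exists_coeIdeal.1 hJ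
  have hJc : FractionalIdeal.spanSingleton A⁰ c = (J : FractionalIdeal A⁰ K) * I := by
    rw [hJe, mul_assoc, inv_mul_cancel₀ hI0, mul_one]
  have hJp : ¬ J ≤ p := fun h => hcp (by
    refine FractionalIdeal.spanSingleton_le_iff_mem.1 ?_
    rw [hJc]
    exact mul_le_mul' ((FractionalIdeal.coeIdeal_le_coeIdeal K).2 h) le_rfl)
  have hcn : FractionalIdeal.spanSingleton A⁰ (c ^ n) = ((J ^ n : Ideal A) : FractionalIdeal A⁰ K) * FractionalIdeal.spanSingleton A⁰ f := by
    rw [← FractionalIdeal.spanSingleton_pow, hJc, mul_pow, FractionalIdeal.coeIdeal_pow, hI]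
  have h2 : FractionalIdeal.spanSingleton A⁰ (c ^ n / f) = ((J ^ n : Ideal A) : FractionalIdeal A⁰ K) := by
    rw [div_eq_mul_inv, ← FractionalIdeal.spanSingleton_mul_spanSingleton, hcn, mul_assoc,
      FractionalIdeal.spanSingleton_mul_spanSingleton, mul_inv_cancel₀ hf, FractionalIdeal.spanSingleton_one, mul_one]
  obtain ⟨a, ha, hac⟩ := (FractionalIdeal.mem_coeIdeal _).1 (h2 ▸ FractionalIdeal.mem_spanSingleton_self A⁰ (c ^ n / f))
  refine ⟨c, a, fun hap => ?_, by rw [hac, div_mul_cancel₀ _ hf]⟩
  have hJn : J ^ n ≤ p := fun x hx => by
    have hx' : algebraMap A K x ∈ FractionalIdeal.spanSingleton A⁰ (c ^ n / f) :=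
      h2.symm ▸ FractionalIdeal.mem_coeIdeal_of_mem _ hx
    obtain ⟨z, hz⟩ := (FractionalIdeal.mem_spanSingleton _).1 hx'
    rw [← hac, Algebra.smul_def, ← map_mul] at hz
    rw [← IsFractionRing.injective A K hz]
    exact p.mul_mem_left z hap
  exact hJp (Ideal.IsPrime.le_of_pow_le hJn)

/-- Let A be a Dedekind domain with fraction field K, let n be a natural number invertible in A, let f
be a nonzero element of K whose principal fractional ideal is the n-th power of a fractional ideal I
(the divisor of f is n times a divisor), and let L = K(α) be a field extension of K generated by a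
single element α with α^n = f. Then the integral closure of A in L is finite and étale over A. (The
published statement is for the normalisation of an integral smooth curve over a perfect field in
such an extension of its function field; this row states the same for any Dedekind domain, the case
the local argument covers.) -/
theorem result
    {A : Type u} {K : Type v} {L : Type w} [CommRing A] [IsDedekindDomain A]
    [Field K] [Algebra A K] [IsFractionRing A K]
    [Field L] [Algebra K L] [Algebra A L] [IsScalarTower A K L]
    (n : ℕ) (hn : IsUnit (n : A)) (f : K) (hf : f ≠ 0)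
    (I : FractionalIdeal A⁰ K) (hI : FractionalIdeal.spanSingleton A⁰ f = I ^ n)
    (α : L) (hα : α ^ n = algebraMap K L f) (hgen : IntermediateField.adjoin K {α} = ⊤) :
    Algebra.Etale A (integralClosure A L) ∧ Module.Finite A (integralClosure A L) := by
  classical
  rcases Nat.eq_zero_or_pos n with h0 | hn0
  · exfalso
    subst h0
    rw [Nat.cast_zero, isUnit_zero_iff] at hn
    exact zero_ne_one hn
  have hnK : (n : K) ≠ 0 := by
    have := (hn.map (algebraMap A K)).ne_zero
    rwa [map_natCast] at this
  have hαi : IsIntegral K α := IsIntegral.of_pow hn0 (hα ▸ isIntegral_algebraMap)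
  haveI : FiniteDimensional K L := by
    haveI := IntermediateField.adjoin.finiteDimensional hαi
    exact Module.Finite.equiv ((IntermediateField.equivOfEq hgen).trans IntermediateField.topEquiv).toLinearEquiv
  haveI : Algebra.IsSeparable K L := by
    have hs : IsSeparable K α := Polynomial.Separable.of_dvd (Polynomial.separable_X_pow_sub_C f hnK hf)
      (minpoly.dvd K α (by simp [hα]))
    haveI := (IntermediateField.isSeparable_adjoin_simple_iff_isSeparable K L).2 hs
    exact Algebra.IsSeparable.of_equiv_equiv (RingEquiv.refl K)
      ((IntermediateField.equivOfEq hgen).trans IntermediateField.topEquiv).toRingEquiv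
      (RingHom.ext fun x => by simp)
  haveI : Module.Finite A (integralClosure A L) := IsIntegralClosure.finite A K L (integralClosure A L)
  refine ⟨?_, inferInstance⟩
  have hinjA : Function.Injective (algebraMap A L) := by
    rw [IsScalarTower.algebraMap_eq A K L]
    exact (algebraMap K L).injective.comp (IsFractionRing.injective A K)
  haveI : FaithfulSMul A L := (faithfulSMul_iff_algebraMap_injective A L).2 hinjA
  haveI : Module.IsTorsionFree A (integralClosure A L) := inferInstance
  haveI : Algebra.FinitePresentation A (integralClosure A L) := Algebra.FinitePresentation.of_finiteType.1 inferInstance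
  haveI : Algebra.FormallyUnramified A (integralClosure A L) := by
    refine ⟨subsingleton_of_forall_eq 0 fun z => ?_⟩
    have hD : ∀ b, KaehlerDifferential.D A (integralClosure A L) b = 0 := by
      intro b
      set Db := KaehlerDifferential.D A (integralClosure A L) b with hDb
      let J : Ideal A := Submodule.annihilator (Submodule.span A {Db})
      by_contra hne
      have hJ : J ≠ ⊤ := fun h => hne (by
        have := (Submodule.mem_annihilator_span_singleton Db 1).1 (h ▸ Submodule.mem_top : (1 : A) ∈ J)
        rwa [one_smul] at this)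
      obtain ⟨p, hp, hJp⟩ := Ideal.exists_le_maximal J hJ
      obtain ⟨c, a, hap, hc⟩ := exists_local_root n hn0 f hf I hI p
      have hc0 : c ≠ 0 := fun h => by
        rw [h, zero_pow hn0.ne', eq_comm, mul_eq_zero, or_iff_left hf] at hc
        exact hap ((IsFractionRing.injective A K (hc.trans (map_zero _).symm)) ▸ p.zero_mem)
      let β : L := algebraMap K L c / α
      have hα0 : α ≠ 0 := fun h => hf (by
        rw [h, zero_pow hn0.ne', eq_comm, map_eq_zero] at hα; exact hα)
      have hβ : β ^ n = algebraMap A L a := by
        rw [div_pow, ← map_pow, hc, map_mul, hα, ← IsScalarTower.algebraMap_apply,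
          mul_div_cancel_right₀ _ ((map_ne_zero _).2 hf)]
      have hgenβ : Algebra.adjoin K ({β} : Set L) = ⊤ := by
        have h1 : IntermediateField.adjoin K {β} = ⊤ := by
          rw [eq_top_iff, ← hgen, IntermediateField.adjoin_simple_le_iff]
          have : α = algebraMap K L c / β := by rw [div_div_cancel₀ ((map_ne_zero _).2 hc0)]
          rw [this]
          exact div_mem (IntermediateField.algebraMap_mem _ c) (IntermediateField.mem_adjoin_simple_self K β)
        have h2 := congrArg IntermediateField.toSubalgebra h1
        rwa [IntermediateField.adjoin_simple_toSubalgebra_of_isAlgebraic (Algebra.IsAlgebraic.isAlgebraic β),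
          IntermediateField.top_toSubalgebra] at h2
      let β' : integralClosure A L := ⟨β, IsIntegral.of_pow hn0 (hβ ▸ isIntegral_algebraMap)⟩
      have hβ' : β' ^ n = algebraMap A (integralClosure A L) a := Subtype.ext (by simpa using hβ)
      let w : A := n * a
      have hw : w ∉ p := fun h => by
        rcases hp.isPrime.mem_or_mem h with h | h
        · exact hp.ne_top (Ideal.eq_top_of_isUnit_mem _ h hn)
        · exact hap h
      have hDβ : w • KaehlerDifferential.D A (integralClosure A L) β' = 0 := by
        have h1 := (KaehlerDifferential.D A (integralClosure A L)).leibniz_pow β' n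
        rw [hβ', Derivation.map_algebraMap] at h1
        have h2 : β' • ((n : ℕ) • β' ^ (n - 1) • KaehlerDifferential.D A (integralClosure A L) β') = 0 := by
          rw [← h1, smul_zero]
        rw [smul_comm, smul_smul, ← pow_succ', Nat.sub_add_cancel hn0, hβ', algebraMap_smul,
          ← Nat.cast_smul_eq_nsmul A, smul_smul] at h2
        exact h2
      have hadj : ∀ x : integralClosure A L, (x : L) ∈ Algebra.adjoin A ({β} : Set L) →
          w • KaehlerDifferential.D A (integralClosure A L) x = 0 := by
        intro x hx
        rw [Algebra.adjoin_singleton_eq_range_aeval] at hx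
        obtain ⟨P, hP⟩ := hx
        have hx' : x = Polynomial.aeval β' P := Subtype.ext (by
          rw [← hP]; exact Polynomial.aeval_algHom_apply (integralClosure A L).val β' P)
        rw [hx', Derivation.map_aeval, smul_comm, hDβ, smul_zero]
      have hwb : w • KaehlerDifferential.D A (integralClosure A L) (algebraMap A (integralClosure A L) w * b) = 0 :=
        hadj _ (by simpa [w] using mul_mem_adjoin n hn0 β a hβ hgenβ (b : L) b.2)
      rw [← Algebra.smul_def, Derivation.map_smul, smul_smul, ← hDb] at hwb
      exact hp.isPrime.mul_notMem hw hw (hJp ((Submodule.mem_annihilator_span_singleton Db _).2 hwb))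
    have htop := KaehlerDifferential.span_range_derivation A (integralClosure A L)
    have : z ∈ (⊥ : Submodule (integralClosure A L) _) := by
      rw [← show Submodule.span (integralClosure A L) (Set.range (KaehlerDifferential.D A (integralClosure A L))) = ⊥ from
        Submodule.span_eq_bot.2 (by rintro _ ⟨b, rfl⟩; exact hD b), htop]
      exact Submodule.mem_top
    exact (Submodule.mem_bot _).1 this
  exact Algebra.Etale.of_formallyUnramified_of_flat

end Groth.Agent.S14177
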