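import Groth.Statements.S14178
import Mathlib.FieldTheory.KummerExtension
import Mathlib.RingTheory.DedekindDomain.Factorization
import Mathlib.RingTheory.ClassGroup.Basic

set_option autoImplicit false
universe u v w
open scoped nonZeroDivisors
open EtAlg

namespace Groth.Agent.S14178

/-- Let A be a Dedekind domain with fraction field K, let n be a natural number invertible in A such
that K contains a primitive n-th root of unity, let f be a nonzero element of K and I an invertible
fractional ideal of A with (f) = I^n whose class in the ideal class group of A has order exactly n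
(the divisor of f is n times a divisor whose class has order n), and let L = K(α) be a field
extension of K generated by a single element α with α^n = f. Then L is Galois over K of degree n
with cyclic Galois group. (The published statement is for an integral smooth curve over a perfect
field containing a primitive n-th root of unity, with the Picard group of the curve in place of the
class group; this row states it for any Dedekind domain.) -/
theorem result
    {A : Type u} {K : Type v} {L : Type w} [CommRing A] [IsDedekindDomain A]
    [Field K] [Algebra A K] [IsFractionRing A K]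
    [Field L] [Algebra K L]
    (n : ℕ) (hn : IsUnit (n : A)) (ζ : K) (hζ : IsPrimitiveRoot ζ n) (f : K) (hf : f ≠ 0)
    (I : (FractionalIdeal A⁰ K)ˣ) (hI : FractionalIdeal.spanSingleton A⁰ f = (I : FractionalIdeal A⁰ K) ^ n)
    (hord : orderOf (ClassGroup.mk K I) = n)
    (α : L) (hα : α ^ n = algebraMap K L f) (hgen : IntermediateField.adjoin K {α} = ⊤) :
    IsGalois K L ∧ IsCyclic (L ≃ₐ[K] L) ∧ Module.finrank K L = n := by
  have hn0 : n ≠ 0 := by
    rintro rfl
    rw [Nat.cast_zero] at hn
    exact not_isUnit_zero hn
  have hint : IsIntegral K α := by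
    refine IsIntegral.of_pow (Nat.pos_of_ne_zero hn0) ?_
    rw [hα]; exact isIntegral_algebraMap
  have hfd : FiniteDimensional K L := by
    have := IntermediateField.adjoin.finiteDimensional hint
    rw [hgen] at this
    exact LinearEquiv.finiteDimensional (IntermediateField.topEquiv (F := K) (E := L)).toLinearEquiv
  set d := Module.finrank K L with hd
  have hmin : (minpoly K α).natDegree = d := by
    rw [← IntermediateField.adjoin.finrank hint, hgen, IntermediateField.finrank_top']
  have hF : (Polynomial.X ^ n - Polynomial.C f).Monic := Polynomial.monic_X_pow_sub_C f hn0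
  have hroot : Polynomial.aeval α (Polynomial.X ^ n - Polynomial.C f) = 0 := by
    simp [hα]
  have hle : d ≤ n := by
    rw [← hmin, ← Polynomial.natDegree_X_pow_sub_C (n := n) (r := f)]
    exact Polynomial.natDegree_le_of_dvd (minpoly.dvd K α hroot) hF.ne_zero
  have hdvd : n ∣ d := by
    rw [← hord, orderOf_dvd_iff_pow_eq_one, ← map_pow, ClassGroup.mk_eq_one_iff]
    set g := Algebra.norm K α with hg
    have hgn : g ^ n = f ^ d := by
      rw [hg, ← map_pow, hα, Algebra.norm_algebraMap]
    have hg0 : g ≠ 0 := fun h => by
      rw [h, zero_pow hn0] at hgn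
      exact pow_ne_zero d hf hgn.symm
    have hI0 : (I : FractionalIdeal A⁰ K) ^ d ≠ 0 := pow_ne_zero _ I.ne_zero
    have hs : FractionalIdeal.spanSingleton A⁰ g ≠ 0 :=
      FractionalIdeal.spanSingleton_ne_zero_iff.mpr hg0
    have heq : FractionalIdeal.spanSingleton A⁰ g = (I : FractionalIdeal A⁰ K) ^ d := by
      rw [← FractionalIdeal.finprod_heightOneSpectrum_factorization' K hs,
        ← FractionalIdeal.finprod_heightOneSpectrum_factorization' K hI0]
      refine finprod_congr fun v => ?_
      congr 1
      have h1 : FractionalIdeal.spanSingleton A⁰ g ^ n = ((I : FractionalIdeal A⁰ K) ^ d) ^ n := by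
        rw [FractionalIdeal.spanSingleton_pow, hgn, ← FractionalIdeal.spanSingleton_pow, hI,
          ← pow_mul, ← pow_mul, mul_comm n d]
      have h2 := congrArg (FractionalIdeal.count K v) h1
      rw [FractionalIdeal.count_pow, FractionalIdeal.count_pow] at h2
      exact mul_left_cancel₀ (Nat.cast_ne_zero.mpr hn0) h2
    rw [Units.val_pow_eq_pow_val, ← heq]
    exact ⟨⟨g, by rw [FractionalIdeal.coe_spanSingleton]⟩⟩
  have hd0 : 0 < d := Module.finrank_pos
  have hdn : d = n := le_antisymm hle (Nat.le_of_dvd hd0 hdvd)
  have hirr : Irreducible (Polynomial.X ^ n - Polynomial.C f) := by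
    have : minpoly K α = Polynomial.X ^ n - Polynomial.C f := by
      symm
      refine Polynomial.eq_of_monic_of_dvd_of_natDegree_le (minpoly.monic hint) hF
        (minpoly.dvd K α hroot) ?_
      rw [Polynomial.natDegree_X_pow_sub_C, hmin, hdn]
    rw [← this]
    exact minpoly.irreducible hint
  have hK : (primitiveRoots n K).Nonempty :=
    ⟨ζ, (mem_primitiveRoots (Nat.pos_of_ne_zero hn0)).mpr hζ⟩
  have : NeZero n := ⟨hn0⟩
  have : Polynomial.IsSplittingField K L (Polynomial.X ^ n - Polynomial.C f) := by
    rw [← hdn]
    exact isSplittingField_X_pow_sub_C_of_root_adjoin_eq_top (by rw [← hd, hdn]; exact hK)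
      (by rw [← hd, hdn]; exact hα) hgen
  exact ⟨isGalois_of_isSplittingField_X_pow_sub_C hK hirr L,
    isCyclic_of_isSplittingField_X_pow_sub_C hK hirr L, hdn⟩

end Groth.Agent.S14178
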