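import Groth.Statements.S14181
import Mathlib.RepresentationTheory.Coinvariants
import Mathlib.RepresentationTheory.Homological.GroupCohomology.Functoriality
import Mathlib.Topology.Algebra.ClopenNhdofOne
import Mathlib.GroupTheory.PGroup
import Mathlib.FieldTheory.Galois.Basic
import Mathlib.LinearAlgebra.Matrix.GeneralLinearGroup.Defs
import Mathlib.LinearAlgebra.Matrix.Basis

set_option autoImplicit false
universe u
open CategoryTheory
open GalCoh

namespace Groth.Agent.S14181
open CategoryTheory

/-- Let G be a group with a finite normal subgroup P, k a commutative ring and A a k-linear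
representation of G such that multiplication by the order of P is a bijection of A. Then the
inflation map on 1-cocycles (crossed homomorphisms) Z¹(G/P, A^P) → Z¹(G, A) has a k-linear left
inverse. (The published statement is for the inertia group of a Galois cover of smooth curves at a
point, its normal Sylow p-subgroup P and a module of n-torsion with n prime to p; the argument uses
only that the order of P acts invertibly, which is the hypothesis taken here.) -/
theorem result
    {k G : Type u} [CommRing k] [Group G] (A : Rep.{u} k G) (P : Subgroup G) [P.Normal] [Finite P]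
    (hP : Function.Bijective fun a : A => (Nat.card P : k) • a) :
    ∃ r : ModuleCat.of k (groupCohomology.cocycles₁ A) ⟶
        ModuleCat.of k (groupCohomology.cocycles₁ (A.quotientToInvariants P)),
      (groupCohomology.mapCocycles₁ (QuotientGroup.mk' P) (Rep.ofHom (A.ρ.quotientToInvariants_lift P)) :
          ModuleCat.of k (groupCohomology.cocycles₁ (A.quotientToInvariants P)) ⟶
            ModuleCat.of k (groupCohomology.cocycles₁ A)) ≫ r = 𝟙 _ := by
  open groupCohomology CategoryTheory in
  classical
  haveI : Fintype P := Fintype.ofFinite P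
  let e : A ≃ₗ[k] A := LinearEquiv.ofBijective ((Nat.card P : k) • LinearMap.id) hP
  have he : ∀ a : A, e a = (Nat.card P : k) • a := fun a => rfl
  let X : cocycles₁ A →ₗ[k] A :=
    -(e.symm.toLinearMap ∘ₗ ∑ p : P, (LinearMap.proj (p : G)) ∘ₗ (cocycles₁ A).subtype)
  have hX : ∀ (f : cocycles₁ A) (q : P), A.ρ q (X f) - X f = f q := by
    intro f q
    apply e.injective
    have hXe : e (X f) = - ∑ p : P, f p := by simp [X]
    have hs : ∑ p : P, f ((q : G) * p) = ∑ p : P, f p :=
      Fintype.sum_equiv (Equiv.mulLeft q) _ _ (fun _ => rfl)
    rw [map_sub, he (A.ρ q _), ← map_smul, ← he, hXe, map_neg, map_sum, he]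
    simp only [(mem_cocycles₁_iff f).mp f.2, Finset.sum_add_distrib, Finset.sum_const,
      Finset.card_univ, ← Nat.card_eq_fintype_card, Nat.cast_smul_eq_nsmul] at hs ⊢
    linear_combination (norm := abel) -hs
  let F : cocycles₁ A → G → A := fun f g => f g - (A.ρ g (X f) - X f)
  have hFc : ∀ f (g h : G), F f (g * h) = A.ρ g (F f h) + F f g := by
    intro f g h
    simp only [F, (mem_cocycles₁_iff f).mp f.2, map_mul, Module.End.mul_apply, map_sub]
    abel
  have hF0 : ∀ f (q : P), F f q = 0 := fun f q => by simp [F, hX]
  have hright : ∀ f (g : G) (q : P), F f (g * q) = F f g := fun f g q => by simp [hFc f g, hF0]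
  have hinv : ∀ f (g : G) (q : P), A.ρ q (F f g) = F f g := by
    intro f g q
    have h1 : F f ((q : G) * g) = A.ρ q (F f g) := by simp [hFc f (q : G), hF0]
    have h2 : F f ((q : G) * g) = F f g := by
      have := hright f g ⟨g⁻¹ * q * g, by simpa using Subgroup.Normal.conj_mem ‹P.Normal› q q.2 g⁻¹⟩
      simpa [mul_assoc] using this
    rw [← h1, h2]
  let R : cocycles₁ A → (G ⧸ P) → A.quotientToInvariants P := fun f x =>
    Quotient.liftOn' x (fun g => (⟨F f g, hinv f g⟩ : Representation.invariants (A.ρ.comp P.subtype))) (by
      intro a b hab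
      apply Subtype.ext
      have := hright f a ⟨a⁻¹ * b, QuotientGroup.leftRel_apply.mp hab⟩
      simpa using this.symm)
  have hRc : ∀ f, R f ∈ cocycles₁ (A.quotientToInvariants P) := fun f =>
    (mem_cocycles₁_iff _).mpr fun a b => Quotient.inductionOn₂' a b fun g h => Subtype.ext (hFc f g h)
  let r : cocycles₁ A →ₗ[k] cocycles₁ (A.quotientToInvariants P) :=
    { toFun := fun f => ⟨R f, hRc f⟩
      map_add' := fun f f' => cocycles₁_ext fun a => Quotient.inductionOn' a fun g => Subtype.ext (by
        show F (f + f') g = F f g + F f' g
        simp only [F, map_add]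
        show f g + f' g - _ = _
        abel)
      map_smul' := fun c f => cocycles₁_ext fun a => Quotient.inductionOn' a fun g => Subtype.ext (by
        show F (c • f) g = c • F f g
        simp only [F, map_smul, smul_sub]
        rfl) }
  refine ⟨ModuleCat.ofHom r, ?_⟩
  ext c a
  induction a using QuotientGroup.induction_on with
  | _ g =>
  set f := mapCocycles₁ (QuotientGroup.mk' P) (Rep.ofHom (A.ρ.quotientToInvariants_lift P)) c with hf
  show F f g = _
  have hval : ∀ g, f g = ((c (g : G ⧸ P)) : Representation.invariants (A.ρ.comp P.subtype)).1 := fun g => by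
    rw [hf, coe_mapCocycles₁]; rfl
  have hX0 : X f = 0 := by
    have : ∀ p : P, f p = 0 := fun p => by
      rw [hval, (QuotientGroup.eq_one_iff _).mpr p.2]
      simp
    simp [X, this]
  simp [F, hX0, hval]

end Groth.Agent.S14181
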