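import Groth.Statements.S14184
import Groth.Agent.LocSymLib29.Recip

set_option autoImplicit false
universe u
open CategoryTheory AlgebraicGeometry
open LocSym

namespace Groth.Agent.S14184

/-- Let k be an algebraically closed field and X a smooth proper integral curve over k (structure
morphism c, dimension one); points are k-points and ord_x is the valuation at x. Let n ≥ 1, let Z be
a finite set of points, let f₁, f₂ be nonzero rational functions and D₁, D₁′, D₂ divisors (finitely
supported integer-valued functions on points) with n·D₁ = div(f₁) + D₁′, D₁′ supported on Z, n·D₂ =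
div(f₂), f₂ taking the value 1 at every point of Z, and div(f₁) and D₂ with disjoint supports. Let
v₁(x) ∈ kˣ be the value of f₁ at each point of the support of D₂ and v₂(x) ∈ kˣ the value of f₂ at
each point of the support of D₁. Then the quotient of ∏_x v₁(x)^{D₂(x)} by ∏_x v₂(x)^{D₁(x)} is an
n-th root of unity: its n-th power is 1. (This quotient f₁(D₂)/f₂(D₁) is the generalised Weil
pairing of the classes of (D₁, D₁′, f₁) and D₂; the published statement also normalises f₁, f₂ at a
base point, which is not needed for this assertion.) -/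
theorem result
    (k : Type u) [Field k] [IsAlgClosed k] (X : Scheme.{u}) [IsIntegral X]
    (c : X ⟶ Spec (CommRingCat.of k)) [IsProper c] [Smooth c] (hdim : topologicalKrullDim X = 1)
    (n : ℕ) (hn : 1 ≤ n) (Z : Finset (LocSym.Pt c))
    (f₁ f₂ : X.functionField) (hf₁ : f₁ ≠ 0) (hf₂ : f₂ ≠ 0)
    (D₁ D₁' D₂ : LocSym.Pt c →₀ ℤ)
    (hD₁ : ∀ x : LocSym.Pt c, (n : ℤ) * D₁ x = x.ord f₁ + D₁' x) (hD₁' : D₁'.support ⊆ Z)
    (hD₂ : ∀ x : LocSym.Pt c, (n : ℤ) * D₂ x = x.ord f₂)
    (hf₂Z : ∀ x ∈ Z, LocSym.HasValueAt x f₂ 1)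
    (hdisj : ∀ x : LocSym.Pt c, x.ord f₁ = 0 ∨ D₂ x = 0)
    (v₁ v₂ : LocSym.Pt c → kˣ)
    (hv₁ : ∀ x ∈ D₂.support, LocSym.HasValueAt x f₁ (v₁ x : k))
    (hv₂ : ∀ x ∈ D₁.support, LocSym.HasValueAt x f₂ (v₂ x : k)) :
    ((D₂.prod fun x e => v₁ x ^ e) / (D₁.prod fun x e => v₂ x ^ e)) ^ n = 1 := by
  classical
  letI := Groth.Agent.LocSymLib29.ffAlg c
  have hc : algebraMap k X.functionField = constFun c := rfl
  have hK := Groth.Agent.LocSymLib29.isFF' hdim hc
  have hn0 : (n : ℤ) ≠ 0 := by exact_mod_cast (by omega : n ≠ 0)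
  have key : ∀ x : LocSym.Pt c,
      Groth.Agent.LocSymLib29.FV.tame (Groth.Agent.LocSymLib29.place hdim hc x) f₁ f₂ =
        (v₁ x ^ D₂ x) ^ n / (v₂ x ^ D₁ x) ^ n := by
    intro x
    have o₁ := Groth.Agent.LocSymLib29.place_ord hdim hc x hf₁
    have o₂ := Groth.Agent.LocSymLib29.place_ord hdim hc x hf₂
    have hZ : D₁' x ≠ 0 → LocSym.HasValueAt x f₂ ((1 : kˣ) : k) := fun h => by
      rw [Units.val_one]; exact hf₂Z x (hD₁' (Finsupp.mem_support_iff.mpr h))
    rw [← zpow_natCast (v₁ x ^ D₂ x), ← zpow_natCast (v₂ x ^ D₁ x), ← zpow_mul, ← zpow_mul,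
      mul_comm (D₂ x), mul_comm (D₁ x)]
    by_cases h2 : D₂ x = 0
    · have h2' : x.ord f₂ = 0 := by rw [← hD₂, h2, mul_zero]
      rw [Groth.Agent.LocSymLib29.FV.tame_of_ord_right hK hf₁ hf₂ (o₂.trans h2'), o₁, h2, mul_zero, zpow_zero,
        one_div, inv_inj]
      by_cases h1 : D₁ x = 0
      · rw [h1, mul_zero, zpow_zero]
        by_cases hne : D₁' x = 0
        · have := hD₁ x
          rw [h1, hne, mul_zero, add_zero] at this
          rw [← this, zpow_zero]
        · rw [Groth.Agent.LocSymLib29.uval_eq_of_hasValueAt hdim hc (hZ hne), one_zpow]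
      · have hv := hv₂ x (Finsupp.mem_support_iff.mpr h1)
        rw [Groth.Agent.LocSymLib29.uval_eq_of_hasValueAt hdim hc hv]
        by_cases hne : D₁' x = 0
        · rw [hD₁, hne, add_zero]
        · have e : v₂ x = 1 := (Groth.Agent.LocSymLib29.uval_eq_of_hasValueAt hdim hc hv).symm.trans
            (Groth.Agent.LocSymLib29.uval_eq_of_hasValueAt hdim hc (hZ hne))
          rw [e, one_zpow, one_zpow]
    · have h1' : x.ord f₁ = 0 := (hdisj x).resolve_right h2
      have hne : x.ord f₂ ≠ 0 := by rw [← hD₂]; exact mul_ne_zero hn0 h2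
      have hd1' : D₁' x = 0 := not_not.mp fun h =>
        hne (Groth.Agent.LocSymLib29.ord_eq_zero_of_unit_value hdim hc (hZ h)).2
      have hd1 : D₁ x = 0 := by
        have := hD₁ x
        rw [h1', hd1', add_zero] at this
        exact (mul_eq_zero.mp this).resolve_left hn0
      rw [Groth.Agent.LocSymLib29.FV.tame_of_ord_left hK hf₁ f₂ (o₁.trans h1'), o₂, ← hD₂,
        Groth.Agent.LocSymLib29.uval_eq_of_hasValueAt hdim hc (hv₁ x (Finsupp.mem_support_iff.mpr h2)),
        hd1, mul_zero, zpow_zero, div_one]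
  have h1 := Groth.Agent.LocSymLib29.finprod_tame_eq_one hdim hc hf₁ hf₂
  rw [finprod_congr key, finprod_eq_prod_of_mulSupport_subset _ (s := D₁.support ∪ D₂.support) (by
    intro x hx
    by_contra h
    simp only [Finset.coe_union, Set.mem_union, Finset.mem_coe, Finsupp.mem_support_iff, not_or, not_not] at h
    exact hx (by simp [h.1, h.2]))] at h1
  rw [Finset.prod_div_distrib, Finset.prod_pow, Finset.prod_pow, ← div_pow] at h1
  rw [Finsupp.prod_of_support_subset D₂ Finset.subset_union_right _ (fun x _ => zpow_zero _),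
    Finsupp.prod_of_support_subset D₁ Finset.subset_union_left _ (fun x _ => zpow_zero _)]
  exact h1

end Groth.Agent.S14184
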