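import Groth.Statements.S14186
import Groth.Agent.S0204
import Groth.Agent.Et18.ASPunct.SuppLES
import Groth.Agent.Et18.LocCoh.Excision
import Groth.Agent.Desc19b.AffineOpenDimOne
import Groth.Agent.AlgSpLib.FibreDimChart
import Groth.Agent.Et18.KPiFinite
-- import your own Groth.Agent.* helpers here

set_option autoImplicit false
universe u
open CategoryTheory CategoryTheory.Limits AlgebraicGeometry
open EtDual

namespace Groth.Agent.S14186

/-- Let k be an algebraically closed field, X an integral curve over k (separated and of finite type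
over k, of dimension one), z a closed point of X and j : U ⟶ X an open immersion with image X ∖ {z};
let n ≥ 1 be invertible in k and F a finite locally constant abelian sheaf on the small étale site
of U killed by n (a lisse sheaf of ℤ/n-modules). Then, for cohomology with support in z: H⁰_z(X,
j_!F) vanishes, H⁰_z(X, j_*F) and H¹_z(X, j_*F) vanish, and H^i_z(X, j_!F) and H^i_z(X, j_*F) vanish
for every i ≥ 3. (The published statement also identifies H¹_z(X, j_!F) with H⁰(z, F) and H²_z(X,
j_!F) with H²_z(X, j_*F); this row states only the vanishing assertions. No regularity of X at z is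
assumed.) -/
theorem result
    (k : Type u) [Field k] [IsAlgClosed k] (X : Scheme.{u}) (f : X ⟶ Spec (CommRingCat.of k))
    [IsSeparated f] [LocallyOfFiniteType f] [QuasiCompact f] [IsIntegral X]
    (hdim : topologicalKrullDim X = 1)
    (z : X) (hz : IsClosed ({z} : Set X))
    {U : Scheme.{u}} (j : U ⟶ X) [IsOpenImmersion j] [EtCoh.BCCont j] [EtShriek.JCont j]
    (hU : Set.range j.base = {z}ᶜ)
    (n : ℕ) (hn : 1 ≤ n) (hnk : (n : k) ≠ 0)
    (F : EtCoh.Ab U) (hF : EtCoh.IsFiniteLocallyConstant F) (hFn : EtCoh.KilledBy n F) :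
    Subsingleton ((EtDual.HY j 0).obj ((EtShriek.extZero j).obj F)) ∧
    Subsingleton ((EtDual.HY j 0).obj ((EtCoh.push j).obj F)) ∧
    Subsingleton ((EtDual.HY j 1).obj ((EtCoh.push j).obj F)) ∧
    (∀ i : ℕ, 3 ≤ i →
      Subsingleton ((EtDual.HY j i).obj ((EtShriek.extZero j).obj F)) ∧
      Subsingleton ((EtDual.HY j i).obj ((EtCoh.push j).obj F))) := by
  haveI : IsLocallyNoetherian X := LocallyOfFiniteType.isLocallyNoetherian f
  have hTn : ∀ {T : Scheme.{u}} (G : EtCoh.Ab T), EtCoh.KilledBy n G → EtCoh.IsTorsion G := fun G hG W s x =>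
    ⟨W, 𝟙 W, ⟨x, rfl⟩, isOfFinAddOrder_iff_nsmul_eq_zero.mpr ⟨n, hn, hG _ _⟩⟩
  haveI := Groth.Agent.Et18.LocCoh.restrAlong_additive' j
  haveI : (EtShriek.extZero j).Additive := (EtShriek.extZeroAdj j).left_adjoint_additive
  have hE : EtCoh.KilledBy n ((EtShriek.extZero j).obj F) := by
    refine Groth.Agent.Et18.KPiFinite.killedBy_of_nsmul_id ?_
    rw [← CategoryTheory.Functor.map_id, ← Functor.map_nsmul, Groth.Agent.Et18.nsmul_id_of_killedBy hFn,
      Functor.map_zero]
  have hP : EtCoh.KilledBy n ((EtCoh.push j).obj F) := Groth.Agent.Et18.KPiFinite.killedBy_push j hFn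
  have hvan : ∀ (G : EtCoh.Ab X), EtCoh.KilledBy n G → ∀ i, 3 ≤ i → IsZero ((EtDual.HY j i).obj G) := by
    intro G hG i hi
    obtain ⟨_, ⟨W, hW, rfl⟩, hzV, -⟩ := X.isBasis_affineOpens.exists_subset_of_mem_open (Set.mem_univ z) isOpen_univ
    let V : X.Opens := W
    have hV : IsAffineOpen V := hW
    haveI : IsAffine (V : Scheme.{u}) := hV
    let U' := V.ι ⁻¹ᵁ j.opensRange
    haveI : EtShriek.JCont U'.ι := Groth.Agent.Et18.jCont _
    haveI : EtShriek.JCont V.ι := Groth.Agent.Et18.jCont _
    obtain ⟨e⟩ := Groth.Agent.Et18.LocCoh.nonempty_HY_excision V.ι j U'.ι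
      (by
        rw [Scheme.Opens.range_ι]
        rfl)
      (by
        rw [Scheme.Opens.range_ι, hU, compl_compl]
        refine ⟨fun a ha => ?_, fun a _ b _ hab => V.ι.injective hab, fun y hy => ?_⟩
        · by_contra hne
          exact ha (show V.ι a ∈ Set.range j by rw [hU]; exact hne)
        · rw [Set.mem_singleton_iff] at hy
          subst hy
          refine ⟨⟨y, hzV⟩, fun h => ?_, rfl⟩
          have h' : y ∈ Set.range j := h
          rw [hU] at h'
          exact h' rfl)
      (fun a _ => (ConcreteCategory.bijective_of_isIso (V.ι.residueFieldMap a)).2) G i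
    refine IsZero.of_iso ?_ e
    obtain ⟨q, rfl⟩ : ∃ q, i = q + 1 + 1 + 1 := ⟨i - 3, by omega⟩
    haveI : LocallyOfFiniteType (V.ι ≫ f) := inferInstance
    have hdV : topologicalKrullDim (V : Scheme.{u}) ≤ 1 :=
      (Groth.Agent.AlgSpLib.topologicalKrullDim_le_of_strict V.ι.continuous
        fun a b _ h => V.ι.injective h).trans hdim.le
    haveI : IsLocallyNoetherian (V : Scheme.{u}) := LocallyOfFiniteType.isLocallyNoetherian (V.ι ≫ f)
    haveI : CompactSpace (V : Scheme.{u}) := inferInstance
    haveI : IsNoetherian (V : Scheme.{u}) := {}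
    have hst : ∀ x : (V : Scheme.{u}), IsNoetherianRing ((V : Scheme.{u}).presheaf.stalk x) ∧
        ringKrullDim ((V : Scheme.{u}).presheaf.stalk x) ≤ 1 := fun x => by
      refine ⟨inferInstance, ?_⟩
      rw [← PrimeSpectrum.topologicalKrullDim_eq_ringKrullDim]
      exact (Groth.Agent.AlgSpLib.topologicalKrullDim_le_of_strict
        ((V : Scheme.{u}).fromSpecStalk x).continuous fun a b _ h =>
          ((V : Scheme.{u}).fromSpecStalk x).injective h).trans hdV
    have hU'a : IsAffineOpen U' := Groth.Agent.Desc19b.AffineOpenDimOne.isAffineOpen _ hst U'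
      (TopologicalSpace.NoetherianSpace.isCompact _)
    haveI : IsAffine (U' : Scheme.{u}) := hU'a
    have hcd : EtCoh.CohDimLE (V : Scheme.{u}) 1 := Groth.Agent.S0204.result k _ (V.ι ≫ f) hdV
    have hcd' : EtCoh.CohDimLE (U' : Scheme.{u}) 1 := Groth.Agent.S0204.result k _ (U'.ι ≫ V.ι ≫ f)
      ((Groth.Agent.AlgSpLib.topologicalKrullDim_le_of_strict U'.ι.continuous
        fun a b _ h => U'.ι.injective h).trans hdV)
    have hz' : ∀ (T : Scheme.{u}) (H : EtCoh.Ab T) (m : ℕ), Subsingleton (EtCoh.H T H m) →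
        IsZero (((EtCore.gsec T).rightDerived m).obj H) := fun T H m hs =>
      IsZero.of_iso (@AddCommGrpCat.isZero_of_subsingleton _ hs)
        ((Groth.Agent.EtStalkLib.gsecDerivedIso T m).app _)
    exact Groth.Agent.Et18.ASPunct.isZero_HY_succ _ _ (q + 1 + 1)
      (hz' _ _ _ (hcd _ (hTn _ (Groth.Agent.Et18.KPiFinite.killedBy_pull V.ι hG)) _ (by omega)))
      (hz' _ _ _ (hcd' _ (hTn _ (Groth.Agent.Et18.KPiFinite.killedBy_pull U'.ι (Groth.Agent.Et18.KPiFinite.killedBy_pull V.ι hG)))
        _ (by omega)))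
  let G₀ : EtCoh.Ab X ⥤ AddCommGrpCat.{u + 1} := EtCore.gsec X
  have hlow : ∀ (G : EtCoh.Ab X) (m : ℕ), (∀ p ≤ m, IsZero ((EtDual.locCoh j p).obj G)) →
      IsZero ((EtDual.HY j m).obj G) := fun G m h => by
    obtain ⟨e⟩ := Groth.Agent.Et18.LocCoh.nonempty_derived_comp_iso j G₀ G m
      (fun p hp => h p hp.le) m le_rfl
    exact IsZero.of_iso (G₀.map_isZero (h m le_rfl)) e
  haveI : PreservesFiniteLimits (EtDual.secSupp j) := Groth.Agent.Et18.LocCoh.preservesFiniteLimits_secSupp j
  have hz0 : ∀ G : EtCoh.Ab X, IsZero ((EtDual.secSupp j).obj G) → IsZero ((EtDual.locCoh j 0).obj G) :=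
    fun G h => IsZero.of_iso h ((EtDual.secSupp j).rightDerivedZeroIsoSelf.app G)
  have hiso : IsIso (EtDual.unitApp j ((EtCoh.push j).obj F)) := by
    haveI : IsIso (EtCoh.pullPushAdj j).counit :=
      Groth.Agent.Et18.isIso_counit (Groth.Agent.Et18.bcLiftsEtale_of_isImmersion j)
    have h := (EtCoh.pullPushAdj j).right_triangle_components F
    exact IsIso.of_isIso_fac_right h
  have hs0 : IsZero ((EtDual.secSupp j).obj ((EtShriek.extZero j).obj F)) := by
    have hm : Mono (EtDual.unitApp j ((EtShriek.extZero j).obj F)) := by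
      refine Groth.Agent.Et18.mono_of_stalks _ fun x => ?_
      by_cases hx : x ∈ Set.range j
      · obtain ⟨y, hy⟩ := hx
        obtain ⟨v, hv, -⟩ := Scheme.exists_fac_of_etale_of_isSepClosed j (Groth.Agent.Et18.sepPoint X x) y
          (hy.trans (Groth.Agent.Et18.sepPoint_default X x).symm)
        rw [← hv]
        haveI : IsIso (EtCoh.pullPushAdj j).counit :=
          Groth.Agent.Et18.isIso_counit (Groth.Agent.Et18.bcLiftsEtale_of_isImmersion j)
        haveI : IsIso ((EtCoh.pull j).map (EtDual.unitApp j ((EtShriek.extZero j).obj F))) :=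
          IsIso.of_isIso_fac_right ((EtCoh.pullPushAdj j).left_triangle_components _)
        haveI := Groth.Agent.Et18.isIso_stalk_map_of_pull j v (EtDual.unitApp j ((EtShriek.extZero j).obj F))
        exact (AddCommGrpCat.mono_iff_injective _).1 inferInstance
      · have z0 : IsZero ((EtCoh.stalk (Groth.Agent.Et18.sepPoint X x)).obj ((EtShriek.extZero j).obj F)) := by
          refine IsZero.of_iso ?_ (Groth.Agent.Et18.extZeroStalkIso j _ _)
          have : IsEmpty (Groth.Agent.Et18.PointLift j (Groth.Agent.Et18.sepPoint X x)) := ⟨fun v => hx ⟨v.1 default, by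
            have := congrArg (fun t => t default) v.2
            exact this.trans (Groth.Agent.Et18.sepPoint_default X x)⟩⟩
          exact Groth.Agent.Et18.isZero_sigma_of_isEmpty _
        exact fun a b _ => (AddCommGrpCat.subsingleton_of_isZero z0).elim a b
    exact isZero_kernel_of_mono _
  have hp0 : IsZero ((EtDual.secSupp j).obj ((EtCoh.push j).obj F)) := isZero_kernel_of_mono _
  have hp1 : IsZero ((EtDual.locCoh j 1).obj ((EtCoh.push j).obj F)) := by
    obtain ⟨e⟩ := Groth.Agent.Et18.LocCohShift.nonempty_one j ((EtCoh.push j).obj F)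
    exact IsZero.of_iso (isZero_cokernel_of_epi _) e.symm
  refine ⟨AddCommGrpCat.subsingleton_of_isZero (hlow _ 0 fun p hp => ?_),
    AddCommGrpCat.subsingleton_of_isZero (hlow _ 0 fun p hp => ?_),
    AddCommGrpCat.subsingleton_of_isZero (hlow _ 1 fun p hp => ?_),
    fun i hi => ⟨AddCommGrpCat.subsingleton_of_isZero (hvan _ hE i hi),
      AddCommGrpCat.subsingleton_of_isZero (hvan _ hP i hi)⟩⟩
  · obtain rfl : p = 0 := by omega
    exact hz0 _ hs0
  · obtain rfl : p = 0 := by omega
    exact hz0 _ hp0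
  · interval_cases p
    · exact hz0 _ hp0
    · exact hp1

end Groth.Agent.S14186
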