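import Groth.Statements.S14188
import Groth.Agent.AbVarLib.DenseExt
import Mathlib.AlgebraicGeometry.FunctionField

set_option autoImplicit false
universe u
open CategoryTheory CategoryTheory.Limits AlgebraicGeometry
open FlatMor

namespace Groth.Agent.S14188

/-- Let T be an integral scheme with generic point η, let Y and Z be schemes flat over T with Z
separated over T, and let ψ : Y_η → Z be a T-morphism from the generic fibre Y_η = Y ×_T Spec
O_{T,η} (equivalently, an η-morphism Y_η → Z_η). Let gr : Y_η → Y ×_T Z be the graph of ψ, the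
morphism whose components are the projection Y_η → Y and ψ, and let Γ ⊆ Y ×_T Z be the
scheme-theoretic image of gr (the schematic closure of the graph). Then ψ extends to a T-morphism φ
: Y → Z, meaning that the composite Y_η → Y → Z is ψ, if and only if the composite of the inclusion
Γ → Y ×_T Z with the first projection is an isomorphism Γ ≅ Y. -/
theorem result (T Y Z : Scheme.{u}) [IsIntegral T]
    (pY : Y ⟶ T) (pZ : Z ⟶ T) [Flat pY] [Flat pZ] [IsSeparated pZ]
    (ψ : pullback pY (T.fromSpecStalk (genericPoint T)) ⟶ Z)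
    (hψ : ψ ≫ pZ = pullback.fst pY (T.fromSpecStalk (genericPoint T)) ≫ pY)
    (gr : pullback pY (T.fromSpecStalk (genericPoint T)) ⟶ pullback pY pZ)
    (hgr₁ : gr ≫ pullback.fst pY pZ = pullback.fst pY (T.fromSpecStalk (genericPoint T)))
    (hgr₂ : gr ≫ pullback.snd pY pZ = ψ) :
    (∃ φ : Y ⟶ Z, φ ≫ pZ = pY ∧ pullback.fst pY (T.fromSpecStalk (genericPoint T)) ≫ φ = ψ) ↔
      IsIso (gr.imageι ≫ pullback.fst pY pZ) := by
  constructor
  · rintro ⟨φ, hφ, hφψ⟩
    let η := T.fromSpecStalk (genericPoint T)
    have : Subsingleton ↥(Spec (T.presheaf.stalk (genericPoint T))) :=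
      (inferInstance : Subsingleton (PrimeSpectrum T.functionField))
    have : QuasiCompact η := ⟨fun U _ _ => (Set.toFinite _).isCompact⟩
    have : IsDominant η := ⟨Dense.mono (Set.singleton_subset_iff.2
      (⟨_, Scheme.fromSpecStalk_closedPoint⟩ : genericPoint T ∈ Set.range η))
      (dense_iff_closure_eq.2 (genericPoint_spec T).def)⟩
    have : IsSchemeTheoreticallyDominant η := .of_isDominant η
    let j := pullback.fst pY η
    let s : Y ⟶ pullback pY pZ := pullback.lift (𝟙 Y) φ (by rw [Category.id_comp, hφ])
    have : IsClosedImmersion (s ≫ pullback.fst pY pZ) := by rw [pullback.lift_fst]; infer_instance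
    have : IsClosedImmersion s := .of_comp s (pullback.fst pY pZ)
    have hgr : gr = j ≫ s := by
      apply pullback.hom_ext
      · rw [hgr₁, Category.assoc, pullback.lift_fst, Category.comp_id]
      · rw [hgr₂, Category.assoc, pullback.lift_snd, hφψ]
    have hker : gr.imageι.ker = s.ker := by
      show gr.ker.subschemeι.ker = _
      rw [Scheme.IdealSheafData.ker_subschemeι, hgr, ← Scheme.IdealSheafData.map_ker,
        j.ker_eq_bot, ← Scheme.Hom.ker_eq_bot (𝟙 Y), Scheme.IdealSheafData.map_ker, Category.id_comp]
    have : IsIso (IsClosedImmersion.lift s gr.imageι hker.ge) := by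
      refine ⟨IsClosedImmersion.lift gr.imageι s hker.le, ?_, ?_⟩
      · rw [← cancel_mono gr.imageι, Category.assoc, IsClosedImmersion.lift_fac,
          IsClosedImmersion.lift_fac, Category.id_comp]
      · rw [← cancel_mono s, Category.assoc, IsClosedImmersion.lift_fac,
          IsClosedImmersion.lift_fac, Category.id_comp]
    have h1 : gr.imageι ≫ pullback.fst pY pZ = IsClosedImmersion.lift s gr.imageι hker.ge := by
      rw [← Category.comp_id (IsClosedImmersion.lift s gr.imageι hker.ge),
        ← pullback.lift_fst (𝟙 Y) φ (by rw [Category.id_comp, hφ] : 𝟙 Y ≫ pY = φ ≫ pZ)]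
      exact (IsClosedImmersion.lift_fac_assoc s gr.imageι hker.ge _).symm
    rw [h1]
    infer_instance
  · intro h
    refine ⟨inv (gr.imageι ≫ pullback.fst pY pZ) ≫ gr.imageι ≫ pullback.snd pY pZ, ?_, ?_⟩
    · rw [Category.assoc, Category.assoc, ← pullback.condition, IsIso.inv_comp_eq, Category.assoc]
    · rw [← hgr₁, ← hgr₂]
      have e1 : gr ≫ pullback.fst pY pZ = gr.toImage ≫ (gr.imageι ≫ pullback.fst pY pZ) := by
        rw [← Category.assoc, gr.toImage_imageι]
      rw [e1, Category.assoc, IsIso.hom_inv_id_assoc, ← Category.assoc, gr.toImage_imageι]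

end Groth.Agent.S14188
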