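import Groth.Statements.S14189
import Groth.Agent.AbVarLib.DenseExt
import Mathlib.AlgebraicGeometry.Sites.Fpqc
import Mathlib.AlgebraicGeometry.FunctionField

set_option autoImplicit false
universe u
open CategoryTheory CategoryTheory.Limits AlgebraicGeometry
open FlatMor

namespace Groth.Agent.S14189

/-- Let T be an integral scheme with generic point η, let Y and Z be schemes flat over T with Z
separated over T, and let ψ : Y_η → Z be a T-morphism from the generic fibre Y_η = Y ×_T Spec
O_{T,η}. Let g : T' → T be flat, surjective and quasi-compact, and let φ' : Y_{T'} → Z_{T'} be a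
T'-morphism which agrees with ψ over T' ×_T η, in the sense that on Y_{T'} ×_Y Y_η = Y ×_T T' ×_T
Spec O_{T,η} the composite of the first projection with φ' and with Z_{T'} → Z equals the composite
of the second projection with ψ. Then ψ extends to a T-morphism φ : Y → Z, one whose composite with
Y_η → Y is ψ. (The published statement is an equivalence and also records that an extension, when it
exists, is unique; the converse direction, that an extension over T base-changes to such a φ' over
any such T', is immediate, and this row states the existence direction only.) -/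
theorem result (T Y Z T' : Scheme.{u}) [IsIntegral T]
    (pY : Y ⟶ T) (pZ : Z ⟶ T) [Flat pY] [Flat pZ] [IsSeparated pZ]
    (ψ : pullback pY (T.fromSpecStalk (genericPoint T)) ⟶ Z)
    (hψ : ψ ≫ pZ = pullback.fst pY (T.fromSpecStalk (genericPoint T)) ≫ pY)
    (g : T' ⟶ T) [Flat g] [Surjective g] [QuasiCompact g]
    (φ' : pullback pY g ⟶ pullback pZ g) (hφ' : φ' ≫ pullback.snd pZ g = pullback.snd pY g)
    (hagree : pullback.fst (pullback.fst pY g) (pullback.fst pY (T.fromSpecStalk (genericPoint T))) ≫ φ' ≫ pullback.fst pZ g =
      pullback.snd (pullback.fst pY g) (pullback.fst pY (T.fromSpecStalk (genericPoint T))) ≫ ψ) :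
    ∃ φ : Y ⟶ Z, φ ≫ pZ = pY ∧ pullback.fst pY (T.fromSpecStalk (genericPoint T)) ≫ φ = ψ := by
  let η := T.fromSpecStalk (genericPoint T)
  have : Subsingleton ↥(Spec (T.presheaf.stalk (genericPoint T))) :=
    (inferInstance : Subsingleton (PrimeSpectrum T.functionField))
  have : QuasiCompact η := ⟨fun U _ _ => (Set.toFinite _).isCompact⟩
  have : IsDominant η := ⟨Dense.mono (Set.singleton_subset_iff.2
    (⟨_, Scheme.fromSpecStalk_closedPoint⟩ : genericPoint T ∈ Set.range η))
    (dense_iff_closure_eq.2 (genericPoint_spec T).def)⟩
  have : IsSchemeTheoreticallyDominant η := .of_isDominant η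
  let e := pullback.fst pY g
  let j := pullback.fst pY η
  let φ'' := φ' ≫ pullback.fst pZ g
  have hφ'' : φ'' ≫ pZ = e ≫ pY := by
    simp only [φ'', Category.assoc, pullback.condition, e]
    rw [← Category.assoc, hφ']
  have hd : pullback.fst e e ≫ φ'' = pullback.snd e e ≫ φ'' := by
    let p := pullback.fst e e ≫ e
    refine AbVarLib.ext_of_isSchemeTheoreticallyDominant (pullback.fst p j) (p ≫ pY) pZ _ _ ?_ ?_ ?_
    · simp only [Category.assoc, hφ'', p]
    · simp only [Category.assoc, hφ'', p, pullback.condition_assoc]
    · have key : ∀ a : pullback p j ⟶ pullback pY g, a ≫ e = pullback.snd p j ≫ j →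
          a ≫ φ'' = pullback.snd p j ≫ ψ := fun a ha => by
        have := congrArg (pullback.lift a (pullback.snd p j) ha ≫ ·) hagree
        exact (pullback.lift_fst_assoc _ _ _ _).symm.trans (this.trans (pullback.lift_snd_assoc _ _ _ _))
      show pullback.fst p j ≫ pullback.fst e e ≫ φ'' = pullback.fst p j ≫ pullback.snd e e ≫ φ''
      rw [← Category.assoc _ (pullback.fst e e), ← Category.assoc _ (pullback.snd e e), key _ ?_, key _ ?_]
      · rw [Category.assoc, ← pullback.condition (f := p)]
        simp only [p, pullback.condition, Category.assoc]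
      · rw [Category.assoc, ← pullback.condition (f := p)]
  refine ⟨EffectiveEpi.desc e φ'' ?_, ?_, ?_⟩
  · intro W g₁ g₂ h
    have := congrArg (pullback.lift g₁ g₂ h ≫ ·) hd
    simpa only [pullback.lift_fst_assoc, pullback.lift_snd_assoc] using this
  · rw [← cancel_epi e, EffectiveEpi.fac_assoc, hφ'']
  · rw [← cancel_epi (pullback.snd e j), ← Category.assoc, ← pullback.condition (f := e), Category.assoc,
      EffectiveEpi.fac]
    exact hagree

end Groth.Agent.S14189
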