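import Groth.Statements.S14191
import Groth.Agent.Models7.ModelTrace
import Groth.Agent.Coherent.FormalFunctions
-- import your own Groth.Agent.* helpers here

set_option autoImplicit false
set_option linter.style.haveILetI false
set_option backward.isDefEq.respectTransparency false
universe u
open CategoryTheory CategoryTheory.Limits AlgebraicGeometry Opposite
open Models

namespace Groth.Agent.S14191

/-- Let R be a discrete valuation ring with fraction field K, let C be a proper K-curve which is smooth
of relative dimension 1 and geometrically connected over K, and let X be a model of C over R (flat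
and of finite type over R with generic fibre C) which is proper over R and normal; so X is a proper
relative curve over R. Let (ω, tr) be a 1-dualizing pair for X over R: ω is a quasi-coherent
O_X-module and tr : H¹(X, ω) → R an R-linear map such that φ ↦ tr ∘ H¹(φ) is a bijection from Hom(F,
ω) onto Hom_R(H¹(X, F), R) for every quasi-coherent F. Suppose that H¹(X, O_X) is a free R-module,
which for such X says that X → Spec R is cohomologically flat in dimension 0. Then H¹(X, ω) is a
free R-module and its rank equals the rank of the free R-module H⁰(X, O_X); that is, H¹(X, ω) is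
R-dual to H⁰(X, O_X) up to isomorphism. (The published statement is phrased for the relative
dualizing sheaf of duality theory and its higher direct image R¹f_*; over the affine base Spec R a
1-dualizing pair in the above global-sections sense determines that sheaf up to isomorphism, and
local freeness of R¹f_* is freeness of H¹.) -/
theorem result (R : Type u) [CommRing R] [IsDomain R] [IsDiscreteValuationRing R]
    (X C : Scheme.{u}) [X.Over (Spec (CommRingCat.of R))]
    (f : C ⟶ Spec (CommRingCat.of (FractionRing R)))
    [SmoothOfRelativeDimension 1 f] [IsProper f] [GeometricallyConnected f]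
    (hX : Models.IsModel R X (X ↘ Spec (CommRingCat.of R)) C f)
    [IsProper (X ↘ Spec (CommRingCat.of R))] (hn : Pi1.IsNormalScheme X)
    (ω : X.Modules) (tr : Coh.HH X ω 1 →ₗ[R] R) (hω : Canon.IsRDualOver R X 1 ω tr)
    (hcf : Module.Free R (Coh.HH X (Coh.structureModule X) 1)) :
    Module.Free R (Coh.HH X ω 1) ∧
      Module.finrank R (Coh.HH X ω 1) = Module.finrank R (Coh.HH X (Coh.structureModule X) 0) := by
  let φ := Groth.Agent.Coherent.baseHom R X
  let q := X ↘ Spec (CommRingCat.of R)
  obtain ⟨hflat, -, -, g, H⟩ := hX
  haveI := hflat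
  haveI : Smooth f := SmoothOfRelativeDimension.smooth 1 f
  haveI : IsLocallyNoetherian X := LocallyOfFiniteType.isLocallyNoetherian q
  haveI : CompactSpace X := QuasiCompact.compactSpace_of_compactSpace q
  haveI : X.IsSeparated := ⟨by rw [terminal.hom_ext (terminal.from X) (q ≫ terminal.from _)]; infer_instance⟩
  have hbij := Groth.Agent.Models7.bijective_baseHom R H
  have hO := Groth.Agent.Coherent.isCoh_structureModule X
  haveI := hcf
  haveI : Module.Finite R (Coh.HH X (Coh.structureModule X) 1) :=
    Groth.Agent.Coherent.finite_HH (A := R) (M := Coh.structureModule X) hO 1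
  have hinj := Groth.Agent.Models7.trace_injective hω hbij.2 hO.1
  have hne : tr ≠ 0 := fun h0 => by
    obtain ⟨F, hF, l, hl⟩ := Groth.Agent.Models7.exists_form_HH_one R H
    obtain ⟨θ, hθ⟩ := (hω.2 F hF).2 l
    refine hl ?_
    rw [← hθ]
    show tr ∘ₗ _ = 0
    rw [h0, LinearMap.zero_comp]
  have hr : LinearMap.range tr ≠ ⊥ := fun h => hne (LinearMap.range_eq_bot.1 h)
  obtain ⟨γ, hγ⟩ := (IsPrincipalIdealRing.principal (LinearMap.range tr : Ideal R))
  have hγ0 : γ ≠ 0 := fun h => hr (by rw [hγ, h, Submodule.span_singleton_eq_bot.2 rfl])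
  let e : Coh.HH X ω 1 ≃ₗ[R] R :=
    ((LinearEquiv.ofInjective tr hinj).trans (LinearEquiv.ofEq _ _ hγ)).trans
      (LinearEquiv.toSpanNonzeroSingleton R R γ hγ0).symm
  let E0 : R →ₗ[R] Groth.Agent.Coherent.GA φ (Coh.structureModule X) :=
    LinearMap.toSpanSingleton R _ (show Groth.Agent.Coherent.GA φ (Coh.structureModule X) from (1 : Γ(X, ⊤)))
  have hE : ∀ r, (show Γ(X, ⊤) from E0 r) = φ r := fun r => by
    show φ r • (1 : Γ(X, ⊤)) = φ r
    rw [smul_eq_mul, mul_one]
  have hE0 : Function.Bijective E0 :=
    ⟨fun a b h => hbij.1 ((hE a).symm.trans ((congrArg (fun x => (show Γ(X, ⊤) from x)) h).trans (hE b))),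
      fun z => by
        obtain ⟨r, hr⟩ := hbij.2 (show Γ(X, ⊤) from z)
        exact ⟨r, (hE r).trans hr⟩⟩
  let e0 : Coh.HH X (Coh.structureModule X) 0 ≃ₗ[R] R :=
    ((Groth.Agent.EulerLib.HHBaseEquiv R (Coh.structureModule X) 0).trans
      (Groth.Agent.Coherent.secA φ (Coh.structureModule X))).trans (LinearEquiv.ofBijective E0 hE0).symm
  exact ⟨Module.Free.of_equiv e.symm, by rw [e.finrank_eq, e0.finrank_eq]⟩

end Groth.Agent.S14191
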