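import Groth.Statements.S14192


set_option autoImplicit false
open PowerSeries
open StackCount

open PowerSeries

namespace Groth.Agent.S14192

/-- Let R = Σ_n r_n X^n be a Laurent polynomial with integer coefficients and q > 1 an integer. In the
ring of formal power series in t over ℚ, the exponential of Σ_{v ≥ 1} R(q^v) t^v / v equals the
finite product Π_n (1 - q^n t)^(-r_n). Stated here with denominators cleared: the exponential series
multiplied by Π_{n : r_n > 0} (1 - q^n t)^(r_n) equals Π_{n : r_n < 0} (1 - q^n t)^(-r_n) (each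
factor 1 - q^n t is a unit, so this is equivalent). -/
theorem result (R : LaurentPolynomial ℤ) (q : ℤ) (hq : 1 < q) :
    (PowerSeries.exp ℚ).subst
        (PowerSeries.mk fun v : ℕ => if v = 0 then (0 : ℚ)
          else (R.coeff.sum fun (n : ℤ) (r : ℤ) => (r : ℚ) * (q : ℚ) ^ (n * (v : ℤ))) / (v : ℚ))
      * ∏ n ∈ R.coeff.support, (1 - PowerSeries.C ((q : ℚ) ^ n) * PowerSeries.X) ^ (R.coeff n).toNat
    = ∏ n ∈ R.coeff.support, (1 - PowerSeries.C ((q : ℚ) ^ n) * PowerSeries.X) ^ (-(R.coeff n)).toNat := by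
  classical
  set G : PowerSeries ℚ := PowerSeries.mk fun v : ℕ => if v = 0 then (0 : ℚ)
          else (R.coeff.sum fun (n : ℤ) (r : ℤ) => (r : ℚ) * (q : ℚ) ^ (n * (v : ℤ))) / (v : ℚ) with hG
  set S := R.coeff.support
  let a : ℤ → ℚ := fun n => (q : ℚ) ^ n
  let g : ℤ → PowerSeries ℚ := fun n => C (a n) * PowerSeries.mk fun v => a n ^ v
  have hgeo : ∀ b : ℚ, (1 - C b * X) * PowerSeries.mk (fun v => b ^ v) = 1 := by
    intro b
    ext v
    cases v with
    | zero => simp
    | succ v =>
      rw [sub_mul, one_mul, mul_assoc, map_sub, coeff_mk, coeff_C_mul, coeff_succ_X_mul,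
        coeff_mk, coeff_one, if_neg (Nat.succ_ne_zero v), pow_succ']
      ring
  let LD : PowerSeries ℚ → PowerSeries ℚ → Prop := fun f h => d⁄dX ℚ f = f * h
  have hmul : ∀ f h f' h', LD f h → LD f' h' → LD (f * f') (h + h') := by
    intro f h f' h' e e'
    simp only [LD] at *
    rw [Derivation.leibniz, smul_eq_mul, smul_eq_mul, e, e']
    ring
  have hfac : ∀ n, LD (1 - C (a n) * X) (-(g n)) := by
    intro n
    simp only [LD, g]
    rw [map_sub, Derivation.map_one_eq_zero, Derivation.leibniz, derivative_C, derivative_X]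
    simp only [smul_eq_mul]
    linear_combination (C (a n)) * hgeo (a n)
  have hpow : ∀ (f h : PowerSeries ℚ) (m : ℕ), LD f h → LD (f ^ m) (m • h) := by
    intro f h m e
    induction m with
    | zero => simp [LD]
    | succ m ih => rw [pow_succ, succ_nsmul]; exact hmul _ _ _ _ ih e
  have hprod : ∀ (m : ℤ → ℕ), LD (∏ n ∈ S, (1 - C (a n) * X) ^ m n) (∑ n ∈ S, m n • -(g n)) := by
    intro m
    induction S using Finset.induction with
    | empty => simp [LD]
    | insert x t hx ih =>
      rw [Finset.prod_insert hx, Finset.sum_insert hx]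
      exact hmul _ _ _ _ (hpow _ _ _ (hfac x)) ih
  have hG0 : constantCoeff G = 0 := by simp [hG, ← coeff_zero_eq_constantCoeff_apply]
  have hs : HasSubst G := HasSubst.of_constantCoeff_zero' hG0
  have hGd : d⁄dX ℚ G = ∑ n ∈ S, (R.coeff n) • g n := by
    ext v
    have h1 : ((v : ℚ) + 1) ≠ 0 := by positivity
    rw [coeff_derivative, hG, coeff_mk, if_neg (Nat.succ_ne_zero v)]
    push_cast
    rw [div_mul_cancel₀ _ h1, map_sum, Finsupp.sum]
    refine Finset.sum_congr rfl fun n _ => ?_
    rw [map_zsmul, coeff_C_mul, coeff_mk, zsmul_eq_mul, zpow_mul]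
    congr 1
    simp only [a]
    rw [← pow_succ', ← zpow_natCast]
    push_cast
    ring_nf
  have hexp : LD ((PowerSeries.exp ℚ).subst G) (d⁄dX ℚ G) := by
    simp only [LD]
    rw [derivative_subst hs, derivative_exp]
  have hL := hmul _ _ _ _ hexp (hprod fun n => (R.coeff n).toNat)
  have hR := hprod fun n => (-(R.coeff n)).toNat
  have heq : d⁄dX ℚ G + ∑ n ∈ S, (R.coeff n).toNat • -(g n)
      = ∑ n ∈ S, (-(R.coeff n)).toNat • -(g n) := by
    rw [hGd, ← Finset.sum_add_distrib]
    refine Finset.sum_congr rfl fun n _ => ?_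
    rcases Int.eq_nat_or_neg (R.coeff n) with ⟨m, hm | hm⟩ <;> rw [hm] <;> simp
  rw [heq] at hL
  have hc1 : ∀ m : ℤ → ℕ, constantCoeff (∏ n ∈ S, (1 - C (a n) * X) ^ m n) = (1 : ℚ) := by
    intro m
    simp [map_prod]
  have hcexp : constantCoeff ((PowerSeries.exp ℚ).subst G) = (1 : ℚ) := by
    show MvPowerSeries.constantCoeff _ = 1
    rw [constantCoeff_subst hs, finsum_eq_single _ 0]
    · simp
    · intro d hd
      have : MvPowerSeries.constantCoeff G = 0 := hG0
      simp [map_pow, this, zero_pow hd]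
  set A := (PowerSeries.exp ℚ).subst G * ∏ n ∈ S, (1 - C (a n) * X) ^ (R.coeff n).toNat with hA
  set B := ∏ n ∈ S, (1 - C (a n) * X) ^ (-(R.coeff n)).toNat with hB
  have hB0 : constantCoeff B ≠ 0 := by rw [hB, hc1]; exact one_ne_zero
  have hfin : A * B⁻¹ = 1 := by
    apply derivative.ext
    · simp only [LD] at hL hR
      have hR' : d⁄dX ℚ B = B * ∑ n ∈ S, (-(R.coeff n)).toNat • -(g n) := hR
      rw [Derivation.map_one_eq_zero, Derivation.leibniz, derivative_inv', smul_eq_mul, smul_eq_mul,
        hL, hR']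
      linear_combination (-(A * B⁻¹ * ∑ n ∈ S, (-(R.coeff n)).toNat • -(g n))) *
        PowerSeries.inv_mul_cancel B hB0
    · rw [map_mul, map_one, hA, map_mul, hcexp, hc1, constantCoeff_inv, hB, hc1]
      simp
  calc A = A * (B⁻¹ * B) := by rw [PowerSeries.inv_mul_cancel B hB0, mul_one]
    _ = B := by rw [← mul_assoc, hfin, one_mul]

end Groth.Agent.S14192
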