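import Groth.Statements.S14193
import Mathlib

set_option autoImplicit false
open PowerSeries
open StackCount

set_option maxHeartbeats 1000000

namespace Groth.Agent.S14193

/-- Let q > 1 be an integer and let F be an element of the subring of the rational function field ℚ(X)
generated by X, X^(-1) and the fractions 1/(X^n - 1) for n ≥ 1 (so F(q^v) is defined for every v ≥
1). If the formal power series exp(Σ_{v ≥ 1} F(q^v) t^v / v) in ℚ⟦t⟧ is the expansion of a rational
function, i.e. its product with some non-zero polynomial in t is a polynomial, then F is a Laurent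
polynomial with integer coefficients: F · X^a is the image of a polynomial with integer coefficients
for some a. (The published statement also assumes that the series defines a meromorphic function on
the complex plane; that is implied by rationality and is omitted here.) -/
theorem result (q : ℤ) (hq : 1 < q) (F : RatFunc ℚ)
    (hF : F ∈ Subring.closure
      (({RatFunc.X, (RatFunc.X : RatFunc ℚ)⁻¹} : Set (RatFunc ℚ)) ∪
        Set.range fun n : ℕ => ((RatFunc.X : RatFunc ℚ) ^ (n + 1) - 1)⁻¹))
    (hrat : ∃ P Q : Polynomial ℚ, Q ≠ 0 ∧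
      (PowerSeries.exp ℚ).subst
          (PowerSeries.mk fun v : ℕ => if v = 0 then (0 : ℚ)
            else F.eval (RingHom.id ℚ) ((q : ℚ) ^ v) / (v : ℚ))
        * (Q : PowerSeries ℚ) = (P : PowerSeries ℚ)) :
    ∃ (P : Polynomial ℤ) (a : ℕ),
      F * RatFunc.X ^ a = algebraMap (Polynomial ℚ) (RatFunc ℚ) (P.map (Int.castRingHom ℚ)) := by
  classical
  obtain ⟨P, Q, hQ0, hPQ⟩ := hrat
  -- denominators of `F` vanish only at `0` and on the unit circle
  have hgood : ∃ N E : Polynomial ℚ, E ≠ 0 ∧ (∀ z : ℂ, Polynomial.aeval z E = 0 → z = 0 ∨ ‖z‖ = 1) ∧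
      F * algebraMap _ (RatFunc ℚ) E = algebraMap _ (RatFunc ℚ) N := by
    clear hPQ
    induction hF using Subring.closure_induction with
    | mem x hx =>
      rcases hx with (rfl | rfl) | ⟨n, rfl⟩
      · exact ⟨Polynomial.X, 1, one_ne_zero, by simp, by simp [RatFunc.algebraMap_X]⟩
      · exact ⟨1, Polynomial.X, Polynomial.X_ne_zero, fun z hz => Or.inl (by simpa using hz),
          by simp [RatFunc.algebraMap_X, RatFunc.X_ne_zero]⟩
      · have hne : (Polynomial.X ^ (n + 1) - 1 : Polynomial ℚ) ≠ 0 := by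
          simpa using Polynomial.X_pow_sub_C_ne_zero (Nat.succ_pos n) (1 : ℚ)
        refine ⟨1, Polynomial.X ^ (n + 1) - 1, hne, fun z hz => Or.inr ?_, ?_⟩
        · simp only [map_sub, map_pow, Polynomial.aeval_X, map_one, sub_eq_zero] at hz
          exact Complex.norm_eq_one_of_pow_eq_one hz (Nat.succ_ne_zero n)
        · have : algebraMap _ (RatFunc ℚ) (Polynomial.X ^ (n + 1) - 1 : Polynomial ℚ) ≠ 0 :=
            RatFunc.algebraMap_ne_zero hne
          simp only [map_sub, map_pow, RatFunc.algebraMap_X, map_one] at this ⊢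
          exact inv_mul_cancel₀ this
    | zero => exact ⟨0, 1, one_ne_zero, by simp, by simp⟩
    | one => exact ⟨1, 1, one_ne_zero, by simp, by simp⟩
    | add x y _ _ hx hy =>
      obtain ⟨N, E, hE, hz, he⟩ := hx
      obtain ⟨N', E', hE', hz', he'⟩ := hy
      refine ⟨N * E' + N' * E, E * E', mul_ne_zero hE hE', fun z h => ?_, ?_⟩
      · rw [map_mul, mul_eq_zero] at h; exact h.elim (hz z) (hz' z)
      · simp only [map_add, map_mul, ← he, ← he']; ring
    | neg x _ hx =>
      obtain ⟨N, E, hE, hz, he⟩ := hx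
      exact ⟨-N, E, hE, hz, by rw [map_neg, ← he, neg_mul]⟩
    | mul x y _ _ hx hy =>
      obtain ⟨N, E, hE, hz, he⟩ := hx
      obtain ⟨N', E', hE', hz', he'⟩ := hy
      refine ⟨N * N', E * E', mul_ne_zero hE hE', fun z h => ?_, ?_⟩
      · rw [map_mul, mul_eq_zero] at h; exact h.elim (hz z) (hz' z)
      · simp only [map_mul, ← he, ← he']; ring
  have hden : ∀ z : ℂ, Polynomial.aeval z F.denom = 0 → z = 0 ∨ ‖z‖ = 1 := by
    obtain ⟨N, E, hE, hz, he⟩ := hgood
    intro z hzd
    refine hz z ?_
    have hdvd : F.denom ∣ E := by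
      rw [RatFunc.denom_dvd hE]
      exact ⟨N, eq_div_of_mul_eq (RatFunc.algebraMap_ne_zero hE) he⟩
    obtain ⟨c, rfl⟩ := hdvd
    simp [hzd]
  have hqC : (1 : ℝ) < ‖((q : ℚ) : ℂ)‖ := by
    rw [Rat.cast_intCast, Complex.norm_intCast]
    exact_mod_cast (lt_of_lt_of_le hq (le_abs_self q))
  have hq0 : (q : ℚ) ≠ 0 := by exact_mod_cast (by omega : q ≠ 0)
  -- the logarithmic derivative
  set G : PowerSeries ℚ := PowerSeries.mk fun v : ℕ => if v = 0 then (0 : ℚ)
      else F.eval (RingHom.id ℚ) ((q : ℚ) ^ v) / (v : ℚ) with hG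
  have hG0 : PowerSeries.constantCoeff G = 0 := by simp [hG, ← PowerSeries.coeff_zero_eq_constantCoeff_apply]
  have hs : PowerSeries.HasSubst G := PowerSeries.HasSubst.of_constantCoeff_zero' hG0
  set S : PowerSeries ℚ := PowerSeries.mk fun v : ℕ => F.eval (RingHom.id ℚ) ((q : ℚ) ^ (v + 1)) with hS
  have hGd : PowerSeries.derivative ℚ G = S := by
    ext v
    have h1 : ((v : ℚ) + 1) ≠ 0 := by positivity
    rw [PowerSeries.coeff_derivative, hG, hS, PowerSeries.coeff_mk, PowerSeries.coeff_mk,
      if_neg (Nat.succ_ne_zero v)]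
    push_cast
    rw [div_mul_cancel₀ _ h1]
  set A := (PowerSeries.exp ℚ).subst G with hA
  have hAd : PowerSeries.derivative ℚ A = A * S := by
    rw [hA, PowerSeries.derivative_subst hs, PowerSeries.derivative_exp, hGd]
  have hAc : PowerSeries.constantCoeff A = (1 : ℚ) := by
    rw [hA]
    show MvPowerSeries.constantCoeff _ = 1
    rw [PowerSeries.constantCoeff_subst hs, finsum_eq_single _ 0]
    · simp
    · intro d hd
      have : MvPowerSeries.constantCoeff G = 0 := hG0
      simp [map_pow, this, zero_pow hd]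
  have hP0 : P ≠ 0 := by
    rintro rfl
    have : A = 0 ∨ (Q : PowerSeries ℚ) = 0 := mul_eq_zero.1 (by rw [hPQ]; simp)
    rcases this with h | h
    · rw [h] at hAc; simp at hAc
    · exact hQ0 (Polynomial.coe_inj.1 (h.trans Polynomial.coe_zero.symm))
  set U : Polynomial ℚ := Polynomial.derivative P * Q - P * Polynomial.derivative Q with hU
  have hSW : S * ((P * Q : Polynomial ℚ) : PowerSeries ℚ) = (U : PowerSeries ℚ) := by
    have h := congrArg (PowerSeries.derivative ℚ) hPQ
    rw [Derivation.leibniz, smul_eq_mul, smul_eq_mul, hAd, PowerSeries.derivative_coe,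
      PowerSeries.derivative_coe] at h
    rw [hU, Polynomial.coe_sub, Polynomial.coe_mul, Polynomial.coe_mul, Polynomial.coe_mul, ← h, ← hPQ]
    ring
  -- the recurrence kills all poles except the origin
  set W := P * Q with hW
  have hW0 : W ≠ 0 := mul_ne_zero hP0 hQ0
  let J := Finset.range (W.natDegree + 1)
  let sc : ℕ → Polynomial ℚ := fun j => Polynomial.C (((q : ℚ) ^ j)⁻¹) * Polynomial.X
  let H : Polynomial ℚ := ∑ j ∈ J, Polynomial.C (W.coeff j) * F.num.comp (sc j) *
    ∏ i ∈ J.erase j, F.denom.comp (sc i)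
  have hH : H = 0 := by
    refine Polynomial.eq_zero_of_infinite_isRoot _ ?_
    have hinj : Function.Injective (fun m : ℕ => (q : ℚ) ^ (m + U.natDegree + W.natDegree + 2)) := by
      intro a b h
      have := (pow_right_strictMono₀ (show (1 : ℚ) < q by exact_mod_cast hq)).injective h
      omega
    refine (Set.infinite_range_of_injective hinj).mono ?_
    rintro _ ⟨m, rfl⟩
    set n := m + U.natDegree + W.natDegree + 1 with hn
    have hrec : ∑ j ∈ J, W.coeff j * F.eval (RingHom.id ℚ) ((q : ℚ) ^ (n - j + 1)) = 0 := by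
      have h := congrArg (PowerSeries.coeff n) hSW
      rw [Polynomial.coeff_coe, U.coeff_eq_zero_of_natDegree_lt (by omega), mul_comm,
        PowerSeries.coeff_mul, Finset.Nat.sum_antidiagonal_eq_sum_range_succ_mk] at h
      rw [← h]
      refine Eq.trans (Finset.sum_congr rfl fun j _ => ?_)
        (Finset.sum_subset (Finset.range_mono (by omega)) fun j _ hj => ?_)
      · simp [Polynomial.coeff_coe, hS]
      · rw [Polynomial.coeff_coe, W.coeff_eq_zero_of_natDegree_lt (by simpa [J] using hj), zero_mul]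
    show H.IsRoot ((q : ℚ) ^ (n + 1))
    have hx : ∀ j ∈ J, (sc j).eval ((q : ℚ) ^ (n + 1)) = (q : ℚ) ^ (n - j + 1) := by
      intro j hj
      have : n + 1 = j + (n - j + 1) := by simp [J] at hj; omega
      simp only [sc, Polynomial.eval_mul, Polynomial.eval_C, Polynomial.eval_X]
      rw [this, pow_add, ← mul_assoc, inv_mul_cancel₀ (pow_ne_zero _ hq0), one_mul]
    have hdn : ∀ v : ℕ, F.denom.eval ((q : ℚ) ^ (v + 1)) ≠ 0 := by
      intro v h
      have h2 : Polynomial.aeval (((q : ℚ) ^ (v + 1) : ℚ) : ℂ) F.denom = 0 := by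
        rw [← eq_ratCast (algebraMap ℚ ℂ), Polynomial.aeval_algebraMap_apply_eq_algebraMap_eval, h, map_zero]
      rcases hden _ h2 with h3 | h3
      · exact pow_ne_zero _ hq0 (by exact_mod_cast h3)
      · rw [Rat.cast_pow, norm_pow] at h3
        exact ne_of_gt (one_lt_pow₀ hqC (Nat.succ_ne_zero v)) h3
    have key : H.eval ((q : ℚ) ^ (n + 1)) = (∏ i ∈ J, F.denom.eval ((q : ℚ) ^ (n - i + 1))) *
        ∑ j ∈ J, W.coeff j * F.eval (RingHom.id ℚ) ((q : ℚ) ^ (n - j + 1)) := by
      simp only [H, Polynomial.eval_finsetSum, Finset.mul_sum, Polynomial.eval_mul, Polynomial.eval_C,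
        Polynomial.eval_prod, Polynomial.eval_comp]
      refine Finset.sum_congr rfl fun j hj => ?_
      rw [hx j hj, ← Finset.mul_prod_erase J _ hj, Finset.prod_congr rfl fun i hi =>
        show F.denom.eval ((sc i).eval ((q : ℚ) ^ (n + 1))) = F.denom.eval ((q : ℚ) ^ (n - i + 1)) by
          rw [hx i (Finset.mem_of_mem_erase hi)]]
      simp only [RatFunc.eval, Polynomial.eval₂_id]
      field_simp [hdn (n - j)]
    rw [Polynomial.IsRoot, key, hrec, mul_zero]
  have hz0 : ∀ z : ℂ, Polynomial.aeval z F.denom = 0 → z = 0 := by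
    intro z hz
    rcases hden z hz with h | h
    · exact h
    exfalso
    have hz' : z ≠ 0 := fun e => by simp [e] at h
    have hNz : Polynomial.aeval z F.num ≠ 0 := by
      intro hN
      obtain ⟨a, b, hab⟩ := F.isCoprime_num_denom
      have := congrArg (Polynomial.aeval z) hab
      simp [hN, hz] at this
    apply hW0
    ext j
    rw [Polynomial.coeff_zero]
    by_cases hj : j ∈ J
    swap
    · exact W.coeff_eq_zero_of_natDegree_lt (by simpa [J] using hj)
    have hsc : ∀ i, Polynomial.aeval (z * ((q : ℚ) : ℂ) ^ j) (sc i)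
        = z * ((q : ℚ) : ℂ) ^ j / ((q : ℚ) : ℂ) ^ i := by
      intro i
      simp only [sc, map_mul, Polynomial.aeval_C, Polynomial.aeval_X, eq_ratCast, Rat.cast_inv, Rat.cast_pow]
      ring
    have hqC0 : ((q : ℚ) : ℂ) ≠ 0 := by exact_mod_cast hq0
    have h2 := congrArg (Polynomial.aeval (z * ((q : ℚ) : ℂ) ^ j)) hH
    simp only [H, map_sum, map_zero, map_mul, map_prod, Polynomial.aeval_C, Polynomial.aeval_comp, hsc] at h2
    rw [Finset.sum_eq_single j] at h2
    · rw [mul_div_assoc, div_self (pow_ne_zero _ hqC0), mul_one] at h2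
      rcases mul_eq_zero.1 h2 with h3 | h3
      · rcases mul_eq_zero.1 h3 with h4 | h4
        · simpa using h4
        · exact absurd h4 hNz
      · obtain ⟨i, hi, h4⟩ := Finset.prod_eq_zero_iff.1 h3
        exfalso
        have hij := Finset.ne_of_mem_erase hi
        rcases hden _ h4 with h5 | h5
        · exact div_ne_zero (mul_ne_zero hz' (pow_ne_zero _ hqC0)) (pow_ne_zero _ hqC0) h5
        · rw [norm_div, norm_mul, norm_pow, norm_pow, h, one_mul, div_eq_one_iff_eq (by positivity)] at h5
          exact hij ((pow_right_strictMono₀ hqC).injective h5).symm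
    · intro i hi hij
      refine mul_eq_zero_of_right _ (Finset.prod_eq_zero (Finset.mem_erase.2 ⟨fun e => hij e.symm, hj⟩) ?_)
      rw [mul_div_assoc, div_self (pow_ne_zero _ hqC0), mul_one]
      exact hz
    · exact fun h3 => absurd hj h3
  obtain ⟨a, ha⟩ : ∃ a : ℕ, F.denom = Polynomial.X ^ a := by
    refine ⟨F.denom.natDegree, Polynomial.map_injective (algebraMap ℚ ℂ) (algebraMap ℚ ℂ).injective ?_⟩
    rw [Polynomial.map_pow, Polynomial.map_X]
    have hm : (F.denom.map (algebraMap ℚ ℂ)).Monic := F.monic_denom.map _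
    have hsp : (F.denom.map (algebraMap ℚ ℂ)).Splits := IsAlgClosed.splits _
    have hcard := hsp.natDegree_eq_card_roots
    have hroots : (F.denom.map (algebraMap ℚ ℂ)).roots
        = Multiset.replicate F.denom.natDegree 0 := by
      rw [Multiset.eq_replicate]
      refine ⟨by rw [← hcard, F.monic_denom.natDegree_map], fun z hz => hz0 z ?_⟩
      have := (Polynomial.mem_roots'.1 hz).2
      rwa [Polynomial.IsRoot, Polynomial.eval_map, ← Polynomial.aeval_def] at this
    conv_lhs => rw [hsp.eq_prod_roots_of_monic hm, hroots]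
    simp
  -- integrality
  let s := F.num.support
  let b : ℕ → ℚ := fun i => (q : ℚ) ^ ((i : ℤ) - a)
  have hb0 : ∀ i, b i ≠ 0 := fun i => zpow_ne_zero _ hq0
  have hbinj : Function.Injective b := by
    intro i j h
    have h2 : ((q : ℚ) ^ i) = (q : ℚ) ^ j := by
      have := congrArg (· * (q : ℚ) ^ (a : ℤ)) h
      simp only [b] at this
      rw [← zpow_add₀ hq0, ← zpow_add₀ hq0, sub_add_cancel, sub_add_cancel, zpow_natCast, zpow_natCast] at this
      exact this
    exact (pow_right_strictMono₀ (show (1 : ℚ) < q by exact_mod_cast hq)).injective h2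
  have hSsum : S = ∑ i ∈ s, PowerSeries.C (F.num.coeff i * b i) * PowerSeries.mk (fun v => b i ^ v) := by
    ext v
    rw [hS, PowerSeries.coeff_mk, map_sum, RatFunc.eval, Polynomial.eval₂_id, Polynomial.eval₂_id, ha,
      Polynomial.eval_pow, Polynomial.eval_X, Polynomial.eval_eq_sum, Polynomial.sum_def, Finset.sum_div]
    refine Finset.sum_congr rfl fun i _ => ?_
    rw [PowerSeries.coeff_C_mul, PowerSeries.coeff_mk, mul_assoc, ← pow_succ']
    simp only [b]
    rw [zpow_sub₀ hq0, zpow_natCast, zpow_natCast, div_pow, ← pow_mul, ← pow_mul, ← pow_mul,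
      mul_comm (v + 1) i, mul_comm (v + 1) a]
    ring
  let fac : ℕ → Polynomial ℚ := fun i => 1 - Polynomial.C (b i) * Polynomial.X
  have hgeo : ∀ i, (fac i : PowerSeries ℚ) * PowerSeries.mk (fun v => b i ^ v) = 1 := by
    intro i
    simp only [fac, Polynomial.coe_sub, Polynomial.coe_one, Polynomial.coe_mul, Polynomial.coe_C, Polynomial.coe_X]
    ext v
    cases v with
    | zero => simp
    | succ v =>
      rw [sub_mul, one_mul, mul_assoc, map_sub, PowerSeries.coeff_mk, PowerSeries.coeff_C_mul,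
        PowerSeries.coeff_succ_X_mul, PowerSeries.coeff_mk, PowerSeries.coeff_one,
        if_neg (Nat.succ_ne_zero v), pow_succ']
      ring
  have hpoly : W * (∑ i ∈ s, Polynomial.C (F.num.coeff i * b i) * ∏ j ∈ s.erase i, fac j)
      = U * ∏ i ∈ s, fac i := by
    apply Polynomial.coe_inj.1
    have hcs : ∀ f : ℕ → Polynomial ℚ, ((∑ i ∈ s, f i : Polynomial ℚ) : PowerSeries ℚ)
        = ∑ i ∈ s, (f i : PowerSeries ℚ) := fun f => map_sum Polynomial.coeToPowerSeries.ringHom f s
    rw [Polynomial.coe_mul W, Polynomial.coe_mul U, ← hSW, hSsum, hcs, Finset.mul_sum, Finset.sum_mul, Finset.sum_mul]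
    refine Finset.sum_congr rfl fun i hi => ?_
    rw [← Finset.mul_prod_erase s _ hi]
    simp only [hW, Polynomial.coe_mul, Polynomial.coe_C]
    linear_combination (-(PowerSeries.C (F.num.coeff i * b i) * ((P : PowerSeries ℚ) * (Q : PowerSeries ℚ)) *
      ((∏ j ∈ s.erase i, fac j : Polynomial ℚ) : PowerSeries ℚ))) * hgeo i
  have hint : ∀ i, ∃ z : ℤ, F.num.coeff i = z := by
    intro i
    by_cases hi : i ∈ s
    swap
    · exact ⟨0, by simpa [s] using hi⟩
    let β := (b i)⁻¹
    set Y := Polynomial.X - Polynomial.C β with hY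
    obtain ⟨P₁, hP₁, hP₁'⟩ := P.exists_eq_pow_rootMultiplicity_mul_and_not_dvd hP0 β
    obtain ⟨Q₁, hQ₁, hQ₁'⟩ := Q.exists_eq_pow_rootMultiplicity_mul_and_not_dvd hQ0 β
    set m := P.rootMultiplicity β
    set l := Q.rootMultiplicity β
    have hpm : ∀ (m : ℕ), Polynomial.derivative (Y ^ m) * Y = (m : Polynomial ℚ) * Y ^ m := by
      intro m
      cases m with
      | zero => simp
      | succ m =>
        rw [Polynomial.derivative_pow, hY, Polynomial.derivative_sub, Polynomial.derivative_X,
          Polynomial.derivative_C, Nat.add_sub_cancel, Polynomial.C_eq_natCast, pow_succ]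
        ring
    let K := ((m : Polynomial ℚ) - (l : Polynomial ℚ)) * P₁ * Q₁ +
      Y * (Polynomial.derivative P₁ * Q₁ - P₁ * Polynomial.derivative Q₁)
    have hUY : U * Y = Y ^ (m + l) * K := by
      rw [hU, hP₁, hQ₁, Polynomial.derivative_mul, Polynomial.derivative_mul, pow_add]
      simp only [K, ← hY]
      linear_combination (P₁ * Q₁ * Y ^ l) * hpm m - (P₁ * Q₁ * Y ^ m) * hpm l
    have hfaci : fac i = - Polynomial.C (b i) * Y := by
      simp only [fac, hY, β, neg_mul, mul_sub, ← Polynomial.C_mul, mul_inv_cancel₀ (hb0 i), map_one]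
      ring
    have h3 : Y ^ (m + l) * (P₁ * Q₁ * ∑ i ∈ s, Polynomial.C (F.num.coeff i * b i) * ∏ j ∈ s.erase i, fac j)
        = Y ^ (m + l) * (-Polynomial.C (b i) * K * ∏ j ∈ s.erase i, fac j) := by
      have hW' : W = Y ^ (m + l) * (P₁ * Q₁) := by
        rw [hW]; conv_lhs => rw [hP₁, hQ₁]
        rw [pow_add, ← hY]; ring
      calc _ = W * (∑ i ∈ s, Polynomial.C (F.num.coeff i * b i) * ∏ j ∈ s.erase i, fac j) := by
            rw [hW']; ring
        _ = U * ∏ i ∈ s, fac i := hpoly
        _ = _ := by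
          rw [← Finset.mul_prod_erase s _ hi, hfaci]
          linear_combination (-Polynomial.C (b i) * ∏ j ∈ s.erase i, fac j) * hUY
    have hY0 : Y ^ (m + l) ≠ 0 := pow_ne_zero _ (Polynomial.X_sub_C_ne_zero β)
    have h4 := congrArg (Polynomial.eval β) (mul_left_cancel₀ hY0 h3)
    have hfz : ∀ j, (fac j).eval β = 0 → j = i := by
      intro j hj
      simp only [fac, β, Polynomial.eval_sub, Polynomial.eval_one, Polynomial.eval_mul, Polynomial.eval_C,
        Polynomial.eval_X, sub_eq_zero] at hj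
      exact hbinj (eq_of_div_eq_one (by rw [div_eq_mul_inv]; exact hj.symm))
    have hfi : (fac i).eval β = 0 := by
      simp [fac, β, mul_inv_cancel₀ (hb0 i)]
    have hne : (∏ j ∈ s.erase i, fac j).eval β ≠ 0 := by
      rw [Polynomial.eval_prod, Finset.prod_ne_zero_iff]
      exact fun j hj h => Finset.ne_of_mem_erase hj (hfz j h)
    have hP₁β : P₁.eval β ≠ 0 := fun h => hP₁' (Polynomial.dvd_iff_isRoot.2 h)
    have hQ₁β : Q₁.eval β ≠ 0 := fun h => hQ₁' (Polynomial.dvd_iff_isRoot.2 h)
    have hYβ : Y.eval β = 0 := by simp [hY]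
    have hsum : (∑ j ∈ s, Polynomial.C (F.num.coeff j * b j) * ∏ l ∈ s.erase j, fac l).eval β
        = F.num.coeff i * b i * (∏ j ∈ s.erase i, fac j).eval β := by
      rw [Polynomial.eval_finsetSum, Finset.sum_eq_single i]
      · rw [Polynomial.eval_mul, Polynomial.eval_C]
      · intro j hj hji
        rw [Polynomial.eval_mul, Polynomial.eval_prod]
        exact mul_eq_zero_of_right _ (Finset.prod_eq_zero (Finset.mem_erase.2 ⟨fun e => hji e.symm, hi⟩) hfi)
      · exact fun h => absurd hi h
    rw [Polynomial.eval_mul, Polynomial.eval_mul, hsum] at h4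
    simp only [K, Polynomial.eval_mul, Polynomial.eval_add, Polynomial.eval_neg, Polynomial.eval_C,
      Polynomial.eval_sub, Polynomial.eval_natCast, hYβ, zero_mul, add_zero] at h4
    refine ⟨(l : ℤ) - m, ?_⟩
    have hne2 : P₁.eval β * Q₁.eval β * b i * (∏ j ∈ s.erase i, fac j).eval β ≠ 0 :=
      mul_ne_zero (mul_ne_zero (mul_ne_zero hP₁β hQ₁β) (hb0 i)) hne
    push_cast
    refine mul_left_cancel₀ hne2 ?_
    linear_combination h4
  obtain ⟨N, hN⟩ : ∃ N : Polynomial ℤ, N.map (Int.castRingHom ℚ) = F.num := by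
    rw [← Polynomial.mem_lifts, Polynomial.lifts_iff_coeff_lifts]
    intro n
    obtain ⟨z, hz⟩ := hint n
    exact ⟨z, hz.symm⟩
  refine ⟨N, a, ?_⟩
  rw [hN]
  have h := RatFunc.num_div_denom F
  rw [ha, map_pow, RatFunc.algebraMap_X] at h
  conv_lhs => rw [← h]
  rw [div_mul_cancel₀ _ (pow_ne_zero _ RatFunc.X_ne_zero)]

end Groth.Agent.S14193
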