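import Groth.Statements.S14195
import Mathlib.FieldTheory.Finite.Basic
import Mathlib.FieldTheory.KrullTopology
import Mathlib.RingTheory.RootsOfUnity.AlgebraicallyClosed


set_option autoImplicit false
universe u v
open StackCount

set_option maxHeartbeats 1000000

namespace Groth.Agent.S14195

/-- Let k be a finite field, k̄ an algebraic closure, Γ = Aut(k̄/k) with the Krull topology and π ∈ Γ
the Frobenius x ↦ x^(#k). Let A be a group on which Γ acts by group automorphisms, with open
stabilisers, such that every element of A lies in a finite Γ-stable subgroup. Then z ↦ z(π) is a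
bijection from the locally constant 1-cocycles Γ → A (the continuous cocycles for discrete A) onto
A, and two such cocycles z, z' are cohomologous if and only if z'(π) = g · z(π) · (π g)^(-1) for
some g in A; hence it induces a bijection of the continuous first cohomology set with the quotient
of A by the twisted conjugation g · x = g x (π g)^(-1). (The published statement takes A to be the
group of k̄-points of a smooth algebraic group over k with its Galois action; this row assumes only
the two properties of that action which the proof uses.) -/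
theorem result (k : Type u) [Field k] [Finite k]
    (π : AlgebraicClosure k ≃ₐ[k] AlgebraicClosure k)
    (hπ : ∀ x : AlgebraicClosure k, π x = x ^ Nat.card k)
    (A : Type v) [Group A] [MulDistribMulAction (AlgebraicClosure k ≃ₐ[k] AlgebraicClosure k) A]
    (hcont : ∀ a : A, IsOpen {σ : AlgebraicClosure k ≃ₐ[k] AlgebraicClosure k | σ • a = a})
    (hfin : ∀ a : A, ∃ H : Subgroup A, (H : Set A).Finite ∧ a ∈ H ∧
      ∀ (σ : AlgebraicClosure k ≃ₐ[k] AlgebraicClosure k) (x : A), x ∈ H → σ • x ∈ H) :
    Function.Bijective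
        (fun z : GpH1.OneCocycleLC (AlgebraicClosure k ≃ₐ[k] AlgebraicClosure k) A => z.1 π) ∧
      ∀ z z' : GpH1.OneCocycleLC (AlgebraicClosure k ≃ₐ[k] AlgebraicClosure k) A,
        z.cl = z'.cl ↔ ∃ g : A, z'.1 π = g * z.1 π * (π • g)⁻¹ := by
  classical
  haveI := Fintype.ofFinite k
  have hq : Nat.card k = Fintype.card k := Nat.card_eq_fintype_card
  have hπn : ∀ (n : ℕ) (x : AlgebraicClosure k), (π ^ n) x = x ^ (Fintype.card k ^ n) := by
    intro n
    induction n with
    | zero => intro x; simp
    | succ n ih => intro x; rw [pow_succ', AlgEquiv.mul_apply, ih, hπ, hq, pow_succ, ← pow_mul]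
  have hcls : ∀ (M : IntermediateField k (AlgebraicClosure k)) [FiniteDimensional k M] [Normal k M]
      (σ : AlgebraicClosure k ≃ₐ[k] AlgebraicClosure k),
      ∃ n : ℕ, ∀ y ∈ M, σ y = (π ^ n) y := by
    intro M _ _ σ
    haveI : Finite M := Module.finite_of_finite k
    obtain ⟨n, hn⟩ := (FiniteField.bijective_frobeniusAlgEquivOfAlgebraic_pow k M).2
      (AlgEquiv.restrictNormalHom M σ)
    refine ⟨n.1, fun y hy => ?_⟩
    have h1 := DFunLike.congr_fun hn ⟨y, hy⟩
    simp only [AlgEquiv.coe_pow, FiniteField.coe_frobeniusAlgEquivOfAlgebraic_iterate] at h1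
    have h2 := congrArg (fun z : M => (z : AlgebraicClosure k)) h1
    simp only [SubmonoidClass.coe_pow] at h2
    rw [hπn, h2]
    exact (AlgEquiv.restrictNormal_commutes σ M ⟨y, hy⟩).symm
  have hdense : ∀ (S : Set (AlgebraicClosure k ≃ₐ[k] AlgebraicClosure k)), IsOpen S →
      ∀ σ ∈ S, ∃ n : ℕ, π ^ n ∈ S := by
    intro S hS σ hσ
    have : (fun t => σ * t) ⁻¹' S ∈ nhds (1 : AlgebraicClosure k ≃ₐ[k] AlgebraicClosure k) :=
      (hS.preimage (continuous_const_mul σ)).mem_nhds (by simpa using hσ)
    obtain ⟨M, hfd, hn, hM⟩ := (krullTopology_mem_nhds_one_iff_of_normal k (AlgebraicClosure k) _).1 this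
    obtain ⟨n, hn'⟩ := hcls M σ
    refine ⟨n, ?_⟩
    have hmem : σ⁻¹ * π ^ n ∈ M.fixingSubgroup := by
      rw [IntermediateField.mem_fixingSubgroup_iff]
      intro y hy
      rw [AlgEquiv.mul_apply, ← hn' y hy]
      exact σ.symm_apply_apply y
    simpa using hM hmem
  have hsmul_lc : ∀ g : A, IsLocallyConstant (fun σ : AlgebraicClosure k ≃ₐ[k] AlgebraicClosure k => σ • g) := by
    intro g
    rw [IsLocallyConstant.iff_isOpen_fiber]
    intro b
    rw [isOpen_iff_forall_mem_open]
    intro σ hσ
    refine ⟨(fun t => σ⁻¹ * t) ⁻¹' {τ | τ • g = g}, fun t ht => ?_,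
      (hcont g).preimage (continuous_const_mul _), by simp⟩
    show t • g = b
    rw [← hσ]
    have ht' : (σ⁻¹ * t) • g = g := ht
    show t • g = σ • g
    conv_rhs => rw [← ht', smul_smul, mul_inv_cancel_left]
  have hinj : ∀ z z' : GpH1.OneCocycleLC (AlgebraicClosure k ≃ₐ[k] AlgebraicClosure k) A,
      z.1 π = z'.1 π → z = z' := by
    intro z z' e
    refine Subtype.ext (GpH1.OneCocycle.ext fun σ => ?_)
    obtain ⟨n, hn⟩ := hdense {t | z.1 t = z.1 σ ∧ z'.1 t = z'.1 σ}
      ((z.2.isOpen_fiber _).inter (z'.2.isOpen_fiber _)) σ ⟨rfl, rfl⟩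
    rw [← hn.1, ← hn.2]
    have h0 : ∀ w : GpH1.OneCocycleLC (AlgebraicClosure k ≃ₐ[k] AlgebraicClosure k) A, w.1 1 = 1 := by
      intro w
      have := w.1.2 1 1
      rw [one_mul, one_smul, left_eq_mul] at this
      exact this
    clear hn
    induction n with
    | zero => rw [pow_zero, h0, h0]
    | succ n ih =>
      rw [pow_succ', z.1.2 π (π ^ n), z'.1.2 π (π ^ n)]
      exact congrArg₂ (fun a b : A => a * π • b) e ih
  refine ⟨⟨fun z z' => hinj z z', fun a => ?_⟩, fun z z' => ?_⟩
  · obtain ⟨H, hHfin, haH, hHst⟩ := hfin a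
    -- the partial norms
    let c : ℕ → A := fun n => ((List.range n).map fun i => (π ^ i) • a).prod
    have hc : ∀ n, c (n + 1) = c n * (π ^ n) • a := by
      intro n; simp [c, List.range_succ]
    have hcadd : ∀ n m, c (n + m) = c n * (π ^ n) • c m := by
      intro n m
      induction m with
      | zero => simp [c]
      | succ m ih => rw [← add_assoc, hc, ih, hc, smul_mul', smul_smul, ← pow_add, mul_assoc]
    have hcH : ∀ n, c n ∈ H := by
      intro n
      induction n with
      | zero => simp [c, H.one_mem]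
      | succ n ih => rw [hc]; exact H.mul_mem ih (hHst _ _ haH)
    -- a finite normal extension whose group fixes `H`
    have hSt : IsOpen {σ : AlgebraicClosure k ≃ₐ[k] AlgebraicClosure k | ∀ h ∈ H, σ • h = h} := by
      have he : {σ : AlgebraicClosure k ≃ₐ[k] AlgebraicClosure k | ∀ h ∈ H, σ • h = h}
          = ⋂ h ∈ (H : Set A), {σ | σ • h = h} := by ext; simp
      rw [he]
      exact hHfin.isOpen_biInter fun h _ => hcont h
    obtain ⟨L, hLfd, hLn, hL⟩ := (krullTopology_mem_nhds_one_iff_of_normal k (AlgebraicClosure k) _).1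
      (hSt.mem_nhds (fun h _ => one_smul _ h))
    haveI := hLfd; haveI := hLn
    haveI : Finite L := Module.finite_of_finite k
    let d := Module.finrank k L
    have hd : ∀ h ∈ H, (π ^ d) • h = h := by
      refine hL (show π ^ d ∈ L.fixingSubgroup from ?_)
      rw [IntermediateField.mem_fixingSubgroup_iff]
      intro y hy
      rw [hπn]
      haveI := Fintype.ofFinite L
      have := FiniteField.pow_card (⟨y, hy⟩ : L)
      rw [Module.card_eq_pow_finrank (K := k)] at this
      exact congrArg Subtype.val this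
    have hcd : ∀ r, c (d * r) = c d ^ r := by
      intro r
      induction r with
      | zero => simp [c]
      | succ r ih =>
        rw [Nat.mul_succ, hcadd, ih, pow_succ]
        congr 1
        clear ih
        induction r with
        | zero => simp
        | succ r ih => rw [Nat.mul_succ, pow_add, mul_smul, hd _ (hcH d), ih]
    haveI : Finite H := hHfin.to_subtype
    obtain ⟨r, hr0, hr⟩ := isOfFinOrder_iff_pow_eq_one.1 (isOfFinOrder_of_finite (⟨c d, hcH d⟩ : H))
    let N := d * r
    have hN0 : 0 < N := Nat.mul_pos Module.finrank_pos hr0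
    have hcN : c N = 1 := by
      rw [hcd]
      exact congrArg Subtype.val hr
    have hper : ∀ n j, c (n + N * j) = c n := by
      intro n j
      induction j with
      | zero => simp
      | succ j ih => rw [Nat.mul_succ, ← add_assoc, hcadd, hcN, smul_one, mul_one, ih]
    -- a primitive root detecting exponents modulo `N`
    obtain ⟨p, hp⟩ := CharP.exists (AlgebraicClosure k)
    have hq0 : ((Fintype.card k : ℕ) : AlgebraicClosure k) = 0 := by
      rw [← map_natCast (algebraMap k (AlgebraicClosure k))]; simp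
    have h1q : 1 < Fintype.card k := Fintype.one_lt_card
    have h1N : 1 < Fintype.card k ^ N := Nat.one_lt_pow hN0.ne' h1q
    haveI : NeZero ((Fintype.card k ^ N - 1 : ℕ) : AlgebraicClosure k) := ⟨by
      rw [Nat.cast_sub h1N.le, Nat.cast_pow, hq0, zero_pow hN0.ne', Nat.cast_one, zero_sub, neg_ne_zero]
      exact one_ne_zero⟩
    obtain ⟨x, hx⟩ := HasEnoughRootsOfUnity.exists_primitiveRoot (AlgebraicClosure k) (Fintype.card k ^ N - 1)
    have hxN : (π ^ N) x = x := by
      rw [hπn, show Fintype.card k ^ N = (Fintype.card k ^ N - 1) + 1 by omega, pow_succ, hx.pow_eq_one, one_mul]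
    have hxdvd : ∀ n, (π ^ n) x = x → N ∣ n := by
      intro n hn
      have hj : ∀ j, (π ^ (N * j)) x = x := by
        intro j
        induction j with
        | zero => simp
        | succ j ih => rw [Nat.mul_succ, pow_add, AlgEquiv.mul_apply, hxN, ih]
      have h1 : (π ^ (n % N)) x = x := by
        rw [← Nat.mod_add_div n N, pow_add, AlgEquiv.mul_apply, hj] at hn
        exact hn
      have hlt : Fintype.card k ^ (n % N) < Fintype.card k ^ N :=
        Nat.pow_lt_pow_right h1q (Nat.mod_lt _ hN0)
      have hge : 1 ≤ Fintype.card k ^ (n % N) := Nat.one_le_pow _ _ (by omega)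
      have hx0 : x ≠ 0 := hx.ne_zero (by omega)
      rw [hπn, show Fintype.card k ^ (n % N) = (Fintype.card k ^ (n % N) - 1) + 1 by omega, pow_succ] at h1
      have h2 := Nat.eq_zero_of_dvd_of_lt (hx.dvd_of_pow_eq_one _ ((mul_eq_right₀ hx0).1 h1)) (by omega)
      have h3 : n % N = 0 := by
        by_contra h4
        have := Nat.one_lt_pow h4 h1q
        omega
      exact Nat.dvd_of_mod_eq_zero h3
    -- the extension through which the cocycle factors
    haveI : FiniteDimensional k (IntermediateField.adjoin k ({x} : Set (AlgebraicClosure k))) :=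
      IntermediateField.adjoin.finiteDimensional (Algebra.IsAlgebraic.isAlgebraic x).isIntegral
    obtain ⟨M, hMfd, hMn, hM⟩ := (krullTopology_mem_nhds_one_iff_of_normal k (AlgebraicClosure k) _).1
      ((((L ⊔ IntermediateField.adjoin k ({x} : Set (AlgebraicClosure k))).fixingSubgroup_isOpen).mem_nhds
        (Subgroup.one_mem _)))
    haveI := hMfd; haveI := hMn
    choose n hn using hcls M
    have hfix : ∀ σ τ : AlgebraicClosure k ≃ₐ[k] AlgebraicClosure k, (∀ y ∈ M, σ y = τ y) →
        (∀ h ∈ H, σ • h = τ • h) ∧ σ x = τ x := by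
      intro σ τ h
      have hmem : τ⁻¹ * σ ∈ M.fixingSubgroup := by
        rw [IntermediateField.mem_fixingSubgroup_iff]
        intro y hy
        rw [AlgEquiv.mul_apply, h y hy]
        exact τ.symm_apply_apply y
      have h2 := (IntermediateField.mem_fixingSubgroup_iff _ _).1 (hM hmem)
      have h3 : ∀ h ∈ H, (τ⁻¹ * σ) • h = h :=
        hL (show τ⁻¹ * σ ∈ L.fixingSubgroup from
          (IntermediateField.mem_fixingSubgroup_iff _ _).2 fun y hy => h2 y
            ((le_sup_left : L ≤ L ⊔ IntermediateField.adjoin k ({x} : Set (AlgebraicClosure k))) hy))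
      refine ⟨fun g hg => ?_, ?_⟩
      · conv_rhs => rw [← h3 g hg, smul_smul, mul_inv_cancel_left]
      · have h4 := h2 x ((le_sup_right : IntermediateField.adjoin k ({x} : Set (AlgebraicClosure k)) ≤ L ⊔ _)
          (IntermediateField.mem_adjoin_simple_self k x))
        rw [AlgEquiv.mul_apply] at h4
        exact (τ.symm_apply_eq).1 h4
    have hwd : ∀ m m' : ℕ, (π ^ m) x = (π ^ m') x → c m = c m' := by
      have key : ∀ m j : ℕ, (π ^ m) x = (π ^ (m + j)) x → c m = c (m + j) := by
        intro m j h
        rw [pow_add, AlgEquiv.mul_apply] at h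
        obtain ⟨i, rfl⟩ := hxdvd j ((π ^ m).injective h.symm)
        exact (hper m i).symm
      intro m m' h
      rcases le_total m m' with hle | hle
      · obtain ⟨j, rfl⟩ := Nat.exists_eq_add_of_le hle
        exact key m j h
      · obtain ⟨j, rfl⟩ := Nat.exists_eq_add_of_le hle
        exact (key m' j h.symm).symm
    have hval : ∀ (σ : AlgebraicClosure k ≃ₐ[k] AlgebraicClosure k) (m : ℕ),
        (∀ y ∈ M, σ y = (π ^ m) y) → c (n σ) = c m := fun σ m h =>
      hwd _ _ ((hfix _ _ (hn σ)).2.symm.trans (hfix _ _ h).2)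
    refine ⟨⟨⟨fun σ => c (n σ), fun σ τ => ?_⟩, ?_⟩, ?_⟩
    · show c (n (σ * τ)) = c (n σ) * σ • c (n τ)
      rw [(hfix σ _ (hn σ)).1 _ (hcH _), ← hcadd]
      refine hval _ _ fun y hy => ?_
      have hy' : τ y ∈ M := by
        have := (AlgEquiv.restrictNormal τ M ⟨y, hy⟩).2
        rwa [show ((AlgEquiv.restrictNormal τ M ⟨y, hy⟩ : M) : AlgebraicClosure k) = τ y from
          AlgEquiv.restrictNormal_commutes τ M ⟨y, hy⟩] at this
      rw [AlgEquiv.mul_apply, hn σ _ hy', hn τ _ hy, pow_add, AlgEquiv.mul_apply]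
    · rw [IsLocallyConstant.iff_isOpen_fiber]
      intro b
      rw [isOpen_iff_forall_mem_open]
      intro σ hσ
      refine ⟨(fun t => σ⁻¹ * t) ⁻¹' (M.fixingSubgroup : Set _), fun t ht => ?_,
        M.fixingSubgroup_isOpen.preimage (continuous_const_mul _), by simp [Subgroup.one_mem]⟩
      show c (n t) = b
      rw [← hσ]
      show c (n t) = c (n σ)
      refine hval _ _ fun y hy => ?_
      have h2 := (IntermediateField.mem_fixingSubgroup_iff _ _).1 ht y hy
      rw [AlgEquiv.mul_apply] at h2
      rw [← hn σ y hy]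
      exact (σ.symm_apply_eq).1 h2
    · show c (n π) = a
      rw [hval π 1 (fun y _ => by rw [pow_one])]
      simp [c]
  · rw [GpH1.OneCocycleLC.cl_eq_cl_iff]
    constructor
    · rintro ⟨g, hg⟩
      refine ⟨g, ?_⟩
      rw [hg π]
      group
    · rintro ⟨g, hg⟩
      let w : GpH1.OneCocycleLC (AlgebraicClosure k ≃ₐ[k] AlgebraicClosure k) A :=
        ⟨⟨fun σ => g⁻¹ * z'.1 σ * σ • g, fun σ τ => by
          show g⁻¹ * z'.1 (σ * τ) * (σ * τ) • g = g⁻¹ * z'.1 σ * σ • g * σ • (g⁻¹ * z'.1 τ * τ • g)
          rw [z'.1.2 σ τ, smul_mul', smul_mul', smul_inv', smul_smul]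
          group⟩,
         ((IsLocallyConstant.const g⁻¹).mul z'.2).mul (hsmul_lc g)⟩
      have hzw : z = w := by
        refine hinj z w ?_
        show z.1 π = g⁻¹ * z'.1 π * π • g
        rw [hg]
        group
      exact ⟨g, fun σ => congrArg (fun v => v.1.1 σ) hzw⟩

end Groth.Agent.S14195
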