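import Groth.Statements.S14197
import Groth.Agent.Stk19b.Count.Classify

set_option autoImplicit false
universe u
open CategoryTheory MonoidalCategory CartesianMonoidalCategory AlgebraicGeometry
open StackCount

set_option backward.isDefEq.respectTransparency.types false
set_option backward.isDefEq.respectTransparency false

namespace Groth.Agent.S14197


/-- Let k be a finite field with algebraic closure k̄, G a smooth affine algebraic group over k acting
on a variety X over k, [X/G] the quotient stack of G-torsors (schemes, locally trivial for the étale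
topology) with an equivariant morphism to X, and k' ⊆ k̄ a subfield finite over k; write T̄ = Spec
k̄ and T' = Spec k' over Spec k, with ι : T̄ → T' the structure map. Let A be an object of [X/G]
over T̄, t a section of its torsor and x = t φ_A the corresponding k̄-point of X. Then A has a model
over k' — there are an object B of [X/G] over T' and a morphism A → B of [X/G] lying over ι (so A is
the pull-back of B) — if and only if the G(k̄)-orbit of x is fixed by Gal(k̄/k'): for every
k'-algebra automorphism σ of k̄, with s : T̄ → T̄ the induced morphism, there is g ∈ G(T̄) with g ·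
x = s x. (The published statement allows any smooth algebraic group G; this row takes G affine, so
that torsors are schemes. Together with the classification of the isomorphism classes over k̄ by
G(k̄)-orbits of k̄-points, this says that the class of A in G(k̄)∖X(k̄) has a representative defined
over k' exactly when it is Galois-fixed.) -/
theorem result (k : Type u) [Field k] [Finite k]
    (G : Over (Spec (CommRingCat.of k))) [GrpObj G] [Smooth G.hom] [IsAffineHom G.hom]
    (X : Over (Spec (CommRingCat.of k))) [LocallyOfFiniteType X.hom] [QuasiCompact X.hom]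
    [IsReduced X.left] (aX : AlgGrp.Action G X)
    (k' : IntermediateField k (AlgebraicClosure k)) [FiniteDimensional k k']
    (ι : (Over.mk (Spec.map (CommRingCat.ofHom (algebraMap k (AlgebraicClosure k)))) : Over (Spec (CommRingCat.of k))) ⟶ (Over.mk (Spec.map (CommRingCat.ofHom (algebraMap k k'))) : Over (Spec (CommRingCat.of k))))
    (hι : ι.left = Spec.map (CommRingCat.ofHom (algebraMap k' (AlgebraicClosure k))))
    (A : (AlgSt.QuotObj.forget Scheme.etalePrecoverage G aX).Fiber (Over.mk (Spec.map (CommRingCat.ofHom (algebraMap k (AlgebraicClosure k)))) : Over (Spec (CommRingCat.of k)))) (t : (Over.mk (Spec.map (CommRingCat.ofHom (algebraMap k (AlgebraicClosure k)))) : Over (Spec (CommRingCat.of k))) ⟶ A.1.P) (ht : t ≫ A.1.π = eqToHom A.2.symm) :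
    (∃ (B : AlgSt.QuotObj Scheme.etalePrecoverage G aX) (hB : B.base = (Over.mk (Spec.map (CommRingCat.ofHom (algebraMap k k'))) : Over (Spec (CommRingCat.of k))))
        (h : A.1 ⟶ B), h.base = eqToHom A.2 ≫ ι ≫ eqToHom hB.symm) ↔
    (∀ (σ : AlgebraicClosure k ≃ₐ[k'] AlgebraicClosure k) (s : (Over.mk (Spec.map (CommRingCat.ofHom (algebraMap k (AlgebraicClosure k)))) : Over (Spec (CommRingCat.of k))) ⟶ (Over.mk (Spec.map (CommRingCat.ofHom (algebraMap k (AlgebraicClosure k)))) : Over (Spec (CommRingCat.of k)))),
        s.left = Spec.map (CommRingCat.ofHom σ.toRingEquiv.toRingHom) →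
        ∃ g : (Over.mk (Spec.map (CommRingCat.ofHom (algebraMap k (AlgebraicClosure k)))) : Over (Spec (CommRingCat.of k))) ⟶ G,
          CartesianMonoidalCategory.lift g (t ≫ A.1.φ) ≫ aX.act = s ≫ t ≫ A.1.φ) := by
  let L := AlgebraicClosure k
  constructor
  · rintro ⟨B, hB, h, hb⟩ σ s hs
    have hsι : s ≫ ι = ι := by
      apply Over.OverMorphism.ext
      show s.left ≫ ι.left = ι.left
      rw [hs, hι, ← Spec.map_comp]
      congr 1
      ext x
      exact σ.commutes x
    have hπ : (s ≫ t ≫ h.top) ≫ B.π = (t ≫ h.top) ≫ B.π := by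
      simp only [Category.assoc, h.cart.w, hb, reassoc_of% ht]
      simp [reassoc_of% hsι]
    obtain ⟨g, hg, -⟩ := Stk19b.QuotTriv.existsUnique_smul B (t ≫ h.top) (s ≫ t ≫ h.top) hπ
    refine ⟨g, ?_⟩
    have : _ ≫ B.φ = _ ≫ B.φ := congrArg (· ≫ B.φ) hg
    rw [Stk19b.QuotTriv.comp_φ, Category.assoc, h.wφ, Category.assoc, Category.assoc, h.wφ] at this
    exact this
  · intro H
    haveI : Finite k' := Module.finite_of_finite k
    letI := Fintype.ofFinite k'
    haveI : Algebra.IsAlgebraic k' L := Algebra.IsAlgebraic.tower_top (K := k) k'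
    let π : L ≃ₐ[k'] L := FiniteField.frobeniusAlgEquivOfAlgebraic k' L
    let F : SGA7.pt (K := k) L ⟶ SGA7.pt (K := k) L := Stk19b.Count.frM k k' L
    obtain ⟨a, ha⟩ := H π F (by
      show (Stk19b.Count.frM k k' L).left = _
      rw [Stk19b.Count.frM]
      show Spec.map _ = Spec.map _
      congr 1)
    let q : Stk19b.Count.Pairs k' L aX := ⟨(a, t ≫ A.1.φ), ha.symm⟩
    obtain ⟨b, τ, hτ⟩ := Stk19b.Count.exists_obj k' L aX q
    have hB : b.1.base = SGA7.pt (K := k) k' := b.2
    obtain ⟨h1, hb1, -⟩ := Stk19b.QuotTriv.exists_hom_of_point A.1 t (eqToHom A.2.symm) ht (t ≫ A.1.φ) rfl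
    obtain ⟨h2, hb2, -⟩ := Stk19b.QuotTriv.exists_hom_of_point b.1 τ.t
      (Stk19b.Count.incl k k' L ≫ eqToHom hB.symm) (by rw [← τ.π_eq]; simp) (t ≫ A.1.φ) hτ
    haveI : IsIso h1.base := by rw [hb1]; infer_instance
    haveI := Stk19b.QuotTriv.isIso_of_base h1
    refine ⟨b.1, hB, inv h1 ≫ h2, ?_⟩
    have e : eqToHom A.2.symm ≫ (inv h1).base = 𝟙 _ := by
      rw [← hb1]
      exact congrArg AlgSt.QuotObj.Hom.base (IsIso.hom_inv_id h1)
    have e' : ι = Stk19b.Count.incl k k' L := Over.OverMorphism.ext (hι.trans (Stk19b.Count.incl_left k k' L).symm)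
    show (inv h1).base ≫ h2.base = _
    rw [← cancel_epi (eqToHom A.2.symm), reassoc_of% e, hb2, e']
    simp

end Groth.Agent.S14197
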