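import Groth.Statements.S14202
import Groth.Agent.ASBun8.Dual
-- import your own Groth.Agent.* helpers here

set_option autoImplicit false
set_option backward.isDefEq.respectTransparency.types false
universe u
open CategoryTheory CategoryTheory.Limits AlgebraicGeometry
open ASBun

namespace Groth.Agent.S14202

/-- Let X be a scheme proper over a field k, K an algebraic closure of k, e a K-isomorphism X_K ≅ P^n_K
with O_e(j) the pullback of O(j) along e, and j an integer. If W and W' are indecomposable finite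
locally free O_X-modules (nonzero, and in any decomposition as a direct sum one summand is zero)
with W_K ≅ O_e(j)^{⊕r} and W'_K ≅ O_e(−j)^{⊕r'} for some r, r' ≥ 1, then r = r': the indecomposable
modules of types O(j) and O(−j) have the same rank (W' is isomorphic to the dual of W). -/
theorem result (k : Type u) [Field k] {X : Scheme.{u}}
    (f : X ⟶ Spec (CommRingCat.of k)) [IsProper f] (n : ℕ)
    (K : Type u) [Field K] [Algebra k K] [IsAlgClosure k K] (e : BrSev.Splitting f K n) (j : ℤ)
    (W W' : X.Modules) (hW : FlatMod.IsFinLocFree W) (hW' : FlatMod.IsFinLocFree W')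
    (hWi : (¬ IsZero W ∧ ∀ M₁ M₂ : X.Modules, Nonempty (W ≅ M₁ ⊞ M₂) → IsZero M₁ ∨ IsZero M₂))
    (hW'i : (¬ IsZero W' ∧ ∀ M₁ M₂ : X.Modules, Nonempty (W' ≅ M₁ ⊞ M₂) → IsZero M₁ ∨ IsZero M₂))
    (r r' : ℕ) (hr : 0 < r) (hr' : 0 < r') (hWt : BrSev.IsTwPow e j r W)
    (hW't : BrSev.IsTwPow e (-j) r' W') : r = r' := by
  letI : X.Over (Spec (CommRingCat.of k)) := ⟨f⟩
  haveI : IsProper (X ↘ Spec (CommRingCat.of k)) := ‹IsProper f›
  letI : (BrSev.bc f K).Over (Spec (CommRingCat.of K)) := ⟨BrSev.bcTo f K⟩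
  haveI : IsProper (BrSev.bc f K ↘ Spec (CommRingCat.of K)) :=
    inferInstanceAs (IsProper (pullback.snd f (Spec.map (CommRingCat.ofHom (algebraMap k K)))))
  have h : IsPullback (BrSev.proj f K) (BrSev.bc f K ↘ Spec (CommRingCat.of K)) (X ↘ Spec (CommRingCat.of k))
      (Spec.map (CommRingCat.ofHom (algebraMap k K))) := IsPullback.of_hasPullback _ _
  haveI := ASBun8.irreducibleSpace_bc e
  have h0 : ∀ a : ℤ, PicLib.PicM.of (ASBun8.isInvertible_twist e (-a)) * PicLib.PicM.of (ASBun8.isInvertible_twist e a) = 1 := by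
    intro a
    rw [ASBun8.of_twist, ASBun8.of_twist, ASBun8.tX_add, neg_add_cancel, ASBun8.tX, ASBun8.tP_zero, map_one]
  obtain ⟨eW⟩ := hWt
  obtain ⟨eW'⟩ := hW't
  refine le_antisymm
    (ASBun8.isotypical_dual_le h hW' hW'i.1 hW hWi (ASBun8.isInvertible_twist e (-j)) (ASBun8.isInvertible_twist e j)
      ((mul_comm _ _).trans (h0 j)) eW' eW)
    (ASBun8.isotypical_dual_le h hW hWi.1 hW' hW'i (ASBun8.isInvertible_twist e j) (ASBun8.isInvertible_twist e (-j))
      (h0 j) eW eW')

end Groth.Agent.S14202
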