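import Groth.Statements.S14205
import Groth.Agent.CSA.PeriodPrimes
import Groth.Agent.CSA.IndexRank

set_option autoImplicit false
universe u v
open scoped TensorProduct
open Brauer

namespace Groth.Agent.S14205

/-- Let A be a finite-dimensional central simple algebra over a field k with period p: p is the least
positive integer for which the p-fold tensor power of A over k is a full matrix algebra over k. Then
for every r ≥ 1 the r-fold tensor power of A has period p / gcd(p, r) (the order of the r-th
multiple of an element of order p). -/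
theorem result (k : Type u) [Field k] (A : Type v) [Ring A] [Algebra k A]
    [Algebra.IsCentral k A] [IsSimpleRing A] [FiniteDimensional k A] (p : ℕ)
    (hp : CSAGal.IsPeriod k A p) (r : ℕ) (hr : 0 < r) :
    CSAGal.IsPeriod k (CSAGal.tpow k A r) (p / Nat.gcd p r) := by
  open Groth.Agent.CSA in
    haveI : IsCSA k A := {}
    have hg : 0 < Nat.gcd p r := Nat.gcd_pos_of_pos_right _ hr
    have hpos : 0 < p / Nat.gcd p r := Nat.div_pos (Nat.le_of_dvd hp.1 (Nat.gcd_dvd_left _ _)) hg
    refine (CSA.isPeriod_iff hpos).2 fun n => ?_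
    have h : BrEq k (TPow k (TPow k A r) n) k ↔ p ∣ r * n := by
      rw [← isPeriod_trivial_iff_dvd hp (r * n)]
      exact ⟨fun h => (BrEq.tpow_mul A r n).symm.trans h, fun h => (BrEq.tpow_mul A r n).trans h⟩
    refine h.trans ⟨fun hd => ?_, fun hd => ?_⟩
    · obtain ⟨p', hp'⟩ := Nat.gcd_dvd_left p r
      obtain ⟨r', hr'⟩ := Nat.gcd_dvd_right p r
      have hcop := Nat.coprime_div_gcd_div_gcd hg (m := p) (n := r)
      refine hcop.dvd_of_dvd_mul_left ?_
      rw [← Nat.mul_dvd_mul_iff_left hg, ← mul_assoc, Nat.mul_div_cancel' (Nat.gcd_dvd_left _ _),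
        Nat.mul_div_cancel' (Nat.gcd_dvd_right _ _)]
      exact hd
    · obtain ⟨c, rfl⟩ := hd
      obtain ⟨r', hr'⟩ := Nat.gcd_dvd_right p r
      refine ⟨r' * c, ?_⟩
      calc r * (p / Nat.gcd p r * c) = (Nat.gcd p r * r') * (p / Nat.gcd p r * c) := by rw [← hr']
        _ = (Nat.gcd p r * (p / Nat.gcd p r)) * (r' * c) := by ring
        _ = p * (r' * c) := by rw [Nat.mul_div_cancel' (Nat.gcd_dvd_left p r)]
end Groth.Agent.S14205
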