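import Groth.Statements.S14207
import Groth.Agent.ASBun8.SBMultCor
-- import your own Groth.Agent.* helpers here

set_option autoImplicit false
set_option backward.isDefEq.respectTransparency.types false
universe u
open CategoryTheory CategoryTheory.Limits AlgebraicGeometry
open ASBun

namespace Groth.Agent.S14207

/-- Let A be a central simple algebra of degree n ≥ 1 over a field k (of dimension n² over k), X a
proper k-scheme which is the Severi–Brauer scheme of A (for every commutative k-algebra R its
R-points over k are, naturally in R, the left ideals of R ⊗_k A with projective quotient of rank n²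
− n), K an algebraic closure of k and e a K-isomorphism X_K ≅ P^{n−1}_K, along which O_e(j) denotes
the pullback of the twisting sheaf O(j); suppose the degree n is a prime number and A is not split
(not isomorphic over k to a full matrix algebra over k). Let W be an indecomposable finite locally
free O_X-module (nonzero, and in any decomposition as a direct sum one summand is zero) with W_K ≅
O_e(j)^{⊕r}, r ≥ 1, for an integer j. Then r = n / gcd(n, |j|), that is r = 1 when n divides j and r
= n otherwise: all non-split Severi–Brauer varieties of dimension n − 1 with n prime have the same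
multiplicities, 1 for j divisible by n and n otherwise; for n = 2, on a non-split conic the
indecomposable module of type O(j) has rank 1 for j even and 2 for j odd. -/
theorem result (k : Type u) [Field k] (A : Type u) [Ring A] [Algebra k A]
    [Algebra.IsCentral k A] [IsSimpleRing A] (n : ℕ) (hn : 0 < n)
    (hA : Module.finrank k A = n * n) {X : Scheme.{u}} (f : X ⟶ Spec (CommRingCat.of k))
    [IsProper f] (hX : BrSev.IsSBOf k A (n * n - n) f)
    (K : Type u) [Field K] [Algebra k K] [IsAlgClosure k K] (e : BrSev.Splitting f K (n - 1))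
    (hq : n.Prime) (hns : ¬ Curves.Splits k A k)
    (W : X.Modules) (hW : FlatMod.IsFinLocFree W)
    (hWi : (¬ IsZero W ∧ ∀ M₁ M₂ : X.Modules, Nonempty (W ≅ M₁ ⊞ M₂) → IsZero M₁ ∨ IsZero M₂))
    (j : ℤ) (r : ℕ) (hr : 0 < r) (hWt : BrSev.IsTwPow e j r W) :
    r = n / Nat.gcd n j.natAbs := by
  obtain ⟨m, rfl⟩ : ∃ m, n = m + 1 := ⟨n - 1, by omega⟩
  haveI : FiniteDimensional k A := FiniteDimensional.of_finrank_pos (by rw [hA]; positivity)
  haveI : CSA.IsCSA k A := {}
  have hns' : ¬ CSA.BrEq k A k := fun h => hns ((CSA.splits_self_iff_brEq A).2 h)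
  obtain ⟨d, hd⟩ := CSA.exists_isIndex (k := k) A
  have hdn : d = m + 1 := (hq.eq_one_or_self_of_dvd d (CSA.isIndex_dvd_degree hd (by rw [hA, sq]))).resolve_left
    fun h1 => hns' (CSA.isIndex_one_iff.1 (h1 ▸ hd))
  obtain ⟨q, hq'⟩ := CSA.exists_isPeriod (k := k) A
  have hqn : q = m + 1 := (hq.eq_one_or_self_of_dvd q (hdn ▸ CSA.isPeriod_dvd_index hq' hd)).resolve_left
    fun h1 => hns' ((CSA.BrEq.of_algEquiv k (CSA.tpowOne k A)).symm.trans
      ((CSA.isPeriod_trivial_iff_dvd hq' 1).2 (by rw [h1])))
  exact ASBun8.mult_eq_div_gcd (K := K) (m := m) f e hA hX (hqn ▸ hq') (hdn ▸ hd) hW hWi hr hWt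

end Groth.Agent.S14207
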