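import Groth.Statements.S14208
import Groth.Agent.ASBun8.SBMultCor
-- import your own Groth.Agent.* helpers here

set_option autoImplicit false
set_option backward.isDefEq.respectTransparency.types false
universe u
open CategoryTheory CategoryTheory.Limits AlgebraicGeometry
open ASBun

namespace Groth.Agent.S14208

/-- Let A and B be central simple algebras of degrees n, n' ≥ 1 over a field k which generate the same
subgroup of the Brauer group: for some i a matrix algebra of positive size over the i-fold tensor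
power of A is k-isomorphic to a matrix algebra of positive size over B, and symmetrically for some
i'. Let X and Y be proper k-schemes which are the Severi–Brauer schemes of A and of B (R-points =
left ideals of R ⊗_k A, resp. R ⊗_k B, with projective quotient of rank n² − n, resp. n'² − n'), K
an algebraic closure of k with K-isomorphisms e : X_K ≅ P^{n−1}_K and e' : Y_K ≅ P^{n'−1}_K, and j
an integer. If W on X and W' on Y are indecomposable finite locally free modules (nonzero, and in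
any decomposition as a direct sum one summand is zero) with W_K ≅ O_e(j)^{⊕r} and W'_K ≅
O_{e'}(j)^{⊕r'}, r, r' ≥ 1, then r = r' (for every integer j the indecomposable modules of type O(j)
on X and on Y have the same multiplicity). In particular this holds when A and B are Brauer
equivalent. -/
theorem result (k : Type u) [Field k]
    (A : Type u) [Ring A] [Algebra k A] [Algebra.IsCentral k A] [IsSimpleRing A]
    (B : Type u) [Ring B] [Algebra k B] [Algebra.IsCentral k B] [IsSimpleRing B]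
    (n n' : ℕ) (hn : 0 < n) (hn' : 0 < n')
    (hA : Module.finrank k A = n * n) (hB : Module.finrank k B = n' * n')
    (i i' m₁ m₂ m₁' m₂' : ℕ) (hm₁ : 0 < m₁) (hm₂ : 0 < m₂) (hm₁' : 0 < m₁') (hm₂' : 0 < m₂')
    (h₁ : Nonempty (Matrix (Fin m₁) (Fin m₁) (CSAGal.tpow k A i) ≃ₐ[k] Matrix (Fin m₂) (Fin m₂) B))
    (h₂ : Nonempty (Matrix (Fin m₁') (Fin m₁') (CSAGal.tpow k B i') ≃ₐ[k] Matrix (Fin m₂') (Fin m₂') A))
    {X Y : Scheme.{u}} (f : X ⟶ Spec (CommRingCat.of k)) (g : Y ⟶ Spec (CommRingCat.of k))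
    [IsProper f] [IsProper g]
    (hX : BrSev.IsSBOf k A (n * n - n) f) (hY : BrSev.IsSBOf k B (n' * n' - n') g)
    (K : Type u) [Field K] [Algebra k K] [IsAlgClosure k K]
    (e : BrSev.Splitting f K (n - 1)) (e' : BrSev.Splitting g K (n' - 1)) (j : ℤ)
    (W : X.Modules) (W' : Y.Modules) (hW : FlatMod.IsFinLocFree W) (hW' : FlatMod.IsFinLocFree W')
    (hWi : (¬ IsZero W ∧ ∀ M₁ M₂ : X.Modules, Nonempty (W ≅ M₁ ⊞ M₂) → IsZero M₁ ∨ IsZero M₂))
    (hW'i : (¬ IsZero W' ∧ ∀ M₁ M₂ : Y.Modules, Nonempty (W' ≅ M₁ ⊞ M₂) → IsZero M₁ ∨ IsZero M₂))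
    (r r' : ℕ) (hr : 0 < r) (hr' : 0 < r')
    (hWt : BrSev.IsTwPow e j r W) (hW't : BrSev.IsTwPow e' j r' W') : r = r' := by
  obtain ⟨m, rfl⟩ : ∃ m, n = m + 1 := ⟨n - 1, by omega⟩
  obtain ⟨m', rfl⟩ : ∃ m', n' = m' + 1 := ⟨n' - 1, by omega⟩
  haveI : FiniteDimensional k A := FiniteDimensional.of_finrank_pos (by rw [hA]; positivity)
  haveI : FiniteDimensional k B := FiniteDimensional.of_finrank_pos (by rw [hB]; positivity)
  haveI : CSA.IsCSA k A := {}
  haveI : CSA.IsCSA k B := {}
  have hd := ASBun8.isIndex_mult (K := K) (m := m) f e hA hX hW hWi hr hWt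
  have hd' := ASBun8.isIndex_mult (K := K) (m := m') g e' hB hY hW' hW'i hr' hW't
  obtain ⟨a₁⟩ := h₁
  obtain ⟨a₂⟩ := h₂
  have hAB : CSA.BrEq k (CSA.TPow k A i) B := ((CSA.BrEq.matrix k _ hm₁.ne').trans
    (CSA.BrEq.of_algEquiv k a₁)).trans (CSA.BrEq.matrix k B hm₂.ne').symm
  have hBA : CSA.BrEq k (CSA.TPow k B i') A := ((CSA.BrEq.matrix k _ hm₁'.ne').trans
    (CSA.BrEq.of_algEquiv k a₂)).trans (CSA.BrEq.matrix k A hm₂'.ne').symm
  refine Nat.dvd_antisymm (CSA.isIndex_tpow_dvd hd' i' (CSA.isIndex_congr ?_ hd))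
    (CSA.isIndex_tpow_dvd hd i (CSA.isIndex_congr ?_ hd'))
  · exact ((hBA.tpow j.natAbs).symm.trans (CSA.BrEq.tpow_mul B i' j.natAbs)).trans
      ((CSA.brEq_tpow_of_eq (mul_comm _ _)).trans (CSA.BrEq.tpow_mul B j.natAbs i').symm)
  · exact ((hAB.tpow j.natAbs).symm.trans (CSA.BrEq.tpow_mul A i j.natAbs)).trans
      ((CSA.brEq_tpow_of_eq (mul_comm _ _)).trans (CSA.BrEq.tpow_mul A j.natAbs i).symm)

end Groth.Agent.S14208
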