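import Groth.Statements.S14209
import Groth.Agent.BrSev28.Split
import Groth.Agent.CSA.Splitting

set_option autoImplicit false
universe u
open CategoryTheory CategoryTheory.Limits AlgebraicGeometry
open BrSev

namespace Groth.Agent.S14209

/-- In the case d = 1 of the generalized Severi–Brauer schemes BS(d, A), let A be a central simple
algebra of degree n ≥ 1 over a field k and X a k-scheme which is the Severi–Brauer scheme of A: for
every commutative k-algebra R, its R-points over k are identified, naturally in R, with the left
ideals of R ⊗_k A whose quotient is projective of rank n² − n. Then X is split by a finite Galois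
extension: there are a finite Galois extension K of k and a K-isomorphism X_K ≅ P^{n−1}_K. In
particular X is a Severi–Brauer variety of dimension n − 1 (the scheme of rank-n left ideals of A is
the Severi–Brauer variety of A). -/
theorem result (k : Type u) [Field k] (A : Type u) [Ring A]
    [Algebra k A] [Algebra.IsCentral k A] [IsSimpleRing A] (n : ℕ) (hn : 0 < n)
    (hA : Module.finrank k A = n * n) {X : Scheme.{u}} (f : X ⟶ Spec (CommRingCat.of k))
    (hX : BrSev.IsSBOf k A (n * n - n) f) :
    ∃ (K : Type u) (_ : Field K) (_ : Algebra k K), FiniteDimensional k K ∧ IsGalois k K ∧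
      Nonempty (BrSev.Splitting f K (n - 1)) := by
  have : FiniteDimensional k A := FiniteDimensional.of_finrank_pos (by rw [hA]; positivity)
  obtain ⟨m, rfl⟩ := Nat.exists_eq_add_one.2 hn
  obtain ⟨L, _, _, _, _, r, _, hr, ⟨e⟩⟩ := CSA.exists_finite_separable_splitting (k := k) A
  have hr' : r = m + 1 := Nat.mul_self_inj.1 (by rw [← hA, ← hr, sq])
  subst hr'
  have : IsGalois k (SeparableClosure L) :=
    haveI := Algebra.IsSeparable.trans k L (SeparableClosure L)
    haveI : IsSepClosure k (SeparableClosure L) := ⟨inferInstance, inferInstance⟩
    IsSepClosure.isGalois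
  let K := IntermediateField.normalClosure k L (SeparableClosure L)
  let ψ : (TensorProduct k K A) ≃ₐ[K] Matrix (Fin (m + 1)) (Fin (m + 1)) K :=
    AlgEquiv.ofBijective (BrSev28.splitMap e K) (BrSev28.splitMap_bijective e K)
  obtain ⟨σ⟩ := hX
  exact ⟨K, inferInstance, inferInstance, inferInstance, inferInstance, BrSev28.splitting_of_split ψ σ⟩
end Groth.Agent.S14209
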