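import Groth.Statements.S14211
import Mathlib
import Groth.Agent.Quat28.Basic

set_option autoImplicit false
universe u v
open scoped TensorProduct
open Brauer

open Groth.Agent
namespace Groth.Agent.S14211

/-- Let k be a field in which 2 ≠ 0 and A a finite-dimensional central simple k-algebra. Then A has
period 2 and index 2 (its Severi–Brauer variety has type (2, 2, 2m)) if and only if A is isomorphic
over k to a matrix algebra M_m(Q), m ≥ 1, over a quaternion algebra Q = (a, b)_k (the k-algebra with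
basis 1, i, j, ij, i² = a, j² = b, ij = −ji) which is a division ring; moreover such a quaternion
algebra is unique up to k-isomorphism. -/
theorem result (k : Type u) [Field k] (h2 : (2 : k) ≠ 0)
    (A : Type v) [Ring A] [Algebra k A] [Algebra.IsCentral k A] [IsSimpleRing A]
    [FiniteDimensional k A] :
    ((CSAGal.IsPeriod k A 2 ∧ CSAGal.IsIndex k A 2) ↔
      ∃ (a b : k) (m : ℕ), 0 < m ∧ (∀ x : QuaternionAlgebra k a 0 b, x ≠ 0 → IsUnit x) ∧
        Nonempty (A ≃ₐ[k] Matrix (Fin m) (Fin m) (QuaternionAlgebra k a 0 b))) ∧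
    (∀ (a b a' b' : k) (m m' : ℕ),
      (∀ x : QuaternionAlgebra k a 0 b, x ≠ 0 → IsUnit x) →
      (∀ x : QuaternionAlgebra k a' 0 b', x ≠ 0 → IsUnit x) →
      Nonempty (A ≃ₐ[k] Matrix (Fin m) (Fin m) (QuaternionAlgebra k a 0 b)) →
      Nonempty (A ≃ₐ[k] Matrix (Fin m') (Fin m') (QuaternionAlgebra k a' 0 b')) →
      Nonempty (QuaternionAlgebra k a 0 b ≃ₐ[k] QuaternionAlgebra k a' 0 b')) := by
  haveI : CSA.IsCSA k A := {}
  refine ⟨⟨fun ⟨_, hI⟩ => ?_, fun ⟨a, b, m, hm, hdiv, ⟨e⟩⟩ => ?_⟩, ?_⟩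
  · obtain ⟨-, m, D, _, _, _, hm, hfin, -, ⟨e⟩⟩ := CSA.isIndex_data hI
    obtain ⟨a, b, ⟨q⟩⟩ := Quat28.exists_quaternion_of_division h2 D (hfin.trans (by norm_num))
    refine ⟨a, b, m, hm, fun x hx => ?_, ⟨e.trans q.symm.mapMatrix⟩⟩
    have h1 : IsUnit (q x) := isUnit_iff_ne_zero.2 ((map_ne_zero_iff _ q.injective).2 hx)
    simpa using h1.map q.symm
  · haveI : NeZero m := ⟨hm.ne'⟩
    haveI : CSA.IsCSA k (Matrix (Fin m) (Fin m) (QuaternionAlgebra k a 0 b)) := CSA.IsCSA.congr e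
    haveI : CSA.IsCSA k (QuaternionAlgebra k a 0 b) := CSA.IsCSA.of_matrix m
    letI : DivisionRing (QuaternionAlgebra k a 0 b) :=
      DivisionRing.ofIsUnitOrEqZero fun x => (em (x = 0)).elim Or.inr fun h => Or.inl (hdiv x h)
    have hbr : CSA.BrEq k A (QuaternionAlgebra k a 0 b) :=
      (CSA.BrEq.of_algEquiv k e).trans (CSA.BrEq.matrix k _ hm.ne').symm
    have hI : CSAGal.IsIndex k A 2 :=
      CSA.isIndex_of_brEq_division two_pos (QuaternionAlgebra.finrank_eq_four a 0 b) hbr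
    exact ⟨Quat28.isPeriod_two hI a b hbr, hI⟩
  · intro a b a' b' m m' hd hd' ⟨e⟩ ⟨e'⟩
    haveI : NeZero m := ⟨fun h => by
      subst h
      haveI : Nontrivial A := inferInstance
      exact not_subsingleton A e.toEquiv.subsingleton⟩
    haveI : NeZero m' := ⟨fun h => by
      subst h
      haveI : Nontrivial A := inferInstance
      exact not_subsingleton A e'.toEquiv.subsingleton⟩
    haveI : CSA.IsCSA k (Matrix (Fin m) (Fin m) (QuaternionAlgebra k a 0 b)) := CSA.IsCSA.congr e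
    haveI : CSA.IsCSA k (QuaternionAlgebra k a 0 b) := CSA.IsCSA.of_matrix m
    haveI : CSA.IsCSA k (Matrix (Fin m') (Fin m') (QuaternionAlgebra k a' 0 b')) := CSA.IsCSA.congr e'
    haveI : CSA.IsCSA k (QuaternionAlgebra k a' 0 b') := CSA.IsCSA.of_matrix m'
    letI : DivisionRing (QuaternionAlgebra k a 0 b) :=
      DivisionRing.ofIsUnitOrEqZero fun x => (em (x = 0)).elim Or.inr fun h => Or.inl (hd x h)
    letI : DivisionRing (QuaternionAlgebra k a' 0 b') :=
      DivisionRing.ofIsUnitOrEqZero fun x => (em (x = 0)).elim Or.inr fun h => Or.inl (hd' x h)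
    exact CSA.BrEq.algEquiv_of_division
      (((CSA.BrEq.of_algEquiv k e).trans (CSA.BrEq.matrix k _ (NeZero.ne m)).symm).symm.trans
        ((CSA.BrEq.of_algEquiv k e').trans (CSA.BrEq.matrix k _ (NeZero.ne m')).symm))
end Groth.Agent.S14211
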