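import Groth.Statements.S14214
import Groth.Agent.ASBun8.AmitsurApps
-- import your own Groth.Agent.* helpers here

set_option autoImplicit false
set_option backward.isDefEq.respectTransparency.types false
universe u
open CategoryTheory CategoryTheory.Limits AlgebraicGeometry
open ASBun

namespace Groth.Agent.S14214

/-- Let A and B be central simple algebras of degrees n, n' ≥ 1 over a field k, and X, Y proper
k-schemes which are the Severi–Brauer schemes of A and of B (R-points = left ideals of R ⊗_k A,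
resp. R ⊗_k B, with projective quotient of rank n² − n, resp. n'² − n', naturally in R). Suppose X
and Y are birational over k: there are nonempty open subschemes U ⊆ X and V ⊆ Y and an isomorphism U
≅ V compatible with the structure morphisms to Spec k. Let K be an algebraic closure of k with
K-isomorphisms e : X_K ≅ P^{n−1}_K and e' : Y_K ≅ P^{n'−1}_K, and j an integer. If W on X and W' on
Y are indecomposable finite locally free modules (nonzero, and in any decomposition as a direct sum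
one summand is zero) with W_K ≅ O_e(j)^{⊕r} and W'_K ≅ O_{e'}(j)^{⊕r'}, r, r' ≥ 1, then r = r'
(birational Severi–Brauer varieties have, for every integer j, indecomposable modules of type O(j)
of the same multiplicity). -/
theorem result (k : Type u) [Field k]
    (A : Type u) [Ring A] [Algebra k A] [Algebra.IsCentral k A] [IsSimpleRing A]
    (B : Type u) [Ring B] [Algebra k B] [Algebra.IsCentral k B] [IsSimpleRing B]
    (n n' : ℕ) (hn : 0 < n) (hn' : 0 < n')
    (hA : Module.finrank k A = n * n) (hB : Module.finrank k B = n' * n')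
    {X Y : Scheme.{u}} (f : X ⟶ Spec (CommRingCat.of k)) (g : Y ⟶ Spec (CommRingCat.of k))
    [IsProper f] [IsProper g]
    (hX : BrSev.IsSBOf k A (n * n - n) f) (hY : BrSev.IsSBOf k B (n' * n' - n') g)
    (U : X.Opens) (V : Y.Opens) (hU : Nonempty ↥U) (hV : Nonempty ↥V)
    (φ : (U : Scheme.{u}) ≅ (V : Scheme.{u})) (hφ : φ.hom ≫ V.ι ≫ g = U.ι ≫ f)
    (K : Type u) [Field K] [Algebra k K] [IsAlgClosure k K]
    (e : BrSev.Splitting f K (n - 1)) (e' : BrSev.Splitting g K (n' - 1)) (j : ℤ)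
    (W : X.Modules) (W' : Y.Modules) (hW : FlatMod.IsFinLocFree W) (hW' : FlatMod.IsFinLocFree W')
    (hWi : (¬ IsZero W ∧ ∀ M₁ M₂ : X.Modules, Nonempty (W ≅ M₁ ⊞ M₂) → IsZero M₁ ∨ IsZero M₂))
    (hW'i : (¬ IsZero W' ∧ ∀ M₁ M₂ : Y.Modules, Nonempty (W' ≅ M₁ ⊞ M₂) → IsZero M₁ ∨ IsZero M₂))
    (r r' : ℕ) (hr : 0 < r) (hr' : 0 < r')
    (hWt : BrSev.IsTwPow e j r W) (hW't : BrSev.IsTwPow e' j r' W') : r = r' := by
  obtain ⟨m, rfl⟩ : ∃ m, n = m + 1 := ⟨n - 1, by omega⟩
  obtain ⟨m', rfl⟩ : ∃ m', n' = m' + 1 := ⟨n' - 1, by omega⟩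
  haveI : FiniteDimensional k A := FiniteDimensional.of_finrank_pos (by rw [hA]; positivity)
  haveI : FiniteDimensional k B := FiniteDimensional.of_finrank_pos (by rw [hB]; positivity)
  haveI : CSA.IsCSA k A := {}
  haveI : CSA.IsCSA k B := {}
  have hd := ASBun8.isIndex_mult (K := K) (m := m) f e hA hX hW hWi hr hWt
  have hd' := ASBun8.isIndex_mult (K := K) (m := m') g e' hB hY hW' hW'i hr' hW't
  have hφ' : φ.inv ≫ U.ι ≫ f = V.ι ≫ g := (Iso.inv_comp_eq φ).2 hφ.symm
  obtain ⟨i, hAB⟩ := ASBun8.Amitsur.exists_brEq_tpow_of_birational hA hB hX hY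
    (fun _ => Set.nonempty_coe_sort.1 hU) φ.hom hφ
  obtain ⟨i', hBA⟩ := ASBun8.Amitsur.exists_brEq_tpow_of_birational hB hA hY hX
    (fun _ => Set.nonempty_coe_sort.1 hV) φ.inv hφ'
  refine Nat.dvd_antisymm (CSA.isIndex_tpow_dvd hd' i' (CSA.isIndex_congr ?_ hd))
    (CSA.isIndex_tpow_dvd hd i (CSA.isIndex_congr ?_ hd'))
  · exact ((hBA.tpow j.natAbs).trans (CSA.BrEq.tpow_mul B i' j.natAbs)).trans
      ((CSA.brEq_tpow_of_eq (mul_comm _ _)).trans (CSA.BrEq.tpow_mul B j.natAbs i').symm)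
  · exact ((hAB.tpow j.natAbs).trans (CSA.BrEq.tpow_mul A i j.natAbs)).trans
      ((CSA.brEq_tpow_of_eq (mul_comm _ _)).trans (CSA.BrEq.tpow_mul A j.natAbs i).symm)

end Groth.Agent.S14214
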