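import Groth.Statements.S14217
import Groth.Agent.ASBun8.IndexTwo
import Groth.Agent.SplitP1.Decomp
import Groth.Agent.KModel28.Basic
-- import your own Groth.Agent.* helpers here

set_option autoImplicit false
set_option backward.isDefEq.respectTransparency.types false
universe u
open CategoryTheory CategoryTheory.Limits AlgebraicGeometry
open ASBun

namespace Groth.Agent.S14217

/-- Let A be a non-split central simple algebra of degree 2 over a field k (of dimension 4 and not
isomorphic to the 2 × 2 matrices over k), X a proper k-scheme which is the Severi–Brauer scheme of A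
(for every commutative k-algebra R its R-points over k are, naturally in R, the left ideals of R ⊗_k
A with projective quotient of rank 2), so that X is a conic without rational point, K an algebraic
closure of k and e a K-isomorphism X_K ≅ P^1_K, with O_e(j) the pullback of O(j) along e. Then every
finite locally free O_X-module E decomposes as E ≅ (L_1 ⊕ ⋯ ⊕ L_s) ⊕ (M_1 ⊕ ⋯ ⊕ M_t) with each L_i
invertible and (L_i)_K ≅ O_e(2a_i), and each M_i indecomposable finite locally free (nonzero, and in
any decomposition as a direct sum one summand is zero) of rank 2 with (M_i)_K ≅ O_e(2b_i + 1)^{⊕2},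
for integers a_i, b_i. (The published statement writes the invertible summands as tensor powers of
the canonical module, which is such an L with (L)_K ≅ O(−2), and records uniqueness of the summands,
which is Krull–Schmidt and not restated here.) -/
theorem result (k : Type u) [Field k] (A : Type u) [Ring A]
    [Algebra k A] [Algebra.IsCentral k A] [IsSimpleRing A] (hA : Module.finrank k A = 4)
    (hns : ¬ Curves.Splits k A k) {X : Scheme.{u}} (f : X ⟶ Spec (CommRingCat.of k))
    [IsProper f] (hX : BrSev.IsSBOf k A 2 f)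
    (K : Type u) [Field K] [Algebra k K] [IsAlgClosure k K] (e : BrSev.Splitting f K 1)
    (E : X.Modules) (hE : FlatMod.IsFinLocFree E) :
    ∃ (s t : ℕ) (Ls : Fin s → X.Modules) (Ms : Fin t → X.Modules) (a : Fin s → ℤ) (b : Fin t → ℤ),
      (∀ i, PicF.IsInvertible (Ls i) ∧ BrSev.IsTwPow e (2 * a i) 1 (Ls i)) ∧
      (∀ i, FlatMod.IsFinLocFree (Ms i) ∧
        (¬ IsZero (Ms i) ∧ ∀ M₁ M₂ : X.Modules, Nonempty ((Ms i) ≅ M₁ ⊞ M₂) → IsZero M₁ ∨ IsZero M₂) ∧
        BrSev.IsTwPow e (2 * b i + 1) 2 (Ms i)) ∧
      Nonempty (E ≅ (∐ Ls) ⊞ (∐ Ms)) := by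
  classical
  haveI : FiniteDimensional k A := FiniteDimensional.of_finrank_pos (by omega)
  haveI : CSA.IsCSA k A := {}
  have hns' : ¬ CSA.BrEq k A k := fun h => hns ((CSA.splits_self_iff_brEq A).2 h)
  obtain ⟨d, hd⟩ := CSA.exists_isIndex (k := k) A
  have hd2 : d = 2 := (Nat.prime_two.eq_one_or_self_of_dvd d (CSA.isIndex_dvd_degree hd (by rw [hA]; norm_num))).resolve_left
    fun h1 => hns' (CSA.isIndex_one_iff.1 (h1 ▸ hd))
  haveI := CurveLib.isIntegral_projSpace K 1
  let E' := (Scheme.Modules.pullback e.iso.inv).obj (BrSev.bcMod f K E)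
  obtain ⟨r, hr⟩ := KModel28.exists_rank (FlatMorAdm.isFinLocFree_pullback e.iso.inv (FlatMorAdm.isFinLocFree_pullback (BrSev.proj f K) hE))
  obtain ⟨ds, ⟨-, ⟨w⟩⟩, -⟩ := SplitP1.existsUnique_splitting r E' hr
  let hsplit : BrSev.bcMod f K E ≅ ∐ fun i : Fin r => e.twist (ds i) :=
    ((Scheme.Modules.pullbackId _).app _).symm ≪≫ (Scheme.Modules.pullbackCongr e.iso.hom_inv_id.symm).app _ ≪≫
      ((Scheme.Modules.pullbackComp e.iso.hom e.iso.inv).app _).symm ≪≫ (Scheme.Modules.pullback e.iso.hom).mapIso w ≪≫
      ASBun8.pullbackSigma e.iso.hom _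
  exact ASBun8.exists_decomposition_index_two (K := K) (m := 1) f e (A := A) (hA.trans (by norm_num)) hX (hd2 ▸ hd) hE
    (fun i : Fin r => e.twist (ds i)) (fun i => ASBun8.isInvertible_twist e _) hsplit

end Groth.Agent.S14217
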