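import Groth.Statements.S1424
import Groth.Agent.FlatMorWeight.IntegralLevels

set_option autoImplicit false
universe u
open FlatMor

namespace Groth.Agent.S1424

open AlgebraicGeometry CategoryTheory Limits in
/-- Let f be locally quasi-finite and of finite presentation and w a weighting of f. Then every level
set of the fibre integral of w along f is locally constructible in Y. -/
theorem result {X Y : Scheme.{u}} (f : X ⟶ Y) [LocallyQuasiFinite f] [LocallyOfFinitePresentation f] [QuasiCompact f] [QuasiSeparated f]
    (w : ↑X → ℤ) (hw : MoreMor.IsWeighting f w) (n : ℤ) :
    Topology.IsLocallyConstructible {y : ↑Y | MoreMor.fibreIntegral f w y = n} := by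
  exact Groth.Agent.FlatMorWeight.isLocallyConstructible_integral_level hw n

end Groth.Agent.S1424
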