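import Groth.Statements.S14253
import Groth.Agent.Frob15.PerfectHomeo
-- import your own Groth.Agent.* helpers here

set_option autoImplicit false
universe u
open CategoryTheory AlgebraicGeometry
open PerfSch

namespace Groth.Agent.S14253

set_option backward.isDefEq.respectTransparency false in
/-- A universal homeomorphism f : X ⟶ Y between perfect schemes of prime characteristic p (on every open
of X and of Y, p = 0 in the ring of sections and the p-th power map is bijective) is an isomorphism. -/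
theorem result (p : ℕ) [Fact p.Prime] {X Y : Scheme.{u}} (f : X ⟶ Y)
    (hX : PerfSch.IsPerfect p X) (hY : PerfSch.IsPerfect p Y) (hf : FlatMor.IsUnivHomeo f) : IsIso f := by
  haveI := Groth.Agent.UnivHomeo.universallyClosed_of_isUnivHomeo hf
  have hh : IsHomeomorph f := hf (𝟙 X) (𝟙 Y) f (IsPullback.of_vert_isIso ⟨by simp⟩)
  haveI : IsAffineHom f := isAffineHom_of_isInducing f hh.isEmbedding.isInducing
    (by rw [hh.surjective.range_eq]; exact isClosed_univ)
  refine IsZariskiLocalAtTarget.of_iSup_eq_top (P := MorphismProperty.isomorphisms Scheme)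
    (fun U : Y.affineOpens => U.1) (iSup_affineOpens_eq_top Y) ?_
  rintro ⟨U, hU⟩
  change IsIso (f ∣_ U)
  rw [isIso_morphismRestrict_iff_isIso_app f hU]
  have hU' : IsAffineOpen (f ⁻¹ᵁ U) := hU.preimage f
  haveI : FlatMor.IsUnivHomeo.{u}.IsStableUnderBaseChange := by unfold FlatMor.IsUnivHomeo; infer_instance
  have h1 : FlatMor.IsUnivHomeo (f ∣_ U) :=
    MorphismProperty.of_isPullback (P := FlatMor.IsUnivHomeo) (isPullback_morphismRestrict f U).flip hf
  have h2 : FlatMor.IsUnivHomeo (Spec.map (CommRingCat.ofHom (f.app U).hom)) := by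
    haveI : FlatMor.IsUnivHomeo.{u}.RespectsIso := by unfold FlatMor.IsUnivHomeo; infer_instance
    exact ((FlatMor.IsUnivHomeo.{u}).arrow_mk_iso_iff
      (Arrow.isoMk hU'.isoSpec hU.isoSpec (by
        simp only [Arrow.mk_left, Arrow.mk_right, Arrow.mk_hom, IsAffineOpen.isoSpec_hom]
        simp only [Scheme.Opens.toSpecΓ, Category.assoc, CommRingCat.ofHom_hom]
        refine Eq.trans ?_ (Scheme.toSpecΓ_naturality_assoc (f ∣_ U) _).symm
        congr 1
        rw [← Spec.map_comp, ← Spec.map_comp, morphismRestrict_appTop]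
        simp [Scheme.Hom.app_eq_appLE, Scheme.Opens.topIso_inv, Scheme.Hom.appLE_map, Scheme.Hom.map_appLE]))).1 h1
  have hb : Function.Bijective (f.app U).hom := by
    obtain ⟨hint, hrad, hker⟩ := (Groth.Agent.UnivHomeo.isUnivHomeo_iff _).1 h2
    rcases subsingleton_or_nontrivial Γ(Y, U) with hs | hn
    · haveI : Subsingleton Γ(X, f ⁻¹ᵁ U) := subsingleton_of_zero_eq_one (by
        rw [← map_zero (f.app U).hom, ← map_one (f.app U).hom, Subsingleton.elim (0 : Γ(Y, U)) 1])
      exact ⟨fun a b _ => Subsingleton.elim a b, fun b => ⟨0, Subsingleton.elim _ _⟩⟩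
    · haveI : Nontrivial Γ(X, f ⁻¹ᵁ U) := by
        by_contra hn'
        rw [not_nontrivial_iff_subsingleton] at hn'
        obtain ⟨n, hn⟩ := hker (show (1 : Γ(Y, U)) ∈ RingHom.ker (f.app U).hom from
          RingHom.mem_ker.2 (Subsingleton.elim _ _))
        rw [one_pow] at hn
        exact one_ne_zero hn
      haveI : CharP Γ(Y, U) p := ringChar.of_eq (CharP.ringChar_of_prime_eq_zero (Fact.out) (hY U).1)
      haveI : CharP Γ(X, f ⁻¹ᵁ U) p :=
        ringChar.of_eq (CharP.ringChar_of_prime_eq_zero (Fact.out) (hX _).1)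
      haveI : PerfectRing Γ(Y, U) p := ⟨(hY U).2⟩
      haveI : PerfectRing Γ(X, f ⁻¹ᵁ U) p := ⟨(hX _).2⟩
      haveI : IsPerfectClosure (RingHom.id Γ(Y, U)) p :=
        ⟨fun x => ⟨0, x, by simp⟩, fun x hx => by simp_all⟩
      haveI : IsPerfectClosure (RingHom.id Γ(X, f ⁻¹ᵁ U)) p :=
        ⟨fun x => ⟨0, x, by simp⟩, fun x hx => by simp_all⟩
      exact (Groth.Agent.Frob15.isUnivHomeo_iff_bijective p (f.app U).hom (RingHom.id _) (RingHom.id _)
        (f.app U).hom rfl).1 h2
  exact (ConcreteCategory.isIso_iff_bijective _).2 hb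

end Groth.Agent.S14253
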