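import Groth.Statements.S14257
import Groth.Agent.Frob15.EtaleRelFrob
import Groth.Agent.Frob15.PerfectMap
-- import your own Groth.Agent.* helpers here

set_option autoImplicit false
universe u
open TensorProduct
open FrobAlg

namespace Groth.Agent.S14257

/-- Let p be a prime, A a commutative ring of characteristic p, B an etale A-algebra of characteristic
p, A → A' and B → B' perfect closures (A', B' perfect rings of characteristic p, every element of A'
resp. B' has a p^n-th power in the image of A resp. B, and the structure maps have kernels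
consisting of nilpotent elements), B' viewed as an A-algebra through B, and φ' : A' → B' a map of
A-algebras. Then the natural map A' ⊗_A B → B', a ⊗ b ↦ φ'(a) b, is bijective. (The published
statement is for an etale morphism X → Y of schemes over the prime field, where X_perf → X ×_Y
Y_perf is an isomorphism; this row is the affine case.) -/
theorem result (p : ℕ) [Fact p.Prime]
    (A B A' B' : Type u) [CommRing A] [CommRing B] [CommRing A'] [CommRing B']
    [CharP A p] [CharP B p] [CharP A' p] [CharP B' p] [PerfectRing A' p] [PerfectRing B' p]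
    [Algebra A B] [Algebra.Etale A B] [Algebra A A'] [Algebra B B'] [Algebra A B'] [IsScalarTower A B B']
    [IsPerfectClosure (algebraMap A A') p] [IsPerfectClosure (algebraMap B B') p]
    (φ' : A' →ₐ[A] B') :
    Function.Bijective (Algebra.TensorProduct.lift φ' (IsScalarTower.toAlgHom A B B')
      (fun a b => Commute.all (φ' a) (IsScalarTower.toAlgHom A B B' b))) := by
  have hp : p.Prime := Fact.out
  let iA := Algebra.TensorProduct.includeLeft (R := A) (S := A) (A := A') (B := B)
  let iB : B →ₐ[A] A' ⊗[A] B := Algebra.TensorProduct.includeRight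
  let L := Algebra.TensorProduct.lift φ' (IsScalarTower.toAlgHom A B B')
    (fun a b => Commute.all (φ' a) (IsScalarTower.toAlgHom A B B' b))
  haveI : Nontrivial B' := CharP.nontrivial_of_char_ne_one (v := p) hp.ne_one
  haveI : Nontrivial (A' ⊗[A] B) := L.toRingHom.domain_nontrivial
  haveI : CharP (A' ⊗[A] B) p := (CharP.charP_iff_prime_eq_zero hp).2 (by
    rw [← map_natCast (algebraMap A' (A' ⊗[A] B)), CharP.cast_eq_zero, map_zero])
  haveI hEt : Algebra.Etale A' (A' ⊗[A] B) := Algebra.Etale.baseChange A B A'
  have hrel := (Groth.Agent.Frob15.etale_iff_bijective_relFrob p A' (A' ⊗[A] B)).1 hEt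
  have hfrob : Function.Bijective (fun c : A' ⊗[A] B => c ^ p) := by
    have hl : Function.Bijective (Algebra.TensorProduct.includeLeft :
        A' ⊗[A] B →ₐ[A'] FrobAlg.BaseChange p A' (A' ⊗[A] B)) := by
      have hb : Function.Bijective (algebraMap A' (FrobAlg.Twist p A')) := by
        have : (algebraMap A' (FrobAlg.Twist p A') : A' → FrobAlg.Twist p A') =
            FrobAlg.toTwist p A' ∘ frobenius A' p := rfl
        rw [this]
        exact (FrobAlg.toTwist p A').bijective.comp (PerfectRing.bijective_frobenius (R := A') (p := p))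
      let e : A' ≃ₗ[A'] FrobAlg.Twist p A' := LinearEquiv.ofBijective (Algebra.linearMap A' (FrobAlg.Twist p A')) hb
      have : (Algebra.TensorProduct.includeLeft : A' ⊗[A] B →ₐ[A'] FrobAlg.BaseChange p A' (A' ⊗[A] B)) =
          ((TensorProduct.rid A' (A' ⊗[A] B)).symm.trans (e.lTensor (A' ⊗[A] B)) : _ → _) := by
        funext c
        simp [e]
      rw [this]
      exact LinearEquiv.bijective _
    have : (fun c : A' ⊗[A] B => c ^ p) = FrobAlg.relFrob p A' (A' ⊗[A] B) ∘
        (Algebra.TensorProduct.includeLeft : A' ⊗[A] B →ₐ[A'] FrobAlg.BaseChange p A' (A' ⊗[A] B)) := by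
      funext c
      show c ^ p = (FrobAlg.toTarget p A' (A' ⊗[A] B)).symm ((Algebra.TensorProduct.lift (FrobAlg.frobHom p A' (A' ⊗[A] B))
        (FrobAlg.inclHom p A' (A' ⊗[A] B)) fun _ _ => Commute.all _ _) (c ⊗ₜ 1))
      rw [Algebra.TensorProduct.lift_tmul, map_one, mul_one]
      exact (frobenius_def p c).symm
    rw [this]
    exact hrel.comp hl
  have hiter : ∀ n, Function.Bijective (fun c : A' ⊗[A] B => c ^ p ^ n) := fun n => by
    induction n with
    | zero =>
      simp only [pow_zero, pow_one]
      exact Function.bijective_id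
    | succ n ih =>
      have : (fun c : A' ⊗[A] B => c ^ p ^ (n + 1)) = (fun c => c ^ p) ∘ (fun c => c ^ p ^ n) := by
        funext c
        show _ = (c ^ p ^ n) ^ p
        rw [← pow_mul, ← pow_succ]
      rw [this]
      exact hfrob.comp ih
  have hrange : ∀ c : A' ⊗[A] B, ∃ (n : ℕ) (b : B), iB b = c ^ p ^ n := by
    intro c
    induction c using TensorProduct.induction_on with
    | zero => exact ⟨0, 0, by simp⟩
    | tmul a b =>
      obtain ⟨n, a₀, ha⟩ := IsPRadical.pow_mem (algebraMap A A') p a
      refine ⟨n, algebraMap A B a₀ * b ^ p ^ n, ?_⟩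
      rw [Algebra.TensorProduct.tmul_pow, ← ha]
      show (1 : A') ⊗ₜ[A] (algebraMap A B a₀ * b ^ p ^ n) = _
      rw [← Algebra.smul_def, ← TensorProduct.smul_tmul, ← Algebra.algebraMap_eq_smul_one]
    | add x y hx hy =>
      obtain ⟨n, b, hb⟩ := hx
      obtain ⟨m, b', hb'⟩ := hy
      refine ⟨n + m, b ^ p ^ m + b' ^ p ^ n, ?_⟩
      rw [map_add, map_pow, map_pow, hb, hb', ← pow_mul, ← pow_mul, ← pow_add, ← pow_add, add_pow_char_pow,
        Nat.add_comm m n]
  have hL : ∀ b, L (iB b) = algebraMap B B' b := fun b => by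
    show L (1 ⊗ₜ b) = _
    simp [L]
  refine ⟨(injective_iff_map_eq_zero _).2 fun c hc => ?_, fun x => ?_⟩
  · obtain ⟨n, b, hb⟩ := hrange c
    have hjb : algebraMap B B' b = 0 := by
      rw [← hL, hb, map_pow]
      change (L c) ^ p ^ n = 0
      rw [show L c = 0 from hc, zero_pow (pow_pos hp.pos n).ne']
    obtain ⟨M, hM⟩ := mem_pNilradical.1 (IsPRadical.ker_le (algebraMap B B') p hjb)
    apply (hiter (n + M)).injective
    show c ^ p ^ (n + M) = (0 : A' ⊗[A] B) ^ p ^ (n + M)
    rw [pow_add, pow_mul, ← hb, ← map_pow, hM, map_zero, zero_pow (Nat.mul_pos (pow_pos hp.pos n) (pow_pos hp.pos M)).ne']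
  · obtain ⟨n, b, hb⟩ := IsPRadical.pow_mem (algebraMap B B') p x
    obtain ⟨c, hc⟩ := (hiter n).surjective (iB b)
    refine ⟨c, (iterateFrobeniusEquiv B' p n).injective ?_⟩
    rw [iterateFrobeniusEquiv_def, iterateFrobeniusEquiv_def, ← hb, ← hL]
    show (L c) ^ p ^ n = _
    rw [← map_pow]
    exact congrArg L hc

end Groth.Agent.S14257
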