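import Groth.Prelude.Def_HTop
import Mathlib.AlgebraicGeometry.Morphisms.ClosedImmersion
import Mathlib.CategoryTheory.Limits.Shapes.Pullback.IsPullback.Defs
import Groth.Agent.HTop16.HSheaf
import Groth.Agent.EGA43.Limit.Basic

set_option autoImplicit false
universe u
namespace HTop
end HTop
open HTop

namespace Groth.Agent.S14258

open CategoryTheory CategoryTheory.Limits AlgebraicGeometry Opposite in
/-- Let S be a scheme and F a sheaf of sets on the big h site of S. Let Y be an affine scheme over S, f
: X ⟶ Y a proper surjective morphism of finite presentation over S which is an isomorphism over the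
open complement U of a closed subscheme i : Z ⟶ Y of finite presentation, and E = X ×_Y Z with its
projections e : E ⟶ X and π : E ⟶ Z. Then the square of sets of sections F(Y) → F(X), F(Z) → F(E) is
cartesian: a section over Z and a section over X with the same restriction to E come from exactly
one section over Y. (The published statement is for quasi-compact quasi-separated schemes of finite
presentation over a quasi-compact quasi-separated S and sheaves on those; this row works on all
S-schemes; with Y affine and f proper the four schemes are quasi-compact and quasi-separated.) -/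
theorem result (S : Scheme.{u}) (F : HTop.ShH S)
    {E Z X Y : Over S} (e : E ⟶ X) (π : E ⟶ Z) (f : X ⟶ Y) (i : Z ⟶ Y) [IsAffine Y.left]
    [IsProper f.left] [Surjective f.left] [LocallyOfFinitePresentation f.left]
    [IsClosedImmersion i.left] [LocallyOfFinitePresentation i.left]
    (hsq : IsPullback e.left π.left f.left i.left)
    (U : Y.left.Opens) (hU : (U : Set Y.left) = (Set.range i.left.base)ᶜ) (hiso : IsIso (f.left ∣_ U))
    (t : F.obj.obj (op Z)) (s' : F.obj.obj (op X)) (hts : F.obj.map π.op t = F.obj.map e.op s') :
    ∃! s : F.obj.obj (op Y), F.obj.map i.op s = t ∧ F.obj.map f.op s = s' := by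
  let O : Y.left.Opens := U
  have hO : ∀ x : Y.left, x ∉ Set.range i.left → x ∈ O := fun x hx => by
    change x ∈ (U : Set Y.left)
    rw [hU]
    exact hx
  haveI : IsIso (f.left ∣_ O) := hiso
  have hcov : ∀ x : Y.left, x ∈ Set.range i.left ∨ x ∈ Set.range f.left := fun x => Or.inr (f.left.surjective x)
  haveI : LocallyOfFinitePresentation (pullback.diagonal f.left) := by
    have : LocallyOfFinitePresentation (pullback.diagonal f.left ≫ pullback.fst f.left f.left) := by
      rw [pullback.diagonal_fst]
      infer_instance
    exact EGA43.Limit.locallyOfFinitePresentation_of_comp _ (pullback.fst f.left f.left)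
  have main : ∀ {W : Over S} (g g' : W ⟶ X), g ≫ f = g' ≫ f → F.obj.map g.op s' = F.obj.map g'.op s' := by
    intro W g g' e'
    have el : g.left ≫ f.left = g'.left ≫ f.left := congr($(e').left)
    -- the part over the centre and the part where the two maps agree
    let A : Scheme.{u} := pullback (g.left ≫ f.left) i.left
    haveI : IsSeparated f.left := inferInstance
    let B : Scheme.{u} := pullback (pullback.lift g.left g'.left el) (pullback.diagonal f.left)
    let a : A ⟶ W.left := pullback.fst _ _
    let d : B ⟶ W.left := pullback.fst _ _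
    have hWcov : ∀ w : W.left, w ∈ Set.range a ∨ w ∈ Set.range d := fun w => by
      by_cases hw : f.left (g.left w) ∈ Set.range i.left
      · obtain ⟨z, hz⟩ := hw
        obtain ⟨q, hq, -⟩ := Scheme.Pullback.exists_preimage_pullback (f := g.left ≫ f.left) (g := i.left) w z hz.symm
        exact Or.inl ⟨q, hq⟩
      · have hwO : w ∈ g.left ⁻¹ᵁ (f.left ⁻¹ᵁ O) := hO _ hw
        let P := g.left ⁻¹ᵁ (f.left ⁻¹ᵁ O)
        have hP' : P ≤ g'.left ⁻¹ᵁ (f.left ⁻¹ᵁ O) := fun v hv => by
          change (g'.left ≫ f.left) v ∈ O
          rw [← el]
          exact hv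
        have hagree : P.ι ≫ g.left = P.ι ≫ g'.left := by
          have h2 : g.left.resLE (f.left ⁻¹ᵁ O) P le_rfl = g'.left.resLE (f.left ⁻¹ᵁ O) P hP' := by
            rw [← cancel_mono (f.left ∣_ O), ← cancel_mono O.ι]
            simp only [Category.assoc, morphismRestrict_ι, Scheme.Hom.resLE_comp_ι_assoc, el]
          have := congr($h2 ≫ (f.left ⁻¹ᵁ O).ι)
          simpa only [Scheme.Hom.resLE_comp_ι] using this
        let r : (P : Scheme.{u}) ⟶ B := pullback.lift P.ι (P.ι ≫ g.left) (by
          apply pullback.hom_ext
          · simp only [Category.assoc, pullback.diagonal_fst, Category.comp_id]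
            rw [pullback.lift_fst]
          · simp only [Category.assoc, pullback.diagonal_snd, Category.comp_id]
            rw [pullback.lift_snd]
            exact hagree.symm)
        exact Or.inr ⟨r ⟨w, hwO⟩, congr($(pullback.lift_fst P.ι (P.ι ≫ g.left) _) ⟨w, hwO⟩)⟩
    let AO : Over S := Over.mk (a ≫ W.hom)
    let BO : Over S := Over.mk (d ≫ W.hom)
    haveI : IsProper (Over.homMk (U := AO) (V := W) a rfl).left := inferInstanceAs (IsProper a)
    haveI : IsProper (Over.homMk (U := BO) (V := W) d rfl).left := inferInstanceAs (IsProper d)
    haveI : LocallyOfFinitePresentation (Over.homMk (U := AO) (V := W) a rfl).left :=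
      inferInstanceAs (LocallyOfFinitePresentation a)
    haveI : LocallyOfFinitePresentation (Over.homMk (U := BO) (V := W) d rfl).left :=
      inferInstanceAs (LocallyOfFinitePresentation d)
    refine (HTop16.HSheaf.isSheafFor_pair F (Over.homMk (U := AO) (V := W) a rfl)
      (Over.homMk (U := BO) (V := W) d rfl) hWcov).isSeparatedFor.ext fun Y' q hq => ?_
    obtain ⟨t'⟩ := hq
    simp only [← ConcreteCategory.comp_apply, ← Functor.map_comp, ← op_comp]
    rcases t' with _ | _
    · have : Over.homMk (V := W) d rfl ≫ g = Over.homMk (U := BO) (V := W) d rfl ≫ g' := by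
        ext
        have h1 := congr($(pullback.condition (f := pullback.lift g.left g'.left el) (g := pullback.diagonal f.left)) ≫ pullback.fst f.left f.left)
        have h2 := congr($(pullback.condition (f := pullback.lift g.left g'.left el) (g := pullback.diagonal f.left)) ≫ pullback.snd f.left f.left)
        simp only [Category.assoc, pullback.lift_fst, pullback.lift_snd, pullback.diagonal_fst, pullback.diagonal_snd, Category.comp_id] at h1 h2
        exact h1.trans h2.symm
      exact congrArg (fun φ => F.obj.map (Quiver.Hom.op φ) s') this
    · let k : AO ⟶ Z := Over.homMk (pullback.snd _ _) (by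
        change pullback.snd (g.left ≫ f.left) i.left ≫ Z.hom = a ≫ W.hom
        rw [← Over.w i, ← pullback.condition_assoc, Category.assoc]
        simp [a])
      have key : ∀ φ : W ⟶ X, φ.left ≫ f.left = g.left ≫ f.left →
          F.obj.map (Over.homMk (U := AO) (V := W) a rfl ≫ φ).op s' = F.obj.map k.op t := fun φ hφ => by
        have hc : (a ≫ φ.left) ≫ f.left = pullback.snd _ _ ≫ i.left := by
          rw [Category.assoc, hφ]
          exact pullback.condition
        let l : AO ⟶ E := Over.homMk (hsq.lift _ _ hc) (by
          rw [← Over.w e, hsq.lift_fst_assoc, Category.assoc, Over.w φ]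
          rfl)
        have l1 : l ≫ e = Over.homMk (U := AO) (V := W) a rfl ≫ φ := by
          ext
          exact hsq.lift_fst _ _ _
        have l2 : l ≫ π = k := by
          ext
          exact hsq.lift_snd _ _ _
        rw [← l1, ← l2, op_comp, op_comp, Functor.map_comp, Functor.map_comp, ConcreteCategory.comp_apply,
          ConcreteCategory.comp_apply, hts]
      exact (key g rfl).trans (key g' el.symm).symm
  haveI : Mono i := Over.mono_of_mono_left i
  have mixed : ∀ {W : Over S} (g : W ⟶ Z) (g' : W ⟶ X), g ≫ i = g' ≫ f →
      F.obj.map g.op t = F.obj.map g'.op s' := fun {W} g g' hgg => by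
    have el : g'.left ≫ f.left = g.left ≫ i.left := congr($(hgg.symm).left)
    let l : W ⟶ E := Over.homMk (hsq.lift _ _ el) (by rw [← Over.w e, hsq.lift_fst_assoc, Over.w])
    have l1 : l ≫ e = g' := by ext; exact hsq.lift_fst _ _ _
    have l2 : l ≫ π = g := by ext; exact hsq.lift_snd _ _ _
    rw [← l1, ← l2, op_comp, op_comp, Functor.map_comp, Functor.map_comp, ConcreteCategory.comp_apply,
      ConcreteCategory.comp_apply, hts]
  let x : ∀ t', F.obj.obj (op (HTop16.PhSheaf.famObj Z X t')) := fun t' => Bool.rec s' t t'
  obtain ⟨s, hs, hu⟩ := (Presieve.isSheafFor_arrows_iff F.obj (HTop16.PhSheaf.famHom i f)).1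
      (HTop16.HSheaf.isSheafFor_pair F i f hcov) x (fun p q W g g' hgg => by
    cases p <;> cases q
    · exact main g g' hgg
    · exact (mixed g' g hgg.symm).symm
    · exact mixed g g' hgg
    · change g ≫ i = g' ≫ i at hgg
      rw [(cancel_mono i).1 hgg])
  exact ⟨s, ⟨hs true, hs false⟩, fun s₂ h₂ => hu s₂ fun t' => by
    cases t'
    · exact h₂.2
    · exact h₂.1⟩

end Groth.Agent.S14258
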