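import Groth.Statements.S14259
import Groth.Agent.Dual22Lib.BCMain
import Groth.Agent.Dual22Lib.PerfectTor

set_option autoImplicit false
universe u
open CategoryTheory CategoryTheory.Limits AlgebraicGeometry
attribute [local instance] HasDerivedCategory.standard
open PerfSch

namespace Groth.Agent.S14259

open CategoryTheory CategoryTheory.Limits AlgebraicGeometry Groth.Agent.Dual22Lib

/-- Let p be a prime and X' = X ×_Y Y' a cartesian square of schemes, f : X ⟶ Y quasi-compact and
quasi-separated, g : Y' ⟶ Y arbitrary, with projections g' : X' ⟶ X and f' : X' ⟶ Y', where X, Y and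
Y' are perfect of characteristic p (on every open, p = 0 in the ring of sections and the p-th power
map is bijective). Assume the unbounded derived direct images and derived pullbacks exist, with
adjunctions Lg^* ⊣ Rg_* and Lg'^* ⊣ Rg'_* given as data. Then for a suitable identification e of the
composite Rf_* ∘ Rg'_* with Rg_* ∘ Rf'_*, the base-change morphism Lg^* Rf_* K ⟶ Rf'_* Lg'^* K built
from these data is an isomorphism for every K in D(O_X) with quasi-coherent cohomology sheaves: base
change holds between perfect schemes without any flatness assumption. (The published statement takes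
all four schemes perfect, quasi-compact and quasi-separated; this row assumes X, Y and Y' perfect
and, of the finiteness conditions, keeps only that f is quasi-compact and quasi-separated.) -/
theorem result (p : ℕ) [Fact p.Prime] {X Y X' Y' : Scheme.{u}}
    (hX : PerfSch.IsPerfect p X) (hY : PerfSch.IsPerfect p Y) (hY' : PerfSch.IsPerfect p Y')
    (f : X ⟶ Y) [QuasiCompact f] [QuasiSeparated f] (g : Y' ⟶ Y) (f' : X' ⟶ Y') (g' : X' ⟶ X)
    (hsq : IsPullback g' f' f g)
    [DCoh.HasRpush f] [DCoh.HasRpush g] [DCoh.HasLpull g] [DCoh.HasRpush f'] [DCoh.HasRpush g']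
    [DCoh.HasLpull g'] (adjg : DCoh.Lpull g ⊣ DCoh.Rpush g) (adjg' : DCoh.Lpull g' ⊣ DCoh.Rpush g') :
    ∃ e : DCoh.Rpush g' ⋙ DCoh.Rpush f ≅ DCoh.Rpush f' ⋙ DCoh.Rpush g,
      ∀ K : DCoh.D X, DCoh.IsQCohD K → IsIso (DCoh.baseChangeApp adjg adjg' e K) := by
  obtain ⟨e⟩ := BCSquare.exists_e hsq.w
  refine ⟨e, fun E hE => ?_⟩
  rw [BCSquare.baseChangeApp_eq]
  refine BCMain.good_main f g hsq (BCMain.torInd_of_subsingleton_tor f g fun U _ U' _ hU' V _ hV i hi => ?_)
    inferInstance inferInstance inferInstance inferInstance inferInstance inferInstance adjg adjg' e E hE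
  letI := (g.appLE U U' hU').hom.toAlgebra
  letI := (f.appLE U V hV).hom.toAlgebra
  exact PerfectTor.tor_perfect (p := p) (A := Γ(Y, U)) (B := Γ(Y', U')) (C := Γ(X, V))
    ⟨(hY U).1, (hY U).2⟩ ⟨(hY' U').1, (hY' U').2⟩ ⟨(hX V).1, (hX V).2⟩ i hi

end Groth.Agent.S14259
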