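import Groth.Statements.S14270
import Groth.Agent.Lef23.Kosz.Compl

set_option autoImplicit false
universe u
open Pi1

namespace Groth.Agent.S14270

open AlgebraicGeometry CategoryTheory CategoryTheory.Limits in
/-- Let A be a Noetherian local ring of virtual dimension at least 3, expressed through a presentation
of the adic completion of A as a quotient S/I of a complete regular local ring S of Krull dimension
d by an ideal I generated by a finite set of at most d - 3 elements. Then restriction from finite
etale covers of Spec A to finite etale covers of the punctured spectrum is an equivalence of
categories (Zariski-Nagata purity for rings of virtual dimension at least 3). (The published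
statement also records the isomorphism of etale fundamental groups, which is the usual reformulation
of the equivalence and is not restated here.) -/
theorem result (A : Type u) [CommRing A] [IsNoetherianRing A] [IsLocalRing A]
    (S : Type u) [CommRing S] [IsRegularLocalRing S] [IsAdicComplete (IsLocalRing.maximalIdeal S) S]
    (d : ℕ) (hd : ringKrullDim S = d) (s : Finset S) (hs : s.card + 3 ≤ d)
    (e : AdicCompletion (IsLocalRing.maximalIdeal A) A ≃+* S ⧸ Ideal.span (s : Set S)) :
    (FEt.restrict (FEt.puncturedSpec A).ι).IsEquivalence := by
  exact Groth.Agent.Lef23.Kosz.isEquivalence_of_presentation A S d hd s hs e

end Groth.Agent.S14270
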