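import Groth.Statements.S14275
import Mathlib

set_option linter.all false

set_option autoImplicit false
universe u
open CAlg

open RingTheory.Sequence

namespace Groth.Agent.S14275

section
variable {A : Type u} [CommRing A] (a : A) {M' M M'' : Type u} [AddCommGroup M'] [Module A M'] [AddCommGroup M] [Module A M]
  [AddCommGroup M''] [Module A M'']

theorem mem_pow_smul {N : Type u} [AddCommGroup N] [Module A N] (n : ℕ) (x : N) :
    x ∈ ((Ideal.span {a}) ^ n • ⊤ : Submodule A N) ↔ ∃ m, a ^ n • m = x := by
  rw [Ideal.span_singleton_pow, Submodule.ideal_span_singleton_smul, Submodule.mem_smul_pointwise_iff_exists]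
  simp

theorem descend (f : M' →ₗ[A] M) (g : M →ₗ[A] M'') (hf : Function.Injective f) (hfg : Function.Exact f g)
    {N : ℕ} (hN : ∀ x : M'', (∃ m : ℕ, a ^ m • x = 0) → a ^ N • x = 0) (n : ℕ) (m' : M')
    (h : f m' ∈ ((Ideal.span {a}) ^ (n + N) • ⊤ : Submodule A M)) :
    m' ∈ ((Ideal.span {a}) ^ n • ⊤ : Submodule A M') := by
  obtain ⟨m, hm⟩ := (mem_pow_smul a _ _).1 h
  have : a ^ N • g m = 0 := hN _ ⟨n + N, by rw [← map_smul, hm, hfg.apply_apply_eq_zero]⟩
  obtain ⟨t, ht⟩ := (hfg (a ^ N • m)).1 (by rw [map_smul, this])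
  refine (mem_pow_smul a _ _).2 ⟨t, hf ?_⟩
  rw [map_smul, ht, ← hm, pow_add, mul_smul]

theorem completion_injective (f : M' →ₗ[A] M) (g : M →ₗ[A] M'') (hf : Function.Injective f) (hfg : Function.Exact f g)
    {N : ℕ} (hN : ∀ x : M'', (∃ m : ℕ, a ^ m • x = 0) → a ^ N • x = 0) :
    Function.Injective (AdicCompletion.map (Ideal.span {a}) f) := by
  rw [← LinearMap.ker_eq_bot, LinearMap.ker_eq_bot']
  intro x
  apply AdicCompletion.induction_on _ _ x
  intro b hb
  refine AdicCompletion.mk_zero_of _ _ _ ⟨0, fun n _ => ⟨n + N, Nat.le_add_right _ _, n, le_rfl, ?_⟩⟩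
  refine descend a f g hf hfg hN n _ ?_
  simpa using congrArg (fun x => x.val (n + N)) hb

theorem completion_exact (f : M' →ₗ[A] M) (g : M →ₗ[A] M'') (hf : Function.Injective f) (hfg : Function.Exact f g)
    {N : ℕ} (hN : ∀ x : M'', (∃ m : ℕ, a ^ m • x = 0) → a ^ N • x = 0) (hg : Function.Surjective g) :
    Function.Exact (AdicCompletion.map (Ideal.span {a}) f) (AdicCompletion.map (Ideal.span {a}) g) := by
  refine LinearMap.exact_of_comp_eq_zero_of_ker_le_range ?_ (fun y => ?_)
  · rw [AdicCompletion.map_comp, hfg.linearMap_comp_eq_zero, AdicCompletion.map_zero]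
  apply AdicCompletion.induction_on _ _ y
  intro b hb
  have hb' : ∀ k, ∃ u : M', b k - f u ∈ ((Ideal.span {a}) ^ k • ⊤ : Submodule A M) := by
    intro k
    have : g (b k) ∈ ((Ideal.span {a}) ^ k • ⊤ : Submodule A M'') := by
      simpa using congrArg (fun x => x.val k) hb
    obtain ⟨m'', hm⟩ := (mem_pow_smul a _ _).1 this
    obtain ⟨v, rfl⟩ := hg m''
    obtain ⟨u, hu⟩ := (hfg (b k - a ^ k • v)).1 (by rw [map_sub, map_smul, hm, sub_self])
    exact ⟨u, (mem_pow_smul a _ _).2 ⟨v, by rw [hu, sub_sub_cancel]⟩⟩
  choose u hu using hb'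
  have hc : ∀ k, u (k + N) ≡ u (k + 1 + N) [SMOD ((Ideal.span {a}) ^ k • ⊤ : Submodule A M')] := by
    intro k
    rw [SModEq.sub_mem]
    refine descend a f g hf hfg hN k _ ?_
    have h1 := hu (k + N)
    have h2 : b (k + 1 + N) - f (u (k + 1 + N)) ∈ ((Ideal.span {a}) ^ (k + N) • ⊤ : Submodule A M) :=
      Submodule.smul_mono (Ideal.pow_le_pow_right (by omega)) le_rfl (hu (k + 1 + N))
    have h3 : b (k + N) - b (k + 1 + N) ∈ ((Ideal.span {a}) ^ (k + N) • ⊤ : Submodule A M) :=
      SModEq.sub_mem.1 (b.2 (by omega : k + N ≤ k + 1 + N))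
    have := Submodule.add_mem _ (Submodule.sub_mem _ h2 h1) h3
    convert this using 1
    rw [map_sub]; abel
  refine ⟨AdicCompletion.mk _ M' (AdicCompletion.AdicCauchySequence.mk _ M' (fun k => u (k + N)) hc),
    AdicCompletion.ext fun k => ?_⟩
  show Submodule.Quotient.mk (f (u (k + N))) = Submodule.Quotient.mk (b k)
  rw [Submodule.Quotient.eq]
  have h1 : b (k + N) - f (u (k + N)) ∈ ((Ideal.span {a}) ^ k • ⊤ : Submodule A M) :=
    Submodule.smul_mono (Ideal.pow_le_pow_right (by omega)) le_rfl (hu (k + N))
  have h2 : b k - b (k + N) ∈ ((Ideal.span {a}) ^ k • ⊤ : Submodule A M) :=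
    SModEq.sub_mem.1 (b.2 (by omega : k ≤ k + N))
  have := Submodule.neg_mem _ (Submodule.add_mem _ h2 h1)
  convert this using 1
  abel

theorem map_smul_id (I : Ideal A) {N : Type u} [AddCommGroup N] [Module A N] (r : A) (x : AdicCompletion I N) :
    AdicCompletion.map I (r • (LinearMap.id : N →ₗ[A] N)) x = r • x := by
  apply AdicCompletion.induction_on _ _ x
  intro b
  refine AdicCompletion.ext fun k => ?_
  rfl

theorem span_map_single {B : Type u} [CommRing B] (φ : A →+* B) (r : A) :
    (Ideal.span {r}).map φ = Ideal.span {φ r} := by rw [Ideal.map_span, Set.image_singleton]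

theorem main (rs : List A) (hreg : IsWeaklyRegular A rs)
    (hbd : ∀ i ≤ rs.length, ∃ N : ℕ, ∀ x : A ⧸ Ideal.ofList (rs.take i), (∃ m : ℕ, a ^ m • x = 0) → a ^ N • x = 0) :
    ∀ i ≤ rs.length,
      (∀ z : AdicCompletion (Ideal.span {a}) A, z ∈ (Ideal.ofList (rs.take i)).map (algebraMap A (AdicCompletion (Ideal.span {a}) A)) ↔
        AdicCompletion.map (Ideal.span {a}) (Ideal.ofList (rs.take i)).mkQ z = 0) ∧
      ∀ j (hj : j < i) (hjl : j < rs.length) (z : AdicCompletion (Ideal.span {a}) A),
        rs[j] • z ∈ (Ideal.ofList (rs.take j)).map (algebraMap A (AdicCompletion (Ideal.span {a}) A)) →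
        z ∈ (Ideal.ofList (rs.take j)).map (algebraMap A (AdicCompletion (Ideal.span {a}) A)) := by
  set I : Ideal A := Ideal.span {a} with hI
  intro i
  induction i with
  | zero =>
    intro _
    refine ⟨fun z => ?_, fun j hj => absurd hj (Nat.not_lt_zero _)⟩
    have h0 : (Ideal.ofList (rs.take 0) : Submodule A A) = ⊥ := by simp
    constructor
    · intro hz
      rw [h0, Ideal.map_bot, Submodule.mem_bot] at hz
      rw [hz, map_zero]
    · intro hz
      let e := Submodule.quotEquivOfEqBot (Ideal.ofList (rs.take 0) : Submodule A A) h0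
      have h1 : AdicCompletion.map I e.toLinearMap (AdicCompletion.map I (Ideal.ofList (rs.take 0)).mkQ z) = z := by
        rw [AdicCompletion.map_comp_apply,
          show e.toLinearMap.comp (Ideal.ofList (rs.take 0)).mkQ = LinearMap.id from LinearMap.ext fun x => rfl,
          AdicCompletion.map_id, LinearMap.id_apply]
      rw [← h1, hz, map_zero]
      exact Submodule.zero_mem _
  | succ i ih =>
    intro hi
    obtain ⟨hker, hreg'⟩ := ih (by omega)
    obtain ⟨N, hN⟩ := hbd (i + 1) hi
    set P : Submodule A A := Ideal.ofList (rs.take i) with hP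
    set P' : Submodule A A := Ideal.ofList (rs.take (i + 1)) with hP'
    set r := rs[i]'(by omega) with hr
    have hPP : P' = P ⊔ Ideal.span {r} := by
      rw [hP', hP, List.take_succ_eq_append_getElem (by omega), Ideal.ofList_append, Ideal.ofList_singleton]
    let f : (A ⧸ P) →ₗ[A] (A ⧸ P) := r • LinearMap.id
    let g : (A ⧸ P) →ₗ[A] (A ⧸ P') := Submodule.factor (hPP ▸ le_sup_left)
    have hf : Function.Injective f := by
      have := hreg.regular_mod_prev i (by omega)
      rw [show ((Ideal.ofList (rs.take i)) • (⊤ : Submodule A A)) = (Ideal.ofList (rs.take i) : Ideal A) from by rw [smul_eq_mul, Ideal.mul_top]] at this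
      exact fun x y h => this h
    have hfg : Function.Exact f g := by
      intro x
      obtain ⟨x, rfl⟩ := Submodule.Quotient.mk_surjective _ x
      constructor
      · intro hx
        have : x ∈ P' := (Submodule.Quotient.mk_eq_zero _).1 hx
        rw [hPP, Submodule.mem_sup] at this
        obtain ⟨u, hu, v, hv, rfl⟩ := this
        obtain ⟨w, rfl⟩ := Ideal.mem_span_singleton'.1 hv
        refine ⟨Submodule.Quotient.mk w, ?_⟩
        show r • (Submodule.Quotient.mk w : A ⧸ P) = _
        rw [← Submodule.Quotient.mk_smul, Submodule.Quotient.eq, smul_eq_mul,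
          show r * w - (u + w * r) = -u by ring]
        exact Submodule.neg_mem _ hu
      · rintro ⟨y, hy⟩
        rw [← hy]
        obtain ⟨y, rfl⟩ := Submodule.Quotient.mk_surjective _ y
        refine (Submodule.Quotient.mk_eq_zero _).2 (hPP ▸ Submodule.mem_sup_right ?_)
        exact Ideal.mem_span_singleton'.2 ⟨y, by show y * r = r * y; ring⟩
    have hg : Function.Surjective g := Submodule.factor_surjective _
    have hinjc := completion_injective a f g hf hfg hN
    have hexc := completion_exact a f g hf hfg hN hg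
    have hcomp : ∀ z, AdicCompletion.map I g (AdicCompletion.map I P.mkQ z) = AdicCompletion.map I P'.mkQ z := fun z => by
      rw [AdicCompletion.map_comp_apply]
      rfl
    have hsmul : ∀ (z : AdicCompletion I A), r • z = algebraMap A (AdicCompletion I A) r * z := fun z => Algebra.smul_def r z
    constructor
    · intro z
      constructor
      · intro hz
        rw [hPP, Ideal.map_sup, span_map_single, Submodule.mem_sup] at hz
        obtain ⟨u, hu, v, hv, rfl⟩ := hz
        obtain ⟨w, rfl⟩ := Ideal.mem_span_singleton'.1 hv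
        rw [mul_comm, ← hsmul, map_add, ← hcomp u, (hker u).1 hu, map_zero, zero_add, ← hcomp, LinearMap.map_smul_of_tower,
          ← map_smul_id, hexc.apply_apply_eq_zero]
      · intro hz
        rw [← hcomp] at hz
        obtain ⟨y, hy⟩ := (hexc _).1 hz
        obtain ⟨w, rfl⟩ := AdicCompletion.map_surjective I (Submodule.mkQ_surjective P) y
        have : z - r • w ∈ Ideal.map (algebraMap A (AdicCompletion I A)) P := (hker _).2 (by
          rw [map_sub]
          exact sub_eq_zero.2 ((hy.symm.trans (map_smul_id I r _)).trans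
            (LinearMap.map_smul_of_tower (AdicCompletion.map I P.mkQ) r w).symm))
        rw [hPP, Ideal.map_sup, span_map_single]
        have hz' : z = (z - r • w) + r • w := by abel
        rw [hz']
        exact Submodule.add_mem_sup this (Ideal.mem_span_singleton'.2 ⟨w, by rw [hsmul, mul_comm]⟩)
    · intro j hj hjl z hz
      by_cases hji : j < i
      · exact hreg' j hji hjl z hz
      obtain rfl : j = i := by omega
      refine (hker z).2 (hinjc ?_)
      rw [map_zero, show AdicCompletion.map I f (AdicCompletion.map I P.mkQ z) = r • AdicCompletion.map I P.mkQ z from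
        map_smul_id I r _, ← LinearMap.map_smul_of_tower]
      exact (hker _).1 hz

end

open RingTheory.Sequence in
/-- Let A be a commutative ring, a an element of A with a-adic completion A^, and a_1, ..., a_n a weakly
regular sequence on A such that for each i = 0, ..., n the quotient A/(a_1, ..., a_i) has bounded
a-power torsion (some fixed power of a kills every element killed by a power of a). Then the images
of a_1, ..., a_n form a weakly regular sequence on A^, and the canonical map from A^ to the a-adic
completion of A/(a_1, ..., a_n) is surjective with kernel the ideal generated by the images of a_1,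
..., a_n. -/
theorem result (A : Type u) [CommRing A] (a : A) (rs : List A)
    (hreg : IsWeaklyRegular A rs)
    (hbd : ∀ i ≤ rs.length, ∃ N : ℕ, ∀ x : A ⧸ Ideal.ofList (rs.take i), (∃ m : ℕ, a ^ m • x = 0) → a ^ N • x = 0) :
    IsWeaklyRegular (AdicCompletion (Ideal.span {a}) A)
        (rs.map (algebraMap A (AdicCompletion (Ideal.span {a}) A))) ∧
      Function.Surjective (AdicCompletion.map (Ideal.span {a}) (Ideal.ofList rs).mkQ) ∧
      LinearMap.ker (AdicCompletion.map (Ideal.span {a}) (Ideal.ofList rs).mkQ) =
        (Ideal.ofList rs).map (algebraMap A (AdicCompletion (Ideal.span {a}) A)) := by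
  have h := main a rs hreg hbd
  refine ⟨⟨fun i hi => ?_⟩, AdicCompletion.map_surjective _ (Submodule.mkQ_surjective _), ?_⟩
  · rw [List.length_map] at hi
    rw [isSMulRegular_quotient_iff_mem_of_smul_mem]
    intro z hz
    rw [← List.map_take, ← Ideal.map_ofList, smul_eq_mul, Ideal.mul_top] at hz ⊢
    refine (h (i + 1) hi).2 i (Nat.lt_succ_self _) hi z ?_
    rw [List.getElem_map, smul_eq_mul] at hz
    rwa [Algebra.smul_def]
  · have h' := (h rs.length le_rfl).1
    rw [List.take_length] at h'
    ext z
    exact LinearMap.mem_ker.trans (h' z).symm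

end Groth.Agent.S14275
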