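import Groth.Statements.S14276
import Groth.Agent.NonAb.SchTorsor
import Groth.Agent.AlgSpLib.FppfLocal
import Groth.Agent.FlatMorSmoothSect.Scheme

set_option autoImplicit false
universe u
open CategoryTheory AlgebraicGeometry
open NonAbH1

namespace Groth.Agent.S14276

/-- Let X be a scheme and G a group scheme over X which is smooth over X. Then every G-torsor for the
fppf topology is locally trivial for the étale topology on X. Here a torsor is an X-scheme with an
action of G which is a pseudo-torsor and acquires sections on the members of some fppf covering
family of X, and the conclusion says that it acquires sections on the members of some étale covering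
family of X. (The published statement is about torsors in the sense of fppf sheaves; this row states
it for torsors that are schemes.) -/
theorem result {X : Scheme.{u}}
    (G : Over X) [GrpObj G] [Smooth G.hom] (P : Over X) (a : AlgGrp.Action G P)
    (h : NonAbH1.IsTorsorFor Scheme.fppfPrecoverage a) :
    NonAbH1.IsLocallyTrivialFor Scheme.etalePrecoverage P := by
  have h' := NonAbLib.fppf_isTorsorFor_fpqc h
  have : Smooth P.hom := NonAbLib.property_hom @Smooth inferInstance h' ‹_›
  have : Surjective P.hom := NonAbLib.surjective_hom a h'
  have key : ∀ x : X, ∃ (S' : Scheme.{u}) (g : S' ⟶ X) (s' : S'), Etale g ∧ g s' = x ∧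
      ∃ h : S' ⟶ P.left, h ≫ P.hom = g := by
    intro x
    obtain ⟨p, rfl⟩ := P.hom.surjective x
    exact Groth.Agent.FlatMorSmoothSect.exists_section_etale_locally P.hom p
  choose S' g s' het hgs sec hsec using key
  refine ⟨Presieve.ofArrows S' g, ?_, ?_⟩
  · exact (Scheme.Cover.mkOfCovers X S' g (fun x => ⟨x, s' x, hgs x⟩) het).mem₀
  · rintro Y f ⟨x⟩
    exact ⟨sec x, hsec x⟩

end Groth.Agent.S14276
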