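import Groth.Statements.S14277
import Groth.Agent.Stk19b.Count.Classify

set_option autoImplicit false
universe u
open CategoryTheory AlgebraicGeometry
open NonAbH1

set_option linter.style.haveILetI false
set_option backward.isDefEq.respectTransparency.types false
set_option backward.isDefEq.respectTransparency false

namespace Groth.Agent.S14277

open CategoryTheory.Limits MonoidalCategory CartesianMonoidalCategory

variable (k : Type u) [Field k]

theorem isIso_pt : IsIso (SGA7.pt (K := k) k).hom := by
  show IsIso (Spec.map (CommRingCat.ofHom (algebraMap k k)))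
  rw [Algebra.algebraMap_self, CommRingCat.ofHom_id, Spec.map_id]
  infer_instance

/-- The unique map to the base point. -/
noncomputable def toPt (Y : Over (Spec (CommRingCat.of k))) : Y ⟶ SGA7.pt (K := k) k :=
  haveI := isIso_pt k
  Over.homMk (Y.hom ≫ inv (SGA7.pt (K := k) k).hom) (by simp)

/-- The base point is terminal. -/
noncomputable def isTerminalPt : IsTerminal (SGA7.pt (K := k) k) :=
  haveI := isIso_pt k
  IsTerminal.ofUniqueHom (toPt k) fun Y m =>
    Over.OverMorphism.ext ((cancel_mono (SGA7.pt (K := k) k).hom).1 (by rw [Over.w, Over.w]))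

theorem isPullback_prod {B : Over (Spec (CommRingCat.of k))} (hB : IsTerminal B)
    {X : Over (Spec (CommRingCat.of k))} (π : X ⟶ B) : IsPullback (fst X X) (snd X X) π π := by
  have h := IsPullback.of_is_product (C := Over _) (tensorProductIsBinaryProduct X X) hB
  obtain rfl : π = hB.from X := hB.hom_ext _ _
  exact h

variable [Finite k]

/-- A section over some finite extension. -/
theorem exists_finite_section {C : MorphismProperty Scheme.{u}} (hC : C ≤ @LocallyOfFiniteType)
    {X B : Over (Spec (CommRingCat.of k))} [IsIso B.hom] (π : X ⟶ B) (R : Presieve B.left)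
    (hR : R ∈ Scheme.precoverage C B.left)
    (hsec : ∀ ⦃T : Scheme.{u}⦄ (f : T ⟶ B.left), R f → ∃ s : T ⟶ X.left, s ≫ π.left = f) :
    ∃ (E : IntermediateField k (AlgebraicClosure k)) (_ : Finite E)
      (s : Spec (CommRingCat.of E) ⟶ X.left), s ≫ X.hom = (SGA7.pt (K := k) E).hom := by
  obtain ⟨T', f, q, hf, hq⟩ := Stk19b.TorsorPoints.exists_point_of_cover hC R hR (AlgebraicClosure k)
    ((SGA7.pt (K := k) (AlgebraicClosure k)).hom ≫ inv B.hom)
  haveI : LocallyOfFiniteType f := hC _ (hR.2 hf)
  obtain ⟨s, hs⟩ := hsec f hf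
  let T : Over (Spec (CommRingCat.of k)) := Over.mk (f ≫ B.hom)
  haveI : LocallyOfFiniteType T.hom := inferInstanceAs (LocallyOfFiniteType (f ≫ B.hom))
  let p : SGA7.pt (K := k) (AlgebraicClosure k) ⟶ T := Over.homMk q (by
    show q ≫ f ≫ B.hom = _
    rw [← Category.assoc, hq, Category.assoc, IsIso.inv_hom_id, Category.comp_id])
  obtain ⟨E, hE, h⟩ := Stk19b.Count.exists_finite_level p
  obtain ⟨p₁, -⟩ := h (Stk19b.Count.incl k E (AlgebraicClosure k)) rfl
  refine ⟨E, Module.finite_of_finite k, p₁.left ≫ s, ?_⟩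
  have hw : p₁.left ≫ f ≫ B.hom = _ := Over.w p₁
  rw [Category.assoc, ← Over.w π, ← Category.assoc s, hs, hw]

variable (G : Over (Spec (CommRingCat.of k))) [GrpObj G]

/-- The object of the classifying groupoid attached to a torsor. -/
noncomputable def toFib (P : TorsorSch G Scheme.fppfPrecoverage) :
    Stk19b.Count.Fib k (AlgSt.trivAction G) :=
  ⟨{ base := SGA7.pt (K := k) k
     P := P.X
     act := P.act
     π := toPt k P.X
     cart := by
       haveI : IsIso (lift P.act.act (snd G P.X)) := P.isTorsor.1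
       refine (isPullback_prod k (isTerminalPt k) (toPt k P.X)).of_iso
         (asIso (lift P.act.act (snd G P.X))).symm (Iso.refl _) (Iso.refl _) (Iso.refl _) ?_ ?_ (by simp) (by simp)
       · rw [Iso.refl_hom, Category.comp_id, Iso.symm_hom, asIso_inv, IsIso.eq_inv_comp, lift_fst]
       · rw [Iso.refl_hom, Category.comp_id, Iso.symm_hom, asIso_inv, IsIso.eq_inv_comp, lift_snd]
     loc := by
       haveI := isIso_pt k
       obtain ⟨R, hR, hsec⟩ := P.isTorsor.2
       haveI : IsIso (Over.mk (𝟙 (Spec (CommRingCat.of k)))).hom := inferInstanceAs (IsIso (𝟙 _))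
       obtain ⟨E, hE, s, hs⟩ := exists_finite_section k Stk19b.TorsorPoints.fppf_le_lft
         (B := Over.mk (𝟙 (Spec (CommRingCat.of k)))) (Over.homMk P.X.hom (Category.comp_id _) : P.X ⟶ _)
         R hR (fun T f hf => by simpa [HasSectionOver] using hsec f hf)
       refine ⟨_, Stk19b.Count.incl_mem_etalePrecoverage (k := k) (k' := k) (E := E), ?_⟩
       rintro S' f ⟨⟩
       refine ⟨s, (cancel_mono (SGA7.pt (K := k) k).hom).1 ?_⟩
       show (s ≫ (toPt k P.X).left) ≫ (SGA7.pt (K := k) k).hom = _
       rw [Category.assoc, Over.w, hs, Over.w]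
     φ := toUnit _
     eqv := toUnit_unique _ _ }, rfl⟩

/-- Every object comes from a torsor. -/
noncomputable def ofFib (a : Stk19b.Count.Fib k (AlgSt.trivAction G)) : TorsorSch G Scheme.fppfPrecoverage where
  X := a.1.P
  act := a.1.act
  isTorsor := by
    have hA : a.1.base = SGA7.pt (K := k) k := a.2
    have hT : IsTerminal a.1.base := (isTerminalPt k).ofIso (eqToIso hA.symm)
    refine ⟨?_, ?_⟩
    · let i := a.1.cart.isoIsPullback _ _ (isPullback_prod k hT a.1.π)
      have : lift a.1.act.act (snd G a.1.P) = i.hom :=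
        CartesianMonoidalCategory.hom_ext _ _ (by simp [i]) (by simp [i])
      show IsIso (lift a.1.act.act (snd G a.1.P))
      rw [this]
      infer_instance
    · haveI : IsIso a.1.base.hom := by
        haveI := isIso_pt k
        rw [← Over.w (eqToHom hA)]
        infer_instance
      obtain ⟨R, hR, hsec⟩ := a.1.loc
      obtain ⟨E, hE, s, hs⟩ := exists_finite_section k Stk19b.TorsorPoints.etale_le_lft a.1.π R hR
        (fun T f hf => hsec f hf)
      refine ⟨_, (Scheme.precoverage_mono (fun _ _ f (hf : Etale f) => ⟨inferInstance, inferInstance⟩) :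
          Scheme.etalePrecoverage ≤ Scheme.fppfPrecoverage.{u}) _
        (Stk19b.Count.incl_mem_etalePrecoverage (k := k) (k' := k) (E := E)), ?_⟩
      rintro S' f ⟨⟩
      exact ⟨s, hs⟩

/-- An object receives a map from the object of its torsor. -/
noncomputable def toFibHom (a : Stk19b.Count.Fib k (AlgSt.trivAction G)) : toFib k G (ofFib k G a) ⟶ a :=
  have hA : a.1.base = SGA7.pt (K := k) k := a.2
  ⟨{ base := eqToHom hA.symm
     top := (𝟙 a.1.P : a.1.P ⟶ a.1.P)
     eqv := by simp [toFib, ofFib]
     cart := by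
       haveI : IsIso (𝟙 a.1.P : a.1.P ⟶ a.1.P) := IsIso.id _
       exact IsPullback.of_horiz_isIso ⟨((isTerminalPt k).ofIso (eqToIso hA.symm)).hom_ext _ _⟩
     wφ := toUnit_unique _ _ },
    IsHomLift.of_fac' _ _ _ rfl hA (by simp [AlgSt.QuotObj.forget])⟩

omit [Finite k] in
variable {G} in
theorem equivIso_ext {X X' : Over (Spec (CommRingCat.of k))} {a : AlgGrp.Action G X} {a' : AlgGrp.Action G X'}
    {e e' : EquivIso a a'} (h : e.iso.hom = e'.iso.hom) : e = e' := by
  cases e
  cases e'
  simp only at h
  cases Iso.ext h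
  rfl

/-- Equivariant isomorphisms are the morphisms of the classifying groupoid. -/
noncomputable def homEquiv (P Q : TorsorSch G Scheme.fppfPrecoverage) :
    EquivIso P.act Q.act ≃ (toFib k G P ⟶ toFib k G Q) where
  toFun e :=
    ⟨{ base := 𝟙 _
       top := e.iso.hom
       eqv := e.comm
       cart := IsPullback.of_horiz_isIso ⟨(isTerminalPt k).hom_ext _ _⟩
       wφ := toUnit_unique _ _ },
      IsHomLift.of_fac' _ _ _ rfl rfl (by simp [AlgSt.QuotObj.forget])⟩
  invFun φ :=
    haveI : IsIso φ.1.base := by rw [Stk19b.Count.hom_base k _ φ]; infer_instance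
    haveI : IsIso φ.1.top := φ.1.cart.isIso_fst_of_isIso
    ⟨asIso φ.1.top, φ.1.eqv⟩
  left_inv e := equivIso_ext k rfl
  right_inv φ := Subtype.ext (AlgSt.QuotObj.hom_ext ((isTerminalPt k).hom_ext _ _) rfl)

omit [Finite k] [GrpObj G] in
theorem finite_geomPts [IsFinite G.hom] (L : Type u) [Field L] [Algebra k L] :
    Finite (SGA7.pt (K := k) L ⟶ G) := by
  haveI : IsAffine G.left := isAffine_of_isAffineHom G.hom
  obtain ⟨φ, hφ⟩ := Spec.map_surjective (G.left.isoSpec.inv ≫ G.hom)
  letI := φ.hom.toAlgebra
  haveI : Module.Finite k Γ(G.left, ⊤) := by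
    have : IsFinite (Spec.map φ) := by rw [hφ]; infer_instance
    exact RingHom.finite_algebraMap.1 ((IsFinite.SpecMap_iff φ).1 this)
  choose β hβ using fun p : SGA7.pt (K := k) L ⟶ G => Spec.map_surjective (p.left ≫ G.left.isoSpec.hom)
  have hcm : ∀ p c, (β p).hom (φ.hom c) = algebraMap k L c := fun p c => by
    have : φ ≫ β p = CommRingCat.ofHom (algebraMap k L) := Spec.map_injective (by
      rw [Spec.map_comp, hβ, hφ, Category.assoc, Iso.hom_inv_id_assoc]
      exact Over.w p)
    exact congrArg (fun t => t.hom c) this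
  let g : (SGA7.pt (K := k) L ⟶ G) → (Γ(G.left, ⊤) →ₐ[k] L) := fun p => { (β p).hom with commutes' := hcm p }
  refine Finite.of_injective g fun p p' hg => ?_
  have : β p = β p' := CommRingCat.hom_ext (congrArg AlgHom.toRingHom hg)
  exact Over.OverMorphism.ext ((cancel_mono G.left.isoSpec.hom).1 (by rw [← hβ, ← hβ, this]))

end Groth.Agent.S14277

namespace Groth.Agent.S14277

/-- Let k be a finite field and G a group scheme finite and étale over Spec k. Then the set of
isomorphism classes of G-torsors over Spec k is finite, and the sum over these classes ξ of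
1/#Aut(ξ) equals 1, where Aut(ξ) is the (finite) group of G-equivariant automorphisms over k of a
torsor in the class ξ. A torsor is a k-scheme with an action of G which is a pseudo-torsor and
acquires sections on the members of some fppf covering family of Spec k; for such G these are the
nonempty finite étale pseudo-torsors, and the étale topology gives the same classes. The term of a
class whose automorphism group were infinite would count as 0 by the convention Nat.card = 0. -/
theorem result
    (k : Type u) [Field k] [Finite k]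
    (G : Over (Spec (CommRingCat.of k))) [GrpObj G] [IsFinite G.hom] [Etale G.hom] :
    Finite (NonAbH1.H1Sch G Scheme.fppfPrecoverage) ∧
      ∑ᶠ ξ : NonAbH1.H1Sch G Scheme.fppfPrecoverage,
        ((Nat.card (NonAbH1.EquivIso (Quot.out ξ).act (Quot.out ξ).act) : ℚ))⁻¹ = 1 := by
  haveI : Smooth G.hom := inferInstance
  let L := AlgebraicClosure k
  haveI : Algebra.IsAlgebraic k L := inferInstance
  haveI : LocallyOfFiniteType (MonoidalCategory.tensorUnit (Over (Spec (CommRingCat.of k)))).hom := by
    show LocallyOfFiniteType (𝟙 (Spec (CommRingCat.of k)))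
    infer_instance
  haveI hGf : Finite (SGA7.pt (K := k) L ⟶ G) := finite_geomPts k G L
  letI : Group (SGA7.pt (K := k) L ⟶ G) := CategoryTheory.Hom.group
  let e : Stk19b.Count.Pairs k L (AlgSt.trivAction G) ≃ (SGA7.pt (K := k) L ⟶ G) :=
    { toFun := fun q => q.1.1
      invFun := fun a => ⟨(a, CartesianMonoidalCategory.toUnit _), CartesianMonoidalCategory.toUnit_unique _ _⟩
      left_inv := fun q => Subtype.ext (Prod.ext rfl (CartesianMonoidalCategory.toUnit_unique _ _))
      right_inv := fun a => rfl }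
  haveI : Finite (Stk19b.Count.Pairs k L (AlgSt.trivAction G)) := Finite.of_equiv _ e.symm
  choose qf hqf using fun P : TorsorSch G Scheme.fppfPrecoverage =>
    Stk19b.Count.exists_matches k L (AlgSt.trivAction G) (toFib k G P)
  let Φ : H1Sch G Scheme.fppfPrecoverage →
      MulAction.orbitRel.Quotient (SGA7.pt (K := k) L ⟶ G) (Stk19b.Count.Pairs k L (AlgSt.trivAction G)) :=
    Quot.lift (fun P => Quotient.mk _ (qf P)) fun P Q hPQ =>
      Quotient.sound ((Stk19b.Count.nonempty_iso_iff k L _ (hqf P) (hqf Q)).1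
        (haveI := Stk19b.Count.isIso_fib k _ (homEquiv k G P Q hPQ.some)
         ⟨asIso (homEquiv k G P Q hPQ.some)⟩))
  have hΦ : Function.Bijective Φ := by
    refine ⟨?_, ?_⟩
    · rintro ⟨P⟩ ⟨Q⟩ h
      obtain ⟨i⟩ := (Stk19b.Count.nonempty_iso_iff k L _ (hqf P) (hqf Q)).2 (Quotient.exact h)
      exact Quot.sound ⟨(homEquiv k G P Q).symm i.hom⟩
    · rintro ⟨q⟩
      obtain ⟨a, ha⟩ := Stk19b.Count.exists_obj k L (AlgSt.trivAction G) q
      refine ⟨Quot.mk _ (ofFib k G a), Quotient.sound ?_⟩
      refine (Stk19b.Count.nonempty_iso_iff k L _ (hqf _) ha).1 ?_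
      haveI := Stk19b.Count.isIso_fib k _ (toFibHom k G a)
      exact ⟨asIso (toFibHom k G a)⟩
  haveI hfin : Finite (H1Sch G Scheme.fppfPrecoverage) := Finite.of_injective Φ hΦ.1
  refine ⟨hfin, ?_⟩
  have hm : Stk19b.Count.mass (SGA7.pt (K := k) L ⟶ G) (Stk19b.Count.Pairs k L (AlgSt.trivAction G)) = 1 := by
    rw [Stk19b.Count.mass_eq_div, Nat.card_congr e, div_self]
    exact_mod_cast Nat.card_pos.ne'
  rw [← hm, Stk19b.Count.mass]
  refine finsum_eq_of_bijective Φ hΦ fun ξ => ?_
  have hξ : Φ ξ = Quotient.mk _ (qf (Quot.out ξ)) := by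
    conv_lhs => rw [← Quot.out_eq ξ]
  obtain ⟨h⟩ := Stk19b.Count.exists_homEquiv k L _ (hqf (Quot.out ξ)) (hqf (Quot.out ξ))
  rw [hξ, Stk19b.Count.card_stabilizer_out]
  refine congrArg (fun n : ℕ => (n : ℚ)⁻¹) ?_
  exact Nat.card_congr ((homEquiv k G _ _).trans h)
end Groth.Agent.S14277
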