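import Groth.Statements.S14279
import Groth.Agent.WeilProj8.Data
import Groth.Agent.WeilProj8.Glue
-- import your own Groth.Agent.* helpers here

set_option autoImplicit false
set_option backward.isDefEq.respectTransparency.types false
universe u
open CategoryTheory CategoryTheory.Limits AlgebraicGeometry
open FGA

namespace Groth.Agent.S14279

/-- Let k be a field, X a projective k-scheme (a closed subscheme of P^n_k), S a k-scheme and Y → X_S =
X ×_k S an affine morphism of finite presentation. Then the direct image of Y along X_S → S, i.e.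
the functor sending an S-scheme T to the set of X_S-morphisms from X_T = X_S ×_S T to Y, is an
affine S-scheme of finite presentation: there are an S-scheme R, affine and of finite presentation
over S, and an X_S-morphism g_R : X_R → Y such that for every S-scheme T and every X_S-morphism g :
X_T → Y there is exactly one S-morphism τ : T → R for which g is the composite of the induced
morphism X_T → X_R with g_R. -/
theorem result
    (k : Type u) [Field k] (n : ℕ) (X : Scheme.{u}) (imm : X ⟶ CohB1.ProjSpace n k) [IsClosedImmersion imm]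
    (S : Scheme.{u}) (σ : S ⟶ Spec (CommRingCat.of k))
    (Y : Scheme.{u}) (y : Y ⟶ pullback (imm ≫ CohB1.ProjSpace.toSpec n k) σ)
    [IsAffineHom y] [LocallyOfFinitePresentation y] :
    ∃ (R : Scheme.{u}) (r : R ⟶ S)
      (gR : pullback (pullback.snd (imm ≫ CohB1.ProjSpace.toSpec n k) σ) r ⟶ Y),
      IsAffineHom r ∧ LocallyOfFinitePresentation r ∧
      gR ≫ y = pullback.fst (pullback.snd (imm ≫ CohB1.ProjSpace.toSpec n k) σ) r ∧
      ∀ (T : Scheme.{u}) (t : T ⟶ S)
        (g : pullback (pullback.snd (imm ≫ CohB1.ProjSpace.toSpec n k) σ) t ⟶ Y),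
        g ≫ y = pullback.fst (pullback.snd (imm ≫ CohB1.ProjSpace.toSpec n k) σ) t →
        ∃! τ : T ⟶ R, τ ≫ r = t ∧
          ∃ m : pullback (pullback.snd (imm ≫ CohB1.ProjSpace.toSpec n k) σ) t ⟶
              pullback (pullback.snd (imm ≫ CohB1.ProjSpace.toSpec n k) σ) r,
            m ≫ pullback.fst (pullback.snd (imm ≫ CohB1.ProjSpace.toSpec n k) σ) r =
                pullback.fst (pullback.snd (imm ≫ CohB1.ProjSpace.toSpec n k) σ) t ∧
              m ≫ pullback.snd (pullback.snd (imm ≫ CohB1.ProjSpace.toSpec n k) σ) r =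
                pullback.snd (pullback.snd (imm ≫ CohB1.ProjSpace.toSpec n k) σ) t ≫ τ ∧
              m ≫ gR = g := by
  classical
  let πS := pullback.snd (imm ≫ CohB1.ProjSpace.toSpec n k) σ
  haveI : IsProper (CohB1.ProjSpace.toSpec n k) := Coherent.isProper_projSpace_toSpec n k
  haveI : IsProper (imm ≫ CohB1.ProjSpace.toSpec n k) := inferInstance
  have hamp : CohB1.IsAmple ((Scheme.Modules.pullback imm).obj (Twist.twistProjSpace n k 1)) :=
    AmpleLib.isAmple_pullback_of_isAffineHom imm (WeilProj8.isAmple_twist_projSpace n k)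
  have hwr : WeilProj8.IsWR πS y := by
    refine WeilProj8.isWR_of_local fun s => ?_
    obtain ⟨W, hW, hsW, -⟩ := exists_isAffineOpen_mem_and_subset (x := s) (U := ⊤) trivial
    refine ⟨W, hsW, ?_⟩
    haveI : IsAffine W.toScheme := hW
    have hsq : IsPullback ((πS ⁻¹ᵁ W).ι ≫ pullback.fst (imm ≫ CohB1.ProjSpace.toSpec n k) σ) (πS ∣_ W)
        (imm ≫ CohB1.ProjSpace.toSpec n k) (W.ι ≫ σ) :=
      (isPullback_morphismRestrict πS W).flip.paste_horiz (IsPullback.of_hasPullback _ _)
    haveI : IsAffineHom (y ∣_ (πS ⁻¹ᵁ W)) :=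
      MorphismProperty.of_isPullback (P := @IsAffineHom) (isPullback_morphismRestrict y _).flip inferInstance
    haveI : LocallyOfFinitePresentation (y ∣_ (πS ⁻¹ᵁ W)) :=
      MorphismProperty.of_isPullback (P := @LocallyOfFinitePresentation) (isPullback_morphismRestrict y _).flip inferInstance
    obtain ⟨D, hD⟩ := WeilProj8.exists_emb hsq hamp (y ∣_ (πS ⁻¹ᵁ W))
    exact D.isWR hsq hD
  obtain ⟨R, g, hg, haff, hfp, huniv⟩ := hwr
  refine ⟨R.left, R.hom, g, haff, hfp, hg, fun T t h hh => ?_⟩
  obtain ⟨m, hm, hu⟩ := huniv (Over.mk t) h hh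
  refine ⟨m.left, ⟨Over.w m, PicF.XTmap πS m, FGA.XTmap_fst πS m, pullback.lift_snd _ _ _, hm⟩, ?_⟩
  rintro τ ⟨hτ, μ, h1, h2, h3⟩
  let m' : Over.mk t ⟶ R := Over.homMk τ hτ
  have hμ : μ = PicF.XTmap πS m' :=
    pullback.hom_ext (h1.trans (FGA.XTmap_fst πS m').symm) (h2.trans (pullback.lift_snd _ _ _).symm)
  exact congrArg Over.Hom.left (hu m' (show PicF.XTmap πS m' ≫ g = h from hμ ▸ h3))

end Groth.Agent.S14279
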