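import Groth.Statements.S14280
import Groth.Agent.SpSeq17.TraceBound
-- import your own Groth.Agent.* helpers here

set_option autoImplicit false
universe u
open SpSeq

namespace Groth.Agent.S14280

/-- Let E^{p,q} (p, q ≥ 0) be finite-dimensional complex vector spaces each carrying an endomorphism Φ,
and suppose that for a natural number N and functions a, c ≥ 0 (real) and b, d (natural numbers) one
has E^{p,q} = 0 for q > N, |μ| ≤ a(q)c(p) for every eigenvalue μ of Φ on E^{p,q}, and dim E^{p,q} ≤
b(q)d(p). If Σ_p c(p)d(p) converges then the family of traces tr(Φ | E^{p,q}) is absolutely summable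
over all pairs (p, q). (The published statement takes a and b defined on {0, …, N} only; here they
are functions on all natural numbers, which changes nothing since E^{p,q} = 0 for q > N.) -/
theorem result
    (E : ℕ → ℕ → Type u) [∀ p q, AddCommGroup (E p q)] [∀ p q, Module ℂ (E p q)]
    [∀ p q, FiniteDimensional ℂ (E p q)] (Φ : ∀ p q, E p q →ₗ[ℂ] E p q)
    (N : ℕ) (a c : ℕ → ℝ) (b d : ℕ → ℕ) (ha : ∀ q, 0 ≤ a q) (hc : ∀ p, 0 ≤ c p)
    (h1 : ∀ p q, N < q → Subsingleton (E p q))
    (h2 : ∀ p q (μ : ℂ), Module.End.HasEigenvalue (Φ p q) μ → ‖μ‖ ≤ a q * c p)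
    (h3 : ∀ p q, Module.finrank ℂ (E p q) ≤ b q * d p)
    (hsum : Summable fun p : ℕ => c p * (d p : ℝ)) :
    Summable fun pq : ℕ × ℕ => ‖LinearMap.trace ℂ (E pq.1 pq.2) (Φ pq.1 pq.2)‖ := by
  classical
  have hb : ∀ p q, Groth.Agent.SpSeq17.Bdd (Φ p q) (a q * c p) (b q * d p) := fun p q => ⟨inferInstance, h2 p q, h3 p q⟩
  exact Groth.Agent.SpSeq17.summable_of_bound N a c b d hsum
    (fun pq : ℕ × ℕ => LinearMap.trace ℂ (E pq.1 pq.2) (Φ pq.1 pq.2))
    (fun p q hq => by
      haveI := h1 p q hq
      simp [show Φ p q = 0 from LinearMap.ext fun x => Subsingleton.elim _ _])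
    (fun p q => (hb p q).norm_trace_le (mul_nonneg (ha q) (hc p)))

end Groth.Agent.S14280

#print axioms Groth.Agent.S14280.result
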