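import Groth.Statements.S14282
import Groth.Agent.IsomTor8.Main
import Groth.Agent.S14279
import Groth.Agent.Coherent.CohBC.PushStructureIso
-- import your own Groth.Agent.* helpers here

set_option autoImplicit false
set_option backward.isDefEq.respectTransparency.types false
universe u
open CategoryTheory CategoryTheory.Limits MonoidalCategory CartesianMonoidalCategory MonObj GrpObj AlgebraicGeometry
open FGA

namespace Groth.Agent.S14282

/-- Let k be a field, X a projective k-scheme (a closed subscheme of P^n_k), G a group scheme which is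
affine and of finite type over X, S a k-scheme, and E, F two torsors for the fppf topology under G_S
= G ×_X X_S over X_S = X ×_k S (X_S-schemes with G_S-actions that are pseudo-torsors acquiring
sections on some fppf covering family). Then the direct image along X_S → S of the sheaf of
G-isomorphisms from E to F is an affine S-scheme of finite presentation. Concretely, writing X_T for
X_S ×_S T viewed over X_S and E_T = E ×_{X_S} X_T with the induced G_S-action: there are an S-scheme
R, affine and of finite presentation over S, and a G_S-equivariant isomorphism ψ_R : E_R ≅ F_R over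
X_R, such that for every S-scheme T every G_S-equivariant isomorphism ψ : E_T ≅ F_T over X_T is
obtained from ψ_R by base change along the morphism X_T → X_R induced by a unique S-morphism τ : T →
R. In the formulas the products are fibre products over X_S, the unnamed factor acted on is G_S, and
equivariance is written through the associativity isomorphism. -/
theorem result
    (k : Type u) [Field k] (n : ℕ) (X : Scheme.{u}) (imm : X ⟶ CohB1.ProjSpace n k) [IsClosedImmersion imm]
    (G : Over X) [GrpObj G] [IsAffineHom G.hom] [LocallyOfFiniteType G.hom]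
    (S : Scheme.{u}) (σ : S ⟶ Spec (CommRingCat.of k))
    (E F : Over (pullback (imm ≫ CohB1.ProjSpace.toSpec n k) σ))
    (aE : AlgGrp.Action (Red.bc (pullback.fst (imm ≫ CohB1.ProjSpace.toSpec n k) σ) G) E)
    (aF : AlgGrp.Action (Red.bc (pullback.fst (imm ≫ CohB1.ProjSpace.toSpec n k) σ) G) F)
    (hE : NonAbH1.IsTorsorFor Scheme.fppfPrecoverage aE)
    (hF : NonAbH1.IsTorsorFor Scheme.fppfPrecoverage aF) :
    ∃ (R : Scheme.{u}) (r : R ⟶ S)
      (ψR : E ⊗ Over.mk (pullback.fst (pullback.snd (imm ≫ CohB1.ProjSpace.toSpec n k) σ) r) ⟶ F ⊗ Over.mk (pullback.fst (pullback.snd (imm ≫ CohB1.ProjSpace.toSpec n k) σ) r)),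
      IsAffineHom r ∧ LocallyOfFinitePresentation r ∧
      ψR ≫ snd _ _ = snd _ _ ∧ IsIso ψR ∧
      (α_ _ _ _).inv ≫ (aE.act ▷ _) ≫ ψR = (_ ◁ ψR) ≫ (α_ _ _ _).inv ≫ (aF.act ▷ _) ∧
      ∀ (T : Scheme.{u}) (t : T ⟶ S)
        (ψ : E ⊗ Over.mk (pullback.fst (pullback.snd (imm ≫ CohB1.ProjSpace.toSpec n k) σ) t) ⟶ F ⊗ Over.mk (pullback.fst (pullback.snd (imm ≫ CohB1.ProjSpace.toSpec n k) σ) t)),
        ψ ≫ snd _ _ = snd _ _ → IsIso ψ →
        (α_ _ _ _).inv ≫ (aE.act ▷ _) ≫ ψ = (_ ◁ ψ) ≫ (α_ _ _ _).inv ≫ (aF.act ▷ _) →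
        ∃! τ : T ⟶ R, τ ≫ r = t ∧
          ∃ m : Over.mk (pullback.fst (pullback.snd (imm ≫ CohB1.ProjSpace.toSpec n k) σ) t) ⟶ Over.mk (pullback.fst (pullback.snd (imm ≫ CohB1.ProjSpace.toSpec n k) σ) r),
            m.left ≫ pullback.snd (pullback.snd (imm ≫ CohB1.ProjSpace.toSpec n k) σ) r = pullback.snd (pullback.snd (imm ≫ CohB1.ProjSpace.toSpec n k) σ) t ≫ τ ∧
            ψ = lift ((E ◁ m) ≫ ψR ≫ fst _ _) (snd _ _) := by
  classical
  let pX := imm ≫ CohB1.ProjSpace.toSpec n k
  let Z := pullback pX σ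
  let πS : Z ⟶ S := pullback.snd pX σ
  haveI : IsProper (CohB1.ProjSpace.toSpec n k) := Coherent.isProper_projSpace_toSpec n k
  haveI : IsProper pX := inferInstanceAs (IsProper (imm ≫ CohB1.ProjSpace.toSpec n k))
  haveI : IsLocallyNoetherian X := LocallyOfFiniteType.isLocallyNoetherian pX
  haveI : LocallyOfFinitePresentation G.hom :=
    Coherent.CohBC.locallyOfFinitePresentation_of_isLocallyNoetherian G.hom
  haveI : IsAffineHom (Red.bc (pullback.fst pX σ) G).hom :=
    MorphismProperty.pullback_snd (P := @IsAffineHom) _ _ inferInstance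
  haveI : LocallyOfFinitePresentation (Red.bc (pullback.fst pX σ) G).hom :=
    MorphismProperty.pullback_snd (P := @LocallyOfFinitePresentation) _ _ inferInstance
  obtain ⟨⟨A, ⟨e⟩, hA1, hA2⟩, hiso⟩ := IsomTor8.exists_rep_of_torsors hE hF
  obtain ⟨R, r, gR, hr1, hr2, hgR, huniv⟩ := Groth.Agent.S14279.result k n X imm S σ A.left A.hom
  let cR : IsomTor8.HomTor aE aF (Over.mk (pullback.fst πS r)) :=
    e.homEquiv (Over.homMk gR hgR : Over.mk (pullback.fst πS r) ⟶ A)
  refine ⟨R, r, lift cR.1 (snd _ _), hr1, hr2, lift_snd _ _, hiso _ cR,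
    (IsomTor8.isEquivariant_iff aE aF cR.1).1 cR.2, fun T t ψ hψ _ heq => ?_⟩
  have hψl : lift (ψ ≫ fst _ _) (snd _ _) = ψ := by
    conv_rhs => rw [← lift_comp_fst_snd ψ, hψ]
  let c : IsomTor8.HomTor aE aF (Over.mk (pullback.fst πS t)) :=
    ⟨ψ ≫ fst _ _, (IsomTor8.isEquivariant_iff aE aF _).2 (by rw [hψl]; exact heq)⟩
  let h : Over.mk (pullback.fst πS t) ⟶ A := e.homEquiv.symm c
  obtain ⟨τ, ⟨hτ, ν, hν1, hν2, hν3⟩, hu⟩ := huniv T t h.left (Over.w h)
  have hpull : ∀ ν' : Over.mk (pullback.fst πS t) ⟶ Over.mk (pullback.fst πS r),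
      ψ = lift ((E ◁ ν') ≫ lift cR.1 (snd _ _) ≫ fst _ _) (snd _ _) ↔ ν'.left ≫ gR = h.left := by
    intro ν'
    rw [lift_fst]
    constructor
    · intro hh
      have h1 : c = IsomTor8.pull ν' cR := Subtype.ext (show ψ ≫ fst _ _ = (E ◁ ν') ≫ cR.1 by rw [hh, lift_fst])
      have h2 : h = ν' ≫ (Over.homMk gR hgR : Over.mk (pullback.fst πS r) ⟶ A) := by
        apply e.homEquiv.injective
        rw [e.homEquiv_comp]
        exact (e.homEquiv.apply_symm_apply c).trans h1
      exact (congrArg Over.Hom.left h2).symm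
    · intro hh
      have h2 : h = ν' ≫ (Over.homMk gR hgR : Over.mk (pullback.fst πS r) ⟶ A) := Over.OverMorphism.ext hh.symm
      have h1 : c = IsomTor8.pull ν' cR := by
        rw [← e.homEquiv.apply_symm_apply c, show e.homEquiv.symm c = h from rfl, h2, e.homEquiv_comp]
        rfl
      rw [← show ψ ≫ fst _ _ = (E ◁ ν') ≫ cR.1 from congrArg Subtype.val h1, hψl]
  refine ⟨τ, ⟨hτ, Over.homMk ν hν1, hν2, (hpull _).2 hν3⟩, ?_⟩
  rintro τ' ⟨hτ', ν', hν', hh⟩
  exact hu τ' ⟨hτ', ν'.left, Over.w ν', hν', (hpull ν').1 hh⟩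

end Groth.Agent.S14282
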