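import Groth.Statements.S14285
import Groth.Agent.ArtGlobal29.Basic
import Groth.Agent.EGA43.CurveApprox
open CategoryTheory.Limits TopologicalSpace
open Groth.Agent
set_option linter.style.haveILetI false
set_option linter.unusedSectionVars false
set_option backward.isDefEq.respectTransparency.types false

set_option autoImplicit false
universe u
open CategoryTheory AlgebraicGeometry
open EllLift

set_option backward.isDefEq.respectTransparency.types false
set_option backward.isDefEq.respectTransparency false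

namespace Groth.Agent.S14285


section Gen
open Groth.Agent.ArtGlobal29
variable {C : Type u} [CommRing C] {X : Scheme.{u}} (g : X ⟶ Spec (CommRingCat.of C)) (J : Ideal C)
  (X₀ : Scheme.{u}) (i : X₀ ⟶ X) (f₀ : X₀ ⟶ Spec (CommRingCat.of (C ⧸ J)))
  (hsq : IsPullback i f₀ g (Spec.map (CommRingCat.ofHom (Ideal.Quotient.mk J))))

include hsq

theorem app_strMap (U : X.Opens) (c : C) :
    i.app U (strMap g U c) = strMap f₀ (i ⁻¹ᵁ U) (Ideal.Quotient.mk J c) := by
  have key : ∀ {V} (e : V = i ⁻¹ᵁ U) (e' : V ≤ i ⁻¹ᵁ U),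
      (Scheme.ΓSpecIso (CommRingCat.of C)).inv ≫ g.appLE ⊤ U (top_le_preimage g U) ≫ i.appLE U V e' =
        CommRingCat.ofHom (Ideal.Quotient.mk J) ≫
          (Scheme.ΓSpecIso (CommRingCat.of (C ⧸ J))).inv ≫
            f₀.appLE ⊤ V (top_le_preimage f₀ V) := by
    intro V _ e'
    rw [Scheme.Hom.appLE_comp_appLE]
    have hw := hsq.w
    simp only [hw, Scheme.Hom.comp_appLE]
    rw [Scheme.ΓSpecIso_inv_naturality_assoc]
    rfl
  have h := congrArg (fun φ => CommRingCat.Hom.hom φ c) (key rfl le_rfl)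
  simp only [← Scheme.Hom.app_eq_appLE] at h
  exact h

theorem ker_app {U : X.Opens} (hU : IsAffineOpen U) :
    RingHom.ker (i.app U).hom = J.map (strMap g U) := by
  refine le_antisymm (fun a ha => ?_) ?_
  · let M := J.map (strMap g U)
    let qA : CommRingCat.of Γ(X, U) ⟶ CommRingCat.of (Γ(X, U) ⧸ M) := CommRingCat.ofHom (Ideal.Quotient.mk M)
    let ξ : Spec (CommRingCat.of (Γ(X, U) ⧸ M)) ⟶ X := Spec.map qA ≫ hU.fromSpec
    let ρ : C ⧸ J →+* Γ(X, U) ⧸ M :=
      Ideal.quotientMap M (strMap g U) Ideal.le_comap_map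
    have eU : ⊤ ≤ ξ ⁻¹ᵁ U := by
      show ⊤ ≤ (Spec.map qA) ⁻¹ᵁ (hU.fromSpec ⁻¹ᵁ U)
      rw [hU.fromSpec_preimage_self]
      exact le_rfl
    have hξ : ξ.appLE U ⊤ eU = qA ≫ (Scheme.ΓSpecIso (CommRingCat.of (Γ(X, U) ⧸ M))).inv := by
      simp only [ξ, Scheme.Hom.comp_appLE, hU.fromSpec_app_self, Category.assoc, Scheme.Hom.map_appLE]
      rw [Scheme.ΓSpecIso_inv_naturality qA, Scheme.Hom.appTop, Scheme.Hom.app_eq_appLE]
      rfl
    have w : ξ ≫ g = Spec.map (CommRingCat.ofHom ρ) ≫
        Spec.map (CommRingCat.ofHom (Ideal.Quotient.mk J)) := by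
      refine ext_of_isAffine ?_
      rw [← Spec.map_comp]
      have h1 : (ξ ≫ g).appTop = g.appLE ⊤ U (top_le_preimage g U) ≫ ξ.appLE U ⊤ eU := by
        rw [Scheme.Hom.appLE_comp_appLE, Scheme.Hom.appTop, Scheme.Hom.app_eq_appLE]
        rfl
      rw [h1, hξ, ← cancel_epi (Scheme.ΓSpecIso (CommRingCat.of C)).inv, ← Scheme.ΓSpecIso_inv_naturality]
      simp only [← Category.assoc]
      congr 1
    have h2 : ξ.appLE U ⊤ eU a = 0 := by
      have hl := hsq.lift_fst ξ (Spec.map (CommRingCat.ofHom ρ)) w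
      have e2 : ⊤ ≤ hsq.lift ξ (Spec.map (CommRingCat.ofHom ρ)) w ⁻¹ᵁ (i ⁻¹ᵁ U) := by
        rw [← Scheme.Hom.comp_preimage, hl]; exact eU
      have : ξ.appLE U ⊤ eU = i.app U ≫ (hsq.lift ξ (Spec.map (CommRingCat.ofHom ρ)) w).appLE (i ⁻¹ᵁ U) ⊤ e2 := by
        rw [← Scheme.Hom.comp_appLE]
        simp only [hl]
      rw [this, ConcreteCategory.comp_apply, show i.app U a = 0 from ha, map_zero]
    rw [hξ, ConcreteCategory.comp_apply] at h2
    have h3 := (ConcreteCategory.bijective_of_isIso (Scheme.ΓSpecIso (CommRingCat.of (Γ(X, U) ⧸ M))).inv).1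
      (h2.trans (map_zero _).symm)
    exact Ideal.Quotient.eq_zero_iff_mem.1 h3
  · rw [Ideal.map_le_iff_le_comap]
    intro c hc
    show i.app U (strMap g U c) = 0
    rw [app_strMap g J X₀ i f₀ hsq, Ideal.Quotient.eq_zero_iff_mem.2 hc, map_zero]

end Gen

theorem strMap_comp_spec {C D : Type u} [CommRing C] [CommRing D] (e : C →+* D) {Y : Scheme.{u}}
    (f : Y ⟶ Spec (CommRingCat.of D)) :
    Groth.Agent.ArtGlobal29.strMap (f ≫ Spec.map (CommRingCat.ofHom e)) ⊤ =
      (Groth.Agent.ArtGlobal29.strMap f ⊤).comp e := by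
  have h := Scheme.ΓSpecIso_inv_naturality_assoc (CommRingCat.ofHom e) f.appTop
  simp only [Scheme.Hom.appTop, Scheme.Hom.app_eq_appLE] at h
  simp only [Groth.Agent.ArtGlobal29.strMap, Scheme.Hom.comp_appLE]
  exact (congrArg CommRingCat.Hom.hom h).symm

/-- Let R be a complete Noetherian local ring with maximal ideal m and residue field k = R/m, g : X →
Spec R a proper and flat morphism, and i : X₀ → X the fibre of g over the closed point, i.e. a
pullback of g along Spec k → Spec R, with structure map f₀ : X₀ → Spec k. If the induced ring map k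
→ Γ(X₀, O_{X₀}) is bijective, then so is R → Γ(X, O_X). -/
theorem result (R : Type u) [CommRing R]
    [IsLocalRing R] [IsNoetherianRing R] [IsAdicComplete (IsLocalRing.maximalIdeal R) R]
    (X X₀ : Scheme.{u}) (g : X ⟶ Spec (CommRingCat.of R)) [IsProper g] [Flat g]
    (i : X₀ ⟶ X) (f₀ : X₀ ⟶ Spec (CommRingCat.of (R ⧸ IsLocalRing.maximalIdeal R)))
    (hsq : IsPullback i f₀ g
      (Spec.map (CommRingCat.ofHom (Ideal.Quotient.mk (IsLocalRing.maximalIdeal R)))))
    (h0 : Function.Bijective ((Scheme.ΓSpecIso (CommRingCat.of (R ⧸ IsLocalRing.maximalIdeal R))).inv ≫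
      f₀.appTop)) :
    Function.Bijective ((Scheme.ΓSpecIso (CommRingCat.of R)).inv ≫ g.appTop) := by
  classical
  have h : ∀ {A : Type u} [CommRing A] {Y : Scheme.{u}} (f : Y ⟶ Spec (CommRingCat.of A)),
      ((Scheme.ΓSpecIso (CommRingCat.of A)).inv ≫ f.appTop).hom = ArtGlobal29.strMap f ⊤ := by
    intro A _ Y f
    rw [Scheme.Hom.appTop, Scheme.Hom.app_eq_appLE]
    rfl
  have h1 : Function.Bijective (ArtGlobal29.strMap f₀ ⊤) := by rw [← h]; exact h0
  suffices hb : Function.Bijective (ArtGlobal29.strMap g ⊤) by rw [← h] at hb; exact hb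
  let m := IsLocalRing.maximalIdeal R
  -- the thickenings
  let C : ℕ → Type u := fun n => R ⧸ m ^ (n + 1)
  let Sn : ∀ n, Spec (CommRingCat.of (C n)) ⟶ Spec (CommRingCat.of R) := fun n =>
    Spec.map (CommRingCat.ofHom (Ideal.Quotient.mk (m ^ (n + 1))))
  let Xn : ℕ → Scheme.{u} := fun n => pullback g (Sn n)
  let gn : ∀ n, Xn n ⟶ Spec (CommRingCat.of (C n)) := fun n => pullback.snd g (Sn n)
  let ι : ∀ n, Xn n ⟶ X := fun n => pullback.fst g (Sn n)
  have hsqn : ∀ n, IsPullback (ι n) (gn n) g (Sn n) := fun n => IsPullback.of_hasPullback _ _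
  have hbij : ∀ n, Function.Bijective (ArtGlobal29.strMap (gn n) ⊤) := fun n => by
    have hle : m ^ (n + 1) ≤ m := Ideal.pow_le_self (Nat.succ_ne_zero n)
    haveI : Nontrivial (C n) := Ideal.Quotient.nontrivial_iff.2
      (ne_top_of_le_ne_top (IsLocalRing.maximalIdeal.isMaximal R).ne_top hle)
    haveI : IsLocalRing (C n) := .of_surjective' (Ideal.Quotient.mk _) Ideal.Quotient.mk_surjective
    haveI : IsArtinianRing (C n) := EGA43.CurveApprox.isArtinian_quot_pow (A := R) (n + 1)
    let ψ : C n →+* R ⧸ m := Ideal.Quotient.factor hle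
    have hψs : Function.Surjective ψ := Ideal.Quotient.factor_surjective hle
    have hker : RingHom.ker ψ = IsLocalRing.maximalIdeal (C n) := by
      letI := Ideal.Quotient.field m
      exact IsLocalRing.eq_maximalIdeal (RingHom.ker_isMaximal_of_surjective ψ hψs)
    let e : C n ⧸ IsLocalRing.maximalIdeal (C n) ≃+* R ⧸ m :=
      (Ideal.quotEquivOfEq hker.symm).trans (RingHom.quotientKerEquivOfSurjective hψs)
    have he : e.toRingHom.comp (Ideal.Quotient.mk _) = ψ := RingHom.ext fun c => rfl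
    haveI : IsIso (CommRingCat.ofHom e.toRingHom) := e.toCommRingCatIso.isIso_hom
    let E := asIso (Spec.map (CommRingCat.ofHom e.toRingHom))
    let f₀' := f₀ ≫ Spec.map (CommRingCat.ofHom e.toRingHom)
    have hT : Spec.map (CommRingCat.ofHom (Ideal.Quotient.mk (IsLocalRing.maximalIdeal (C n)))) ≫ Sn n =
        inv (Spec.map (CommRingCat.ofHom e.toRingHom)) ≫ Spec.map (CommRingCat.ofHom (Ideal.Quotient.mk m)) := by
      rw [IsIso.eq_inv_comp, ← Category.assoc, ← Spec.map_comp, ← Spec.map_comp, ← CommRingCat.ofHom_comp,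
        ← CommRingCat.ofHom_comp, he, Ideal.Quotient.factor_comp_mk]
    have hsq' : IsPullback i f₀' g
        (Spec.map (CommRingCat.ofHom (Ideal.Quotient.mk (IsLocalRing.maximalIdeal (C n)))) ≫ Sn n) := by
      refine hsq.of_iso (Iso.refl _) (Iso.refl _) E (Iso.refl _) (by simp) (by simp [E, f₀']) (by simp) ?_
      rw [hT]; simp [E, m]
    let j : X₀ ⟶ Xn n := pullback.lift i (f₀' ≫ Spec.map (CommRingCat.ofHom (Ideal.Quotient.mk _))) (by
      rw [Category.assoc]; exact hsq'.w)
    have hj : IsPullback j f₀' (gn n)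
        (Spec.map (CommRingCat.ofHom (Ideal.Quotient.mk (IsLocalRing.maximalIdeal (C n))))) := by
      refine IsPullback.of_right ?_ (pullback.lift_snd _ _ _) (hsqn n)
      rw [pullback.lift_fst]; exact hsq'
    refine ArtGlobal29.bijective_strMap (gn n) X₀ j f₀' hj ?_
    rw [strMap_comp_spec]
    exact h1.comp e.bijective
  -- sections vanishing on all thickenings
  have hzero : ∀ s : Γ(X, ⊤), (∀ n, (ι n).app ⊤ s = 0) → s = 0 := by
    intro s hs
    haveI := LocallyOfFiniteType.isLocallyNoetherian g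
    refine TopCat.Presheaf.section_ext X.sheaf ⊤ s 0 fun y _ => ?_
    have hcl := g.isClosedMap (closure {y}) isClosed_closure
    obtain ⟨x, hx, hgx⟩ : IsLocalRing.closedPoint R ∈ g '' closure {y} :=
      (IsLocalRing.specializes_closedPoint (g y)).mem_closed hcl ⟨y, subset_closure rfl, rfl⟩
    have hyx : y ⤳ x := specializes_iff_mem_closure.2 hx
    have hgerm : X.presheaf.germ ⊤ x trivial s = 0 := by
      obtain ⟨U, hU, hxU, -⟩ := exists_isAffineOpen_mem_and_subset (X := X) (x := x) (U := ⊤) trivial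
      let φ := (X.presheaf.germ U x hxU).hom.comp (ArtGlobal29.strMap g U)
      have hm : m.map φ ≤ IsLocalRing.maximalIdeal (X.presheaf.stalk x) := Ideal.map_le_iff_le_comap.2 fun c hc => by
        show ¬ IsUnit (X.presheaf.germ U x hxU (ArtGlobal29.strMap g U c))
        rw [← Scheme.mem_basicOpen]
        intro hmem
        have h2 : x ∈ U ⊓ g ⁻¹ᵁ (Spec (CommRingCat.of R)).basicOpen ((Scheme.ΓSpecIso (CommRingCat.of R)).inv c) :=
          (Scheme.basicOpen_appLE g U ⊤ (ArtGlobal29.top_le_preimage g U) ((Scheme.ΓSpecIso (CommRingCat.of R)).inv c)).le hmem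
        have h3 : g x ∈ (Spec (CommRingCat.of R)).basicOpen ((Scheme.ΓSpecIso (CommRingCat.of R)).inv c) := h2.2
        rw [hgx, basicOpen_eq_of_affine] at h3
        exact h3 hc
      have hmem : X.presheaf.germ ⊤ x trivial s ∈
          (⨅ n : ℕ, IsLocalRing.maximalIdeal (X.presheaf.stalk x) ^ n) := by
        refine Ideal.mem_iInf.2 fun n => ?_
        refine Ideal.pow_le_pow_right (Nat.le_succ n) ?_
        have hk : (ι n).app U (X.presheaf.map (homOfLE le_top).op s) = 0 := by
          rw [← ConcreteCategory.comp_apply, Scheme.Hom.naturality, ConcreteCategory.comp_apply, hs n, map_zero]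
        have hk' : X.presheaf.map (homOfLE le_top).op s ∈ (m ^ (n + 1)).map (ArtGlobal29.strMap g U) :=
          (ker_app g (m ^ (n + 1)) (Xn n) (ι n) (gn n) (hsqn n) hU).le hk
        have hk2 := Ideal.mem_map_of_mem (X.presheaf.germ U x hxU).hom hk'
        rw [Ideal.map_map, Ideal.map_pow] at hk2
        rw [← TopCat.Presheaf.germ_res_apply X.presheaf (homOfLE (le_top (a := U))) x hxU s]
        exact Ideal.pow_right_mono hm _ hk2
      rw [Ideal.iInf_pow_eq_bot_of_isLocalRing _ (IsLocalRing.maximalIdeal.isMaximal _).ne_top] at hmem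
      exact hmem
    obtain ⟨W, hxW, a, b, hab⟩ := X.presheaf.germ_eq x (U := ⊤) (V := ⊤) trivial trivial s 0 (hgerm.trans (map_zero _).symm)
    have hyW : y ∈ W := hyx.mem_open W.2 hxW
    have e1 := TopCat.Presheaf.germ_res_apply X.presheaf a y hyW s
    have e2 := TopCat.Presheaf.germ_res_apply X.presheaf b y hyW 0
    exact e1.symm.trans ((congrArg (X.presheaf.germ W y hyW) hab).trans e2)
  refine ⟨(injective_iff_map_eq_zero _).2 fun r hr => ?_, fun s => ?_⟩
  · refine IsHausdorff.haus (IsAdicComplete.toIsHausdorff (I := m) (R := R) (M := R)) r fun n => ?_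
    rw [smul_eq_mul, Ideal.mul_top, SModEq.zero]
    cases n with
    | zero => simp
    | succ n =>
      rw [← Ideal.Quotient.eq_zero_iff_mem]
      refine (hbij n).1 ?_
      rw [map_zero]
      refine Eq.trans (app_strMap g (m ^ (n + 1)) (Xn n) (ι n) (gn n) (hsqn n) ⊤ r).symm ?_
      rw [hr, map_zero]
  · choose c hc using fun n => (hbij n).2 ((ι n).app ⊤ s)
    choose r hr using fun n => Ideal.Quotient.mk_surjective (c n)
    have happ : ∀ n (t : R), (ι n).app ⊤ (ArtGlobal29.strMap g ⊤ t) =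
        ArtGlobal29.strMap (gn n) ⊤ (Ideal.Quotient.mk _ t) := fun n t =>
      app_strMap g (m ^ (n + 1)) (Xn n) (ι n) (gn n) (hsqn n) ⊤ t
    have hstep : ∀ n, r (n + 1) - r n ∈ m ^ (n + 1) := fun n => by
      have hle : m ^ (n + 1 + 1) ≤ m ^ (n + 1) := Ideal.pow_le_pow_right (Nat.le_succ _)
      let τ : Xn n ⟶ Xn (n + 1) := pullback.lift (ι n)
        (gn n ≫ Spec.map (CommRingCat.ofHom (Ideal.Quotient.factor hle))) (by
          rw [Category.assoc, ← Spec.map_comp, ← CommRingCat.ofHom_comp, Ideal.Quotient.factor_comp_mk]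
          exact (hsqn n).w)
      have hτ : τ ≫ ι (n + 1) = ι n := pullback.lift_fst _ _ _
      have hkill : ∀ t : Γ(X, ⊤), (ι (n + 1)).app ⊤ t = 0 → (ι n).app ⊤ t = 0 := by
        rw [← hτ]
        intro t ht
        rw [Scheme.Hom.comp_app, ConcreteCategory.comp_apply, ht, map_zero]
      rw [← Ideal.Quotient.eq_zero_iff_mem, map_sub, sub_eq_zero]
      refine (hbij n).1 ?_
      rw [← happ, ← happ, happ n (r n), hr, hc, ← sub_eq_zero]
      refine (map_sub ((ι n).app ⊤).hom _ _).symm.trans (hkill _ ?_)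
      rw [map_sub, happ, hr, hc, sub_self]
    obtain ⟨L, hL⟩ := IsPrecomplete.prec (IsAdicComplete.toIsPrecomplete (I := m) (R := R) (M := R)) (f := r) (by
      intro p q hpq
      induction q, hpq using Nat.le_induction with
      | base => rfl
      | succ q hq ih =>
        refine ih.trans ?_
        rw [smul_eq_mul, Ideal.mul_top, SModEq.sub_mem]
        have := Ideal.pow_le_pow_right (by omega : p ≤ q + 1) (hstep q)
        rw [← neg_sub]
        exact Submodule.neg_mem _ this)
    refine ⟨L, sub_eq_zero.1 (hzero _ fun n => ?_)⟩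
    rw [map_sub, happ, ← hc n, ← hr n, sub_eq_zero]
    congr 1
    rw [← sub_eq_zero, ← map_sub, Ideal.Quotient.eq_zero_iff_mem]
    have h2 := hL (n + 1)
    rw [smul_eq_mul, Ideal.mul_top, SModEq.sub_mem] at h2
    have h3 := Submodule.sub_mem _ (hstep n) h2
    rw [sub_sub_sub_cancel_left] at h3
    exact h3

end Groth.Agent.S14285
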