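import Groth.Statements.S14294
import Mathlib

set_option linter.all false

set_option autoImplicit false
universe u v
open PtDeg

open TensorProduct

namespace Groth.Agent.S14294

theorem pd2_zero {A : Type u} {G : Type v} [AddCommGroup A] [AddCommGroup G]
    (f : A → G) (hf : ∀ x y z : A, f (x + y + z) + f x + f y + f z = f (x + y) + f (x + z) + f (y + z)) :
    f 0 = 0 := by
  have h := hf 0 0 0
  simp only [add_zero] at h
  simpa using h

theorem pd2_rec {A : Type u} {G : Type v} [AddCommGroup A] [AddCommGroup G]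
    (f : A → G) (hf : ∀ x y z : A, f (x + y + z) + f x + f y + f z = f (x + y) + f (x + z) + f (y + z))
    (y x : A) : f (y + x) + f (y - x) = f y + f y + f x + f (-x) := by
  have h := hf y x (-x)
  simp only [add_neg_cancel_right, add_neg_cancel, pd2_zero f hf, add_zero] at h
  rw [← sub_eq_add_neg] at h
  exact h.symm

theorem tri_succ (n : ℤ) : (n + 1) * (n + 1 + 1) / 2 = n * (n + 1) / 2 + (n + 1) := by
  rw [show (n + 1) * (n + 1 + 1) = n * (n + 1) + (n + 1) * 2 by ring,
    Int.add_mul_ediv_right _ _ (two_ne_zero)]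

theorem tri_succ' (n : ℤ) : (n + 1) * (n + 1 - 1) / 2 = n * (n - 1) / 2 + n := by
  rw [show (n + 1) * (n + 1 - 1) = n * (n - 1) + n * 2 by ring,
    Int.add_mul_ediv_right _ _ (two_ne_zero)]

theorem pd2_formula {A : Type u} {G : Type v} [AddCommGroup A] [AddCommGroup G]
    (f : A → G) (hf : ∀ x y z : A, f (x + y + z) + f x + f y + f z = f (x + y) + f (x + z) + f (y + z))
    (n : ℤ) (x : A) :
    f (n • x) = (n * (n + 1) / 2) • f x + (n * (n - 1) / 2) • f (-x) := by
  suffices ∀ m : ℤ, f (m • x) = (m * (m + 1) / 2) • f x + (m * (m - 1) / 2) • f (-x) ∧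
      f ((m + 1) • x) = ((m + 1) * (m + 1 + 1) / 2) • f x + ((m + 1) * (m + 1 - 1) / 2) • f (-x) from
    (this n).1
  intro m
  have step : ∀ j : ℤ, f ((j + 1 + 1) • x) + f (j • x) = f ((j + 1) • x) + f ((j + 1) • x) + f x + f (-x) := by
    intro j
    have h := pd2_rec f hf ((j + 1) • x) x
    rwa [show (j + 1) • x + x = (j + 1 + 1) • x by rw [add_zsmul _ (j + 1) 1, one_zsmul],
      show (j + 1) • x - x = j • x by rw [add_zsmul, one_zsmul, add_sub_cancel_right]] at h
  induction m using Int.induction_on with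
  | zero => simp [pd2_zero f hf]
  | succ i ih =>
    refine ⟨ih.2, ?_⟩
    have h := step (i : ℤ)
    rw [tri_succ ((i : ℤ) + 1), tri_succ' ((i : ℤ) + 1), eq_sub_of_add_eq h, ih.1, ih.2,
      tri_succ (i : ℤ), tri_succ' (i : ℤ)]
    module
  | pred i ih =>
    rw [show -(i : ℤ) - 1 + 1 = -(i : ℤ) by ring]
    refine ⟨?_, ih.1⟩
    have h := step (-(i : ℤ) - 1)
    rw [show -(i : ℤ) - 1 + 1 = -(i : ℤ) by ring, add_comm] at h
    have e1 := tri_succ (-(i : ℤ) - 1)
    have e2 := tri_succ' (-(i : ℤ) - 1)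
    rw [show -(i : ℤ) - 1 + 1 = -(i : ℤ) by ring] at e1 e2
    rw [eq_sub_of_add_eq h, ih.1, ih.2, tri_succ (-(i : ℤ)), tri_succ' (-(i : ℤ))]
    rw [show -(i : ℤ) * (-(i : ℤ) + 1) / 2 = (-(i : ℤ) - 1) * -(i : ℤ) / 2 + -(i : ℤ) from e1,
      show -(i : ℤ) * (-(i : ℤ) - 1) / 2 = (-(i : ℤ) - 1) * (-(i : ℤ) - 1 - 1) / 2 + (-(i : ℤ) - 1) from e2]
    module

theorem pd2_annih {A : Type u} {G : Type v} [AddCommGroup A] [AddCommGroup G]
    (f : A → G) (hf : ∀ x y z : A, f (x + y + z) + f x + f y + f z = f (x + y) + f (x + z) + f (y + z))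
    (n : ℤ) (hn : ∀ x : A, n • x = 0) (x : A) :
    n • f x + (n * (n - 1) / 2) • (f x + f (-x)) = 0 ∧ n • (f x + f (-x)) = 0 := by
  have h0 := pd2_formula f hf n x
  have h1 := pd2_formula f hf (n + 1) x
  rw [hn, pd2_zero f hf] at h0
  rw [add_zsmul, hn, one_zsmul, zero_add, tri_succ, tri_succ'] at h1
  have e : n * (n + 1) / 2 = n * (n - 1) / 2 + n := by
    rw [show n * (n + 1) = n * (n - 1) + n * 2 by ring, Int.add_mul_ediv_right _ _ (two_ne_zero)]
  rw [e] at h0 h1
  constructor
  · rw [h0]; module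
  · have h2 : (n • (f x + f (-x))) + f x = f x := by
      conv_rhs => rw [h1]
      have h0' := h0.symm
      calc n • (f x + f (-x)) + f x
          = ((n * (n - 1) / 2 + n) • f x + (n * (n - 1) / 2) • f (-x)) + (n • (f x + f (-x)) + f x) := by
            rw [h0', zero_add]
        _ = _ := by module
    simpa using h2

/-- Let A and G be abelian groups, written additively, and f : A → G a map which is pointed of degree 2,
that is f(x+y+z) + f(x) + f(y) + f(z) = f(x+y) + f(x+z) + f(y+z) for all x, y, z in A. If an integer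
n satisfies n·x = 0 for every x in A, then 2n·f(x) = 0 for every x in A, and if moreover n is odd
then n·f(x) = 0 for every x in A. -/
theorem result {A : Type u} {G : Type v} [AddCommGroup A] [AddCommGroup G]
    (f : A → G) (hf : ∀ x y z : A, f (x + y + z) + f x + f y + f z = f (x + y) + f (x + z) + f (y + z))
    (n : ℤ) (hn : ∀ x : A, n • x = 0) :
    (∀ x : A, (2 * n) • f x = 0) ∧ (Odd n → ∀ x : A, n • f x = 0) := by
  refine ⟨fun x => ?_, fun ho x => ?_⟩
  · obtain ⟨h1, h2⟩ := pd2_annih f hf n hn x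
    have h3 : (n * (n - 1) / 2 * 2) • (f x + f (-x)) = 0 := by
      rw [Int.ediv_mul_cancel (Int.even_mul_pred_self n).two_dvd, mul_comm, mul_zsmul, h2, smul_zero]
    calc (2 * n) • f x = (2 : ℤ) • (n • f x + (n * (n - 1) / 2) • (f x + f (-x))) -
        (n * (n - 1) / 2 * 2) • (f x + f (-x)) := by module
      _ = 0 := by rw [h1, h3]; simp
  · obtain ⟨k, hk⟩ := ho
    obtain ⟨h1, h2⟩ := pd2_annih f hf n hn x
    have : n * (n - 1) / 2 = k * n := by
      rw [show n - 1 = k * 2 by omega, ← mul_assoc, Int.mul_ediv_cancel _ two_ne_zero, mul_comm]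
    rwa [this, mul_zsmul, h2, smul_zero, add_zero] at h1

end Groth.Agent.S14294
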