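import Groth.Statements.S14297
import Mathlib
import Groth.Prelude

set_option linter.all false

set_option autoImplicit false
universe u
open MeasureTheory
open PtDeg

open MeasureTheory

namespace Groth.Agent.S14297

section
variable {G : Type*} [AddCommGroup G]

/-- alternating difference -/
def altT {n : ℕ} (φ : G → ℝ) (x : Fin n → G) (t : G) : ℝ :=
  ∑ I ∈ (Finset.univ : Finset (Fin n)).powerset, (-1 : ℝ) ^ (n + I.card) * φ (t + ∑ i ∈ I, x i)

def devi (m : ℕ) (φ : G → ℝ) (x : Fin (m + 1) → G) : ℝ :=
  ∑ I ∈ ((Finset.univ : Finset (Fin (m + 1))).powerset.erase ∅),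
        (-1 : ℝ) ^ (m + 1 + I.card) * φ (∑ i ∈ I, x i)

lemma devi_eq (m : ℕ) (φ : G → ℝ) (x : Fin (m + 1) → G) :
    devi m φ x = altT φ x 0 - (-1) ^ (m + 1) * φ 0 := by
  rw [altT, ← Finset.sum_erase_add _ _ (Finset.empty_mem_powerset _)]
  simp [devi]

lemma altT_cons {n : ℕ} (φ : G → ℝ) (a : G) (r : Fin n → G) (t : G) :
    altT φ (Fin.cons a r) t = altT φ r (t + a) - altT φ r t := by
  classical
  have h0 : (0 : Fin (n + 1)) ∉ (Finset.univ : Finset (Fin n)).image Fin.succ := by simp
  have hu : (Finset.univ : Finset (Fin (n + 1)))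
      = insert 0 ((Finset.univ : Finset (Fin n)).image Fin.succ) := by
    ext i; cases i using Fin.cases <;> simp
  unfold altT
  rw [hu, Finset.sum_powerset_insert h0, Finset.powerset_image]
  have hinj : Set.InjOn (fun s : Finset (Fin n) => s.image Fin.succ)
      ((Finset.univ : Finset (Fin n)).powerset : Set (Finset (Fin n))) := by
    intro s _ s' _ h
    exact Finset.image_injective (Fin.succ_injective n) h
  rw [Finset.sum_image hinj, Finset.sum_image hinj]
  rw [sub_eq_add_neg, add_comm (∑ x ∈ _, _ * φ (t + a + _)), ← Finset.sum_neg_distrib]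
  congr 1 <;> refine Finset.sum_congr rfl fun I _ => ?_
  · rw [Finset.card_image_of_injective _ (Fin.succ_injective n),
      Finset.sum_image (fun i _ j _ h => Fin.succ_injective n h)]
    simp only [Fin.cons_succ]
    rw [show n + 1 + I.card = (n + I.card) + 1 by omega, pow_succ]
    ring
  · have hI : (0 : Fin (n + 1)) ∉ I.image Fin.succ := by simp
    rw [Finset.card_insert_of_notMem hI, Finset.sum_insert hI,
      Finset.card_image_of_injective _ (Fin.succ_injective n),
      Finset.sum_image (fun i _ j _ h => Fin.succ_injective n h)]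
    simp only [Fin.cons_succ, Fin.cons_zero]
    rw [show n + 1 + (I.card + 1) = (n + I.card) + 2 by omega, pow_add, ← add_assoc]
    ring

lemma devi_succ {m : ℕ} (φ : G → ℝ) (a b : G) (r : Fin m → G) :
    devi (m + 1) φ (Fin.cons a (Fin.cons b r)) = devi m φ (Fin.cons (a + b) r)
      - devi m φ (Fin.cons a r) - devi m φ (Fin.cons b r) := by
  simp only [devi_eq, altT_cons, zero_add]
  ring

lemma cons_cons_self {m : ℕ} (x : Fin (m + 2) → G) :
    x = Fin.cons (x 0) (Fin.cons (x 1) (Fin.tail (Fin.tail x))) := by
  conv_lhs => rw [← Fin.cons_self_tail x, ← Fin.cons_self_tail (Fin.tail x)]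
  rfl

end

section
variable {G : Type*} [AddCommGroup G] [TopologicalSpace G] [IsTopologicalAddGroup G]
  [CompactSpace G]

lemma additive_zero (h : G → ℝ) (hc : Continuous h) (hadd : ∀ a b, h (a + b) = h a + h b) :
    ∀ a, h a = 0 := by
  intro a
  obtain ⟨C, hC⟩ := (isCompact_range hc).isBounded.exists_norm_le
  have hn : ∀ n : ℕ, h (n • a) = n * h a := by
    intro n
    induction n with
    | zero =>
      have := hadd 0 0
      simp at this ⊢
      linarith
    | succ n ih => rw [succ_nsmul, hadd, ih]; push_cast; ring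
  by_contra hne
  obtain ⟨n, hn'⟩ := exists_nat_gt (C / |h a|)
  have h1 := hC _ ⟨n • a, rfl⟩
  rw [hn, Real.norm_eq_abs, abs_mul, Nat.abs_cast] at h1
  rw [div_lt_iff₀ (abs_pos.2 hne)] at hn'
  linarith

lemma continuous_devi (m : ℕ) (φ : G → ℝ) (hφ : Continuous φ) : Continuous (devi m φ) := by
  unfold devi
  fun_prop

lemma devi_eq_zero : ∀ (m : ℕ) (φ : G → ℝ), Continuous φ → (∀ x, devi m φ x = 0) → ∀ g, φ g = 0 := by
  intro m
  induction m with
  | zero =>
    intro φ _ h g
    have := h (fun _ => g)
    rw [← Fin.cons_self_tail (fun _ : Fin 1 => g), devi_eq, altT_cons] at this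
    simp [altT] at this
    linarith
  | succ m ih =>
    intro φ hφ h
    refine ih φ hφ fun x => ?_
    rw [← Fin.cons_self_tail x]
    refine additive_zero (fun a => devi m φ (Fin.cons a (Fin.tail x))) ?_ ?_ _
    · exact (continuous_devi m φ hφ).comp (Continuous.finCons (A := fun _ => G) continuous_id continuous_const)
    · intro a b
      have := h (Fin.cons a (Fin.cons b (Fin.tail x)))
      rw [devi_succ] at this
      linarith

variable [T2Space G] [MeasurableSpace G] [BorelSpace G]

lemma measurable_of_continuous_pi {n : ℕ} (f : (Fin n → G) → ℝ) (hf : Continuous f) :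
    Measurable f := by
  let A : Subalgebra ℝ C(Fin n → G, ℝ) :=
    { carrier := {f | Measurable f}
      mul_mem' := fun ha hb => by
        simp only [Set.mem_setOf_eq, ContinuousMap.coe_mul] at *
        exact ha.mul hb
      one_mem' := by simp [Set.mem_setOf_eq]; exact measurable_const
      add_mem' := fun ha hb => by
        simp only [Set.mem_setOf_eq, ContinuousMap.coe_add] at *
        exact ha.add hb
      zero_mem' := by simp [Set.mem_setOf_eq]; exact measurable_const
      algebraMap_mem' := fun r => by simp [Set.mem_setOf_eq]; exact measurable_const }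
  have hsep : A.SeparatesPoints := by
    intro x y hxy
    obtain ⟨i, hi⟩ := Function.ne_iff.1 hxy
    obtain ⟨g, hg0, hg1, -⟩ := exists_continuous_zero_one_of_isClosed (isClosed_singleton (x := x i))
      (isClosed_singleton (x := y i)) (Set.disjoint_singleton.2 hi)
    refine ⟨_, ⟨g.comp ⟨fun z => z i, continuous_apply i⟩, ?_, rfl⟩, ?_⟩
    · exact g.continuous.measurable.comp (measurable_pi_apply i)
    · simp [hg0 (Set.mem_singleton _), hg1 (Set.mem_singleton _)]
  have := ContinuousMap.continuousMap_mem_subalgebra_closure_of_separatesPoints A hsep ⟨f, hf⟩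
  rw [← SetLike.mem_coe, Subalgebra.topologicalClosure_coe, mem_closure_iff_seq_limit] at this
  obtain ⟨u, hu, hlim⟩ := this
  exact measurable_of_tendsto_metrizable hu
    (tendsto_pi_nhds.2 fun z => ((continuous_eval_const z).tendsto _).comp hlim)

lemma integrable_of_continuous_pi {n : ℕ} (ν : Measure (Fin n → G)) [IsFiniteMeasure ν]
    (f : (Fin n → G) → ℝ) (hf : Continuous f) : Integrable f ν := by
  obtain ⟨C, hC⟩ := (isCompact_range hf).isBounded.exists_norm_le
  exact Integrable.of_bound (measurable_of_continuous_pi f hf).aestronglyMeasurable C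
    (Filter.Eventually.of_forall fun x => hC _ ⟨x, rfl⟩)

omit [AddCommGroup G] [IsTopologicalAddGroup G] [T2Space G] [MeasurableSpace G] [BorelSpace G] [CompactSpace G] in
lemma cont_int {X Y : Type*} [TopologicalSpace X] [TopologicalSpace Y] [CompactSpace Y]
    [MeasurableSpace Y] (ν : Measure Y) [IsProbabilityMeasure ν]
    (hmeas : ∀ h : Y → ℝ, Continuous h → Integrable h ν)
    (F : X → Y → ℝ) (hF : Continuous (Function.uncurry F)) :
    Continuous fun x => ∫ y, F x y ∂ν := by
  let L : C(Y, ℝ) →ₗ[ℝ] ℝ :=
    { toFun := fun h => ∫ y, h y ∂ν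
      map_add' := fun a b => integral_add (hmeas _ a.continuous) (hmeas _ b.continuous)
      map_smul' := fun r a => integral_const_mul r _ }
  let L' : C(Y, ℝ) →L[ℝ] ℝ := L.mkContinuous 1 (fun h => by
    refine (norm_integral_le_of_norm_le_const (C := ‖h‖)
      (Filter.Eventually.of_forall h.norm_coe_le_norm)).trans ?_
    simp)
  exact L'.continuous.comp (ContinuousMap.curry ⟨_, hF⟩).continuous

variable (μ : Measure G) [μ.IsAddHaarMeasure] [IsProbabilityMeasure μ]

lemma integrable_one (h : G → ℝ) (hh : Continuous h) : Integrable h μ := by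
  obtain ⟨C, hC⟩ := (isCompact_range hh).isBounded.exists_norm_le
  exact Integrable.of_bound hh.measurable.aestronglyMeasurable C
    (Filter.Eventually.of_forall fun x => hC _ ⟨x, rfl⟩)

lemma integral_pi_succ {n : ℕ} (f : (Fin (n + 1) → G) → ℝ) (hf : Continuous f) :
    ∫ u, f u ∂(Measure.pi fun _ : Fin (n + 1) => μ) =
      ∫ u, ∫ a, f (Fin.cons a u) ∂μ ∂(Measure.pi fun _ : Fin n => μ) := by
  set e := MeasurableEquiv.piFinSuccAbove (fun _ : Fin (n + 1) => G) 0
  have mp := (measurePreserving_piFinSuccAbove (fun _ : Fin (n + 1) => μ) 0).symm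
  rw [← mp.integral_comp' f]
  obtain ⟨C, hC⟩ := (isCompact_range hf).isBounded.exists_norm_le
  have hint : Integrable (fun p => f (e.symm p)) (μ.prod (Measure.pi fun _ : Fin n => μ)) :=
    Integrable.of_bound ((measurable_of_continuous_pi f hf).comp e.symm.measurable).aestronglyMeasurable C
    (Filter.Eventually.of_forall fun x => hC _ ⟨_, rfl⟩)
  rw [integral_prod_symm _ hint]
  refine integral_congr_ae (Filter.Eventually.of_forall fun u => ?_)
  refine integral_congr_ae (Filter.Eventually.of_forall fun a => ?_)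
  simp [e, MeasurableEquiv.piFinSuccAbove, Fin.consEquiv]

lemma key : ∀ (m : ℕ) (ψ : (Fin (m + 1) → G) → ℝ), Continuous ψ →
    (∀ (i j : Fin (m + 1)), i ≠ j → ∀ (x : Fin (m + 1) → G) (a b c : G),
      ψ (Function.update (Function.update x i (a + b)) j c) + ψ (Function.update (Function.update x i a) j b) =
        ψ (Function.update (Function.update x i a) j (b + c)) + ψ (Function.update (Function.update x i b) j c)) →
    ∀ x, ψ x = devi m (fun g => (-1 : ℝ) ^ m * ∫ u, ψ (Fin.cons g u) ∂(Measure.pi fun _ : Fin m => μ)) x := by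
  intro m
  induction m with
  | zero =>
    intro ψ hψc _ x
    rw [← Fin.cons_self_tail x, devi_eq, altT_cons]
    simp [altT, Measure.pi_of_empty, Subsingleton.elim (Fin.tail x) (fun i => i.elim0)]
    rw [integral_unique]
    simp [Subsingleton.elim (default : Fin 0 → G) (fun i => i.elim0)]
  | succ m ih =>
    intro ψ hψc hψ x
    set ψ' : (Fin (m + 1) → G) → ℝ := fun y => - ∫ a, ψ (Fin.insertNth 1 a y) ∂μ with hψ'
    have hins : Continuous fun p : (Fin (m + 1) → G) × G =>
        (Fin.insertNth 1 p.2 p.1 : Fin (m + 2) → G) := Continuous.finInsertNth (A := fun _ => G) 1 continuous_snd continuous_fst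
    have hψ'c : Continuous ψ' := (cont_int μ (integrable_one μ) (fun y a => ψ (Fin.insertNth 1 a y)) (hψc.comp hins)).neg
    have hupd : ∀ (i j : Fin (m+1)) (a b : G) (y : Fin (m + 1) → G) (s : G),
        (Fin.insertNth 1 s (Function.update (Function.update y i a) j b) : Fin (m + 2) → G) =
        Function.update (Function.update (Fin.insertNth 1 s y) ((1 : Fin (m+2)).succAbove i) a)
          ((1 : Fin (m+2)).succAbove j) b := by
      intro i j a b y s
      rw [Fin.insertNth_update, Fin.insertNth_update]
    have hcont : ∀ y : Fin (m + 1) → G, Continuous fun a => ψ (Fin.insertNth 1 a y) := fun y =>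
      hψc.comp (hins.comp (continuous_const.prodMk continuous_id))
    have hψ'coc : ∀ (i j : Fin (m + 1)), i ≠ j → ∀ (y : Fin (m + 1) → G) (a b c : G),
      ψ' (Function.update (Function.update y i (a + b)) j c) + ψ' (Function.update (Function.update y i a) j b) =
        ψ' (Function.update (Function.update y i a) j (b + c)) + ψ' (Function.update (Function.update y i b) j c) := by
      intro i j hij y a b c
      simp only [hψ']
      rw [← neg_add, ← neg_add, ← integral_add, ← integral_add]
      · congr 1
        refine integral_congr_ae (Filter.Eventually.of_forall fun s => ?_)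
        simp only [hupd]
        exact hψ _ _ (fun h => hij (Fin.succAbove_right_injective h)) _ a b c
      all_goals exact integrable_one μ _ (hcont _)
    -- the identity obtained by averaging
    obtain ⟨a, b, r, rfl⟩ : ∃ a b r, x = Fin.cons a (Fin.cons b r) := ⟨_, _, _, cons_cons_self x⟩
    have hins1 : ∀ (p s : G) (t : Fin m → G),
        (Fin.insertNth 1 s (Fin.cons p t) : Fin (m + 2) → G) = Fin.cons p (Fin.cons s t) := by
      intro p s t
      rw [← Fin.succ_zero_eq_one, Fin.insertNth_succ_cons, Fin.insertNth_zero']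
    have hid : ψ (Fin.cons a (Fin.cons b r)) = ψ' (Fin.cons (a + b) r) - ψ' (Fin.cons a r)
        - ψ' (Fin.cons b r) := by
      have hc' : ∀ p : G, Continuous fun s => ψ (Fin.cons p (Fin.cons s r)) := fun p => by
        simpa only [hins1] using hcont (Fin.cons p r)
      have hupd2 : ∀ (p s : G), Function.update (Function.update
          (Fin.cons a (Fin.cons b r) : Fin (m + 2) → G) 0 p) 1 s = Fin.cons p (Fin.cons s r) := by
        intro p s
        funext i
        cases i using Fin.cases with
        | zero => simp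
        | succ i =>
          cases i using Fin.cases with
          | zero => simp
          | succ i => simp [Fin.ext_iff, Function.update_apply]
      have h := fun c => hψ 0 1 (by simp) (Fin.cons a (Fin.cons b r)) a b c
      simp only [hupd2] at h
      have hI := congr_arg (fun F : G → ℝ => ∫ c, F c ∂μ) (funext h)
      rw [integral_add (integrable_one μ _ (hc' _)) (integrable_const _),
        integral_add (integrable_one μ (fun c => ψ (Fin.cons a (Fin.cons (b + c) r)))
          ((hc' a).comp (continuous_const.add continuous_id'))) (integrable_one μ _ (hc' _)),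
        integral_add_left_eq_self (μ := μ) (fun s => ψ (Fin.cons a (Fin.cons s r))) b] at hI
      simp only [integral_const, probReal_univ, one_smul] at hI
      simp only [hψ', hins1]
      linarith
    have hφ : (fun g => (-1 : ℝ) ^ (m + 1) * ∫ u, ψ (Fin.cons g u) ∂(Measure.pi fun _ : Fin (m + 1) => μ))
        = fun g => (-1 : ℝ) ^ m * ∫ u, ψ' (Fin.cons g u) ∂(Measure.pi fun _ : Fin m => μ) := by
      funext g
      rw [integral_pi_succ μ (fun u => ψ (Fin.cons g u))
        (hψc.comp (Continuous.finCons (A := fun _ => G) continuous_const continuous_id))]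
      simp only [hψ', hins1, integral_neg]
      ring
    rw [hid, devi_succ, hφ, ih ψ' hψ'c hψ'coc, ih ψ' hψ'c hψ'coc, ih ψ' hψ'c hψ'coc]

end

/-- Let G be a compact Hausdorff commutative topological group, written additively, μ its Haar measure
of total mass 1, m ≥ 1 an integer and ψ : G^{m+1} → ℝ a continuous function which is a 2-cocycle
with respect to every pair of variables: for all positions i ≠ j, every point x of G^{m+1} and all
a, b, c in G, writing x[i ↦ a, j ↦ c] for x with its i-th coordinate replaced by a and its j-th by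
c, one has ψ(x[i ↦ a+b, j ↦ c]) + ψ(x[i ↦ a, j ↦ b]) = ψ(x[i ↦ a, j ↦ b+c]) + ψ(x[i ↦ b, j ↦ c]).
Let φ : G → ℝ be φ(g) = (−1)^m ∫_{G^m} ψ(g, u_1, …, u_m) dμ^{⊗m}(u). Then ψ is the (m+1)-st
deviation of φ, namely ψ(x) = Σ_{∅ ≠ I ⊆ {0,…,m}} (−1)^{m+1+|I|} φ(Σ_{i ∈ I} x_i) for every x; φ is
continuous; and φ is the unique continuous function G → ℝ with this property. -/
theorem result {G : Type u} [AddCommGroup G] [TopologicalSpace G] [IsTopologicalAddGroup G] [CompactSpace G] [T2Space G]
    [MeasurableSpace G] [BorelSpace G] (μ : MeasureTheory.Measure G) [μ.IsAddHaarMeasure] [MeasureTheory.IsProbabilityMeasure μ]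
    (m : ℕ) (hm : 1 ≤ m) (ψ : (Fin (m + 1) → G) → ℝ) (hψc : Continuous ψ)
    (hψ : ∀ (i j : Fin (m + 1)), i ≠ j → ∀ (x : Fin (m + 1) → G) (a b c : G),
      ψ (Function.update (Function.update x i (a + b)) j c) + ψ (Function.update (Function.update x i a) j b) =
        ψ (Function.update (Function.update x i a) j (b + c)) + ψ (Function.update (Function.update x i b) j c)) :
    (∀ x : Fin (m + 1) → G,
      ψ x = ∑ I ∈ ((Finset.univ : Finset (Fin (m + 1))).powerset.erase ∅),
        (-1 : ℝ) ^ (m + 1 + I.card) * ((-1 : ℝ) ^ m *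
          ∫ u, ψ (Fin.cons (∑ i ∈ I, x i) u) ∂(MeasureTheory.Measure.pi (fun _ : Fin m => μ)))) ∧
    Continuous (fun g : G => (-1 : ℝ) ^ m * ∫ u, ψ (Fin.cons g u) ∂(MeasureTheory.Measure.pi (fun _ : Fin m => μ))) ∧
    (∀ φ : G → ℝ, Continuous φ → (∀ x : Fin (m + 1) → G,
      ψ x = ∑ I ∈ ((Finset.univ : Finset (Fin (m + 1))).powerset.erase ∅), (-1 : ℝ) ^ (m + 1 + I.card) * φ (∑ i ∈ I, x i)) →
      φ = fun g => (-1 : ℝ) ^ m * ∫ u, ψ (Fin.cons g u) ∂(MeasureTheory.Measure.pi (fun _ : Fin m => μ))) := by
  set φ₀ := fun g : G => (-1 : ℝ) ^ m * ∫ u, ψ (Fin.cons g u) ∂(MeasureTheory.Measure.pi (fun _ : Fin m => μ)) with hφ₀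
  have hkey := key μ m ψ hψc hψ
  have hcont : Continuous φ₀ := continuous_const.mul
    (cont_int _ (integrable_of_continuous_pi _) (fun g u => ψ (Fin.cons g u))
      (hψc.comp (Continuous.finCons (A := fun _ => G) continuous_fst continuous_snd)))
  refine ⟨hkey, hcont, fun φ hφ h => ?_⟩
  funext g
  have := devi_eq_zero m (fun g => φ g - φ₀ g) (hφ.sub hcont) (fun x => ?_) g
  · linarith
  · have e : devi m (fun g => φ g - φ₀ g) x = devi m φ x - devi m φ₀ x := by
      simp only [devi, mul_sub, Finset.sum_sub_distrib]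
    rw [e]
    have h1 : ψ x = devi m φ x := h x
    have h2 : ψ x = devi m φ₀ x := hkey x
    linarith

end Groth.Agent.S14297
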