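import Groth.Statements.S14305
import Mathlib
import Groth.Prelude

set_option linter.all false

set_option autoImplicit false
universe u v
open PtDeg

open scoped BigOperators

namespace Groth.Agent.S14305

section
variable {A : Type u} {G : Type v} [AddCommGroup A] [AddCommGroup G]

def dev {ι : Type*} [DecidableEq ι] (s : Finset ι) (f : A → G) (x : ι → A) : G :=
  ∑ I ∈ s.powerset, ((-1 : ℤ) ^ (s.card + I.card)) • f (∑ i ∈ I, x i)

theorem dev_insert {ι : Type*} [DecidableEq ι] {j : ι} {s : Finset ι} (hj : j ∉ s) (f : A → G) (x : ι → A) :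
    dev (insert j s) f x = dev s (fun z => f (z + x j) - f z) x := by
  simp only [dev]
  rw [Finset.sum_powerset_insert hj, ← Finset.sum_add_distrib]
  refine Finset.sum_congr rfl fun I hI => ?_
  have hjI : j ∉ I := fun h => hj (Finset.mem_powerset.1 hI h)
  rw [Finset.card_insert_of_notMem hjI, Finset.sum_insert hjI, Finset.card_insert_of_notMem hj, add_comm (x j),
    show s.card + 1 + I.card = s.card + I.card + 1 by ring, show s.card + 1 + (I.card + 1) = s.card + I.card + 2 by ring,
    pow_add _ _ 1, pow_add _ _ 2, smul_sub]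
  norm_num
  abel

theorem dev_map {ι κ : Type*} [DecidableEq ι] [DecidableEq κ] (e : ι ↪ κ) (s : Finset ι) (f : A → G) (x : κ → A) :
    dev (s.map e) f x = dev s f (x ∘ e) := by
  induction s using Finset.induction_on generalizing f with
  | empty => simp [dev]
  | insert j s hj ih => rw [Finset.map_insert, dev_insert (by simpa using hj), dev_insert hj, ih]; rfl

theorem dev_congr {ι : Type*} [DecidableEq ι] {s : Finset ι} (f : A → G) {x y : ι → A} (h : ∀ i ∈ s, x i = y i) :
    dev s f x = dev s f y :=
  Finset.sum_congr rfl fun I hI => by rw [Finset.sum_congr rfl fun i hi => h i (Finset.mem_powerset.1 hI hi)]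

theorem dev_sub {ι : Type*} [DecidableEq ι] (s : Finset ι) (f g : A → G) (x : ι → A) :
    dev s (fun z => f z - g z) x = dev s f x - dev s g x := by
  simp [dev, ← Finset.sum_sub_distrib, smul_sub]

theorem dev_snoc {n : ℕ} (f : A → G) (y : Fin n → A) (b : A) :
    dev (Finset.univ : Finset (Fin (n + 1))) f (Fin.snoc y b) = dev Finset.univ (fun z => f (z + b) - f z) y := by
  have h : (Finset.univ : Finset (Fin (n + 1))) = insert (Fin.last n) ((Finset.univ : Finset (Fin n)).map Fin.castSuccEmb) := by
    ext i
    rcases Fin.eq_castSucc_or_eq_last i with ⟨j, rfl⟩ | rfl <;> simp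
  rw [h, dev_insert (by simp), dev_map, Fin.snoc_last]
  exact dev_congr _ fun i _ => by simp

theorem dev_erase_empty {k : ℕ} (f : A → G) (x : Fin k → A) :
    ∑ I ∈ ((Finset.univ : Finset (Fin k)).powerset.erase ∅), ((-1 : ℤ) ^ (k + I.card)) • f (∑ i ∈ I, x i) =
      dev Finset.univ f x - ((-1 : ℤ) ^ k) • f 0 := by
  have := Finset.add_sum_erase (Finset.univ : Finset (Fin k)).powerset (fun I => ((-1 : ℤ) ^ (k + I.card)) • f (∑ i ∈ I, x i))
    (Finset.empty_mem_powerset _)
  simp only [dev, Finset.card_univ, Fintype.card_fin]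
  rw [← this]
  simp

theorem dev_update_identity {n : ℕ} (f : A → G) (j : Fin n) (y : Fin n → A) (a b : A) :
    dev (Finset.univ : Finset (Fin (n + 1))) f (Fin.snoc (Function.update y j a) b) =
      dev Finset.univ f (Function.update y j (a + b)) - dev Finset.univ f (Function.update y j a) -
        dev Finset.univ f (Function.update y j b) := by
  have h : (Finset.univ : Finset (Fin n)) = insert j (Finset.univ.erase j) := by simp
  have key : ∀ (g : A → G) (c : A), dev Finset.univ g (Function.update y j c) = dev (Finset.univ.erase j) (fun z => g (z + c) - g z) y := by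
    intro g c
    rw [h, dev_insert (Finset.notMem_erase j _), Function.update_self, ← h]
    exact dev_congr _ fun i hi => Function.update_of_ne (Finset.ne_of_mem_erase hi) _ _
  rw [dev_snoc, key, key, key, key, ← dev_sub, ← dev_sub]
  congr 1
  funext z
  rw [← add_assoc]
  abel
end

/-- Let A and G be abelian groups, written additively, f : A → G a map and n ≥ 1. For k ≥ 0 the k-th
deviation of f is the map A^k → G, (y_1, …, y_k) ↦ Σ_{∅ ≠ I ⊆ {1,…,k}} (−1)^{k+|I|} f(Σ_{i ∈ I}
y_i). Then f is pointed of degree n, meaning that its (n+1)-st deviation vanishes identically, if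
and only if its n-th deviation is additive in each variable separately (with the other variables
fixed). -/
theorem result {A : Type u} {G : Type v} [AddCommGroup A] [AddCommGroup G]
    (f : A → G) (n : ℕ) (hn : 1 ≤ n) :
    (∀ x : Fin (n + 1) → A, ∑ I ∈ ((Finset.univ : Finset (Fin (n + 1))).powerset.erase ∅), ((-1 : ℤ) ^ (n + 1 + I.card)) • f (∑ i ∈ I, x i) = 0) ↔
      (∀ (j : Fin n) (y : Fin n → A) (a b : A),
        ∑ I ∈ ((Finset.univ : Finset (Fin n)).powerset.erase ∅), ((-1 : ℤ) ^ (n + I.card)) • f (∑ i ∈ I, (Function.update y j (a + b)) i) =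
          ∑ I ∈ ((Finset.univ : Finset (Fin n)).powerset.erase ∅), ((-1 : ℤ) ^ (n + I.card)) • f (∑ i ∈ I, (Function.update y j a) i) + ∑ I ∈ ((Finset.univ : Finset (Fin n)).powerset.erase ∅), ((-1 : ℤ) ^ (n + I.card)) • f (∑ i ∈ I, (Function.update y j b) i)) := by
  simp only [dev_erase_empty]
  have key : ∀ j y a b, dev (Finset.univ : Finset (Fin (n + 1))) f (Fin.snoc (Function.update y j a) b) - ((-1 : ℤ) ^ (n + 1)) • f 0 =
      (dev Finset.univ f (Function.update y j (a + b)) - ((-1 : ℤ) ^ n) • f 0) -
        ((dev Finset.univ f (Function.update y j a) - ((-1 : ℤ) ^ n) • f 0) +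
        (dev Finset.univ f (Function.update y j b) - ((-1 : ℤ) ^ n) • f 0)) := by
    intro j y a b
    rw [dev_update_identity, pow_succ, mul_neg_one, neg_smul]
    abel
  constructor
  · intro h j y a b
    rw [← sub_eq_zero, ← key]
    exact h _
  · intro h x
    let j : Fin n := ⟨n - 1, by omega⟩
    have := key j (Fin.init x) (Fin.init x j) (x (Fin.last n))
    rw [Function.update_eq_self, Fin.snoc_init_self] at this
    rw [this, sub_eq_zero]
    have h' := h j (Fin.init x) (Fin.init x j) (x (Fin.last n))
    rw [Function.update_eq_self] at h'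
    exact h'

end Groth.Agent.S14305
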