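import Groth.Statements.S14307


set_option autoImplicit false
universe u v
open PtDeg

namespace Groth.Agent.S14307

/-- Let A and G be abelian groups, written additively, f : A → G a map and n ≥ 1. If a tuple x ∈ A^n has
some coordinate equal to 0, then the n-th deviation of f at x, namely Σ_{∅ ≠ I ⊆ {1,…,n}}
(−1)^{n+|I|} f(Σ_{i ∈ I} x_i), equals (−1)^{n+1} f(0). -/
theorem result {A : Type u} {G : Type v} [AddCommGroup A] [AddCommGroup G]
    (f : A → G) (n : ℕ) (hn : 1 ≤ n) (x : Fin n → A) (i : Fin n) (hx : x i = 0) :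
    ∑ I ∈ ((Finset.univ : Finset (Fin n)).powerset.erase ∅), ((-1 : ℤ) ^ (n + I.card)) • f (∑ j ∈ I, x j) =
      ((-1 : ℤ) ^ (n + 1)) • f 0 := by
  classical
  have key : ∑ I ∈ (Finset.univ : Finset (Finset (Fin n))), ((-1 : ℤ) ^ (n + I.card)) • f (∑ j ∈ I, x j) = 0 := by
    refine Finset.sum_ninvolution (fun I => if i ∈ I then I.erase i else insert i I) ?_ ?_ ?_ ?_
    · intro I
      by_cases hi : i ∈ I
      · simp only [hi, if_true]
        rw [Finset.sum_erase _ hx, ← Finset.card_erase_add_one hi]
        simp [← add_assoc, pow_succ]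
      · simp only [hi, if_false]
        rw [Finset.sum_insert hi, hx, zero_add, Finset.card_insert_of_notMem hi]
        simp [← add_assoc, pow_succ]
    · intro I _ h
      by_cases hi : i ∈ I
      · simp [hi] at h
      · simp [hi] at h
    · intro I; simp
    · intro I
      by_cases hi : i ∈ I <;> simp [hi]
  rw [Finset.powerset_univ, Finset.sum_erase_eq_sub (Finset.mem_univ _), key]
  simp [pow_succ]

end Groth.Agent.S14307
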