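import Groth.Statements.S14309
import Mathlib

set_option linter.all false

set_option autoImplicit false
universe u v w x y
open CAlg

open TensorProduct

namespace Groth.Agent.S14309

theorem decompose_none {R : Type u} [CommRing R] {σ : Type y} (P : MvPolynomial (Option σ) R) :
    ∃ (x0 : MvPolynomial σ R) (w : MvPolynomial (Option σ) R),
      P = MvPolynomial.rename (Option.some : σ → Option σ) x0 + MvPolynomial.X none * w := by
  induction P using MvPolynomial.induction_on with
  | C a => exact ⟨MvPolynomial.C a, 0, by simp⟩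
  | add p q hp hq =>
    obtain ⟨a, b, rfl⟩ := hp
    obtain ⟨c, d, rfl⟩ := hq
    exact ⟨a + c, b + d, by rw [map_add]; ring⟩
  | mul_X p i hp =>
    obtain ⟨a, b, rfl⟩ := hp
    rcases i with _ | i
    · exact ⟨0, MvPolynomial.rename (Option.some : σ → Option σ) a + MvPolynomial.X none * b, by rw [map_zero]; ring⟩
    · exact ⟨a * MvPolynomial.X i, b * MvPolynomial.X (some i), by rw [map_mul, MvPolynomial.rename_X]; ring⟩

/-- Let R be a commutative ring; A, B, C commutative R-algebras; i : A → B and j : A → C jointly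
injective R-algebra maps; c a non-zero-divisor of B; u : C → B/(c) a ring map with u ∘ j equal to i
followed by reduction modulo c; ζ in A with i ζ = c and j ζ = 0; η : R[X_σ, Z] → A an R-algebra map
with η(Z) = ζ; a : R[Y_τ] → B a surjective R-algebra map; η_Z : R[X_σ, Z] → R[Y_τ] a surjective
R-algebra map with a ∘ η_Z = i ∘ η. Fix c̃ in R[Y_τ] with a(c̃) = c, a family (p_h) generating the
kernel of the composite R[X_σ] → R[X_σ, Z] → A → C, a family (q'_h) generating the kernel of a
together with lifts q_h along η_Z, a family (v_h) generating the kernel of η_Z, and elements g'_h of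
R[Y_τ] with η_Z(p_h) + g'_h c̃ in the ideal (q'_h), together with lifts g_h along η_Z. Then the
kernel of η is the ideal generated by the elements Z q_h, Z v_h and p_h + Z g_h. (The published
statement is for the rings of cycle classes, with coefficients ℤ[1/6], of a smooth quotient stack, a
smooth closed substack whose normal bundle has top Chern class c a non-zero-divisor, and the open
complement; this row states the ring-theoretic content for any such square of commutative rings in
which A embeds in B × C.) -/
theorem result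
    {R : Type u} [CommRing R] {A : Type v} {B : Type w} {C : Type x}
    [CommRing A] [CommRing B] [CommRing C] [Algebra R A] [Algebra R B] [Algebra R C]
    (i : A →ₐ[R] B) (j : A →ₐ[R] C)
    (hinj : ∀ t : A, i t = 0 → j t = 0 → t = 0)
    (c : B) (hc : c ∈ nonZeroDivisors B) (u : C →+* B ⧸ Ideal.span ({c} : Set B))
    (hu : ∀ t : A, u (j t) = Ideal.Quotient.mk (Ideal.span ({c} : Set B)) (i t))
    (ζ : A) (hiζ : i ζ = c) (hjζ : j ζ = 0)
    {σ τ ιp ιq ιv : Type y}
    (η : MvPolynomial (Option σ) R →ₐ[R] A) (hη : η (MvPolynomial.X none) = ζ)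
    (a : MvPolynomial τ R →ₐ[R] B) (ha : Function.Surjective a)
    (ηZ : MvPolynomial (Option σ) R →ₐ[R] MvPolynomial τ R)
    (hcomm : ∀ t, a (ηZ t) = i (η t)) (hηZ : Function.Surjective ηZ)
    (cZ : MvPolynomial τ R) (hcZ : a cZ = c)
    (p : ιp → MvPolynomial σ R)
    (hp : Ideal.span (Set.range p) =
      RingHom.ker ((j.comp η).comp (MvPolynomial.rename (Option.some : σ → Option σ))))
    (q' : ιq → MvPolynomial τ R) (hq' : Ideal.span (Set.range q') = RingHom.ker a)
    (q : ιq → MvPolynomial (Option σ) R) (hq : ∀ h, ηZ (q h) = q' h)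
    (v : ιv → MvPolynomial (Option σ) R) (hv : Ideal.span (Set.range v) = RingHom.ker ηZ)
    (g' : ιp → MvPolynomial τ R)
    (hg' : ∀ h, ηZ (MvPolynomial.rename (Option.some : σ → Option σ) (p h)) + g' h * cZ ∈
      Ideal.span (Set.range q'))
    (g : ιp → MvPolynomial (Option σ) R) (hg : ∀ h, ηZ (g h) = g' h) :
    RingHom.ker η = Ideal.span
      (Set.range (fun h : ιq => MvPolynomial.X none * q h) ∪
        Set.range (fun h : ιv => MvPolynomial.X none * v h) ∪
        Set.range (fun h : ιp =>
          MvPolynomial.rename (Option.some : σ → Option σ) (p h) + MvPolynomial.X none * g h)) := by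
  classical
  set K := Ideal.span
      (Set.range (fun h : ιq => MvPolynomial.X none * q h) ∪
        Set.range (fun h : ιv => MvPolynomial.X none * v h) ∪
        Set.range (fun h : ιp =>
          MvPolynomial.rename (Option.some : σ → Option σ) (p h) + MvPolynomial.X none * g h))
  have hK : K ≤ RingHom.ker η := by
    refine Ideal.span_le.2 ?_
    rintro _ ((⟨h, rfl⟩ | ⟨h, rfl⟩) | ⟨h, rfl⟩) <;> rw [SetLike.mem_coe, RingHom.mem_ker]
    · refine hinj _ ?_ ?_
      · have h0 : a (q' h) = 0 := (RingHom.mem_ker).1 (hq' ▸ Ideal.subset_span ⟨h, rfl⟩)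
        rw [map_mul, map_mul, hη, hiζ, ← hcomm, hq, h0, mul_zero]
      · rw [map_mul, map_mul, hη, hjζ, zero_mul]
    · refine hinj _ ?_ ?_
      · have h0 : ηZ (v h) = 0 := (RingHom.mem_ker).1 (hv ▸ Ideal.subset_span ⟨h, rfl⟩)
        rw [map_mul, map_mul, hη, hiζ, ← hcomm, h0, map_zero, mul_zero]
      · rw [map_mul, map_mul, hη, hjζ, zero_mul]
    · refine hinj _ ?_ ?_
      · have h0 : a (ηZ (MvPolynomial.rename (Option.some : σ → Option σ) (p h)) + g' h * cZ) = 0 :=
          (RingHom.mem_ker).1 (hq' ▸ hg' h)
        rw [map_add, map_mul, hcomm, hcZ] at h0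
        rw [map_add, map_mul, map_add, map_mul, hη, hiζ, ← hcomm (g h), hg]
        linear_combination h0
      · have h0 := (RingHom.mem_ker).1 (hp ▸ Ideal.subset_span ⟨h, rfl⟩ : p h ∈ RingHom.ker ((j.comp η).comp (MvPolynomial.rename (Option.some : σ → Option σ))))
        simp only [AlgHom.comp_apply] at h0
        rw [map_add, map_mul, map_add, map_mul, hη, hjζ, h0, zero_mul, add_zero]
  refine le_antisymm (fun P hP => ?_) hK
  obtain ⟨x0, w, rfl⟩ := decompose_none P
  have hP' : η (MvPolynomial.rename (Option.some : σ → Option σ) x0 + MvPolynomial.X none * w) = 0 := hP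
  have hx0 : x0 ∈ Ideal.span (Set.range p) := by
    rw [hp, RingHom.mem_ker]
    have := congrArg j hP'
    simp only [map_add, map_mul, hη, hjζ, zero_mul, add_zero, map_zero] at this
    simpa only [AlgHom.comp_apply] using this
  obtain ⟨r, hr⟩ := (Finsupp.mem_ideal_span_range_iff_exists_finsupp).1 hx0
  set G := r.sum fun h b => MvPolynomial.rename (Option.some : σ → Option σ) b *
    (MvPolynomial.rename (Option.some : σ → Option σ) (p h) + MvPolynomial.X none * g h) with hG
  have hGK : G ∈ K := Ideal.sum_mem _ fun h _ => Ideal.mul_mem_left _ _ (Ideal.subset_span (Or.inr ⟨h, rfl⟩))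
  set w' := w - r.sum fun h b => MvPolynomial.rename (Option.some : σ → Option σ) b * g h with hw'
  have e : MvPolynomial.rename (Option.some : σ → Option σ) x0 + MvPolynomial.X none * w = G + MvPolynomial.X none * w' := by
    rw [hG, hw', ← hr, map_finsuppSum, mul_sub]
    simp only [Finsupp.sum, map_mul, Finset.mul_sum, mul_add, Finset.sum_add_distrib]
    have : ∀ h ∈ r.support, MvPolynomial.rename (Option.some : σ → Option σ) (r h) * (MvPolynomial.X none * g h) =
        MvPolynomial.X none * (MvPolynomial.rename (Option.some : σ → Option σ) (r h) * g h) := fun h _ => by ring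
    rw [Finset.sum_congr rfl this]
    ring
  rw [e] at hP' ⊢
  refine add_mem hGK ?_
  rw [map_add, (RingHom.mem_ker).1 (hK hGK), zero_add, map_mul, hη] at hP'
  have h1 := congrArg i hP'
  rw [map_mul, hiζ, map_zero, ← hcomm, mul_comm] at h1
  have h2 : ηZ w' ∈ Ideal.span (Set.range q') := by
    rw [hq', RingHom.mem_ker]; exact (mul_right_mem_nonZeroDivisors_eq_zero_iff hc).1 h1
  have h3 : ηZ w' ∈ (Ideal.span (Set.range q)).map ηZ := by
    rw [Ideal.map_span, ← Set.range_comp]
    rwa [show (⇑ηZ ∘ q) = q' from funext hq]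
  obtain ⟨z, hz, hzw⟩ := (Ideal.mem_map_iff_of_surjective ηZ hηZ).1 h3
  have hker : w' - z ∈ Ideal.span (Set.range v) := by
    rw [hv, RingHom.mem_ker, map_sub, hzw, sub_self]
  have hmul : ∀ {ι : Type y} (f : ι → MvPolynomial (Option σ) R) (z : MvPolynomial (Option σ) R),
      z ∈ Ideal.span (Set.range f) → (∀ h, MvPolynomial.X none * f h ∈ K) → MvPolynomial.X none * z ∈ K := by
    intro ι f z hz hf
    have : Ideal.span (Set.range f) ≤ Submodule.comap (LinearMap.mulLeft (MvPolynomial (Option σ) R) (MvPolynomial.X none)) K :=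
      Ideal.span_le.2 (by rintro _ ⟨h, rfl⟩; exact hf h)
    exact this hz
  have := add_mem (hmul q z hz fun h => Ideal.subset_span (Or.inl (Or.inl ⟨h, rfl⟩)))
    (hmul v _ hker fun h => Ideal.subset_span (Or.inl (Or.inr ⟨h, rfl⟩)))
  rwa [← mul_add, add_sub_cancel] at this

end Groth.Agent.S14309
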