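import Groth.Statements.S1431
import Groth.Agent.FlatMor12.Cube.VectorSeesaw
import Groth.Agent.FlatMor12.SteinGeneral
-- import your own Groth.Agent.* helpers here

set_option autoImplicit false
set_option backward.isDefEq.respectTransparency.types false
set_option linter.style.haveILetI false
universe u
open FlatMor

namespace Groth.Agent.S1431

open CategoryTheory CategoryTheory.Limits AlgebraicGeometry in
theorem isIso_app_of_comp {P Q S : Scheme.{u}} (e : P ⟶ Q) [IsIso e] (g : Q ⟶ S) (h : P ⟶ S) (w : e ≫ g = h)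
    (V : S.Opens) (hg : IsIso (g.app V)) : IsIso (h.app V) := by
  subst w
  rw [Scheme.Hom.comp_app]
  haveI := PresheafedSpace.c_isIso_of_iso e.toPshHom
  haveI : IsIso (e.app (g ⁻¹ᵁ V)) := NatIso.isIso_app_of_isIso e.c _
  exact IsIso.comp_isIso' hg this

open AlgebraicGeometry CategoryTheory Limits in
/-- Let f : X → S be flat, proper and of finite presentation such that for every base change p : X_T → T
the map O_T → p_* O_{X_T} is an isomorphism, and let E be a finite locally free O_X-module. Then
some immersion j : Z → S of finite presentation has the property that a morphism g : T → S factors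
through j exactly when the pullback of E to X_T is isomorphic to the pullback along p of some finite
locally free O_T-module. -/
theorem result {X S : Scheme.{u}} (f : X ⟶ S) [Flat f] [IsProper f] [LocallyOfFinitePresentation f]
    (hO : ∀ (T : Scheme.{u}) (g : T ⟶ S) (U : T.Opens), IsIso ((pullback.snd f g).app U))
    (E : X.Modules) (hE : FlatMod.IsFinLocFree E) :
    ∃ (Z : Scheme.{u}) (j : Z ⟶ S), IsImmersion j ∧ LocallyOfFinitePresentation j ∧
      ∀ (T : Scheme.{u}) (g : T ⟶ S), (∃ g' : T ⟶ Z, g' ≫ j = g) ↔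
        ∃ N : T.Modules, FlatMod.IsFinLocFree N ∧
          Nonempty ((Scheme.Modules.pullback (pullback.snd f g)).obj N ≅ (Scheme.Modules.pullback (pullback.fst f g)).obj E) := by
  open Groth.Agent.FlatMor12 in
  have hiso : ∀ V : S.Opens, IsIso (f.app V) := fun V => by
    have e : (IsPullback.of_horiz_isIso (⟨by simp⟩ : CommSq (𝟙 X) f f (𝟙 S))).isoPullback.hom ≫ pullback.snd f (𝟙 S) = f :=
      IsPullback.isoPullback_hom_snd _
    exact isIso_app_of_comp _ _ _ e V (hO S (𝟙 S) V)
  haveI : GeometricallyConnected f := SteinGeneral.geometricallyConnected_of_isIso_app f hiso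
  haveI : Cube.VectorSeesaw.UnivStein f := ⟨fun {T X' u g' f'} h V => by
    haveI := isIso_app_of_comp _ _ _ h.isoPullback_hom_snd V (hO T u V)
    exact ConcreteCategory.bijective_of_isIso _⟩
  obtain ⟨Z, j, h1, h2, -, hiff, -⟩ := Cube.VectorSeesaw.exists_seesaw f hE
  exact ⟨Z, j, h1, h2, fun T g => (hiff T g).trans
    ⟨fun ⟨N, hN, ⟨e⟩⟩ => ⟨N, hN, ⟨e.symm⟩⟩, fun ⟨N, hN, ⟨e⟩⟩ => ⟨N, hN, ⟨e.symm⟩⟩⟩⟩

end Groth.Agent.S1431
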