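import Groth.Statements.S14310
import Groth.Agent.CommAlg4.DoubleLine
-- import your own Groth.Agent.* helpers here

set_option autoImplicit false
universe u
open ArSing

namespace Groth.Agent.S14310

/-- Let k be an algebraically closed field, f a polynomial in two variables x = X_0, y = X_1 over k, and
a a point of k². The quotient of the power series ring k[[x,y]] by the polynomial f recentred at a
(which is the completed local ring at a of the plane curve f = 0) is isomorphic as a k-algebra to
k[[x,y]]/(y^2) if and only if f = g^2 h for polynomials g and h with h(a) ≠ 0, g(a) = 0 and some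
first partial derivative of g non-zero at a. (The published statement asks for the component through
a to be the square of a smooth plane curve; only smoothness at a matters and is what is stated here
— for the square of a nodal cubic the completed local ring at a smooth point of the cubic is still
k[[x,y]]/(y^2). No hypothesis on the characteristic of k is imposed; the published setting assumes a
characteristic different from 2, 3, 5 and 7, which the argument does not use.) -/
theorem result
    {k : Type u} [Field k] [IsAlgClosed k] (f : MvPolynomial (Fin 2) k) (a : Fin 2 → k) :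
    Nonempty ((MvPowerSeries (Fin 2) k ⧸ Ideal.span
        ({(MvPolynomial.aeval (fun i : Fin 2 => MvPolynomial.X i + MvPolynomial.C (a i)) f).toMvPowerSeries} :
          Set (MvPowerSeries (Fin 2) k))) ≃ₐ[k]
      (MvPowerSeries (Fin 2) k ⧸ Ideal.span ({MvPowerSeries.X 1 ^ 2} : Set (MvPowerSeries (Fin 2) k)))) ↔
    ∃ g h : MvPolynomial (Fin 2) k, f = g ^ 2 * h ∧ MvPolynomial.eval a h ≠ 0 ∧ MvPolynomial.eval a g = 0 ∧
      ∃ i : Fin 2, MvPolynomial.eval a (MvPolynomial.pderiv i g) ≠ 0 := by
  classical
  open MvPowerSeries in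
  let sh : MvPolynomial (Fin 2) k →ₐ[k] MvPolynomial (Fin 2) k :=
    MvPolynomial.aeval (fun i : Fin 2 => MvPolynomial.X i + MvPolynomial.C (a i))
  let φ : MvPolynomial (Fin 2) k →+* MvPowerSeries (Fin 2) k :=
    MvPolynomial.coeToMvPowerSeries.ringHom.comp sh.toRingHom
  have hconst : ∀ p, MvPowerSeries.constantCoeff (φ p) = MvPolynomial.eval a p := by
    intro p
    induction p using MvPolynomial.induction_on with
    | C c => simp [φ, sh]
    | add p q hp hq => simp only [map_add, hp, hq]
    | mul_X p i hp => simp only [map_mul, hp]; simp [φ, sh]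
  have hder : ∀ (j : Fin 2) p, MvPowerSeries.pderiv k j (φ p) = φ (MvPolynomial.pderiv j p) := by
    intro j p
    induction p using MvPolynomial.induction_on with
    | C c => simp [φ, sh]
    | add p q hp hq => simp only [map_add, hp, hq]
    | mul_X p i hp =>
      have hX : MvPowerSeries.pderiv k j (φ (MvPolynomial.X i)) = φ (MvPolynomial.pderiv j (MvPolynomial.X i)) := by
        simp only [φ, sh, RingHom.comp_apply, AlgHom.toRingHom_eq_coe, RingHom.coe_coe, MvPolynomial.aeval_X,
          MvPolynomial.coeToMvPowerSeries.ringHom_apply, MvPowerSeries.pderiv_coe, map_add,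
          MvPolynomial.pderiv_C, add_zero, MvPolynomial.pderiv_X]
        by_cases h : i = j <;> simp [Pi.single_apply, h]
      rw [map_mul, Derivation.leibniz, smul_eq_mul, smul_eq_mul, hX, hp, MvPolynomial.pderiv_mul, map_add, map_mul,
        map_mul]
      ring
  have hlin : ∀ (j : Fin 2) p, Groth.Agent.CommAlg4.DoubleLine.lin k j (φ p) =
      MvPolynomial.eval a (MvPolynomial.pderiv j p) := fun j p => by
    rw [Groth.Agent.CommAlg4.DoubleLine.lin, hder, hconst]
  change Nonempty ((MvPowerSeries (Fin 2) k ⧸ Ideal.span {φ f}) ≃ₐ[k] _) ↔ _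
  constructor
  · intro e
    obtain ⟨ρ, w, hρ0, hρlin, hw, hF⟩ := Groth.Agent.CommAlg4.DoubleLine.exists_eq_sq e
    haveI hprime := Groth.Agent.CommAlg4.DoubleLine.isPrime_span hρ0 hρlin
    have hρne : ρ ≠ 0 := fun h => by
      rcases hρlin with h1 | h1 <;> exact h1 (by simp [h, Groth.Agent.CommAlg4.DoubleLine.lin])
    let P : Ideal (MvPolynomial (Fin 2) k) := (Ideal.span {ρ}).comap φ
    haveI hP : P.IsPrime := Ideal.IsPrime.comap φ
    have hfP : f ∈ P := by
      change φ f ∈ Ideal.span {ρ}
      rw [hF, pow_two, mul_assoc]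
      exact Ideal.mul_mem_right _ _ (Ideal.mem_span_singleton_self ρ)
    have hf : f ≠ 0 := by
      rintro rfl
      rw [map_zero, eq_comm, mul_eq_zero] at hF
      rcases hF with h | h
      · exact hρne (eq_zero_of_pow_eq_zero h)
      · exact hw (by simp [h])
    let M : Ideal (MvPolynomial (Fin 2) k) := RingHom.ker (MvPolynomial.eval a)
    haveI hM : M.IsPrime := RingHom.ker_isPrime _
    have hPM : P ≤ M := fun p hp => by
      obtain ⟨s, hs⟩ := Ideal.mem_span_singleton'.1 hp
      rw [RingHom.mem_ker, ← hconst, ← hs, map_mul, hρ0, mul_zero]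
    have hPne : ¬ M ≤ P := by
      intro hle
      have h : ∀ i : Fin 2, ∃ s, s * ρ = (MvPowerSeries.X i : MvPowerSeries (Fin 2) k) := fun i => by
        have h1 : MvPolynomial.X i - MvPolynomial.C (a i) ∈ P := hle (by simp [M])
        obtain ⟨s, hs⟩ := Ideal.mem_span_singleton'.1 h1
        exact ⟨s, by rw [hs]; simp [φ, sh]⟩
      choose s hs using h
      have h2 : ∀ i j, MvPowerSeries.constantCoeff (s i) * Groth.Agent.CommAlg4.DoubleLine.lin k j ρ =
          if j = i then 1 else 0 := fun i j => by
        rw [← Groth.Agent.CommAlg4.DoubleLine.lin_X j i, ← hs i, Groth.Agent.CommAlg4.DoubleLine.lin_mul, hρ0,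
          zero_mul, add_zero]
      have h00 := h2 0 0
      have h01 := h2 0 1
      have h11 := h2 1 1
      simp at h00 h01 h11
      rcases h01 with h | h
      · simp [h] at h00
      · simp [h] at h11
    obtain ⟨q, hqP, hq⟩ := hP.exists_mem_prime_of_ne_bot (Submodule.ne_bot_iff _ |>.2 ⟨f, hfP, hf⟩)
    have hPq : P = Ideal.span {q} := by
      haveI : (Ideal.span {q}).IsPrime := (Ideal.span_singleton_prime hq.ne_zero).2 hq
      by_contra hne
      have hlt : Ideal.span {q} < P :=
        lt_of_le_of_ne ((Ideal.span_singleton_le_iff_mem _).2 hqP) (Ne.symm hne)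
      let l : LTSeries (PrimeSpectrum (MvPolynomial (Fin 2) k)) :=
        (((RelSeries.singleton _ ⟨⊥, Ideal.isPrime_bot⟩).snoc ⟨Ideal.span {q}, inferInstance⟩ (by
          change (⊥ : Ideal _) < Ideal.span {q}
          rw [bot_lt_iff_ne_bot, Ne, Ideal.span_singleton_eq_bot]
          exact hq.ne_zero)).snoc ⟨P, hP⟩ (by simpa [← PrimeSpectrum.asIdeal_lt_asIdeal] using hlt)).snoc ⟨M, hM⟩ (by
            simpa [← PrimeSpectrum.asIdeal_lt_asIdeal] using lt_of_le_of_ne hPM (fun h => hPne h.ge))
      have hl : l.length = 3 := rfl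
      have hle := Order.LTSeries.length_le_krullDim l
      rw [hl] at hle
      have hdim : ringKrullDim (MvPolynomial (Fin 2) k) = ((2 : ℕ) : WithBot ℕ∞) := by
        rw [MvPolynomial.ringKrullDim_of_isNoetherianRing, ringKrullDim_eq_zero_of_field, Nat.card_fin, zero_add]
      rw [show Order.krullDim (PrimeSpectrum (MvPolynomial (Fin 2) k)) = _ from hdim] at hle
      norm_cast at hle
    have hdiv : ∀ p, φ p ∈ Ideal.span {ρ} → q ∣ p := fun p hp => by
      have : p ∈ P := hp
      rwa [hPq, Ideal.mem_span_singleton] at this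
    obtain ⟨i, hi⟩ : ∃ i, MvPolynomial.pderiv i q ≠ 0 := by
      by_contra hcon
      push Not at hcon
      have hcoef : ∀ (m : Fin 2 →₀ ℕ) (i : Fin 2), MvPolynomial.coeff m q * (m i : k) = 0 := by
        intro m i
        rcases Nat.eq_zero_or_pos (m i) with h | h
        · simp [h]
        have h1 := congrArg (MvPolynomial.coeff (m - Finsupp.single i 1)) (hcon i)
        have e : m - Finsupp.single i 1 + Finsupp.single i 1 = m :=
          tsub_add_cancel_of_le (Finsupp.single_le_iff.2 h)
        rw [MvPolynomial.coeff_pderiv, e, MvPolynomial.coeff_zero] at h1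
        simpa [Finsupp.tsub_apply, Nat.sub_add_cancel h, ← Nat.cast_add_one] using h1
      obtain ⟨c, hc⟩ := CharP.exists k
      rcases CharP.char_is_prime_or_zero k c with hcp | rfl
      · haveI := Fact.mk hcp
        haveI : CharP (MvPolynomial (Fin 2) k) c := inferInstance
        let r : MvPolynomial (Fin 2) k := ∑ m ∈ q.support,
          MvPolynomial.monomial (m.mapRange (· / c) (Nat.zero_div _))
            ((IsAlgClosed.exists_pow_nat_eq (MvPolynomial.coeff m q) hcp.pos).choose)
        have hr : r ^ c = q := by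
          rw [sum_pow_char]
          conv_rhs => rw [MvPolynomial.as_sum q]
          refine Finset.sum_congr rfl fun m hm => ?_
          rw [MvPolynomial.monomial_pow,
            (IsAlgClosed.exists_pow_nat_eq (MvPolynomial.coeff m q) hcp.pos).choose_spec]
          congr 1
          congr 1
          ext i
          have hd : c ∣ m i := (CharP.cast_eq_zero_iff k c (m i)).1
            ((mul_eq_zero.1 (hcoef m i)).resolve_left (MvPolynomial.mem_support_iff.1 hm))
          simp [Finsupp.mapRange_apply, Nat.mul_div_cancel' hd]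
        exact (not_irreducible_pow hcp.ne_one) (hr.symm ▸ hq.irreducible)
      · haveI := CharP.charP_to_charZero k
        have hC : q = MvPolynomial.C (MvPolynomial.coeff 0 q) := by
          ext m
          rw [MvPolynomial.coeff_C]
          split_ifs with h
          · rw [← h]
          · obtain ⟨i, hi⟩ := Finsupp.ne_iff.1 (Ne.symm h)
            exact (mul_eq_zero.1 (hcoef m i)).resolve_right (Nat.cast_ne_zero.2 (by simpa using hi))
        have hu : MvPolynomial.coeff 0 q ≠ 0 := fun h => hq.ne_zero (by rw [hC, h, map_zero])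
        exact hq.not_unit (hC ▸ (IsUnit.mk0 _ hu).map MvPolynomial.C)
    obtain ⟨v, hv⟩ := Ideal.mem_span_singleton'.1 (hqP : φ q ∈ Ideal.span {ρ})
    have hvρ : v ∉ Ideal.span {ρ} := by
      intro hvm
      obtain ⟨v', rfl⟩ := Ideal.mem_span_singleton'.1 hvm
      have hdmem : φ (MvPolynomial.pderiv i q) ∈ Ideal.span {ρ} := by
        rw [← hder, ← hv]
        rw [show v' * ρ * ρ = v' * ρ ^ 2 by ring, Derivation.leibniz, Derivation.leibniz_pow]
        simp only [smul_eq_mul, nsmul_eq_mul]
        rw [Ideal.mem_span_singleton]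
        exact ⟨2 * v' * MvPowerSeries.pderiv k i ρ + ρ * MvPowerSeries.pderiv k i v', by
          push_cast
          simp only [pow_one]
          ring⟩
      obtain ⟨s, hs⟩ := hdiv _ hdmem
      have hdeg : (MvPolynomial.pderiv i q).totalDegree < q.totalDegree := by
        rw [MvPolynomial.totalDegree, Finset.sup_lt_iff]
        · intro m hm
          rw [MvPolynomial.mem_support_iff, MvPolynomial.coeff_pderiv] at hm
          have hm' : m + Finsupp.single i 1 ∈ q.support := MvPolynomial.mem_support_iff.2 (left_ne_zero_of_mul hm)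
          refine lt_of_lt_of_le ?_ (MvPolynomial.le_totalDegree hm')
          rw [Finsupp.sum_add_index' (fun _ => rfl) (fun _ _ _ => rfl), Finsupp.sum_single_index rfl]
          omega
        · rw [bot_eq_zero, Nat.pos_iff_ne_zero]
          intro h0
          apply hi
          rw [MvPolynomial.totalDegree_eq_zero_iff_eq_C.1 h0, MvPolynomial.pderiv_C]
      have hs0 : s ≠ 0 := fun h => hi (by rw [hs, h, mul_zero])
      rw [hs, MvPolynomial.totalDegree_mul_of_isDomain hq.ne_zero hs0] at hdeg
      omega
    have hρp : Prime ρ := (Ideal.span_singleton_prime hρne).1 hprime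
    obtain ⟨f1, rfl⟩ := hdiv f hfP
    have h1 : φ f1 ∈ Ideal.span {ρ} := by
      refine (hprime.mem_or_mem (x := v) ?_).resolve_left hvρ
      rw [Ideal.mem_span_singleton]
      refine ⟨w, mul_left_cancel₀ hρne ?_⟩
      rw [← mul_assoc, mul_comm ρ v, hv, ← map_mul, hF]
      ring
    obtain ⟨f2, rfl⟩ := hdiv f1 h1
    have hw' : w = v * v * φ f2 := by
      refine mul_left_cancel₀ (pow_ne_zero 2 hρne) ?_
      rw [← hF, map_mul, map_mul, ← hv]
      ring
    have hv0 : MvPowerSeries.constantCoeff v ≠ 0 := fun h => hw (by simp [hw', h])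
    refine ⟨q, f2, by ring, fun h => hw (by simp [hw', hconst, h]), ?_, ?_⟩
    · rw [← hconst, ← hv, map_mul, hρ0, mul_zero]
    · have hl : ∀ j, Groth.Agent.CommAlg4.DoubleLine.lin k j (φ q) =
          MvPowerSeries.constantCoeff v * Groth.Agent.CommAlg4.DoubleLine.lin k j ρ := fun j => by
        rw [← hv, Groth.Agent.CommAlg4.DoubleLine.lin_mul, hρ0, zero_mul, add_zero]
      rcases hρlin with h | h
      · exact ⟨0, by rw [← hlin, hl]; exact mul_ne_zero hv0 h⟩
      · exact ⟨1, by rw [← hlin, hl]; exact mul_ne_zero hv0 h⟩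
  · rintro ⟨g, h, rfl, hh, hg, i, hi⟩
    have hl : Groth.Agent.CommAlg4.DoubleLine.lin k 0 (φ g) ≠ 0 ∨
        Groth.Agent.CommAlg4.DoubleLine.lin k 1 (φ g) ≠ 0 := by
      rw [hlin, hlin]
      fin_cases i
      · exact Or.inl hi
      · exact Or.inr hi
    obtain ⟨e, he⟩ := Groth.Agent.CommAlg4.DoubleLine.exists_algEquiv_X_one (ρ := φ g) ((hconst g).trans hg) hl
    have hu : IsUnit (φ h) := by
      rw [MvPowerSeries.isUnit_iff_constantCoeff, hconst]
      exact Ne.isUnit hh
    refine ⟨(Ideal.quotientEquivAlg _ _ e ?_).symm⟩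
    rw [Ideal.map_span, Set.image_singleton]
    change Ideal.span {φ (g ^ 2 * h)} = Ideal.span {e (MvPowerSeries.X 1 ^ 2)}
    rw [map_pow, he, map_mul, map_pow, Ideal.span_singleton_mul_right_unit hu]

end Groth.Agent.S14310
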