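import Groth.Statements.S14311
import Groth.Agent.CommAlg4.PlaneGermNormal
-- import your own Groth.Agent.* helpers here

set_option autoImplicit false
universe u
open ArSing

namespace Groth.Agent.S14311

/-- Let k be an algebraically closed field in which 2 ≠ 0, f a polynomial in x = X_0, y = X_1 over k and
a a zero of f in k². Then the gradient and all second partial derivatives of f vanish at a if and
only if the completed local ring k[[x,y]]/(f recentred at a) of the plane curve f = 0 at a is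
isomorphic as a k-algebra neither to k[[x,y]]/(y^2 - x^(n+1)) for any natural number n nor to
k[[x,y]]/(y^2). (Here n = 0, a smooth point, is allowed; with n ≥ 1 only, as in the published
definition of an A-singularity, the equivalence fails at smooth points of the curve. Only 2 ≠ 0 is
assumed of the characteristic; the published setting assumes a characteristic different from 2, 3, 5
and 7.) -/
theorem result
    {k : Type u} [Field k] [IsAlgClosed k] (h2 : (2 : k) ≠ 0) (f : MvPolynomial (Fin 2) k) (a : Fin 2 → k)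
    (hfa : MvPolynomial.eval a f = 0) :
    ((∀ i : Fin 2, MvPolynomial.eval a (MvPolynomial.pderiv i f) = 0) ∧
      ∀ i j : Fin 2, MvPolynomial.eval a (MvPolynomial.pderiv i (MvPolynomial.pderiv j f)) = 0) ↔
    ¬ ((∃ n : ℕ, Nonempty ((MvPowerSeries (Fin 2) k ⧸ Ideal.span
        ({(MvPolynomial.aeval (fun i : Fin 2 => MvPolynomial.X i + MvPolynomial.C (a i)) f).toMvPowerSeries} :
          Set (MvPowerSeries (Fin 2) k))) ≃ₐ[k] ArSing.ring k n)) ∨
        Nonempty ((MvPowerSeries (Fin 2) k ⧸ Ideal.span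
        ({(MvPolynomial.aeval (fun i : Fin 2 => MvPolynomial.X i + MvPolynomial.C (a i)) f).toMvPowerSeries} :
          Set (MvPowerSeries (Fin 2) k))) ≃ₐ[k]
          (MvPowerSeries (Fin 2) k ⧸ Ideal.span ({MvPowerSeries.X 1 ^ 2} : Set (MvPowerSeries (Fin 2) k))))) := by
  classical
  let sh : MvPolynomial (Fin 2) k →ₐ[k] MvPolynomial (Fin 2) k :=
    MvPolynomial.aeval (fun i : Fin 2 => MvPolynomial.X i + MvPolynomial.C (a i))
  let φ : MvPolynomial (Fin 2) k →+* MvPowerSeries (Fin 2) k :=
    MvPolynomial.coeToMvPowerSeries.ringHom.comp sh.toRingHom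
  have hconst : ∀ p, MvPowerSeries.constantCoeff (φ p) = MvPolynomial.eval a p := by
    intro p
    induction p using MvPolynomial.induction_on with
    | C c => simp [φ, sh]
    | add p q hp hq => simp only [map_add, hp, hq]
    | mul_X p i hp => simp only [map_mul, hp]; simp [φ, sh]
  have hder : ∀ (j : Fin 2) p, MvPowerSeries.pderiv k j (φ p) = φ (MvPolynomial.pderiv j p) := by
    intro j p
    induction p using MvPolynomial.induction_on with
    | C c => simp [φ, sh]
    | add p q hp hq => simp only [map_add, hp, hq]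
    | mul_X p i hp =>
      have hX : MvPowerSeries.pderiv k j (φ (MvPolynomial.X i)) = φ (MvPolynomial.pderiv j (MvPolynomial.X i)) := by
        simp only [φ, sh, RingHom.comp_apply, AlgHom.toRingHom_eq_coe, RingHom.coe_coe, MvPolynomial.aeval_X,
          MvPolynomial.coeToMvPowerSeries.ringHom_apply, MvPowerSeries.pderiv_coe, map_add,
          MvPolynomial.pderiv_C, add_zero, MvPolynomial.pderiv_X]
        by_cases h : i = j <;> simp [Pi.single_apply, h]
      rw [map_mul, Derivation.leibniz, smul_eq_mul, smul_eq_mul, hX, hp, MvPolynomial.pderiv_mul, map_add, map_mul,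
        map_mul]
      ring
  simp only [← hconst, ← hder]
  change _ ↔ ¬ ((∃ n : ℕ, Nonempty ((MvPowerSeries (Fin 2) k ⧸ Ideal.span {φ f}) ≃ₐ[k] ArSing.ring k n)) ∨
    Nonempty ((MvPowerSeries (Fin 2) k ⧸ Ideal.span {φ f}) ≃ₐ[k]
      (MvPowerSeries (Fin 2) k ⧸ Ideal.span {(MvPowerSeries.X 1 : MvPowerSeries (Fin 2) k) ^ 2})))
  have hF0 : MvPowerSeries.constantCoeff (φ f) = 0 := (hconst f).trans hfa
  generalize φ f = F at hF0 ⊢
  have hlin : ∀ i (z : MvPowerSeries (Fin 2) k), MvPowerSeries.constantCoeff (MvPowerSeries.pderiv k i z) =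
      Groth.Agent.CommAlg4.DoubleLine.lin k i z := fun i z => rfl
  obtain ⟨a₀, b₀, hab⟩ := Groth.Agent.CommAlg4.DoubleLine.exists_decomp hF0
  have hla : Groth.Agent.CommAlg4.DoubleLine.lin k 0 F = MvPowerSeries.constantCoeff a₀ := by
    simp [hab, Groth.Agent.CommAlg4.DoubleLine.lin, Derivation.leibniz]
  have hlb : Groth.Agent.CommAlg4.DoubleLine.lin k 1 F = MvPowerSeries.constantCoeff b₀ := by
    simp [hab, Groth.Agent.CommAlg4.DoubleLine.lin, Derivation.leibniz]
  have hequiv : ∀ {G u : MvPowerSeries (Fin 2) k} (e : MvPowerSeries (Fin 2) k ≃ₐ[k] MvPowerSeries (Fin 2) k),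
      IsUnit u → e F = u * G → Nonempty ((MvPowerSeries (Fin 2) k ⧸ Ideal.span {F}) ≃ₐ[k]
        (MvPowerSeries (Fin 2) k ⧸ Ideal.span {G})) := by
    intro G u e hu he
    refine ⟨Ideal.quotientEquivAlg _ _ e ?_⟩
    rw [Ideal.map_span, Set.image_singleton]
    change Ideal.span {G} = Ideal.span {e F}
    rw [he, Ideal.span_singleton_mul_left_unit hu]
  constructor
  · rintro ⟨h1, h2'⟩ hiso
    -- lifts of the two coordinates
    obtain ⟨G, ψe, hG⟩ : ∃ (G : MvPowerSeries (Fin 2) k)
        (_ : (MvPowerSeries (Fin 2) k ⧸ Ideal.span {F}) ≃ₐ[k] (MvPowerSeries (Fin 2) k ⧸ Ideal.span {G})),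
        G = MvPowerSeries.X 1 ^ 2 ∨ ∃ n, G = ArSing.eqn k n := by
      rcases hiso with ⟨n, ⟨e⟩⟩ | hd
      · exact ⟨_, e, Or.inr ⟨n, rfl⟩⟩
      · obtain ⟨e⟩ := hd
        exact ⟨_, e, Or.inl rfl⟩
    have hl1 : ∀ j, Groth.Agent.CommAlg4.DoubleLine.lin k j F = 0 := h1
    have hla0 : MvPowerSeries.constantCoeff a₀ = 0 := hla ▸ hl1 0
    have hlb0 : MvPowerSeries.constantCoeff b₀ = 0 := hlb ▸ hl1 1
    -- every multiple of F has vanishing second order part
    have hsq : ∀ t : MvPowerSeries (Fin 2) k, ∀ i j,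
        MvPowerSeries.constantCoeff (MvPowerSeries.pderiv k i (MvPowerSeries.pderiv k j (t * F))) = 0 := by
      intro t i j
      simp [Derivation.leibniz, hF0, h2' i j, hlin, hl1]
    have hz : ∀ t : MvPowerSeries (Fin 2) k, ∀ i, Groth.Agent.CommAlg4.DoubleLine.lin k i (t * F) = 0 := by
      intro t i
      simp [Groth.Agent.CommAlg4.DoubleLine.lin_mul, hF0, hl1]
    let ψ : MvPowerSeries (Fin 2) k →+* MvPowerSeries (Fin 2) k ⧸ Ideal.span {G} :=
      ψe.toRingEquiv.toRingHom.comp (Ideal.Quotient.mk _)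
    have hψs : Function.Surjective ψ := ψe.surjective.comp Ideal.Quotient.mk_surjective
    have hψk : ∀ {s}, ψ s = 0 → ∃ t, t * F = s := fun {s} hs =>
      Ideal.mem_span_singleton'.1 (Ideal.Quotient.eq_zero_iff_mem.1 (ψe.injective (hs.trans (map_zero ψe).symm)))
    have hG0 : MvPowerSeries.constantCoeff G = 0 := by
      rcases hG with rfl | ⟨n, rfl⟩ <;> simp [ArSing.eqn]
    have hnt : ∀ s, IsUnit s → Ideal.Quotient.mk (Ideal.span {G}) s ≠ 0 := by
      intro s hs h
      obtain ⟨t, ht⟩ := Ideal.mem_span_singleton'.1 (Ideal.Quotient.eq_zero_iff_mem.1 h)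
      rw [← ht, MvPowerSeries.isUnit_iff_constantCoeff, map_mul, hG0, mul_zero] at hs
      exact not_isUnit_zero hs
    have hloc : ∀ x s, ψ x = Ideal.Quotient.mk _ s →
        (MvPowerSeries.constantCoeff x = 0 ↔ MvPowerSeries.constantCoeff s = 0) := by
      intro x s hxs
      constructor
      · intro hx
        by_contra hs
        obtain ⟨s', hs'⟩ := (MvPowerSeries.isUnit_iff_constantCoeff.2 (Ne.isUnit hs)).exists_left_inv
        obtain ⟨y, hy⟩ := hψs (Ideal.Quotient.mk _ s')
        obtain ⟨t, ht⟩ := hψk (s := y * x - 1) (by rw [map_sub, map_mul, hy, hxs, ← map_mul, hs', map_one, map_one, sub_self])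
        have h := congrArg MvPowerSeries.constantCoeff ht
        simp [hF0, hx] at h
      · intro hs
        by_contra hx
        obtain ⟨x', hx'⟩ := (MvPowerSeries.isUnit_iff_constantCoeff.2 (Ne.isUnit hx)).exists_left_inv
        obtain ⟨s', hs'⟩ := Ideal.Quotient.mk_surjective (ψ x')
        refine hnt (1 - s' * s) (by rw [MvPowerSeries.isUnit_iff_constantCoeff]; simp [hs]) ?_
        rw [map_sub, map_one, map_mul, hs', ← hxs, ← map_mul, hx', map_one, sub_self]
    obtain ⟨ξ, hξ⟩ := hψs (Ideal.Quotient.mk _ (MvPowerSeries.X 0))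
    obtain ⟨γ, hγ⟩ := hψs (Ideal.Quotient.mk _ (MvPowerSeries.X 1))
    have hξ0 := (hloc _ _ hξ).2 (MvPowerSeries.constantCoeff_X _)
    have hγ0 := (hloc _ _ hγ).2 (MvPowerSeries.constantCoeff_X _)
    -- the linear parts of ξ and γ span everything
    have hspan : ∀ i : Fin 2, ∃ α β : k, ∀ j, (if j = i then 1 else 0) =
        α * Groth.Agent.CommAlg4.DoubleLine.lin k j ξ + β * Groth.Agent.CommAlg4.DoubleLine.lin k j γ := by
      intro i
      obtain ⟨s, hs⟩ := Ideal.Quotient.mk_surjective (ψ (MvPowerSeries.X i))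
      obtain ⟨p, q, rfl⟩ := Groth.Agent.CommAlg4.DoubleLine.exists_decomp
        ((hloc _ _ hs.symm).1 (MvPowerSeries.constantCoeff_X _))
      obtain ⟨p', hp'⟩ := hψs (Ideal.Quotient.mk _ p)
      obtain ⟨q', hq'⟩ := hψs (Ideal.Quotient.mk _ q)
      obtain ⟨t, ht⟩ := hψk (s := MvPowerSeries.X i - (p' * ξ + q' * γ)) (by
        simp [← hs, hp', hq', hξ, hγ])
      refine ⟨MvPowerSeries.constantCoeff p', MvPowerSeries.constantCoeff q', fun j => ?_⟩
      have h := congrArg (Groth.Agent.CommAlg4.DoubleLine.lin k j) ht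
      rw [hz, Groth.Agent.CommAlg4.DoubleLine.lin_sub, Groth.Agent.CommAlg4.DoubleLine.lin_X, eq_comm, sub_eq_zero] at h
      rw [h]
      simp [Groth.Agent.CommAlg4.DoubleLine.lin, Derivation.leibniz, hξ0, hγ0]
    have hdet : Groth.Agent.CommAlg4.DoubleLine.lin k 0 ξ * Groth.Agent.CommAlg4.DoubleLine.lin k 1 γ -
        Groth.Agent.CommAlg4.DoubleLine.lin k 1 ξ * Groth.Agent.CommAlg4.DoubleLine.lin k 0 γ ≠ 0 := by
      obtain ⟨α, β, h0⟩ := hspan 0
      obtain ⟨α', β', h1'⟩ := hspan 1
      have e00 := h0 0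
      have e01 := h0 1
      have e10 := h1' 0
      have e11 := h1' 1
      simp only [if_true, show ((1 : Fin 2) = 0) = False from by simp, show ((0 : Fin 2) = 1) = False from by simp,
        if_false] at e00 e01 e10 e11
      intro h
      generalize Groth.Agent.CommAlg4.DoubleLine.lin k 0 ξ = x0 at *
      generalize Groth.Agent.CommAlg4.DoubleLine.lin k 1 ξ = x1 at *
      generalize Groth.Agent.CommAlg4.DoubleLine.lin k 0 γ = g0 at *
      generalize Groth.Agent.CommAlg4.DoubleLine.lin k 1 γ = g1 at *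
      have : (1 : k) = 0 := by
        linear_combination (α' * x1 + β' * g1) * e00 - (α' * x0 + β' * g0) * e01 + e11 +
          (α * β' - β * α') * h
      exact one_ne_zero this
    -- the equation
    rcases hG with rfl | ⟨n, rfl⟩
    · obtain ⟨t, ht⟩ := hψk (s := γ ^ 2) (by
        rw [map_pow, hγ, ← map_pow, Ideal.Quotient.eq_zero_iff_mem]
        exact Ideal.mem_span_singleton_self _)
      have q00 := congrArg (fun z => MvPowerSeries.constantCoeff (MvPowerSeries.pderiv k 0 (MvPowerSeries.pderiv k 0 z))) ht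
      have q11 := congrArg (fun z => MvPowerSeries.constantCoeff (MvPowerSeries.pderiv k 1 (MvPowerSeries.pderiv k 1 z))) ht
      simp only [hsq] at q00 q11
      simp [Derivation.leibniz, Derivation.leibniz_pow, hγ0, hlin, h2, map_ofNat] at q00 q11
      simp [q00, q11] at hdet
    · obtain ⟨t, ht⟩ := hψk (s := γ ^ 2 - ξ ^ (n + 1)) (by
        rw [map_sub, map_pow, map_pow, hγ, hξ, ← map_pow, ← map_pow, ← map_sub, Ideal.Quotient.eq_zero_iff_mem]
        exact Ideal.mem_span_singleton_self _)
      match n, ht with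
      | 0, ht =>
        have l0 := congrArg (Groth.Agent.CommAlg4.DoubleLine.lin k 0) ht
        have l1 := congrArg (Groth.Agent.CommAlg4.DoubleLine.lin k 1) ht
        rw [hz] at l0 l1
        simp [Groth.Agent.CommAlg4.DoubleLine.lin_sub, pow_two, Groth.Agent.CommAlg4.DoubleLine.lin_mul, hγ0] at l0 l1
        simp [l0, l1] at hdet
      | 1, ht =>
        have q00 := congrArg (fun z => MvPowerSeries.constantCoeff (MvPowerSeries.pderiv k 0 (MvPowerSeries.pderiv k 0 z))) ht
        have q01 := congrArg (fun z => MvPowerSeries.constantCoeff (MvPowerSeries.pderiv k 0 (MvPowerSeries.pderiv k 1 z))) ht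
        have q11 := congrArg (fun z => MvPowerSeries.constantCoeff (MvPowerSeries.pderiv k 1 (MvPowerSeries.pderiv k 1 z))) ht
        simp only [hsq] at q00 q01 q11
        simp [Derivation.leibniz, Derivation.leibniz_pow, hγ0, hξ0, hlin, map_ofNat] at q00 q01 q11
        generalize Groth.Agent.CommAlg4.DoubleLine.lin k 0 ξ = x0 at *
        generalize Groth.Agent.CommAlg4.DoubleLine.lin k 1 ξ = x1 at *
        generalize Groth.Agent.CommAlg4.DoubleLine.lin k 0 γ = g0 at *
        generalize Groth.Agent.CommAlg4.DoubleLine.lin k 1 γ = g1 at *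
        have e00 : g0 * g0 = x0 * x0 := mul_left_cancel₀ h2 (by linear_combination -q00)
        have e11 : g1 * g1 = x1 * x1 := mul_left_cancel₀ h2 (by linear_combination -q11)
        have e01 : g0 * g1 = x0 * x1 := mul_left_cancel₀ h2 (by linear_combination -q01)
        apply hdet
        refine eq_zero_of_pow_eq_zero (n := 2) ?_
        linear_combination x0 * x0 * e11 + x1 * x1 * e00 - 2 * (x0 * x1) * e01
      | n + 2, ht =>
        have q00 := congrArg (fun z => MvPowerSeries.constantCoeff (MvPowerSeries.pderiv k 0 (MvPowerSeries.pderiv k 0 z))) ht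
        have q11 := congrArg (fun z => MvPowerSeries.constantCoeff (MvPowerSeries.pderiv k 1 (MvPowerSeries.pderiv k 1 z))) ht
        simp only [hsq] at q00 q11
        simp [Derivation.leibniz, Derivation.leibniz_pow, hγ0, hξ0, hlin, h2, map_ofNat] at q00 q11
        simp [q00, q11] at hdet
  · intro hno
    by_cases hl : Groth.Agent.CommAlg4.DoubleLine.lin k 0 F ≠ 0 ∨ Groth.Agent.CommAlg4.DoubleLine.lin k 1 F ≠ 0
    · obtain ⟨e₁, he₁⟩ := Groth.Agent.CommAlg4.DoubleLine.exists_algEquiv_X_one hF0 hl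
      obtain ⟨e₂, he₂⟩ := Groth.Agent.CommAlg4.DoubleLine.exists_algEquiv_X_one (k := k) (ρ := ArSing.eqn k 0)
        (by simp [ArSing.eqn]) (Or.inl (by simp [ArSing.eqn, Groth.Agent.CommAlg4.DoubleLine.lin_sub, pow_two,
          Groth.Agent.CommAlg4.DoubleLine.lin_mul, Groth.Agent.CommAlg4.DoubleLine.lin_X]))
      exact absurd (Or.inl ⟨0, hequiv (u := 1) (e₁.symm.trans e₂) isUnit_one
        (by rw [one_mul, AlgEquiv.trans_apply, ← he₁, e₁.symm_apply_apply, he₂])⟩) hno
    · push Not at hl
      obtain ⟨A, B₁, hA⟩ := Groth.Agent.CommAlg4.DoubleLine.exists_decomp (hla.symm.trans hl.1)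
      obtain ⟨B₂, D, hD⟩ := Groth.Agent.CommAlg4.DoubleLine.exists_decomp (hlb.symm.trans hl.2)
      have hFq : F = A * MvPowerSeries.X 0 ^ 2 + (B₁ + B₂) * (MvPowerSeries.X 0 * MvPowerSeries.X 1) +
          D * MvPowerSeries.X 1 ^ 2 := by rw [hab, hA, hD]; ring
      by_cases hq : MvPowerSeries.constantCoeff A ≠ 0 ∨ MvPowerSeries.constantCoeff (B₁ + B₂) ≠ 0 ∨
          MvPowerSeries.constantCoeff D ≠ 0
      · obtain ⟨e, u, hu, h⟩ := Groth.Agent.CommAlg4.GermNormal.normal_of_quadratic h2 hFq hq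
        rcases h with h | ⟨n, h⟩
        · exact absurd (Or.inr (hequiv e hu h)) hno
        · exact absurd (Or.inl ⟨n, hequiv e hu h⟩) hno
      · push Not at hq
        obtain ⟨hq0, hq1, hq2⟩ := hq
        rw [map_add] at hq1
        refine ⟨fun i => ?_, fun i j => ?_⟩
        · fin_cases i
          · exact hl.1
          · exact hl.2
        · fin_cases i <;> fin_cases j <;>
            simp [hFq, Derivation.leibniz, Derivation.leibniz_pow, hq0, hq1, hq2]

end Groth.Agent.S14311
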