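import Groth.Statements.S14313
import Groth.Agent.Surf15.FibreDiv
-- import your own Groth.Agent.* helpers here

set_option autoImplicit false
universe u
open CategoryTheory CategoryTheory.Limits AlgebraicGeometry TopologicalSpace
open Surf

open TopologicalSpace
open Groth.Agent.Coherent Groth.Agent.PicLib Groth.Agent.AmpleLib Groth.Agent.EulerLib Groth.Agent.CurveRR24 Groth.Agent.DimLib Groth.Agent.Surf15
set_option linter.style.haveILetI false
set_option backward.isDefEq.respectTransparency.types false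

namespace Groth.Agent.S14313

/-- Let k be an algebraically closed field, S a smooth projective surface over k (integral, proper and
smooth over k, of dimension 2), f : S → C a surjective k-morphism onto a smooth projective curve
(integral, proper and smooth over k, of dimension 1) and F = f⁻¹(p) the fibre over a closed point p,
with O_S(F) a tensor inverse of its ideal sheaf. Let D be a divisor (L = O_S(D) an invertible
module), Z_1 ≥ Z_2 ≥ ⋯ ≥ Z_n ≥ Z_{n+1} = 0 effective Cartier divisors (ideal sheaves I_1 ⊆ I_2 ⊆ ⋯ ⊆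
I_{n+1} = O_S) and μ_1 > μ_2 > ⋯ > μ_n > μ_{n+1} = 0 rational numbers such that every N_i = D − Z_i
− μ_i F (1 ≤ i ≤ n + 1) is a nef ℚ-divisor: (D·Γ) − (Z_i·Γ) − μ_i (F·Γ) ≥ 0 for every integral curve
Γ ⊆ S, where (L·Γ) = χ(O_Γ ⊗ L) − χ(O_Γ) and (Z_i·Γ) = −(I_i·Γ). Put d_i = N_i·F = (D·F) − (Z_i·F) −
μ_i (F·F). Then D² ≥ Σ_{i=1}^{n} (d_i + d_{i+1})(μ_i − μ_{i+1}); here (L·M) = χ(O_S) − χ(L) − χ(M) +
χ(L ⊗ M) for invertible L, M, packaged as FGA.intNum. (Indices run over Fin (n+1), position i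
standing for i + 1.) (The published statement is for the chapter's fibration, with connected fibres,
semi-stable and relatively minimal, over an algebraically closed field of positive characteristic;
this row asks only that f be surjective and allows any algebraically closed field.) -/
theorem result (k : Type u) [Field k] [IsAlgClosed k]
    (S : Scheme.{u}) [S.Over (Spec (CommRingCat.of k))] [IsProper (S ↘ (Spec (CommRingCat.of k)))]
    [Smooth (S ↘ (Spec (CommRingCat.of k)))] [IsIntegral S] (hdim : topologicalKrullDim S = 2)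
    (C : Scheme.{u}) [C.Over (Spec (CommRingCat.of k))] [IsProper (C ↘ (Spec (CommRingCat.of k)))]
    [Smooth (C ↘ (Spec (CommRingCat.of k)))] [IsIntegral C] (hdimC : topologicalKrullDim C = 1)
    (f : S ⟶ C) [f.IsOver (Spec (CommRingCat.of k))] [Surjective f]
    (p : C) (hp : IsClosed ({p} : Set C))
    (LF : S.Modules) (hLF : ClSub.IsInverseOf LF (ClSub.idealMod (f.fiberι p).ker))
    (L : S.Modules) (hL : PicF.IsInvertible L)
    (n : ℕ) (Z : Fin (n + 1) → S.IdealSheafData) (hZ : ∀ i, FGA.IsEffCartier (Z i))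
    (hZmono : Monotone Z) (hZlast : Z (Fin.last n) = ⊤)
    (μ : Fin (n + 1) → ℚ) (hμ : StrictAnti μ) (hμlast : μ (Fin.last n) = 0)
    (hnef : ∀ (i : Fin (n + 1)) (Γ : S.IdealSheafData), IsIntegral Γ.subscheme →
      topologicalKrullDim (Γ.support : Set S) = 1 →
      (0 : ℚ) ≤ ((Curv2.euler k S (CohB1.tensorMod (ClSub.quotMod Γ) L) - Curv2.euler k S (ClSub.quotMod Γ)) : ℚ) + ((Curv2.euler k S (CohB1.tensorMod (ClSub.quotMod Γ) (ClSub.idealMod (Z i))) - Curv2.euler k S (ClSub.quotMod Γ)) : ℚ)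
        - μ i * ((Curv2.euler k S (CohB1.tensorMod (ClSub.quotMod Γ) LF) - Curv2.euler k S (ClSub.quotMod Γ)) : ℚ)) :
    (Finset.univ.sum fun i : Fin n =>
        (((FGA.intNum k S 2 ![L, LF] (Coh.structureModule S) : ℚ) + (FGA.intNum k S 2 ![ClSub.idealMod (Z i.castSucc), LF] (Coh.structureModule S) : ℚ) - μ i.castSucc * (FGA.intNum k S 2 ![LF, LF] (Coh.structureModule S) : ℚ))
          + ((FGA.intNum k S 2 ![L, LF] (Coh.structureModule S) : ℚ) + (FGA.intNum k S 2 ![ClSub.idealMod (Z i.succ), LF] (Coh.structureModule S) : ℚ) - μ i.succ * (FGA.intNum k S 2 ![LF, LF] (Coh.structureModule S) : ℚ)))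
        * (μ i.castSucc - μ i.succ)) ≤ (FGA.intNum k S 2 ![L, L] (Coh.structureModule S) : ℚ) := by
  have hX : topologicalKrullDim S = ((2 : ℕ) : WithBot ℕ∞) := hdim
  haveI := isNoetherian_of_proper (X := S) k
  have hreg : ∀ x : S, IsRegularLocalRing (S.presheaf.stalk x) := fun x =>
    VarietyLib.isRegularLocalRing_stalk_of_smooth k S (S ↘ Spec (CommRingCat.of k)) x
  obtain ⟨H, hH⟩ := exists_ample k hX hreg
  have hZ' : ∀ i, BlowUp.IsEffCartierIdeal (Z i) := hZ
  obtain ⟨-, -, -, hF, -⟩ := exists_fibreDiv k hdimC f hp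
  have hLF' : PicF.IsInvertible LF := by
    obtain ⟨e⟩ := hLF
    exact PicM.isInvertible_of_tensor (FlatMor12.IdealModGen.isInvertible_idealMod _ hF)
      (glocus_isInvertible_of_iso (e.symm ≪≫ AmpleLib.tensorComm _ _) isInvertible_structureModule)
  have hinv := mk_mul_clI'_eq_one k hX hF hLF' hLF
  set φ := clI' (f.fiberι p).ker hF
  set l := InvCl.mk L hL
  have hφφ : B k φ φ = 0 := B_fibre_self k hX hreg hdimC f hp hF
  set z := fun i => clI' (Z i) (hZ' i)
  have hlf : ∀ x, B k x (InvCl.mk LF hLF') = - B k x φ := fun x =>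
    B_inv_right k hX.le (show φ * InvCl.mk LF hLF' = 1 by rw [mul_comm]; exact hinv) x
  -- the rational class of the i-th nef divisor, negative on curves
  have hneg : ∀ (i : Fin (n + 1)) (D : S.IdealSheafData) (hD : BlowUp.IsEffCartierIdeal D), IsCrv D →
      (B k (clI' D hD) l : ℚ) + B k (clI' D hD) (z i) + μ i * B k (clI' D hD) φ ≤ 0 := fun i D hD hc => by
    have h := hnef i D hc.1 hc.2
    have key : ∀ (M : S.Modules) (hM : PicF.IsInvertible M),
        Curv2.euler k S (CohB1.tensorMod (ClSub.quotMod D) M) - Curv2.euler k S (ClSub.quotMod D) =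
          - B k (clI' D hD) (InvCl.mk M hM) := fun M hM => by rw [← deg_mk k, deg_quotMod k hD]
    rw [← Int.cast_sub, ← Int.cast_sub, ← Int.cast_sub, key _ hL, key _ hLF',
      key _ (FlatMor12.IdealModGen.isInvertible_idealMod _ (hZ' i)), hlf] at h
    push_cast at h
    change (0 : ℚ) ≤ -(B k (clI' D hD) l : ℚ) + -(B k (clI' D hD) (z i) : ℚ) - μ i * - -(B k (clI' D hD) φ : ℚ) at h
    linarith
  have hclear : ∀ i, ∃ c : InvCl S, ∀ x, B k c x =
      ((μ i).den : ℤ) * (B k l x + B k (z i) x) + (μ i).num * B k φ x := fun i => by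
    obtain ⟨c₁, hc₁⟩ := exists_zcomb k hX.le (l * z i) ((μ i).den : ℤ)
    obtain ⟨c₂, hc₂⟩ := exists_zcomb k hX.le φ (μ i).num
    exact ⟨c₁ * c₂, fun x => by rw [B_mul_left k hX.le, hc₁, hc₂, B_mul_left k hX.le]⟩
  choose c hc using hclear
  have hcB : ∀ i x, (B k (c i) x : ℚ) =
      ((μ i).den : ℚ) * ((B k l x : ℚ) + B k (z i) x + μ i * B k φ x) := fun i x => by
    rw [hc]
    push_cast
    have e : (μ i) * ((μ i).den : ℚ) = ((μ i).num : ℚ) := Rat.mul_den_eq_num _
    linear_combination (-(B k φ x : ℚ)) * e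
  have hcrv : ∀ i (D : S.IdealSheafData) (hD : BlowUp.IsEffCartierIdeal D), IsCrv D →
      B k (clI' D hD) (c i) ≤ 0 := fun i D hD hcv => by
    have h := hneg i D hD hcv
    have e := hcB i (clI' D hD)
    rw [B_comm k (c i), B_comm k l, B_comm k (z i), B_comm k φ] at e
    have : (B k (clI' D hD) (c i) : ℚ) ≤ 0 := by
      rw [e]; exact mul_nonpos_of_nonneg_of_nonpos (Nat.cast_nonneg _) h
    exact_mod_cast this
  have heff : ∀ i (W : S.IdealSheafData) (hW : BlowUp.IsEffCartierIdeal W),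
      (B k l (clI' W hW) : ℚ) + B k (z i) (clI' W hW) + μ i * B k φ (clI' W hW) ≤ 0 := fun i W hW => by
    have h : (B k (c i) (clI' W hW) : ℚ) ≤ 0 := by
      rw [B_comm k]; exact_mod_cast B_nonpos_of_crv k hX hreg (hcrv i) hW
    rw [hcB] at h
    exact nonpos_of_mul_nonpos_right h (by exact_mod_cast (μ i).pos)
  -- squares
  set Q : Fin (n + 1) → ℚ := fun i => (B k l l : ℚ) + B k (z i) (z i) + 2 * B k l (z i) +
    2 * μ i * (B k l φ + B k (z i) φ)
  have hQ0 : ∀ i, 0 ≤ Q i := fun i => by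
    have h : (0 : ℚ) ≤ (B k (c i) (c i) : ℚ) := by
      exact_mod_cast B_self_nonneg_of_crv k hX hreg hH (hcrv i)
    rw [hcB, B_comm k l (c i), B_comm k (z i) (c i), B_comm k φ (c i), hcB, hcB, hcB, B_comm k (z i) l,
      B_comm k φ l, B_comm k φ (z i), hφφ] at h
    push_cast at h
    have hd : (0 : ℚ) < ((μ i).den : ℚ) * ((μ i).den : ℚ) := by
      have : (0 : ℚ) < ((μ i).den : ℚ) := by exact_mod_cast (μ i).pos
      positivity
    refine le_of_mul_le_mul_left ?_ hd
    rw [mul_zero]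
    simp only [Q]
    linarith
  have hstep : ∀ i : Fin n, (- ((B k l φ : ℚ) + B k (z i.castSucc) φ) + - ((B k l φ : ℚ) + B k (z i.succ) φ)) *
      (μ i.castSucc - μ i.succ) ≤ Q i.succ - Q i.castSucc := fun i => by
    obtain ⟨W, hW⟩ := ModPairLib.exists_mul_eq (hZ' i.succ) (hZmono (Fin.castSucc_lt_succ).le)
    have hWc : BlowUp.IsEffCartierIdeal W := ModPairLib.isEffCartier_of_mul (hW.symm ▸ hZ' i.castSucc) (hZ' i.succ)
    have ez : z i.castSucc = clI' W hWc * z i.succ :=
      (clI'_congr hW.symm (hZ' i.castSucc) (ModPairLib.isEffCartier_mul hWc (hZ' i.succ))).trans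
        (clI'_mul W _ hWc _)
    have h1 := heff i.castSucc W hWc
    have h2 := heff i.succ W hWc
    simp only [Q]
    rw [ez] at h1 ⊢
    simp only [B_mul_left k hX.le, B_mul_right k hX.le] at h1 ⊢
    rw [B_comm k (z i.succ) (clI' W hWc), B_comm k φ (clI' W hWc)] at h1 h2
    rw [B_comm k (z i.succ) (clI' W hWc)]
    push_cast at h1 h2 ⊢
    linarith
  have hterm : ∀ i : Fin (n + 1), (FGA.intNum k S 2 ![L, LF] (Coh.structureModule S) : ℚ) +
      (FGA.intNum k S 2 ![ClSub.idealMod (Z i), LF] (Coh.structureModule S) : ℚ) -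
        μ i * (FGA.intNum k S 2 ![LF, LF] (Coh.structureModule S) : ℚ) = - ((B k l φ : ℚ) + B k (z i) φ) := fun i => by
    rw [intNum_eq_B k hX.le hL hLF', intNum_eq_B k hX.le (FlatMor12.IdealModGen.isInvertible_idealMod _ (hZ' i)) hLF',
      intNum_eq_B k hX.le hLF' hLF', hlf, hlf, hlf, B_comm k (InvCl.mk LF hLF') φ, hlf, hφφ]
    simp only [z, clI']
    push_cast
    ring
  simp only [hterm]
  rw [intNum_eq_B k hX.le hL hL]
  have hlast : Q (Fin.last n) = (B k l l : ℚ) := by
    have e : z (Fin.last n) = 1 := by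
      have e1 : z (Fin.last n) * z (Fin.last n) = z (Fin.last n) :=
        (clI'_mul _ _ (hZ' _) (hZ' _)).symm.trans
          (clI'_congr (by rw [hZlast, ← Scheme.IdealSheafData.one_eq_top, mul_one]) _ _)
      obtain ⟨a, ha⟩ := exists_inv (z (Fin.last n))
      calc z (Fin.last n) = z (Fin.last n) * z (Fin.last n) * a := by rw [mul_assoc, ha, mul_one]
        _ = 1 := by rw [e1, ha]
    simp only [Q, e, B_one_left k hX.le, B_one_right k hX.le, hμlast]
    push_cast
    ring
  have htel : ∑ i : Fin n, (Q i.succ - Q i.castSucc) = Q (Fin.last n) - Q 0 := by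
    have h1 := Fin.sum_univ_succ Q
    have h2 := Fin.sum_univ_castSucc Q
    rw [Finset.sum_sub_distrib]
    linarith
  refine (Finset.sum_le_sum fun i _ => hstep i).trans ?_
  rw [htel, hlast]
  linarith [hQ0 0]

end Groth.Agent.S14313
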