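import Groth.Statements.S14314
import Groth.Agent.Surf15.FibreDiv
import Groth.Agent.Surf15.FiniteInter
-- import your own Groth.Agent.* helpers here

set_option autoImplicit false
universe u
open CategoryTheory CategoryTheory.Limits AlgebraicGeometry TopologicalSpace
open Surf

open TopologicalSpace
open Groth.Agent.Coherent Groth.Agent.PicLib Groth.Agent.AmpleLib Groth.Agent.EulerLib Groth.Agent.CurveRR24 Groth.Agent.DimLib Groth.Agent.Surf15
set_option linter.style.haveILetI false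
set_option backward.isDefEq.respectTransparency.types false

namespace Groth.Agent.S14314

/-- Let k be an algebraically closed field, S a smooth projective surface over k (integral, proper and
smooth over k, of dimension 2), f : S → C a surjective k-morphism onto a smooth projective curve and
F = f⁻¹(p) the fibre over a closed point p, with O_S(F) a tensor inverse of its ideal sheaf. Let
D_1, D_2 be numerically equivalent divisors (invertible modules L_1, L_2 with (L_1·Γ) = (L_2·Γ) for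
every integral curve Γ ⊆ S, where (L·Γ) = χ(O_Γ ⊗ L) − χ(O_Γ)), μ_1 ≥ μ_2 rational numbers and Z_1,
Z_2 effective Cartier divisors with common part Z, that is Z_i = Z + Y_i with Z, Y_1, Y_2 effective
Cartier divisors and Y_1, Y_2 without common component (Y_1 ∩ Y_2 finite); in terms of ideal sheaves
I_{Z_i} = I_Z · I_{Y_i}. If N_i = D_i − Z_i − μ_i F is nef for i = 1, 2, that is (D_i·Γ) +
(I_{Z_i}·Γ) − μ_i (F·Γ) ≥ 0 for every integral curve Γ, then N = D_2 − Z − μ_2 F is nef. (The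
published statement is for the chapter's fibration over an algebraically closed field of positive
characteristic; this row asks only that f be surjective and allows any algebraically closed field.) -/
theorem result (k : Type u) [Field k] [IsAlgClosed k]
    (S : Scheme.{u}) [S.Over (Spec (CommRingCat.of k))] [IsProper (S ↘ (Spec (CommRingCat.of k)))]
    [Smooth (S ↘ (Spec (CommRingCat.of k)))] [IsIntegral S] (hdim : topologicalKrullDim S = 2)
    (C : Scheme.{u}) [C.Over (Spec (CommRingCat.of k))] [IsProper (C ↘ (Spec (CommRingCat.of k)))]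
    [Smooth (C ↘ (Spec (CommRingCat.of k)))] [IsIntegral C] (hdimC : topologicalKrullDim C = 1)
    (f : S ⟶ C) [f.IsOver (Spec (CommRingCat.of k))] [Surjective f]
    (p : C) (hp : IsClosed ({p} : Set C))
    (LF : S.Modules) (hLF : ClSub.IsInverseOf LF (ClSub.idealMod (f.fiberι p).ker))
    (L₁ L₂ : S.Modules) (hL₁ : PicF.IsInvertible L₁) (hL₂ : PicF.IsInvertible L₂)
    (hnum : ∀ Γ : S.IdealSheafData, IsIntegral Γ.subscheme → topologicalKrullDim (Γ.support : Set S) = 1 →
      (Curv2.euler k S (CohB1.tensorMod (ClSub.quotMod Γ) L₁) - Curv2.euler k S (ClSub.quotMod Γ)) = (Curv2.euler k S (CohB1.tensorMod (ClSub.quotMod Γ) L₂) - Curv2.euler k S (ClSub.quotMod Γ)))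
    (μ₁ μ₂ : ℚ) (hμ : μ₂ ≤ μ₁)
    (Z Y₁ Y₂ Z₁ Z₂ : S.IdealSheafData) (hZ : FGA.IsEffCartier Z) (hY₁ : FGA.IsEffCartier Y₁) (hY₂ : FGA.IsEffCartier Y₂)
    (hZ₁ : Z₁ = Z * Y₁) (hZ₂ : Z₂ = Z * Y₂) (hY : ((Y₁ ⊔ Y₂).support : Set S).Finite)
    (hnef₁ : (∀ Γ : S.IdealSheafData, IsIntegral Γ.subscheme → topologicalKrullDim (Γ.support : Set S) = 1 →
      (0 : ℚ) ≤ ((Curv2.euler k S (CohB1.tensorMod (ClSub.quotMod Γ) L₁) - Curv2.euler k S (ClSub.quotMod Γ)) : ℚ) + ((Curv2.euler k S (CohB1.tensorMod (ClSub.quotMod Γ) (ClSub.idealMod Z₁)) - Curv2.euler k S (ClSub.quotMod Γ)) : ℚ)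
        - μ₁ * ((Curv2.euler k S (CohB1.tensorMod (ClSub.quotMod Γ) LF) - Curv2.euler k S (ClSub.quotMod Γ)) : ℚ)))
    (hnef₂ : (∀ Γ : S.IdealSheafData, IsIntegral Γ.subscheme → topologicalKrullDim (Γ.support : Set S) = 1 →
      (0 : ℚ) ≤ ((Curv2.euler k S (CohB1.tensorMod (ClSub.quotMod Γ) L₂) - Curv2.euler k S (ClSub.quotMod Γ)) : ℚ) + ((Curv2.euler k S (CohB1.tensorMod (ClSub.quotMod Γ) (ClSub.idealMod Z₂)) - Curv2.euler k S (ClSub.quotMod Γ)) : ℚ)
        - μ₂ * ((Curv2.euler k S (CohB1.tensorMod (ClSub.quotMod Γ) LF) - Curv2.euler k S (ClSub.quotMod Γ)) : ℚ))) :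
    (∀ Γ : S.IdealSheafData, IsIntegral Γ.subscheme → topologicalKrullDim (Γ.support : Set S) = 1 →
      (0 : ℚ) ≤ ((Curv2.euler k S (CohB1.tensorMod (ClSub.quotMod Γ) L₂) - Curv2.euler k S (ClSub.quotMod Γ)) : ℚ) + ((Curv2.euler k S (CohB1.tensorMod (ClSub.quotMod Γ) (ClSub.idealMod Z)) - Curv2.euler k S (ClSub.quotMod Γ)) : ℚ)
        - μ₂ * ((Curv2.euler k S (CohB1.tensorMod (ClSub.quotMod Γ) LF) - Curv2.euler k S (ClSub.quotMod Γ)) : ℚ)) := by
  change BlowUp.IsEffCartierIdeal Z at hZ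
  change BlowUp.IsEffCartierIdeal Y₁ at hY₁
  change BlowUp.IsEffCartierIdeal Y₂ at hY₂
  have hX : topologicalKrullDim S = ((2 : ℕ) : WithBot ℕ∞) := hdim
  haveI := isNoetherian_of_proper (X := S) k
  have hreg : ∀ x : S, IsRegularLocalRing (S.presheaf.stalk x) := fun x =>
    VarietyLib.isRegularLocalRing_stalk_of_smooth k S (S ↘ Spec (CommRingCat.of k)) x
  obtain ⟨-, -, -, hF, -⟩ := exists_fibreDiv k hdimC f hp
  have hLF' : PicF.IsInvertible LF := by
    obtain ⟨e⟩ := hLF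
    exact PicM.isInvertible_of_tensor (FlatMor12.IdealModGen.isInvertible_idealMod _ hF)
      (glocus_isInvertible_of_iso (e.symm ≪≫ AmpleLib.tensorComm _ _) isInvertible_structureModule)
  have hinv := mk_mul_clI'_eq_one k hX hF hLF' hLF
  set φ := clI' (f.fiberι p).ker hF
  intro Γ hΓ hΓd
  have hc : IsCrv Γ := ⟨hΓ, hΓd⟩
  have hE := hc.isEffCartier k hX hreg
  haveI := hΓ
  set γ := clI' Γ hE
  have key : ∀ (M : S.Modules) (hM : PicF.IsInvertible M),
      Curv2.euler k S (CohB1.tensorMod (ClSub.quotMod Γ) M) - Curv2.euler k S (ClSub.quotMod Γ) =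
        - B k γ (InvCl.mk M hM) := fun M hM => by rw [← deg_mk k, deg_quotMod k hE]
  have hFl : - B k γ (InvCl.mk LF hLF') = B k γ φ := by
    rw [B_inv_right k hX.le (show φ * InvCl.mk LF hLF' = 1 by rw [mul_comm]; exact hinv)]; ring
  have hFnn : 0 ≤ B k γ φ := B_fibre_nonneg k hX hreg hdimC f hp hF hc
  have h1 := hnef₁ Γ hΓ hΓd
  have h2 := hnef₂ Γ hΓ hΓd
  have hn := hnum Γ hΓ hΓd
  subst hZ₁ hZ₂
  have hI := fun (I : S.IdealSheafData) (hI : BlowUp.IsEffCartierIdeal I) =>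
    key (ClSub.idealMod I) (FlatMor12.IdealModGen.isInvertible_idealMod I hI)
  rw [key _ hL₁, key _ hL₂] at hn
  have hI' : ∀ (I : S.IdealSheafData) (hI : BlowUp.IsEffCartierIdeal I),
      Curv2.euler k S (CohB1.tensorMod (ClSub.quotMod Γ) (ClSub.idealMod I)) - Curv2.euler k S (ClSub.quotMod Γ) =
        - B k γ (clI' I hI) := hI
  rw [← Int.cast_sub, ← Int.cast_sub, ← Int.cast_sub, key _ hL₁, key _ hLF',
    hI' _ (ModPairLib.isEffCartier_mul hZ hY₁), hFl, clI'_mul Z Y₁ hZ hY₁, B_mul_right k hX.le, neg_add] at h1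
  rw [← Int.cast_sub, ← Int.cast_sub, ← Int.cast_sub, key _ hL₂, key _ hLF',
    hI' _ (ModPairLib.isEffCartier_mul hZ hY₂), hFl, clI'_mul Z Y₂ hZ hY₂, B_mul_right k hX.le, neg_add] at h2
  rw [← Int.cast_sub, ← Int.cast_sub, ← Int.cast_sub, key _ hL₂, key _ hLF', hI' _ hZ, hFl]
  push_cast at h1 h2 ⊢
  have hnq : (B k γ (InvCl.mk L₁ hL₁) : ℚ) = B k γ (InvCl.mk L₂ hL₂) := by exact_mod_cast neg_injective hn
  rw [← hnq] at h2 ⊢
  have hφ : (0 : ℚ) ≤ (B k γ φ : ℚ) := by exact_mod_cast hFnn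
  by_cases hsub : (Γ.support : Set S) ⊆ (Y₂.support : Set S)
  · have hsub' : ¬ (Γ.support : Set S) ⊆ (Y₁.support : Set S) := fun h => by
      haveI : JacobsonSpace S := LocallyOfFiniteType.jacobsonSpace (S ↘ Spec (CommRingCat.of k))
      have hss : (Γ.support : Set S) ⊆ ((Y₁ ⊔ Y₂).support : Set S) := by
        rw [Scheme.IdealSheafData.support_sup]; exact fun z hz => ⟨h hz, hsub hz⟩
      have hcl := isClosed_of_mem_finite_closed (hY.subset hss) Γ.support.isClosed
        (SDiv28.CartierPart.isGenericPoint_gen Γ).mem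
      have he : (Γ.support : Set S) = {SDiv28.CartierPart.gen Γ} :=
        (SDiv28.CartierPart.isGenericPoint_gen Γ).def.symm.trans hcl.closure_eq
      rw [he] at hΓd
      have h0 : topologicalKrullDim ({SDiv28.CartierPart.gen Γ} : Set S) ≤ 0 := by
        haveI : Subsingleton ({SDiv28.CartierPart.gen Γ} : Set S) := Set.subsingleton_singleton.coe_sort
        exact topologicalKrullDim_zero_of_discreteTopology _
      rw [hΓd] at h0
      exact absurd h0 (by decide)
    have hy : (0 : ℚ) ≤ (B k γ (clI' Y₁ hY₁) : ℚ) := by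
      exact_mod_cast B_clI'_nonneg k hX.le hY₁ hE hΓd hsub'
    nlinarith [mul_nonneg (sub_nonneg.2 hμ) hφ]
  · have hy : (0 : ℚ) ≤ (B k γ (clI' Y₂ hY₂) : ℚ) := by
      exact_mod_cast B_clI'_nonneg k hX.le hY₂ hE hΓd hsub
    linarith

end Groth.Agent.S14314
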