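import Groth.Statements.S14315
import Groth.Agent.MorProj.SmoothLocus
import Groth.Agent.FlatMorLocalStr.SmoothFibres
import Groth.Agent.Hurwitz24.Generic

set_option autoImplicit false
universe u
open CategoryTheory CategoryTheory.Limits AlgebraicGeometry TopologicalSpace
open Surf

set_option backward.isDefEq.respectTransparency.types false

namespace Groth.Agent.S14315

private theorem nontrivial_of_dim_one {T : Type u} [TopologicalSpace T] (h : topologicalKrullDim T = 1) :
    Nontrivial T := by
  by_contra hs
  rw [not_nontrivial_iff_subsingleton] at hs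
  rcases isEmpty_or_nonempty T with he | hne
  · haveI : DiscreteTopology T := inferInstance
    have := topologicalKrullDim_zero_of_discreteTopology T
    rw [h] at this
    exact absurd this (by norm_num)
  · haveI : DiscreteTopology T := inferInstance
    have := topologicalKrullDim_zero_of_discreteTopology T
    rw [h] at this
    exact absurd this (by norm_num)


/-- Let k be an algebraically closed field, S a smooth projective surface over k (integral, proper and
smooth over k, of dimension 2), f : S → C a surjective k-morphism onto a smooth projective curve C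
(integral, proper and smooth over k, of dimension 1), and ψ : C' → C a finite k-morphism from
another smooth projective curve C' which is unramified at every point of C' lying over a point of C
whose fibre of f is not smooth. Then S ×_C C' is smooth over k. (The published statement takes ψ
separable and f the chapter's generically smooth semi-stable fibration with connected fibres over an
algebraically closed field of positive characteristic; this row assumes only f surjective and ψ
finite, over any algebraically closed field.) -/
theorem result (k : Type u) [Field k] [IsAlgClosed k]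
    (S : Scheme.{u}) [S.Over (Spec (CommRingCat.of k))] [IsProper (S ↘ (Spec (CommRingCat.of k)))]
    [Smooth (S ↘ (Spec (CommRingCat.of k)))] [IsIntegral S] (hdim : topologicalKrullDim S = 2)
    (C : Scheme.{u}) [C.Over (Spec (CommRingCat.of k))] [IsProper (C ↘ (Spec (CommRingCat.of k)))]
    [Smooth (C ↘ (Spec (CommRingCat.of k)))] [IsIntegral C] (hdimC : topologicalKrullDim C = 1)
    (f : S ⟶ C) [f.IsOver (Spec (CommRingCat.of k))] [Surjective f]
    (C' : Scheme.{u}) [C'.Over (Spec (CommRingCat.of k))] [IsProper (C' ↘ (Spec (CommRingCat.of k)))]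
    [Smooth (C' ↘ (Spec (CommRingCat.of k)))] [IsIntegral C'] (hdimC' : topologicalKrullDim C' = 1)
    (ψ : C' ⟶ C) [ψ.IsOver (Spec (CommRingCat.of k))] [IsFinite ψ]
    (hψ : ∀ c : C', ¬ Smooth (f.fiberToSpecResidueField (ψ.base c)) →
      ∃ U : C'.Opens, c ∈ U ∧ FormallyUnramified (U.ι ≫ ψ)) :
    Smooth (pullback.snd f ψ ≫ (C' ↘ (Spec (CommRingCat.of k)))) := by
  let pS := S ↘ Spec (CommRingCat.of k)
  let pC := C ↘ Spec (CommRingCat.of k)
  let pC' := C' ↘ Spec (CommRingCat.of k)
  haveI : IsLocallyNoetherian C := LocallyOfFiniteType.isLocallyNoetherian pC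
  have hnC := FlatMorLocalStr.isNormalScheme_of_smooth_field pC
  haveI : Nontrivial C := nontrivial_of_dim_one hdimC
  haveI : Flat f := Hurwitz24.flat_of_dominant f
    (CurvesLib24.map_genericPoint_of_nontrivial hdimC.le f
      (by rw [Set.range_eq_univ.2 f.surjective]; exact Set.nontrivial_univ))
    hdimC.le fun y => (hnC y).2
  haveI : Flat ψ := by
    refine Hurwitz24.flat_of_dominant ψ (CurvesLib24.map_genericPoint_of_nontrivial hdimC.le ψ ?_)
      hdimC.le fun y => (hnC y).2
    by_contra hsub
    rw [Set.not_nontrivial_iff] at hsub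
    have hpre : ψ.base ⁻¹' {ψ (genericPoint C')} = Set.univ :=
      Set.eq_univ_of_forall fun x => hsub ⟨x, rfl⟩ ⟨_, rfl⟩
    have hd := ψ.isDiscrete_preimage_singleton (ψ (genericPoint C'))
    rw [hpre] at hd
    haveI : DiscreteTopology C' := isDiscrete_univ_iff.1 hd
    have := topologicalKrullDim_zero_of_discreteTopology C'
    rw [hdimC'] at this
    exact absurd this (by norm_num)
  haveI : LocallyOfFiniteType (f ≫ pC) := by rw [comp_over]; infer_instance
  haveI : LocallyOfFiniteType f := locallyOfFiniteType_of_comp f pC
  haveI : LocallyOfFinitePresentation f := Coherent.CohBC.locallyOfFinitePresentation_of_isLocallyNoetherian f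
  haveI : LocallyOfFinitePresentation ψ := Coherent.CohBC.locallyOfFinitePresentation_of_isLocallyNoetherian ψ
  let g := pullback.snd f ψ ≫ pC'
  haveI : LocallyOfFinitePresentation pC' := inferInstance
  haveI : LocallyOfFinitePresentation g := inferInstance
  show Smooth g
  rw [← g.smoothLocus_eq_top_iff]
  refine top_unique fun p _ => ?_
  show (g.stalkMap p).hom.FormallySmooth
  have hS : ∀ z, (pS.stalkMap z).hom.FormallySmooth := fun z => by
    have : z ∈ pS.smoothLocus := by rw [pS.smoothLocus_eq_top]; trivial
    exact this
  have hC' : ∀ z, (pC'.stalkMap z).hom.FormallySmooth := fun z => by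
    have : z ∈ pC'.smoothLocus := by rw [pC'.smoothLocus_eq_top]; trivial
    exact this
  have hcomp : ∀ {A B D : Scheme.{u}} (a : A ⟶ B) (b : B ⟶ D) (z : A),
      (a.stalkMap z).hom.FormallySmooth → (b.stalkMap (a z)).hom.FormallySmooth →
        ((a ≫ b).stalkMap z).hom.FormallySmooth := fun a b z h1 h2 => by
    rw [Scheme.Hom.stalkMap_comp]
    exact RingHom.FormallySmooth.comp h2 h1
  by_cases hc : Smooth (f.fiberToSpecResidueField (ψ (pullback.snd f ψ p)))
  · have he : f (pullback.fst f ψ p) = ψ (pullback.snd f ψ p) := by
      rw [← Scheme.Hom.comp_apply, pullback.condition, Scheme.Hom.comp_apply]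
    rw [← he] at hc
    haveI := hc
    refine hcomp _ _ p (MorProj.formallySmooth_stalkMap_pullback f ψ (IsPullback.of_hasPullback f ψ) p ?_) (hC' _)
    refine (MorProj.mem_smoothLocus_iff_flat_and_fiber f (pullback.fst f ψ p)).2 ⟨Flat.stalkMap f _, ?_⟩
    rw [Scheme.Hom.smoothLocus_eq_top]
    trivial
  · obtain ⟨U, hU, hun⟩ := hψ (pullback.snd f ψ p) hc
    haveI := hun
    haveI : Etale (U.ι ≫ ψ) := Etale.of_formallyUnramified_of_flat _
    have h1 : (ψ.stalkMap (pullback.snd f ψ p)).hom.FormallySmooth :=
      (SmoothLib.smooth_nhd_iff ψ _).1 ⟨U, hU, inferInstance⟩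
    have hw : g = pullback.fst f ψ ≫ pS := by
      show pullback.snd f ψ ≫ pC' = _
      rw [show pC' = ψ ≫ pC from (comp_over ψ _).symm, show pS = f ≫ pC from (comp_over f _).symm,
        pullback.condition_assoc]
    rw [hw]
    exact hcomp _ _ p (MorProj.formallySmooth_stalkMap_pullback ψ f (IsPullback.of_hasPullback f ψ).flip p h1)
      (hS _)

end Groth.Agent.S14315
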