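import Groth.Statements.S1433


set_option autoImplicit false
universe u
open FlatMor

namespace Groth.Agent.S1433

open AlgebraicGeometry CategoryTheory Limits in
/-- If the canonical morphism X → Spec Γ(X, O_X) has a retraction, then X is affine. -/
theorem result (X : Scheme.{u}) (r : Spec Γ(X, ⊤) ⟶ X) (h : X.toSpecΓ ≫ r = 𝟙 X) : IsAffine X := by
  haveI : IsIso X.toSpecΓ := by
    refine ⟨r, h, ext_of_isAffine ?_⟩
    have h' := congrArg Scheme.Hom.appTop h
    rw [Scheme.Hom.comp_appTop, Scheme.Hom.id_appTop, Scheme.toSpecΓ_appTop] at h'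
    rw [Scheme.Hom.comp_appTop, Scheme.Hom.id_appTop, Scheme.toSpecΓ_appTop]
    rw [← cancel_epi (Scheme.ΓSpecIso Γ(X, ⊤)).inv, Category.comp_id]
    simp only [Iso.inv_hom_id_assoc]
    exact ((Scheme.ΓSpecIso Γ(X, ⊤)).comp_hom_eq_id.mp h')
  exact IsAffine.of_isIso X.toSpecΓ

end Groth.Agent.S1433
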