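import Groth.Statements.S14330
import Groth.Agent.CohDer1.FlatRestrict
-- import your own Groth.Agent.* helpers here

set_option autoImplicit false
universe u
open CategoryTheory CategoryTheory.Limits AlgebraicGeometry Opposite
open GrpSch

namespace Groth.Agent.S14330

/-- Let S be a locally Noetherian scheme, f : A → S a smooth morphism, L an invertible O_A-module and V
an open subscheme of S; for an open W of S consider the restriction of sections of L from f⁻¹(W) to
f⁻¹(W) ∩ f⁻¹(V), that is the component over W of the natural map f_*L → j_*j^*(f_*L), j : V → S the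
inclusion. If V is schematically dense in S, all these restrictions are injective. If V is a big
open of S, meaning that the local ring of S at every point outside V has depth at least 2, all these
restrictions are bijective. (The published statement is for a semi-stable group scheme A; its proof
uses only the smoothness of A over S and the local freeness of L, which are the hypotheses kept
here.) -/
theorem result {S A : Scheme.{u}} [IsLocallyNoetherian S]
    (f : A ⟶ S) [Smooth f] (L : A.Modules) (hL : PicF.IsInvertible L) (V : S.Opens) :
    (CInt.IsSchematicallyDense V →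
      ∀ W : S.Opens, Function.Injective (L.val.map (homOfLE (inf_le_left : f ⁻¹ᵁ W ⊓ f ⁻¹ᵁ V ≤ f ⁻¹ᵁ W)).op)) ∧
    ((∀ x : S, x ∉ V → 2 ≤ LocCoh.depth (S.presheaf.stalk x) (S.presheaf.stalk x)) →
      ∀ W : S.Opens, Function.Bijective (L.val.map (homOfLE (inf_le_left : f ⁻¹ᵁ W ⊓ f ⁻¹ᵁ V ≤ f ⁻¹ᵁ W)).op)) := by
  haveI : IsLocallyNoetherian A := LocallyOfFiniteType.isLocallyNoetherian f
  refine ⟨fun hV W => ?_, fun hV W => ?_⟩
  · exact CohDer1.FlatRestrict.injective_resM (NeronLib.isSchematicallyDense_preimage f hV) hL (f ⁻¹ᵁ W)
  · refine ParaF29.bijective_resM (U := f ⁻¹ᵁ V) (fun T => Rat20Lib.res_bijective _ ?_ T) hL (f ⁻¹ᵁ W)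
    exact fun a ha => CohDer1.FlatRestrict.two_le_depth_of_flat f a (hV (f a) ha)

end Groth.Agent.S14330
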