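import Groth.Statements.S14337
import Mathlib
import Groth.Agent.FlatCxLib.DRank2
import Groth.Agent.CAlgSmall.ClopenSplit

set_option linter.all false

set_option autoImplicit false
universe u v
open scoped TensorProduct
open CAlg

open TensorProduct

namespace Groth.Agent.S14337

theorem usc_fibre {A : Type u} [CommRing A] (M : Type v) [AddCommGroup M] [Module A M]
    [Module.Finite A M] :
    UpperSemicontinuous (fun x : PrimeSpectrum A =>
      Module.finrank x.asIdeal.ResidueField (x.asIdeal.ResidueField ⊗[A] M)) := by
  obtain ⟨n, f, hf⟩ := Module.Finite.exists_fin' A M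
  let e := f.quotKerEquivOfSurjective hf
  have h := Groth.Agent.FlatCxLib.upperSemicontinuous_fibreRank (A := A)
    ((Fin n → A) ⧸ LinearMap.ker f)
  convert h using 1
  funext x
  symm
  exact (LinearEquiv.baseChange A x.asIdeal.ResidueField _ _ e).finrank_eq

theorem flat_of_lc {A : Type u} [CommRing A] [IsReduced A] (M : Type v) [AddCommGroup M] [Module A M]
    [Module.Finite A M] (h : IsLocallyConstant (fun x : PrimeSpectrum A =>
      Module.finrank x.asIdeal.ResidueField (x.asIdeal.ResidueField ⊗[A] M))) :
    Module.Flat A M := by
  obtain ⟨n, f, hf⟩ := Module.Finite.exists_fin' A M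
  let e := f.quotKerEquivOfSurjective hf
  have : Module.Flat A ((Fin n → A) ⧸ LinearMap.ker f) := by
    refine Groth.Agent.FlatCxLib.flat_of_isLocallyConstant_fibreRank _ ?_
    convert h using 1
    funext x
    exact (LinearEquiv.baseChange A x.asIdeal.ResidueField _ _ e).finrank_eq
  exact Module.Flat.of_linearEquiv e.symm

theorem rank_range {A : Type u} [CommRing A] {M N : Type v} [AddCommGroup M] [Module A M]
    [AddCommGroup N] [Module A N] [Module.Finite A N] (f : M →ₗ[A] N) (K : Type u) [Field K]
    [Algebra A K] :
    Module.finrank K (LinearMap.range (f.baseChange K)) +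
      Module.finrank K (K ⊗[A] (N ⧸ LinearMap.range f)) = Module.finrank K (K ⊗[A] N) := by
  let π := (LinearMap.range f).mkQ.baseChange K
  have hex : Function.Exact (f.baseChange K) π :=
    lTensor_exact K (LinearMap.exact_map_mkQ_range f) (Submodule.mkQ_surjective _)
  have hs : Function.Surjective π := LinearMap.lTensor_surjective K (Submodule.mkQ_surjective _)
  rw [← ((Submodule.quotEquivOfEq _ _ (LinearMap.exact_iff.mp hex).symm).trans
    (π.quotKerEquivOfSurjective hs)).finrank_eq, add_comm]
  exact Submodule.finrank_quotient_add_finrank _

theorem lc_free {A : Type u} [CommRing A] [IsNoetherianRing A] (M : Type v) [AddCommGroup M]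
    [Module A M] [Module.Finite A M] [Module.Flat A M] :
    IsLocallyConstant (fun x : PrimeSpectrum A =>
      Module.finrank x.asIdeal.ResidueField (x.asIdeal.ResidueField ⊗[A] M)) := by
  have : Module.FinitePresentation A M := Module.finitePresentation_of_finite A M
  have h := Module.isLocallyConstant_rankAtStalk (R := A) (M := M)
  convert h using 1
  funext x
  exact (Module.rankAtStalk_eq x).symm

theorem proj_of_flat {A : Type u} [CommRing A] [IsNoetherianRing A] (M : Type v) [AddCommGroup M]
    [Module A M] [Module.Finite A M] [Module.Flat A M] : Module.Projective A M := by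
  have : Module.FinitePresentation A M := Module.finitePresentation_of_finite A M
  exact Module.Flat.projective_of_finitePresentation (R := A) (M := M)

theorem range_summand {A : Type u} [CommRing A] {M : Type v} [AddCommGroup M] [Module A M]
    (N : Submodule A M) [Module.Projective A (M ⧸ N)] :
    ∃ r : M →ₗ[A] N, r ∘ₗ N.subtype = LinearMap.id := by
  obtain ⟨s, hs⟩ := Module.projective_lifting_property N.mkQ LinearMap.id (Submodule.mkQ_surjective _)
  refine ⟨LinearMap.codRestrict N (LinearMap.id - s ∘ₗ N.mkQ) fun x => ?_, ?_⟩
  · rw [← Submodule.Quotient.mk_eq_zero, ← Submodule.mkQ_apply]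
    have := LinearMap.congr_fun hs (N.mkQ x)
    simp only [LinearMap.sub_apply, LinearMap.id_apply, LinearMap.comp_apply, map_sub] at this ⊢
    rw [this, sub_self]
  · ext x
    simp [(Submodule.Quotient.mk_eq_zero N).2 x.2]

/-- Let B be a Noetherian ring, K and K' finitely generated flat B-modules and φ : K → K' a B-linear
map; for a prime y of B write κ(y) for its residue field and φ_y for the base change κ(y) ⊗ K → κ(y)
⊗ K'. If the cokernel K'/Im φ is a projective (locally free) B-module, then Im φ is projective, and
the formation of Im φ commutes with every base change: for every commutative B-algebra B' the map B'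
⊗ Im φ → B' ⊗ K' induced by the inclusion is injective and its range is the range of the base change
B' ⊗ K → B' ⊗ K' of φ. -/
theorem result (B : Type u) [CommRing B] [IsNoetherianRing B] (K K' : Type u) [AddCommGroup K] [Module B K] [Module.Finite B K] [Module.Flat B K] [AddCommGroup K'] [Module B K'] [Module.Finite B K'] [Module.Flat B K'] (φ : K →ₗ[B] K') (hc : Module.Projective B (K' ⧸ LinearMap.range φ)) : Module.Projective B ↥(LinearMap.range φ) ∧ ∀ (B' : Type u) [CommRing B'] [Algebra B B'], Function.Injective ((LinearMap.range φ).subtype.baseChange B') ∧ LinearMap.range ((LinearMap.range φ).subtype.baseChange B') = LinearMap.range (φ.baseChange B') := by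
  have : Module.Projective B K' := proj_of_flat K'
  obtain ⟨r, hr⟩ := range_summand (LinearMap.range φ)
  refine ⟨Module.Projective.of_split (LinearMap.range φ).subtype r hr, fun B' _ _ => ⟨?_, ?_⟩⟩
  · refine Function.LeftInverse.injective (g := r.baseChange B') fun x => ?_
    rw [← LinearMap.comp_apply, ← LinearMap.baseChange_comp, hr, LinearMap.baseChange_id, LinearMap.id_apply]
  · have e : φ.baseChange B' = (LinearMap.range φ).subtype.baseChange B' ∘ₗ φ.rangeRestrict.baseChange B' := by
      rw [← LinearMap.baseChange_comp]; congr 1
    rw [e, LinearMap.range_comp_of_range_eq_top]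
    rw [LinearMap.range_eq_top]
    exact LinearMap.lTensor_surjective B' φ.surjective_rangeRestrict

end Groth.Agent.S14337
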