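import Groth.Statements.S14339
import Groth.Agent.LefPen24.PlaneNotHyp
import Groth.Agent.AbVarLib.HomDim
import Groth.Agent.Clifford24.G12

set_option autoImplicit false
universe u
open CategoryTheory CategoryTheory.Limits AlgebraicGeometry
open Curves

namespace Groth.Agent.S14339

/-- Let k be a field, d ≥ 4, and f a nonzero homogeneous form of degree d in the homogeneous coordinates
of P^2_k whose plane curve X = V_+(f) is smooth over k. Then X is not hyperelliptic: there is no
morphism φ : X → P^1_k over k which is finite and flat of constant rank 2 (a double cover of the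
projective line). -/
theorem result (k : Type u) [Field k] (d : ℕ) (hd : 4 ≤ d) (f : LefPen.Form 2 k d) (hf : f ≠ 0) [Smooth ((LefPen.hypIdeal f).subschemeι ≫ CohB1.ProjSpace.toSpec 2 k)] : ¬ ∃ φ : (LefPen.hypIdeal f).subscheme ⟶ CohB1.ProjSpace 1 k, φ ≫ CohB1.ProjSpace.toSpec 1 k = (LefPen.hypIdeal f).subschemeι ≫ CohB1.ProjSpace.toSpec 2 k ∧ IsFinite φ ∧ Flat φ ∧ ∀ y : ↥(CohB1.ProjSpace 1 k), Scheme.Hom.finrank φ y = 2 := by
  classical
  rintro ⟨φ, hφ, hfin, hflat, hrk⟩
  let C := (LefPen.hypIdeal f).subscheme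
  let ι := (LefPen.hypIdeal f).subschemeι
  letI instC : C.Over (Spec (CommRingCat.of k)) := ⟨ι ≫ CohB1.ProjSpace.toSpec 2 k⟩
  let q := C ↘ Spec (CommRingCat.of k)
  haveI : IsProper (CohB1.ProjSpace.toSpec 2 k) := CurveLib.isProper_projSpace k 2
  haveI : IsProper q := inferInstanceAs (IsProper (ι ≫ CohB1.ProjSpace.toSpec 2 k))
  haveI : Smooth q := ‹Smooth (ι ≫ CohB1.ProjSpace.toSpec 2 k)›
  obtain ⟨h0, h1⟩ := LefPen24.finrank_planeCurve f hf (by omega) (inst := instC) rfl
  haveI : ConnectedSpace C := LefPen24.connectedSpace_of_finrank k h0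
  haveI : IsIntegral C := AbVarLib.isIntegral_of_smooth_connected q
  have hg : 2 ≤ Curv2.genus k C := by
    show 2 ≤ Module.finrank k _
    rw [h1]
    exact le_trans (by decide : 2 ≤ (4 - 1).choose 2) (Nat.choose_le_choose 2 (by omega))
  haveI : Surjective φ := by
    haveI : LocallyOfFinitePresentation φ := by
      haveI : IsLocallyNoetherian (CohB1.ProjSpace 1 k) := by
        haveI : IsProper (CohB1.ProjSpace.toSpec 1 k) := CurveLib.isProper_projSpace k 1
        exact LocallyOfFiniteType.isLocallyNoetherian (CohB1.ProjSpace.toSpec 1 k)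
      exact Coherent.CohBC.locallyOfFinitePresentation_of_isLocallyNoetherian φ
    exact (Scheme.Hom.one_le_finrank_iff_surjective φ).1 fun y => by show 1 ≤ Scheme.Hom.finrank φ y; rw [hrk y]; norm_num
  haveI := CurveLib.isIntegral_projSpace k 1
  have hdim : topologicalKrullDim C = 1 := by
    haveI : IsProper (CohB1.ProjSpace.toSpec 1 k) := CurveLib.isProper_projSpace k 1
    rw [AbVarLib.topologicalKrullDim_eq_of_lqf (CohB1.ProjSpace.toSpec 1 k) φ]
    exact DimLib.PN.topologicalKrullDim_projSpace 1 k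
  let K := AlgebraicClosure k
  let C' := pullback q (Spec.map (CommRingCat.ofHom (algebraMap k K)))
  let g : C' ⟶ C := pullback.fst _ _
  letI : C'.Over (Spec (CommRingCat.of K)) := ⟨pullback.snd _ _⟩
  have hpb : IsPullback g (C' ↘ Spec (CommRingCat.of K)) q (Spec.map (CommRingCat.ofHom (algebraMap k K))) :=
    IsPullback.of_hasPullback _ _
  obtain ⟨hp, hs, hG, hint, hdim'⟩ := LefPen24.bc_curve (g := g) h0 hdim hpb
  let π := CurveRR24.projBC k K 1
  have hP := Coherent.isPullback_projSpace 1 k K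
  let φ' : C' ⟶ CohB1.ProjSpace 1 K := hP.lift (g ≫ φ) (C' ↘ Spec (CommRingCat.of K))
    ((Category.assoc _ _ _).trans ((congrArg (g ≫ ·) hφ).trans hpb.w))
  have hφ1 : φ' ≫ π = g ≫ φ := hP.lift_fst _ _ _
  have hφ2 : φ' ≫ CohB1.ProjSpace.toSpec 1 K = C' ↘ Spec (CommRingCat.of K) := hP.lift_snd _ _ _
  have hsq : IsPullback g φ' φ π := by
    refine IsPullback.of_bot ?_ hφ1.symm hP
    erw [hφ2, hφ]
    exact hpb
  haveI : IsFinite φ' := MorphismProperty.of_isPullback (P := @IsFinite) hsq hfin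
  haveI : Flat φ' := MorphismProperty.of_isPullback (P := @Flat) hsq hflat
  obtain ⟨hM, hd2, h2⟩ := Clifford24.pbO_spec K hdim' φ' hφ2 fun y =>
    (Scheme.Hom.finrank_of_isPullback g φ' φ π hsq y).trans (hrk _)
  exact LefPen24.false_of_g12 h0 hdim hg ι rfl (LefPen24.one_le_finrank_h1_twist f hf hd (inst := instC) rfl)
    hpb hM hd2 h2

end Groth.Agent.S14339
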