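import Groth.Statements.S1434
import Groth.Agent.FSchLib.Systems

set_option autoImplicit false
universe u
open FlatMor

namespace Groth.Agent.S1434

open AlgebraicGeometry CategoryTheory Limits in
/-- Part (1), for a closed subscheme: let Z ⊂ X be the closed subscheme cut out by an ideal sheaf I and
Z' the one cut out by I², its first order infinitesimal neighbourhood. Given a first order
thickening T → T', a morphism a : T → Z and a morphism b : T' → X compatible with them, there is a
unique morphism T' → Z' through which b factors (compatibility with a is then automatic). -/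
theorem result {X T T' : Scheme.{u}} (I : X.IdealSheafData) (t : T ⟶ T') (ht : MoreMor.IsFirstOrderThickening t)
    (a : T ⟶ I.subscheme) (b : T' ⟶ X) (w : a ≫ I.subschemeι = t ≫ b) :
    ∃! a' : T' ⟶ (I ^ 2).subscheme, a' ≫ (I ^ 2).subschemeι = b := by
  have h1 : I.comap b ≤ t.ker := by
    rw [← Scheme.IdealSheafData.map_bot t, Scheme.IdealSheafData.le_map_iff_comap_le,
      ← Scheme.IdealSheafData.comap_comp, ← w, ← Scheme.IdealSheafData.le_map_iff_comap_le,
      Scheme.IdealSheafData.map_bot]
    exact (Scheme.IdealSheafData.ker_subschemeι I).symm.le.trans (Scheme.Hom.le_ker_comp _ _)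
  have h2 : (I ^ 2).comap b = ⊥ := by
    refine le_bot_iff.1 ?_
    rw [FSchLib.comap_pow, pow_two, ← ht.2]
    intro U
    simp only [Scheme.IdealSheafData.ideal_mul, Pi.mul_apply]
    exact Ideal.mul_mono (h1 U) (h1 U)
  have h3 : (I ^ 2).subschemeι.ker ≤ b.ker := by
    rw [Scheme.IdealSheafData.ker_subschemeι, ← Scheme.IdealSheafData.map_bot b,
      Scheme.IdealSheafData.le_map_iff_comap_le, h2]
  refine ⟨IsClosedImmersion.lift _ b h3, IsClosedImmersion.lift_fac _ _ h3, fun y hy => ?_⟩
  rw [← cancel_mono (I ^ 2).subschemeι, IsClosedImmersion.lift_fac, hy]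

end Groth.Agent.S1434
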