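import Groth.Statements.S14341
import Groth.Agent.Clifford24.DegOnePoint
import Groth.Agent.Clifford24.Sub
import Groth.Agent.CurveRR24.GenusZero
import Groth.Agent.AbVarLib.GeomIntegralSmooth

set_option autoImplicit false
universe u
open CategoryTheory CategoryTheory.Limits AlgebraicGeometry
open Curves

namespace Groth.Agent.S14341

/-- Let k be a field and X a smooth proper geometrically connected curve over k (of dimension one) of
genus dim_k H^1(X, O_X) = 1, with a k-rational point O (a closed point with residue field k); for a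
k-rational point P write I_P for the ideal sheaf of the reduced point P, an invertible ideal with
inverse O_X(P). Then for every invertible O_X-module L of degree 0 there is exactly one k-rational
point P with L ⊗ I_P ≅ I_O, that is L ≅ O_X(P − O): the map P ↦ O_X(P − O) is a bijection from X(k)
onto the isomorphism classes of invertible modules of degree zero. -/
theorem result (k : Type u) [Field k] (X : Scheme.{u}) [X.Over (Spec (CommRingCat.of k))] [IsProper (X ↘ Spec (CommRingCat.of k))] [Smooth (X ↘ Spec (CommRingCat.of k))] [GeometricallyConnected (X ↘ Spec (CommRingCat.of k))] (hX : topologicalKrullDim X = 1) (hg : Curv2.genus k X = 1) (O : X) (hOc : IsClosed ({O} : Set X)) (hO : Function.Bijective (Curv2.resMap k X O)) (L : X.Modules) (hL : PicF.IsInvertible L) (hdeg : Curv2.deg k X L 1 = 0) : ∃! P : {x : X // IsClosed ({x} : Set X) ∧ Function.Bijective (Curv2.resMap k X x)}, Nonempty (CohB1.tensorMod L (ClSub.idealMod (Scheme.IdealSheafData.vanishingIdeal ⟨{P.1},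 P.2.1⟩)) ≅ ClSub.idealMod (Scheme.IdealSheafData.vanishingIdeal ⟨{O}, hOc⟩)) := by
  classical
  haveI : GeometricallyIntegral (X ↘ Spec (CommRingCat.of k)) := AbVarLib.geometricallyIntegral_of_smooth _
  haveI : IsIntegral X := GeometricallyIntegral.isIntegral_of_subsingleton (X ↘ (Spec (CommRingCat.of k)))
  haveI := EulerLib.isNoetherian_of_proper k (X := X)
  have hn := fun (P : X) (_ : IsClosed ({P} : Set X)) => Clifford24.isIntegrallyClosed_stalk_of_smooth k P
  have hI : ∀ {P : X} (hP : IsClosed ({P} : Set X)), PicF.IsInvertible (ClSub.idealMod (CurveRR24.ptIdeal P hP)) :=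
    fun {P} hP => CurveRR24.isInvertible_ptIdeal_of_normal k hX hP (hn P hP)
  have hres : ∀ {P : X}, Function.Bijective (Curv2.resMap k X P) →
      (letI := Curv2.resAlgebra k X P; Module.finrank k (X.residueField P) = 1) := fun {P} hb => by
    let _ := Curv2.resAlgebra k X P
    exact (LinearEquiv.ofBijective (Algebra.linearMap k (X.residueField P)) hb).finrank_eq.symm.trans
      (Module.finrank_self k)
  have hone : ∀ {J : X.Modules}, PicF.IsInvertible J → Curv2.deg k X J 1 = 1 →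
      Module.finrank k (Coh.HH X J 0) = 1 := fun {J} hJ hdJ => by
    have h := Clifford24.h0_eq_of_deg k hX hJ (by rw [hg, hdJ]; norm_num)
    rw [hdJ, hg] at h
    omega
  obtain ⟨J, hJ, ⟨eJ⟩⟩ := CurveRR24.exists_inverse k (hI hOc)
  have hdJ : Curv2.deg k X J 1 = 1 := by
    rw [CurveRR24.deg_inverse k hX.le (hI hOc) hJ eJ, CurveRR24.deg_ptIdeal k hOc, hres hO]; norm_num
  let N := CohB1.tensorMod L J
  have hN : PicF.IsInvertible N := AmpleLib.isInvertible_tensorMod hL hJ
  have hdN : Curv2.deg k X N 1 = 1 := by rw [CurveRR24.deg_tensor k hX.le hL hJ, hdeg, hdJ]; norm_num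
  obtain ⟨P, hP, hPb, ⟨eP⟩⟩ := Clifford24.exists_ratPoint_of_deg_one k hX hn hN hdN (hone hN hdN)
  obtain ⟨a₁⟩ := EulerLib.exists_assocIso' L hJ (hI hP)
  obtain ⟨a₂⟩ := EulerLib.exists_assocIso' L (hI hP) hJ
  obtain ⟨a₃⟩ := EulerLib.exists_assocIso' (CohB1.tensorMod L (ClSub.idealMod (CurveRR24.ptIdeal P hP))) hJ (hI hOc)
  let eLP : CohB1.tensorMod L (ClSub.idealMod (CurveRR24.ptIdeal P hP)) ≅
      ClSub.idealMod (CurveRR24.ptIdeal O hOc) :=
    (AmpleLib.unitTensorIso _).symm ≪≫ AmpleLib.tensorIso (eJ.symm ≪≫ AmpleLib.tensorComm _ _) (Iso.refl _) ≪≫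
      AmpleLib.tensorComm _ _ ≪≫ a₃.symm ≪≫
      AmpleLib.tensorIso (a₂ ≪≫ AmpleLib.tensorIso (Iso.refl L) (AmpleLib.tensorComm _ _) ≪≫ a₁.symm ≪≫ eP)
        (Iso.refl _) ≪≫ AmpleLib.unitTensorIso _
  refine ⟨⟨P, hP, hPb⟩, ⟨eLP⟩, ?_⟩
  rintro ⟨Q, hQ, hQb⟩ ⟨eQ⟩
  obtain ⟨φ⟩ := Clifford24.nonempty_iso_of_tensor_iso k hL (hI hP) (hI hQ) (eLP ≪≫ eQ.symm)
  obtain ⟨JP, hJP, ⟨eJP⟩⟩ := CurveRR24.exists_inverse k (hI hP)
  refine Subtype.ext (Clifford24.eq_of_ptIdeal_iso k hP hQ ⟨JP, hJP, ⟨eJP⟩, ?_⟩ φ).symm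
  rw [hone hJP (by rw [CurveRR24.deg_inverse k hX.le (hI hP) hJP eJP, CurveRR24.deg_ptIdeal k hP, hres hPb]; norm_num),
    CurveRR24.h0_structure_of_geomIntegral k]

end Groth.Agent.S14341
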