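import Groth.Statements.S14345
import Groth.Agent.FittLib.Local
import Mathlib.RingTheory.Spectrum.Prime.FreeLocus
import Mathlib.RingTheory.LocalProperties.Basic

set_option autoImplicit false
universe u v
open TensorProduct
open QuotLF

namespace Groth.Agent.S14345

theorem ideal_eq_bot_of_projective {A Q : Type*} [CommRing A] [AddCommGroup Q] [Module A Q] [Module.Finite A Q]
    [Module.Projective A Q] {k j : ℕ} (hj : j < k) (h : ∀ p : PrimeSpectrum A, Module.rankAtStalk (R := A) Q p = k) :
    Fitt.ideal A Q j = ⊥ := by
  refine (Submodule.eq_bot_iff _).2 fun d hd => eq_zero_of_localization d fun J _ => ?_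
  haveI : Module.Free (Localization.AtPrime J) (LocalizedModule J.primeCompl Q) := Module.free_of_flat_of_isLocalRing
  haveI : Module.Finite (Localization.AtPrime J) (LocalizedModule J.primeCompl Q) :=
    Module.Finite.of_isLocalizedModule J.primeCompl (LocalizedModule.mkLinearMap J.primeCompl Q)
  have h0 : Fitt.ideal (Localization.AtPrime J) (LocalizedModule J.primeCompl Q) j = ⊥ :=
    FittLib.ideal_eq_bot_of_basis (Module.finBasisOfFinrankEq _ _ (h ⟨J, inferInstance⟩)) hj
  rw [FittLib.ideal_localizedModule, Ideal.map_eq_bot_iff_le_ker] at h0
  exact h0 hd

/-- Let R be a commutative ring, M a finitely generated R-module and k ≥ 0. If for an R-algebra A the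
module A ⊗_R M admits a quotient that is finite projective of constant rank k (an A-valued point of
the Quot scheme of rank-k locally free quotients of M), then every Fitting ideal Fit_j(M) with j < k
extends to the zero ideal of A; that is, the structure map of the Quot scheme of rank-k locally free
quotients factors through the closed subscheme cut out by Fit_{k-1}(M). -/
theorem result (R : Type u) [CommRing R]
    (M : Type v) [AddCommGroup M] [Module R M] [Module.Finite R M] (k : ℕ)
    (A : Type u) [CommRing A] [Algebra R A] (N : Module.Grassmannian A (A ⊗[R] M) k)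
    (j : ℕ) (hj : j < k) :
    (Fitt.ideal R M j).map (algebraMap R A) = ⊥ := by
  haveI := N.finite_quotient
  haveI := N.projective_quotient
  rw [← FittLib.ideal_baseChange]
  refine le_bot_iff.1 ((FittLib.ideal_le_of_surjective N.toSubmodule.mkQ (Submodule.mkQ_surjective _) j).trans ?_)
  exact (ideal_eq_bot_of_projective hj N.rankAtStalk_eq).le

end Groth.Agent.S14345
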