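import Groth.Statements.S14346
import Mathlib.RingTheory.LocalRing.Module
import Mathlib.RingTheory.Spectrum.Prime.FreeLocus

set_option autoImplicit false
universe u v
open TensorProduct
open QuotLF

namespace Groth.Agent.S14346

/-- Let R be a commutative ring, M an R-module, k ≥ 0, and A an R-algebra for which A ⊗_R M is finite
projective of constant rank k, i.e. Spec A → Spec R factors through the locally closed stratum where
M is locally free of rank k. Then A ⊗_R M has exactly one rank-k locally free quotient: the zero
submodule has finite projective quotient of constant rank k, and every submodule with such a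
quotient is zero. In other words the Quot scheme of rank-k locally free quotients of M restricted to
that stratum maps isomorphically onto it. -/
theorem result (R : Type u) [CommRing R]
    (M : Type v) [AddCommGroup M] [Module R M] (k : ℕ)
    (A : Type u) [CommRing A] [Algebra R A] [Module.Finite A (A ⊗[R] M)] [Module.Projective A (A ⊗[R] M)]
    (hk : ∀ p : PrimeSpectrum A, Module.rankAtStalk (R := A) (A ⊗[R] M) p = k) :
    (∃ N : Module.Grassmannian A (A ⊗[R] M) k, N.toSubmodule = ⊥) ∧
      ∀ N : Module.Grassmannian A (A ⊗[R] M) k, N.toSubmodule = ⊥ := by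
  constructor
  · have e := Submodule.quotEquivOfEqBot (⊥ : Submodule A (A ⊗[R] M)) rfl
    refine ⟨⟨⊥, Module.Finite.equiv e.symm, Module.Projective.of_equiv e.symm, fun p => ?_⟩, rfl⟩
    rw [Module.rankAtStalk_eq_of_equiv e]
    exact hk p
  · intro N
    have := N.finite_quotient
    have := N.projective_quotient
    obtain ⟨s, hs⟩ := Module.projective_lifting_property N.toSubmodule.mkQ LinearMap.id N.toSubmodule.mkQ_surjective
    have hc : IsCompl N.toSubmodule (LinearMap.range s) := by
      have hs' : ∀ y, N.toSubmodule.mkQ (s y) = y := fun y => LinearMap.congr_fun hs y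
      constructor
      · rw [Submodule.disjoint_def]
        rintro _ hx ⟨y, rfl⟩
        have := hs' y
        rw [(Submodule.Quotient.mk_eq_zero _).2 hx |> (fun h => (show N.toSubmodule.mkQ (s y) = 0 from h))] at this
        rw [← this, map_zero]
      · rw [codisjoint_iff, eq_top_iff]
        intro x _
        exact Submodule.mem_sup.2 ⟨x - s (N.toSubmodule.mkQ x), (Submodule.Quotient.eq _).1 (by
          show N.toSubmodule.mkQ x = N.toSubmodule.mkQ (s (N.toSubmodule.mkQ x))
          rw [hs']), _, ⟨_, rfl⟩, sub_add_cancel _ _⟩
    let q := LinearMap.range s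
    have e : (↥N.toSubmodule × ↥q) ≃ₗ[A] A ⊗[R] M := N.toSubmodule.prodEquivOfIsCompl q hc
    have eq' : (A ⊗[R] M ⧸ N.toSubmodule) ≃ₗ[A] ↥q := N.toSubmodule.quotientEquivOfIsCompl q hc
    have hfin : Module.Finite A ↥N.toSubmodule :=
      Module.Finite.of_surjective (LinearMap.fst A ↥N.toSubmodule ↥q ∘ₗ e.symm.toLinearMap) (Prod.fst_surjective.comp e.symm.surjective)
    have hproj : Module.Projective A ↥N.toSubmodule :=
      Module.Projective.of_split (e.toLinearMap ∘ₗ LinearMap.inl A ↥N.toSubmodule ↥q) (LinearMap.fst A _ ↥q ∘ₗ e.symm.toLinearMap) (LinearMap.ext fun x => by simp)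
    have : Module.Finite A ↥q := Module.Finite.equiv eq'
    have : Module.Projective A ↥q := Module.Projective.of_equiv eq'
    have h0 : Module.rankAtStalk (R := A) ↥N.toSubmodule = 0 := by
      funext p
      have h1 := hk p
      have hq : Module.rankAtStalk (R := A) (↥q) = Module.rankAtStalk (R := A) (A ⊗[R] M ⧸ N.toSubmodule) :=
        Module.rankAtStalk_eq_of_equiv eq'.symm
      rw [← Module.rankAtStalk_eq_of_equiv (M := ↥N.toSubmodule × ↥q) e, Module.rankAtStalk_prod, Pi.add_apply,
        hq, N.rankAtStalk_eq] at h1
      simpa using h1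
    rw [Submodule.eq_bot_iff]
    have := Module.rankAtStalk_eq_zero_iff_subsingleton (R := A) (M := ↥N.toSubmodule) |>.1 h0
    intro x hx
    exact congrArg Subtype.val (Subsingleton.elim (⟨x, hx⟩ : ↥N.toSubmodule) 0)

end Groth.Agent.S14346
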