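import Groth.Statements.S14347
import Groth.Agent.FittLib.Basic
import Mathlib.LinearAlgebra.Dual.Basis
import Mathlib.LinearAlgebra.InvariantBasisNumber

set_option autoImplicit false
universe u
open QuotLF

namespace Groth.Agent.S14347

open Groth.Agent.FittLib in
theorem minorsOf_range_swap_le {R ι κ : Type*} [CommRing R] (v : κ → ι → R) (q : ℕ) :
    minorsOf (Set.range v) q ≤ minorsOf (Set.range fun a b => v b a) q := by
  refine Ideal.span_le.2 ?_
  rintro _ ⟨z, e, hz, rfl⟩
  choose g hg using hz
  refine Ideal.subset_span ⟨fun a b => v b (e a), g, fun a => ⟨e a, rfl⟩, ?_⟩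
  rw [← Matrix.det_transpose]
  congr 1
  ext a b
  simp [← hg]

open Groth.Agent.FittLib in
theorem ideal_quot_eq {R M : Type*} [CommRing R] [AddCommGroup M] [Module R M] {ι κ : Type*} [Fintype ι]
    (b : Module.Basis ι R M) (v : κ → M) (k : ℕ) :
    Fitt.ideal R (M ⧸ Submodule.span R (Set.range v)) k =
      minorsOf (Set.range fun c => b.equivFun (v c)) (Fintype.card ι - k) := by
  have hx : Submodule.span R (Set.range ((Submodule.span R (Set.range v)).mkQ ∘ b)) = ⊤ :=
    span_range_comp_eq_top _ (Submodule.mkQ_surjective _) b b.span_eq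
  rw [ideal_eq' _ hx]
  have hr : rels R ((Submodule.span R (Set.range v)).mkQ ∘ b) =
      Submodule.span R (Set.range fun c => b.equivFun (v c)) := by
    have : (Set.range fun c => b.equivFun (v c)) = (b.equivFun : M →ₗ[R] ι → R) '' Set.range v := by
      rw [← Set.range_comp]; rfl
    rw [this, Submodule.span_image, Submodule.map_equiv_eq_comap_symm]
    ext c
    rw [mem_rels, Submodule.mem_comap]
    simp only [Function.comp_apply, ← map_smul, ← map_sum, Submodule.mkQ_apply, Submodule.Quotient.mk_eq_zero,
      LinearEquiv.coe_coe, Module.Basis.equivFun_symm_apply]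
    simp only [← Submodule.mkQ_apply, ← map_smul, ← map_sum]
    exact Submodule.Quotient.mk_eq_zero _
  rw [hr, minorsOf_span]

/-- Let R be a commutative ring and σ : R^m → R^n an injective linear map with cokernel M, so that M has
a length-one resolution by finite free modules and rank δ = n − m; let K be the cokernel of the dual
map (R^n)^∨ → (R^m)^∨, which is the module Ext¹_R(M, R). Then the Fitting ideals satisfy Fit_{δ +
j}(M) = Fit_j(K) for all j ≥ 0, and Fit_i(M) = 0 for i < δ (the degeneracy loci of M and of K agree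
after the shift by δ). -/
theorem result (R : Type u) [CommRing R] (m n : ℕ)
    (σ : (Fin m → R) →ₗ[R] (Fin n → R)) (hσ : Function.Injective σ) :
    (∀ j : ℕ, Fitt.ideal R ((Fin n → R) ⧸ LinearMap.range σ) (n - m + j) =
        Fitt.ideal R (Module.Dual R (Fin m → R) ⧸ LinearMap.range σ.dualMap) j) ∧
      ∀ i : ℕ, i < n - m → Fitt.ideal R ((Fin n → R) ⧸ LinearMap.range σ) i = ⊥ := by
  classical
  rcases subsingleton_or_nontrivial R with hR | hR
  · exact ⟨fun j => Subsingleton.elim _ _, fun i _ => Subsingleton.elim _ _⟩
  have hmn : m ≤ n := le_of_fin_injective R σ hσ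
  let w : Fin m → Fin n → R := fun c => σ (Pi.single c 1)
  have h1 : LinearMap.range σ = Submodule.span R (Set.range w) := by
    rw [show (Set.range w) = σ '' Set.range (Pi.basisFun R (Fin m)) by
      rw [← Set.range_comp]; congr 1; ext c : 1; simp [w], Submodule.span_image, (Pi.basisFun R (Fin m)).span_eq,
      Submodule.map_top]
  let dn := (Pi.basisFun R (Fin n)).dualBasis
  have h2 : LinearMap.range σ.dualMap = Submodule.span R (Set.range fun a => σ.dualMap (dn a)) := by
    rw [show (Set.range fun a => σ.dualMap (dn a)) = σ.dualMap '' Set.range dn by rw [← Set.range_comp]; rfl,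
      Submodule.span_image, dn.span_eq, Submodule.map_top]
  have h3 : (fun a => (Pi.basisFun R (Fin m)).dualBasis.equivFun (σ.dualMap (dn a))) = fun a c => w c a := by
    ext a c
    simp [dn, w, Module.Basis.dualBasis_equivFun]
  have h4 : (fun c => (Pi.basisFun R (Fin n)).equivFun (w c)) = w := by
    ext c a; simp
  refine ⟨fun j => ?_, fun i hi => ?_⟩
  · rw [h1, h2, ideal_quot_eq (Pi.basisFun R (Fin n)), ideal_quot_eq (Pi.basisFun R (Fin m)).dualBasis, h3, h4,
      Fintype.card_fin, Fintype.card_fin, show n - (n - m + j) = m - j by omega]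
    exact le_antisymm (minorsOf_range_swap_le w _) (minorsOf_range_swap_le (fun a c => w c a) _)
  · rw [h1, ideal_quot_eq (Pi.basisFun R (Fin n)), h4, eq_bot_iff]
    exact (minorsOf_range_swap_le w _).trans (FittLib.minorsOf_eq_bot_of_card_lt _ (by simp; omega)).le

end Groth.Agent.S14347
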