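import Groth.Statements.S14351
import Mathlib.RingTheory.Derivation.Basic
import Mathlib.RingTheory.Flat.Equalizer
import Mathlib.RingTheory.Henselian
import Mathlib.RingTheory.Regular.RegularSequence
import Mathlib.RingTheory.RegularLocalRing.Defs
import Mathlib.RingTheory.SimpleRing.Principal
import Mathlib.RingTheory.Flat.FaithfullyFlat.Algebra
import Mathlib.RingTheory.Ideal.AssociatedPrime.Basic
import Mathlib.RingTheory.HopkinsLevitzki
import Mathlib.RingTheory.Support
import Mathlib.Tactic
import Groth.Agent.CommAlg4.Basic

set_option linter.all false

set_option autoImplicit false
universe u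
open CAlg

open Groth.Agent.CommAlg4

namespace Groth.Agent.S14351

/-- For ring maps A → B → C with C faithfully flat over B and C faithfully flat over A, the ring B is
faithfully flat over A. -/
theorem result (A B C : Type u) [CommRing A] [CommRing B]
    [CommRing C] [Algebra A B] [Algebra B C] [Algebra A C] [IsScalarTower A B C]
    [Module.FaithfullyFlat B C] [Module.FaithfullyFlat A C] : Module.FaithfullyFlat A B := by
  haveI : Module.Flat A B := by
    rw [Module.Flat.iff_lTensor_preserves_injective_linearMap]
    intro N P _ _ _ _ f hf
    suffices Function.Injective (f.baseChange B) by rwa [LinearMap.baseChange_eq_ltensor] at this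
    rw [← Module.FaithfullyFlat.lTensor_injective_iff_injective B C]
    have hC : Function.Injective (f.lTensor C) := Module.Flat.lTensor_preserves_injective_linearMap f hf
    let eN := TensorProduct.AlgebraTensorModule.cancelBaseChange A B C C N
    let eP := TensorProduct.AlgebraTensorModule.cancelBaseChange A B C C P
    have : (f.lTensor C) ∘ eN = eP ∘ ((f.baseChange B).lTensor C) := by
      funext x
      induction x using TensorProduct.induction_on with
      | zero => simp
      | tmul c y =>
        induction y using TensorProduct.induction_on with
        | zero => simp
        | tmul b n => simp [eN, eP]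
        | add y z hy hz => simp only [TensorProduct.tmul_add, Function.comp_apply, map_add] at hy hz ⊢; rw [hy, hz]
      | add y z hy hz => simp only [Function.comp_apply, map_add] at hy hz ⊢; rw [hy, hz]
    have h2 := hC.comp eN.injective
    rw [this] at h2
    exact h2.of_comp
  refine ⟨fun m hm htop => ?_⟩
  apply (inferInstance : Module.FaithfullyFlat A C).submodule_ne_top hm
  rw [Ideal.smul_top_eq_map] at htop ⊢
  rw [Submodule.restrictScalars_eq_top_iff] at htop ⊢
  rw [IsScalarTower.algebraMap_eq A B C, ← Ideal.map_map, htop, Ideal.map_top]

end Groth.Agent.S14351
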