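import Groth.Statements.S14352
import Mathlib
import Groth.Agent.FlatMor12.FibreFlat
-- import your own Groth.Agent.* helpers here

set_option autoImplicit false
universe u
open Mor

namespace Groth.Agent.S14352

open CategoryTheory CategoryTheory.Limits AlgebraicGeometry

theorem alg_of_discrete (K A : Type u) [Field K] [IsAlgClosed K] [CommRing A] [Algebra K A]
    [Algebra.FiniteType K A] [_root_.IsReduced A] [DiscreteTopology (PrimeSpectrum A)] : Algebra.FormallyUnramified K A := by
  haveI : IsNoetherianRing A := Algebra.FiniteType.isNoetherianRing K A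
  haveI : Ring.KrullDimLE 0 A := (PrimeSpectrum.discreteTopology_iff_finite_and_krullDimLE_zero.1 ‹_›).2
  haveI : IsArtinianRing A := isArtinianRing_iff_krullDimLE_zero.2 inferInstance
  haveI hI : ∀ I : MaximalSpectrum A, Algebra.FormallyUnramified K (A ⧸ I.asIdeal) := fun I => by
    letI := Ideal.Quotient.field I.asIdeal
    haveI : Algebra.FiniteType K (A ⧸ I.asIdeal) := inferInstance
    haveI : Module.Finite K (A ⧸ I.asIdeal) := finite_of_finite_type_of_isJacobsonRing K _
    exact Algebra.FormallyUnramified.of_isSeparable K _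
  exact Algebra.FormallyUnramified.of_equiv ((IsArtinianRing.equivPi A).symm.restrictScalars K)

theorem scheme_of_discrete {K : Type u} [Field K] [IsAlgClosed K] {Z : Scheme.{u}} (g : Z ⟶ Spec (CommRingCat.of K))
    [LocallyOfFiniteType g] [IsReduced Z] [DiscreteTopology Z] : FormallyUnramified g := by
  rw [HasRingHomProperty.iff_appLE (P := @FormallyUnramified.{u})]
  intro U V e
  have hfin := HasRingHomProperty.appLE (P := @LocallyOfFiniteType.{u}) g inferInstance U V e
  letI : Algebra Γ(Spec (CommRingCat.of K), U.1) Γ(Z, V.1) := (g.appLE U.1 V.1 e).hom.toAlgebra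
  show (algebraMap Γ(Spec (CommRingCat.of K), U.1) Γ(Z, V.1)).FormallyUnramified
  rw [RingHom.formallyUnramified_algebraMap]
  by_cases hV : V.1 = ⊥
  · haveI : Subsingleton Γ(Z, V.1) := by rw [hV]; infer_instance
    exact ⟨KaehlerDifferential.subsingleton_of_surjective _ _ (fun x => ⟨0, Subsingleton.elim _ _⟩)⟩
  have hU : U.1 = ⊤ := by
    obtain ⟨z, hz⟩ : ∃ z, z ∈ V.1 := by
      by_contra h
      exact hV (eq_bot_iff.2 fun z hz => (h ⟨z, hz⟩).elim)
    refine eq_top_iff.2 fun x _ => ?_
    rw [Subsingleton.elim x (g z)]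
    exact e hz
  obtain ⟨U, hUa⟩ := U
  subst hU
  let ε : K ≃+* Γ(Spec (CommRingCat.of K), ⊤) := (Scheme.ΓSpecIso (CommRingCat.of K)).symm.commRingCatIsoToRingEquiv
  letI : Field Γ(Spec (CommRingCat.of K), ⊤) := (MulEquiv.isField (Field.toIsField K) ε.symm.toMulEquiv).toField
  haveI : IsAlgClosed Γ(Spec (CommRingCat.of K), ⊤) := IsAlgClosed.of_ringEquiv K _ ε
  haveI : Algebra.FiniteType Γ(Spec (CommRingCat.of K), ⊤) Γ(Z, V.1) := hfin
  haveI : _root_.IsReduced Γ(Z, V.1) := IsReduced.component_reduced V.1
  haveI : DiscreteTopology (PrimeSpectrum Γ(Z, V.1)) :=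
    V.2.isoSpec.inv.homeomorph.isEmbedding.discreteTopology
  exact alg_of_discrete _ _

theorem discrete_of_unramified {K : Type u} [Field K] {Z : Scheme.{u}} (g : Z ⟶ Spec (CommRingCat.of K))
    [LocallyOfFiniteType g] [FormallyUnramified g] : IsReduced Z ∧ DiscreteTopology Z := by
  have key : ∀ V : Z.affineOpens, _root_.IsReduced Γ(Z, V.1) ∧ DiscreteTopology (V.1 : Scheme.{u}) := by
    intro V
    have e : V.1 ≤ g ⁻¹ᵁ ⊤ := le_top
    have hfin := HasRingHomProperty.appLE (P := @LocallyOfFiniteType.{u}) g inferInstance ⟨⊤, isAffineOpen_top _⟩ V e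
    have hunr := HasRingHomProperty.appLE (P := @FormallyUnramified.{u}) g inferInstance ⟨⊤, isAffineOpen_top _⟩ V e
    letI : Algebra Γ(Spec (CommRingCat.of K), ⊤) Γ(Z, V.1) := (g.appLE ⊤ V.1 e).hom.toAlgebra
    let ε : K ≃+* Γ(Spec (CommRingCat.of K), ⊤) := (Scheme.ΓSpecIso (CommRingCat.of K)).symm.commRingCatIsoToRingEquiv
    letI : Field Γ(Spec (CommRingCat.of K), ⊤) := (MulEquiv.isField (Field.toIsField K) ε.symm.toMulEquiv).toField
    haveI : Algebra.FiniteType Γ(Spec (CommRingCat.of K), ⊤) Γ(Z, V.1) := hfin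
    haveI : Algebra.FormallyUnramified Γ(Spec (CommRingCat.of K), ⊤) Γ(Z, V.1) :=
      RingHom.formallyUnramified_algebraMap.1 hunr
    haveI : Module.Finite Γ(Spec (CommRingCat.of K), ⊤) Γ(Z, V.1) :=
      Algebra.FormallyUnramified.finite_of_free _ _
    haveI : IsArtinianRing Γ(Z, V.1) := IsArtinianRing.of_finite Γ(Spec (CommRingCat.of K), ⊤) _
    exact ⟨Algebra.FormallyUnramified.isReduced_of_field Γ(Spec (CommRingCat.of K), ⊤) _,
      V.2.isoSpec.hom.homeomorph.isEmbedding.discreteTopology⟩
  have hd : ∀ z : Z, IsOpen ({z} : Set Z) := by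
    intro z
    obtain ⟨V, hV, hz, -⟩ := exists_isAffineOpen_mem_and_subset (x := z) (U := ⊤) trivial
    haveI := (key ⟨V, hV⟩).2
    have := V.ι.isOpenEmbedding.isOpenMap _ (isOpen_discrete ({⟨z, hz⟩} : Set (V : Scheme.{u})))
    convert this using 1
    exact (Set.image_singleton (f := fun x => V.ι x) (a := ⟨z, hz⟩)).symm
  refine ⟨?_, discreteTopology_iff_isOpen_singleton.2 hd⟩
  haveI : ∀ i, IsReduced (Z.affineCover.X i) := fun i => by
    haveI : IsAffine (Z.affineCover.X i) := inferInstance
    have hV : IsAffineOpen (Z.affineCover.f i).opensRange := isAffineOpen_opensRange _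
    haveI : _root_.IsReduced Γ(Z, (Z.affineCover.f i).opensRange) := (key ⟨_, hV⟩).1
    haveI : IsReduced (Spec Γ(Z, (Z.affineCover.f i).opensRange)) := inferInstance
    exact isReduced_of_isOpenImmersion ((Scheme.Hom.isoOpensRange (Z.affineCover.f i)).hom ≫ hV.isoSpec.hom)
  exact IsReduced.of_openCover _ Z.affineCover


open CategoryTheory CategoryTheory.Limits AlgebraicGeometry in
/-- A morphism of schemes f : X → S which is locally of finite presentation is unramified (formally
unramified) if and only if all its geometric fibres are reduced with discrete underlying space: for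
every algebraically closed field K and every S-point Spec K → S, the fibre product X ×_S Spec K is a
reduced scheme whose topological space is discrete. -/
theorem result {X S : Scheme.{u}} (f : X ⟶ S)
    [LocallyOfFinitePresentation f] :
    FormallyUnramified f ↔
      ∀ (K : Type u) [Field K] [IsAlgClosed K] (s : Spec (CommRingCat.of K) ⟶ S),
        IsReduced (pullback f s) ∧ DiscreteTopology ↥(pullback f s) := by
  constructor
  · intro _ K _ _ s
    haveI : FormallyUnramified (pullback.snd f s) := MorphismProperty.of_isPullback (P := @FormallyUnramified.{u}) (IsPullback.of_hasPullback f s) inferInstance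
    haveI : LocallyOfFiniteType (pullback.snd f s) := inferInstance
    exact discrete_of_unramified (pullback.snd f s)
  · intro h
    refine Groth.Agent.FlatMor12.formallyUnramified_of_fibres f fun y => ?_
    let k := S.residueField y
    let K := AlgebraicClosure k
    let q : Spec (CommRingCat.of K) ⟶ Spec k := Spec.map (CommRingCat.ofHom (algebraMap k K))
    obtain ⟨hred, hdisc⟩ := h K (q ≫ S.fromSpecResidueField y)
    let e : pullback (f.fiberToSpecResidueField y) q ≅ pullback f (q ≫ S.fromSpecResidueField y) :=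
      pullbackLeftPullbackSndIso f (S.fromSpecResidueField y) q
    haveI : LocallyOfFiniteType (f.fiberToSpecResidueField y) := MorphismProperty.of_isPullback (P := @LocallyOfFiniteType.{u}) (IsPullback.of_hasPullback f (S.fromSpecResidueField y)) inferInstance
    haveI : LocallyOfFiniteType (pullback.snd (f.fiberToSpecResidueField y) q) := inferInstance
    haveI : IsReduced (pullback (f.fiberToSpecResidueField y) q) := isReduced_of_isOpenImmersion e.hom
    haveI : DiscreteTopology ↥(pullback (f.fiberToSpecResidueField y) q) :=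
      e.hom.homeomorph.isEmbedding.discreteTopology
    have hq : (@Surjective ⊓ @Flat ⊓ @QuasiCompact : MorphismProperty Scheme.{u}) q := ⟨⟨?_, ?_⟩, ?_⟩
    · exact MorphismProperty.of_pullback_snd_of_descendsAlong (P := @FormallyUnramified.{u})
        (Q := (@Surjective ⊓ @Flat ⊓ @QuasiCompact : MorphismProperty Scheme.{u})) hq (scheme_of_discrete _)
    · exact ⟨fun x => ⟨IsLocalRing.closedPoint K, Subsingleton.elim _ _⟩⟩
    · exact (HasRingHomProperty.Spec_iff (P := @Flat.{u}) (φ := CommRingCat.ofHom (algebraMap k K))).2 (RingHom.flat_algebraMap_iff.2 inferInstance)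
    · exact inferInstance

end Groth.Agent.S14352
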