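import Groth.Statements.S14353
import Mathlib
-- import your own Groth.Agent.* helpers here

set_option autoImplicit false
universe u
open CategoryTheory CategoryTheory.Limits CategoryTheory.MonoidalCategory
open CAlg

namespace Groth.Agent.S14353
open scoped TensorProduct
section
variable {R : Type u} [CommRing R]

lemma tower_section {P : ℕ → Type u} [∀ n, AddCommGroup (P n)] [∀ n, Module R (P n)] [∀ n, IsArtinian R (P n)]
    (g : ∀ n m, n ≤ m → (P m →ₗ[R] P n))
    (htrans : ∀ n m l (h : n ≤ m) (h' : m ≤ l) x, g n m h (g m l h' x) = g n l (h.trans h') x)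
    (K : ∀ n, Submodule R (P n)) (hK : ∀ n m h x, x ∈ K m → g n m h x ∈ K n)
    (x : ∀ n, P n) (hx : ∀ n m h, g n m h (x m) - x n ∈ K n) :
    ∃ s : ∀ n, P n, (∀ n, s n - x n ∈ K n) ∧ ∀ n, g n (n + 1) (Nat.le_succ n) (s (n + 1)) = s n := by
  classical
  have hst : ∀ n, ∃ k, ∀ m, k ≤ m → (K (n + k)).map (g n (n + k) (Nat.le_add_right n k)) =
      (K (n + m)).map (g n (n + m) (Nat.le_add_right n m)) := by
    intro n
    refine IsArtinian.monotone_stabilizes (⟨fun k => (K (n + k)).map (g n (n + k) (Nat.le_add_right n k)), ?_⟩ :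
      ℕ →o (Submodule R (P n))ᵒᵈ)
    intro k m hkm
    show (K (n + m)).map _ ≤ (K (n + k)).map _
    rintro _ ⟨y, hy, rfl⟩
    exact ⟨g (n + k) (n + m) (by omega) y, hK _ _ _ _ hy, htrans _ _ _ _ _ _⟩
  choose k hk using hst
  let St : ∀ n, Submodule R (P n) := fun n => (K (n + k n)).map (g n (n + k n) (Nat.le_add_right n _))
  have hSt : ∀ n m (h : n ≤ m), n + k n ≤ m → St n = (K m).map (g n m h) := by
    intro n m h hm
    obtain ⟨j, rfl⟩ : ∃ j, m = n + j := ⟨m - n, by omega⟩
    exact hk n j (by omega)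
  have hSt' : ∀ n, St n ≤ K n := by
    rintro n _ ⟨y, hy, rfl⟩
    exact hK _ _ _ _ hy
  let z : ∀ n, P n := fun n => g n (n + k n) (Nat.le_add_right n _) (x (n + k n))
  have hz : ∀ n m (h : n ≤ m), n + k n ≤ m → g n m h (x m) - z n ∈ St n := by
    intro n m h hm
    refine ⟨g (n + k n) m hm (x m) - x (n + k n), hx _ _ _, ?_⟩
    rw [map_sub, htrans]
  have hstep : ∀ n, ∀ w, w - z n ∈ St n →
      ∃ w', w' - z (n + 1) ∈ St (n + 1) ∧ g n (n + 1) (Nat.le_succ n) w' = w := by
    intro n w hw
    let m := max (n + k n) (n + 1 + k (n + 1))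
    have h1 : n + k n ≤ m := le_max_left _ _
    have h2 : n + 1 + k (n + 1) ≤ m := le_max_right _ _
    have hmem : w - g n (n + 1) (Nat.le_succ n) (z (n + 1)) ∈ St n := by
      have e : g n (n + 1) (Nat.le_succ n) (g (n + 1) m (by omega) (x m) - z (n + 1)) ∈ St n := by
        obtain ⟨y, hy, hy'⟩ := (hSt (n + 1) m (by omega) h2).le (hz (n + 1) m (by omega) h2)
        rw [← hy', htrans, hSt n m (by omega) h1]
        exact ⟨y, hy, rfl⟩
      rw [map_sub, htrans] at e
      have := (St n).add_mem ((St n).sub_mem hw (hz n m (by omega) h1)) e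
      convert this using 1; abel
    rw [hSt n m (by omega) h1] at hmem
    obtain ⟨y, hy, hy'⟩ := hmem
    refine ⟨z (n + 1) + g (n + 1) m (by omega) y, ?_, ?_⟩
    · rw [add_sub_cancel_left, hSt (n + 1) m (by omega) h2]; exact ⟨y, hy, rfl⟩
    · rw [map_add, htrans n (n + 1) m (Nat.le_succ n) (by omega) y, hy']; abel
  choose nxt hn1 hn2 using hstep
  let s : ∀ n, {w : P n // w - z n ∈ St n} := fun n =>
    Nat.rec (motive := fun n => {w : P n // w - z n ∈ St n}) ⟨z 0, by simp⟩
      (fun n w => ⟨nxt n w.1 w.2, hn1 n w.1 w.2⟩) n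
  refine ⟨fun n => (s n).1, fun n => ?_, fun n => hn2 n (s n).1 (s n).2⟩
  have := (K n).add_mem (hSt' n (s n).2) (hx n (n + k n) (Nat.le_add_right n _))
  convert this using 1
  simp only [z]; abel

variable {L : Type u} [AddCommGroup L] [Module R L] {M : ℕ → Type u} [∀ n, AddCommGroup (M n)] [∀ n, Module R (M n)]

lemma piScalarRight_rTensor {X Y : Type u} [AddCommGroup X] [Module R X] [AddCommGroup Y] [Module R Y] {b : ℕ}
    (f : X →ₗ[R] Y) (t : X ⊗[R] (Fin b → R)) (i : Fin b) :
    TensorProduct.piScalarRight R R Y (Fin b) (f.rTensor _ t) i = f (TensorProduct.piScalarRight R R X (Fin b) t i) := by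
  induction t using TensorProduct.induction_on with
  | zero => simp
  | tmul x v => simp
  | add x y hx hy => rw [map_add, map_add, Pi.add_apply, map_add, Pi.add_apply, map_add, hx, hy]

lemma rT_lT {X Y F G : Type u} [AddCommGroup X] [Module R X] [AddCommGroup Y] [Module R Y] [AddCommGroup F]
    [Module R F] [AddCommGroup G] [Module R G] (f : X →ₗ[R] Y) (p : F →ₗ[R] G) (t : X ⊗[R] F) :
    f.rTensor G (p.lTensor X t) = p.lTensor Y (f.rTensor F t) := by
  induction t using TensorProduct.induction_on with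
  | zero => simp
  | tmul x v => simp
  | add x y hx hy => simp [hx, hy]

lemma compat_all {F : Type u} [AddCommGroup F] [Module R F] (g : ∀ n m, n ≤ m → (M m →ₗ[R] M n))
    (hid : ∀ n x, g n n le_rfl x = x)
    (htrans : ∀ n m l (h : n ≤ m) (h' : m ≤ l) x, g n m h (g m l h' x) = g n l (h.trans h') x)
    (y : ∀ n, M n ⊗[R] F) (hy : ∀ n, (g n (n + 1) (Nat.le_succ n)).rTensor F (y (n + 1)) = y n) :
    ∀ n m (h : n ≤ m), (g n m h).rTensor F (y m) = y n := by
  intro n m h
  induction m, h using Nat.le_induction with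
  | base => rw [show g n n le_rfl = LinearMap.id from LinearMap.ext (hid n), LinearMap.rTensor_id, LinearMap.id_apply]
  | succ m h ih =>
    rw [show g n (m + 1) _ = (g n m h).comp (g m (m + 1) (Nat.le_succ m)) from
      LinearMap.ext fun x => (htrans _ _ _ _ _ _).symm, LinearMap.rTensor_comp_apply, hy, ih]

lemma lim_tensor (hfl : ∀ n, IsArtinian R (M n)) (g : ∀ n m, n ≤ m → (M m →ₗ[R] M n))
    (hid : ∀ n x, g n n le_rfl x = x)
    (htrans : ∀ n m l (h : n ≤ m) (h' : m ≤ l) x, g n m h (g m l h' x) = g n l (h.trans h') x)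
    (pr : ∀ n, L →ₗ[R] M n) (hpr : ∀ n m h x, g n m h (pr m x) = pr n x)
    (hext : ∀ x, (∀ n, pr n x = 0) → x = 0)
    (hlift : ∀ c : ∀ n, M n, (∀ n m h, g n m h (c m) = c n) → ∃ x, ∀ n, pr n x = c n)
    (N : Type u) [AddCommGroup N] [Module R N] [Module.FinitePresentation R N] :
    (∀ w : L ⊗[R] N, (∀ n, (pr n).rTensor N w = 0) → w = 0) ∧
      ∀ y : ∀ n, M n ⊗[R] N, (∀ n m h, (g n m h).rTensor N (y m) = y n) →
        ∃ w, ∀ n, (pr n).rTensor N w = y n := by
  classical
  have hfree : ∀ b : ℕ, (∀ w : L ⊗[R] (Fin b → R), (∀ n, (pr n).rTensor _ w = 0) → w = 0) ∧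
      ∀ y : ∀ n, M n ⊗[R] (Fin b → R), (∀ n m h, (g n m h).rTensor _ (y m) = y n) →
        ∃ w, ∀ n, (pr n).rTensor _ w = y n := by
    intro b
    refine ⟨fun w hw => (LinearEquiv.map_eq_zero_iff (TensorProduct.piScalarRight R R L (Fin b))).1 ?_, fun y hy => ?_⟩
    · funext i
      refine hext _ fun n => ?_
      rw [← piScalarRight_rTensor, hw n, map_zero, Pi.zero_apply]
    · have : ∀ i, ∃ x, ∀ n, pr n x = TensorProduct.piScalarRight R R (M n) (Fin b) (y n) i := fun i =>
        hlift _ fun n m h => by rw [← piScalarRight_rTensor, hy]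
      choose x hx using this
      refine ⟨(TensorProduct.piScalarRight R R L (Fin b)).symm x, fun n =>
        (TensorProduct.piScalarRight R R (M n) (Fin b)).injective ?_⟩
      funext i
      rw [piScalarRight_rTensor, LinearEquiv.apply_symm_apply, hx]
  have hart : ∀ b n, IsArtinian R (M n ⊗[R] (Fin b → R)) := fun b n =>
    haveI := hfl n
    isArtinian_of_linearEquiv (TensorProduct.piScalarRight R R (M n) (Fin b)).symm
  have hcomp : ∀ (F : Type u) [AddCommGroup F] [Module R F] n m l (h : n ≤ m) (h' : m ≤ l) (x : M l ⊗[R] F),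
      (g n m h).rTensor F ((g m l h').rTensor F x) = (g n l (h.trans h')).rTensor F x := by
    intro F _ _ n m l h h' x
    rw [← LinearMap.rTensor_comp_apply,
      show (g n m h).comp (g m l h') = g n l (h.trans h') from LinearMap.ext (htrans _ _ _ _ _)]
  obtain ⟨b, p, hp⟩ := Module.Finite.exists_fin' R N
  have hker : (LinearMap.ker p).FG := Module.FinitePresentation.fg_ker p hp
  haveI : Module.Finite R (LinearMap.ker p) := Module.Finite.iff_fg.2 hker
  obtain ⟨a, q0, hq0⟩ := Module.Finite.exists_fin' R (LinearMap.ker p)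
  let q : (Fin a → R) →ₗ[R] (Fin b → R) := (LinearMap.ker p).subtype.comp q0
  have hex : Function.Exact q p := by
    intro x
    exact ⟨fun hx => ⟨_, congrArg Subtype.val (hq0 ⟨x, hx⟩).choose_spec⟩, by rintro ⟨y, rfl⟩; exact (q0 y).2⟩
  constructor
  · intro w hw
    obtain ⟨z, rfl⟩ := LinearMap.lTensor_surjective L hp w
    have : ∀ n, ∃ x, q.lTensor (M n) x = (pr n).rTensor _ z := fun n =>
      (lTensor_exact (M n) hex hp _).1 (by rw [← rT_lT, hw n])
    choose x hx using this
    haveI := hart a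
    obtain ⟨s, hs, hs'⟩ := tower_section (fun n m h => (g n m h).rTensor (Fin a → R)) (hcomp _)
      (fun n => LinearMap.ker (q.lTensor (M n)))
      (fun n m h x hx => by rw [LinearMap.mem_ker] at hx ⊢; rw [← rT_lT, hx, map_zero]) x
      (fun n m h => by
        rw [LinearMap.mem_ker, map_sub, ← rT_lT, hx, hx, ← LinearMap.rTensor_comp_apply,
          show (g n m h).comp (pr m) = pr n from LinearMap.ext (hpr n m h), sub_self])
    obtain ⟨v, hv⟩ := (hfree a).2 s (compat_all g hid htrans s hs')
    have hz : q.lTensor L v = z := by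
      refine sub_eq_zero.1 ((hfree b).1 _ fun n => ?_)
      have := hs n
      rw [LinearMap.mem_ker, map_sub, sub_eq_zero] at this
      rw [map_sub, rT_lT, hv, this, hx, sub_self]
    rw [← hz]
    exact (lTensor_exact L hex hp).apply_apply_eq_zero v
  · intro y hy
    choose x hx using fun n => LinearMap.lTensor_surjective (M n) hp (y n)
    haveI := hart b
    obtain ⟨s, hs, hs'⟩ := tower_section (fun n m h => (g n m h).rTensor (Fin b → R)) (hcomp _)
      (fun n => LinearMap.ker (p.lTensor (M n)))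
      (fun n m h x hx => by rw [LinearMap.mem_ker] at hx ⊢; rw [← rT_lT, hx, map_zero]) x
      (fun n m h => by rw [LinearMap.mem_ker, map_sub, ← rT_lT, hx, hx, hy, sub_self])
    obtain ⟨v, hv⟩ := (hfree b).2 s (compat_all g hid htrans s hs')
    refine ⟨p.lTensor L v, fun n => ?_⟩
    have := hs n
    rw [LinearMap.mem_ker, map_sub, sub_eq_zero] at this
    rw [rT_lT, hv, this, hx]

end

/-- For a commutative ring R, an inverse system (M_n)_{n ∈ ℕ} of R-modules of finite length and a
finitely presented R-module N, the canonical comparison map (lim_n M_n) ⊗_R N ⟶ lim_n (M_n ⊗_R N) is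
an isomorphism. (The published statement takes N = R/I for a finitely generated ideal I; the
argument covers every finitely presented N, which is the form stated here.) -/
theorem result (R : Type u) [CommRing R]
    (M : ℕᵒᵖ ⥤ ModuleCat.{u} R) (hM : ∀ n : ℕᵒᵖ, IsFiniteLength R (M.obj n))
    (N : Type u) [AddCommGroup N] [Module R N] [Module.FinitePresentation R N] :
    IsIso (limit.post M (tensorRight (ModuleCat.of R N))) := by
  let g : ∀ n m : ℕ, n ≤ m → (M.obj (Opposite.op m) →ₗ[R] M.obj (Opposite.op n)) := fun n m h => (M.map (homOfLE h).op).hom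
  let pr : ∀ n : ℕ, ((limit M : ModuleCat.{u} R) →ₗ[R] M.obj (Opposite.op n)) := fun n => (limit.π M (Opposite.op n)).hom
  have hpr : ∀ n m h x, g n m h (pr m x) = pr n x := fun n m h x =>
    ConcreteCategory.congr_hom (limit.w M (homOfLE h).op) x
  have hhom : ∀ {i j : ℕᵒᵖ} (f : i ⟶ j), M.map f = ModuleCat.ofHom (g j.unop i.unop (leOfHom f.unop)) := by
    intro i j f
    exact congrArg M.map (Subsingleton.elim _ _)
  have hext : ∀ x : (limit M : ModuleCat.{u} R), (∀ n, pr n x = 0) → x = 0 := by
    intro x hx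
    refine Concrete.limit_ext M x 0 fun j => ?_
    rw [map_zero]; exact hx j.unop
  have hlift : ∀ c : ∀ n, M.obj (Opposite.op n), (∀ n m h, g n m h (c m) = c n) → ∃ x, ∀ n, pr n x = c n := by
    intro c hc
    let S : Submodule R (∀ n, M.obj (Opposite.op n)) :=
      { carrier := {c | ∀ n m h, g n m h (c m) = c n}
        add_mem' := fun ha hb n m h => by simp [ha n m h, hb n m h]
        zero_mem' := fun n m h => by simp
        smul_mem' := fun r a ha n m h => by simp [ha n m h] }
    let C : Cone M :=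
      { pt := ModuleCat.of R S
        π := { app := fun j => ModuleCat.ofHom ((LinearMap.proj j.unop).comp S.subtype)
               naturality := fun i j f => by
                 ext a
                 exact ((congrArg (fun φ => φ.hom (a.1 i.unop)) (hhom f)).trans (a.2 _ _ _)).symm } }
    exact ⟨(limit.lift M C).hom ⟨c, hc⟩, fun n => ConcreteCategory.congr_hom (limit.lift_π C (Opposite.op n)) ⟨c, hc⟩⟩
  have hgid : ∀ n x, g n n le_rfl x = x := fun n x =>
    (ConcreteCategory.congr_hom (congrArg M.map (Subsingleton.elim (homOfLE (le_refl n)).op (𝟙 _))) x).trans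
      (ConcreteCategory.congr_hom (M.map_id _) x)
  have hgtrans : ∀ n m l (h : n ≤ m) (h' : m ≤ l) x, g n m h (g m l h' x) = g n l (h.trans h') x := fun n m l h h' x =>
    (ConcreteCategory.congr_hom (M.map_comp (homOfLE h').op (homOfLE h).op) x).symm.trans
      (ConcreteCategory.congr_hom (congrArg M.map (Subsingleton.elim _ _)) x)
  have hfl : ∀ n, IsArtinian R (M.obj (Opposite.op n)) := fun n => (isFiniteLength_iff_isNoetherian_isArtinian.1 (hM _)).2
  obtain ⟨hinj, hsurj⟩ := lim_tensor hfl g hgid hgtrans pr hpr hext hlift N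
  have hkey : ∀ n w, (limit.π (M ⋙ tensorRight (ModuleCat.of R N)) (Opposite.op n)).hom
      ((limit.post M (tensorRight (ModuleCat.of R N))).hom w) = (pr n).rTensor N w := fun n w =>
    ConcreteCategory.congr_hom (limit.post_π M (tensorRight (ModuleCat.of R N)) (Opposite.op n)) w
  rw [ConcreteCategory.isIso_iff_bijective]
  refine ⟨fun a b hab => sub_eq_zero.1 (hinj _ fun n => ?_), fun y => ?_⟩
  · have ha := hkey n a
    have hb := hkey n b
    refine (map_sub _ a b).trans (sub_eq_zero.2 ?_)
    rw [← ha, ← hb]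
    exact congrArg _ hab
  · obtain ⟨w, hw⟩ := hsurj (fun n => (limit.π (M ⋙ tensorRight (ModuleCat.of R N)) (Opposite.op n)).hom y)
      (fun n m h => ConcreteCategory.congr_hom (limit.w (M ⋙ tensorRight (ModuleCat.of R N)) (homOfLE h).op) y)
    exact ⟨w, Concrete.limit_ext _ _ _ fun j => (hkey j.unop w).trans (hw j.unop)⟩

end Groth.Agent.S14353
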