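import Groth.Statements.S14354
import Groth.Agent.LimCohLib.Modules
import Groth.Agent.Coherent.QcohOps
import Groth.Agent.Coherent.Devissage
-- import your own Groth.Agent.* helpers here

set_option autoImplicit false
universe u
open CategoryTheory CategoryTheory.Limits AlgebraicGeometry Opposite
open Coh

namespace Groth.Agent.S14354

open Groth.Agent.Coherent TopologicalSpace Opposite

theorem range_app_eq {X : Scheme.{u}} [IsLocallyNoetherian X] {M M' N : X.Modules} (φ : M ⟶ N) (ψ : M' ⟶ N)
    [Coh.IsQCoh M] [Coh.IsQCoh M'] [Coh.IsQCoh N] (h : imageSubobject φ = imageSubobject ψ)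
    {U : X.Opens} (hU : IsAffineOpen U) :
    Set.range (φ.app U) ⊆ Set.range (ψ.app U) := by
  rintro _ ⟨z, rfl⟩
  have hle : imageSubobject φ ≤ imageSubobject ψ := h.le
  let a : M ⟶ (imageSubobject ψ : X.Modules) := factorThruImageSubobject φ ≫ Subobject.ofLE _ _ hle
  have ha : a ≫ (imageSubobject ψ).arrow = φ := by
    rw [Category.assoc, Subobject.ofLE_arrow, imageSubobject_arrow_comp]
  haveI : Epi (factorThruImageSubobject ψ) := inferInstance
  haveI : Coh.IsQCoh (imageSubobject ψ : X.Modules) :=
    (SheafOfModules.isQuasicoherent X.ringCatSheaf).prop_of_iso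
      ((imageSubobjectIso ψ).trans (Abelian.imageIsoImage ψ).symm).symm (isQCoh_image ψ)
  obtain ⟨w, hw⟩ := Existence.app_surjective_of_epi (factorThruImageSubobject ψ) hU (a.app U z)
  refine ⟨w, ?_⟩
  calc ψ.app U w = (factorThruImageSubobject ψ ≫ (imageSubobject ψ).arrow).app U w :=
        (Existence.app_congr (imageSubobject_arrow_comp ψ) U w).symm
    _ = (imageSubobject ψ).arrow.app U (a.app U z) := congrArg _ hw
    _ = φ.app U z := Existence.app_congr ha U z

theorem g_comp {X : Scheme.{u}} (G : ℕᵒᵖ ⥤ X.Modules) {a b c : ℕ} (hab : a ≤ b) (hbc : b ≤ c)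
    (U : X.Opens) (z : Γ(G.obj (op c), U)) :
    (G.map (homOfLE hab).op).app U ((G.map (homOfLE hbc).op).app U z) =
      (G.map (homOfLE (hab.trans hbc)).op).app U z :=
  Existence.app_congr (show G.map (homOfLE hbc).op ≫ G.map (homOfLE hab).op = _ from (G.map_comp _ _).symm) U z

/-- Compatible sections come from the limit. -/
theorem exists_limit_section {X : Scheme.{u}} (G : ℕᵒᵖ ⥤ X.Modules) (U : X.Opens)
    (x : ∀ n, Γ(G.obj (op n), U))
    (hx : ∀ a b (h : a ≤ b), (G.map (homOfLE h).op).app U (x b) = x a) :
    ∃ t : Γ(limit G, U), ∀ n, (limit.π G (op n)).app U t = x n := by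
  let A : ℕᵒᵖ ⥤ CategoryTheory.Sheaf (Opens.grothendieckTopology X) AddCommGrpCat.{u} := LimCohLib.abSys G
  let P : CategoryTheory.Sheaf (Opens.grothendieckTopology X) AddCommGrpCat.{u} ⥤ Type u :=
    sheafToPresheaf _ _ ⋙ (CategoryTheory.evaluation _ _).obj (op U) ⋙ CategoryTheory.forget AddCommGrpCat
  let hl := isLimitOfPreserves P (limit.isLimit A)
  have hs : (fun j : ℕᵒᵖ => (x j.unop : (A ⋙ P).obj j)) ∈ (A ⋙ P).sections := by
    intro i j φ
    have : φ = (homOfLE (leOfHom φ.unop)).op := Subsingleton.elim _ _
    rw [this]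
    exact hx _ _ _
  let t₀ : P.obj (limit A) := (Types.isLimitEquivSections hl).symm ⟨_, hs⟩
  have ht : ∀ n, P.map (limit.π A (op n)) t₀ = x n := fun n =>
    Types.isLimitEquivSections_symm_apply hl ⟨_, hs⟩ (op n)
  refine ⟨P.map (LimCohLib.limAbIso G).inv t₀, fun n => ?_⟩
  have e : (LimCohLib.limAbIso G).inv ≫ (SheafOfModules.toSheaf X.ringCatSheaf).map (limit.π G (op n)) =
      limit.π A (op n) := by
    rw [← LimCohLib.limAbIso_π, Iso.inv_hom_id_assoc]
  refine Eq.trans ?_ (ht n)
  rw [← e, Functor.map_comp]
  rfl

/-- Let X be a locally Noetherian scheme and (G_e)_{e ∈ ℕ} an inverse system of coherent O_X-modules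
satisfying the Mittag-Leffler condition, in the sense that for every e the image subobject of G_d ⟶
G_e is the same for all sufficiently large d. Then for every e the support of the image of the
canonical map lim_d G_d ⟶ G_e is closed in X. (The published statement is the case where G_e is the
i-th cohomology sheaf of the Fourier–Mukai transform of the e-th member of a Mittag-Leffler inverse
system of coherent modules on an abelian variety; the argument uses only the coherence of the G_e
and their Mittag-Leffler condition, which is the form stated here.) -/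
theorem result (X : Scheme.{u}) [IsLocallyNoetherian X]
    (G : ℕᵒᵖ ⥤ X.Modules) (hG : ∀ n : ℕᵒᵖ, Coh.IsCoh (G.obj n))
    (hML : ∀ e : ℕ, ∃ (d : ℕ) (hd : e ≤ d), ∀ (d' : ℕ) (hd' : d ≤ d'),
      imageSubobject (G.map (homOfLE (hd.trans hd')).op) = imageSubobject (G.map (homOfLE hd).op))
    (e : ℕ) : IsClosed (CohB1.support (image (limit.π G (op e)))) := by
  obtain ⟨d, hd, hst⟩ := hML e
  haveI := fun n => (hG n).1
  have key : CohB1.support (image (limit.π G (op e))) =
      CohB1.support (image (G.map (homOfLE hd).op)) := by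
    let φ := limit.π G (op e)
    let ψ := G.map (homOfLE hd).op
    have hr : ∀ x : X, Set.range ((DerSch.stalkFunctor X x).map φ) = Set.range ((DerSch.stalkFunctor X x).map ψ) := by
      intro x
      refine Set.Subset.antisymm ?_ ?_
      · rintro _ ⟨v, rfl⟩
        exact ⟨(DerSch.stalkFunctor X x).map (limit.π G (op d)) v,
          (stalk_comp_apply _ _ v).trans (congrArg (fun h => (DerSch.stalkFunctor X x).map h v)
            (limit.w G (homOfLE hd).op))⟩
      · rintro _ ⟨v, rfl⟩
        obtain ⟨V, hxV, v, rfl⟩ := (G.obj (op d)).presheaf.exists_germ_eq v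
        obtain ⟨U, hU, hxU, hUV⟩ := exists_isAffineOpen_mem_and_subset (x := x) (U := V) hxV
        have hUV' : U ≤ V := hUV
        let v' := resM (G.obj (op d)) hUV' v
        have hv' : (G.obj (op d)).presheaf.germ U x hxU v' = (G.obj (op d)).presheaf.germ V x hxV v :=
          (G.obj (op d)).presheaf.germ_res_apply _ _ _ _
        -- stable images
        choose D hD hDst using hML
        let I : ∀ n, Set Γ(G.obj (op n), U) := fun n => Set.range ((G.map (homOfLE (hD n)).op).app U)
        have big : ∀ n d' (hd' : n ≤ d') , I n ⊆ Set.range ((G.map (homOfLE hd').op).app U) := by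
          intro n d' hd' y hy
          have h₂ := range_app_eq _ _ (hDst n (max (D n) d') (le_max_left _ _)).symm hU hy
          obtain ⟨w, hw⟩ := h₂
          refine ⟨(G.map (homOfLE (le_max_right (D n) d')).op).app U w, ?_⟩
          rw [g_comp]
          exact hw
        have step : ∀ n (y : Γ(G.obj (op n), U)), y ∈ I n →
            ∃ y' ∈ I (n + 1), (G.map (homOfLE (Nat.le_succ n)).op).app U y' = y := by
          intro n y hy
          obtain ⟨w, hw⟩ := big n (D (n + 1)) ((Nat.le_succ n).trans (hD (n + 1))) hy
          exact ⟨_, ⟨w, rfl⟩, by rw [g_comp]; exact hw⟩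
        choose! nxt hnxt hnxt' using step
        have h0 : ψ.app U v' ∈ I e := by
          rcases le_total d (D e) with h | h
          · exact range_app_eq _ _ (hst (D e) h).symm hU ⟨v', rfl⟩
          · exact ⟨(G.map (homOfLE h).op).app U v', g_comp G _ _ U v'⟩
        let seq : ∀ j, {y : Γ(G.obj (op (e + j)), U) // y ∈ I (e + j)} := fun j =>
          Nat.rec ⟨ψ.app U v', h0⟩ (fun j y => ⟨nxt (e + j) y.1, hnxt _ _ y.2⟩) j
        have hseq : ∀ a b (hab : a ≤ b), (G.map (homOfLE (Nat.add_le_add_left hab e)).op).app U (seq b).1 = (seq a).1 := by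
          intro a b hab
          induction b, hab using Nat.le_induction with
          | base => exact (Existence.app_congr (G.map_id _) U _)
          | succ b hab ih =>
            rw [← ih, ← g_comp G (Nat.add_le_add_left hab e) (Nat.le_succ (e + b))]
            exact congrArg _ (hnxt' (e + b) _ (seq b).2)
        obtain ⟨t, ht⟩ := exists_limit_section G U
          (fun n => (G.map (homOfLE (Nat.le_add_left n e)).op).app U (seq n).1) (fun a b h => by
            rw [g_comp, ← hseq a b h, g_comp])
        refine ⟨(limit G).presheaf.germ U x hxU t, ?_⟩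
        rw [stalk_map_germ, ← hv', stalk_map_germ]
        refine congrArg _ ((ht e).trans ?_)
        have := hseq 0 e (Nat.zero_le _)
        exact this
    ext x
    have sub : ∀ {M N : X.Modules} (χ : M ⟶ N),
        Subsingleton ((DerSch.stalkFunctor X x).obj (image χ)) ↔
          Set.range ((DerSch.stalkFunctor X x).map χ) ⊆ {0} := by
      intro M N χ
      constructor
      · rintro hs _ ⟨v, rfl⟩
        show _ = _
        rw [← image.fac χ, ← stalk_comp_apply, Subsingleton.elim ((DerSch.stalkFunctor X x).map (factorThruImage χ) v) 0, map_zero]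
      · intro hs
        refine subsingleton_of_forall_eq 0 fun w => ?_
        obtain ⟨v, rfl⟩ := (ModuleCat.epi_iff_surjective ((DerSch.stalkFunctor X x).map (factorThruImage χ))).1 inferInstance w
        refine (ModuleCat.mono_iff_injective ((DerSch.stalkFunctor X x).map (image.ι χ))).1 inferInstance ?_
        rw [map_zero, stalk_comp_apply, image.fac]
        exact hs ⟨v, rfl⟩
    refine not_congr ?_
    refine (sub _).trans (Iff.trans ?_ (sub _).symm)
    rw [hr x]
  rw [key]
  refine isClosed_support _ (locallyFinGen_of_isFT _ ?_)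
  exact (isCoh_of_mono (image.ι (G.map (homOfLE hd).op)) (hG _) ((SheafOfModules.isQuasicoherent X.ringCatSheaf).prop_of_iso
    (Abelian.imageIsoImage _) (isQCoh_image _))).2

end Groth.Agent.S14354
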