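import Groth.Statements.S14358
import Mathlib

set_option linter.all false

set_option autoImplicit false
universe u
open CAlg

open TensorProduct

namespace Groth.Agent.S14358

/-- Let A be a Noetherian integral domain with fraction field K and let r ∈ K. Then r belongs to A if
and only if, for every nonzero g ∈ A and every associated prime p of the A-module A/(g), the element
r belongs to the local ring A_p inside K, i.e. s r = a in K for some a ∈ A and some s ∈ A outside p. -/
theorem result (A K : Type u)
    [CommRing A] [IsDomain A] [IsNoetherianRing A] [Field K] [Algebra A K] [IsFractionRing A K]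
    (r : K) :
    r ∈ Set.range (algebraMap A K) ↔
      ∀ g : A, g ≠ 0 → ∀ p ∈ associatedPrimes A (A ⧸ Ideal.span {g}),
        ∃ a s : A, s ∉ p ∧ algebraMap A K s * r = algebraMap A K a := by
  constructor
  · rintro ⟨a, rfl⟩ g _ p hp
    have hpp : p.IsPrime := hp.isPrime
    exact ⟨a, 1, hpp.one_notMem, by simp⟩
  · intro h
    by_contra hr
    obtain ⟨⟨a, g⟩, hag⟩ := IsLocalization.surj (nonZeroDivisors A) r
    simp only at hag
    have hg0 : (g : A) ≠ 0 := nonZeroDivisors.coe_ne_zero g
    have hgK : algebraMap A K (g : A) ≠ 0 := fun e => hg0 (IsFractionRing.injective A K (e.trans (map_zero _).symm))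
    have hne : (Submodule.Quotient.mk a : A ⧸ Ideal.span {(g : A)}) ≠ 0 := by
      intro e
      obtain ⟨b, hb⟩ := Ideal.mem_span_singleton'.1 ((Submodule.Quotient.mk_eq_zero _).1 e)
      refine hr ⟨b, mul_left_cancel₀ hgK ?_⟩
      rw [mul_comm _ r, hag, ← hb, map_mul, mul_comm]
    obtain ⟨p, hp, hle⟩ := exists_le_isAssociatedPrime_of_isNoetherianRing A _ hne
    obtain ⟨a', s, hs, hsr⟩ := h g hg0 p hp
    refine hs (hle ?_)
    rw [Submodule.mem_colon_singleton, Submodule.mem_bot, ← Submodule.Quotient.mk_smul, Submodule.Quotient.mk_eq_zero,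
      Ideal.mem_span_singleton', smul_eq_mul]
    refine ⟨a', IsFractionRing.injective A K ?_⟩
    rw [map_mul, map_mul, ← hag, ← hsr]
    ring

end Groth.Agent.S14358
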