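import Groth.Statements.S14359
import Mathlib.Algebra.Category.ModuleCat.Abelian
import Mathlib.CategoryTheory.Limits.Shapes.Countable
import Mathlib.CategoryTheory.Limits.Types.Pullbacks
import Mathlib.Dynamics.Newton
import Mathlib.Order.CompletePartialOrder
import Mathlib.RingTheory.AdicCompletion.Noetherian
import Mathlib.RingTheory.Etale.Weakly
import Mathlib.RingTheory.Flat.TorsionFree
import Mathlib.RingTheory.Ideal.AssociatedPrime.Localization
import Mathlib.RingTheory.PicardGroup
import Mathlib.RingTheory.PowerSeries.NoZeroDivisors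
import Mathlib.RingTheory.PowerSeries.Trunc
import Mathlib.RingTheory.TotallySplit
import Mathlib.Tactic
import Groth.Agent.CommAlg4.Nilpotent
import Groth.Agent.S14020

set_option linter.all false

set_option autoImplicit false
universe u
open CAlg

open CategoryTheory

namespace Groth.Agent.S14359

/-- Let A be a Noetherian integrally closed integral domain and b a nonzero element of A. Then every
associated prime of the A-module A/(b) has height one, so that A/(b) has no embedded associated
primes. -/
theorem result
    (A : Type u) [CommRing A] [IsDomain A] [IsNoetherianRing A] [IsIntegrallyClosed A]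
    (b : A) (hb : b ≠ 0) (p : Ideal A) (hp : p ∈ associatedPrimes A (A ⧸ Ideal.span {b})) :
    p.height = 1 := by
  obtain ⟨hP, x, hx⟩ := isAssociatedPrime_iff.mp hp
  obtain ⟨c, rfl⟩ := Ideal.Quotient.mk_surjective x
  have hmem : ∀ r, r ∈ p ↔ b ∣ r * c := by
    intro r
    rw [hx, Submodule.mem_colon_singleton, Submodule.mem_bot, ← Ideal.mem_span_singleton, ← Ideal.Quotient.eq_zero_iff_mem]
    rfl
  have hbp : b ∈ p := (hmem b).mpr (dvd_mul_right b c)
  -- some element of p has product with c not in b p
  have key : ∃ t ∈ p, ∃ u, t * c = b * u ∧ u ∉ p := by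
    by_contra! hall
    let K := FractionRing A
    let z : K := algebraMap A K c / algebraMap A K b
    have hbK : algebraMap A K b ≠ 0 := by simpa using hb
    let N : Submodule A K := Submodule.map (Algebra.linearMap A K) p
    have hmap : ∀ n ∈ N, z • n ∈ N := by
      rintro _ ⟨r, hr, rfl⟩
      obtain ⟨u, hu⟩ := (hmem r).mp hr
      refine ⟨u, hall r hr u hu, ?_⟩
      have := congrArg (algebraMap A K) hu
      simp only [map_mul] at this
      simp only [Algebra.linearMap_apply, z, smul_eq_mul]
      rw [eq_comm, div_mul_eq_mul_div, div_eq_iff hbK]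
      linear_combination this
    have hz : IsIntegral A z := by
      refine isIntegral_of_smul_mem_submodule N ?_ (Submodule.FG.map _ (IsNoetherian.noetherian p)) z hmap
      intro h
      have : algebraMap A K b ∈ N := ⟨b, hbp, rfl⟩
      rw [h] at this
      exact hbK this
    obtain ⟨a, ha⟩ := IsIntegrallyClosed.algebraMap_eq_of_integral hz
    have hc : c = b * a := by
      apply IsFractionRing.injective A K
      rw [map_mul, ha]; simp only [z]; rw [mul_div_cancel₀ _ hbK]
    exact hP.ne_top ((Ideal.eq_top_iff_one _).mpr ((hmem 1).mpr ⟨a, by rw [one_mul, hc]⟩))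
  obtain ⟨t, ht, u, htu, hu⟩ := key
  have ht0 : t ≠ 0 := by
    rintro rfl
    rw [zero_mul, eq_comm, mul_eq_zero] at htu
    exact hu (htu.resolve_left hb ▸ p.zero_mem)
  haveI := hP
  have hmin : p ∈ (Ideal.span {t}).minimalPrimes := by
    refine ⟨⟨hP, by simpa [Ideal.span_le] using ht⟩, fun q ⟨hq, hle⟩ hqp r hr => ?_⟩
    -- r u ∈ (t)
    obtain ⟨v, hv⟩ := (hmem r).mp hr
    have : r * u = t * v := by
      refine mul_left_cancel₀ hb ?_
      calc b * (r * u) = r * (t * c) := by rw [htu]; ring
        _ = t * (r * c) := by ring
        _ = b * (t * v) := by rw [hv]; ring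
    exact (hq.mem_or_mem (this ▸ hle (Ideal.mem_span_singleton.mpr (dvd_mul_right t v)))).resolve_right (fun h => hu (hqp h))
  refine le_antisymm (Ideal.height_le_one_of_isPrincipal_of_mem_minimalPrimes _ _ hmin) ?_
  by_contra h
  have h0 : p.height = 0 := by simpa using h
  have : (⊥ : Ideal A) = p := (Ideal.height_eq_zero_iff_eq_bot.mp h0).symm
  exact ht0 (by simpa [← this] using ht)

end Groth.Agent.S14359
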