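import Groth.Statements.S1436
import Groth.Agent.FlatMorStrat.Vanishing

set_option autoImplicit false
universe u
open FlatMor

namespace Groth.Agent.S1436

open AlgebraicGeometry CategoryTheory Limits in
/-- Let X be a scheme admitting an affine stratification with index set {0, …, n} (so X is quasi-compact
and quasi-separated, and its affine stratification number is at most n). Then H^p(X, F) = 0 for
every quasi-coherent O_X-module F and every p > n. -/
theorem result (X : Scheme.{u}) (n : ℕ) (hX : MoreMor.HasAffineStratification X n)
    (F : X.Modules) (hF : Coh.IsQCoh F) (p : ℕ) (hp : n < p) :
    Subsingleton (Coh.HH X F p) := by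
  exact Groth.Agent.FlatMorStrat.subsingleton_HH_of_strat n X hX F hF p hp

end Groth.Agent.S1436
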