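import Groth.Statements.S14360
import Mathlib

set_option autoImplicit false
universe u
open AlgebraicGeometry
open Variety
set_option backward.isDefEq.respectTransparency.types false

namespace Groth.Agent.S14360

open CategoryTheory Scheme

theorem comp_symm_hom {X Y : Scheme.{u}} (e : X.PartialIso Y) [IsDominant e.toPartialMap.hom] [IsIntegral X] [Nonempty Y]
    (h₁ : (e.toPartialMap.comp e.symm.toPartialMap).domain ≤ (e.toPartialMap.comp e.symm.toPartialMap).domain)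
    (h₂ : (e.toPartialMap.comp e.symm.toPartialMap).domain ≤ ⊤) :
    X.homOfLE h₁ ≫ (e.toPartialMap.comp e.symm.toPartialMap).hom = X.homOfLE h₂ ≫ (PartialMap.id X).hom := by
  show _ = X.homOfLE h₂ ≫ X.topIso.hom ≫ 𝟙 X
  rw [Category.comp_id, Scheme.topIso_hom, Scheme.homOfLE_ι, Scheme.homOfLE_rfl, Category.id_comp]
  set P := (e.iso.hom ≫ e.target.ι) ⁻¹ᵁ e.target
  show (e.source.ι.isoImage P).inv ≫ (e.iso.hom ≫ e.target.ι) ∣_ e.target ≫ e.iso.inv ≫ e.source.ι =
    (e.source.ι ''ᵁ P).ι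
  have h : (e.iso.hom ≫ e.target.ι) ∣_ e.target = P.ι ≫ e.iso.hom := by
    rw [← cancel_mono e.target.ι, morphismRestrict_ι, Category.assoc]
  rw [h, Category.assoc, Iso.hom_inv_id_assoc, e.source.isoImage_ι_inv_ι_assoc, Scheme.homOfLE_ι]

/-- A left inverse relation between rational maps, on a dense open. -/
theorem exists_factor {X Y : Scheme.{u}} [IsIntegral X] [Nonempty Y] (f : X.PartialMap Y) [IsDominant f.hom]
    (g : Y.PartialMap X) (h : (f.comp g).toRationalMap = RationalMap.id X) :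
    ∃ (W : X.Opens) (_ : Dense (W : Set X)) (hle : W ≤ f.domain) (ψ : (W : Scheme) ⟶ g.domain),
      ψ ≫ g.domain.ι = X.homOfLE hle ≫ f.hom ∧ ψ ≫ g.hom = W.ι := by
  obtain ⟨W, hW, hW₁, hW₂, e⟩ := PartialMap.toRationalMap_eq_iff.1 h
  change W ≤ f.domain.ι ''ᵁ f.hom ⁻¹ᵁ g.domain at hW₁
  refine ⟨W, hW, hW₁.trans (f.domain.ι_image_le _), X.homOfLE hW₁ ≫ (f.domain.ι.isoImage _).inv ≫ f.hom ∣_ g.domain, ?_, ?_⟩
  · simp only [Category.assoc, morphismRestrict_ι]
    rw [← cancel_epi (𝟙 (W : Scheme))]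
    simp only [← Category.assoc]
    congr 1
    rw [← cancel_mono f.domain.ι]
    simp only [Category.assoc, Category.id_comp, Scheme.homOfLE_ι, f.domain.isoImage_ι_inv_ι_assoc]
  · simp only [PartialMap.restrict_hom, PartialMap.comp_hom] at e
    simp only [Category.assoc]
    refine Eq.trans e ?_
    show X.homOfLE hW₂ ≫ X.topIso.hom ≫ 𝟙 X = W.ι
    rw [Category.comp_id, Scheme.topIso_hom]
    exact Scheme.homOfLE_ι X (show W ≤ ⊤ from le_top)

/-- One half of the isomorphism. -/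
theorem exists_half {X Y : Scheme.{u}} {W : X.Opens} {W' : Y.Opens} {dg : Y.Opens} {df : X.Opens}
    (fh : (df : Scheme) ⟶ Y) (gh : (dg : Scheme) ⟶ X) (hle : W ≤ df) (hle' : W' ≤ dg)
    (ψ : (W : Scheme) ⟶ dg) (h1 : ψ ≫ dg.ι = X.homOfLE hle ≫ fh) (h2 : ψ ≫ gh = W.ι) :
    ∃ a : (W.ι ''ᵁ (X.homOfLE hle ≫ fh) ⁻¹ᵁ W').toScheme ⟶
        (W'.ι ''ᵁ (Y.homOfLE hle' ≫ gh) ⁻¹ᵁ W).toScheme,
      a ≫ Y.homOfLE (W'.ι_image_le _) ≫ Y.homOfLE hle' ≫ gh = (W.ι ''ᵁ (X.homOfLE hle ≫ fh) ⁻¹ᵁ W').ι ∧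
      a ≫ (W'.ι ''ᵁ (Y.homOfLE hle' ≫ gh) ⁻¹ᵁ W).ι = X.homOfLE (W.ι_image_le _) ≫ X.homOfLE hle ≫ fh := by
  set U := W.ι ''ᵁ (X.homOfLE hle ≫ fh) ⁻¹ᵁ W' with hU
  let φ : (U : Scheme) ⟶ Y := X.homOfLE (W.ι_image_le _) ≫ X.homOfLE hle ≫ fh
  have hφ : Set.range φ ⊆ Set.range W'.ι := by
    rintro _ ⟨⟨x, hx⟩, rfl⟩
    rw [Scheme.Opens.range_ι]
    obtain ⟨w, hw, hwx⟩ := id hx
    have e : (X.homOfLE (W.ι_image_le _) : (U : Scheme) ⟶ W) ⟨x, hx⟩ = w := Subtype.ext (by
      simpa using hwx.symm)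
    show (X.homOfLE (W.ι_image_le _) ≫ X.homOfLE hle ≫ fh) ⟨x, hx⟩ ∈ W'
    rw [Scheme.Hom.comp_apply, e]
    exact hw
  let a₀ : (U : Scheme) ⟶ W' := IsOpenImmersion.lift W'.ι φ hφ
  have ha₀ : a₀ ≫ W'.ι = φ := IsOpenImmersion.lift_fac _ _ _
  have e1 : a₀ ≫ Y.homOfLE hle' = X.homOfLE (W.ι_image_le _) ≫ ψ := by
    rw [← cancel_mono dg.ι, Category.assoc, Category.assoc, Scheme.homOfLE_ι, ha₀, h1]
  have e2 : a₀ ≫ Y.homOfLE hle' ≫ gh = U.ι := by
    rw [← Category.assoc, e1, Category.assoc, h2, Scheme.homOfLE_ι]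
  set V := W'.ι ''ᵁ (Y.homOfLE hle' ≫ gh) ⁻¹ᵁ W
  have hV : Set.range φ ⊆ Set.range V.ι := by
    rintro _ ⟨x, rfl⟩
    rw [Scheme.Opens.range_ι, ← ha₀]
    refine ⟨a₀ x, ?_, rfl⟩
    show (Y.homOfLE hle' ≫ gh) (a₀ x) ∈ W
    rw [← Scheme.Hom.comp_apply, e2]
    exact W.ι_image_le _ x.2
  refine ⟨IsOpenImmersion.lift V.ι φ hV, ?_, IsOpenImmersion.lift_fac _ _ _⟩
  have e3 : IsOpenImmersion.lift V.ι φ hV ≫ Y.homOfLE (W'.ι_image_le _) = a₀ := by
    rw [← cancel_mono W'.ι, Category.assoc, Scheme.homOfLE_ι, IsOpenImmersion.lift_fac, ha₀]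
  rw [← Category.assoc, e3, e2]


/-- Let X and Y be integral schemes. Then X and Y have isomorphic dense open subschemes if and only if
they are birational in the sense of rational maps, i.e. there exist dominant rational maps f : X ⤏ Y
and g : Y ⤏ X such that the composites g ∘ f and f ∘ g are the identity rational maps of X and of Y. -/
theorem result (X Y : Scheme.{u})
    [IsIntegral X] [IsIntegral Y] :
    Scheme.Birational X Y ↔
      ∃ (f : X ⤏ Y) (g : Y ⤏ X) (_ : f.IsDominant) (_ : g.IsDominant),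
        f.comp g = Scheme.RationalMap.id X ∧ g.comp f = Scheme.RationalMap.id Y := by
  constructor
  · rintro ⟨e⟩
    haveI := Opens.isDominant_ι e.dense_target
    haveI := Opens.isDominant_ι e.dense_source
    haveI h1 : IsDominant e.toPartialMap.hom := inferInstanceAs (IsDominant (e.iso.hom ≫ e.target.ι))
    haveI h2 : IsDominant e.symm.toPartialMap.hom := inferInstanceAs (IsDominant (e.iso.inv ≫ e.source.ι))
    refine ⟨e.toRationalMap, e.symm.toRationalMap, inferInstance, inferInstance, ?_, ?_⟩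
    · rw [RationalMap.toRationalMap_comp]
      refine PartialMap.toRationalMap_eq_iff.2 ⟨(PartialMap.comp _ _).domain, (PartialMap.comp _ _).dense_domain, le_rfl, le_top, ?_⟩
      exact comp_symm_hom e le_rfl le_top
    · rw [RationalMap.toRationalMap_comp]
      refine PartialMap.toRationalMap_eq_iff.2 ⟨(PartialMap.comp _ _).domain, (PartialMap.comp _ _).dense_domain, le_rfl, le_top, ?_⟩
      exact comp_symm_hom e.symm le_rfl le_top
  · rintro ⟨f, g, _, _, hfg, hgf⟩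
    rw [← g.toRationalMap_representative, RationalMap.comp_def] at hfg
    rw [← f.toRationalMap_representative, RationalMap.comp_def] at hgf
    obtain ⟨W, hW, hle, ψ, p1, p2⟩ := exists_factor _ _ hfg
    obtain ⟨W', hW', hle', ψ', q1, q2⟩ := exists_factor _ _ hgf
    obtain ⟨a, a1, a2⟩ := exists_half f.representative.hom g.representative.hom hle hle' ψ p1 p2
    obtain ⟨b, b1, b2⟩ := exists_half g.representative.hom f.representative.hom hle' hle ψ' q1 q2
    let U := W.ι ''ᵁ (X.homOfLE hle ≫ f.representative.hom) ⁻¹ᵁ W'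
    let V := W'.ι ''ᵁ (Y.homOfLE hle' ≫ g.representative.hom) ⁻¹ᵁ W
    haveI : IsDominant f.representative.hom := inferInstance
    haveI : IsDominant (X.homOfLE hle) := Opens.isDominant_homOfLE hW _
    haveI : IsDominant g.representative.hom := inferInstance
    haveI : IsDominant (Y.homOfLE hle') := Opens.isDominant_homOfLE hW' _
    have hUne : (U : Set X).Nonempty := by
      obtain ⟨w, hy⟩ :=
        (X.homOfLE hle ≫ f.representative.hom).denseRange.exists_mem_open W'.2 hW'.nonempty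
      exact ⟨_, ⟨w, hy, rfl⟩⟩
    have hVne : (V : Set Y).Nonempty := by
      obtain ⟨w, hy⟩ :=
        (Y.homOfLE hle' ≫ g.representative.hom).denseRange.exists_mem_open W.2 hW.nonempty
      exact ⟨_, ⟨w, hy, rfl⟩⟩
    refine ⟨⟨U, U.2.dense hUne, V, V.2.dense hVne, ⟨a, b, ?_, ?_⟩⟩⟩
    · rw [← cancel_mono U.ι, Category.assoc, b2, Category.id_comp]
      exact a1
    · rw [← cancel_mono V.ι, Category.assoc, a2, Category.id_comp]
      exact b1

end Groth.Agent.S14360
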