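import Groth.Statements.S14362
import Groth.Agent.Props12.KerReduced

set_option autoImplicit false
universe u
open AlgebraicGeometry
open SchImage

namespace Groth.Agent.S14362

/-- Let π : X → Y be a morphism of schemes with X reduced. Then the closed subset underlying the
scheme-theoretic image of π, i.e. the support of its kernel ideal sheaf, is the closure of the image
of π. (The published statement allows, as an alternative to X being reduced, that π be
quasi-compact; this row is the reduced case and assumes no quasi-compactness.) -/
theorem result (X Y : Scheme.{u}) [IsReduced X]
    (π : X ⟶ Y) :
    (π.ker.support : Set Y) = closure (Set.range π) := by
  exact Groth.Agent.Props12.support_ker_eq π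

end Groth.Agent.S14362
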