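import Groth.Statements.S14363
import Mathlib.RingTheory.Derivation.Basic
import Mathlib.RingTheory.Flat.Equalizer
import Mathlib.RingTheory.Henselian
import Mathlib.RingTheory.Regular.RegularSequence
import Mathlib.RingTheory.RegularLocalRing.Defs
import Mathlib.RingTheory.SimpleRing.Principal
import Mathlib.RingTheory.Flat.FaithfullyFlat.Algebra
import Mathlib.RingTheory.Ideal.AssociatedPrime.Basic
import Mathlib.RingTheory.HopkinsLevitzki
import Mathlib.RingTheory.Support
import Mathlib.Tactic
import Groth.Agent.CommAlg4.Basic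

set_option linter.all false

set_option autoImplicit false
universe u
open CAlg

open Groth.Agent.CommAlg4

namespace Groth.Agent.S14363

/-- Let A be a Noetherian ring and 0 → M' → M → M'' → 0 a short exact sequence of A-modules. If a prime
p of A is an associated prime of M'' and is not in the support of M', then p is an associated prime
of M. -/
theorem result (A : Type u) [CommRing A] [IsNoetherianRing A]
    (M' M M'' : Type u) [AddCommGroup M'] [Module A M'] [AddCommGroup M] [Module A M]
    [AddCommGroup M''] [Module A M'']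
    (f : M' →ₗ[A] M) (g : M →ₗ[A] M'') (hf : Function.Injective f) (hg : Function.Surjective g)
    (hfg : Function.Exact f g)
    (p : PrimeSpectrum A) (hp : p.asIdeal ∈ associatedPrimes A M'') (hsupp : p ∉ Module.support A M') :
    p.asIdeal ∈ associatedPrimes A M := by
  classical
  obtain ⟨hP, x'', hx''⟩ := isAssociatedPrime_iff.mp hp
  obtain ⟨x, rfl⟩ := hg x''
  obtain ⟨gen, hgen⟩ := (IsNoetherian.noetherian p.asIdeal : _)
  have hker : ∀ r ∈ gen, ∃ s ∉ p.asIdeal, s • r • x = 0 := by
    intro r hr
    have hr' : r ∈ p.asIdeal := hgen ▸ Submodule.subset_span hr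
    rw [hx'', Submodule.mem_colon_singleton, Submodule.mem_bot, ← map_smul] at hr'
    obtain ⟨y, hy⟩ := (hfg _).mp hr'
    obtain ⟨s, hs, hsy⟩ := Module.notMem_support_iff'.mp hsupp y
    exact ⟨s, hs, by rw [← hy, ← map_smul, hsy, map_zero]⟩
  choose s hs hsx using hker
  let t : A := ∏ r ∈ gen.attach, s r.1 r.2
  have ht : t ∉ p.asIdeal := by
    simp only [t, Ideal.IsPrime.prod_mem_iff, not_exists, not_and]
    exact fun r _ => hs r.1 r.2
  refine isAssociatedPrime_iff.mpr ⟨hP, t • x, le_antisymm (fun r hr => ?_) (fun r hr => ?_)⟩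
  · rw [Submodule.mem_colon_singleton, Submodule.mem_bot]
    rw [← hgen] at hr
    induction hr using Submodule.span_induction with
    | mem y hy =>
      obtain ⟨d, hd⟩ := Finset.dvd_prod_of_mem (fun r : gen => s r.1 r.2) (Finset.mem_attach gen ⟨y, hy⟩)
      simp only [t]; rw [hd, smul_comm, mul_comm, mul_smul, hsx, smul_zero]
    | zero => simp
    | add y z _ _ hy hz => rw [add_smul, hy, hz, add_zero]
    | smul c y _ hy => rw [smul_eq_mul, mul_smul, hy, smul_zero]
  · rw [Submodule.mem_colon_singleton, Submodule.mem_bot, smul_smul] at hr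
    have h1 : r * t ∈ p.asIdeal := by
      rw [hx'', Submodule.mem_colon_singleton, Submodule.mem_bot, ← map_smul, hr, map_zero]
    exact (hP.mem_or_mem h1).resolve_right ht

end Groth.Agent.S14363
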