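import Groth.Statements.S14369
import Groth.Agent.DimLib.Components

set_option autoImplicit false
universe u
open CategoryTheory CategoryTheory.Limits AlgebraicGeometry
open Variety

namespace Groth.Agent.S14369

/-- Let k be an algebraically closed field, X and Y schemes of finite type over k with Y irreducible,
and f : X → Y a k-morphism whose underlying continuous map is closed. Suppose that for some natural
number d the fibre of f over every closed point y of Y (the subspace of points mapping to y) is
irreducible of dimension d. Then X is irreducible and dim X = d + dim Y. (The published statement is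
for varieties, i.e. reduced separated schemes; this row assumes neither.) -/
theorem result (k : Type u) [Field k] [IsAlgClosed k]
    {X Y : Scheme.{u}} (qX : X ⟶ Spec (CommRingCat.of k)) (qY : Y ⟶ Spec (CommRingCat.of k))
    [LocallyOfFiniteType qX] [QuasiCompact qX] [LocallyOfFiniteType qY] [QuasiCompact qY]
    (f : X ⟶ Y) (hf : f ≫ qY = qX) [IrreducibleSpace ↥Y] (hcl : IsClosedMap f.base) (d : ℕ)
    (hirr : ∀ y : ↥Y, IsClosed ({y} : Set ↥Y) → IsIrreducible (f.base ⁻¹' {y}))
    (hdim : ∀ y : ↥Y, IsClosed ({y} : Set ↥Y) → topologicalKrullDim ↥(f.base ⁻¹' {y}) = d) :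
    IrreducibleSpace ↥X ∧ topologicalKrullDim ↥X = d + topologicalKrullDim ↥Y := by
  subst hf
  obtain ⟨Z0, hZ0, hd0⟩ := Groth.Agent.DimLib.exists_dominant_component qY f fun y hy => (hirr y hy).nonempty
  obtain ⟨h1, e0⟩ := Groth.Agent.DimLib.topologicalKrullDim_component_eq qY f d hirr hdim hZ0
  have himg : f.base '' Z0 = Set.univ := by
    rw [← (hcl _ (isClosed_of_mem_irreducibleComponents Z0 hZ0)).closure_eq]; exact hd0.closure_eq
  have : JacobsonSpace X := LocallyOfFiniteType.jacobsonSpace (f ≫ qY)
  have hclosed : closedPoints X ⊆ Z0 := by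
    intro x hx
    have hy := Groth.Agent.DimLib.isClosed_singleton_image qY f hx
    obtain ⟨z, hz, hzx⟩ : f x ∈ f.base '' Z0 := himg ▸ Set.mem_univ _
    exact h1 (f x) hy ⟨z, hzx, hz⟩ rfl
  have huniv : Z0 = Set.univ := by
    rw [Set.eq_univ_iff_forall]
    intro x
    exact closure_minimal hclosed (isClosed_of_mem_irreducibleComponents Z0 hZ0) (closure_closedPoints (X := X) ▸ Set.mem_univ x)
  refine ⟨(irreducibleSpace_def X).2 (by rw [Set.top_eq_univ, ← huniv]; exact hZ0.1), ?_⟩
  rw [hd0.closure_eq, huniv, IsHomeomorph.topologicalKrullDim_eq _ (Homeomorph.Set.univ Y).isHomeomorph,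
    IsHomeomorph.topologicalKrullDim_eq _ (Homeomorph.Set.univ X).isHomeomorph] at e0
  exact e0

end Groth.Agent.S14369
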