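import Groth.Statements.S14370
import Groth.Agent.DimLib.Components

set_option autoImplicit false
universe u
open CategoryTheory CategoryTheory.Limits AlgebraicGeometry
open Variety

namespace Groth.Agent.S14370

/-- Let k be an algebraically closed field, X and Y schemes of finite type over k with Y irreducible,
and f : X → Y a k-morphism. Suppose that X is pure-dimensional (every irreducible component of X has
dimension dim X) and that for some natural number d the fibre of f over every closed point y of Y
(the subspace of points mapping to y) is irreducible of dimension d. Then X is irreducible and dim X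
= d + dim Y. (The published statement is for varieties, i.e. reduced separated schemes; this row
assumes neither.) -/
theorem result (k : Type u) [Field k] [IsAlgClosed k]
    {X Y : Scheme.{u}} (qX : X ⟶ Spec (CommRingCat.of k)) (qY : Y ⟶ Spec (CommRingCat.of k))
    [LocallyOfFiniteType qX] [QuasiCompact qX] [LocallyOfFiniteType qY] [QuasiCompact qY]
    (f : X ⟶ Y) (hf : f ≫ qY = qX) [IrreducibleSpace ↥Y]
    (hpure : ∀ Z ∈ irreducibleComponents (↥X), topologicalKrullDim ↥Z = topologicalKrullDim ↥X) (d : ℕ)
    (hirr : ∀ y : ↥Y, IsClosed ({y} : Set ↥Y) → IsIrreducible (f.base ⁻¹' {y}))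
    (hdim : ∀ y : ↥Y, IsClosed ({y} : Set ↥Y) → topologicalKrullDim ↥(f.base ⁻¹' {y}) = d) :
    IrreducibleSpace ↥X ∧ topologicalKrullDim ↥X = d + topologicalKrullDim ↥Y := by
  subst hf
  obtain ⟨Z0, hZ0, hd0⟩ := Groth.Agent.DimLib.exists_dominant_component qY f fun y hy => (hirr y hy).nonempty
  have hdom : ∀ Z ∈ irreducibleComponents X, Dense (f.base '' Z) := by
    intro Z hZ
    obtain ⟨η, hη⟩ := QuasiSober.sober (S := Z) hZ.1 (isClosed_of_mem_irreducibleComponents Z hZ)
    have e1 := (Groth.Agent.DimLib.topologicalKrullDim_component_eq qY f d hirr hdim hZ).2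
    have e0 := (Groth.Agent.DimLib.topologicalKrullDim_component_eq qY f d hirr hdim hZ0).2
    have e01 : topologicalKrullDim Z = topologicalKrullDim Z0 := (hpure Z hZ).trans (hpure Z0 hZ0).symm
    have huniv : IsGenericPoint (genericPoint Y) (closure (f.base '' Z0)) := by
      rw [hd0.closure_eq]; exact genericPoint_spec Y
    rw [e1, e0, Groth.Agent.DimLib.topologicalKrullDim_eq_ptDim_of_isGenericPoint qY (hη.image f.continuous),
      Groth.Agent.DimLib.topologicalKrullDim_eq_ptDim_of_isGenericPoint qY huniv] at e01
    norm_cast at e01
    have heq : genericPoint Y = f η := by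
      by_contra hne
      have := Groth.Agent.DimLib.ptDim_lt_of_specializes qY (genericPoint_specializes (f η)) hne
      omega
    refine dense_iff_closure_eq.2 ?_
    rw [← (hη.image f.continuous).def]
    show closure {f η} = Set.univ
    rw [← heq]; exact (genericPoint_spec Y).def
  have : IrreducibleSpace X := by
    refine (irreducibleSpace_def X).2 ?_
    have hall : ∀ x : X, x ∈ Z0 := fun x => by
      rw [← Groth.Agent.DimLib.component_unique_of_irreducible_fibres qY f Set.univ isOpen_univ Set.univ_nonempty
        (fun y _ => hirr y) (irreducibleComponent_mem_irreducibleComponents x) hZ0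
        (hdom _ (irreducibleComponent_mem_irreducibleComponents x)) hd0]
      exact mem_irreducibleComponent
    rw [Set.top_eq_univ, ← Set.eq_univ_of_forall hall]; exact hZ0.1
  refine ⟨this, ?_⟩
  obtain ⟨-, e0⟩ := Groth.Agent.DimLib.topologicalKrullDim_component_eq qY f d hirr hdim hZ0
  rw [hpure Z0 hZ0, hd0.closure_eq] at e0
  rw [e0, IsHomeomorph.topologicalKrullDim_eq _ (Homeomorph.Set.univ Y).isHomeomorph]

end Groth.Agent.S14370
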