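import Groth.Statements.S14371
import Mathlib
import Groth.Prelude
import Groth.Agent.CAlgH3.RegularCore

set_option linter.all false

set_option autoImplicit false
universe u
open CAlg


open IsLocalRing

namespace Groth.Agent.S14371

theorem exists_few_generators {R : Type u} [CommRing R] [IsRegularLocalRing R] (I : Ideal R)
    [IsRegularLocalRing (R ⧸ I)] (n a : ℕ) (hn : ringKrullDim R = n) (ha : ringKrullDim (R ⧸ I) = a) :
    ∃ rs : List R, Ideal.ofList rs = I ∧ rs.length + a = n := by
  obtain ⟨rs, hlen, hspan, c, hc, hI⟩ := Groth.Agent.CAlgH3.exists_sop_of_regular_quotient _ R rfl I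
  have hreg := Groth.Agent.CAlgH3.isRegular_of_ofList_eq_maximalIdeal rs hspan hlen
  have hw : RingTheory.Sequence.IsWeaklyRegular R (rs.take c) := by
    have h := hreg.toIsWeaklyRegular
    rw [← List.take_append_drop c rs, RingTheory.Sequence.isWeaklyRegular_append_iff] at h
    exact h.1
  have hr : RingTheory.Sequence.IsRegular R (rs.take c) := by
    refine ⟨hw, fun h => ?_⟩
    rw [smul_eq_mul, Ideal.mul_top, ← hI] at h
    exact not_subsingleton (R ⧸ I) (Ideal.Quotient.subsingleton_iff.2 h.symm)
  have h := ringKrullDim_add_length_eq_ringKrullDim_of_isRegular (rs.take c) hr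
  rw [← hI, ha, hn] at h
  exact ⟨rs.take c, hI.symm, by rw [add_comm]; exact_mod_cast h⟩

/-- Let R be a regular local ring of dimension n with maximal ideal m and residue field κ, and I, J
ideals of R such that R/I and R/J are regular local rings of dimensions a and b (two subvarieties
smooth at the point). Suppose the quotient R/(I + J) is local with cotangent space m/(m² + I + J) of
dimension a + b − n over κ (the tangent spaces of the two subvarieties meet in the expected
dimension, i.e. they intersect transversally at the point). Then R/(I + J) is a regular local ring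
of dimension a + b − n; in particular I + J is a prime ideal. (The published statement is about the
local rings of a smooth variety over an algebraically closed field at a point where two smooth
closed subvarieties meet transversally, and also states the resulting equalities of tangent spaces
and of ideals; this row is the local-ring form, for an arbitrary regular local ring.) -/
theorem result {R : Type u} [CommRing R] [IsRegularLocalRing R]
    (I J : Ideal R) [IsRegularLocalRing (R ⧸ I)] [IsRegularLocalRing (R ⧸ J)] [IsLocalRing (R ⧸ (I ⊔ J))]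
    (n a b : ℕ) (hn : ringKrullDim R = n) (ha : ringKrullDim (R ⧸ I) = a) (hb : ringKrullDim (R ⧸ J) = b)
    (ht : Module.finrank (IsLocalRing.ResidueField (R ⧸ (I ⊔ J))) (IsLocalRing.CotangentSpace (R ⧸ (I ⊔ J))) + n = a + b) :
    IsRegularLocalRing (R ⧸ (I ⊔ J)) ∧ ringKrullDim (R ⧸ (I ⊔ J)) = ((a + b - n : ℕ) : WithBot ℕ∞) := by
  classical
  obtain ⟨rs, hrs, hlen⟩ := exists_few_generators I n a hn ha
  haveI : IsNoetherianRing (R ⧸ (I ⊔ J)) := inferInstance
  let I' : Ideal (R ⧸ J) := I.map (Ideal.Quotient.mk J)
  have hI' : I'.spanFinrank ≤ rs.length := by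
    rw [show I' = Ideal.span ((Ideal.Quotient.mk J) '' {x | x ∈ rs}) by rw [← Ideal.map_span, ← Ideal.ofList, hrs]]
    refine (Submodule.spanFinrank_span_le_ncard_of_finite (Set.Finite.image _ rs.finite_toSet)).trans ?_
    refine (Set.ncard_image_le rs.finite_toSet).trans ?_
    rw [show {x | x ∈ rs} = (rs.toFinset : Set R) by simp, Set.ncard_coe_finset]
    exact rs.toFinset_card_le
  have hne : I' ≠ ⊤ := by
    intro h
    have h1 : I ⊔ J = ⊤ := by
      have := congrArg (Ideal.comap (Ideal.Quotient.mk J)) h
      rwa [Ideal.comap_top, Ideal.comap_map_of_surjective' _ Ideal.Quotient.mk_surjective, Ideal.mk_ker] at this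
    exact not_subsingleton (R ⧸ (I ⊔ J)) (Ideal.Quotient.subsingleton_iff.2 h1)
  have hdim : ringKrullDim ((R ⧸ J) ⧸ I') = ringKrullDim (R ⧸ (I ⊔ J)) := by
    rw [ringKrullDim_eq_of_ringEquiv (DoubleQuot.quotQuotEquivQuotSup J I), sup_comm]
  have hineq := ringKrullDim_le_ringKrullDim_quotient_add_spanFinrank (I := I') (by
    rw [IsLocalRing.ringJacobson_eq_maximalIdeal]; exact le_maximalIdeal hne)
  rw [hdim, hb] at hineq
  have hct : Module.finrank (IsLocalRing.ResidueField (R ⧸ (I ⊔ J))) (IsLocalRing.CotangentSpace (R ⧸ (I ⊔ J))) = (maximalIdeal (R ⧸ (I ⊔ J))).spanFinrank :=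
    (spanFinrank_maximalIdeal_eq_finrank_cotangentSpace _).symm
  rw [hct] at ht
  have hup := ringKrullDim_le_spanFinrank_maximalIdeal (R := R ⧸ (I ⊔ J))
  obtain ⟨D, hD⟩ : ∃ D : ℕ, ringKrullDim (R ⧸ (I ⊔ J)) = D := Groth.Agent.CAlgH3.exists_nat_eq_of_le_spanFinrank hup
  rw [hD] at hup hineq
  have h1 : D ≤ (maximalIdeal (R ⧸ (I ⊔ J))).spanFinrank := by exact_mod_cast hup
  have h2 : b ≤ D + I'.spanFinrank := by exact_mod_cast hineq
  refine ⟨IsRegularLocalRing.of_spanFinrank_maximalIdeal_le _ ?_, ?_⟩
  · rw [hD]; exact_mod_cast (show (maximalIdeal (R ⧸ (I ⊔ J))).spanFinrank ≤ D by omega)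
  · rw [hD]; exact_mod_cast (show D = a + b - n by omega)

end Groth.Agent.S14371
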