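import Groth.Statements.S14372
import Mathlib
import Groth.Agent.DimLib.Algebra
-- import your own Groth.Agent.* helpers here

set_option autoImplicit false
universe u
open Fano

namespace Groth.Agent.S14372

theorem chain {k : Type u} [CommRing k] {σ τ : Type} [Fintype σ] [DecidableEq σ] (w : σ → MvPolynomial τ k) (j : τ)
    (g : MvPolynomial σ k) :
    MvPolynomial.pderiv j (MvPolynomial.aeval w g) =
      ∑ i, MvPolynomial.aeval w (MvPolynomial.pderiv i g) * MvPolynomial.pderiv j (w i) := by
  induction g using MvPolynomial.induction_on with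
  | C a => simp
  | add p q hp hq => simp only [map_add, hp, hq, add_mul, Finset.sum_add_distrib]
  | mul_X p i hp =>
    have h1 : ∀ l, MvPolynomial.aeval w (MvPolynomial.pderiv l (p * MvPolynomial.X i)) * MvPolynomial.pderiv j (w l) =
        MvPolynomial.aeval w (MvPolynomial.pderiv l p) * MvPolynomial.pderiv j (w l) * w i +
          MvPolynomial.aeval w p * (if l = i then MvPolynomial.pderiv j (w l) else 0) := by
      intro l
      rw [MvPolynomial.pderiv_mul, map_add, map_mul, map_mul, MvPolynomial.aeval_X]
      by_cases h : l = i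
      · subst h
        rw [MvPolynomial.pderiv_X_self, map_one, if_pos rfl]; ring
      · rw [MvPolynomial.pderiv_X_of_ne (fun e => h e.symm), map_zero, if_neg h]; ring
    rw [Finset.sum_congr rfl fun l _ => h1 l, Finset.sum_add_distrib, ← Finset.sum_mul, ← Finset.mul_sum,
      Finset.sum_ite_eq' Finset.univ i, if_pos (Finset.mem_univ i), ← hp, map_mul, MvPolynomial.aeval_X,
      MvPolynomial.pderiv_mul]

/-- Over an algebraically closed field k of arbitrary characteristic, let f be a homogeneous form of
degree d ≥ 2 in n + 1 variables and U a linear subspace of k^(n+1) on which f vanishes, such that at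
every nonzero vector of U some partial derivative of f does not vanish (the hypersurface f = 0 in
P^n contains the r-plane P(U), r + 1 = dim U, and is smooth at every point of it). Then 2 · dim U ≤
n + 1, i.e. r ≤ (n − 1)/2. (The published statement assumes the hypersurface smooth everywhere; this
row assumes smoothness only along P(U).) -/
theorem result (k : Type u) [Field k] [IsAlgClosed k]
    (n d : ℕ) (hd : 2 ≤ d) (f : MvPolynomial (Fin (n + 1)) k) (hf : f.IsHomogeneous d)
    (U : Submodule k (Fin (n + 1) → k)) (hU : ∀ u ∈ U, MvPolynomial.eval u f = 0)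
    (hsm : ∀ u ∈ U, u ≠ 0 → ∃ i : Fin (n + 1), MvPolynomial.eval u (MvPolynomial.pderiv i f) ≠ 0) :
    2 * Module.finrank k ↥U ≤ n + 1 := by
  classical
  set m := Module.finrank k ↥U
  let b := Module.finBasis k ↥U
  let u : Fin (n + 1) → MvPolynomial (Fin m) k := fun i => ∑ j, MvPolynomial.C ((b j : Fin (n + 1) → k) i) * MvPolynomial.X j
  let P : Fin (n + 1) → MvPolynomial (Fin m) k := fun i => MvPolynomial.aeval u (MvPolynomial.pderiv i f)
  have hev : ∀ (y : Fin m → k) (g : MvPolynomial (Fin (n + 1)) k),
      MvPolynomial.eval y (MvPolynomial.aeval u g) = MvPolynomial.eval ((∑ j, y j • b j : ↥U) : Fin (n + 1) → k) g := by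
    intro y g
    induction g using MvPolynomial.induction_on with
    | C a => simp
    | add p q hp hq => simp only [map_add, hp, hq]
    | mul_X p i hp =>
      rw [map_mul, map_mul, map_mul, hp, MvPolynomial.aeval_X, MvPolynomial.eval_X]
      congr 1
      simp [u, mul_comm]
      rfl
  have hzero : MvPolynomial.aeval u f = 0 := MvPolynomial.funext fun y => by
    rw [hev, map_zero]
    exact hU _ (∑ j, y j • b j : ↥U).2
  have hchain : ∀ (g : MvPolynomial (Fin (n + 1)) k) (j : Fin m),
      MvPolynomial.pderiv j (MvPolynomial.aeval u g) =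
        ∑ i, MvPolynomial.aeval u (MvPolynomial.pderiv i g) * MvPolynomial.C ((b j : Fin (n + 1) → k) i) := by
    intro g j
    rw [chain u j g]
    refine Finset.sum_congr rfl fun i _ => ?_
    congr 1
    simp [u, MvPolynomial.pderiv_X, Pi.single_apply]
  let L : (Fin (n + 1) → k) →ₗ[k] MvPolynomial (Fin m) k := Fintype.linearCombination k P
  have hker : U ≤ LinearMap.ker L := by
    intro v hv
    have : (⟨v, hv⟩ : ↥U) ∈ Submodule.span k (Set.range b) := by rw [b.span_eq]; trivial
    have hle : Submodule.span k (Set.range b) ≤ (LinearMap.ker L).comap U.subtype := by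
      rw [Submodule.span_le]
      rintro _ ⟨j, rfl⟩
      have := hchain f j
      rw [hzero, map_zero] at this
      simp only [SetLike.mem_coe, Submodule.mem_comap, LinearMap.mem_ker, Submodule.coe_subtype, L,
        Fintype.linearCombination_apply]
      rw [this]
      exact Finset.sum_congr rfl fun i _ => by rw [Algebra.smul_def, mul_comm]; rfl
    exact hle this
  have hrk : Module.finrank k (LinearMap.range L) + m ≤ n + 1 := by
    have h1 := LinearMap.finrank_range_add_finrank_ker L
    have h2 : m ≤ Module.finrank k (LinearMap.ker L) := Submodule.finrank_mono hker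
    simp at h1
    omega
  let B := Module.finBasis k (LinearMap.range L)
  let G : Finset (MvPolynomial (Fin m) k) := Finset.univ.image fun i => (B i : MvPolynomial (Fin m) k)
  let I : Ideal (MvPolynomial (Fin m) k) := Ideal.span (G : Set _)
  have hP : ∀ i, P i ∈ I := by
    intro i
    have hm : P i ∈ LinearMap.range L := ⟨Pi.single i 1, by simp [L, Fintype.linearCombination_apply, Pi.single_apply]⟩
    have := congrArg Subtype.val (B.sum_repr ⟨P i, hm⟩)
    simp only at this
    rw [← this, AddSubmonoidClass.coe_finsetSum]
    refine Ideal.sum_mem _ fun j _ => ?_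
    rw [SetLike.val_smul, Algebra.smul_def]
    exact Ideal.mul_mem_left _ _ (Ideal.subset_span (Finset.mem_image_of_mem _ (Finset.mem_univ j)))
  have h0 : ∀ i, MvPolynomial.eval (0 : Fin m → k) (P i) = 0 := by
    intro i
    rw [hev, Finset.sum_eq_zero (fun j _ => by simp), ZeroMemClass.coe_zero, MvPolynomial.eval_zero,
      MvPolynomial.constantCoeff_eq, MvPolynomial.coeff_pderiv, zero_add,
      hf.coeff_eq_zero (by simp [Finsupp.degree_single]; omega), zero_mul]
  have hL0 : ∀ p ∈ LinearMap.range L, MvPolynomial.eval (0 : Fin m → k) p = 0 := by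
    rintro p ⟨v, rfl⟩
    rw [Fintype.linearCombination_apply, map_sum]
    exact Finset.sum_eq_zero fun i _ => by rw [MvPolynomial.smul_eval, h0, mul_zero]
  let M : Ideal (MvPolynomial (Fin m) k) := RingHom.ker (MvPolynomial.eval (0 : Fin m → k))
  haveI hM : M.IsMaximal := RingHom.ker_isMaximal_of_surjective _ fun a => ⟨MvPolynomial.C a, by simp⟩
  have hIM : I ≤ M := by
    rw [Ideal.span_le]
    intro p hp
    obtain ⟨j, -, rfl⟩ := Finset.mem_image.1 hp
    exact hL0 _ (B j).2
  have hmin : M ∈ I.minimalPrimes := by
    refine ⟨⟨hM.isPrime, hIM⟩, fun Q hQ _ => ?_⟩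
    have hrad : M ≤ I.radical := by
      rw [← MvPolynomial.vanishingIdeal_zeroLocus_eq_radical (K := k)]
      intro p hp x hx
      have hx0 : x = 0 := by
        by_contra hne
        have hne' : (∑ j, x j • b j : ↥U) ≠ 0 := fun h => hne (by
          ext j
          have := congrArg (fun w => b.repr w j) h
          simpa [Module.Basis.repr_self, Finsupp.single_apply] using this)
        obtain ⟨i, hi⟩ := hsm _ (∑ j, x j • b j : ↥U).2 (fun h => hne' (Subtype.ext h))
        apply hi
        rw [← hev]
        exact hx _ (hP i)
      subst hx0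
      exact hp
    exact hrad.trans (hQ.1.radical_le_iff.2 hQ.2)
  have hht := Ideal.height_le_card_of_mem_minimalPrimes_span_finset hmin
  rw [Groth.Agent.DimLib.height_eq_of_isMaximal_mvPolynomial] at hht
  have hcard : G.card ≤ Module.finrank k (LinearMap.range L) :=
    Finset.card_image_le.trans (by simp)
  have : m ≤ G.card := by exact_mod_cast hht
  omega

end Groth.Agent.S14372
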