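import Groth.Statements.S14373
import Groth.Agent.Gen15.Forms
-- import your own Groth.Agent.* helpers here

set_option autoImplicit false
universe u
open Fano
open Groth.Agent.Gen15

namespace Groth.Agent.S14373

/-- Over an algebraically closed field k of arbitrary characteristic, let d ≥ 2 and let U be a linear
subspace of k^(n+1) with 2 · dim U ≤ n + 1 (an r-plane P(U) in P^n with r ≤ (n − 1)/2). Let W be the
linear space of degree-d forms in n + 1 variables vanishing on U (hypersurfaces of degree d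
containing P(U)). Then a general member G of W defines a smooth hypersurface: for G outside the zero
set of some nonzero polynomial function on W, at every nonzero vector where G vanishes some partial
derivative of G is nonzero. -/
theorem result (k : Type u) [Field k] [IsAlgClosed k]
    (n d : ℕ) (hd : 2 ≤ d) (U : Submodule k (Fin (n + 1) → k)) (hU : 2 * Module.finrank k ↥U ≤ n + 1)
    (W : Submodule k (LefPen.Form n k d)) (hW : ∀ G : LefPen.Form n k d, G ∈ W ↔ ∀ u ∈ U, MvPolynomial.eval u G.1 = 0) :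
    LefPen.IsGeneric k {G : ↥W | ∀ v : Fin (n + 1) → k, v ≠ 0 → MvPolynomial.eval v G.1.1 = 0 →
      ∃ i : Fin (n + 1), MvPolynomial.eval v (MvPolynomial.pderiv i G.1.1) ≠ 0} := by
  classical
  obtain ⟨Cm, hCm⟩ := Submodule.exists_isCompl U
  set u' := Module.finrank k ↥U with hu'
  set r := Module.finrank k ↥Cm with hr'
  let bU := Module.finBasis k ↥U
  let bC := Module.finBasis k ↥Cm
  obtain ⟨e, heU, hrU⟩ : ∃ e : Module.Basis (Fin u' ⊕ Fin r) k (Fin (n + 1) → k),
      (∀ a, e (Sum.inl a) ∈ U) ∧ ∀ v ∈ U, ∀ b, e.repr v (Sum.inr b) = 0 :=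
    ⟨(bU.prod bC).map (Submodule.prodEquivOfIsCompl U Cm hCm), fun a => by simp, fun v hv b => by
      simp [Submodule.prodEquivOfIsCompl_symm_apply_left U Cm hCm ⟨v, hv⟩]⟩
  have hcard : u' + r = n + 1 := by
    have := Module.finrank_eq_card_basis e
    simp at this
    omega
  have hPmem : ∀ (i c : Fin u' ⊕ Fin r), (lform e i ^ (d - 1) * lform e c).IsHomogeneous d := fun i c => by
    have h := ((lform_isHomogeneous e i).pow (d - 1)).mul (lform_isHomogeneous e c)
    rwa [one_mul, Nat.sub_add_cancel (by omega : 1 ≤ d)] at h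
  have hDP : ∀ (i c b : Fin u' ⊕ Fin r), b ≠ i →
      dirD e b (lform e i ^ (d - 1) * lform e c) = lform e i ^ (d - 1) * (if b = c then 1 else 0) := by
    intro i c b hb
    rw [Derivation.leibniz, Derivation.leibniz_pow, dirD_lform, dirD_lform, if_neg hb]
    simp
  haveI : Module.Free k ↥W := Module.Free.of_divisionRing k ↥W
  let N := Module.finrank k ↥W
  let bW : Module.Basis (Fin N) k ↥W := Module.finBasis k ↥W
  let Bad : (Fin (n + 1) → k) → ↥W → Prop := fun v G => MvPolynomial.eval v G.1.1 = 0 ∧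
    ∀ i, MvPolynomial.eval v (MvPolynomial.pderiv i G.1.1) = 0
  have hD0 : ∀ v G, Bad v G → ∀ b, MvPolynomial.eval v (dirD e b G.1.1) = 0 := fun v G h b => by
    rw [dirD_eq, map_sum]
    exact Finset.sum_eq_zero fun i _ => by rw [map_mul, h.2 i, mul_zero]
  -- chart: one coordinate equal to one
  have hvpoly : ∀ (w : (Fin u' ⊕ Fin r) → k) (a : Fin (n + 1)),
      e.equivFun.symm w a = ∑ c, w c * e c a := fun w a => by
    rw [Module.Basis.equivFun_symm_apply, Finset.sum_apply]; rfl
  have chartA : ∀ j : Fin r, ∃ Φ : MvPolynomial (Fin N) k, Φ ≠ 0 ∧ ∀ G,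
      MvPolynomial.eval (fun a => bW.repr G a) Φ ≠ 0 → ∀ v, e.repr v (Sum.inr j) = 1 → ¬ Bad v G := by
    intro j
    let J : Fin u' ⊕ Fin r := Sum.inr j
    let wt : ({b // b ≠ J} → k) → (Fin u' ⊕ Fin r) → k := fun t c => if h : c = J then 1 else t ⟨c, h⟩
    obtain ⟨vt, hrepr, hvt, hvv⟩ : ∃ vt : ({b // b ≠ J} → k) → Fin (n + 1) → k,
        (∀ t c, e.repr (vt t) c = wt t c) ∧ (∀ a, IsPolyIn (fun t => vt t a)) ∧
        ∀ v, e.repr v J = 1 → vt (fun c => e.repr v c.1) = v := by
      refine ⟨fun t => e.equivFun.symm (wt t), fun t c => ?_, fun a => ?_, fun v hv => ?_⟩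
      · rw [← e.equivFun_apply, LinearEquiv.apply_symm_apply]
      · simp only [hvpoly]
        refine IsPolyIn.sum _ fun c => IsPolyIn.mul ?_ (IsPolyIn.const _)
        by_cases h : c = J
        · simpa [wt, h] using IsPolyIn.const (σ := {b // b ≠ J}) (1 : k)
        · exact ⟨MvPolynomial.X ⟨c, h⟩, fun t => by simp [wt, h]⟩
      · rw [LinearEquiv.symm_apply_eq]
        funext c
        rw [e.equivFun_apply]
        by_cases h : c = J
        · simp only [wt, dif_pos h]; rw [h, hv]
        · simp [wt, h]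
    let P : Fin u' ⊕ Fin r → ↥W := fun c => ⟨⟨lform e J ^ (d - 1) * lform e c, hPmem J c⟩,
      (hW _).2 fun x hx => by
        show MvPolynomial.eval x (lform e J ^ (d - 1) * lform e c) = 0
        rw [map_mul, map_pow, eval_lform, hrU x hx j, zero_pow (by omega), zero_mul]⟩
    obtain ⟨φ, hφJ, hφb⟩ : ∃ φ : ({b // b ≠ J} → k) → Fin u' ⊕ Fin r → Module.Dual k ↥W,
        (∀ t G, φ t J G = MvPolynomial.eval (vt t) G.1.1 -
          ∑ c : {b // b ≠ J}, t c * MvPolynomial.eval (vt t) (dirD e c.1 G.1.1)) ∧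
        (∀ t b G, b ≠ J → φ t b G = MvPolynomial.eval (vt t) (dirD e b G.1.1)) :=
      ⟨fun t b => (if b = J then pval d (vt t) - ∑ c : {b // b ≠ J}, t c • dval e d c.1 (vt t)
        else dval e d b (vt t)) ∘ₗ W.subtype,
        fun t G => by simp [LinearMap.sum_apply], fun t b G hb => by simp [hb]⟩
    have hval : ∀ t b c, b ≠ J →
        MvPolynomial.eval (vt t) (dirD e b (lform e J ^ (d - 1) * lform e c)) = if b = c then 1 else 0 := by
      intro t b c hb
      rw [hDP J c b hb, map_mul, map_pow, eval_lform, hrepr, show wt t J = 1 by simp [wt]]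
      split_ifs <;> simp
    obtain ⟨Φ, hΦ0, hΦ⟩ := pivot_avoid P φ (fun b G => by
        by_cases hb : b = J
        · subst hb
          simp only [hφJ]
          exact (IsPolyIn.eval hvt _).sub (IsPolyIn.sum _ fun c =>
            IsPolyIn.mul ⟨MvPolynomial.X c, fun t => MvPolynomial.eval_X c⟩ (IsPolyIn.eval hvt _))
        · simp only [hφb _ b G hb]
          exact IsPolyIn.eval hvt _)
      (fun t b c => by
        by_cases hb : b = J
        · subst hb
          rw [hφJ]
          show MvPolynomial.eval (vt t) (lform e J ^ (d - 1) * lform e c) -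
            ∑ x : {b // b ≠ J}, t x *
              MvPolynomial.eval (vt t) (dirD e x.1 (lform e J ^ (d - 1) * lform e c)) = _
          rw [map_mul, map_pow, eval_lform, eval_lform, hrepr, hrepr, show wt t J = 1 by simp [wt],
            one_pow, one_mul]
          rcases eq_or_ne c J with hc | hc
          · rw [if_pos hc.symm, Finset.sum_eq_zero (fun x _ => ?_), sub_zero]
            · simp [wt, hc]
            · rw [hval t x.1 c x.2, if_neg (hc ▸ x.2), mul_zero]
          · rw [if_neg (Ne.symm hc), Finset.sum_eq_single ⟨c, hc⟩]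
            · rw [hval t c c hc, if_pos rfl]
              simp [wt, hc]
            · intro x _ hx
              rw [hval t x.1 c x.2, if_neg (fun h => hx (Subtype.ext h)), mul_zero]
            · simp
        · rw [hφb _ b _ hb]
          exact hval t b c hb)
      (by rw [Fintype.card_subtype_compl, Fintype.card_subtype_eq]; simp; omega) bW
    refine ⟨Φ, hΦ0, fun G hG v hv hbad => hΦ G hG (fun c => e.repr v c.1) fun b => ?_⟩
    have hvv := hvv v hv
    by_cases hb : b = J
    · rw [hb]; refine (hφJ _ G).trans ?_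
      rw [hvv, hbad.1, zero_sub, neg_eq_zero]
      exact Finset.sum_eq_zero fun c _ => by rw [hD0 v G hbad, mul_zero]
    · refine (hφb _ b G hb).trans ?_
      rw [hvv]; exact hD0 v G hbad b
  have chartB : ∀ i : Fin u', ∃ Φ : MvPolynomial (Fin N) k, Φ ≠ 0 ∧ ∀ G,
      MvPolynomial.eval (fun a => bW.repr G a) Φ ≠ 0 → ∀ v ∈ U, e.repr v (Sum.inl i) = 1 → ¬ Bad v G := by
    intro i
    let wt : ({a // a ≠ i} → k) → (Fin u' ⊕ Fin r) → k := fun t =>
      Sum.elim (fun c => if h : c = i then 1 else t ⟨c, h⟩) (fun _ => 0)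
    obtain ⟨vt, hrepr, hvt, hvv⟩ : ∃ vt : ({a // a ≠ i} → k) → Fin (n + 1) → k,
        (∀ t c, e.repr (vt t) c = wt t c) ∧ (∀ a, IsPolyIn (fun t => vt t a)) ∧
        ∀ v, (∀ b, e.repr v (Sum.inr b) = 0) → e.repr v (Sum.inl i) = 1 →
          vt (fun c => e.repr v (Sum.inl c.1)) = v := by
      refine ⟨fun t => e.equivFun.symm (wt t), fun t c => ?_, fun a => ?_, fun v h0 hv => ?_⟩
      · rw [← e.equivFun_apply, LinearEquiv.apply_symm_apply]
      · simp only [hvpoly]
        refine IsPolyIn.sum _ fun c => IsPolyIn.mul ?_ (IsPolyIn.const _)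
        cases c with
        | inr c => simpa [wt] using IsPolyIn.const (σ := {a // a ≠ i}) (0 : k)
        | inl c =>
          by_cases h : c = i
          · simpa [wt, h] using IsPolyIn.const (σ := {a // a ≠ i}) (1 : k)
          · exact ⟨MvPolynomial.X ⟨c, h⟩, fun t => by simp [wt, h]⟩
      · rw [LinearEquiv.symm_apply_eq]
        funext c
        rw [e.equivFun_apply]
        cases c with
        | inr c => simp [wt, h0 c]
        | inl c =>
          by_cases h : c = i
          · simp only [wt, Sum.elim_inl, dif_pos h]; rw [h, hv]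
          · simp [wt, h]
    let P : Fin r → ↥W := fun c => ⟨⟨lform e (Sum.inl i) ^ (d - 1) * lform e (Sum.inr c), hPmem _ _⟩,
      (hW _).2 fun x hx => by
        show MvPolynomial.eval x (lform e (Sum.inl i) ^ (d - 1) * lform e (Sum.inr c)) = 0
        rw [map_mul, eval_lform e (Sum.inr c), hrU x hx c, mul_zero]⟩
    let φ : ({a // a ≠ i} → k) → Fin r → Module.Dual k ↥W := fun t b =>
      dval e d (Sum.inr b) (vt t) ∘ₗ W.subtype
    obtain ⟨Φ, hΦ0, hΦ⟩ := pivot_avoid P φ (fun b G => by
        simp only [φ, LinearMap.comp_apply, dval_apply]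
        exact IsPolyIn.eval hvt _)
      (fun t b c => by
        simp only [φ, P, LinearMap.comp_apply, dval_apply, Submodule.coe_subtype]
        rw [hDP _ _ _ (by simp), map_mul, map_pow, eval_lform, hrepr]
        simp only [wt, Sum.elim_inl, dif_pos, one_pow, one_mul, Sum.inr.injEq]
        split_ifs <;> simp)
      (by rw [Fintype.card_subtype_compl, Fintype.card_subtype_eq]; simp; have := i.isLt; omega) bW
    refine ⟨Φ, hΦ0, fun G hG v hvU hv hbad => hΦ G hG (fun c => e.repr v (Sum.inl c.1)) fun b => ?_⟩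
    have hvv := hvv v (hrU v hvU) hv
    simp only [φ, LinearMap.comp_apply, dval_apply]
    rw [hvv]; exact hD0 v G hbad _
  choose ΦA hA0 hA using chartA
  choose ΦB hB0 hB using chartB
  refine isGeneric_of_basis bW ((∏ j, ΦA j) * ∏ i, ΦB i)
    (mul_ne_zero (Finset.prod_ne_zero_iff.2 fun j _ => hA0 j)
      (Finset.prod_ne_zero_iff.2 fun i _ => hB0 i)) fun G hG v hv0 hv => ?_
  rw [map_mul, map_prod, map_prod, mul_ne_zero_iff, Finset.prod_ne_zero_iff,
    Finset.prod_ne_zero_iff] at hG
  by_contra hbad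
  push Not at hbad
  have hscale : ∀ s : k, Bad (s • v) G := fun s => by
    refine ⟨?_, fun i => ?_⟩
    · rw [eval_smul_form G.1.2, hv, mul_zero]
    · rw [eval_smul_form (MvPolynomial.IsHomogeneous.pderiv G.1.2), hbad i, mul_zero]
  by_cases hex : ∃ j, e.repr v (Sum.inr j) ≠ 0
  · obtain ⟨j, hj⟩ := hex
    refine hA j G (hG.1 j (Finset.mem_univ _)) ((e.repr v (Sum.inr j))⁻¹ • v) ?_ (hscale _)
    simp [hj]
  · push Not at hex
    have hvU : v ∈ U := by
      rw [← e.sum_repr v, Fintype.sum_sum_type]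
      simp only [hex, zero_smul, Finset.sum_const_zero, add_zero]
      exact Submodule.sum_mem _ fun a _ => U.smul_mem _ (heU a)
    obtain ⟨i, hi⟩ : ∃ i, e.repr v (Sum.inl i) ≠ 0 := by
      by_contra h
      push Not at h
      refine hv0 (e.repr.injective (Finsupp.ext fun c => ?_))
      cases c with
      | inl a => simp [h a]
      | inr a => simp [hex a]
    refine hB i G (hG.2 i (Finset.mem_univ _)) ((e.repr v (Sum.inl i))⁻¹ • v) (U.smul_mem _ hvU) ?_
      (hscale _)
    simp [hi]

end Groth.Agent.S14373
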