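import Groth.Statements.S14374
import Groth.Agent.CommAlg4.Discriminant
-- import your own Groth.Agent.* helpers here

set_option autoImplicit false
universe u
open Fano

namespace Groth.Agent.S14374

/-- Over an algebraically closed field k of arbitrary characteristic, let n ≥ 1 and d ≥ 2, and call a
degree-d form G in n + 1 variables singular when there is a nonzero vector v with G(v) = 0 and all
partial derivatives ∂G/∂x_i(v) = 0 (the hypersurface G = 0 in P^n has a singular point, or G = 0).
Then the singular forms are exactly the zero set of one irreducible polynomial function Δ on the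
vector space of degree-d forms: the locus of singular hypersurfaces is an irreducible hypersurface
in the parameter space. (The published statement concerns the reduced hypersurfaces in the
projective space of degree-d forms, where the singular ones form an irreducible closed subset of
codimension one, and allows every positive degree; for d = 1 no hyperplane is singular, so this row
assumes d ≥ 2, and it is stated on the affine space of all forms.) -/
theorem result (k : Type u) [Field k] [IsAlgClosed k]
    (n d : ℕ) (hn : 1 ≤ n) (hd : 2 ≤ d) :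
    ∃ Δ : ↥(Algebra.adjoin k (Set.range (fun l : Module.Dual k (LefPen.Form n k d) => (l : LefPen.Form n k d → k)))),
      Irreducible Δ ∧ ∀ G : LefPen.Form n k d,
        (∃ v : Fin (n + 1) → k, v ≠ 0 ∧ MvPolynomial.eval v G.1 = 0 ∧
          ∀ i : Fin (n + 1), MvPolynomial.eval v (MvPolynomial.pderiv i G.1) = 0) ↔ Δ.1 G = 0 := by
  classical
  obtain ⟨d, rfl⟩ : ∃ e, d = e + 2 := ⟨d - 2, by omega⟩
  open Groth.Agent.CommAlg4 MvPolynomial in
  obtain ⟨P, hirr, hker⟩ := Discriminant.exists_irreducible_disc (k := k) (n := n) (d := d) hn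
  open Groth.Agent.CommAlg4.NoLinear Groth.Agent.CommAlg4 MvPolynomial in
  have key : ∀ (Ψ : MvPolynomial (Mon n (d + 2)) k →ₐ[k]
      ↥(Algebra.adjoin k (Set.range (fun l : Module.Dual k (LefPen.Form n k (d + 2)) =>
        (l : LefPen.Form n k (d + 2) → k))))), Function.Bijective Ψ →
      (∀ Q G, (Ψ Q).1 G = eval (fun e => coeff e.1 G.1) Q) →
      ∃ Δ : ↥(Algebra.adjoin k (Set.range (fun l : Module.Dual k (LefPen.Form n k (d + 2)) =>
        (l : LefPen.Form n k (d + 2) → k)))),
        Irreducible Δ ∧ ∀ G : LefPen.Form n k (d + 2),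
          (∃ v : Fin (n + 1) → k, v ≠ 0 ∧ MvPolynomial.eval v G.1 = 0 ∧
            ∀ i : Fin (n + 1), MvPolynomial.eval v (MvPolynomial.pderiv i G.1) = 0) ↔ Δ.1 G = 0 := by
    intro Ψ hΨ happly
    refine ⟨Ψ P, (MulEquiv.irreducible_iff (AlgEquiv.ofBijective Ψ hΨ).toMulEquiv).2 hirr, fun G => ?_⟩
    rw [happly]
    exact Discriminant.sing_iff_eval_eq_zero hker ((mem_homogeneousSubmodule _ _).1 G.2)
  open Groth.Agent.CommAlg4.NoLinear Groth.Agent.CommAlg4 MvPolynomial in
  refine key ((formFun (k := k) (n := n) (d := d + 2)).codRestrict _ fun Q => formFun_isPolyFun Q) ⟨?_, ?_⟩ fun Q G => formFun_apply Q G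
  · intro a b hab
    refine MvPolynomial.funext fun w => ?_
    let G : LefPen.Form n k (d + 2) := ⟨Discriminant.formOf w,
      (mem_homogeneousSubmodule _ _).2 (Discriminant.isHomogeneous_formOf w)⟩
    have h1 := congrFun (congrArg Subtype.val hab) G
    change formFun a G = formFun b G at h1
    rw [formFun_apply, formFun_apply] at h1
    have hw : (fun e : Mon n (d + 2) => coeff e.1 G.1) = w := funext fun e => by
      simp [G, Discriminant.formOf, coeff_sum, coeff_C_mul, coeff_monomial, Finset.sum_ite_eq', Subtype.coe_inj]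
    rwa [hw] at h1
  · rintro ⟨f, hf⟩
    obtain ⟨Q, hQ⟩ : ∃ Q, formFun Q = f := by
      induction hf using Algebra.adjoin_induction with
      | mem x hx =>
        obtain ⟨l, rfl⟩ := hx
        refine ⟨∑ e : Mon n (d + 2), C (l ⟨monomial e.1 1,
          (mem_homogeneousSubmodule _ _).2 (isHomogeneous_monomial _ e.2)⟩) * X e, funext fun G => ?_⟩
        rw [formFun_apply]
        have hG : G = ∑ e : Mon n (d + 2), coeff e.1 G.1 • (⟨monomial e.1 1,
            (mem_homogeneousSubmodule _ _).2 (isHomogeneous_monomial _ e.2)⟩ : LefPen.Form n k (d + 2)) := by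
          refine Subtype.ext ((Discriminant.formOf_coeff ((mem_homogeneousSubmodule _ _).1 G.2)).symm.trans ?_)
          simp [Discriminant.formOf, C_mul']
        show _ = l G
        conv_rhs => rw [hG, map_sum]
        simp only [map_sum, map_mul, eval_C, eval_X, map_smul, smul_eq_mul, mul_comm]
      | algebraMap r => exact ⟨C r, funext fun G => by rw [formFun_apply]; simp [Pi.algebraMap_apply]⟩
      | add x y _ _ hx hy =>
        obtain ⟨a, rfl⟩ := hx
        obtain ⟨b, rfl⟩ := hy
        exact ⟨a + b, map_add _ _ _⟩
      | mul x y _ _ hx hy =>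
        obtain ⟨a, rfl⟩ := hx
        obtain ⟨b, rfl⟩ := hy
        exact ⟨a * b, map_mul _ _ _⟩
    exact ⟨Q, Subtype.ext hQ⟩

end Groth.Agent.S14374
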