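import Groth.Statements.S14375
import Mathlib.AlgebraicGeometry.AlgClosed.Basic
import Mathlib.AlgebraicGeometry.Morphisms.UniversallyOpen

set_option autoImplicit false
universe u
open CategoryTheory CategoryTheory.Limits AlgebraicGeometry
open Variety

namespace Groth.Agent.S14375

/-- The local statement: open, with irreducible fibres over closed points, surjective. -/
theorem local_step (k : Type u) [Field k] [IsAlgClosed k] {V F : Scheme.{u}} (qV : V ⟶ Spec (CommRingCat.of k))
    (qF : F ⟶ Spec (CommRingCat.of k)) [LocallyOfFiniteType qV] [IrreducibleSpace ↥F] :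
    IsOpenMap (pullback.fst qV qF) ∧ Function.Surjective (pullback.fst qV qF) ∧
      ∀ v : V, IsClosed ({v} : Set V) → IsPreirreducible ((pullback.fst qV qF) ⁻¹' {v}) := by
  have : Surjective qF := ⟨fun s => ⟨Classical.arbitrary F, Subsingleton.elim _ _⟩⟩
  refine ⟨(pullback.fst qV qF).isOpenMap, (pullback.fst qV qF).surjective, fun v hv => ?_⟩
  let pt := pointOfClosedPoint qV v hv
  let s : F ⟶ pullback qV qF := pullback.lift (qF ≫ pt) (𝟙 F) (by simp [pt])
  have hs : IsPullback s qF (pullback.fst qV qF) pt := by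
    refine IsPullback.of_right ?_ (pullback.lift_fst _ _ _) (IsPullback.of_hasPullback qV qF).flip
    have h1 : pt ≫ qV = 𝟙 _ := pointOfClosedPoint_comp qV v hv
    rw [h1, pullback.lift_snd]
    exact (IsPullback.id_vert qF).flip
  have hr : Set.range s = pullback.fst qV qF ⁻¹' {v} := by
    have h := Scheme.image_preimage_eq_of_isPullback hs.flip Set.univ
    have hp : Set.range pt = {v} := by
      ext z; constructor
      · rintro ⟨a, rfl⟩; exact pointOfClosedPoint_apply qV v hv a
      · rintro rfl; exact ⟨Classical.arbitrary _, pointOfClosedPoint_apply qV z hv _⟩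
    simpa [Set.image_univ, hp] using h
  rw [← hr, ← Set.image_univ]
  exact (IrreducibleSpace.isIrreducible_univ F).isPreirreducible.image _ s.continuous.continuousOn

/-- Let k be an algebraically closed field, F an irreducible scheme of finite type over k, and f : X → Y
a k-morphism of schemes of finite type over k with Y irreducible which is locally trivial with fibre
F: every point of Y has an open neighbourhood V such that f⁻¹(V) is isomorphic over V to V ×_k F.
Then X is irreducible. (The published statement is for varieties, i.e. reduced separated schemes;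
this row assumes neither.) -/
theorem result (k : Type u) [Field k] [IsAlgClosed k]
    {X Y F : Scheme.{u}} (qX : X ⟶ Spec (CommRingCat.of k)) (qY : Y ⟶ Spec (CommRingCat.of k))
    (qF : F ⟶ Spec (CommRingCat.of k))
    [LocallyOfFiniteType qX] [QuasiCompact qX] [LocallyOfFiniteType qY] [QuasiCompact qY]
    [LocallyOfFiniteType qF] [QuasiCompact qF] [IrreducibleSpace ↥F] [IrreducibleSpace ↥Y]
    (f : X ⟶ Y) (hf : f ≫ qY = qX)
    (htriv : ∀ y : ↥Y, ∃ V : Y.Opens, y ∈ V ∧
      ∃ e : (↑(f ⁻¹ᵁ V) : Scheme.{u}) ≅ pullback (V.ι ≫ qY) qF, e.hom ≫ pullback.fst (V.ι ≫ qY) qF = f ∣_ V) :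
    IrreducibleSpace ↥X := by
  have hloc : ∀ y : Y, ∃ V : Y.Opens, y ∈ V ∧ IsOpenMap (f ∣_ V) ∧ Function.Surjective (f ∣_ V) ∧
      ∀ v : (V : Scheme.{u}), IsClosed ({v} : Set (V : Scheme.{u})) → IsPreirreducible ((f ∣_ V) ⁻¹' {v}) := by
    intro y
    obtain ⟨V, hy, e, he⟩ := htriv y
    obtain ⟨h1, h2, h3⟩ := local_step k (V.ι ≫ qY) qF
    refine ⟨V, hy, ?_, ?_, fun v hv => ?_⟩
    · rw [← he, Scheme.Hom.comp_base, TopCat.coe_comp]; exact h1.comp e.hom.homeomorph.isOpenMap
    · rw [← he, Scheme.Hom.comp_base, TopCat.coe_comp]; exact h2.comp e.hom.homeomorph.surjective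
    · rw [← he, Scheme.Hom.comp_base, TopCat.coe_comp, Set.preimage_comp]
      exact (h3 v hv).preimage_of_isPreirreducible_fiber _ e.hom.homeomorph.isOpenMap
        (fun z => (Set.subsingleton_singleton.preimage e.hom.homeomorph.injective).isPreirreducible)
  have hopen : IsOpenMap f := by
    intro U hU
    rw [isOpen_iff_forall_mem_open]
    rintro _ ⟨x, hx, rfl⟩
    obtain ⟨V, hy, ho, -, -⟩ := hloc (f x)
    have hU' : IsOpen ((f ⁻¹ᵁ V).ι ⁻¹' U) := hU.preimage (f ⁻¹ᵁ V).ι.continuous
    refine ⟨V.ι '' ((f ∣_ V) '' ((f ⁻¹ᵁ V).ι ⁻¹' U)), ?_,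
      V.ι.isOpenEmbedding.isOpenMap _ (ho _ hU'), ⟨_, ⟨⟨x, hy⟩, hx, rfl⟩, ?_⟩⟩
    · rintro _ ⟨_, ⟨a, ha, rfl⟩, rfl⟩
      exact ⟨_, ha, by rw [← Scheme.Hom.comp_apply, ← Scheme.Hom.comp_apply, morphismRestrict_ι]⟩
    · exact (Scheme.Hom.comp_apply (f ∣_ V) V.ι _).symm.trans (show (f ∣_ V ≫ V.ι) _ = f x by rw [morphismRestrict_ι]; rfl)
  have hfib : closedPoints Y ⊆ {y | IsPreirreducible (f ⁻¹' {y})} := by
    intro y hy
    obtain ⟨V, hyV, -, -, h3⟩ := hloc y
    have hv : IsClosed ({⟨y, hyV⟩} : Set (V : Scheme.{u})) := by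
      have := hy.preimage V.ι.continuous
      have e : V.ι ⁻¹' ({y} : Set Y) = {⟨y, hyV⟩} := by
        ext z; exact ⟨fun h => Subtype.ext h, fun h => congrArg Subtype.val h⟩
      rwa [e] at this
    have := (h3 _ hv).image (f ⁻¹ᵁ V).ι (f ⁻¹ᵁ V).ι.continuous.continuousOn
    show IsPreirreducible (f ⁻¹' {y})
    convert this using 1
    ext x; constructor
    · intro hx
      exact ⟨⟨x, show f x ∈ V from (hx : f x = y) ▸ hyV⟩, Subtype.ext (by
        show (V.ι ((f ∣_ V) _)) = y
        refine (Scheme.Hom.comp_apply (f ∣_ V) V.ι _).symm.trans ?_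
        rw [morphismRestrict_ι]; exact hx), rfl⟩
    · rintro ⟨z, hz, rfl⟩
      show f ((f ⁻¹ᵁ V).ι z) = y
      rw [← Scheme.Hom.comp_apply, ← morphismRestrict_ι, Scheme.Hom.comp_apply, hz]; rfl
  have : JacobsonSpace Y := LocallyOfFiniteType.jacobsonSpace qY
  have hne : Nonempty X := by
    obtain ⟨y⟩ : Nonempty Y := inferInstance
    obtain ⟨V, hy, -, hs, -⟩ := hloc y
    obtain ⟨z, -⟩ := hs ⟨y, hy⟩
    exact ⟨(f ⁻¹ᵁ V).ι z⟩
  have : PreirreducibleSpace X := ⟨by
    have := IsPreirreducible.preimage_of_dense_isPreirreducible_fiber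
      (PreirreducibleSpace.isPreirreducible_univ (X := Y)) f hopen (by
        refine fun y _ => closure_mono (Set.inter_subset_inter_right _ hfib) ?_
        rw [Set.univ_inter, closure_closedPoints]; trivial)
    simpa using this⟩
  exact ⟨hne⟩

end Groth.Agent.S14375
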