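import Groth.Statements.S14376
import Groth.Agent.CubicSurface.Squarefree
import Mathlib
-- import your own Groth.Agent.* helpers here

set_option autoImplicit false
universe u
open Fano

namespace Groth.Agent.S14376


section aux
open MvPolynomial
variable {k : Type u} [Field k]

theorem injective_locus_open {V A B : Type u} [AddCommGroup V] [Module k V] [AddCommGroup A] [Module k A]
    [Module.Finite k A] [AddCommGroup B] [Module k B] (Φ : V →ₗ[k] A →ₗ[k] B) (v : V)
    (hv : Function.Injective (Φ v)) :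
    ∃ f : V → k, LefPen.IsPolyFun k f ∧ f v ≠ 0 ∧ ∀ w, f w ≠ 0 → Function.Injective (Φ w) := by
  classical
  let b := Module.finBasis k A
  obtain ⟨L, hL⟩ := (Φ v).exists_leftInverse_of_injective (LinearMap.ker_eq_bot.2 hv)
  let P : Subalgebra k (V → k) := Algebra.adjoin k (Set.range (fun l : Module.Dual k V => (l : V → k)))
  let M : Matrix (Fin (Module.finrank k A)) (Fin (Module.finrank k A)) P := fun i j =>
    ⟨fun w => LinearMap.toMatrix b b (L ∘ₗ Φ w) i j, Algebra.subset_adjoin
      ⟨(b.coord i).comp (L.comp ((LinearMap.applyₗ (b j)).comp Φ)), funext fun w => by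
        simp [LinearMap.toMatrix_apply]⟩⟩
  refine ⟨fun w => (LinearMap.toMatrix b b (L ∘ₗ Φ w)).det, ?_, ?_, ?_⟩
  · show _ ∈ P
    have : (fun w => (LinearMap.toMatrix b b (L ∘ₗ Φ w)).det) = (M.det : P).1 := by
      funext w
      exact ((((Pi.evalAlgHom k (fun _ : V => k) w).comp P.val).map_det M).trans rfl).symm
    rw [this]; exact (M.det).2
  · show (LinearMap.toMatrix b b (L ∘ₗ Φ v)).det ≠ 0
    rw [hL, LinearMap.toMatrix_id, Matrix.det_one]
    exact one_ne_zero
  · intro w hw
    have hdet : IsUnit (LinearMap.det (L ∘ₗ Φ w)) := isUnit_iff_ne_zero.2 (by rw [← LinearMap.det_toMatrix b]; exact hw)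
    have hb : IsUnit (L ∘ₗ Φ w) := (LinearMap.isUnit_iff_isUnit_det _).2 hdet
    exact Function.Injective.of_comp (f := L) ((Module.End.isUnit_iff _).1 hb).1

variable {σ : Type} [Fintype σ]

/-- directional derivative -/
noncomputable def dv (v : σ → k) : MvPolynomial σ k →ₗ[k] MvPolynomial σ k :=
  ∑ j, v j • (pderiv j : Derivation k (MvPolynomial σ k) (MvPolynomial σ k)).toLinearMap

theorem dv_apply (v : σ → k) (p : MvPolynomial σ k) : dv v p = ∑ j, v j • pderiv j p := by
  simp [dv]

theorem dv_mul (v : σ → k) (p q : MvPolynomial σ k) : dv v (p * q) = dv v p * q + p * dv v q := by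
  simp only [dv_apply, pderiv_mul, smul_add, Finset.sum_add_distrib, Finset.sum_mul, Finset.mul_sum, smul_mul_assoc,
    mul_smul_comm]

theorem dv_homog (v : σ → k) {p : MvPolynomial σ k} {n : ℕ} (hp : p.IsHomogeneous n) :
    (dv v p).IsHomogeneous (n - 1) := by
  rw [dv_apply]
  exact (homogeneousSubmodule σ k (n - 1)).sum_mem fun j _ =>
    (homogeneousSubmodule σ k (n - 1)).smul_mem _ hp.pderiv

theorem totalDegree_dv_lt (v : σ → k) (p : MvPolynomial σ k) (hne : dv v p ≠ 0) :
    (dv v p).totalDegree < p.totalDegree := by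
  obtain ⟨d, hd, hdeg⟩ : ∃ d ∈ (dv v p).support, (dv v p).totalDegree = d.degree := by
    obtain ⟨d, hd, e⟩ := Finset.exists_mem_eq_sup _ (MvPolynomial.support_nonempty.2 hne) fun s => Finsupp.degree s
    exact ⟨d, hd, e⟩
  rw [hdeg]
  rw [mem_support_iff, dv_apply, coeff_sum] at hd
  obtain ⟨j, -, hj⟩ := Finset.exists_ne_zero_of_sum_ne_zero hd
  rw [coeff_smul, coeff_pderiv, smul_eq_mul] at hj
  have h1 : d + Finsupp.single j 1 ∈ p.support := mem_support_iff.2 (left_ne_zero_of_mul (right_ne_zero_of_mul hj))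
  have h2 : (d + Finsupp.single j 1).degree ≤ p.totalDegree := le_totalDegree h1
  rw [map_add, Finsupp.degree_single] at h2
  omega

theorem exists_pderiv_ne_zero [IsAlgClosed k] {f : MvPolynomial σ k} (hf : Irreducible f) :
    ∃ j, pderiv j f ≠ 0 := by
  by_contra hc
  push Not at hc
  have h0 : ∀ d ∈ f.support, ∀ j, ((d j : ℕ) : k) = 0 := fun d hd j => by
    rcases Nat.eq_zero_or_pos (d j) with h | h
    · simp [h]
    have e := coeff_pderiv (i := j) f (d - Finsupp.single j 1)
    have hd' : d - Finsupp.single j 1 + Finsupp.single j 1 = d := by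
      classical
      exact tsub_add_cancel_of_le (Finsupp.single_le_iff.2 h)
    rw [hc, coeff_zero, hd', Finsupp.tsub_apply, Finsupp.single_eq_same, ← Nat.cast_add_one, Nat.sub_add_cancel h] at e
    exact (mul_eq_zero.1 e.symm).resolve_left (mem_support_iff.1 hd)
  obtain ⟨p, hp⟩ := CharP.exists k
  rcases CharP.char_is_prime_or_zero k p with hprime | hzero
  · haveI : Fact p.Prime := ⟨hprime⟩
    haveI : ExpChar k p := ExpChar.prime hprime
    let g : MvPolynomial σ k := ∑ d ∈ f.support,
      monomial (d.mapRange (fun x => x / p) (Nat.zero_div p)) (IsAlgClosed.exists_pow_nat_eq (f.coeff d) hprime.pos).choose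
    have hg : g ^ p = f := by
      show (∑ d ∈ f.support, _) ^ p = f
      rw [sum_pow_char p]
      conv_rhs => rw [f.as_sum]
      refine Finset.sum_congr rfl fun d hd => ?_
      rw [monomial_pow, (IsAlgClosed.exists_pow_nat_eq (f.coeff d) hprime.pos).choose_spec]
      congr 2
      ext j
      simp only [Finsupp.smul_apply, Finsupp.mapRange_apply, smul_eq_mul]
      exact Nat.mul_div_cancel' ((CharP.cast_eq_zero_iff k p _).1 (h0 d hd j))
    rcases hf.isUnit_or_isUnit (show f = g * g ^ (p - 1) by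
      rw [← pow_succ', Nat.sub_add_cancel hprime.pos, hg]) with h | h
    · exact hf.not_isUnit (hg ▸ h.pow p)
    · exact hf.not_isUnit (hg ▸ ((isUnit_pow_iff (by have := hprime.two_le; omega)).1 h).pow p)
  · subst hzero
    haveI : CharZero k := CharP.charP_to_charZero k
    classical
    refine hf.not_isUnit ?_
    have hC : f = C (f.coeff 0) := by
      ext d
      by_cases hd : d ∈ f.support
      · rw [show d = 0 from Finsupp.ext fun j => by simpa using h0 d hd j, coeff_zero_C]
      · rw [notMem_support_iff.1 hd, coeff_C]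
        split_ifs with h
        · rw [h]; exact (notMem_support_iff.1 hd).symm
        · rfl
    rw [hC]
    exact (isUnit_iff_ne_zero.2 fun h => hf.ne_zero (by rw [hC, h, map_zero])).map C

theorem exists_dir [IsAlgClosed k] {F : MvPolynomial σ k} (hsq : Squarefree F) :
    ∃ v : σ → k, IsRelPrime F (dv v F) := by
  classical
  have hF : F ≠ 0 := hsq.ne_zero
  have key : ∀ f ∈ UniqueFactorizationMonoid.factors F,
      ∃ Q : MvPolynomial σ k, Q ≠ 0 ∧ ∀ v, eval v Q ≠ 0 → dv v f ≠ 0 := fun f hf => by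
    obtain ⟨j, hj⟩ := exists_pderiv_ne_zero (UniqueFactorizationMonoid.irreducible_of_factor f hf)
    obtain ⟨m, hm⟩ := ne_zero_iff.1 hj
    refine ⟨∑ i, C (coeff m (pderiv i f)) * X i, fun hQ => hm ?_, fun v hv h0 => hv ?_⟩
    · have := congrArg (eval (Pi.single j (1 : k))) hQ
      simpa [Pi.single_apply] using this
    · have := congrArg (coeff m) h0
      rw [dv_apply, coeff_sum, coeff_zero] at this
      rw [map_sum, ← this]
      exact Finset.sum_congr rfl fun i _ => by rw [coeff_smul, smul_eq_mul, map_mul, eval_C, eval_X, mul_comm]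
  choose! Q hQ0 hQ using key
  let P := ∏ f ∈ (UniqueFactorizationMonoid.factors F).toFinset, Q f
  have hP : P ≠ 0 := Finset.prod_ne_zero_iff.2 fun f hf => hQ0 f (Multiset.mem_toFinset.1 hf)
  obtain ⟨v, hv⟩ : ∃ v, eval v P ≠ 0 := by
    by_contra h
    push Not at h
    exact hP (MvPolynomial.funext (p := P) (q := 0) (by simpa using h))
  refine ⟨v, fun d hdF hdD => ?_⟩
  by_contra hd
  have hd0 : d ≠ 0 := fun h => hF (zero_dvd_iff.1 (h ▸ hdF))
  obtain ⟨f, hf, hfd⟩ := WfDvdMonoid.exists_irreducible_factor hd hd0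
  obtain ⟨f', hf', hass⟩ := UniqueFactorizationMonoid.exists_mem_factors_of_dvd hF hf (hfd.trans hdF)
  obtain ⟨c, hc⟩ := hass.dvd_iff_dvd_left.1 (hfd.trans hdF)
  have hfD : f' ∣ dv v F := hass.dvd_iff_dvd_left.1 (hfd.trans hdD)
  have hp : Prime f' := UniqueFactorizationMonoid.prime_of_factor f' hf'
  have hne : dv v f' ≠ 0 := by
    rw [map_prod, Finset.prod_ne_zero_iff] at hv
    exact hQ f' hf' v (hv f' (Multiset.mem_toFinset.2 hf'))
  rw [hc, dv_mul] at hfD
  rcases hp.dvd_or_dvd ((dvd_add_left (dvd_mul_right f' _)).1 hfD) with ⟨e, he⟩ | ⟨e, he⟩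
  · have hlt := totalDegree_dv_lt v f' hne
    have he0 : e ≠ 0 := fun h => hne (by rw [he, h, mul_zero])
    rw [he, totalDegree_mul_of_isDomain hp.ne_zero he0] at hlt
    omega
  · exact hp.not_unit (hsq f' ⟨e, by rw [hc, he]; ring⟩)

variable {r : ℕ}

/-- `(A, B) ↦ A F + B D_v F` -/
noncomputable def pairMap (e : ℕ) (v : Fin (r + 1) → k) :
    LefPen.Form r k (e + 2) →ₗ[k] (LefPen.Form r k e × LefPen.Form r k (e + 1)) →ₗ[k] LefPen.Form r k (2 * e + 2) :=
  LinearMap.mk₂ k (fun F AB => ⟨AB.1.1 * F.1 + AB.2.1 * dv v F.1, by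
      refine IsHomogeneous.add ?_ ?_
      · have := IsHomogeneous.mul AB.1.2 F.2
        rwa [show e + (e + 2) = 2 * e + 2 by omega] at this
      · have := IsHomogeneous.mul AB.2.2 (dv_homog v F.2)
        rwa [show e + 1 + (e + 2 - 1) = 2 * e + 2 by omega] at this⟩)
    (fun F F' AB => Subtype.ext (by simp [map_add]; ring))
    (fun c F AB => Subtype.ext (by simp [map_smul, smul_add]))
    (fun F AB AB' => Subtype.ext (by simp; ring))
    (fun c F AB => Subtype.ext (by simp [smul_add]))

theorem pairMap_injective (e : ℕ) (v : Fin (r + 1) → k) (F : LefPen.Form r k (e + 2))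
    (hF : F.1 ≠ 0) (h : IsRelPrime F.1 (dv v F.1)) : Function.Injective (pairMap e v F) := by
  rw [injective_iff_map_eq_zero]
  rintro ⟨A, B⟩ hAB
  have e1 : A.1 * F.1 + B.1 * dv v F.1 = 0 := congrArg Subtype.val hAB
  have hdvd : F.1 ∣ B.1 := h.dvd_of_dvd_mul_right ⟨-A.1, by linear_combination e1⟩
  have hB : B.1 = 0 := by
    by_contra hB
    obtain ⟨c, hc⟩ := hdvd
    have h1 := IsHomogeneous.totalDegree (φ := B.1) B.2 hB
    rw [hc, totalDegree_mul_of_isDomain hF (right_ne_zero_of_mul (hc ▸ hB)), IsHomogeneous.totalDegree F.2 hF] at h1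
    omega
  have hA : A.1 = 0 := by
    rw [hB, zero_mul, add_zero] at e1
    exact (mul_eq_zero.1 e1).resolve_right hF
  exact Prod.ext (Subtype.ext hA) (Subtype.ext hB)

theorem squarefree_of_injective (e : ℕ) (v : Fin (r + 1) → k) (F : LefPen.Form r k (e + 2))
    (hinj : Function.Injective (pairMap e v F)) : Squarefree F.1 := by
  have key : ∀ (A B : MvPolynomial (Fin (r + 1)) k) (hA : A.IsHomogeneous e) (hB : B.IsHomogeneous (e + 1)),
      A * F.1 + B * dv v F.1 = 0 → A = 0 ∧ B = 0 := fun A B hA hB h => by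
    have := (injective_iff_map_eq_zero _).1 hinj (⟨A, hA⟩, ⟨B, hB⟩) (Subtype.ext h)
    exact ⟨congrArg (fun p => p.1.1) this, congrArg (fun p => p.2.1) this⟩
  have hX : ∀ i : ℕ, (X 0 ^ i : MvPolynomial (Fin (r + 1)) k).IsHomogeneous i := fun i => by
    simpa using (isHomogeneous_X k (0 : Fin (r + 1))).pow i
  by_cases hD : dv v F.1 = 0
  · exact absurd (key 0 (X 0 ^ (e + 1)) (isHomogeneous_zero _ _ _) (hX _) (by rw [hD]; ring)).2
      (pow_ne_zero _ (X_ne_zero _))
  have hF : F.1 ≠ 0 := fun h => hD (by rw [h, map_zero])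
  intro x hx
  by_contra hu
  obtain ⟨c, hc⟩ := hx
  rw [mul_assoc] at hc
  have hx0 : x ≠ 0 := fun h => hF (by rw [hc, h, zero_mul])
  have hxc : x * c ≠ 0 := right_ne_zero_of_mul (hc ▸ hF)
  obtain ⟨i, j, hij, hxi, hxcj⟩ := CubicSurface.isHomogeneous_of_mul (hc ▸ F.2 : (x * (x * c)).IsHomogeneous (e + 2)) hx0 hxc
  have hi : 1 ≤ i := by
    rcases i with _ | i
    · refine absurd ?_ hu
      have h0 := totalDegree_eq_zero_iff_eq_C.1 (IsHomogeneous.totalDegree hxi hx0)
      rw [h0]
      exact (isUnit_iff_ne_zero.2 fun h => hx0 (by rw [h0, h, map_zero])).map C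
    · omega
  have hD' : dv v F.1 = x * (dv v x * c + dv v (x * c)) := by rw [hc, dv_mul]; ring
  have hG : dv v x * c + dv v (x * c) ≠ 0 := fun h => hD (by rw [hD', h, mul_zero])
  obtain ⟨i', j', hij', hxi', hGj⟩ := CubicSurface.isHomogeneous_of_mul
    (hD' ▸ dv_homog v F.2 : (x * (dv v x * c + dv v (x * c))).IsHomogeneous (e + 2 - 1)) hx0 hG
  obtain rfl := hxi.inj_right hxi' hx0
  have h := key (X 0 ^ (i - 1) * (dv v x * c + dv v (x * c))) (-(X 0 ^ (i - 1) * (x * c)))
    (by have := (hX (i - 1)).mul hGj; rwa [show i - 1 + j' = e by omega] at this)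
    (by have := ((hX (i - 1)).mul hxcj).neg; rwa [show i - 1 + j = e + 1 by omega] at this)
    (by rw [hD', hc]; ring)
  exact mul_ne_zero (pow_ne_zero _ (X_ne_zero _)) hxc (neg_eq_zero.1 h.2)

theorem irreducible_linear {f : MvPolynomial σ k} (hf : f.IsHomogeneous 1) (h0 : f ≠ 0) : Irreducible f := by
  have hdeg := hf.totalDegree h0
  refine ⟨fun h => ?_, fun a b e => ?_⟩
  · rw [isUnit_iff_totalDegree_of_isReduced, hdeg] at h
    omega
  · have ha : a ≠ 0 := fun h => h0 (by rw [e, h, zero_mul])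
    have hb : b ≠ 0 := fun h => h0 (by rw [e, h, mul_zero])
    rw [e, totalDegree_mul_of_isDomain ha hb] at hdeg
    have unit : ∀ c : MvPolynomial σ k, c ≠ 0 → c.totalDegree = 0 → IsUnit c := fun c hc h => by
      rw [totalDegree_eq_zero_iff_eq_C.1 h] at hc ⊢
      exact (isUnit_iff_ne_zero.2 fun h' => hc (by rw [h', map_zero])).map C
    rcases Nat.eq_zero_or_pos a.totalDegree with h | h
    · exact .inl (unit a ha h)
    · exact .inr (unit b hb (by omega))

theorem exists_squarefree_form [Infinite k] (n d : ℕ) (hn : 1 ≤ n) :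
    ∃ F : LefPen.Form n k d, Squarefree F.1 := by
  classical
  let c : Fin d ↪ k := Fin.valEmbedding.trans (Infinite.natEmbedding k)
  let i0 : Fin (n + 1) := ⟨0, by omega⟩
  let i1 : Fin (n + 1) := ⟨1, by omega⟩
  have h01 : i0 ≠ i1 := by simp [i0, i1, Fin.ext_iff]
  let L : Fin d → MvPolynomial (Fin (n + 1)) k := fun i => X i0 + C (c i) * X i1
  have hL : ∀ i, (L i).IsHomogeneous 1 := fun i => (isHomogeneous_X k i0).add (isHomogeneous_C_mul_X _ _)
  have hev : ∀ i x, eval x (L i) = x i0 + c i * x i1 := fun i x => by simp [L]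
  have hL0 : ∀ i, L i ≠ 0 := fun i h => by
    have h2 := congrArg (eval (Pi.single i0 1)) h
    simp [hev, h01.symm] at h2
  refine ⟨⟨∏ i, L i, ?_⟩, ?_⟩
  · have h := IsHomogeneous.prod Finset.univ L (fun _ => 1) fun i _ => hL i
    rwa [Finset.sum_const, Finset.card_fin, smul_eq_mul, mul_one] at h
  · show Squarefree (∏ i, L i)
    refine Finset.squarefree_prod_of_pairwise_isCoprime ?_ fun i _ => (irreducible_linear (hL i) (hL0 i)).squarefree
    intro i _ j _ hij
    refine (irreducible_linear (hL i) (hL0 i)).isRelPrime_iff_not_dvd.2 fun hdvd => hij (c.injective ?_)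
    obtain ⟨u, hu⟩ := hdvd
    have := congrArg (eval (fun t => if t = i0 then -c i else 1)) hu
    rw [map_mul, hev, hev, if_pos rfl, if_neg h01.symm, mul_one, mul_one, neg_add_cancel, zero_mul] at this
    exact (neg_add_eq_zero.1 this)

end aux

/-- Over an algebraically closed field k, let n ≥ 1 and d ≥ 1. In the vector space of degree-d forms in
n + 1 variables, the forms F that are squarefree (equivalently, nonzero with (F) a radical ideal:
the reduced hypersurfaces of degree d in P^n) form a Zariski-open subset, and this subset is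
nonempty. (The published statement allows projective space of every dimension n; for n = 0 and d ≥ 2
there is no squarefree form of degree d, so this row assumes n ≥ 1.) -/
theorem result (k : Type u) [Field k] [IsAlgClosed k]
    (n d : ℕ) (hn : 1 ≤ n) (hd : 1 ≤ d) :
    LefPen.IsZOpen k {F : LefPen.Form n k d | Squarefree F.1} ∧
      ({F : LefPen.Form n k d | Squarefree F.1}).Nonempty := by
  classical
  refine ⟨?_, exists_squarefree_form n d hn⟩
  obtain rfl | ⟨e, rfl⟩ : d = 1 ∨ ∃ e, d = e + 2 :=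
    if h : d = 1 then .inl h else .inr ⟨d - 2, by omega⟩
  · intro F hF
    obtain ⟨m, hm⟩ := MvPolynomial.ne_zero_iff.1 (hF : Squarefree F.1).ne_zero
    refine ⟨fun G => MvPolynomial.coeff m G.1, Algebra.subset_adjoin
      ⟨(MvPolynomial.lcoeff k m).comp (Submodule.subtype _), rfl⟩, hm, fun G hG => ?_⟩
    exact (irreducible_linear G.2 (MvPolynomial.ne_zero_iff.2 ⟨m, hG⟩)).squarefree
  · intro F hF
    obtain ⟨v, hv⟩ := exists_dir (hF : Squarefree F.1)
    haveI : ∀ q : ℕ, Module.Finite k (LefPen.Form n k q) := fun q =>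
      Submodule.finiteDimensional_of_le (S₂ := MvPolynomial.restrictTotalDegree (Fin (n + 1)) k q) fun p hp =>
        (MvPolynomial.mem_restrictTotalDegree _ _ _).2 (MvPolynomial.IsHomogeneous.totalDegree_le hp)
    obtain ⟨f, hf, hf0, hfi⟩ := injective_locus_open (pairMap e v) F
      (pairMap_injective e v F (hF : Squarefree F.1).ne_zero hv)
    exact ⟨f, hf, hf0, fun G hG => squarefree_of_injective e v G (hfi G hG)⟩

end Groth.Agent.S14376
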