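import Groth.Statements.S14377
import Groth.Agent.DimLib.Algebra
import Mathlib

set_option autoImplicit false
universe u
open Variety Groth.Agent
set_option backward.isDefEq.respectTransparency.types false

namespace Groth.Agent.S14377

open Matrix in
theorem exists_basis_triangular (k : Type u) [Field k] : ∀ (d : ℕ) (V : Type u) [AddCommGroup V] [Module k V]
    [FiniteDimensional k V], Module.finrank k V = d → ∀ φ : Module.End k V, IsNilpotent φ →
      ∃ b : Module.Basis (Fin d) k V, ∀ i j, b.repr (φ (b j)) i ≠ 0 → i < j := by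
  intro d
  induction d using Nat.strong_induction_on with
  | _ d ih => ?_
  intro V _ _ _ hd φ hφ
  rcases Nat.eq_zero_or_pos d with h0 | hpos
  · subst h0
    exact ⟨Module.finBasisOfFinrankEq k V hd, fun i => i.elim0⟩
  let W : Submodule k V := LinearMap.range φ
  let m := Module.finrank k W
  have hm : m < d := by
    rw [← hd]
    refine Submodule.finrank_lt fun h => ?_
    have hs : Function.Surjective φ := LinearMap.range_eq_top.1 h
    obtain ⟨e, he⟩ := hφ
    have hpow : ∀ e : ℕ, Function.Surjective (φ ^ e : Module.End k V) := by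
      intro e
      induction e with
      | zero => exact fun v => ⟨v, rfl⟩
      | succ e ihe => rw [pow_succ]; exact ihe.comp hs
    haveI : Nontrivial V := Module.finrank_pos_iff.1 (hd ▸ hpos)
    obtain ⟨v, hv⟩ := exists_ne (0 : V)
    obtain ⟨w, hw⟩ := hpow e v
    exact hv (by rw [← hw, he]; rfl)
  let ψ : Module.End k W := φ.restrict fun v _ => LinearMap.mem_range_self φ v
  have hψ : IsNilpotent ψ := Module.End.isNilpotent.restrict _ hφ
  obtain ⟨b', hb'⟩ := ih m hm W rfl ψ hψ
  obtain ⟨C, hC⟩ := Submodule.exists_isCompl W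
  have hdC : Module.finrank k C = d - m := by
    have := Submodule.finrank_add_eq_of_isCompl hC
    simp only [m]
    omega
  let c := Module.finBasisOfFinrankEq k C hdC
  let b₀ := ((b'.prod c).map (Submodule.prodEquivOfIsCompl W C hC)).reindex
    (finSumFinEquiv.trans (finCongr (by omega : m + (d - m) = d)))
  refine ⟨b₀, fun i j hij => ?_⟩
  have hW : ∀ (w : W) (i : Fin d), b₀.repr (w : V) i ≠ 0 → ∃ i' : Fin m, (i : ℕ) = i' ∧ b'.repr w i' ≠ 0 := by
    intro w i hi
    have e1 : (Submodule.prodEquivOfIsCompl W C hC).symm (w : V) = (w, 0) :=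
      Submodule.prodEquivOfIsCompl_symm_apply_left W C hC w
    simp only [b₀, Module.Basis.repr_reindex, Module.Basis.map_repr, LinearEquiv.trans_apply, e1,
      Finsupp.mapDomain_equiv_apply] at hi
    rcases hs : (finSumFinEquiv.trans (finCongr (by omega : m + (d - m) = d))).symm i with i' | i'
    · refine ⟨i', ?_, ?_⟩
      · rw [Equiv.symm_apply_eq] at hs
        rw [hs]
        simp
      · rw [hs] at hi
        simpa using hi
    · rw [hs] at hi
      simp at hi
  obtain ⟨i', hi', hne⟩ := hW ⟨φ (b₀ j), LinearMap.mem_range_self φ _⟩ i hij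
  rcases lt_or_ge (j : ℕ) m with hj | hj
  · have hbj : b₀ j = (b' ⟨j, hj⟩ : V) := by
      simp only [b₀, Module.Basis.reindex_apply, Module.Basis.map_apply]
      rw [show (finSumFinEquiv.trans (finCongr (by omega : m + (d - m) = d))).symm j = Sum.inl ⟨j, hj⟩ from by
        rw [Equiv.symm_apply_eq]; ext; simp]
      simp
    have h1 : (⟨φ (b₀ j), LinearMap.mem_range_self φ _⟩ : W) = ψ (b' ⟨j, hj⟩) := Subtype.ext (congrArg φ hbj)
    rw [h1] at hne
    have h2 := hb' i' ⟨j, hj⟩ hne
    exact Fin.lt_def.2 (hi' ▸ Fin.lt_def.1 h2)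
  · exact Fin.lt_def.2 (hi' ▸ lt_of_lt_of_le i'.2 hj)

open Matrix in
theorem exists_conj_strictlyUpper {k : Type u} [Field k] {n : ℕ} (a : Matrix (Fin n) (Fin n) k)
    (ha : IsNilpotent a) : ∃ (g : (Matrix (Fin n) (Fin n) k)ˣ) (u : Matrix (Fin n) (Fin n) k),
      (∀ i j, ¬ i < j → u i j = 0) ∧ a = g.val * u * g⁻¹.val := by
  obtain ⟨b, hb⟩ := exists_basis_triangular k n (Fin n → k) (by simp) (Matrix.toLinAlgEquiv' a) (ha.map _)
  let e := Pi.basisFun k (Fin n)
  let φ : Module.End k (Fin n → k) := Matrix.toLinAlgEquiv' a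
  refine ⟨⟨e.toMatrix b, b.toMatrix e, e.toMatrix_mul_toMatrix_flip b, b.toMatrix_mul_toMatrix_flip e⟩,
    LinearMap.toMatrix b b φ, fun i j hij => ?_, ?_⟩
  · rw [LinearMap.toMatrix_apply]
    by_contra h
    exact hij (hb i j h)
  · show a = e.toMatrix b * LinearMap.toMatrix b b φ * b.toMatrix e
    rw [basis_toMatrix_mul_linearMap_toMatrix_mul_basis_toMatrix]
    exact (LinearMap.toMatrix'_toLin' a).symm

open MvPolynomial Matrix in
theorem charpoly_conj_strictlyUpper {R : Type u} [CommRing R] {n : ℕ} (g : (Matrix (Fin n) (Fin n) R)ˣ)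
    (u : Matrix (Fin n) (Fin n) R) (hu : ∀ i j, ¬ i < j → u i j = 0) :
    (g.val * u * g⁻¹.val).charpoly = Polynomial.X ^ n := by
  rw [show (g.val * u * g⁻¹.val).charpoly = u.charpoly from by
      rw [Matrix.charpoly_mul_comm, ← mul_assoc, Units.inv_mul, one_mul],
    Matrix.charpoly_of_upperTriangular u (fun i j h => hu i j h.not_gt)]
  simp [hu _ _ (lt_irrefl _)]


open MvPolynomial Matrix in
theorem mem_of_slice {k : Type u} [Field k] {n : ℕ} (Q : Ideal (MvPolynomial (Fin n × Fin n) k)) [Q.IsPrime]
    (hc : ∀ i : Fin n, (Matrix.mvPolynomialX (Fin n) (Fin n) k).charpoly.coeff (i : ℕ) ∈ Q)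
    (hoff : ∀ i j : Fin n, i ≠ j → (MvPolynomial.X (i, j) : MvPolynomial (Fin n × Fin n) k) ∈ Q)
    (p : MvPolynomial (Fin n × Fin n) k) (hp : MvPolynomial.aeval (R := k) (fun _ => (0 : k)) p = 0) : p ∈ Q := by
  let A : Matrix (Fin n) (Fin n) (MvPolynomial (Fin n × Fin n) k ⧸ Q) :=
    (Matrix.mvPolynomialX (Fin n) (Fin n) k).map (Ideal.Quotient.mk Q)
  have hA : A.charpoly = Polynomial.X ^ n := by
    refine Polynomial.ext fun i => ?_
    rw [Polynomial.coeff_X_pow]
    rcases lt_trichotomy i n with h | h | h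
    · rw [if_neg h.ne, Matrix.charpoly_map, Polynomial.coeff_map, Ideal.Quotient.eq_zero_iff_mem]
      exact hc ⟨i, h⟩
    · subst h
      rw [if_pos rfl]
      have h1 := A.charpoly_monic.leadingCoeff
      rwa [Polynomial.leadingCoeff, Matrix.charpoly_natDegree_eq_dim, Fintype.card_fin] at h1
    · rw [if_neg h.ne']
      exact Polynomial.coeff_eq_zero_of_natDegree_lt (by rwa [Matrix.charpoly_natDegree_eq_dim, Fintype.card_fin])
  rw [Matrix.charpoly_of_upperTriangular A
    (fun i j h => Ideal.Quotient.eq_zero_iff_mem.2 (hoff i j (ne_of_gt h)))] at hA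
  have hX : ∀ q : Fin n × Fin n, (MvPolynomial.X q : MvPolynomial (Fin n × Fin n) k) ∈ Q := by
    rintro ⟨i, j⟩
    rcases eq_or_ne i j with h | h
    · subst h
      have h1 := congrArg (Polynomial.eval (A i i)) hA
      rw [Polynomial.eval_prod, Finset.prod_eq_zero (Finset.mem_univ i) (by simp), Polynomial.eval_pow,
        Polynomial.eval_X] at h1
      exact Ideal.Quotient.eq_zero_iff_mem.1 (eq_zero_of_pow_eq_zero h1.symm)
    · exact hoff i j h
  have key : ∀ q : MvPolynomial (Fin n × Fin n) k,
      q - C (MvPolynomial.aeval (R := k) (fun _ => (0 : k)) q) ∈ Q := fun q => by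
    induction q using MvPolynomial.induction_on with
    | C a => simp
    | add a b ha hb => rw [map_add, map_add, add_sub_add_comm]; exact add_mem ha hb
    | mul_X a i _ =>
      rw [map_mul, MvPolynomial.aeval_X, mul_zero, map_zero, sub_zero]
      exact Ideal.mul_mem_left _ _ (hX i)
  have h2 := key p
  rwa [hp, map_zero, sub_zero] at h2


/-- Over an algebraically closed field k, let n ≥ 1 and let I be the ideal of the polynomial ring
k[x_ij] in the n² entries of the generic n × n matrix generated by the coefficients of t^0, …,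
t^(n−1) in its characteristic polynomial, so that the zero locus of I in the affine space of n × n
matrices is the set of nilpotent matrices. Then the spectrum of k[x_ij]/I is irreducible and
k[x_ij]/I has Krull dimension n² − n: the nilpotent matrices form an irreducible closed subvariety
of dimension n² − n of the space of all n × n matrices. -/
theorem result (k : Type u) [Field k] [IsAlgClosed k]
    (n : ℕ) (hn : 1 ≤ n) (I : Ideal (MvPolynomial (Fin n × Fin n) k))
    (hI : I = Ideal.span (Set.range (fun i : Fin n =>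
      (Matrix.charpoly (Matrix.mvPolynomialX (Fin n) (Fin n) k)).coeff (i : ℕ)))) :
    IrreducibleSpace (PrimeSpectrum (MvPolynomial (Fin n × Fin n) k ⧸ I)) ∧
      ringKrullDim (MvPolynomial (Fin n × Fin n) k ⧸ I) = ((n ^ 2 - n : ℕ) : WithBot ℕ∞) := by
  classical
  let P := MvPolynomial (Fin n × Fin n) k
  let σ := (Fin n × Fin n) ⊕ (Fin n × Fin n)
  let G : Matrix (Fin n) (Fin n) (MvPolynomial σ k) := fun i j => MvPolynomial.X (Sum.inl (i, j))
  let U : Matrix (Fin n) (Fin n) (MvPolynomial σ k) :=
    fun i j => if i < j then MvPolynomial.X (Sum.inr (i, j)) else 0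
  have hG : G.det ≠ 0 := by
    intro h
    have h1 := congrArg (MvPolynomial.aeval (R := k) (Sum.elim (fun p => (1 : Matrix (Fin n) (Fin n) k) p.1 p.2) 0)) h
    rw [AlgHom.map_det, map_zero] at h1
    have : (AlgHom.mapMatrix (MvPolynomial.aeval (R := k) (Sum.elim (fun p => (1 : Matrix (Fin n) (Fin n) k) p.1 p.2) 0))) G = 1 := by
      ext i j; simp [G]
    rw [this, Matrix.det_one] at h1
    exact one_ne_zero h1
  let Rd := Localization.Away G.det
  haveI : IsDomain Rd := IsLocalization.isDomain_localization (powers_le_nonZeroDivisors_of_noZeroDivisors hG)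
  let G' : Matrix (Fin n) (Fin n) Rd := G.map (algebraMap _ Rd)
  have hG' : IsUnit G' := by
    rw [Matrix.isUnit_iff_isUnit_det]
    have : G'.det = algebraMap _ Rd G.det := ((algebraMap (MvPolynomial σ k) Rd).map_det G).symm
    rw [this]
    exact IsLocalization.Away.algebraMap_isUnit _
  let U' : Matrix (Fin n) (Fin n) Rd := U.map (algebraMap _ Rd)
  have hU' : ∀ i j, ¬ i < j → U' i j = 0 := fun i j h => by simp [U', U, h]
  let M : Matrix (Fin n) (Fin n) Rd := (hG'.unit : Matrix (Fin n) (Fin n) Rd) * U' * hG'.unit⁻¹.val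
  let Φ : P →ₐ[k] Rd := MvPolynomial.aeval fun p => M p.1 p.2
  have hchar : ∀ {S : Type u} [CommRing S] [Algebra k S] (ev : P →ₐ[k] S) (i : ℕ),
      ev ((Matrix.mvPolynomialX (Fin n) (Fin n) k).charpoly.coeff i) =
        ((Matrix.mvPolynomialX (Fin n) (Fin n) k).map ev).charpoly.coeff i := fun ev i => by
    rw [show (Matrix.mvPolynomialX (Fin n) (Fin n) k).map ev = (Matrix.mvPolynomialX (Fin n) (Fin n) k).map ev.toRingHom from rfl,
      Matrix.charpoly_map, Polynomial.coeff_map]
    rfl
  have hIΦ : I ≤ RingHom.ker Φ.toRingHom := by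
    rw [hI, Ideal.span_le]
    rintro _ ⟨i, rfl⟩
    show Φ _ = 0
    rw [hchar Φ, show (Matrix.mvPolynomialX (Fin n) (Fin n) k).map Φ = M from by ext a b; exact MvPolynomial.aeval_X _ (a, b),
      charpoly_conj_strictlyUpper _ _ hU', Polynomial.coeff_X_pow, if_neg i.2.ne]
  have hrad : I.radical = RingHom.ker Φ.toRingHom := by
    refine le_antisymm ((RingHom.ker_isPrime Φ.toRingHom).isRadical.radical_le_iff.2 hIΦ) ?_
    rw [← MvPolynomial.vanishingIdeal_zeroLocus_eq_radical (K := k) I]
    intro p hp a ha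
    let A : Matrix (Fin n) (Fin n) k := fun i j => a (i, j)
    have hA : A.charpoly = Polynomial.X ^ n := by
      refine Polynomial.ext fun i => ?_
      rw [Polynomial.coeff_X_pow]
      rcases lt_trichotomy i n with h | h | h
      · rw [if_neg h.ne]
        have h1 := ha _ (show (Matrix.mvPolynomialX (Fin n) (Fin n) k).charpoly.coeff i ∈ I from hI ▸ Ideal.subset_span ⟨⟨i, h⟩, rfl⟩)
        rw [hchar (MvPolynomial.aeval a)] at h1
        rwa [show (Matrix.mvPolynomialX (Fin n) (Fin n) k).map (MvPolynomial.aeval a) = A from by ext; simp [A]] at h1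
      · subst h
        rw [if_pos rfl]
        have h1 := A.charpoly_monic.leadingCoeff
        rwa [Polynomial.leadingCoeff, A.charpoly_natDegree_eq_dim, Fintype.card_fin] at h1
      · rw [if_neg h.ne']
        exact Polynomial.coeff_eq_zero_of_natDegree_lt (by rwa [A.charpoly_natDegree_eq_dim, Fintype.card_fin])
    have hnil : IsNilpotent A := ⟨n, by
      have := A.aeval_self_charpoly
      rwa [hA, map_pow, Polynomial.aeval_X] at this⟩
    obtain ⟨g, u, hu, hA'⟩ := exists_conj_strictlyUpper A hnil
    let e₀ : MvPolynomial σ k →ₐ[k] k :=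
      MvPolynomial.aeval (Sum.elim (fun p => g.val p.1 p.2) (fun p => u p.1 p.2))
    have hGe : G.map e₀ = g.val := by ext i j; simp [G, e₀]
    have hUe : U.map e₀ = u := by
      ext i j
      by_cases h : i < j
      · simp [U, e₀, h]
      · simp [U, h, hu i j h]
    have hdet : IsUnit (e₀.toRingHom G.det) := by
      rw [RingHom.map_det]
      exact (Matrix.isUnit_iff_isUnit_det _).1 (by rw [RingHom.mapMatrix_apply]; exact hGe ▸ g.isUnit)
    let ε : Rd →+* k := IsLocalization.Away.lift G.det hdet
    have hε : ∀ x, ε (algebraMap _ Rd x) = e₀ x := fun x => IsLocalization.Away.lift_eq G.det hdet x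
    have hεG : G'.map ε = g.val := by
      rw [← hGe]; ext i j; exact hε _
    have hεU : U'.map ε = u := by
      rw [← hUe]; ext i j; exact hε _
    have hεGi : (hG'.unit⁻¹.val).map ε = g⁻¹.val := by
      refine (Units.eq_inv_of_mul_eq_one_left ?_)
      rw [← hεG, ← Matrix.map_mul, show G' * hG'.unit⁻¹.val = 1 from hG'.mul_val_inv]
      simp
    have hεM : M.map ε = A := by
      simp only [M]
      rw [Matrix.map_mul, Matrix.map_mul, IsUnit.unit_spec, hεG, hεU, hεGi, ← hA']
    have hev : ∀ q : P, ε (Φ q) = MvPolynomial.aeval a q := by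
      intro q
      have : ε.comp Φ.toRingHom = (MvPolynomial.aeval a).toRingHom := by
        refine MvPolynomial.ringHom_ext (fun c => ?_) fun p => ?_
        · show ε (Φ (MvPolynomial.C c)) = MvPolynomial.aeval a (MvPolynomial.C c)
          rw [← MvPolynomial.algebraMap_eq, Φ.commutes, AlgHom.commutes,
            IsScalarTower.algebraMap_apply k (MvPolynomial σ k) Rd, hε, AlgHom.commutes]
        · show ε (Φ (MvPolynomial.X p)) = MvPolynomial.aeval a (MvPolynomial.X p)
          rw [show Φ (MvPolynomial.X p) = M p.1 p.2 from MvPolynomial.aeval_X _ p, MvPolynomial.aeval_X]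
          exact congrFun (congrFun hεM p.1) p.2
      exact congrArg (fun f => f q) this
    rw [← hev, show Φ p = 0 from hp, map_zero]
  haveI hJ : I.radical.IsPrime := hrad ▸ RingHom.ker_isPrime Φ.toRingHom
  constructor
  · rw [PrimeSpectrum.irreducibleSpace_iff_isPrime_nilradical]
    have : nilradical (P ⧸ I) = I.radical.map (Ideal.Quotient.mk I) := by
      rw [nilradical, Ideal.map_radical_of_surjective Ideal.Quotient.mk_surjective (by rw [Ideal.mk_ker]),
        Ideal.map_quotient_self]
      rfl
    rw [this]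
    exact Ideal.map_isPrime_of_surjective Ideal.Quotient.mk_surjective (by rw [Ideal.mk_ker]; exact Ideal.le_radical)
  let J := I.radical
  have hdJ : ringKrullDim (P ⧸ I) = ringKrullDim (P ⧸ J) := by
    rw [ringKrullDim_quotient, ringKrullDim_quotient, PrimeSpectrum.zeroLocus_radical]
  rw [hdJ]
  obtain ⟨d, hd⟩ := DimLib.exists_nat_ringKrullDim (k := k) (A := P ⧸ J)
  have hP : ringKrullDim P = ((n ^ 2 : ℕ) : WithBot ℕ∞) := by
    rw [MvPolynomial.ringKrullDim_of_isNoetherianRing, ringKrullDim_eq_zero_of_field, zero_add, Nat.card_prod,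
      Nat.card_fin, sq]
  have hlow : J.height ≤ n := by
    have h0 := Ideal.height_le_card_of_mem_minimalPrimes_span_finset (p := J)
      (s := Finset.univ.image fun i : Fin n => (Matrix.mvPolynomialX (Fin n) (Fin n) k).charpoly.coeff (i : ℕ))
      (by
        rw [Finset.coe_image, Finset.coe_univ, Set.image_univ, ← hI]
        exact ⟨⟨hJ, Ideal.le_radical⟩, fun q hq _ => hq.1.isRadical.radical_le_iff.2 hq.2⟩)
    exact h0.trans (by exact_mod_cast Finset.card_image_le.trans (by simp))
  have hsum := DimLib.height_add_ringKrullDim_quotient (k := k) J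
  rw [hP, hd] at hsum
  -- the slice by the off-diagonal coordinates
  let m0 : Ideal P := RingHom.ker (MvPolynomial.aeval (R := k) (fun _ : Fin n × Fin n => (0 : k))).toRingHom
  haveI hm0 : m0.IsMaximal := RingHom.ker_isMaximal_of_surjective _ fun c => ⟨MvPolynomial.C c, MvPolynomial.aeval_C _ c⟩
  have hJm : J ≤ m0 := by
    refine hm0.isPrime.isRadical.radical_le_iff.2 ?_
    rw [hI, Ideal.span_le]
    rintro _ ⟨i, rfl⟩
    show MvPolynomial.aeval _ _ = (0 : k)
    rw [hchar, show (Matrix.mvPolynomialX (Fin n) (Fin n) k).map (MvPolynomial.aeval (R := k) fun _ => (0 : k)) = 0 from by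
        ext; simp,
      Matrix.charpoly_zero, Polynomial.coeff_X_pow, Fintype.card_fin, if_neg i.2.ne]
  let s : Finset (P ⧸ J) := ((Finset.univ.filter fun p : Fin n × Fin n => p.1 ≠ p.2).image
    fun p => Ideal.Quotient.mk J (MvPolynomial.X p))
  let mb : Ideal (P ⧸ J) := m0.map (Ideal.Quotient.mk J)
  haveI hmb : mb.IsMaximal := Ideal.IsMaximal.map_of_surjective_of_ker_le Ideal.Quotient.mk_surjective (by rw [Ideal.mk_ker]; exact hJm)
  have hsm : (s : Set (P ⧸ J)) ⊆ mb := by
    intro z hz
    obtain ⟨p, -, rfl⟩ := Finset.mem_image.1 hz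
    exact Ideal.mem_map_of_mem _ (MvPolynomial.aeval_X _ p)
  have hzero : ringKrullDim ((P ⧸ J) ⧸ Ideal.span (s : Set (P ⧸ J))) ≤ 0 := by
    haveI : Subsingleton (PrimeSpectrum ((P ⧸ J) ⧸ Ideal.span (s : Set (P ⧸ J)))) := by
      refine ⟨fun x y => ?_⟩
      have key : ∀ x : PrimeSpectrum ((P ⧸ J) ⧸ Ideal.span (s : Set (P ⧸ J))),
          x.asIdeal = mb.map (Ideal.Quotient.mk _) := by
        intro x
        let π : P →+* (P ⧸ J) ⧸ Ideal.span (s : Set (P ⧸ J)) := (Ideal.Quotient.mk _).comp (Ideal.Quotient.mk J)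
        have hπ : Function.Surjective π := Ideal.Quotient.mk_surjective.comp Ideal.Quotient.mk_surjective
        haveI := x.isPrime
        have hm : m0 ≤ x.asIdeal.comap π := by
          intro p hp
          refine mem_of_slice _ (fun i => ?_) (fun i j h => ?_) p hp
          · show Ideal.Quotient.mk _ (Ideal.Quotient.mk J _) ∈ x.asIdeal
            rw [Ideal.Quotient.eq_zero_iff_mem.2 (Ideal.le_radical (hI ▸ Ideal.subset_span ⟨i, rfl⟩ : _ ∈ I)), map_zero]
            exact zero_mem _
          · show Ideal.Quotient.mk _ (Ideal.Quotient.mk J _) ∈ x.asIdeal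
            rw [Ideal.Quotient.eq_zero_iff_mem.2 (Ideal.subset_span (Finset.mem_coe.2 (Finset.mem_image_of_mem
              (fun p => Ideal.Quotient.mk J (MvPolynomial.X p)) (show (i, j) ∈ _ from by simp [h]))))]
            exact zero_mem _
        rw [← Ideal.map_comap_of_surjective π hπ x.asIdeal, ← hm0.eq_of_le (Ideal.IsPrime.ne_top inferInstance) hm,
          show mb = m0.map (Ideal.Quotient.mk J) from rfl, Ideal.map_map]
      exact PrimeSpectrum.ext ((key x).trans (key y).symm)
    exact Order.krullDim_nonpos_of_subsingleton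
  have hcard : s.card ≤ n ^ 2 - n := by
    refine Finset.card_image_le.trans (le_of_eq ?_)
    have h1 : (Finset.univ.filter fun p : Fin n × Fin n => p.1 = p.2).card = n := by
      rw [show (Finset.univ.filter fun p : Fin n × Fin n => p.1 = p.2) = Finset.univ.image (fun i => (i, i)) from by
        ext ⟨a, b⟩; simp [eq_comm], Finset.card_image_of_injective _ (fun a b h => (Prod.mk.inj h).1), Finset.card_fin]
    have h2 := Finset.card_filter_add_card_filter_not (s := (Finset.univ : Finset (Fin n × Fin n))) (fun p => p.1 = p.2)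
    rw [h1, Finset.card_univ, Fintype.card_prod, Fintype.card_fin] at h2
    rw [sq]
    simp only [ne_eq]
    omega
  have hup : (mb.height : WithBot ℕ∞) ≤ ((n ^ 2 - n : ℕ) : WithBot ℕ∞) := by
    refine (Ideal.height_le_ringKrullDim_quotient_add_encard (s : Set (P ⧸ J)) hsm).trans ?_
    rw [Set.encard_coe_eq_coe_finsetCard]
    calc _ ≤ (0 : WithBot ℕ∞) + ((s.card : ℕ) : WithBot ℕ∞) := add_le_add hzero le_rfl
      _ ≤ _ := by rw [zero_add]; exact_mod_cast hcard
  rw [DimLib.height_eq_of_isMaximal (k := k) mb, hd] at hup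
  obtain ⟨h, hh⟩ := ENat.ne_top_iff_exists.1 (Ideal.height_ne_top_of_isPrime (I := J))
  rw [← hh] at hsum hlow
  have e1 : h + d = n ^ 2 := by exact_mod_cast hsum
  have e2 : h ≤ n := by exact_mod_cast hlow
  have e3 : d ≤ n ^ 2 - n := by exact_mod_cast hup
  rw [hd]
  have : d = n ^ 2 - n := by omega
  rw [this]

end Groth.Agent.S14377
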