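import Groth.Statements.S14379
import Mathlib
import Groth.Agent.DimLib.Algebra

set_option linter.all false

set_option autoImplicit false
open scoped TensorProduct
universe u
open CAlg

open TensorProduct

namespace Groth.Agent.S14379

section
open MvPolynomial
variable {k : Type*} [Field k] {A : Type*} [CommRing A] [Algebra k A]

/-- Nagata's substitution, with a free choice of the (large) base. -/
theorem nagata {m : ℕ} (f : MvPolynomial (Fin (m + 1)) k) (hf : f ≠ 0) (z : Fin (m + 1) → A)
    (hz : aeval z f = 0) {B : ℕ} (hB : f.totalDegree + 2 ≤ B) :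
    IsIntegral (Algebra.adjoin k (Set.range fun i : Fin m => z i.succ - z 0 ^ B ^ (i.val + 1))) (z 0) := by
  classical
  set A0 := Algebra.adjoin k (Set.range fun i : Fin m => z i.succ - z 0 ^ B ^ (i.val + 1)) with hA0
  rcases subsingleton_or_nontrivial A with hA | hA
  · exact ⟨1, Polynomial.monic_one, Subsingleton.elim _ _⟩
  let w : Fin m → A0 := fun i =>
    ⟨z i.succ - z 0 ^ B ^ (i.val + 1), Algebra.subset_adjoin ⟨i, rfl⟩⟩
  let W : (Fin (m + 1) →₀ ℕ) → ℕ := fun v => ∑ i : Fin (m + 1), B ^ i.val * v i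
  let p : (Fin (m + 1) →₀ ℕ) → Polynomial A0 := fun v =>
    Polynomial.X ^ v 0 * ∏ i : Fin m, (Polynomial.C (w i) + Polynomial.X ^ B ^ (i.val + 1)) ^ v i.succ
  have hmonic : ∀ v, (p v).Monic ∧ (p v).natDegree = W v := by
    intro v
    have h1 : ∀ i : Fin m, (Polynomial.C (w i) + Polynomial.X ^ B ^ (i.val + 1)).Monic := fun i => by
      rw [add_comm]; exact Polynomial.monic_X_pow_add_C _ (pow_pos (by omega) _).ne'
    have hp : (∏ i : Fin m, (Polynomial.C (w i) + Polynomial.X ^ B ^ (i.val + 1)) ^ v i.succ).Monic :=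
      Polynomial.monic_prod_of_monic _ _ fun i _ => (h1 i).pow _
    refine ⟨(Polynomial.monic_X_pow _).mul hp, ?_⟩
    rw [(Polynomial.monic_X_pow _).natDegree_mul hp, Polynomial.natDegree_X_pow,
      Polynomial.natDegree_prod_of_monic _ _ fun i _ => (h1 i).pow _]
    simp only [W, Fin.sum_univ_succ, Fin.val_zero, pow_zero, one_mul, Fin.val_succ]
    congr 1
    refine Finset.sum_congr rfl fun i _ => ?_
    rw [(h1 i).natDegree_pow, add_comm (Polynomial.C _), Polynomial.natDegree_X_pow_add_C, mul_comm]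
  have hinj : ∀ v ∈ f.support, ∀ u ∈ f.support, W v = W u → v = u := by
    intro v hv u hu h
    have hlt : ∀ x ∈ f.support, ∀ i, x i < B := fun x hx i => by
      have := (monomial_le_degreeOf i hx).trans (degreeOf_le_totalDegree f i); omega
    apply Finsupp.ext
    apply congrFun
    apply List.ofFn_inj.mp
    apply Nat.ofDigits_inj_of_len_eq (b := B) (by omega) (by simp)
    · intro l hl; rw [List.mem_ofFn] at hl; obtain ⟨i, rfl⟩ := hl; exact hlt v hv i
    · intro l hl; rw [List.mem_ofFn] at hl; obtain ⟨i, rfl⟩ := hl; exact hlt u hu i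
    simpa only [W, Nat.ofDigits_eq_sum_mapIdx, List.mapIdx_eq_ofFn, List.get_ofFn, List.length_ofFn,
      Fin.val_cast, mul_comm, List.sum_ofFn] using! h
  obtain ⟨v, hv, hmax⟩ := Finset.exists_max_image f.support W (support_nonempty.mpr hf)
  have hc : coeff v f ≠ 0 := mem_support_iff.mp hv
  let q : Polynomial A0 := p v + ∑ u ∈ f.support.erase v,
    Polynomial.C (algebraMap k A0 ((coeff v f)⁻¹ * coeff u f)) * p u
  refine ⟨q, ?_, ?_⟩
  · apply (hmonic v).1.add_of_left
    refine lt_of_le_of_lt (Polynomial.degree_sum_le _ _) ?_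
    rw [Finset.sup_lt_iff (Ne.bot_lt (fun h => (hmonic v).1.ne_zero (Polynomial.degree_eq_bot.mp h)))]
    intro u hu
    obtain ⟨hne, hu'⟩ := Finset.mem_erase.mp hu
    refine lt_of_le_of_lt ((Polynomial.degree_mul_le _ _).trans (add_le_add Polynomial.degree_C_le le_rfl)) ?_
    rw [zero_add]
    rw [Polynomial.degree_eq_natDegree (hmonic u).1.ne_zero,
      Polynomial.degree_eq_natDegree (hmonic v).1.ne_zero, (hmonic u).2, (hmonic v).2, Nat.cast_lt]
    exact lt_of_le_of_ne (hmax u hu') fun h => hne (hinj u hu' v hv h)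
  · have hp : ∀ u, Polynomial.eval₂ (algebraMap A0 A) (z 0) (p u) = ∏ i, z i ^ u i := by
      intro u
      rw [Polynomial.eval₂_mul, Polynomial.eval₂_finset_prod, Fin.prod_univ_succ]
      simp only [Polynomial.eval₂_pow, Polynomial.eval₂_X, Polynomial.eval₂_add, Polynomial.eval₂_C]
      congr 1
      refine Finset.prod_congr rfl fun i _ => ?_
      congr 1
      exact sub_add_cancel _ _
    have hsum : ∑ u ∈ f.support, algebraMap k A ((coeff v f)⁻¹ * coeff u f) * ∏ i, z i ^ u i = 0 := by
      rw [aeval_def, eval₂_eq'] at hz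
      simp only [map_mul, mul_assoc, ← Finset.mul_sum, hz, mul_zero]
    rw [Polynomial.eval₂_add, Polynomial.eval₂_finset_sum, hp]
    simp only [Polynomial.eval₂_mul, Polynomial.eval₂_C, hp, ← IsScalarTower.algebraMap_apply]
    rwa [← Finset.add_sum_erase _ _ hv, inv_mul_cancel₀ hc, map_one, one_mul] at hsum

theorem exists_relation {m d : ℕ} (z : Fin m → A) (hint : Algebra.IsIntegral (Algebra.adjoin k (Set.range z)) A)
    (hdim : ringKrullDim A ≤ d) (hmd : d < m) :
    ∃ f : MvPolynomial (Fin m) k, f ≠ 0 ∧ aeval z f = 0 := by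
  by_contra hno
  push Not at hno
  have hinj : Function.Injective (aeval z : MvPolynomial (Fin m) k →ₐ[k] A) :=
    (injective_iff_map_eq_zero _).mpr fun f hf => by
      by_contra h; exact hno f h hf
  let e : MvPolynomial (Fin m) k ≃ₐ[k] Algebra.adjoin k (Set.range z) :=
    (AlgEquiv.ofInjective _ hinj).trans (Subalgebra.equivOfEq _ _ (Algebra.adjoin_range_eq_range_aeval k z).symm)
  have h1 := Groth.Agent.DimLib.ringKrullDim_eq_of_isIntegral
    (R := Algebra.adjoin k (Set.range z)) (S := A) Subtype.val_injective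
  rw [← ringKrullDim_eq_of_ringEquiv e.toRingEquiv, MvPolynomial.ringKrullDim_of_isNoetherianRing,
    ringKrullDim_eq_zero_of_field, zero_add] at h1
  rw [← h1] at hdim
  simp only [Nat.card_eq_fintype_card, Fintype.card_fin] at hdim
  exact absurd hdim (not_le.mpr (by exact_mod_cast hmd))

theorem isIntegral_of_le_integralClosure (S T : Set A) (hT : Algebra.IsIntegral (Algebra.adjoin k T) A)
    (h : ∀ t ∈ T, IsIntegral (Algebra.adjoin k S) t) : Algebra.IsIntegral (Algebra.adjoin k S) A := by
  set N := Algebra.adjoin k S with hN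
  let C : Subalgebra k A := (integralClosure N A).restrictScalars k
  have hle : Algebra.adjoin k T ≤ C := Algebra.adjoin_le fun t ht => h t ht
  letI : Algebra (Algebra.adjoin k T) C := (Subalgebra.inclusion hle).toAlgebra
  haveI : IsScalarTower (Algebra.adjoin k T) C A := IsScalarTower.of_algebraMap_eq fun x => rfl
  refine ⟨fun a => ?_⟩
  have h1 : IsIntegral C a := IsIntegral.tower_top (hT.isIntegral a)
  exact isIntegral_trans (R := N) (A := integralClosure N A) a h1

theorem exists_bound {d n : ℕ} (X : Fin d → A) (Y : Fin n → A) (z0 : A)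
    (hint : Algebra.IsIntegral (Algebra.adjoin k (Set.range X ∪ (Set.range Y ∪ {z0}))) A)
    (hdim : ringKrullDim A ≤ d) :
    ∃ B0, ∀ B, B0 ≤ B →
      Algebra.IsIntegral (Algebra.adjoin k
        (Set.range (fun i : Fin d => X i - z0 ^ B ^ (i.val + 1)) ∪
          Set.range (fun j : Fin n => Y j - z0 ^ B ^ (d + j.val + 1)))) A := by
  let z : Fin (d + n + 1) → A := Fin.cons z0 (Fin.append X Y)
  have hr : Set.range z = Set.range X ∪ (Set.range Y ∪ {z0}) := by
    ext a
    simp only [z, Fin.range_cons, Set.mem_insert_iff, Set.mem_range, Set.mem_union, Set.mem_singleton_iff]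
    constructor
    · rintro (h | ⟨i, rfl⟩)
      · exact Or.inr (Or.inr h)
      · induction i using Fin.addCases with
        | left i => exact Or.inl ⟨i, by simp⟩
        | right i => exact Or.inr (Or.inl ⟨i, by simp⟩)
    · rintro (⟨i, rfl⟩ | ⟨i, rfl⟩ | h)
      · exact Or.inr ⟨Fin.castAdd n i, by simp⟩
      · exact Or.inr ⟨Fin.natAdd d i, by simp⟩
      · exact Or.inl h
  rw [← hr] at hint
  obtain ⟨f, hf, hz⟩ := exists_relation z hint hdim (by omega)
  refine ⟨f.totalDegree + 2, fun B hB => ?_⟩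
  set S := Set.range (fun i : Fin d => X i - z0 ^ B ^ (i.val + 1)) ∪
          Set.range (fun j : Fin n => Y j - z0 ^ B ^ (d + j.val + 1)) with hS
  have hrange : Set.range (fun i : Fin (d + n) => z i.succ - z 0 ^ B ^ (i.val + 1)) = S := by
    rw [hS]; ext a
    simp only [Set.mem_range, Set.mem_union, z, Fin.cons_succ, Fin.cons_zero]
    constructor
    · rintro ⟨i, rfl⟩
      induction i using Fin.addCases with
      | left i => exact Or.inl ⟨i, by simp⟩
      | right i => exact Or.inr ⟨i, by simp⟩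
    · rintro (⟨i, rfl⟩ | ⟨i, rfl⟩)
      · exact ⟨Fin.castAdd n i, by simp⟩
      · exact ⟨Fin.natAdd d i, by simp⟩
  have h0 : IsIntegral (Algebra.adjoin k S) z0 := by
    have := nagata f hf z hz hB
    rw [hrange] at this
    exact this
  refine isIntegral_of_le_integralClosure S (Set.range z) hint ?_
  rintro _ ⟨i, rfl⟩
  induction i using Fin.cases with
  | zero => exact h0
  | succ i =>
    have hmem : z i.succ - z 0 ^ B ^ (i.val + 1) ∈ Algebra.adjoin k S :=
      Algebra.subset_adjoin (hrange ▸ Set.mem_range_self (f := fun i : Fin (d + n) => z i.succ - z 0 ^ B ^ (i.val + 1)) i)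
    have h3 : IsIntegral (Algebra.adjoin k S) (z i.succ - z 0 ^ B ^ (i.val + 1)) :=
      isIntegral_algebraMap (R := Algebra.adjoin k S) (A := A) (x := ⟨_, hmem⟩)
    have := h3.add (h0.pow (B ^ (i.val + 1)))
    simpa [z] using this

end

theorem two_fibre {R : Type*} [CommRing R] {k₁ A₁ : Type*} [Field k₁] [CommRing A₁] [Algebra k₁ A₁]
    {k₂ A₂ : Type*} [Field k₂] [CommRing A₂] [Algebra k₂ A₂] (φ₁ : R →+* A₁) (φ₂ : R →+* A₂) {d : ℕ}
    (h₁ : ringKrullDim A₁ ≤ d) (h₂ : ringKrullDim A₂ ≤ d) (S0 : Subring R) :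
    ∀ (n : ℕ) (x : Fin d → R) (v : Fin n → R), (∀ j, v j ∈ S0) →
      Algebra.IsIntegral (Algebra.adjoin k₁ (Set.range (φ₁ ∘ x) ∪ Set.range (φ₁ ∘ v))) A₁ →
      Algebra.IsIntegral (Algebra.adjoin k₂ (Set.range (φ₂ ∘ x) ∪ Set.range (φ₂ ∘ v))) A₂ →
      ∃ y : Fin d → R, (∀ i, y i ∈ S0) ∧
        Algebra.IsIntegral (Algebra.adjoin k₁ (Set.range fun i => φ₁ (x i + y i))) A₁ ∧
        Algebra.IsIntegral (Algebra.adjoin k₂ (Set.range fun i => φ₂ (x i + y i))) A₂ := by
  intro n
  induction n with
  | zero =>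
    intro x v _ i1 i2
    refine ⟨fun _ => 0, fun _ => S0.zero_mem, ?_, ?_⟩
    · convert! i1 using 3 <;> simp [Set.range_eq_empty (φ₁ ∘ v), Function.comp_def]
    · convert! i2 using 3 <;> simp [Set.range_eq_empty (φ₂ ∘ v), Function.comp_def]
  | succ n ih =>
    intro x v hv i1 i2
    have split : ∀ {C : Type _} (φ : R → C),
        Set.range (φ ∘ v) = Set.range (fun j : Fin n => φ (v j.succ)) ∪ {φ (v 0)} := by
      intro C φ
      conv_lhs => rw [← Fin.cons_self_tail v]
      ext a
      simp [Fin.exists_fin_succ, Fin.tail, or_comm, eq_comm]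
    obtain ⟨B1, hB1⟩ := exists_bound (k := k₁) (φ₁ ∘ x) (fun j : Fin n => φ₁ (v j.succ)) (φ₁ (v 0))
      (by rw [← split φ₁]; exact i1) h₁
    have split₂ : Set.range (φ₂ ∘ v) = Set.range (fun j : Fin n => φ₂ (v j.succ)) ∪ {φ₂ (v 0)} := by
      conv_lhs => rw [← Fin.cons_self_tail v]
      ext a
      simp [Fin.exists_fin_succ, Fin.tail, or_comm, eq_comm]
    obtain ⟨B2, hB2⟩ := exists_bound (k := k₂) (φ₂ ∘ x) (fun j : Fin n => φ₂ (v j.succ)) (φ₂ (v 0))
      (by rw [← split₂]; exact i2) h₂
    let B := max B1 B2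
    obtain ⟨y, hy, j1, j2⟩ := ih (fun i => x i - v 0 ^ B ^ (i.val + 1))
      (fun j => v j.succ - v 0 ^ B ^ (d + j.val + 1))
      (fun j => S0.sub_mem (hv _) (S0.pow_mem (hv 0) _))
      (by
        have e1 : (⇑φ₁ ∘ fun i : Fin d => x i - v 0 ^ B ^ (i.val + 1)) = fun i => φ₁ (x i) - φ₁ (v 0) ^ B ^ (i.val + 1) :=
          funext fun i => (map_sub _ _ _).trans (congrArg (_ - ·) (map_pow _ _ _))
        have e2 : (⇑φ₁ ∘ fun j : Fin n => v j.succ - v 0 ^ B ^ (d + j.val + 1)) = fun j => φ₁ (v j.succ) - φ₁ (v 0) ^ B ^ (d + j.val + 1) :=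
          funext fun j => (map_sub _ _ _).trans (congrArg (_ - ·) (map_pow _ _ _))
        rw [e1, e2]
        exact hB1 B (le_max_left _ _))
      (by
        have e1 : (⇑φ₂ ∘ fun i : Fin d => x i - v 0 ^ B ^ (i.val + 1)) = fun i => φ₂ (x i) - φ₂ (v 0) ^ B ^ (i.val + 1) :=
          funext fun i => (map_sub _ _ _).trans (congrArg (_ - ·) (map_pow _ _ _))
        have e2 : (⇑φ₂ ∘ fun j : Fin n => v j.succ - v 0 ^ B ^ (d + j.val + 1)) = fun j => φ₂ (v j.succ) - φ₂ (v 0) ^ B ^ (d + j.val + 1) :=
          funext fun j => (map_sub _ _ _).trans (congrArg (_ - ·) (map_pow _ _ _))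
        rw [e1, e2]
        exact hB2 B (le_max_right _ _))
    refine ⟨fun i => y i - v 0 ^ B ^ (i.val + 1), fun i => S0.sub_mem (hy i) (S0.pow_mem (hv 0) _), ?_, ?_⟩
    · have e : (fun i : Fin d => φ₁ (x i + (y i - v 0 ^ B ^ (i.val + 1)))) =
          fun i => φ₁ (x i - v 0 ^ B ^ (i.val + 1) + y i) := by funext i; congr 1; ring
      rw [e]; exact j1
    · have e : (fun i : Fin d => φ₂ (x i + (y i - v 0 ^ B ^ (i.val + 1)))) =
          fun i => φ₂ (x i - v 0 ^ B ^ (i.val + 1) + y i) := by funext i; congr 1; ring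
      rw [e]; exact j2

theorem fibre_start {V : Type*} [CommRing V] {R : Type*} [CommRing R] [Algebra V R]
    (k : Type*) [Field k] [Algebra V k] {d n N : ℕ} (hN : 1 ≤ N) (x : Fin d → R) (u : Fin n → R)
    (hu : Algebra.adjoin V (Set.range u) = ⊤) :
    Algebra.IsIntegral (Algebra.adjoin k
      (Set.range ((Algebra.TensorProduct.includeRight : R →ₐ[V] k ⊗[V] R).toRingHom ∘ x) ∪
       Set.range ((Algebra.TensorProduct.includeRight : R →ₐ[V] k ⊗[V] R).toRingHom ∘ fun j => u j ^ N)))
      (k ⊗[V] R) := by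
  refine isIntegral_of_le_integralClosure _ (Set.range fun j => (1 : k) ⊗ₜ[V] u j) ?_ ?_
  · have htop : Algebra.adjoin k (Set.range fun j => (1 : k) ⊗ₜ[V] u j) = ⊤ := by
      rw [eq_top_iff]
      rintro a -
      induction a using TensorProduct.induction_on with
      | zero => exact Subalgebra.zero_mem _
      | tmul c r =>
        have : ((1 : k) ⊗ₜ[V] r) ∈ Algebra.adjoin k (Set.range fun j => (1 : k) ⊗ₜ[V] u j) := by
          have hr : r ∈ Algebra.adjoin V (Set.range u) := hu ▸ Algebra.mem_top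
          induction hr using Algebra.adjoin_induction with
          | mem r hr => obtain ⟨j, rfl⟩ := hr; exact Algebra.subset_adjoin ⟨j, rfl⟩
          | algebraMap v =>
            rw [Algebra.algebraMap_eq_smul_one, TensorProduct.tmul_smul, TensorProduct.smul_tmul',
              ← mul_one (v • (1 : k)), ← smul_eq_mul, ← TensorProduct.smul_tmul']
            exact Subalgebra.smul_mem _ (Subalgebra.one_mem _) _
          | add r s _ _ hr hs => rw [TensorProduct.tmul_add]; exact Subalgebra.add_mem _ hr hs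
          | mul r s _ _ hr hs =>
            have e := Subalgebra.mul_mem _ hr hs
            rwa [Algebra.TensorProduct.tmul_mul_tmul, one_mul] at e
        rw [← mul_one c, ← smul_eq_mul, ← TensorProduct.smul_tmul']
        exact Subalgebra.smul_mem _ this _
      | add a b ha hb => exact Subalgebra.add_mem _ ha hb
    refine ⟨fun a => ?_⟩
    have : a ∈ Algebra.adjoin k (Set.range fun j => (1 : k) ⊗ₜ[V] u j) := htop ▸ Algebra.mem_top
    exact isIntegral_algebraMap (x := (⟨a, this⟩ : Algebra.adjoin k (Set.range fun j => (1 : k) ⊗ₜ[V] u j)))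
  · rintro _ ⟨j, rfl⟩
    refine IsIntegral.of_pow hN ?_
    have hmem : ((1 : k) ⊗ₜ[V] u j) ^ N ∈ Algebra.adjoin k
      (Set.range ((Algebra.TensorProduct.includeRight : R →ₐ[V] k ⊗[V] R).toRingHom ∘ x) ∪
       Set.range ((Algebra.TensorProduct.includeRight : R →ₐ[V] k ⊗[V] R).toRingHom ∘ fun j => u j ^ N)) := by
      refine Algebra.subset_adjoin (Or.inr ⟨j, ?_⟩)
      simp
    exact isIntegral_algebraMap (x := (⟨_, hmem⟩ : Algebra.adjoin k _))

theorem finite_of_isIntegral {k : Type*} [Field k] {A : Type*} [CommRing A] [Algebra k A]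
    [Algebra.FiniteType k A] {d : ℕ} (f : Fin d → A)
    (h : Algebra.IsIntegral (Algebra.adjoin k (Set.range f)) A) :
    (MvPolynomial.aeval f : MvPolynomial (Fin d) k →ₐ[k] A).toRingHom.Finite := by
  set g : MvPolynomial (Fin d) k →ₐ[k] A := MvPolynomial.aeval f
  have hint : g.toRingHom.IsIntegral := by
    letI := g.toRingHom.toAlgebra
    intro a
    obtain ⟨p, hp, hpa⟩ := h.isIntegral a
    let s : MvPolynomial (Fin d) k →ₐ[k] Algebra.adjoin k (Set.range f) :=
      (Subalgebra.equivOfEq _ _ (Algebra.adjoin_range_eq_range_aeval k f).symm).toAlgHom.comp g.rangeRestrict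
    have hs : Function.Surjective s :=
      (Subalgebra.equivOfEq _ _ (Algebra.adjoin_range_eq_range_aeval k f).symm).surjective.comp
        g.rangeRestrict_surjective
    have hcomp : g.toRingHom = (algebraMap (Algebra.adjoin k (Set.range f)) A).comp s.toRingHom := rfl
    rcases subsingleton_or_nontrivial A with hA | hA
    · exact ⟨1, Polynomial.monic_one, Subsingleton.elim _ _⟩
    obtain ⟨q, hq, -, hqm⟩ := Polynomial.lifts_and_degree_eq_and_monic
      (f := s.toRingHom) (Polynomial.map_surjective s.toRingHom hs p) hp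
    exact ⟨q, hqm, by rw [hcomp, ← Polynomial.eval₂_map, hq]; exact hpa⟩
  refine hint.to_finite (RingHom.FiniteType.of_comp_finiteType (f := algebraMap k (MvPolynomial (Fin d) k)) ?_)
  have : g.toRingHom.comp (algebraMap k (MvPolynomial (Fin d) k)) = algebraMap k A := g.comp_algebraMap
  rw [this]
  exact RingHom.finiteType_algebraMap.mpr inferInstance

/-- Let V be a discrete valuation ring with residue field k and fraction field K, let R be a flat
V-algebra of finite type such that both fibre rings k ⊗_V R and K ⊗_V R have Krull dimension at most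
d, let x_1, …, x_d be elements of R and let N ≥ 1 be an integer. Then there are elements y_1, …, y_d
of the subring of R generated by the N-th powers of elements of R such that, setting f_i = x_i +
y_i, the fibre ring k ⊗_V R is finite over the polynomial ring k[T_1, …, T_d] via T_i ↦ 1 ⊗ f_i and
K ⊗_V R is finite over K[T_1, …, T_d] via T_i ↦ 1 ⊗ f_i; in other words the morphism (f_1, …, f_d)
to affine d-space over V is finite on both fibres. -/
theorem result (V : Type u) [CommRing V] [IsDomain V]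
    [IsDiscreteValuationRing V] (R : Type u) [CommRing R] [Algebra V R] [Module.Flat V R]
    [Algebra.FiniteType V R] (d : ℕ)
    (hs : ringKrullDim (IsLocalRing.ResidueField V ⊗[V] R) ≤ d)
    (hη : ringKrullDim (FractionRing V ⊗[V] R) ≤ d)
    (x : Fin d → R) (N : ℕ) (hN : 1 ≤ N) :
    ∃ y : Fin d → R, (∀ i, y i ∈ Subring.closure (Set.range fun r : R => r ^ N)) ∧
      (MvPolynomial.aeval (fun i => (1 : IsLocalRing.ResidueField V) ⊗ₜ[V] (x i + y i)) :
          MvPolynomial (Fin d) (IsLocalRing.ResidueField V) →ₐ[IsLocalRing.ResidueField V]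
            IsLocalRing.ResidueField V ⊗[V] R).toRingHom.Finite ∧
      (MvPolynomial.aeval (fun i => (1 : FractionRing V) ⊗ₜ[V] (x i + y i)) :
          MvPolynomial (Fin d) (FractionRing V) →ₐ[FractionRing V] FractionRing V ⊗[V] R).toRingHom.Finite := by
  obtain ⟨n, g, hg⟩ := Algebra.FiniteType.iff_quotient_mvPolynomial''.mp (inferInstance : Algebra.FiniteType V R)
  have hu : Algebra.adjoin V (Set.range fun j => g (MvPolynomial.X j)) = ⊤ := by
    rw [eq_top_iff]
    rintro r -
    obtain ⟨p, rfl⟩ := hg r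
    rw [Algebra.adjoin_range_eq_range_aeval]
    exact ⟨p, (DFunLike.congr_fun (MvPolynomial.aeval_unique g) p).symm⟩
  obtain ⟨y, hy, j1, j2⟩ := two_fibre
    (Algebra.TensorProduct.includeRight : R →ₐ[V] IsLocalRing.ResidueField V ⊗[V] R).toRingHom
    (Algebra.TensorProduct.includeRight : R →ₐ[V] FractionRing V ⊗[V] R).toRingHom hs hη
    (Subring.closure (Set.range fun r : R => r ^ N)) n x (fun j => g (MvPolynomial.X j) ^ N)
    (fun j => Subring.subset_closure ⟨g (MvPolynomial.X j), rfl⟩)
    (fibre_start (IsLocalRing.ResidueField V) hN x _ hu) (fibre_start (FractionRing V) hN x _ hu)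
  exact ⟨y, hy, finite_of_isIntegral _ j1, finite_of_isIntegral _ j2⟩

end Groth.Agent.S14379
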