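import Groth.Statements.S1438
import Groth.Agent.FlatMorGeom.AffineStrat

set_option autoImplicit false
universe u
open FlatMor

namespace Groth.Agent.S1438

open AlgebraicGeometry CategoryTheory Limits in
/-- A separated scheme with an open covering by n + 1 affine opens has affine stratification number at
most n: it admits an affine stratification with index set {0, …, n}. -/
theorem result (X : Scheme.{u}) [X.IsSeparated] (n : ℕ) (U : Fin (n + 1) → X.Opens)
    (hU : ∀ i, IsAffineOpen (U i)) (hcov : ⨆ i, U i = ⊤) :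
    MoreMor.HasAffineStratification X n := by
  classical
  have hex : ∀ x : X, ∃ i, x ∈ U i := fun x => by
    have : x ∈ ⨆ i, U i := by rw [hcov]; trivial
    simpa using this
  let s : X → Fin (n + 1) := fun x => (Finset.univ.filter fun i => x ∈ U i).max'
    (by obtain ⟨i, hi⟩ := hex x; exact ⟨i, by simpa using hi⟩)
  have h1 : ∀ x, x ∈ U (s x) := fun x =>
    (Finset.mem_filter.1 (Finset.max'_mem (Finset.univ.filter fun i => x ∈ U i)
      (by obtain ⟨i, hi⟩ := hex x; exact ⟨i, by simpa using hi⟩))).2
  have h2 : ∀ x i, x ∈ U i → i ≤ s x := fun x i hi => Finset.le_max' _ _ (by simpa using hi)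
  have hle : ∀ i, {x : X | s x ≤ i} = (⋃ j ∈ Set.Ioi i, (U j : Set X))ᶜ := fun i => by
    ext x
    simp only [Set.mem_compl_iff, Set.mem_iUnion, Set.mem_Ioi, not_exists, SetLike.mem_coe]
    show s x ≤ i ↔ _
    exact ⟨fun h j hij hx => absurd ((h2 x j hx).trans h) (not_le.2 hij),
      fun h => not_lt.1 fun hlt => h _ hlt (h1 x)⟩
  refine ⟨s, fun i => ?_, fun i => (?_ : FlatMorGeom.IsAffineStratum _)⟩
  · rw [hle]; exact (isOpen_biUnion fun _ _ => (U _).2).isClosed_compl
  · refine FlatMorGeom.isAffineStratum_of_isSeparated (U i) (hU i) _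
      (fun x hx => (show s x = i from hx) ▸ h1 x) ?_
    have : (Subtype.val ⁻¹' {x | s x = i} : Set (U i)) = Subtype.val ⁻¹' {x | s x ≤ i} := by
      ext ⟨x, hx⟩
      exact ⟨le_of_eq, fun h => le_antisymm h (h2 x i hx)⟩
    rw [this, hle]
    exact (isOpen_biUnion fun _ _ => (U _).2).isClosed_compl.preimage continuous_subtype_val

end Groth.Agent.S1438
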