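import Groth.Statements.S14382
import Groth.Agent.Et18.KPiFinite
-- import your own Groth.Agent.* helpers here

set_option autoImplicit false
open CategoryTheory CategoryTheory.Limits AlgebraicGeometry Opposite
universe u
open EtCoh

namespace Groth.Agent.S14382

/-- Let P be a set of prime numbers and f : X → Y a finite étale surjective morphism of schemes, where Y
is quasi-compact and quasi-separated with finitely many connected components. Then X is
quasi-compact and quasi-separated with finitely many connected components, and Y is a K(π,1) for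
P-torsion coefficients if and only if X is; here a scheme Z is called a K(π,1) for P-torsion
coefficients when for every finite locally constant abelian sheaf F on the small étale site of Z
killed by some n ≥ 1 all of whose prime factors lie in P, every q > 0 and every class ζ in H^q(Z_ét,
F) there is a finite étale surjective g : Z' → Z with g^*ζ = 0. (Exactness of pullback of abelian
sheaves, which always holds, is carried as an instance hypothesis.) -/
theorem result (P : Set ℕ) {X Y : Scheme.{u}} (f : X ⟶ Y)
    [IsFinite f] [Etale f] [Surjective f] [CompactSpace ↥Y] [QuasiSeparatedSpace ↥Y]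
    (hconn : Finite (_root_.ConnectedComponents ↥Y)) :
    (CompactSpace ↥X ∧ QuasiSeparatedSpace ↥X ∧ Finite (_root_.ConnectedComponents ↥X)) ∧
    ((∀ (F : EtCoh.Ab Y), EtCoh.IsFiniteLocallyConstant F →
        (∃ n : ℕ, 0 < n ∧ (∀ p : ℕ, p.Prime → p ∣ n → p ∈ P) ∧ EtCoh.KilledBy n F) →
        ∀ q : ℕ, 0 < q → ∀ ζ : EtCoh.H Y F q,
          ∃ (Y' : Scheme.{u}) (g : Y' ⟶ Y), IsFinite g ∧ Etale g ∧ Surjective g ∧
            ∀ [PreservesFiniteLimits (EtCoh.pull g)], EtCore.Hpull g F q ζ = 0) ↔
     (∀ (F : EtCoh.Ab X), EtCoh.IsFiniteLocallyConstant F →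
        (∃ n : ℕ, 0 < n ∧ (∀ p : ℕ, p.Prime → p ∣ n → p ∈ P) ∧ EtCoh.KilledBy n F) →
        ∀ q : ℕ, 0 < q → ∀ ζ : EtCoh.H X F q,
          ∃ (X' : Scheme.{u}) (g : X' ⟶ X), IsFinite g ∧ Etale g ∧ Surjective g ∧
            ∀ [PreservesFiniteLimits (EtCoh.pull g)], EtCore.Hpull g F q ζ = 0)) := by
  haveI : Finite (_root_.ConnectedComponents ↥Y) := hconn
  haveI : QuasiSeparatedSpace ↥X := by
    rw [quasiSeparatedSpace_iff_quasiSeparated, ← show f ≫ terminal.from Y = terminal.from X from terminal.hom_ext _ _]
    infer_instance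
  refine ⟨⟨QuasiCompact.compactSpace_of_compactSpace f, inferInstance,
    Et18.KPiFinite.finite_components_of_isOpenMap f.base f.continuous f.isOpenMap f.isClosedMap
      (fun y => f.finite_preimage_singleton y)⟩, ⟨fun hY F hF hn q hq ζ => ?_, fun hX F hF hn q hq ζ => ?_⟩⟩
  · obtain ⟨n, hn0, hnP, hk⟩ := hn
    haveI : PreservesFiniteLimits (EtCoh.pull f) := inferInstance
    obtain ⟨η, rfl⟩ := (Et18.CompCrit.bijective_HofPush f F q).2 ζ
    obtain ⟨Y', g, hg1, hg2, hg3, hg⟩ := hY _ (Et18.isFLC_push_of_isFinite f hF)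
      ⟨n, hn0, hnP, Et18.KPiFinite.killedBy_push f hk⟩ q hq η
    haveI := hg1
    haveI := hg2
    haveI := hg3
    refine ⟨pullback f g, pullback.fst f g, inferInstance, inferInstance, inferInstance, fun {_} => ?_⟩
    rw [Et18.HofPushSquare.Hpull_HofPush f g (pullback.snd f g) (pullback.fst f g) pullback.condition, hg]
    exact (congrArg _ (map_zero _)).trans (map_zero _)
  · obtain ⟨n, hn0, hnP, hk⟩ := hn
    haveI : PreservesFiniteLimits (EtCoh.pull f) := inferInstance
    obtain ⟨X', g, hg1, hg2, hg3, hg⟩ := hX _ (Et18.isFLC_pull hF f)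
      ⟨n, hn0, hnP, Et18.KPiFinite.killedBy_pull f hk⟩ q hq (EtCore.Hpull f F q ζ)
    haveI := hg1
    haveI := hg2
    haveI := hg3
    refine ⟨X', g ≫ f, inferInstance, inferInstance, inferInstance, fun {_} => ?_⟩
    have h0 := Et18.HpullComp.Hpull_comp g f q F ζ
    rw [hg] at h0
    refine (ConcreteCategory.bijective_of_isIso ((EtCoh.HF X' q).map ((EtCore.pullComp g f).hom.app F))).1 ?_
    exact h0.symm.trans (map_zero _).symm

end Groth.Agent.S14382
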