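import Groth.Statements.S14383
import Groth.Agent.CommAlg4.SmoothMono
-- import your own Groth.Agent.* helpers here

set_option autoImplicit false
open scoped TensorProduct
open AlgebraicGeometry
universe u
open CAlg

namespace Groth.Agent.S14383

open TensorProduct

theorem exists_pow_smul_eq_zero (A R : Type u) [CommRing A] [CommRing R] [Algebra A R] [Module.Finite R Ω[R⁄A]]
    (c : R) (C : Type u) [CommRing C] [Algebra R C] [IsLocalization.Away c C] [Algebra A C] [IsScalarTower A R C]
    [Algebra.Etale A C] : ∃ N : ℕ, ∀ v : Ω[R⁄A], c ^ N • v = 0 := by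
  haveI : Algebra.FormallyEtale R C := Algebra.FormallyEtale.of_isLocalization (Submonoid.powers c)
  have hbc := KaehlerDifferential.isBaseChange_of_formallyEtale A R C
  haveI : IsLocalizedModule (Submonoid.powers c) (KaehlerDifferential.map A A R C) :=
    (isLocalizedModule_iff_isBaseChange (Submonoid.powers c) C _).2 hbc
  obtain ⟨s, hs⟩ := (inferInstance : Module.Finite R Ω[R⁄A]).1
  have hk : ∀ v : Ω[R⁄A], ∃ N : ℕ, c ^ N • v = 0 := fun v => by
    obtain ⟨⟨_, N, rfl⟩, hN⟩ := (IsLocalizedModule.eq_zero_iff (Submonoid.powers c)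
      (KaehlerDifferential.map A A R C)).1 (Subsingleton.elim (KaehlerDifferential.map A A R C v) 0)
    exact ⟨N, hN⟩
  choose N hN using hk
  refine ⟨s.sup N, fun v => ?_⟩
  have hv : v ∈ Submodule.span R (s : Set Ω[R⁄A]) := hs ▸ Submodule.mem_top
  induction hv using Submodule.span_induction with
  | mem x hx => rw [← Nat.sub_add_cancel (Finset.le_sup (f := N) hx), pow_add, mul_smul, hN, smul_zero]
  | zero => rw [smul_zero]
  | add x y _ _ hx hy => rw [smul_add, hx, hy, add_zero]
  | smul r x _ hx => rw [smul_comm, hx, smul_zero]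

theorem isLocalization_away_fractionRing {V : Type u} [CommRing V] [IsDomain V] [IsDiscreteValuationRing V]
    {ϖ : V} (hϖ : Irreducible ϖ) : IsLocalization.Away ϖ (FractionRing V) := by
  refine { map_units := ?_, surj := ?_, exists_of_eq := fun {x y} h => ⟨1, by rw [IsFractionRing.injective V (FractionRing V) h]⟩ }
  · rintro ⟨_, n, rfl⟩
    rw [map_pow]
    exact ((map_ne_zero_iff _ (IsFractionRing.injective V (FractionRing V))).2 hϖ.ne_zero).isUnit.pow n
  · intro z
    obtain ⟨x, y, hy, rfl⟩ := IsFractionRing.div_surjective (A := V) z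
    obtain ⟨k, w, rfl⟩ := IsDiscreteValuationRing.eq_unit_mul_pow_irreducible (nonZeroDivisors.ne_zero hy) hϖ
    refine ⟨⟨x * ↑w⁻¹, ⟨_, k, rfl⟩⟩, ?_⟩
    have hne : algebraMap V (FractionRing V) ((w : V) * ϖ ^ k) ≠ 0 :=
      (map_ne_zero_iff _ (IsFractionRing.injective V (FractionRing V))).2 (nonZeroDivisors.ne_zero hy)
    show algebraMap V (FractionRing V) x / _ * algebraMap V (FractionRing V) (ϖ ^ k) = _
    rw [div_mul_eq_mul_div, div_eq_iff hne, ← map_mul, ← map_mul]
    congr 1
    show _ = x * ↑w⁻¹ * (↑w * ϖ ^ k)
    rw [mul_assoc, ← mul_assoc (↑w⁻¹ : V), Units.inv_mul, one_mul]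

theorem away_of_tower {R S : Type u} [CommRing R] [CommRing S] [Algebra R S] (x a : R) [IsLocalization.Away x S]
    (C : Type u) [CommRing C] [Algebra R C] [Algebra S C] [IsScalarTower R S C] [IsLocalization.Away (a * x) C] :
    IsLocalization.Away (algebraMap R S a) C := by
  haveI : IsLocalization.Away (a * x) (Localization.Away (algebraMap R S a)) := by
    rw [mul_comm a x]
    exact IsLocalization.Away.mul' S (Localization.Away (algebraMap R S a)) x a
  let e : Localization.Away (algebraMap R S a) ≃ₐ[R] C :=
    IsLocalization.algEquiv (Submonoid.powers (a * x)) _ _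
  have he : (e : Localization.Away (algebraMap R S a) →+* C).comp (algebraMap S _) = algebraMap S C :=
    IsLocalization.ringHom_ext (Submonoid.powers x) (RingHom.ext fun r => by
      show e (algebraMap S _ (algebraMap R S r)) = algebraMap S C (algebraMap R S r)
      rw [← IsScalarTower.algebraMap_apply R S, e.commutes, ← IsScalarTower.algebraMap_apply R S])
  exact IsLocalization.isLocalization_of_algEquiv _
    (AlgEquiv.ofRingEquiv (R := S) (f := e.toRingEquiv) fun r => RingHom.congr_fun he r)

theorem smooth_of_locally {K B : Type u} [CommRing K] [CommRing B] [Algebra K B] (d : ℕ)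
    (h : RingHom.Locally (RingHom.IsStandardSmoothOfRelativeDimension d) (algebraMap K B)) :
    (algebraMap K B).Smooth := by
  haveI : SmoothOfRelativeDimension d (Spec.map (CommRingCat.ofHom (algebraMap K B))) :=
    (HasRingHomProperty.Spec_iff (P := @SmoothOfRelativeDimension d)).2 h
  exact (HasRingHomProperty.Spec_iff (P := @Smooth)).1 (SmoothOfRelativeDimension.smooth (n := d) (f := Spec.map (CommRingCat.ofHom (algebraMap K B))))

theorem etale_of_ranks {V : Type u} [CommRing V] [IsDomain V] [IsDiscreteValuationRing V] {ϖ : V}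
    (hϖ : Irreducible ϖ) (A R : Type u) [CommRing A] [Algebra V A] [Algebra.FiniteType V A] [CommRing R]
    [Algebra V R] [Algebra A R] [IsScalarTower V A R] (c : R) {a : R} (hc : c = a * algebraMap V R ϖ) (d : ℕ)
    (hA : RingHom.Locally (RingHom.IsStandardSmoothOfRelativeDimension d)
      (algebraMap (FractionRing V) (FractionRing V ⊗[V] A)))
    (hR : RingHom.Locally (RingHom.IsStandardSmoothOfRelativeDimension d)
      (algebraMap (FractionRing V) (FractionRing V ⊗[V] R)))
    (C : Type u) [CommRing C] [Algebra R C] [IsLocalization.Away c C] [Algebra A C] [IsScalarTower A R C]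
    (hΩ : ∀ w : Ω[R⁄A], ((1 : C) ⊗ₜ[R] w : C ⊗[R] Ω[R⁄A]) = 0) : Algebra.Etale A C := by
  haveI := isLocalization_away_fractionRing hϖ
  subst hc
  have hu : IsUnit (algebraMap R C a) ∧ IsUnit (algebraMap R C (algebraMap V R ϖ)) := by
    rw [← IsUnit.mul_iff, ← map_mul]
    exact IsLocalization.Away.algebraMap_isUnit (S := C) (a * algebraMap V R ϖ)
  letI : Algebra V C := ((algebraMap R C).comp (algebraMap V R)).toAlgebra
  haveI : IsScalarTower V R C := .of_algebraMap_eq fun _ => rfl
  haveI : IsScalarTower V A C := .of_algebraMap_eq fun v => by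
    rw [IsScalarTower.algebraMap_apply A R C, ← IsScalarTower.algebraMap_apply V A R]
    rfl
  -- the generic fibres
  letI algA : Algebra A (FractionRing V ⊗[V] A) :=
    (Algebra.TensorProduct.includeRight : A →ₐ[V] FractionRing V ⊗[V] A).toRingHom.toAlgebra
  haveI hlA : IsLocalization.Away (algebraMap V A ϖ) (FractionRing V ⊗[V] A) := by
    have := IsLocalization.tensorRight (R := V) (S := A) (FractionRing V) (Submonoid.powers ϖ)
    rw [Algebra.algebraMapSubmonoid_powers] at this
    convert this
  letI algR : Algebra R (FractionRing V ⊗[V] R) :=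
    (Algebra.TensorProduct.includeRight : R →ₐ[V] FractionRing V ⊗[V] R).toRingHom.toAlgebra
  haveI hlR : IsLocalization.Away (algebraMap V R ϖ) (FractionRing V ⊗[V] R) := by
    have := IsLocalization.tensorRight (R := V) (S := R) (FractionRing V) (Submonoid.powers ϖ)
    rw [Algebra.algebraMapSubmonoid_powers] at this
    convert this
  letI : Algebra (FractionRing V ⊗[V] R) C :=
    (IsLocalization.Away.lift (S := FractionRing V ⊗[V] R) (algebraMap V R ϖ) (g := algebraMap R C) hu.2).toAlgebra
  haveI : IsScalarTower R (FractionRing V ⊗[V] R) C :=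
    .of_algebraMap_eq fun x => (IsLocalization.Away.lift_eq (algebraMap V R ϖ) hu.2 x).symm
  haveI : IsLocalization.Away (algebraMap R (FractionRing V ⊗[V] R) a) C :=
    away_of_tower (S := FractionRing V ⊗[V] R) (algebraMap V R ϖ) a C
  letI : Algebra (FractionRing V ⊗[V] A) C :=
    ((algebraMap (FractionRing V ⊗[V] R) C).comp (Algebra.TensorProduct.map (AlgHom.id V (FractionRing V))
      (IsScalarTower.toAlgHom V A R)).toRingHom).toAlgebra
  haveI : IsScalarTower A (FractionRing V ⊗[V] A) C := .of_algebraMap_eq fun x => by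
    rw [IsScalarTower.algebraMap_apply A R C, IsScalarTower.algebraMap_apply R (FractionRing V ⊗[V] R) C]
    show _ = algebraMap (FractionRing V ⊗[V] R) C (Algebra.TensorProduct.map _ _ (1 ⊗ₜ x))
    simp [RingHom.algebraMap_toAlgebra, algR]
  letI : Algebra (FractionRing V) C :=
    ((algebraMap (FractionRing V ⊗[V] A) C).comp (algebraMap (FractionRing V) (FractionRing V ⊗[V] A))).toAlgebra
  haveI : IsScalarTower (FractionRing V) (FractionRing V ⊗[V] A) C := by
    refine IsScalarTower.of_algebraMap_eq (R := FractionRing V) (S := FractionRing V ⊗[V] A) (A := C) fun _ => rfl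
  haveI : IsScalarTower (FractionRing V) (FractionRing V ⊗[V] R) C := by
    refine IsScalarTower.of_algebraMap_eq (R := FractionRing V) (S := FractionRing V ⊗[V] R) (A := C) fun x => ?_
    show algebraMap (FractionRing V ⊗[V] R) C (Algebra.TensorProduct.map (AlgHom.id V (FractionRing V))
      (IsScalarTower.toAlgHom V A R) (x ⊗ₜ[V] (1 : A))) = _
    simp
  -- the smooth structures
  haveI hsA : Algebra.Smooth (FractionRing V) (FractionRing V ⊗[V] A) := by
    rw [← RingHom.smooth_algebraMap]
    exact smooth_of_locally d hA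
  haveI hsR : Algebra.Smooth (FractionRing V) (FractionRing V ⊗[V] R) := by
    rw [← RingHom.smooth_algebraMap]
    exact smooth_of_locally d hR
  haveI : Algebra.Etale (FractionRing V ⊗[V] R) C :=
    Algebra.Etale.of_isLocalizationAway (algebraMap R (FractionRing V ⊗[V] R) a)
  haveI : Algebra.Smooth (FractionRing V) C := Algebra.Smooth.comp (FractionRing V) (FractionRing V ⊗[V] R) C
  haveI : Algebra.FormallyUnramified A C := by
    haveI : Algebra.FormallyEtale R C := Algebra.FormallyEtale.of_isLocalization (Submonoid.powers (a * algebraMap V R ϖ))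
    refine ⟨(KaehlerDifferential.tensorKaehlerEquivOfFormallyEtale A R C).symm.toEquiv.subsingleton_congr.2 ?_⟩
    refine ⟨fun y z => ?_⟩
    suffices ∀ y : C ⊗[R] Ω[R⁄A], y = 0 from (this y).trans (this z).symm
    intro y
    induction y using TensorProduct.induction_on with
    | zero => rfl
    | add x y hx hy => rw [hx, hy, add_zero]
    | tmul r w => rw [← mul_one r, ← smul_eq_mul, ← TensorProduct.smul_tmul', hΩ, smul_zero]
  haveI : Algebra.FormallyUnramified (FractionRing V ⊗[V] A) C :=
    Algebra.FormallyUnramified.of_restrictScalars A (FractionRing V ⊗[V] A) C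
  haveI : Algebra.Smooth (FractionRing V ⊗[V] A) C := by
    refine LangLib.smooth_of_formallyUnramified (FractionRing V) (FractionRing V ⊗[V] A) C fun q => ?_
    rw [CommAlg4.rankAtStalk_kaehler_of_locally d hA,
      Module.rankAtStalk_isBaseChange
        (KaehlerDifferential.isBaseChange_of_formallyEtale (FractionRing V) (FractionRing V ⊗[V] R) C) q,
      CommAlg4.rankAtStalk_kaehler_of_locally d hR]
  haveI : Algebra.Etale (FractionRing V ⊗[V] A) C :=
    { formallyEtale := Algebra.FormallyEtale.iff_formallyUnramified_and_formallySmooth.2 ⟨inferInstance, inferInstance⟩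
      finitePresentation := inferInstance }
  haveI : Algebra.Etale A (FractionRing V ⊗[V] A) := Algebra.Etale.of_isLocalizationAway (algebraMap V A ϖ)
  exact Algebra.Etale.comp A (FractionRing V ⊗[V] A) C

/-- Let V be a discrete valuation ring of characteristic zero with uniformizer ϖ, whose residue field k
is perfect of characteristic p > 0, and let A → R be a homomorphism of V-algebras of finite type,
viewed as a morphism f : Spec R → Spec A of schemes of finite type over Spec V. Say f is η-étale
when there is an open neighbourhood of the closed fibre of Spec R on whose generic fibre f is étale;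
for affine Spec R this means: some a ∈ R with (a) + (ϖ) = R has R[1/(aϖ)] étale over A. First: if f
is η-étale then for some n ≥ 0 the submodule p^n Ω_{R/A} of the module of differentials is contained
in ϖ p^n Ω_{R/A} (that is, p^n Ω_{R/A} vanishes along the closed fibre). Conversely: if the generic
fibres Spec(K ⊗_V A) and Spec(K ⊗_V R) are both smooth over K of the same relative dimension d, K
the fraction field of V, then such an n forces f to be η-étale. (The published statement is for
arbitrary schemes X → Y of finite type over V and also lists an intermediate equivalent condition,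
that the restriction of p^n Ω_{X/Y} to the closed fibre as an abelian sheaf vanishes for some n;
this row is the case of affine schemes and states the other two conditions.) -/
theorem result (V : Type u) [CommRing V] [IsDomain V] [IsDiscreteValuationRing V] [CharZero V]
    (ϖ : V) (hϖ : Irreducible ϖ) (p : ℕ) [Fact p.Prime] [CharP (IsLocalRing.ResidueField V) p]
    [PerfectField (IsLocalRing.ResidueField V)]
    (A : Type u) [CommRing A] [Algebra V A] [Algebra.FiniteType V A]
    (R : Type u) [CommRing R] [Algebra V R] [Algebra.FiniteType V R] [Algebra A R] [IsScalarTower V A R] :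
    ((∃ a : R, Ideal.span {a} ⊔ Ideal.span {algebraMap V R ϖ} = ⊤ ∧
        ((algebraMap R (Localization.Away (a * algebraMap V R ϖ))).comp (algebraMap A R)).Etale) →
      ∃ n : ℕ, Ideal.span {((p : R)) ^ n} • (⊤ : Submodule R (Ω[R⁄A])) ≤
        Ideal.span {algebraMap V R ϖ * (p : R) ^ n} • (⊤ : Submodule R (Ω[R⁄A]))) ∧
    (∀ d : ℕ, SmoothOfRelativeDimension d
        (Spec.map (CommRingCat.ofHom (algebraMap (FractionRing V) (FractionRing V ⊗[V] A)))) →
      SmoothOfRelativeDimension d
        (Spec.map (CommRingCat.ofHom (algebraMap (FractionRing V) (FractionRing V ⊗[V] R)))) →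
      (∃ n : ℕ, Ideal.span {((p : R)) ^ n} • (⊤ : Submodule R (Ω[R⁄A])) ≤
        Ideal.span {algebraMap V R ϖ * (p : R) ^ n} • (⊤ : Submodule R (Ω[R⁄A]))) →
      ∃ a : R, Ideal.span {a} ⊔ Ideal.span {algebraMap V R ϖ} = ⊤ ∧
        ((algebraMap R (Localization.Away (a * algebraMap V R ϖ))).comp (algebraMap A R)).Etale) := by
  haveI : IsNoetherianRing A := Algebra.FiniteType.isNoetherianRing V A
  haveI : IsNoetherianRing R := Algebra.FiniteType.isNoetherianRing V R
  haveI : Algebra.FiniteType A R := Algebra.FiniteType.of_restrictScalars_finiteType V A R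
  haveI : Module.Finite R Ω[R⁄A] := inferInstance
  have hp0 : (p : V) ≠ 0 := Nat.cast_ne_zero.2 (Fact.out : p.Prime).ne_zero
  obtain ⟨e, u, hpe⟩ := IsDiscreteValuationRing.eq_unit_mul_pow_irreducible hp0 hϖ
  have he : e ≠ 0 := by
    rintro rfl
    have h1 : IsUnit (p : V) := by rw [hpe, pow_zero, mul_one]; exact u.isUnit
    have h2 := h1.map (IsLocalRing.residue V)
    rw [map_natCast, CharP.cast_eq_zero] at h2
    exact not_isUnit_zero h2
  have hpR : (p : R) = algebraMap V R (u : V) * algebraMap V R ϖ ^ e := by
    rw [← map_natCast (algebraMap V R), hpe, map_mul, map_pow]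
  refine ⟨fun ⟨a, ha, het⟩ => ?_, fun d hA hR ⟨n, hn⟩ => ?_⟩
  · -- étale generic part ⟹ differentials divisible
    rw [← IsScalarTower.algebraMap_eq A R (Localization.Away (a * algebraMap V R ϖ)), RingHom.etale_algebraMap] at het
    haveI := het
    obtain ⟨N, hN⟩ := exists_pow_smul_eq_zero A R (a * algebraMap V R ϖ) (Localization.Away (a * algebraMap V R ϖ))
    refine ⟨N, ?_⟩
    rw [← sup_comm] at ha
    have hco : IsCoprime (a ^ N) (algebraMap V R ϖ) := by
      refine IsCoprime.pow_left ?_
      rw [sup_comm, ← Ideal.isCoprime_iff_sup_eq, Ideal.isCoprime_span_singleton_iff] at ha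
      exact ha
    obtain ⟨r, s, hrs⟩ := hco
    rw [Submodule.ideal_span_singleton_smul, Submodule.ideal_span_singleton_smul]
    intro w hw
    obtain ⟨v, -, rfl⟩ := (Submodule.mem_smul_pointwise_iff_exists _ _ _).1 hw
    refine (Submodule.mem_smul_pointwise_iff_exists _ _ _).2 ⟨s • v, trivial, ?_⟩
    have hz : (a ^ N * (p : R) ^ N) • v = 0 := by
      have : a ^ N * (p : R) ^ N = (algebraMap V R (u : V) ^ N * algebraMap V R ϖ ^ ((e - 1) * N)) * (a * algebraMap V R ϖ) ^ N := by
        rw [hpR, mul_pow, mul_pow, ← pow_mul, show e * N = (e - 1) * N + N by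
          rw [← Nat.succ_mul, Nat.succ_eq_add_one, Nat.sub_add_cancel (Nat.one_le_iff_ne_zero.2 he)], pow_add]
        ring
      rw [this, mul_smul, hN, smul_zero]
    calc (algebraMap V R ϖ * (p : R) ^ N) • s • v = (s * algebraMap V R ϖ * (p : R) ^ N) • v := by
          rw [smul_smul]; ring_nf
      _ = ((r * a ^ N + s * algebraMap V R ϖ) * (p : R) ^ N) • v := by
          rw [add_mul, add_smul, mul_assoc r, mul_smul r, hz, smul_zero, zero_add]
      _ = (p : R) ^ N • v := by rw [hrs, one_mul]
  · -- divisible differentials ⟹ étale after inverting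
    have hfg : (Ideal.span {(p : R) ^ n} • (⊤ : Submodule R Ω[R⁄A])).FG := IsNoetherian.noetherian _
    have hle : Ideal.span {(p : R) ^ n} • (⊤ : Submodule R Ω[R⁄A]) ≤
        Ideal.span {algebraMap V R ϖ} • (Ideal.span {(p : R) ^ n} • (⊤ : Submodule R Ω[R⁄A])) := by
      rw [← Submodule.mul_smul, Ideal.span_singleton_mul_span_singleton]
      exact hn
    obtain ⟨a, ha1, ha2⟩ := Submodule.exists_sub_one_mem_and_smul_eq_zero_of_fg_of_le_smul _ _ hfg hle
    refine ⟨a, ?_, ?_⟩
    · rw [Ideal.eq_top_iff_one, show (1 : R) = a - (a - 1) by ring]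
      exact sub_mem (Ideal.mem_sup_left (Ideal.subset_span rfl)) (Ideal.mem_sup_right ha1)
    rw [← IsScalarTower.algebraMap_eq A R (Localization.Away (a * algebraMap V R ϖ)), RingHom.etale_algebraMap]
    refine etale_of_ranks hϖ A R (a * algebraMap V R ϖ) (a := a) rfl d ?_ ?_ (Localization.Away (a * algebraMap V R ϖ)) ?_
    · exact (HasRingHomProperty.Spec_iff (P := @SmoothOfRelativeDimension d)).1 hA
    · exact (HasRingHomProperty.Spec_iff (P := @SmoothOfRelativeDimension d)).1 hR
    · intro w
      have h1 : ∀ x : R, IsUnit (algebraMap R (Localization.Away (a * algebraMap V R ϖ)) x) → x • w = 0 →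
          ((1 : Localization.Away (a * algebraMap V R ϖ)) ⊗ₜ[R] w : Localization.Away (a * algebraMap V R ϖ) ⊗[R] Ω[R⁄A]) = 0 := by
        intro x hx hxw
        refine hx.smul_eq_zero.1 ?_
        rw [algebraMap_smul, ← TensorProduct.tmul_smul, hxw, TensorProduct.tmul_zero]
      have hu : IsUnit (algebraMap R (Localization.Away (a * algebraMap V R ϖ)) (a * algebraMap V R ϖ)) :=
        IsLocalization.Away.algebraMap_isUnit _
      rw [map_mul, IsUnit.mul_iff] at hu
      refine h1 (a * (p : R) ^ n) ?_ ?_
      · rw [map_mul, map_pow, hpR, map_mul, map_pow]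
        exact hu.1.mul (((((u.isUnit.map (algebraMap V R)).map _)).mul (hu.2.pow e)).pow n)
      · rw [mul_smul]
        refine ha2 _ ?_
        rw [Submodule.ideal_span_singleton_smul]
        exact Submodule.smul_mem_pointwise_smul _ _ _ trivial

end Groth.Agent.S14383
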