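import Groth.Statements.S14386
import Groth.Agent.CommAlg4.NodeLogDeriv
-- import your own Groth.Agent.* helpers here

set_option autoImplicit false
universe u
open CAlg

namespace Groth.Agent.S14386

open Groth.Agent.CommAlg4

theorem node_isPrime (V : Type u) [CommRing V] (ϖ : V) (k : Type u) [Field k] [Algebra V k]
    (hπ : algebraMap V k ϖ = 0)
    (hsec : ∀ i, Function.Surjective (NodeLogDeriv.psi V ϖ k hπ i) ∧
      ∀ a, NodeLogDeriv.psi V ϖ k hπ i a = 0 → a ∈ Ideal.span {NodeLogDeriv.co V ϖ i}) :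
    (Ideal.span {NodeLogDeriv.co V ϖ 0, NodeLogDeriv.co V ϖ 1}).IsPrime := by
  have : Ideal.span {NodeLogDeriv.co V ϖ 0, NodeLogDeriv.co V ϖ 1} =
      RingHom.ker ((Polynomial.evalRingHom (0 : k)).comp (NodeLogDeriv.psi V ϖ k hπ 0).toRingHom) := by
    refine le_antisymm ?_ fun a ha => ?_
    · rw [Ideal.span_le]
      rintro _ (rfl | rfl) <;> simp [NodeLogDeriv.psi_co]
    · have h0 : Polynomial.X ∣ NodeLogDeriv.psi V ϖ k hπ 0 a := Polynomial.X_dvd_iff.2 (by
        simpa [Polynomial.coeff_zero_eq_eval_zero] using ha)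
      obtain ⟨Q, hQ⟩ := h0
      obtain ⟨q, rfl⟩ := (hsec 0).1 Q
      have h1 : a - NodeLogDeriv.co V ϖ 1 * q ∈ Ideal.span {NodeLogDeriv.co V ϖ 0} := (hsec 0).2 _ (by
        rw [map_sub, map_mul, NodeLogDeriv.psi_co, if_neg (by decide : (1 : Fin 2) ≠ 0), hQ, sub_self])
      rw [← sub_add_cancel a (NodeLogDeriv.co V ϖ 1 * q)]
      exact add_mem (Ideal.span_mono (by simp) h1) (Ideal.mul_mem_right _ _ (Ideal.subset_span (Or.inr rfl)))
  rw [this]
  exact RingHom.ker_isPrime _

theorem dvd_cancel {R : Type u} [CommRing R] {g x : R} (hp : (Ideal.span {x}).IsPrime)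
    (hg : g ∉ Ideal.span {x}) (hx : ∀ a, x * a = 0 → a = 0) :
    ∀ (N : ℕ) (c e : R), c * g = x ^ N * e → ∃ c', c' * g = e := by
  intro N
  induction N with
  | zero => intro c e h; exact ⟨c, by rw [h, pow_zero, one_mul]⟩
  | succ N ih =>
    intro c e h
    have hm : c * g ∈ Ideal.span {x} := by
      rw [h, pow_succ, show x ^ N * x * e = (x ^ N * e) * x by ring]
      exact Ideal.mul_mem_left _ _ (Ideal.subset_span rfl)
    obtain ⟨c', rfl⟩ := Ideal.mem_span_singleton'.1 ((hp.mem_or_mem hm).resolve_right hg)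
    refine ih c' e (sub_eq_zero.1 (hx _ ?_))
    rw [mul_sub, sub_eq_zero]
    linear_combination h

theorem co_nzd (V : Type u) [CommRing V] [IsDomain V] (ϖ : V) (hϖ : ϖ ≠ 0) (h : NodeLogDeriv.A V ϖ) (i : Fin 2)
    (z : Localization.Away h) (hz : algebraMap _ _ (NodeLogDeriv.co V ϖ i) * z = 0) : z = 0 := by
  obtain ⟨⟨b, s⟩, hb⟩ := IsLocalization.surj (Submonoid.powers h) z
  have h1 : algebraMap (NodeLogDeriv.A V ϖ) (Localization.Away h) (NodeLogDeriv.co V ϖ i * b) = 0 := by
    rw [map_mul, ← hb, ← mul_assoc, hz, zero_mul]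
  obtain ⟨t, ht⟩ := (IsLocalization.map_eq_zero_iff (Submonoid.powers h) (Localization.Away h) _).1 h1
  have h2 : algebraMap (NodeLogDeriv.A V ϖ) (Localization.Away h) b = 0 :=
    (IsLocalization.map_eq_zero_iff (Submonoid.powers h) (Localization.Away h) _).2 ⟨t,
      NodeLogDeriv.co_regular V ϖ hϖ i _ (by rw [← ht]; ring)⟩
  rw [h2] at hb
  exact (IsLocalization.map_units (Localization.Away h) s).mul_left_eq_zero.1 hb

theorem pow_mem_of_one_mem {R : Type u} [CommRing R] (s g : R)
    (h : (1 : Localization.Away s) ∈ Ideal.span {algebraMap R (Localization.Away s) g}) :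
    ∃ N, s ^ N ∈ Ideal.span {g} := by
  rw [← Set.image_singleton, ← Ideal.map_span] at h
  obtain ⟨⟨c, ⟨_, N, rfl⟩⟩, hc⟩ := (IsLocalization.mem_map_algebraMap_iff (Submonoid.powers s) _).1 h
  rw [one_mul] at hc
  obtain ⟨⟨_, M, rfl⟩, hM⟩ := (IsLocalization.eq_iff_exists (Submonoid.powers s) _).1 hc
  refine ⟨M + N, ?_⟩
  rw [pow_add]
  change s ^ M * s ^ N = s ^ M * (c : R) at hM
  rw [hM]
  exact Ideal.mul_mem_left _ _ c.2

theorem wronskian_of (V : Type u) [CommRing V] [IsLocalRing V] (ϖ : V)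
    (hπ : algebraMap V (IsLocalRing.ResidueField V) ϖ = 0) (i : Fin 2) (a s : NodeLogDeriv.A V ϖ)
    (h : NodeLogDeriv.psi V ϖ (IsLocalRing.ResidueField V) hπ i (NodeLogDeriv.D V ϖ 0 a) *
      NodeLogDeriv.psi V ϖ (IsLocalRing.ResidueField V) hπ i s =
      NodeLogDeriv.psi V ϖ (IsLocalRing.ResidueField V) hπ i a *
        NodeLogDeriv.psi V ϖ (IsLocalRing.ResidueField V) hπ i (NodeLogDeriv.D V ϖ 0 s)) :
    Polynomial.derivative (NodeLogDeriv.psi V ϖ (IsLocalRing.ResidueField V) hπ i a) *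
      NodeLogDeriv.psi V ϖ (IsLocalRing.ResidueField V) hπ i s =
      NodeLogDeriv.psi V ϖ (IsLocalRing.ResidueField V) hπ i a *
        Polynomial.derivative (NodeLogDeriv.psi V ϖ (IsLocalRing.ResidueField V) hπ i s) := by
  refine mul_left_cancel₀ (Polynomial.X_ne_zero (R := IsLocalRing.ResidueField V)) ?_
  obtain rfl | rfl : i = 0 ∨ i = 1 := by fin_cases i <;> simp
  · rw [NodeLogDeriv.psi_D, NodeLogDeriv.psi_D] at h
    linear_combination -h
  · have ha := NodeLogDeriv.psi_D V ϖ (IsLocalRing.ResidueField V) hπ 1 a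
    have hs := NodeLogDeriv.psi_D V ϖ (IsLocalRing.ResidueField V) hπ 1 s
    rw [NodeLogDeriv.D_one_eq_neg, map_neg, neg_inj] at ha hs
    rw [ha, hs] at h
    linear_combination h

theorem map_derivative_sub {V k : Type u} [CommRing V] [CommRing k] (g : V →+* k) (P Q : Polynomial V)
    (h : Polynomial.derivative (P.map g) * Q.map g = P.map g * Polynomial.derivative (Q.map g)) :
    (Polynomial.derivative P * Q - P * Polynomial.derivative Q).map g = 0 := by
  rw [Polynomial.map_sub, Polynomial.map_mul, Polynomial.map_mul, ← Polynomial.derivative_map,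
    ← Polynomial.derivative_map, h, sub_self]

theorem smul_step {B M : Type u} [CommRing B] [AddCommGroup M] [Module B M] {u F p q : B} {dy dF : M}
    (e : F • q • dy + u • dF = p • dy) (hu : IsUnit u) (h : u * p = F * u * q) : dF = 0 := by
  refine hu.smul_eq_zero.1 (hu.smul_eq_zero.1 ?_)
  rw [eq_sub_of_add_eq' e, smul_sub, smul_smul, smul_smul, smul_smul, h, mul_comm F u, sub_self]

set_option maxHeartbeats 1000000 in
theorem D_eq_zero (V : Type u) [CommRing V] [IsDomain V] [IsDiscreteValuationRing V] (ϖ : V) (hϖ : Irreducible ϖ)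
    (h : NodeLogDeriv.A V ϖ) (f : Localization.Away h) (hπ : algebraMap V (IsLocalRing.ResidueField V) ϖ = 0)
    (i : Fin 2) (hsec : ∀ i, Function.Surjective (NodeLogDeriv.psi V ϖ (IsLocalRing.ResidueField V) hπ i) ∧
      ∀ a, NodeLogDeriv.psi V ϖ (IsLocalRing.ResidueField V) hπ i a = 0 → a ∈ Ideal.span {NodeLogDeriv.co V ϖ i})
    (n : ℕ) (a : NodeLogDeriv.A V ϖ) (ha : f * algebraMap _ _ (h ^ n) = algebraMap _ _ a)
    (hW : Polynomial.derivative (NodeLogDeriv.psi V ϖ (IsLocalRing.ResidueField V) hπ i a) *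
      NodeLogDeriv.psi V ϖ (IsLocalRing.ResidueField V) hπ i (h ^ n) =
      NodeLogDeriv.psi V ϖ (IsLocalRing.ResidueField V) hπ i a *
        Polynomial.derivative (NodeLogDeriv.psi V ϖ (IsLocalRing.ResidueField V) hπ i (h ^ n))) :
    KaehlerDifferential.D V (Localization.Away h ⧸ Ideal.span
        ({algebraMap (NodeLogDeriv.A V ϖ) (Localization.Away h) (NodeLogDeriv.co V ϖ i)} : Set (Localization.Away h)))
        (Ideal.Quotient.mk _ f) = 0 := by
  let J : Ideal (Localization.Away h) := Ideal.span {algebraMap (NodeLogDeriv.A V ϖ) (Localization.Away h) (NodeLogDeriv.co V ϖ i)}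
  let π : NodeLogDeriv.A V ϖ →ₐ[V] Localization.Away h ⧸ J :=
    (Ideal.Quotient.mkₐ V J).comp (IsScalarTower.toAlgHom V _ _)
  let y := π (NodeLogDeriv.co V ϖ (1 - i))
  have key : ∀ b, ∃ Q : Polynomial V, Q.map (algebraMap V (IsLocalRing.ResidueField V)) =
      NodeLogDeriv.psi V ϖ (IsLocalRing.ResidueField V) hπ i b ∧ π b = Polynomial.aeval y Q := by
    intro b
    obtain ⟨Q, hQ⟩ := Polynomial.map_surjective _ IsLocalRing.residue_surjective
      (NodeLogDeriv.psi V ϖ (IsLocalRing.ResidueField V) hπ i b)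
    refine ⟨Q, hQ, ?_⟩
    rw [show y = π (NodeLogDeriv.co V ϖ (1 - i)) from rfl, Polynomial.aeval_algHom_apply, ← sub_eq_zero, ← map_sub]
    have hm := (hsec i).2 (b - Polynomial.aeval (NodeLogDeriv.co V ϖ (1 - i)) Q) (by
      rw [map_sub, ← Polynomial.aeval_algHom_apply, NodeLogDeriv.psi_co, if_neg (NodeLogDeriv.one_sub_ne i),
        ← hQ, ← Polynomial.aeval_map_algebraMap (IsLocalRing.ResidueField V), Polynomial.aeval_X_left_apply]
      exact sub_self _)
    obtain ⟨c, hc⟩ := Ideal.mem_span_singleton'.1 hm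
    rw [← hc, map_mul]
    exact mul_eq_zero_of_right _ (Ideal.Quotient.eq_zero_iff_mem.2 (Ideal.subset_span rfl))
  have hzero : ∀ P : Polynomial V, P.map (algebraMap V (IsLocalRing.ResidueField V)) = 0 → Polynomial.aeval y P = 0 := by
    intro P hP
    rw [Polynomial.aeval_eq_sum_range]
    refine Finset.sum_eq_zero fun m _ => ?_
    have hm : P.coeff m ∈ IsLocalRing.maximalIdeal V := by
      rw [← IsLocalRing.residue_eq_zero_iff]
      exact (Polynomial.coeff_map (algebraMap V (IsLocalRing.ResidueField V)) m).symm.trans (by rw [hP, Polynomial.coeff_zero])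
    rw [(IsDiscreteValuationRing.irreducible_iff_uniformizer ϖ).1 hϖ, Ideal.mem_span_singleton'] at hm
    obtain ⟨c, hc⟩ := hm
    rw [Algebra.smul_def, ← hc, map_mul, ← AlgHom.commutes π ϖ, ← NodeLogDeriv.co_mul V ϖ i, map_mul,
      show π (NodeLogDeriv.co V ϖ i) = 0 from Ideal.Quotient.eq_zero_iff_mem.2 (Ideal.subset_span rfl)]
    simp
  obtain ⟨P, hP, hPa⟩ := key a
  obtain ⟨Q, hQ, hQs⟩ := key (h ^ n)
  rw [← hP, ← hQ] at hW
  have hz := hzero _ (map_derivative_sub _ P Q hW)
  rw [map_sub, map_mul, map_mul, ← hQs, ← hPa, sub_eq_zero] at hz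
  have hfa : Ideal.Quotient.mk J f * π (h ^ n) = π a :=
    (map_mul (Ideal.Quotient.mk J) f _).symm.trans (congrArg (Ideal.Quotient.mk J) ha)
  have hu : IsUnit (π (h ^ n)) := by
    rw [map_pow]
    exact ((IsLocalization.Away.algebraMap_isUnit (S := Localization.Away h) h).map (Ideal.Quotient.mk J)).pow n
  let d := KaehlerDifferential.D V (Localization.Away h ⧸ J)
  have e := congrArg d hfa
  rw [Derivation.leibniz, hQs, hPa, Derivation.map_aeval, Derivation.map_aeval, ← hQs] at e
  refine smul_step e hu (?_ : π (h ^ n) * _ = Ideal.Quotient.mk J f * π (h ^ n) * _)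
  rw [hfa]
  exact (mul_comm _ _).trans hz

theorem not_quasiFinite (V : Type u) [CommRing V] [IsLocalRing V] [CharZero (IsLocalRing.ResidueField V)] (ϖ : V)
    (h : NodeLogDeriv.A V ϖ) (f : Localization.Away h) (hπ : algebraMap V (IsLocalRing.ResidueField V) ϖ = 0)
    (i : Fin 2) (hh : NodeLogDeriv.psi V ϖ (IsLocalRing.ResidueField V) hπ i h ≠ 0)
    (n : ℕ) (a : NodeLogDeriv.A V ϖ) (ha : f * algebraMap _ _ (h ^ n) = algebraMap _ _ a)
    (hW : Polynomial.derivative (NodeLogDeriv.psi V ϖ (IsLocalRing.ResidueField V) hπ i a) *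
      NodeLogDeriv.psi V ϖ (IsLocalRing.ResidueField V) hπ i (h ^ n) =
      NodeLogDeriv.psi V ϖ (IsLocalRing.ResidueField V) hπ i a *
        Polynomial.derivative (NodeLogDeriv.psi V ϖ (IsLocalRing.ResidueField V) hπ i (h ^ n))) :
    ¬ (Polynomial.aeval f : Polynomial V →ₐ[V] Localization.Away h).toRingHom.QuasiFinite := by
  intro hqf
  letI : Algebra (Polynomial V) (Localization.Away h) :=
    (Polynomial.aeval f : Polynomial V →ₐ[V] Localization.Away h).toRingHom.toAlgebra
  haveI : Algebra.QuasiFinite (Polynomial V) (Localization.Away h) := hqf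
  obtain ⟨c, hc⟩ := NodeLogDeriv.exists_eq_C_mul (by rw [map_pow]; exact pow_ne_zero _ hh) hW
  let S : Set (IsLocalRing.ResidueField V) :=
    {x | (NodeLogDeriv.psi V ϖ (IsLocalRing.ResidueField V) hπ i h).eval x ≠ 0}
  have hS : S.Infinite := (Polynomial.finite_setOf_isRoot hh).infinite_compl
  let ev : S → (NodeLogDeriv.A V ϖ →+* IsLocalRing.ResidueField V) := fun x =>
    (Polynomial.evalRingHom x.1).comp (NodeLogDeriv.psi V ϖ (IsLocalRing.ResidueField V) hπ i).toRingHom
  let E : S → (Localization.Away h →+* IsLocalRing.ResidueField V) := fun x =>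
    IsLocalization.Away.lift (g := ev x) h (Ne.isUnit x.2)
  have hE : ∀ x b, E x (algebraMap _ _ b) = ev x b := fun x b => IsLocalization.Away.lift_eq _ _ b
  have hV : ∀ (x : S) (v : V), ev x (algebraMap V _ v) = algebraMap V _ v := fun x v => by
    show Polynomial.eval x.1 (NodeLogDeriv.psi V ϖ (IsLocalRing.ResidueField V) hπ i (algebraMap V _ v)) = _
    rw [AlgHom.commutes, IsScalarTower.algebraMap_apply V (IsLocalRing.ResidueField V) (Polynomial _),
      Polynomial.algebraMap_eq, Polynomial.eval_C]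
  have hEf : ∀ x : S, E x f = c := by
    intro x
    have := congrArg (E x) ha
    rw [map_mul, hE, hE] at this
    refine mul_right_cancel₀ (b := ev x (h ^ n)) ?_ (this.trans ?_)
    · rw [map_pow]; exact pow_ne_zero _ x.2
    · show Polynomial.eval x.1 (NodeLogDeriv.psi V ϖ (IsLocalRing.ResidueField V) hπ i a) = _
      rw [hc, Polynomial.eval_mul, Polynomial.eval_C]
      rfl
  let P₀ : Ideal (Polynomial V) :=
    RingHom.ker (Polynomial.eval₂RingHom (algebraMap V (IsLocalRing.ResidueField V)) c)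
  let Φ : S → P₀.primesOver (Localization.Away h) := fun x =>
    ⟨RingHom.ker (E x), RingHom.ker_isPrime _, ⟨by
      rw [Ideal.under_def, RingHom.comap_ker]
      have key : (E x).comp (algebraMap (Polynomial V) (Localization.Away h)) =
          Polynomial.eval₂RingHom (algebraMap V (IsLocalRing.ResidueField V)) c := by
        refine Polynomial.ringHom_ext (fun v => ?_) ?_
        · show E x (Polynomial.aeval f (Polynomial.C v)) = _
          rw [Polynomial.aeval_C, IsScalarTower.algebraMap_apply V (NodeLogDeriv.A V ϖ) (Localization.Away h), hE, hV]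
          simp
        · show E x (Polynomial.aeval f Polynomial.X) = _
          rw [Polynomial.aeval_X, hEf]
          simp
      rw [key]⟩⟩
  haveI : Finite (P₀.primesOver (Localization.Away h)) := (Algebra.QuasiFinite.finite_primesOver P₀).to_subtype
  haveI : Infinite S := hS.to_subtype
  obtain ⟨x, y, hne, hxy⟩ := Finite.exists_ne_map_eq_of_infinite Φ
  have hker : RingHom.ker (E x) = RingHom.ker (E y) := congrArg Subtype.val hxy
  obtain ⟨v, hv⟩ := IsLocalRing.residue_surjective (R := V) x.1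
  have hco : ∀ z : S, ev z (NodeLogDeriv.co V ϖ (1 - i)) = z.1 := fun z => by
    show Polynomial.eval z.1 (NodeLogDeriv.psi V ϖ (IsLocalRing.ResidueField V) hπ i (NodeLogDeriv.co V ϖ (1 - i))) = _
    rw [NodeLogDeriv.psi_co, if_neg (NodeLogDeriv.one_sub_ne i), Polynomial.eval_X]
  have hm : algebraMap _ (Localization.Away h) (NodeLogDeriv.co V ϖ (1 - i) - algebraMap V _ v) ∈ RingHom.ker (E x) := by
    rw [RingHom.mem_ker, hE, map_sub, hV, hco, IsLocalRing.ResidueField.algebraMap_eq, hv, sub_self]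
  rw [hker, RingHom.mem_ker, hE, map_sub, hV, hco, IsLocalRing.ResidueField.algebraMap_eq, hv, sub_eq_zero] at hm
  exact hne (Subtype.ext hm.symm)

set_option maxHeartbeats 1000000 in
/-- Let V be a discrete valuation ring of characteristic zero with uniformizer ϖ and perfect residue
field k, let Q = V[x, y]/(xy − ϖ) be the coordinate ring of the standard semistable node over V and
P its closed point x = y = 0 of the closed fibre, let h ∈ Q with h ∉ (x, y), so that B = Q[1/h] is
the ring of an open neighbourhood of P, and let f ∈ B define a morphism to the affine line over V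
which is étale on the generic fibre: B[1/ϖ] is étale over V[T] via T ↦ f. Then df vanishes
identically on one of the two components x = 0, y = 0 of the closed fibre of Spec B: the
differential of the image of f in Ω_{(B/xB)/V} is zero or the differential of the image of f in
Ω_{(B/yB)/V} is zero. If moreover k has characteristic zero, then f contracts that component and the
morphism is not quasi-finite: V[T] → B, T ↦ f, is not a quasi-finite ring map. -/
theorem result (V : Type u) [CommRing V] [IsDomain V] [IsDiscreteValuationRing V] [CharZero V]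
    [PerfectField (IsLocalRing.ResidueField V)] (ϖ : V) (hϖ : Irreducible ϖ)
    (h : (MvPolynomial (Fin 2) V ⧸ Ideal.span {(MvPolynomial.X 0 * MvPolynomial.X 1 - MvPolynomial.C ϖ : MvPolynomial (Fin 2) V)}))
    (hh : h ∉ Ideal.span ({(Ideal.Quotient.mk (Ideal.span {(MvPolynomial.X 0 * MvPolynomial.X 1 - MvPolynomial.C ϖ : MvPolynomial (Fin 2) V)}) (MvPolynomial.X 0 : MvPolynomial (Fin 2) V)), (Ideal.Quotient.mk (Ideal.span {(MvPolynomial.X 0 * MvPolynomial.X 1 - MvPolynomial.C ϖ : MvPolynomial (Fin 2) V)}) (MvPolynomial.X 1 : MvPolynomial (Fin 2) V))} : Set (MvPolynomial (Fin 2) V ⧸ Ideal.span {(MvPolynomial.X 0 * MvPolynomial.X 1 - MvPolynomial.C ϖ : MvPolynomial (Fin 2) V)})))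
    (f : Localization.Away h)
    (hf : ((algebraMap (Localization.Away h)
        (Localization.Away (algebraMap V (Localization.Away h) ϖ))).comp
          (Polynomial.aeval f : Polynomial V →ₐ[V] Localization.Away h).toRingHom).Etale) :
    (KaehlerDifferential.D V (Localization.Away h ⧸ Ideal.span
        ({algebraMap (MvPolynomial (Fin 2) V ⧸ Ideal.span {(MvPolynomial.X 0 * MvPolynomial.X 1 - MvPolynomial.C ϖ : MvPolynomial (Fin 2) V)}) (Localization.Away h) (Ideal.Quotient.mk (Ideal.span {(MvPolynomial.X 0 * MvPolynomial.X 1 - MvPolynomial.C ϖ : MvPolynomial (Fin 2) V)}) (MvPolynomial.X 0 : MvPolynomial (Fin 2) V))} : Set (Localization.Away h)))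
        (Ideal.Quotient.mk _ f) = 0 ∨
     KaehlerDifferential.D V (Localization.Away h ⧸ Ideal.span
        ({algebraMap (MvPolynomial (Fin 2) V ⧸ Ideal.span {(MvPolynomial.X 0 * MvPolynomial.X 1 - MvPolynomial.C ϖ : MvPolynomial (Fin 2) V)}) (Localization.Away h) (Ideal.Quotient.mk (Ideal.span {(MvPolynomial.X 0 * MvPolynomial.X 1 - MvPolynomial.C ϖ : MvPolynomial (Fin 2) V)}) (MvPolynomial.X 1 : MvPolynomial (Fin 2) V))} : Set (Localization.Away h)))
        (Ideal.Quotient.mk _ f) = 0) ∧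
    (CharZero (IsLocalRing.ResidueField V) →
      ¬ (Polynomial.aeval f : Polynomial V →ₐ[V] Localization.Away h).toRingHom.QuasiFinite) := by
  haveI hVp : IsLocalRing V := inferInstance
  have hker : ∀ r, algebraMap V (IsLocalRing.ResidueField V) r = 0 → ϖ ∣ r := fun r hr => by
    rw [IsLocalRing.ResidueField.algebraMap_eq, IsLocalRing.residue_eq_zero_iff,
      (IsDiscreteValuationRing.irreducible_iff_uniformizer ϖ).1 hϖ] at hr
    exact Ideal.mem_span_singleton.1 hr
  have hπ : algebraMap V (IsLocalRing.ResidueField V) ϖ = 0 := by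
    rw [IsLocalRing.ResidueField.algebraMap_eq, IsLocalRing.residue_eq_zero_iff]
    exact (IsLocalRing.mem_maximalIdeal _).2 hϖ.not_isUnit
  let co : Fin 2 → NodeLogDeriv.A V ϖ := NodeLogDeriv.co V ϖ
  -- the branches
  have hsec := fun i => NodeLogDeriv.exists_sec V ϖ (IsLocalRing.ResidueField V) hπ i IsLocalRing.residue_surjective hker
  have hpr : ∀ i, (Ideal.span {co i}).IsPrime := by
    intro i
    have : Ideal.span {co i} = RingHom.ker (NodeLogDeriv.psi V ϖ (IsLocalRing.ResidueField V) hπ i) := by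
      refine le_antisymm ?_ (fun a ha => (hsec i).2 a ha)
      rw [Ideal.span_le, Set.singleton_subset_iff]
      exact (NodeLogDeriv.psi_co V ϖ _ hπ i i).trans (if_pos rfl)
    rw [this]
    exact RingHom.ker_isPrime _
  have hmem : ∀ i, h ∉ Ideal.span {co i} := by
    intro i hi
    refine hh (Ideal.span_mono ?_ hi)
    fin_cases i
    · exact fun _ e => Or.inl e
    · exact fun _ e => Or.inr e
  -- the derivation on the localisation
  let j := algebraMap (NodeLogDeriv.A V ϖ) (Localization.Away h)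
  obtain ⟨φ, hfst, hφ⟩ := NodeLogDeriv.exists_lift (R := Localization.Away h) h (NodeLogDeriv.D V ϖ 0)
    (fun a b => by simp [NodeLogDeriv.D]) (NodeLogDeriv.D_mul V ϖ 0)
  have hV : ∀ v : V, (φ (algebraMap V _ v)).snd = 0 := fun v => by
    rw [IsScalarTower.algebraMap_apply V (NodeLogDeriv.A V ϖ) (Localization.Away h), hφ, NodeLogDeriv.D,
      AlgHom.commutes, TrivSqZeroExt.algebraMap_eq_inl', TrivSqZeroExt.snd_inl, map_zero]
  -- it is a unit on the generic fibre
  have hjxy : j (co 0) * j (co 1) = algebraMap V (Localization.Away h) ϖ := by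
    rw [← map_mul, IsScalarTower.algebraMap_apply V (NodeLogDeriv.A V ϖ) (Localization.Away h)]
    exact congrArg j (NodeLogDeriv.co_mul V ϖ 0)
  have h1 : (1 : Localization.Away (algebraMap V (Localization.Away h) ϖ)) ∈ Ideal.span {algebraMap _ _ (φ f).snd} :=
    NodeLogDeriv.one_mem_of_etale (algebraMap V (Localization.Away h) ϖ) f φ hfst hV hf (j (co 0)) (j (co 1))
      (by rw [hφ]; refine congrArg j ?_; simp [co, NodeLogDeriv.D, NodeLogDeriv.dual_co, -DualNumber.inr_eq_smul_eps]) hjxy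
  obtain ⟨N, hN⟩ := pow_mem_of_one_mem (algebraMap V (Localization.Away h) ϖ) (φ f).snd h1
  obtain ⟨⟨a, ⟨_, n, rfl⟩⟩, ha⟩ := IsLocalization.surj (Submonoid.powers h) f
  change f * j (h ^ n) = j a at ha
  -- the derivative is not a unit at the node
  have hsnd : (φ f).snd * j (h ^ n) = j (NodeLogDeriv.D V ϖ 0 a) - f * j (NodeLogDeriv.D V ϖ 0 (h ^ n)) := by
    have e := congrArg (fun z => (φ z).snd) ha
    simp only [map_mul φ, TrivSqZeroExt.snd_mul, hfst, smul_eq_mul, MulOpposite.smul_eq_mul_unop,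
      MulOpposite.unop_op] at e
    rw [hφ, hφ] at e
    linear_combination e
  have hprR : ∀ i, (Ideal.span {j (co i)}).IsPrime ∧ ∀ b, j b ∈ Ideal.span {j (co i)} → b ∈ Ideal.span {co i} := by
    intro i
    have hd : Disjoint (Submonoid.powers h : Set (NodeLogDeriv.A V ϖ)) (Ideal.span {co i} : Set _) := by
      refine Set.disjoint_left.2 ?_
      rintro _ ⟨m, rfl⟩ hm
      exact hmem i ((hpr i).mem_of_pow_mem m hm)
    have e : Ideal.span {j (co i)} = (Ideal.span {co i}).map j := by rw [Ideal.map_span, Set.image_singleton]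
    rw [e]
    refine ⟨IsLocalization.isPrime_of_isPrime_disjoint _ _ _ (hpr i) hd, fun b hb => ?_⟩
    rw [← IsLocalization.comap_map_of_isPrime_disjoint _ (Localization.Away h) (hpr i) hd]
    exact hb
  have hnu : ¬ IsUnit (φ f).snd := by
    intro hu
    have hd : Disjoint (Submonoid.powers h : Set (NodeLogDeriv.A V ϖ)) (Ideal.span {co 0, co 1} : Set _) := by
      refine Set.disjoint_left.2 ?_
      rintro _ ⟨m, rfl⟩ hm
      refine hh ((node_isPrime V ϖ (IsLocalRing.ResidueField V) hπ hsec).mem_of_pow_mem m hm)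
    have hP := IsLocalization.isPrime_of_isPrime_disjoint (Submonoid.powers h) (Localization.Away h) _
      (node_isPrime V ϖ (IsLocalRing.ResidueField V) hπ hsec) hd
    refine hP.ne_top (Ideal.eq_top_of_isUnit_mem _ ?_ (hu.mul ((IsLocalization.Away.algebraMap_isUnit h).pow n)))
    rw [← map_pow, hsnd]
    exact sub_mem (Ideal.mem_map_of_mem _ (NodeLogDeriv.D_mem V ϖ 0 a)) (Ideal.mul_mem_left _ _ (Ideal.mem_map_of_mem _ (NodeLogDeriv.D_mem V ϖ 0 _)))
  obtain ⟨i, hi⟩ : ∃ i, (φ f).snd ∈ Ideal.span {j (co i)} := by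
    by_contra! hne
    obtain ⟨c, hc⟩ := Ideal.mem_span_singleton'.1 hN
    have hxy : (algebraMap V (Localization.Away h) ϖ) ^ N = j (co 0) ^ N * j (co 1) ^ N := by
      rw [← mul_pow, ← map_mul, IsScalarTower.algebraMap_apply V (NodeLogDeriv.A V ϖ) (Localization.Away h)]
      exact congrArg (fun t => j t ^ N) (NodeLogDeriv.co_mul V ϖ 0).symm
    rw [hxy] at hc
    have hnz : ∀ i, j (co i) ≠ 0 := by
      intro i hz
      have h0 : co i ∈ Ideal.span {co (1 - i)} := (hprR (1 - i)).2 _ (by rw [hz]; exact zero_mem _)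
      obtain ⟨b, hb⟩ := Ideal.mem_span_singleton'.1 h0
      have := congrArg (NodeLogDeriv.psi V ϖ (IsLocalRing.ResidueField V) hπ (1 - i)) hb
      rw [map_mul, NodeLogDeriv.psi_co, NodeLogDeriv.psi_co, if_pos rfl,
        if_neg (NodeLogDeriv.one_sub_ne i).symm, mul_zero] at this
      exact Polynomial.X_ne_zero this.symm
    obtain ⟨c', hc'⟩ := dvd_cancel (hprR 0).1 (hne 0) (co_nzd V ϖ hϖ.ne_zero h 0) N c _ hc
    obtain ⟨c'', hc''⟩ := dvd_cancel (hprR 1).1 (hne 1) (co_nzd V ϖ hϖ.ne_zero h 1) N c' 1 (by rw [hc', mul_one])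
    exact hnu (IsUnit.of_mul_eq_one c'' ((mul_comm _ _).trans hc''))
  -- the function is constant on that branch
  have hψD : NodeLogDeriv.psi V ϖ (IsLocalRing.ResidueField V) hπ i (NodeLogDeriv.D V ϖ 0 a) *
      NodeLogDeriv.psi V ϖ (IsLocalRing.ResidueField V) hπ i (h ^ n) =
      NodeLogDeriv.psi V ϖ (IsLocalRing.ResidueField V) hπ i a *
        NodeLogDeriv.psi V ϖ (IsLocalRing.ResidueField V) hπ i (NodeLogDeriv.D V ϖ 0 (h ^ n)) := by
    have h1 : j (NodeLogDeriv.D V ϖ 0 a * h ^ n - a * NodeLogDeriv.D V ϖ 0 (h ^ n)) ∈ Ideal.span {j (co i)} := by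
      rw [map_sub, map_mul, map_mul, ← ha,
        show j (NodeLogDeriv.D V ϖ 0 a) * j (h ^ n) - f * j (h ^ n) * j (NodeLogDeriv.D V ϖ 0 (h ^ n)) =
          (j (NodeLogDeriv.D V ϖ 0 a) - f * j (NodeLogDeriv.D V ϖ 0 (h ^ n))) * j (h ^ n) by ring, ← hsnd]
      exact Ideal.mul_mem_right _ _ (Ideal.mul_mem_right _ _ hi)
    obtain ⟨b, hb⟩ := Ideal.mem_span_singleton'.1 ((hprR i).2 _ h1)
    have h2 := congrArg (NodeLogDeriv.psi V ϖ (IsLocalRing.ResidueField V) hπ i) hb
    rw [map_mul, NodeLogDeriv.psi_co, if_pos rfl, mul_zero, map_sub, map_mul, map_mul, eq_comm, sub_eq_zero] at h2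
    exact h2
  have hW : Polynomial.derivative (NodeLogDeriv.psi V ϖ (IsLocalRing.ResidueField V) hπ i a) *
      NodeLogDeriv.psi V ϖ (IsLocalRing.ResidueField V) hπ i (h ^ n) =
      NodeLogDeriv.psi V ϖ (IsLocalRing.ResidueField V) hπ i a *
        Polynomial.derivative (NodeLogDeriv.psi V ϖ (IsLocalRing.ResidueField V) hπ i (h ^ n)) :=
    wronskian_of V ϖ hπ i a (h ^ n) hψD
  refine ⟨?_, fun hc0 => ?_⟩
  · have hd := D_eq_zero V ϖ hϖ h f hπ i hsec n a ha hW
    fin_cases i
    · exact Or.inl hd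
    · exact Or.inr hd
  · exact not_quasiFinite V ϖ h f hπ i (fun e => hmem i ((hsec i).2 _ e)) n a ha hW

end Groth.Agent.S14386
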