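import Groth.Statements.S14397

set_option autoImplicit false
universe u
open DualGr

namespace Groth.Agent.S14397

/-- Let (V, E) with endpoint map E → V × V be a finite multigraph (loops and parallel edges allowed; the
order of the two endpoints is an auxiliary orientation), and let D_1, …, D_n be finite sets of edges
such that every edge lies outside at least one D_i. For each i let Γ_i be the multigraph obtained by
contracting the edges of D_i, and let H₁(Γ, ℤ) → H₁(Γ_i, ℤ) be the map of cycle lattices (integer
edge vectors with zero boundary) given by restriction to the surviving edges. Then the map H₁(Γ, ℤ)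
→ ⊕_i H₁(Γ_i, ℤ) has torsion-free cokernel. (The published statement is about the connected labelled
dual graph of the closed fibre of a nodal curve, smooth outside a normal crossing divisor with
components D_1, …, D_n, over a Noetherian regular strictly local base; Γ_i is the dual graph of the
fibre over the generic point of D_i, the lattices are identified with the character groups of the
toric parts of the Picard schemes of these fibres, and the map is the generization map of character
groups; this row states the assertion about cycle lattices, for any finite multigraph, which is what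
the argument establishes.) -/
theorem result
    {V E : Type u} [Fintype V] [Fintype E] [DecidableEq V] [DecidableEq E]
    (ends : E → V × V) {n : ℕ} (D : Fin n → Finset E) (hcover : ∀ e : E, ∃ i : Fin n, e ∉ D i) :
    IsAddTorsionFree (((i : Fin n) → ↥(DualGr.cycleLattice (DualGr.ctrEnds ends (D i)))) ⧸
      LinearMap.range (LinearMap.pi fun i : Fin n => DualGr.genMap ends (D i))) := by
  let F := LinearMap.pi fun i : Fin n => DualGr.genMap ends (D i)
  refine ⟨fun m hm x y hxy => ?_⟩
  induction x using Submodule.Quotient.induction_on with
  | _ x =>
  induction y using Submodule.Quotient.induction_on with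
  | _ y =>
  rw [Submodule.Quotient.eq]
  have h := (Submodule.Quotient.eq (LinearMap.range F)).mp
    (show (Submodule.Quotient.mk (m • x) : _ ⧸ LinearMap.range F) = Submodule.Quotient.mk (m • y) from hxy)
  replace h : (m : ℕ) • (x - y) ∈ LinearMap.range F := by rwa [nsmul_sub]
  obtain ⟨γ, hγ⟩ := h
  have key : ∀ (i : Fin n) (e : E) (he : e ∉ D i),
      γ.1 e = (m : ℤ) * ((x - y) i).1 ⟨e, he⟩ := by
    intro i e he
    have h1 := congrFun (congrArg Subtype.val (congrFun hγ i)) ⟨e, he⟩
    simpa [F, DualGr.genMap, DualGr.resE, nsmul_eq_mul] using h1
  choose i hi using hcover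
  let γ' : E → ℤ := fun e => ((x - y) (i e)).1 ⟨e, hi e⟩
  have hγ' : γ.1 = (m : ℤ) • γ' := funext fun e => key (i e) e (hi e)
  have hm' : (m : ℤ) ≠ 0 := by exact_mod_cast hm
  have hmem : γ' ∈ DualGr.cycleLattice ends := by
    have h1 : DualGr.boundaryHom ends γ.1 = 0 := γ.2
    rw [hγ', map_smul] at h1
    exact (smul_eq_zero.mp h1).resolve_left hm'
  refine ⟨⟨γ', hmem⟩, funext fun j => Subtype.ext (funext fun e => ?_)⟩
  apply mul_left_cancel₀ hm'
  rw [← key j e.1 e.2, hγ']
  rfl

end Groth.Agent.S14397
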