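import Groth.Statements.S14399
import Groth.Agent.Inters29.GenTriv
import Groth.Agent.WeilLib.Geom

set_option autoImplicit false
universe u
open CategoryTheory AlgebraicGeometry
open SemiFact

namespace Groth.Agent.S14399

/-- A power series variable is prime. -/
theorem prime_X (k : Type u) [Field k] (s : Fin 2) : Prime (MvPowerSeries.X s : MvPowerSeries (Fin 2) k) := by
  classical
  let w : Fin 2 → ℕ := Pi.single s 1
  have hw : ∀ d : Fin 2 →₀ ℕ, Finsupp.weight w d = d s := fun d => by
    simp [Finsupp.weight_apply, Finsupp.sum_fintype, w, Pi.single_apply]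
  have hdvd : ∀ φ : MvPowerSeries (Fin 2) k, MvPowerSeries.X s ∣ φ ↔ 1 ≤ φ.weightedOrder w := fun φ => by
    rw [MvPowerSeries.X_dvd_iff]
    constructor
    · intro h
      refine MvPowerSeries.nat_le_weightedOrder w fun d hd => h d ?_
      rw [← hw]; omega
    · intro h d hd
      refine MvPowerSeries.coeff_eq_zero_of_lt_weightedOrder w (lt_of_lt_of_le ?_ h)
      rw [hw, hd]; norm_num
  refine ⟨fun h => ?_, fun hu => ?_, fun a b h => ?_⟩
  · have h1 := congrArg (MvPowerSeries.coeff (Finsupp.single s 1)) h
    simp [MvPowerSeries.coeff_X] at h1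
  · have := MvPowerSeries.isUnit_constantCoeff _ hu
    simp at this
  · rw [hdvd, MvPowerSeries.weightedOrder_mul] at h
    rw [hdvd, hdvd]
    by_contra hc
    rw [not_or, not_le, not_le, Order.lt_one_iff, Order.lt_one_iff] at hc
    rw [hc.1, hc.2, add_zero] at h
    exact absurd h (by simp)

/-- The equation of a node generates a radical ideal. -/
theorem span_X_mul_X_isRadical (k : Type u) [Field k] :
    (Ideal.span {(MvPowerSeries.X 0 * MvPowerSeries.X 1 : MvPowerSeries (Fin 2) k)}).IsRadical := by
  rintro g ⟨n, hn⟩
  rw [Ideal.mem_span_singleton] at hn ⊢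
  obtain ⟨q, hq⟩ := (prime_X k 0).dvd_of_dvd_pow ((dvd_mul_right _ _).trans hn)
  have h1 : (MvPowerSeries.X 1 : MvPowerSeries (Fin 2) k) ∣ g :=
    (prime_X k 1).dvd_of_dvd_pow ((dvd_mul_left _ _).trans hn)
  rw [hq] at h1 ⊢
  refine mul_dvd_mul_left _ (((prime_X k 1).dvd_or_dvd h1).resolve_left fun h => ?_)
  have h2 := MvPowerSeries.X_dvd_iff.1 h (Finsupp.single 0 1) (by simp)
  simp [MvPowerSeries.coeff_X] at h2

/-- Triviality on the generic fibre gives a generator off the special fibre. -/
theorem exists_gen_of_generic (R : Type u) [CommRing R] [IsDomain R] [IsDiscreteValuationRing R]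
    {X : Scheme.{u}} (f : X ⟶ Spec (CommRingCat.of R)) (L : X.Modules) (hL : PicF.IsInvertible L)
    (hgen : Nonempty ((Scheme.Modules.pullback (Limits.pullback.fst f (Neron.genPt R))).obj L ≅
      Coh.structureModule (Limits.pullback f (Neron.genPt R)))) {ϖ : R} (hϖ : Irreducible ϖ) :
    ∃ s : Γ(L, X.basicOpen (Coh.toGlobal f ϖ)), Groth.Agent.PicLib.IsGen L _ s := by
  let K := FractionRing R
  haveI : IsLocalization.Away ϖ K := by
    refine { map_units := ?_, surj := ?_, exists_of_eq := ?_ }
    · rintro ⟨_, k, rfl⟩
      exact (isUnit_iff_ne_zero).2 ((map_ne_zero_iff _ (IsFractionRing.injective R K)).2 (pow_ne_zero k hϖ.ne_zero))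
    · intro z
      obtain ⟨⟨a, b⟩, hab⟩ := IsLocalization.surj (nonZeroDivisors R) z
      obtain ⟨k, u, hbu⟩ := IsDiscreteValuationRing.eq_unit_mul_pow_irreducible (nonZeroDivisors.ne_zero b.2) hϖ
      refine ⟨(a * ↑u⁻¹, ⟨ϖ ^ k, k, rfl⟩), ?_⟩
      simp only at hab
      rw [hbu, map_mul] at hab
      show z * algebraMap R K (ϖ ^ k) = algebraMap R K (a * ↑u⁻¹)
      rw [map_mul, ← hab, mul_comm (algebraMap R K ↑u), ← mul_assoc, mul_assoc _ (algebraMap R K ↑u), ← map_mul]
      simp
    · intro x y h
      exact ⟨1, by rw [IsFractionRing.injective R K h]⟩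
  haveI : IsOpenImmersion (Neron.genPt R) := IsOpenImmersion.of_isLocalization ϖ
  let g := Limits.pullback.fst f (Neron.genPt R)
  let D₀ := X.basicOpen (Coh.toGlobal f ϖ)
  have hD₀ : Set.range g = (D₀ : Set X) := by
    rw [Scheme.Pullback.range_fst]
    rw [show D₀ = f ⁻¹ᵁ (Spec (CommRingCat.of R)).basicOpen ((Scheme.ΓSpecIso (CommRingCat.of R)).inv ϖ) from
      (Scheme.preimage_basicOpen f _).symm, Scheme.Hom.coe_preimage]
    congr 1
    rw [basicOpen_eq_of_affine]
    show Set.range (PrimeSpectrum.comap (algebraMap R K)) = _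
    exact PrimeSpectrum.localization_away_comap_range K ϖ
  let e := IsOpenImmersion.isoOfRangeEq g D₀.ι (hD₀.trans D₀.range_ι.symm)
  have he : e.hom ≫ D₀.ι = g := IsOpenImmersion.isoOfRangeEq_hom_fac _ _ _
  have h1 : Groth.Agent.PicLib.PicM.pull g (Groth.Agent.PicLib.PicM.of hL) = 1 := by
    rw [Groth.Agent.PicLib.PicM.pull_of]
    exact (Groth.Agent.PicLib.PicM.of_eq_one_iff _).2 hgen
  have h2 : Groth.Agent.PicLib.PicM.pull D₀.ι (Groth.Agent.PicLib.PicM.of hL) = 1 := by
    rw [show D₀.ι = e.inv ≫ g by rw [← he, Iso.inv_hom_id_assoc],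
      ← Groth.Agent.PicLib.PicM.pull_pull, h1, map_one]
  rw [Groth.Agent.PicLib.PicM.pull_of] at h2
  obtain ⟨iso⟩ := (Groth.Agent.PicLib.PicM.of_eq_one_iff _).1 h2
  exact Groth.Agent.PicLib.exists_isGen_of_iso
    ((Scheme.Modules.restrictFunctorIsoPullback D₀.ι).app L ≪≫ iso)

/-- Let R be a discrete valuation ring with perfect fraction field K and residue field k, and f : X →
Spec R a nodal curve (proper, flat, locally of finite presentation, geometric fibres connected with
one-dimensional irreducible components and at most ordinary double points) whose special fibre X_k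
has split singularities: every closed point of X_k either has an open neighbourhood smooth over k or
has completed local ring isomorphic over k to k[[u,v]]/(uv). Let L be an invertible O_X-module whose
pullback to the generic fibre X_K is isomorphic to the structure sheaf. If the degree over k of the
restriction of L to every irreducible component of X_k — each taken with its reduced structure, as
an integral curve over k closed-immersed in X over Spec R — is zero, then L is isomorphic to O_X.
(The published lemma states that the multidegree of generically trivial invertible modules is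
computed by the multidegree operator on Cartier vertex labellings of the labelled dual graph, and
its proof records that this multidegree map on generically trivial invertible modules is injective;
this row is that injectivity.) -/
theorem result
    (R : Type u) [CommRing R] [IsDomain R] [IsDiscreteValuationRing R]
    [PerfectField (FractionRing R)]
    {X : Scheme.{u}} (f : X ⟶ Spec (CommRingCat.of R)) [IsProper f]
    (hf : Curv2.IsNodalFamily f)
    (hconn : ∀ (L : Type u) [Field L] (t : Spec (CommRingCat.of L) ⟶ Spec (CommRingCat.of R)),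
      ConnectedSpace ↑(Limits.pullback f t))
    (hsplit : ∀ y : ↥(f.fiber (IsLocalRing.closedPoint R)), IsClosed ({y} : Set ↥(f.fiber (IsLocalRing.closedPoint R))) →
        (∃ W : (f.fiber (IsLocalRing.closedPoint R)).Opens, y ∈ W ∧ Smooth (W.ι ≫ f.fiberToSpecResidueField (IsLocalRing.closedPoint R))) ∨
        @Curv2.IsOrdDoublePt ((Spec (CommRingCat.of R)).residueField (IsLocalRing.closedPoint R)) _ ((f.fiber (IsLocalRing.closedPoint R)).presheaf.stalk y) _ (@Curv2.stalkAlgebra ((Spec (CommRingCat.of R)).residueField (IsLocalRing.closedPoint R)) _ (f.fiber (IsLocalRing.closedPoint R)) ⟨f.fiberToSpecResidueField (IsLocalRing.closedPoint R)⟩ y) _)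
    (L : X.Modules) (hL : PicF.IsInvertible L)
    (hgen : Nonempty ((Scheme.Modules.pullback (Limits.pullback.fst f (Neron.genPt R))).obj L ≅
      Coh.structureModule (Limits.pullback f (Neron.genPt R))))
    (hdeg : ∀ Γ : ArSurf.VertComp R (Over.mk f), ArSurf.inter R (Over.mk f) L Γ = 0) :
    Nonempty (L ≅ Coh.structureModule X) := by
  obtain ⟨hflat, -, hfib⟩ := hf
  haveI := hflat
  haveI : Flat (Over.mk f).hom := hflat
  haveI : IsProper (Over.mk f).hom := inferInstanceAs (IsProper f)
  haveI : IsLocallyNoetherian X := LocallyOfFiniteType.isLocallyNoetherian f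
  have hred : IsReduced (f.fiber (IsLocalRing.closedPoint R)) := by
    let p := IsLocalRing.closedPoint R
    let k := (Spec (CommRingCat.of R)).residueField p
    haveI : LocallyOfFiniteType (f.fiberToSpecResidueField p) := MorphismProperty.pullback_snd _ _ inferInstance
    haveI : JacobsonSpace (f.fiber p) := LocallyOfFiniteType.jacobsonSpace (f.fiberToSpecResidueField p)
    haveI : IsLocallyNoetherian (f.fiber p) := LocallyOfFiniteType.isLocallyNoetherian (f.fiberToSpecResidueField p)
    have hclosed : ∀ y : f.fiber p, IsClosed ({y} : Set (f.fiber p)) → _root_.IsReduced ((f.fiber p).presheaf.stalk y) := by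
      intro y hy
      rcases hsplit y hy with ⟨W, hyW, hW⟩ | ⟨e, -⟩
      · haveI := hW
        haveI := Groth.Agent.WeilLib.isReduced_of_smooth (k := k) (W.ι ≫ f.fiberToSpecResidueField p)
        let i := (W.stalkIso ⟨y, hyW⟩).commRingCatIsoToRingEquiv
        haveI : _root_.IsReduced (W.toScheme.presheaf.stalk ⟨y, hyW⟩) := inferInstance
        exact isReduced_of_injective i.symm i.symm.injective
      · haveI : IsNoetherianRing ((f.fiber p).presheaf.stalk y) := inferInstance
        haveI : _root_.IsReduced (MvPowerSeries (Fin 2) k ⧸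
            Ideal.span {(MvPowerSeries.X 0 * MvPowerSeries.X 1 : MvPowerSeries (Fin 2) k)}) := by
          rw [← Ideal.isRadical_iff_quotient_reduced]
          exact span_X_mul_X_isRadical k
        haveI : IsHausdorff (IsLocalRing.maximalIdeal ((f.fiber p).presheaf.stalk y)) ((f.fiber p).presheaf.stalk y) :=
          inferInstance
        have h1 : Function.Injective (algebraMap ((f.fiber p).presheaf.stalk y)
            (AdicCompletion (IsLocalRing.maximalIdeal ((f.fiber p).presheaf.stalk y)) ((f.fiber p).presheaf.stalk y))) :=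
          AdicCompletion.of_injective _ _
        exact isReduced_of_injective (e.toRingHom.comp (algebraMap _ _)) (e.injective.comp h1)
    haveI : ∀ x : f.fiber p, _root_.IsReduced ((f.fiber p).presheaf.stalk x) := by
      intro x
      obtain ⟨_, ⟨U, hU, rfl⟩, hxU, -⟩ :=
        (f.fiber p).isBasis_affineOpens.exists_subset_of_mem_open (Set.mem_univ x) isOpen_univ
      haveI : _root_.IsReduced Γ(f.fiber p, U) := by
        refine isReduced_ofLocalizationMaximal _ fun m hm => ?_
        let q : PrimeSpectrum Γ(f.fiber p, U) := ⟨m, hm.isPrime⟩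
        have hqU : hU.fromSpec q ∈ U := hU.range_fromSpec.le ⟨q, rfl⟩
        have hcl : IsClosed ({hU.fromSpec q} : Set (f.fiber p)) := by
          apply isClosed_singleton_of_isLocallyClosed_singleton
          rw [← Set.image_singleton]
          exact ((PrimeSpectrum.isClosed_singleton_iff_isMaximal q).2 hm).isLocallyClosed.image
            hU.fromSpec.isOpenEmbedding.isInducing hU.fromSpec.isOpenEmbedding.isOpen_range.isLocallyClosed
        haveI := hclosed _ hcl
        let z : U := ⟨hU.fromSpec q, hqU⟩
        have hz : hU.primeIdealOf z = q := hU.fromSpec.isOpenEmbedding.injective (hU.fromSpec_primeIdealOf z)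
        letI := TopCat.Presheaf.algebra_section_stalk (f.fiber p).presheaf z
        haveI := hU.isLocalization_stalk z
        haveI : _root_.IsReduced ((f.fiber p).presheaf.stalk z.1) := hclosed _ hcl
        have key : ∀ P : PrimeSpectrum Γ(f.fiber p, U), P = hU.primeIdealOf z →
            _root_.IsReduced (Localization.AtPrime P.asIdeal) := by
          rintro _ rfl
          let i := (IsLocalization.algEquiv (hU.primeIdealOf z).asIdeal.primeCompl
            (Localization.AtPrime (hU.primeIdealOf z).asIdeal) ((f.fiber p).presheaf.stalk z.1)).toRingEquiv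
          exact isReduced_of_injective i i.injective
        exact key q hz.symm
      letI := TopCat.Presheaf.algebra_section_stalk (f.fiber p).presheaf ⟨x, hxU⟩
      haveI := hU.isLocalization_stalk ⟨x, hxU⟩
      exact isReduced_localizationPreserves (hU.primeIdealOf ⟨x, hxU⟩).asIdeal.primeCompl _ ‹_›
    exact isReduced_of_isReduced_stalk _
  have hdim : ∀ Z ∈ Models.fibreComponents R (Over.mk f), topologicalKrullDim Z = 1 := fun Z hZ =>
    Groth.Agent.Inters29.dim_fibreComponent R (X := Over.mk f) (hfib (IsLocalRing.closedPoint R)).1 hZ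
  have hconn' : _root_.IsConnected (Models.specialFibreSet R (Over.mk f)) := by
    let c := Spec.map (CommRingCat.ofHom (IsLocalRing.residue R))
    haveI := hconn (IsLocalRing.ResidueField R) c
    have h := isConnected_range (Limits.pullback.fst f c).continuous
    rw [Scheme.Pullback.range_fst] at h
    have hc : Set.range c = {IsLocalRing.closedPoint R} := Set.ext fun z =>
      ⟨fun ⟨t, ht⟩ => ht ▸ (Subsingleton.elim t (IsLocalRing.closedPoint _)) ▸
        (IsLocalRing.comap_closedPoint (IsLocalRing.residue R)),
       fun hz => ⟨IsLocalRing.closedPoint _, (IsLocalRing.comap_closedPoint (IsLocalRing.residue R)).trans hz.symm⟩⟩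
    rw [hc] at h
    exact h
  obtain ⟨ϖ, hϖ⟩ := IsDiscreteValuationRing.exists_irreducible R
  obtain ⟨s, hs⟩ := exists_gen_of_generic R f L hL hgen hϖ
  exact Groth.Agent.Inters29.trivial_of_inter_eq_zero R (X := Over.mk f)
    (Groth.Agent.Inters29.specialFibreIdeal_eq_redFibreIdeal R (X := Over.mk f) hred) hdim hconn' hϖ L hL s hs hdeg

end Groth.Agent.S14399
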