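import Groth.Statements.S14400
import Mathlib.AlgebraicGeometry.Sites.Fpqc
import Mathlib.FieldTheory.Galois.Basic

set_option autoImplicit false
universe u
open CategoryTheory CategoryTheory.Limits AlgebraicGeometry
open Desc

set_option backward.isDefEq.respectTransparency.types false
set_option backward.isDefEq.respectTransparency false

namespace Groth.Agent.S14400

section Aux

open TensorProduct

variable {k K : Type u} [Field k] [Field K] [Algebra k K]

/-- `a ⊗ b ↦ a σ(b)`. -/
noncomputable def phi (σ : K ≃ₐ[k] K) : K ⊗[k] K →ₐ[K] K :=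
  Algebra.TensorProduct.lift (AlgHom.id K K) (σ : K →ₐ[k] K) (fun _ _ => Commute.all _ _)

theorem phi_tmul (σ : K ≃ₐ[k] K) (a b : K) : phi σ (a ⊗ₜ b) = a * σ b := by
  rw [phi, Algebra.TensorProduct.lift_tmul]; rfl

theorem bijective_phi [FiniteDimensional k K] [IsGalois k K] :
    Function.Bijective (Pi.algHom K (fun _ : K ≃ₐ[k] K => K) phi) := by
  classical
  let Φ := (Pi.algHom K (fun _ : K ≃ₐ[k] K => K) (phi (k := k))).toLinearMap
  have hs : Function.Surjective Φ := by
    rw [← LinearMap.range_eq_top]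
    by_contra h
    obtain ⟨l, hl, hle⟩ := Submodule.exists_le_ker_of_lt_top _ (lt_top_iff_ne_top.2 h)
    refine hl (LinearMap.pi_ext' fun σ => LinearMap.ext_ring ?_)
    have hind : LinearIndependent K (fun σ : K ≃ₐ[k] K => ((σ : K →ₐ[k] K).toLinearMap)) :=
      (linearIndependent_algHom_toLinearMap k K K).comp (fun σ : K ≃ₐ[k] K => (σ : K →ₐ[k] K))
        fun a b e => AlgEquiv.ext fun x => DFunLike.congr_fun e x
    refine (Fintype.linearIndependent_iff.1 hind (fun τ => l (Pi.single τ 1)) ?_ σ).trans (by simp)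
    refine LinearMap.ext fun b => ?_
    have h0 : l (Φ (1 ⊗ₜ b)) = 0 := hle ⟨_, rfl⟩
    rw [pi_eq_sum_univ' (Φ (1 ⊗ₜ b)), map_sum] at h0
    rw [LinearMap.sum_apply, LinearMap.zero_apply]
    refine Eq.trans (Finset.sum_congr rfl fun τ _ => ?_) h0
    show l (Pi.single τ 1) * τ b = l ((Φ (1 ⊗ₜ b)) τ • Pi.single τ (1 : K))
    rw [map_smul]
    show _ = phi τ (1 ⊗ₜ b) * _
    rw [phi_tmul, one_mul, mul_comm]
  have hfr : Module.finrank K (K ⊗[k] K) = Module.finrank K ((K ≃ₐ[k] K) → K) := by
    rw [Module.finrank_baseChange, Module.finrank_fintype_fun_eq_card, ← Nat.card_eq_fintype_card,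
      IsGalois.card_aut_eq_finrank]
  exact ⟨(LinearMap.injective_iff_surjective_of_finrank_eq_finrank hfr).2 hs, hs⟩

theorem isOpenImmersion_phi [FiniteDimensional k K] [IsGalois k K] :
    (∀ σ : K ≃ₐ[k] K, IsOpenImmersion (Spec.map (CommRingCat.ofHom (phi σ).toRingHom))) ∧
      ∀ p : PrimeSpectrum (K ⊗[k] K), ∃ (σ : K ≃ₐ[k] K) (q : PrimeSpectrum K),
        Spec.map (CommRingCat.ofHom (phi σ).toRingHom) q = p := by
  classical
  obtain ⟨hinj, hsurj⟩ := bijective_phi (k := k) (K := K)
  choose e he using fun σ : K ≃ₐ[k] K => hsurj (Pi.single σ 1)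
  have he1 : ∀ σ τ, phi τ (e σ) = if τ = σ then 1 else 0 := fun σ τ =>
    (congrFun (he σ) τ).trans (Pi.single_apply σ 1 τ)
  have hloc : ∀ σ, letI := (phi σ).toRingHom.toAlgebra; IsLocalization.Away (e σ) K := fun σ => by
    letI := (phi σ).toRingHom.toAlgebra
    refine ⟨?_, ?_, ?_⟩
    · rintro ⟨_, n, rfl⟩
      show IsUnit (phi σ (e σ ^ n))
      rw [map_pow, he1, if_pos rfl, one_pow]
      exact isUnit_one
    · intro x
      obtain ⟨y, hy⟩ := hsurj (Pi.single σ x)
      refine ⟨⟨y, ⟨1, 0, by simp⟩⟩, ?_⟩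
      show x * phi σ 1 = phi σ y
      rw [map_one, mul_one, show phi σ y = Pi.single (M := fun _ => K) σ x σ from congrFun hy σ, Pi.single_eq_same]
    · intro x y (hxy : phi σ x = phi σ y)
      refine ⟨⟨e σ, 1, pow_one _⟩, hinj (funext fun τ => ?_)⟩
      show phi τ (e σ * x) = phi τ (e σ * y)
      rw [map_mul, map_mul, he1]
      split_ifs with h
      · rw [h, hxy]
      · rw [zero_mul, zero_mul]
  refine ⟨fun σ => ?_, fun p => ?_⟩
  · letI := (phi σ).toRingHom.toAlgebra
    haveI := hloc σ
    exact IsOpenImmersion.of_isLocalization (e σ)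
  · have hsum : ∑ σ, e σ = 1 := hinj (funext fun τ => by
      show phi τ (∑ σ, e σ) = phi τ 1
      rw [map_sum, map_one, Finset.sum_eq_single τ (fun σ _ hne => by rw [he1, if_neg hne.symm])
        (fun h => absurd (Finset.mem_univ _) h), he1, if_pos rfl])
    obtain ⟨σ, hσ⟩ : ∃ σ, e σ ∉ p.asIdeal := by
      by_contra! h
      exact p.isPrime.ne_top ((Ideal.eq_top_iff_one _).2 (hsum ▸ Ideal.sum_mem _ fun σ _ => h σ))
    letI := (phi σ).toRingHom.toAlgebra
    haveI := hloc σ
    obtain ⟨q, hq⟩ := (PrimeSpectrum.localization_away_comap_range K (e σ)).ge hσ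
    exact ⟨σ, q, hq⟩

end Aux


/-- Let K/k be a finite Galois extension of fields, X and Y schemes over k with base changes X_K and
Y_K, and g : X_K ⟶ Y_K a morphism over Spec K. Then g is the base change of a k-morphism f : X ⟶ Y
(that is, g followed by the projection Y_K ⟶ Y is the projection X_K ⟶ X followed by f) if and only
if g commutes with the action of every k-automorphism σ of K on X_K and on Y_K (the identity on X,
resp. Y, and Spec σ on the factor Spec K). In other words the image of the k-morphisms X ⟶ Y among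
the K-morphisms X_K ⟶ Y_K is exactly the set of Galois-invariant ones. -/
theorem result (k : Type u) [Field k] (K : Type u) [Field K]
    [Algebra k K] [FiniteDimensional k K] [IsGalois k K]
    (X Y : Scheme.{u}) [X.Over (Spec (CommRingCat.of k))] [Y.Over (Spec (CommRingCat.of k))]
    (g : Curv2.bc k X K ⟶ Curv2.bc k Y K) (hg : g ≫ Curv2.bcSnd k Y K = Curv2.bcSnd k X K) :
    (∃ f : X ⟶ Y, f ≫ (Y ↘ Spec (CommRingCat.of k)) = X ↘ Spec (CommRingCat.of k) ∧
        g ≫ Curv2.bcFst k Y K = Curv2.bcFst k X K ≫ f) ↔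
      ∀ σ : K ≃ₐ[k] K, Curv2.galAct k X K σ ≫ g = g ≫ Curv2.galAct k Y K σ := by
  constructor
  · rintro ⟨f, -, hf⟩ σ
    apply Limits.pullback.hom_ext
    · rw [Category.assoc, Category.assoc]
      show Curv2.galAct k X K σ ≫ g ≫ Curv2.bcFst k Y K = g ≫ Curv2.galAct k Y K σ ≫ Curv2.bcFst k Y K
      rw [hf, show Curv2.galAct k Y K σ ≫ Curv2.bcFst k Y K = Curv2.bcFst k Y K from
        (Limits.pullback.lift_fst _ _ _).trans (Category.comp_id _), hf, ← Category.assoc,
        show Curv2.galAct k X K σ ≫ Curv2.bcFst k X K = Curv2.bcFst k X K from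
        (Limits.pullback.lift_fst _ _ _).trans (Category.comp_id _)]
    · rw [Category.assoc, Category.assoc]
      show Curv2.galAct k X K σ ≫ g ≫ Curv2.bcSnd k Y K = g ≫ Curv2.galAct k Y K σ ≫ Curv2.bcSnd k Y K
      rw [hg, show Curv2.galAct k Y K σ ≫ Curv2.bcSnd k Y K = Curv2.bcSnd k Y K ≫ _ from
        Limits.pullback.lift_snd _ _ _, ← Category.assoc g, hg]
      exact Limits.pullback.lift_snd _ _ _
  · intro H
    obtain ⟨hopen, hcov⟩ := isOpenImmersion_phi (k := k) (K := K)
    let q := Curv2.bcFst k X K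
    have hfl : Flat (Spec.map (CommRingCat.ofHom (algebraMap k K))) := by
      rw [Flat.SpecMap_iff]
      exact RingHom.flat_algebraMap_iff.2 inferInstance
    have hsu : Surjective (Spec.map (CommRingCat.ofHom (algebraMap k K))) :=
      ⟨fun x => ⟨IsLocalRing.closedPoint K, Subsingleton.elim (α := PrimeSpectrum k) _ _⟩⟩
    haveI : Flat q := MorphismProperty.pullback_fst _ _ hfl
    haveI : Surjective q := MorphismProperty.pullback_fst _ _ hsu
    haveI : QuasiCompact q := MorphismProperty.pullback_fst _ _ inferInstance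
    have key : ∀ {T : Scheme.{u}} (a b : T ⟶ Curv2.bc k X K), a ≫ q = b ≫ q →
        a ≫ g ≫ Curv2.bcFst k Y K = b ≫ g ≫ Curv2.bcFst k Y K := by
      intro T a b hab
      have hab' : (a ≫ Curv2.bcSnd k X K) ≫ Spec.map (CommRingCat.ofHom (algebraMap k K)) =
          (b ≫ Curv2.bcSnd k X K) ≫ Spec.map (CommRingCat.ofHom (algebraMap k K)) := by
        rw [Category.assoc, Category.assoc]
        have := congrArg (· ≫ (X ↘ Spec (CommRingCat.of k))) hab
        simpa only [q, Category.assoc, Curv2.bcFst, Curv2.bcSnd, Limits.pullback.condition] using this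
      let c : T ⟶ Spec (CommRingCat.of (TensorProduct k K K)) :=
        Limits.pullback.lift (a ≫ Curv2.bcSnd k X K) (b ≫ Curv2.bcSnd k X K) hab' ≫ (pullbackSpecIso k K K).hom
      have hca : c ≫ Spec.map (CommRingCat.ofHom (algebraMap K (TensorProduct k K K))) =
          a ≫ Curv2.bcSnd k X K := by
        rw [Category.assoc, pullbackSpecIso_hom_fst']
        exact Limits.pullback.lift_fst _ _ _
      have hcb : c ≫ Spec.map (CommRingCat.ofHom ((Algebra.TensorProduct.includeRight : K →ₐ[k] TensorProduct k K K) : K →+* TensorProduct k K K)) =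
          b ≫ Curv2.bcSnd k X K := by
        rw [Category.assoc, pullbackSpecIso_hom_snd]
        exact Limits.pullback.lift_snd _ _ _
      let 𝒰 : (Spec (CommRingCat.of (TensorProduct k K K))).OpenCover :=
        Scheme.Cover.mkOfCovers (K ≃ₐ[k] K) (fun _ => Spec (CommRingCat.of K))
          (fun σ => Spec.map (CommRingCat.ofHom (phi σ).toRingHom))
          (fun p => hcov p) (fun σ => hopen σ)
      refine Scheme.Cover.hom_ext (𝒰.pullback₁ c) _ _ fun (σ : K ≃ₐ[k] K) => ?_
      let j : Limits.pullback c (𝒰.f σ) ⟶ T := Limits.pullback.fst c (𝒰.f σ)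
      show j ≫ _ = j ≫ _
      let r : Limits.pullback c (𝒰.f σ) ⟶ Spec (CommRingCat.of K) := Limits.pullback.snd c (𝒰.f σ)
      have hj : j ≫ c = r ≫ Spec.map (CommRingCat.ofHom (phi σ).toRingHom) := Limits.pullback.condition
      have hra : j ≫ a ≫ Curv2.bcSnd k X K = r := by
        rw [← hca, reassoc_of% hj, ← Spec.map_comp]
        have : (CommRingCat.ofHom (algebraMap K (TensorProduct k K K))) ≫
            CommRingCat.ofHom (phi σ).toRingHom = 𝟙 _ := by
          ext x
          show phi σ (x ⊗ₜ 1) = x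
          rw [phi_tmul, map_one, mul_one]
        rw [this, Spec.map_id, Category.comp_id]
      have hrb : j ≫ b ≫ Curv2.bcSnd k X K = r ≫ Spec.map (CommRingCat.ofHom (σ : K →ₐ[k] K).toRingHom) := by
        rw [← hcb, reassoc_of% hj, ← Spec.map_comp]
        congr 2
        ext x
        show phi σ (1 ⊗ₜ x) = σ x
        rw [phi_tmul, one_mul]
      have hb : j ≫ b = (j ≫ a) ≫ Curv2.galAct k X K σ := by
        apply Limits.pullback.hom_ext
        · simp only [Category.assoc]
          show j ≫ b ≫ q = j ≫ a ≫ Curv2.galAct k X K σ ≫ q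
          rw [show Curv2.galAct k X K σ ≫ q = q from (Limits.pullback.lift_fst _ _ _).trans (Category.comp_id _), hab]
        · simp only [Category.assoc]
          show j ≫ b ≫ Curv2.bcSnd k X K = j ≫ a ≫ Curv2.galAct k X K σ ≫ Curv2.bcSnd k X K
          rw [hrb, show Curv2.galAct k X K σ ≫ Curv2.bcSnd k X K = Curv2.bcSnd k X K ≫ _ from
            Limits.pullback.lift_snd _ _ _, reassoc_of% hra]
      rw [reassoc_of% hb, reassoc_of% (H σ)]
      show _ = j ≫ a ≫ g ≫ Curv2.galAct k Y K σ ≫ Curv2.bcFst k Y K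
      rw [show Curv2.galAct k Y K σ ≫ Curv2.bcFst k Y K = Curv2.bcFst k Y K from
        (Limits.pullback.lift_fst _ _ _).trans (Category.comp_id _)]
    have hf := EffectiveEpi.fac q (g ≫ Curv2.bcFst k Y K) key
    haveI : Epi q := Flat.epi_of_flat_of_surjective _
    refine ⟨EffectiveEpi.desc q (g ≫ Curv2.bcFst k Y K) key, ?_, hf.symm⟩
    rw [← cancel_epi q, reassoc_of% hf]
    show g ≫ Limits.pullback.fst _ _ ≫ _ = Limits.pullback.fst _ _ ≫ _
    rw [Limits.pullback.condition, Limits.pullback.condition]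
    rw [← Category.assoc]
    exact congrArg (· ≫ _) hg

end Groth.Agent.S14400
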