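import Groth.Statements.S14404
import Groth.Agent.DimLib.Maximal

set_option autoImplicit false
universe u
open CategoryTheory AlgebraicGeometry
open FlatMor

namespace Groth.Agent.S14404

/-- Let k be a field, X and Y irreducible schemes of finite type over k and f : X ⟶ Y a flat k-morphism.
Then dim Y ≤ dim X, and for every point y of Y every irreducible component Z of the scheme-theoretic
fibre of f over y has dim Z + dim Y = dim X; that is, every non-empty fibre has all its irreducible
components of dimension dim X − dim Y. -/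
theorem result (k : Type u) [Field k]
    {X Y : Scheme.{u}} (qX : X ⟶ Spec (CommRingCat.of k)) (qY : Y ⟶ Spec (CommRingCat.of k))
    [LocallyOfFiniteType qX] [QuasiCompact qX] [LocallyOfFiniteType qY] [QuasiCompact qY]
    [IrreducibleSpace X] [IrreducibleSpace Y] (f : X ⟶ Y) (hf : f ≫ qY = qX) [Flat f] :
    topologicalKrullDim Y ≤ topologicalKrullDim X ∧
      ∀ (y : Y), ∀ Z ∈ irreducibleComponents (f.fiber y : Type u),
        topologicalKrullDim Z + topologicalKrullDim Y = topologicalKrullDim X := by
  subst hf
  open Groth.Agent.DimLib in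
  have hX := topologicalKrullDim_eq_ptDim_genericPoint (f ≫ qY)
  have hY := topologicalKrullDim_eq_ptDim_genericPoint qY
  have hmax : ∀ z : X, z ⤳ genericPoint X → genericPoint X = z := fun z hz =>
    ((genericPoint_specializes z).antisymm hz).eq
  have hg : f (genericPoint X) = genericPoint Y :=
    Groth.Agent.DimLib.isMax_apply_of_flat f hmax _ (genericPoint_specializes _)
  have hle := Groth.Agent.DimLib.ptDim_apply_le qY f (genericPoint X)
  rw [hg] at hle
  refine ⟨by rw [hX, hY]; exact_mod_cast hle, fun y => ?_⟩
  rw [Groth.Agent.DimLib.forall_fiber_components_iff qY f y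
    (fun e => e + topologicalKrullDim Y = topologicalKrullDim X), hX, hY]
  rintro z rfl hz m hm
  obtain ⟨n, hn⟩ := Nat.exists_eq_add_of_le hle
  have h1 : ∀ ξ : Y, (∀ w, w ⤳ ξ → ξ = w) →
      Groth.Agent.DimLib.ptDim qY ξ = Groth.Agent.DimLib.ptDim qY (genericPoint Y) :=
    fun ξ hξ => by rw [hξ _ (genericPoint_specializes ξ)]
  have h2 : ∀ η : X, (∀ w, w ⤳ η → η = w) → Groth.Agent.DimLib.ptDim (f ≫ qY) η =
      Groth.Agent.DimLib.ptDim qY (genericPoint Y) + n :=
    fun η hη => by rw [hη _ (genericPoint_specializes η), hn]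
  have h3 := (Groth.Agent.DimLib.fibre_equidim_iff_of_flat qY f _ n h1).1 h2 z hz
  exact_mod_cast (by omega : m + Groth.Agent.DimLib.ptDim qY (genericPoint Y) =
      Groth.Agent.DimLib.ptDim (f ≫ qY) (genericPoint X))

end Groth.Agent.S14404
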