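import Groth.Statements.S14405
import Mathlib.Tactic

set_option autoImplicit false
open Polynomial
open HilbNum

namespace Groth.Agent.S14405

/-- Let φ be a function from the integers to the rationals and Q a nonzero polynomial with rational
coefficients of degree d such that φ(m) - φ(m-1) = Q(m) for every integer m. Then there is a
polynomial P with rational coefficients, of degree d + 1, such that φ(m) = P(m) for every integer m.
(The explicit form of P in the binomial basis is not part of this statement.) -/
theorem result (φ : ℤ → ℚ) (d : ℕ) (Q : ℚ[X]) (hQ : Q ≠ 0)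
    (hd : Q.natDegree = d) (h : ∀ m : ℤ, φ m - φ (m - 1) = Q.eval (m : ℚ)) :
    ∃ P : ℚ[X], P.natDegree = d + 1 ∧ ∀ m : ℤ, φ m = P.eval (m : ℚ) := by
  have key : ∀ (d : ℕ) (Q : ℚ[X]), Q.natDegree ≤ d → ∃ P : ℚ[X], P - P.comp (X - 1) = Q ∧
      P.natDegree ≤ d + 1 ∧ P.coeff (d + 1) = Q.coeff d / (d + 1) := by
    intro d
    induction d with
    | zero =>
      intro Q hQ
      rw [natDegree_le_iff_degree_le] at hQ
      obtain ⟨c, rfl⟩ : ∃ c, Q = C c := ⟨_, eq_C_of_degree_le_zero hQ⟩
      refine ⟨C c * X, by simp [mul_sub], (natDegree_C_mul_le c X).trans natDegree_X_le, by simp⟩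
    | succ d ih =>
      intro Q hQ
      set c := Q.coeff (d + 1) / (d + 2) with hc
      set R := Q - (C c * X ^ (d + 2) - (C c * X ^ (d + 2)).comp (X - 1)) with hR
      have hdeg : ∀ k, d < k → R.coeff k = 0 := by
        intro k hk
        rw [hR, coeff_sub, coeff_sub, mul_comp, C_comp, pow_comp, X_comp, coeff_C_mul, coeff_C_mul, coeff_X_pow,
          show (X - 1 : ℚ[X]) = X + C (-1) by rw [map_neg, map_one, sub_eq_add_neg], coeff_X_add_C_pow]
        rcases lt_trichotomy k (d + 2) with h | rfl | h
        · obtain rfl : k = d + 1 := by omega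
          rw [if_neg (by omega), show d + 2 - (d + 1) = 1 by omega, Nat.choose_succ_self_right, hc]
          have : ((d : ℚ) + 2) ≠ 0 := by positivity
          field_simp
          push_cast
          ring
        · rw [if_pos rfl, Nat.sub_self, Nat.choose_self, coeff_eq_zero_of_natDegree_lt (by omega)]
          simp
        · rw [if_neg (by omega), Nat.choose_eq_zero_of_lt h, coeff_eq_zero_of_natDegree_lt (by omega)]
          simp
      obtain ⟨P, hP, hP1, -⟩ := ih R (natDegree_le_iff_coeff_eq_zero.2 fun k hk => hdeg k hk)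
      refine ⟨C c * X ^ (d + 2) + P, ?_, ?_, ?_⟩
      · rw [add_comp, add_sub_add_comm, hP, hR]; ring
      · exact (natDegree_add_le _ _).trans (max_le (natDegree_C_mul_X_pow_le _ _) (by omega))
      · rw [coeff_add, coeff_C_mul_X_pow, if_pos rfl, coeff_eq_zero_of_natDegree_lt (show P.natDegree < d + 1 + 1 by omega), add_zero, hc]
        push_cast
        ring
  obtain ⟨P, hP, hP1, hP2⟩ := key d Q hd.le
  refine ⟨P + C (φ 0 - P.eval 0), ?_, fun m => ?_⟩
  · rw [natDegree_add_C]
    refine le_antisymm hP1 (le_natDegree_of_ne_zero ?_)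
    rw [hP2]
    exact div_ne_zero (hd ▸ leadingCoeff_ne_zero.2 hQ) (by positivity)
  have hstep : ∀ m : ℤ, P.eval (m : ℚ) - P.eval ((m : ℚ) - 1) = Q.eval (m : ℚ) := fun m => by
    have := congrArg (eval (m : ℚ)) hP
    simpa using this
  induction m using Int.induction_on with
  | zero => simp
  | succ i ih =>
    have h1 := h (i + 1)
    have h2 := hstep (i + 1)
    simp only [add_sub_cancel_right] at h1
    push_cast at h1 h2 ih ⊢
    simp only [eval_add, eval_C, add_sub_cancel_right] at h2 ih ⊢
    linarith
  | pred i ih =>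
    have h1 := h (-i)
    have h2 := hstep (-i)
    push_cast at h1 h2 ih ⊢
    simp only [eval_add, eval_C] at h2 ih ⊢
    linarith

end Groth.Agent.S14405
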