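import Groth.Statements.S14408
import Groth.Agent.SerreDual.ExtShProj
import Groth.Agent.Coherent.Serre.Vanishing
import Groth.Agent.DimLib.ProjDim
import Groth.Agent.EulerLib.HilbPoly
import Groth.Agent.H0Growth23.NegTwist

set_option maxHeartbeats 1000000
set_option backward.isDefEq.respectTransparency.types false
set_option linter.all false
-- import your own Groth.Agent.* helpers here

set_option autoImplicit false
universe u
open CategoryTheory CategoryTheory.Limits AlgebraicGeometry
open HilbNum

open Groth.Agent Groth.Agent.Coherent Groth.Agent.SerreDual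

namespace Groth.Agent.S14408

/-- Let k be an algebraically closed field, n a positive integer, F a nonzero coherent O-module on
projective n-space P over k (quasi-coherent of finite type), and P_F a polynomial with rational
coefficients such that P_F(m) = χ(F(m)) = Σ_{j ≤ n} (-1)^j dim_k H^j(P, F ⊗ O(m)) for every integer
m. Then the degree of P_F equals the dimension of the support of F (the closed set of points where
the stalk of F is nonzero, with the subspace topology). The existence of such a polynomial is not
part of this statement; it enters through the hypothesis on P_F. -/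
theorem result (k : Type u) [Field k] [IsAlgClosed k] (n : ℕ) (hn : 0 < n)
    (F : (CohB1.ProjSpace n k).Modules) (hF : Coh.IsCoh F) (hF0 : ¬ IsZero F) (P : Polynomial ℚ)
    (hP : ∀ m : ℤ,
      ((Finset.range (n + 1)).sum fun j => (-1 : ℚ) ^ j *
        (Module.finrank k (Coh.HH (CohB1.ProjSpace n k) (CohB1.tensorMod F (Twist.twistProjSpace n k m)) j) : ℚ)) =
      P.eval (m : ℚ)) :
    topologicalKrullDim ↥(CohB1.support F) = (P.natDegree : WithBot ℕ∞) := by
  haveI hproper : IsProper ((CohB1.ProjSpace n k) ↘ Spec (CommRingCat.of k)) := isProper_projSpace_toSpec n k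
  haveI := EulerLib.isNoetherian_of_proper (X := CohB1.ProjSpace n k) k
  haveI : (CohB1.ProjSpace n k).IsSeparated := EulerLib.isSeparated_of_proper k
  have hdimX : topologicalKrullDim ↥(CohB1.ProjSpace n k) = (n : WithBot ℕ∞) :=
    Groth.Agent.DimLib.PN.topologicalKrullDim_projSpace n k
  have hle : topologicalKrullDim ↥(CohB1.support F) ≤ (n : WithBot ℕ∞) :=
    (Topology.IsInducing.subtypeVal.topologicalKrullDim_le).trans hdimX.le
  obtain ⟨x, hx⟩ := EulerLib.support_nonempty hF0
  haveI : Nonempty (TopologicalSpace.IrreducibleCloseds ↥(CohB1.support F)) :=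
    ⟨⟨closure {⟨x, hx⟩}, isIrreducible_singleton.closure, isClosed_closure⟩⟩
  have hge : (0 : WithBot ℕ∞) ≤ topologicalKrullDim ↥(CohB1.support F) := Order.krullDim_nonneg
  obtain ⟨d, hd⟩ : ∃ d : ℕ, topologicalKrullDim ↥(CohB1.support F) = (d : WithBot ℕ∞) := by
    generalize topologicalKrullDim ↥(CohB1.support F) = t at hge hle
    induction t using WithBot.recBotCoe with
    | bot => exact absurd hge (by simp)
    | coe t =>
      induction t using ENat.recTopCoe with
      | top => exact absurd (WithBot.coe_le_coe.1 hle) (by simp)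
      | coe a => exact ⟨a, rfl⟩
  rw [hd]
  let A := Twist.twistProjSpace n k 1
  have hA : CohB1.IsAmple A := isAmple_projSpace_one n k
  have hH : ShStab.IsHilbPoly k (CohB1.ProjSpace n k) A F P := by
    intro m
    obtain ⟨et⟩ := TwistLib.nonempty_twist_pow_iso (exists_degree_one n k) m
    let et' : Twist.twistProjSpace n k (m : ℤ) ≅ CohB1.tensorPow A m := et
    have hcoh : Coh.IsCoh (CohB1.tensorMod F (CohB1.tensorPow A m)) :=
      EulerLib.isCoh_twist (AmpleLib.isInvertible_tensorPow hA.1 m) hF
    haveI := hcoh.1
    have h := hP (m : ℤ)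
    rw [Int.cast_natCast] at h
    rw [← h, ShStab.twist, ← EulerLib.euler_congr k _ (AmpleLib.tensorIso (Iso.refl F) et'),
      EulerLib.euler_eq_sum k _ _ n fun q hq => ?_]
    · push_cast; rfl
    · exact Coherent.Serre.HH_subsingleton_of_iso k (AmpleLib.tensorIso (Iso.refl F) et').symm q
        (EulerLib.subsingleton_HH_of_dim _ hdimX.le hq)
  have hpos := EulerLib.alpha_pos k hA hF hH hd
  have hdeg := (EulerLib.alpha_eq_interDeg k hA.1 hF hH hd.le).1
  have hcoef : P.coeff d ≠ 0 := fun h0 => by simp [StabCat.alpha, h0] at hpos
  exact_mod_cast (le_antisymm hdeg (Polynomial.le_natDegree_of_ne_zero hcoef)).symm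

end Groth.Agent.S14408
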