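import Groth.Statements.S14409
import Groth.Agent.ExtAff22.Sections
import Groth.Agent.Coherent.FinMor
import Groth.Agent.SerreDual.ExtShRestrict
import Mathlib.AlgebraicGeometry.Morphisms.FiniteType

set_option autoImplicit false
set_option linter.style.haveILetI false
set_option backward.isDefEq.respectTransparency.types false
universe u
open CategoryTheory AlgebraicGeometry TopologicalSpace Opposite
open Coherent

namespace Groth.Agent.S14409

open Groth.Agent in
private theorem sections_image {X : Scheme.{u}} (U : X.Opens) [IsAffine U.toScheme] [IsLocallyNoetherian U.toScheme]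
    (F G : X.Modules) (hF : Coh.IsCoh F) (hG : Coh.IsCoh G)
    (I : InjectiveResolution G) (i : ℕ) :
    Nonempty (Γ((SerreDual.homCx F I).homology i, U.ι ''ᵁ ⊤) ≃ₗ[Γ(X, U.ι ''ᵁ ⊤)]
      Abelian.Ext (ModuleCat.of Γ(X, U.ι ''ᵁ ⊤) Γ(F, U.ι ''ᵁ ⊤)) (ModuleCat.of Γ(X, U.ι ''ᵁ ⊤) Γ(G, U.ι ''ᵁ ⊤)) i) := by
  have hF' : Coh.IsCoh (F.restrict U.ι) := Coherent.isCoh_restrict U hF
  have hG' : Coh.IsCoh (G.restrict U.ι) := Coherent.isCoh_restrict U hG
  haveI := hG'.1
  haveI := SerreDual.hasInjectiveResolutions_modules U.toScheme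
  let J : InjectiveResolution (G.restrict U.ι) := injectiveResolution _
  obtain ⟨w⟩ := SerreDual.nonempty_homology_restrict U.ι (F := F) I J i
  let ρ : Γ(X, U.ι ''ᵁ ⊤) →+* Γ(U.toScheme, ⊤) := (U.ι.appIso ⊤).hom.hom
  have hρ : Function.Bijective ρ := ConcreteCategory.bijective_of_isIso (U.ι.appIso ⊤).hom
  obtain ⟨-, ⟨e⟩⟩ := ExtAff22.qcoh_and_sections (G := G.restrict U.ι) ρ J hρ (isAffineOpen_top _) i hF'
  have a : ∀ M : X.Modules, Nonempty ((ExtAff22.secR ρ).obj (M.restrict U.ι) ≅
      ModuleCat.of Γ(X, U.ι ''ᵁ ⊤) Γ(M, U.ι ''ᵁ ⊤)) := fun M =>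
    ⟨(show ((ExtAff22.secR ρ).obj (M.restrict U.ι) : Type u) ≃ₗ[Γ(X, U.ι ''ᵁ ⊤)] Γ(M, U.ι ''ᵁ ⊤) from
      { toFun := fun m => m
        map_add' := fun _ _ => rfl
        map_smul' := fun r m => by
          show (U.ι.appIso ⊤).inv.hom ((U.ι.appIso ⊤).hom.hom r) • (show Γ(M, U.ι ''ᵁ ⊤) from m) = r • (show Γ(M, U.ι ''ᵁ ⊤) from m)
          exact congrArg (· • _) (ConcreteCategory.congr_hom (U.ι.appIso ⊤).hom_inv_id r)
        invFun := fun m => m
        left_inv := fun _ => rfl
        right_inv := fun _ => rfl }).toModuleIso⟩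
  obtain ⟨aF⟩ := a F
  obtain ⟨aG⟩ := a G
  obtain ⟨aH⟩ := a ((SerreDual.homCx F I).homology i)
  exact ⟨aH.symm.toLinearEquiv.trans (((ExtAff22.secR ρ).mapIso w).toLinearEquiv.trans
    (e.trans (ExtAff22.extCongr aF aG i)))⟩



/-- Let k be an algebraically closed field and X a variety over k, modelled as a reduced scheme
separated and of finite type over k; let U be an affine open subset of X and F, G coherent
O_X-modules (quasi-coherent of finite type; X is Noetherian). For i ≥ 0 let Ext^i(F, G) be the i-th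
local Ext sheaf, the i-th right derived functor of the internal Hom functor Hom(F, -) on O_X-modules
evaluated at G (existence of that internal Hom and of injective resolutions are the stated instance
hypotheses, both true). Then the module of sections Γ(U, Ext^i(F, G)) over the ring R = Γ(U, O_X) is
R-linearly isomorphic to Ext^i_R(F(U), G(U)), computed in the category of R-modules (existence of an
isomorphism only). -/
theorem result (k : Type u) [Field k] [IsAlgClosed k]
    (X : Scheme.{u}) [X.Over (Spec (CommRingCat.of k))] [IsReduced X]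
    [IsSeparated (X ↘ (Spec (CommRingCat.of k)))] [LocallyOfFiniteType (X ↘ (Spec (CommRingCat.of k)))] [CompactSpace ↥X]
    (U : X.Opens) (hU : IsAffineOpen U) (F G : X.Modules) (hF : Coh.IsCoh F) (hG : Coh.IsCoh G)
    [ModSite.HasSheafHom (O := X.sheaf) F] [HasInjectiveResolutions (ModSite.Mod X.sheaf)] (i : ℕ) :
    Nonempty (((ModSite.extSh (O := X.sheaf) F i).obj G).val.obj (op U)
      ≃ₗ[Γ(X, U)] Abelian.Ext (ModuleCat.of Γ(X, U) (F.val.obj (op U))) (ModuleCat.of Γ(X, U) (G.val.obj (op U))) i) := by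
  haveI : IsLocallyNoetherian X :=
    LocallyOfFiniteType.isLocallyNoetherian (X ↘ Spec (CommRingCat.of k))
  haveI : IsAffine U.toScheme := hU
  haveI : IsLocallyNoetherian U.toScheme := inferInstance
  haveI : HasInjectiveResolutions X.Modules := ‹HasInjectiveResolutions (ModSite.Mod X.sheaf)›
  let I : InjectiveResolution G := injectiveResolution G
  have key : ∀ V : X.Opens, U.ι ''ᵁ ⊤ = V →
      Nonempty (Γ((Groth.Agent.SerreDual.homCx F I).homology i, V) ≃ₗ[Γ(X, V)]
        Abelian.Ext (ModuleCat.of Γ(X, V) Γ(F, V)) (ModuleCat.of Γ(X, V) Γ(G, V)) i) := by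
    rintro V rfl
    exact sections_image U F G hF hG I i
  obtain ⟨e⟩ := key U U.ι_image_top
  let t : (ModSite.extSh (O := X.sheaf) F i).obj G ≅ (Groth.Agent.SerreDual.homCx F I).homology i :=
    Groth.Agent.SerreDual.extShIso F I i
  let t' : Γ((ModSite.extSh (O := X.sheaf) F i).obj G, U) ≃ₗ[Γ(X, U)]
      Γ((Groth.Agent.SerreDual.homCx F I).homology i, U) :=
    ((Groth.Agent.ExtAff22.secR (RingHom.id Γ(X, U))).mapIso t).toLinearEquiv
  exact ⟨t'.trans e⟩

end Groth.Agent.S14409
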