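import Groth.Statements.S1441
import Groth.Agent.FlatMorRel.FibFlatDescend
import Groth.Agent.EGA43.QcohFlat
import Groth.Agent.Desc19b.FlatOverBC
import Groth.Agent.EGA43.Limit.Basic

set_option autoImplicit false
universe u
open FlatMor

namespace Groth.Agent.S1441

open AlgebraicGeometry CategoryTheory Limits in
/-- Let f : X → Y be a morphism over S with X locally of finite presentation and Y locally of finite
type over S, and F a finitely presented quasi-coherent O_X-module flat over S. Then the set U of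
points where F is flat over Y is open in X, and for any base change S' → S (with X', Y', F' the base
changes) the corresponding set for F' over Y' is the preimage of U. -/
theorem result {X Y S : Scheme.{u}} (f : X ⟶ Y) (g : Y ⟶ S) [LocallyOfFinitePresentation (f ≫ g)] [LocallyOfFiniteType g]
    (F : X.Modules) (hq : Coh.IsQCoh F) (hfp : CohB1.IsFP F) (hfl : FlatMod.IsFlatOver (f ≫ g) F) :
    IsOpen {x : ↑X | FlatMod.IsFlatOverAt f F x} ∧
      ∀ {X' Y' S' : Scheme.{u}} (h : S' ⟶ S) (gY : Y' ⟶ Y) (g' : Y' ⟶ S') (hY : IsPullback gY g' g h)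
        (gX : X' ⟶ X) (f' : X' ⟶ Y') (hX : IsPullback gX (f' ≫ g') (f ≫ g) h) (w : gX ≫ f = f' ≫ gY),
        {x' : ↑X' | FlatMod.IsFlatOverAt f' ((Scheme.Modules.pullback gX).obj F) x'} = gX ⁻¹' {x : ↑X | FlatMod.IsFlatOverAt f F x} := by
  open Groth.Agent in
  haveI : Coh.IsQCoh F := hq
  haveI : LocallyOfFinitePresentation f := EGA43.Limit.locallyOfFinitePresentation_of_comp f g
  refine ⟨EGA43.QcohFlat.isOpen_setOf_isFlatOverAt f F hfp, fun {X' Y' S'} h gY g' hY gX f' hX w => ?_⟩
  have hsq : IsPullback gX f' f gY := IsPullback.of_bot hX w hY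
  ext x'
  refine ⟨fun hx' => ?_, fun hx => Desc19b.isFlatOverAt_baseChange f f' gX gY hsq F x' hx⟩
  exact EGA43.Cons.isFlatOverAt_of_isFibFlatAt f g F hfp (gX x') (hfl _)
    (FlatMorRel.isFibFlatAt_of_baseChange f g h gY g' hY gX f' hX w F x'
      (EGA43.Cons.isFibFlatAt_of_isFlatOverAt f' g' _ x' hx'))

end Groth.Agent.S1441
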