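import Mathlib.Topology.Sheaves.Flasque
import Mathlib.Algebra.Homology.ShortComplex.ShortExact
import Mathlib.Topology.Sheaves.Flasque
import Groth.Agent.SiteCoh.SheafTools

set_option autoImplicit false
universe u
open CategoryTheory TopologicalSpace
open CohTop

namespace Groth.Agent.S14410

/-- Let X be a topological space and 0 → F₁ → F₂ → F₃ → 0 a short exact sequence of sheaves of abelian
groups on X. If F₁ and F₃ are flasque (every restriction map is surjective), then F₂ is flasque.
(The published statement is for O_X-modules on a ringed space and is an equivalence; this row states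
the implication from the outer terms to the middle term, for the underlying abelian sheaves.) -/
theorem result (X : TopCat.{u})
    (S : ShortComplex (TopCat.Sheaf AddCommGrpCat.{u} X)) (hS : S.ShortExact)
    [S.X₁.IsFlasque] [S.X₃.IsFlasque] : S.X₂.IsFlasque := by
  refine ⟨fun {U V} i => (AddCommGrpCat.epi_iff_surjective _).2 fun t => ?_⟩
  have hs : ∀ W : (TopologicalSpace.Opens X)ᵒᵖ, Function.Surjective (S.g.hom.app W) := fun W =>
    (AddCommGrpCat.epi_iff_surjective _).1 (TopCat.Sheaf.IsFlasque.epi_of_shortExact hS)
  obtain ⟨z, hz⟩ := (AddCommGrpCat.epi_iff_surjective (S.X₃.obj.map i)).1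
    (TopCat.Presheaf.IsFlasque.epi i) (S.g.hom.app V t)
  obtain ⟨b, rfl⟩ := hs U z
  obtain ⟨a, ha⟩ := Groth.Agent.SiteCoh.sections_exact hS V.unop (t - S.X₂.obj.map i b) (by
    refine (map_sub (S.g.hom.app V).hom _ _).trans (sub_eq_zero.2 ?_)
    exact hz.symm.trans (NatTrans.naturality_apply S.g.hom i b).symm)
  obtain ⟨a', ha'⟩ := (AddCommGrpCat.epi_iff_surjective (S.X₁.obj.map i)).1
    (TopCat.Presheaf.IsFlasque.epi i) a
  refine ⟨S.f.hom.app U a' + b, ?_⟩
  rw [map_add, ← NatTrans.naturality_apply, ha']
  exact (congrArg (· + _) ha).trans (sub_add_cancel _ _)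

end Groth.Agent.S14410
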