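import Groth.Statements.S14412
import Mathlib
-- import your own Groth.Agent.* helpers here

set_option autoImplicit false
universe u
open CategoryTheory
open CAlg

namespace Groth.Agent.S14412

variable {R : Type u} [CommRing R] (S : Submonoid R)

theorem map_apply_mk {M N : ModuleCat.{u} R} (f : M ⟶ N) (x : M) :
    (ModuleCat.localizedModuleMap S f).hom (M.localizedModuleMkLinearMap S x) = N.localizedModuleMkLinearMap S (f.hom x) :=
  IsLocalizedModule.map_apply S _ _ f.hom x

theorem map_smul_id (N : ModuleCat.{u} R) (r : R) :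
    (ModuleCat.localizedModuleFunctor.{u} S).map (r • 𝟙 N) = algebraMap R (Localization S) r • 𝟙 ((ModuleCat.localizedModuleFunctor.{u} S).obj N) := by
  show ModuleCat.localizedModuleMap S (r • 𝟙 N) = algebraMap R (Localization S) r • 𝟙 (N.localizedModule S)
  refine ModuleCat.hom_ext (LinearMap.restrictScalars_injective R
    (IsLocalizedModule.ext S (N.localizedModuleMkLinearMap S)
      (IsLocalizedModule.map_units (N.localizedModuleMkLinearMap S)) (LinearMap.ext fun x => ?_)))
  show (ModuleCat.localizedModuleMap S (r • 𝟙 N)).hom (N.localizedModuleMkLinearMap S x) = _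
  rw [map_apply_mk]
  show N.localizedModuleMkLinearMap S (r • x) =
    algebraMap R (Localization S) r • (N.localizedModuleMkLinearMap S x : (N.localizedModule S : Type u))
  rw [map_smul, algebraMap_smul]

open Abelian in
theorem map_smul_ext {M N : ModuleCat.{u} R} (n : ℕ) (r : R) (e : Ext M N n) :
    (ModuleCat.localizedModuleFunctor.{u} S).mapExtAddHom M N n (r • e) = algebraMap R (Localization S) r • (ModuleCat.localizedModuleFunctor.{u} S).mapExtAddHom M N n e := by
  rw [Ext.smul_eq_comp_mk₀, Ext.smul_eq_comp_mk₀, ← map_smul_id]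
  simp [Ext.mapExactFunctor_comp, Ext.mapExactFunctor_mk₀]

open Abelian in
theorem smul_eq_zero_imp {M N : ModuleCat.{u} R} (n : ℕ) (e : Ext M N n) (s : S) (h : (s : R) • e = 0) :
    (ModuleCat.localizedModuleFunctor.{u} S).mapExtAddHom M N n e = 0 := by
  have h1 := map_smul_ext S n (s : R) e
  rw [h, map_zero] at h1
  exact ((IsLocalization.map_units (Localization S) s).smul_eq_zero).1 h1.symm

set_option maxHeartbeats 800000 in
open Abelian in
theorem main [IsNoetherianRing R] (N : ModuleCat.{u} R) [Module.Finite R N] :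
    ∀ (n : ℕ) (M : ModuleCat.{u} R), Module.Finite R M →
      (∀ y : Ext ((ModuleCat.localizedModuleFunctor.{u} S).obj M) ((ModuleCat.localizedModuleFunctor.{u} S).obj N) n, ∃ (e : Ext M N n) (s : S),
        algebraMap R (Localization S) (s : R) • y = (ModuleCat.localizedModuleFunctor.{u} S).mapExtAddHom M N n e) ∧
      (∀ e : Ext M N n, (ModuleCat.localizedModuleFunctor.{u} S).mapExtAddHom M N n e = 0 → ∃ s : S, (s : R) • e = 0) := by
  intro n
  induction n with
  | zero =>
    intro M hM
    have hfp : Module.FinitePresentation R M := Module.finitePresentation_of_finite R M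
    let φ := IsLocalizedModule.mapExtendScalars S (M.localizedModuleMkLinearMap S)
      (N.localizedModuleMkLinearMap S) (Localization S)
    have hφ : IsLocalizedModule S φ := Module.FinitePresentation.isLocalizedModule_mapExtendScalars _ _ _ _
    have hmk : ∀ f : M ⟶ N, (ModuleCat.localizedModuleFunctor.{u} S).mapExtAddHom M N 0 (Ext.mk₀ f) = Ext.mk₀ ((ModuleCat.localizedModuleFunctor.{u} S).map f) := fun f => by
      simp [Ext.mapExactFunctor_mk₀]
    refine ⟨fun y => ?_, fun e he => ?_⟩
    · obtain ⟨g, rfl⟩ := (Ext.mk₀_bijective _ _).2 y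
      obtain ⟨⟨h, s⟩, hs⟩ := IsLocalizedModule.surj S φ g.hom
      refine ⟨Ext.mk₀ (ModuleCat.ofHom h), s, ?_⟩
      rw [hmk, ← Ext.mk₀_smul]
      refine congrArg Ext.mk₀ (ModuleCat.hom_ext ?_)
      exact (algebraMap_smul (Localization S) (s : R)
        (@id (M.localizedModule S →ₗ[Localization S] N.localizedModule S) g.hom)).trans hs
    · obtain ⟨f, rfl⟩ := (Ext.mk₀_bijective _ _).2 e
      rw [hmk, ← Ext.mk₀_zero, (Ext.mk₀_bijective _ _).1.eq_iff] at he
      obtain ⟨s, hs⟩ := (IsLocalizedModule.eq_zero_iff S φ).1 (congrArg ModuleCat.Hom.hom he : φ f.hom = 0)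
      refine ⟨s, ?_⟩
      rw [← Ext.mk₀_smul, ← Ext.mk₀_zero]
      exact congrArg Ext.mk₀ (ModuleCat.hom_ext hs)
  | succ n ih =>
    intro M hM
    obtain ⟨m, π, hπ⟩ := Module.Finite.exists_fin' R M
    let T : ShortComplex (ModuleCat.{u} R) :=
      ShortComplex.mk (ModuleCat.ofHom (LinearMap.ker π).subtype) (ModuleCat.ofHom π)
        (ModuleCat.hom_ext (LinearMap.ext fun x => x.2))
    have hT : T.ShortExact :=
      { exact := (ShortComplex.ShortExact.moduleCat_exact_iff_function_exact T).2 (LinearMap.exact_subtype_ker_map π)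
        mono_f := (ModuleCat.mono_iff_injective _).2 (LinearMap.ker π).injective_subtype
        epi_g := (ModuleCat.epi_iff_surjective _).2 hπ }
    have hfin1 : Module.Finite R T.X₁ := inferInstanceAs (Module.Finite R (LinearMap.ker π))
    have hfin2 : Module.Finite R T.X₂ := inferInstanceAs (Module.Finite R (Fin m → R))
    have : Module.Projective R T.X₂ := inferInstanceAs (Module.Projective R (Fin m → R))
    have hproj : Projective T.X₂ := (IsProjective.iff_projective (T.X₂ : Type u)).1 inferInstance
    have : Projective (T.map (ModuleCat.localizedModuleFunctor.{u} S)).X₂ := (ModuleCat.localizedModuleFunctor.{u} S).projective_obj_of_projective hproj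
    have hTF := hT.map_of_exact (ModuleCat.localizedModuleFunctor.{u} S)
    obtain ⟨ihs1, ihk1⟩ := ih T.X₁ hfin1
    obtain ⟨ihs2, ihk2⟩ := ih T.X₂ hfin2
    have hδ : ∀ (e : Ext T.X₁ N n), (ModuleCat.localizedModuleFunctor.{u} S).mapExtAddHom T.X₃ N (n + 1) (hT.extClass.comp e (add_comm 1 n)) =
        hTF.extClass.comp ((ModuleCat.localizedModuleFunctor.{u} S).mapExtAddHom T.X₁ N n e) (add_comm 1 n) := fun e => by
      simp [Ext.mapExactFunctor_comp, Ext.mapExactFunctor_extClass]; rfl
    have hι : ∀ (e : Ext T.X₂ N n), (ModuleCat.localizedModuleFunctor.{u} S).mapExtAddHom T.X₁ N n ((Ext.mk₀ T.f).comp e (zero_add n)) =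
        (Ext.mk₀ (T.map (ModuleCat.localizedModuleFunctor.{u} S)).f).comp ((ModuleCat.localizedModuleFunctor.{u} S).mapExtAddHom T.X₂ N n e) (zero_add n) := fun e => by
      simp [Ext.mapExactFunctor_comp, Ext.mapExactFunctor_mk₀]; rfl
    refine ⟨fun y => ?_, fun e he => ?_⟩
    · obtain ⟨z, hz⟩ := Ext.contravariant_sequence_exact₃ hTF _ (y : Ext (T.map (ModuleCat.localizedModuleFunctor.{u} S)).X₃ ((ModuleCat.localizedModuleFunctor.{u} S).obj N) (n + 1))
        (Ext.eq_zero_of_projective _) (add_comm 1 n)
      obtain ⟨e, s, hs⟩ := ihs1 z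
      refine ⟨hT.extClass.comp e (add_comm 1 n), s, ?_⟩
      rw [hδ e, ← hs, ← hz]
      exact (Ext.comp_smul hTF.extClass z (add_comm 1 n) (algebraMap R (Localization S) (s : R))).symm
    · obtain ⟨z, hz⟩ := Ext.contravariant_sequence_exact₃ hT _ (e : Ext T.X₃ N (n + 1))
        (Ext.eq_zero_of_projective _) (add_comm 1 n)
      subst hz
      have he' : hTF.extClass.comp ((ModuleCat.localizedModuleFunctor.{u} S).mapExtAddHom T.X₁ N n z) (add_comm 1 n) = 0 := (hδ z).symm.trans he
      obtain ⟨w, hw⟩ := Ext.contravariant_sequence_exact₁ hTF _ _ (add_comm 1 n) he'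
      obtain ⟨p, s, hs⟩ := ihs2 w
      have h0 : (ModuleCat.localizedModuleFunctor.{u} S).mapExtAddHom T.X₁ N n ((Ext.mk₀ T.f).comp p (zero_add n) - (s : R) • z) = 0 := by
        rw [map_sub, hι, map_smul_ext, ← hs]
        exact sub_eq_zero.2 ((Ext.comp_smul (Ext.mk₀ (T.map (ModuleCat.localizedModuleFunctor.{u} S)).f) w (zero_add n)
          (algebraMap R (Localization S) (s : R))).trans (congrArg (fun v => algebraMap R (Localization S) (s : R) • v) hw))
      obtain ⟨t, ht⟩ := ihk1 _ h0
      refine ⟨t * s, ?_⟩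
      show ((t : R) * (s : R)) • hT.extClass.comp z (add_comm 1 n) = 0
      rw [smul_sub, sub_eq_zero, smul_smul] at ht
      rw [← Ext.comp_smul, ← ht, Ext.comp_smul, hT.extClass_comp_assoc]
      simp


/-- Let R be a Noetherian commutative ring, S a multiplicative subset of R, and M, N finitely generated
R-modules. For i ≥ 0 consider the map Ext^i_R(M, N) → Ext^i_{S⁻¹R}(S⁻¹M, S⁻¹N) induced on Ext groups
(computed in the categories of modules) by the exact localization functor M ↦ S⁻¹M. Then this map
exhibits its target as the localization S⁻¹ Ext^i_R(M, N): every element of the target, after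
multiplication by some s ∈ S, is the image of an element of Ext^i_R(M, N), and an element of
Ext^i_R(M, N) maps to zero if and only if it is annihilated by some element of S. (Equivalently, the
induced map identifies S⁻¹Ext^i_R(M, N) with Ext^i_{S⁻¹R}(S⁻¹M, S⁻¹N).) -/
theorem result (R : Type u) [CommRing R] [IsNoetherianRing R]
    (S : Submonoid R) (M N : ModuleCat.{u} R) [Module.Finite R M] [Module.Finite R N] (i : ℕ) :
    (∀ y : Abelian.Ext ((ModuleCat.localizedModuleFunctor.{u} S).obj M) ((ModuleCat.localizedModuleFunctor.{u} S).obj N) i,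
        ∃ (e : Abelian.Ext M N i) (s : S),
          algebraMap R (Localization S) (s : R) • y = (ModuleCat.localizedModuleFunctor.{u} S).mapExtAddHom M N i e) ∧
      (∀ e : Abelian.Ext M N i,
        (ModuleCat.localizedModuleFunctor.{u} S).mapExtAddHom M N i e = 0 ↔ ∃ s : S, (s : R) • e = 0) := by
  obtain ⟨h1, h2⟩ := main S N i M inferInstance
  exact ⟨h1, fun e => ⟨h2 e, fun ⟨s, hs⟩ => smul_eq_zero_imp S i e s hs⟩⟩

end Groth.Agent.S14412
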