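import Groth.Statements.S14413
import Mathlib
import Groth.Prelude
import Groth.Agent.CAlgH3.ProjDim

set_option linter.all false

set_option autoImplicit false
universe u
open CategoryTheory CategoryTheory.Limits
open CAlg

open CategoryTheory CategoryTheory.Limits AlgebraicGeometry
open scoped TensorProduct

set_option backward.isDefEq.respectTransparency false
set_option backward.isDefEq.respectTransparency.types false
namespace Groth.Agent.S14413

theorem exists_res (R : Type u) [CommRing R] : ∀ (d : ℕ) (M : ModuleCat.{u} R), HasProjectiveDimensionLE M d →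
    ∃ P : ProjectiveResolution M, ∀ i : ℕ, d < i → IsZero (P.complex.X i) := by
  intro d
  induction d with
  | zero =>
    intro M hM
    haveI : Projective M := (projective_iff_hasProjectiveDimensionLT_one).2 hM
    exact ⟨ProjectiveResolution.self M, fun i hi => HomologicalComplex.isZero_single_obj_X _ 0 M i (by omega)⟩
  | succ d ih =>
    intro M hM
    let g : (M →₀ R) →ₗ[R] M := Finsupp.linearCombination R id
    have hg : Function.Surjective g := fun m => ⟨Finsupp.single m 1, by simp [g]⟩
    let K := ModuleCat.of R (LinearMap.ker g)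
    have hK : HasProjectiveDimensionLE K d :=
      (Groth.Agent.CAlgH3.pd_ker_iff (R := R) hg d).1 (show HasProjectiveDimensionLT (ModuleCat.of R M) (d + 2) from hM)
    obtain ⟨P, hP⟩ := ih K hK
    let ι : K ⟶ ModuleCat.of R (M →₀ R) := ModuleCat.ofHom (LinearMap.ker g).subtype
    let π : ModuleCat.of R (M →₀ R) ⟶ M := ModuleCat.ofHom g
    haveI : Mono ι := (ModuleCat.mono_iff_injective _).2 Subtype.val_injective
    haveI : Epi π := (ModuleCat.epi_iff_surjective _).2 hg
    have w : P.complex.d 1 0 ≫ (P.π.f 0 ≫ ι) = 0 := by rw [← Category.assoc, P.complex_d_comp_π_f_zero, zero_comp]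
    let cx := ChainComplex.augment P.complex (P.π.f 0 ≫ ι) w
    have w0 : cx.d 1 0 ≫ π = 0 := by
      show (P.π.f 0 ≫ ι) ≫ π = 0
      rw [Category.assoc, show ι ≫ π = 0 from by ext x; exact x.2, comp_zero]
    have hex0 : (ShortComplex.mk _ _ w0).Exact := by
      rw [ShortComplex.moduleCat_exact_iff]
      intro z hz
      have hs : Function.Surjective (P.π.f 0) := (ModuleCat.epi_iff_surjective _).1 inferInstance
      obtain ⟨a, ha⟩ := hs ⟨z, hz⟩
      exact ⟨a, congrArg Subtype.val ha⟩
    have hsucc : ∀ n, cx.ExactAt (n + 1) := by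
      intro n
      rw [HomologicalComplex.exactAt_iff' _ (n + 1 + 1) (n + 1) n (by simp) (by simp)]
      cases n with
      | zero =>
        have e : (ShortComplex.mk _ _ P.complex_d_comp_π_f_zero).Exact :=
          ShortComplex.exact_of_g_is_cokernel _ P.isColimitCokernelCofork
        rw [ShortComplex.moduleCat_exact_iff] at e ⊢
        intro z hz
        exact e z (((ModuleCat.mono_iff_injective ι).1 inferInstance) (hz.trans (map_zero _).symm))
      | succ n => exact P.exact_succ n
    have hproj : ∀ n, Projective (cx.X n) := fun n => match n with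
      | 0 => (IsProjective.iff_projective _).1 inferInstance
      | n + 1 => P.projective n
    refine ⟨{ complex := cx
              π := (ChainComplex.toSingle₀Equiv _ _).symm ⟨π, w0⟩
              projective := hproj
              quasiIso := ⟨fun n => ?_⟩ }, fun i hi => ?_⟩
    · cases n
      · rw [ChainComplex.quasiIsoAt₀_iff, ShortComplex.quasiIso_iff_of_zeros']
        · refine (ShortComplex.exact_and_epi_g_iff_of_iso ?_).2 ⟨hex0, ‹Epi π›⟩
          exact ShortComplex.isoMk (Iso.refl _) (Iso.refl _) (Iso.refl _) (by simp) (by simp)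
        all_goals rfl
      · rw [quasiIsoAt_iff_exactAt']
        · exact hsucc _
        · apply ChainComplex.exactAt_succ_single_obj
    · obtain ⟨i, rfl⟩ : ∃ j, i = j + 1 := ⟨i - 1, by omega⟩
      exact hP i (by omega)

/-- Let R be a commutative ring, M an R-module and d ≥ 0. Then M has projective dimension at most d in
the sense that Ext^i_R(M, N) = 0 for every i > d and every R-module N (Mathlib's Ext-vanishing
definition) if and only if M has a projective resolution of length at most d, i.e. a projective
resolution P whose terms P_i are zero for all i > d (the definition of pd_R(M) ≤ d by resolutions). -/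
theorem result (R : Type u) [CommRing R]
    (M : ModuleCat.{u} R) (d : ℕ) :
    HasProjectiveDimensionLE M d ↔
      ∃ P : ProjectiveResolution M, ∀ i : ℕ, d < i → IsZero (P.complex.X i) := by
  refine ⟨exists_res R d M, fun ⟨P, hP⟩ => ?_⟩
  let dd := fun m => (P.complex.d (m + 1) m).hom
  have hproj : ∀ m, Module.Projective R (P.complex.X m) := fun m => (IsProjective.iff_projective _).2 (P.projective m)
  have hd : ∀ m, LinearMap.range (dd (m + 1)) = LinearMap.ker (dd m) := fun m => (P.exact_succ m).moduleCat_range_eq_ker
  have h0 : LinearMap.range (dd 0) = LinearMap.ker (P.π.f 0).hom :=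
    (ShortComplex.exact_of_g_is_cokernel (ShortComplex.mk _ _ P.complex_d_comp_π_f_zero)
      P.isColimitCokernelCofork).moduleCat_range_eq_ker
  have key : ∀ j m, m + j = d → Groth.Agent.CAlgH3.PD R j (LinearMap.range (dd m)) := by
    intro j
    induction j with
    | zero =>
      intro m hm
      rw [Groth.Agent.CAlgH3.pd_zero_iff]
      haveI := ModuleCat.subsingleton_of_isZero (hP (m + 1) (by omega))
      exact ⟨fun a b => by
        obtain ⟨_, x, rfl⟩ := a; obtain ⟨_, y, rfl⟩ := b
        refine Subtype.ext ?_
        show dd m x = dd m y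
        rw [Subsingleton.elim x y]⟩
    | succ j ih =>
      intro m hm
      have h1 := ih (m + 1) (by omega)
      rw [hd m] at h1
      have hP1 : Groth.Agent.CAlgH3.PD R (j + 1) (P.complex.X (m + 1)) :=
        Groth.Agent.CAlgH3.pd_mono (Nat.le_add_left 1 j) (Groth.Agent.CAlgH3.pd_one_iff.2 (hproj _))
      exact (Groth.Agent.CAlgH3.pd_of_ses (LinearMap.ker (dd m)).subtype (dd m).rangeRestrict Subtype.val_injective (dd m).surjective_rangeRestrict
        (by rw [LinearMap.exact_iff, LinearMap.ker_rangeRestrict, Submodule.range_subtype])).2.2 h1 hP1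
  have hk := key d 0 (zero_add d)
  rw [h0] at hk
  exact (Groth.Agent.CAlgH3.pd_of_ses (LinearMap.ker (P.π.f 0).hom).subtype (P.π.f 0).hom Subtype.val_injective
    ((ModuleCat.epi_iff_surjective _).1 inferInstance) (LinearMap.exact_subtype_ker_map _)).2.2 hk
    (Groth.Agent.CAlgH3.pd_mono (Nat.le_add_left 1 d) (Groth.Agent.CAlgH3.pd_one_iff.2 (hproj 0)))

end Groth.Agent.S14413
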