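import Groth.Statements.S14415
import Groth.Agent.FlatMor12.DimOneFlat
import Groth.Agent.MorProj.FinFree
import Groth.Agent.CAlgH3.RegularLocal

set_option autoImplicit false
set_option backward.isDefEq.respectTransparency false
universe u
open CategoryTheory AlgebraicGeometry
open FlatMor

namespace Groth.Agent.S14415

open CategoryTheory AlgebraicGeometry TopologicalSpace Groth.Agent.FlatMor12 Groth.Agent.FlatMor12.DimOneFlat in
/-- Flatness over regular schemes of dimension at most one from associated points. -/
theorem flat_aux {X Y : Scheme.{u}} (f : X ⟶ Y) [IsLocallyNoetherian X]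
    (hreg : ∀ y : Y, IsRegularLocalRing (Y.presheaf.stalk y)) (hdim : ∀ y : Y, ringKrullDim (Y.presheaf.stalk y) ≤ 1)
    (h : ∀ x : X, Curv2.IsAssPoint (Coh.structureModule X) x → ringKrullDim (Y.presheaf.stalk (f x)) = 0) : Flat f := by
  rw [Flat.iff_flat_stalkMap]
  intro x
  algebraize [(f.stalkMap x).hom]
  have := hreg (f x)
  have := CAlgH3.isDomain_of_isRegularLocalRing (Y.presheaf.stalk (f x))
  have : IsPrincipalIdealRing (Y.presheaf.stalk (f x)) := by
    by_cases hF : IsField (Y.presheaf.stalk (f x))
    · letI := hF.toField
      infer_instance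
    · rw [← ((tfae_of_isNoetherianRing_of_isLocalRing_of_isDomain (Y.presheaf.stalk (f x))).out 5 0 rfl rfl)]
      have h1 := (IsRegularLocalRing.iff_finrank_cotangentSpace (Y.presheaf.stalk (f x))).1 inferInstance
      exact Nat.cast_le.1 (h1.trans_le (hdim (f x)))
  refine flat_of_nzd (R := Y.presheaf.stalk (f x)) (A := X.presheaf.stalk x) fun r hr a ha => ?_
  by_contra ha0
  have hb : f.stalkMap x r ∉ nonZeroDivisors (X.presheaf.stalk x) := fun hn =>
    ha0 (mem_nonZeroDivisors_iff_right.1 hn a (by rw [mul_comm]; exact ha))
  obtain ⟨P, hP, hrP⟩ := Set.mem_iUnion₂.1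
    ((biUnion_associatedPrimes_eq_compl_nonZeroDivisors (R := X.presheaf.stalk x)).symm.subset hb)
  let q : PrimeSpectrum (X.presheaf.stalk x) := ⟨P, hP.isPrime⟩
  obtain ⟨U, hU, hx, -⟩ := exists_isAffineOpen_mem_and_subset (x := x) (U := ⊤) trivial
  letI := TopCat.Presheaf.algebra_section_stalk X.presheaf (⟨x, hx⟩ : U)
  haveI := hU.isLocalization_stalk ⟨x, hx⟩
  haveI := AssSch12.isNoetherianRing_of_isAffineOpen hU
  let z := X.fromSpecStalk x q
  have hzU : z ∈ U := by
    have := Set.mem_range_self (f := X.fromSpecStalk x) q
    rw [Scheme.range_fromSpecStalk] at this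
    exact Specializes.mem_open this U.2 hx
  have hz : Curv2.IsAssPoint (Coh.structureModule X) z := by
    have hM : (Coh.structureModule X).IsQuasicoherent := QCohLoc.isQCoh_structureModule X
    refine (AssSch12.mem_ass_iff hU hzU (Coh.structureModule X)).2 ?_
    show AssSch12.primeAt hU hzU ∈ associatedPrimes Γ(X, U) Γ(X, U)
    have he : AssSch12.primeAt hU hzU = P.comap (algebraMap Γ(X, U) (X.presheaf.stalk x)) := by
      have hz' : z = hU.fromSpec (PrimeSpectrum.comap (algebraMap Γ(X, U) (X.presheaf.stalk x)) q) := by
        show X.fromSpecStalk x q = _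
        rw [← hU.fromSpecStalk_eq_fromSpecStalk hx]
        rfl
      have := AssSch12.primeAt_fromSpec hU (PrimeSpectrum.comap (algebraMap Γ(X, U) (X.presheaf.stalk x)) q) (hz' ▸ hzU)
      simp only [← hz'] at this
      exact this
    rw [he, ← Module.associatedPrimes.preimage_comap_associatedPrimes_eq_associatedPrimes_of_isLocalizedModule
      (AssSch12.primeAt hU hx).primeCompl (X.presheaf.stalk x)
      (Algebra.linearMap Γ(X, U) (X.presheaf.stalk x))] at *
    exact hP
  let b : PrimeSpectrum (Y.presheaf.stalk (f x)) := ⟨⊥, Ideal.isPrime_bot⟩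
  let q' := PrimeSpectrum.comap (f.stalkMap x).hom q
  have hzq : f z = Y.fromSpecStalk (f x) q' := map_fromSpecStalk f x q
  have hb : Y.fromSpecStalk (f x) b ⤳ f z := by
    rw [hzq]
    exact ((PrimeSpectrum.le_iff_specializes b q').1 bot_le).map (Y.fromSpecStalk (f x)).continuous
  have hh := h z hz
  rw [ringKrullDim_stalk_eq_coheight] at hh
  have hmax : IsMax (f z) := Order.coheight_eq_zero.1 (WithBot.coe_eq_coe.1 hh)
  have h2 : Y.fromSpecStalk (f x) b = Y.fromSpecStalk (f x) q' :=
    ((hb.antisymm (hmax hb)).eq).trans hzq
  have h4 : q'.asIdeal = ⊥ := (congrArg PrimeSpectrum.asIdeal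
    ((Y.fromSpecStalk (f x)).isEmbedding.injective h2)).symm
  exact hr ((Submodule.mem_bot _).1 (h4.le hrP))


/-- Let f : C → C' be a finite morphism of schemes, with C' locally Noetherian and all local rings of C'
regular of dimension at most one, such that every associated point x of C (a point whose maximal
ideal is an associated prime of O_{C,x}) maps to a point of C' whose local ring is zero-dimensional,
that is, to a generic point of an irreducible component of C'. Then f_* O_C is finite locally free.
(The published statement takes C' regular Noetherian of pure dimension one and C Noetherian of pure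
dimension one without embedded points; these hypotheses imply that every associated point of C maps
to a generic point of C'. This row assumes only that condition, allows C' locally Noetherian with
regular local rings of dimension at most one, and puts no condition on the dimension of C; the
argument is local on C'.) -/
theorem result
    (C C' : Scheme.{u}) (f : C ⟶ C') [IsFinite f] [IsLocallyNoetherian C']
    (hreg : ∀ y : C', IsRegularLocalRing (C'.presheaf.stalk y))
    (hdim : ∀ y : C', ringKrullDim (C'.presheaf.stalk y) ≤ 1)
    (hass : ∀ x : C, Curv2.IsAssPoint (Coh.structureModule C) x →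
      ringKrullDim (C'.presheaf.stalk (f.base x)) = 0) :
    FlatMod.IsFinLocFree ((Coh.push f).obj (Coh.structureModule C)) := by
  have : IsLocallyNoetherian C := LocallyOfFiniteType.isLocallyNoetherian f
  have := flat_aux f hreg hdim hass
  exact (Groth.Agent.MorProj.finLocFree_pushforward_of_isFinLocFree f ⟨inferInstance, inferInstance, inferInstance⟩).2

end Groth.Agent.S14415
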