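import Groth.Statements.S14416
import Mathlib
import Groth.Agent.FlatCxLib.DRank2
import Groth.Agent.CAlgSmall.ClopenSplit

set_option linter.all false

set_option autoImplicit false
universe u
open scoped TensorProduct
open CAlg

open TensorProduct

namespace Groth.Agent.S14416

/-- Let B → A be a ring map with A a finitely generated B-module such that for every prime ideal p of B
the fibre κ(p) ⊗_B A has dimension at most one over the residue field κ(p). Then B → A is
surjective. In scheme language: a finite morphism whose degree at every point of the target is 0 or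
1 is a closed immersion. (The published statement assumes the two schemes Noetherian; that
hypothesis plays no role and is dropped here.) -/
theorem result
    (B A : Type u) [CommRing B] [CommRing A] [Algebra B A] [Module.Finite B A]
    (h : ∀ p : PrimeSpectrum B,
      Module.finrank p.asIdeal.ResidueField (p.asIdeal.ResidueField ⊗[B] A) ≤ 1) :
    Function.Surjective (algebraMap B A) := by
  let f := Algebra.linearMap B A
  suffices Subsingleton (A ⧸ LinearMap.range f) by
    intro a
    exact LinearMap.mem_range.1 ((Submodule.Quotient.mk_eq_zero _).1 (Subsingleton.elim (Submodule.Quotient.mk a : A ⧸ LinearMap.range f) 0))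
  rw [← Module.support_eq_empty_iff (R := B)]
  refine Set.eq_empty_iff_forall_notMem.2 fun p hp => ?_
  rw [Module.mem_support_iff_nontrivial_residueField_tensorProduct] at hp
  let k := p.asIdeal.ResidueField
  let π : k ⊗[B] A →ₗ[k] k ⊗[B] (A ⧸ LinearMap.range f) := (LinearMap.range f).mkQ.baseChange k
  have hs : Function.Surjective π := LinearMap.lTensor_surjective k (Submodule.mkQ_surjective _)
  have h1 : π 1 = 0 := by
    rw [Algebra.TensorProduct.one_def]
    simp only [π, LinearMap.baseChange_tmul]
    rw [show (LinearMap.range f).mkQ (1 : A) = 0 from (Submodule.Quotient.mk_eq_zero _).2 ⟨1, by simp [f]⟩, tmul_zero]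
  have : Nontrivial (k ⊗[B] A) := hs.nontrivial
  have hd : Module.finrank k (k ⊗[B] A) = 1 := le_antisymm (h p) Module.finrank_pos
  obtain ⟨z, hz⟩ := exists_ne (0 : k ⊗[B] (A ⧸ LinearMap.range f))
  obtain ⟨w, rfl⟩ := hs z
  obtain ⟨c, rfl⟩ := (finrank_eq_one_iff_of_nonzero' (1 : k ⊗[B] A) one_ne_zero).1 hd w
  exact hz (by rw [map_smul, h1, smul_zero])

end Groth.Agent.S14416
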