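import Groth.Statements.S14417
import Mathlib

set_option autoImplicit false
universe u
open CategoryTheory AlgebraicGeometry
open Variety
set_option backward.isDefEq.respectTransparency.types false

namespace Groth.Agent.S14417

/-- A domain standard smooth of relative dimension `m` over a domain has fraction field of transcendence degree `m`. -/
theorem trdeg_of_standardSmooth (m : ℕ) (A B KA KB : Type u) [CommRing A] [CommRing B] [Field KA] [Field KB]
    [IsDomain A] [IsDomain B] [Algebra A B] [Algebra.IsStandardSmoothOfRelativeDimension m A B]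
    [Algebra A KA] [IsFractionRing A KA] [Algebra B KB] [IsFractionRing B KB] [Algebra KA KB] [Algebra A KB]
    [IsScalarTower A B KB] [IsScalarTower A KA KB] : Algebra.trdeg KA KB = m := by
  haveI hKA : FaithfulSMul A KA := (faithfulSMul_iff_algebraMap_injective A KA).2 (IsFractionRing.injective A KA)
  haveI hAKB : FaithfulSMul A KB := (faithfulSMul_iff_algebraMap_injective A KB).2 (by
    rw [IsScalarTower.algebraMap_eq A KA KB]
    exact (algebraMap KA KB).injective.comp (IsFractionRing.injective A KA))
  haveI hAB : FaithfulSMul A B := (faithfulSMul_iff_algebraMap_injective A B).2 fun x y h =>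
    FaithfulSMul.algebraMap_injective A KB (by
      rw [IsScalarTower.algebraMap_apply A B KB, h, ← IsScalarTower.algebraMap_apply A B KB])
  obtain ⟨g, hg⟩ := Algebra.IsStandardSmoothOfRelativeDimension.exists_etale_mvPolynomial m A B
  let P := MvPolynomial (Fin m) A
  letI : Algebra P B := g.toRingHom.toAlgebra
  haveI : IsScalarTower A P B := IsScalarTower.of_algebraMap_eq fun x => (g.commutes x).symm
  haveI : Algebra.Etale P B := RingHom.etale_algebraMap.mp hg
  haveI : Module.Flat P B := inferInstance
  haveI hPB : FaithfulSMul P B := by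
    refine (faithfulSMul_iff_algebraMap_injective P B).2 ((injective_iff_map_eq_zero _).2 fun x hx => ?_)
    by_contra hne
    have hr : IsSMulRegular B x := IsSMulRegular.of_flat (isRegular_of_ne_zero hne).left
    exact one_ne_zero (hr (show x • (1 : B) = x • (0 : B) by rw [Algebra.smul_def, hx, zero_mul, smul_zero]))
  letI : Algebra P KB := ((algebraMap B KB).comp (algebraMap P B)).toAlgebra
  haveI : IsScalarTower P B KB := IsScalarTower.of_algebraMap_eq fun _ => rfl
  haveI : IsScalarTower A P KB := IsScalarTower.of_algebraMap_eq fun x => by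
    rw [IsScalarTower.algebraMap_apply A B KB, IsScalarTower.algebraMap_apply A P B]; rfl
  haveI : FaithfulSMul P KB := (faithfulSMul_iff_algebraMap_injective P KB).2
    ((IsFractionRing.injective B KB).comp (FaithfulSMul.algebraMap_injective P B))
  let L := FractionRing P
  letI : Algebra L KB := FractionRing.liftAlgebra P KB
  haveI : IsScalarTower P L KB := FractionRing.isScalarTower_liftAlgebra P KB
  haveI : Algebra.FormallyEtale B KB := Algebra.FormallyEtale.of_isLocalization (nonZeroDivisors B)
  haveI : Algebra.FormallyUnramified P KB := Algebra.FormallyUnramified.comp P B KB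
  haveI : Algebra.FormallyUnramified L KB := Algebra.FormallyUnramified.of_restrictScalars P L KB
  haveI : Algebra.EssFiniteType B KB := .of_isLocalization _ (nonZeroDivisors B)
  haveI : Algebra.EssFiniteType P KB := .comp P B KB
  haveI : Algebra.EssFiniteType L KB := .of_comp P L KB
  haveI : Algebra.IsSeparable L KB := Algebra.FormallyUnramified.isSeparable L KB
  haveI : Algebra.IsAlgebraic P KB := (IsFractionRing.comap_isAlgebraic_iff (A := P) (K := L) (C := KB)).2 inferInstance
  have h1 : Algebra.trdeg A KB = m := by
    rw [← trdeg_add_eq A P (A := KB), trdeg_eq_zero (R := P) (A := KB), add_zero, MvPolynomial.trdeg_of_isDomain]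
    simp
  haveI : Algebra.IsAlgebraic A KA := IsLocalization.isAlgebraic _ (nonZeroDivisors A)
  rw [← trdeg_add_eq A KA (A := KB), trdeg_eq_zero (R := A) (A := KA), zero_add] at h1
  exact h1


/-- Generic smoothness on the source: let π : X → Y be a dominant morphism of finite type between
integral Noetherian schemes, sending the generic point of X to that of Y, such that the function
field K(Y) (equivalently K(X)) has characteristic zero, and let n be the transcendence degree of
K(X) over K(Y). Then there is a nonempty (equivalently dense) open subscheme U of X on which π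
restricts to a smooth morphism U → Y of relative dimension n. -/
theorem result
    (X Y : Scheme.{u}) [IsIntegral X] [IsIntegral Y] [IsNoetherian X] [IsNoetherian Y]
    (π : X ⟶ Y) [LocallyOfFiniteType π] [QuasiCompact π]
    (hdom : π.base (genericPoint X) = genericPoint Y) [CharZero Y.functionField]
    (n : ℕ) (hn : @Algebra.trdeg (Y.presheaf.stalk (π.base (genericPoint X))) X.functionField _ _
      (π.stalkMap (genericPoint X)).hom.toAlgebra = n) :
    ∃ U : X.Opens, (U : Set X).Nonempty ∧ SmoothOfRelativeDimension n (U.ι ≫ π) := by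
  haveI : LocallyOfFinitePresentation π := inferInstance
  have hη : genericPoint X ∈ π.smoothLocus := by
    rw [Scheme.Hom.mem_smoothLocus]
    have key : ∀ (y : Y) (φ : Y.presheaf.stalk y ⟶ X.functionField), y = genericPoint Y →
        φ.hom.EssFiniteType → φ.hom.FormallySmooth := by
      rintro y φ rfl hφ
      algebraize [φ.hom]
      haveI : Algebra.EssFiniteType Y.functionField X.functionField := hφ
      exact inferInstanceAs (Algebra.FormallySmooth Y.functionField X.functionField)
    exact key _ _ hdom (LocallyOfFiniteType.stalkMap π _)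
  haveI : Smooth (π.smoothLocus.ι ≫ π) := by
    rw [← Scheme.Hom.smoothLocus_eq_top_iff, ← Scheme.Hom.preimage_smoothLocus_eq, eq_top_iff]
    exact fun w _ => w.2
  obtain ⟨U, hU, V', hV', hxV, e', hstd⟩ :=
    Smooth.exists_isStandardSmooth (π.smoothLocus.ι ≫ π) ⟨genericPoint X, hη⟩
  let V : X.Opens := π.smoothLocus.ι ''ᵁ V'
  have hV : IsAffineOpen V := hV'.image_of_isOpenImmersion π.smoothLocus.ι
  have hηV : genericPoint X ∈ V := ⟨⟨genericPoint X, hη⟩, hxV, rfl⟩
  have e : V ≤ π ⁻¹ᵁ U := by
    rintro _ ⟨w, hw, rfl⟩
    exact e' hw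
  have happ : (π.smoothLocus.ι ≫ π).appLE U V' e' = π.appLE U V e := by
    rw [Scheme.Hom.comp_appLE, Scheme.Opens.ι_appLE, Scheme.Hom.appLE]
    rfl
  rw [happ] at hstd
  algebraize [(π.appLE U V e).hom]
  haveI : Algebra.IsStandardSmooth Γ(Y, U) Γ(X, V) := hstd
  obtain ⟨ι', σ', _, _, ⟨P⟩⟩ := Algebra.IsStandardSmooth.out (R := Γ(Y, U)) (S := Γ(X, V))
  haveI hm : Algebra.IsStandardSmoothOfRelativeDimension P.dimension Γ(Y, U) Γ(X, V) :=
    ⟨ι', σ', _, inferInstance, P, rfl⟩
  haveI : Nonempty V := ⟨⟨genericPoint X, hηV⟩⟩
  haveI : IsFractionRing Γ(X, V) X.functionField := functionField_isFractionRing_of_isAffineOpen X V hV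
  have hnm : P.dimension = n := by
    have key : ∀ (y : Y) (hy : y ∈ U) (ψ : Y.presheaf.stalk y ⟶ X.functionField), y = genericPoint Y →
        (π.appLE U V e ≫ X.presheaf.germ V (genericPoint X) hηV = Y.presheaf.germ U y hy ≫ ψ) →
        @Algebra.trdeg (Y.presheaf.stalk y) X.functionField _ _ ψ.hom.toAlgebra = P.dimension := by
      rintro y hy ψ rfl hψ
      haveI : Nonempty U := ⟨⟨genericPoint Y, hy⟩⟩
      haveI : IsFractionRing Γ(Y, U) Y.functionField := functionField_isFractionRing_of_isAffineOpen Y U hU
      letI : Algebra Y.functionField X.functionField := ψ.hom.toAlgebra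
      letI : Algebra Γ(Y, U) X.functionField :=
        ((algebraMap Γ(X, V) X.functionField).comp (algebraMap Γ(Y, U) Γ(X, V))).toAlgebra
      haveI : IsScalarTower Γ(Y, U) Γ(X, V) X.functionField := IsScalarTower.of_algebraMap_eq fun _ => rfl
      haveI : IsScalarTower Γ(Y, U) Y.functionField X.functionField :=
        IsScalarTower.of_algebraMap_eq fun a => congrArg (fun f => f.hom a) hψ
      exact trdeg_of_standardSmooth P.dimension Γ(Y, U) Γ(X, V) Y.functionField X.functionField
    have h := key (π.base (genericPoint X)) (e hηV) (π.stalkMap (genericPoint X)) hdom (by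
      rw [Scheme.Hom.germ_stalkMap, Scheme.Hom.appLE, Category.assoc, TopCat.Presheaf.germ_res])
    rw [hn] at h
    exact_mod_cast h.symm
  refine ⟨V, ⟨_, hηV⟩, ⟨fun w => ⟨U, hU, ⊤, ?_, trivial, fun z _ => e z.2, ?_⟩⟩⟩
  · haveI : IsAffine V := hV
    exact isAffineOpen_top _
  · rw [Scheme.Hom.comp_appLE, Scheme.Opens.ι_appLE]
    have hres : (π.appLE U V e).hom.IsStandardSmoothOfRelativeDimension n := hnm ▸ hm
    have h2 := (RingHom.isStandardSmoothOfRelativeDimension_respectsIso (n := n)).1 _
      (X.presheaf.mapIso (eqToIso (Scheme.Opens.ι_image_top V)).op).commRingCatIsoToRingEquiv hres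
    have key : ∀ (i : V.ι ''ᵁ ⊤ ⟶ π ⁻¹ᵁ U), π.app U ≫ X.presheaf.map i.op =
        π.appLE U V e ≫ (X.presheaf.mapIso (eqToIso (Scheme.Opens.ι_image_top V)).op).hom := by
      intro i
      rw [Scheme.Hom.appLE, Category.assoc, Functor.mapIso_hom, ← X.presheaf.map_comp]
      rfl
    refine (congrArg (fun f => RingHom.IsStandardSmoothOfRelativeDimension n f.hom) (key _)).mpr ?_
    exact h2

end Groth.Agent.S14417
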