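import Groth.Statements.S14418
import Mathlib
import Groth.Prelude

set_option linter.all false

set_option autoImplicit false
universe u
open CategoryTheory
open CAlg

open CategoryTheory

namespace Groth.Agent.S14418

/-- Let B → A be a local homomorphism of Noetherian local rings, n the maximal ideal of B, and T an
additive functor from B-modules to A-modules which is B-linear (T applied to multiplication by b ∈ B
is multiplication by the image of b in A), carries finitely generated B-modules to finitely
generated A-modules, and is half-exact on finitely generated modules (every short exact sequence of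
finitely generated B-modules goes to a sequence exact at its middle term). If T(B/n) = 0 then T(N) =
0 for every finitely generated B-module N. (The published statement takes T defined on finitely
generated modules only; here T is defined on all B-modules while every hypothesis and the conclusion
concern finitely generated modules.) -/
theorem result {B A : Type u} [CommRing B] [CommRing A]
    [IsNoetherianRing B] [IsLocalRing B] [IsNoetherianRing A] [IsLocalRing A] [Algebra B A]
    [IsLocalHom (algebraMap B A)] (T : ModuleCat.{u} B ⥤ ModuleCat.{u} A) [T.Additive]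
    (hlin : ∀ (N : ModuleCat.{u} B) (b : B),
      T.map (ModuleCat.ofHom (b • (LinearMap.id : N →ₗ[B] N))) =
        ModuleCat.ofHom (algebraMap B A b • (LinearMap.id : T.obj N →ₗ[A] T.obj N)))
    (hfin : ∀ N : ModuleCat.{u} B, Module.Finite B N → Module.Finite A (T.obj N))
    (hex : ∀ S : ShortComplex (ModuleCat.{u} B), S.ShortExact → Module.Finite B S.X₁ →
      Module.Finite B S.X₂ → Module.Finite B S.X₃ → (S.map T).Exact)
    (h0 : Limits.IsZero (T.obj (ModuleCat.of B (B ⧸ IsLocalRing.maximalIdeal B))))
    (N : ModuleCat.{u} B) [Module.Finite B N] : Limits.IsZero (T.obj N) := by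
  classical
  set 𝔫 := IsLocalRing.maximalIdeal B
  suffices H : ∀ K : Submodule B N, Limits.IsZero (T.obj (ModuleCat.of B (N ⧸ K))) by
    exact (H ⊥).of_iso (T.mapIso ((Submodule.quotEquivOfEqBot (⊥ : Submodule B N) rfl).symm.toModuleIso))
  intro K
  induction K using WellFoundedGT.induction with
  | ind K ih =>
    set M := N ⧸ K
    rcases subsingleton_or_nontrivial M with hM | hM
    · exact Functor.map_isZero T (ModuleCat.isZero_of_subsingleton (ModuleCat.of B M))
    have hquot : ∀ L : Submodule B M, L ≠ ⊥ → Limits.IsZero (T.obj (ModuleCat.of B (M ⧸ L))) := by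
      intro L hL
      set L' := L.comap K.mkQ
      have hlt : K < L' := by
        refine lt_of_le_of_ne (fun x hx => ?_) fun he => hL ?_
        · show K.mkQ x ∈ L
          rw [Submodule.mkQ_apply, (Submodule.Quotient.mk_eq_zero K).2 hx]; exact L.zero_mem
        · rw [eq_bot_iff]
          intro y hy
          obtain ⟨x, rfl⟩ := K.mkQ_surjective y
          exact (Submodule.mem_bot B).2 ((Submodule.Quotient.mk_eq_zero K).2 (he ▸ (show x ∈ L' from hy)))
      refine (ih L' hlt).of_iso (T.mapIso ?_)
      have e := (Submodule.quotientQuotientEquivQuotient K L' hlt.le)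
      have hmap : L'.map K.mkQ = L := Submodule.map_comap_eq_of_surjective K.mkQ_surjective L
      exact ((Submodule.quotEquivOfEq _ _ hmap).symm.trans e).toModuleIso
    have glue : ∀ (X : Type u) [AddCommGroup X] [Module B X] [Module.Finite B X] (f : X →ₗ[B] M), Function.Injective f → f ≠ 0 →
        ∀ (η : T.obj (ModuleCat.of B M) ⟶ T.obj (ModuleCat.of B M)), True →
        Function.Surjective (T.map (ModuleCat.ofHom f)).hom := by
      intro X _ _ _ f hf hne η _
      let S : ShortComplex (ModuleCat.{u} B) := ShortComplex.mk (ModuleCat.ofHom f) (ModuleCat.ofHom (LinearMap.range f).mkQ)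
        (by ext x; exact (Submodule.Quotient.mk_eq_zero _).2 ⟨x, rfl⟩)
      have hS : S.ShortExact := by
        refine { exact := ?_, mono_f := ?_, epi_g := ?_ }
        · rw [ShortComplex.moduleCat_exact_iff_range_eq_ker]
          exact (Submodule.ker_mkQ _).symm
        · exact (ModuleCat.mono_iff_injective _).2 hf
        · exact (ModuleCat.epi_iff_surjective _).2 (Submodule.mkQ_surjective _)
      have hex' := hex S hS (inferInstanceAs (Module.Finite B X)) (inferInstanceAs (Module.Finite B M)) (inferInstanceAs (Module.Finite B (M ⧸ LinearMap.range f)))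
      have hz : Limits.IsZero (T.obj (ModuleCat.of B (M ⧸ LinearMap.range f))) :=
        hquot _ (fun h => hne (LinearMap.range_eq_bot.1 h))
      rw [ShortComplex.moduleCat_exact_iff] at hex'
      intro y
      exact hex' y (congrArg (fun φ => (ModuleCat.Hom.hom φ) y) (hz.eq_of_tgt (S.map T).g 0))
    by_cases hsoc : ∃ y : M, y ≠ 0 ∧ ∀ b ∈ 𝔫, b • y = 0
    · obtain ⟨y, hy, hy'⟩ := hsoc
      have hle : 𝔫 ≤ LinearMap.ker (LinearMap.toSpanSingleton B M y) := fun b hb => hy' b hb
      let f : (B ⧸ 𝔫) →ₗ[B] M := Submodule.liftQ 𝔫 (LinearMap.toSpanSingleton B M y) hle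
      have hf : Function.Injective f := by
        have hker : LinearMap.ker (LinearMap.toSpanSingleton B M y) = 𝔫 := by
          refine ((IsLocalRing.maximalIdeal.isMaximal B).eq_of_le (fun h => hy ?_) hle).symm
          simpa using (show (1 : B) ∈ LinearMap.ker (LinearMap.toSpanSingleton B M y) from h ▸ trivial)
        rw [← LinearMap.ker_eq_bot]
        exact Submodule.ker_liftQ_eq_bot _ _ _ hker.le
      have hne : f ≠ 0 := fun h => hy (by
        have h1 := LinearMap.congr_fun h (Submodule.Quotient.mk (1 : B))
        change (1 : B) • y = 0 at h1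
        rwa [one_smul] at h1)
      have hs := glue (B ⧸ 𝔫) f hf hne (𝟙 _) trivial
      haveI := ModuleCat.subsingleton_of_isZero h0
      have : Subsingleton (T.obj (ModuleCat.of B M)) := ⟨fun a b => by
        obtain ⟨a', rfl⟩ := hs a; obtain ⟨b', rfl⟩ := hs b; rw [Subsingleton.elim a' b']⟩
      exact ModuleCat.isZero_of_subsingleton _
    · push Not at hsoc
      obtain ⟨b, hb, hbreg⟩ : ∃ b ∈ 𝔫, IsSMulRegular M b := by
        by_contra hcon
        push Not at hcon
        have hsub : (𝔫 : Set B) ⊆ ⋃ p ∈ associatedPrimes B M, (p : Set B) := by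
          rw [biUnion_associatedPrimes_eq_compl_regular]
          exact fun b hb => hcon b hb
        have hfin := associatedPrimes.finite B M
        have hsub' : (𝔫 : Set B) ⊆ ⋃ p ∈ (↑hfin.toFinset : Set (Ideal B)), (p : Set B) := by simpa using hsub
        obtain ⟨p, hp, hle⟩ := (Ideal.subset_union_prime (R := B) (f := id) ⊥ ⊥ (fun p hp _ _ => (hfin.mem_toFinset.1 hp).isPrime)).1 hsub'
        rw [hfin.mem_toFinset] at hp
        obtain ⟨y, hy⟩ := ((isAssociatedPrime_iff_exists_injective_linearMap p M).1 hp).2
        have hne : y (Submodule.Quotient.mk 1) ≠ 0 := fun h => hp.isPrime.ne_top (by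
          rw [Ideal.eq_top_iff_one]
          exact (Submodule.Quotient.mk_eq_zero _).1 (hy (h.trans (map_zero y).symm)))
        obtain ⟨c, hc, hc'⟩ := hsoc _ hne
        apply hc'
        rw [← map_smul, ← Submodule.Quotient.mk_smul, smul_eq_mul, mul_one, (Submodule.Quotient.mk_eq_zero _).2 (hle hc), map_zero]
      have hne : (b • (LinearMap.id : M →ₗ[B] M)) ≠ 0 := fun h => by
        obtain ⟨z, hz⟩ := exists_ne (0 : M)
        exact hz (hbreg (by simpa using LinearMap.congr_fun h z))
      have hs := glue M (b • LinearMap.id) (fun x y h => hbreg h) hne (𝟙 _) trivial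
      rw [hlin (ModuleCat.of B M) b] at hs
      haveI : Module.Finite A (T.obj (ModuleCat.of B M)) := hfin _ (inferInstanceAs (Module.Finite B M))
      have hm : algebraMap B A b ∈ IsLocalRing.maximalIdeal A := map_nonunit (algebraMap B A) b hb
      have htop : (⊤ : Submodule A (T.obj (ModuleCat.of B M))) = ⊥ := by
        refine Submodule.eq_bot_of_le_smul_of_le_jacobson_bot (IsLocalRing.maximalIdeal A) _ Module.Finite.fg_top (fun z _ => ?_)
          (IsLocalRing.jacobson_eq_maximalIdeal ⊥ bot_ne_top).ge
        obtain ⟨w, rfl⟩ := hs z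
        exact Submodule.smul_mem_smul hm trivial
      haveI : Subsingleton (T.obj (ModuleCat.of B M)) := (Submodule.subsingleton_iff A).1 (subsingleton_of_bot_eq_top htop.symm)
      exact ModuleCat.isZero_of_subsingleton _

end Groth.Agent.S14418
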