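import Groth.Statements.S14421
import Mathlib.Algebra.Homology.ShortComplex.ExactFunctor
import Mathlib.CategoryTheory.Abelian.Refinements

set_option autoImplicit false
set_option backward.isDefEq.respectTransparency false
set_option backward.defeqAttrib.useBackward true
universe u v
open CategoryTheory
open HomAlg

namespace Groth.Agent.S14421

/-- Let φ : K → J be a morphism of cochain complexes of modules over a ring which is surjective in
degree p − 1. Then the map induced on cohomology in degree p is surjective if and only if the map
induced on cocycles in degree p is surjective. (Stated for cochain complexes indexed by the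
integers; the published statement is for three-term complexes in degrees p − 1, p, p + 1, which
embed as such complexes.) -/
theorem result {R : Type u} [Ring R]
    (K J : CochainComplex (ModuleCat.{v} R) ℤ) (φ : K ⟶ J) (p : ℤ) [Epi (φ.f (p - 1))] :
    Epi (HomologicalComplex.homologyMap φ p) ↔ Epi (HomologicalComplex.cyclesMap φ p) := by
  constructor
  · intro h
    rw [epi_iff_surjective_up_to_refinements]
    intro A z
    haveI : Epi (K.homologyπ p ≫ HomologicalComplex.homologyMap φ p) := epi_comp _ _
    obtain ⟨A', π, hπ, w, hw⟩ :=
      surjective_up_to_refinements_of_epi (K.homologyπ p ≫ HomologicalComplex.homologyMap φ p) (z ≫ J.homologyπ p)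
    rw [HomologicalComplex.homologyπ_naturality] at hw
    have hprev : (ComplexShape.up ℤ).prev p = p - 1 := by simp
    have hex : (ShortComplex.mk (J.toCycles (p - 1) p) (J.homologyπ p) (by simp)).Exact :=
      ShortComplex.exact_of_g_is_cokernel _ (J.homologyIsCokernel (p - 1) p hprev)
    obtain ⟨A'', π', hπ', t, ht⟩ := hex.exact_up_to_refinements
      (π ≫ z - w ≫ HomologicalComplex.cyclesMap φ p) (by simp [sub_eq_zero, hw])
    obtain ⟨A₃, π'', hπ'', s, hs⟩ := surjective_up_to_refinements_of_epi (φ.f (p - 1)) t
    refine ⟨A₃, π'' ≫ π' ≫ π, inferInstance, π'' ≫ π' ≫ w + s ≫ K.toCycles (p - 1) p, ?_⟩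
    have h1 : K.toCycles (p - 1) p ≫ HomologicalComplex.cyclesMap φ p = φ.f (p - 1) ≫ J.toCycles (p - 1) p := by
      rw [← cancel_mono (J.iCycles p), Category.assoc, HomologicalComplex.cyclesMap_i]
      simp
    dsimp at ht
    rw [Preadditive.add_comp, Category.assoc s, h1, ← Category.assoc s, ← hs, Category.assoc π'' t, ← ht]
    simp [Category.assoc]
  · intro h
    haveI : Epi (K.homologyπ p ≫ HomologicalComplex.homologyMap φ p) := by
      rw [HomologicalComplex.homologyπ_naturality]; exact epi_comp _ _
    exact epi_of_epi (K.homologyπ p) _


end Groth.Agent.S14421
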