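import Groth.Statements.S14423
import Mathlib
import Groth.Prelude
import Groth.Agent.CAlgH3.TorBridge

set_option linter.all false

set_option autoImplicit false
universe u
open CategoryTheory
open CAlg

open CategoryTheory

namespace Groth.Agent.S14423

section
variable {k : Type u} [Field k] {n : ℕ} {M : Type u} [AddCommGroup M] [Module (MvPolynomial (Fin (n + 1)) k) M]
  (ℳ : ℕ → AddSubgroup M) [SetLike.GradedSMul (MvPolynomial.homogeneousSubmodule (Fin (n + 1)) k) ℳ] [DirectSum.Decomposition ℳ]

local notation "P" => MvPolynomial (Fin (n + 1)) k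

theorem decompose_sum0 {ι : Type*} (s : Finset ι) (f : ι → M) (e : ℕ) :
    (DirectSum.decompose ℳ (∑ i ∈ s, f i) e : M) = ∑ i ∈ s, (DirectSum.decompose ℳ (f i) e : M) := by
  classical
  induction s using Finset.induction_on with
  | empty => simp
  | insert a s ha ih => rw [Finset.sum_insert ha, Finset.sum_insert ha, DirectSum.decompose_add, DirectSum.add_apply, AddMemClass.coe_add, ih]

theorem comp_smul_self {d : ℕ} {g : M} (hg : g ∈ ℳ d) (r : P) :
    (DirectSum.decompose ℳ (r • g) d : M) = (MvPolynomial.C (MvPolynomial.constantCoeff r) : P) • g := by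
  classical
  conv_lhs => rw [← MvPolynomial.sum_homogeneousComponent r, Finset.sum_smul, decompose_sum0]
  have hmem : ∀ i, MvPolynomial.homogeneousComponent i r • g ∈ ℳ (i + d) := fun i =>
    SetLike.GradedSMul.smul_mem (MvPolynomial.homogeneousComponent_mem i r) hg
  rw [Finset.sum_eq_single 0 (fun i _ hi => DirectSum.decompose_of_mem_ne ℳ (hmem i) (by omega))
    (fun h => absurd (Finset.mem_range.2 (Nat.succ_pos _)) h)]
  have h0 := hmem 0
  rw [Nat.zero_add] at h0
  rw [DirectSum.decompose_of_mem_same ℳ h0, MvPolynomial.homogeneousComponent_zero]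
  rfl

theorem comp_smul_mem {d e : ℕ} {g : M} (hg : g ∈ ℳ d) (r : P) :
    ∃ r' : P, (DirectSum.decompose ℳ (r • g) e : M) = r' • g := by
  classical
  conv => enter [1, r']; rw [← MvPolynomial.sum_homogeneousComponent r, Finset.sum_smul, decompose_sum0]
  have hmem : ∀ i, MvPolynomial.homogeneousComponent i r • g ∈ ℳ (i + d) := fun i =>
    SetLike.GradedSMul.smul_mem (MvPolynomial.homogeneousComponent_mem i r) hg
  refine ⟨∑ i ∈ Finset.range (r.totalDegree + 1), if i + d = e then MvPolynomial.homogeneousComponent i r else 0, ?_⟩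
  rw [Finset.sum_smul]
  refine Finset.sum_congr rfl fun i _ => ?_
  by_cases h : i + d = e
  · subst h; rw [if_pos rfl, DirectSum.decompose_of_mem_same ℳ (hmem i)]
  · rw [if_neg h, zero_smul, DirectSum.decompose_of_mem_ne ℳ (hmem i) h]
end

/-- Graded freeness criterion: let k be a field, S = k[x_0, …, x_n] with its standard grading by degree,
and M a finitely generated graded S-module. If Tor_1^S(M, k) = 0, where k = S/S_+ (S modulo the
ideal of polynomials with zero constant term) and Tor_1^S(M, ·) is the first left derived functor of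
M ⊗_S ·, then M is free with a basis of homogeneous elements, i.e. M is isomorphic as a graded
module to a finite direct sum of shifted copies S(−d_i). (Here the module is graded in non-negative
degrees; the published statement allows any integer degrees.) -/
theorem result (k : Type u) [Field k] (n : ℕ)
    (M : Type u) [AddCommGroup M] [Module (MvPolynomial (Fin (n + 1)) k) M]
    [Module.Finite (MvPolynomial (Fin (n + 1)) k) M]
    (ℳ : ℕ → AddSubgroup M)
    [SetLike.GradedSMul (MvPolynomial.homogeneousSubmodule (Fin (n + 1)) k) ℳ]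
    [DirectSum.Decomposition ℳ]
    (h : Limits.IsZero (((Tor (ModuleCat.{u} (MvPolynomial (Fin (n + 1)) k)) 1).obj
      (ModuleCat.of (MvPolynomial (Fin (n + 1)) k) M)).obj
      (ModuleCat.of (MvPolynomial (Fin (n + 1)) k)
        (MvPolynomial (Fin (n + 1)) k ⧸
          RingHom.ker (MvPolynomial.constantCoeff : MvPolynomial (Fin (n + 1)) k →+* k))))) :
    ∃ (ι : Type u) (b : Module.Basis ι (MvPolynomial (Fin (n + 1)) k) M),
      ∀ i, SetLike.IsHomogeneousElem ℳ (b i) := by
  classical
  let R := MvPolynomial (Fin (n + 1)) k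
  let m : Ideal R := RingHom.ker (MvPolynomial.constantCoeff : R →+* k)
  have hTV := (Groth.Agent.CAlgH3.isZero_tor_one_iff M (R ⧸ m)).1 h
  have hex : ∃ N, ∃ g : Fin N → M, (∀ i, ∃ d, g i ∈ ℳ d) ∧ Submodule.span R (Set.range g) = ⊤ := by
    obtain ⟨s, hs⟩ := Module.Finite.fg_top (R := R) (M := M)
    let t : Finset M := s.biUnion fun m => (DirectSum.decompose ℳ m).support.image fun i => (DirectSum.decompose ℳ m i : M)
    refine ⟨t.card, fun i => t.equivFin.symm i, fun i => ?_, ?_⟩
    · obtain ⟨m, -, hm⟩ := Finset.mem_biUnion.1 (t.equivFin.symm i).2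
      obtain ⟨d, -, hd⟩ := Finset.mem_image.1 hm
      exact ⟨d, show ((t.equivFin.symm i : M)) ∈ ℳ d by rw [← hd]; exact SetLike.coe_mem _⟩
    · rw [eq_top_iff, ← hs, Submodule.span_le]
      intro m hm
      rw [← DirectSum.sum_support_decompose ℳ m]
      refine Submodule.sum_mem _ fun i hi => Submodule.subset_span ⟨t.equivFin ⟨_, Finset.mem_biUnion.2 ⟨m, hm, Finset.mem_image.2 ⟨i, hi, rfl⟩⟩⟩, ?_⟩
      simp
  let N := Nat.find hex
  obtain ⟨g, hdeg, hspan⟩ := Nat.find_spec hex
  choose d hd using hdeg
  let φ : (Fin N → R) →ₗ[R] M := Fintype.linearCombination R g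
  have hφ : Function.Surjective φ := LinearMap.range_eq_top.1 (by rw [Fintype.range_linearCombination, hspan])
  have hK : ∀ z, φ z = 0 → ∀ j, z j ∈ m := by
    intro z hz j
    by_contra hne
    have hu : IsUnit (MvPolynomial.C (MvPolynomial.constantCoeff (z j)) : R) :=
      (isUnit_iff_ne_zero.2 hne).map _
    obtain ⟨u, hu⟩ := hu
    choose r hr using fun i => comp_smul_mem (k := k) (n := n) ℳ (e := d j) (hd i) (z i)
    have hsum : (MvPolynomial.C (MvPolynomial.constantCoeff (z j)) : R) • g j + ∑ i ∈ Finset.univ.erase j, r i • g i = 0 := by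
      have h0 := congrArg (fun x => (DirectSum.decompose ℳ x (d j) : M)) hz
      simp only [φ, Fintype.linearCombination_apply, decompose_sum0, DirectSum.decompose_zero, DirectSum.zero_apply,
        ZeroMemClass.coe_zero] at h0
      rw [← Finset.add_sum_erase _ _ (Finset.mem_univ j), comp_smul_self ℳ (hd j)] at h0
      rw [← h0]
      congr 1
      exact Finset.sum_congr rfl fun i _ => (hr i).symm
    obtain ⟨p, hp⟩ : ∃ p, N = p + 1 := ⟨N - 1, by have := j.2; omega⟩
    let j' : Fin (p + 1) := Fin.cast hp j
    let g' : Fin p → M := fun i => g (Fin.cast hp.symm (j'.succAbove i))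
    have hothers : ∀ i, i ≠ j → g i ∈ Submodule.span R (Set.range g') := fun i hi => by
      obtain ⟨l, hl⟩ := Fin.exists_succAbove_eq (show Fin.cast hp i ≠ j' from fun h => hi (Fin.ext (by simpa [j'] using congrArg Fin.val h)))
      exact Submodule.subset_span ⟨l, by simp [g', hl]⟩
    have hgj : g j ∈ Submodule.span R (Set.range g') := by
      rw [← one_smul R (g j), ← Units.inv_mul u, mul_smul, hu, eq_neg_of_add_eq_zero_left hsum]
      exact Submodule.smul_mem _ _ (Submodule.neg_mem _ (Submodule.sum_mem _ fun i hi =>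
        Submodule.smul_mem _ _ (hothers i (Finset.ne_of_mem_erase hi))))
    refine Nat.find_min hex (show p < Nat.find hex by omega) ⟨g', fun i => ⟨_, hd _⟩, ?_⟩
    rw [eq_top_iff, ← hspan, Submodule.span_le]
    rintro _ ⟨i, rfl⟩
    by_cases hi : i = j
    · exact hi ▸ hgj
    · exact hothers i hi
  let K := LinearMap.ker φ
  have hinj : Function.Injective (K.subtype.rTensor (R ⧸ m)) :=
    hTV K.subtype φ (LinearMap.exact_subtype_ker_map φ) hφ Subtype.val_injective
  have hKm : ∀ z : K, z ∈ (m • ⊤ : Submodule R K) := by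
    intro z
    have h0 : (K.subtype.rTensor (R ⧸ m)) (z ⊗ₜ[R] (Ideal.Quotient.mk m 1)) = 0 := by
      rw [LinearMap.rTensor_tmul, Submodule.subtype_apply, ← Finset.univ_sum_single (z : Fin N → R), TensorProduct.sum_tmul]
      refine Finset.sum_eq_zero fun i _ => ?_
      rw [show Pi.single (M := fun _ : Fin N => R) i ((z : Fin N → R) i) = (z : Fin N → R) i • Pi.single (M := fun _ : Fin N => R) i (1 : R) by
        rw [← Pi.single_smul, smul_eq_mul, mul_one], TensorProduct.smul_tmul, Algebra.smul_def, Ideal.Quotient.algebraMap_eq, ← map_mul,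
        Ideal.Quotient.eq_zero_iff_mem.2 (m.mul_mem_right _ (hK _ z.2 i)), TensorProduct.tmul_zero]
    have h1 := hinj (h0.trans (map_zero _).symm)
    have h2 := congrArg (TensorProduct.tensorQuotEquivQuotSMul (M := K) m) h1
    rw [map_zero, TensorProduct.tensorQuotEquivQuotSMul_tmul_mk, one_smul, Submodule.Quotient.mk_eq_zero] at h2
    exact h2
  have hpow : ∀ (e : ℕ) (z : K), (z : Fin N → R) ∈ (m ^ e • ⊤ : Submodule R (Fin N → R)) := by
    intro e
    induction e with
    | zero => intro z; rw [pow_zero, Ideal.one_eq_top, Submodule.top_smul]; trivial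
    | succ e ih =>
      intro z
      refine Submodule.smul_induction_on (hKm z) (fun a ha y _ => ?_) (fun a b ha hb => ?_)
      · rw [pow_succ', Submodule.mul_smul, Submodule.coe_smul]
        exact Submodule.smul_mem_smul ha (ih y)
      · rw [Submodule.coe_add]; exact add_mem ha hb
  have hker : ∀ z, φ z = 0 → z = 0 := fun z hz => by
    funext i
    have hbot : (⨅ e : ℕ, m ^ e) = ⊥ := Ideal.iInf_pow_eq_bot_of_isDomain m (RingHom.ker_ne_top _)
    have : z i ∈ ⨅ e : ℕ, m ^ e := by
      rw [Submodule.mem_iInf]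
      intro e
      have key : ∀ w ∈ (m ^ e • ⊤ : Submodule R (Fin N → R)), w i ∈ m ^ e := fun w hw =>
        Submodule.smul_induction_on hw (fun a ha y _ => (m ^ e).mul_mem_right _ ha) (fun a b ha hb => add_mem ha hb)
      exact key z (hpow e ⟨z, hz⟩)
    rw [hbot] at this
    exact this
  let E : (Fin N → R) ≃ₗ[R] M := LinearEquiv.ofBijective φ ⟨(injective_iff_map_eq_zero φ).2 hker, hφ⟩
  refine ⟨ULift.{u} (Fin N), ((Pi.basisFun R (Fin N)).map E).reindex Equiv.ulift.symm, fun i => ⟨d i.down, ?_⟩⟩
  rw [Module.Basis.reindex_apply, Module.Basis.map_apply, Pi.basisFun_apply]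
  show φ (Pi.single i.down 1) ∈ _
  rw [Fintype.linearCombination_apply_single, one_smul]
  exact hd _

end Groth.Agent.S14423
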