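import Groth.Statements.S14426
import Groth.Agent.Misc15.KoszulDepth
-- import your own Groth.Agent.* helpers here

set_option autoImplicit false
universe u
open Koszul3

open Groth.Agent
namespace Groth.Agent.S14426

open CategoryTheory CategoryTheory.Limits in
/-- Let (R, m) be a Noetherian local ring, M a nonzero finitely generated R-module and x_1, …, x_n
elements of m generating the ideal a. Then depth(a, M) ≤ n; the Koszul cohomology H^p(x; M) vanishes
for every p < depth(a, M); and H^r(x; M) is nonzero for r = depth(a, M). (Cohomological indexing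
with H^n(x; M) = M/(x)M; in homological indexing this reads H_i = 0 for i > n − r and H_{n−r} ≠ 0.
Koszul complex realised by iterated mapping cones, as in the prelude.) -/
theorem result {R : Type u} [CommRing R] [IsNoetherianRing R] [IsLocalRing R]
    (M : Type u) [AddCommGroup M] [Module R M] [Module.Finite R M] [Nontrivial M]
    (xs : List R) (hxs : ∀ x ∈ xs, x ∈ IsLocalRing.maximalIdeal R) :
    LocCoh.idealDepth (Ideal.span {x | x ∈ xs}) M ≤ xs.length ∧
      (∀ p : ℕ, (p : ℕ∞) < LocCoh.idealDepth (Ideal.span {x | x ∈ xs}) M → IsZero (CohIII.koszulH xs (ModuleCat.of R M) p)) ∧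
      (∀ r : ℕ, LocCoh.idealDepth (Ideal.span {x | x ∈ xs}) M = r → ¬ IsZero (CohIII.koszulH xs (ModuleCat.of R M) r)) := by
  classical
  have hle : Ideal.span {x | x ∈ xs} ≤ IsLocalRing.maximalIdeal R := Ideal.span_le.2 hxs
  have hne : Ideal.span {x | x ∈ xs} • (⊤ : Submodule R M) ≠ ⊤ := fun e => by
    have := Submodule.eq_bot_of_le_smul_of_le_jacobson_bot (Ideal.span {x | x ∈ xs}) (⊤ : Submodule R M)
      Module.Finite.fg_top e.ge (hle.trans (IsLocalRing.maximalIdeal_le_jacobson _))
    exact top_ne_bot this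
  have : Module.Finite R (ModuleCat.of R M) := inferInstanceAs (Module.Finite R M)
  have : Nontrivial (ModuleCat.of R M) := inferInstanceAs (Nontrivial M)
  have hbd : ∀ rs : List R, RingTheory.Sequence.IsWeaklyRegular M rs →
      (∀ r ∈ rs, r ∈ Ideal.span {x | x ∈ xs}) → rs.length ≤ xs.length := fun rs h hm => by
    by_contra hlt
    exact Misc15.Koszul.not_exAt_top xs hxs (ModuleCat.of R M)
      (Misc15.Koszul.exAt_of_regular xs rs (ModuleCat.of R M) h hm 0 (by omega))
  simp only [LocCoh.idealDepth, if_neg hne]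
  refine ⟨iSup₂_le fun rs h => by exact_mod_cast hbd rs h.1 h.2, fun p hp => ?_, fun r hr => ?_⟩
  · obtain ⟨rs, hrs⟩ := lt_iSup_iff.1 hp
    obtain ⟨h, hlt⟩ := lt_iSup_iff.1 hrs
    rw [Misc15.Koszul.isZero_koszulH_iff]
    have : p < rs.length := by exact_mod_cast hlt
    exact Misc15.Koszul.exAt_of_regular xs rs (ModuleCat.of R M) h.1 h.2 _ (by omega)
  · have hall : ∀ rs : List R, RingTheory.Sequence.IsWeaklyRegular M rs →
        (∀ a ∈ rs, a ∈ Ideal.span {x | x ∈ xs}) → rs.length ≤ r := fun rs h hm => by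
      have := le_iSup₂ (f := fun (rs : List R) (_ : RingTheory.Sequence.IsWeaklyRegular M rs ∧
        ∀ a ∈ rs, a ∈ Ideal.span {x | x ∈ xs}) => (rs.length : ℕ∞)) rs ⟨h, hm⟩
      rw [hr] at this
      exact_mod_cast this
    obtain ⟨rs, h, hm, hlen⟩ : ∃ rs : List R, RingTheory.Sequence.IsWeaklyRegular M rs ∧
        (∀ a ∈ rs, a ∈ Ideal.span {x | x ∈ xs}) ∧ rs.length = r := by
      by_contra hno
      rcases Nat.eq_zero_or_pos r with rfl | hpos
      · exact hno ⟨[], RingTheory.Sequence.IsWeaklyRegular.nil R M, fun a ha => absurd ha List.not_mem_nil, rfl⟩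
      · have : (r : ℕ∞) ≤ ((r - 1 : ℕ) : ℕ∞) := hr ▸ iSup₂_le fun rs h => by
          have h1 := hall rs h.1 h.2
          have h2 : rs.length ≠ r := fun e => hno ⟨rs, h.1, h.2, e⟩
          exact_mod_cast (show rs.length ≤ r - 1 by omega)
        have : r ≤ r - 1 := by exact_mod_cast this
        omega
    rw [Misc15.Koszul.isZero_koszulH_iff, ← hlen]
    exact Misc15.Koszul.not_exAt_of_maximal xs hxs rs (ModuleCat.of R M) h hm
      (fun rs' h' hm' => (hall rs' h' hm').trans hlen.ge)

end Groth.Agent.S14426
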