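import Groth.Statements.S14430
import Groth.Agent.ResLF28.Main
import Groth.Agent.S1108
import Groth.Agent.AmpleLib.Relative
import Groth.Agent.VarietyLib.SmoothStalk
import Groth.Agent.WeilProj8.Data
import Groth.Agent.Coherent.ProjSpaceCoh
import Groth.Agent.EulerLib.Additive

set_option autoImplicit false
universe u
open CategoryTheory CategoryTheory.Limits AlgebraicGeometry
open KZero

namespace Groth.Agent.S14430

/-- Let k be an algebraically closed field and X a smooth quasi-projective variety over k — here a
k-scheme smooth over k admitting an immersion into some P^N_k over k. Write K^0(X) for the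
Grothendieck group of finite locally free O_X-modules and K_0(X) for that of coherent O_X-modules
(K_0 of the corresponding full subcategories of O_X-modules, with relations from short exact
sequences all of whose terms lie in the subcategory). Then there is a homomorphism K^0(X) → K_0(X)
sending the class of each finite locally free E to its class as a coherent module (the canonical
one, determined by this), and it is bijective. (The published statement is for smooth
quasi-projective varieties; this row takes a k-scheme smooth over k with an immersion into some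
P^N_k, reduced since smooth; irreducibility is not assumed.) -/
theorem result (k : Type u) [Field k] [IsAlgClosed k] (N : ℕ)
    (X : Scheme.{u}) [X.Over (Spec (CommRingCat.of k))] [Smooth (X ↘ Spec (CommRingCat.of k))]
    (ι : X ⟶ CohB1.ProjSpace N k) [IsImmersion ι] (hι : ι ≫ CohB1.ProjSpace.toSpec N k = X ↘ Spec (CommRingCat.of k)) :
    ∃ α : KZero.K0sub (fun M : X.Modules => FlatMod.IsFinLocFree M) →+ KZero.K0sub (fun M : X.Modules => Coh.IsCoh M),
      (∀ E : X.Modules, FlatMod.IsFinLocFree E →
        α (KZero.clSub (fun M : X.Modules => FlatMod.IsFinLocFree M) E) = KZero.clSub (fun M : X.Modules => Coh.IsCoh M) E) ∧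
      Function.Bijective α := by
  haveI : IsProper ((CohB1.ProjSpace N k) ↘ Spec (CommRingCat.of k)) :=
    Groth.Agent.Coherent.isProper_projSpace_toSpec N k
  haveI : AlgebraicGeometry.IsNoetherian (CohB1.ProjSpace N k) :=
    Groth.Agent.EulerLib.isNoetherian_of_proper (X := CohB1.ProjSpace N k) k
  haveI : IsLocallyNoetherian X := LocallyOfFiniteType.isLocallyNoetherian ι
  haveI : TopologicalSpace.NoetherianSpace X :=
    ι.isEmbedding.isInducing.noetherianSpace
  haveI : CompactSpace X := TopologicalSpace.NoetherianSpace.compactSpace _
  have hreg := Groth.Agent.VarietyLib.isRegularLocalRing_stalk_of_smooth k X (X ↘ Spec (CommRingCat.of k))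
  have hamp := Groth.Agent.AmpleLib.isAmple_pullback_of_isEmbedding ι ι.isEmbedding
    (Groth.Agent.WeilProj8.isAmple_twist_projSpace N k)
  have hX : KRR.HasEnoughLocFree X := fun F hF =>
    Groth.Agent.S1108.result X _ hamp F hF.1 hF.2
  have h : ∀ M : X.Modules, FlatMod.IsFinLocFree M → Coh.IsCoh ((𝟭 X.Modules).obj M) :=
    fun M hM => Groth.Agent.Coherent.CohBC.isCoh_of_isFinLocFree hM
  exact ⟨SGA6.mapSub (𝟭 X.Modules) _ _ h,
    fun E hE => Groth.Agent.ResLF28.mapSub_clSub _ _ h hE,
    Groth.Agent.ResLF28.bijective_of_eq hX _ (Groth.Agent.ResLF28.isCoh_eq_cohBdd hreg hX) h⟩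

end Groth.Agent.S14430
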