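import Groth.Statements.S14431
import Groth.Agent.GenSmoothLib.BertiniBPF
import Groth.Agent.ZeroSchLib.Basic
import Mathlib

set_option autoImplicit false
universe u
open CategoryTheory CategoryTheory.Limits AlgebraicGeometry
open Variety
set_option backward.isDefEq.respectTransparency.types false

namespace Groth.Agent.S14431

open scoped KaehlerDifferential
open Groth.Agent.Coherent Groth.Agent.PicLib Groth.Agent


/-- Let k be an algebraically closed field of characteristic zero, X an integral k-scheme of finite type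
which is smooth over k, L an invertible O_X-module and s_0, …, s_m global sections of L (morphisms
O_X → L) generating L, i.e. their zero schemes have empty intersection (the sum of their zero ideal
sheaves is the unit ideal). Then the members of the linear system spanned by the s_i corresponding
to a nonempty Zariski-open set of parameters are smooth: there is a nonzero polynomial p in m + 1
variables over k such that for every c ∈ k^{m+1} with p(c) ≠ 0 the zero scheme of the section Σ c_i
s_i is smooth over k (equivalently, the corresponding divisor is reduced with smooth support). (The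
published statement is for varieties, which are separated; this row does not assume X separated.) -/
theorem result (k : Type u) [Field k] [IsAlgClosed k] [CharZero k]
    (X : Scheme.{u}) [X.Over (Spec (CommRingCat.of k))] [IsIntegral X]
    [Smooth (X ↘ Spec (CommRingCat.of k))] [QuasiCompact (X ↘ Spec (CommRingCat.of k))]
    (L : X.Modules) (hL : FlatMod.IsFinLocFreeOfRank 1 L) (m : ℕ)
    (s : Fin (m + 1) → (Coh.structureModule X ⟶ L))
    (hgen : ⨆ i : Fin (m + 1), PicF2.zeroScheme L (s i) = ⊤) :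
    ∃ p : MvPolynomial (Fin (m + 1)) k, p ≠ 0 ∧ ∀ c : Fin (m + 1) → k, MvPolynomial.eval c p ≠ 0 →
      Smooth ((PicF2.zeroScheme L (∑ i : Fin (m + 1), Formal.smulMod k (Coh.structureModule X) (c i) ≫ s i)).subschemeι ≫
        (X ↘ Spec (CommRingCat.of k))) := by
  classical
  let str := X ↘ Spec (CommRingCat.of k)
  have hinv : PicF.IsInvertible L := fun y => by
    obtain ⟨U, hy, ⟨e⟩⟩ := hL y
    exact ⟨U, hy, ⟨e ≪≫ coproductUniqueIso _⟩⟩
  have hch : ∀ y : X, ∃ U : X.affineOpens, y ∈ U.1 ∧ ∃ e : Γ(L, U.1), IsGen L U.1 e := by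
    intro y
    obtain ⟨W, hy, e, he⟩ := exists_isGen hinv y
    obtain ⟨_, ⟨U, hU, rfl⟩, hyU, hUW⟩ :=
      X.isBasis_affineOpens.exists_subset_of_mem_open hy W.isOpen
    exact ⟨⟨U, hU⟩, hyU, resM L hUW e, he.restrict hUW⟩
  choose U hyU e he using hch
  have : CompactSpace X := QuasiCompact.compactSpace_of_compactSpace str
  obtain ⟨t, ht⟩ := isCompact_univ.elim_finite_subcover (fun y => ((U y).1 : Set X))
    (fun y => (U y).1.isOpen) fun y _ => Set.mem_iUnion.2 ⟨y, hyU y⟩
  let κ : k →+* Γ(X, ⊤) := Coh.toGlobal str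
  let σ : (Fin (m + 1) → k) → (Coh.structureModule X ⟶ L) := fun c =>
    ∑ i : Fin (m + 1), Formal.smulMod k (Coh.structureModule X) (c i) ≫ s i
  have hval : ∀ (c : Fin (m + 1) → k) (V : X.Opens), unitVal (σ c) V =
      ∑ i, PicLib.res (le_top : V ≤ ⊤) (κ (c i)) • unitVal (s i) V := by
    intro c V
    show (σ c).app V _ = _
    simp only [σ]
    rw [app_sum]
    refine Finset.sum_congr rfl fun i _ => ?_
    refine Eq.trans ?_ (app_unit (s i) (PicLib.res (le_top : V ≤ ⊤) (κ (c i))))
    show (s i).app V ((Formal.smulMod k (Coh.structureModule X) (c i)).app V (1 : Γ(X, V))) = _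
    congr 1
    exact mul_one (PicLib.res (le_top : V ≤ ⊤) (κ (c i)))
  have key : ∀ y : X, ∃ g : MvPolynomial (Fin (m + 1)) k, g ≠ 0 ∧ ∀ c : Fin (m + 1) → k,
      MvPolynomial.eval c g ≠ 0 →
        Smooth (((PicF2.zeroScheme L (σ c)).subschemeι ⁻¹ᵁ (U y).1).ι ≫
          (PicF2.zeroScheme L (σ c)).subschemeι ≫ str) := by
    intro y
    set V := U y
    let A := Γ(X, V.1)
    let alg : Algebra k A := ((PicLib.res (le_top : V.1 ≤ ⊤)).comp κ).toAlgebra
    have hstr : (Scheme.ΓSpecIso (CommRingCat.of k)).inv ≫ str.appLE ⊤ V.1 le_top =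
        CommRingCat.ofHom (algebraMap k A) := rfl
    have hsm : Algebra.Smooth k A := by
      rw [← RingHom.smooth_algebraMap]
      have h1 := HasRingHomProperty.appLE @Smooth str ‹_› ⟨⊤, isAffineOpen_top _⟩ V le_top
      have h2 := RingHom.Smooth.propertyIsLocal.respectsIso.2 (str.appLE ⊤ V.1 le_top).hom
        (Scheme.ΓSpecIso (CommRingCat.of k)).commRingCatIsoToRingEquiv.symm h1
      exact h2
    let v : Fin (m + 1) → A := fun i => (he y).coef le_rfl (unitVal (s i) V.1)
    have hspan : Ideal.span (Set.range v) = ⊤ := by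
      have h1 : (⨆ i, PicF2.zeroScheme L (s i)).ideal V = ⊤ := by rw [hgen]; rfl
      rw [Scheme.IdealSheafData.ideal_iSup, iSup_apply] at h1
      rw [← h1, Ideal.span, ← Set.iUnion_singleton_eq_range, Submodule.span_iUnion]
      exact iSup_congr fun i => (ZeroSchLib.zeroScheme_ideal_eq_span (s i) hinv V (he y)).symm
    obtain ⟨g, hg0, hg⟩ := GenSmoothLib.exists_poly_smooth_of_span_eq_top v (k := k) hspan
    refine ⟨g, hg0, fun c hc => ?_⟩
    have hsmq := hg c hc
    have hl : (PicF2.zeroScheme L (σ c)).ideal V =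
        Ideal.span {∑ i, algebraMap k A (c i) * v i} := by
      rw [ZeroSchLib.zeroScheme_ideal_eq_span (σ c) hinv V (he y)]
      congr 2
      refine (he y).coef_eq le_rfl ?_
      rw [hval, Finset.sum_smul]
      refine Finset.sum_congr rfl fun i _ => ?_
      rw [mul_smul, (he y).coef_spec]
      rfl
    rw [← hl] at hsmq
    set I := PicF2.zeroScheme L (σ c)
    have haff : IsAffineOpen (I.subschemeι ⁻¹ᵁ V.1) := V.2.preimage _
    have : IsAffine (I.subschemeι ⁻¹ᵁ V.1).toScheme := haff
    rw [← haff.isoSpec.hom_inv_id_assoc (((I.subschemeι ⁻¹ᵁ V.1).ι) ≫ I.subschemeι ≫ str),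
      MorphismProperty.cancel_left_of_respectsIso @Smooth, IsAffineOpen.isoSpec_inv_ι_assoc]
    have e2 : haff.fromSpec ≫ I.subschemeι ≫ str =
        Spec.map ((Scheme.ΓSpecIso (CommRingCat.of k)).inv ≫
          (I.subschemeι ≫ str).appLE ⊤ (I.subschemeι ⁻¹ᵁ V.1) le_top) := by
      rw [Spec.map_comp, ← IsAffineOpen.SpecMap_appLE_fromSpec (I.subschemeι ≫ str)
        (isAffineOpen_top _) haff le_top, IsAffineOpen.fromSpec_top, Scheme.isoSpec_Spec_inv]
    have e1 : (Scheme.ΓSpecIso (CommRingCat.of k)).inv ≫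
        (I.subschemeι ≫ str).appLE ⊤ (I.subschemeι ⁻¹ᵁ V.1) le_top =
        CommRingCat.ofHom ((I.subschemeObjIso V).commRingCatIsoToRingEquiv.symm.toRingHom.comp
          (algebraMap k (A ⧸ I.ideal V))) := by
      rw [← Scheme.Hom.appLE_comp_appLE I.subschemeι str ⊤ V.1 _ le_top le_rfl, ← Category.assoc,
        hstr, ← Scheme.Hom.app_eq_appLE, Scheme.IdealSheafData.subschemeι_app]
      rfl
    rw [e2, HasRingHomProperty.Spec_iff (P := @Smooth), e1]
    exact RingHom.Smooth.propertyIsLocal.respectsIso.1 _ _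
      (RingHom.smooth_algebraMap.2 hsmq)
  choose g hg0 hg using key
  refine ⟨∏ y ∈ t, g y, Finset.prod_ne_zero_iff.2 fun y _ => hg0 y, fun c hc => ?_⟩
  rw [map_prod, Finset.prod_ne_zero_iff] at hc
  set I := PicF2.zeroScheme L (σ c)
  let 𝒰 : I.subscheme.OpenCover := Scheme.openCoverOfIsOpenCover _
    (fun y : t => I.subschemeι ⁻¹ᵁ (U y.1).1) (by
      refine top_le_iff.1 fun x _ => ?_
      obtain ⟨y, hy, hxy⟩ := Set.mem_iUnion₂.1 (ht (Set.mem_univ (I.subschemeι x)))
      exact TopologicalSpace.Opens.mem_iSup.2 ⟨⟨y, hy⟩, hxy⟩)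
  exact IsZariskiLocalAtSource.of_openCover (P := @Smooth) 𝒰 fun y => hg y.1 c (hc y.1 y.2)


end Groth.Agent.S14431
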