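import Groth.Statements.S14434
import Mathlib
import Groth.Prelude
import Groth.Agent.EGA41Lib.TorPd

set_option linter.all false

set_option autoImplicit false
universe u
open CAlg

open CategoryTheory CategoryTheory.Limits
open scoped TensorProduct

set_option backward.isDefEq.respectTransparency.types false
namespace Groth.Agent.S14434

/-- Let R be a commutative ring, M an R-module and x ∈ R a non-zero-divisor on R and on M. Then
Tor_i^R(M, R/(x)) = 0 for all i ≥ 1 (Tor computed as the left derived functors of the tensor product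
on R-modules). -/
theorem result {R : Type u} [CommRing R] (M : Type u) [AddCommGroup M] [Module R M]
    (x : R) (hxR : IsSMulRegular R x) (hxM : IsSMulRegular M x) (i : ℕ) (hi : 1 ≤ i) :
    Subsingleton (DRing.Tor R i M (R ⧸ Ideal.span {x})) := by
  let f : R →ₗ[R] R := LinearMap.mulLeft R x
  let g : R →ₗ[R] (R ⧸ Ideal.span {x}) := (Ideal.span {x}).mkQ
  have hf : Function.Injective f := hxR
  have hg : Function.Surjective g := Submodule.mkQ_surjective _
  have hfg : Function.Exact f g := by
    intro y
    rw [Submodule.mkQ_apply, Submodule.Quotient.mk_eq_zero, Ideal.mem_span_singleton]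
    exact ⟨fun ⟨c, hc⟩ => ⟨c, hc.symm⟩, fun ⟨c, hc⟩ => ⟨c, hc.symm⟩⟩
  have hz : IsZero (((CategoryTheory.Tor (ModuleCat.{u} R) i).obj (ModuleCat.of R M)).obj (ModuleCat.of R (R ⧸ Ideal.span {x}))) := by
    rcases Nat.lt_or_ge 1 i with h | h
    · refine Groth.Agent.EGA41Lib.isZero_tor_of_pd (n := 1) M _ ?_ i h
      have hR : ∀ n, 1 ≤ n → Groth.Agent.CAlgH3.PD R n R := fun n hn =>
        Groth.Agent.CAlgH3.pd_mono hn (Groth.Agent.CAlgH3.pd_one_iff.2 inferInstance)
      exact (Groth.Agent.CAlgH3.pd_of_ses (n := 1) f g hf hg hfg).2.2 (hR 1 le_rfl) (hR 2 one_le_two)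
    · obtain rfl : i = 1 := le_antisymm h hi
      rw [Groth.Agent.CAlgH3.isZero_tor_one_iff]
      refine Groth.Agent.Tor15.torVanish_symm (Groth.Agent.FlatCrit.TorVanish.of_presentation f g hfg hg
        Groth.Agent.FlatCrit.torVanish_of_projective ?_)
      rw [injective_iff_map_eq_zero]
      intro z hz
      obtain ⟨m, rfl⟩ := (TensorProduct.lid R M).symm.surjective z
      have : x • m = 0 := by simpa [f] using congrArg (TensorProduct.lid R M) hz
      rw [hxM (this.trans (smul_zero x).symm), map_zero]
  exact ModuleCat.subsingleton_of_isZero hz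

end Groth.Agent.S14434
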