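import Groth.Statements.S14436
import Mathlib.Algebra.Algebra.Rat
import Mathlib.Algebra.MvPolynomial.Funext
import Mathlib.Algebra.Order.Ring.Star
import Mathlib.Algebra.Ring.IsFormallyReal
import Mathlib.Data.Rat.Star
import Mathlib.LinearAlgebra.Charpoly.Basic
import Mathlib.LinearAlgebra.FreeModule.PID
import Mathlib.RingTheory.AdicCompletion.AsTensorProduct
import Mathlib.RingTheory.AdicCompletion.Noetherian
import Mathlib.RingTheory.Adjoin.PowerBasis
import Mathlib.RingTheory.Etale.Field
import Mathlib.RingTheory.Flat.TorsionFree
import Mathlib.RingTheory.Henselian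
import Mathlib.RingTheory.Polynomial.GaussLemma
import Mathlib.RingTheory.PowerSeries.NoZeroDivisors
import Mathlib.RingTheory.RegularLocalRing.Defs
import Mathlib.RingTheory.SimpleRing.Principal
import Mathlib.Tactic

set_option linter.all false

set_option autoImplicit false
universe u
open CAlg

open scoped TensorProduct

namespace Groth.Agent.S14436

/-- Let L/K be a finitely generated field extension which is separable in the sense that it has a
transcendence basis a_1, …, a_n over which L is a (finite) separable extension of K(a_1, …, a_n).
Then dim_L Ω_{L/K} = n, the transcendence degree of L over K. -/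
theorem result (K L : Type u) [Field K] [Field L] [Algebra K L]
    (hfg : ∃ s : Finset L, IntermediateField.adjoin K (s : Set L) = ⊤)
    (n : ℕ) (a : Fin n → L) (ha : IsTranscendenceBasis K a)
    (hsep : Algebra.IsSeparable ↥(IntermediateField.adjoin K (Set.range a)) L) :
    Module.finrank L (Ω[L⁄K]) = n := by
  set P := MvPolynomial (Fin n) K
  set E := IntermediateField.adjoin K (Set.range a)
  let F := FractionRing P
  let e : F ≃ₐ[K] E := ha.1.aevalEquivField
  letI : Algebra F L := ((algebraMap E L).comp e.toRingEquiv.toRingHom).toAlgebra
  haveI : IsScalarTower K F L := IsScalarTower.of_algebraMap_eq fun k => by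
    show algebraMap K L k = algebraMap E L (e (algebraMap K F k))
    rw [e.commutes]; rfl
  haveI : Algebra.IsSeparable F L := Algebra.IsSeparable.of_equiv_equiv e.symm.toRingEquiv (RingEquiv.refl L)
    (by ext z; show algebraMap E L (e (e.symm z)) = algebraMap E L z; rw [e.apply_symm_apply])
  haveI : Algebra.FormallyEtale F L := Algebra.FormallyEtale.of_isSeparable F L
  letI : Algebra P L := ((algebraMap F L).comp (algebraMap P F)).toAlgebra
  haveI : IsScalarTower P F L := IsScalarTower.of_algebraMap_eq fun _ => rfl
  haveI : IsScalarTower K P L := IsScalarTower.of_algebraMap_eq fun k => by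
    show _ = algebraMap F L (algebraMap P F (algebraMap K P k))
    rw [← IsScalarTower.algebraMap_apply K P F, ← IsScalarTower.algebraMap_apply K F L]
  haveI : Algebra.FormallyEtale P F := Algebra.FormallyEtale.of_isLocalization (nonZeroDivisors P)
  haveI : Algebra.FormallyEtale P L := Algebra.FormallyEtale.comp P F L
  rw [← LinearEquiv.finrank_eq (KaehlerDifferential.tensorKaehlerEquivOfFormallyEtale K P L),
    Module.finrank_eq_card_basis ((KaehlerDifferential.mvPolynomialBasis K (Fin n)).baseChange L),
    Fintype.card_fin]

end Groth.Agent.S14436
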