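import Groth.Statements.S14437
import Mathlib.FieldTheory.Perfect
import Mathlib.RingTheory.Henselian
import Mathlib.RingTheory.Kaehler.Basic
import Mathlib.RingTheory.MvPolynomial.Ideal
import Mathlib.RingTheory.MvPolynomial.IrreducibleQuadratic
import Mathlib.RingTheory.RegularLocalRing.Defs
import Mathlib.RingTheory.SimpleRing.Principal
import Mathlib.Tactic

set_option linter.all false

set_option autoImplicit false
universe u
open CAlg

open scoped TensorProduct

namespace Groth.Agent.S14437

/-- Let k be a field and A → B a local homomorphism of Noetherian local k-algebras with residue fields k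
(k → A/m_A and k → B/m_B bijective) — for instance the local rings at a closed point x and at its
image y under a morphism of schemes of finite type over an algebraically closed k. Then dim_k
(Ω_{B/A} ⊗_B B/m_B) + rank(m_A/m_A² → m_B/m_B²) = dim_k (m_B/m_B²): the fibre at x of the sheaf of
relative differentials is dual to the kernel of the tangent map T_x X → T_y Y. (The published
statement is the canonical isomorphism (Ω_{X/Y})_(x)^∨ ≅ ker(df_x); stated here as the resulting
equality of dimensions. Its second assertion, dim (Ω_{X/Y})_(x) ≥ r when the fibre has an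
r-dimensional component through x, is not included.) -/
theorem result (k : Type u) [Field k]
    (A B : Type u) [CommRing A] [CommRing B] [IsLocalRing A] [IsLocalRing B] [IsNoetherianRing A] [IsNoetherianRing B]
    [Algebra k A] [Algebra k B] [Algebra A B] [IsScalarTower k A B]
    (hle : IsLocalRing.maximalIdeal A ≤ Ideal.comap (IsScalarTower.toAlgHom k A B) (IsLocalRing.maximalIdeal B))
    (hA : Function.Bijective (algebraMap k (IsLocalRing.ResidueField A)))
    (hB : Function.Bijective (algebraMap k (IsLocalRing.ResidueField B))) :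
    Module.finrank (IsLocalRing.ResidueField B) (TensorProduct B (IsLocalRing.ResidueField B) (Ω[B⁄A])) +
      Module.finrank k ↥(LinearMap.range (Ideal.mapCotangent (IsLocalRing.maximalIdeal A) (IsLocalRing.maximalIdeal B)
        (IsScalarTower.toAlgHom k A B) hle)) =
      Module.finrank k (IsLocalRing.CotangentSpace B) := by
  classical
  set κ := IsLocalRing.ResidueField B
  set m := IsLocalRing.maximalIdeal B
  set W₀ := LinearMap.range (Ideal.mapCotangent (IsLocalRing.maximalIdeal A) m (IsScalarTower.toAlgHom k A B) hle)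
  let εk : B → k := fun b => Function.surjInv hB.2 (IsLocalRing.residue B b)
  have hεk : ∀ b, b - algebraMap k B (εk b) ∈ m := fun b => by
    rw [← IsLocalRing.residue_eq_zero_iff, map_sub, sub_eq_zero]
    exact (Function.surjInv_eq hB.2 (IsLocalRing.residue B b)).symm
  -- the quotient of the cotangent space
  have hsmul : ∀ (b : B) (z : m.Cotangent), b • z = εk b • z := by
    intro b z
    have h : (b - algebraMap k B (εk b)) • z = 0 := Ideal.Cotangent.smul_eq_zero_of_mem (hεk b) z
    rwa [sub_smul, sub_eq_zero, algebraMap_smul] at h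
  let W : Submodule B m.Cotangent :=
    { carrier := W₀, add_mem' := W₀.add_mem, zero_mem' := W₀.zero_mem,
      smul_mem' := fun b z hz => by rw [hsmul]; exact W₀.smul_mem _ hz }
  let V := m.Cotangent ⧸ W
  let cl : m →ₗ[B] V := W.mkQ ∘ₗ m.toCotangent
  have hclA : ∀ a (ha : a ∈ IsLocalRing.maximalIdeal A), cl ⟨algebraMap A B a, hle ha⟩ = 0 := fun a ha =>
    (Submodule.Quotient.mk_eq_zero W).mpr ⟨(IsLocalRing.maximalIdeal A).toCotangent ⟨a, ha⟩,
      Ideal.mapCotangent_toCotangent (IsLocalRing.maximalIdeal A) m (IsScalarTower.toAlgHom k A B) hle ⟨a, ha⟩⟩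
  have hclsq : ∀ x : m, (x : B) ∈ m ^ 2 → cl x = 0 := fun x hx => by
    show W.mkQ (m.toCotangent x) = 0
    rw [(m.toCotangent_eq_zero x).mpr hx, map_zero]
  have hVsmul : ∀ (b : B) (z : V), b ∈ m → b • z = 0 := by
    intro b z hb
    obtain ⟨y, rfl⟩ := W.mkQ_surjective z
    rw [← map_smul, Ideal.Cotangent.smul_eq_zero_of_mem hb y, map_zero]
  let d₀ : B → V := fun b => cl ⟨b - algebraMap k B (εk b), hεk b⟩
  -- d₀ does not depend on the choice of the scalar
  have hd₀ : ∀ b c (hc : b - algebraMap k B c ∈ m), d₀ b = cl ⟨b - algebraMap k B c, hc⟩ := by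
    intro b c hc
    have : εk b = c := by
      apply (algebraMap k κ).injective
      rw [IsScalarTower.algebraMap_apply k B κ, IsScalarTower.algebraMap_apply k B κ]
      exact Ideal.Quotient.eq.mpr (by have h := sub_mem hc (hεk b); rwa [sub_sub_sub_cancel_left] at h)
    subst this; rfl
  have hd₀add : ∀ a b, d₀ (a + b) = d₀ a + d₀ b := fun a b => by
    rw [hd₀ (a + b) (εk a + εk b) (by rw [map_add]; convert add_mem (hεk a) (hεk b) using 1; ring)]
    show _ = cl _ + cl _
    rw [← map_add cl]
    congr 1; ext; simp [map_add]; ring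
  have hd₀mul : ∀ a b, d₀ (a * b) = a • d₀ b + b • d₀ a := fun a b => by
    have e : a * b - algebraMap k B (εk a * εk b) =
        a * (b - algebraMap k B (εk b)) + b * (a - algebraMap k B (εk a)) -
          (a - algebraMap k B (εk a)) * (b - algebraMap k B (εk b)) := by rw [map_mul]; ring
    have hm1 : a * b - algebraMap k B (εk a * εk b) ∈ m := e ▸ sub_mem (add_mem (m.mul_mem_left _ (hεk b)) (m.mul_mem_left _ (hεk a))) (m.mul_mem_left _ (hεk b))
    rw [hd₀ (a * b) _ hm1]
    have h2 : cl ⟨(a - algebraMap k B (εk a)) * (b - algebraMap k B (εk b)), m.mul_mem_left _ (hεk b)⟩ = 0 :=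
      hclsq _ (by rw [sq]; exact Ideal.mul_mem_mul (hεk a) (hεk b))
    show _ = a • cl _ + b • cl _
    rw [← map_smul, ← map_smul, ← map_add]
    conv_rhs => rw [← sub_zero (cl _), ← h2, ← map_sub]
    congr 1; ext; simpa using e
  have hd₀A : ∀ a : A, d₀ (algebraMap A B a) = 0 := fun a => by
    obtain ⟨c, hc⟩ := hA.2 (IsLocalRing.residue A a)
    have ha : a - algebraMap k A c ∈ IsLocalRing.maximalIdeal A := by
      rw [← IsLocalRing.residue_eq_zero_iff, map_sub, ← hc, sub_eq_zero]; rfl
    have hm : algebraMap A B a - algebraMap k B c ∈ m := by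
      have := hle ha
      simpa [Ideal.mem_comap, ← IsScalarTower.algebraMap_apply k A B] using this
    rw [hd₀ _ c hm, ← hclA _ ha]
    congr 1; ext; simp [← IsScalarTower.algebraMap_apply k A B]
  let d : Derivation A B V := Derivation.mk'
    { toFun := d₀
      map_add' := hd₀add
      map_smul' := fun a b => by
        rw [Algebra.smul_def, hd₀mul, hd₀A, smul_zero, add_zero, algebraMap_smul, RingHom.id_apply] }
    fun a b => hd₀mul a b
  let L : κ →ₗ[B] (Ω[B⁄A] →ₗ[B] V) :=
    Submodule.liftQ m (LinearMap.toSpanSingleton B (Ω[B⁄A] →ₗ[B] V) d.liftKaehlerDifferential) (fun b hb => by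
      rw [LinearMap.mem_ker, LinearMap.toSpanSingleton_apply]
      exact LinearMap.ext fun z => hVsmul b _ hb)
  let G : κ ⊗[B] Ω[B⁄A] →ₗ[B] V := TensorProduct.lift L
  have hG : ∀ b, G ((1 : κ) ⊗ₜ[B] KaehlerDifferential.D A B b) = d₀ b := fun b => by
    rw [TensorProduct.lift.tmul, show (1 : κ) = Submodule.Quotient.mk 1 from rfl]
    show ((1 : B) • d.liftKaehlerDifferential) _ = _
    rw [one_smul, Derivation.liftKaehlerDifferential_comp_D]
    rfl
  have hres : ∀ (b : B) (z : κ ⊗[B] Ω[B⁄A]), b ∈ m → b • z = 0 := fun b z hb => by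
    induction z using TensorProduct.induction_on with
    | zero => rw [smul_zero]
    | add x y hx hy => rw [smul_add, hx, hy, add_zero]
    | tmul c w =>
      rw [TensorProduct.smul_tmul', Algebra.smul_def, IsLocalRing.ResidueField.algebraMap_eq,
        (IsLocalRing.residue_eq_zero_iff b).mpr hb, zero_mul, TensorProduct.zero_tmul]
  let F₀ : m →ₗ[B] κ ⊗[B] Ω[B⁄A] :=
    { toFun := fun x => (1 : κ) ⊗ₜ[B] KaehlerDifferential.D A B x
      map_add' := fun x y => by rw [Submodule.coe_add, map_add, TensorProduct.tmul_add]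
      map_smul' := fun b x => by
        rw [RingHom.id_apply, SetLike.val_smul, smul_eq_mul, Derivation.leibniz, TensorProduct.tmul_add, TensorProduct.tmul_smul,
          TensorProduct.tmul_smul, hres _ _ x.2, add_zero] }
  let F₁ : m.Cotangent →ₗ[B] κ ⊗[B] Ω[B⁄A] := Ideal.Cotangent.lift F₀ fun x y => by
    show (1 : κ) ⊗ₜ[B] KaehlerDifferential.D A B ((x : B) * y) = 0
    rw [Derivation.leibniz, TensorProduct.tmul_add, TensorProduct.tmul_smul, TensorProduct.tmul_smul, hres _ _ x.2, hres _ _ y.2, add_zero]
  have hk0 : ∀ c : k, KaehlerDifferential.D A B (algebraMap k B c) = 0 := fun c => by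
    rw [IsScalarTower.algebraMap_apply k A B]; exact Derivation.map_algebraMap _ _
  let F : V →ₗ[B] κ ⊗[B] Ω[B⁄A] := Submodule.liftQ W F₁ (by
    rintro _ ⟨z, rfl⟩
    obtain ⟨⟨a, ha⟩, rfl⟩ := Ideal.toCotangent_surjective _ z
    rw [LinearMap.mem_ker, Ideal.mapCotangent_toCotangent, Ideal.Cotangent.lift_toCotangent]
    show (1 : κ) ⊗ₜ[B] KaehlerDifferential.D A B (algebraMap A B a) = 0
    rw [Derivation.map_algebraMap, TensorProduct.tmul_zero])
  have hFcl : ∀ x : m, F (cl x) = (1 : κ) ⊗ₜ[B] KaehlerDifferential.D A B (x : B) := fun x => by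
    show F₁ (m.toCotangent x) = _
    exact Ideal.Cotangent.lift_toCotangent _ _ x
  have hGF : ∀ z, G (F z) = z := by
    intro z
    obtain ⟨z, rfl⟩ := W.mkQ_surjective z
    obtain ⟨x, rfl⟩ := Ideal.toCotangent_surjective _ z
    show G (F (cl x)) = cl x
    rw [hFcl, hG, hd₀ _ 0 (by simp)]
    congr 1; ext; simp
  have hFsurj : Function.Surjective F := by
    rw [← LinearMap.range_eq_top, eq_top_iff]
    intro z h
    clear h
    induction z using TensorProduct.induction_on with
    | zero => exact zero_mem _
    | add x y hx hy => exact add_mem hx hy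
    | tmul c w =>
      obtain ⟨c, rfl⟩ := IsLocalRing.residue_surjective c
      have hw : w ∈ Submodule.span B (Set.range (KaehlerDifferential.D A B)) := KaehlerDifferential.span_range_derivation A B ▸ trivial
      rw [show IsLocalRing.residue B c = c • (1 : κ) from (Algebra.algebraMap_eq_smul_one c), ← TensorProduct.smul_tmul']
      refine Submodule.smul_mem _ _ ?_
      induction hw using Submodule.span_induction with
      | mem y hy =>
        obtain ⟨b, rfl⟩ := hy
        refine ⟨cl ⟨_, hεk b⟩, ?_⟩
        rw [hFcl, map_sub, hk0, sub_zero]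
      | zero => rw [TensorProduct.tmul_zero]; exact zero_mem _
      | add x y _ _ hx hy => rw [TensorProduct.tmul_add]; exact add_mem hx hy
      | smul a x _ hx => rw [TensorProduct.tmul_smul]; exact Submodule.smul_mem _ a hx
  let eF : V ≃ₗ[B] κ ⊗[B] Ω[B⁄A] := LinearEquiv.ofBijective F ⟨Function.LeftInverse.injective hGF, hFsurj⟩
  have h1 : Module.finrank k κ = 1 := by
    rw [← (LinearEquiv.ofBijective (Algebra.linearMap k κ) hB).finrank_eq, Module.finrank_self]
  have h2 : Module.finrank κ (κ ⊗[B] Ω[B⁄A]) = Module.finrank k (κ ⊗[B] Ω[B⁄A]) := by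
    rw [← Module.finrank_mul_finrank k κ, h1, one_mul]
  haveI : FiniteDimensional k κ := Module.finite_of_finrank_eq_succ h1
  haveI : FiniteDimensional k m.Cotangent := by
    haveI : Module.Finite B m.Cotangent := Module.Finite.of_surjective m.toCotangent m.toCotangent_surjective
    obtain ⟨S, hS⟩ := (Module.Finite.fg_top : (⊤ : Submodule B m.Cotangent).FG)
    refine ⟨⟨S, eq_top_iff.mpr fun z _ => ?_⟩⟩
    have hz : z ∈ Submodule.span B (S : Set m.Cotangent) := hS ▸ trivial
    induction hz using Submodule.span_induction with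
    | mem y hy => exact Submodule.subset_span hy
    | zero => exact zero_mem _
    | add x y _ _ hx hy => exact add_mem (hx trivial) (hy trivial)
    | smul a x _ hx => rw [hsmul]; exact Submodule.smul_mem _ _ (hx trivial)
  rw [h2, ← (eF.restrictScalars k).finrank_eq]
  have hW : W.restrictScalars k = W₀ := rfl
  have := (W.restrictScalars k).finrank_quotient_add_finrank
  rw [(Submodule.Quotient.restrictScalarsEquiv k W).finrank_eq, hW] at this
  exact this

end Groth.Agent.S14437
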