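import Groth.Statements.S14438
import Mathlib
import Groth.Agent.FlatCxLib.DRank2
import Groth.Agent.CAlgSmall.ClopenSplit

set_option linter.all false

set_option autoImplicit false
universe u
open CAlg

open TensorProduct

namespace Groth.Agent.S14438

/-- Let (A, m) be a local ring, B a commutative A-algebra which is free of finite rank d as an A-module,
and assume that for every maximal ideal n of B containing mB the induced map of residue fields A/m →
B/n is bijective (as for the points of a fibre of a finite flat morphism of varieties over an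
algebraically closed field). Then the multiplicities of the points of the fibre add up to the
degree: the sum over all such n of the length of the B_n-module (B/mB)_n equals d. -/
theorem result (A B : Type u) [CommRing A] [IsLocalRing A] [CommRing B] [Algebra A B]
    [Module.Free A B] [Module.Finite A B] (d : ℕ) (hd : Module.finrank A B = d)
    (hres : ∀ (n : Ideal B) [n.IsMaximal] (h : Ideal.map (algebraMap A B) (IsLocalRing.maximalIdeal A) ≤ n),
      Function.Bijective (Ideal.quotientMap n (algebraMap A B) (Ideal.map_le_iff_le_comap.mp h))) :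
    finsum (fun n : {n : MaximalSpectrum B // Ideal.map (algebraMap A B) (IsLocalRing.maximalIdeal A) ≤ n.asIdeal} =>
      Module.length (Localization.AtPrime n.1.asIdeal)
        (LocalizedModule n.1.asIdeal.primeCompl (B ⧸ Ideal.map (algebraMap A B) (IsLocalRing.maximalIdeal A)))) = (d : ℕ∞) := by
  classical
  let m := IsLocalRing.maximalIdeal A
  let J := Ideal.map (algebraMap A B) m
  have hover : ∀ n : MaximalSpectrum B, n.asIdeal.comap (algebraMap A B) = m := fun n =>
    IsLocalRing.eq_maximalIdeal (Ideal.isMaximal_comap_of_isIntegral_of_isMaximal (R := A) n.asIdeal)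
  have hall : ∀ n : MaximalSpectrum B, J ≤ n.asIdeal := fun n =>
    Ideal.map_le_iff_le_comap.2 (hover n).ge
  letI := Ideal.Quotient.field m
  let e : (A ⧸ m) ⊗[A] B ≃ₗ[A] B ⧸ J :=
    (TensorProduct.quotTensorEquivQuotSMul B m).trans
      ((Submodule.quotEquivOfEq _ (J.restrictScalars A) (Ideal.smul_top_eq_map m)).trans
        (Submodule.Quotient.restrictScalarsEquiv A J))
  have hlen : Module.length A (B ⧸ J) = (d : ℕ∞) := by
    rw [← e.length_eq, Module.length_eq_of_surjective (R := A ⧸ m) (S := A) Ideal.Quotient.mk_surjective,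
      Module.length_eq_finrank, Module.finrank_baseChange, hd]
  have hfl : IsFiniteLength B (B ⧸ J) := by
    have hA : IsFiniteLength A (B ⧸ J) := by
      rw [← Module.length_ne_top_iff, hlen]; exact ENat.coe_ne_top d
    obtain ⟨h1, h2⟩ := isFiniteLength_iff_isNoetherian_isArtinian.1 hA
    exact isFiniteLength_iff_isNoetherian_isArtinian.2
      ⟨isNoetherian_of_tower A h1, isArtinian_of_tower A h2⟩
  have : IsArtinianRing (B ⧸ J) := by
    obtain ⟨h1, h2⟩ := isFiniteLength_iff_isNoetherian_isArtinian.1 hfl
    exact isArtinian_of_tower B h2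
  have : Finite (MaximalSpectrum B) := by
    let g : MaximalSpectrum B → MaximalSpectrum (B ⧸ J) := fun n =>
      ⟨n.asIdeal.map (Ideal.Quotient.mk J), Ideal.IsMaximal.map_of_surjective_of_ker_le
        Ideal.Quotient.mk_surjective (by rw [Ideal.mk_ker]; exact hall n)⟩
    refine Finite.of_injective g fun a b hab => MaximalSpectrum.ext ?_
    have h := congrArg (fun x => Ideal.comap (Ideal.Quotient.mk J) x.asIdeal) hab
    simp only [g, Ideal.comap_map_of_surjective _ Ideal.Quotient.mk_surjective,
      ← RingHom.ker_eq_comap_bot, Ideal.mk_ker] at h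
    rwa [sup_eq_left.2 (hall a), sup_eq_left.2 (hall b)] at h
  have h1 : ∀ n : MaximalSpectrum B,
      Module.Finite (A ⧸ n.asIdeal.comap (algebraMap A B)) (B ⧸ n.asIdeal) ∧
      Module.finrank (A ⧸ n.asIdeal.comap (algebraMap A B)) (B ⧸ n.asIdeal) = 1 := by
    intro n
    have hb := hres n.asIdeal (hall n)
    have hs : Function.Surjective (algebraMap (A ⧸ n.asIdeal.comap (algebraMap A B)) (B ⧸ n.asIdeal)) := by
      intro y
      obtain ⟨x, rfl⟩ := hb.2 y
      obtain ⟨a, rfl⟩ := Ideal.Quotient.mk_surjective x
      exact ⟨Ideal.Quotient.mk _ a, rfl⟩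
    haveI : (n.asIdeal.comap (algebraMap A B)).IsMaximal :=
      (hover n).symm ▸ IsLocalRing.maximalIdeal.isMaximal A
    letI := Ideal.Quotient.field (n.asIdeal.comap (algebraMap A B))
    let e := LinearEquiv.ofBijective (Algebra.linearMap (A ⧸ n.asIdeal.comap (algebraMap A B)) (B ⧸ n.asIdeal))
      ⟨RingHom.injective _, hs⟩
    exact ⟨Module.Finite.equiv e, by rw [← e.finrank_eq, Module.finrank_self]⟩
  have main := Groth.Agent.CAlgSmall.length_eq_sum_semilocal hover (B ⧸ J) (fun n => (h1 n).1) hfl
  rw [hlen] at main
  rw [main, ← finsum_comp_equiv (Equiv.subtypeUnivEquiv hall).symm]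
  refine finsum_congr fun n => ?_
  rw [(h1 n).2, Nat.cast_one, one_mul]
  rfl

end Groth.Agent.S14438
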