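import Groth.Statements.S14439
import Groth.Agent.SyzP5.Free
import Groth.Agent.CAlgH3.PSheafBound
import Groth.Agent.CAlgH3.GrMinimal

set_option autoImplicit false
universe u
open CategoryTheory CategoryTheory.Limits AlgebraicGeometry
open Variety

namespace Groth.Agent.S14439

/-- Let k be an algebraically closed field, n ≥ 0 and F a coherent sheaf on P^n_k. Then F has a locally
free resolution 0 → E_{n+1} → ⋯ → E_1 → E_0 → F → 0 of length at most n + 1 in which every E_i is a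
finite direct sum of twisting sheaves O(d): there are a chain complex C of O-modules with C_i = 0
for i > n + 1, each C_i isomorphic to a finite coproduct of twisting sheaves, exact in positive
degrees, and an epimorphism C_0 → F whose kernel is the image of C_1 → C_0. -/
theorem result (k : Type u) [Field k] [IsAlgClosed k] (n : ℕ)
    (F : (CohB1.ProjSpace n k).Modules) (hF : Coh.IsCoh F) :
    ∃ (C : ChainComplex (CohB1.ProjSpace n k).Modules ℕ) (π : C.X 0 ⟶ F) (w : C.d 1 0 ≫ π = 0),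
      (∀ i : ℕ, n + 1 < i → IsZero (C.X i)) ∧
      (∀ i : ℕ, ∃ (m : ℕ) (d : Fin m → ℤ), Nonempty (C.X i ≅ ∐ fun j : Fin m => Twist.twistProjSpace n k (d j))) ∧
      (∀ i : ℕ, 1 ≤ i → IsZero (C.homology i)) ∧ Epi π ∧ (ShortComplex.mk (C.d 1 0) π w).Exact := by
  classical
  open Groth.Agent Groth.Agent.CAlgH3 in
  obtain ⟨m, hm⟩ := PSheafBound.nonempty_finite_model F hF
  obtain ⟨R, hR⟩ := GrLib.exists_minimal (m := n + 1) m.gr
  let D := PRes.D R 0
  let d := PRes.f R 0
  let C : ChainComplex (CohB1.ProjSpace n k).Modules ℕ :=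
    ChainComplex.of (fun i => D (i + 1)) (fun i => d (i + 1)) (fun i => PRes.w R 0 (i + 1))
  have hd : ∀ i, C.d (i + 1) i = d (i + 1) := fun i => by exact ChainComplex.of_d (fun i => D (i + 1)) (fun i => d (i + 1)) i
  have hlen : R.HasLengthLE (n + 1) := by
    refine (GrMinimal.hasLengthLE_iff R (fun h => ?_) hR (n + 1)).2 (GrMinimal.pd_poly k (n + 1) m.M)
    have := GrMinimal.constantCoeff_irrel k (n + 1) 1 ((Ideal.eq_top_iff_one _).1 h)
    simp at this
  have hX : ∀ i : ℕ, ∃ (l : ℕ) (t : Fin l → ℤ), Nonempty (C.X i ≅ ∐ fun j : Fin l => Twist.twistProjSpace n k (t j)) := fun i => by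
    letI := GrLib.freeDecomp (GrSyz.stdGr k (Fin (n + 1))) (R.deg i)
    exact ⟨R.rk i, fun j => 0 - R.deg i j, SyzP5.nonempty_free_iso (R.deg i) 0⟩
  have hw : C.d 1 0 ≫ (d 0 ≫ m.iso.hom) = 0 := by
    rw [hd 0]
    exact (Category.assoc _ _ _).symm.trans ((congrArg (· ≫ m.iso.hom) (PRes.w R 0 0)).trans zero_comp)
  refine ⟨C, d 0 ≫ m.iso.hom, hw, fun i hi => ?_, hX, fun i hi => ?_, ?_, ?_⟩
  · letI := GrLib.freeDecomp (GrSyz.stdGr k (Fin (n + 1))) (R.deg i)
    haveI : IsEmpty (Fin (R.rk i)) := by rw [hlen i hi]; infer_instance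
    obtain ⟨e⟩ := SyzP5.nonempty_free_iso (k := k) (r := n) (R.deg i) 0
    exact IsZero.of_iso (IsInitial.isZero (
      IsInitial.ofUniqueHom (fun Y => Sigma.desc fun j => isEmptyElim j) (fun Y f => Sigma.hom_ext _ _ fun j => isEmptyElim j))) e
  · obtain ⟨i, rfl⟩ : ∃ q, i = q + 1 := ⟨i - 1, by omega⟩
    refine (C.exactAt_iff_isZero_homology (i + 1)).1 ?_
    rw [C.exactAt_iff' (i + 2) (i + 1) i (by simp) (by simp)]
    have h := PRes.exact R 0 (i + 1)
    exact ShortComplex.exact_of_iso (S₁ := ShortComplex.mk (d (i + 2)) (d (i + 1)) (PRes.w R 0 (i + 1)))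
      (S₂ := C.sc' (i + 2) (i + 1) i) (ShortComplex.isoMk (Iso.refl _) (Iso.refl _) (Iso.refl _)
      (by show 𝟙 _ ≫ C.d (i + 2) (i + 1) = d (i + 2) ≫ 𝟙 _; rw [hd (i + 1)]; exact (Category.id_comp _).trans (Category.comp_id _).symm)
      (by show 𝟙 _ ≫ C.d (i + 1) i = d (i + 1) ≫ 𝟙 _; rw [hd i]; exact (Category.id_comp _).trans (Category.comp_id _).symm)) h
  · haveI := PRes.epi R 0
    exact epi_comp _ _
  · exact ShortComplex.exact_of_iso (S₁ := ShortComplex.mk (d 1) (d 0) (PRes.w R 0 0))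
      (S₂ := ShortComplex.mk (C.d 1 0) (d 0 ≫ m.iso.hom) hw) (ShortComplex.isoMk (Iso.refl _) (Iso.refl _) m.iso
      (by show 𝟙 _ ≫ C.d 1 0 = d 1 ≫ 𝟙 _; rw [hd 0]; exact (Category.id_comp _).trans (Category.comp_id _).symm)
      (by show 𝟙 _ ≫ (d 0 ≫ m.iso.hom) = d 0 ≫ m.iso.hom; exact Category.id_comp _)) (PRes.exact R 0 0)

end Groth.Agent.S14439
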