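import Groth.Statements.S14440
import Mathlib
import Groth.Agent.Hilb24.Graded
import Groth.Agent.GrLib.Hilbert
import Groth.Agent.CiLib.AlgClosed
import Groth.Agent.EGA41Lib.CMParameters

set_option linter.all false

set_option autoImplicit false
universe u
open ProjDeg

open MvPolynomial Groth.Agent

namespace Groth.Agent.S14440

variable {k : Type u} [Field k] {n : ℕ}

/-- The ideal of the first `j` members of the family. -/
noncomputable def part (f : Fin n → MvPolynomial (Fin (n + 1)) k) (j : ℕ) :
    Ideal (MvPolynomial (Fin (n + 1)) k) := Ideal.span (f '' {l : Fin n | (l : ℕ) < j})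

theorem part_homogeneous (f : Fin n → MvPolynomial (Fin (n + 1)) k) (d : Fin n → ℕ)
    (hf : ∀ i, (f i).IsHomogeneous (d i)) (j : ℕ) :
    (part f j).IsHomogeneous (CohB1.polyGrading n k) :=
  DimLib.PN.span_isHomogeneous (by rintro _ ⟨l, -, rfl⟩; exact ⟨d l, hf l⟩)

theorem part_succ (f : Fin n → MvPolynomial (Fin (n + 1)) k) (i : Fin n) :
    part f ((i : ℕ) + 1) = part f i ⊔ Ideal.span {f i} := by
  rw [part, part, ← Ideal.span_union, ← Set.image_singleton (f := f), ← Set.image_union]
  congr 2
  ext l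
  simp [Fin.ext_iff]
  omega

theorem col_part_eq (f : Fin n → MvPolynomial (Fin (n + 1)) k) (d : Fin n → ℕ) (hd : ∀ i, 1 ≤ d i)
    (hf : ∀ i, (f i).IsHomogeneous (d i))
    (hdim : ringKrullDim (MvPolynomial (Fin (n + 1)) k ⧸ Ideal.span (Set.range f)) = 1) (i : Fin n) :
    Hilb24.col (part f i) (f i) = part f i := by
  classical
  let S := MvPolynomial (Fin (n + 1)) k
  let m : Ideal S := RingHom.ker (constantCoeff : S →+* k)
  haveI : m.IsPrime := RingHom.ker_isPrime _
  let R := Localization.AtPrime m
  haveI : _root_.LocCoh.IsCohenMacaulayLocalRing R := CAlgH3.isCohenMacaulayLocalRing_of_regular R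
  let fs : List R := List.ofFn fun l => algebraMap S R (f l)
  have hmem : ∀ x ∈ fs, x ∈ IsLocalRing.maximalIdeal R := by
    intro x hx
    obtain ⟨l, rfl⟩ := List.mem_ofFn.mp hx
    rw [IsLocalization.AtPrime.to_map_mem_maximal_iff R m]
    rw [RingHom.mem_ker, constantCoeff_eq]
    exact (hf l).coeff_eq_zero (by simpa using Nat.ne_of_lt (hd l))
  have htop : (n : WithBot ℕ∞) + 1 ≤ ringKrullDim R := by
    rw [IsLocalization.AtPrime.ringKrullDim_eq_height m R]
    exact_mod_cast CiLib.le_height_origin (k := k) (n + 1)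
  have hI : Ideal.ofList fs = (Ideal.span (Set.range f)).map (algebraMap S R) := by
    rw [Ideal.map_span]
    show Ideal.span {x | x ∈ fs} = _
    congr 1
    ext x
    simp [fs, List.mem_ofFn]
  have hq : ringKrullDim (R ⧸ Ideal.ofList fs) ≤ 1 := by
    rw [← hdim]
    let φ : S ⧸ Ideal.span (Set.range f) →+* R ⧸ Ideal.ofList fs :=
      Ideal.quotientMap _ (algebraMap S R) (by rw [hI]; exact Ideal.le_comap_map)
    refine Order.krullDim_le_of_strictMono (PrimeSpectrum.comap φ) (fun a b hab => ?_)
    refine lt_of_le_of_ne (Ideal.comap_mono hab.le) fun h => hab.ne ?_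
    have h1 := congrArg (PrimeSpectrum.comap (Ideal.Quotient.mk (Ideal.span (Set.range f)))) h
    rw [← PrimeSpectrum.comap_comp_apply, ← PrimeSpectrum.comap_comp_apply] at h1
    simp only [φ, Ideal.quotientMap_comp_mk, PrimeSpectrum.comap_comp_apply] at h1
    exact PrimeSpectrum.comap_injective_of_surjective _ Ideal.Quotient.mk_surjective
      (PrimeSpectrum.localization_comap_injective R m.primeCompl h1)
  have hwr : RingTheory.Sequence.IsWeaklyRegular R fs := by
    refine ((EGA41Lib.cm_regular_sequence fs R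
      (_root_.LocCoh.IsCohenMacaulayLocalRing.supportDim_eq_depth) hmem).2 ?_)
    rw [Ideal.smul_eq_mul, Ideal.mul_top, Module.supportDim_quotient_eq_ringKrullDim,
      Module.supportDim_self_eq_ringKrullDim, List.length_ofFn]
    refine le_trans ?_ htop
    rw [add_comm (n : WithBot ℕ∞) 1]
    exact add_le_add hq le_rfl
  refine le_antisymm (fun x hx => ?_) (Hilb24.le_col _ _)
  have hc := Hilb24.isHomogeneous_col (part_homogeneous f d hf i) (hf i)
  have hcomp : ∀ t, homogeneousComponent t x ∈ Hilb24.col (part f i) (f i) :=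
    fun t => homogeneousComponent_mem_of_mem hc hx t
  rw [← sum_homogeneousComponent x]
  refine Ideal.sum_mem _ fun t _ => ?_
  set y := homogeneousComponent t x with hy
  have hyh : y.IsHomogeneous t := homogeneousComponent_isHomogeneous t x
  have hlt : (i : ℕ) < fs.length := by simp [fs]
  have h1 := hwr.regular_mod_prev i hlt
  have hgi : fs[(i : ℕ)] = algebraMap S R (f i) := by simp [fs]
  have htake : Ideal.ofList (fs.take i) • (⊤ : Submodule R R) = (part f i).map (algebraMap S R) := by
    rw [Ideal.smul_eq_mul, Ideal.mul_top, part, Ideal.map_span]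
    show Ideal.span {r | r ∈ fs.take i} = _
    congr 1
    ext r
    simp only [Set.mem_setOf_eq, List.mem_take_iff_getElem, fs, List.getElem_ofFn, List.length_ofFn,
      Set.mem_image]
    constructor
    · rintro ⟨l, hl, rfl⟩
      exact ⟨_, ⟨⟨l, by omega⟩, by simp; omega, rfl⟩, rfl⟩
    · rintro ⟨_, ⟨l, hl, rfl⟩, rfl⟩
      exact ⟨l, by simp at hl ⊢; omega, rfl⟩
  rw [htake, hgi] at h1
  have h2 : algebraMap S R y ∈ (part f i).map (algebraMap S R) := by
    rw [← Submodule.Quotient.mk_eq_zero]
    refine h1.right_eq_zero_of_smul ?_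
    rw [← Submodule.Quotient.mk_smul, Submodule.Quotient.mk_eq_zero, smul_eq_mul, ← map_mul]
    exact Ideal.mem_map_of_mem _ (Hilb24.mem_col.mp (hcomp t))
  obtain ⟨s, hs, hsy⟩ := (IsLocalization.algebraMap_mem_map_algebraMap_iff m.primeCompl R _ _).mp h2
  have h3 := homogeneousComponent_mem_of_mem (part_homogeneous f d hf i) hsy t
  rw [show s * y = y * s from mul_comm s y, show t = 0 + t from (zero_add t).symm, Hilb24.component_mul hyh,
    homogeneousComponent_zero] at h3
  have hs0 : coeff 0 s ≠ 0 := fun h => hs (by rw [SetLike.mem_coe, RingHom.mem_ker, constantCoeff_eq]; exact h)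
  have := (part f i).mul_mem_right (C (coeff 0 s)⁻¹) h3
  rwa [mul_assoc, ← map_mul, mul_inv_cancel₀ hs0, map_one, mul_one] at this

theorem hfun_low {I : Ideal (MvPolynomial (Fin (n + 1)) k)} (hI : I.IsHomogeneous (CohB1.polyGrading n k))
    {a : MvPolynomial (Fin (n + 1)) k} {e : ℕ} (ha : a.IsHomogeneous e) {m : ℕ} (hm : m < e) :
    Hilb24.hfun (I ⊔ Ideal.span {a}) m = Hilb24.hfun I m := by
  have : Submodule.restrictScalars k (I ⊔ Ideal.span {a}) ⊓ CohB1.polyGrading n k m =
      Submodule.restrictScalars k I ⊓ CohB1.polyGrading n k m := by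
    refine le_antisymm ?_ (inf_le_inf_right _ fun x hx => Submodule.mem_sup_left (hx : x ∈ I))
    rintro x ⟨hx, hxm⟩
    refine ⟨?_, hxm⟩
    obtain ⟨b, hb, z, hz, rfl⟩ := Submodule.mem_sup.1 (hx : x ∈ I ⊔ Ideal.span {a})
    obtain ⟨c, rfl⟩ := Ideal.mem_span_singleton'.1 hz
    have e' : homogeneousComponent m (b + c * a) = b + c * a :=
      (homogeneousComponent_of_mem hxm).trans (if_pos rfl)
    show b + c * a ∈ I
    rw [← e', map_add]
    refine I.add_mem (homogeneousComponent_mem_of_mem hI hb _) ?_
    have : homogeneousComponent m (c * a) = 0 := by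
      rw [← sum_homogeneousComponent c, Finset.sum_mul, map_sum]
      refine Finset.sum_eq_zero fun l _ => ?_
      rw [homogeneousComponent_of_mem ((homogeneousComponent_isHomogeneous l c).mul ha), if_neg (by omega)]
    rw [this]
    exact I.zero_mem
  rw [Hilb24.hfun, Hilb24.hfun, this]

theorem series_eq (f : Fin n → MvPolynomial (Fin (n + 1)) k) (d : Fin n → ℕ) (hd : ∀ i, 1 ≤ d i)
    (hf : ∀ i, (f i).IsHomogeneous (d i))
    (hdim : ringKrullDim (MvPolynomial (Fin (n + 1)) k ⧸ Ideal.span (Set.range f)) = 1) :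
    ∀ j, j ≤ n → PowerSeries.mk (Hilb24.hfun (part f j)) =
      (∏ l ∈ Finset.univ.filter (fun l : Fin n => (l : ℕ) < j), (1 - (PowerSeries.X : PowerSeries ℚ) ^ d l)) *
        (PowerSeries.mk 1) ^ (n + 1) := by
  intro j hj
  induction j with
  | zero =>
    rw [show (Finset.univ.filter fun l : Fin n => (l : ℕ) < 0) = ∅ by simp, Finset.prod_empty, one_mul,
      PowerSeries.mk_one_pow_eq_mk_choose_add]
    refine congrArg PowerSeries.mk (funext fun m => ?_)
    rw [Hilb24.hfun, show part f 0 = ⊥ by simp [part], Submodule.restrictScalars_bot, bot_inf_eq, finrank_bot,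
      Nat.cast_zero, sub_zero]
    exact_mod_cast GrLib.finrank_homogeneous (k := k) (r := n) m
  | succ j ih =>
    let i : Fin n := ⟨j, hj⟩
    have hins : (Finset.univ.filter fun l : Fin n => (l : ℕ) < j + 1) =
        insert i (Finset.univ.filter fun l : Fin n => (l : ℕ) < j) := by
      ext l; simp [i, Fin.ext_iff]; omega
    rw [hins, Finset.prod_insert (by simp [i]), mul_assoc, ← ih (by omega)]
    have hs : part f (j + 1) = part f j ⊔ Ideal.span {f i} := part_succ f i
    ext m
    rw [sub_mul, one_mul, map_sub, PowerSeries.coeff_mk, PowerSeries.coeff_mk, PowerSeries.coeff_X_pow_mul', hs]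
    rcases lt_or_ge m (d i) with hm | hm
    · rw [if_neg (by omega), sub_zero, hfun_low (part_homogeneous f d hf j) (hf i) hm]
    · obtain ⟨r, rfl⟩ : ∃ r, m = r + d i := ⟨m - d i, by omega⟩
      rw [if_pos hm, PowerSeries.coeff_mk, Nat.add_sub_cancel]
      have hf0 : f i ≠ 0 := by
        intro h0
        have := col_part_eq f d hd hf hdim i
        have h1 : (1 : MvPolynomial (Fin (n + 1)) k) ∈ Hilb24.col (part f i) (f i) := by
          rw [Hilb24.mem_col, h0, zero_mul]; exact Ideal.zero_mem _
        rw [this] at h1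
        have h2 : part f i ≤ RingHom.ker (constantCoeff : MvPolynomial (Fin (n + 1)) k →+* k) :=
          Ideal.span_le.mpr (by
            rintro _ ⟨l, -, rfl⟩
            rw [SetLike.mem_coe, RingHom.mem_ker, constantCoeff_eq]
            exact (hf l).coeff_eq_zero (by simpa using Nat.ne_of_lt (hd l)))
        simpa using h2 h1
      have := Hilb24.hfun_add (part_homogeneous f d hf j) (hf i) hf0 r
      rw [col_part_eq f d hd hf hdim i] at this
      linarith

/-- Let k be an algebraically closed field and H_1, …, H_n hypersurfaces in P^n given by homogeneous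
polynomials f_1, …, f_n of degrees d_1, …, d_n ≥ 1 in S = k[x_0, …, x_n], meeting in finitely many
points, i.e. S/(f_1, …, f_n) has Krull dimension one. Then the intersection multiplicities of the
H_i at the points of H_1 ∩ ⋯ ∩ H_n add up to d_1 ⋯ d_n; stated here in the form established in the
proof: the Hilbert function of S/(f_1, …, f_n) is eventually the constant Π d_i, i.e. for all large
m, dim_k S_m − dim_k ((f_1, …, f_n) ∩ S_m) = Π d_i (this constant is the degree of O_{H_1} ⊗ ⋯ ⊗
O_{H_n}, the sum of the lengths of its stalks). -/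
theorem result (k : Type u) [Field k] [IsAlgClosed k] (n : ℕ)
    (f : Fin n → MvPolynomial (Fin (n + 1)) k) (d : Fin n → ℕ) (hd : ∀ i, 1 ≤ d i)
    (hf : ∀ i, (f i).IsHomogeneous (d i))
    (hdim : ringKrullDim (MvPolynomial (Fin (n + 1)) k ⧸ Ideal.span (Set.range f)) = 1) :
    ∃ m₀ : ℕ, ∀ m : ℕ, m₀ ≤ m →
      Module.finrank k ↥(MvPolynomial.homogeneousSubmodule (Fin (n + 1)) k m) -
        Module.finrank k ↥((Ideal.span (Set.range f)).restrictScalars k ⊓ MvPolynomial.homogeneousSubmodule (Fin (n + 1)) k m) =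
      ∏ i : Fin n, d i := by
  classical
  have hs := series_eq f d hd hf hdim n le_rfl
  have hpart : part f n = Ideal.span (Set.range f) := by
    rw [part, ← Set.image_univ]; congr 2; ext l; simp
  rw [hpart, show (Finset.univ.filter fun l : Fin n => (l : ℕ) < n) = Finset.univ by simp] at hs
  let P : Polynomial ℚ := ∏ l : Fin n, ∑ i ∈ Finset.range (d l), Polynomial.X ^ i
  have hP : (∏ l : Fin n, (1 - (PowerSeries.X : PowerSeries ℚ) ^ d l)) * (PowerSeries.mk 1) ^ (n + 1) =
      (P : PowerSeries ℚ) * PowerSeries.mk 1 := by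
    have h1 : ∀ e : ℕ, (1 - (PowerSeries.X : PowerSeries ℚ) ^ e) * PowerSeries.mk 1 =
        ((∑ i ∈ Finset.range e, Polynomial.X ^ i : Polynomial ℚ) : PowerSeries ℚ) := by
      intro e
      rw [← geom_sum_mul_neg, mul_assoc, mul_comm (1 - PowerSeries.X), PowerSeries.mk_one_mul_one_sub_eq_one, mul_one,
        ← Polynomial.coeToPowerSeries.ringHom_apply, map_sum]
      simp
    rw [pow_succ, ← mul_assoc]
    congr 1
    have h2 : (PowerSeries.mk 1 : PowerSeries ℚ) ^ n = ∏ _l : Fin n, PowerSeries.mk 1 := by simp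
    rw [h2, ← Finset.prod_mul_distrib]
    simp only [h1, P]
    rw [← Polynomial.coeToPowerSeries.ringHom_apply, map_prod]
    simp [← Polynomial.coeToPowerSeries.ringHom_apply, map_sum]
  rw [hP] at hs
  refine ⟨P.natDegree, fun m hm => ?_⟩
  have hc := congrArg (PowerSeries.coeff m) hs
  rw [PowerSeries.coeff_mk, PowerSeries.coeff_mul, Finset.Nat.sum_antidiagonal_eq_sum_range_succ_mk] at hc
  simp only [Polynomial.coeff_coe, PowerSeries.coeff_mk, Pi.one_apply, mul_one] at hc
  have he : ∑ l ∈ Finset.range (m + 1), P.coeff l = P.eval 1 := by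
    rw [Polynomial.eval_eq_sum_range' (show P.natDegree < m + 1 by omega)]
    simp
  have hv : P.eval 1 = ((∏ i : Fin n, d i : ℕ) : ℚ) := by
    simp [P, Polynomial.eval_prod, Polynomial.eval_finset_sum]
  rw [he, hv, Hilb24.hfun] at hc
  have hle : Module.finrank k ↥((Ideal.span (Set.range f)).restrictScalars k ⊓ MvPolynomial.homogeneousSubmodule (Fin (n + 1)) k m) ≤
      Module.finrank k ↥(MvPolynomial.homogeneousSubmodule (Fin (n + 1)) k m) :=
    haveI := Hilb24.finite_piece (n := n) (k := k) m
    Submodule.finrank_mono inf_le_right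
  have : ((Module.finrank k ↥(MvPolynomial.homogeneousSubmodule (Fin (n + 1)) k m) -
        Module.finrank k ↥((Ideal.span (Set.range f)).restrictScalars k ⊓ MvPolynomial.homogeneousSubmodule (Fin (n + 1)) k m) : ℕ) : ℚ) =
      ((∏ i : Fin n, d i : ℕ) : ℚ) := by
    rw [Nat.cast_sub hle]; exact hc
  exact_mod_cast this

end Groth.Agent.S14440
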