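import Groth.Statements.S14442
import Mathlib

set_option linter.all false

set_option autoImplicit false
universe u
open GrNak

open TensorProduct

namespace Groth.Agent.S14442

/-- Let R be a commutative ℕ-graded ring with irrelevant ideal R_+ = ⊕_{i>0} R_i, M an ℕ-graded R-module
and N a graded submodule of M (closed under taking homogeneous components). If M = R_+ M + N then N
= M. (The published statement is for finitely generated ℤ-graded modules over a graded quotient of a
polynomial ring, whose degrees are then bounded below; stated here for non-negatively graded modules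
over any ℕ-graded commutative ring, where the same lowest-degree argument applies without finite
generation.) -/
theorem result {R : Type u} [CommRing R] {σ : Type u} [SetLike σ R] [AddSubmonoidClass σ R]
    (𝒜 : ℕ → σ) [GradedRing 𝒜]
    {M : Type u} [AddCommGroup M] [Module R M] {τ : Type u} [SetLike τ M] [AddSubmonoidClass τ M]
    (ℳ : ℕ → τ) [DirectSum.Decomposition ℳ] [SetLike.GradedSMul 𝒜 ℳ]
    (N : Submodule R M) (hN : ∀ x ∈ N, ∀ i : ℕ, (DirectSum.decompose ℳ x i : M) ∈ N)
    (h : (HomogeneousIdeal.irrelevant 𝒜).toIdeal • (⊤ : Submodule R M) ⊔ N = ⊤) :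
    N = ⊤ := by
  classical
  suffices ∀ (n : ℕ) (x : M), (DirectSum.decompose ℳ x n : M) ∈ N by
    refine eq_top_iff.2 fun x _ => ?_
    rw [← DirectSum.sum_support_decompose ℳ x]
    exact sum_mem fun i _ => this i x
  intro n
  induction n using Nat.strong_induction_on with
  | _ n ih =>
    intro x
    obtain ⟨a, ha, b, hb, rfl⟩ := Submodule.mem_sup.1 (h ▸ Submodule.mem_top : x ∈ _ ⊔ N)
    rw [DirectSum.decompose_add, DirectSum.add_apply, AddMemClass.coe_add]
    refine add_mem ?_ (hN b hb n)
    clear hb
    refine Submodule.smul_induction_on ha (fun r hr m _ => ?_) (fun c d hc hd => ?_)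
    · rw [← DirectSum.sum_support_decompose 𝒜 r, Finset.sum_smul, DirectSum.decompose_sum,
        DFinsupp.finsetSum_apply, AddSubmonoidClass.coe_finsetSum]
      refine sum_mem fun i hi => ?_
      rcases Nat.eq_zero_or_pos i with rfl | hi0
      · have : (DirectSum.decompose 𝒜 r 0 : R) = 0 := by
          simpa [HomogeneousIdeal.mem_irrelevant_iff, GradedRing.proj_apply] using hr
        rw [this, zero_smul, DirectSum.decompose_zero]
        simp
      · rw [← DirectSum.sum_support_decompose ℳ m, Finset.smul_sum, DirectSum.decompose_sum,
          DFinsupp.finsetSum_apply, AddSubmonoidClass.coe_finsetSum]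
        refine sum_mem fun j _ => ?_
        have hmem : (DirectSum.decompose 𝒜 r i : R) • (DirectSum.decompose ℳ m j : M) ∈ ℳ (i + j) := by
          have := SetLike.GradedSMul.smul_mem (A := 𝒜) (B := ℳ) (i := i) (j := j)
            (SetLike.coe_mem (DirectSum.decompose 𝒜 r i)) (SetLike.coe_mem (DirectSum.decompose ℳ m j))
          exact this
        by_cases hn : i + j = n
        · subst hn
          rw [DirectSum.decompose_of_mem_same ℳ hmem]
          exact N.smul_mem _ (ih j (by omega) m)
        · rw [DirectSum.decompose_of_mem_ne ℳ hmem hn]
          exact zero_mem _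
    · rw [DirectSum.decompose_add, DirectSum.add_apply, AddMemClass.coe_add]
      exact add_mem hc hd

end Groth.Agent.S14442
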