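import Groth.Statements.S14443
import Groth.Agent.GenSmoothLib.FibreTangent
import Groth.Agent.MorProj.OmegaAffine
import Groth.Agent.EGA43.QcohFP
import Groth.Agent.DimLib.Components
import Groth.Agent.DimLib.Points

set_option autoImplicit false
universe u
open CategoryTheory CategoryTheory.Limits AlgebraicGeometry
attribute [local instance] FixPt.fiberModule
open Variety Groth.Agent TopologicalSpace
open scoped KaehlerDifferential
set_option backward.isDefEq.respectTransparency.types false

namespace Groth.Agent.S14443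

theorem bijective_residue (k : Type u) [Field k] [IsAlgClosed k] (S B : Type u) [CommRing S] [CommRing B]
    [IsLocalRing B] [Algebra k S] [Algebra S B] [Algebra k B] [IsScalarTower k S B] [Algebra.FiniteType k S]
    (P : Ideal S) [P.IsMaximal] [IsLocalization.AtPrime B P] :
    Function.Bijective (algebraMap k (IsLocalRing.ResidueField B)) := by
  refine ⟨RingHom.injective _, fun z => ?_⟩
  letI : Field (S ⧸ P) := Ideal.Quotient.field _
  haveI : Module.Finite k (S ⧸ P) := finite_of_finite_type_of_isJacobsonRing k (S ⧸ P)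
  obtain ⟨y, rfl⟩ := IsLocalRing.residue_surjective z
  obtain ⟨⟨a, s⟩, has⟩ := IsLocalization.surj P.primeCompl y
  have hsurj := (IsAlgClosed.algebraMap_bijective_of_isIntegral (k := k) (K := S ⧸ P)).2
  obtain ⟨ca, hca⟩ := hsurj (Ideal.Quotient.mk _ a)
  obtain ⟨cs, hcs⟩ := hsurj (Ideal.Quotient.mk _ (s : S))
  have hres : ∀ (b : S) (c : k), algebraMap k (S ⧸ P) c = Ideal.Quotient.mk _ b →
      IsLocalRing.residue _ (algebraMap S B b) = algebraMap k (IsLocalRing.ResidueField B) c := by
    intro b c hc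
    rw [IsScalarTower.algebraMap_apply k B (IsLocalRing.ResidueField _),
      IsScalarTower.algebraMap_apply k S B, IsLocalRing.ResidueField.algebraMap_eq,
      ← sub_eq_zero, ← map_sub, IsLocalRing.residue_eq_zero_iff, ← map_sub,
      IsLocalization.AtPrime.to_map_mem_maximal_iff B P, ← Ideal.Quotient.eq_zero_iff_mem, map_sub, ← hc]
    exact sub_self _
  have hcs0 : cs ≠ 0 := fun h => s.2 (Ideal.Quotient.eq_zero_iff_mem.1 (by rw [← hcs, h, map_zero]))
  refine ⟨ca / cs, ?_⟩
  rw [map_div₀, div_eq_iff (by simpa using hcs0), ← hres a ca hca, ← hres s cs hcs, ← map_mul, has]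

/-- The algebraic form. -/
theorem le_finrank_fibre (k : Type u) [Field k] [IsAlgClosed k] (R S B : Type u) [CommRing R] [CommRing S]
    [CommRing B] [IsLocalRing B] [Algebra k R] [Algebra k S] [Algebra R S] [IsScalarTower k R S]
    [Algebra.FiniteType k S] [Algebra S B] [Algebra k B] [IsScalarTower k S B] [Algebra R B]
    [IsScalarTower R S B] (P q : Ideal S) [hP : P.IsMaximal] [q.IsPrime] [IsLocalization.AtPrime B P]
    (hqP : q ≤ P) (hcomap : ∀ r : R, algebraMap R S r ∈ P → algebraMap R S r ∈ q) {n : ℕ}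
    (hn : ringKrullDim (S ⧸ q) = (n : WithBot ℕ∞)) :
    Module.Finite B Ω[B⁄R] ∧
      n ≤ Module.finrank k (Ω[B⁄R] ⧸ (IsLocalRing.maximalIdeal B • (⊤ : Submodule B Ω[B⁄R]))) := by
  haveI : Algebra.FiniteType R S := .of_restrictScalars_finiteType k R S
  haveI : Algebra.EssFiniteType S B := .of_isLocalization B P.primeCompl
  haveI : Algebra.EssFiniteType R B := .comp R S B
  refine ⟨inferInstance, ?_⟩
  let P' := P.map (Ideal.Quotient.mk q)
  haveI : P'.IsPrime :=
    Ideal.map_isPrime_of_surjective Ideal.Quotient.mk_surjective (Ideal.mk_ker.trans_le hqP)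
  have hcomapP : P'.comap (Ideal.Quotient.mk q) = P := by
    rw [Ideal.comap_map_of_surjective _ Ideal.Quotient.mk_surjective, ← RingHom.ker_eq_comap_bot,
      Ideal.mk_ker, sup_eq_left.2 hqP]
  let C := Localization.AtPrime P'
  haveI : IsNoetherianRing (S ⧸ q) := by
    haveI : IsNoetherianRing S := Algebra.FiniteType.isNoetherianRing k S
    infer_instance
  haveI : IsNoetherianRing C := IsLocalization.isNoetherianRing P'.primeCompl _ ‹_›
  let g : B →+* C := IsLocalization.lift (M := P.primeCompl)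
    (g := (algebraMap (S ⧸ q) C).comp (Ideal.Quotient.mk q)) fun s => by
      refine IsLocalization.map_units C (⟨Ideal.Quotient.mk q (s : S), fun h => s.2 ?_⟩ : P'.primeCompl)
      exact hcomapP.le h
  have hg : Function.Surjective g := fun z => by
    obtain ⟨⟨a', s'⟩, h⟩ := IsLocalization.surj P'.primeCompl z
    obtain ⟨a, ha⟩ := Ideal.Quotient.mk_surjective a'
    obtain ⟨s, hs⟩ := Ideal.Quotient.mk_surjective (s' : S ⧸ q)
    have hsP : s ∈ P.primeCompl := fun h' => s'.2 (hs ▸ Ideal.mem_map_of_mem _ h')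
    refine ⟨IsLocalization.mk' B a (⟨s, hsP⟩ : P.primeCompl), ?_⟩
    rw [IsLocalization.lift_mk'_spec]
    show algebraMap _ C (Ideal.Quotient.mk q a) = algebraMap _ C (Ideal.Quotient.mk q s) * z
    rw [ha, hs, mul_comm]
    exact h.symm
  have hB := bijective_residue k S B P
  have hres : Function.Surjective (algebraMap k (S ⧸ P)) := by
    letI : Field (S ⧸ P) := Ideal.Quotient.field _
    haveI : Module.Finite k (S ⧸ P) := finite_of_finite_type_of_isJacobsonRing k (S ⧸ P)
    exact (IsAlgClosed.algebraMap_bijective_of_isIntegral (k := k) (K := S ⧸ P)).2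
  refine GenSmoothLib.finrank_cotangent_le R B C g hg hB (fun r => ?_) ?_
  · obtain ⟨c, hc⟩ := hres (Ideal.Quotient.mk P (algebraMap R S r))
    have h1 : algebraMap R S (r - algebraMap k R c) ∈ q := hcomap _ (by
      rw [← Ideal.Quotient.eq_zero_iff_mem, map_sub, map_sub, ← IsScalarTower.algebraMap_apply k R S, ← hc]
      exact sub_self _)
    refine ⟨c, ?_⟩
    rw [IsScalarTower.algebraMap_apply R S B, IsScalarTower.algebraMap_apply k S B]
    simp only [g, IsLocalization.lift_eq, RingHom.comp_apply]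
    congr 1
    rw [Ideal.Quotient.eq]
    simpa [← IsScalarTower.algebraMap_apply k R S] using h1
  · rw [IsLocalization.AtPrime.ringKrullDim_eq_height P' C, ← hn, ← Unram17Lib.height_map_add_eq k S q P hqP,
      show ringKrullDim (S ⧸ P) = 0 from by
        letI : Field (S ⧸ P) := Ideal.Quotient.field _
        exact ringKrullDim_eq_zero_of_field _, add_zero]


/-- Let k be an algebraically closed field, f : X → Y a morphism of k-schemes of finite type, x a closed
point of X and Z an irreducible closed subset of the fibre f⁻¹(f(x)) passing through x, of dimension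
r. Then dim_k (Ω_{X/Y})_(x) ≥ r, where (Ω_{X/Y})_(x) = Ω_{X/Y,x} ⊗ k(x) is the fibre of the sheaf of
relative differentials at x, a vector space over k(x) = k (x is closed and k algebraically closed),
regarded as a k-module through k → O_{X,x}. (The published statement is for varieties, i.e. X and Y
reduced and separated; this row assumes neither. Since X is locally of finite type over a field it
is locally Noetherian, so f is quasi-separated; the argument, T_x Z ⊆ ker(df_x) and dim T_x Z ≥ dim
Z, uses neither reducedness nor separatedness.) -/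
theorem result (k : Type u) [Field k] [IsAlgClosed k]
    {X Y : Scheme.{u}} [X.Over (Spec (CommRingCat.of k))] [Y.Over (Spec (CommRingCat.of k))]
    [LocallyOfFiniteType (X ↘ Spec (CommRingCat.of k))] [QuasiCompact (X ↘ Spec (CommRingCat.of k))]
    [LocallyOfFiniteType (Y ↘ Spec (CommRingCat.of k))] [QuasiCompact (Y ↘ Spec (CommRingCat.of k))]
    (f : X ⟶ Y) (hf : f ≫ (Y ↘ Spec (CommRingCat.of k)) = X ↘ Spec (CommRingCat.of k))
    (x : X) (hx : IsClosed ({x} : Set X)) (Z : Set X) (hZ : IsIrreducible Z) (hZc : IsClosed Z) (hxZ : x ∈ Z)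
    (hZf : Z ⊆ f.base ⁻¹' {f.base x}) (r : ℕ) (hr : topologicalKrullDim ↥Z = (r : WithBot ℕ∞)) :
    r ≤ Module.finrank k (FixPt.fiber (Omega.sheaf f) x) := by
  let qX := X ↘ Spec (CommRingCat.of k)
  let qY := Y ↘ Spec (CommRingCat.of k)
  haveI : IsLocallyNoetherian X := LocallyOfFiniteType.isLocallyNoetherian qX
  haveI : QuasiSeparated f := inferInstance
  obtain ⟨_, ⟨W, hW, rfl⟩, hyW, -⟩ :=
    Y.isBasis_affineOpens.exists_subset_of_mem_open (Set.mem_univ (f x)) isOpen_univ
  obtain ⟨_, ⟨V, hV, rfl⟩, hxV, hVW⟩ :=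
    X.isBasis_affineOpens.exists_subset_of_mem_open (show x ∈ ((f ⁻¹ᵁ W : X.Opens) : Set X) from hyW)
      (f ⁻¹ᵁ W).2
  obtain ⟨ζ, hζ⟩ : ∃ ζ, IsGenericPoint ζ Z := ⟨hZ.genericPoint, by
    simpa [hZc.closure_eq] using hZ.isGenericPoint_genericPoint_closure⟩
  have hζx : ζ ⤳ x := hζ.specializes hxZ
  have hζV : ζ ∈ V := hζx.mem_open V.2 hxV
  let S := Γ(X, V)
  let R := Γ(Y, W)
  let φS : k →+* S := ((Scheme.ΓSpecIso (CommRingCat.of k)).inv ≫ qX.appLE ⊤ V le_top).hom
  let φR : k →+* R := ((Scheme.ΓSpecIso (CommRingCat.of k)).inv ≫ qY.appLE ⊤ W le_top).hom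
  letI : Algebra k S := φS.toAlgebra
  letI : Algebra k R := φR.toAlgebra
  letI : Algebra R S := (f.appLE W V hVW).hom.toAlgebra
  haveI : IsScalarTower k R S := IsScalarTower.of_algebraMap_eq' (by
    have : (Scheme.ΓSpecIso (CommRingCat.of k)).inv ≫ qX.appLE ⊤ V le_top =
        ((Scheme.ΓSpecIso (CommRingCat.of k)).inv ≫ qY.appLE ⊤ W le_top) ≫ f.appLE W V hVW := by
      rw [Category.assoc, Scheme.Hom.appLE_comp_appLE]
      congr 1
      simp only [qX, qY, hf]
    exact congrArg CommRingCat.Hom.hom this)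
  haveI hft : Algebra.FiniteType k S := by
    rw [← RingHom.finiteType_algebraMap]
    exact RingHom.finiteType_respectsIso.2 (qX.appLE ⊤ V le_top).hom
      (Scheme.ΓSpecIso (CommRingCat.of k)).commRingCatIsoToRingEquiv.symm
      (HasRingHomProperty.appLE @LocallyOfFiniteType qX ‹_› ⟨⊤, isAffineOpen_top _⟩ ⟨V, hV⟩ le_top)
  let B := X.presheaf.stalk x
  letI algSB : Algebra S B := (X.presheaf.germ V x hxV).hom.toAlgebra
  letI algkB : Algebra k B := (Curv2.stalkMap k X x).toAlgebra
  letI algRB : Algebra R B := (f.appLE W V hVW ≫ X.presheaf.germ V x hxV).hom.toAlgebra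
  haveI : IsScalarTower R S B := IsScalarTower.of_algebraMap_eq' rfl
  haveI : IsScalarTower k S B := IsScalarTower.of_algebraMap_eq' (by
    have h : ((Scheme.ΓSpecIso (CommRingCat.of k)).inv ≫ qX.appLE ⊤ V le_top) ≫ X.presheaf.germ V x hxV =
        (Scheme.ΓSpecIso (CommRingCat.of k)).inv ≫ qX.appTop ≫ X.presheaf.germ ⊤ x trivial := by
      rw [Scheme.Hom.appLE, Category.assoc, Category.assoc, TopCat.Presheaf.germ_res]
      rfl
    exact (congrArg CommRingCat.Hom.hom h).symm)
  let P := (hV.primeIdealOf ⟨x, hxV⟩).asIdeal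
  let q := (hV.primeIdealOf ⟨ζ, hζV⟩).asIdeal
  haveI hloc : IsLocalization.AtPrime B P := hV.isLocalization_stalk ⟨x, hxV⟩
  haveI : P.IsMaximal := by
    rw [← PrimeSpectrum.isClosed_singleton_iff_isMaximal]
    have h1 : ({hV.primeIdealOf ⟨x, hxV⟩} : Set (PrimeSpectrum Γ(X, V))) = hV.fromSpec ⁻¹' {x} := by
      ext z
      simp only [Set.mem_singleton_iff, Set.mem_preimage]
      constructor
      · rintro rfl; exact hV.fromSpec_primeIdealOf ⟨x, hxV⟩
      · intro h
        exact hV.fromSpec.isOpenEmbedding.injective (h.trans (hV.fromSpec_primeIdealOf ⟨x, hxV⟩).symm)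
    rw [h1]
    exact hx.preimage hV.fromSpec.continuous
  have hqP : q ≤ P := (PrimeSpectrum.le_iff_specializes _ _).2
    (hV.fromSpec.isOpenEmbedding.isInducing.specializes_iff.1 (by
      rw [hV.fromSpec_primeIdealOf, hV.fromSpec_primeIdealOf]; exact hζx))
  have hcomap : ∀ a : R, algebraMap R S a ∈ P → algebraMap R S a ∈ q := by
    intro a ha
    have e1 := IsAffineOpen.comap_primeIdealOf_appLE W hW V hV hVW hxV
    have e2 := IsAffineOpen.comap_primeIdealOf_appLE W hW V hV hVW hζV
    have e3 : (hW.primeIdealOf ⟨f x, hVW hxV⟩).asIdeal = (hW.primeIdealOf ⟨f ζ, hVW hζV⟩).asIdeal := by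
      have : f ζ = f x := hZf hζ.mem
      congr 3
      exact this.symm
    have ha' : a ∈ (hW.primeIdealOf ⟨f x, hVW hxV⟩).asIdeal := by rw [← e1]; exact ha
    rw [e3, ← e2] at ha'
    exact ha'
  have hn : ringKrullDim (S ⧸ q) = (r : WithBot ℕ∞) := by
    have e : hV.fromSpec ≫ qX = Spec.map (CommRingCat.ofHom φS) := by
      rw [show CommRingCat.ofHom φS = (Scheme.ΓSpecIso (CommRingCat.of k)).inv ≫ qX.appLE ⊤ V le_top from rfl,
        Spec.map_comp, ← IsAffineOpen.SpecMap_appLE_fromSpec qX (isAffineOpen_top _) hV le_top,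
        IsAffineOpen.fromSpec_top, Scheme.isoSpec_Spec_inv]
    rw [← hr, DimLib.topologicalKrullDim_eq_ptDim_of_isGenericPoint qX hζ,
      DimLib.ptDim_chart qX φS (RingHom.finiteType_algebraMap.2 hft) hV.fromSpec e (hV.primeIdealOf ⟨ζ, hζV⟩),
      hV.fromSpec_primeIdealOf]
  obtain ⟨-, h1⟩ := le_finrank_fibre k R S B P q hqP hcomap hn
  haveI := MorProj.isQCoh_omega f
  haveI := MorProj.isIso_toSect f hV hW hVW
  let M := Omega.sheaf f
  let e : Ω[S⁄R] ≃ₗ[S] Γ(M, V) := (asIso (OmAff.toSect f W V hVW)).toLinearEquiv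
  letI : Module S (M.presheaf.stalk x) := Module.compHom (M.presheaf.stalk x) (X.presheaf.germ V x hxV).hom
  haveI : IsScalarTower S B (M.presheaf.stalk x) := IsScalarTower.of_algebraMap_smul fun _ _ => rfl
  let φ : Γ(M, V) →ₗ[S] M.presheaf.stalk x :=
    { toFun := fun m => M.presheaf.germ V x hxV m
      map_add' := fun a b => map_add _ a b
      map_smul' := fun c m => by exact QCohLoc.germ_smul' M hxV c m }
  haveI : IsLocalizedModule P.primeCompl φ := EGA43.QcohFP.isLocalizedModule_germ M hV hxV φ fun _ => rfl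
  haveI : IsLocalizedModule P.primeCompl (φ ∘ₗ e.toLinearMap) := IsLocalizedModule.of_linearEquiv_right _ _ e
  let l : M.presheaf.stalk x ≃ₗ[B] Ω[B⁄R] :=
    (IsLocalizedModule.linearEquiv P.primeCompl (φ ∘ₗ e.toLinearMap)
      (KaehlerDifferential.map R R S B)).extendScalarsOfIsLocalization P.primeCompl B
  let N := IsLocalRing.maximalIdeal B • (⊤ : Submodule B (M.presheaf.stalk x))
  let N' := IsLocalRing.maximalIdeal B • (⊤ : Submodule B Ω[B⁄R])
  let lq : (M.presheaf.stalk x ⧸ N) ≃ₗ[B] (Ω[B⁄R] ⧸ N') := Submodule.Quotient.equiv N N' l (by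
    rw [Submodule.map_smul'', Submodule.map_top, LinearEquiv.range])
  let la : (M.presheaf.stalk x ⧸ N) ≃+ (Ω[B⁄R] ⧸ N') := lq.toAddEquiv
  have hla : ∀ (c : k) v, la (c • v) = c • la v := fun c v =>
    (lq.map_smul (Curv2.stalkMap k X x c) v).trans (algebraMap_smul B c (lq v))
  let lk : (M.presheaf.stalk x ⧸ N) ≃ₗ[k] (Ω[B⁄R] ⧸ N') := la.toLinearEquiv hla
  exact h1.trans_eq lk.finrank_eq.symm


end Groth.Agent.S14443
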