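import Groth.Statements.S14447
import Mathlib.CategoryTheory.Limits.Types.Products
import Mathlib.CategoryTheory.Limits.Constructions.FiniteProductsOfBinaryProducts
import Mathlib.CategoryTheory.Limits.Preserves.Shapes.Terminal

set_option autoImplicit false
universe w v u
open AlgGrp

namespace Groth.Agent.S14447

section
open CategoryTheory CategoryTheory.Limits

theorem helper {C : Type u} [Category.{v} C]
    [HasFiniteProducts C] [HasCoproducts.{w} C]
    (h : ∀ (I : Type w) (U : C), IsIso (Sigma.desc fun i : I =>
      prod.lift (terminal.from U ≫ Sigma.ι (fun _ : I => ⊤_ C) i) (𝟙 U))) :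
    PreservesFiniteProducts (sigmaConst.{w}.obj (⊤_ C)) := by
  set F := sigmaConst.{w}.obj (⊤_ C) with hF
  have hb : ∀ I J : Type w, PreservesLimit (pair I J) F := by
    intro I J
    refine preservesLimit_of_preserves_limit_cone (Types.binaryProductLimit I J) ?_
    refine (isLimitMapConeBinaryFanEquiv F _ _).symm ?_
    let c : F.obj (I × J) ⟶ F.obj I ⨯ F.obj J :=
      prod.lift (F.map (↾(_root_.Prod.fst : I × J → I))) (F.map (↾(_root_.Prod.snd : I × J → J)))
    let Φ : (∐ fun _ : I => F.obj J) ⟶ F.obj (I × J) := Sigma.desc fun i => F.map (↾fun j => (i, j))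
    let Ψ : F.obj (I × J) ⟶ (∐ fun _ : I => F.obj J) :=
      Sigma.desc fun p : I × J => Sigma.ι (fun _ : J => ⊤_ C) p.2 ≫ Sigma.ι (fun _ : I => F.obj J) p.1
    haveI : IsIso Φ := by
      refine ⟨Ψ, ?_, ?_⟩
      · refine Sigma.hom_ext _ _ fun i => ?_
        simp only [Φ, Ψ, F, sigmaConst, colimit.ι_desc_assoc, Cofan.mk_pt, Cofan.mk_ι_app, Category.comp_id]
        refine Sigma.hom_ext _ _ fun j => ?_
        simp
      · refine Sigma.hom_ext _ _ fun p => ?_
        simp [Φ, Ψ, F, sigmaConst]
    have hΦc : Φ ≫ c = Sigma.desc fun i : I =>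
        prod.lift (terminal.from (F.obj J) ≫ Sigma.ι (fun _ : I => ⊤_ C) i) (𝟙 (F.obj J)) := by
      refine Sigma.hom_ext _ _ fun i => ?_
      simp only [Φ, c, colimit.ι_desc_assoc, colimit.ι_desc, Cofan.mk_pt, Cofan.mk_ι_app]
      apply Limits.prod.hom_ext <;> simp only [Category.assoc, prod.lift_fst, prod.lift_snd]
      all_goals
        refine Sigma.hom_ext _ _ fun j => ?_
        simp [F, sigmaConst]
        first
          | rw [Subsingleton.elim (terminal.from (⊤_ C)) (𝟙 _), Category.id_comp]
          | erw [prod.lift_snd, Category.comp_id]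
    haveI : IsIso (Φ ≫ c) := by
      rw [hΦc]; exact h I (F.obj J)
    haveI : IsIso c := IsIso.of_isIso_comp_left Φ c
    exact IsLimit.ofIsoLimit (prodIsProd (F.obj I) (F.obj J))
      (BinaryFan.ext (asIso c) (prod.lift_fst _ _).symm (prod.lift_snd _ _).symm).symm
  haveI : PreservesLimitsOfShape (Discrete WalkingPair) F := ⟨fun {K} => by
    haveI := hb (K.obj ⟨WalkingPair.left⟩) (K.obj ⟨WalkingPair.right⟩)
    exact preservesLimit_of_iso_diagram F (diagramIsoPair K).symm⟩
  haveI : PreservesLimit (Functor.empty.{0} (Type w)) F := by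
    refine preservesLimit_of_preserves_limit_cone Types.isTerminalPUnit ?_
    refine (isLimitMapConeEmptyConeEquiv F PUnit).symm ?_
    exact IsTerminal.ofIso terminalIsTerminal
      { hom := Sigma.ι (fun _ : PUnit.{w + 1} => ⊤_ C) PUnit.unit
        inv := Sigma.desc fun _ => 𝟙 _
        hom_inv_id := by simp
        inv_hom_id := Sigma.hom_ext _ _ fun ⟨⟩ => by simp [F, sigmaConst] }
  haveI : PreservesLimitsOfShape (Discrete PEmpty.{1}) F := preservesLimitsOfShape_pempty_of_preservesTerminal F
  exact PreservesFiniteProducts.of_preserves_binary_and_terminal F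

end

open CategoryTheory CategoryTheory.Limits in
/-- Let C be a category with finite products and with all coproducts indexed by sets, and assume that
for every set I and every object U the canonical arrow ∐_{i∈I} U → (∐_{i∈I} pt) × U, whose i-th
component pairs U → pt → ∐_{i∈I} pt (i-th coprojection) with the identity of U, is an isomorphism.
Then the discrete-object functor from sets to C, I ↦ ∐_{i∈I} pt, preserves finite products. (Sets
are the types of one fixed universe, the one indexing the coproducts. The published statement asks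
only for the coproducts of copies of one object; this row assumes that C has all coproducts indexed
by sets, which Mathlib's discrete-object functor sigmaConst requires.) -/
theorem result {C : Type u} [Category.{v} C]
    [HasFiniteProducts C] [HasCoproducts.{w} C]
    (h : ∀ (I : Type w) (U : C), IsIso (Sigma.desc fun i : I =>
      prod.lift (terminal.from U ≫ Sigma.ι (fun _ : I => ⊤_ C) i) (𝟙 U))) :
    PreservesFiniteProducts (sigmaConst.{w}.obj (⊤_ C)) := by
  exact helper h

end Groth.Agent.S14447
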