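import Groth.Statements.S14448


set_option autoImplicit false
universe u
open Coherent

open CategoryTheory AlgebraicGeometry Opposite Scheme.Modules
set_option backward.isDefEq.respectTransparency false
set_option backward.isDefEq.respectTransparency.types false
set_option maxHeartbeats 1000000

namespace Groth.Agent.S14448

open AlgebraicGeometry CategoryTheory Scheme.Modules in
/-- Take two commutative squares of schemes side by side, f : X → Y over φ : U → V (vertical maps ξ : X
→ U and η : Y → V, f ≫ η = ξ ≫ φ) and g : Y → Z over ψ : V → W (vertical map ζ : Z → W, g ≫ ζ = η ≫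
ψ), and an O_Z-module L. For a commutative square the base change map β_{f,φ}(M) : φ^* η_* M → ξ_*
f^* M is the adjoint of η_*(unit) : η_* M → η_* f_* f^* M = φ_* ξ_* f^* M, and α denotes the
composition isomorphisms of module pullbacks. Then the composite of α_{φ,ψ}(ζ_* L) : φ^* ψ^* ζ_* L →
(φ ≫ ψ)^* ζ_* L with β_{f ≫ g, φ ≫ ψ}(L) equals the composite of φ^* β_{g,ψ}(L), β_{f,φ}(g^* L) and
ξ_* α_{f,g}(L), as maps φ^* ψ^* ζ_* L → ξ_* (f ≫ g)^* L. No cartesian or finiteness hypothesis is
made; the outer square is used through any proof hw of its commutativity. -/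
theorem result {X Y Z U V W : Scheme.{u}} (f : X ⟶ Y) (g : Y ⟶ Z)
    (ξ : X ⟶ U) (η : Y ⟶ V) (ζ : Z ⟶ W) (φ : U ⟶ V) (ψ : V ⟶ W)
    (h₁ : f ≫ η = ξ ≫ φ) (h₂ : g ≫ ζ = η ≫ ψ) (hw : (f ≫ g) ≫ ζ = ξ ≫ (φ ≫ ψ)) (L : Z.Modules) :
    (pullbackComp φ ψ).hom.app ((pushforward ζ).obj L) ≫
        (((pullbackPushforwardAdjunction (φ ≫ ψ)).homEquiv ((pushforward ζ).obj L)
            ((pushforward ξ).obj ((pullback (f ≫ g)).obj L))).symm
          ((pushforward ζ).map ((pullbackPushforwardAdjunction (f ≫ g)).unit.app L) ≫
            (pushforwardComp (f ≫ g) ζ).hom.app ((pullback (f ≫ g)).obj L) ≫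
            (pushforwardCongr hw).hom.app ((pullback (f ≫ g)).obj L) ≫
            (pushforwardComp ξ (φ ≫ ψ)).inv.app ((pullback (f ≫ g)).obj L))) =
      (pullback φ).map (((pullbackPushforwardAdjunction ψ).homEquiv ((pushforward ζ).obj L)
            ((pushforward η).obj ((pullback g).obj L))).symm
          ((pushforward ζ).map ((pullbackPushforwardAdjunction g).unit.app L) ≫
            (pushforwardComp g ζ).hom.app ((pullback g).obj L) ≫
            (pushforwardCongr h₂).hom.app ((pullback g).obj L) ≫
            (pushforwardComp η ψ).inv.app ((pullback g).obj L))) ≫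
        (((pullbackPushforwardAdjunction φ).homEquiv ((pushforward η).obj ((pullback g).obj L))
            ((pushforward ξ).obj ((pullback f).obj ((pullback g).obj L)))).symm
          ((pushforward η).map ((pullbackPushforwardAdjunction f).unit.app ((pullback g).obj L)) ≫
            (pushforwardComp f η).hom.app ((pullback f).obj ((pullback g).obj L)) ≫
            (pushforwardCongr h₁).hom.app ((pullback f).obj ((pullback g).obj L)) ≫
            (pushforwardComp ξ φ).inv.app ((pullback f).obj ((pullback g).obj L)))) ≫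
        (pushforward ξ).map ((pullbackComp f g).hom.app L) := by
  have key : ∀ {A B C : Scheme.{u}} (a : A ⟶ B) (b : B ⟶ C) (M : C.Modules) (N : A.Modules)
      (x : M ⟶ (pushforward (a ≫ b)).obj N),
      (pullbackComp a b).hom.app M ≫ ((pullbackPushforwardAdjunction (a ≫ b)).homEquiv M N).symm x =
        (((pullbackPushforwardAdjunction b).comp (pullbackPushforwardAdjunction a)).homEquiv M N).symm
          (x ≫ (pushforwardComp a b).inv.app N) := by
    intro A B C a b M N x
    have hu := unit_conjugateEquiv
      ((pullbackPushforwardAdjunction b).comp (pullbackPushforwardAdjunction a))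
      (pullbackPushforwardAdjunction (a ≫ b)) (pullbackComp a b).inv M
    rw [conjugateEquiv_pullbackComp_inv] at hu
    apply (((pullbackPushforwardAdjunction b).comp (pullbackPushforwardAdjunction a)).homEquiv M N).injective
    rw [Equiv.apply_symm_apply]
    obtain ⟨y, rfl⟩ := ((pullbackPushforwardAdjunction (a ≫ b)).homEquiv M N).surjective x
    rw [Equiv.symm_apply_apply]
    rw [Adjunction.homEquiv_unit, Adjunction.homEquiv_unit]
    have hu' := hu =≫ (pushforwardComp a b).inv.app _
    simp only [Category.assoc, Iso.hom_inv_id_app] at hu'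
    erw [Category.comp_id] at hu'
    erw [hu']
    simp only [Category.assoc]
    congr 1
    erw [← (pushforwardComp a b).inv.naturality, ← Functor.map_comp_assoc, Iso.inv_hom_id_app_assoc]
  rw [key φ ψ]
  apply (((pullbackPushforwardAdjunction ψ).comp (pullbackPushforwardAdjunction φ)).homEquiv _ _).injective
  rw [Equiv.apply_symm_apply, Adjunction.comp_homEquiv]
  show _ = (pullbackPushforwardAdjunction ψ).homEquiv _ _ ((pullbackPushforwardAdjunction φ).homEquiv _ _ _)
  rw [Adjunction.homEquiv_naturality_left, Adjunction.homEquiv_naturality_right, Equiv.apply_symm_apply,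
    Adjunction.homEquiv_naturality_right, Equiv.apply_symm_apply]
  have hu2 : (pullbackPushforwardAdjunction (f ≫ g)).unit.app L =
      (pullbackPushforwardAdjunction g).unit.app L ≫
        (pushforward g).map ((pullbackPushforwardAdjunction f).unit.app ((pullback g).obj L)) ≫
        (pushforwardComp f g).hom.app ((pullback f).obj ((pullback g).obj L)) ≫
        (pushforward (f ≫ g)).map ((pullbackComp f g).hom.app L) := by
    have hu := unit_conjugateEquiv
      ((pullbackPushforwardAdjunction g).comp (pullbackPushforwardAdjunction f))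
      (pullbackPushforwardAdjunction (f ≫ g)) (pullbackComp f g).inv L
    rw [conjugateEquiv_pullbackComp_inv, Adjunction.comp_unit_app] at hu
    have hu' := hu =≫ (pushforward (f ≫ g)).map ((pullbackComp f g).hom.app L)
    simp only [Category.assoc, ← Functor.map_comp, Iso.inv_hom_id_app] at hu'
    refine (hu'.trans ?_).symm
    simp
  rw [hu2]
  refine hom_ext _ _ fun O => ?_
  simp
  congr 1
  have n1 := ((pullbackPushforwardAdjunction f).unit.app ((pullback g).obj L)).mapPresheaf.naturality
    (eqToHom (show op (g ⁻¹ᵁ ζ ⁻¹ᵁ O) = op (η ⁻¹ᵁ ψ ⁻¹ᵁ O) by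
      exact congrArg (fun t => op (t ⁻¹ᵁ O)) h₂))
  simp only [mapPresheaf_app] at n1
  refine Eq.trans ?_ (Category.assoc _ _ _)
  refine Eq.trans ?_ (n1.symm =≫ _)
  refine Eq.trans ?_ (Category.assoc _ _ _).symm
  congr 1
  have n2 := ((pullbackComp f g).hom.app L).mapPresheaf.naturality
    (eqToHom (show op (f ⁻¹ᵁ g ⁻¹ᵁ ζ ⁻¹ᵁ O) = op (ξ ⁻¹ᵁ φ ⁻¹ᵁ ψ ⁻¹ᵁ O) by
      exact congrArg (fun t => op (t ⁻¹ᵁ O)) hw))
  simp only [mapPresheaf_app] at n2
  refine n2.symm.trans ?_
  refine Eq.trans ?_ (Category.assoc _ _ _)
  refine congrArg (fun t => t ≫ _) ?_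
  exact (congrArg _ (Subsingleton.elim _ _)).trans (Functor.map_comp _ _ _)

end Groth.Agent.S14448
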