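import Groth.Statements.S14451
import Groth.Agent.EtCmp.AdjExt
-- import your own Groth.Agent.* helpers here

set_option autoImplicit false
set_option backward.isDefEq.respectTransparency.types false
set_option backward.isDefEq.respectTransparency false
set_option maxHeartbeats 1000000
universe u
open CategoryTheory CategoryTheory.Limits AlgebraicGeometry
open EtCore

namespace Groth.Agent.S14451

/-- Let f : X ⟶ Y be a morphism of schemes and F an abelian sheaf on the small étale site of X whose
higher direct images R^q f_* F vanish for all q > 0. Then for every p the canonical map H^p(Y, f_*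
F) → H^p(X, F) (pull back along f, then apply the counit f⁻¹ f_* F ⟶ F) is bijective. (Exactness of
f⁻¹, which always holds, is carried as an instance hypothesis.) -/
theorem result {X Y : Scheme.{u}} (f : X ⟶ Y)
    [PreservesFiniteLimits (EtCoh.pull f)] (F : EtCoh.Ab X)
    (hR : ∀ q : ℕ, 0 < q → IsZero ((EtCoh.Rpush f q).obj F)) (p : ℕ) :
    Function.Bijective (EtLim.HofPush f F p) := by
  have h := Groth.Agent.EtCmp.bijective_adjExtHom (EtCoh.pullPushAdj f) (EtCoh.const Y ℤ) p F hR
  have e : (EtCore.pullConst f ℤ).hom ≫ (EtCore.pullConst f ℤ).inv = 𝟙 _ := Iso.hom_inv_id _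
  let P : Abelian.Ext.{u + 1} ((EtCoh.pull f).obj (EtCoh.const Y ℤ)) F p ≃ Abelian.Ext.{u + 1} (EtCoh.const X ℤ) F p :=
    { toFun := fun x => (Abelian.Ext.mk₀ (EtCore.pullConst f ℤ).inv).comp x (zero_add p)
      invFun := fun x => (Abelian.Ext.mk₀ (EtCore.pullConst f ℤ).hom).comp x (zero_add p)
      left_inv := fun x => by
        dsimp only
        rw [Abelian.Ext.mk₀_comp_mk₀_assoc, Iso.hom_inv_id, Abelian.Ext.mk₀_id_comp]
      right_inv := fun x => by
        dsimp only
        rw [Abelian.Ext.mk₀_comp_mk₀_assoc, Iso.inv_hom_id, Abelian.Ext.mk₀_id_comp] }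
  have key : ∀ x, EtLim.HofPush f F p x = P (Groth.Agent.EtCmp.adjExtHom (EtCoh.pullPushAdj f) (EtCoh.const Y ℤ) F p x) :=
    fun x => Abelian.Ext.comp_assoc_of_third_deg_zero _ _ _ (zero_add p)
  have hfun : (EtLim.HofPush f F p : _ → _) =
      P ∘ Groth.Agent.EtCmp.adjExtHom (EtCoh.pullPushAdj f) (EtCoh.const Y ℤ) F p := funext key
  rw [hfun]
  exact P.bijective.comp h

end Groth.Agent.S14451
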