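import Groth.Statements.S14453
import Groth.Agent.EtSheafCrit.Basic
-- import your own Groth.Agent.* helpers here

set_option autoImplicit false
universe w u
open CategoryTheory AlgebraicGeometry
open EtCore

namespace Groth.Agent.S14453

/-- Let X be a scheme and F a presheaf of sets on the small étale site of X. Then F is an étale sheaf if
and only if F is a sheaf for the Zariski topology on the same category (coverings are jointly
surjective families of open immersions between étale X-schemes) and, for every morphism f : V ⟶ U of
étale X-schemes with U and V affine and f surjective, F satisfies the sheaf condition for the single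
arrow f. -/
theorem result (X : Scheme.{u})
    (F : X.Etaleᵒᵖ ⥤ Type w) :
    Presieve.IsSheaf X.smallEtaleTopology F ↔
      Presieve.IsSheaf (X.smallGrothendieckTopology (P := @IsOpenImmersion)) F ∧
        ∀ (U V : X.Etale) [IsAffine U.left] [IsAffine V.left] (f : V ⟶ U) [Surjective f.left],
          Presieve.IsSheafFor F (Presieve.singleton f) := by
  refine ⟨fun h => ⟨Presieve.isSheaf_of_le F Groth.Agent.EtSheafCrit.zar_le h, fun U V _ _ f _ => ?_⟩,
    fun h => Groth.Agent.EtSheafCrit.isSheaf h.1 h.2⟩
  rw [Presieve.isSheafFor_iff_generate]
  exact h _ (Groth.Agent.EtSheafCrit.mem_of_surjective f)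

end Groth.Agent.S14453
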