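import Groth.Statements.S14456
import Mathlib

set_option linter.all false

set_option autoImplicit false
universe u
open CAlg

open MvPolynomial
open scoped TensorProduct

namespace Groth.Agent.S14456

/-- Take a local homomorphism A → B between Noetherian local rings, M a finitely generated B-module and
f an element of the maximal ideal of B. If M/f^(n+1)M is flat over A for every n ≥ 0, then M is flat
over A. -/
theorem result {A B : Type u} [CommRing A] [CommRing B]
    [IsNoetherianRing A] [IsNoetherianRing B] [IsLocalRing A] [IsLocalRing B] [Algebra A B]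
    [IsLocalHom (algebraMap A B)] (M : Type u) [AddCommGroup M] [Module B M] [Module A M]
    [IsScalarTower A B M] [Module.Finite B M] (f : B) (hf : f ∈ IsLocalRing.maximalIdeal B)
    (hflat : ∀ n : ℕ, Module.Flat A (M ⧸ (Ideal.span {f ^ (n + 1)} • (⊤ : Submodule B M)))) :
    Module.Flat A M := by
  rw [Module.Flat.iff_lTensor_injective']
  intro I
  classical
  rw [injective_iff_map_eq_zero]
  intro z hz
  haveI : Module.Finite B (M ⊗[A] I) := by
    haveI : Module.Finite A I := Module.Finite.of_fg (IsNoetherian.noetherian I)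
    obtain ⟨k, π, hπ⟩ := Module.Finite.exists_fin' A I
    obtain ⟨l, σ, hσ⟩ := Module.Finite.exists_fin' B M
    refine ⟨⟨(Finset.univ ×ˢ Finset.univ).image fun x : Fin l × Fin k => σ (Pi.single x.1 1) ⊗ₜ[A] π (Pi.single x.2 1), ?_⟩⟩
    refine Submodule.eq_top_iff'.2 fun y => ?_
    induction y using TensorProduct.induction_on with
    | zero => exact zero_mem _
    | add a b ha hb => exact add_mem ha hb
    | tmul m i =>
      obtain ⟨c, rfl⟩ := hσ m
      obtain ⟨d, rfl⟩ := hπ i
      rw [pi_eq_sum_univ' c, pi_eq_sum_univ' d, map_sum, map_sum, TensorProduct.sum_tmul]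
      refine Submodule.sum_mem _ fun a _ => ?_
      rw [TensorProduct.tmul_sum]
      refine Submodule.sum_mem _ fun b _ => ?_
      rw [map_smul, map_smul, TensorProduct.tmul_smul, ← TensorProduct.smul_tmul', ← algebraMap_smul B (d b), smul_smul]
      exact Submodule.smul_mem _ _ (Submodule.subset_span (Finset.mem_coe.2 (Finset.mem_image.2 ⟨(a, b), by simp, rfl⟩)))
  rw [← Submodule.mem_bot B, ← Ideal.iInf_pow_smul_eq_bot_of_le_jacobson (I := Ideal.span {f}) (M := M ⊗[A] I) (by
    rw [IsLocalRing.jacobson_eq_maximalIdeal ⊥ bot_ne_top]; exact (Ideal.span_singleton_le_iff_mem _).2 hf), Submodule.mem_iInf]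
  intro n
  refine Submodule.smul_mono (Ideal.pow_le_pow_right (Nat.le_succ n)) le_rfl ?_
  let L : Submodule B M := Ideal.span {f ^ (n + 1)} • (⊤ : Submodule B M)
  haveI := hflat n
  have hexM : Function.Exact (L.subtype.restrictScalars A) (L.mkQ.restrictScalars A) := LinearMap.exact_subtype_mkQ L
  have hzero : (L.mkQ.restrictScalars A).rTensor I z = 0 := by
    refine Module.Flat.lTensor_preserves_injective_linearMap (M := M ⧸ L) I.subtype I.injective_subtype ?_
    rw [map_zero]
    have := congrArg ((L.mkQ.restrictScalars A).rTensor A) hz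
    rw [map_zero] at this
    rw [← this, ← LinearMap.comp_apply, ← LinearMap.comp_apply]
    congr 1
    ext m i
    simp
  obtain ⟨w, rfl⟩ := (rTensor_exact I hexM (Submodule.mkQ_surjective L) z).1 hzero
  rw [Ideal.span_singleton_pow]
  clear hz hzero
  induction w using TensorProduct.induction_on with
  | zero => simp
  | add a b ha hb => rw [map_add]; exact add_mem ha hb
  | tmul l i =>
    have h : (l : M) ∈ Ideal.span {f ^ (n + 1)} • (⊤ : Submodule B M) := l.2
    rw [Submodule.ideal_span_singleton_smul, Submodule.mem_smul_pointwise_iff_exists] at h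
    obtain ⟨m, -, hm⟩ := h
    show (l : M) ⊗ₜ[A] i ∈ _
    rw [← hm, ← TensorProduct.smul_tmul']
    exact Submodule.smul_mem_smul (Ideal.mem_span_singleton_self _) trivial

end Groth.Agent.S14456
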