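import Groth.Statements.S14458
import Mathlib.RingTheory.Etale.Weakly
import Mathlib.RingTheory.HopkinsLevitzki
import Mathlib.RingTheory.LocalRing.Pullback
import Mathlib.RingTheory.PicardGroup
import Mathlib.RingTheory.TotallySplit
import Mathlib.RingTheory.WittVector.Basic
import Mathlib.Tactic
import Groth.Agent.CommAlg4.Nilpotent

set_option linter.all false

set_option autoImplicit false
universe u
open CAlg

open Groth.Agent.CommAlg4

namespace Groth.Agent.S14458

open TensorProduct in
/-- Let R be an Artinian local ring with residue field k and M an R-module, not necessarily finitely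
generated. If M ⊗_R k = 0 then M = 0. -/
theorem result {R : Type u} [CommRing R]
    [IsArtinianRing R] [IsLocalRing R] (M : Type u) [AddCommGroup M] [Module R M]
    (h : Subsingleton ((IsLocalRing.ResidueField R) ⊗[R] M)) : Subsingleton M := by
  exact subsingleton_of_tensor_quotient _ ((isArtinianRing_iff_isNilpotent_maximalIdeal R).mp inferInstance) M h

end Groth.Agent.S14458
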