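import Groth.Statements.S14460
import Groth.Agent.FEtQuot.Geometric
import Groth.Agent.FEtLib.EqLocus
import Mathlib
-- import your own Groth.Agent.* helpers here

set_option autoImplicit false
set_option linter.style.haveILetI false
set_option backward.isDefEq.respectTransparency false
set_option backward.isDefEq.respectTransparency.types false
universe u
open CategoryTheory CategoryTheory.Limits AlgebraicGeometry
open Pi1

namespace Groth.Agent.S14460


section aux

variable {ι : Type u} {W : ι → Scheme.{u}} {K : Type u} [Field K]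

theorem exists_sigmaι_lift (z : Spec (CommRingCat.of K) ⟶ ∐ W) :
    ∃ i, ∃ z' : Spec (CommRingCat.of K) ⟶ W i, z' ≫ Sigma.ι W i = z := by
  let pt : Spec (CommRingCat.of K) := IsLocalRing.closedPoint K
  obtain ⟨⟨i, w⟩, hw⟩ := (sigmaMk W).surjective (z pt)
  rw [sigmaMk_mk] at hw
  refine ⟨i, IsOpenImmersion.lift (Sigma.ι W i) z ?_, IsOpenImmersion.lift_fac _ _ _⟩
  rintro _ ⟨q, rfl⟩
  rw [show q = pt from Subsingleton.elim (α := PrimeSpectrum K) _ _]
  exact ⟨w, hw⟩

set_option backward.isDefEq.respectTransparency true in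
set_option backward.isDefEq.respectTransparency.types true in
theorem exists_geom (P : Scheme.{u}) (z : P) : ∃ (Ω : Type u) (_ : Field Ω) (_ : IsSepClosed Ω)
    (φ : Spec (CommRingCat.of Ω) ⟶ P), ∀ q, φ q = z :=
  ⟨AlgebraicClosure (P.residueField z), inferInstance, inferInstance,
    Spec.map (CommRingCat.ofHom (algebraMap (P.residueField z) (AlgebraicClosure (P.residueField z)))) ≫ P.fromSpecResidueField z,
    fun q => by rw [Scheme.Hom.comp_apply]; exact Scheme.fromSpecResidueField_apply _ _⟩

end aux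

section aux2

variable {X : Scheme.{u}} {Y : FEt.Cat X} {G : Type u} [Group G] (ρ : G →* Aut Y)

theorem act_injective (hfree : ∀ g : G, g ≠ 1 → ∀ (K : Type u) [Field K] (y : Spec (CommRingCat.of K) ⟶ Y.left),
      y ≫ (ρ g).hom.left ≠ y) {K : Type u} [Field K] (y : Spec (CommRingCat.of K) ⟶ Y.left) :
    Function.Injective fun g : G => y ≫ (ρ g).hom.left := by
  intro g h e
  by_contra hne
  refine hfree (h⁻¹ * g) (fun hh => hne (inv_mul_eq_one.1 hh).symm) K y ?_
  have e' : (ρ (h⁻¹ * g)).hom.left = (ρ g).hom.left ≫ (ρ h).inv.left := by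
    rw [map_mul, map_inv]
    rfl
  have e2 : (ρ h).hom.left ≫ (ρ h).inv.left = 𝟙 Y.left :=
    congrArg (fun φ : Y ⟶ Y => φ.left) (ρ h).hom_inv_id
  have e3 : y ≫ (ρ g).hom.left = y ≫ (ρ h).hom.left := e
  rw [e', ← Category.assoc, e3, Category.assoc, e2, Category.comp_id]

end aux2

set_option maxHeartbeats 1000000 in
/-- Let Y → X be finite étale with Y nonempty and all geometric fibres of the same cardinality n, and
let a finite group G act on Y over X without fixed points (no point of Y with values in a field is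
fixed by a non-identity element). Then G has at most n elements, and it has exactly n elements if
and only if the morphism from the disjoint union of copies of Y indexed by G to Y ×_X Y, given on
the copy indexed by g by the identity and g, is an isomorphism. (For Y empty the bound fails, since
every finite group acts without fixed points on the empty cover, whose fibres have cardinality 0;
this row assumes Y nonempty.) -/
theorem result {X : Scheme.{u}} (Y : FEt.Cat X)
    [Nonempty ↥Y.left] (n : ℕ)
    (hn : ∀ (Ω : Type u) [Field Ω] [IsSepClosed Ω] (ξ : Spec (CommRingCat.of Ω) ⟶ X), Nat.card (FEt.fiberObj ξ Y) = n)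
    (G : Type u) [Group G] [Finite G] (ρ : G →* Aut Y)
    (hfree : ∀ g : G, g ≠ 1 → ∀ (K : Type u) [Field K] (y : Spec (CommRingCat.of K) ⟶ Y.left),
      y ≫ (ρ g).hom.left ≠ y) :
    Nat.card G ≤ n ∧
      (Nat.card G = n ↔ IsIso (Limits.Sigma.desc fun g : G =>
        pullback.lift (𝟙 Y.left) (ρ g).hom.left
          ((Category.id_comp Y.hom).trans (Over.w (ρ g).hom.hom).symm) : (∐ fun _ : G => Y.left) ⟶ pullback Y.hom Y.hom)) := by
  haveI : IsFinite Y.hom := Y.prop.1
  haveI : Etale Y.hom := Y.prop.2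
  -- geometric points
  have geo : ∀ y : Y.left, ∃ (Ω : Type u) (_ : Field Ω) (_ : IsSepClosed Ω)
      (s : Spec (CommRingCat.of Ω) ⟶ Y.left), ∀ q, s q = y := exists_geom Y.left
  let S : ∀ {Ω : Type u} [Field Ω] (s : Spec (CommRingCat.of Ω) ⟶ Y.left), G →
      FEt.fiberObj (s ≫ Y.hom) Y := fun {Ω} _ s g =>
    ⟨s ≫ (ρ g).hom.left, by rw [Category.assoc]; exact congrArg (s ≫ ·) (Over.w (ρ g).hom.hom)⟩
  have hS : ∀ {Ω : Type u} [Field Ω] (s : Spec (CommRingCat.of Ω) ⟶ Y.left),
      Function.Injective (S s) := fun s g h e => act_injective ρ hfree s (congrArg Subtype.val e)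
  have hle : Nat.card G ≤ n := by
    obtain ⟨Ω, _, _, s, -⟩ := geo (Classical.arbitrary _)
    haveI : Finite (FEt.fiberObj (s ≫ Y.hom) Y) := Groth.Agent.FEtQuot.finite_points Y.hom (s ≫ Y.hom)
    exact (Nat.card_le_card_of_injective (S s) (hS s)).trans_eq (hn Ω _)
  refine ⟨hle, ?_⟩
  let Φ : (∐ fun _ : G => Y.left) ⟶ pullback Y.hom Y.hom := Limits.Sigma.desc fun g : G =>
        pullback.lift (𝟙 Y.left) (ρ g).hom.left
          ((Category.id_comp Y.hom).trans (Over.w (ρ g).hom.hom).symm)
  change _ ↔ IsIso Φ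
  have h1 : ∀ g, Sigma.ι (fun _ : G => Y.left) g ≫ Φ ≫ pullback.fst Y.hom Y.hom = 𝟙 Y.left := fun g => by
    simp only [Φ, ← Category.assoc, colimit.ι_desc, Cofan.mk_ι_app, pullback.lift_fst]
  have h2 : ∀ g, Sigma.ι (fun _ : G => Y.left) g ≫ Φ ≫ pullback.snd Y.hom Y.hom = (ρ g).hom.left := fun g => by
    simp only [Φ, ← Category.assoc, colimit.ι_desc, Cofan.mk_ι_app, pullback.lift_snd]
  constructor
  · intro hcard
    haveI : Etale Φ := by
      have e : Φ ≫ pullback.fst Y.hom Y.hom = Limits.Sigma.desc fun _ : G => 𝟙 Y.left :=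
        Sigma.hom_ext _ _ fun g => by rw [h1, colimit.ι_desc]; rfl
      haveI : Etale (Φ ≫ pullback.fst Y.hom Y.hom) := by
        rw [e]
        exact IsZariskiLocalAtSource.sigmaDesc (P := @Etale) fun _ => inferInstance
      exact Etale.of_comp Φ (pullback.fst Y.hom Y.hom)
    haveI : UniversallyInjective Φ := by
      refine ((tfae_universallyInjective Φ).out 0 1).mpr ?_
      intro K _ z₁ z₂ e
      obtain ⟨g, a, rfl⟩ := exists_sigmaι_lift z₁
      obtain ⟨h, b, rfl⟩ := exists_sigmaι_lift z₂
      simp only [Category.assoc] at e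
      have ea : a = b := by
        simpa only [Category.assoc, h1, Category.comp_id] using congrArg (· ≫ pullback.fst Y.hom Y.hom) e
      subst ea
      have egh : g = h := act_injective ρ hfree a (by
        simpa only [Category.assoc, h2] using congrArg (· ≫ pullback.snd Y.hom Y.hom) e)
      rw [egh]
    haveI := Groth.Agent.FEtLib.isOpenImmersion_of_etale_universallyInjective Φ
    haveI : Surjective Φ := by
      refine ⟨fun z => ?_⟩
      obtain ⟨Ω, _, _, φ, hφz⟩ := exists_geom (pullback Y.hom Y.hom) z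
      let s := φ ≫ pullback.fst Y.hom Y.hom
      haveI : Finite (FEt.fiberObj (s ≫ Y.hom) Y) := Groth.Agent.FEtQuot.finite_points Y.hom (s ≫ Y.hom)
      obtain ⟨g, hg⟩ := (Nat.bijective_iff_injective_and_card (S s)).2 ⟨hS s, hcard.trans (hn Ω _).symm⟩ |>.2
        ⟨φ ≫ pullback.snd Y.hom Y.hom, by simp only [s, Category.assoc, pullback.condition]⟩
      have hg' : s ≫ (ρ g).hom.left = φ ≫ pullback.snd Y.hom Y.hom := congrArg Subtype.val hg
      have hφ : (s ≫ Sigma.ι (fun _ : G => Y.left) g) ≫ Φ = φ := by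
        apply pullback.hom_ext
        · simp only [Category.assoc, h1, Category.comp_id]; rfl
        · simp only [Category.assoc, h2]; exact hg'
      refine ⟨(s ≫ Sigma.ι (fun _ : G => Y.left) g) (IsLocalRing.closedPoint Ω), ?_⟩
      rw [← Scheme.Hom.comp_apply, hφ]
      exact hφz _
    haveI : Epi Φ.base := (TopCat.epi_iff_surjective _).mpr Φ.surjective
    exact IsOpenImmersion.isIso Φ
  · intro hΦ
    obtain ⟨Ω, _, _, s, -⟩ := geo (Classical.arbitrary _)
    rw [← hn Ω (s ≫ Y.hom)]
    refine Nat.card_eq_of_bijective (S s) ⟨hS s, fun t => ?_⟩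
    obtain ⟨g, a, ha⟩ := exists_sigmaι_lift (pullback.lift s t.1 t.2.symm ≫ inv Φ)
    have e : a ≫ Sigma.ι (fun _ : G => Y.left) g ≫ Φ = pullback.lift s t.1 t.2.symm := by
      rw [← Category.assoc, ha, Category.assoc, IsIso.inv_hom_id, Category.comp_id]
    have ea : a = s := by
      simpa only [Category.assoc, h1, Category.comp_id, pullback.lift_fst] using congrArg (· ≫ pullback.fst Y.hom Y.hom) e
    refine ⟨g, Subtype.ext ?_⟩
    show s ≫ (ρ g).hom.left = t.1
    simpa only [ea, Category.assoc, h2, pullback.lift_snd] using congrArg (· ≫ pullback.snd Y.hom Y.hom) e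

end Groth.Agent.S14460
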