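import Groth.Statements.S14461
import Groth.Agent.FEtStein.CoupleEt
import Groth.Agent.Et18.SepPointOpen
-- import your own Groth.Agent.* helpers here

set_option autoImplicit false
universe u
open CategoryTheory CategoryTheory.Limits AlgebraicGeometry
open Pi1

set_option backward.isDefEq.respectTransparency.types false
set_option backward.isDefEq.respectTransparency false
set_option linter.style.haveILetI false

namespace Groth.Agent.S14461

/-- Let X be a Noetherian scheme and X₀ → X a closed immersion such that, for every finite étale Y → X,
the projection Y ×_X X₀ → Y induces a bijection on connected components. Then restriction of finite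
étale covers from X to X₀ is full and faithful. -/
theorem result {X X₀ : Scheme.{u}} [IsNoetherian X]
    (i : X₀ ⟶ X) [IsClosedImmersion i]
    (h : ∀ Y : FEt.Cat X, Function.Bijective (pullback.fst Y.hom i).continuous.connectedComponentsMap) :
    (FEt.restrict i).Full ∧ (FEt.restrict i).Faithful := by
  refine FEtStein.Et.restrict_full_faithful_of_couple i fun Z g hg hg' V hV => ?_
  haveI := hg
  haveI : IsFinite (pullback.snd g i) := MorphismProperty.pullback_snd _ _ hg
  haveI : CompactSpace Z := QuasiCompact.compactSpace_of_compactSpace g
  haveI : IsNoetherian Z := { __ := LocallyOfFiniteType.isLocallyNoetherian g }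
  haveI : DiscreteTopology (_root_.ConnectedComponents Z) :=
    ConnectedComponents.discreteTopology_iff.mpr Et18.SepPointOpen.isOpen_connectedComponent'
  have hb : Function.Bijective (pullback.fst g i).continuous.connectedComponentsMap := by
    let W : FEt.Cat X := MorphismProperty.Over.mk _ g ⟨hg, hg'⟩
    exact h W
  let ρ := (pullback.fst g i).continuous.connectedComponentsMap
  refine ⟨ConnectedComponents.mk ⁻¹' (ρ '' (ConnectedComponents.mk '' V)), ⟨?_, ?_⟩, ?_⟩
  · exact (isClopen_discrete _).preimage ConnectedComponents.continuous_coe
  · ext w
    simp only [Set.mem_preimage, Set.mem_image]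
    constructor
    · rintro ⟨_, ⟨v, hv, rfl⟩, e⟩
      have e' : (ConnectedComponents.mk v : _root_.ConnectedComponents _) = ConnectedComponents.mk w := hb.1 e
      rw [ConnectedComponents.coe_eq_coe'] at e'
      exact hV.connectedComponent_subset hv (connectedComponent_eq e' ▸ mem_connectedComponent)
    · exact fun hw => ⟨_, ⟨w, hw, rfl⟩, rfl⟩
  · rintro U ⟨hU, hUV⟩
    ext z
    simp only [Set.mem_preimage, Set.mem_image]
    constructor
    · intro hz
      obtain ⟨c, hc⟩ := hb.2 (ConnectedComponents.mk z)
      obtain ⟨w, rfl⟩ := ConnectedComponents.surjective_coe c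
      refine ⟨_, ⟨w, ?_, rfl⟩, hc⟩
      rw [← hUV]
      exact hU.connectedComponent_subset hz (ConnectedComponents.coe_eq_coe'.mp hc)
    · rintro ⟨_, ⟨v, hv, rfl⟩, e⟩
      rw [← hUV] at hv
      exact hU.connectedComponent_subset hv (ConnectedComponents.coe_eq_coe'.mp e.symm)

end Groth.Agent.S14461
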