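import Groth.Statements.S14462
import Groth.Agent.PurityFlat.Algebra
import Mathlib.RingTheory.Etale.Locus
import Mathlib.AlgebraicGeometry.Morphisms.Etale
import Mathlib.AlgebraicGeometry.Morphisms.Finite
import Mathlib.AlgebraicGeometry.Noetherian

set_option autoImplicit false
universe u
open CategoryTheory AlgebraicGeometry
open Unram

namespace Groth.Agent.S14462
open CategoryTheory AlgebraicGeometry

/-- Let f : X → Y be finite and flat with Y locally Noetherian, and let U ⊆ Y be open with every point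
of the complement having a local ring of Krull dimension at least 2. If f is étale over U, then f is
étale. -/
theorem result {X Y : Scheme.{u}} [IsLocallyNoetherian Y]
    (f : X ⟶ Y) [IsFinite f] [Flat f] (U : Y.Opens)
    (hU : ∀ y : Y, y ∉ U → (2 : WithBot ℕ∞) ≤ ringKrullDim (Y.presheaf.stalk y))
    [Etale (f ∣_ U)] : Etale f := by
  rw [HasRingHomProperty.iff_exists_appLE (P := @Etale) (RingHom.Etale.stableUnderComposition.stableUnderCompositionWithLocalizationAway
    (fun {A B} _ _ _ r _ => RingHom.etale_algebraMap.mpr (Algebra.Etale.of_isLocalizationAway r))).1]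
  intro x
  obtain ⟨W, hW, hxW, -⟩ := exists_isAffineOpen_mem_and_subset (x := f x) (U := ⊤) trivial
  have hV : IsAffineOpen (f ⁻¹ᵁ W) := hW.preimage f
  refine ⟨⟨W, hW⟩, ⟨_, hV⟩, hxW, le_rfl, ?_⟩
  haveI : IsNoetherianRing Γ(Y, W) := IsLocallyNoetherian.component_noetherian ⟨W, hW⟩
  have h1 : (f.appLE W (f ⁻¹ᵁ W) le_rfl).hom.Finite := by rw [← Scheme.Hom.app_eq_appLE]; exact f.finite_app W hW
  have h2 : (f.appLE W (f ⁻¹ᵁ W) le_rfl).hom.Flat :=
    HasRingHomProperty.appLE @Flat f inferInstance ⟨W, hW⟩ ⟨_, hV⟩ le_rfl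
  show (f.appLE W (f ⁻¹ᵁ W) le_rfl).hom.Etale
  algebraize [(f.appLE W (f ⁻¹ᵁ W) le_rfl).hom]
  refine RingHom.etale_algebraMap.mpr
    (Groth.Agent.PurityFlat.etale_of_purity {P | hW.fromSpec P ∈ U} ?_ ?_)
  · intro P hP
    obtain ⟨a, haU, haP⟩ := hW.exists_basicOpen_le ⟨hW.fromSpec P, hP⟩
      (hW.range_fromSpec.le ⟨P, rfl⟩)
    have haP' : a ∉ P.asIdeal := by
      have : P ∈ hW.fromSpec ⁻¹ᵁ Y.basicOpen a := haP
      rwa [hW.fromSpec_preimage_basicOpen] at this
    let B := Γ(X, f ⁻¹ᵁ W)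
    let s : B := algebraMap Γ(Y, W) B a
    have hb : f ⁻¹ᵁ Y.basicOpen a = X.basicOpen s := by
      rw [Scheme.preimage_basicOpen, Scheme.Hom.app_eq_appLE]; rfl
    haveI : Algebra.FormallyUnramified Γ(Y, W) (Localization.Away s) := by
      have hg : Etale ((f ⁻¹ᵁ U).ι ≫ f) := by rw [← morphismRestrict_ι]; infer_instance
      have hle : X.basicOpen s ≤ f ⁻¹ᵁ Y.basicOpen a := hb.ge
      have hleU : X.basicOpen s ≤ f ⁻¹ᵁ U := fun z hz => haU (hle hz)
      have h0 := ((f ⁻¹ᵁ U).ι ≫ f).etale_appLE (hW.basicOpen a)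
        ((hV.basicOpen s).preimage_of_isOpenImmersion (f ⁻¹ᵁ U).ι (by rw [(f ⁻¹ᵁ U).opensRange_ι]; exact hleU))
        (fun z hz => hle hz)
      rw [← Scheme.Hom.appLE_comp_appLE (f ⁻¹ᵁ U).ι f (Y.basicOpen a) (X.basicOpen s) _ hle le_rfl] at h0
      haveI : IsIso ((f ⁻¹ᵁ U).ι.appLE (X.basicOpen s) ((f ⁻¹ᵁ U).ι ⁻¹ᵁ X.basicOpen s) le_rfl) := by
        rw [← Scheme.Hom.app_eq_appLE]
        exact (f ⁻¹ᵁ U).ι.isIso_app _ (by rw [(f ⁻¹ᵁ U).opensRange_ι]; exact hleU)
      have h3 := ((RingHom.Etale.respectsIso.cancel_right_isIso _ _).mp h0).formallyUnramified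
      haveI := hW.isLocalization_basicOpen a
      haveI := hV.isLocalization_basicOpen s
      letI : Algebra Γ(Y, W) Γ(X, X.basicOpen s) :=
        (f.appLE W (X.basicOpen s) ((X.basicOpen_le s).trans le_rfl)).hom.toAlgebra
      haveI : IsScalarTower Γ(Y, W) B Γ(X, X.basicOpen s) :=
        IsScalarTower.of_algebraMap_eq' (congrArg CommRingCat.Hom.hom (Scheme.Hom.appLE_map f le_rfl (homOfLE (X.basicOpen_le s)).op).symm)
      have h4 : (f.appLE W (X.basicOpen s) ((X.basicOpen_le s).trans le_rfl)).hom.FormallyUnramified := by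
        rw [show f.appLE W (X.basicOpen s) ((X.basicOpen_le s).trans le_rfl) =
          Y.presheaf.map (homOfLE (Y.basicOpen_le a)).op ≫ f.appLE (Y.basicOpen a) (X.basicOpen s) hle from
          (Scheme.Hom.map_appLE f hle (homOfLE (Y.basicOpen_le a)).op).symm]
        exact RingHom.FormallyUnramified.stableUnderComposition _ _
          (RingHom.FormallyUnramified.holdsForLocalizationAway _ a) h3
      haveI : Algebra.FormallyUnramified Γ(Y, W) Γ(X, X.basicOpen s) := h4
      exact Algebra.FormallyUnramified.of_equiv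
        ((IsLocalization.algEquiv (Submonoid.powers s) Γ(X, X.basicOpen s) (Localization.Away s)).restrictScalars Γ(Y, W))
    exact Groth.Agent.PurityFlat.geomRed_of_away a haP'
  · intro P hP
    have hmem : hW.fromSpec P ∈ W := hW.range_fromSpec.le ⟨P, rfl⟩
    letI : Algebra Γ(Y, W) (Y.presheaf.stalk (hW.fromSpec P)) := TopCat.Presheaf.algebra_section_stalk Y.presheaf ⟨_, hmem⟩
    haveI : IsLocalization.AtPrime (Y.presheaf.stalk (hW.fromSpec P)) P.asIdeal := hW.isLocalization_stalk' P hmem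
    have := hU _ hP
    rw [IsLocalization.AtPrime.ringKrullDim_eq_height P.asIdeal (Y.presheaf.stalk (hW.fromSpec P))] at this
    exact WithBot.coe_le_coe.mp this

end Groth.Agent.S14462
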