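import Groth.Statements.S14466
import Groth.Agent.S0147
import Groth.Agent.Desc19b.EtQCoh.AffineAcyclic
import Groth.Agent.DCat.CohDimShift
import Groth.Agent.AlgSpLib.FibreDimChart
import Groth.Agent.CommAlg6.DimMaps
import Groth.Agent.Et18.AcyclicComp
import Groth.Agent.Et18.TorsionColim
import Groth.Agent.Et18.StrictlyHenselBase
-- import your own Groth.Agent.* helpers here

set_option autoImplicit false
universe u
open CategoryTheory CategoryTheory.Limits AlgebraicGeometry Opposite
open EtZar

namespace Groth.Agent.S14466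

lemma isSepClosed_of_equiv {E F : Type u} [Field E] [Field F] (e : E ≃+* F) [IsSepClosed E] :
    IsSepClosed F := by
  refine IsSepClosed.of_exists_root F fun p _ hirr hsep => ?_
  obtain ⟨x, hx⟩ := IsSepClosed.exists_root (p.map e.symm.toRingHom)
    (by rw [Polynomial.degree_map]; exact hirr.degree_pos.ne') (hsep.map)
  refine ⟨e x, ?_⟩
  have h1 := congrArg e hx
  rw [Polynomial.eval_map, map_zero] at h1
  have h2 := Polynomial.hom_eval₂ p e.symm.toRingHom e.toRingHom x
  rw [show e.toRingHom.comp e.symm.toRingHom = RingHom.id F from RingHom.ext e.apply_symm_apply] at h2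
  rw [← Polynomial.eval₂_id]
  exact h2.symm.trans h1

/-- Let k be a separably closed field, C a scheme of finite type over k of dimension at most one, and F
a torsion abelian étale sheaf on C. Then R^i ζ_* F = 0 for all i > 1, where ζ_* restricts étale
sheaves to the Zariski site of C. (The published statement is for curves, i.e. dimension exactly
one; dimension at most one is allowed here.) -/
theorem result (k : Type u) [Field k] [IsSepClosed k]
    (C : Scheme.{u}) (f : C ⟶ Spec (CommRingCat.of k)) [LocallyOfFiniteType f] [QuasiCompact f]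
    (hdim : topologicalKrullDim C ≤ 1) [EtZar.ZarCont C] [(EtZar.resZar C).Additive]
    (F : EtCoh.Ab C) (hF : EtCoh.IsTorsion F) (i : ℕ) (hi : 1 < i) :
    IsZero (((EtZar.resZar C).rightDerived i).obj F) := by
  obtain ⟨q, rfl⟩ : ∃ q, i = q + 1 + 1 := ⟨i - 2, by omega⟩
  have hk : EtCoh.CohDimLE (Spec (CommRingCat.of k)) 0 := by
    intro G hG n hn
    obtain ⟨m, rfl⟩ : ∃ m, n = m + 1 := ⟨n - 1, by omega⟩
    haveI : IsSepClosed (IsLocalRing.ResidueField k) :=
      isSepClosed_of_equiv
        (RingEquiv.ofBijective _ ⟨(IsLocalRing.residue k).injective, Ideal.Quotient.mk_surjective⟩)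
    exact Groth.Agent.Et18.subsingleton_H_of_integral (𝟙 (Spec (CommRingCat.of k))) G m
  have hT : ∀ T : C.Etale, IsAffine T.left → ∀ n : ℕ,
      Subsingleton (EtCoh.H T.left ((EtCoh.pull T.hom).obj F) (n + 1 + 1)) := fun T hTa n => by
    haveI : Etale T.hom := T.prop
    haveI : LocallyQuasiFinite T.hom := inferInstance
    have hd : topologicalKrullDim T.left ≤ 1 :=
      (Groth.Agent.AlgSpLib.topologicalKrullDim_le_of_strict T.hom.continuous fun a b hab he =>
        Groth.Agent.CommAlg6.eq_of_specializes_of_locallyQuasiFinite T.hom hab he).trans hdim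
    refine Groth.Agent.S0147.result k T.left (T.hom ≫ f) 0 hd hk _ ?_ _ (by omega)
    rw [Groth.Agent.Et18.TorsionColim.isTorsion_iff] at hF ⊢
    exact Groth.Agent.Et18.AcyclicComp.isLTorsion_pull T.hom _ hF
  let S := Groth.Agent.SiteCoh.injEmbed F
  have hS := Groth.Agent.SiteCoh.injEmbed_shortExact F
  haveI : Injective S.X₂ := inferInstanceAs (Injective (Injective.under F))
  have hQ : Groth.Agent.Desc19b.EtQCoh.AffAcyclic S.X₃ := fun T hTa n => by
    let c := (constantSheaf T.left.smallEtaleTopology AddCommGrpCat.{u + 1}).obj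
      (AddCommGrpCat.of (ULift.{u + 1} ℤ))
    exact @Function.Injective.subsingleton _ _ _
      (Groth.Agent.Desc19b.EtQCoh.connect_bijective c (Groth.Agent.Desc19b.EtQCoh.shortExact_pull T hS) (n + 1)
        (Groth.Agent.Desc19b.EtQCoh.subsingleton_H_pull_injective T _ n)
        (Groth.Agent.Desc19b.EtQCoh.subsingleton_H_pull_injective T _ (n + 1))).1 (hT T hTa n)
  exact Groth.Agent.DCat.CohDimShift.isZero_rightDerived_X₁ hS (q + 1)
    (Groth.Agent.Desc19b.EtQCoh.isZero_rightDerived_resZar_of_affAcyclic hQ q)
    (Functor.isZero_rightDerived_obj_injective_succ _ (q + 1) _)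

end Groth.Agent.S14466
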