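import Groth.Statements.S14471
import Groth.Agent.Clifford24.Orders
import Groth.Agent.Clifford24.Main

set_option autoImplicit false
universe u
open CategoryTheory CategoryTheory.Limits AlgebraicGeometry
open Curves

namespace Groth.Agent.S14471

/-- Let k be an algebraically closed field, C a smooth proper curve over k (proper and smooth over k,
integral, of dimension one), (L, s_0, …, s_r) a linear series g^r_d on C (L an invertible module of
degree d with k-linearly independent global sections s_0, …, s_r spanning a subspace V of Γ(C, L))
and p a closed point of C. For a nonzero σ ∈ V write ord_p σ for the length of the O_{C,p}-module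
L_p/(σ_p), the order of vanishing of σ at p. Then σ ↦ ord_p σ takes exactly r + 1 distinct values on
V minus 0. (The published statement is for a smooth projective curve over the complex numbers and a
complex point p; this row states it over any algebraically closed field.) -/
theorem result (k : Type u) [Field k] [IsAlgClosed k]
    (C : Scheme.{u}) [C.Over (Spec (CommRingCat.of k))] (hC : Curve.IsSmoothProperCurve k C (C ↘ (Spec (CommRingCat.of k))))
    (L : C.Modules) (d r : ℕ) (s : Fin (r + 1) → LinSer.Sect C L) (hL : LinSer.IsLinSer k C L d r s)
    (p : C) (hp : IsClosed ({p} : Set C)) :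
    Set.ncard ((fun c : Fin (r + 1) → k =>
        Module.length (C.presheaf.stalk p)
          (↥(L.presheaf.stalk p) ⧸ Submodule.span (C.presheaf.stalk p)
            {(L.presheaf.germ ⊤ p trivial) (∑ i, (Coh.toGlobal (C ↘ Spec (CommRingCat.of k)) (c i)) • s i)})) ''
        {c : Fin (r + 1) → k | c ≠ 0}) = r + 1 := by
  obtain ⟨hp', hs', hi, hdim⟩ := hC
  haveI := hp'; haveI := hs'; haveI := hi
  haveI : GeometricallyConnected (C ↘ Spec (CommRingCat.of k)) :=
    Groth.Agent.SGA3cLib.CentralDescent.geometricallyConnected_of_isAlgClosed _
  haveI : GeometricallyIntegral (C ↘ Spec (CommRingCat.of k)) :=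
    Groth.Agent.AbVarLib.geometricallyIntegral_of_smooth _
  haveI := Groth.Agent.EulerLib.isNoetherian_of_proper k (X := C)
  haveI := Groth.Agent.CurvesLib24.isPrincipalIdealRing_stalk hdim.le p
    (Groth.Agent.Clifford24.isIntegrallyClosed_stalk_of_smooth k p)
  haveI : IsDiscreteValuationRing (C.presheaf.stalk p) :=
    { not_a_field' := fun h => by
        have h1 := Groth.Agent.CurveRR24.stalk_dim_eq_one hdim hp
        rw [ringKrullDim_eq_zero_of_isField (IsLocalRing.isField_iff_maximalIdeal_eq.2 h)] at h1
        exact zero_ne_one h1 }
  exact Groth.Agent.Clifford24.ncard_orders k hL.1 s hL.2.2 p hp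

end Groth.Agent.S14471
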