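import Groth.Statements.S14472
import Groth.Agent.Desc24.Towers
import Groth.Agent.S7198

-- import your own Groth.Agent.* helpers here

set_option autoImplicit false
universe u
open CategoryTheory CategoryTheory.Limits AlgebraicGeometry
open Curves

set_option backward.isDefEq.respectTransparency.types false
set_option linter.style.haveILetI false
set_option backward.isDefEq.respectTransparency false
set_option backward.isDefEq.respectTransparency.types false
set_option maxHeartbeats 1000000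
open Groth.Agent Groth.Agent.Desc19b Desc
namespace Groth.Agent.S14472

/-- Let p : S' → S be flat, surjective and locally of finite presentation (an fppf cover), and let D be
a descent datum relative to p, in functor-of-points form, on an S'-scheme C → S' which is proper and
smooth with geometrically connected fibres of dimension one and genus g ≠ 1 (g the dimension of H¹
of the structure sheaf of each fibre over its residue field). Then D is effective: D is isomorphic
to the canonical descent datum of some scheme over S. (This is the effectivity half of the statement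
that families of smooth genus-g curves, g ≠ 1, form a stack for the fppf topology; the other half,
that isomorphisms between two families form a sheaf, is not restated.) -/
theorem result {S' S : Scheme.{u}} (p : S' ⟶ S)
    [Flat p] [Surjective p] [LocallyOfFinitePresentation p] (D : Desc.SchDD p)
    [IsProper D.obj.hom] [Smooth D.obj.hom] [GeometricallyConnected D.obj.hom]
    (hdim : ∀ s : S', topologicalKrullDim ↥(D.obj.hom.fiber s) = 1) (g : ℕ) (hg : g ≠ 1)
    (hgen : ∀ s : S', letI : (D.obj.hom.fiber s).Over (Spec (S'.residueField s)) := ⟨D.obj.hom.fiberToSpecResidueField s⟩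
      Curv2.genus (S'.residueField s) (D.obj.hom.fiber s) = g) :
    ∃ W : Over S, Nonempty ((Desc.toDD p).obj W ≅ D) := by
  classical
  obtain ⟨b, hb⟩ := Desc24.exists_hasAmpleOmega D.obj.hom hdim g hg hgen
  let E : SchDDFam (fun _ : PUnit.{u + 1} => p) := (SchDDFam.ofSchDD p).obj D
  let 𝒰 : PreZeroHypercover.{u} S := PreZeroHypercover.mk PUnit.{u + 1} (fun _ => S') (fun _ => p)
  choose U W π hs hπ hπs hW using fun s : S => Groth.Agent.S7198.result 𝒰 (fun _ => inferInstanceAs (Flat p))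
    (fun _ => inferInstanceAs (LocallyOfFinitePresentation p))
    (fun s => ⟨⟨⟩, (p.surjective s).choose, (p.surjective s).choose_spec⟩) s
  choose W' T ρ hi r hw hρ hρs hr using hW
  let ιT : Type u := (s : S) × (W s)
  let TT : ιT → Scheme.{u} := fun i => T i.1 i.2
  let N : ιT → Scheme.{u} := fun i => (W' i.1 i.2).toScheme
  let vU : ∀ s : S, (U s).toScheme ⟶ S := fun s => (U s).ι
  let vM : ∀ s : S, W s ⟶ S := fun s => π s ≫ (U s).ι
  let vN : ∀ i : ιT, N i ⟶ S := fun i => (W' i.1 i.2).ι ≫ π i.1 ≫ (U i.1).ι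
  let uT : ∀ i : ιT, TT i ⟶ S := fun i => ρ i.1 i.2 ≫ (W' i.1 i.2).ι ≫ π i.1 ≫ (U i.1).ι
  let gT : ∀ i : ιT, TT i ⟶ S' := fun i => r i.1 i.2
  let gN : ∀ i : ιT, TT i ⟶ N i := fun i => ρ i.1 i.2
  let gM : ∀ i : ιT, N i ⟶ W i.1 := fun i => (W' i.1 i.2).ι
  have wT : ∀ i, gT i ≫ p = uT i := fun i => hr i.1 i.2
  have wN : ∀ i, gN i ≫ vN i = uT i := fun i => rfl
  have wM : ∀ i, gM i ≫ vM i.1 = vN i := fun i => rfl
  have wU : ∀ s, π s ≫ vU s = vM s := fun s => rfl
  -- the finest level
  let DT := PullRefine.PD (v := fun _ : PUnit.{u + 1} => p) (α := fun _ => ⟨⟩) (g := gT) wT E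
  have hT : ∀ i, Desc24.HasAmpleOmega b (DT.obj i).hom := fun i =>
    hb.baseChange (IsPullback.of_hasPullback D.obj.hom (gT i))
  -- descend along the finite locally free maps to the opens
  obtain ⟨DN, ⟨eN⟩⟩ := Desc24.Refine.exists_preimage (α := fun i : ιT => i) (g := gN) wN
    (fun j => Desc24.mem_singleton j (hρ j.1 j.2) (hρs j.1 j.2)) DT
    (fun j => Desc24.isEffective_restr wN DT j (hρ j.1 j.2) (hρs j.1 j.2) (hT j))
  have hN : ∀ i, Desc24.HasAmpleOmega b (DN.obj i).hom := fun i => by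
    haveI := (hρ i.1 i.2).1
    haveI := (hρ i.1 i.2).2.1
    haveI := hρs i.1 i.2
    exact Desc24.HasAmpleOmega.descend (gN i) (Desc24.HasAmpleOmega.of_PD_iso wN eN i (hT i))
  -- glue on each finite cover
  obtain ⟨DM, ⟨eM⟩⟩ := ZariskiRefine.exists_preimage (α := fun i : ιT => i.1) (g := gM) wM (fun s => by
    rw [Scheme.zariskiPrecoverage]
    refine (Scheme.presieve₀_mem_precoverage_iff (PreZeroHypercover.mk _ _ (ZariskiRefine.gj gM s))).2 ⟨fun z => ?_, ?_⟩
    · refine ⟨⟨⟨s, z⟩, rfl⟩, ⟨z, hw s z⟩, ?_⟩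
      simp [ZariskiRefine.gj, gM]
      rfl
    · rintro ⟨i, rfl⟩
      show IsOpenImmersion (gM i ≫ eqToHom _)
      simp only [eqToHom_refl, Category.comp_id]
      exact inferInstanceAs (IsOpenImmersion (W' i.1 i.2).ι)) DN
  have hM : ∀ s, Desc24.HasAmpleOmega b (DM.obj s).hom := fun s => by
    refine Desc24.HasAmpleOmega.of_openCover (fun z : W s => W' s z)
      (top_le_iff.1 fun z _ => TopologicalSpace.Opens.mem_iSup.2 ⟨z, hw s z⟩) fun z => ?_
    exact Desc24.HasAmpleOmega.of_PD_iso wM eM ⟨s, z⟩ (hN ⟨s, z⟩)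
  -- descend to the opens of the base
  obtain ⟨DU, ⟨eU⟩⟩ := Desc24.Refine.exists_preimage (α := fun s : S => s) (g := π) wU
    (fun j => Desc24.mem_singleton j (hπ j) (hπs j)) DM
    (fun j => Desc24.isEffective_restr wU DM j (hπ j) (hπs j) (hM j))
  obtain ⟨C, ⟨eC⟩⟩ := isEffective_of_zariski (f := vU) (by
    rw [Scheme.zariskiPrecoverage]
    exact (Scheme.presieve₀_mem_precoverage_iff (PreZeroHypercover.mk _ _ vU)).2
      ⟨fun s => ⟨s, ⟨s, hs s⟩, rfl⟩, fun s => inferInstanceAs (IsOpenImmersion (U s).ι)⟩) DU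
  -- compare
  obtain ⟨cU⟩ := Desc24.nonempty_PD_canonical (α := fun s : S => s) (g := π) wU C
  obtain ⟨cM⟩ := Desc24.nonempty_PD_canonical (α := fun i : ιT => i.1) (g := gM) wM C
  obtain ⟨cN⟩ := Desc24.nonempty_PD_canonical (α := fun i : ιT => i) (g := gN) wN C
  obtain ⟨cT⟩ := Desc24.nonempty_PD_canonical (v := fun _ : PUnit.{u + 1} => p) (α := fun _ => ⟨⟩) (g := gT) wT C
  let iM : (toDDFam vM).obj C ≅ DM := cU.symm ≪≫ (pullDDFam _).mapIso eC ≪≫ eU
  let iN : (toDDFam vN).obj C ≅ DN := cM.symm ≪≫ (pullDDFam _).mapIso iM ≪≫ eM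
  let iT : (toDDFam uT).obj C ≅ DT := cN.symm ≪≫ (pullDDFam _).mapIso iN ≪≫ eN
  have hmem : Presieve.ofArrows TT uT ∈ Scheme.fppfPrecoverage S := by
    rw [Scheme.fppfPrecoverage]
    refine (Scheme.presieve₀_mem_precoverage_iff (PreZeroHypercover.mk _ _ uT)).2 ⟨fun s => ?_, fun i => ?_⟩
    · haveI := hπs s
      obtain ⟨z, hz⟩ := (π s).surjective ⟨s, hs s⟩
      haveI := hρs s z
      obtain ⟨t, ht⟩ := (ρ s z).surjective ⟨z, hw s z⟩
      refine ⟨⟨s, z⟩, t, ?_⟩
      show (U s).ι (π s ((W' s z).ι (ρ s z t))) = s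
      rw [ht]
      exact congrArg Subtype.val hz
    · haveI := (hπ i.1).2.1
      haveI := (hπ i.1).2.2
      haveI := (hρ i.1 i.2).2.1
      haveI := (hρ i.1 i.2).2.2
      exact ⟨inferInstanceAs (Flat (ρ i.1 i.2 ≫ (W' i.1 i.2).ι ≫ π i.1 ≫ (U i.1).ι)),
        inferInstanceAs (LocallyOfFinitePresentation (ρ i.1 i.2 ≫ (W' i.1 i.2).ι ≫ π i.1 ≫ (U i.1).ι))⟩
  obtain ⟨h1, h2⟩ := PullRefine.sep_glue_of_cover (v := fun _ : PUnit.{u + 1} => p) (u₀ := uT)
    (fun _ (i : ιT) => pullback.fst p (uT i)) (fun _ i => i) (fun _ i => pullback.snd p (uT i))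
    (fun _ i => pullback.condition)
    (fun _ => Precoverage.mem_coverings_of_isPullback uT (Scheme.fppfPrecoverage_le_fpqcPrecoverage _ hmem) p _
      (fun i => pullback.snd p (uT i)) fun i => IsPullback.of_hasPullback p (uT i))
  haveI := PullRefine.full (v := fun _ : PUnit.{u + 1} => p) (α := fun _ => ⟨⟩) (g := gT) wT h1 h2
  haveI := PullRefine.faithful (v := fun _ : PUnit.{u + 1} => p) (α := fun _ => ⟨⟩) (g := gT) wT h1
  exact ⟨C, ⟨(SchDDFam.toSchDD p).mapIso (Functor.preimageIso _ (cT ≪≫ iT : _ ≅ DT))⟩⟩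

end Groth.Agent.S14472
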