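import Groth.Statements.S14473
import Groth.Agent.Hyper24.Pencil
import Groth.Agent.FF.GenusOneSwap
-- import your own Groth.Agent.* helpers here

set_option autoImplicit false
universe u
open CategoryTheory CategoryTheory.Limits AlgebraicGeometry
open Curves

namespace Groth.Agent.S14473

set_option backward.isDefEq.respectTransparency.types false
set_option maxHeartbeats 1000000
open Groth.Agent
attribute [local instance] Curv2.stalkAlgebra

/-- Let k be an algebraically closed field and C a smooth proper connected curve over k (proper and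
smooth over k, integral, of dimension one) of genus 1, the genus being the dimension of H¹(C, O_C).
Then the group of k-automorphisms of C is infinite: there are infinitely many automorphisms of the
scheme C over Spec k. -/
theorem result (k : Type u) [Field k] [IsAlgClosed k]
    (C : Scheme.{u}) [C.Over (Spec (CommRingCat.of k))] (hC : Curve.IsSmoothProperCurve k C (C ↘ (Spec (CommRingCat.of k))))
    (hg : Curv2.genus k C = 1) :
    Infinite {e : C ≅ C // e.hom ≫ (C ↘ (Spec (CommRingCat.of k))) = C ↘ (Spec (CommRingCat.of k))} := by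
  classical
  obtain ⟨hP, hS, hI, hdim⟩ := hC
  haveI := hP
  haveI := hS
  haveI := hI
  haveI := FBaseLib.geometricallyIrreducible_of_isAlgClosed (C ↘ Spec (CommRingCat.of k))
  haveI hCs : C.IsSeparated := ⟨by rw [← terminal.comp_from (C ↘ Spec (CommRingCat.of k))]; infer_instance⟩
  have hK := Zeta24.isFunctionField (k := k) hdim (hc := rfl)
  have hgK : FunFld.genus k C.functionField = 1 := (Zeta24.finrank_h1 hdim rfl hK).symm.trans hg
  obtain ⟨x, hx⟩ := FF.exists_transcendental hK
  choose P hP' using fun c : k => FF.exists_val_lt_one hK (z := x - algebraMap k C.functionField c)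
    (fun h => hx (by simpa using h.add (isAlgebraic_algebraMap c)))
  have hPinj : Function.Injective P := fun c d h => by
    by_contra hcd
    have h1 := hP' c
    rw [h] at h1
    have h3 := (P d).1.map_sub (x - algebraMap k C.functionField c) (x - algebraMap k C.functionField d)
    rw [show x - algebraMap k C.functionField c - (x - algebraMap k C.functionField d) =
      algebraMap k C.functionField (d - c) by rw [map_sub]; ring,
      FF.val_algebraMap _ (sub_ne_zero.mpr (Ne.symm hcd))] at h3
    exact absurd (h3.trans_lt (max_lt h1 (hP' d))) (lt_irrefl _)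
  have key : ∀ c : {c : k // c ≠ 0}, ∃ (φ : C.functionField ≃ₐ[k] C.functionField) (σ : C ≅ C)
      (e : σ.hom (genericPoint C) = genericPoint C), σ.hom ≫ (C ↘ Spec (CommRingCat.of k)) = C ↘ Spec (CommRingCat.of k) ∧
        (∀ z, Hyper24.genMap σ.hom e z = φ z) ∧ FF.pullPlace φ (P 0) = P c := fun c => by
    obtain ⟨φ, hφ⟩ := FF.exists_swap_of_ne hK hgK (fun h => c.2 (hPinj h).symm : P 0 ≠ P c)
    obtain ⟨σ, e, hσp, hσ⟩ := Hyper24.exists_hom_of_algEquiv (hdim := hdim) φ
    obtain ⟨τ, e', hτp, hτ⟩ := Hyper24.exists_hom_of_algEquiv (hdim := hdim) φ.symm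
    have e1 : (σ ≫ τ) (genericPoint C) = genericPoint C := by rw [Scheme.Hom.comp_apply, e, e']
    have e2 : (τ ≫ σ) (genericPoint C) = genericPoint C := by rw [Scheme.Hom.comp_apply, e', e]
    have h1 : σ ≫ τ = 𝟙 C := Hyper24.hom_ext_genMap (k := k) _ _ (by rw [Category.assoc, hτp, hσp]) (Category.id_comp _) e1 rfl
      (RingHom.ext fun z => by rw [Hyper24.genMap_comp_apply σ τ e e' e1, hτ, hσ, AlgEquiv.apply_symm_apply, Hyper24.genMap_id_apply])
    have h2 : τ ≫ σ = 𝟙 C := Hyper24.hom_ext_genMap (k := k) _ _ (by rw [Category.assoc, hσp, hτp]) (Category.id_comp _) e2 rfl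
      (RingHom.ext fun z => by rw [Hyper24.genMap_comp_apply τ σ e' e e2, hσ, hτ, AlgEquiv.symm_apply_apply, Hyper24.genMap_id_apply])
    exact ⟨φ, ⟨σ, τ, h1, h2⟩, e, hσp, hσ, hφ⟩
  choose φ σ e hσp hσ hφ using key
  haveI : Infinite {c : k // c ≠ 0} := Set.Infinite.to_subtype (Set.Finite.infinite_compl (Set.finite_singleton 0))
  refine Infinite.of_injective (fun c : {c : k // c ≠ 0} => (⟨σ c, hσp c⟩ : {e : C ≅ C // e.hom ≫ (C ↘ Spec (CommRingCat.of k)) = C ↘ Spec (CommRingCat.of k)})) fun c d h => ?_
  have hσeq : (σ c).hom = (σ d).hom := congrArg Iso.hom (congrArg Subtype.val h)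
  have hg' : ∀ (τ : C ⟶ C) (h' : τ (genericPoint C) = genericPoint C), τ = (σ d).hom →
      ∀ z, Hyper24.genMap τ h' z = φ d z := by
    rintro _ _ rfl z; exact hσ d z
  have hφeq : φ c = φ d := AlgEquiv.ext fun z => (hσ c z).symm.trans (hg' _ (e c) hσeq z)
  exact Subtype.ext (hPinj ((hφ c).symm.trans (by rw [hφeq, hφ d])))

end Groth.Agent.S14473
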