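import Groth.Statements.S14474
import Groth.Agent.NodeLib7.NodeOpen
import Groth.Agent.S19559
import Groth.Agent.SmoothLib.StalkCrit
-- import your own Groth.Agent.* helpers here

set_option autoImplicit false
set_option backward.isDefEq.respectTransparency false
universe u
open CategoryTheory CategoryTheory.Limits AlgebraicGeometry
open Curves

namespace Groth.Agent.S14474

/-- Let π : C → S be a proper, flat morphism of finite presentation all of whose fibres have every
irreducible component of dimension one (every geometric fibre is a curve). Then the set of points s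
of S such that the fibre C_s, as a scheme over κ(s), has at-worst-nodal singularities (each closed
point has a smooth open neighbourhood or is a node) is open in S. -/
theorem result {C S : Scheme.{u}} (π : C ⟶ S)
    [IsProper π] [Flat π] [LocallyOfFinitePresentation π]
    (hfib : ∀ s : S, ∀ Z ∈ irreducibleComponents (↥(π.fiber s) : Type u), topologicalKrullDim Z = 1) :
    IsOpen {s : S | letI : (π.fiber s).Over (Spec (S.residueField s)) := ⟨π.fiberToSpecResidueField s⟩
      Curv2.AtWorstNodal (S.residueField s) (π.fiber s)} := by
  have hG := Groth.Agent.S19559.result π hfib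
  set G := {p : C | (∃ U : C.Opens, p ∈ U ∧ Smooth (U.ι ≫ π)) ∨
      @Curv2.IsNode (S.residueField (π.base p)) _ (π.fiber (π.base p)) ⟨π.fiberToSpecResidueField (π.base p)⟩ (π.asFiber p)}
    with hGdef
  have node : ∀ (s : S) (z : ↥(π.fiber s)),
      @Curv2.IsNode (S.residueField s) _ (π.fiber s) ⟨π.fiberToSpecResidueField s⟩ z ↔
      @Curv2.IsNode (S.residueField (π.base (π.fiberι s z))) _ (π.fiber (π.base (π.fiberι s z)))
        ⟨π.fiberToSpecResidueField (π.base (π.fiberι s z))⟩ (π.asFiber (π.fiberι s z)) := fun s z =>
    (NodeLib7.isNodePt_iff_isNodeHom π s z).trans (NodeLib7.isNode_asFiber_iff π _).symm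
  have key : ∀ s : S, (letI : (π.fiber s).Over (Spec (S.residueField s)) := ⟨π.fiberToSpecResidueField s⟩;
      Curv2.AtWorstNodal (S.residueField s) (π.fiber s)) ↔ ∀ w : ↥(π.fiber s), π.fiberι s w ∈ G := by
    intro s
    constructor
    · intro h w
      haveI : CompactSpace ↥(π.fiber s) := inferInstance
      obtain ⟨z, hz, hzc⟩ := (isClosed_closure (s := ({w} : Set ↥(π.fiber s)))).exists_closed_singleton
        ⟨w, subset_closure rfl⟩
      have hwz : π.fiberι s w ⤳ π.fiberι s z :=
        (specializes_iff_mem_closure.2 hz).map (π.fiberι s).continuous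
      refine hwz.mem_open hG ?_
      rcases h z hzc with hs | hn
      · refine Or.inl ((SmoothLib.smooth_nhd_iff π _).2 (SmoothLib.formallySmooth_stalkMap_of_fibre π s z
          (Flat.stalkMap π _) ?_))
        obtain ⟨U, hzU, hU⟩ := hs
        haveI : Smooth (U.ι ≫ π.fiberToSpecResidueField s) := hU
        exact SmoothLib.formallySmooth_stalkMap_of_nhd _ hzU
      · exact Or.inr ((node s z).1 hn)
    · intro h z _
      rcases h z with hs | hn
      · exact Or.inl (SmoothLib.smooth_nhd_baseChange π (S.fromSpecResidueField s) (IsPullback.of_hasPullback _ _) z hs)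
      · exact Or.inr ((node s z).2 hn)
  have e : {s : S | letI : (π.fiber s).Over (Spec (S.residueField s)) := ⟨π.fiberToSpecResidueField s⟩
      Curv2.AtWorstNodal (S.residueField s) (π.fiber s)} = (π.base '' Gᶜ)ᶜ := by
    ext s
    refine (key s).trans ⟨fun h hs => ?_, fun h w => ?_⟩
    · obtain ⟨p, hp, rfl⟩ := hs
      exact hp (by simpa using h (π.asFiber p))
    · by_contra hw
      exact h ⟨_, hw, (π.range_fiberι s).le ⟨w, rfl⟩⟩
  rw [e, isOpen_compl_iff]
  exact π.isClosedMap _ hG.isClosed_compl

end Groth.Agent.S14474
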