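import Groth.Statements.S14476
import Groth.Agent.CommAlg4.TorSyz
import Groth.Agent.CommAlg4.SmoothFlatDim
-- import your own Groth.Agent.* helpers here

set_option autoImplicit false
universe u
open CategoryTheory CategoryTheory.Limits KaehlerDifferential
open LocInt

namespace Groth.Agent.S14476

section
set_option backward.isDefEq.respectTransparency false
open CommAlg4.TorSyz
open scoped TensorProduct

variable {B R : Type u} [CommRing B] [CommRing R] [Algebra B R] {g : B}
  (hsurj : Function.Surjective (algebraMap B R)) (hker : RingHom.ker (algebraMap B R) = Ideal.span {g})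

noncomputable def congrT {S : Type u} [CommRing S] (i : ℕ) {X Y : ModuleCat.{u} S} (e : X ≅ Y) (N : ModuleCat.{u} S) :
    T i X N ≅ T i Y N :=
  ((Tor (ModuleCat.{u} S) i).mapIso e).app N

theorem isZero_of_subsingleton {S : Type u} [CommRing S] (X : ModuleCat.{u} S) [Subsingleton X] (N : ModuleCat.{u} S) (i : ℕ) :
    IsZero (T i X N) := by
  let P := projectiveResolution N
  exact IsZero.of_iso ((HomologicalComplex.homologyFunctor (ModuleCat.{u} S) (ComplexShape.down ℕ) i).map_isZero
    ((C P).map_isZero (ModuleCat.isZero_of_subsingleton X))) (isoT P i X)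

include hker in
theorem g_smul_eq_zero {K : Type u} [AddCommGroup K] [Module B K] [Module R K] [IsScalarTower B R K] (x : K) :
    g • x = 0 := by
  rw [← algebraMap_smul R g x, RingHom.mem_ker.1 (hker.ge (Ideal.mem_span_singleton_self g)), zero_smul]

include hsurj in
theorem exists_one_tmul {X : Type u} [AddCommGroup X] [Module B X] (z : R ⊗[B] X) : ∃ x : X, (1 : R) ⊗ₜ[B] x = z := by
  induction z using TensorProduct.induction_on with
  | zero => exact ⟨0, TensorProduct.tmul_zero _ _⟩
  | tmul r x =>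
    obtain ⟨b, rfl⟩ := hsurj r
    exact ⟨b • x, by rw [← TensorProduct.smul_tmul, Algebra.algebraMap_eq_smul_one]⟩
  | add a b ha hb =>
    obtain ⟨x, rfl⟩ := ha
    obtain ⟨y, rfl⟩ := hb
    exact ⟨x + y, TensorProduct.tmul_add _ _ _⟩

include hsurj hker in
theorem one_tmul_eq_zero {X : Type u} [AddCommGroup X] [Module B X] {x : X} (h : (1 : R) ⊗ₜ[B] x = 0) :
    ∃ y : X, g • y = x := by
  let μ : B →ₗ[B] B := g • LinearMap.id
  have hex : Function.Exact μ (Algebra.linearMap B R) := fun b => by
    show algebraMap B R b = 0 ↔ _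
    rw [← RingHom.mem_ker, hker, Ideal.mem_span_singleton']
    exact ⟨fun ⟨c, hc⟩ => ⟨c, by simp [μ, ← hc, mul_comm]⟩, fun ⟨c, hc⟩ => ⟨c, by simp [μ, ← hc, mul_comm]⟩⟩
  obtain ⟨z, hz⟩ := (rTensor_exact X hex hsurj ((1 : B) ⊗ₜ[B] x)).1 (by
    rw [LinearMap.rTensor_tmul, Algebra.linearMap_apply, map_one]; exact h)
  refine ⟨TensorProduct.lid B X z, ?_⟩
  have h2 : ∀ z : B ⊗[B] X, TensorProduct.lid B X (μ.rTensor X z) = g • TensorProduct.lid B X z := fun z => by
    induction z using TensorProduct.induction_on with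
    | zero => simp
    | tmul a b => simp [μ, mul_smul]
    | add a b ha hb => simp [ha, hb]
  rw [← h2, hz, TensorProduct.lid_tmul, one_smul]

include hsurj hker in
theorem isZero_of_free (hg : IsSMulRegular B g) (F : ModuleCat.{u} R) [Module.Free R F] (N : ModuleCat.{u} B) {i : ℕ}
    (hi : 2 ≤ i) : IsZero (T i ((ModuleCat.restrictScalars.{u} (algebraMap B R)).obj F) N) := by
  classical
  obtain ⟨i, rfl⟩ := Nat.exists_eq_add_of_le hi
  let ι := Module.Free.ChooseBasisIndex R F
  let μ : (ι →₀ B) →ₗ[B] (ι →₀ B) := Finsupp.mapRange.linearMap (g • LinearMap.id)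
  let π : (ι →₀ B) →ₗ[B] (ι →₀ R) := Finsupp.mapRange.linearMap (Algebra.linearMap B R)
  have hgz : algebraMap B R g = 0 := RingHom.mem_ker.1 (hker.ge (Ideal.mem_span_singleton_self g))
  have hμπ : Function.Exact μ π := fun x => by
    constructor
    · intro hx
      have : ∀ k, ∃ c, g * c = x k := fun k => by
        have h1 : x k ∈ RingHom.ker (algebraMap B R) := DFunLike.congr_fun hx k
        rw [hker, Ideal.mem_span_singleton'] at h1
        obtain ⟨c, hc⟩ := h1
        exact ⟨c, by rw [mul_comm, hc]⟩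
      choose c hc using this
      refine ⟨Finsupp.onFinset x.support c fun k hk => Finsupp.mem_support_iff.2 fun h0 => hk (hg ?_), ?_⟩
      · show g * c k = g * 0
        rw [hc, h0, mul_zero]
      · ext k
        exact hc k
    · rintro ⟨y, rfl⟩
      ext k
      show algebraMap B R (g * y k) = 0
      rw [map_mul, hgz, zero_mul]
  have hμ : Function.Injective μ := fun x y h => Finsupp.ext fun k => hg (DFunLike.congr_fun h k)
  have hπ : Function.Surjective π := Finsupp.mapRange_surjective _ (map_zero _) hsurj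
  let S : ShortComplex (ModuleCat.{u} B) := ShortComplex.mk (ModuleCat.ofHom μ) (ModuleCat.ofHom π)
    (ModuleCat.hom_ext hμπ.linearMap_comp_eq_zero)
  have hS : S.ShortExact :=
    { exact := (ShortComplex.ShortExact.moduleCat_exact_iff_function_exact _).2 hμπ
      mono_f := (ModuleCat.mono_iff_injective _).2 hμ
      epi_g := (ModuleCat.epi_iff_surjective _).2 hπ }
  haveI : Module.Flat B S.X₁ := inferInstanceAs (Module.Flat B (ι →₀ B))
  haveI : Module.Flat B S.X₂ := inferInstanceAs (Module.Flat B (ι →₀ B))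
  have h3 := isZero_three S hS N (1 + i) (isZero_of_flat S.X₂ N (by omega)) (isZero_of_flat S.X₁ N (by omega))
  refine IsZero.of_iso (by rwa [show 1 + i + 1 = 2 + i by omega] at h3) (congrT _ ?_ N)
  let e := (Module.Free.chooseBasis R F).repr
  exact LinearEquiv.toModuleIso (X₁ := (ModuleCat.restrictScalars.{u} (algebraMap B R)).obj F)
    (X₂ := ModuleCat.of B (ι →₀ R))
    { e.toAddEquiv with map_smul' := fun b x => (e.map_smul (algebraMap B R b) x).trans (algebraMap_smul R b (e x)) }

include hsurj hker in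
theorem syz_vanish (hg : IsSMulRegular B g) {j : ℕ} {M K : ModuleCat.{u} R} (h : Syz j M K)
    (hM : ∀ (N : ModuleCat.{u} B) (i : ℕ), j + 1 < i →
      IsZero (T i ((ModuleCat.restrictScalars.{u} (algebraMap B R)).obj M) N)) :
    ∀ (N : ModuleCat.{u} B) (i : ℕ), 1 < i →
      IsZero (T i ((ModuleCat.restrictScalars.{u} (algebraMap B R)).obj K) N) := by
  induction h with
  | zero M => exact fun N i hi => hM N i (by omega)
  | @succ j M Z K F f g' w h hF hK ih =>
    refine ih fun N i hi => ?_
    obtain ⟨e⟩ := nonempty_shift ((ShortComplex.mk f g' w).map (ModuleCat.restrictScalars.{u} (algebraMap B R)))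
      (h.map_of_exact _) N i (isZero_of_free hsurj hker hg F N (by omega)) (isZero_of_free hsurj hker hg F N (by omega))
    exact IsZero.of_iso (hM N (i + 1) (by omega)) e.symm

include hsurj hker in
theorem periodic (hg : IsSMulRegular B g) (K : Type u) [AddCommGroup K] [Module B K] [Module R K] [IsScalarTower B R K]
    (hK : ∀ N : ModuleCat.{u} B, IsZero (T 2 (ModuleCat.of B K) N)) (N : ModuleCat.{u} R) {i : ℕ} (hi : 1 ≤ i) :
    Nonempty (T (i + 2) (ModuleCat.of R K) N ≅ T i (ModuleCat.of R K) N) := by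
  obtain ⟨K1, F0, f, q, w, h, hF⟩ := exists_free_cover (ModuleCat.of B K)
  have hex : Function.Exact f.hom q.hom := (ShortComplex.ShortExact.moduleCat_exact_iff_function_exact _).1 h.exact
  have hq : Function.Surjective q.hom := (ModuleCat.epi_iff_surjective _).1 h.epi_g
  have hj : Function.Injective f.hom := (ModuleCat.mono_iff_injective _).1 h.mono_f
  haveI : Module.Flat B K1 := flat_of_isZero K1 fun P => by
    obtain ⟨e⟩ := nonempty_shift _ h P 1 (isZero_of_flat F0 P (by norm_num)) (isZero_of_flat F0 P le_rfl)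
    exact IsZero.of_iso (hK P) e.symm
  let φ : F0 →ₗ[B] K1 := (LinearEquiv.ofInjective f.hom hj).symm.toLinearMap ∘ₗ
    (g • LinearMap.id : F0 →ₗ[B] F0).codRestrict (LinearMap.range f.hom) (fun y => (hex _).1 (by
      show q.hom (g • y) = 0
      rw [map_smul]; exact g_smul_eq_zero (R := R) hker (q.hom y : K)))
  have hφ : ∀ y, f.hom (φ y) = g • y := fun y => by
    show f.hom ((LinearEquiv.ofInjective f.hom hj).symm _) = _
    rw [← LinearEquiv.ofInjective_apply (h := hj) f.hom, LinearEquiv.apply_symm_apply]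
    rfl
  have h1g : ∀ {X : Type u} [AddCommGroup X] [Module B X] (x : X), (1 : R) ⊗ₜ[B] (g • x) = 0 := fun x => by
    rw [← TensorProduct.smul_tmul, g_smul_eq_zero (R := R) hker (1 : R), TensorProduct.zero_tmul]
  let h0 : F0 →ₗ[B] R ⊗[B] K1 := (TensorProduct.mk B R K1 1) ∘ₗ φ
  have hle : LinearMap.ker q.hom ≤ LinearMap.ker h0 := fun y hy => by
    obtain ⟨x, rfl⟩ := (hex y).1 hy
    have : φ (f.hom x) = g • x := hj (by rw [hφ, map_smul])
    show (1 : R) ⊗ₜ[B] φ (f.hom x) = 0
    rw [this, h1g]
  let ψB : K →ₗ[B] R ⊗[B] K1 := (LinearMap.ker q.hom).liftQ h0 hle ∘ₗ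
    (q.hom.quotKerEquivOfSurjective hq).symm.toLinearMap
  have hψ : ∀ y, ψB (q.hom y) = (1 : R) ⊗ₜ[B] φ y := fun y => by
    have e : (q.hom.quotKerEquivOfSurjective hq).symm (q.hom y) = Submodule.Quotient.mk y :=
      (LinearEquiv.symm_apply_eq _).2 rfl
    show (LinearMap.ker q.hom).liftQ h0 hle _ = _
    erw [e]
    rfl
  let ψ : K →ₗ[R] R ⊗[B] K1 :=
    { toFun := ψB
      map_add' := map_add ψB
      map_smul' := fun r x => by
        obtain ⟨b, rfl⟩ := hsurj r
        rw [RingHom.id_apply, algebraMap_smul, algebraMap_smul]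
        exact map_smul ψB b x }
  let j' : R ⊗[B] K1 →ₗ[R] R ⊗[B] F0 := f.hom.baseChange R
  let q' : R ⊗[B] F0 →ₗ[R] K := LinearMap.liftBaseChange R (q.hom : F0 →ₗ[B] K)
  have hq' : ∀ y, q' ((1 : R) ⊗ₜ[B] y) = q.hom y := fun y => by simp [q']
  have hψi : Function.Injective ψ := by
    rw [injective_iff_map_eq_zero]
    intro x hx
    obtain ⟨y, rfl⟩ := hq x
    obtain ⟨z, hz⟩ := one_tmul_eq_zero hsurj hker ((hψ y).symm.trans hx)
    have h2 : g • y = g • f.hom z := by rw [← hφ, ← hz, map_smul]
    haveI : Module.Free B F0 := hF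
    have hreg : IsSMulRegular F0 g := fun a b hab => (Module.Free.chooseBasis B F0).repr.injective
      (Finsupp.ext fun k => hg (by simpa using DFunLike.congr_fun (congrArg (Module.Free.chooseBasis B F0).repr hab) k))
    rw [hreg h2]
    exact hex.apply_apply_eq_zero z
  have hq'j : ∀ z, q' (j' z) = 0 := fun z => by
    obtain ⟨x, rfl⟩ := exists_one_tmul hsurj z
    show q' ((1 : R) ⊗ₜ[B] f.hom x) = 0
    rw [hq']
    exact hex.apply_apply_eq_zero x
  have hj'ψ : ∀ x, j' (ψ x) = 0 := fun x => by
    obtain ⟨y, rfl⟩ := hq x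
    show j' (ψB (q.hom y)) = 0
    rw [hψ]
    show (1 : R) ⊗ₜ[B] f.hom (φ y) = 0
    rw [hφ, h1g]
  let e' : R ⊗[B] K1 →ₗ[R] LinearMap.ker q' := j'.codRestrict _ hq'j
  have he' : Function.Surjective e' := by
    rintro ⟨z, hz⟩
    obtain ⟨y, rfl⟩ := exists_one_tmul hsurj z
    obtain ⟨x, rfl⟩ := (hex y).1 ((hq' y).symm.trans hz)
    exact ⟨(1 : R) ⊗ₜ[B] x, rfl⟩
  have hex1 : Function.Exact ψ e' := fun z => by
    constructor
    · intro hz
      obtain ⟨x, rfl⟩ := exists_one_tmul hsurj z
      have h3 : (1 : R) ⊗ₜ[B] f.hom x = 0 := congrArg Subtype.val hz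
      obtain ⟨y, hy⟩ := one_tmul_eq_zero hsurj hker h3
      refine ⟨q.hom y, (hψ y).trans ?_⟩
      congr 1
      exact hj (by rw [hφ, hy])
    · rintro ⟨x, rfl⟩
      exact Subtype.ext (hj'ψ x)
  have hq's : Function.Surjective q' := fun x => by
    obtain ⟨y, rfl⟩ := hq x
    exact ⟨_, hq' y⟩
  let ψc : ModuleCat.of R K ⟶ ModuleCat.of R (R ⊗[B] K1) := ModuleCat.ofHom ψ
  let ec : ModuleCat.of R (R ⊗[B] K1) ⟶ ModuleCat.of R (LinearMap.ker q') := ModuleCat.ofHom e'
  let S1 : ShortComplex (ModuleCat.{u} R) := ShortComplex.mk ψc ec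
    (ModuleCat.hom_ext hex1.linearMap_comp_eq_zero)
  let ιc : ModuleCat.of R (LinearMap.ker q') ⟶ ModuleCat.of R (R ⊗[B] F0) := ModuleCat.ofHom (LinearMap.ker q').subtype
  let qc : ModuleCat.of R (R ⊗[B] F0) ⟶ ModuleCat.of R K := ModuleCat.ofHom q'
  let S2 : ShortComplex (ModuleCat.{u} R) := ShortComplex.mk ιc qc
    (ModuleCat.hom_ext (LinearMap.comp_ker_subtype q'))
  have hS1 : S1.ShortExact :=
    { exact := (ShortComplex.ShortExact.moduleCat_exact_iff_function_exact _).2 hex1
      mono_f := (ModuleCat.mono_iff_injective _).2 hψi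
      epi_g := (ModuleCat.epi_iff_surjective _).2 he' }
  have hS2 : S2.ShortExact :=
    { exact := (ShortComplex.ShortExact.moduleCat_exact_iff_function_exact _).2 (LinearMap.exact_subtype_ker_map q')
      mono_f := (ModuleCat.mono_iff_injective _).2 (Submodule.injective_subtype _)
      epi_g := (ModuleCat.epi_iff_surjective _).2 hq's }
  haveI : Module.Flat R S1.X₂ := inferInstanceAs (Module.Flat R (R ⊗[B] K1))
  haveI : Module.Free B F0 := hF
  haveI : Module.Flat R S2.X₂ := inferInstanceAs (Module.Flat R (R ⊗[B] F0))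
  obtain ⟨a⟩ := nonempty_shift S2 hS2 N (i + 1) (isZero_of_flat S2.X₂ N (by omega)) (isZero_of_flat S2.X₂ N (by omega))
  obtain ⟨b⟩ := nonempty_shift S1 hS1 N i (isZero_of_flat S1.X₂ N (by omega)) (isZero_of_flat S1.X₂ N hi)
  exact ⟨a ≪≫ b⟩

/-- Over a smooth algebra of relative dimension `n`, tor dimension `≤ m` over the base gives `≤ m + n`. -/
theorem vanish_of_smooth {A B : Type u} [CommRing A] [CommRing B] [Algebra A B] [Algebra.Smooth A B] (n : ℕ)
    (hn : ∀ p : PrimeSpectrum B, Module.rankAtStalk (Ω[B⁄A]) p = n) (m : ℕ) (M : ModuleCat.{u} B)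
    (hM : ∀ (P : ModuleCat.{u} A) (i : ℕ), m < i →
      IsZero (T i ((ModuleCat.restrictScalars.{u} (algebraMap A B)).obj M) P))
    (N : ModuleCat.{u} B) {i : ℕ} (hi : m + n < i) : IsZero (T i M N) := by
  obtain ⟨Z, hZ⟩ := exists_syz m M
  obtain ⟨Z', hZ'⟩ := exists_syz n Z
  haveI hf : Module.Flat A ((ModuleCat.restrictScalars.{u} (algebraMap A B)).obj Z) := flat_of_isZero _ fun P => by
    obtain ⟨e⟩ := hZ.shift_restrict (algebraMap A B) (RingHom.flat_algebraMap_iff.2 inferInstance) P le_rfl
    exact IsZero.of_iso (hM P (1 + m) (by omega)) e.symm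
  letI : Module A Z := Module.compHom Z (algebraMap A B)
  haveI : IsScalarTower A B Z := .of_algebraMap_smul fun _ _ => rfl
  haveI : Module.Flat A Z := hf
  haveI : Module.Flat B Z' := CommAlg4.SmoothFlatDim.flat_syz n hn hZ'
  obtain ⟨k, rfl⟩ := Nat.exists_eq_add_of_le hi
  obtain ⟨e⟩ := hZ.shift N (i := k + 1 + n) (by omega)
  obtain ⟨e'⟩ := hZ'.shift N (i := k + 1) (by omega)
  rw [show (m + n).succ + k = k + 1 + n + m by omega]
  exact IsZero.of_iso (isZero_of_flat Z' N (by omega)) (e ≪≫ e')

end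

/-- Let A → B be a smooth ring map with Ω_{B/A} of rank n at every prime of B, g ∈ B a nonzerodivisor
and R = B/gB. Let M be an R-module of flat dimension at most m over A (Tor^A_i(M, P) = 0 for i > m
and every A-module P) and N an R-module. Then for q ≥ m + n + 2 the R-modules Tor^R_q(M, N) and
Tor^R_{q-2}(M, N) (Mathlib's Tor, left-derived in the second variable) are isomorphic. (Existence of
an isomorphism only: the published statement gives a specific isomorphism Tor_q → L_Z ⊗ Tor_{q-2}
built from the Atiyah class, with L_Z an invertible module on the closed subscheme Z cut out by the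
annihilator of the top exterior power of Ω_{R/A}; for a global hypersurface R = B/gB the module L_Z
is free of rank one and Tor_{q-2} is already a module over Z, so the target is Tor_{q-2} itself. The
published statement allows a bounded complex on a scheme over the hypersurface in place of N.) -/
theorem result (A B R : Type u) [CommRing A] [CommRing B] [CommRing R]
    [Algebra A B] [Algebra B R] [Algebra A R] [IsScalarTower A B R] [Algebra.Smooth A B] (n : ℕ)
    (hn : ∀ p : PrimeSpectrum B, Module.rankAtStalk (Ω[B⁄A]) p = n)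
    (g : B) (hg : IsSMulRegular B g) (hsurj : Function.Surjective (algebraMap B R))
    (hker : RingHom.ker (algebraMap B R) = Ideal.span {g})
    (m : ℕ) (M N : ModuleCat.{u} R)
    (hM : ∀ (P : ModuleCat.{u} A) (i : ℕ), m < i →
      IsZero (((Tor (ModuleCat.{u} A) i).obj ((ModuleCat.restrictScalars (algebraMap A R)).obj M)).obj P))
    (q : ℕ) (hq : m + n + 2 ≤ q) :
    Nonempty ((((Tor (ModuleCat.{u} R) q).obj M).obj N) ≅ (((Tor (ModuleCat.{u} R) (q - 2)).obj M).obj N)) := by
  have hv : ∀ (P : ModuleCat.{u} B) (i : ℕ), m + n < i →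
      IsZero (CommAlg4.TorSyz.T i ((ModuleCat.restrictScalars.{u} (algebraMap B R)).obj M) P) := fun P i hi =>
    vanish_of_smooth n hn m _ (fun P' i' hi' => (hM P' i' hi').of_iso (congrT i'
      ((ModuleCat.restrictScalarsComp' (algebraMap A B) (algebraMap B R) (algebraMap A R)
        (IsScalarTower.algebraMap_eq A B R)).app M).symm P')) P hi
  rcases Nat.eq_zero_or_pos (m + n) with h0 | hpos
  · -- `M` is flat over `B` and killed by `g`
    haveI hfl : Module.Flat B ((ModuleCat.restrictScalars.{u} (algebraMap B R)).obj M) :=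
      CommAlg4.TorSyz.flat_of_isZero _ fun P => hv P 1 (by omega)
    letI : Module B M := Module.compHom M (algebraMap B R)
    haveI : IsScalarTower B R M := .of_algebraMap_smul fun _ _ => rfl
    haveI : Module.Flat B M := hfl
    have hregM : IsSMulRegular M g := fun a b hab => by
      have h1 := Module.Flat.rTensor_preserves_injective_linearMap (M := M) (g • LinearMap.id : B →ₗ[B] B)
        (fun x y hxy => hg hxy)
      have h2 : ((1 : B) ⊗ₜ[B] a) = (1 : B) ⊗ₜ[B] b := h1 (by
        simp only [LinearMap.rTensor_tmul, LinearMap.smul_apply, LinearMap.id_apply, TensorProduct.smul_tmul]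
        exact congrArg _ hab)
      simpa using congrArg (TensorProduct.lid B M) h2
    haveI : Subsingleton M := ⟨fun a b => hregM (by
      show g • a = g • b
      rw [g_smul_eq_zero (R := R) hker a, g_smul_eq_zero (R := R) hker b])⟩
    exact ⟨(isZero_of_subsingleton M N q).iso (isZero_of_subsingleton M N (q - 2))⟩
  · obtain ⟨K, hK⟩ := CommAlg4.TorSyz.exists_syz (m + n - 1) M
    have hKv := syz_vanish hsurj hker hg hK fun P i hi => hv P i (by omega)
    letI : Module B K := Module.compHom K (algebraMap B R)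
    haveI : IsScalarTower B R K := .of_algebraMap_smul fun _ _ => rfl
    obtain ⟨t, ht, rfl⟩ : ∃ t, 1 ≤ t ∧ q = t + 2 + (m + n - 1) := ⟨q - 2 - (m + n - 1), by omega, by omega⟩
    obtain ⟨e1⟩ := hK.shift N (i := t + 2) (by omega)
    obtain ⟨e2⟩ := periodic hsurj hker hg K (fun P => hKv P 2 (by omega)) N ht
    obtain ⟨e3⟩ := hK.shift N ht
    rw [show t + 2 + (m + n - 1) - 2 = t + (m + n - 1) by omega]
    exact ⟨e1 ≪≫ e2 ≪≫ e3.symm⟩

end Groth.Agent.S14476
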