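import Groth.Statements.S14477
import Groth.Agent.CommAlg4.TopPowQuotient
-- import your own Groth.Agent.* helpers here

set_option autoImplicit false
universe u
open KaehlerDifferential
open LocInt

namespace Groth.Agent.S14477

theorem annihilator_eq_evIdeal (A B R : Type u) [CommRing A] [CommRing B] [CommRing R]
    [Algebra A B] [Algebra B R] [Algebra A R] [IsScalarTower A B R] [Algebra.Smooth A B] (n : ℕ)
    (hn : ∀ p : PrimeSpectrum B, Module.rankAtStalk (Ω[B⁄A]) p = n)
    (g : B) (hsurj : Function.Surjective (algebraMap B R))
    (hker : RingHom.ker (algebraMap B R) = Ideal.span {g}) :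
    (⋀[R]^n (Ω[R⁄A])).annihilator =
      CommAlg4.TopPowQuotient.evIdeal (R := R) ((1 : R) ⊗ₜ[B] KaehlerDifferential.D A B g) := by
  refine CommAlg4.TopPowQuotient.annihilator_eq (π := KaehlerDifferential.mapBaseChange A B R) (fun q => ?_)
    (KaehlerDifferential.mapBaseChange_surjective A B R hsurj) ?_
  · rw [Module.rankAtStalk_baseChange, hn]
  · refine le_antisymm (fun z hz => ?_) ?_
    · obtain ⟨t, rfl⟩ := (KaehlerDifferential.exact_kerCotangentToTensor_mapBaseChange A B R hsurj z).1 hz
      obtain ⟨⟨x, hx⟩, rfl⟩ := Ideal.toCotangent_surjective _ t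
      rw [KaehlerDifferential.kerCotangentToTensor_toCotangent]
      obtain ⟨b, rfl⟩ := Ideal.mem_span_singleton'.1 (hker.le hx)
      refine Submodule.mem_span_singleton.2 ⟨algebraMap B R b, ?_⟩
      show _ = (1 : R) ⊗ₜ[B] KaehlerDifferential.D A B (b * g)
      have hg0 : algebraMap B R g = 0 := RingHom.mem_ker.1 (hker.ge (Ideal.mem_span_singleton_self g))
      have e1 : (1 : R) ⊗ₜ[B] (g • KaehlerDifferential.D A B b) = 0 := by
        rw [← TensorProduct.smul_tmul, ← Algebra.algebraMap_eq_smul_one, hg0, TensorProduct.zero_tmul]
      rw [Derivation.leibniz, TensorProduct.tmul_add, e1, add_zero, ← TensorProduct.smul_tmul, TensorProduct.smul_tmul',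
        smul_eq_mul, mul_one, ← Algebra.algebraMap_eq_smul_one]
    · rw [Submodule.span_singleton_le_iff_mem, LinearMap.mem_ker, KaehlerDifferential.mapBaseChange_tmul,
        KaehlerDifferential.map_D, RingHom.mem_ker.1 (hker.ge (Ideal.mem_span_singleton_self g)), map_zero, smul_zero]

theorem evIdeal_eq_span (A B R : Type u) [CommRing A] [CommRing B] [CommRing R]
    [Algebra A B] [Algebra B R] [Algebra.Smooth A B] (g : B) (hsurj : Function.Surjective (algebraMap B R)) :
    CommAlg4.TopPowQuotient.evIdeal (R := R) ((1 : R) ⊗ₜ[B] KaehlerDifferential.D A B g) =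
      Ideal.span (Set.range fun φ : Ω[B⁄A] →ₗ[B] B => algebraMap B R (φ (KaehlerDifferential.D A B g))) := by
  refine le_antisymm ?_ (Ideal.span_le.2 ?_)
  · rintro _ ⟨Φ, rfl⟩
    obtain ⟨φ, hφ⟩ := Module.projective_lifting_property (Algebra.linearMap B R)
      ((Φ.restrictScalars B) ∘ₗ TensorProduct.mk B R (Ω[B⁄A]) 1) hsurj
    exact Ideal.subset_span ⟨φ, LinearMap.congr_fun hφ _⟩
  · rintro _ ⟨φ, rfl⟩
    refine ⟨LinearMap.liftBaseChange R ((Algebra.linearMap B R) ∘ₗ φ), ?_⟩
    show LinearMap.liftBaseChange R ((Algebra.linearMap B R) ∘ₗ φ) ((1 : R) ⊗ₜ[B] KaehlerDifferential.D A B g) = algebraMap B R (φ (KaehlerDifferential.D A B g))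
    rw [LinearMap.liftBaseChange_tmul, one_smul]
    rfl

/-- Let A → B be a smooth ring map with Ω_{B/A} of rank n at every prime of B, g ∈ B a nonzerodivisor
and R = B/gB, a hypersurface of virtual relative dimension n - 1 over A; let J ⊆ R be the
annihilator of the n-th exterior power of Ω_{R/A} and Z = Spec R/J. Then J is the ideal of R
generated by the classes of the elements φ(dg), φ ranging over the B-linear forms on Ω_{B/A}; where
Ω_{B/A} is free on dt_1, …, dt_n this says that Z is cut out by the partial derivatives ∂g/∂t_1, …,
∂g/∂t_n. In particular every φ(dg) vanishes in R/J; since Ω_{B/A} is finite projective this says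
that dg ⊗ 1 = 0 in Ω_{B/A} ⊗_B R/J, i.e. the map from the conormal module gB/g²B ⊗ R/J to Ω_{B/A}
⊗_B R/J induced by d vanishes, and with the cotangent complex of R over A represented by the
two-term complex (gB/g²B → Ω_{B/A} ⊗_B R) this is the statement that the canonical map from L_Z =
L_1 i^* L_{R/A} to the conormal module restricted to Z is an isomorphism. (The published statement
also asserts that, for a regular immersion of any codimension into a smooth scheme, this map from
L_Z is a locally split injection; that part is not stated here. The published statement is the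
isomorphism alone, which amounts to the inclusion of the ideal generated by the φ(dg) in J; this row
states the equality, whose other inclusion is the local description of Z by the partial derivatives
given with the definition of Z.) -/
theorem result (A B R : Type u) [CommRing A] [CommRing B] [CommRing R]
    [Algebra A B] [Algebra B R] [Algebra A R] [IsScalarTower A B R] [Algebra.Smooth A B] (n : ℕ)
    (hn : ∀ p : PrimeSpectrum B, Module.rankAtStalk (Ω[B⁄A]) p = n)
    (g : B) (hg : IsSMulRegular B g) (hsurj : Function.Surjective (algebraMap B R))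
    (hker : RingHom.ker (algebraMap B R) = Ideal.span {g}) :
    (⋀[R]^n (Ω[R⁄A])).annihilator =
      Ideal.span (Set.range fun φ : Ω[B⁄A] →ₗ[B] B => algebraMap B R (φ (KaehlerDifferential.D A B g))) := by
  exact (annihilator_eq_evIdeal A B R n hn g hsurj hker).trans (evIdeal_eq_span A B R g hsurj)

end Groth.Agent.S14477
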