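import Groth.Statements.S14475
import Groth.Agent.S14476
import Groth.Agent.S14477
-- import your own Groth.Agent.* helpers here

set_option autoImplicit false
universe u
open CategoryTheory CategoryTheory.Limits KaehlerDifferential
open LocInt

namespace Groth.Agent.S14475

section
set_option backward.isDefEq.respectTransparency false
open CommAlg4.TorSyz
open scoped TensorProduct MonoidalCategory

/-- A scalar factoring through a module without higher `Tor` kills `Tor`. -/
theorem mem_annihilator_of_factor {R : Type u} [CommRing R] {X Y : ModuleCat.{u} R} (c : R) (a : X ⟶ Y) (b : Y ⟶ X)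
    (hab : a ≫ b = c • 𝟙 X) (N : ModuleCat.{u} R) (i : ℕ) (hY : IsZero (T i Y N)) :
    c ∈ Module.annihilator R (T i X N) := by
  let P := projectiveResolution N
  have h0 : HomologicalComplex.homologyMap ((C P).map (c • 𝟙 X)) i = 0 := by
    rw [← hab, (C P).map_comp, HomologicalComplex.homologyMap_comp,
      (hY.of_iso (isoT P i Y).symm).eq_of_tgt (HomologicalComplex.homologyMap ((C P).map a) i) 0, zero_comp]
  have h1 : (C P).map (c • 𝟙 X) = c • 𝟙 ((C P).obj X) := by
    ext n : 1
    show (c • 𝟙 X) ▷ P.complex.X n = c • 𝟙 (X ⊗ P.complex.X n)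
    simp
  have h2 : (HomologicalComplex.shortComplexFunctor (ModuleCat.{u} R) (ComplexShape.down ℕ) i).map
      (c • 𝟙 ((C P).obj X)) = c • 𝟙 (((C P).obj X).sc i) := by ext <;> rfl
  rw [h1, HomologicalComplex.homologyMap, h2, ShortComplex.homologyMap_smul, ShortComplex.homologyMap_id] at h0
  rw [Module.mem_annihilator]
  intro z
  apply (isoT P i X).toLinearEquiv.injective
  rw [map_smul, map_zero]
  exact ConcreteCategory.congr_hom h0 _

/-- A derivative of the equation factors through a flat module on a module of flat dimension at most one. -/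
theorem derivative_mem_annihilator {A B R : Type u} [CommRing A] [CommRing B] [CommRing R] [Algebra A B] [Algebra B R]
    (g : B) (hsurj : Function.Surjective (algebraMap B R)) (hker : RingHom.ker (algebraMap B R) = Ideal.span {g})
    (D : Derivation A B B) (K : Type u) [AddCommGroup K] [Module B K] [Module R K] [IsScalarTower B R K]
    (hK : ∀ N : ModuleCat.{u} B, IsZero (T 2 (ModuleCat.of B K) N)) (N : ModuleCat.{u} R) {i : ℕ} (hi : 1 ≤ i) :
    algebraMap B R (D g) ∈ Module.annihilator R (T i (ModuleCat.of R K) N) := by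
  obtain ⟨K1, F0, f, q, w, h, hF⟩ := exists_free_cover (ModuleCat.of B K)
  haveI := hF
  have hex : Function.Exact f.hom q.hom := (ShortComplex.ShortExact.moduleCat_exact_iff_function_exact _).1 h.exact
  have hq : Function.Surjective q.hom := (ModuleCat.epi_iff_surjective _).1 h.epi_g
  have hj : Function.Injective f.hom := (ModuleCat.mono_iff_injective _).1 h.mono_f
  haveI : Module.Flat B K1 := flat_of_isZero K1 fun P => by
    obtain ⟨e⟩ := nonempty_shift _ h P 1 (isZero_of_flat F0 P (by norm_num)) (isZero_of_flat F0 P le_rfl)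
    exact IsZero.of_iso (hK P) e.symm
  have hgK : ∀ x : K, g • x = 0 := S14476.g_smul_eq_zero (R := R) hker
  let φ : F0 →ₗ[B] K1 := (LinearEquiv.ofInjective f.hom hj).symm.toLinearMap ∘ₗ
    (g • LinearMap.id : F0 →ₗ[B] F0).codRestrict (LinearMap.range f.hom) (fun y => (hex _).1 (by
      show q.hom (g • y) = 0
      rw [map_smul]; exact hgK _))
  have hφ : ∀ y, f.hom (φ y) = g • y := fun y => by
    show f.hom ((LinearEquiv.ofInjective f.hom hj).symm _) = _
    rw [← LinearEquiv.ofInjective_apply (h := hj) f.hom, LinearEquiv.apply_symm_apply]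
    rfl
  have h1g : ∀ {X : Type u} [AddCommGroup X] [Module B X] (x : X), (1 : R) ⊗ₜ[B] (g • x) = 0 := fun x => by
    rw [← TensorProduct.smul_tmul, S14476.g_smul_eq_zero (R := R) hker (1 : R), TensorProduct.zero_tmul]
  let h0 : F0 →ₗ[B] R ⊗[B] K1 := (TensorProduct.mk B R K1 1) ∘ₗ φ
  have hle : LinearMap.ker q.hom ≤ LinearMap.ker h0 := fun y hy => by
    obtain ⟨x, rfl⟩ := (hex y).1 hy
    have : φ (f.hom x) = g • x := hj (by rw [hφ, map_smul])
    show (1 : R) ⊗ₜ[B] φ (f.hom x) = 0
    rw [this, h1g]
  let ψB : K →ₗ[B] R ⊗[B] K1 := (LinearMap.ker q.hom).liftQ h0 hle ∘ₗ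
    (q.hom.quotKerEquivOfSurjective hq).symm.toLinearMap
  have hψ : ∀ y, ψB (q.hom y) = (1 : R) ⊗ₜ[B] φ y := fun y => by
    have e : (q.hom.quotKerEquivOfSurjective hq).symm (q.hom y) = Submodule.Quotient.mk y :=
      (LinearEquiv.symm_apply_eq _).2 rfl
    show (LinearMap.ker q.hom).liftQ h0 hle _ = _
    erw [e]
    rfl
  let ψ : K →ₗ[R] R ⊗[B] K1 :=
    { toFun := ψB
      map_add' := map_add ψB
      map_smul' := fun r x => by
        obtain ⟨b, rfl⟩ := hsurj r
        rw [RingHom.id_apply, algebraMap_smul, algebraMap_smul]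
        exact map_smul ψB b x }
  -- a connection on the free module `F0`
  let bas := Module.Free.chooseBasis B F0
  let nabla : F0 → F0 := fun y => bas.repr.symm (Finsupp.mapRange D (map_zero D) (bas.repr y))
  have hn_add : ∀ y z, nabla (y + z) = nabla y + nabla z := fun y z => by
    show bas.repr.symm _ = _
    rw [map_add, Finsupp.mapRange_add (map_add D), map_add]
  have hn_smul : ∀ (b : B) (y : F0), nabla (b • y) = D b • y + b • nabla y := fun b y => by
    apply bas.repr.injective
    ext k
    simp only [nabla, LinearEquiv.apply_symm_apply, map_add, map_smul, Finsupp.mapRange_apply, Finsupp.add_apply,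
      Finsupp.smul_apply, smul_eq_mul, Derivation.leibniz]
    ring
  let u : K1 →ₗ[B] K :=
    { toFun := fun x => q.hom (nabla (f.hom x))
      map_add' := fun x y => by rw [map_add, hn_add, map_add]
      map_smul' := fun b x => by
        rw [map_smul, hn_smul, map_add, map_smul, map_smul]
        rw [show q.hom (f.hom x) = 0 from hex.apply_apply_eq_zero x, smul_zero, zero_add]
        rfl }
  let δ : R ⊗[B] K1 →ₗ[R] K := LinearMap.liftBaseChange R u
  refine mem_annihilator_of_factor _ (ModuleCat.ofHom ψ : ModuleCat.of R K ⟶ ModuleCat.of R (R ⊗[B] K1))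
    (ModuleCat.ofHom δ) ?_ N i (isZero_of_flat (ModuleCat.of R (R ⊗[B] K1)) N hi)
  ext x
  obtain ⟨y, rfl⟩ := hq x
  show δ (ψB (q.hom y)) = algebraMap B R (D g) • (q.hom y : K)
  rw [hψ, algebraMap_smul]
  show LinearMap.liftBaseChange R u ((1 : R) ⊗ₜ[B] φ y) = _
  rw [LinearMap.liftBaseChange_tmul, one_smul]
  show q.hom (nabla (f.hom (φ y))) = _
  rw [hφ, hn_smul, map_add, map_smul, map_smul]
  erw [hgK (q.hom (nabla y) : K)]
  exact add_zero _

end

/-- Let A → B be a smooth ring map with Ω_{B/A} of rank n at every prime of B, g ∈ B a nonzerodivisor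
and R = B/gB, so that Spec R is a hypersurface of virtual relative dimension n - 1 over Spec A. Let
M be an R-module of flat dimension at most m over A (Tor^A_i(M, P) = 0 for i > m and every A-module
P) and N an R-module. Then for q ≥ m + n the module Tor^R_q(M, N) (Mathlib's Tor on R-modules,
left-derived in the second variable) is annihilated by the annihilator ideal of the n-th exterior
power of Ω_{R/A}, i.e. it is a module over the closed subscheme Z defined by that ideal. (The
published statement is for a scheme that is locally such a hypersurface, an arbitrary module over it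
of tor-dimension at most m over the base, and a bounded complex on a scheme over it; this row is the
affine case with a single module on the hypersurface itself.) -/
theorem result (A B R : Type u) [CommRing A] [CommRing B] [CommRing R]
    [Algebra A B] [Algebra B R] [Algebra A R] [IsScalarTower A B R] [Algebra.Smooth A B] (n : ℕ)
    (hn : ∀ p : PrimeSpectrum B, Module.rankAtStalk (Ω[B⁄A]) p = n)
    (g : B) (hg : IsSMulRegular B g) (hsurj : Function.Surjective (algebraMap B R))
    (hker : RingHom.ker (algebraMap B R) = Ideal.span {g})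
    (m : ℕ) (M N : ModuleCat.{u} R)
    (hM : ∀ (P : ModuleCat.{u} A) (i : ℕ), m < i →
      IsZero (((Tor (ModuleCat.{u} A) i).obj ((ModuleCat.restrictScalars (algebraMap A R)).obj M)).obj P))
    (q : ℕ) (hq : m + n ≤ q) :
    (⋀[R]^n (Ω[R⁄A])).annihilator ≤ Module.annihilator R (((Tor (ModuleCat.{u} R) q).obj M).obj N) := by
  rw [S14477.annihilator_eq_evIdeal A B R n hn g hsurj hker, S14477.evIdeal_eq_span A B R g hsurj, Ideal.span_le]
  rintro _ ⟨φ, rfl⟩
  show algebraMap B R (φ (KaehlerDifferential.D A B g)) ∈
    Module.annihilator R (CommAlg4.TorSyz.T q M N)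
  have hv : ∀ (P : ModuleCat.{u} B) (i : ℕ), m + n < i →
      IsZero (CommAlg4.TorSyz.T i ((ModuleCat.restrictScalars.{u} (algebraMap B R)).obj M) P) := fun P i hi =>
    S14476.vanish_of_smooth n hn m _ (fun P' i' hi' => (hM P' i' hi').of_iso (S14476.congrT i'
      ((ModuleCat.restrictScalarsComp' (algebraMap A B) (algebraMap B R) (algebraMap A R)
        (IsScalarTower.algebraMap_eq A B R)).app M).symm P')) P hi
  rcases Nat.eq_zero_or_pos (m + n) with h0 | hpos
  · -- `M` is flat over `B` and killed by `g`
    haveI hfl : Module.Flat B ((ModuleCat.restrictScalars.{u} (algebraMap B R)).obj M) :=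
      CommAlg4.TorSyz.flat_of_isZero _ fun P => hv P 1 (by omega)
    letI : Module B M := Module.compHom M (algebraMap B R)
    haveI : IsScalarTower B R M := .of_algebraMap_smul fun _ _ => rfl
    haveI : Module.Flat B M := hfl
    have hregM : IsSMulRegular M g := fun a b hab => by
      have h1 := Module.Flat.rTensor_preserves_injective_linearMap (M := M) (g • LinearMap.id : B →ₗ[B] B)
        (fun x y hxy => hg hxy)
      have h2 : ((1 : B) ⊗ₜ[B] a) = (1 : B) ⊗ₜ[B] b := h1 (by
        simp only [LinearMap.rTensor_tmul, LinearMap.smul_apply, LinearMap.id_apply, TensorProduct.smul_tmul]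
        exact congrArg _ hab)
      simpa using congrArg (TensorProduct.lid B M) h2
    haveI : Subsingleton M := ⟨fun a b => hregM (by
      show g • a = g • b
      rw [S14476.g_smul_eq_zero (R := R) hker a, S14476.g_smul_eq_zero (R := R) hker b])⟩
    haveI := ModuleCat.subsingleton_of_isZero (S14476.isZero_of_subsingleton M N q)
    exact Module.mem_annihilator.2 fun z => Subsingleton.elim _ _
  · obtain ⟨K, hK⟩ := CommAlg4.TorSyz.exists_syz (m + n - 1) M
    have hKv := S14476.syz_vanish hsurj hker hg hK fun P i hi => hv P i (by omega)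
    letI : Module B K := Module.compHom K (algebraMap B R)
    haveI : IsScalarTower B R K := .of_algebraMap_smul fun _ _ => rfl
    obtain ⟨t, ht, rfl⟩ : ∃ t, 1 ≤ t ∧ q = t + (m + n - 1) := ⟨q - (m + n - 1), by omega, by omega⟩
    obtain ⟨e⟩ := hK.shift N ht
    rw [e.toLinearEquiv.annihilator_eq]
    exact derivative_mem_annihilator g hsurj hker (φ.compDer (KaehlerDifferential.D A B)) K
      (fun P => hKv P 2 (by omega)) N ht

end Groth.Agent.S14475
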