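import Groth.Statements.S14478
import Mathlib

set_option linter.all false

set_option autoImplicit false
universe u
open CharCyc

open TensorProduct

set_option maxSynthPendingDepth 5
set_option backward.isDefEq.respectTransparency.types false

namespace Groth.Agent.S14478

theorem exists_common_compl {k V : Type u} [Field k] [AddCommGroup V] [Module k V] [FiniteDimensional k V] :
    ∀ (c : ℕ) (A B : Submodule k V), Module.finrank k A = Module.finrank k B →
      Module.finrank k A + c = Module.finrank k V → ∃ C : Submodule k V, IsCompl C A ∧ IsCompl C B := by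
  intro c
  induction c with
  | zero =>
    intro A B hAB h
    rw [Submodule.eq_top_of_finrank_eq (show Module.finrank k A = Module.finrank k V by omega),
      Submodule.eq_top_of_finrank_eq (show Module.finrank k B = Module.finrank k V by omega)]
    exact ⟨⊥, isCompl_bot_top, isCompl_bot_top⟩
  | succ c ih =>
    intro A B hAB h
    obtain ⟨v, hvA, hvB⟩ : ∃ v, v ∉ A ∧ v ∉ B := by
      have hA : A ≠ ⊤ := fun e => by rw [e, finrank_top] at h; omega
      have hB : B ≠ ⊤ := fun e => by rw [hAB, e, finrank_top] at h; omega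
      obtain ⟨x, hx⟩ : ∃ x, x ∉ A := by simpa [Submodule.eq_top_iff'] using hA
      obtain ⟨y, hy⟩ : ∃ y, y ∉ B := by simpa [Submodule.eq_top_iff'] using hB
      by_cases hxB : x ∈ B
      · by_cases hyA : y ∈ A
        · exact ⟨x + y, fun h => hx ((add_mem_cancel_right hyA).1 h), fun h => hy ((add_mem_cancel_left hxB).1 h)⟩
        · exact ⟨y, hyA, hy⟩
      · exact ⟨x, hx, hxB⟩
    have hd : ∀ (X : Submodule k V), v ∉ X → Module.finrank k ↥(X ⊔ Submodule.span k {v}) = Module.finrank k X + 1 := by
      intro X hX
      have h1 := Submodule.finrank_sup_add_finrank_inf_eq X (Submodule.span k {v})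
      have h0 : X ⊓ Submodule.span k {v} = ⊥ := by
        rw [Submodule.eq_bot_iff]
        rintro z ⟨hz1, hz2⟩
        obtain ⟨t, rfl⟩ := Submodule.mem_span_singleton.1 hz2
        rcases eq_or_ne t 0 with rfl | ht
        · exact zero_smul _ _
        · exact absurd ((Submodule.smul_mem_iff _ ht).1 hz1) hX
      rw [h0, finrank_bot, finrank_span_singleton (fun e => hX (by rw [e]; exact X.zero_mem))] at h1
      omega
    obtain ⟨C, hCA, hCB⟩ := ih (A ⊔ Submodule.span k {v}) (B ⊔ Submodule.span k {v})
      (by rw [hd A hvA, hd B hvB, hAB]) (by rw [hd A hvA]; omega)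
    have key : ∀ (X : Submodule k V), v ∉ X → IsCompl C (X ⊔ Submodule.span k {v}) → IsCompl (C ⊔ Submodule.span k {v}) X := by
      intro X hX hC
      refine ⟨?_, ?_⟩
      · rw [Submodule.disjoint_def]
        intro z hz hzX
        obtain ⟨cc, hc, s, hs, rfl⟩ := Submodule.mem_sup.1 hz
        have hc0 : cc = 0 := Submodule.disjoint_def.1 hC.disjoint cc hc (by
          have : cc = (cc + s) - s := by simp
          rw [this]
          exact sub_mem (Submodule.mem_sup_left hzX) (Submodule.mem_sup_right hs))
        subst hc0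
        rw [zero_add] at hzX ⊢
        obtain ⟨t, rfl⟩ := Submodule.mem_span_singleton.1 hs
        rcases eq_or_ne t 0 with rfl | ht
        · exact zero_smul _ _
        · exact absurd ((Submodule.smul_mem_iff _ ht).1 hzX) hX
      · rw [codisjoint_iff, sup_assoc, sup_comm (Submodule.span k {v})]
        exact hC.sup_eq_top
    exact ⟨C ⊔ Submodule.span k {v}, key A hvA hCA, key B hvB hCB⟩

/-- Let V be a finite-dimensional vector space over a field k, let W = V × V^∨ with V^∨ the dual space,
and let T ⊆ W be a subspace with dim T = dim V; put V₁ = V ∩ T, where V sits in W as V × 0. Then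
there is a complement V₂ of V₁ in V with the following property: for every injective linear map A₁ :
V₁ → V₁^∨, the map A : V → V^∨ extending A₁ by zero along the decompositions V = V₁ ⊕ V₂ and V^∨ =
V₁^∨ ⊕ V₂^∨ (so A v = A₁(p v) ∘ p, with p : V → V₁ the projection along V₂) has graph Γ ⊆ W with Γ ∩
T = 0. -/
theorem result (k V : Type u) [Field k] [AddCommGroup V] [Module k V]
    [FiniteDimensional k V] (T : Submodule k (V × Module.Dual k V))
    (hT : Module.finrank k T = Module.finrank k V) :
    ∃ (V₂ : Submodule k V) (h : IsCompl (T.comap (LinearMap.inl k V (Module.Dual k V))) V₂),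
      ∀ A₁ : T.comap (LinearMap.inl k V (Module.Dual k V)) →ₗ[k]
          Module.Dual k (T.comap (LinearMap.inl k V (Module.Dual k V))),
        Function.Injective A₁ →
          LinearMap.graph ((Submodule.projectionOnto _ V₂ h).dualMap ∘ₗ A₁ ∘ₗ
              Submodule.projectionOnto _ V₂ h) ⊓ T = ⊥ := by
  set V₁ := T.comap (LinearMap.inl k V (Module.Dual k V)) with hV₁
  let π : ↥T →ₗ[k] Module.Dual k V := (LinearMap.snd k V (Module.Dual k V)) ∘ₗ T.subtype
  let U := LinearMap.range π
  have hker : Module.finrank k (LinearMap.ker π) = Module.finrank k V₁ := by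
    refine LinearEquiv.finrank_eq (LinearEquiv.ofLinear
      (((LinearMap.fst k V (Module.Dual k V)) ∘ₗ T.subtype ∘ₗ (LinearMap.ker π).subtype).codRestrict V₁ ?_)
      ((((LinearMap.inl k V (Module.Dual k V)) ∘ₗ V₁.subtype).codRestrict T fun x => x.2).codRestrict (LinearMap.ker π) fun x => rfl) ?_ ?_)
    · rintro ⟨⟨⟨z, ξ⟩, hz⟩, hz0⟩
      have : ξ = 0 := hz0
      subst this
      exact hz
    · exact LinearMap.ext fun _ => rfl
    · refine LinearMap.ext fun ⟨⟨⟨z, ξ⟩, hz⟩, hz0⟩ => ?_
      have : ξ = 0 := hz0
      subst this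
      rfl
  have hU : Module.finrank k U + Module.finrank k V₁ = Module.finrank k V := by
    have e1 := LinearEquiv.finrank_eq (LinearMap.quotKerEquivRange (R := k) (M := ↥T) (M₂ := Module.Dual k V) π)
    have e2 : Module.finrank k (↥T ⧸ LinearMap.ker π) + Module.finrank k (LinearMap.ker π) = Module.finrank k T :=
      Submodule.finrank_quotient_add_finrank _
    have : Module.finrank k (LinearMap.range π) + Module.finrank k (LinearMap.ker π) = Module.finrank k T := by rw [← e1]; exact e2
    rw [hker, hT] at this
    exact this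
  have hco : Module.finrank k U.dualCoannihilator = Module.finrank k V₁ := by
    have := Subspace.finrank_add_finrank_dualCoannihilator_eq U
    omega
  obtain ⟨V₂, h1, h2⟩ := exists_common_compl (Module.finrank k U) V₁ U.dualCoannihilator hco.symm (by omega)
  refine ⟨V₂, h1.symm, fun A₁ hA₁ => ?_⟩
  rw [Submodule.eq_bot_iff]
  rintro ⟨z, ξ⟩ ⟨hg, hz⟩
  rw [SetLike.mem_coe, LinearMap.mem_graph_iff] at hg
  simp only [LinearMap.comp_apply] at hg
  set p := Submodule.projectionOnto V₁ V₂ h1.symm with hp
  have hξU : ξ ∈ U := ⟨⟨(z, ξ), hz⟩, rfl⟩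
  have hξ0 : ξ = 0 := by
    refine LinearMap.ext fun x => ?_
    have hx : x ∈ V₂ ⊔ U.dualCoannihilator := h2.sup_eq_top ▸ Submodule.mem_top
    obtain ⟨b, hb, c, hc, rfl⟩ := Submodule.mem_sup.1 hx
    rw [map_add, LinearMap.zero_apply, (Submodule.mem_dualCoannihilator c).1 hc ξ hξU, add_zero, hg,
      LinearMap.dualMap_apply, hp, Submodule.projectionOnto_apply_right h1.symm ⟨b, hb⟩, map_zero]
  subst hξ0
  have hzV : z ∈ V₁ := hz
  have h0 : A₁ (p z) = 0 := by
    refine LinearMap.ext fun x => ?_
    have := LinearMap.congr_fun hg (x : V)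
    rw [LinearMap.zero_apply, LinearMap.dualMap_apply, hp, Submodule.projectionOnto_apply_left h1.symm x] at this
    exact this.symm
  have : p z = 0 := hA₁ (h0.trans (map_zero _).symm)
  rw [hp, Submodule.projectionOnto_apply_left h1.symm ⟨z, hzV⟩] at this
  have : z = 0 := congrArg Subtype.val this
  simp [this]

end Groth.Agent.S14478
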