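import Groth.Statements.S14479
import Mathlib

set_option linter.all false

set_option autoImplicit false
universe u
open CharCyc

open TensorProduct

namespace Groth.Agent.S14479

/-- Let V be a finite-dimensional vector space over a field k. If dim V is even or the characteristic of
k is different from 2, there is a bilinear form B on V such that the bilinear form (v, w) ↦ B(v, w)
+ B(w, v) (B plus its transpose, as a map V → V^∨) is nondegenerate. -/
theorem result (k V : Type u) [Field k] [AddCommGroup V] [Module k V]
    [FiniteDimensional k V] (h : Even (Module.finrank k V) ∨ ringChar k ≠ 2) :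
    ∃ B : LinearMap.BilinForm k V, (B + B.flip).Nondegenerate := by
  classical
  have key : ∀ {ι : Type} [Fintype ι] [DecidableEq ι] (b : Module.Basis ι k V) (M : Matrix ι ι k),
      (M + M.transpose).det ≠ 0 → ∃ B : LinearMap.BilinForm k V, (B + B.flip).Nondegenerate := by
    intro ι _ _ b M hM
    refine ⟨Matrix.toBilin b M, (LinearMap.BilinForm.nondegenerate_iff_det_ne_zero b).2 ?_⟩
    convert hM using 2
    ext i j
    simp [BilinForm.toMatrix_apply, Matrix.toBilin_apply, Finsupp.single_apply]
  by_cases h2 : ringChar k = 2
  · obtain ⟨m, hm⟩ := h.resolve_right (not_not.2 h2)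
    let b : Module.Basis (Fin m ⊕ Fin m) k V :=
      ((Module.finBasis k V).reindex (finCongr hm)).reindex finSumFinEquiv.symm
    refine key b (Matrix.fromBlocks 0 (1 : Matrix (Fin m) (Fin m) k) 0 0) ?_
    rw [Matrix.fromBlocks_transpose, Matrix.fromBlocks_add]
    simp only [Matrix.transpose_zero, Matrix.transpose_one, add_zero, zero_add]
    intro hd
    have e : (Matrix.fromBlocks (0 : Matrix (Fin m) (Fin m) k) (1 : Matrix (Fin m) (Fin m) k) (1 : Matrix (Fin m) (Fin m) k) 0) * Matrix.fromBlocks 0 (1 : Matrix (Fin m) (Fin m) k) (1 : Matrix (Fin m) (Fin m) k) 0 = 1 := by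
      simp [Matrix.fromBlocks_multiply, Matrix.fromBlocks_one]
    have := congrArg Matrix.det e
    rw [Matrix.det_mul, hd, zero_mul, Matrix.det_one] at this
    exact zero_ne_one this
  · refine key (Module.finBasis k V) 1 ?_
    rw [Matrix.transpose_one, ← two_smul k (1 : Matrix _ _ k), Matrix.det_smul, Matrix.det_one, mul_one]
    exact pow_ne_zero _ (Ring.two_ne_zero h2)

end Groth.Agent.S14479
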