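import Groth.Statements.S14480
import Groth.Agent.DimLib.Bound

set_option autoImplicit false
universe u
open CategoryTheory AlgebraicGeometry
open CharCyc

namespace Groth.Agent.S14480

/-- Let k be a field, let π : C → X be a morphism between k-schemes of finite type, and let n be a
natural number. For j ≥ 0 let B_j ⊆ X be the set of points x whose fibre π⁻¹(x) has dimension at
least j (so B_0 is the image of π). Then dim C ≤ n if and only if, for every j, the closure of B_j
in X has dimension at most n − j. Dimensions are topological Krull dimensions with the empty space
of dimension ⊥, and the inequality is written additively as dim cl(B_j) + j ≤ n. -/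
theorem result (k : Type u) [Field k] (C X : Scheme.{u})
    (q : X ⟶ Spec (CommRingCat.of k)) (π : C ⟶ X)
    [LocallyOfFiniteType q] [CompactSpace X] [LocallyOfFiniteType π] [CompactSpace C] (n : ℕ) :
    topologicalKrullDim C ≤ n ↔
      ∀ j : ℕ, topologicalKrullDim (closure {x : X | (j : WithBot ℕ∞) ≤ topologicalKrullDim (π.fiber x)}) +
        (j : WithBot ℕ∞) ≤ n := by
  have : QuasiCompact (π ≫ q) := inferInstance
  refine (Groth.Agent.DimLib.dim_le_iff_fibreDimGE q π n).trans (forall_congr' fun j => ?_)
  rw [← Groth.Agent.DimLib.fibreDimGE_eq q π j]

end Groth.Agent.S14480
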