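import Groth.Statements.S14481
import Groth.Agent.DimLib.Sub

set_option autoImplicit false
universe u
open CategoryTheory AlgebraicGeometry
open CharCyc

namespace Groth.Agent.S14481

/-- First equivalence: let k be a field, let π : C → X be a morphism between k-schemes of finite type
such that every irreducible component of C has dimension n, and let ι : W → X be a regular immersion
of codimension c. The following are equivalent: (a) ι meets C properly, that is, whenever P is an
irreducible component of C and Q is an irreducible component of P ×_X W (the subspace P ∩ π⁻¹(ι(W))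
of C), one has dim Q = dim P − c; (b) dim C ×_X W ≤ n − c (the subspace π⁻¹(ι(W)) of C). Dimensions
are written additively: dim Q + c = n and dim π⁻¹(ι(W)) + c ≤ n, the empty space having dimension ⊥.
(Stated for each of the four kinds of regular immersion of codimension c — regular, Koszul-regular,
H₁-regular, quasi-regular; the published statement does not distinguish kinds.) -/
theorem result (k : Type u) [Field k] (C X W : Scheme.{u})
    (q : X ⟶ Spec (CommRingCat.of k)) (π : C ⟶ X) (ι : W ⟶ X)
    [LocallyOfFiniteType q] [CompactSpace X] [LocallyOfFiniteType π] [CompactSpace C]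
    (κ : RegImm.Kind) (n c : ℕ) (hι : RegImm.IsRegularImmersionOfCodim κ c ι)
    (hC : ∀ P ∈ irreducibleComponents (C : Type u), topologicalKrullDim P = n) :
    (∀ P ∈ irreducibleComponents (C : Type u), ∀ Q ∈ irreducibleComponents (P ∩ π ⁻¹' Set.range ι : Set C),
        topologicalKrullDim Q + (c : WithBot ℕ∞) = n) ↔
      topologicalKrullDim (π ⁻¹' Set.range ι : Set C) + (c : WithBot ℕ∞) ≤ n := by
  open Groth.Agent.DimLib in
  have : IsImmersion ι := hι.1
  have hlc : ∀ P ∈ irreducibleComponents (C : Type u), IsLocallyClosed (P ∩ π ⁻¹' Set.range ι) := fun P hP =>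
    (isClosed_of_mem_irreducibleComponents P hP).isLocallyClosed.inter
      (ι.isLocallyClosed_range.preimage π.continuous)
  rw [dim_preimage_range_add_le_iff (π ≫ q) π ι]
  have key : ∀ P (hP : P ∈ irreducibleComponents (C : Type u)),
      (∀ Q ∈ irreducibleComponents ↥(P ∩ π ⁻¹' Set.range ι), topologicalKrullDim Q + (c : WithBot ℕ∞) = n) ↔
      ∀ z ∈ P ∩ π ⁻¹' Set.range ι, (∀ w ∈ P ∩ π ⁻¹' Set.range ι, w ⤳ z → z = w) → ptDim (π ≫ q) z + c = n :=
    fun P hP => by
      rw [forall_components_subset_iff (π ≫ q) (hlc P hP) (fun e => e + (c : WithBot ℕ∞) = n)]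
      refine forall₃_congr fun z hz hm => ?_
      exact_mod_cast Iff.rfl
  constructor
  · intro h y hy
    obtain ⟨η, hη, hmax⟩ := exists_maximal_specializes y
    have hP := closure_mem_components hmax
    obtain ⟨z, hz, hzy, hzmax⟩ := exists_maximal_mem (π ≫ q) (S := closure {η} ∩ π ⁻¹' Set.range ι) (η := η)
      ⟨specializes_iff_mem_closure.1 hη, hy⟩ (fun w hw _ => specializes_iff_mem_closure.2 hw.1)
    have h1 := (key _ hP).1 (h _ hP) z hz hzmax
    have h2 := ptDim_le_of_specializes (π ≫ q) hzy
    omega
  · intro h P hP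
    rw [key P hP]
    intro z hz hmax
    obtain ⟨η, hη, hηmax⟩ := exists_genericPoint_of_mem_components hP
    have h1 : ptDim (π ≫ q) η = n := by
      exact_mod_cast (topologicalKrullDim_eq_ptDim_of_isGenericPoint (π ≫ q) hη).symm.trans (hC P hP)
    obtain ⟨w, hw⟩ := hz.2
    obtain ⟨U, hwU, hcl, rs, hlen, -, hker⟩ := hι.2 w
    have h2 := ptDim_le_add_of_minimal_preimage (π ≫ q) π ι U.2 rs hker (hη.specializes hz.1)
      (hw ▸ hwU) hz.2 (fun v hv hvz hvι => (hmax v ⟨hη.def ▸ specializes_iff_mem_closure.1 hv, hvι⟩ hvz).symm)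
    have h3 := h z hz.2
    omega

end Groth.Agent.S14481
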