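import Groth.Statements.S14482
import Groth.Agent.DimLib.Bound

set_option autoImplicit false
universe u
open CategoryTheory AlgebraicGeometry
open CharCyc

namespace Groth.Agent.S14482

/-- Second assertion: let k be a field, let π : C → X be a morphism between k-schemes of finite type
such that every irreducible component of C has dimension n, let ι : W → X be a regular immersion of
codimension c, and for j ≥ 0 let B_j ⊆ X be the set of points whose fibre under π has dimension at
least j. Assume that every B_j is closed in X. Then dim B_j + j ≤ n for every j, and the condition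
dim π⁻¹(ι(W)) + c ≤ n (that is, dim C ×_X W ≤ n − c) holds if and only if dim ι⁻¹(B_j) + c + j ≤ n
for every j (that is, ι meets the sequence (B_j) n-semi-properly). Dimensions are topological Krull
dimensions of subspaces, the empty space having dimension ⊥. (Stated for each of the four kinds of
regular immersion of codimension c — regular, Koszul-regular, H₁-regular, quasi-regular; the
published statement does not distinguish kinds.) -/
theorem result (k : Type u) [Field k] (C X W : Scheme.{u})
    (q : X ⟶ Spec (CommRingCat.of k)) (π : C ⟶ X) (ι : W ⟶ X)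
    [LocallyOfFiniteType q] [CompactSpace X] [LocallyOfFiniteType π] [CompactSpace C]
    (κ : RegImm.Kind) (n c : ℕ) (hι : RegImm.IsRegularImmersionOfCodim κ c ι)
    (hC : ∀ P ∈ irreducibleComponents (C : Type u), topologicalKrullDim P = n)
    (hB : ∀ j : ℕ, IsClosed {x : X | (j : WithBot ℕ∞) ≤ topologicalKrullDim (π.fiber x)}) :
    (∀ j : ℕ, topologicalKrullDim {x : X | (j : WithBot ℕ∞) ≤ topologicalKrullDim (π.fiber x)} + (j : WithBot ℕ∞) ≤ n) ∧
      (topologicalKrullDim (π ⁻¹' Set.range ι : Set C) + (c : WithBot ℕ∞) ≤ n ↔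
        ∀ j : ℕ, topologicalKrullDim (ι ⁻¹' {x : X | (j : WithBot ℕ∞) ≤ topologicalKrullDim (π.fiber x)} : Set W) + (c : WithBot ℕ∞) + (j : WithBot ℕ∞) ≤ n) := by
  open Groth.Agent.DimLib in
  have hι' : IsImmersion ι := hι.1
  have : LocallyOfFiniteType ι := inferInstance
  have hn : topologicalKrullDim C ≤ n := by
    refine topologicalKrullDim_le_of_forall_maximal (π ≫ q) _ fun η hη => ?_
    exact (((forall_components_iff (π ≫ q) (fun e => e = (n : WithBot ℕ∞))).1 hC η hη)).le
  refine ⟨fun j => ?_, ?_⟩
  · have := (Groth.Agent.DimLib.dim_le_iff_fibreDimGE q π n).1 hn j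
    rw [← fibreDimGE_eq q π j] at this
    exact le_of_eq_of_le (congrArg (fun S : Set X => topologicalKrullDim ↥S + (j : WithBot ℕ∞)) (hB j).closure_eq.symm) this
  rw [Groth.Agent.DimLib.dim_preimage_range_add_le_iff (π ≫ q) π ι]
  have hd : ∀ j : ℕ, topologicalKrullDim ↥(ι ⁻¹' {x : X | (j : WithBot ℕ∞) ≤ topologicalKrullDim ↥(π.fiber x)})
      + (c : WithBot ℕ∞) + (j : WithBot ℕ∞) ≤ n ↔
      ∀ w : W, (∃ y, π y = ι w ∧ Groth.Agent.DimLib.ptDim q (ι w) + j ≤ Groth.Agent.DimLib.ptDim (π ≫ q) y) →
        Groth.Agent.DimLib.ptDim q (ι w) + (c + j) ≤ n := fun j => by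
    rw [add_assoc, ← Nat.cast_add, Groth.Agent.DimLib.dim_closed_add_le_iff (ι ≫ q) ((hB j).preimage ι.continuous)]
    simp only [Groth.Agent.DimLib.ptDim_comp_preimmersion]
    refine forall_congr' fun w => imp_congr ?_ Iff.rfl
    exact iff_of_eq (congrArg (ι w ∈ ·) (fibreDimGE_eq q π j))
  refine Iff.trans ?_ (forall_congr' hd).symm
  constructor
  · rintro h j w ⟨y, hy, hle⟩
    have := h y ⟨w, hy.symm⟩
    omega
  · rintro h y ⟨w, hw⟩
    obtain ⟨j, hj⟩ := Nat.exists_eq_add_of_le (Groth.Agent.DimLib.ptDim_apply_le q π y)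
    have := h j w ⟨y, hw.symm, by rw [hw]; omega⟩
    rw [hw] at this
    omega

end Groth.Agent.S14482
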