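import Groth.Statements.S14483
import Groth.Agent.CommAlg4.WellIntersect
-- import your own Groth.Agent.* helpers here

set_option autoImplicit false
universe u
open CategoryTheory CategoryTheory.Limits AlgebraicGeometry
open CharCyc

open Groth.Agent.CommAlg4.WellIntersect TopologicalSpace

namespace Groth.Agent.S14483

/-- Let k be a field and let f : X → S be a morphism between separated k-schemes of finite type. Two
closed subsets Y, Z of X are said to well intersect with respect to f when dim(Y ×_S Z ∖ Y ×_X Z) ≤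
dim Y + dim Z − dim S; here Y ×_S Z ∖ Y ×_X Z is taken as the subspace of X ×_S X of points whose
two projections lie in Y and in Z and which are not in the image of the diagonal, and the inequality
is written additively as dim(Y ×_S Z ∖ Y ×_X Z) + dim S ≤ dim Y + dim Z (topological Krull
dimensions, the empty space having dimension ⊥). Let Y ⊆ X be closed and irreducible with dim Y <
dim S, and suppose that the pair Y, Y well intersects with respect to f. Then Y → S is generically
radicial onto its image: there is an open subset V of X meeting Y such that f is injective on V ∩ Y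
and, at every point of V ∩ Y, the residue field extension induced by f is purely inseparable. -/
theorem result (k : Type u) [Field k] (X S : Scheme.{u})
    (q : S ⟶ Spec (CommRingCat.of k)) (f : X ⟶ S)
    [LocallyOfFiniteType q] [CompactSpace S] [IsSeparated q] [LocallyOfFiniteType f] [CompactSpace X] [IsSeparated f]
    (Y : Set X) (hYc : IsClosed Y) (hYi : IsIrreducible Y)
    (hWI : topologicalKrullDim {p : ↥(pullback f f) | pullback.fst f f p ∈ Y ∧ pullback.snd f f p ∈ Y ∧ p ∉ Set.range (pullback.diagonal f)} + topologicalKrullDim S ≤ topologicalKrullDim Y + topologicalKrullDim Y)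
    (hYS : topologicalKrullDim Y < topologicalKrullDim S) :
    ∃ V : Set X, IsOpen V ∧ (V ∩ Y).Nonempty ∧ Set.InjOn f.base (V ∩ Y) ∧
      ∀ x ∈ V ∩ Y, (f.residueFieldMap x).hom.IsPurelyInseparable := by
  haveI : NoetherianSpace X := noetherianSpace_of_lft (f ≫ q)
  obtain ⟨η, hη⟩ := QuasiSober.sober hYi hYc
  let O : (pullback f f).Opens :=
    ⟨(Set.range (pullback.diagonal f))ᶜ, (pullback.diagonal f).isClosedEmbedding.isClosed_range.isOpen_compl⟩
  haveI : QuasiCompact f := by
    haveI : QuasiCompact (f ≫ q) := inferInstance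
    exact QuasiCompact.of_comp f q
  haveI : CompactSpace ↥(pullback f f) := QuasiCompact.compactSpace_of_compactSpace (pullback.fst f f)
  haveI : NoetherianSpace ↥(pullback f f) := noetherianSpace_of_lft (pullback.fst f f ≫ f ≫ q)
  haveI : NoetherianSpace ↥(O : Scheme) := inferInstanceAs (NoetherianSpace ↥(O : Set ↥(pullback f f)))
  set g : (O : Scheme) ⟶ X := O.ι ≫ pullback.fst f f with hg
  set C : Set ↥(O : Scheme) :=
    g ⁻¹' Y ∩ (O.ι ≫ pullback.snd f f) ⁻¹' Y with hC
  have hCc : IsClosed C := (hYc.preimage g.continuous).inter (hYc.preimage (O.ι ≫ pullback.snd f f).continuous)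
  have hoff : ∀ c ∈ C, O.ι c ∈ offDiag f Y Y := fun c hc => ⟨hc.1, hc.2, c.2⟩
  have hη' : η ∉ closure (g '' C) := by
    intro h
    obtain ⟨c, hc, hcη⟩ := mem_image_of_mem_closure g.continuous hCc h
      (by rintro s ⟨c, hc, rfl⟩; exact hη.def.symm ▸ hc.1)
    refine not_add_le_add (f ≫ q) hη hη hYS (le_trans ?_ hWI)
    exact add_le_add (dim_le_dim_offDiag q f hYc hYc hη (hoff c hc) hcη) le_rfl
  have hmem : ∀ (p : ↥(pullback f f)) (x : X), pullback.fst f f p = x → x ∈ Y → pullback.snd f f p ∈ Y →
      x ∈ (closure (g '' C))ᶜ → p ∈ Set.range (pullback.diagonal f) := by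
    intro p x hp hx hp2 hxC
    by_contra hnd
    refine hxC (subset_closure ⟨⟨p, hnd⟩, ⟨?_, hp2⟩, hp⟩)
    show pullback.fst f f p ∈ Y
    rwa [hp]
  refine ⟨(closure (g '' C))ᶜ, isClosed_closure.isOpen_compl, ⟨η, hη', hη.mem⟩, ?_, ?_⟩
  · rintro a ⟨haV, haY⟩ b ⟨-, hbY⟩ hab
    obtain ⟨p, hp1, hp2⟩ := Scheme.Pullback.exists_preimage_pullback a b hab
    obtain ⟨u, rfl⟩ := hmem p a hp1 haY (by rw [hp2]; exact hbY) haV
    rw [← Scheme.Hom.comp_apply, pullback.diagonal_fst] at hp1
    rw [← Scheme.Hom.comp_apply, pullback.diagonal_snd] at hp2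
    exact hp1.symm.trans hp2
  · rintro x ⟨hxV, hxY⟩
    exact isPurelyInseparable_of_forall_mem_diagonal f x fun p hp1 hp2 =>
      hmem p x hp1 hxY (by rw [hp2]; exact hxY) hxV

end Groth.Agent.S14483
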