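import Groth.Statements.S14484
import Groth.Agent.CommAlg4.WellIntersect
-- import your own Groth.Agent.* helpers here

set_option autoImplicit false
universe u
open CategoryTheory CategoryTheory.Limits AlgebraicGeometry
open CharCyc

open Groth.Agent.CommAlg4.WellIntersect TopologicalSpace

namespace Groth.Agent.S14484

/-- Let k be a field and let f : X → S be a morphism between separated k-schemes of finite type. Two
closed subsets Y, Z of X are said to well intersect with respect to f when dim(Y ×_S Z ∖ Y ×_X Z) ≤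
dim Y + dim Z − dim S; here Y ×_S Z ∖ Y ×_X Z is taken as the subspace of X ×_S X of points whose
two projections lie in Y and in Z and which are not in the image of the diagonal, and the inequality
is written additively as dim(Y ×_S Z ∖ Y ×_X Z) + dim S ≤ dim Y + dim Z (topological Krull
dimensions, the empty space having dimension ⊥). Let Y, Z ⊆ X be closed irreducible subsets that
well intersect with respect to f, with dim Y < dim S and dim Z < dim S, and assume Y ⊄ Z. Then f(Y)
is not contained in the closure of f(Y) ∩ f(Z); in particular f(Y) ⊄ f(Z). -/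
theorem result (k : Type u) [Field k] (X S : Scheme.{u})
    (q : S ⟶ Spec (CommRingCat.of k)) (f : X ⟶ S)
    [LocallyOfFiniteType q] [CompactSpace S] [IsSeparated q] [LocallyOfFiniteType f] [CompactSpace X] [IsSeparated f]
    (Y Z : Set X) (hYc : IsClosed Y) (hYi : IsIrreducible Y) (hZc : IsClosed Z) (hZi : IsIrreducible Z)
    (hWI : topologicalKrullDim {p : ↥(pullback f f) | pullback.fst f f p ∈ Y ∧ pullback.snd f f p ∈ Z ∧ p ∉ Set.range (pullback.diagonal f)} + topologicalKrullDim S ≤ topologicalKrullDim Y + topologicalKrullDim Z)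
    (hYS : topologicalKrullDim Y < topologicalKrullDim S) (hZS : topologicalKrullDim Z < topologicalKrullDim S)
    (hYZ : ¬ Y ⊆ Z) :
    ¬ (f.base '' Y ⊆ closure (f.base '' Y ∩ f.base '' Z)) ∧ ¬ (f.base '' Y ⊆ f.base '' Z) := by
  haveI : NoetherianSpace X := noetherianSpace_of_lft (f ≫ q)
  obtain ⟨η, hη⟩ := QuasiSober.sober hYi hYc
  obtain ⟨ζ, hζ⟩ := QuasiSober.sober hZi hZc
  have hηZ : η ∉ Z := fun h => hYZ ((hη.def ▸ hZc.closure_subset_iff.2 (Set.singleton_subset_iff.2 h)))
  have key : f.base η ∉ f.base '' Z := by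
    rintro ⟨z, hz, hzη⟩
    obtain ⟨P, hP1, hP2⟩ := Scheme.Pullback.exists_preimage_pullback η z hzη.symm
    have hP : P ∈ offDiag f Y Z := by
      refine ⟨by rw [hP1]; exact hη.mem, by rw [hP2]; exact hz, ?_⟩
      rintro ⟨u, rfl⟩
      rw [← Scheme.Hom.comp_apply, pullback.diagonal_fst] at hP1
      rw [← Scheme.Hom.comp_apply, pullback.diagonal_snd] at hP2
      exact hηZ (hP1.symm.trans hP2 ▸ hz)
    refine not_add_le_add (f ≫ q) hη hζ hZS (le_trans ?_ hWI)
    exact add_le_add (dim_le_dim_offDiag q f hYc hZc hη hP hP1) le_rfl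
  refine ⟨fun h => key ?_, fun h => key (h ⟨η, hη.mem, rfl⟩)⟩
  have hsub : f.base '' Y ⊆ closure {f.base η} := by
    have := hη.image f.continuous
    exact subset_closure.trans this.def.symm.subset
  have h1 : f.base η ∈ closure (f.base '' (Z ∩ f.base ⁻¹' closure {f.base η})) := by
    refine closure_mono ?_ (h ⟨η, hη.mem, rfl⟩)
    rintro s ⟨hsY, z, hz, rfl⟩
    exact ⟨z, ⟨hz, hsub hsY⟩, rfl⟩
  have h2 := mem_image_of_mem_closure f.continuous (hZc.inter (isClosed_closure.preimage f.continuous)) h1
    (by rintro s ⟨z, hz, rfl⟩; exact hz.2)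
  exact Set.image_mono Set.inter_subset_left h2

end Groth.Agent.S14484
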