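import Groth.Statements.S14485
import Groth.Agent.DimLib.Sub
import Groth.Agent.DimLib.Morphism
import Groth.Agent.Coherent.CohBC.FibreField
-- import your own Groth.Agent.* helpers here

set_option autoImplicit false
universe u
open CategoryTheory CategoryTheory.Limits AlgebraicGeometry
open CharCyc

namespace Groth.Agent.S14485

theorem add_le_add_nat_iff (a b : WithBot ℕ∞) (n : ℕ) :
    a + (n : WithBot ℕ∞) ≤ b + (n : WithBot ℕ∞) ↔ a ≤ b := by
  refine ⟨fun h => ?_, fun h => add_le_add h le_rfl⟩
  induction a using WithBot.recBotCoe with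
  | bot => exact bot_le
  | coe a =>
    induction b using WithBot.recBotCoe with
    | bot => rw [WithBot.bot_add] at h; exact absurd h (by exact (WithBot.coe_ne_bot (a := a + (n : ℕ∞))) ∘ le_bot_iff.1)
    | coe b =>
      have h' : a + (n : ℕ∞) ≤ b + (n : ℕ∞) := WithBot.coe_le_coe.1 h
      exact WithBot.coe_le_coe.2 ((ENat.add_le_add_iff_right (ENat.natCast_ne_top n)).1 h')

theorem range_of_isPullback {P A B C : Scheme.{u}} {a : P ⟶ A} {b : P ⟶ B} {i : A ⟶ C} {h : B ⟶ C}
    (H : IsPullback a b i h) : Set.range b = h ⁻¹' Set.range i := by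
  rw [← H.isoPullback_hom_snd]
  refine Eq.trans ?_ (Scheme.Pullback.range_snd i h)
  rw [Scheme.Hom.comp_base, TopCat.coe_comp, Set.range_comp, Set.range_eq_univ.2 H.isoPullback.hom.surjective,
    Set.image_univ]

theorem dim_preimage {k : Type u} [Field k] {T T' : Scheme.{u}} (p : T ⟶ Spec (CommRingCat.of k))
    [LocallyOfFiniteType p] (h : T' ⟶ T) [LocallyOfFiniteType h] (d : ℕ)
    (hd : ∀ t : T, topologicalKrullDim (h.fiber t) = d) {C : Set T} (hC : IsLocallyClosed C) :
    topologicalKrullDim ↥(h ⁻¹' C) = topologicalKrullDim ↥C + d := by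
  have hd' : ∀ t : T, topologicalKrullDim (h.base ⁻¹' {t}) = d := fun t =>
    ((h.fiberHomeo t).isHomeomorph.topologicalKrullDim_eq).symm.trans (hd t)
  rw [DimLib.topologicalKrullDim_locallyClosed_eq_iSup p hC,
    DimLib.topologicalKrullDim_locallyClosed_eq_iSup (h ≫ p) (hC.preimage h.continuous)]
  rcases isEmpty_or_nonempty C with hE | ⟨⟨c0⟩⟩
  · haveI : IsEmpty ↥(h ⁻¹' C) := ⟨fun y => hE.false ⟨h y.1, y.2⟩⟩
    rw [iSup_of_empty, iSup_of_empty, WithBot.bot_add]
  refine le_antisymm (iSup_le fun y => ?_) ?_
  · refine le_trans ?_ (add_le_add (le_iSup (fun x : C => (DimLib.ptDim p x.1 : WithBot ℕ∞)) ⟨h y.1, y.2⟩) le_rfl)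
    exact_mod_cast (DimLib.topologicalKrullDim_fiber_le_iff p h (h y.1) d).1 (hd' _).le y.1 rfl
  · have key : ∀ c : C, (DimLib.ptDim p c.1 : WithBot ℕ∞) + d ≤
        ⨆ y : ↥(h ⁻¹' C), (DimLib.ptDim (h ≫ p) y.1 : WithBot ℕ∞) := fun c => by
      obtain ⟨y, hy, hle⟩ := (DimLib.le_topologicalKrullDim_fiber_iff p h c.1 d).1 (hd' _).ge
      refine le_iSup_of_le ⟨y, show h y ∈ C from hy ▸ c.2⟩ ?_
      exact_mod_cast hle
    generalize (⨆ y : ↥(h ⁻¹' C), (DimLib.ptDim (h ≫ p) y.1 : WithBot ℕ∞)) = D at key ⊢
    have h0 := key c0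
    induction D using WithBot.recBotCoe with
    | bot => norm_cast at h0
    | coe D =>
      induction D using ENat.recTopCoe with
      | top => exact le_top
      | coe n =>
        have hb : (⨆ c : C, (DimLib.ptDim p c.1 : WithBot ℕ∞)) ≤ ((n - d : ℕ) : WithBot ℕ∞) := iSup_le fun c => by
          have := key c
          norm_cast at this ⊢
          omega
        refine le_trans (add_le_add hb le_rfl) ?_
        have hdn : d ≤ n := by norm_cast at h0; omega
        rw [← Nat.cast_add]
        exact Nat.cast_le.2 (show n - d + d ≤ n by omega)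

/-- Let k be a field and let f : X → S be a morphism between separated k-schemes of finite type. Two
closed subsets Y, Z of X are said to well intersect with respect to f when dim(Y ×_S Z ∖ Y ×_X Z) ≤
dim Y + dim Z − dim S; here Y ×_S Z ∖ Y ×_X Z is taken as the subspace of X ×_S X of points whose
two projections lie in Y and in Z and which are not in the image of the diagonal, and the inequality
is written additively as dim(Y ×_S Z ∖ Y ×_X Z) + dim S ≤ dim Y + dim Z (topological Krull
dimensions, the empty space having dimension ⊥). Let Y, Z ⊆ X be closed subsets, and let g : S' → S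
be faithfully flat with every fibre of dimension d (relative constant dimension d), where S' is
again a separated k-scheme of finite type. Write f' : X' = X ×_S S' → S' for the base change and Y',
Z' ⊆ X' for the preimages of Y, Z. Then well-intersection of Y, Z with respect to f is equivalent to
well-intersection of Y', Z' with respect to f'. -/
theorem result (k : Type u) [Field k] (X S S' : Scheme.{u})
    (q : S ⟶ Spec (CommRingCat.of k)) (f : X ⟶ S) (g : S' ⟶ S)
    [LocallyOfFiniteType q] [CompactSpace S] [IsSeparated q] [LocallyOfFiniteType f] [CompactSpace X] [IsSeparated f]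
    [LocallyOfFiniteType g] [CompactSpace S'] [IsSeparated g] [Flat g] [Surjective g]
    (d : ℕ) (hd : ∀ s : S, topologicalKrullDim (g.fiber s) = d)
    (Y Z : Set X) (hYc : IsClosed Y) (hZc : IsClosed Z) :
    (topologicalKrullDim {p : ↥(pullback f f) | pullback.fst f f p ∈ Y ∧ pullback.snd f f p ∈ Z ∧ p ∉ Set.range (pullback.diagonal f)} + topologicalKrullDim S ≤ topologicalKrullDim Y + topologicalKrullDim Z) ↔
      (topologicalKrullDim {p : ↥(pullback (pullback.snd f g) (pullback.snd f g)) | pullback.fst (pullback.snd f g) (pullback.snd f g) p ∈ ((pullback.fst f g) ⁻¹' Y) ∧ pullback.snd (pullback.snd f g) (pullback.snd f g) p ∈ ((pullback.fst f g) ⁻¹' Z) ∧ p ∉ Set.range (pullback.diagonal (pullback.snd f g))} + topologicalKrullDim S' ≤ topologicalKrullDim ((pullback.fst f g) ⁻¹' Y) + topologicalKrullDim ((pullback.fst f g) ⁻¹' Z)) := by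
  haveI : QuasiCompact (f ≫ q) := (quasiCompact_iff_compactSpace _).2 ‹_›
  haveI : QuasiCompact f := QuasiCompact.of_comp f q
  haveI : QuasiCompact (g ≫ q) := (quasiCompact_iff_compactSpace _).2 ‹_›
  haveI : QuasiCompact g := QuasiCompact.of_comp g q
  haveI : IsSeparated (pullback.fst f f ≫ f) := inferInstance
  let sqX := IsPullback.of_hasPullback f g
  let sq1 := (IsPullback.of_hasPullback (pullback.snd f g) (pullback.snd f g)).flip
  let h : pullback (pullback.snd f g) (pullback.snd f g) ⟶ pullback f f :=
    pullback.map _ _ _ _ (pullback.fst f g) (pullback.fst f g) g sqX.w.symm sqX.w.symm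
  have hh1 : h ≫ pullback.fst f f = pullback.fst (pullback.snd f g) (pullback.snd f g) ≫ pullback.fst f g := by
    exact pullback.lift_fst _ _ _
  have hh2 : h ≫ pullback.snd f f = pullback.snd (pullback.snd f g) (pullback.snd f g) ≫ pullback.fst f g := by
    exact pullback.lift_snd _ _ _
  have sqB : IsPullback h (pullback.fst (pullback.snd f g) (pullback.snd f g)) (pullback.fst f f) (pullback.fst f g) := by
    have A := sq1.paste_horiz sqX
    refine IsPullback.of_right ?_ hh1 (IsPullback.of_hasPullback f f).flip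
    rw [hh2, sqX.w]
    exact A
  have sqT := sqB.paste_vert sqX
  have hP : {p : ↥(pullback (pullback.snd f g) (pullback.snd f g)) | pullback.fst (pullback.snd f g) (pullback.snd f g) p ∈ ((pullback.fst f g) ⁻¹' Y) ∧ pullback.snd (pullback.snd f g) (pullback.snd f g) p ∈ ((pullback.fst f g) ⁻¹' Z) ∧ p ∉ Set.range (pullback.diagonal (pullback.snd f g))} =
      h ⁻¹' {p : ↥(pullback f f) | pullback.fst f f p ∈ Y ∧ pullback.snd f f p ∈ Z ∧ p ∉ Set.range (pullback.diagonal f)} := by
    have hdg : IsPullback (pullback.fst f g) (pullback.diagonal (pullback.snd f g)) (pullback.diagonal f) h := by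
      refine IsPullback.of_bot (v₂₁ := pullback.fst (pullback.snd f g) (pullback.snd f g))
        (v₂₂ := pullback.fst f f) (h₃₁ := pullback.fst f g) ?_ ?_ sqB
      · simpa using IsPullback.of_vert_isIso (CommSq.mk (show pullback.fst f g ≫ 𝟙 X = 𝟙 _ ≫ pullback.fst f g by simp))
      · ext1 <;> simp [hh1, hh2]
    have hr : Set.range (pullback.diagonal (pullback.snd f g)) = h ⁻¹' Set.range (pullback.diagonal f) :=
      range_of_isPullback hdg
    ext p
    have e1 : pullback.fst f f (h p) = pullback.fst f g (pullback.fst (pullback.snd f g) (pullback.snd f g) p) :=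
      congrArg (fun m : pullback (pullback.snd f g) (pullback.snd f g) ⟶ X => m p) hh1
    have e2 : pullback.snd f f (h p) = pullback.fst f g (pullback.snd (pullback.snd f g) (pullback.snd f g) p) :=
      congrArg (fun m : pullback (pullback.snd f g) (pullback.snd f g) ⟶ X => m p) hh2
    simp only [Set.mem_preimage, Set.mem_setOf_eq, hr, e1, e2]
  have hlc : IsLocallyClosed {p : ↥(pullback f f) | pullback.fst f f p ∈ Y ∧ pullback.snd f f p ∈ Z ∧ p ∉ Set.range (pullback.diagonal f)} := by
    refine ⟨(Set.range (pullback.diagonal f))ᶜ, pullback.fst f f ⁻¹' Y ∩ pullback.snd f f ⁻¹' Z,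
      (pullback.diagonal f).isClosedEmbedding.isClosed_range.isOpen_compl,
      (hYc.preimage (pullback.fst f f).continuous).inter (hZc.preimage (pullback.snd f f).continuous), ?_⟩
    ext p
    exact ⟨fun ⟨a, b, c⟩ => ⟨c, a, b⟩, fun ⟨c, a, b⟩ => ⟨a, b, c⟩⟩
  have hfT : ∀ t, topologicalKrullDim ↥(h.fiber t) = d := fun t =>
    (Coherent.CohBC.topologicalKrullDim_fiber_of_isPullback (f := g) (g := pullback.fst f f ≫ f) sqT.flip t).trans (hd _)
  have hfX : ∀ x, topologicalKrullDim ↥((pullback.fst f g).fiber x) = d := fun x =>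
    (Coherent.CohBC.topologicalKrullDim_fiber_of_isPullback (f := g) (g := f) sqX.flip x).trans (hd _)
  haveI : LocallyOfFiniteType h :=
    MorphismProperty.of_isPullback (P := @LocallyOfFiniteType) sqT.flip ‹LocallyOfFiniteType g›
  rw [hP, dim_preimage ((pullback.fst f f ≫ f) ≫ q) h d hfT hlc,
    dim_preimage (f ≫ q) (pullback.fst f g) d hfX hYc.isLocallyClosed,
    dim_preimage (f ≫ q) (pullback.fst f g) d hfX hZc.isLocallyClosed]
  have hS : topologicalKrullDim S' = topologicalKrullDim S + d := by
    rw [← (Homeomorph.Set.univ S').isHomeomorph.topologicalKrullDim_eq,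
      ← (Homeomorph.Set.univ S).isHomeomorph.topologicalKrullDim_eq]
    exact dim_preimage q g d hd isClosed_univ.isLocallyClosed
  rw [hS, show ∀ a b : WithBot ℕ∞, a + (d : WithBot ℕ∞) + (b + d) = a + b + (d + d) from fun a b => add_add_add_comm a d b d,
    show ∀ a b : WithBot ℕ∞, a + (d : WithBot ℕ∞) + (b + d) = a + b + (d + d) from fun a b => add_add_add_comm a d b d]
  exact (add_le_add_nat_iff _ _ (d + d)).symm.trans (by rw [Nat.cast_add])

end Groth.Agent.S14485
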