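import Groth.Statements.S14486
import Groth.Agent.Surf15.K3
import Groth.Agent.Surf15.IntPush
-- import your own Groth.Agent.* helpers here

set_option autoImplicit false
universe u
open CategoryTheory CategoryTheory.Limits AlgebraicGeometry
open Surf

open TopologicalSpace
open Groth.Agent.Coherent Groth.Agent.PicLib Groth.Agent.AmpleLib Groth.Agent.EulerLib Groth.Agent.CurveRR24 Groth.Agent.DimLib Groth.Agent.Surf15
set_option linter.style.haveILetI false
set_option backward.isDefEq.respectTransparency.types false

namespace Groth.Agent.S14486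

/-- Let k be an algebraically closed field and X a projective K3 surface over k: an integral scheme of
dimension two with all local rings regular, admitting a closed immersion into some P^n_k over k,
whose structure sheaf O_X is a second exterior power of Ω_{X/k} (the canonical sheaf is trivial) and
with H^1(X, O_X) = 0. Let C be a nonsingular curve of genus g on X: an integral closed subscheme of
dimension one with all local rings regular, with ideal sheaf I ⊆ O_X and g = dim_k H^1(C, O_C); let
M be an inverse of I for the tensor product (M = O_X(C)). Then C² = 2g - 2 and h^0(X, O_X(C)) = g +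
1. Writing (L·L') for the intersection number χ(O_X) - χ(L) - χ(L') + χ(L ⊗ L') of two invertible
modules (packaged as FGA.intNum), C² = (I·I), so the assertion reads (I·I) = 2g - 2 and dim_k H^0(X,
M) = g + 1. (A K3 surface is only required to be proper; this row assumes the projective embedding.) -/
theorem result (k : Type u) [Field k] [IsAlgClosed k] (X : Scheme.{u})
    [X.Over (Spec (CommRingCat.of k))] [IsIntegral X] (hdim : topologicalKrullDim X = 2)
    (hreg : ∀ x : X, IsRegularLocalRing (X.presheaf.stalk x))
    (hproj : ∃ (n : ℕ) (ι : X ⟶ CohB1.ProjSpace n k), IsClosedImmersion ι ∧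
      ι ≫ CohB1.ProjSpace.toSpec n k = (X ↘ (Spec (CommRingCat.of k))))
    (hK : ExtPow.IsExtPow 2 (Omega.sheaf (X ↘ (Spec (CommRingCat.of k)))) (Coh.structureModule X))
    (hH1 : Subsingleton (Coh.HH X (Coh.structureModule X) 1))
    (C : Scheme.{u}) (i : C ⟶ X) [IsClosedImmersion i] [IsIntegral C] (hC : topologicalKrullDim C = 1)
    (hCreg : ∀ c : C, IsRegularLocalRing (C.presheaf.stalk c))
    (M : X.Modules) (hM : ClSub.IsInverseOf M (ClSub.idealMod i.ker)) :
    letI : C.Over (Spec (CommRingCat.of k)) := ⟨i ≫ (X ↘ (Spec (CommRingCat.of k)))⟩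
    FGA.intNum k X 2 ![ClSub.idealMod i.ker, ClSub.idealMod i.ker] (Coh.structureModule X) =
        2 * (Curv2.genus k C : ℤ) - 2 ∧
      Module.finrank k (Coh.HH X M 0) = Curv2.genus k C + 1 := by
  letI : C.Over (Spec (CommRingCat.of k)) := ⟨i ≫ (X ↘ (Spec (CommRingCat.of k)))⟩
  obtain ⟨n, ι, hι, hιe⟩ := hproj
  haveI : IsProper (CohB1.ProjSpace.toSpec n k) := Groth.Agent.Coherent.isProper_projSpace_toSpec n k
  haveI : IsProper (X ↘ Spec (CommRingCat.of k)) := by rw [← hιe]; infer_instance
  haveI : Smooth (X ↘ Spec (CommRingCat.of k)) :=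
    Groth.Agent.CurveRR24.smooth_of_regular_closedPoints _ fun x _ => hreg x
  have hX : topologicalKrullDim X = ((2 : ℕ) : WithBot ℕ∞) := by exact_mod_cast hdim
  haveI : IsProper (C ↘ Spec (CommRingCat.of k)) := inferInstanceAs (IsProper (i ≫ _))
  haveI := isNoetherian_of_proper (X := X) k
  haveI := isSeparated_of_proper (X := X) k
  haveI := isNoetherian_of_proper (X := C) k
  haveI := isSeparated_of_proper (X := C) k
  haveI : Coh.IsQCoh (Coh.structureModule C) := isQCoh_structureModule
  haveI : GeometricallyIntegral (C ↘ Spec (CommRingCat.of k)) :=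
    Groth.Agent.AbVarLib.geometricallyIntegral_of_isAlgClosed _
  have hO : PicF.IsInvertible (Coh.structureModule X) := isInvertible_structureModule
  have hcrv := isCrv_ker i hC
  have hJ := isEffCartier_of_curve k hX hcrv.1 hcrv.2
  have hI := Groth.Agent.FlatMor12.IdealModGen.isInvertible_idealMod i.ker hJ
  have hMi : PicF.IsInvertible M := by
    obtain ⟨e⟩ := hM
    exact Groth.Agent.PicLib.PicM.isInvertible_of_tensor hI
      (glocus_isInvertible_of_iso ((Groth.Agent.AmpleLib.tensorComm _ _ ≪≫ e).symm) isInvertible_structureModule)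
  obtain ⟨eq'⟩ := nonempty_push_iso_quotMod i
  have hq : Module.finrank k (Coh.HH X (Coh.structureModule X) 1) = 0 := Module.finrank_zero_of_subsingleton
  have hχ := chiCl_one_k3 k hX hK hq
  have hHH : ∀ q, Module.finrank k (Coh.HH X (ClSub.quotMod i.ker) q) =
      Module.finrank k (Coh.HH C (Coh.structureModule C) q) := fun q =>
    ((Groth.Agent.SerreDual.hpush i k rfl (Coh.structureModule C) q).trans (HHCongr k eq' q)).finrank_eq.symm
  have hC0 : Module.finrank k (Coh.HH C (Coh.structureModule C) 0) = 1 := finrank_h0_structure k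
  have hq1 : Curv2.euler k X (ClSub.quotMod i.ker) = 1 - (Curv2.genus k C : ℤ) := by
    rw [euler_three k hX.le (isCoh_quotMod i.ker).1, hHH, hHH, hHH, hC0]
    haveI : Subsingleton (Coh.HH C (Coh.structureModule C) 2) :=
      subsingleton_HH_of_dim (Coh.structureModule C) (d := 1) (by rw [hC]; rfl) one_lt_two
    rw [Module.finrank_zero_of_subsingleton (M := Coh.HH C (Coh.structureModule C) 2)]
    simp [Curv2.genus]
  have hadj := two_euler_quotMod k hX hK hO hJ
  rw [hq1] at hadj
  have h10 : ∀ a, B k a (InvCl.mk (Coh.structureModule X) hO) = 0 := fun a => by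
    have h := B_mul_right k hX.le a (InvCl.mk (Coh.structureModule X) hO) (InvCl.mk (Coh.structureModule X) hO)
    rw [show InvCl.mk (Coh.structureModule X) hO = 1 from rfl, one_mul] at h
    rw [show InvCl.mk (Coh.structureModule X) hO = 1 from rfl]
    omega
  rw [intNum_eq_B k hX.le hI hO, h10] at hadj
  refine ⟨by omega, ?_⟩
  obtain ⟨H, hH⟩ := exists_ample k hX hreg
  have hI0 := subsingleton_h0_idealMod k hX hH hJ hcrv.ne_top
  have hS := shortExact_ideal i.ker
  -- the global functions surject
  haveI := finite_HH_of_isCoh k (isCoh_structureModule X) 0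
  haveI := finite_HH_of_isCoh k (isCoh_quotMod i.ker) 0
  have hinj : Function.Injective (Groth.Agent.SerreDual.hmap k (ClSub.toSubscheme i.ker) 0) := by
    refine (injective_iff_map_eq_zero _).2 fun x hx => ?_
    obtain ⟨y, rfl⟩ := (Groth.Agent.SerreDual.exact_hmap k hS 0 x).1 hx
    rw [@Subsingleton.elim _ hI0 y 0]; exact map_zero _
  have hsurj := (LinearMap.injective_iff_surjective_of_finrank_eq_finrank
    (show Module.finrank k (Coh.HH X (Coh.structureModule X) 0) =
      Module.finrank k (Coh.HH X (ClSub.quotMod i.ker) 0) by rw [finrank_h0_structure k, hHH, hC0])).1 hinj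
  have hI1 := subsingleton_X₁_of_surjective k hS 0 hsurj hH1
  -- duality
  obtain ⟨e⟩ := hM
  obtain ⟨d2, d1, d0⟩ := serre_duality k hX hK hO hMi hI e
  rw [(HHCongr k (unitTensorIso (ClSub.idealMod i.ker)) 0).finrank_eq,
    Module.finrank_zero_of_subsingleton (M := Coh.HH X (ClSub.idealMod i.ker) 0)] at d2
  rw [(HHCongr k (unitTensorIso (ClSub.idealMod i.ker)) 1).finrank_eq,
    Module.finrank_zero_of_subsingleton (M := Coh.HH X (ClSub.idealMod i.ker) 1)] at d1
  have hr := riemannRoch k hX hK hO hMi
  have hgN := mk_inverse_clI' hJ hMi ⟨e⟩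
  have hmm : B k (InvCl.mk M hMi) (InvCl.mk M hMi) = B k (clI' i.ker hJ) (clI' i.ker hJ) := by
    rw [B_inv_left k hX.le hgN, B_inv_right k hX.le hgN]; ring
  rw [intNum_eq_B k hX.le hMi hMi, intNum_eq_B k hX.le hMi hO, h10,
    euler_three k hX.le (isQCoh_of_isInvertible hMi), d2, d1, ← chiCl_one k, hχ, hmm] at hr
  rw [intNum_eq_B k hX.le hI hI] at hadj
  unfold clI' at hr
  omega

end Groth.Agent.S14486
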