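import Groth.Statements.S14487
import Groth.Agent.PicBlowUp13.Main

set_option autoImplicit false
universe u
open CategoryTheory CategoryTheory.Limits AlgebraicGeometry
open BlowUp

namespace Groth.Agent.S14487

/-- Let k be a field, X a regular variety over k (an integral scheme, separated and of finite type over
k, all of whose local rings are regular) and Y ⊆ X a regular closed subvariety of codimension r ≥ 2
(i : Y → X a closed immersion with Y integral, all local rings of Y regular, and dim Y + r = dim X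
with r ≥ 2). Let π : X' → X be a blowing up of X along Y (universal property for the ideal of Y),
let I_E be the ideal sheaf of its exceptional divisor E, and let M be an inverse of I_E for the
tensor product (M = O_{X'}(E)). Then (L, n) ↦ π^*L ⊗ O_{X'}(nE) is an isomorphism of Pic(X) ⊕ ℤ onto
Pic(X'): every invertible O_{X'}-module is isomorphic to π^*L ⊗ I_E^{⊗ n} or to π^*L ⊗ M^{⊗ n} for
some invertible O_X-module L and some n ≥ 0, and if π^*L ⊗ I_E^{⊗ n} or π^*L ⊗ M^{⊗ n} is isomorphic
to O_{X'} for an invertible L and some n ≥ 0, then n = 0 and L ≅ O_X. -/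
theorem result (k : Type u) [Field k] (X : Scheme.{u})
    [X.Over (Spec (CommRingCat.of k))] [IsIntegral X] [IsSeparated (X ↘ (Spec (CommRingCat.of k)))]
    [LocallyOfFiniteType (X ↘ (Spec (CommRingCat.of k)))] [QuasiCompact (X ↘ (Spec (CommRingCat.of k)))]
    (hreg : ∀ x : X, IsRegularLocalRing (X.presheaf.stalk x))
    (Y : Scheme.{u}) (i : Y ⟶ X) [IsClosedImmersion i] [IsIntegral Y]
    (hYreg : ∀ y : Y, IsRegularLocalRing (Y.presheaf.stalk y))
    (dX dY r : ℕ) (hdX : topologicalKrullDim X = dX) (hdY : topologicalKrullDim Y = dY) (hr : dY + r = dX) (h2 : 2 ≤ r)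
    (X' : Scheme.{u}) (π : X' ⟶ X) (hπ : BlowUp.IsBlowUp π i.ker)
    (M : X'.Modules) (hM : ClSub.IsInverseOf M (ClSub.idealMod (BlowUp.exceptional π i.ker))) :
    (∀ L' : X'.Modules, PicF.IsInvertible L' → ∃ L : X.Modules, PicF.IsInvertible L ∧ ∃ n : ℕ,
        Nonempty (L' ≅ CohB1.tensorMod ((Scheme.Modules.pullback π).obj L) (CohB1.tensorPow (ClSub.idealMod (BlowUp.exceptional π i.ker)) n)) ∨
          Nonempty (L' ≅ CohB1.tensorMod ((Scheme.Modules.pullback π).obj L) (CohB1.tensorPow M n))) ∧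
      (∀ L : X.Modules, PicF.IsInvertible L → ∀ n : ℕ,
        (Nonempty (CohB1.tensorMod ((Scheme.Modules.pullback π).obj L) (CohB1.tensorPow (ClSub.idealMod (BlowUp.exceptional π i.ker)) n) ≅
            Coh.structureModule X') ∨
          Nonempty (CohB1.tensorMod ((Scheme.Modules.pullback π).obj L) (CohB1.tensorPow M n) ≅ Coh.structureModule X')) →
        n = 0 ∧ Nonempty (L ≅ Coh.structureModule X)) := by
  obtain ⟨hI, hMi, hsurj, hinj, -⟩ := Groth.Agent.PicBlowUp13.pic_blowUp (X ↘ (Spec (CommRingCat.of k))) hreg i hYreg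
    dX dY r hdX hdY hr h2 π hπ M hM
  refine ⟨fun L' hL' => ?_, fun L hL n hn => ?_⟩
  · obtain ⟨b, n, hn⟩ := hsurj (Groth.Agent.PicLib.PicM.of hL')
    obtain ⟨L, hL, rfl⟩ := Groth.Agent.PicLib.PicM.exists_eq_of b
    refine ⟨L, hL, n, hn.imp (fun h => ?_) fun h => ?_⟩ <;>
      rwa [Groth.Agent.PicLib.PicM.pull_of, ← Groth.Agent.PicLib.PicM.of_tensorPow,
        Groth.Agent.PicLib.PicM.of_mul, Groth.Agent.PicLib.PicM.of_eq_iff] at h
  · have h := hinj (Groth.Agent.PicLib.PicM.of hL) n (hn.imp (fun h => ?_) fun h => ?_)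
    · exact ⟨h.1, (Groth.Agent.PicLib.PicM.of_eq_one_iff hL).1 h.2⟩
    all_goals
      rwa [Groth.Agent.PicLib.PicM.pull_of, ← Groth.Agent.PicLib.PicM.of_tensorPow,
        Groth.Agent.PicLib.PicM.of_mul, Groth.Agent.PicLib.PicM.of_eq_one_iff]

end Groth.Agent.S14487
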