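import Groth.Statements.S14489
import Groth.Agent.GenusZero5.Split
-- import your own Groth.Agent.* helpers here

set_option autoImplicit false
set_option backward.isDefEq.respectTransparency.types false
universe u
open CategoryTheory CategoryTheory.Limits AlgebraicGeometry
open ProjBd

namespace Groth.Agent.S14489

/-- Let f : C → B be a proper smooth morphism of schemes of relative dimension one all of whose
geometric fibres are projective lines (for every algebraically closed field Ω and every Spec Ω → B,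
the fibre C ×_B Spec Ω is isomorphic to P^1_Ω over Ω). If f admits two sections s₁, s₂ with disjoint
images, then C is the projective bundle of a direct sum of two line bundles: there exist invertible
O_B-modules L₁, L₂, an invertible O_C-module O(1) and a surjection q : f^*(L₁ ⊕ L₂) → O(1) such that
(f : C → B, O(1), q) has the universal property of the projective bundle P(L₁ ⊕ L₂). -/
theorem result {C B : Scheme.{u}} (f : C ⟶ B)
    [IsProper f] [SmoothOfRelativeDimension 1 f]
    (hfib : ∀ (Ω : Type u) [Field Ω] [IsAlgClosed Ω] (b : Spec (CommRingCat.of Ω) ⟶ B),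
      ∃ e : pullback f b ≅ CohB1.ProjSpace 1 Ω, e.hom ≫ CohB1.ProjSpace.toSpec 1 Ω = pullback.snd f b)
    (s₁ s₂ : B ⟶ C) (hs₁ : s₁ ≫ f = 𝟙 B) (hs₂ : s₂ ≫ f = 𝟙 B)
    (hdisj : Disjoint (Set.range s₁) (Set.range s₂)) :
    ∃ L₁ L₂ : B.Modules, FlatMod.IsFinLocFreeOfRank 1 L₁ ∧ FlatMod.IsFinLocFreeOfRank 1 L₂ ∧
      ∃ (O1 : C.Modules) (q : (Scheme.Modules.pullback f).obj (L₁ ⊞ L₂) ⟶ O1),
        KRR.IsProjBundle f (L₁ ⊞ L₂) O1 q := by
  have h0 := Groth.Agent.GenusZero5.geomZero_of_projLine f hfib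
  haveI := Groth.Agent.GenusZero5.geometricallyConnected f h0 s₁ hs₁
  obtain ⟨N, hN, -, hd, -, -⟩ := Groth.Agent.GenusZero5.exists_projBundle f h0 s₁ hs₁
  obtain ⟨q, hq⟩ := Groth.Agent.GenusZero5.exists_bundle_sum (Groth.Agent.GenusZero5.fiberRank_zero f h0) hN hd
    ![s₁, s₂] (by intro i; fin_cases i <;> assumption)
    (fun s h => hdisj.le_bot ⟨⟨s, rfl⟩, ⟨s, h.symm⟩⟩)
  exact ⟨_, _, Groth.Agent.PicLib.isFinLocFreeOfRank_one (PicLoc.isInvertible_pullback _ hN),
    Groth.Agent.PicLib.isFinLocFreeOfRank_one (PicLoc.isInvertible_pullback _ hN), N, q, hq⟩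

end Groth.Agent.S14489
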