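import Groth.Statements.S1449
import Groth.Agent.FlatMorDegree.Deg

set_option autoImplicit false
universe u
open FlatMor
set_option backward.isDefEq.respectTransparency false

namespace Groth.Agent.S1449

open AlgebraicGeometry CategoryTheory Limits in
/-- Consider a separated, flat, locally quasi-finite morphism f : X → S which is locally of finite
presentation. Then there are opens S = U_0 ⊇ U_1 ⊇ U_2 ⊇ ... of S with the property that a morphism
from the spectrum of a field to S lands in U_d exactly when the base change of X to that field has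
rank (of its ring of global functions over the field) at least d. -/
theorem result {X S : Scheme.{u}} (f : X ⟶ S) [Flat f] [LocallyOfFinitePresentation f] [IsSeparated f] [LocallyQuasiFinite f] :
    ∃ U : ℕ → S.Opens, Antitone U ∧ U 0 = ⊤ ∧ ∀ (K : Type u) [Field K] (g : Spec (CommRingCat.of K) ⟶ S) (d : ℕ),
      Set.range ⇑g ⊆ (U d : Set ↑S) ↔ (d : Cardinal.{u}) ≤ (letI := ((Scheme.ΓSpecIso (CommRingCat.of K)).inv ≫ (pullback.snd f g).appTop).hom.toAlgebra
        Module.rank K (Γ(pullback f g, ⊤) : Type u)) := by
  have : LocallyOfFiniteType f := inferInstance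
  refine ⟨fun d => ⟨{s | Groth.Agent.FlatMorDegree.degGE f s d}, Groth.Agent.FlatMorDegree.isOpen_degGE f d⟩,
    fun d d' h s hs => Groth.Agent.FlatMorDegree.degGE_antitone f h hs,
    top_le_iff.1 fun s _ => Groth.Agent.FlatMorDegree.degGE_zero f s, fun K _ g d => ?_⟩
  refine Iff.trans ?_ (Groth.Agent.FlatMorDegree.ge_fibre (L := K) f (.of_hasPullback f g) d).symm
  refine ⟨fun h => h ⟨IsLocalRing.closedPoint K, rfl⟩, ?_⟩
  rintro h _ ⟨z, rfl⟩
  rw [Subsingleton.elim (α := PrimeSpectrum K) z (IsLocalRing.closedPoint K)]
  exact h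

end Groth.Agent.S1449
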