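import Groth.Statements.S14491

set_option autoImplicit false
set_option backward.isDefEq.respectTransparency false
set_option backward.defeqAttrib.useBackward true
universe w v u
open DerTri

namespace Groth.Agent.S14491

open CategoryTheory Pretriangulated in
/-- In the derived category D(C) of an abelian category C, let E ⟶ F ⟶ G be two morphisms with E
concentrated in non-positive degrees and G concentrated in non-negative degrees for the canonical
t-structure. If two morphisms G ⟶ E⟦1⟧ both complete E ⟶ F ⟶ G to a distinguished triangle, then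
they are equal. (The published statement is phrased with the morphism G⟦-1⟧ ⟶ E of the triangle
G⟦-1⟧ ⟶ E ⟶ F ⟶ G; this row uses the equivalent connecting morphism G ⟶ E⟦1⟧ of the rotated
triangle.) -/
theorem result {C : Type u} [Category.{v} C] [Abelian C]
    [HasDerivedCategory.{w} C] {E F G : DerivedCategory C} (u : E ⟶ F) (v : F ⟶ G)
    [E.IsLE 0] [G.IsGE 0] (w w' : G ⟶ E⟦(1 : ℤ)⟧)
    (hw : Triangle.mk u v w ∈ distTriang (DerivedCategory C))
    (hw' : Triangle.mk u v w' ∈ distTriang (DerivedCategory C)) :
    w = w' := by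
  obtain ⟨c, hc₂, hc₃⟩ := complete_distinguished_triangle_morphism _ _ hw hw' (𝟙 E) (𝟙 F)
    (by simp)
  change G ⟶ G at c
  dsimp at hc₂ hc₃
  rw [CategoryTheory.Functor.map_id, Category.comp_id] at hc₃
  obtain ⟨x, hx⟩ : ∃ x : E⟦(1 : ℤ)⟧ ⟶ G, c - 𝟙 G = w ≫ x := Triangle.yoneda_exact₃ _ hw (c - 𝟙 G) (by
    dsimp; rw [Preadditive.comp_sub, hc₂, Category.comp_id, Category.id_comp, sub_self])
  have : (E⟦(1 : ℤ)⟧).IsLE (-1) := DerivedCategory.TStructure.t.isLE_shift E 0 1 (-1) (by omega)
  have hx0 : x = 0 := DerivedCategory.TStructure.t.zero x (-1) 0 (by omega)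
  rw [hx0, Limits.comp_zero, sub_eq_zero] at hx
  rw [hc₃, hx, Category.id_comp]


end Groth.Agent.S14491
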