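import Groth.Statements.S14498
import Mathlib.CategoryTheory.Abelian.Refinements
import Mathlib.Algebra.Homology.ShortComplex.ShortExact
import Mathlib.CategoryTheory.Abelian.Exact

set_option autoImplicit false
universe v u
open AbDiag

namespace Groth.Agent.S14498

open CategoryTheory CategoryTheory.Limits in
/-- In an abelian category, let 0 → F → W → E' → 0 (maps a, b) and 0 → E → W → F' → G → G' → 0 (maps c,
d, e, g) be exact sequences such that the composite F → W → F' is a monomorphism. Then the composite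
E → W → E' is a monomorphism, and there is a short exact sequence 0 → Coker(E → E') → Coker(F → F')
→ Ker(G → G') → 0 whose first map is induced by d (through the quotient map b) and whose second map
is induced by e. -/
theorem result
    {V : Type u} [Category.{v} V] [Abelian V] {F W E' E F' G G' : V}
    (a : F ⟶ W) (b : W ⟶ E') (c : E ⟶ W) (d : W ⟶ F') (e : F' ⟶ G) (g : G ⟶ G')
    [Mono a] [Epi b] (wab : a ≫ b = 0) (hab : (ShortComplex.mk a b wab).Exact)
    [Mono c] (wcd : c ≫ d = 0) (hcd : (ShortComplex.mk c d wcd).Exact)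
    (wde : d ≫ e = 0) (hde : (ShortComplex.mk d e wde).Exact)
    (weg : e ≫ g = 0) (heg : (ShortComplex.mk e g weg).Exact) [Epi g]
    (hmono : Mono (a ≫ d)) :
    Mono (c ≫ b) ∧
      ∃ (φ : cokernel (c ≫ b) ⟶ cokernel (a ≫ d)) (ψ : cokernel (a ≫ d) ⟶ kernel g)
        (w : φ ≫ ψ = 0),
        b ≫ cokernel.π (c ≫ b) ≫ φ = d ≫ cokernel.π (a ≫ d) ∧
        cokernel.π (a ≫ d) ≫ ψ ≫ kernel.ι g = e ∧
        (ShortComplex.mk φ ψ w).ShortExact := by
  have hm : Mono (c ≫ b) := by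
    rw [Preadditive.mono_iff_cancel_zero]
    intro T x hx
    rw [← Category.assoc] at hx
    obtain ⟨T', π, hπ, t, ht⟩ := hab.exact_up_to_refinements (x ≫ c) hx
    have ht' : π ≫ x ≫ c = t ≫ a := ht
    have h0 : t ≫ a ≫ d = 0 := by
      have := congrArg (fun q => q ≫ d) ht'
      simp only [Category.assoc, wcd, comp_zero] at this
      exact this.symm
    have : t = 0 := by
      rw [← cancel_mono (a ≫ d), h0, zero_comp]
    rw [this, zero_comp, ← Category.assoc] at ht'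
    have h1 : π ≫ x = 0 := by rw [← cancel_mono c, ht', zero_comp]
    rw [← cancel_epi π, h1, comp_zero]
  refine ⟨hm, ?_⟩
  let dbar : E' ⟶ cokernel (a ≫ d) :=
    hab.desc (d ≫ cokernel.π (a ≫ d)) (by
      show a ≫ d ≫ cokernel.π (a ≫ d) = 0
      rw [← Category.assoc, cokernel.condition])
  have hdbar : b ≫ dbar = d ≫ cokernel.π (a ≫ d) := hab.g_desc _ _
  let φ : cokernel (c ≫ b) ⟶ cokernel (a ≫ d) := cokernel.desc _ dbar (by
    rw [Category.assoc, hdbar, ← Category.assoc, wcd, zero_comp])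
  let ψ : cokernel (a ≫ d) ⟶ kernel g := cokernel.desc _ (kernel.lift g e weg) (by
    rw [← cancel_mono (kernel.ι g), zero_comp, Category.assoc, Category.assoc, kernel.lift_ι, wde, comp_zero])
  have hφ : b ≫ cokernel.π (c ≫ b) ≫ φ = d ≫ cokernel.π (a ≫ d) := by
    simp only [φ, cokernel.π_desc]; exact hdbar
  have hψ : cokernel.π (a ≫ d) ≫ ψ ≫ kernel.ι g = e := by
    simp only [ψ, cokernel.π_desc_assoc, kernel.lift_ι]
  have w : φ ≫ ψ = 0 := by
    rw [← cancel_epi (cokernel.π (c ≫ b)), ← cancel_epi b, ← cancel_mono (kernel.ι g)]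
    simp only [comp_zero, zero_comp, Category.assoc]
    rw [reassoc_of% hφ, hψ, wde]
  refine ⟨φ, ψ, w, hφ, hψ, ?_⟩
  have hepi : Epi ψ := by
    rw [epi_iff_surjective_up_to_refinements]
    intro T y
    obtain ⟨T', π, hπ, x, hx⟩ := heg.exact_up_to_refinements (y ≫ kernel.ι g)
      (by simp)
    refine ⟨T', π, hπ, x ≫ cokernel.π (a ≫ d), ?_⟩
    have hx' : π ≫ y ≫ kernel.ι g = x ≫ e := hx
    rw [← cancel_mono (kernel.ι g)]
    simp only [Category.assoc]
    rw [hx', hψ]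
  have hmonoφ : Mono φ := by
    rw [Preadditive.mono_iff_cancel_zero]
    intro T x hx
    obtain ⟨T₁, π₁, hπ₁, x₁, hx₁⟩ := surjective_up_to_refinements_of_epi (cokernel.π (c ≫ b)) x
    obtain ⟨T₂, π₂, hπ₂, x₂, hx₂⟩ := surjective_up_to_refinements_of_epi b x₁
    have h1 : (x₂ ≫ d) ≫ cokernel.π (a ≫ d) = 0 := by
      rw [Category.assoc, ← hφ, ← Category.assoc, ← hx₂, Category.assoc, ← Category.assoc x₁, ← hx₁]
      simp [Category.assoc, hx]
    obtain ⟨T₃, π₃, hπ₃, t, ht⟩ :=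
      (ShortComplex.exact_cokernel (a ≫ d)).exact_up_to_refinements (x₂ ≫ d) h1
    obtain ⟨T₄, π₄, hπ₄, s, hs⟩ := hcd.exact_up_to_refinements (π₃ ≫ x₂ - t ≫ a) (by
      show (π₃ ≫ x₂ - t ≫ a) ≫ d = 0
      have ht' : π₃ ≫ x₂ ≫ d = t ≫ a ≫ d := ht
      simp [Preadditive.sub_comp, ht'])
    have hs' : π₄ ≫ π₃ ≫ x₂ = π₄ ≫ t ≫ a + s ≫ c := by
      have hs' : π₄ ≫ (π₃ ≫ x₂ - t ≫ a) = s ≫ c := hs
      rw [← hs', Preadditive.comp_sub]
      abel
    rw [← cancel_epi π₁, ← cancel_epi π₂, ← cancel_epi π₃, ← cancel_epi π₄]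
    simp only [comp_zero]
    rw [hx₁, reassoc_of% hx₂, reassoc_of% hs']
    have hcb : c ≫ b ≫ cokernel.π (c ≫ b) = 0 := by rw [← Category.assoc, cokernel.condition]
    simp [reassoc_of% wab, hcb]
  have hex : (ShortComplex.mk φ ψ w).Exact := by
    rw [ShortComplex.exact_iff_exact_up_to_refinements]
    intro T y hy
    have hy : y ≫ ψ = 0 := hy
    obtain ⟨T₁, π₁, hπ₁, y₁, hy₁⟩ := surjective_up_to_refinements_of_epi (cokernel.π (a ≫ d)) y
    obtain ⟨T₂, π₂, hπ₂, x, hx⟩ := hde.exact_up_to_refinements y₁ (by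
      show y₁ ≫ e = 0
      rw [← hψ, ← Category.assoc, ← hy₁, Category.assoc, ← Category.assoc y, hy, zero_comp, comp_zero])
    have hx' : π₂ ≫ y₁ = x ≫ d := hx
    refine ⟨T₂, π₂ ≫ π₁, inferInstance, x ≫ b ≫ cokernel.π (c ≫ b), ?_⟩
    show (π₂ ≫ π₁) ≫ y = (x ≫ b ≫ cokernel.π (c ≫ b)) ≫ φ
    simp only [Category.assoc]
    rw [hφ, hy₁, reassoc_of% hx']
  exact { exact := hex, mono_f := hmonoφ, epi_g := hepi }

end Groth.Agent.S14498
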