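import Groth.Statements.S14504
import Mathlib
-- import your own Groth.Agent.* helpers here

set_option autoImplicit false
universe u
open IntTh

namespace Groth.Agent.S14504

theorem finrank_inter {K : Type u} [Field K] {n d : ℕ} (A : Matrix (Fin d) (Fin n) K)
    (hA : LinearIndependent K (fun i : Fin d => A i)) (m : ℕ) (V : Submodule K (Fin n → K))
    (hV : ∀ v : Fin n → K, v ∈ V ↔ ∀ l : Fin n, m ≤ (l : ℕ) → v l = 0) :
    Module.finrank K ↥(Submodule.span K (Set.range fun i : Fin d => A i) ⊓ V) +
      Module.finrank K ↥(Submodule.span K ((fun l : Fin n => fun i => A i l) '' {l | m ≤ (l : ℕ)})) = d := by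
  classical
  let B : Matrix (Fin d) {l : Fin n // m ≤ (l : ℕ)} K := A.submatrix id Subtype.val
  let Φ : (Fin d → K) →ₗ[K] (Fin n → K) := Fintype.linearCombination K (fun i : Fin d => A i)
  have hΦ : Function.Injective Φ := linearIndependent_iff_injective_fintypeLinearCombination.1 hA
  have hker : Submodule.span K (Set.range fun i : Fin d => A i) ⊓ V =
      Submodule.map Φ (LinearMap.ker B.transpose.mulVecLin) := by
    ext v
    rw [Submodule.mem_inf, hV, Submodule.mem_map, ← Fintype.range_linearCombination]
    have key : ∀ (c : Fin d → K) (l : {l : Fin n // m ≤ (l : ℕ)}), B.transpose.mulVecLin c l = Φ c l.1 := by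
      intro c l
      simp [Φ, B, Fintype.linearCombination_apply, Matrix.mulVec, dotProduct, Finset.sum_apply, mul_comm]
    constructor
    · rintro ⟨⟨c, rfl⟩, h⟩
      refine ⟨c, ?_, rfl⟩
      rw [LinearMap.mem_ker]
      funext l
      rw [key]
      exact h l.1 l.2
    · rintro ⟨c, hc, rfl⟩
      refine ⟨⟨c, rfl⟩, fun l hl => ?_⟩
      rw [LinearMap.mem_ker] at hc
      have := congrFun hc ⟨l, hl⟩
      rwa [key] at this
  have hcol : Submodule.span K ((fun l : Fin n => fun i => A i l) '' {l | m ≤ (l : ℕ)}) =
      Submodule.span K (Set.range B.col) := by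
    congr 1
    ext v
    constructor
    · rintro ⟨l, hl, rfl⟩; exact ⟨⟨l, hl⟩, rfl⟩
    · rintro ⟨⟨l, hl⟩, rfl⟩; exact ⟨l, hl, rfl⟩
  rw [hker, ← (Submodule.equivMapOfInjective Φ hΦ _).finrank_eq, hcol, ← Matrix.rank_eq_finrank_span_cols,
    ← Matrix.rank_transpose, Matrix.rank, add_comm, LinearMap.finrank_range_add_finrank_ker, Module.finrank_fin_fun]

/-- Let K be a field, d ≤ n, λ = (λ₁ ≥ ⋯ ≥ λ_d) a non-increasing sequence of natural numbers, d_i = n −
d + i − λ_i, and V_j ⊆ K^n the span of the first j standard basis vectors. For a d × n matrix A over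
K with linearly independent rows spanning the subspace W: one has dim(W ∩ V_{d_i}) ≥ i for every i =
1, …, d if and only if every d × d minor of A taken on strictly increasing columns j₁ < ⋯ < j_d
(1-indexed) with j_i > d_i for some i vanishes. (Indices are 0-based in the formal statement: row i
: Fin d stands for i + 1 and column l : Fin n for l + 1.) -/
theorem result (K : Type u) [Field K] (n d : ℕ)
    (hdn : d ≤ n) (V : ℕ → Submodule K (Fin n → K))
    (hV : ∀ (j : ℕ) (v : Fin n → K), v ∈ V j ↔ ∀ l : Fin n, j ≤ (l : ℕ) → v l = 0)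
    (lam : Fin d → ℕ) (hlam : Antitone lam) (A : Matrix (Fin d) (Fin n) K)
    (hA : LinearIndependent K (fun i : Fin d => A i)) :
    (∀ i : Fin d, (i : ℕ) + 1 ≤
        Module.finrank K ↥(Submodule.span K (Set.range fun i : Fin d => A i) ⊓
          V (n - d + ((i : ℕ) + 1) - lam i))) ↔
      ∀ J : Fin d → Fin n, StrictMono J →
        (∃ i : Fin d, n - d + ((i : ℕ) + 1) - lam i < (J i : ℕ) + 1) →
          (A.submatrix id J).det = 0 := by
  classical
  let col : Fin n → (Fin d → K) := fun l i => A i l
  let m : Fin d → ℕ := fun i => n - d + ((i : ℕ) + 1) - lam i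
  have hdim : ∀ i : Fin d, Module.finrank K ↥(Submodule.span K (Set.range fun i : Fin d => A i) ⊓ V (m i)) +
      Module.finrank K ↥(Submodule.span K (col '' {l | m i ≤ (l : ℕ)})) = d := fun i =>
    finrank_inter A hA (m i) _ (hV (m i))
  constructor
  · rintro h J hJ ⟨i, hi⟩
    by_contra hdet
    have hli : LinearIndependent K (fun k : Fin d => col (J k)) :=
      (Matrix.linearIndependent_cols_iff_isUnit (A := A.submatrix id J)).2
        ((Matrix.isUnit_iff_isUnit_det _).2 (isUnit_iff_ne_zero.2 hdet))
    have h2 := hli.comp (fun k : {k : Fin d // i ≤ k} => k.1) Subtype.val_injective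
    have h3 := finrank_span_eq_card h2
    have hle : Submodule.span K (Set.range ((fun k : Fin d => col (J k)) ∘ fun k : {k : Fin d // i ≤ k} => k.1)) ≤
        Submodule.span K (col '' {l | m i ≤ (l : ℕ)}) := Submodule.span_mono (by
      rintro _ ⟨⟨k, hk⟩, rfl⟩
      refine ⟨J k, ?_, rfl⟩
      have : (J i : ℕ) ≤ J k := hJ.monotone hk
      show m i ≤ _
      change m i < _ at hi
      omega)
    have h4 := Submodule.finrank_mono hle
    rw [h3, Fintype.card_subtype, show (Finset.univ.filter fun k => i ≤ k) = Finset.Ici i by ext; simp, Fin.card_Ici] at h4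
    have h5 := hdim i
    have h6 := h i
    change (i : ℕ) + 1 ≤ Module.finrank K ↥(_ ⊓ V (m i)) at h6
    omega
  · intro h i
    by_contra hlt
    change ¬ (i : ℕ) + 1 ≤ Module.finrank K ↥(_ ⊓ V (m i)) at hlt
    obtain ⟨s, hs, -, hsp, hsi⟩ := exists_linearIndepOn_extension (linearIndepOn_empty K col)
      (Set.empty_subset {l : Fin n | m i ≤ (l : ℕ)})
    obtain ⟨t, -, hst, htsp, hti⟩ := exists_linearIndepOn_extension hsi (Set.subset_univ s)
    have hrt : Submodule.span K (col '' t) = Submodule.span K (col '' Set.univ) :=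
      le_antisymm (Submodule.span_mono (Set.image_mono (Set.subset_univ t))) (Submodule.span_le.2 htsp)
    have hcard : ∀ (b : Set (Fin n)), LinearIndepOn K col b →
        Module.finrank K ↥(Submodule.span K (col '' b)) = b.toFinset.card := by
      intro b hb
      have : LinearIndependent K fun x : b => col x := hb
      rw [Set.image_eq_range, finrank_span_eq_card this, Set.toFinset_card]
    have hrS : Module.finrank K ↥(Submodule.span K (col '' {l | m i ≤ (l : ℕ)})) ≤ s.toFinset.card := by
      rw [← hcard s hsi]
      exact Submodule.finrank_mono (Submodule.span_le.2 hsp)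
    have hall : Module.finrank K ↥(Submodule.span K (col '' Set.univ)) = d := by
      have h0 := finrank_inter A hA 0 (⊥ : Submodule K (Fin n → K)) (fun v => by
        rw [Submodule.mem_bot]; exact ⟨fun h l _ => by rw [h]; rfl, fun h => funext fun l => h l (Nat.zero_le _)⟩)
      rw [inf_bot_eq, finrank_bot, zero_add] at h0
      rw [show (Set.univ : Set (Fin n)) = {l : Fin n | 0 ≤ (l : ℕ)} by ext; simp]
      exact h0
    have htd : t.toFinset.card = d := by rw [← hcard t hti, hrt, hall]
    let J : Fin d → Fin n := t.toFinset.orderEmbOfFin htd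
    have hJ : StrictMono J := (t.toFinset.orderEmbOfFin htd).strictMono
    have hJi : m i < (J i : ℕ) + 1 := by
      by_contra hlt'
      have hsub : s.toFinset ⊆ (Finset.Ioi i).image J := by
        intro l hl
        rw [Set.mem_toFinset] at hl
        obtain ⟨k, rfl⟩ : ∃ k, J k = l := by
          have : l ∈ Set.range J := by
            rw [show Set.range J = ↑t.toFinset from Finset.range_orderEmbOfFin _ htd]
            simpa using hst hl
          exact this
        refine Finset.mem_image.2 ⟨k, Finset.mem_Ioi.2 (lt_of_not_ge fun hk => ?_), rfl⟩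
        have h1 : (J k : ℕ) ≤ J i := hJ.monotone hk
        have h2 : m i ≤ (J k : ℕ) := hs hl
        omega
      have := (Finset.card_le_card hsub).trans Finset.card_image_le
      rw [Fin.card_Ioi] at this
      have := hdim i
      omega
    have hdet := h J hJ ⟨i, hJi⟩
    have hli : LinearIndependent K (fun k : Fin d => col (J k)) := by
      refine hti.linearIndependent.comp (fun k => (⟨J k, ?_⟩ : t)) (fun a b hab => hJ.injective (by simpa using congrArg Subtype.val hab))
      have : J k ∈ t.toFinset := Finset.orderEmbOfFin_mem _ htd k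
      simpa using this
    have := (Matrix.isUnit_iff_isUnit_det _).1
      ((Matrix.linearIndependent_cols_iff_isUnit (A := A.submatrix id J)).1 hli)
    exact not_isUnit_zero (hdet ▸ this)

end Groth.Agent.S14504
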