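import Groth.Statements.S14505
import Mathlib
-- import your own Groth.Agent.* helpers here

set_option autoImplicit false
universe u
open IntTh

namespace Groth.Agent.S14505

theorem geom_mul {R : Type u} [CommRing R] (a : R) :
    (1 + PowerSeries.C a * PowerSeries.X) * PowerSeries.mk (fun m => (-a) ^ m) = 1 := by
  ext n
  rcases n with _ | n
  · simp [add_mul, mul_assoc]
  · simp [add_mul, mul_assoc, PowerSeries.coeff_succ_X_mul, pow_succ, PowerSeries.coeff_one]
    ring

theorem coeff_prod_vanish {R : Type u} [CommRing R] {ι : Type*} (s : Finset ι) (v : ι → R) :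
    ∀ n, s.card < n → PowerSeries.coeff n (∏ l ∈ s, (1 + PowerSeries.C (v l) * PowerSeries.X)) = 0 := by
  classical
  induction s using Finset.induction with
  | empty =>
    intro n hn
    rw [Finset.prod_empty, PowerSeries.coeff_one, if_neg (by simp at hn; omega)]
  | insert a t ha ih =>
    intro n hn
    rw [Finset.card_insert_of_notMem ha] at hn
    obtain ⟨n, rfl⟩ : ∃ k, n = k + 1 := ⟨n - 1, by omega⟩
    rw [Finset.prod_insert ha, add_mul, one_mul, mul_assoc, map_add, PowerSeries.coeff_C_mul,
      PowerSeries.coeff_succ_X_mul, ih _ (by omega), ih _ (by omega), mul_zero, add_zero]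

theorem coeff_diag {R : Type u} [CommRing R] (a : R) : ∀ (e : ℕ) (β : Fin e → R),
    PowerSeries.coeff e ((∏ j, (1 + PowerSeries.C (β j) * PowerSeries.X)) * PowerSeries.mk (fun m => (-a) ^ m)) =
      ∏ j, (β j - a) := by
  intro e
  induction e with
  | zero => intro β; simp
  | succ e ih =>
    intro β
    rw [Fin.prod_univ_succ, Fin.prod_univ_succ, mul_assoc, add_mul, one_mul, mul_assoc, map_add,
      PowerSeries.coeff_C_mul, PowerSeries.coeff_succ_X_mul, ← ih fun j => β j.succ]
    set F := (∏ j : Fin e, (1 + PowerSeries.C (β j.succ) * PowerSeries.X)) * PowerSeries.mk (fun m => (-a) ^ m)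
    have h : PowerSeries.coeff (e + 1) ((1 + PowerSeries.C a * PowerSeries.X) * F) = 0 := by
      show PowerSeries.coeff (e + 1) ((1 + PowerSeries.C a * PowerSeries.X) *
        ((∏ j : Fin e, (1 + PowerSeries.C (β j.succ) * PowerSeries.X)) * PowerSeries.mk (fun m => (-a) ^ m))) = 0
      rw [mul_left_comm, geom_mul, mul_one]
      exact coeff_prod_vanish _ _ _ (by simp)
    rw [add_mul, one_mul, mul_assoc, map_add, PowerSeries.coeff_C_mul, PowerSeries.coeff_succ_X_mul] at h
    linear_combination h


/-- Let R be a commutative ring, α₁, …, α_d, β₁, …, β_e ∈ R, b(t) = ∏ (1 + β_j t), and for k = 1, …, d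
let P_k(t) = b(t)/∏_{i ≤ k} (1 + α_i t) ∈ R⟦t⟧, each factor 1 + α_i t being inverted by its
geometric series; write (P_k)_m for the coefficient of t^m, with (P_k)_m = 0 for m < 0. Then ∏_{i,j}
(β_j − α_i) = det((P_i)_{e+j−i})_{1 ≤ i,j ≤ d}, the d × d determinant whose i-th row is built from
the coefficients of the i-th partial quotient. (Rows and columns are 0-based in the formal
statement, which does not change j − i; the row of index i inverts the factors of index at most i.
The companion form with every row built from the full quotient b/a is stated separately.) -/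
theorem result (R : Type u) [CommRing R] (d e : ℕ)
    (α : Fin d → R) (β : Fin e → R) :
    ∏ i : Fin d, ∏ j : Fin e, (β j - α i) =
      (Matrix.of fun i j : Fin d =>
        if (i : ℕ) ≤ e + (j : ℕ) then
          PowerSeries.coeff (e + (j : ℕ) - (i : ℕ))
            ((∏ j : Fin e, (1 + PowerSeries.C (β j) * PowerSeries.X)) *
              ∏ l : Fin d, if l ≤ i then PowerSeries.mk (fun m => (-α l) ^ m) else 1)
        else 0).det := by
  classical
  set b := ∏ j : Fin e, (1 + PowerSeries.C (β j) * PowerSeries.X) with hb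
  let P : Fin d → PowerSeries R := fun i => b * ∏ l : Fin d, if l ≤ i then PowerSeries.mk (fun m => (-α l) ^ m) else 1
  let g : Fin d → PowerSeries R := fun j => ∏ l ∈ Finset.Iio j, (1 + PowerSeries.C (α l) * PowerSeries.X)
  let M : Matrix (Fin d) (Fin d) R := Matrix.of fun i j => PowerSeries.coeff (e + (j : ℕ)) (PowerSeries.X ^ (i : ℕ) * P i)
  let U : Matrix (Fin d) (Fin d) R := Matrix.of fun m j => if m ≤ j then PowerSeries.coeff ((j : ℕ) - m) (g j) else 0
  have hM : (Matrix.of fun i j : Fin d => if (i : ℕ) ≤ e + (j : ℕ) then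
      PowerSeries.coeff (e + (j : ℕ) - (i : ℕ)) (b * ∏ l : Fin d, if l ≤ i then PowerSeries.mk (fun m => (-α l) ^ m) else 1)
      else 0) = M := by
    ext i j
    simp [M, P, PowerSeries.coeff_X_pow_mul']
  rw [hM]
  have hU : U.det = 1 := by
    rw [Matrix.det_of_isUpperTriangular (M := U) fun i j h => if_neg (not_le.2 h)]
    refine Finset.prod_eq_one fun i _ => ?_
    show (if i ≤ i then _ else _) = _
    rw [if_pos le_rfl, Nat.sub_self, PowerSeries.coeff_zero_eq_constantCoeff, map_prod]
    simp
  have hgdeg : ∀ j : Fin d, ∀ k, (j : ℕ) < k → PowerSeries.coeff k (g j) = 0 := fun j k hk =>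
    coeff_prod_vanish _ _ _ (by rw [Fin.card_Iio]; exact hk)
  have hMU : ∀ i j, (M * U) i j = PowerSeries.coeff (e + (j : ℕ)) (PowerSeries.X ^ (i : ℕ) * P i * g j) := by
    intro i j
    rw [Matrix.mul_apply, PowerSeries.coeff_mul, Finset.Nat.sum_antidiagonal_eq_sum_range_succ_mk]
    symm
    calc ∑ k ∈ Finset.range (e + (j : ℕ) + 1), PowerSeries.coeff k (PowerSeries.X ^ (i : ℕ) * P i) * PowerSeries.coeff (e + (j : ℕ) - k) (g j)
        = ∑ k ∈ (Finset.Iic j).map (Fin.valEmbedding.trans (addLeftEmbedding e)),
            PowerSeries.coeff k (PowerSeries.X ^ (i : ℕ) * P i) * PowerSeries.coeff (e + (j : ℕ) - k) (g j) := by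
          symm
          refine Finset.sum_subset (fun k hk => ?_) fun k hk hk' => ?_
          · simp only [Finset.mem_map, Finset.mem_Iic, Function.Embedding.trans_apply, addLeftEmbedding_apply, Fin.valEmbedding_apply] at hk
            obtain ⟨m, hm, rfl⟩ := hk
            rw [Finset.mem_range]
            have : (m : ℕ) ≤ j := hm
            omega
          · have : k < e := by
              by_contra hke
              rw [Finset.mem_range] at hk
              refine hk' (Finset.mem_map.2 ⟨⟨k - e, by omega⟩, Finset.mem_Iic.2 (show k - e ≤ (j : ℕ) by omega), ?_⟩)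
              show e + (k - e) = k
              omega
            rw [hgdeg j _ (by omega), mul_zero]
      _ = ∑ m ∈ Finset.Iic j, M i m * U m j := by
          rw [Finset.sum_map]
          refine Finset.sum_congr rfl fun m hm => ?_
          show _ = PowerSeries.coeff (e + (m : ℕ)) (PowerSeries.X ^ (i : ℕ) * P i) * (if m ≤ j then _ else _)
          rw [if_pos (Finset.mem_Iic.1 hm)]
          show PowerSeries.coeff (e + (m : ℕ)) _ * PowerSeries.coeff (e + (j : ℕ) - (e + (m : ℕ))) (g j) = _
          rw [show e + (j : ℕ) - (e + (m : ℕ)) = (j : ℕ) - m by omega]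
      _ = ∑ m, M i m * U m j := by
          refine Finset.sum_subset (Finset.subset_univ _) fun m _ hm => ?_
          show _ * (if m ≤ j then _ else _) = _
          rw [if_neg (fun h => hm (Finset.mem_Iic.2 h)), mul_zero]
  have hPg : ∀ i j : Fin d, i ≤ j → P i * g j = (if i < j then b * ∏ l ∈ Finset.Ioo i j, (1 + PowerSeries.C (α l) * PowerSeries.X)
      else b * PowerSeries.mk (fun m => (-α i) ^ m)) := by
    intro i j hij
    have h1 : P i = b * ∏ l ∈ Finset.Iic i, PowerSeries.mk (fun m => (-α l) ^ m) := by
      show b * _ = _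
      rw [← Finset.prod_filter]
      congr 2
      ext l; simp
    rw [h1, mul_assoc]
    split_ifs with h
    · congr 1
      show _ * ∏ l ∈ Finset.Iio j, (1 + PowerSeries.C (α l) * PowerSeries.X) = _
      have : Finset.Iio j = Finset.Iic i ∪ Finset.Ioo i j := by
        ext l; simp only [Finset.mem_Iio, Finset.mem_union, Finset.mem_Iic, Finset.mem_Ioo, Fin.lt_def, Fin.le_def] at *; omega
      rw [this, Finset.prod_union (Finset.disjoint_left.2 fun l hl hl' => by
          simp only [Finset.mem_Iic, Finset.mem_Ioo, Fin.lt_def, Fin.le_def] at hl hl'; omega),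
        ← mul_assoc, ← Finset.prod_mul_distrib, Finset.prod_eq_one (fun l _ => by rw [mul_comm, geom_mul]), one_mul]
    · obtain rfl : i = j := le_antisymm hij (not_lt.1 h)
      congr 1
      show _ * ∏ l ∈ Finset.Iio i, (1 + PowerSeries.C (α l) * PowerSeries.X) = _
      rw [← Finset.Iio_insert i, Finset.prod_insert (by simp), mul_assoc, ← Finset.prod_mul_distrib,
        Finset.prod_eq_one (fun l _ => by rw [mul_comm, geom_mul]), mul_one]
  have htri : (M * U).det = ∏ i, (M * U) i i := by
    refine Matrix.det_of_isLowerTriangular (M * U) fun i j h => ?_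
    have hij : i < j := h
    rw [hMU, mul_assoc, hPg i j hij.le, if_pos hij, PowerSeries.coeff_X_pow_mul']
    split_ifs
    · have : b * ∏ l ∈ Finset.Ioo i j, (1 + PowerSeries.C (α l) * PowerSeries.X) =
          ∏ l ∈ (Finset.univ : Finset (Fin e)).disjSum (Finset.Ioo i j), (1 + PowerSeries.C (Sum.elim β α l) * PowerSeries.X) := by
        rw [Finset.prod_disjSum]; rfl
      rw [this]
      refine coeff_prod_vanish _ _ _ ?_
      rw [Finset.card_disjSum, Finset.card_univ, Fintype.card_fin, Fin.card_Ioo]
      have : (i : ℕ) < j := hij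
      omega
    · rfl
  rw [← mul_one M.det, ← hU, ← Matrix.det_mul, htri]
  refine Finset.prod_congr rfl fun i _ => ?_
  rw [hMU, mul_assoc, hPg i i le_rfl, if_neg (lt_irrefl _), PowerSeries.coeff_X_pow_mul', if_pos (by omega),
    Nat.add_sub_cancel, hb, coeff_diag]

end Groth.Agent.S14505
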