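import Groth.Statements.S14507
import Groth.Agent.EulerPn5.Vector

set_option autoImplicit false
universe u
open CategoryTheory CategoryTheory.Limits AlgebraicGeometry
open IntTh

namespace Groth.Agent.S14507

/-- Let k be a field, n ≥ 0, P = P^n_k and Ω = Ω_{P/k} its sheaf of differentials (the conormal sheaf of
the diagonal). Every global vector field on P, that is every O_P-linear map ξ : Ω → O_P (a global
section of the tangent sheaf, the dual of Ω), vanishes at some point: there is x ∈ P such that ξ
maps every local section of Ω over an open neighbourhood of x to a function whose germ at x lies in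
the maximal ideal of O_{P,x}. -/
theorem result (k : Type u) [Field k] (n : ℕ)
    (ξ : Omega.sheaf (CohB1.ProjSpace.toSpec n k) ⟶ Coh.structureModule (CohB1.ProjSpace n k)) :
    ∃ x : ↥(CohB1.ProjSpace n k), ∀ (U : (CohB1.ProjSpace n k).Opens) (hx : x ∈ U)
      (s : Γ(Omega.sheaf (CohB1.ProjSpace.toSpec n k), U)),
      (CohB1.ProjSpace n k).presheaf.germ U x hx (OmegaSh.fnSect (CohB1.ProjSpace n k) U (ξ.app U s)) ∈
        IsLocalRing.maximalIdeal ((CohB1.ProjSpace n k).presheaf.stalk x) := by
  by_contra h
  push_neg at h
  haveI : Epi ξ := Groth.Agent.EulerPn5.epi_of_exists_unit ξ fun x => by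
    obtain ⟨U, hx, s, hs⟩ := h x
    exact ⟨U, hx, s, IsLocalRing.notMem_maximalIdeal.1 hs⟩
  exact Groth.Agent.EulerPn5.not_epi_omega n ξ

end Groth.Agent.S14507
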