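import Groth.Statements.S14510
import Mathlib
import Groth.Agent.QReg6.Regular
import Groth.Agent.EGA41Lib.QuasiRegular
import Groth.Agent.CAlgH3.Factorial
import Groth.Agent.DimLib.Algebra

set_option linter.all false

set_option autoImplicit false
universe u v
open CAlgX

open scoped TensorProduct

namespace Groth.Agent.S14510

open MvPolynomial in
theorem exists_zero {k : Type u} [Field k] [IsAlgClosed k] (p q r : ℕ) (hp : 0 < p) (hq : 0 < q) (hr : r + 2 ≤ p + q)
    (M : Fin r → Fin p → Fin q → k) :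
    ∃ (x : Fin p → k) (y : Fin q → k), x ≠ 0 ∧ y ≠ 0 ∧ ∀ t, ∑ i, ∑ j, M t i j * (x i * y j) = 0 := by
  classical
  by_contra hcon
  let S := MvPolynomial (Fin p ⊕ Fin q) k
  let gen : Fin p × Fin q → S := fun ij => X (Sum.inl ij.1) * X (Sum.inr ij.2)
  let R : Subalgebra k S := Algebra.adjoin k (Set.range gen)
  haveI : Algebra.FiniteType k R := (Subalgebra.fg_iff_finiteType R).1 ⟨(Set.finite_range gen).toFinset, by simp [R]⟩
  let G : Fin p × Fin q → R := fun ij => ⟨gen ij, Algebra.subset_adjoin ⟨ij, rfl⟩⟩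
  have hgen : Algebra.adjoin k (Set.range G) = ⊤ := by
    apply Subalgebra.map_injective (f := R.val) Subtype.val_injective
    rw [AlgHom.map_adjoin, Algebra.map_top, Subalgebra.range_val, ← Set.range_comp]
    rfl
  let χ₀ : R →ₐ[k] k := (aeval (fun _ => (0 : k))).comp R.val
  have hχ₀ : ∀ ij, χ₀ (G ij) = 0 := fun ij => by simp [χ₀, G, gen]
  let F : Fin r → R := fun t => ∑ i, ∑ j, M t i j • G (i, j)
  let m : Ideal R := RingHom.ker χ₀
  haveI hmax : m.IsMaximal := RingHom.ker_isMaximal_of_surjective _ fun c => ⟨algebraMap k R c, χ₀.commutes c⟩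
  let J : Ideal R := Ideal.span (Set.range F)
  have hJm : J ≤ m := by
    rw [Ideal.span_le]
    rintro _ ⟨t, rfl⟩
    simp [m, F, hχ₀]
  have huniq : ∀ n : Ideal R, n.IsMaximal → J ≤ n → n = m := by
    intro n hn hJn
    letI := Ideal.Quotient.field n
    haveI : Module.Finite k (R ⧸ n) := finite_of_finite_type_of_isJacobsonRing k (R ⧸ n)
    haveI : Algebra.IsIntegral k (R ⧸ n) := Algebra.IsIntegral.of_finite k (R ⧸ n)
    let e : k ≃ₐ[k] (R ⧸ n) := AlgEquiv.ofBijective (Algebra.ofId k _) IsAlgClosed.algebraMap_bijective_of_isIntegral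
    let χ : R →ₐ[k] k := e.symm.toAlgHom.comp (Ideal.Quotient.mkₐ k n)
    have hker : ∀ z, χ z = 0 ↔ z ∈ n := fun z => by simp [χ, Ideal.Quotient.eq_zero_iff_mem]
    by_cases h0 : ∀ ij, χ (G ij) = 0
    · have : χ = χ₀ := AlgHom.ext_of_adjoin_eq_top hgen (by rintro _ ⟨ij, rfl⟩; rw [h0, hχ₀])
      ext z
      rw [← hker, this]; rfl
    push Not at h0
    obtain ⟨⟨a, b⟩, hab⟩ := h0
    refine absurd ⟨fun i => χ (G (i, b)), fun j => χ (G (a, j)) / χ (G (a, b)), ?_, ?_, fun t => ?_⟩ hcon
    · exact fun h => hab (congrFun h a)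
    · exact fun h => hab (by simpa [div_eq_zero_iff] using congrFun h b)
    · have : χ (F t) = 0 := (hker _).2 (hJn (Ideal.subset_span ⟨t, rfl⟩))
      rw [← this]
      simp only [F, map_sum, map_smul, smul_eq_mul]
      refine Finset.sum_congr rfl fun i _ => Finset.sum_congr rfl fun j _ => ?_
      rw [mul_div_assoc', ← map_mul, show G (i, b) * G (a, j) = G (i, j) * G (a, b) from Subtype.ext (by simp [G, gen]; ring),
        map_mul, mul_div_assoc, div_self hab, mul_one]
  haveI : IsJacobsonRing R := isJacobsonRing_of_finiteType (A := k) (B := R)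
  have hrad : J.radical = m := by
    rw [Ideal.radical_eq_jacobson]
    refine le_antisymm (sInf_le ⟨hJm, hmax⟩) (le_sInf ?_)
    rintro n ⟨hJn, hn⟩
    exact (huniq n hn hJn).ge
  haveI := hmax.isPrime
  have hmin : m ∈ J.minimalPrimes := ⟨⟨hmax.isPrime, hJm⟩, fun P hP _ => by
    rw [← hrad]; exact hP.1.radical_le_iff.2 hP.2⟩
  haveI : IsNoetherianRing R := Algebra.FiniteType.isNoetherianRing k R
  have hle : m.height ≤ (r : ℕ∞) := (Ideal.height_le_card_of_mem_minimalPrimes_span (Set.finite_range F) hmin).trans (by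
    refine ENat.natCast_le_natCast.2 ?_
    rw [← Set.image_univ]
    exact (Set.ncard_image_le Set.finite_univ).trans (by simp))
  let i₀ : Fin p := ⟨0, hp⟩
  let j₀ : Fin q := ⟨0, hq⟩
  let κ := Fin p ⊕ {j : Fin q // j ≠ j₀}
  let z : κ → R := Sum.elim (fun i => G (i, j₀)) (fun j => G (i₀, j.1))
  have hz : AlgebraicIndependent k z := by
    let ψ : (MvPolynomial κ k) →ₐ[k] (MvPolynomial κ k) := aeval (Sum.elim (fun i => X (Sum.inl i)) fun j => X (Sum.inl i₀) * X (Sum.inr j))
    have hψ : Function.Injective ψ := by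
      let θ : (MvPolynomial κ k) →ₐ[k] FractionRing (MvPolynomial κ k) := aeval (Sum.elim (fun i => algebraMap (MvPolynomial κ k) _ (X (Sum.inl i)))
        fun j => algebraMap (MvPolynomial κ k) _ (X (Sum.inr j)) / algebraMap (MvPolynomial κ k) _ (X (Sum.inl i₀)))
      have h : θ.comp ψ = IsScalarTower.toAlgHom k (MvPolynomial κ k) (FractionRing (MvPolynomial κ k)) := by
        refine algHom_ext fun i => ?_
        rcases i with i | j
        · simp [θ, ψ]
        · simp only [θ, ψ, AlgHom.comp_apply, aeval_X, Sum.elim_inr, map_mul, Sum.elim_inl]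
          rw [mul_div_cancel₀]
          · rfl
          · exact (map_ne_zero_iff _ (IsFractionRing.injective (MvPolynomial κ k) (FractionRing (MvPolynomial κ k)))).2 (X_ne_zero _)
      intro a b hab
      refine IsFractionRing.injective (MvPolynomial κ k) (FractionRing (MvPolynomial κ k)) ?_
      have := congrArg θ hab
      rwa [← AlgHom.comp_apply, ← AlgHom.comp_apply, h] at this
    let ev : R →ₐ[k] (MvPolynomial κ k) := (aeval (Sum.elim (fun i => X (Sum.inl i)) (fun j => if h : j = j₀ then 1 else X (Sum.inr ⟨j, h⟩)))).comp R.val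
    refine AlgebraicIndependent.of_comp ev ?_
    rw [algebraicIndependent_iff_injective_aeval]
    convert hψ using 2
    refine algHom_ext fun i => ?_
    rcases i with i | ⟨j, hj⟩
    · simp [ev, z, G, gen, ψ]
    · simp [ev, z, G, gen, ψ, hj]
  have hdim := Groth.Agent.DimLib.height_eq_of_isMaximal (k := k) (A := R) m
  rw [Groth.Agent.DimLib.ringKrullDim_eq_trdeg (k := k) (A := R)] at hdim
  have htr := trdeg_lt_aleph0_of_finiteType (R := k) (S := R)
  obtain ⟨d, hd⟩ := Cardinal.lt_aleph0.1 htr
  rw [hd, Cardinal.toNat_natCast] at hdim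
  have hκ := hz.lift_cardinalMk_le_trdeg
  rw [hd, Cardinal.mk_fintype, Cardinal.lift_natCast, Cardinal.lift_natCast, Nat.cast_le] at hκ
  have hc : Fintype.card κ = p + (q - 1) := by
    simp [κ, Fintype.card_subtype_compl]
  have hm : m.height = (d : ℕ∞) := by exact_mod_cast hdim
  rw [hm, ENat.natCast_le_natCast] at hle
  omega

theorem main (k : Type u) [Field k] [IsAlgClosed k]
    {U V W : Type*} [AddCommGroup U] [Module k U] [AddCommGroup V] [Module k V] [AddCommGroup W] [Module k W]
    [Module.Finite k U] [Module.Finite k V] [Module.Finite k W] [Nontrivial U] [Nontrivial V]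
    (φ : U →ₗ[k] V →ₗ[k] W) (hφ : ∀ (a : U) (b : V), a ≠ 0 → b ≠ 0 → φ a b ≠ 0) :
    Module.finrank k U + Module.finrank k V ≤ Module.finrank k W + 1 := by
  by_contra hlt
  let e := Module.finBasis k U
  let f := Module.finBasis k V
  let g := Module.finBasis k W
  obtain ⟨x, y, hx, hy, h⟩ := exists_zero (k := k) _ _ (Module.finrank k W) Module.finrank_pos Module.finrank_pos (by omega)
    (fun t i j => g.repr (φ (e i) (f j)) t)
  refine hφ (e.equivFun.symm x) (f.equivFun.symm y) (fun h' => hx (e.equivFun.symm.map_eq_zero_iff.1 h')) (fun h' => hy (f.equivFun.symm.map_eq_zero_iff.1 h')) (g.repr.injective (Finsupp.ext fun t => ?_))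
  simp only [Module.Basis.equivFun_symm_apply, map_sum, map_smul, LinearMap.sum_apply, LinearMap.smul_apply, Finsupp.coe_finset_sum,
    Finset.sum_apply, Finsupp.smul_apply, smul_eq_mul, map_zero, Finsupp.coe_zero, Pi.zero_apply]
  rw [← h t]
  simp only [Finset.mul_sum]
  rw [Finset.sum_comm]
  exact Finset.sum_congr rfl fun i _ => Finset.sum_congr rfl fun j _ => by ring

/-- Let k be an algebraically closed field, U, V, W finite-dimensional k-vector spaces with U and V
nonzero, and φ : U ⊗ V → W a linear map which is 1-generic, i.e. φ(u ⊗ v) ≠ 0 for all nonzero u and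
v (φ is given here as a bilinear map). Then dim W ≥ dim U + dim V − 1. (Algebraic closedness
matters: complex multiplication ℂ ⊗ ℂ → ℂ over the reals is 1-generic with 2 + 2 − 1 > 2.) -/
theorem result (k : Type u) [Field k] [IsAlgClosed k]
    (U V W : Type v) [AddCommGroup U] [Module k U] [AddCommGroup V] [Module k V] [AddCommGroup W] [Module k W]
    [Module.Finite k U] [Module.Finite k V] [Module.Finite k W] [Nontrivial U] [Nontrivial V]
    (φ : U →ₗ[k] V →ₗ[k] W) (hφ : ∀ (a : U) (b : V), a ≠ 0 → b ≠ 0 → φ a b ≠ 0) :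
    Module.finrank k U + Module.finrank k V ≤ Module.finrank k W + 1 := by
  exact main k φ hφ

end Groth.Agent.S14510
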