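import Groth.Statements.S14511
import Mathlib

set_option linter.all false

set_option autoImplicit false
universe u
open CAlgX

open TensorProduct

namespace Groth.Agent.S14511

/-- Let R be a commutative ring and P ∈ R[x_1, …, x_r] a polynomial of total degree at most r. Then the
coefficient of the monomial x_1 ⋯ x_r in P equals Σ_J (−1)^{|J|} P(δ_J), the sum over all subsets J
⊆ {1, …, r} (the empty one included), where δ_J is the point with coordinate −1 at the indices in J
and 0 at the others. -/
theorem result (R : Type u) [CommRing R] (r : ℕ)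
    (P : MvPolynomial (Fin r) R) (hP : P.totalDegree ≤ r) :
    MvPolynomial.coeff (∑ i : Fin r, Finsupp.single i 1) P =
      ∑ J : Finset (Fin r), (-1 : R) ^ J.card * MvPolynomial.eval (fun j => if j ∈ J then (-1 : R) else 0) P := by
  classical
  simp only [MvPolynomial.eval_eq', Finset.mul_sum]
  rw [Finset.sum_comm]
  set e : Fin r →₀ ℕ := ∑ i : Fin r, Finsupp.single i 1 with he
  have he1 : ∀ i, e i = 1 := fun i => by simp [he, Finsupp.finsetSum_apply]
  have key : ∀ d ∈ P.support, ∑ J : Finset (Fin r), (-1 : R) ^ J.card *
      (MvPolynomial.coeff d P * ∏ i, (if i ∈ J then (-1 : R) else 0) ^ d i) =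
      if d = e then MvPolynomial.coeff d P else 0 := by
    intro d hd
    have hsum : ∑ J : Finset (Fin r), (-1 : R) ^ J.card * ∏ i, (if i ∈ J then (-1 : R) else 0) ^ d i =
        ∏ i, ((-1 : R) * (-1) ^ d i + 0 ^ d i) := by
      rw [Finset.prod_add, Finset.powerset_univ]
      refine Finset.sum_congr rfl fun J _ => ?_
      rw [Finset.prod_mul_distrib, Finset.prod_const, mul_assoc]
      congr 1
      rw [← Finset.prod_sdiff (Finset.subset_univ J), mul_comm]
      congr 1 <;> refine Finset.prod_congr rfl fun i hi => ?_
      · rw [if_pos hi]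
      · rw [if_neg (Finset.mem_sdiff.1 hi).2]
    simp only [mul_left_comm ((-1 : R) ^ _) (MvPolynomial.coeff d P), ← Finset.mul_sum, hsum]
    split_ifs with hde
    · subst hde
      simp [he1]
    · by_cases hz : ∃ i, d i = 0
      · obtain ⟨i, hi⟩ := hz
        rw [Finset.prod_eq_zero (Finset.mem_univ i) (by simp [hi]), mul_zero]
      · push Not at hz
        refine absurd (Finsupp.ext fun i => ?_) hde
        rw [he1]
        have h1 : (d.sum fun _ n => n) ≤ r := (MvPolynomial.le_totalDegree hd).trans hP
        rw [Finsupp.sum_fintype _ _ (fun _ => rfl)] at h1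
        by_contra hne
        have : ∑ _j : Fin r, 1 < ∑ j, d j :=
          Finset.sum_lt_sum (fun j _ => Nat.one_le_iff_ne_zero.2 (hz j))
            ⟨i, Finset.mem_univ i, by have := hz i; omega⟩
        simp at this
        omega
  rw [Finset.sum_congr rfl key, Finset.sum_ite_eq']
  split_ifs with h
  · rfl
  · exact MvPolynomial.notMem_support_iff.1 h

end Groth.Agent.S14511
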