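import Groth.Statements.S14513
import Groth.Agent.Hurwitz24.Main
import Groth.Agent.SGA3cLib.CentralDescent

set_option autoImplicit false
universe u
open CategoryTheory CategoryTheory.Limits AlgebraicGeometry
open Curves

namespace Groth.Agent.S14513

/-- Let k be an algebraically closed field and f : X → Y a finite, separable morphism of smooth
projective curves over k (X, Y integral, proper and smooth over k, of dimension one; f sends the
generic point to the generic point and the extension K(X)/K(Y) is separable). If X and Y have the
same genus g = dim_k H^1(O) and g ≥ 2, then f is an isomorphism. (The published statement also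
asserts g(X) ≥ g(Y) and that equality holds exactly when f is an isomorphism, both curves are
projective lines, or both have genus one; this row states the equality case for genus at least two.) -/
theorem result (k : Type u) [Field k] [IsAlgClosed k]
    (X : Scheme.{u}) [X.Over (Spec (CommRingCat.of k))] [IsIntegral X] [IsProper (X ↘ (Spec (CommRingCat.of k)))] [Smooth (X ↘ (Spec (CommRingCat.of k)))] (hdimX : topologicalKrullDim X = 1)
    (Y : Scheme.{u}) [Y.Over (Spec (CommRingCat.of k))] [IsIntegral Y] [IsProper (Y ↘ (Spec (CommRingCat.of k)))] [Smooth (Y ↘ (Spec (CommRingCat.of k)))] (hdimY : topologicalKrullDim Y = 1)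
    (f : X ⟶ Y) [IsFinite f] (hf : f ≫ (Y ↘ (Spec (CommRingCat.of k))) = (X ↘ (Spec (CommRingCat.of k))))
    (e : f (genericPoint X) = genericPoint Y)
    (hg : Curv2.genus k X = Curv2.genus k Y) (h2 : 2 ≤ Curv2.genus k Y) :
    letI := ((Y.presheaf.stalkSpecializes (specializes_of_eq e) ≫ f.stalkMap (genericPoint X)).hom).toAlgebra
    Algebra.IsSeparable Y.functionField X.functionField → IsIso f := by
  intro hsep
  haveI : GeometricallyConnected (X ↘ Spec (CommRingCat.of k)) :=
    Groth.Agent.SGA3cLib.CentralDescent.geometricallyConnected_of_isAlgClosed _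
  haveI : GeometricallyIntegral (X ↘ Spec (CommRingCat.of k)) :=
    Groth.Agent.AbVarLib.geometricallyIntegral_of_smooth _
  haveI : GeometricallyConnected (Y ↘ Spec (CommRingCat.of k)) :=
    Groth.Agent.SGA3cLib.CentralDescent.geometricallyConnected_of_isAlgClosed _
  haveI : GeometricallyIntegral (Y ↘ Spec (CommRingCat.of k)) :=
    Groth.Agent.AbVarLib.geometricallyIntegral_of_smooth _
  have h := Groth.Agent.Hurwitz24.hurwitz k hdimX hdimY f hf e hsep
  haveI := Groth.Agent.EulerLib.isNoetherian_of_proper k (X := Y)
  haveI : Flat f := Groth.Agent.Hurwitz24.flat_of_dominant f e hdimY.le fun y => by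
    haveI := Groth.Agent.VarietyLib.isRegularLocalRing_stalk_of_smooth k Y (Y ↘ Spec (CommRingCat.of k)) y
    exact Groth.Agent.CAlgH3.isIntegrallyClosed_of_regular _
  haveI : LocallyOfFinitePresentation f :=
    Groth.Agent.Coherent.CohBC.locallyOfFinitePresentation_of_isLocallyNoetherian f
  have hr := Groth.Agent.Hurwitz24.residueDegree_eq_finrank f e
  have hpos : 1 ≤ f.residueDegree (genericPoint X) := by
    rw [hr (f (genericPoint X))]; exact f.one_le_finrank_map _
  have h1 : f.residueDegree (genericPoint X) = 1 := by
    by_contra hne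
    have h2' : (2 : ℤ) ≤ (f.residueDegree (genericPoint X) : ℤ) := by
      have : 2 ≤ f.residueDegree (genericPoint X) := by omega
      exact_mod_cast this
    have hg2 : (2 : ℤ) ≤ (Curv2.genus k Y : ℤ) := by exact_mod_cast h2
    have h0 := mul_le_mul_of_nonneg_right h2' (show (0 : ℤ) ≤ 2 * (Curv2.genus k Y : ℤ) - 2 by omega)
    rw [hg] at h
    omega
  exact f.isIso_iff_finrank_eq.2 (funext fun y => (hr y).symm.trans h1)

end Groth.Agent.S14513
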