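import Groth.Statements.S14514
import Groth.Agent.DimLib.Components
import Groth.Agent.H8Top.SchemeBasic

set_option autoImplicit false
universe u
open CategoryTheory CategoryTheory.Limits AlgebraicGeometry
open Variety

namespace Groth.Agent.S14514

/-- Let k be an algebraically closed field and f : X → Y a morphism of algebraic varieties over k (X, Y
reduced, separated and of finite type over k) such that Y is irreducible and the image f(X) is dense
in Y. Then X contains an irreducible closed subset Z with dim Z = dim Y such that f(Z) is dense in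
Y. -/
theorem result (k : Type u) [Field k] [IsAlgClosed k]
    (X Y : Scheme.{u}) [X.Over (Spec (CommRingCat.of k))] [Y.Over (Spec (CommRingCat.of k))]
    [IsReduced X] [IsSeparated (X ↘ (Spec (CommRingCat.of k)))] [LocallyOfFiniteType (X ↘ (Spec (CommRingCat.of k)))] [QuasiCompact (X ↘ (Spec (CommRingCat.of k)))]
    [IsReduced Y] [IsSeparated (Y ↘ (Spec (CommRingCat.of k)))] [LocallyOfFiniteType (Y ↘ (Spec (CommRingCat.of k)))] [QuasiCompact (Y ↘ (Spec (CommRingCat.of k)))] [IrreducibleSpace Y]
    (f : X ⟶ Y) (hf : f ≫ (Y ↘ (Spec (CommRingCat.of k))) = (X ↘ (Spec (CommRingCat.of k)))) [IsDominant f] :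
    ∃ Z : Set X, IsClosed Z ∧ IsIrreducible Z ∧ topologicalKrullDim ↥Z = topologicalKrullDim Y ∧
      Dense (f '' Z) := by
  have hlft0 : LocallyOfFiniteType (f ≫ Y ↘ Spec (CommRingCat.of k)) := by rw [hf]; infer_instance
  have hqc0 : QuasiCompact (f ≫ Y ↘ Spec (CommRingCat.of k)) := by rw [hf]; infer_instance
  have hqf : QuasiCompact f := by
    have : IsLocallyNoetherian Y := LocallyOfFiniteType.isLocallyNoetherian (Y ↘ Spec (CommRingCat.of k))
    have : CompactSpace Y := QuasiCompact.compactSpace_of_compactSpace (Y ↘ Spec (CommRingCat.of k))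
    have hi : LocallyOfFiniteType (f ≫ Y ↘ Spec (CommRingCat.of k)) := by assumption
    have : IsLocallyNoetherian X := LocallyOfFiniteType.isLocallyNoetherian (f ≫ Y ↘ Spec (CommRingCat.of k))
    have hq : QuasiCompact (f ≫ Y ↘ Spec (CommRingCat.of k)) := by assumption
    have : CompactSpace X := QuasiCompact.compactSpace_of_compactSpace (f ≫ Y ↘ Spec (CommRingCat.of k))
    have : IsNoetherian X := {}
    exact ⟨fun _ _ _ => TopologicalSpace.NoetherianSpace.isCompact _⟩
  have hlft : LocallyOfFiniteType (f ≫ Y ↘ Spec (CommRingCat.of k)) := by assumption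
  have : LocallyOfFiniteType f := locallyOfFiniteType_of_comp f (Y ↘ Spec (CommRingCat.of k))
  obtain ⟨x0, hx0⟩ := Groth.Agent.H8Top.exists_specializes_of_mem_closure_range f (f.denseRange (genericPoint Y))
  have he : f x0 = genericPoint Y := (hx0.antisymm (genericPoint_specializes _)).eq
  have : Nonempty (f.fiber (genericPoint Y)) := ⟨(f.fiberHomeo _).symm ⟨x0, he⟩⟩
  have hlf : LocallyOfFiniteType (f.fiberToSpecResidueField (genericPoint Y)) :=
    inferInstanceAs (LocallyOfFiniteType (Limits.pullback.snd f (Y.fromSpecResidueField (genericPoint Y))))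
  obtain ⟨z, -, hz⟩ := Groth.Agent.DimLib.exists_isClosed_singleton_mem (k := Y.residueField (genericPoint Y))
    (f.fiberToSpecResidueField (genericPoint Y)) (S := Set.univ) Set.univ_nonempty isOpen_univ.isLocallyClosed
  have h1 := Groth.Agent.DimLib.ptDim_fiberι (Y ↘ Spec (CommRingCat.of k)) f (genericPoint Y) z
  rw [(Groth.Agent.DimLib.ptDim_eq_zero_iff (k := Y.residueField (genericPoint Y)) _ z).2 hz, add_zero] at h1
  have hfz : f (f.fiberι (genericPoint Y) z) = genericPoint Y := by
    have : f.fiberι (genericPoint Y) z ∈ Set.range (f.fiberι (genericPoint Y)) := ⟨z, rfl⟩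
    rwa [f.range_fiberι] at this
  refine ⟨closure {f.fiberι (genericPoint Y) z}, isClosed_closure, isIrreducible_singleton.closure, ?_, ?_⟩
  · rw [Groth.Agent.DimLib.topologicalKrullDim_eq_ptDim_of_isGenericPoint (f ≫ Y ↘ Spec (CommRingCat.of k))
      isGenericPoint_closure, h1,
      Groth.Agent.DimLib.topologicalKrullDim_eq_ptDim_genericPoint (Y ↘ Spec (CommRingCat.of k))]
  · refine Dense.mono (Set.singleton_subset_iff.2 ⟨_, subset_closure rfl, hfz⟩) ?_
    exact dense_iff_closure_eq.2 (genericPoint_spec Y).def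

end Groth.Agent.S14514
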