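import Groth.Statements.S14515
import Groth.Agent.S2852
import Groth.Agent.VarietyLib.SmoothStalk
import Groth.Agent.CAlgH3.Factorial
import Groth.Agent.GenSmoothLib.SmoothDim
import Groth.Agent.VarietyLib.LocalDimPt
-- import your own Groth.Agent.* helpers here

set_option autoImplicit false
universe u
open CategoryTheory CategoryTheory.Limits AlgebraicGeometry
open Variety

namespace Groth.Agent.S14515

set_option linter.unusedVariables false

open Groth.Agent TopologicalSpace in
/-- The dimension of a point closure is the height of the point. -/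
lemma dim_closure {X : Scheme.{u}} (ξ : X) :
    topologicalKrullDim (↥(closure ({ξ} : Set X))) = (Order.height ξ : WithBot ℕ∞) := by
  let T := closure ({ξ} : Set X)
  have : QuasiSober ↥T := (isClosed_closure : IsClosed T).isClosedEmbedding_subtypeVal.quasiSober
  rw [Order.height_eq_krullDim_Iic]
  refine (@Order.krullDim_eq_of_orderIso _ ↥T _ (specializationOrder ↥T).toPreorder
    (irreducibleSetEquivPoints (α := ↥T))).trans ?_
  let e : @OrderIso ↥T (Set.Iic ξ) (specializationOrder ↥T).toLE _ :=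
    { toFun := fun z => ⟨z.1, (specializes_iff_mem_closure.2 z.2 : ξ ⤳ z.1)⟩
      invFun := fun z => ⟨z.1, specializes_iff_mem_closure.1 (z.2 : ξ ⤳ z.1)⟩
      left_inv := fun z => rfl
      right_inv := fun z => rfl
      map_rel_iff' := fun {a b} => (subtype_specializes_iff b a).symm }
  exact @Order.krullDim_eq_of_orderIso ↥T _ (specializationOrder ↥T).toPreorder _ e

/-- For a separated morphism from an irreducible scheme, being an open immersion near a point is the
same as being an isomorphism over a neighbourhood of its image. -/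
lemma isIso_over_of_openImmersion {X Y : Scheme.{u}} [IrreducibleSpace X] (f : X ⟶ Y) [IsSeparated f]
    (x : X) (W : X.Opens) (hx : x ∈ W) [IsOpenImmersion (W.ι ≫ f)] :
    ∃ V : Y.Opens, f x ∈ V ∧ IsIso (f ∣_ V) := by
  let V := (W.ι ≫ f).opensRange
  refine ⟨V, ⟨⟨x, hx⟩, rfl⟩, ?_⟩
  have hWV : W ≤ f ⁻¹ᵁ V := fun z hz => ⟨⟨z, hz⟩, rfl⟩
  let j := X.homOfLE hWV
  have hj : j ≫ (f ∣_ V) = (W.ι ≫ f).isoOpensRange.hom := by
    rw [← cancel_mono V.ι, Category.assoc, morphismRestrict_ι, X.homOfLE_ι_assoc]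
    simp [V]
  haveI : IsIso (j ≫ (f ∣_ V)) := by rw [hj]; infer_instance
  haveI : IsSeparated (f ∣_ V) := IsZariskiLocalAtTarget.restrict ‹IsSeparated f› V
  haveI : IsClosedImmersion j := IsClosedImmersion.of_comp j (f ∣_ V)
  haveI : PreirreducibleSpace (f ⁻¹ᵁ V : X.Opens) :=
    Subtype.preirreducibleSpace
      ((IrreducibleSpace.isIrreducible_univ X).isPreirreducible.open_subset (f ⁻¹ᵁ V).isOpen (Set.subset_univ _))
  have hsurj : Set.range j = Set.univ := IsClopen.eq_univ
    ⟨j.isClosedEmbedding.isClosed_range, j.isOpenEmbedding.isOpen_range⟩ ⟨_, Set.mem_range_self ⟨x, hx⟩⟩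
  haveI : IsIso j := isIso_of_isOpenImmersion_of_opensRange_eq_top j (TopologicalSpace.Opens.ext hsurj)
  exact IsIso.of_isIso_comp_left j (f ∣_ V)

/-- Let k be an algebraically closed field and f : X → Y a proper, birational morphism over k between
smooth, irreducible varieties (X, Y integral, separated, of finite type and smooth over k; f
restricts to an isomorphism over some nonempty open subset of Y). Let Exc(f) ⊆ X be the exceptional
locus: the points x such that f restricts to an isomorphism over no open neighbourhood of f(x). Then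
Exc(f) has pure codimension one: every irreducible component of Exc(f) has dimension dim X − 1. -/
theorem result (k : Type u) [Field k] [IsAlgClosed k]
    (X Y : Scheme.{u}) [X.Over (Spec (CommRingCat.of k))] [Y.Over (Spec (CommRingCat.of k))]
    [IsIntegral X] [IsSeparated (X ↘ (Spec (CommRingCat.of k)))] [LocallyOfFiniteType (X ↘ (Spec (CommRingCat.of k)))] [QuasiCompact (X ↘ (Spec (CommRingCat.of k)))] [Smooth (X ↘ (Spec (CommRingCat.of k)))]
    [IsIntegral Y] [IsSeparated (Y ↘ (Spec (CommRingCat.of k)))] [LocallyOfFiniteType (Y ↘ (Spec (CommRingCat.of k)))] [QuasiCompact (Y ↘ (Spec (CommRingCat.of k)))] [Smooth (Y ↘ (Spec (CommRingCat.of k)))]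
    (f : X ⟶ Y) (hf : f ≫ (Y ↘ (Spec (CommRingCat.of k))) = (X ↘ (Spec (CommRingCat.of k)))) [IsProper f]
    (hbir : ∃ V : Y.Opens, (V : Set Y).Nonempty ∧ IsIso (f ∣_ V)) :
    ∀ Z ∈ irreducibleComponents ↥{x : X | ∀ V : Y.Opens, f x ∈ V → ¬ IsIso (f ∣_ V)},
      topologicalKrullDim ↥Z + 1 = topologicalKrullDim X := by
  let sX := X ↘ (Spec (CommRingCat.of k))
  let sY := Y ↘ (Spec (CommRingCat.of k))
  have : IsLocallyNoetherian X := LocallyOfFiniteType.isLocallyNoetherian sX
  have : IsLocallyNoetherian Y := LocallyOfFiniteType.isLocallyNoetherian sY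
  have hY : ∀ y : ↥Y, UniqueFactorizationMonoid (Y.presheaf.stalk y) := fun y => by
    haveI := Groth.Agent.VarietyLib.isRegularLocalRing_stalk_of_smooth k Y sY y
    exact Groth.Agent.CAlgH3.ufm_of_regular _
  have hopen : ∀ (V : Y.Opens), IsIso (f ∣_ V) → IsOpenImmersion ((f ⁻¹ᵁ V).ι ≫ f) := fun V hV => by
    rw [← morphismRestrict_ι]
    infer_instance
  set E : Set X := {x : X | ∀ V : Y.Opens, f x ∈ V → ¬ IsIso (f ∣_ V)}
  have hE : ∀ x, x ∈ E ↔ ¬ ∃ W : X.Opens, x ∈ W ∧ IsOpenImmersion (W.ι ≫ f) := fun x => by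
    constructor
    · rintro h ⟨W, hxW, hW⟩
      obtain ⟨V, h1, h2⟩ := isIso_over_of_openImmersion f x W hxW
      exact h V h1 h2
    · exact fun h V h1 h2 => h ⟨_, h1, hopen V h2⟩
  have hEc : IsClosed E := by
    refine ⟨isOpen_iff_forall_mem_open.2 fun x hx => ?_⟩
    obtain ⟨W, hxW, hW⟩ := not_not.1 fun h => hx ((hE x).2 h)
    exact ⟨W, fun z hz h => (hE z).1 h ⟨W, hz, hW⟩, W.isOpen, hxW⟩
  have hV : ∃ (W : X.Opens), (W : Set ↥X).Nonempty ∧ IsOpenImmersion (W.ι ≫ f) := by
    obtain ⟨V, ⟨y, hy⟩, hiso⟩ := hbir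
    refine ⟨f ⁻¹ᵁ V, ?_, hopen V hiso⟩
    obtain ⟨z, -⟩ := (inferInstance : Surjective (f ∣_ V)).surj ⟨y, hy⟩
    exact ⟨z.1, z.2⟩
  intro Z hZ
  let T : Set X := Subtype.val '' Z
  have hZc : IsClosed Z := isClosed_of_mem_irreducibleComponents Z hZ
  have hTc : IsClosed T := hEc.isClosedEmbedding_subtypeVal.isClosedMap _ hZc
  have hTi : IsIrreducible T := hZ.1.image _ continuous_subtype_val.continuousOn
  obtain ⟨ξ, hξ⟩ := QuasiSober.sober hTi hTc
  have hξT : ξ ∈ T := hξ.mem
  have hξE : ξ ∈ E := by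
    obtain ⟨z, -, rfl⟩ := hξT
    exact z.2
  have hmax : ∀ η : ↥X, (¬ ∃ W : X.Opens, η ∈ W ∧ IsOpenImmersion (W.ι ≫ f)) → η ⤳ ξ → η = ξ := by
    intro η hη hηξ
    let Z' : Set ↥E := closure {⟨η, (hE η).2 hη⟩}
    have hle : Z ⊆ Z' := fun z hz => by
      refine specializes_iff_mem_closure.1 ((subtype_specializes_iff _ _).2 ?_)
      exact hηξ.trans (hξ.specializes ⟨z, hz, rfl⟩)
    have hmem : (⟨η, (hE η).2 hη⟩ : ↥E) ∈ Z := hZ.2 isIrreducible_singleton.closure hle (subset_closure rfl)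
    exact (hηξ.antisymm (hξ.specializes ⟨_, hmem, rfl⟩)).eq
  have h1 := Groth.Agent.S2852.result f hY hV ξ ((hE ξ).1 hξE) hmax
  have hZdim : topologicalKrullDim ↥Z = (Groth.Agent.DimLib.ptDim sX ξ : WithBot ℕ∞) := by
    let e : ↥Z ≃ₜ ↥T := (Topology.IsEmbedding.subtypeVal (p := fun x => x ∈ E)).homeomorphImage Z
    rw [e.isHomeomorph.topologicalKrullDim_eq, ← hξ.def, dim_closure,
      Groth.Agent.DimLib.height_eq_ptDim sX ξ]
    first | done | rfl
  rw [hZdim, ← Groth.Agent.GenSmoothLib.localDim_eq_topologicalKrullDim sX ξ,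
    Groth.Agent.VarietyLib.localDim_eq_stalk_add_ptDim sX ξ, h1, add_comm]

end Groth.Agent.S14515
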