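import Groth.Statements.S14517
import Groth.Agent.PointBlow14.ContractLine
import Groth.Agent.Surf15.CurveRestrict
import Groth.Agent.Surf15.RiemannRoch
import Groth.Agent.Coherent.ProjSpaceFinite
import Groth.Agent.AbCubeLib.ProjEmbedding
import Groth.Agent.CurveRR24.DoubleCover.Morphism
import Groth.Agent.NoethNormH2.Basic
import Groth.Agent.WeilProj8.Data
import Groth.Agent.DimLib.ProjDim
import Groth.Agent.CurveRR24.DegOneApps
-- import your own Groth.Agent.* helpers here

set_option autoImplicit false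
universe u
open CategoryTheory CategoryTheory.Limits AlgebraicGeometry
open Surf

open TopologicalSpace
open Groth.Agent.Coherent Groth.Agent.PicLib Groth.Agent.AmpleLib Groth.Agent.EulerLib Groth.Agent.CurveRR24 Groth.Agent.DimLib Groth.Agent.Surf15 Groth.Agent.Models7
set_option linter.style.haveILetI false
set_option backward.isDefEq.respectTransparency.types false
set_option maxHeartbeats 1000000

namespace Groth.Agent.S14517

/-- Let k be an algebraically closed field, X a smooth projective surface over k (integral, smooth over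
k, of dimension two, with a closed immersion over k into some projective space) and C ⊆ X a curve,
given by a closed immersion i : C → X, with C isomorphic to P^1_k over k and (C·C) = −n for some n >
0, the self-intersection being the alternating Euler-characteristic sum computed in the ideal I_C =
O_X(−C) (the prelude's FGA.intNum). Then there are a projective surface Y over k (integral, of
dimension two, with a closed immersion over k into some projective space), a morphism g : X → Y over
k and a closed point P of Y such that g^{-1}(P) = C as sets and g restricts to an isomorphism over Y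
∖ {P}. (The published statement also identifies the completed local ring of Y at P with that of the
vertex of the affine cone over a rational normal curve of degree n; this row omits that clause.) -/
theorem result (k : Type u) [Field k] [IsAlgClosed k]
    (X : Scheme.{u}) [X.Over (Spec (CommRingCat.of k))] [IsIntegral X] [Smooth (X ↘ (Spec (CommRingCat.of k)))] (hdim : topologicalKrullDim X = 2)
    (hprojX : ∃ (N : ℕ) (ι : X ⟶ CohB1.ProjSpace N k), IsClosedImmersion ι ∧ ι ≫ CohB1.ProjSpace.toSpec N k = (X ↘ (Spec (CommRingCat.of k))))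
    (C : Scheme.{u}) (i : C ⟶ X) [IsClosedImmersion i]
    (e : C ≅ CohB1.ProjSpace 1 k) (he : e.hom ≫ CohB1.ProjSpace.toSpec 1 k = i ≫ (X ↘ (Spec (CommRingCat.of k))))
    (n : ℕ) (hn : 0 < n)
    (hCC : FGA.intNum k X 2 ![ClSub.idealMod i.ker, ClSub.idealMod i.ker] (Coh.structureModule X) = -(n : ℤ)) :
    ∃ (Y : Scheme.{u}) (q : Y ⟶ Spec (CommRingCat.of k)) (g : X ⟶ Y) (P : Y) (hP : IsClosed ({P} : Set Y)),
      g ≫ q = (X ↘ (Spec (CommRingCat.of k))) ∧ IsIntegral Y ∧ topologicalKrullDim Y = 2 ∧
      (∃ (N : ℕ) (ι : Y ⟶ CohB1.ProjSpace N k), IsClosedImmersion ι ∧ ι ≫ CohB1.ProjSpace.toSpec N k = q) ∧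
      (∀ x : X, g x = P ↔ x ∈ Set.range i) ∧
      IsIso (g ∣_ (⟨({P} : Set Y)ᶜ, hP.isOpen_compl⟩ : Y.Opens)) := by
  obtain ⟨n₀, ι, hι, hιe⟩ := hprojX
  let sX := X ↘ Spec (CommRingCat.of k)
  haveI : IsProper (CohB1.ProjSpace.toSpec n₀ k) := Groth.Agent.Coherent.isProper_projSpace_toSpec n₀ k
  haveI : IsProper (X ↘ Spec (CommRingCat.of k)) := by rw [← hιe]; infer_instance
  haveI := isNoetherian_of_proper (X := X) k
  have hX : topologicalKrullDim X = ((2 : ℕ) : WithBot ℕ∞) := by exact_mod_cast hdim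
  have hreg : ∀ x : X, IsRegularLocalRing (X.presheaf.stalk x) := fun x =>
    Groth.Agent.VarietyLib.isRegularLocalRing_stalk_of_smooth k X (X ↘ Spec (CommRingCat.of k)) x
  have hnor : ∀ x : X, IsIntegrallyClosed (X.presheaf.stalk x) := fun x =>
    haveI := hreg x
    CAlgH3.isIntegrallyClosed_of_regular _
  haveI : IsIntegral C := by
    haveI : IsIntegral (CohB1.ProjSpace 1 k) := CurveLib.isIntegral_projSpace k 1
    exact IsIntegral.of_isIso e.inv
  have hC : topologicalKrullDim C = 1 := by
    rw [IsHomeomorph.topologicalKrullDim_eq e.hom.homeomorph e.hom.homeomorph.isHomeomorph, DimLib.PN.topologicalKrullDim_projSpace 1 k]; rfl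
  have hD := (isCrv_ker i hC).isEffCartier k hX hreg
  have hI := Groth.Agent.FlatMor12.IdealModGen.isInvertible_idealMod i.ker hD
  letI : C.Over (Spec (CommRingCat.of k)) := ⟨i ≫ (X ↘ Spec (CommRingCat.of k))⟩
  haveI : IsProper (C ↘ Spec (CommRingCat.of k)) := inferInstanceAs (IsProper (i ≫ (X ↘ Spec (CommRingCat.of k))))
  haveI := isNoetherian_of_proper k (X := C)
  have hdeg : Curv2.deg k C ((Scheme.Modules.pullback i).obj (ClSub.idealMod i.ker)) 1 = (n : ℤ) := by
    rw [deg_pullback_eq k i hI]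
    have h := hCC
    rw [intNum_eq_B k hX.le hI hI] at h
    have h2 := deg_quotMod k hD (InvCl.mk _ hI)
    unfold clI' at *
    omega
  haveI : IsIso i.toImage := inferInstance
  let e₀ : CohB1.ProjSpace 1 k ≅ C := e.symm
  let σ₀ : C ≅ i.ker.subscheme := asIso i.toImage
  let e' : CohB1.ProjSpace 1 k ≅ i.ker.subscheme := e₀ ≪≫ σ₀
  have hM₀ : PicF.IsInvertible ((Scheme.Modules.pullback i).obj (ClSub.idealMod i.ker)) :=
    PicLoc.isInvertible_pullback i hI
  obtain ⟨l, hl⟩ := P1Deg.exists_hasDeg e₀ hM₀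
  obtain ⟨φ₀⟩ := hl
  have hln : l = (n : ℤ) := by
    letI oP : (CohB1.ProjSpace 1 k).Over (Spec (CommRingCat.of k)) := ⟨CohB1.ProjSpace.toSpec 1 k⟩
    have hpb : IsPullback e₀.hom ((CohB1.ProjSpace 1 k) ↘ Spec (CommRingCat.of k)) (C ↘ Spec (CommRingCat.of k))
        (Spec.map (CommRingCat.ofHom (algebraMap k k))) := by
      rw [show CommRingCat.ofHom (algebraMap k k) = 𝟙 _ from rfl, Spec.map_id]
      refine IsPullback.of_horiz_isIso ⟨?_⟩
      show e.inv ≫ i ≫ (X ↘ Spec (CommRingCat.of k)) = CohB1.ProjSpace.toSpec 1 k ≫ 𝟙 _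
      rw [← he, Iso.inv_hom_id_assoc, Category.comp_id]
    haveI : Coh.IsQCoh ((Scheme.Modules.pullback i).obj (ClSub.idealMod i.ker)) := isQCoh_of_isInvertible hM₀
    rw [← CurveRR24.deg_bc hpb ((Scheme.Modules.pullback i).obj (ClSub.idealMod i.ker)) 1] at hdeg
    haveI : IsProper (CohB1.ProjSpace.toSpec 1 k) := CurveLib.isProper_projSpace k 1
    haveI : IsProper ((CohB1.ProjSpace 1 k) ↘ Spec (CommRingCat.of k)) :=
      inferInstanceAs (IsProper (CohB1.ProjSpace.toSpec 1 k))
    haveI := isNoetherian_of_proper k (X := CohB1.ProjSpace 1 k)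
    have hO : Curv2.euler k _ (Coh.structureModule (CohB1.ProjSpace 1 k)) = 1 := by
      rw [euler_eq_sum k _ _ 0 (fun q hq => subsingleton_HH_structureModule (R := k) (n := 1) q hq)]
      simp [finrank_projLine_structure]
    have hT : Curv2.euler k _ (Twist.twistProjSpace 1 k l) = (n : ℤ) + 1 := by
      rw [← euler_congr k _ φ₀]
      simp [Curv2.deg, hO] at hdeg
      omega
    rw [euler_eq_sum k _ _ 1 (fun q hq => subsingleton_HH_twist (R := k) (n := 1) (d := l) q (by omega) (by omega))] at hT
    have b0 : Module.finrank k (Coh.HH (CohB1.ProjSpace 1 k) (Twist.twistProjSpace 1 k l) 0) = (l + 1).toNat :=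
      SplitP1.h0_twist k l
    rcases le_or_gt l (-1) with hneg | hpos
    · exfalso
      simp [Finset.sum_range_succ, b0, show (l + 1).toNat = 0 by omega] at hT
      omega
    · haveI := subsingleton_HH_twist (R := k) (n := 1) (d := l) 1 (by omega) (by omega)
      have b1 : Module.finrank k (Coh.HH (CohB1.ProjSpace 1 k) (Twist.twistProjSpace 1 k l) 1) = 0 :=
        Module.finrank_zero_of_subsingleton
      simp [Finset.sum_range_succ, b0, b1] at hT
      omega
  subst hln
  have hd' : P1Deg.HasDeg e' ((Scheme.Modules.pullback i.ker.subschemeι).obj (ClSub.idealMod i.ker)) (n : ℤ) :=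
    ⟨(Scheme.Modules.pullbackComp e'.hom i.ker.subschemeι).app _ ≪≫
      (Scheme.Modules.pullbackCongr (show e'.hom ≫ i.ker.subschemeι = e₀.hom ≫ i by
        show (e₀.hom ≫ i.toImage) ≫ _ = _
        rw [Category.assoc]; exact congrArg (e₀.hom ≫ ·) i.toImage_imageι)).app _ ≪≫
      ((Scheme.Modules.pullbackComp e₀.hom i).app _).symm ≪≫ φ₀⟩
  haveI : IsClosedImmersion ι := hι
  obtain ⟨H, hH⟩ : ∃ H : X.Modules, CohB1.IsAmple H :=
    ⟨_, isAmple_pullback_of_isAffineHom ι (WeilProj8.isAmple_twist_projSpace n₀ k)⟩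
  obtain ⟨M, ⟨tM⟩⟩ := VarietyLib.exists_isInverseOf hI
  have hM : ClSub.IsInverseOf M (ClSub.idealMod i.ker) := ⟨tensorComm _ _ ≪≫ tM⟩
  obtain ⟨Y, q, g, P, hP, hgq, hYi, -, hq, hproj, hsurj, hg, hpre, hiso⟩ :=
    Groth.Agent.PointBlow14.exists_contraction sX hnor hH i.ker hD e' M hM hn hd'
  haveI := hYi
  haveI := hq
  haveI : IsProper (Over.mk q).hom := hq
  have hrange : (i.ker.support : Set X) = Set.range i.base := by
    rw [Scheme.Hom.support_ker]; exact i.isClosedEmbedding.isClosed_range.closure_eq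
  obtain ⟨m, jY, hjY, hjYq⟩ := hproj
  haveI := hjY
  have hva : RelAmple.IsRelVeryAmplePn q
      ((Scheme.Modules.pullback jY).obj (Twist.twistOver m (Spec (CommRingCat.of k)) 1)) :=
    ⟨m, jY, inferInstance, hjYq, ⟨Iso.refl _⟩⟩
  obtain ⟨N, c, hc, hcq, -⟩ := AbCubeLib.exists_isClosedImmersion_projSpace q
    (PnEmb.isAmple_of_isRelVeryAmplePn q hva).1 hva
  refine ⟨Y, q, g, P, hP, hgq, hYi, ?_, ⟨N, c, hc, hcq⟩, fun x => ?_, hiso⟩
  · haveI := isNoetherian_of_proper (X := X) k
    haveI : IsLocallyNoetherian Y := LocallyOfFiniteType.isLocallyNoetherian q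
    haveI : CompactSpace Y := QuasiCompact.compactSpace_of_compactSpace q
    haveI : AlgebraicGeometry.IsNoetherian Y := {}
    let U : Y.Opens := ⟨({P} : Set Y)ᶜ, hP.isOpen_compl⟩
    obtain ⟨x, hx⟩ : ∃ x : X, g x ≠ P := by
      by_contra h
      push Not at h
      have hall : (i.ker.support : Set X) = Set.univ := Set.eq_univ_of_forall fun x => hpre.le (h x)
      have := (Set.univ : Set X)
      have hd2 : topologicalKrullDim X = topologicalKrullDim C := by
        haveI : Surjective i := ⟨fun x => (hrange ▸ hall).ge (Set.mem_univ x)⟩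
        exact (IsHomeomorph.topologicalKrullDim_eq _ (i.isClosedEmbedding.isEmbedding.toHomeomorphOfSurjective i.surjective).isHomeomorph).symm
      rw [hC, hX] at hd2
      exact absurd hd2 (by decide)
    have h1 := NoethNormH2.dim_eq_of_dense q U (U.2.dense ⟨g x, hx⟩)
    have h2 := NoethNormH2.dim_eq_of_dense sX (g ⁻¹ᵁ U) ((g ⁻¹ᵁ U).2.dense ⟨x, hx⟩)
    have h3 : topologicalKrullDim (g ⁻¹ᵁ U).toScheme = topologicalKrullDim U.toScheme :=
      IsHomeomorph.topologicalKrullDim_eq _ (g ∣_ U).homeomorph.isHomeomorph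
    rw [← h1, ← h3, h2]
    exact hdim
  · rw [← hrange, ← hpre]
    rfl

end Groth.Agent.S14517
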