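import Groth.Statements.S14519
import Mathlib
import Groth.Prelude
import Groth.Agent.VarietyLib.SmoothStalk

set_option linter.all false

set_option autoImplicit false
universe u
open CategoryTheory CategoryTheory.Limits AlgebraicGeometry
open Curves

open CategoryTheory CategoryTheory.Limits AlgebraicGeometry

namespace Groth.Agent.S14519

theorem valuationRing_stalk (k : Type u) [Field k] (Y : Scheme.{u}) [IsIntegral Y]
    (g : Y ⟶ Spec (CommRingCat.of k)) [Smooth g] (hdim : topologicalKrullDim Y = 1) (y : Y) :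
    ValuationRing (Y.presheaf.stalk y) := by
  haveI := Groth.Agent.VarietyLib.isRegularLocalRing_stalk_of_smooth k Y g y
  have h1 : ringKrullDim (Y.presheaf.stalk y) ≤ 1 := by
    rw [← PrimeSpectrum.topologicalKrullDim_eq_ringKrullDim, ← hdim]
    exact (Y.fromSpecStalk y).isEmbedding.toIsInducing.topologicalKrullDim_le
  have h2 := (IsRegularLocalRing.iff_finrank_cotangentSpace (R := Y.presheaf.stalk y)).1 inferInstance
  rw [← h2] at h1
  have h3 : Module.finrank (IsLocalRing.ResidueField (Y.presheaf.stalk y)) (IsLocalRing.CotangentSpace (Y.presheaf.stalk y)) ≤ 1 := by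
    exact_mod_cast h1
  exact ((tfae_of_isNoetherianRing_of_isLocalRing_of_isDomain (Y.presheaf.stalk y)).out 5 1).1 h3

theorem bijective_of_birational {A B K L : Type u} [CommRing A] [CommRing B] [IsLocalRing A] [IsLocalRing B] [Field K] [Field L]
    [IsDomain A] [ValuationRing A] (ψ : A →+* B) [IsLocalHom ψ] (i : A →+* K) (j : B →+* L) (φ : K →+* L)
    (hi : Function.Injective i) (hj : Function.Injective j) (hφ : Function.Surjective φ) (h : ∀ a, j (ψ a) = φ (i a))
    (hfrac : ∀ q : K, ∃ a b : A, i b ≠ 0 ∧ q * i b = i a) : Function.Bijective ψ := by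
  refine ⟨fun a a' e => hi (φ.injective (by rw [← h, ← h, e])), fun c => ?_⟩
  obtain ⟨q, hq⟩ := hφ (j c)
  obtain ⟨a, b, hb, hab⟩ := hfrac q
  obtain ⟨d, hd | hd⟩ := ValuationRing.cond a b
  · -- `a * d = b`
    have e1 : c * ψ d = 1 := by
      refine hj ?_
      rw [map_mul, map_one, h, ← hq, ← map_mul, ← map_one φ]
      congr 1
      have ha : i a ≠ 0 := fun ha => hb (by rw [← hd, map_mul, ha, zero_mul])
      refine mul_left_cancel₀ ha ?_
      rw [mul_one, mul_left_comm, ← map_mul, hd, hab]
    have hu : IsUnit d := IsLocalHom.map_nonunit (f := ψ) d (IsUnit.of_mul_eq_one_right c e1)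
    refine ⟨↑hu.unit⁻¹, hj ?_⟩
    have e2 : ψ ↑hu.unit⁻¹ = c * ψ d * ψ ↑hu.unit⁻¹ := by rw [e1, one_mul]
    rw [e2, mul_assoc, ← map_mul ψ, IsUnit.mul_val_inv, map_one, mul_one]
  · refine ⟨d, hj ?_⟩
    rw [h, ← hq]
    congr 1
    exact mul_right_cancel₀ hb (by rw [hab, ← map_mul, mul_comm, hd])

/-- Let k be an algebraically closed field and f : X → Y a birational morphism over k between smooth
curves (X, Y integral, separated, of finite type and smooth over k, of dimension one; f sends the
generic point of X to that of Y and the induced map of function fields K(Y) → K(X) is bijective).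
Then f is an open immersion. -/
theorem result (k : Type u) [Field k] [IsAlgClosed k]
    (X Y : Scheme.{u}) [X.Over (Spec (CommRingCat.of k))] [Y.Over (Spec (CommRingCat.of k))]
    [IsIntegral X] [IsSeparated (X ↘ (Spec (CommRingCat.of k)))] [LocallyOfFiniteType (X ↘ (Spec (CommRingCat.of k)))] [QuasiCompact (X ↘ (Spec (CommRingCat.of k)))] [Smooth (X ↘ (Spec (CommRingCat.of k)))] (hdimX : topologicalKrullDim X = 1)
    [IsIntegral Y] [IsSeparated (Y ↘ (Spec (CommRingCat.of k)))] [LocallyOfFiniteType (Y ↘ (Spec (CommRingCat.of k)))] [QuasiCompact (Y ↘ (Spec (CommRingCat.of k)))] [Smooth (Y ↘ (Spec (CommRingCat.of k)))] (hdimY : topologicalKrullDim Y = 1)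
    (f : X ⟶ Y) (hf : f ≫ (Y ↘ (Spec (CommRingCat.of k))) = (X ↘ (Spec (CommRingCat.of k))))
    (e : f (genericPoint X) = genericPoint Y)
    (hbir : Function.Bijective (Y.presheaf.stalkSpecializes (specializes_of_eq e) ≫ f.stalkMap (genericPoint X)).hom) :
    IsOpenImmersion f := by
  haveI : IsSeparated f := by
    haveI : IsSeparated (f ≫ (Y ↘ (Spec (CommRingCat.of k)))) := by rw [hf]; infer_instance
    exact IsSeparated.of_comp f (Y ↘ (Spec (CommRingCat.of k)))
  haveI : IsLocallyNoetherian Y := LocallyOfFiniteType.isLocallyNoetherian (Y ↘ (Spec (CommRingCat.of k)))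
  haveI : LocallyOfFiniteType f := by
    haveI : LocallyOfFiniteType (f ≫ (Y ↘ (Spec (CommRingCat.of k)))) := by rw [hf]; infer_instance
    exact locallyOfFiniteType_of_comp f (Y ↘ (Spec (CommRingCat.of k)))
  haveI : LocallyOfFinitePresentation f := LocallyOfFinitePresentation.iff_locallyOfFiniteType.2 inferInstance
  set η := genericPoint X
  let φ : Y.functionField ⟶ X.functionField := Y.presheaf.stalkSpecializes (specializes_of_eq e) ≫ f.stalkMap η
  have hsq : ∀ x : X, f.stalkMap x ≫ X.presheaf.stalkSpecializes ((genericPoint_spec X).specializes trivial) =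
      Y.presheaf.stalkSpecializes ((genericPoint_spec Y).specializes trivial : genericPoint Y ⤳ f x) ≫ φ := by
    intro x
    rw [← Scheme.Hom.stalkSpecializes_stalkMap f η x ((genericPoint_spec X).specializes trivial)]
    simp only [φ, TopCat.Presheaf.stalkSpecializes_comp_assoc]
  have hinj : ∀ (Z : Scheme.{u}) [IsIntegral Z] (z : Z),
      Function.Injective (Z.presheaf.stalkSpecializes ((genericPoint_spec Z).specializes trivial : genericPoint Z ⤳ z)).hom :=
    fun Z _ z => IsFractionRing.injective (Z.presheaf.stalk z) Z.functionField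
  have hiso : ∀ x : X, IsIso (f.stalkMap x) := by
    intro x
    haveI := valuationRing_stalk k Y (Y ↘ (Spec (CommRingCat.of k))) hdimY (f x)
    refine (ConcreteCategory.isIso_iff_bijective _).2 ?_
    refine bijective_of_birational (K := Y.functionField) (L := X.functionField) (f.stalkMap x).hom
      (Y.presheaf.stalkSpecializes ((genericPoint_spec Y).specializes trivial)).hom
      (X.presheaf.stalkSpecializes ((genericPoint_spec X).specializes trivial)).hom φ.hom (hinj Y _) (hinj X _) hbir.2
      (fun a => ?_) (fun q => ?_)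
    · exact DFunLike.congr_fun (CommRingCat.hom_ext_iff.1 (hsq x)) a
    · obtain ⟨a, b, hb, hab⟩ := IsFractionRing.div_surjective (A := Y.presheaf.stalk (f x)) q
      have hb' : algebraMap (Y.presheaf.stalk (f x)) Y.functionField b ≠ 0 := IsFractionRing.to_map_ne_zero_of_mem_nonZeroDivisors hb
      exact ⟨a, b, hb', by rw [← hab]; exact div_mul_cancel₀ _ hb'⟩
  haveI : Flat f := (Flat.iff_flat_stalkMap f).2 fun x => by
    haveI := hiso x
    exact RingHom.Flat.of_bijective (ConcreteCategory.bijective_of_isIso (f.stalkMap x))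
  rw [isOpenImmersion_iff_stalk]
  refine ⟨Topology.isOpenEmbedding_iff_continuous_injective_isOpenMap.2 ⟨f.continuous, ?_, f.isOpenMap⟩, hiso⟩
  intro x₁ x₂ h
  let sY := Y.presheaf.stalkSpecializes ((genericPoint_spec Y).specializes trivial : genericPoint Y ⤳ f x₁)
  haveI := hiso x₁
  haveI := hiso x₂
  let g₁ : Spec (Y.presheaf.stalk (f x₁)) ⟶ X := Spec.map (inv (f.stalkMap x₁)) ≫ X.fromSpecStalk x₁
  let g₂ : Spec (Y.presheaf.stalk (f x₁)) ⟶ X :=
    Spec.map (Y.presheaf.stalkSpecializes (specializes_of_eq h)) ≫ Spec.map (inv (f.stalkMap x₂)) ≫ X.fromSpecStalk x₂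
  let ι : Spec X.functionField ⟶ Spec (Y.presheaf.stalk (f x₁)) := Spec.map (sY ≫ φ)
  haveI : IsDominant ι := ⟨by
    refine (PrimeSpectrum.denseRange_comap_iff_ker_le_nilRadical (sY ≫ φ).hom).2 ?_
    rw [(RingHom.injective_iff_ker_eq_bot (sY ≫ φ).hom).1 (hbir.1.comp (hinj Y _))]
    exact bot_le⟩
  have hloc : ∀ {Z W : CommRingCat.{u}} (m : Z ⟶ W) [IsIso m], IsLocalHom m.hom := fun m _ => ⟨fun a ha => by
    have h' := ha.map (inv m).hom
    rwa [← CommRingCat.comp_apply, IsIso.hom_inv_id, CommRingCat.id_apply] at h'⟩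
  haveI : IsIso (Y.presheaf.stalkSpecializes (specializes_of_eq h)) :=
    ⟨Y.presheaf.stalkSpecializes (specializes_of_eq h.symm), by simp, by simp⟩
  haveI := hloc (inv (f.stalkMap x₁))
  haveI := hloc (inv (f.stalkMap x₂))
  haveI := hloc (Y.presheaf.stalkSpecializes (specializes_of_eq h))
  have hg₁ : g₁ (IsLocalRing.closedPoint _) = x₁ := by
    show X.fromSpecStalk x₁ (Spec.map (inv (f.stalkMap x₁)) (IsLocalRing.closedPoint _)) = x₁
    rw [Spec_closedPoint, Scheme.fromSpecStalk_closedPoint]
  have hg₂ : g₂ (IsLocalRing.closedPoint _) = x₂ := by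
    show X.fromSpecStalk x₂ (Spec.map (inv (f.stalkMap x₂)) (Spec.map (Y.presheaf.stalkSpecializes (specializes_of_eq h)) (IsLocalRing.closedPoint _))) = x₂
    rw [Spec_closedPoint, Spec_closedPoint, Scheme.fromSpecStalk_closedPoint]
  have key : g₁ = g₂ := by
    refine ext_of_isDominant_of_isSeparated f ?_ ι ?_
    · simp only [g₁, g₂, Category.assoc]
      rw [← Scheme.SpecMap_stalkMap_fromSpecStalk f, ← Scheme.SpecMap_stalkMap_fromSpecStalk f,
        ← Spec.map_comp_assoc (f.stalkMap x₁), IsIso.hom_inv_id, ← Spec.map_comp_assoc (f.stalkMap x₂), IsIso.hom_inv_id,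
        Spec.map_id, Category.id_comp, Spec.map_id, Category.id_comp, Scheme.SpecMap_stalkSpecializes_fromSpecStalk]
    · have e1 : ∀ (x : X), (Y.presheaf.stalkSpecializes ((genericPoint_spec Y).specializes trivial : genericPoint Y ⤳ f x) ≫ φ) =
          f.stalkMap x ≫ X.presheaf.stalkSpecializes ((genericPoint_spec X).specializes trivial) := fun x => (hsq x).symm
      simp only [ι, g₁, g₂, ← Spec.map_comp_assoc]
      rw [show inv (f.stalkMap x₁) ≫ sY ≫ φ = X.presheaf.stalkSpecializes ((genericPoint_spec X).specializes trivial) by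
        simp only [sY, e1, IsIso.inv_hom_id_assoc]]
      rw [Category.assoc, show Y.presheaf.stalkSpecializes (specializes_of_eq h) ≫ sY ≫ φ =
        Y.presheaf.stalkSpecializes ((genericPoint_spec Y).specializes trivial : genericPoint Y ⤳ f x₂) ≫ φ by
        simp only [sY, TopCat.Presheaf.stalkSpecializes_comp_assoc], e1, IsIso.inv_hom_id_assoc]
      rw [Scheme.SpecMap_stalkSpecializes_fromSpecStalk, Scheme.SpecMap_stalkSpecializes_fromSpecStalk]
  rw [← hg₁, key, hg₂]

end Groth.Agent.S14519
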