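import Groth.Statements.S1452
import Groth.Agent.FlatMorWeight.UnramifiedEtale

set_option autoImplicit false
universe u
open FlatMor

namespace Groth.Agent.S1452

open AlgebraicGeometry CategoryTheory Limits in
/-- Let f : X → Y and g : Y → Z with Y integral and the local ring of Y at y = f x geometrically
unibranch; assume g ∘ f is étale on an open neighbourhood of x and some generization of x maps to
the generic point of Y. Then f is étale on an open neighbourhood of x and g is étale on an open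
neighbourhood of y. -/
theorem result {X Y Z : Scheme.{u}} (f : X ⟶ Y) (g : Y ⟶ Z) [IsIntegral Y] (x : X)
    (hY : CAlg2.IsGeomUnibranch (Y.presheaf.stalk (f x))) (het : ∃ U : X.Opens, x ∈ U ∧ Etale (U.ι ≫ f ≫ g))
    (hsp : ∃ x' : X, x' ⤳ x ∧ f x' = genericPoint ↑Y) :
    (∃ U : X.Opens, x ∈ U ∧ Etale (U.ι ≫ f)) ∧ ∃ V : Y.Opens, f x ∈ V ∧ Etale (V.ι ≫ g) := by
  obtain ⟨U, hx, hU⟩ := het
  haveI := hU
  haveI : Etale ((U.ι ≫ f) ≫ g) := by rwa [Category.assoc]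
  haveI : LocallyOfFiniteType (U.ι ≫ f) := locallyOfFiniteType_of_comp _ g
  haveI : FormallyUnramified (U.ι ≫ f) := FormallyUnramified.of_comp _ g
  obtain ⟨x', hx', hx'η⟩ := hsp
  have hs : (⟨x', hx'.mem_open U.2 hx⟩ : U) ⤳ ⟨x, hx⟩ :=
    U.ι.isOpenEmbedding.isInducing.specializes_iff.1 hx'
  obtain ⟨U', hxU', hU'⟩ := FlatMorWeight.etale_nhd_of_geomUnibranch (U.ι ≫ f) (⟨x, hx⟩ : U) hY
    ⟨_, hs, hx'η⟩ (FormallyUnramified.stalkMap (U.ι ≫ f) (⟨x, hx⟩ : U))
  let W : X.Opens := U.ι ''ᵁ U'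
  have hxW : x ∈ W := ⟨⟨x, hx⟩, hxU', rfl⟩
  have hW : W ≤ U := by
    rintro _ ⟨u, -, rfl⟩
    exact u.2
  haveI := hU'
  have he : (U.ι.isoImage U').inv ≫ U'.ι ≫ U.ι = W.ι := Scheme.Hom.isoImage_inv_ι _ _
  haveI h1 : Etale (W.ι ≫ f) := by
    rw [← he, Category.assoc, Category.assoc]; infer_instance
  haveI h2 : Etale (W.ι ≫ f ≫ g) := by
    rw [← X.homOfLE_ι hW, Category.assoc]; infer_instance
  exact ⟨⟨W, hxW, h1⟩, FlatMorWeight.etale_nhd_of_comp f g W x hxW⟩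

end Groth.Agent.S1452
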