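import Groth.Statements.S14520
import Groth.Agent.PointBlow14.Basic
import Groth.Agent.PointBlow14.Pow
import Groth.Agent.PointBlow14.Divisors
import Groth.Agent.Resolve13.PointExc
import Groth.Agent.Resolve13.CurveBlowUp
import Groth.Agent.Resolve13.StrictLength
import Groth.Agent.Models7.PointBlowUpIso
import Groth.Agent.Surf15.IntPush
import Groth.Agent.Surf15.RRCor
import Groth.Agent.CurveRR24.AlgClosed
import Groth.Agent.Inters29.PullIdeal
import Groth.Agent.RefPowLib.Basic
import Groth.Agent.FSchLib.Systems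
import Groth.Agent.DimLib.ProjDim
-- import your own Groth.Agent.* helpers here

set_option autoImplicit false
universe u
open CategoryTheory CategoryTheory.Limits AlgebraicGeometry
open Surf

open Groth.Agent.Coherent Groth.Agent.EulerLib Groth.Agent.Surf15 Groth.Agent.SDiv28.CartierPart Groth.Agent.Misc15.DivDescent

namespace Groth.Agent.S14520

theorem isIso_stalk {A B : Scheme.{u}} (g : A ⟶ B) [IsIso g] (a : A) : IsIso (g.stalkMap a) := by
  haveI : IsOpenImmersion g := inferInstance
  infer_instance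

/-- Let k be an algebraically closed field, X a smooth projective surface over k (integral, smooth over
k, of dimension two, with a closed immersion over k into some projective space), P a closed point of
X with ideal m_P, f : X' → X the blow-up of X at P (universal property), and C ⊆ X a curve (an
integral closed subscheme of dimension one, closed immersion j) of multiplicity m = ord_P(C) at P:
the ideal of C is contained in m_P^m and not in m_P^{m+1}. Let C' ⊆ X' be the strict transform of C:
an integral closed subscheme of dimension one (closed immersion j') whose generic point is mapped by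
f to the generic point of C. Then p_a(C') = p_a(C) − m(m−1)/2, written 2 p_a(C') + m(m−1) = 2 p_a(C)
with p_a = dim_k H^1(O). -/
theorem result (k : Type u) [Field k] [IsAlgClosed k]
    (X : Scheme.{u}) [X.Over (Spec (CommRingCat.of k))] [IsIntegral X] [Smooth (X ↘ (Spec (CommRingCat.of k)))] (hdim : topologicalKrullDim X = 2)
    (hprojX : ∃ (N : ℕ) (ι : X ⟶ CohB1.ProjSpace N k), IsClosedImmersion ι ∧ ι ≫ CohB1.ProjSpace.toSpec N k = (X ↘ (Spec (CommRingCat.of k))))
    (P : X) (hP : IsClosed ({P} : Set X))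
    (X' : Scheme.{u}) (f : X' ⟶ X) (hf : BlowUp.IsBlowUp f (Scheme.IdealSheafData.vanishingIdeal ⟨{P}, hP⟩))
    (C : Scheme.{u}) [C.Over (Spec (CommRingCat.of k))] [IsIntegral C] (hdimC : topologicalKrullDim C = 1)
    (j : C ⟶ X) [IsClosedImmersion j] (hj : j ≫ (X ↘ (Spec (CommRingCat.of k))) = (C ↘ (Spec (CommRingCat.of k))))
    (m : ℕ) (hm : j.ker ≤ Scheme.IdealSheafData.vanishingIdeal ⟨{P}, hP⟩ ^ m)
    (hm' : ¬ j.ker ≤ Scheme.IdealSheafData.vanishingIdeal ⟨{P}, hP⟩ ^ (m + 1))
    (C' : Scheme.{u}) [C'.Over (Spec (CommRingCat.of k))] [IsIntegral C'] (hdimC' : topologicalKrullDim C' = 1)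
    (j' : C' ⟶ X') [IsClosedImmersion j'] (hj' : j' ≫ f ≫ (X ↘ (Spec (CommRingCat.of k))) = (C' ↘ (Spec (CommRingCat.of k))))
    (hgen : f (j' (genericPoint C')) = j (genericPoint C)) :
    2 * Curv2.genus k C' + m * (m - 1) = 2 * Curv2.genus k C := by
  classical
  obtain ⟨N, ι, hι, hιk⟩ := hprojX
  haveI := hι
  haveI : IsProper (X ↘ (Spec (CommRingCat.of k))) := by
    haveI := isProper_projSpace_toSpec N k
    rw [← hιk]; infer_instance
  letI : X'.Over (Spec (CommRingCat.of k)) := ⟨f ≫ (X ↘ (Spec (CommRingCat.of k)))⟩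
  haveI := isNoetherian_of_proper k (X := X)
  have hX : topologicalKrullDim X = ((2 : ℕ) : WithBot ℕ∞) := by rw [hdim]; rfl
  have hreg : ∀ x : X, IsRegularLocalRing (X.presheaf.stalk x) := fun x =>
    VarietyLib.isRegularLocalRing_stalk_of_smooth k X (X ↘ (Spec (CommRingCat.of k))) x
  haveI := hreg P
  obtain ⟨hd, -⟩ := PointBlow14.dim_stalk k (fun Z hZ => by
    rw [DimLib.components_eq_univ hZ, (Homeomorph.Set.univ X).isHomeomorph.topologicalKrullDim_eq]; exact hdim) P hP
  set I := Scheme.IdealSheafData.vanishingIdeal (⟨{P}, hP⟩ : TopologicalSpace.Closeds X) with hIdef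
  have hIs : (I.support : Set X) = {P} := Scheme.IdealSheafData.coe_support_vanishingIdeal _
  have hIB : BlowUpCoh.KoszulBasis I 1 := PointBlow14.koszulBasis_point P hP hd
  haveI := BlowUpLib.isProper_of_isBlowUp hf (BlowUpCoh.isFiniteType_of_koszulBasis hIB)
  haveI : IsProper (X' ↘ (Spec (CommRingCat.of k))) :=
    inferInstanceAs (IsProper (f ≫ (X ↘ (Spec (CommRingCat.of k)))))
  haveI := isNoetherian_of_proper k (X := X')
  have hηP : genericPoint X ≠ P := fun h => by
    subst h
    rw [RefPowLib.ringKrullDim_stalk_genericPoint] at hd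
    exact absurd hd (by decide)
  haveI : IsIntegral X' := Resolve13.isIntegral_blowUp hf (fun h => hηP (hIs.le h))
  have hreg' : ∀ y : X', IsRegularLocalRing (X'.presheaf.stalk y) :=
    fun y => Models7.isRegular_pointBlowUp hreg P hP f hf y
  have hJ : BlowUp.IsEffCartierIdeal (I.comap f) := hf.1
  obtain ⟨E, e, he, ⟨-, k', hk', φ, -⟩, herange, -, heker⟩ := Resolve13.exists_excCurve_point P hP hd f hf
  haveI := he
  haveI : IsIntegral (CohB1.ProjSpace 1 k') := CurveLib.isIntegral_projSpace k' 1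
  haveI : Nonempty E := ⟨φ.hom (genericPoint _)⟩
  haveI : IsIntegral E := isIntegral_of_isOpenImmersion φ.inv
  have hEd : topologicalKrullDim E = 1 := by
    rw [φ.inv.homeomorph.isHomeomorph.topologicalKrullDim_eq, DimLib.PN.topologicalKrullDim_projSpace]; rfl
  have hJc : Surf15.IsCrv (I.comap f) := heker ▸ Surf15.isCrv_ker e hEd
  -- dimension two
  have hW : IsIso (f ∣_ (⟨({P} : Set X)ᶜ, hP.isOpen_compl⟩ : X.Opens)) :=
    ProjLib.isIso_morphismRestrict hf _ (by rw [hIs]; exact disjoint_compl_right)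
  set W : X.Opens := ⟨({P} : Set X)ᶜ, hP.isOpen_compl⟩
  have hX' : topologicalKrullDim X' = ((2 : ℕ) : WithBot ℕ∞) := by
    refine le_antisymm (PointBlow14.dim_le k rfl hX.le hf hIB) ?_
    have hsur : ∃ y : X', f y = genericPoint X := by
      obtain ⟨y, hy⟩ := (f ∣_ W).homeomorph.surjective ⟨genericPoint X, hηP⟩
      refine ⟨y.1, ?_⟩
      calc f y.1 = ((f ⁻¹ᵁ W).ι ≫ f) y := rfl
        _ = ((f ∣_ W) ≫ W.ι) y := by rw [morphismRestrict_ι]
        _ = genericPoint X := congrArg (fun v => W.ι v) hy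
    obtain ⟨y, hy⟩ := hsur
    rw [← hX, DimLib.topologicalKrullDim_eq_ptDim_genericPoint (X ↘ (Spec (CommRingCat.of k))), ← hy]
    refine le_trans (b := (DimLib.ptDim (f ≫ (X ↘ (Spec (CommRingCat.of k)))) y : WithBot ℕ∞))
      (by exact_mod_cast DimLib.ptDim_apply_le (X ↘ (Spec (CommRingCat.of k))) f y) ?_
    exact DimLib.ptDim_le_topologicalKrullDim (f ≫ (X ↘ (Spec (CommRingCat.of k)))) y
  have hC0 := Surf15.isCrv_ker j hdimC
  have hC1 := Surf15.isCrv_ker j' hdimC'
  have hCe : BlowUp.IsEffCartierIdeal j.ker := hC0.isEffCartier k hX hreg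
  have hC'e : BlowUp.IsEffCartierIdeal j'.ker := hC1.isEffCartier k hX' hreg'
  haveI := hC0.1
  haveI := hC1.1
  haveI := hJc.1
  have hgen0 : ∀ {Z Y : Scheme.{u}} (g : Z ⟶ Y) [IsClosedImmersion g] [IsIntegral Z] [IsIntegral g.ker.subscheme],
      g (genericPoint Z) = gen g.ker := fun {Z Y} g _ _ _ => by
    refine IsGenericPoint.eq ?_ (isGenericPoint_gen g.ker)
    have h := (genericPoint_spec Z).image g.continuous
    rwa [Set.image_univ, Surf15.range_eq_support g, g.ker.support.isClosed.closure_eq] at h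
  have hg' : f (gen j'.ker) = gen j.ker := by rw [← hgen0 j', ← hgen0 j]; exact hgen
  have hgP : gen j.ker ≠ P := fun h => by
    have h1 : DimLib.ptDim (X ↘ (Spec (CommRingCat.of k))) (gen j.ker) = 0 :=
      (DimLib.ptDim_eq_zero_iff _ _).2 (h ▸ hP)
    have h2 : DimLib.ptDim (X ↘ (Spec (CommRingCat.of k))) (gen j.ker) = 1 := ptDim_gen k hC0.2
    omega
  haveI : IsIso (f ∣_ W) := hW
  haveI hisos : ∀ y : f ⁻¹ᵁ W, IsIso (f.stalkMap y.1) := fun y =>
    ((MorphismProperty.isomorphisms _).arrow_mk_iso_iff (morphismRestrictStalkMap f W y)).1 (isIso_stalk (f ∣_ W) y)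
  have hinj : ∀ y z : X', f y ≠ P → f y = f z → y = z := fun y z hy h => by
    have := (f ∣_ W).homeomorph.injective (a₁ := ⟨y, hy⟩) (a₂ := ⟨z, show f z ≠ P from h ▸ hy⟩) (by
      apply W.ι.isOpenEmbedding.injective
      show ((f ∣_ W) ≫ W.ι) _ = ((f ∣_ W) ≫ W.ι) _
      rw [morphismRestrict_ι]
      exact h)
    exact congrArg Subtype.val this
  have hT : BlowUp.IsEffCartierIdeal (j.ker.comap f) := by
    refine Surf15.isEffCartier_of_locPrincipal (PointBlow14.isLocPrincipal_comap hCe f) fun h => ?_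
    rw [Scheme.IdealSheafData.support_comap] at h
    have h' : f (genericPoint X') ∈ (j.ker.support : Set X) := h
    have hsp : f (genericPoint X') ⤳ gen j.ker := hg' ▸ (genericPoint_specializes (gen j'.ker)).map f.continuous
    have hne : f (genericPoint X') ≠ P := fun hh => hgP ((hh ▸ hsp).mem_closed hP rfl)
    have hq := (isGenericPoint_gen j.ker).specializes h'
    have he := hinj _ (gen j'.ker) hne ((hsp.antisymm hq).eq.trans hg'.symm)
    have h2 : DimLib.ptDim (X' ↘ (Spec (CommRingCat.of k))) (gen j'.ker) = 1 := ptDim_gen k hC1.2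
    rw [← he] at h2
    have h3 := DimLib.topologicalKrullDim_eq_ptDim_genericPoint (X' ↘ (Spec (CommRingCat.of k)))
    rw [hX', h2] at h3
    exact absurd h3 (by decide)
  have hne : j'.ker ≠ I.comap f := fun h => by
    have h1 : gen j'.ker ∈ ((I.comap f).support : Set X') := h ▸ (isGenericPoint_gen j'.ker).mem
    rw [Scheme.IdealSheafData.support_comap] at h1
    exact hgP (hg' ▸ hIs.le h1)
  let S : Finset X'.IdealSheafData := {j'.ker, I.comap f}
  have hS : ∀ B ∈ S, Surf15.IsCrv B := fun B hB => by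
    simp only [S, Finset.mem_insert, Finset.mem_singleton] at hB
    rcases hB with rfl | rfl
    · exact hC1
    · exact hJc
  obtain ⟨a, ha⟩ := PointBlow14.exists_fun k hX' hreg' S hS hT fun B hB hle => by
    haveI := hB.1
    have hgB : gen B ∈ ((j.ker.comap f).support : Set X') :=
      Scheme.IdealSheafData.support_antitone hle (isGenericPoint_gen B).mem
    rw [Scheme.IdealSheafData.support_comap] at hgB
    by_cases hBP : f (gen B) = P
    · have hBJ : gen B ∈ ((I.comap f).support : Set X') := by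
        rw [Scheme.IdealSheafData.support_comap]; exact hIs.ge hBP
      obtain ⟨_, he⟩ := Surf15.exists_eq_of_crv k (fun _ : Unit => I.comap f) (fun _ => hJc) hB
        (Surf15.le_of_support_subset (by
          rw [Surf15.support_eq_closure_gen B]
          exact (I.comap f).support.isClosed.closure_subset_iff.2 (Set.singleton_subset_iff.2 hBJ)))
        fun x hx => Set.mem_iUnion.2 ⟨(), hx⟩
      simp [S, he]
    · have hco : f (gen B) = gen j.ker := by
        refine eq_gen_of_coheight_le hCe hgB ?_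
        have h1 := coheight_gen (hB.isEffCartier k hX' hreg')
        haveI := hisos ⟨gen B, hBP⟩
        have h2 : ringKrullDim (X.presheaf.stalk (f (gen B))) = ringKrullDim (X'.presheaf.stalk (gen B)) :=
          ringKrullDim_eq_of_ringEquiv (asIso (f.stalkMap (gen B))).commRingCatIsoToRingEquiv
        rw [ringKrullDim_stalk_eq_coheight, ringKrullDim_stalk_eq_coheight, h1] at h2
        exact_mod_cast h2.le
      have := hinj (gen B) (gen j'.ker) hBP (hco.trans hg'.symm)
      have he : B = j'.ker := by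
        rw [VarietyLib.eq_clI_of_isIntegral B, VarietyLib.eq_clI_of_isIntegral j'.ker]
        exact congrArg AssSch12.clI this
      simp [S, he]
  obtain ⟨_, _⟩ := SDiv28.StalkCartier.exists_dvr hC'e _ (isGenericPoint_gen j'.ker)
  obtain ⟨_, _⟩ := SDiv28.StalkCartier.exists_dvr hJ _ (isGenericPoint_gen (I.comap f))
  have hst' := PointBlow14.stk_prod_gen k hX' hreg' S hS a (C := j'.ker) (by simp [S])
  have hstJ := PointBlow14.stk_prod_gen k hX' hreg' S hS a (C := I.comap f) (by simp [S])
  rw [← ha] at hst' hstJ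
  have ha1 : a j'.ker = 1 := by
    refine PointBlow14.maximalIdeal_pow_inj (hst'.symm.trans ?_)
    haveI := hisos ⟨gen j'.ker, show f (gen j'.ker) ≠ P from hg' ▸ hgP⟩
    rw [pow_one, stk_comap, show stk j.ker (f (gen j'.ker)) = IsLocalRing.maximalIdeal _ from by
      rw [hg']; exact stk_gen hCe]
    exact IsLocalRing.map_maximalIdeal_of_surjective (f.stalkMap (gen j'.ker)).hom
      (ConcreteCategory.bijective_of_isIso (f.stalkMap (gen j'.ker))).2
  have hb1 : m ≤ a (I.comap f) := by
    have h1 : j.ker.comap f ≤ (I.comap f) ^ m := by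
      rw [← FSchLib.comap_pow]; exact Scheme.IdealSheafData.comap_mono f hm
    have h2 := Resolve13.stk_mono h1 (gen (I.comap f))
    rw [hstJ, stk_pow, stk_gen hJ] at h2
    exact ((Ideal.pow_right_strictAnti _ (IsDiscreteValuationRing.not_a_field _)
      (IsLocalRing.maximalIdeal.isMaximal _).ne_top).le_iff_ge).1 h2
  have hfac : j.ker.comap f = j'.ker * (I.comap f) ^ a (I.comap f) := by
    rw [ha, Finset.prod_pair hne, ha1, pow_one]
  have hb2 : a (I.comap f) ≤ m := by
    by_contra hlt
    refine hm' (PointBlow14.le_pow_of_comap_le hf hIB ?_)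
    rw [hfac]
    refine (Surf15.mul_le_snd _ _).trans ?_
    obtain ⟨d, hd'⟩ : ∃ d, a (I.comap f) = (m + 1) + d := ⟨a (I.comap f) - (m + 1), by omega⟩
    rw [hd', pow_add]
    exact Surf15.mul_le_fst _ _
  rw [le_antisymm hb2 hb1] at hfac
  -- Euler characteristics
  obtain ⟨htop, hEe⟩ := PointBlow14.euler_rules (X' := X') k rfl hX.le P hP hd hf
  rw [CurveRR24.finrank_resField k hP] at hEe
  have hCl : ∀ n : ℕ, ∃ h : BlowUp.IsEffCartierIdeal (j'.ker * (I.comap f) ^ n),
      Surf15.clI' _ h = Surf15.clI' j'.ker hC'e * Surf15.clI' (I.comap f) hJ ^ n := by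
    intro n
    induction n with
    | zero => simp only [pow_zero, mul_one]; exact ⟨hC'e, trivial⟩
    | succ n ih =>
      obtain ⟨h, he⟩ := ih
      rw [pow_succ (I.comap f) n, ← mul_assoc]
      exact ⟨ModPairLib.isEffCartier_mul h hJ, by rw [Surf15.clI'_mul _ _ h hJ, he, pow_succ, mul_assoc]⟩
  obtain ⟨hmm, hcl⟩ := hCl m
  have hCI := FlatMor12.IdealModGen.isInvertible_idealMod j.ker hCe
  have hpC := PicLoc.isInvertible_pullback f hCI
  have hp : InvCl.mk _ hpC = Surf15.clI' j'.ker hC'e * Surf15.clI' (I.comap f) hJ ^ m := by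
    rw [← hcl, ← Surf15.clI'_congr hfac hT hmm]
    obtain ⟨e⟩ := Inters29.nonempty_pullback_idealMod_iso f j.ker hCe hT
    exact InvCl.mk_eq _ _ e
  obtain ⟨-, r2, r3⟩ := PointBlow14.intNum_rules (X' := X') k rfl hX.le P hP hd hf hCI hCI
  rw [CurveRR24.finrank_resField k hP] at r3
  rw [Surf15.intNum_eq_B k hX'.le hpC (FlatMor12.IdealModGen.isInvertible_idealMod _ hJ), hp,
    Surf15.B_mul_left k hX'.le, Surf15.B_pow_left k hX'.le] at r2
  rw [Surf15.intNum_eq_B k hX'.le (FlatMor12.IdealModGen.isInvertible_idealMod _ hJ)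
    (FlatMor12.IdealModGen.isInvertible_idealMod _ hJ)] at r3
  change Surf15.B k (Surf15.clI' (I.comap f) hJ) (Surf15.clI' (I.comap f) hJ) = _ at r3
  change Surf15.B k (Surf15.clI' j'.ker hC'e) (Surf15.clI' (I.comap f) hJ) +
    (m : ℤ) * Surf15.B k (Surf15.clI' (I.comap f) hJ) (Surf15.clI' (I.comap f) hJ) = 0 at r2
  have c1 : chiCl k (Coh.structureModule X') (Surf15.clI' j'.ker hC'e * Surf15.clI' (I.comap f) hJ ^ m) =
      chiCl k (Coh.structureModule X) (Surf15.clI' j.ker hCe) := by
    rw [← hp, ← Surf15.euler_eq_chiCl k hX'.le hpC, htop hCI, Surf15.euler_eq_chiCl k hX.le hCI]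
    rfl
  have c2 := Surf15.chi_pow k hX'.le (Surf15.clI' (I.comap f) hJ) m
  have c3 : chiCl k (Coh.structureModule X') (Surf15.clI' (I.comap f) hJ) =
      chiCl k (Coh.structureModule X') 1 - 1 := by
    unfold Surf15.clI'
    rw [← Surf15.euler_eq_chiCl k hX'.le, hEe, chiCl_one]
    rfl
  have c4 := Surf15.B_pow_right k hX'.le (Surf15.clI' (I.comap f) hJ) (Surf15.clI' j'.ker hC'e) m
  rw [Surf15.B] at c4
  obtain ⟨eO⟩ := AmpleLib.exists_pullStructureIso (X := X) f
  have c5 : chiCl k (Coh.structureModule X') 1 = chiCl k (Coh.structureModule X) 1 := by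
    rw [chiCl_one, chiCl_one, ← htop AmpleLib.isInvertible_structureModule]
    exact euler_congr k X' eO.symm
  have d1 := Surf15.chiCl_clI' k hCe
  have d2 := Surf15.chiCl_clI' k hC'e
  rw [r3] at c2 r2
  push_cast at *
  haveI : X.IsSeparated := isSeparated_of_proper k
  haveI : X'.IsSeparated := isSeparated_of_proper k
  haveI : IsLocallyNoetherian C := LocallyOfFiniteType.isLocallyNoetherian j
  haveI : IsLocallyNoetherian C' := LocallyOfFiniteType.isLocallyNoetherian j'
  haveI : Coh.IsQCoh (Coh.structureModule C) := (isCoh_structureModule _).1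
  haveI : Coh.IsQCoh (Coh.structureModule C') := (isCoh_structureModule _).1
  have hgC : (Curv2.genus k C : ℤ) = 1 - Curv2.euler k X (ClSub.quotMod j.ker) := by
    obtain ⟨e⟩ := Surf15.nonempty_push_iso_quotMod j
    have h := (SerreDual.hpush j k hj (Coh.structureModule C) 1).finrank_eq.trans (CurveRR24.finrank_HH_congr k e 1)
    rw [(Surf15.curve_facts k j.ker hC0.2 AmpleLib.isInvertible_structureModule).2.1, Curv2.genus, h]
    ring
  have hgC' : (Curv2.genus k C' : ℤ) = 1 - Curv2.euler k X' (ClSub.quotMod j'.ker) := by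
    obtain ⟨e⟩ := Surf15.nonempty_push_iso_quotMod j'
    have h := (SerreDual.hpush j' k hj' (Coh.structureModule C') 1).finrank_eq.trans (CurveRR24.finrank_HH_congr k e 1)
    rw [(Surf15.curve_facts k j'.ker hC1.2 AmpleLib.isInvertible_structureModule).2.1, Curv2.genus, h]
    ring
  have key : 2 * (Curv2.genus k C' : ℤ) + (m : ℤ) * ((m : ℤ) - 1) = 2 * (Curv2.genus k C : ℤ) := by
    linear_combination 2 * hgC' - 2 * hgC + 2 * d1 - 2 * d2 + 2 * c1 - c2 - 2 * (m : ℤ) * c3 - 2 * (m : ℤ) * r2 - 2 * c4 - 2 * c5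
  rcases m with _ | m
  · simp at key ⊢; omega
  · push_cast at key; simp only [Nat.add_sub_cancel]; zify; linarith

end Groth.Agent.S14520
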