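import Groth.Statements.S14521
import Groth.Agent.VarietyLib.MultFormula
import Groth.Agent.EulerLib.FGABridge
import Groth.Agent.EulerLib.DegClass
import Groth.Agent.CurveRR24.Sky

set_option autoImplicit false
universe u
open CategoryTheory CategoryTheory.Limits AlgebraicGeometry
open Variety
open Groth.Agent

namespace Groth.Agent.S14521



/-- Let k be an algebraically closed field, X a complete variety over k (reduced and proper over k) of
dimension at most d, L_1, …, L_r line bundles with tensor inverses M_1, …, M_r, and F a coherent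
O_X-module whose support has dimension at most r. Let Y_1, …, Y_s be the r-dimensional irreducible
components of Supp F, with generic points ξ_1, …, ξ_s (given as a finite set s of points: ξ ∈ s iff
ξ ∈ Supp F and the closure of ξ has dimension r), each Y_i with its reduced structure. Then
(L_1⋯L_r; F) = Σ_i length_{O_{X,ξ_i}}(F_{ξ_i}) · (L_1⋯L_r · Y_i), where all intersection numbers are
the alternating Euler-characteristic sums in the M_i (the prelude's FGA.intNum). -/
theorem result (k : Type u) [Field k] [IsAlgClosed k]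
    (X : Scheme.{u}) [X.Over (Spec (CommRingCat.of k))] [IsReduced X] [IsProper (X ↘ (Spec (CommRingCat.of k)))] (d : ℕ) (hd : topologicalKrullDim X ≤ d)
    {r : ℕ} (M : Fin r → X.Modules) (hM : ∀ i, PicF.IsInvertible (M i))
    (F : X.Modules) (hF : Coh.IsCoh F) (hsupp : topologicalKrullDim ↥(CohB1.support F) ≤ r)
    (s : Finset X) (hs : ∀ ξ : X, ξ ∈ s ↔ ξ ∈ CohB1.support F ∧ topologicalKrullDim ↥(closure ({ξ} : Set X)) = r) :
    FGA.intNum k X d M F =
      ∑ ξ ∈ s, ((Module.length (X.presheaf.stalk ξ) (F.presheaf.stalk ξ)).toNat : ℤ) *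
        FGA.intNum k X d M (ClSub.quotMod (Scheme.IdealSheafData.vanishingIdeal ⟨closure ({ξ} : Set X), isClosed_closure⟩)) := by
  classical
  haveI : IsNoetherian X := EulerLib.isNoetherian_of_proper (X := X) k
  let c := fun i => EulerLib.InvCl.mk (M i) (hM i)
  have key := VarietyLib.eq_sum_mult (ψ := fun N => EulerLib.altSum c (EulerLib.chiCl k N)) (d := r)
    (fun {N N'} e => by rw [EulerLib.chiCl_congr k e])
    (fun T hT h₁ h₂ h₃ => by
      have h := EulerLib.interDeg_add_fun c (EulerLib.chiCl k T.X₁) (EulerLib.chiCl k T.X₃)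
      rw [← EulerLib.chiCl_additive k T hT h₁ h₂ h₃] at h
      simp only [EulerLib.interDeg, ← mul_add] at h
      exact mul_left_cancel₀ (pow_ne_zero _ (by norm_num)) h)
    (fun N hN hlt => EulerLib.altSum_eq_zero c _ (EulerLib.finDeg_chiCl k hN hlt))
    hF hsupp s (fun ξ hξ h => (hs ξ).2 ⟨hξ, h⟩) (fun ξ hξ => ((hs ξ).1 hξ).2)
  rw [EulerLib.intNum_eq k M hM hF hd, key]
  refine Finset.sum_congr rfl fun ξ hξ => ?_
  rw [nsmul_eq_mul, EulerLib.intNum_eq k M hM (CurveRR24.isCoh_quotMod _) hd]
  rfl

end Groth.Agent.S14521
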