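import Groth.Statements.S14522
import Groth.Agent.DivCut8.Main
-- import your own Groth.Agent.* helpers here

set_option autoImplicit false
set_option backward.isDefEq.respectTransparency.types false
universe u
open CategoryTheory CategoryTheory.Limits AlgebraicGeometry
open Variety

namespace Groth.Agent.S14522

/-- Let k be an algebraically closed field, X an irreducible complete variety over k (integral and
proper over k) of dimension at most d, L_1, …, L_r line bundles with tensor inverses M_1, …, M_r, F
a coherent O_X-module with dim Supp F ≤ r + 1, and D an effective Cartier divisor on X (a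
quasi-coherent ideal I_D locally generated by one nonzerodivisor) whose support contains no
associated point of F. Then (L_1⋯L_r·O_X(D); F) = (L_1⋯L_r; F ⊗ O_D): with intersection numbers
written as the alternating Euler-characteristic sums in the inverses (the prelude's FGA.intNum), the
(r+1)-fold number of F in M_1, …, M_r, I_D equals the r-fold number of F ⊗ O_D in M_1, …, M_r (for r
= 0 the right side is χ(F ⊗ O_D) = h^0(F ⊗ O_D)). -/
theorem result (k : Type u) [Field k] [IsAlgClosed k]
    (X : Scheme.{u}) [X.Over (Spec (CommRingCat.of k))] [IsIntegral X] [IsProper (X ↘ (Spec (CommRingCat.of k)))] (d : ℕ) (hd : topologicalKrullDim X ≤ d)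
    {r : ℕ} (M : Fin r → X.Modules) (hM : ∀ i, PicF.IsInvertible (M i))
    (F : X.Modules) (hF : Coh.IsCoh F) (hsupp : topologicalKrullDim ↥(CohB1.support F) ≤ r + 1)
    (D : X.IdealSheafData) (hD : BlowUp.IsEffCartierIdeal D) (hass : ∀ x ∈ D.support, ¬ Curv2.IsAssPoint F x) :
    FGA.intNum k X d (Fin.snoc M (ClSub.idealMod D)) F = FGA.intNum k X d M (CohB1.tensorMod F (ClSub.quotMod D)) := by
  haveI := EulerLib.isNoetherian_of_proper (X := X) k
  have hI : PicF.IsInvertible (ClSub.idealMod D) := AbCubeLib.isInvertible_idealMod D hD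
  have hM' : ∀ i, PicF.IsInvertible ((Fin.snoc M (ClSub.idealMod D) : Fin (r + 1) → X.Modules) i) := fun i =>
    Fin.lastCases (motive := fun i => PicF.IsInvertible ((Fin.snoc M (ClSub.idealMod D) : Fin (r + 1) → X.Modules) i))
      (by rw [Fin.snoc_last]; exact hI) (fun i => by rw [Fin.snoc_castSucc]; exact hM i) i
  rw [EulerLib.intNum_eq k _ hM' hF hd,
    EulerLib.intNum_eq k M hM (VarietyLib.isCoh_tensor' hF (CurveRR24.isCoh_quotMod D)) hd]
  have hc : (fun i => EulerLib.InvCl.mk ((Fin.snoc M (ClSub.idealMod D) : Fin (r + 1) → X.Modules) i) (hM' i)) =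
      (Fin.snoc (fun i => EulerLib.InvCl.mk (M i) (hM i)) (EulerLib.InvCl.mk (ClSub.idealMod D) hI) :
        Fin (r + 1) → EulerLib.InvCl X) := by
    funext i
    induction i using Fin.lastCases with
    | last =>
      refine (EulerLib.InvCl.mk_eq _ hI (eqToIso (Fin.snoc_last _ _))).trans ?_
      rw [Fin.snoc_last]
    | cast i =>
      refine (EulerLib.InvCl.mk_eq _ (hM i) (eqToIso (Fin.snoc_castSucc (α := fun _ => X.Modules) _ _ i))).trans ?_
      rw [Fin.snoc_castSucc]
  rw [hc, DivCut8.altSum_snoc]
  exact congrArg (EulerLib.altSum _) (funext fun x => DivCut8.chiCl_cut k hF hD hass x)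

end Groth.Agent.S14522
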