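import Groth.Statements.S14523
import Groth.Agent.RatExtLib.DimOne
import Mathlib

set_option autoImplicit false
universe u
open CategoryTheory CategoryTheory.Limits AlgebraicGeometry
open Variety
set_option backward.isDefEq.respectTransparency.types false

namespace Groth.Agent.S14523

theorem valuationRing_of_normal (O : Type u) [CommRing O] [IsDomain O] [IsNoetherianRing O] [IsLocalRing O]
    [IsIntegrallyClosed O] (h : ringKrullDim O ≤ 1) : ValuationRing O := by
  have e : (IsIntegrallyClosed O ∧ ∀ P : Ideal O, P ≠ ⊥ → P.IsPrime → P = IsLocalRing.maximalIdeal O) ↔ ValuationRing O :=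
    (tfae_of_isNoetherianRing_of_isLocalRing_of_isDomain O).out 3 1
  refine e.mp ⟨inferInstance, fun P hP0 hP => ?_⟩
  by_contra hne
  have h1 : P < IsLocalRing.maximalIdeal O := lt_of_le_of_ne (IsLocalRing.le_maximalIdeal hP.ne_top) hne
  haveI := hP
  have h2 := Ideal.height_strict_mono_of_isPrime_of_isPrime (bot_lt_iff_ne_bot.2 hP0 : (⊥ : Ideal O) < P)
  have h3 := Ideal.height_strict_mono_of_isPrime_of_isPrime h1
  have h4 : ((IsLocalRing.maximalIdeal O).height : WithBot ℕ∞) ≤ 1 := by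
    rw [IsLocalRing.maximalIdeal_height_eq_ringKrullDim]; exact h
  have h5 : (IsLocalRing.maximalIdeal O).height ≤ 1 := WithBot.coe_le_coe.mp h4
  have h6 : (1 : ℕ∞) ≤ P.height := Order.one_le_iff_pos.mpr ((bot_le : (0 : ℕ∞) ≤ _).trans_lt h2)
  exact absurd (h3.trans_le h5) (not_lt.2 h6)


/-- Let k be an algebraically closed field and f : X → Y a proper, birational morphism over k of
irreducible varieties (X, Y integral, separated and of finite type over k; f restricts to an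
isomorphism over some nonempty open subset of Y), with Y normal (all local rings integrally closed).
Let U ⊆ Y be the largest open subset over which f is an isomorphism (the domain of f^{-1}). Then
codim_Y(Y ∖ U) ≥ 2: for every point y of Y whose local ring has Krull dimension at most one, f
restricts to an isomorphism over some open neighbourhood of y. -/
theorem result (k : Type u) [Field k] [IsAlgClosed k]
    (X Y : Scheme.{u}) [X.Over (Spec (CommRingCat.of k))] [Y.Over (Spec (CommRingCat.of k))]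
    [IsIntegral X] [IsSeparated (X ↘ (Spec (CommRingCat.of k)))] [LocallyOfFiniteType (X ↘ (Spec (CommRingCat.of k)))] [QuasiCompact (X ↘ (Spec (CommRingCat.of k)))]
    [IsIntegral Y] [IsSeparated (Y ↘ (Spec (CommRingCat.of k)))] [LocallyOfFiniteType (Y ↘ (Spec (CommRingCat.of k)))] [QuasiCompact (Y ↘ (Spec (CommRingCat.of k)))] (hY : ∀ y : Y, IsIntegrallyClosed (Y.presheaf.stalk y))
    (f : X ⟶ Y) (hf : f ≫ (Y ↘ (Spec (CommRingCat.of k))) = (X ↘ (Spec (CommRingCat.of k)))) [IsProper f]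
    (hbir : ∃ V : Y.Opens, (V : Set Y).Nonempty ∧ IsIso (f ∣_ V))
    (y : Y) (hy : ringKrullDim (Y.presheaf.stalk y) ≤ 1) :
    ∃ V : Y.Opens, y ∈ V ∧ IsIso (f ∣_ V) := by
  let qY := Y ↘ (Spec (CommRingCat.of k))
  haveI : IsLocallyNoetherian Y := LocallyOfFiniteType.isLocallyNoetherian qY
  haveI := hY y
  haveI := valuationRing_of_normal (Y.presheaf.stalk y) hy
  obtain ⟨V, hVne, hV⟩ := hbir
  haveI := hV
  let s : (V : Scheme.{u}) ⟶ X := inv (f ∣_ V) ≫ (f ⁻¹ᵁ V).ι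
  have hs : s ≫ f = V.ι := by
    rw [Category.assoc, ← morphismRestrict_ι, IsIso.inv_hom_id_assoc]
  have hVd : Dense (V : Set Y) := V.2.dense hVne
  obtain ⟨W, hyW, g, hg, hag⟩ := Groth.Agent.RatExtLib.exists_local_extension f f.isClosedMap V hVd s hs y
  refine ⟨W, hyW, ?_⟩
  let g' : (W : Scheme.{u}) ⟶ (f ⁻¹ᵁ W : X.Opens) := IsOpenImmersion.lift (f ⁻¹ᵁ W).ι g (by
    rw [Scheme.Opens.range_ι]
    rintro _ ⟨w, rfl⟩
    show f (g w) ∈ W
    rw [← Scheme.Hom.comp_apply, hg]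
    exact w.2)
  have hg' : g' ≫ (f ⁻¹ᵁ W).ι = g := IsOpenImmersion.lift_fac _ _ _
  have h1 : g' ≫ (f ∣_ W) = 𝟙 _ := by
    rw [← cancel_mono W.ι, Category.assoc, morphismRestrict_ι, reassoc_of% hg', hg, Category.id_comp]
  have h2 : (f ∣_ W) ≫ g' = 𝟙 _ := by
    rw [← cancel_mono (f ⁻¹ᵁ W).ι, Category.assoc, hg', Category.id_comp]
    haveI : IsReduced (f ⁻¹ᵁ W : X.Opens).toScheme := isReduced_of_isOpenImmersion (f ⁻¹ᵁ W).ι
    let T : (f ⁻¹ᵁ W : X.Opens).toScheme.Opens := (f ⁻¹ᵁ W).ι ⁻¹ᵁ (f ⁻¹ᵁ V)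
    have hXV : ((f ⁻¹ᵁ V : X.Opens) : Set X).Nonempty := by
      obtain ⟨v, hv⟩ := hVne
      obtain ⟨w, -⟩ : ∃ w, (f ∣_ V) w = ⟨v, hv⟩ := (f ∣_ V).surjective _
      exact ⟨w.1, w.2⟩
    have hT : Dense (T : Set (f ⁻¹ᵁ W : X.Opens).toScheme) :=
      ((f ⁻¹ᵁ V).2.dense hXV).preimage (f ⁻¹ᵁ W).ι.isOpenEmbedding.isOpenMap
    refine Groth.Agent.NeronLib.ext_of_dense f _ _ ?_ T hT ?_
    · rw [Category.assoc, hg, morphismRestrict_ι]
    · let b : T.toScheme ⟶ (f ⁻¹ᵁ V : X.Opens).toScheme := (f ⁻¹ᵁ W).ι ∣_ (f ⁻¹ᵁ V)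
      have hb : b ≫ (f ⁻¹ᵁ V).ι = T.ι ≫ (f ⁻¹ᵁ W).ι := morphismRestrict_ι _ _
      rw [← Category.assoc T.ι (f ∣_ W) g, hag T.toScheme (T.ι ≫ (f ∣_ W)) (b ≫ (f ∣_ V)) (by
        rw [Category.assoc, Category.assoc, morphismRestrict_ι, morphismRestrict_ι, ← Category.assoc, ← hb,
          Category.assoc])]
      simp only [s, Category.assoc, IsIso.hom_inv_id_assoc]
      exact hb
  exact ⟨⟨g', h2, h1⟩⟩

end Groth.Agent.S14523
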