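import Groth.Statements.S14535
import Groth.Agent.FlatMor12.Coboundary
import Groth.Agent.FlatMor12.TorsorPush
import Groth.Agent.HopfQuot.SchemeQuot
-- import your own Groth.Agent.* helpers here

set_option autoImplicit false
set_option backward.isDefEq.respectTransparency false
set_option backward.isDefEq.respectTransparency.types false
universe u
open CategoryTheory MonoidalCategory CartesianMonoidalCategory MonObj GrpObj AlgebraicGeometry
open PrincBund

namespace Groth.Agent.S14535


noncomputable section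
open CategoryTheory Limits AlgebraicGeometry MonoidalCategory CartesianMonoidalCategory MonObj

/-- affine test object -/
abbrev tst (k R : Type u) [Field k] [CommRing R] [Algebra k R] : Over (Spec (CommRingCat.of k)) :=
  (Spec (CommRingCat.of R)).asOver (Spec (CommRingCat.of k))

/-- map of test objects -/
def tstMap {k R R' : Type u} [Field k] [CommRing R] [Algebra k R] [CommRing R'] [Algebra k R'] (φ : R →ₐ[k] R') :
    tst k R' ⟶ tst k R :=
  Over.homMk (Spec.map (CommRingCat.ofHom φ.toRingHom)) (by
    show Spec.map _ ≫ Spec.map _ = Spec.map _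
    rw [← Spec.map_comp, ← CommRingCat.ofHom_comp]
    exact congrArg (fun t => Spec.map (CommRingCat.ofHom t)) φ.comp_algebraMap)

theorem tstMap_comp {k R R' R'' : Type u} [Field k] [CommRing R] [Algebra k R] [CommRing R'] [Algebra k R']
    [CommRing R''] [Algebra k R''] (φ : R →ₐ[k] R') (ψ : R' →ₐ[k] R'') :
    tstMap ψ ≫ tstMap φ = tstMap (ψ.comp φ) := by
  ext1
  show Spec.map _ ≫ Spec.map _ = Spec.map _
  rw [← Spec.map_comp]
  rfl

theorem ptSpec_push {k R R' A : Type u} [Field k] [CommRing A] [HopfAlgebra k A] [CommRing R] [Algebra k R]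
    [CommRing R'] [Algebra k R'] (φ : R →ₐ[k] R') (g : Groth.Agent.HopfQuot.Pt k A R) :
    Groth.Agent.HopfQuot.ptSpec (Groth.Agent.HopfQuot.push φ g) = tstMap φ ≫ Groth.Agent.HopfQuot.ptSpec g := by
  ext1
  show Spec.map _ = Spec.map _ ≫ Spec.map _
  rw [← Spec.map_comp]
  rfl

/-- descent of a point along a field extension -/
theorem exists_descend {k K : Type u} [Field k] [Field K] [Algebra k K] {P : Over (Spec (CommRingCat.of k))}
    (q : tst k K ⟶ P)
    (h : tstMap (Algebra.TensorProduct.includeLeft : K →ₐ[k] TensorProduct k K K) ≫ q =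
      tstMap (Algebra.TensorProduct.includeRight : K →ₐ[k] TensorProduct k K K) ≫ q) :
    Nonempty (𝟙_ (Over (Spec (CommRingCat.of k))) ⟶ P) := by
  let π : Spec (CommRingCat.of K) ⟶ Spec (CommRingCat.of k) := Spec.map (CommRingCat.ofHom (algebraMap k K))
  haveI : Flat π := (HasRingHomProperty.Spec_iff (P := @Flat)).2 (RingHom.flat_algebraMap_iff.2 inferInstance)
  haveI : Surjective π := ⟨fun x => ⟨(⊥ : PrimeSpectrum K), Subsingleton.elim (α := PrimeSpectrum k) _ _⟩⟩
  have h' := congrArg (fun t => t.left) h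
  have hk : pullback.fst π π ≫ q.left = pullback.snd π π ≫ q.left := by
    rw [← cancel_epi (pullbackSpecIso k K K).inv, ← Category.assoc, ← Category.assoc, pullbackSpecIso_inv_fst,
      pullbackSpecIso_inv_snd]
    exact h'
  have hdesc : ∀ {Z : Scheme.{u}} (g₁ g₂ : Z ⟶ Spec (CommRingCat.of K)), g₁ ≫ π = g₂ ≫ π →
      g₁ ≫ q.left = g₂ ≫ q.left := fun g₁ g₂ hg => by
    refine (congrArg (· ≫ q.left) (pullback.lift_fst g₁ g₂ hg)).symm.trans ((Category.assoc _ _ _).trans ?_)
    exact ((congrArg (pullback.lift g₁ g₂ hg ≫ ·) hk).trans (Category.assoc _ _ _).symm).trans (congrArg (· ≫ q.left) (pullback.lift_snd g₁ g₂ hg))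
  refine ⟨Over.homMk (EffectiveEpi.desc π q.left hdesc) ?_⟩
  show EffectiveEpi.desc π q.left hdesc ≫ P.hom = 𝟙 _
  rw [← cancel_epi π, ← Category.assoc, EffectiveEpi.fac, Category.comp_id]
  exact Over.w q

/-- a point over an algebraically closed extension -/
theorem exists_point {k : Type u} [Field k] (P : Over (Spec (CommRingCat.of k))) (hs : Surjective P.hom) :
    ∃ (K : Type u) (_ : Field K) (_ : Algebra k K) (_ : IsAlgClosed K), Nonempty (tst k K ⟶ P) := by
  obtain ⟨v, -⟩ := hs.surj (IsLocalRing.closedPoint k)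
  let K := AlgebraicClosure (P.left.residueField v)
  let θ : Spec (CommRingCat.of K) ⟶ P.left :=
    Spec.map (CommRingCat.ofHom (algebraMap (P.left.residueField v) K)) ≫ P.left.fromSpecResidueField v
  letI : Algebra k K := (Spec.preimage (θ ≫ P.hom)).hom.toAlgebra
  exact ⟨K, inferInstance, inferInstance, inferInstance, ⟨Over.homMk θ (Spec.map_preimage (θ ≫ P.hom)).symm⟩⟩

end

end Groth.Agent.S14535

namespace Groth.Agent.S14535

/-- Let k be an algebraically closed field and G an affine group scheme over k, not necessarily of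
finite type. Then every principal G-bundle over Spec k, that is every k-scheme with a G-action which
is a pseudo-torsor and acquires sections on the members of some fpqc covering family of Spec k, is
trivial: it has a k-point. -/
theorem result (k : Type u) [Field k] [IsAlgClosed k]
    (G : Over (Spec (CommRingCat.of k))) [GrpObj G] [IsAffine G.left]
    (P : Over (Spec (CommRingCat.of k))) (a : AlgGrp.Action G P)
    (hP : NonAbH1.IsTorsorFor Scheme.fpqcPrecoverage a) :
    Nonempty (𝟙_ (Over (Spec (CommRingCat.of k))) ⟶ P) := by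
  classical
  have hsurj := NonAbLib.surjective_hom a hP
  obtain ⟨hps, hloc⟩ := hP
  obtain ⟨A, _, _, e, _, _⟩ := Groth.Agent.HopfQuot.exists_spec G
  obtain ⟨K, hK, hKk, hKc, ⟨p⟩⟩ : ∃ (K : Type u) (_ : Field K) (_ : Algebra k K) (_ : IsAlgClosed K),
      Nonempty (tst k K ⟶ P) := exists_point P hsurj
  have ha := hps
  open Groth.Agent.FlatMor12.TorsorPush Groth.Agent.FlatMor12.Coboundary Groth.Agent.HopfQuot NonAbLib in
  let j₁ := tstMap (i₁ (k := k) (K := K))
  let j₂ := tstMap (i₂ (k := k) (K := K))
  let d : tst k (TensorProduct k K K) ⟶ G := Groth.Agent.FlatMor12.TorsorPush.dv ha (j₁ ≫ p) (j₂ ≫ p)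
  haveI : IsMonHom (inv e) := by
    constructor
    · rw [← cancel_mono e, Category.assoc, IsIso.inv_hom_id, Category.comp_id, IsMonHom.one_hom]
    · rw [← cancel_mono e, Category.assoc, IsIso.inv_hom_id, Category.comp_id, Category.assoc,
        IsMonHom.mul_hom, ← Category.assoc, MonoidalCategory.tensorHom_comp_tensorHom,
        IsIso.inv_hom_id, MonoidalCategory.id_tensorHom_id, Category.id_comp]
  let c : Groth.Agent.HopfQuot.Pt k A (TensorProduct k K K) := Groth.Agent.HopfQuot.ptSpec.symm (d ≫ inv e)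
  have hc : Groth.Agent.FlatMor12.Coboundary.IsCocycle c := by
    apply Groth.Agent.HopfQuot.ptSpec.injective
    simp only [map_mul, ptSpec_push, c, MulEquiv.apply_symm_apply]
    rw [← Category.assoc, ← Category.assoc, ← Category.assoc, ← MonObj.mul_comp]
    congr 1
    simp only [d, Groth.Agent.FlatMor12.TorsorPush.comp_dv, ← Category.assoc, j₁, j₂, tstMap_comp]
    rw [show (i₁₃ (k := k) (K := K)).comp i₂ = (i₂₃ (k := k) (K := K)).comp i₂ from AlgHom.ext fun x => by simp,
      show (i₁₃ (k := k) (K := K)).comp i₁ = (i₁₂ (k := k) (K := K)).comp i₁ from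
        AlgHom.ext fun x => by simp [Algebra.TensorProduct.one_def],
      show (i₁₂ (k := k) (K := K)).comp i₂ = (i₂₃ (k := k) (K := K)).comp i₁ from AlgHom.ext fun x => by simp]
    exact Groth.Agent.FlatMor12.TorsorPush.dv_trans ha _ _ _
  obtain ⟨g, hg⟩ := Groth.Agent.FlatMor12.Coboundary.exists_twist_eq_one hc
  let g' : tst k K ⟶ G := Groth.Agent.HopfQuot.ptSpec g ≫ e
  have hgd : (j₂ ≫ g') * d = j₁ ≫ g' := by
    have h := congrArg Groth.Agent.HopfQuot.ptSpec hg
    rw [Groth.Agent.FlatMor12.Coboundary.twist, map_mul, map_mul, map_inv, map_one, mul_inv_eq_one, ptSpec_push,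
      ptSpec_push, MulEquiv.apply_symm_apply] at h
    have h' := congrArg (· ≫ e) h
    simp only [MonObj.mul_comp, Category.assoc, IsIso.inv_hom_id, Category.comp_id] at h'
    exact h'
  refine exists_descend (NonAbLib.actPt a g' p) ?_
  show j₁ ≫ _ = j₂ ≫ _
  rw [NonAbLib.comp_actPt, NonAbLib.comp_actPt, ← hgd, NonAbLib.actPt_mul, Groth.Agent.FlatMor12.TorsorPush.actPt_dv]

end Groth.Agent.S14535
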