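import Groth.Statements.S14536
import Groth.Agent.CommAlg4.HopfPoints
import Groth.Agent.HopfQuot.SchemeQuot
-- import your own Groth.Agent.* helpers here

set_option autoImplicit false
universe u
open CategoryTheory MonoidalCategory CartesianMonoidalCategory MonObj GrpObj AlgebraicGeometry
open PrincBund

namespace Groth.Agent.S14536

/-- Let k be an algebraically closed field and h : G → G' a homomorphism of affine group schemes over k
(not necessarily of finite type) which is surjective on underlying spaces. Then h is surjective on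
k-points: every k-point of G' is the image of a k-point of G. -/
theorem result (k : Type u) [Field k] [IsAlgClosed k]
    (G G' : Over (Spec (CommRingCat.of k))) [GrpObj G] [GrpObj G'] [IsAffine G.left] [IsAffine G'.left]
    (h : G ⟶ G') [IsMonHom h] (hs : Surjective h.left) (x : 𝟙_ (Over (Spec (CommRingCat.of k))) ⟶ G') :
    ∃ g : 𝟙_ (Over (Spec (CommRingCat.of k))) ⟶ G, g ≫ h = x := by
  obtain ⟨A, _, _, e, _, _⟩ := Groth.Agent.HopfQuot.exists_spec G
  obtain ⟨B, _, _, e', _, _⟩ := Groth.Agent.HopfQuot.exists_spec G'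
  haveI : IsIso e.left := inferInstanceAs (IsIso ((Over.forget _).map e))
  haveI : IsIso (inv e').left := inferInstanceAs (IsIso ((Over.forget _).map (inv e')))
  haveI : IsMonHom (inv e') := by
    constructor
    · rw [← cancel_mono e', Category.assoc, IsIso.inv_hom_id, Category.comp_id, IsMonHom.one_hom]
    · rw [← cancel_mono e', Category.assoc, IsIso.inv_hom_id, Category.comp_id, Category.assoc,
        IsMonHom.mul_hom, ← Category.assoc, MonoidalCategory.tensorHom_comp_tensorHom,
        IsIso.inv_hom_id, MonoidalCategory.id_tensorHom_id, Category.id_comp]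
  obtain ⟨f, hf⟩ := Groth.Agent.HopfQuot.exists_specHom (e ≫ h ≫ inv e')
  let u : 𝟙_ (Over (Spec (CommRingCat.of k))) ⟶
      (Spec (CommRingCat.of k)).asOver (Spec (CommRingCat.of k)) :=
    Over.homMk (𝟙 (Spec (CommRingCat.of k))) (by
      show 𝟙 _ ≫ Spec.map (CommRingCat.ofHom (algebraMap k k)) = 𝟙 _
      rw [show CommRingCat.ofHom (algebraMap k k) = 𝟙 _ from rfl, Spec.map_id, Category.comp_id])
  let v : (Spec (CommRingCat.of k)).asOver (Spec (CommRingCat.of k)) ⟶
      𝟙_ (Over (Spec (CommRingCat.of k))) := toUnit _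
  have huv : u ≫ v = 𝟙 _ := toUnit_unique _ _
  have hsurj : Function.Surjective (PrimeSpectrum.comap (f : B →ₐ[k] A).toRingHom) := by
    have : Surjective (Groth.Agent.HopfQuot.specHom f).left := by
      rw [hf, Over.comp_left, Over.comp_left]
      infer_instance
    exact this.surj
  obtain ⟨φ, hφ⟩ := Groth.Agent.CommAlg4.HopfPoints.exists_point_lift f hsurj
    ((Groth.Agent.HopfQuot.ptSpec (k := k) (A := B) (T := k)).symm (v ≫ x ≫ inv e')).ofConv
  refine ⟨u ≫ Groth.Agent.HopfQuot.ptSpec (k := k) (A := A) (T := k) (WithConv.toConv φ) ≫ e, ?_⟩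
  have h1 := Groth.Agent.HopfQuot.ptSpec_comp f (WithConv.toConv φ)
  rw [WithConv.ofConv_toConv, hφ, WithConv.toConv_ofConv, MulEquiv.apply_symm_apply, hf] at h1
  rw [← cancel_mono (inv e')]
  simp only [Category.assoc]
  rw [h1, ← Category.assoc u v, huv, Category.id_comp]

end Groth.Agent.S14536
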