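import Groth.Statements.S14537
import Groth.Agent.CommAlg4.HopfPoints
import Groth.Agent.HopfQuot.SchemeQuot
-- import your own Groth.Agent.* helpers here

set_option autoImplicit false
universe u
open CategoryTheory MonoidalCategory CartesianMonoidalCategory MonObj GrpObj AlgebraicGeometry
open PrincBund

namespace Groth.Agent.S14537

/-- Let k be an algebraically closed field and G an affine group scheme over k, not necessarily of
finite type. Then the set of k-rational points of G is dense in the underlying space of G. -/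
theorem result (k : Type u) [Field k] [IsAlgClosed k]
    (G : Over (Spec (CommRingCat.of k))) [GrpObj G] [IsAffine G.left] :
    Dense {x : ↥G.left | ∃ g : 𝟙_ (Over (Spec (CommRingCat.of k))) ⟶ G, g.left.base (IsLocalRing.closedPoint k) = x} := by
  obtain ⟨A, _, _, e, _, _⟩ := Groth.Agent.HopfQuot.exists_spec G
  let u : 𝟙_ (Over (Spec (CommRingCat.of k))) ⟶
      (Spec (CommRingCat.of k)).asOver (Spec (CommRingCat.of k)) :=
    Over.homMk (𝟙 (Spec (CommRingCat.of k))) (by
      show 𝟙 _ ≫ Spec.map (CommRingCat.ofHom (algebraMap k k)) = 𝟙 _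
      rw [show CommRingCat.ofHom (algebraMap k k) = 𝟙 _ from rfl, Spec.map_id, Category.comp_id])
  haveI : IsIso e.left := inferInstanceAs (IsIso ((Over.forget _).map e))
  rw [dense_iff_inter_open]
  rintro U hU ⟨x, hx⟩
  have hsurj : Function.Surjective e.left.base := (Scheme.homeoOfIso (asIso e.left)).surjective
  obtain ⟨y, rfl⟩ := hsurj x
  obtain ⟨_, ⟨a, rfl⟩, hya, hsub⟩ := PrimeSpectrum.isTopologicalBasis_basic_opens.exists_subset_of_mem_open
    (show (y : PrimeSpectrum A) ∈ e.left.base ⁻¹' U from hx) (hU.preimage e.left.continuous)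
  obtain ⟨φ, hφ⟩ := Groth.Agent.CommAlg4.HopfPoints.exists_point_ne_zero (k := k) (a := a) (fun hn =>
    by obtain ⟨n, hn⟩ := hn; exact hya ((PrimeSpectrum.isPrime (y : PrimeSpectrum A)).mem_of_pow_mem n (by rw [hn]; exact Ideal.zero_mem _)))
  let g := u ≫ Groth.Agent.HopfQuot.ptSpec (k := k) (A := A) (T := k) (WithConv.toConv φ) ≫ e
  refine ⟨g.left.base (IsLocalRing.closedPoint k), ?_, g, rfl⟩
  let z : PrimeSpectrum A := PrimeSpectrum.comap φ.toRingHom (IsLocalRing.closedPoint k)
  have hgz : g.left.base (IsLocalRing.closedPoint k) = e.left.base z := rfl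
  rw [hgz]
  exact hsub (fun hz => by
    have : φ a ∈ IsLocalRing.maximalIdeal k := hz
    rw [IsLocalRing.maximalIdeal_eq_bot] at this
    exact hφ this)

end Groth.Agent.S14537
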