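import Groth.Statements.S14539
import Groth.Agent.CommAlg4.HopfPoints
import Groth.Agent.HopfLib.PseudoRefl
-- import your own Groth.Agent.* helpers here

set_option autoImplicit false
universe u v w
open TensorProduct
open PrincBund

namespace Groth.Agent.S14539

/-- Let k be an algebraically closed field of characteristic 0, A a commutative Hopf algebra over k (the
coordinate ring of an affine group scheme G over k, not necessarily of finite type) and V a right
A-comodule, of any dimension. If a k-subspace W of V is mapped into itself by the action of every
k-rational point of G (every k-algebra homomorphism A → k, acting on V through the coaction), then W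
is a subcomodule of V. -/
theorem result (k : Type u) (A : Type v) [Field k] [IsAlgClosed k]
    [CharZero k] [CommRing A] [HopfAlgebra k A]
    (V : Type w) [AddCommGroup V] [Module k V] [HopfRep.Comod k A V] (W : Submodule k V)
    (hW : ∀ g : A →ₐ[k] k, W.map (HopfRep.Comod.act k A V g) ≤ W) :
    HopfRep.IsSubcomod (k := k) (A := A) W := by
  rw [Groth.Agent.HopfLib.isSubcomod_iff_hit]
  intro φ w hw
  by_contra hne
  obtain ⟨f, hf, hfW⟩ := Submodule.exists_dual_map_eq_bot_of_notMem hne inferInstance
  apply hf
  have hzero : Groth.Agent.HopfLib.cf (A := A) f w = 0 := by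
    apply Groth.Agent.CommAlg4.HopfPoints.eq_zero_of_forall_point (k := k)
    intro g
    change g.toLinearMap (Groth.Agent.HopfLib.cf (A := A) f w) = 0
    rw [Groth.Agent.HopfLib.apply_cf]
    have hmem : Groth.Agent.HopfLib.hit g.toLinearMap w ∈ W := hW g ⟨w, hw, rfl⟩
    have : f (Groth.Agent.HopfLib.hit g.toLinearMap w) ∈ W.map f := Submodule.mem_map_of_mem hmem
    rw [hfW] at this
    exact (Submodule.mem_bot k).1 this
  rw [← Groth.Agent.HopfLib.apply_cf, hzero, map_zero]

end Groth.Agent.S14539
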