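import Groth.Statements.S14541
import Groth.Agent.FlatMor12.TorsorPush
-- import your own Groth.Agent.* helpers here

set_option autoImplicit false
set_option backward.isDefEq.respectTransparency false
set_option backward.isDefEq.respectTransparency.types false
universe u
open CategoryTheory MonoidalCategory CartesianMonoidalCategory MonObj GrpObj AlgebraicGeometry
open PrincBund

namespace Groth.Agent.S14541

/-- Let X be a scheme, J, J' and J'' group schemes affine over X, with no flatness or finiteness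
condition, u : J → J' and v : J' → J'' homomorphisms, P a J-torsor, P' a J'-torsor and P'' a
J''-torsor, all for the fpqc topology, q' : P → P' an X-morphism compatible with u and q'' : P → P''
an X-morphism compatible with the composite homomorphism J → J' → J''. Then there is exactly one
X-morphism r : P' → P'' compatible with v whose composite with q' is q''. Taking v to be the
identity, the push forward of a torsor along u is unique up to unique isomorphism. -/
theorem result {X : Scheme.{u}}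
    {J J' J'' : Over X} [GrpObj J] [GrpObj J'] [GrpObj J''] [IsAffineHom J.hom] [IsAffineHom J'.hom]
    [IsAffineHom J''.hom] (u : J ⟶ J') [IsMonHom u] (v : J' ⟶ J'') [IsMonHom v] {P P' P'' : Over X}
    (a : AlgGrp.Action J P) (a' : AlgGrp.Action J' P') (a'' : AlgGrp.Action J'' P'')
    (hP : NonAbH1.IsTorsorFor Scheme.fpqcPrecoverage a)
    (hP' : NonAbH1.IsTorsorFor Scheme.fpqcPrecoverage a')
    (hP'' : NonAbH1.IsTorsorFor Scheme.fpqcPrecoverage a'')
    (q' : P ⟶ P') (hq' : a.act ≫ q' = lift (fst J P ≫ u) (snd J P ≫ q') ≫ a'.act)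
    (q'' : P ⟶ P'') (hq'' : a.act ≫ q'' = lift (fst J P ≫ u ≫ v) (snd J P ≫ q'') ≫ a''.act) :
    ∃! r : P' ⟶ P'', a'.act ≫ r = lift (fst J' P' ≫ v) (snd J' P' ≫ r) ≫ a''.act ∧ q' ≫ r = q'' := by
  open NonAbLib Groth.Agent.FlatMor12.TorsorPush in
  obtain ⟨hps, R, hR, hsec⟩ := hP
  obtain ⟨I, V, f, rfl⟩ := R.exists_eq_ofArrows
  choose s hs using fun i => hsec (f i) ⟨i⟩
  let s' : ∀ i, Over.mk (f i) ⟶ P := fun i => Over.homMk (s i) (hs i)
  have hps' := hP'.1
  let Φ : ∀ {T : Over X} (i : I), (T ⟶ Over.mk (f i)) → (T ⟶ P') → (T ⟶ P'') := fun {T} i x y =>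
    actPt a'' (dv hps' (x ≫ s' i ≫ q') y ≫ v) (x ≫ s' i ≫ q'')
  have nat : ∀ {T T' : Over X} (k : T' ⟶ T) (i : I) (x : T ⟶ Over.mk (f i)) (y : T ⟶ P'),
      k ≫ Φ i x y = Φ i (k ≫ x) (k ≫ y) := by
    intro T T' k i x y
    simp only [Φ]
    rw [comp_actPt, ← Category.assoc k (dv _ _ _), comp_dv]
    simp only [Category.assoc]
  have key : ∀ {T : Over X} (g : T ⟶ J) (p : T ⟶ P) (y : T ⟶ P'),
      actPt a'' (dv hps' (actPt a g p ≫ q') y ≫ v) (actPt a g p ≫ q'') =
        actPt a'' (dv hps' (p ≫ q') y ≫ v) (p ≫ q'') := by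
    intro T g p y
    rw [actPt_equivariant u q' hq', actPt_equivariant (u ≫ v) q'' hq'', ← actPt_mul]
    have e : dv hps' (p ≫ q') y = dv hps' (actPt a' (g ≫ u) (p ≫ q')) y * (g ≫ u) := by
      rw [dv_trans hps' (p ≫ q') (actPt a' (g ≫ u) (p ≫ q')) y, dv_unique hps' (x := p ≫ q') rfl]
    rw [e, MonObj.mul_comp, Category.assoc]
  have indep : ∀ {T : Over X} (i j : I) (x : T ⟶ Over.mk (f i)) (x' : T ⟶ Over.mk (f j)) (y : T ⟶ P'),
      Φ i x y = Φ j x' y := by
    intro T i j x x' y
    have e := key (dv hps (x ≫ s' i) (x' ≫ s' j)) (x ≫ s' i) y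
    rw [actPt_dv] at e
    simpa only [Φ, Category.assoc] using e.symm
  obtain ⟨r, hr⟩ := exists_glue hR Φ nat indep
  refine ⟨r, ⟨?_, ?_⟩, ?_⟩
  · refine ext_local hR fun T i x z => ?_
    rw [← Category.assoc, hr T i x]
    have e : z ≫ lift (fst J' P' ≫ v) (snd J' P' ≫ r) ≫ a''.act =
        actPt a'' ((z ≫ fst J' P') ≫ v) (Φ i x (z ≫ snd J' P')) := by
      rw [← Category.assoc, comp_lift, ← Category.assoc, ← Category.assoc, hr T i x]
      rfl
    rw [e]
    have e2 : z ≫ a'.act = actPt a' (z ≫ fst J' P') (z ≫ snd J' P') := by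
      rw [actPt, ← comp_lift, lift_fst_snd, Category.comp_id]
    simp only [Φ]
    rw [e2, dv_actPt, MonObj.mul_comp, actPt_mul]
  · refine ext_local hR fun T i x p => ?_
    rw [← Category.assoc, hr T i x]
    simp only [Φ]
    have h := actPt_dv hps (x ≫ s' i) p
    conv_rhs => rw [← h, actPt_equivariant (u ≫ v) q'' hq'']
    rw [dv_unique hps' (g := dv hps (x ≫ s' i) p ≫ u)
      (by rw [← Category.assoc x (s' i) q', ← actPt_equivariant u q' hq', h])]
    simp only [Category.assoc]
  · rintro r' ⟨h1, h2⟩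
    refine ext_local hR fun T i x y => ?_
    rw [hr T i x]
    simp only [Φ]
    have h := actPt_dv hps' (x ≫ s' i ≫ q') y
    conv_lhs => rw [← h, actPt_equivariant v r' h1, Category.assoc, Category.assoc, h2]


end Groth.Agent.S14541
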