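import Groth.Statements.S14545
import Groth.Agent.RedQuotLib.Criterion
import Groth.Agent.AlgGrpLib.HomFlatRed
import Groth.Agent.AlgSpLib.EtaleAscend
import Groth.Agent.Et18.Descent
import Groth.Agent.S0353

set_option autoImplicit false
set_option linter.style.haveILetI false
set_option backward.isDefEq.respectTransparency false
universe u
open CategoryTheory MonoidalCategory CartesianMonoidalCategory MonObj GrpObj AlgebraicGeometry
open PrincBund

namespace Groth.Agent.S14545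

/-- Let k be a field of characteristic 0 and G an affine group scheme of finite type over k; let G' be a
closed subgroup of G and G₀ a closed normal subgroup of G with quotient q₁ : G → G₁ (so G₁ = G/G₀),
let G₀' = G₀ ∩ G' and let G₁' be the image of G' in G₁, a closed subgroup of G₁ through which G' →
G₁ factors by a surjective morphism. Suppose that the quotients G₀/G₀' and G₁/G₁' (fppf quotient
sheaves represented by schemes) are affine. Then every scheme Q representing the quotient G/G' is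
affine. -/
theorem result (k : Type u) [Field k] [CharZero k]
    (G : Over (Spec (CommRingCat.of k))) [GrpObj G] [IsAffine G.left] [LocallyOfFiniteType G.hom]
    (G' : Over (Spec (CommRingCat.of k))) [GrpObj G'] (i' : G' ⟶ G) [IsMonHom i'] (hi' : IsClosedImmersion i'.left)
    (G₀ : Over (Spec (CommRingCat.of k))) [GrpObj G₀] (i₀ : G₀ ⟶ G) [IsMonHom i₀] (hi₀ : IsClosedImmersion i₀.left)
    (hn : AlgGrp.IsNormalHom i₀)
    (G₁ : Over (Spec (CommRingCat.of k))) [GrpObj G₁] (q₁ : G ⟶ G₁) [IsMonHom q₁] (hq₁ : RedSub.IsQuotient i₀ q₁)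
    (G₀' : Over (Spec (CommRingCat.of k))) [GrpObj G₀'] (j : G₀' ⟶ G₀) [IsMonHom j] (j' : G₀' ⟶ G')
    (hj : IsPullback j j' i₀ i')
    (G₁' : Over (Spec (CommRingCat.of k))) [GrpObj G₁'] (i₁' : G₁' ⟶ G₁) [IsMonHom i₁'] (hi₁' : IsClosedImmersion i₁'.left)
    (p : G' ⟶ G₁') (hp : p ≫ i₁' = i' ≫ q₁) (hps : Surjective p.left)
    (Qa : Over (Spec (CommRingCat.of k))) (qa : G₀ ⟶ Qa) (hqa : RedSub.IsQuotient j qa) (ha : IsAffine Qa.left)
    (Qb : Over (Spec (CommRingCat.of k))) (qb : G₁ ⟶ Qb) (hqb : RedSub.IsQuotient i₁' qb) (hb : IsAffine Qb.left)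
    (Q : Over (Spec (CommRingCat.of k))) (q : G ⟶ Q) (hq : RedSub.IsQuotient i' q) :
    IsAffine Q.left := by
  open Groth.Agent in
  have hjw : j ≫ i₀ = j' ≫ i' := hj.w
  have cq := RedQuotLib.IsFppfCov.of_isQuotient hq
  have cq1 := RedQuotLib.IsFppfCov.of_isQuotient hq₁
  have cqa := RedQuotLib.IsFppfCov.of_isQuotient hqa
  have cqb := RedQuotLib.IsFppfCov.of_isQuotient hqb
  -- the quotient `G' → G₁'` is a covering
  haveI := hi'
  haveI := hi₁'
  haveI hG1 : LocallyOfFiniteType G₁.hom := by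
    haveI := cq1.1; haveI := cq1.2.1; haveI := cq1.2.2
    refine AlgSpLib.lft_of_comp_fppf q₁.left G₁.hom ?_
    rw [Over.w q₁]
    infer_instance
  haveI hG' : LocallyOfFiniteType G'.hom := by rw [← Over.w i']; infer_instance
  haveI hG1' : LocallyOfFiniteType G₁'.hom := by rw [← Over.w i₁']; infer_instance
  haveI : IsMonHom p := by
    haveI : Mono i₁' := by
      haveI : Mono ((Over.forget _).map i₁') := inferInstanceAs (Mono i₁'.left)
      exact (Over.forget _).mono_of_mono_map (f := i₁') this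
    exact { one_hom := by
              rw [← cancel_mono i₁', Category.assoc, hp, IsMonHom.one_hom_assoc, IsMonHom.one_hom, IsMonHom.one_hom]
            mul_hom := by
              rw [← cancel_mono i₁', Category.assoc, hp, Category.assoc, IsMonHom.mul_hom i₁',
                ← Category.assoc (p ⊗ₘ p), MonoidalCategory.tensorHom_comp_tensorHom, hp, ← Category.assoc,
                IsMonHom.mul_hom i', Category.assoc, IsMonHom.mul_hom q₁, ← Category.assoc,
                MonoidalCategory.tensorHom_comp_tensorHom] }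
  haveI : Smooth G₁'.hom := S0353.result k G₁'
  haveI : GeometricallyReduced G₁'.hom := ⟨fun K _ y Y' fst snd sq => by
    haveI : Smooth snd := MorphismProperty.of_isPullback sq inferInstance
    exact AlgSpLib.isReduced_of_smooth' snd⟩
  haveI := hps
  have cp : RedQuotLib.IsFppfCov p := by
    refine ⟨hps, AlgGrpLib.flat_hom_of_surjective p, ?_⟩
    haveI : LocallyOfFinitePresentation (p.left ≫ G₁'.hom) := by rw [Over.w p]; infer_instance
    exact H8Lim.lfp_cancel_right p.left G₁'.hom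
  -- the map to `G₁/G₁'`
  obtain ⟨r, hr⟩ := cq.exists_desc (q₁ ≫ qb) fun {W} a b hab => by
    obtain ⟨h, hb'⟩ := (RedQuotLib.comp_eq_iff hq a b).1 hab
    subst hb'
    rw [← Category.assoc, ← Category.assoc, MonObj.mul_comp, Category.assoc h i' q₁, ← hp, ← Category.assoc h p,
      RedQuotLib.mul_comp_eq hqb]
  -- the map from `G × G₀/G₀'`
  obtain ⟨Φ, hΦ⟩ := (cqa.whiskerLeft G).exists_desc ((G ◁ i₀) ≫ μ[G] ≫ q) fun {W} a b hab => by
    have h1 := congrArg (fun f => f ≫ fst G Qa) hab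
    have h2 := congrArg (fun f => f ≫ snd G Qa) hab
    simp only [Category.assoc, whiskerLeft_fst, whiskerLeft_snd] at h1 h2
    obtain ⟨h, hh⟩ := (RedQuotLib.comp_eq_iff hqa (a ≫ snd G G₀) (b ≫ snd G G₀)).1
      (by rw [Category.assoc, Category.assoc]; exact h2)
    have e : ∀ c : W ⟶ G ⊗ G₀, c ≫ (G ◁ i₀) ≫ μ[G] ≫ q = ((c ≫ fst G G₀) * ((c ≫ snd G G₀) ≫ i₀)) ≫ q :=
      fun c => by rw [← RedQuotLib.act_eq, Category.assoc, Category.assoc]
    rw [e, e, hh, MonObj.mul_comp (a ≫ snd G G₀) (h ≫ j) i₀, ← h1, Category.assoc h j i₀, hjw, ← Category.assoc h j',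
      ← _root_.mul_assoc, RedQuotLib.mul_comp_eq hq]
  have hΦ' : ∀ {W : Over (Spec (CommRingCat.of k))} (g : W ⟶ G) (g₀ : W ⟶ G₀),
      lift g (g₀ ≫ qa) ≫ Φ = (g * (g₀ ≫ i₀)) ≫ q := fun g g₀ => by
    rw [← lift_whiskerLeft, Category.assoc, hΦ, lift_whiskerLeft_assoc, Hom.mul_def, Category.assoc]
  have hkill : ∀ {W : Over (Spec (CommRingCat.of k))} (g₀ : W ⟶ G₀), (g₀ ≫ i₀) ≫ q₁ = 1 := fun {W} g₀ => by
    have h := RedQuotLib.mul_comp_eq hq₁ (1 : W ⟶ G) g₀
    rw [_root_.one_mul, MonObj.one_comp] at h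
    exact h
  have hw : fst G Qa ≫ (q₁ ≫ qb) = Φ ≫ r := by
    haveI := (cqa.whiskerLeft G).epi
    rw [← cancel_epi (G ◁ qa), ← Category.assoc _ Φ r, hΦ, whiskerLeft_fst_assoc]
    simp only [Category.assoc, hr]
    have h := RedQuotLib.act_eq (i := i₀) (𝟙 (G ⊗ G₀))
    rw [Category.id_comp, Category.id_comp, Category.id_comp] at h
    rw [← Category.assoc (G ◁ i₀), h, ← Category.assoc _ q₁ qb, ← Category.assoc _ q₁ qb, MonObj.mul_comp, hkill,
      _root_.mul_one]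
  have hpb : IsPullback (fst G Qa) Φ (q₁ ≫ qb) r := by
    refine RedQuotLib.isPullback_of_local hw (fun {W} u v h1 h2 => ?_) fun {W} a b hab => ?_
    · refine CartesianMonoidalCategory.hom_ext _ _ h1 ?_
      obtain ⟨W₁, π₁, g₀, hπ₁, hg₀⟩ := cqa.exists_lift (u ≫ snd G Qa)
      obtain ⟨W₂, π₂, g₀', hπ₂, hg₀'⟩ := cqa.exists_lift (π₁ ≫ v ≫ snd G Qa)
      haveI := (hπ₂.comp hπ₁).epi
      rw [← cancel_epi (π₂ ≫ π₁), Category.assoc π₂ π₁, Category.assoc π₂ π₁, ← hg₀, ← hg₀']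
      have eu : π₂ ≫ π₁ ≫ u = lift (π₂ ≫ π₁ ≫ u ≫ fst G Qa) ((π₂ ≫ g₀) ≫ qa) :=
        CartesianMonoidalCategory.hom_ext _ _ (by simp) (by simp [hg₀])
      have ev : π₂ ≫ π₁ ≫ v = lift (π₂ ≫ π₁ ≫ u ≫ fst G Qa) (g₀' ≫ qa) :=
        CartesianMonoidalCategory.hom_ext _ _ (by simp [h1]) (by simp [hg₀'])
      have e : (π₂ ≫ π₁ ≫ u) ≫ Φ = (π₂ ≫ π₁ ≫ v) ≫ Φ := by simp only [Category.assoc, h2]
      rw [eu, ev, hΦ', hΦ'] at e
      obtain ⟨h, hh⟩ := (RedQuotLib.comp_eq_iff hq _ _).1 e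
      rw [_root_.mul_assoc] at hh
      have hh' : ((π₂ ≫ g₀)⁻¹ * g₀') ≫ i₀ = h ≫ i' := by
        rw [MonObj.mul_comp, GrpObj.inv_comp, mul_left_cancel hh, inv_mul_cancel_left]
      obtain ⟨h₀, hh0, -⟩ := hj.exists_lift _ _ hh'
      rw [← Category.assoc π₂ g₀, eq_comm, show g₀' = (π₂ ≫ g₀) * (h₀ ≫ j) by rw [hh0, mul_inv_cancel_left],
        RedQuotLib.mul_comp_eq hqa]
    · obtain ⟨W₁, π₁, g, hπ₁, hg⟩ := cq.exists_lift b
      have e : ((π₁ ≫ a) ≫ q₁) ≫ qb = (g ≫ q₁) ≫ qb := by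
        rw [Category.assoc g, ← hr, ← Category.assoc g, hg, Category.assoc, Category.assoc, Category.assoc, hab]
      obtain ⟨h₁, hh₁⟩ := (RedQuotLib.comp_eq_iff hqb _ _).1 e
      obtain ⟨W₂, π₂, h', hπ₂, hh'⟩ := cp.exists_lift h₁
      have e1 : (π₂ ≫ g) ≫ q₁ = ((π₂ ≫ π₁ ≫ a) ≫ q₁) * ((h' ≫ i') ≫ q₁) := by
        rw [Category.assoc h' i', ← hp, ← Category.assoc h' p, hh', Category.assoc π₂ g, hh₁, MonObj.comp_mul]
        simp only [Category.assoc]
      have e2 : ((π₂ ≫ g) * (h' ≫ i')⁻¹) ≫ q₁ = (π₂ ≫ π₁ ≫ a) ≫ q₁ := by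
        rw [MonObj.mul_comp, GrpObj.inv_comp, e1, mul_inv_cancel_right]
      obtain ⟨g₀, hg₀⟩ := (RedQuotLib.comp_eq_iff hq₁ _ _).1 e2.symm
      refine ⟨W₂, π₂ ≫ π₁, lift ((π₂ ≫ π₁) ≫ a) (g₀ ≫ qa), hπ₂.comp hπ₁, lift_fst _ _, ?_⟩
      rw [hΦ', Category.assoc π₂ π₁ a, ← hg₀, ← GrpObj.inv_comp, RedQuotLib.mul_comp_eq hq, Category.assoc π₂ π₁ b, ← hg, Category.assoc]
  -- descent
  haveI hIA : IsAffineHom r.left := by
    haveI := Et18.descends_isAffineHom.{u}
    have c := cq1.comp cqb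
    haveI := c.1; haveI := c.2.1; haveI := c.2.2
    haveI hqc : QuasiCompact (q₁ ≫ qb).left := by
      haveI : QuasiCompact ((q₁ ≫ qb).left ≫ Qb.hom) := by rw [Over.w]; infer_instance
      haveI : QuasiSeparated Qb.hom := inferInstance
      exact QuasiCompact.of_comp (q₁ ≫ qb).left Qb.hom
    refine MorphismProperty.of_isPullback_of_descendsAlong (Q := Et18.FPQC.{u})
      (hpb.map (Over.forget _)) ⟨⟨c.1, c.2.1⟩, hqc⟩ ?_
    show IsAffineHom (Limits.pullback.fst G.hom Qa.hom)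
    infer_instance
  exact isAffine_of_isAffineHom r.left

end Groth.Agent.S14545
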