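import Groth.Statements.S14547
import Groth.Agent.NonAb.SchTorsor
import Groth.Prelude.Def_ActBC
-- import your own Groth.Agent.* helpers here

set_option autoImplicit false
set_option backward.isDefEq.respectTransparency false
set_option backward.isDefEq.respectTransparency.types false
universe u
open CategoryTheory MonoidalCategory CartesianMonoidalCategory MonObj GrpObj AlgebraicGeometry
open PrincBund

namespace Groth.Agent.S14547


open CategoryTheory AlgebraicGeometry Limits in
theorem isIso_of_bc {X X' : Scheme.{u}} (f : X' ⟶ X) [Flat f] [Surjective f] [QuasiCompact f]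
    {A B : Over X} (φ : A ⟶ B) [IsIso ((Over.pullback f).map φ)] : IsIso φ := by
  suffices IsIso φ.left by
    have : IsIso ((Over.forget X).map φ) := this
    exact isIso_of_reflects_iso φ (Over.forget X)
  have sq : IsPullback ((Over.pullback f).map φ).left (pullback.fst A.hom f) (pullback.fst B.hom f) φ.left := by
    refine IsPullback.of_right ?_ (pullback.lift_fst _ _ _) (IsPullback.of_hasPullback B.hom f).flip
    have h2 : ((Over.pullback f).map φ).left ≫ pullback.snd B.hom f = pullback.snd A.hom f :=
      Over.w ((Over.pullback f).map φ)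
    rw [h2, Over.w φ]
    exact (IsPullback.of_hasPullback A.hom f).flip
  have h1 : (MorphismProperty.isomorphisms Scheme.{u}) ((Over.pullback f).map φ).left :=
    Functor.map_isIso (Over.forget X') ((Over.pullback f).map φ)
  exact MorphismProperty.of_isPullback_of_descendsAlong
    (P := MorphismProperty.isomorphisms Scheme.{u})
    (Q := (@Surjective ⊓ @Flat ⊓ @QuasiCompact : MorphismProperty Scheme.{u})) sq.flip.flip
    ⟨⟨MorphismProperty.pullback_fst (P := @Surjective) _ _ ‹_›, MorphismProperty.pullback_fst (P := @Flat) _ _ ‹_›⟩,
      MorphismProperty.pullback_fst (P := @QuasiCompact) _ _ ‹_›⟩ h1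

end Groth.Agent.S14547

namespace Groth.Agent.S14547

/-- Let f : X' → X be a faithfully flat quasi-compact morphism of schemes, J a group scheme affine over
X with an action a on an X-scheme P, and a' the induced action of the base change J' = J ×_X X' on
P' = P ×_X X'. Then P with a is a J-torsor for the fpqc topology if and only if P' with a' is a
J'-torsor for the fpqc topology. (The published statement allows any morphism X' → X that is
covering for the fpqc topology, and an action of a pregroupoid; this row is the case of a faithfully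
flat quasi-compact X' → X and the trivial pregroupoid.) -/
theorem result {X X' : Scheme.{u}} (f : X' ⟶ X)
    [Flat f] [Surjective f] [QuasiCompact f]
    {J P : Over X} [GrpObj J] [IsAffineHom J.hom] (a : AlgGrp.Action J P)
    (a' : AlgGrp.Action (Red.bc f J) (Red.bc f P))
    (ha' : Functor.LaxMonoidal.μ (Over.pullback f) J P ≫ (Over.pullback f).map a.act = a'.act) :
    NonAbH1.IsTorsorFor Scheme.fpqcPrecoverage a ↔ NonAbH1.IsTorsorFor Scheme.fpqcPrecoverage a' := by
  have e : a' = a.bc f := by
    cases a'
    simp only [AlgGrp.Action.bc]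
    congr
    exact ha'.symm
  subst e
  refine ⟨NonAbH1.isTorsorFor_bc f _, fun ⟨hps, R, hR, hsec⟩ => ⟨?_, ?_⟩⟩
  · have key : lift (a.bc f).act (snd _ _) ≫ Functor.LaxMonoidal.μ (Over.pullback f) P P =
        Functor.LaxMonoidal.μ (Over.pullback f) J P ≫ (Over.pullback f).map (lift a.act (snd J P)) := by
      rw [← Functor.Monoidal.lift_μ, comp_lift_assoc, Functor.Monoidal.μ_snd, AlgGrp.Action.bc_act]
    have : IsIso (lift (a.bc f).act (snd (Red.bc f J) (Red.bc f P))) := hps
    have : IsIso (Functor.LaxMonoidal.μ (Over.pullback f) J P ≫ (Over.pullback f).map (lift a.act (snd J P))) := by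
      rw [← key]; infer_instance
    have : IsIso ((Over.pullback f).map (lift a.act (snd J P))) :=
      IsIso.of_isIso_comp_left (Functor.LaxMonoidal.μ (Over.pullback f) J P) _
    exact isIso_of_bc f _
  · obtain ⟨I, Y, g, rfl⟩ := R.exists_eq_ofArrows
    refine ⟨_, Precoverage.comp_mem_coverings (J := Scheme.fpqcPrecoverage) (fun _ : PUnit.{u + 1} => f)
      (by rw [Presieve.ofArrows_pUnit]; exact f.singleton_mem_fpqcPrecoverage) (fun _ => g) (fun _ => hR), ?_⟩
    rintro S' k ⟨⟨_, i⟩⟩
    obtain ⟨s, hs⟩ := hsec (g i) ⟨i⟩
    refine ⟨s ≫ Limits.pullback.fst P.hom f, ?_⟩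
    rw [Category.assoc, Limits.pullback.condition, ← hs, Category.assoc]
    rfl


end Groth.Agent.S14547
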