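import Groth.Statements.S14556
import Groth.Agent.TateZero27.Main
-- import your own Groth.Agent.* helpers here

set_option autoImplicit false
set_option linter.style.haveILetI false
set_option backward.isDefEq.respectTransparency.types false
universe u
open TateGlob

namespace Groth.Agent.S14556

open CategoryTheory AlgebraicGeometry in
open CategoryTheory CategoryTheory.Limits MonObj AlgebraicGeometry in
open Groth.Agent in
/-- Let K be a global function field with finite constant field Fq (every element of K having finitely
many poles), A_K its ring of adeles, S a finite nonempty set of places, O_S the ring of S-integers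
and 𝒢 a flat, separated commutative O_S-group scheme of finite type. Then the map H^0(A_K, 𝒢) → ∏_v
H^0(K_v, 𝒢) induced by the projections A_K → K_v is injective, and its image consists of the
restricted product of the H^0(K_v, 𝒢), taken relative to the images of H^0(O_v, 𝒢) → H^0(K_v, 𝒢), v
∉ S: the families almost all of whose components come from O_v. Here H^0 is the degree-0 cohomology
of the sheaf of points of 𝒢 on the big fppf site of Spec O_S, restricted to Spec A_K, Spec K_v and
Spec O_v. -/
theorem result (Fq : Type u) [Field Fq] [Finite Fq] (K : Type u) [Field K] [Algebra (RatFunc Fq) K] [FunctionField Fq K]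
    [Algebra Fq K] [IsScalarTower Fq (RatFunc Fq) K] [AdFn.HasFinitePoles Fq K]
    (S : Set (FunFld.Place Fq K)) (hS : S.Finite) (hne : S.Nonempty)
    (𝒢 : Over (Spec (CommRingCat.of (AdFn.SInt S)))) [GrpObj 𝒢] [IsCommMonObj 𝒢]
    [Flat 𝒢.hom] [IsSeparated 𝒢.hom] [LocallyOfFiniteType 𝒢.hom] [QuasiCompact 𝒢.hom] :
    Function.Injective (AdFn.locProdS Scheme.fppfPrecoverage S (CGrpSh.pts Scheme.fppfPrecoverage 𝒢) 0) ∧
      Set.range (AdFn.locProdS Scheme.fppfPrecoverage S (CGrpSh.pts Scheme.fppfPrecoverage 𝒢) 0) =
        Set.range (fun y : AdFn.LocRP Scheme.fppfPrecoverage S (CGrpSh.pts Scheme.fppfPrecoverage 𝒢) 0 => (⇑y : (v : FunFld.Place Fq K) → AdFn.HLocS Scheme.fppfPrecoverage S (CGrpSh.pts Scheme.fppfPrecoverage 𝒢) 0 v)) := by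
  exact Groth.Agent.TateZero27.locProdS_zero Scheme.fppfPrecoverage S hS 𝒢

end Groth.Agent.S14556
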