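import Groth.Statements.S1457
import Groth.Agent.FlatMorLocalStr.Generic

set_option autoImplicit false
set_option backward.isDefEq.respectTransparency false
universe u
open FlatMor

namespace Groth.Agent.S1457

open AlgebraicGeometry CategoryTheory Limits in
/-- Omitting the assertion on pure transcendence of a residue field and the addendum on finite
presentation of π: let f : X → S be locally of finite type, x a point with image s and n the local
dimension of the fibre at x. Then there are affine schemes S', Y', X', an elementary étale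
neighbourhood e : (S', s') → (S, s), a morphism h : Y' → S' smooth of relative dimension n with
geometrically integral fibres, a finite morphism π : X' → Y' and an elementary étale neighbourhood g
: (X', x') → (X, x) with g ≫ f = π ≫ h ≫ e, such that x' is the only point of X' over y' = π x' and
h y' = s'. -/
theorem result {X S : Scheme.{u}} (f : X ⟶ S) [LocallyOfFiniteType f] (x : X) (n : ℕ) (hn : FlatMor.fibreDimAt f x = n) :
    ∃ (S' Y' X' : Scheme.{u}) (e : S' ⟶ S) (h : Y' ⟶ S') (π : X' ⟶ Y') (g : X' ⟶ X) (s' : S') (x' : X'),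
      IsAffine S' ∧ IsAffine Y' ∧ IsAffine X' ∧ Hens2.IsEtaleNbhd e s' (f x) ∧ Hens2.IsEtaleNbhd g x' x ∧
      g ≫ f = π ≫ h ≫ e ∧ SmoothOfRelativeDimension n h ∧ GeometricallyIntegral h ∧ IsFinite π ∧ h (π x') = s' ∧
      ∀ z : X', π z = π x' → z = x' := by
  obtain ⟨U, hU, V, hV, hxV, e, φ, hφ, hft, hqf, r, hr, hvq, hind⟩ :=
    Groth.Agent.FlatMorLocalStr.exists_chart f x n hn.le
  have : LocallyOfFiniteType (Spec.map φ) :=
    (HasRingHomProperty.Spec_iff (P := @LocallyOfFiniteType)).2 hft
  obtain ⟨Y, g, y, hgy, W, v, hfin, hvW, hv, hvy, huniq⟩ :=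
    Groth.Agent.FlatMorQFSplit.exists_split_unique (Spec.map φ) rfl hqf
  have := hgy.etale
  have := hfin
  obtain ⟨A, hA, hyA, -⟩ := exists_isAffineOpen_mem_and_subset (X := Y) (x := y) (U := ⊤) trivial
  have : IsAffine A.toScheme := hA
  let gA : A.toScheme ⟶ Spec (CommRingCat.of (MvPolynomial (Fin n) Γ(S, U))) := A.ι ≫ g
  let y₀ : A.toScheme := ⟨y, hyA⟩
  have hgA : Function.Bijective (gA.residueFieldMap y₀) :=
    Groth.Agent.FlatMorLocalStr.residueFieldMap_bijective_comp A.ι g y₀ hgy.residue_bijective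
  let ι : CommRingCat.of Γ(S, U) ⟶ CommRingCat.of (MvPolynomial (Fin n) Γ(S, U)) :=
    CommRingCat.ofHom (algebraMap Γ(S, U) (MvPolynomial (Fin n) Γ(S, U)))
  let hAS : A.toScheme ⟶ Spec Γ(S, U) := gA ≫ Spec.map ι
  have hsm : SmoothOfRelativeDimension n (Spec.map ι) := by
    rw [HasRingHomProperty.Spec_iff (P := @SmoothOfRelativeDimension n)]
    exact RingHom.locally_of (RingHom.isStandardSmoothOfRelativeDimension_respectsIso (n := n)) _
      ((RingHom.isStandardSmoothOfRelativeDimension_algebraMap n).2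
        (Groth.Agent.FlatMorLocalStr.isStandardSmoothOfRelativeDimension_mvPolynomial _ n))
  have : SmoothOfRelativeDimension n hAS := by
    simpa using smoothOfRelativeDimension_comp gA (Spec.map ι) (n := 0) (m := n)
  have hgy₀ : gA y₀ = Spec.map φ (hV.primeIdealOf ⟨x, hxV⟩) := hgy.base_eq
  let _ : Algebra Γ(S, U) Γ(X, V) := (f.appLE U V e).hom.toAlgebra
  have hφC : ∀ a, φ (MvPolynomial.C a) = (f.appLE U V e) a := fun a => congr($hφ a)
  have hbase : hAS y₀ = hU.primeIdealOf ⟨f x, e hxV⟩ := by
    show Spec.map ι (gA y₀) = _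
    rw [hgy₀]
    show (Spec.map φ ≫ Spec.map ι) _ = _
    rw [← Spec.map_comp, hφ]
    exact PrimeSpectrum.ext (Groth.Agent.EGA43.FibDepth.comap_primeIdealOf f hU hV e hxV)
  obtain ⟨S', Y', e', c, h, s', y', hS', hY', he', hc, hsq, hys, hsmh, hgi⟩ :=
    Groth.Agent.FlatMorLocalStr.exists_geometricallyIntegral_nhd (n := n) hAS y₀
      (fun {Z} a _ z hz p p' hp hq hp' hq' => Groth.Agent.FlatMorLocalStr.eq_of_coordinates ι
        (fun _ => rfl) gA y₀ hgA hr
        (fun i hi => by rw [hgy₀]; exact hvq i hi)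
        (fun Q hQ d => by
          rw [hgy₀] at hQ ⊢
          show φ (MvPolynomial.C (Q.coeff d)) ∈ (hV.primeIdealOf ⟨x, hxV⟩).asIdeal
          rw [hφC]
          let p := (hV.primeIdealOf ⟨x, hxV⟩).asIdeal.comap (algebraMap Γ(S, U) Γ(X, V))
          let q := (hV.primeIdealOf ⟨x, hxV⟩).asIdeal
          let _ : Algebra p.ResidueField q.ResidueField :=
            (Ideal.ResidueField.map p q (algebraMap Γ(S, U) Γ(X, V)) rfl).toAlgebra
          have hcomp : ((MvPolynomial.aeval fun i : Fin r => algebraMap Γ(X, V) q.ResidueField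
              (φ (MvPolynomial.X (Fin.castLE hr i)))).toRingHom.comp
              (MvPolynomial.map (algebraMap Γ(S, U) p.ResidueField))) =
              ((algebraMap Γ(X, V) q.ResidueField).comp φ.hom).comp
                (MvPolynomial.rename (R := Γ(S, U)) (Fin.castLE hr)).toRingHom := by
            refine MvPolynomial.ringHom_ext (fun a => ?_) fun i => ?_
            · simp [hφC, RingHom.algebraMap_toAlgebra]
            · simp
          have h0 : MvPolynomial.map (algebraMap Γ(S, U) p.ResidueField) Q = 0 := by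
            refine hind ?_
            rw [map_zero]
            refine (congr($hcomp Q)).trans ?_
            exact Ideal.algebraMap_residueField_eq_zero.2 hQ
          have h1 := congrArg (MvPolynomial.coeff d) h0
          rw [MvPolynomial.coeff_map, MvPolynomial.coeff_zero, Ideal.algebraMap_residueField_eq_zero] at h1
          exact h1)
        a z hz p p' hp hq hp' hq')
  have := he'.etale
  have := hc.etale
  let c' : Y' ⟶ Y := c ≫ A.ι
  have hc'e : Hens2.IsEtaleNbhd c' y' y := by
    refine ⟨inferInstance, by show (c y').1 = y; rw [show c y' = y₀ from hc.base_eq], ?_⟩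
    rw [Scheme.residueFieldMap_comp c A.ι]
    exact hc.residue_bijective.comp ((ConcreteCategory.isIso_iff_bijective _).1
      (Groth.Agent.FlatMorThick.isIso_residueFieldMap A.ι (c y')))
  let π₁ : W.toScheme ⟶ Y := W.ι ≫ pullback.snd (Spec.map φ) g
  obtain ⟨x'', hx1, hx2⟩ := Scheme.Pullback.exists_preimage_pullback (f := π₁) (g := c')
    ⟨v, hvW⟩ y' (hvy.trans hc'e.base_eq.symm)
  let g' : pullback π₁ c' ⟶ X :=
    pullback.fst π₁ c' ≫ W.ι ≫ pullback.fst (Spec.map φ) g ≫ hV.fromSpec
  have hπfin : IsFinite (pullback.snd π₁ c') := MorphismProperty.pullback_snd _ _ hfin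
  refine ⟨S', Y', pullback π₁ c', e' ≫ hU.fromSpec, h, pullback.snd π₁ c', g', s', x'', hS', hY',
    isAffine_of_isAffineHom (pullback.snd π₁ c'), ?_, ?_, ?_, hsmh, hgi, hπfin, ?_, ?_⟩
  · refine ⟨inferInstance, ?_, ?_⟩
    · show hU.fromSpec (e' s') = f x
      rw [show e' s' = hAS y₀ from he'.base_eq, hbase, hU.fromSpec_primeIdealOf]
    · rw [Scheme.residueFieldMap_comp e' hU.fromSpec]
      exact he'.residue_bijective.comp ((ConcreteCategory.isIso_iff_bijective _).1
        (Groth.Agent.FlatMorThick.isIso_residueFieldMap hU.fromSpec (e' s')))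
  · refine ⟨inferInstance, ?_, ?_⟩
    · show hV.fromSpec (pullback.fst (Spec.map φ) g ((pullback.fst π₁ c' x'').1)) = x
      rw [hx1, hv, hV.fromSpec_primeIdealOf]
    · rw [Scheme.residueFieldMap_comp (pullback.fst π₁ c')]
      refine (Groth.Agent.FlatMorQFSplit.fst_residueFieldMap_bijective π₁ hc'e x'' hx2).comp ?_
      have key : ∀ w : W.toScheme, w = ⟨v, hvW⟩ → Function.Bijective
          ((W.ι ≫ pullback.fst (Spec.map φ) g ≫ hV.fromSpec).residueFieldMap w) := ?_
      · exact key _ hx1
      rintro w rfl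
      refine Groth.Agent.FlatMorLocalStr.residueFieldMap_bijective_comp W.ι _ _ ?_
      rw [Scheme.residueFieldMap_comp (pullback.fst (Spec.map φ) g)]
      exact (Groth.Agent.FlatMorQFSplit.fst_residueFieldMap_bijective (Spec.map φ) hgy v hvy).comp
        ((ConcreteCategory.isIso_iff_bijective _).1
          (Groth.Agent.FlatMorThick.isIso_residueFieldMap hV.fromSpec _))
  · simp only [g', Category.assoc]
    rw [← IsAffineOpen.SpecMap_appLE_fromSpec f hU hV e, ← hφ, Spec.map_comp, Category.assoc,
      ← reassoc_of% hsq, pullback.condition_assoc]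
    simp only [hAS, gA, Category.assoc]
    simpa [Category.assoc, π₁, c', ι] using congrArg (fun k => k ≫ g ≫ Spec.map ι ≫ hU.fromSpec)
      (pullback.condition : pullback.fst π₁ c' ≫ π₁ = _)
  · rw [hx2, hys]
  · intro z hz
    rw [hx2] at hz
    refine Groth.Agent.FlatMorQFSplit.eq_of_fst_eq π₁ hc'e z x'' hz hx2 ?_
    rw [hx1]
    refine Subtype.ext (huniq _ (pullback.fst π₁ c' z).2 ?_)
    show π₁ (pullback.fst π₁ c' z) = y
    rw [← Scheme.Hom.comp_apply, pullback.condition, Scheme.Hom.comp_apply, hz, hc'e.base_eq]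

end Groth.Agent.S1457
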