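import Groth.Statements.S14576
import Groth.Agent.AlgGrpLib.AffineCriterion

set_option autoImplicit false
universe u
open CategoryTheory MonoidalCategory CartesianMonoidalCategory MonObj GrpObj AlgebraicGeometry CategoryTheory.Limits
open AlgGrp

namespace Groth.Agent.S14576

/-- Let k be a field and G a k-group scheme of finite type acting on an affine k-scheme X. If the action
is faithful, in the sense that for every k-scheme T a T-valued point of G acting as the identity on
X_T is the unit, then G is affine. -/
theorem result (k : Type u) [Field k]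
    (G X : Over (Spec (CommRingCat.of k))) [GrpObj G] [LocallyOfFiniteType G.hom] [QuasiCompact G.hom] [IsAffine X.left]
    (a : AlgGrp.Action G X)
    (hf : ∀ (T : Over (Spec (CommRingCat.of k))) (g : T ⟶ G),
      (∀ (T' : Over (Spec (CommRingCat.of k))) (t : T' ⟶ T) (x : T' ⟶ X), lift (t ≫ g) x ≫ a.act = x) → g = 1) :
    IsAffine G.left := by
  refine Groth.Agent.AlgGrpLib.AffineHull.isAffine_of_antiAffine_trivial G fun N _ _ _ i _ _ hN => ?_
  haveI : CompactSpace N.left := QuasiCompact.compactSpace_of_compactSpace N.hom
  haveI : IsLocallyNoetherian N.left := LocallyOfFiniteType.isLocallyNoetherian N.hom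
  refine hf N i fun T' t x => ?_
  have key := congrArg (lift t x ≫ ·)
    (Groth.Agent.AlgGrpLib.eq_snd_of_affine hN η[N] ((i ▷ X) ≫ a.act) (X := N) (Y := X) (Z := X))
  have h1 : lift (toUnit X ≫ η[N]) (𝟙 X) ≫ (i ▷ X) ≫ a.act = 𝟙 X := by
    rw [← Category.assoc, lift_whiskerRight, Category.assoc, IsMonHom.one_hom, ← Hom.one_def,
      Groth.Agent.AlgGrpLib.one_act']
  simp only [h1, ← Category.assoc, lift_whiskerRight, lift_snd, Category.comp_id] at key
  exact key

end Groth.Agent.S14576
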