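import Groth.Statements.S1458
import Mathlib

set_option autoImplicit false
universe u
open FlatMor

namespace Groth.Agent.S1458

open TensorProduct in
/-- Let A → B be a finite ring map of finite presentation. Then there are a finitely presented A-algebra
A_u and an idempotent e_u of B ⊗_A A_u such that for every A-algebra A' and every idempotent e of B
⊗_A A' there is an A-algebra map A_u → A' whose induced map B ⊗ A_u → B ⊗ A' sends e_u to e. -/
theorem result {A B : Type u} [CommRing A] [CommRing B] [Algebra A B] [Module.Finite A B] [Algebra.FinitePresentation A B] :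
    ∃ (Au : Type u) (_ : CommRing Au) (_ : Algebra A Au) (eu : B ⊗[A] Au), Algebra.FinitePresentation A Au ∧ IsIdempotentElem eu ∧
      ∀ (A' : Type u) [CommRing A'] [Algebra A A'] (e : B ⊗[A] A'), IsIdempotentElem e →
        ∃ φ : Au →ₐ[A] A', Algebra.TensorProduct.map (AlgHom.id A B) φ eu = e := by
  classical
  haveI : Module.FinitePresentation A B := Module.FinitePresentation.of_finite_of_finitePresentation A B
  obtain ⟨n, w, hw⟩ := Module.Finite.exists_fin' A B
  obtain ⟨G, hG⟩ := Module.FinitePresentation.fg_ker w hw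
  choose c hc using fun ij : Fin n × Fin n => hw (w (Pi.single ij.1 1) * w (Pi.single ij.2 1))
  let b : Fin n → B := fun i => w (Pi.single i 1)
  let σ := Fin n ⊕ {v // v ∈ G}
  let P := MvPolynomial σ A
  let x : Fin n → P := fun i => MvPolynomial.X (Sum.inl i)
  let y : {v // v ∈ G} → P := fun v => MvPolynomial.X (Sum.inr v)
  let eqn : Fin n → P := fun k =>
    (∑ i, ∑ j, MvPolynomial.C (c (i, j) k) * (x i * x j)) - x k - ∑ v, MvPolynomial.C (v.1 k) * y v
  let Au := P ⧸ Ideal.span (Set.range eqn)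
  let xu : Fin n → Au := fun i => Ideal.Quotient.mk _ (x i)
  let yu : {v // v ∈ G} → Au := fun v => Ideal.Quotient.mk _ (y v)
  let eu : B ⊗[A] Au := ∑ i, b i ⊗ₜ[A] xu i
  have hb : ∀ v : Fin n → A, w v = ∑ i, v i • b i := fun v => by
    conv_lhs => rw [pi_eq_sum_univ' v]
    rw [map_sum]
    exact Finset.sum_congr rfl fun i _ => map_smul w _ _
  have hker : ∀ v ∈ G, ∑ k, v k • b k = 0 := fun v hv => by
    rw [← hb]; exact LinearMap.mem_ker.1 (hG ▸ Submodule.subset_span hv)
  have hrel : ∀ {C : Type u} [CommRing C] [Algebra A C] (a : Fin n → C) (z : {v // v ∈ G} → C),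
      (∑ i, b i ⊗ₜ[A] a i) * (∑ i, b i ⊗ₜ[A] a i) - ∑ i, b i ⊗ₜ[A] a i =
      ∑ k, b k ⊗ₜ[A] ((∑ i, ∑ j, algebraMap A C (c (i, j) k) * (a i * a j)) - a k - ∑ v, algebraMap A C (v.1 k) * z v) := by
    intro C _ _ a z
    simp only [TensorProduct.tmul_sub, Finset.sum_sub_distrib, TensorProduct.tmul_sum]
    have h2 : ∑ k, ∑ v : {v // v ∈ G}, b k ⊗ₜ[A] (algebraMap A C (v.1 k) * z v) = 0 := by
      rw [Finset.sum_comm]
      refine Finset.sum_eq_zero fun v _ => ?_
      have : ∀ k, b k ⊗ₜ[A] (algebraMap A C (v.1 k) * z v) = (v.1 k • b k) ⊗ₜ[A] z v := fun k => by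
        rw [← Algebra.smul_def, TensorProduct.smul_tmul]
      rw [Finset.sum_congr rfl fun k _ => this k, ← TensorProduct.sum_tmul, hker v.1 v.2, TensorProduct.zero_tmul]
    rw [h2, sub_zero, Finset.sum_mul_sum]
    congr 1
    conv_rhs => rw [Finset.sum_comm]
    refine Finset.sum_congr rfl fun i _ => ?_
    conv_rhs => rw [Finset.sum_comm]
    refine Finset.sum_congr rfl fun j _ => ?_
    have : ∀ k, b k ⊗ₜ[A] (algebraMap A C (c (i, j) k) * (a i * a j)) = (c (i, j) k • b k) ⊗ₜ[A] (a i * a j) := fun k => by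
      rw [← Algebra.smul_def, TensorProduct.smul_tmul]
    rw [Finset.sum_congr rfl fun k _ => this k, ← TensorProduct.sum_tmul, ← hb, hc, Algebra.TensorProduct.tmul_mul_tmul]
  refine ⟨Au, inferInstance, inferInstance, eu, ?_, ?_, ?_⟩
  · exact Algebra.FinitePresentation.quotient (Submodule.fg_span (Set.finite_range eqn))
  · show eu * eu = eu
    rw [← sub_eq_zero]
    refine (hrel xu yu).trans (Finset.sum_eq_zero fun k _ => ?_)
    have h0 : Ideal.Quotient.mk (Ideal.span (Set.range eqn)) (eqn k) = 0 :=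
      Ideal.Quotient.eq_zero_iff_mem.2 (Ideal.subset_span ⟨k, rfl⟩)
    simp only [eqn, map_sub, map_sum, map_mul] at h0
    rw [show (∑ i, ∑ j, algebraMap A Au (c (i, j) k) * (xu i * xu j)) - xu k - ∑ v : {v // v ∈ G}, algebraMap A Au (v.1 k) * yu v = 0 from h0,
      TensorProduct.tmul_zero]
  · intro A' _ _ e he
    obtain ⟨Z, hZ⟩ := LinearMap.rTensor_surjective A' hw e
    have hrep : ∀ Z : (Fin n → A) ⊗[A] A', ∃ a : Fin n → A', w.rTensor A' Z = ∑ i, b i ⊗ₜ[A] a i ∧
        ∀ k, TensorProduct.lid A A' ((LinearMap.proj k).rTensor A' Z) = a k := by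
      intro Z
      induction Z using TensorProduct.induction_on with
      | zero => exact ⟨0, by simp, by simp⟩
      | tmul v c =>
        refine ⟨fun i => v i • c, ?_, fun k => by simp⟩
        rw [LinearMap.rTensor_tmul, hb, TensorProduct.sum_tmul]
        exact Finset.sum_congr rfl fun i _ => TensorProduct.smul_tmul _ _ _
      | add p q hp hq =>
        obtain ⟨a, ha, ha'⟩ := hp
        obtain ⟨a', hq, hq'⟩ := hq
        refine ⟨a + a', ?_, fun k => ?_⟩
        · rw [map_add, ha, hq, ← Finset.sum_add_distrib]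
          exact Finset.sum_congr rfl fun i _ => (TensorProduct.tmul_add _ _ _).symm
        · rw [map_add, map_add, ha', hq', Pi.add_apply]
    obtain ⟨a, ha, -⟩ := hrep Z
    rw [hZ] at ha
    let q : Fin n → A' := fun k => (∑ i, ∑ j, algebraMap A A' (c (i, j) k) * (a i * a j)) - a k
    have hq0 : ∑ k, b k ⊗ₜ[A] q k = 0 := by
      have := hrel (C := A') a 0
      simp only [← ha, he.eq, sub_self, Pi.zero_apply, mul_zero, Finset.sum_const_zero, sub_zero] at this
      exact this.symm
    let Q : (Fin n → A) ⊗[A] A' := ∑ k, Pi.single k (1 : A) ⊗ₜ[A] q k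
    have hQw : w.rTensor A' Q = 0 := by
      simp only [Q, map_sum, LinearMap.rTensor_tmul]
      exact hq0
    obtain ⟨R, hR⟩ := (rTensor_exact A' (LinearMap.exact_subtype_ker_map w) hw Q).1 hQw
    have hker2 : ∀ R : (LinearMap.ker w) ⊗[A] A', ∃ z : {v // v ∈ G} → A', ∀ k,
        TensorProduct.lid A A' ((LinearMap.proj k).rTensor A' ((LinearMap.ker w).subtype.rTensor A' R)) =
          ∑ v, algebraMap A A' (v.1 k) * z v := by
      intro R
      induction R using TensorProduct.induction_on with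
      | zero => exact ⟨0, by simp⟩
      | add p r hp hr =>
        obtain ⟨z, hz⟩ := hp
        obtain ⟨z', hz'⟩ := hr
        exact ⟨z + z', fun k => by
          simp only [map_add, hz, hz', Pi.add_apply, mul_add, Finset.sum_add_distrib]⟩
      | tmul v d =>
        obtain ⟨l, hl⟩ := (Submodule.mem_span_set' (R := A) (s := (G : Set (Fin n → A)))).1
          (show v.1 ∈ Submodule.span A (G : Set (Fin n → A)) by rw [hG]; exact v.2) |>.imp fun m h => h
        obtain ⟨f, g, hfg⟩ := hl
        refine ⟨fun u => ∑ i, if g i = u then f i • d else 0, fun k => ?_⟩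
        rw [LinearMap.rTensor_tmul, LinearMap.rTensor_tmul, TensorProduct.lid_tmul, Submodule.subtype_apply,
          LinearMap.proj_apply, ← hfg, Finset.sum_apply, Finset.sum_smul]
        simp only [Finset.mul_sum]
        rw [Finset.sum_comm]
        refine Finset.sum_congr rfl fun i _ => ?_
        refine Eq.trans ?_ (Finset.sum_eq_single (g i) (fun u _ hu => ?_) (fun h => ?_)).symm
        · rw [if_pos rfl, ← Algebra.smul_def, Pi.smul_apply, smul_eq_mul, mul_comm, mul_smul]
        · rw [if_neg (Ne.symm hu), mul_zero]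
        · exact absurd (Finset.mem_univ _) h
    obtain ⟨z, hz⟩ := hker2 R
    have hqk : ∀ k, q k = ∑ v, algebraMap A A' (v.1 k) * z v := fun k => by
      rw [← hz k, hR]
      simp [Q, Pi.single_apply, Finset.sum_ite_eq, ite_smul]
    let φ₀ : P →ₐ[A] A' := MvPolynomial.aeval (Sum.elim a z)
    let φ : Au →ₐ[A] A' := Ideal.Quotient.liftₐ _ φ₀ (fun p hp => by
      refine (Ideal.span_le.2 ?_ hp : p ∈ RingHom.ker φ₀.toRingHom)
      rintro _ ⟨k, rfl⟩
      show φ₀ (eqn k) = 0
      have hX : ∀ t, φ₀ (MvPolynomial.X t) = Sum.elim a z t := fun t => MvPolynomial.aeval_X _ t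
      have hC : ∀ t, φ₀ (MvPolynomial.C t) = algebraMap A A' t := fun t => MvPolynomial.aeval_C _ t
      simp only [eqn, x, y, map_sub, map_sum, map_mul, hX, hC, Sum.elim_inl, Sum.elim_inr]
      exact sub_eq_zero.2 (hqk k))
    refine ⟨φ, ?_⟩
    rw [ha, map_sum]
    refine Finset.sum_congr rfl fun i _ => ?_
    rw [Algebra.TensorProduct.map_tmul, AlgHom.id_apply]
    congr 1
    show φ₀ (x i) = a i
    exact MvPolynomial.aeval_X _ _

end Groth.Agent.S1458
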