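import Groth.Statements.S14580
import Groth.Agent.H8Top.Components
import Mathlib.AlgebraicGeometry.Morphisms.Proper
import Mathlib.AlgebraicGeometry.PullbackCarrier
import Mathlib.AlgebraicGeometry.Noetherian

set_option autoImplicit false
universe u
open CategoryTheory MonoidalCategory CartesianMonoidalCategory MonObj GrpObj AlgebraicGeometry CategoryTheory.Limits
open AlgGrp

namespace Groth.Agent.S14580

/-- Let k be a field, G a proper k-group scheme of finite type and N ⊆ G the kernel of the affinization
morphism G → Spec O(G), i.e. the fibre over the image of the unit section (the largest anti-affine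
subgroup scheme of G). Then the image of N in G is the connected component of the identity: as N is
smooth, N is the reduced neutral component G⁰_red, which is therefore a smooth connected algebraic
group. -/
theorem result (k : Type u) [Field k]
    (G : Over (Spec (CommRingCat.of k))) [GrpObj G] [IsProper G.hom] (t : ↥((𝟙_ (Over (Spec (CommRingCat.of k)))).left)) :
    Set.range ⇑(pullback.fst G.left.toSpecΓ (η[G].left ≫ G.left.toSpecΓ)).base = connectedComponent ((η[G]).left.base t) := by
  haveI : LocallyOfFiniteType G.hom := inferInstance
  haveI : CompactSpace G.left := QuasiCompact.compactSpace_of_compactSpace G.hom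
  haveI : IsLocallyNoetherian G.left := LocallyOfFiniteType.isLocallyNoetherian G.hom
  haveI : IsNoetherian G.left := ⟨⟩
  haveI : Subsingleton ↥((𝟙_ (Over (Spec (CommRingCat.of k)))).left) :=
    inferInstanceAs (Subsingleton (PrimeSpectrum k))
  set x₀ : G.left := η[G].left t with hx₀
  set f := G.left.toSpecΓ with hf
  rw [Scheme.Pullback.range_fst]
  have hr : Set.range (η[G].left ≫ f) = {f x₀} := by
    ext y
    simp only [Set.mem_range, Set.mem_singleton_iff, Scheme.Hom.comp_apply]
    exact ⟨fun ⟨s, hs⟩ => by rw [← hs, hx₀, Subsingleton.elim s t], fun h => ⟨t, h.symm⟩⟩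
  rw [hr]
  -- all primes of `Γ(G)` are maximal
  have hmax : ∀ p : PrimeSpectrum Γ(G.left, ⊤), p.asIdeal.IsMaximal := by
    intro p
    let F := (Scheme.ΓSpecIso (CommRingCat.of k)).inv ≫ G.hom.appTop
    have hF : F.hom.IsIntegral := by
      apply RingHom.isIntegral_respectsIso.2 (e := (Scheme.ΓSpecIso _).symm.commRingCatIsoToRingEquiv)
      exact isIntegral_appTop_of_universallyClosed G.hom
    algebraize [F.hom]
    haveI hc : (p.asIdeal.comap (algebraMap k Γ(G.left, ⊤))).IsMaximal := by
      rw [(Ideal.eq_bot_or_top _).resolve_right (Ideal.IsPrime.ne_top (Ideal.comap_isPrime _ p.asIdeal))]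
      exact Ideal.bot_isMaximal
    exact Ideal.isMaximal_of_isIntegral_of_isMaximal_comap (R := k) p.asIdeal hc
  have hclosed : ∀ z, IsClosed ({f z} : Set (Spec Γ(G.left, ⊤))) := fun z =>
    (PrimeSpectrum.isClosed_singleton_iff_isMaximal _).2 (hmax _)
  have hspec : ∀ {a b : G.left}, a ⤳ b → f a = f b := by
    intro a b hab
    have := (hab.map f.continuous).mem_closed (hclosed a) rfl
    exact this.symm
  apply Set.Subset.antisymm
  · intro y hy
    by_contra hne
    -- the idempotent of the component
    let C : G.left.Opens := ⟨connectedComponent x₀,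
      Groth.Agent.H8Top.IsLocNoetherian.isOpen_connectedComponent
        (fun x => ⟨Set.univ, Filter.univ_mem, inferInstance⟩) x₀⟩
    let D : G.left.Opens := ⟨(connectedComponent x₀)ᶜ, isClosed_connectedComponent.isOpen_compl⟩
    let U : Bool → G.left.Opens := fun b => if b then C else D
    let sf : ∀ b, Γ(G.left, U b) := fun b => if b then 1 else 0
    obtain ⟨e', he', -⟩ := G.left.sheaf.existsUnique_gluing' U ⊤ (fun b => homOfLE le_top)
      (fun z _ => by
        by_cases hz : z ∈ connectedComponent x₀
        · exact TopologicalSpace.Opens.mem_iSup.2 ⟨true, hz⟩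
        · exact TopologicalSpace.Opens.mem_iSup.2 ⟨false, hz⟩)
      sf (by
        intro b c
        rcases b with _ | _ <;> rcases c with _ | _
        · rfl
        · refine @Subsingleton.elim _ ?_ _ _
          exact CommRingCat.subsingleton_of_isTerminal (G.left.sheaf.isTerminalOfEqEmpty (le_bot_iff.1 fun z hz => hz.1 hz.2))
        · refine @Subsingleton.elim _ ?_ _ _
          exact CommRingCat.subsingleton_of_isTerminal (G.left.sheaf.isTerminalOfEqEmpty (le_bot_iff.1 fun z hz => hz.2 hz.1))
        · rfl)
    let e : Γ(G.left, ⊤) := e'
    have he : ∀ b, G.left.presheaf.map (homOfLE le_top : U b ⟶ ⊤).op e = sf b := he'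
    have hC : x₀ ∈ G.left.basicOpen e := by
      have h1 : G.left.basicOpen (G.left.presheaf.map (homOfLE le_top : U true ⟶ ⊤).op e) = C := by
        rw [show G.left.presheaf.map (homOfLE le_top : U true ⟶ ⊤).op e = (1 : Γ(G.left, C)) from he true]
        exact Scheme.basicOpen_of_isUnit _ isUnit_one
      rw [Scheme.basicOpen_res] at h1
      exact (h1.ge (mem_connectedComponent : x₀ ∈ connectedComponent x₀)).2
    have hD : y ∉ G.left.basicOpen e := by
      intro hye
      have h1 : G.left.basicOpen (G.left.presheaf.map (homOfLE le_top : U false ⟶ ⊤).op e) = ⊥ := by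
        rw [show G.left.presheaf.map (homOfLE le_top : U false ⟶ ⊤).op e = (0 : Γ(G.left, D)) from he false]
        exact Scheme.basicOpen_zero _ _
      rw [Scheme.basicOpen_res] at h1
      exact (h1.le ⟨hne, hye⟩ : y ∈ (⊥ : G.left.Opens))
    rw [← Scheme.toSpecΓ_preimage_basicOpen] at hC hD
    rw [Set.mem_preimage, Set.mem_singleton_iff] at hy
    exact hD (Eq.mpr (congrArg (· ∈ PrimeSpectrum.basicOpen e) hy) hC)
  · -- the fibre is clopen
    have hfin : (Set.range f).Finite := by
      let gen : irreducibleComponents G.left → G.left := fun Z => Z.2.1.genericPoint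
      haveI : Finite (irreducibleComponents G.left) :=
        TopologicalSpace.NoetherianSpace.finite_irreducibleComponents.to_subtype
      refine (Set.finite_range (f ∘ gen)).subset ?_
      rintro _ ⟨z, rfl⟩
      refine ⟨⟨irreducibleComponent z, irreducibleComponent_mem_irreducibleComponents z⟩, ?_⟩
      refine hspec ?_
      have h := (irreducibleComponent_mem_irreducibleComponents z).1.isGenericPoint_genericPoint_closure
      exact h.specializes (subset_closure mem_irreducibleComponent)
    have hclopen : IsClopen (f ⁻¹' {f x₀}) := by
      refine ⟨(hclosed x₀).preimage f.continuous, ?_⟩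
      have : f ⁻¹' {f x₀} = (f ⁻¹' (Set.range f \ {f x₀}))ᶜ := by
        ext z
        simp
      rw [this]
      refine IsClosed.isOpen_compl (X := G.left) (self := ?_)
      refine IsClosed.preimage f.continuous ?_
      rw [← Set.biUnion_of_singleton (Set.range f \ {f x₀})]
      refine (hfin.subset Set.diff_subset).isClosed_biUnion ?_
      rintro _ ⟨⟨z, rfl⟩, -⟩
      exact hclosed z
    exact hclopen.connectedComponent_subset rfl

end Groth.Agent.S14580
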