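import Groth.Statements.S19705
import Groth.Agent.AlgGrpLib.AntiAffineMul
import Groth.Agent.AlgGrpLib.SubGrpMono
import Groth.Agent.AlgGrpLib.HomFlatRed
import Groth.Agent.GrpQLib.AffineGroupQuot
import Groth.Agent.WeilLib.Geom
import Groth.Agent.S3293
import Groth.Agent.S19702
import Groth.Agent.S11412
set_option backward.isDefEq.respectTransparency.types false
set_option maxHeartbeats 800000

set_option autoImplicit false
universe u
open CategoryTheory MonoidalCategory CartesianMonoidalCategory MonObj GrpObj AlgebraicGeometry CategoryTheory.Limits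
open AlgGrp

namespace Groth.Agent.S19705

/-- Let k be a field and G a connected k-group scheme of finite type, not necessarily smooth. Let i : N
→ G be a closed normal subgroup scheme which is affine and is the kernel of a flat surjective
homomorphism q : G → A of k-group schemes of finite type with A proper, and let j : M → G be the
largest anti-affine closed subgroup scheme G_ant of G (O(M) = k, and every anti-affine closed
subgroup scheme of G factors through M). Then the multiplication morphism N × M → G is surjective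
(on underlying topological spaces), and every closed subgroup scheme H of G for which the
multiplication H × N → G is surjective contains G_ant, i.e. M factors through H. (The published
statement takes N = G_aff, the smallest connected affine normal subgroup scheme whose quotient is an
abelian variety; the row allows any affine closed normal subgroup scheme N whose quotient G/N is
proper, for which the same argument applies.) -/
theorem result (k : Type u) [Field k]
    (G : Over (Spec (CommRingCat.of k))) [GrpObj G] [LocallyOfFiniteType G.hom] [QuasiCompact G.hom] [ConnectedSpace ↥G.left]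
    (N : Over (Spec (CommRingCat.of k))) [GrpObj N] (i : N ⟶ G) [IsMonHom i] [IsClosedImmersion i.left] [IsAffine N.left]
    (hN : AlgGrp.IsNormalHom i)
    (A : Over (Spec (CommRingCat.of k))) [GrpObj A] [IsProper A.hom]
    (q : G ⟶ A) [IsMonHom q] [Surjective q.left] [Flat q.left] (hq : AlgGrp.IsKernel i q)
    (M : Over (Spec (CommRingCat.of k))) [GrpObj M] [LocallyOfFiniteType M.hom] [QuasiCompact M.hom] (j : M ⟶ G) [IsMonHom j] [IsClosedImmersion j.left]
    (hM : Function.Bijective ((Scheme.ΓSpecIso (CommRingCat.of k)).inv ≫ M.hom.appTop).hom)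
    (hMmax : ∀ (M₁ : Over (Spec (CommRingCat.of k))) [GrpObj M₁] [LocallyOfFiniteType M₁.hom] [QuasiCompact M₁.hom] (j₁ : M₁ ⟶ G) [IsMonHom j₁] [IsClosedImmersion j₁.left],
      Function.Bijective ((Scheme.ΓSpecIso (CommRingCat.of k)).inv ≫ M₁.hom.appTop).hom → ∃ g : M₁ ⟶ M, g ≫ j = j₁) :
    Surjective ((i ⊗ₘ j) ≫ μ[G]).left ∧
      ∀ (H : Over (Spec (CommRingCat.of k))) [GrpObj H] (h : H ⟶ G) [IsMonHom h] [IsClosedImmersion h.left],
        Surjective ((h ⊗ₘ i) ≫ μ[G]).left → ∃ g : M ⟶ H, g ≫ h = j := by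
  haveI : IsLocallyNoetherian G.left := LocallyOfFiniteType.isLocallyNoetherian G.hom
  haveI : ConnectedSpace A.left := by
    refine { isPreconnected_univ := ?_, toNonempty := ⟨q.left (Classical.arbitrary G.left)⟩ }
    rw [← Set.range_eq_univ.2 q.left.surjective]
    exact isPreconnected_range q.left.continuous
  have hbij : ∀ {Y : Over (Spec (CommRingCat.of k))}, Function.Bijective Y.hom.appTop →
      Function.Bijective ((Scheme.ΓSpecIso (CommRingCat.of k)).inv ≫ Y.hom.appTop).hom := fun h => by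
    rw [CommRingCat.hom_comp, RingHom.coe_comp]
    exact Function.Bijective.comp h (ConcreteCategory.bijective_of_isIso (Scheme.ΓSpecIso (CommRingCat.of k)).inv)
  refine ⟨Groth.Agent.AlgGrpLib.AffineHull.surjective_mul G i hN q hq j (fun M₁ _ _ _ j₁ _ _ hb => hMmax M₁ j₁ (hbij hb)),
    fun H _ h _ _ hsur => ?_⟩
  haveI : LocallyOfFiniteType H.hom := by rw [← Over.w h]; infer_instance
  haveI : QuasiCompact H.hom := by rw [← Over.w h]; infer_instance
  haveI : IsLocallyNoetherian H.left := LocallyOfFiniteType.isLocallyNoetherian H.hom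
  haveI : LocallyOfFinitePresentation H.hom := inferInstance
  -- the image of `H` in `A`
  obtain ⟨B, gB, ρ, kB, hρ, hkB, hfac, hρs, hρf, -, hmono, hBl, hkerρ⟩ :=
    Groth.Agent.GrpQLib.exists_image (h ≫ q) (GrpdLib.flat_to_field _ k (Iso.refl _))
  haveI : QuasiCompact B.hom := by
    haveI : CompactSpace H.left := QuasiCompact.compactSpace_of_compactSpace H.hom
    haveI : CompactSpace B.left := ⟨by
      rw [← Set.range_eq_univ.2 ρ.left.surjective]; exact isCompact_range ρ.left.continuous⟩
    exact (quasiCompact_iff_compactSpace B.hom).2 inferInstance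
  haveI : QuasiCompact kB.left := by
    haveI : QuasiCompact (kB.left ≫ A.hom) := by rw [Over.w]; infer_instance
    exact QuasiCompact.of_comp kB.left A.hom
  haveI : IsClosedImmersion kB.left := Groth.Agent.SGA3cLib.isClosedImmersion_of_mono kB
  haveI : IsProper B.hom := by rw [← Over.w kB]; infer_instance
  have hhq : Function.Surjective (h ≫ q).left := fun a => by
    obtain ⟨g, rfl⟩ := q.left.surjective a
    obtain ⟨p, rfl⟩ := hsur.surj g
    have e : ((h ⊗ₘ i) ≫ μ[G]) ≫ q = fst H N ≫ h ≫ q := by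
      rw [show (h ⊗ₘ i) ≫ μ[G] = (fst H N ≫ h) * (snd H N ≫ i) by rw [Hom.mul_def]; congr 1]
      rw [MonObj.mul_comp, Category.assoc, Category.assoc, Groth.Agent.AlgGrpLib.kernel_comp hq, MonObj.comp_one,
        _root_.mul_one]
    exact ⟨(fst H N).left p, by
      rw [← Scheme.Hom.comp_apply, ← Over.comp_left, ← e, Over.comp_left, Scheme.Hom.comp_apply]⟩
  haveI : ConnectedSpace B.left := by
    have hs : Function.Surjective kB.left := fun a => by
      obtain ⟨x, hx⟩ := hhq a
      exact ⟨ρ.left x, by rw [← Scheme.Hom.comp_apply, ← Over.comp_left, hfac]; exact hx⟩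
    exact (kB.left.isClosedEmbedding.isEmbedding.toHomeomorphOfSurjective hs).symm.surjective.connectedSpace
      (Homeomorph.continuous _)
  let N' := Limits.pullback (h ≫ q) η[A]
  let i' : N' ⟶ H := Limits.pullback.fst (h ≫ q) η[A]
  haveI : IsClosedImmersion i'.left := by
    haveI : IsClosedImmersion η[A].left := by
      haveI : IsClosedImmersion (η[A].left ≫ A.hom) := by
        rw [Over.w η[A]]; exact inferInstanceAs (IsClosedImmersion (𝟙 (Spec (CommRingCat.of k))))
      exact IsClosedImmersion.of_comp η[A].left A.hom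
    exact MorphismProperty.of_isPullback (P := @IsClosedImmersion)
      ((IsPullback.of_hasPullback (h ≫ q) η[A]).map (Over.forget _)).flip ‹_›
  obtain ⟨gN', hi'⟩ := Groth.Agent.AlgGrpLib.exists_grpObj_kernel ρ i' hkerρ
  have hi'q : (i' ≫ h) ≫ q = 1 := by
    rw [Category.assoc, ← hfac, ← Category.assoc, Groth.Agent.AlgGrpLib.kernel_comp hkerρ, MonObj.one_comp]
  obtain ⟨w, hw⟩ := Groth.Agent.AlgGrpLib.exists_lift_kernel hq hi'q
  haveI : IsClosedImmersion w.left := by
    haveI : IsClosedImmersion (w.left ≫ i.left) := by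
      rw [← Over.comp_left, hw]; exact inferInstanceAs (IsClosedImmersion (i'.left ≫ h.left))
    exact IsClosedImmersion.of_comp w.left i.left
  haveI : IsAffine N'.left := isAffine_of_isAffineHom w.left
  obtain ⟨gT, hr, L, gL, l, hl, hlci, hLl, hLq, hLb, -, -, -, hkerL⟩ :=
    Groth.Agent.AlgGrpLib.AffineHull.exists_antiAffine_kernel H
  have hsurL := Groth.Agent.AlgGrpLib.AffineHull.surjective_mul H i'
    (Groth.Agent.AlgGrpLib.ExactSeqBasics.isNormalHom_kernel ρ hkerρ) ρ hkerρ l (fun M₁ _ _ _ j₁ _ _ hb => by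
      exact Groth.Agent.AlgGrpLib.exists_lift_kernel hkerL
        (Groth.Agent.AlgGrpLib.AffineHull.eq_one_of_isAffine hb (j₁ ≫ Groth.Agent.AlgGrpLib.toAffOf H)))
  haveI : IsClosedImmersion (l ≫ h).left := inferInstanceAs (IsClosedImmersion (l.left ≫ h.left))
  obtain ⟨e, he⟩ := hMmax L (l ≫ h) (hbij hLb)
  haveI : IsClosedImmersion e.left := by
    haveI : IsClosedImmersion (e.left ≫ j.left) := by rw [← Over.comp_left, he]; infer_instance
    exact IsClosedImmersion.of_comp e.left j.left
  haveI : Mono e := Over.mono_of_mono_left _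
  haveI : Mono j := Over.mono_of_mono_left _
  haveI : IsMonHom e := by
    refine ⟨?_, ?_⟩
    · rw [← cancel_mono j, Category.assoc, he, IsMonHom.one_hom (l ≫ h), IsMonHom.one_hom]
    · rw [← cancel_mono j, Category.assoc, he, IsMonHom.mul_hom (l ≫ h), Category.assoc, IsMonHom.mul_hom j,
        tensorHom_comp_tensorHom_assoc, he]
  have hLA : Function.Surjective (e ≫ j ≫ q).left := fun a => by
    obtain ⟨x, hx⟩ := hhq a
    obtain ⟨p, hp⟩ := hsurL.surj x
    have e1 : ((i' ⊗ₘ l) ≫ μ[H]) ≫ (h ≫ q) = snd N' L ≫ e ≫ j ≫ q := by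
      rw [show (i' ⊗ₘ l) ≫ μ[H] = (fst N' L ≫ i') * (snd N' L ≫ l) by rw [Hom.mul_def]; congr 1]
      rw [MonObj.mul_comp, Category.assoc _ i', ← Category.assoc i', hi'q, MonObj.comp_one, _root_.one_mul,
        Category.assoc, reassoc_of% he]
    refine ⟨(snd N' L).left p, ?_⟩
    rw [← Scheme.Hom.comp_apply, ← Over.comp_left, ← e1, Over.comp_left, Scheme.Hom.comp_apply, hp, hx]
  -- `M` is smooth and commutative
  haveI : IsLocallyNoetherian M.left := LocallyOfFiniteType.isLocallyNoetherian M.hom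
  obtain ⟨-, hcomm⟩ := Groth.Agent.S3293.result k M hM
  haveI := hcomm
  haveI : GeometricallyReduced M.hom := by
    let Ω := AlgebraicClosure k
    have hΩ := (Groth.Agent.S19702.result k Ω M).1 hM
    let MΩ := Red.bc (Spec.map (CommRingCat.ofHom (algebraMap k Ω))) M
    haveI : LocallyOfFiniteType MΩ.hom := inferInstanceAs (LocallyOfFiniteType (Limits.pullback.snd M.hom _))
    haveI : QuasiCompact MΩ.hom := inferInstanceAs (QuasiCompact (Limits.pullback.snd M.hom _))
    have hs := (Groth.Agent.S11412.result Ω MΩ hΩ).1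
    haveI hred : IsReduced (FBase.bc M.hom Ω) := by
      haveI := hs
      exact @Groth.Agent.WeilLib.isReduced_of_smooth Ω _ _ MΩ.hom hs
    exact Groth.Agent.S2535.result (k := k) (Ω := Ω) M.hom
  haveI : Flat M.hom := GrpdLib.flat_to_field M.hom k (Iso.refl _)
  haveI : IsReduced M.left := GeometricallyReduced.isReduced_of_flat_of_isLocallyNoetherian M.hom
  -- the affine part of `M`
  let K := Limits.pullback (j ≫ q) η[A]
  let κ : K ⟶ M := Limits.pullback.fst (j ≫ q) η[A]
  have hkerK : AlgGrp.IsKernel κ (j ≫ q) := by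
    have h := IsPullback.of_hasPullback (j ≫ q) η[A]
    rw [toUnit_unique (Limits.pullback.snd (j ≫ q) η[A]) (toUnit _)] at h
    exact h
  haveI : IsClosedImmersion κ.left := by
    haveI : IsClosedImmersion η[A].left := by
      haveI : IsClosedImmersion (η[A].left ≫ A.hom) := by
        rw [Over.w η[A]]; exact inferInstanceAs (IsClosedImmersion (𝟙 (Spec (CommRingCat.of k))))
      exact IsClosedImmersion.of_comp η[A].left A.hom
    exact MorphismProperty.of_isPullback (P := @IsClosedImmersion)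
      ((IsPullback.of_hasPullback (j ≫ q) η[A]).map (Over.forget _)).flip ‹_›
  haveI : Mono κ := Over.mono_of_mono_left _
  obtain ⟨gK, hκ⟩ := Groth.Agent.AlgGrpLib.exists_grpObj_kernel (j ≫ q) κ hkerK
  obtain ⟨v, hv⟩ := Groth.Agent.AlgGrpLib.exists_lift_kernel hq (g := κ ≫ j) (by
    rw [Category.assoc]; exact Groth.Agent.AlgGrpLib.kernel_comp hkerK)
  haveI : IsClosedImmersion v.left := by
    haveI : IsClosedImmersion (v.left ≫ i.left) := by
      rw [← Over.comp_left, hv]; exact inferInstanceAs (IsClosedImmersion (κ.left ≫ j.left))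
    exact IsClosedImmersion.of_comp v.left i.left
  haveI : IsAffine K.left := isAffine_of_isAffineHom v.left
  haveI : LocallyOfFiniteType K.hom := by rw [← Over.w κ]; infer_instance
  haveI : QuasiCompact K.hom := by rw [← Over.w κ]; infer_instance
  have hMc : ∀ {T : Over (Spec (CommRingCat.of k))} (a b : T ⟶ M), a * b = b * a := fun a b => mul_comm a b
  let f : L ⊗ K ⟶ M := (fst L K ≫ e) * (snd L K ≫ κ)
  haveI : IsMonHom f := by
    refine ⟨?_, ?_⟩
    · simp only [f, MonObj.comp_mul, ← Category.assoc, IsMonHom.one_hom (fst L K), IsMonHom.one_hom (snd L K)]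
      rw [IsMonHom.one_hom e, IsMonHom.one_hom κ, MonObj.one_eq_one, _root_.one_mul]
    · have hm : ∀ {T : Over (Spec (CommRingCat.of k))} (a : T ⟶ (L ⊗ K) ⊗ (L ⊗ K)),
          a ≫ μ[L ⊗ K] = (a ≫ fst (L ⊗ K) (L ⊗ K)) * (a ≫ snd (L ⊗ K) (L ⊗ K)) := fun a => by
        rw [← MonObj.comp_mul, Hom.mul_def, lift_fst_snd, Category.id_comp]
      have e1 : μ[L ⊗ K] = fst (L ⊗ K) (L ⊗ K) * snd (L ⊗ K) (L ⊗ K) := by
        rw [Hom.mul_def, lift_fst_snd, Category.id_comp]
      rw [show (f ⊗ₘ f) ≫ μ[M] = (fst (L ⊗ K) (L ⊗ K) ≫ f) * (snd (L ⊗ K) (L ⊗ K) ≫ f) by rw [Hom.mul_def]; congr 1, e1]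
      simp only [f, MonObj.comp_mul]
      simp only [← Category.assoc, MonObj.mul_comp]
      exact mul_mul_mul_comm _ _ _ _
  haveI : Surjective f.left := ⟨fun m => by
    obtain ⟨x, hx⟩ := hLA ((j ≫ q).left m)
    obtain ⟨p, hp1, hp2⟩ := Scheme.Pullback.exists_preimage_pullback (f := (e ≫ j ≫ q).left) (g := (j ≫ q).left) x m hx
    let W : Over (Spec (CommRingCat.of k)) := Over.mk (Limits.pullback.fst (e ≫ j ≫ q).left (j ≫ q).left ≫ L.hom)
    let lw : W ⟶ L := Over.homMk (Limits.pullback.fst (e ≫ j ≫ q).left (j ≫ q).left) rfl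
    let mw : W ⟶ M := Over.homMk (Limits.pullback.snd (e ≫ j ≫ q).left (j ≫ q).left) (by
      show Limits.pullback.snd _ _ ≫ M.hom = Limits.pullback.fst _ _ ≫ L.hom
      rw [← Over.w (j ≫ q), ← Limits.pullback.condition_assoc, Over.w (e ≫ j ≫ q)])
    have hW : (lw ≫ e) ≫ j ≫ q = mw ≫ j ≫ q := by
      rw [Category.assoc]; exact Over.OverMorphism.ext Limits.pullback.condition
    obtain ⟨kw, hkw⟩ := Groth.Agent.AlgGrpLib.exists_lift_kernel hkerK (g := (lw ≫ e)⁻¹ * mw) (by
      rw [MonObj.mul_comp, GrpObj.inv_comp, hW, inv_mul_cancel])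
    have hf' : lift lw kw ≫ f = mw := by
      simp only [f, MonObj.comp_mul, lift_fst_assoc, lift_snd_assoc, hkw]
      exact mul_inv_cancel_left _ _
    refine ⟨(lift lw kw).left p, ?_⟩
    rw [← Scheme.Hom.comp_apply, ← Over.comp_left, hf']
    exact hp2⟩
  haveI : LocallyOfFiniteType (L ⊗ K).hom :=
    inferInstanceAs (LocallyOfFiniteType (Limits.pullback.fst L.hom K.hom ≫ L.hom))
  haveI : QuasiCompact (L ⊗ K).hom :=
    inferInstanceAs (QuasiCompact (Limits.pullback.fst L.hom K.hom ≫ L.hom))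
  haveI : Flat f.left := Groth.Agent.AlgGrpLib.flat_hom_of_surjective f
  haveI : LocallyOfFinitePresentation f.left :=
    Groth.Agent.AlgGrpLib.ExactSeqBasics.locallyOfFinitePresentation_left f
  -- `K ∩ L` and the affine quotient
  let K0 := Limits.pullback κ e
  let κ0 : K0 ⟶ K := Limits.pullback.fst κ e
  haveI : IsClosedImmersion κ0.left := MorphismProperty.of_isPullback (P := @IsClosedImmersion)
    ((IsPullback.of_hasPullback κ e).map (Over.forget _)).flip ‹_›
  haveI : Mono κ0 := Over.mono_of_mono_left _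
  have hc0 : κ0 ≫ κ = Limits.pullback.snd κ e ≫ e := Limits.pullback.condition
  obtain ⟨gK0, hκ0⟩ := Groth.Agent.AlgGrpLib.exists_grpObj_of_mono κ0
    ⟨Limits.pullback.lift 1 1 (by rw [MonObj.one_comp, MonObj.one_comp]), Limits.pullback.lift_fst _ _ _⟩
    ⟨Limits.pullback.lift ((fst K0 K0 ≫ κ0) * (snd K0 K0 ≫ κ0))
      ((fst K0 K0 ≫ Limits.pullback.snd κ e) * (snd K0 K0 ≫ Limits.pullback.snd κ e))
      (by rw [MonObj.mul_comp, MonObj.mul_comp, Category.assoc, Category.assoc, hc0, Category.assoc, Category.assoc]),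
      Limits.pullback.lift_fst _ _ _⟩
    ⟨Limits.pullback.lift κ0⁻¹ (Limits.pullback.snd κ e)⁻¹ (by rw [GrpObj.inv_comp, GrpObj.inv_comp, hc0]),
      Limits.pullback.lift_fst _ _ _⟩
  have hn0 : AlgGrp.IsNormalHom κ0 := fun T g n => ⟨n, by
    rw [← cancel_mono κ, MonObj.mul_comp, MonObj.mul_comp, GrpObj.inv_comp, hMc (g ≫ κ), mul_inv_cancel_right]⟩
  obtain ⟨Q, gQ, π, hπ, hQaff, -, -, -, hkerπ⟩ := Groth.Agent.S3278.result k K K0 κ0 hn0
  obtain ⟨u, hu⟩ := Groth.Agent.GrpQLib.exists_desc_fppf f (snd L K ≫ π) (fun {T} a b hab => by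
    simp only [f, MonObj.comp_mul] at hab
    have e1 : (((a ≫ snd L K) * (b ≫ snd L K)⁻¹) ≫ κ) = ((a ≫ fst L K)⁻¹ * (b ≫ fst L K)) ≫ e := by
      simp only [MonObj.mul_comp, GrpObj.inv_comp, Category.assoc]
      rw [mul_inv_eq_iff_eq_mul, _root_.mul_assoc, ← hab, inv_mul_cancel_left]
    let z : T ⟶ K0 := Limits.pullback.lift _ _ e1
    have hz : z ≫ κ0 = (a ≫ snd L K) * (b ≫ snd L K)⁻¹ := Limits.pullback.lift_fst _ _ _
    have e2 := congrArg (· ≫ π) hz
    simp only [Category.assoc, Groth.Agent.AlgGrpLib.kernel_comp hkerπ, MonObj.comp_one, MonObj.mul_comp,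
      GrpObj.inv_comp] at e2
    exact mul_inv_eq_one.1 e2.symm)
  haveI : CompactSpace M.left := QuasiCompact.compactSpace_of_compactSpace M.hom
  have hconst := Groth.Agent.AlgGrpLib.eq_const_of_affine (Groth.Agent.AlgGrpLib.bijective_appTop_of_const hM) η[M] u
  have hκu : κ ≫ u = π := by
    have e1 : lift (1 : K ⟶ L) (𝟙 K) ≫ f = κ := by
      simp only [f, MonObj.comp_mul, lift_fst_assoc, lift_snd_assoc, MonObj.one_comp, Category.id_comp, _root_.one_mul]
    rw [← e1, Category.assoc, hu, lift_snd_assoc, Category.id_comp]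
  have hηu : η[M] ≫ u = η[Q] := by
    rw [← IsMonHom.one_hom κ, Category.assoc, hκu, IsMonHom.one_hom]
  have hπ1 : π = 1 := by
    rw [← hκu, hconst, ← Category.assoc, comp_toUnit, hηu, ← Hom.one_def]
  obtain ⟨z, hz⟩ := Groth.Agent.AlgGrpLib.exists_lift_kernel hkerπ (g := 𝟙 K) (by rw [Category.id_comp, hπ1])
  have hfe : f = (fst L K * (snd L K ≫ z ≫ Limits.pullback.snd κ e)) ≫ e := by
    rw [MonObj.mul_comp, Category.assoc (snd L K), Category.assoc z, ← hc0, reassoc_of% hz]
  haveI : Surjective e.left := ⟨fun m => by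
    obtain ⟨p, hp⟩ := f.left.surjective m
    refine ⟨(fst L K * (snd L K ≫ z ≫ Limits.pullback.snd κ e)).left p, ?_⟩
    rw [← Scheme.Hom.comp_apply, ← Over.comp_left, ← hfe]
    exact hp⟩
  haveI : IsIso e.left := isIso_of_isClosedImmersion_of_surjective _
  haveI : IsIso ((Over.forget _).map e) := ‹IsIso e.left›
  haveI : IsIso e := isIso_of_reflects_iso e (Over.forget _)
  exact ⟨inv e ≫ l, by rw [Category.assoc, IsIso.inv_comp_eq, he]⟩

end Groth.Agent.S19705
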