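import Groth.Statements.S14587
import Groth.Agent.HopfQuot.ReducedSection
import Mathlib.AlgebraicGeometry.Morphisms.FormallyUnramified
import Mathlib.AlgebraicGeometry.Morphisms.Finite
import Groth.Agent.CubeLib.Infinitesimal

set_option backward.isDefEq.respectTransparency.types false

set_option autoImplicit false
universe u
open CategoryTheory MonoidalCategory CartesianMonoidalCategory MonObj GrpObj AlgebraicGeometry CategoryTheory.Limits
open AlgGrp

namespace Groth.Agent.S14587

/-- Let k be a perfect field and G a finite k-group scheme, r : G_red → G its reduced subgroup scheme (a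
homomorphism and closed immersion from a reduced k-group scheme, surjective on underlying spaces)
and i₀ : G⁰ → G its neutral component (a homomorphism and open immersion from a connected k-group
scheme). Then the multiplication morphism G_red × G⁰ → G is an isomorphism, exhibiting G as the
semi-direct product of G⁰ by G_red. -/
theorem result (k : Type u) [Field k] [PerfectField k]
    (G Gr G₀ : Over (Spec (CommRingCat.of k))) [GrpObj G] [GrpObj Gr] [GrpObj G₀] [IsFinite G.hom]
    (r : Gr ⟶ G) [IsMonHom r] [IsClosedImmersion r.left] [IsReduced Gr.left] [Surjective r.left]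
    (i₀ : G₀ ⟶ G) [IsMonHom i₀] [IsOpenImmersion i₀.left] [ConnectedSpace ↥G₀.left] :
    IsIso ((r ⊗ₘ i₀) ≫ μ[G]) := by
  haveI : IsAffine G.left := isAffine_of_isAffineHom G.hom
  haveI : IsAffine Gr.left := isAffine_of_isAffineHom r.left
  haveI : IsFinite Gr.hom := by rw [← Over.w r]; infer_instance
  haveI : CompactSpace G.left := inferInstance
  let sk := (Scheme.ΓSpecIso (CommRingCat.of k)).inv
  letI : Algebra k Γ(G.left, ⊤) := (sk ≫ G.hom.appTop).hom.toAlgebra
  letI : Algebra k Γ(Gr.left, ⊤) := (sk ≫ Gr.hom.appTop).hom.toAlgebra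
  haveI : Module.Finite k Γ(Gr.left, ⊤) := by
    have h1 : (Gr.hom.appTop).hom.Finite := IsFinite.finite_app (U := ⊤) Gr.hom (isAffineOpen_top _)
    have h2 : sk.hom.Finite := RingHom.Finite.of_surjective _ (ConcreteCategory.bijective_of_isIso sk).2
    exact h1.comp h2
  haveI : _root_.IsReduced Γ(Gr.left, ⊤) := IsReduced.component_reduced ⊤
  haveI hfe : Algebra.FormallyEtale k Γ(Gr.left, ⊤) :=
    Groth.Agent.HopfQuot.RedSection.formallyEtale_of_isReduced k _
  haveI : FormallyUnramified Gr.hom := by
    rw [HasRingHomProperty.iff_of_isAffine (P := @FormallyUnramified)]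
    have h1 : RingHom.FormallyUnramified (sk ≫ Gr.hom.appTop).hom := inferInstanceAs (Algebra.FormallyUnramified k Γ(Gr.left, ⊤))
    exact RingHom.FormallyUnramified.of_comp h1
  -- the retraction
  let f : Γ(G.left, ⊤) →ₐ[k] Γ(Gr.left, ⊤) :=
    { toRingHom := r.left.appTop.hom
      commutes' := fun c => (congrArg (fun φ : Gr.left ⟶ Spec (CommRingCat.of k) => φ.appTop (sk c)) (Over.w r)).symm.symm }
  have hf : Function.Surjective f := Scheme.Hom.app_surjective r.left ⊤ (isAffineOpen_top _)
  have hnil : IsNilpotent (RingHom.ker f) := by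
    haveI : IsLocallyNoetherian G.left := LocallyOfFiniteType.isLocallyNoetherian G.hom
    haveI : IsNoetherianRing Γ(G.left, ⊤) := IsLocallyNoetherian.component_noetherian ⟨⊤, isAffineOpen_top _⟩
    refine (Ideal.FG.isNilpotent_iff_le_nilradical (IsNoetherian.noetherian _)).2 fun a ha => ?_
    refine mem_nilradical.2 ((Scheme.isNilpotent_iff_basicOpen_eq_bot a).2 ?_)
    refine eq_bot_iff.2 fun x hx => ?_
    obtain ⟨y, rfl⟩ := r.left.surjective x
    have h1 : y ∈ r.left ⁻¹ᵁ G.left.basicOpen a := hx
    rw [Scheme.preimage_basicOpen] at h1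
    have h0 : r.left.app ⊤ a = 0 := ha
    rw [h0, Scheme.basicOpen_zero] at h1
    exact absurd h1 (by simp)
  let s : Γ(Gr.left, ⊤) →ₐ[k] Γ(G.left, ⊤) :=
    Algebra.FormallySmooth.liftOfSurjective (AlgHom.id k _) f hf hnil
  have hs : ∀ b, f (s b) = b := fun b => Algebra.FormallySmooth.liftOfSurjective_apply (AlgHom.id k _) f hf hnil b
  let πl : G.left ⟶ Gr.left := G.left.toSpecΓ ≫ Spec.map (CommRingCat.ofHom s.toRingHom) ≫ CategoryTheory.inv Gr.left.toSpecΓ
  have hπl : πl.appTop = CommRingCat.ofHom s.toRingHom := by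
    have e : πl ≫ Gr.left.toSpecΓ = G.left.toSpecΓ ≫ Spec.map (CommRingCat.ofHom s.toRingHom) := by simp [πl]
    rw [Scheme.toSpecΓ_naturality, cancel_epi] at e
    exact Spec.map_injective e
  have hπw : πl ≫ Gr.hom = G.hom := by
    refine ext_of_isAffine ?_
    rw [Scheme.Hom.comp_appTop, hπl]
    refine CommRingCat.hom_ext (RingHom.ext fun c => ?_)
    obtain ⟨c, rfl⟩ := (ConcreteCategory.bijective_of_isIso sk).2 c
    exact s.commutes c
  let π : G ⟶ Gr := Over.homMk πl hπw
  have hrπ : r ≫ π = 𝟙 Gr := by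
    refine Over.OverMorphism.ext (ext_of_isAffine ?_)
    show (r.left ≫ πl).appTop = (𝟙 Gr.left : Gr.left ⟶ Gr.left).appTop
    rw [Scheme.Hom.comp_appTop, hπl, Scheme.Hom.id_appTop]
    exact CommRingCat.hom_ext (RingHom.ext hs)
  -- the component in G⁰
  let t : G ⟶ G := (π ≫ r)⁻¹ * 𝟙 G
  have hrt : r ≫ t = 1 := by
    simp only [t, MonObj.comp_mul, GrpObj.comp_inv, reassoc_of% hrπ, Category.comp_id, inv_mul_cancel]
  have htr : Set.range t.left.base ⊆ Set.range i₀.left.base := by
    rintro _ ⟨x, rfl⟩
    obtain ⟨y, rfl⟩ := r.left.surjective x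
    refine ⟨(1 : Gr ⟶ G₀).left.base y, ?_⟩
    show ((1 : Gr ⟶ G₀) ≫ i₀).left.base y = (r ≫ t).left.base y
    rw [hrt, MonObj.one_comp]
  let t' : G ⟶ G₀ := Over.homMk (IsOpenImmersion.lift i₀.left t.left htr)
    (by rw [← Over.w i₀, ← Category.assoc, IsOpenImmersion.lift_fac, Over.w t])
  have ht' : t' ≫ i₀ = t := Over.OverMorphism.ext (IsOpenImmersion.lift_fac _ _ htr)
  have hm : (r ⊗ₘ i₀) ≫ μ[G] = (fst Gr G₀ ≫ r) * (snd Gr G₀ ≫ i₀) := by
    rw [Hom.mul_def]; congr 1
  -- `G⁰` is a point
  haveI : IsSeparated G.hom := inferInstance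
  haveI : DiscreteTopology G.left := by
    haveI : Module.Finite k Γ(G.left, ⊤) := by
      have h1 : (G.hom.appTop).hom.Finite := IsFinite.finite_app (U := ⊤) G.hom (isAffineOpen_top _)
      have h2 : sk.hom.Finite := RingHom.Finite.of_surjective _ (ConcreteCategory.bijective_of_isIso sk).2
      exact h1.comp h2
    haveI : IsArtinianRing Γ(G.left, ⊤) := IsArtinianRing.of_finite k _
    exact G.left.isoSpec.hom.homeomorph.symm.discreteTopology
  haveI : IsFinite G₀.hom := by
    have hcl : IsClosed (Set.range i₀.left.base) := by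
      exact isClosed_discrete _
    haveI : IsClosedImmersion i₀.left := IsClosedImmersion.of_isPreimmersion i₀.left hcl
    rw [← Over.w i₀]; infer_instance
  haveI : DiscreteTopology G₀.left := i₀.left.isOpenEmbedding.discreteTopology
  haveI : Subsingleton G₀.left := Set.subsingleton_univ_iff.1 isPreconnected_univ.subsingleton
  have hmπ : ((fst Gr G₀ ≫ r) * (snd Gr G₀ ≫ i₀)) ≫ π = fst Gr G₀ := by
    set A := ((fst Gr G₀ ≫ r) * (snd Gr G₀ ≫ i₀)) ≫ π
    set B := fst Gr G₀
    let d := Limits.pullback.lift A.left B.left ((Over.w A).trans (Over.w B).symm)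
    let eq := Limits.pullback.fst d (Limits.pullback.diagonal Gr.hom)
    haveI : IsOpenImmersion eq := inferInstance
    haveI : Surjective η[G₀].left := ⟨fun x => ⟨IsLocalRing.closedPoint k, Subsingleton.elim _ _⟩⟩
    have hsur : Surjective (Gr ◁ η[G₀]).left := Groth.Agent.CubeLib.surjective_whisker Gr η[G₀]
    have hagree : (Gr ◁ η[G₀]) ≫ A = (Gr ◁ η[G₀]) ≫ B := by
      simp only [A, B]
      rw [← Category.assoc, MonObj.comp_mul, whiskerLeft_fst_assoc, whiskerLeft_snd_assoc, IsMonHom.one_hom]
      rw [MonObj.one_eq_one, MonObj.comp_one, _root_.mul_one, Category.assoc, hrπ, Category.comp_id, whiskerLeft_fst]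
    haveI : Surjective eq := by
      refine ⟨fun x => ?_⟩
      obtain ⟨y, rfl⟩ := hsur.surj x
      let l := Limits.pullback.lift (Gr ◁ η[G₀]).left ((Gr ◁ η[G₀]).left ≫ A.left) (f := d) (g := Limits.pullback.diagonal Gr.hom) (by
        apply Limits.pullback.hom_ext
        · simp only [Category.assoc, Limits.pullback.diagonal_fst, Category.comp_id]
          exact congrArg ((Gr ◁ η[G₀]).left ≫ ·) (Limits.pullback.lift_fst _ _ _)
        · simp only [Category.assoc, Limits.pullback.diagonal_snd, Category.comp_id]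
          exact (congrArg ((Gr ◁ η[G₀]).left ≫ ·) (Limits.pullback.lift_snd _ _ _)).trans (congrArg CommaMorphism.left hagree).symm)
      exact ⟨l.base y, congrArg (fun φ : _ ⟶ (Gr ⊗ G₀).left => φ.base y) (Limits.pullback.lift_fst _ _ _)⟩
    haveI : IsIso eq := by
      haveI : Epi eq.base := (TopCat.epi_iff_surjective _).2 eq.surjective
      exact IsOpenImmersion.isIso eq
    have hc := Limits.pullback.condition (f := d) (g := Limits.pullback.diagonal Gr.hom)
    have h1 := congrArg (· ≫ Limits.pullback.fst _ _) hc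
    have h2 := congrArg (· ≫ Limits.pullback.snd _ _) hc
    simp only [d, Category.assoc, Limits.pullback.lift_fst, Limits.pullback.lift_snd, Limits.pullback.diagonal_fst,
      Limits.pullback.diagonal_snd, Category.comp_id] at h1 h2
    exact Over.OverMorphism.ext ((cancel_epi eq).1 (h1.trans h2.symm))
  haveI : Mono i₀ := Over.mono_of_mono_left _
  rw [hm]
  refine ⟨lift π t', ?_, ?_⟩
  · refine CartesianMonoidalCategory.hom_ext _ _ ?_ ?_
    · rw [Category.assoc, lift_fst, hmπ, Category.id_comp]
    · rw [← cancel_mono i₀, Category.assoc, Category.assoc, lift_snd_assoc, ht', Category.id_comp]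
      simp only [t, MonObj.comp_mul, GrpObj.comp_inv, reassoc_of% hmπ, Category.comp_id, inv_mul_cancel_left]
  · simp only [MonObj.comp_mul, lift_fst_assoc, lift_snd_assoc, ht', t, mul_inv_cancel_left]

end Groth.Agent.S14587
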