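import Groth.Statements.S14588
import Groth.Agent.H8Top.SchemeComponents
import Groth.Agent.GrpActLib.SmoothLocusGroup

set_option autoImplicit false
universe u
open CategoryTheory MonoidalCategory CartesianMonoidalCategory MonObj GrpObj AlgebraicGeometry CategoryTheory.Limits
open AlgGrp

namespace Groth.Agent.S14588

/-- Let k be a field with algebraic closure K and G a k-group scheme locally of finite type. If the
local ring of G_K at its unit point is reduced, then G is smooth over k. -/
theorem result (k : Type u) [Field k]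
    (G : Over (Spec (CommRingCat.of k))) [GrpObj G] [LocallyOfFiniteType G.hom]
    (t : ↥((𝟙_ (Over (Spec (CommRingCat.of (AlgebraicClosure k))))).left))
    (h : _root_.IsReduced ↑((Red.bc (Spec.map (CommRingCat.ofHom (algebraMap k (AlgebraicClosure k)))) G).left.presheaf.stalk ((η[Red.bc (Spec.map (CommRingCat.ofHom (algebraMap k (AlgebraicClosure k)))) G]).left.base t))) :
    Smooth G.hom := by
  let K := AlgebraicClosure k
  let g : Spec (.of K) ⟶ Spec (.of k) := Spec.map (CommRingCat.ofHom (algebraMap k K))
  let GK := Red.bc g G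
  haveI : LocallyOfFiniteType GK.hom := inferInstanceAs (LocallyOfFiniteType (pullback.snd G.hom g))
  haveI : LocallyOfFinitePresentation GK.hom := inferInstance
  letI : GrpObj (Over.mk GK.hom) := (inferInstance : GrpObj GK)
  haveI : IsLocallyNoetherian GK.left := LocallyOfFiniteType.isLocallyNoetherian GK.hom
  obtain ⟨U, hxU, hUred⟩ := @H8Top.exists_reduced_nhd GK.left _ _ h
  haveI := hUred
  have hK : Smooth GK.hom := by
    refine GrpActLib.smooth_of_smoothLocus_nonempty GK.hom ?_
    haveI : Nonempty (U : Scheme.{u}) := ⟨⟨_, hxU⟩⟩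
    obtain ⟨y, hy⟩ := (U.ι ≫ GK.hom).dense_smoothLocus_of_perfectField.nonempty
    refine ⟨U.ι y, ?_⟩
    rw [← Scheme.Hom.preimage_smoothLocus_eq U.ι GK.hom] at hy
    exact hy
  exact MorphismProperty.of_pullback_snd_of_descendsAlong (P := @Smooth)
    (Q := @Surjective ⊓ @Flat ⊓ @QuasiCompact) (f := G.hom) (g := g)
    ⟨⟨inferInstance, inferInstance⟩, inferInstance⟩ hK

end Groth.Agent.S14588
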