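import Groth.Statements.S14589
import Groth.Agent.AlgGrpLib.AffineCriterion
import Groth.Agent.AlgGrpLib.ExactSeqBasics
import Groth.Agent.GrpQLib.FlatKernel
import Groth.Agent.SGA3cLib.MonoClosed
import Groth.Agent.GrpdLib.SmoothOverField
import Groth.Agent.S3278
set_option backward.isDefEq.respectTransparency.types false

set_option autoImplicit false
universe u
open CategoryTheory MonoidalCategory CartesianMonoidalCategory MonObj GrpObj AlgebraicGeometry CategoryTheory.Limits
open AlgGrp

namespace Groth.Agent.S14589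

/-- Let k be a field, G a k-group scheme of finite type, i : N → G a closed normal subgroup scheme and q
: G → Q a flat surjective homomorphism of k-group schemes of finite type with kernel N (Q = G/N).
Let j : M → G and j' : M' → Q be the largest anti-affine subgroup schemes of G and of Q (closed
subgroup schemes of finite type with only constant global functions through which every other such
subgroup scheme factors). Then q maps M onto M': the image of M → G → Q equals the underlying set of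
M'. Since M' is smooth, this is the statement that G_ant/(G_ant ∩ N) → (G/N)_ant is an isomorphism. -/
theorem result (k : Type u) [Field k]
    (G : Over (Spec (CommRingCat.of k))) [GrpObj G] [LocallyOfFiniteType G.hom] [QuasiCompact G.hom]
    (N : Over (Spec (CommRingCat.of k))) [GrpObj N] (i : N ⟶ G) [IsMonHom i] [IsClosedImmersion i.left] (hN : AlgGrp.IsNormalHom i)
    (Q : Over (Spec (CommRingCat.of k))) [GrpObj Q] [LocallyOfFiniteType Q.hom] [QuasiCompact Q.hom]
    (q : G ⟶ Q) [IsMonHom q] [Surjective q.left] [Flat q.left] (hq : AlgGrp.IsKernel i q)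
    (M : Over (Spec (CommRingCat.of k))) [GrpObj M] [LocallyOfFiniteType M.hom] [QuasiCompact M.hom] (j : M ⟶ G) [IsMonHom j] [IsClosedImmersion j.left]
    (hM : Function.Bijective ((Scheme.ΓSpecIso (CommRingCat.of k)).inv ≫ M.hom.appTop).hom)
    (hMmax : ∀ (M₁ : Over (Spec (CommRingCat.of k))) [GrpObj M₁] [LocallyOfFiniteType M₁.hom] [QuasiCompact M₁.hom] (j₁ : M₁ ⟶ G) [IsMonHom j₁] [IsClosedImmersion j₁.left],
      Function.Bijective ((Scheme.ΓSpecIso (CommRingCat.of k)).inv ≫ M₁.hom.appTop).hom → ∃ g : M₁ ⟶ M, g ≫ j = j₁)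
    (M' : Over (Spec (CommRingCat.of k))) [GrpObj M'] [LocallyOfFiniteType M'.hom] [QuasiCompact M'.hom] (j' : M' ⟶ Q) [IsMonHom j'] [IsClosedImmersion j'.left]
    (hM' : Function.Bijective ((Scheme.ΓSpecIso (CommRingCat.of k)).inv ≫ M'.hom.appTop).hom)
    (hM'max : ∀ (M₁ : Over (Spec (CommRingCat.of k))) [GrpObj M₁] [LocallyOfFiniteType M₁.hom] [QuasiCompact M₁.hom] (j₁ : M₁ ⟶ Q) [IsMonHom j₁] [IsClosedImmersion j₁.left],
      Function.Bijective ((Scheme.ΓSpecIso (CommRingCat.of k)).inv ≫ M₁.hom.appTop).hom → ∃ g : M₁ ⟶ M', g ≫ j' = j₁) :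
    Set.range ⇑(j ≫ q).left.base = Set.range ⇑j'.left.base := by
  have hM0 := Groth.Agent.AlgGrpLib.bijective_appTop_of_const hM
  have hM'0 := Groth.Agent.AlgGrpLib.bijective_appTop_of_const hM'
  haveI : IsLocallyNoetherian G.left := LocallyOfFiniteType.isLocallyNoetherian G.hom
  haveI : IsLocallyNoetherian Q.left := LocallyOfFiniteType.isLocallyNoetherian Q.hom
  haveI : LocallyOfFinitePresentation G.hom := inferInstance
  haveI : QuasiCompact q.left := by
    haveI : QuasiCompact (q.left ≫ Q.hom) := by rw [Over.w]; infer_instance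
    exact QuasiCompact.of_comp q.left Q.hom
  have hbij : ∀ {Y : Over (Spec (CommRingCat.of k))}, Function.Bijective Y.hom.appTop →
      Function.Bijective ((Scheme.ΓSpecIso (CommRingCat.of k)).inv ≫ Y.hom.appTop).hom := fun h => by
    rw [CommRingCat.hom_comp, RingHom.coe_comp]
    exact Function.Bijective.comp h (ConcreteCategory.bijective_of_isIso (Scheme.ΓSpecIso (CommRingCat.of k)).inv)
  apply Set.Subset.antisymm
  · obtain ⟨gA, hr, N2, gN2, i2, hi2, hci2, hl2, hqc2, hb2, -, -, -, hker2⟩ :=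
      Groth.Agent.AlgGrpLib.AffineHull.exists_antiAffine_kernel Q
    obtain ⟨a, ha⟩ := Groth.Agent.AlgGrpLib.exists_lift_kernel hker2 (g := j ≫ q)
      (Groth.Agent.AlgGrpLib.AffineHull.eq_one_of_isAffine hM0 ((j ≫ q) ≫ Groth.Agent.AlgGrpLib.toAffOf Q))
    obtain ⟨m, hm⟩ := hM'max N2 i2 (hbij hb2)
    rintro _ ⟨x, rfl⟩
    exact ⟨(a ≫ m).left x, by rw [← ha, ← hm]; simp⟩
  -- the affinization of `G` and the image of `N`
  obtain ⟨gA, hr, N1, gN1, i1, hi1, hci1, hl1, hqc1, hb1, hAl, hrf, hrs, hker1⟩ :=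
    Groth.Agent.AlgGrpLib.AffineHull.exists_antiAffine_kernel G
  obtain ⟨e1, he1⟩ := hMmax N1 i1 (hbij hb1)
  let A := Groth.Agent.AlgGrpLib.affOf G
  let r : G ⟶ A := Groth.Agent.AlgGrpLib.toAffOf G
  haveI : IsAffine A.left := inferInstanceAs (IsAffine (Spec _))
  haveI : QuasiCompact r.left := by
    haveI : QuasiCompact (r.left ≫ A.hom) := by rw [Over.w]; infer_instance
    exact QuasiCompact.of_comp r.left A.hom
  haveI : LocallyOfFiniteType N.hom := by rw [← Over.w i]; infer_instance
  haveI : QuasiCompact N.hom := by rw [← Over.w i]; infer_instance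
  haveI : IsLocallyNoetherian N.left := LocallyOfFiniteType.isLocallyNoetherian N.hom
  haveI : LocallyOfFinitePresentation N.hom := inferInstance
  obtain ⟨B, gB, ρ, kB, hρ, hkB, hfac, hρs, hρf, -, hmono, hBl, -⟩ :=
    Groth.Agent.GrpQLib.exists_image (i ≫ r) (GrpdLib.flat_to_field _ k (Iso.refl _))
  haveI : QuasiCompact B.hom := by
    haveI : CompactSpace N.left := QuasiCompact.compactSpace_of_compactSpace N.hom
    haveI : CompactSpace B.left := ⟨by
      rw [← Set.range_eq_univ.2 ρ.left.surjective]; exact isCompact_range ρ.left.continuous⟩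
    exact (quasiCompact_iff_compactSpace B.hom).2 inferInstance
  haveI : IsSeparated B.hom := Groth.Agent.SGA3xLib.isSeparated_of_grpObj B
  haveI : QuasiCompact ρ.left := by
    haveI : QuasiCompact (ρ.left ≫ B.hom) := by rw [Over.w]; infer_instance
    exact QuasiCompact.of_comp ρ.left B.hom
  haveI : QuasiCompact kB.left := by
    haveI : QuasiCompact (kB.left ≫ A.hom) := by rw [Over.w]; infer_instance
    exact QuasiCompact.of_comp kB.left A.hom
  haveI : IsClosedImmersion kB.left := Groth.Agent.SGA3cLib.isClosedImmersion_of_mono kB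
  have hnB : AlgGrp.IsNormalHom kB := by
    intro T a b
    obtain ⟨T₁, c₁, g, hc₁s, hc₁f, hc₁q, hg⟩ := Groth.Agent.AlgGrpLib.exists_lift_cover r a
    obtain ⟨T₂, c₂, n, hc₂s, hc₂f, hc₂q, hn⟩ := Groth.Agent.AlgGrpLib.exists_lift_cover ρ (c₁ ≫ b)
    obtain ⟨n', hn'⟩ := hN T₂ (c₂ ≫ g) n
    haveI : Surjective (c₂ ≫ c₁).left := ⟨fun z => by
      obtain ⟨z', hz'⟩ := c₁.left.surjective z
      obtain ⟨w, hw⟩ := c₂.left.surjective z'
      exact ⟨w, by rw [Over.comp_left, Scheme.Hom.comp_apply, hw, hz']⟩⟩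
    haveI : Flat (c₂ ≫ c₁).left := MorphismProperty.comp_mem @Flat _ _ hc₂f hc₁f
    haveI : QuasiCompact (c₂ ≫ c₁).left := MorphismProperty.comp_mem @QuasiCompact _ _ hc₂q hc₁q
    obtain ⟨y, hy⟩ := Groth.Agent.AlgGrpLib.exists_factor_of_cover (c₂ ≫ c₁) kB (a * (b ≫ kB) * a⁻¹) (n' ≫ ρ) (by
      have e := congrArg (· ≫ r) hn'
      simp only [MonObj.mul_comp, GrpObj.inv_comp, Category.assoc, ← hfac, hg] at e
      rw [Category.assoc, MonObj.comp_mul, MonObj.comp_mul, GrpObj.comp_inv, Category.assoc, Category.assoc,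
        ← reassoc_of% hn]
      exact e.symm)
    exact ⟨y, hy.symm⟩
  obtain ⟨A', gA', π, hπ, hA'aff, -, -, -, hkerπ⟩ := Groth.Agent.S3278.result k A B kB hnB
  obtain ⟨u, hu⟩ := Groth.Agent.AlgGrpLib.ExactSeqBasics.exists_desc q hq (r ≫ π) (by
    rw [← Category.assoc, ← hfac, Category.assoc, Groth.Agent.AlgGrpLib.kernel_comp hkerπ, MonObj.comp_one])
  haveI : Epi q := by
    haveI : Epi q.left := Flat.epi_of_flat_of_surjective q.left
    exact Over.epi_of_epi_left _
  haveI : IsMonHom (r ≫ π) := inferInstance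
  haveI : IsMonHom u := ⟨by
    rw [← IsMonHom.one_hom q, Category.assoc, hu, IsMonHom.one_hom (r ≫ π)], by
    haveI : Epi (q ⊗ₘ q) := by
      haveI : Surjective (q ⊗ₘ q).left := MorphismProperty.pullbackMap (P := @Surjective)
        ‹Surjective q.left› ‹Surjective q.left› (Over.w q).symm (Over.w q).symm
      haveI : Flat (q ⊗ₘ q).left := MorphismProperty.pullbackMap (P := @Flat)
        ‹Flat q.left› ‹Flat q.left› (Over.w q).symm (Over.w q).symm
      haveI : QuasiCompact (q ⊗ₘ q).left := MorphismProperty.pullbackMap (P := @QuasiCompact)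
        ‹QuasiCompact q.left› ‹QuasiCompact q.left› (Over.w q).symm (Over.w q).symm
      haveI : Epi (q ⊗ₘ q).left := Flat.epi_of_flat_of_surjective (q ⊗ₘ q).left
      exact Over.epi_of_epi_left _
    rw [← cancel_epi (q ⊗ₘ q), ← Category.assoc, ← IsMonHom.mul_hom q, Category.assoc, hu,
      IsMonHom.mul_hom (r ≫ π), tensorHom_comp_tensorHom_assoc, hu]⟩
  have hju : j' ≫ u = 1 := Groth.Agent.AlgGrpLib.AffineHull.eq_one_of_isAffine hM'0 (j' ≫ u)
  rintro _ ⟨x, rfl⟩
  let P := pullback j' q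
  let g := pullback.snd j' q
  let p0 := pullback.fst j' q
  have hgr : (g ≫ r) ≫ π = 1 := by
    rw [Category.assoc, ← hu, ← Category.assoc, ← pullback.condition, Category.assoc, hju, MonObj.comp_one]
  obtain ⟨b, hb⟩ := Groth.Agent.AlgGrpLib.exists_lift_kernel hkerπ hgr
  obtain ⟨P', c, n, hcs, hcf, hcq, hn⟩ := Groth.Agent.AlgGrpLib.exists_lift_cover ρ b
  obtain ⟨m0, hm0⟩ := Groth.Agent.AlgGrpLib.exists_lift_kernel hker1 (g := (c ≫ g) * (n ≫ i)⁻¹) (by
    rw [MonObj.mul_comp, GrpObj.inv_comp, Category.assoc, Category.assoc, ← hfac, ← Category.assoc n ρ, hn,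
      Category.assoc, hb, mul_inv_cancel])
  have hkey : (m0 ≫ e1) ≫ j ≫ q = (c ≫ p0) ≫ j' := by
    rw [Category.assoc m0, reassoc_of% he1, reassoc_of% hm0, MonObj.mul_comp, GrpObj.inv_comp, Category.assoc n,
      Groth.Agent.AlgGrpLib.kernel_comp hq, MonObj.comp_one, inv_one, _root_.mul_one, Category.assoc c g,
      Category.assoc c p0]
    show c ≫ pullback.snd j' q ≫ q = c ≫ pullback.fst j' q ≫ j'
    rw [pullback.condition]
  haveI : Surjective p0.left :=
    MorphismProperty.of_isPullback (P := @Surjective) ((IsPullback.of_hasPullback j' q).map (Over.forget _)).flip ‹_›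
  obtain ⟨p, hp⟩ := p0.left.surjective x
  obtain ⟨p', hp'⟩ := c.left.surjective p
  refine ⟨(m0 ≫ e1).left p', ?_⟩
  have h := congr($(congrArg CommaMorphism.left hkey) p')
  simp only [Over.comp_left, Scheme.Hom.comp_apply, hp', hp] at h ⊢
  exact h

end Groth.Agent.S14589
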