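import Groth.Statements.S1459
import Groth.Agent.FlatMorSlice.Bridge
import Groth.Agent.FlatMorSlice.BaseChange
import Mathlib.AlgebraicGeometry.Morphisms.FinitePresentation
-- import your own Groth.Agent.* helpers here

set_option autoImplicit false
set_option backward.isDefEq.respectTransparency false
universe u
open FlatMor

namespace Groth.Agent.S1459

open AlgebraicGeometry CategoryTheory Limits in
/-- Let f : X → S be locally of finite presentation and flat at x with image s, and let h_1, …, h_r be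
elements of O_{X,x} whose images in O_{X,x} / m_s O_{X,x} form a regular sequence. Then there are an
affine open U ∋ x and sections on U with these germs such that the closed subscheme Z of U they cut
out is a regular closed immersion whose image contains x, Z → S is flat and locally of finite
presentation, and the base change of Z → U along any S' → S is again a regular closed immersion. -/
theorem result {X S : Scheme.{u}} (f : X ⟶ S) [LocallyOfFinitePresentation f] (x : X)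
    (hflat : (f.stalkMap x).hom.Flat) (hs : List ↑(X.presheaf.stalk x))
    (hreg : RingTheory.Sequence.IsRegular (↑(X.presheaf.stalk x) ⧸ Ideal.map (f.stalkMap x).hom (IsLocalRing.maximalIdeal ↑(S.presheaf.stalk (f x))))
      (hs.map (Ideal.Quotient.mk (Ideal.map (f.stalkMap x).hom (IsLocalRing.maximalIdeal ↑(S.presheaf.stalk (f x))))))) :
    ∃ (U : X.Opens) (hU : IsAffineOpen U) (hx : x ∈ U) (hs' : List Γ(X, U)), hs'.map (X.presheaf.germ U x hx) = hs ∧
      Mor2.IsRegularClosedImmersion (Spec.map (CommRingCat.ofHom (Ideal.Quotient.mk (Ideal.ofList hs'))) ≫ hU.isoSpec.inv) ∧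
      x ∈ Set.range ⇑(Spec.map (CommRingCat.ofHom (Ideal.Quotient.mk (Ideal.ofList hs'))) ≫ hU.fromSpec) ∧
      Flat (Spec.map (CommRingCat.ofHom (Ideal.Quotient.mk (Ideal.ofList hs'))) ≫ hU.fromSpec ≫ f) ∧ LocallyOfFinitePresentation (Spec.map (CommRingCat.ofHom (Ideal.Quotient.mk (Ideal.ofList hs'))) ≫ hU.fromSpec ≫ f) ∧
      ∀ (S' : Scheme.{u}) (g : S' ⟶ S), Mor2.IsRegularClosedImmersion
        (pullback.map (Spec.map (CommRingCat.ofHom (Ideal.Quotient.mk (Ideal.ofList hs'))) ≫ hU.isoSpec.inv ≫ U.ι ≫ f) g (U.ι ≫ f) g (Spec.map (CommRingCat.ofHom (Ideal.Quotient.mk (Ideal.ofList hs'))) ≫ hU.isoSpec.inv) (𝟙 S') (𝟙 S)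
          (Category.comp_id _) ((Category.comp_id g).trans (Category.id_comp g).symm)) := by
  obtain ⟨_, ⟨T, (hT : IsAffineOpen T), rfl⟩, hsT, -⟩ := S.isBasis_affineOpens.exists_subset_of_mem_open
    (Set.mem_univ (f x)) isOpen_univ
  obtain ⟨_, ⟨U₀, (hU₀ : IsAffineOpen U₀), rfl⟩, hxU₀, hU₀T⟩ := X.isBasis_affineOpens.exists_subset_of_mem_open
    (show x ∈ f ⁻¹ᵁ T from hsT) (f ⁻¹ᵁ T).isOpen
  replace hU₀T : U₀ ≤ f ⁻¹ᵁ T := hU₀T
  -- the germs as sections on an affine open
  let _ : Algebra Γ(X, U₀) (X.presheaf.stalk x) := X.presheaf.algebra_section_stalk ⟨x, hxU₀⟩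
  have := hU₀.isLocalization_stalk ⟨x, hxU₀⟩
  let q₀ := (hU₀.primeIdealOf ⟨x, hxU₀⟩).asIdeal
  obtain ⟨c, hc⟩ := IsLocalization.exist_integer_multiples_of_finite q₀.primeCompl
    (fun i : Fin hs.length => hs[i] : Fin hs.length → X.presheaf.stalk x)
  choose a ha using hc
  let U₁ := X.basicOpen c.1
  have hU₁ : IsAffineOpen U₁ := hU₀.basicOpen c.1
  have hU₁T : U₁ ≤ f ⁻¹ᵁ T := (X.basicOpen_le c.1).trans hU₀T
  have hxU₁ : x ∈ U₁ := (Scheme.mem_basicOpen X c.1 x hxU₀).2 (IsLocalization.map_units (X.presheaf.stalk x) c)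
  let res₁ : Γ(X, U₀) ⟶ Γ(X, U₁) := X.presheaf.map (homOfLE (X.basicOpen_le c.1)).op
  let γ : Γ(X, U₁) →+* X.presheaf.stalk x := (X.presheaf.germ U₁ x hxU₁).hom
  have hres₁ : ∀ b, γ (res₁ b) = algebraMap Γ(X, U₀) (X.presheaf.stalk x) b := fun b =>
    X.presheaf.germ_res_apply _ _ _ _
  obtain ⟨v, hv⟩ : IsUnit (res₁ c.1) := RingedSpace.isUnit_res_basicOpen _ c.1
  let rs : List Γ(X, U₁) := List.ofFn fun i : Fin hs.length => (↑v⁻¹ : Γ(X, U₁)) * res₁ (a i)
  have hrs : rs.map γ = hs := by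
    refine List.ext_getElem (by simp [rs]) fun i h₁ h₂ => ?_
    have h := ha ⟨i, h₂⟩
    rw [Algebra.smul_def] at h
    simp only [rs, List.getElem_map, List.getElem_ofFn, map_mul]
    rw [hres₁, h, ← hres₁, ← hv, ← mul_assoc, ← map_mul, Units.inv_mul, map_one, one_mul]
    rfl
  -- regularity on the fibre
  let φ := f.appLE T U₁ hU₁T
  algebraize [φ.hom]
  have : Algebra.FinitePresentation Γ(S, T) Γ(X, U₁) :=
    LocallyOfFinitePresentation.finitePresentation_appLE f hT hU₁ hU₁T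
  let q := (hU₁.primeIdealOf ⟨x, hxU₁⟩).asIdeal
  have hfl := FlatMorSlice.flat_localized_of_stalkMap f hT hU₁ hU₁T hxU₁ hflat
  let mf := Ideal.map (f.stalkMap x).hom (IsLocalRing.maximalIdeal ↑(S.presheaf.stalk (f x)))
  have hm : mf = ((q.comap (algebraMap Γ(S, T) Γ(X, U₁))).map (algebraMap Γ(S, T) Γ(X, U₁))).map γ :=
    FlatMorSlice.map_stalkMap_maximalIdeal_eq f hT hU₁ hU₁T hxU₁
  let ψ : Γ(X, U₁) →+* X.presheaf.stalk x ⧸ mf := (Ideal.Quotient.mk mf).comp γ
  let _ : Algebra Γ(X, U₁) (X.presheaf.stalk x) := γ.toAlgebra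
  have hloc : IsLocalization.AtPrime (X.presheaf.stalk x) q := hU₁.isLocalization_stalk ⟨x, hxU₁⟩
  have hψ : FlatMorSlice.FibPres Γ(S, T) q ψ := by
    refine ⟨fun b hb => (IsLocalization.map_units (X.presheaf.stalk x) (⟨b, hb⟩ : q.primeCompl)).map (Ideal.Quotient.mk mf),
      fun r => ?_, fun b hb => ?_, fun b hb => ?_⟩
    · obtain ⟨z, rfl⟩ := Ideal.Quotient.mk_surjective r
      obtain ⟨⟨b, d⟩, hbd⟩ := IsLocalization.surj q.primeCompl z
      refine ⟨b, d.1, d.2, ?_⟩
      show _ * Ideal.Quotient.mk mf (γ d.1) = Ideal.Quotient.mk mf (γ b)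
      rw [← map_mul]
      exact congrArg _ hbd
    · have hb' : algebraMap Γ(X, U₁) (X.presheaf.stalk x) b ∈ ((q.comap (algebraMap Γ(S, T) Γ(X, U₁))).map
          (algebraMap Γ(S, T) Γ(X, U₁))).map (algebraMap Γ(X, U₁) (X.presheaf.stalk x)) := by
        show γ b ∈ Ideal.map γ _
        rw [← hm]
        exact Ideal.Quotient.eq_zero_iff_mem.1 hb
      rw [IsLocalization.algebraMap_mem_map_algebraMap_iff q.primeCompl] at hb'
      exact hb'
    · show Ideal.Quotient.mk mf (γ b) = 0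
      rw [Ideal.Quotient.eq_zero_iff_mem, hm]
      exact Ideal.mem_map_of_mem _ hb
  have hψrs : hs.map (Ideal.Quotient.mk mf) = rs.map ψ := by rw [← hrs, List.map_map]; rfl
  have hwψ : RingTheory.Sequence.IsWeaklyRegular (X.presheaf.stalk x ⧸ mf) (rs.map ψ) := hψrs ▸ hreg.toIsWeaklyRegular
  have hfib : FlatMorSlice.FibReg Γ(S, T) q rs := by
    intro i hi y hy
    have h := hwψ.regular_mod_prev i (by simpa using hi)
    rw [isSMulRegular_quotient_iff_mem_of_smul_mem] at h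
    simp only [List.getElem_map, ← List.map_take, ← Ideal.map_ofList, smul_eq_mul, Ideal.mul_top] at h
    rw [← hψ.mem_map_iff] at hy ⊢
    rw [map_mul] at hy
    exact h _ hy
  have hall : ∀ j, ∃ d ∉ q, (∀ (i : ℕ) (hi : i < (rs.take j).length) (y : Γ(X, U₁)),
      (rs.take j)[i] * y ∈ Ideal.ofList ((rs.take j).take i) → ∃ k : ℕ, d ^ k * y ∈ Ideal.ofList ((rs.take j).take i)) ∧
      ∀ (r : Ideal Γ(X, U₁)) [r.IsPrime], d ∉ r →
        Module.Flat Γ(S, T) (LocalizedModule r.primeCompl (Γ(X, U₁) ⧸ Ideal.ofList (rs.take j))) :=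
    fun j => FlatMorSlice.exists_regular_sequence ⟨q, inferInstance⟩ hfl _ (hfib.take j)
  choose d hdq hd₁ hd₂ using hall
  let D := ∏ j ∈ Finset.range (rs.length + 1), d j
  have hDq : D ∉ q := q.primeCompl.prod_mem fun j _ => hdq j
  let U := X.basicOpen D
  have hU : IsAffineOpen U := hU₁.basicOpen D
  let res : Γ(X, U₁) ⟶ Γ(X, U) := X.presheaf.map (homOfLE (X.basicOpen_le D)).op
  let _ : Algebra Γ(X, U₁) Γ(X, U) := res.hom.toAlgebra
  let φU := f.appLE T U ((X.basicOpen_le D).trans hU₁T)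
  let _ : Algebra Γ(S, T) Γ(X, U) := φU.hom.toAlgebra
  have : IsScalarTower Γ(S, T) Γ(X, U₁) Γ(X, U) := .of_algebraMap_eq' (by
    show φU.hom = res.hom.comp φ.hom
    rw [← CommRingCat.hom_comp, Scheme.Hom.appLE_map])
  have : IsLocalization.Away D Γ(X, U) := hU₁.isLocalization_basicOpen D
  let rs' : List Γ(X, U) := rs.map (algebraMap Γ(X, U₁) Γ(X, U))
  have hxU : x ∈ U := (Scheme.mem_basicOpen X D x hxU₁).2
    (IsLocalization.map_units (X.presheaf.stalk x) (⟨D, hDq⟩ : q.primeCompl))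
  have hkey : ∀ j, RingTheory.Sequence.IsWeaklyRegular Γ(X, U) ((rs.take j).map (algebraMap Γ(X, U₁) Γ(X, U))) ∧
      Module.Flat Γ(S, T) (Γ(X, U) ⧸ Ideal.ofList (rs'.take j)) := by
    intro j
    obtain ⟨k, hk, hjk⟩ : ∃ k ≤ rs.length, rs.take j = rs.take k := by
      rcases le_total j rs.length with h | h
      · exact ⟨j, h, rfl⟩
      · exact ⟨rs.length, le_rfl, by rw [List.take_length, List.take_of_length_le h]⟩
    have hdD : d k ∣ D := Finset.dvd_prod_of_mem d (Finset.mem_range.2 (by omega))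
    obtain ⟨h1, h2⟩ := FlatMorSlice.isWeaklyRegular_and_flat_away (A := Γ(S, T)) (rs.take k) (hd₁ k) (hd₂ k)
      hdD Γ(X, U)
    rw [Ideal.map_ofList] at h2
    rw [show rs'.take j = (rs.take k).map (algebraMap Γ(X, U₁) Γ(X, U)) by rw [← hjk, List.map_take], hjk]
    exact ⟨h1, h2⟩
  have hw' : RingTheory.Sequence.IsWeaklyRegular Γ(X, U) rs' := by
    have := (hkey rs.length).1; rwa [List.take_length] at this
  have hflU : Module.Flat Γ(S, T) (Γ(X, U) ⧸ Ideal.ofList rs') := by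
    have := (hkey rs'.length).2; rwa [List.take_length] at this
  -- the point lies on the subscheme
  let γU : Γ(X, U) →+* X.presheaf.stalk x := (X.presheaf.germ U x hxU).hom
  have hmapU : rs'.map γU = hs := by
    rw [← hrs, List.map_map]
    refine List.map_congr_left fun b _ => X.presheaf.germ_res_apply _ _ _ _
  have hsm : Ideal.ofList hs ≤ IsLocalRing.maximalIdeal (X.presheaf.stalk x) := by
    refine IsLocalRing.le_maximalIdeal fun h => hreg.top_ne_smul ?_
    rw [Ideal.smul_eq_mul, Ideal.mul_top, ← Ideal.map_ofList, h, Ideal.map_top]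
  let qU := (hU.primeIdealOf ⟨x, hxU⟩).asIdeal
  have hlocU : letI := γU.toAlgebra; IsLocalization.AtPrime (X.presheaf.stalk x) qU := hU.isLocalization_stalk ⟨x, hxU⟩
  have hle : Ideal.ofList rs' ≤ qU := Ideal.span_le.2 fun r hr => by
    let _ := γU.toAlgebra
    refine (IsLocalization.AtPrime.to_map_mem_maximal_iff (X.presheaf.stalk x) qU r).1 (hsm ?_)
    exact Ideal.subset_span (show γU r ∈ hs from hmapU ▸ List.mem_map.2 ⟨r, hr, rfl⟩)
  have hreg' : RingTheory.Sequence.IsRegular Γ(X, U) rs' :=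
    ⟨hw', fun h => (hU.primeIdealOf ⟨x, hxU⟩).2.ne_top (top_le_iff.1 (by
      rw [Ideal.smul_eq_mul, Ideal.mul_top] at h; exact h ▸ hle))⟩
  let mk : Γ(X, U) ⟶ CommRingCat.of (Γ(X, U) ⧸ Ideal.ofList rs') := CommRingCat.ofHom (Ideal.Quotient.mk _)
  let i : Spec (.of (Γ(X, U) ⧸ Ideal.ofList rs')) ⟶ U.toScheme := Spec.map mk ≫ hU.isoSpec.inv
  have hi : Spec.map mk ≫ hU.fromSpec ≫ f = Spec.map (CommRingCat.ofHom
      (algebraMap Γ(S, T) (Γ(X, U) ⧸ Ideal.ofList rs'))) ≫ hT.fromSpec := by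
    rw [← hT.SpecMap_appLE_fromSpec f hU ((X.basicOpen_le D).trans hU₁T), ← Category.assoc, ← Spec.map_comp]
    rfl
  have : Algebra.FinitePresentation Γ(S, T) Γ(X, U) :=
    LocallyOfFinitePresentation.finitePresentation_appLE f hT hU ((X.basicOpen_le D).trans hU₁T)
  have hfp : Algebra.FinitePresentation Γ(S, T) (Γ(X, U) ⧸ Ideal.ofList rs') :=
    Algebra.FinitePresentation.quotient (Submodule.fg_span (List.finite_toSet _))
  have h₁ := (HasRingHomProperty.Spec_iff (P := @Flat) (φ := CommRingCat.ofHom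
    (algebraMap Γ(S, T) (Γ(X, U) ⧸ Ideal.ofList rs')))).2 (RingHom.flat_algebraMap_iff.2 hflU)
  have h₂ := (HasRingHomProperty.Spec_iff (P := @LocallyOfFinitePresentation) (φ := CommRingCat.ofHom
    (algebraMap Γ(S, T) (Γ(X, U) ⧸ Ideal.ofList rs')))).2 (RingHom.finitePresentation_algebraMap.2 hfp)
  refine ⟨U, hU, hxU, rs', hmapU, FlatMorSlice.isRegularClosedImmersion_of_iso hU.isoSpec rs' hreg',
    ?_, ?_, ?_, fun S' g => ?_⟩
  · have hqU' : (qU.map (Ideal.Quotient.mk (Ideal.ofList rs'))).IsPrime :=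
      Ideal.map_isPrime_of_surjective Ideal.Quotient.mk_surjective (by rwa [Ideal.mk_ker])
    refine ⟨⟨_, hqU'⟩, ?_⟩
    refine Eq.trans ?_ (hU.fromSpec_primeIdealOf ⟨x, hxU⟩)
    refine congrArg hU.fromSpec (PrimeSpectrum.ext ?_)
    show (qU.map (Ideal.Quotient.mk _)).comap (Ideal.Quotient.mk _) = qU
    rw [Ideal.comap_map_of_surjective _ Ideal.Quotient.mk_surjective, ← RingHom.ker_eq_comap_bot,
      Ideal.mk_ker, sup_eq_left.2 hle]
  · rw [hi]; exact MorphismProperty.comp_mem @Flat _ _ h₁ inferInstance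
  · rw [hi]; exact MorphismProperty.comp_mem @LocallyOfFinitePresentation _ _ h₂ inferInstance
  · have : IsClosedImmersion (Spec.map mk) := IsClosedImmersion.spec_of_surjective _ Ideal.Quotient.mk_surjective
    have : IsClosedImmersion i := inferInstance
    have : IsAffine U.toScheme := hU
    have e : (⊤ : U.toScheme.Opens) ≤ (U.ι ≫ f) ⁻¹ᵁ T := fun y _ => hU₁T (X.basicOpen_le D y.2)
    have happ : (U.ι ≫ f).appLE T ⊤ e = φU ≫ U.topIso.inv := by
      simp only [φU, Scheme.Hom.appLE, Scheme.Hom.comp_app, Scheme.Opens.ι_app, Category.assoc,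
        Scheme.Opens.topIso_inv]
      rw [Scheme.Opens.toScheme_presheaf_map]
      simp only [← Functor.map_comp]
      rfl
    let σ : Γ(X, U) ≃+* Γ(U.toScheme, ⊤) := U.topIso.symm.commRingCatIsoToRingEquiv
    refine FlatMorSlice.isRegularClosedImmersion_baseChange i (U.ι ≫ f) hT e (rs'.map σ.toRingHom) ?_ ?_ ?_ _
      (Category.assoc _ _ _).symm g _ _
    · have hia : i.appTop = U.topIso.hom ≫ mk ≫ (Scheme.ΓSpecIso _).inv := by
        simp only [i, Scheme.Hom.comp_appTop, IsAffineOpen.isoSpec_inv_appTop, Category.assoc,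
          ← Scheme.ΓSpecIso_inv_naturality, ← Scheme.ΓSpecIso_inv_naturality_assoc]
      rw [show Ideal.ofList (rs'.map σ.toRingHom) = (Ideal.ofList rs').map σ.toRingHom from
        (Ideal.map_ofList _ _).symm]
      ext y
      obtain ⟨b, rfl⟩ := σ.surjective y
      refine Iff.trans ?_ ((Ideal.mem_map_of_equiv σ _).trans
        ⟨fun ⟨b', hb', he⟩ => σ.injective he ▸ hb', fun h => ⟨b, h, rfl⟩⟩).symm
      rw [RingHom.mem_ker, ← Ideal.Quotient.eq_zero_iff_mem, hia]
      show (Scheme.ΓSpecIso _).inv (mk (U.topIso.hom (U.topIso.inv b))) = 0 ↔ _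
      rw [Iso.inv_hom_id_apply]
      exact map_eq_zero_iff _ (ConcreteCategory.bijective_of_isIso (Scheme.ΓSpecIso _).inv).1
    · exact (AddEquiv.isWeaklyRegular_congr (e := σ.toAddEquiv)
        (List.forall₂_map_right_iff.2 (List.forall₂_same.2 fun r _ y => map_mul σ r y))).1 hw'
    · let _ : Algebra Γ(S, T) Γ(U.toScheme, ⊤) := ((U.ι ≫ f).appLE T ⊤ e).hom.toAlgebra
      intro j
      let eA : Γ(X, U) ≃ₐ[Γ(S, T)] Γ(U.toScheme, ⊤) := AlgEquiv.ofRingEquiv (f := σ) fun r => by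
        show σ (φU r) = ((U.ι ≫ f).appLE T ⊤ e) r
        rw [happ]; rfl
      have := (hkey j).2
      exact FlatMorSlice.flat_quotient_congr eA (Ideal.ofList (rs'.take j)) _
        (by rw [Ideal.map_ofList, List.map_take]; rfl)

end Groth.Agent.S1459
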