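import Groth.Statements.S14597
import Groth.Agent.AlgGrpLib.AffineCriterion
import Groth.Agent.AlgGrpLib.MultTypeAction2

set_option autoImplicit false
universe u
open CategoryTheory MonoidalCategory CartesianMonoidalCategory MonObj GrpObj AlgebraicGeometry CategoryTheory.Limits
open AlgGrp

namespace Groth.Agent.S14597

/-- Let k be a field, G a k-group scheme of finite type acting on a separated, integral, locally
Noetherian k-scheme X and fixing a rational point x. Let n : N → G be the kernel of the action, i.e.
the closed subgroup scheme whose points with values in a k-scheme T are the T-points of G acting as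
the identity on X_T, and let q : G → Q be a flat surjective homomorphism of k-group schemes of
finite type with kernel N. Then Q is affine. (The published statement is for an irreducible locally
Noetherian X and the quotient C_G(x)/Ker of the stabiliser of x; restricting the action to the
stabiliser gives the case stated, and X is taken reduced here because the published proof uses that
the infinitesimal neighbourhoods of x are schematically dense in X.) -/
theorem result (k : Type u) [Field k]
    (G X : Over (Spec (CommRingCat.of k))) [GrpObj G] [LocallyOfFiniteType G.hom] [QuasiCompact G.hom]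
    [IsSeparated X.hom] [IsIntegral X.left] [IsLocallyNoetherian X.left]
    (a : AlgGrp.Action G X) (x : 𝟙_ (Over (Spec (CommRingCat.of k))) ⟶ X) (hx : a.IsFixedPt x)
    (N : Over (Spec (CommRingCat.of k))) [GrpObj N] (n : N ⟶ G) [IsMonHom n] [IsClosedImmersion n.left]
    (hN : ∀ (T : Over (Spec (CommRingCat.of k))) (g : T ⟶ G), (∃ m : T ⟶ N, m ≫ n = g) ↔
      ∀ (T' : Over (Spec (CommRingCat.of k))) (t : T' ⟶ T) (y : T' ⟶ X), lift (t ≫ g) y ≫ a.act = y)
    (Q : Over (Spec (CommRingCat.of k))) [GrpObj Q] [LocallyOfFiniteType Q.hom] [QuasiCompact Q.hom]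
    (q : G ⟶ Q) [IsMonHom q] [Surjective q.left] [Flat q.left] (hq : AlgGrp.IsKernel n q) :
    IsAffine Q.left := by
  haveI : CompactSpace G.left := QuasiCompact.compactSpace_of_compactSpace G.hom
  haveI : IsLocallyNoetherian G.left := LocallyOfFiniteType.isLocallyNoetherian G.hom
  haveI : IsLocallyNoetherian Q.left := LocallyOfFiniteType.isLocallyNoetherian Q.hom
  haveI := Groth.Agent.SGA3xLib.isSeparated_of_grpObj G
  haveI : LocallyOfFiniteType q.left := by
    have h : LocallyOfFiniteType (q.left ≫ Q.hom) := by rw [Over.w]; infer_instance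
    exact locallyOfFiniteType_of_comp q.left Q.hom
  haveI : LocallyOfFinitePresentation q.left := inferInstance
  haveI : Epi q.left := Flat.epi_of_flat_of_surjective q.left
  haveI : Epi q := Over.epi_of_epi_left _
  haveI : Surjective q.left := inferInstance
  have ex : ∀ {W : Over (Spec (CommRingCat.of k))} (g : W ⟶ G) (y : W ⟶ X) (m : W ⟶ N),
      lift (g * (m ≫ n)) y ≫ a.act = lift g y ≫ a.act := fun g y m => by
    rw [← Groth.Agent.AlgGrpLib.act_act a]
    have h := (hN _ (m ≫ n)).1 ⟨m, rfl⟩ _ (𝟙 _) y
    rw [Category.id_comp] at h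
    rw [h]
  have hF : ∀ {W : Over (Spec (CommRingCat.of k))} (y : W ⟶ X) (g : W ⟶ G),
      lift y g ≫ (lift (snd X G) (fst X G) ≫ a.act) = lift g y ≫ a.act := fun y g => by
    rw [← Category.assoc, comp_lift, lift_fst, lift_snd]
  obtain ⟨f, hf⟩ := Groth.Agent.AlgGrpLib.MultTypeAct.desc_whisker q n hq
    (lift (snd X G) (fst X G) ≫ a.act) (fun y g m => by rw [hF, hF, ex])
  refine Groth.Agent.AlgGrpLib.AffineHull.isAffine_of_antiAffine_trivial Q fun M _ _ _ i _ _ hM => ?_
  haveI : CompactSpace M.left := QuasiCompact.compactSpace_of_compactSpace M.hom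
  haveI : IsLocallyNoetherian M.left := LocallyOfFiniteType.isLocallyNoetherian M.hom
  let φ : M ⊗ X ⟶ X := lift (snd M X) (fst M X ≫ i) ≫ f
  have hfx : ∀ {W : Over (Spec (CommRingCat.of k))} (y : W ⟶ Q), lift (toUnit W ≫ x) y ≫ f = toUnit W ≫ x := by
    intro W y
    have h1 : lift (toUnit Q ≫ x) (𝟙 Q) ≫ f = toUnit Q ≫ x := by
      rw [← cancel_epi q, ← Category.assoc q (toUnit Q) x, comp_toUnit, ← Category.assoc, comp_lift,
        Category.comp_id, ← Category.assoc, comp_toUnit]
      have h := hf (toUnit G ≫ x) (𝟙 G)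
      rw [Category.id_comp, hF] at h
      rw [h]
      exact hx G (𝟙 G)
    have h := congrArg (y ≫ ·) h1
    simp only [← Category.assoc, comp_lift, comp_toUnit, Category.comp_id] at h
    exact h
  have hφ : ∀ {W : Over (Spec (CommRingCat.of k))} (m : W ⟶ M) (y : W ⟶ X),
      lift m y ≫ φ = lift y (m ≫ i) ≫ f := fun m y => by
    rw [← Category.assoc, comp_lift, lift_snd, lift_fst_assoc]
  have h0 : (M ◁ x) ≫ φ = toUnit _ ≫ lift η[M] x ≫ φ := by
    have e1 : M ◁ x = lift (fst M _) (toUnit (M ⊗ 𝟙_ _) ≫ x) := by
      refine CartesianMonoidalCategory.hom_ext _ _ (by simp) ?_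
      rw [whiskerLeft_snd, lift_snd, toUnit_unique (toUnit _) (snd M _)]
    have e2 : lift x (η[M] ≫ i) ≫ f = x := by
      have h := hfx (η[M] ≫ i)
      rwa [toUnit_unique (toUnit (𝟙_ _)) (𝟙 _), Category.id_comp] at h
    rw [e1, hφ, hφ, hfx, e2]
  have key := Groth.Agent.AlgGrpLib.eq_snd_of_antiAffine hM η[M] x φ h0
  have key' : ∀ {W : Over (Spec (CommRingCat.of k))} (m : W ⟶ M) (y : W ⟶ X),
      lift y (m ≫ i) ≫ f = y := fun m y => by
    have h := congrArg (lift m y ≫ ·) key
    simp only [hφ, lift_snd_assoc, Category.id_comp, ← Hom.one_def, IsMonHom.one_hom, MonObj.one_comp] at h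
    have h2 := hf y (1 : _ ⟶ G)
    rw [MonObj.one_comp, hF, Groth.Agent.AlgGrpLib.one_act'] at h2
    rw [h, ← Category.assoc, comp_lift, MonObj.comp_one, Category.comp_id, h2]
  let g0 := pullback.snd i q
  let p0 := pullback.fst i q
  have hc : ∀ (T' : Over (Spec (CommRingCat.of k))) (t : T' ⟶ pullback i q) (y : T' ⟶ X),
      lift (t ≫ g0) y ≫ a.act = y := fun T' t y => by
    have h := hf y (t ≫ g0)
    rw [hF, Category.assoc, ← pullback.condition, ← Category.assoc, key'] at h
    exact h.symm
  obtain ⟨z, hzj⟩ := (hN _ g0).2 hc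
  have hgq : g0 ≫ q = 1 := by
    rw [← hzj, Category.assoc, Groth.Agent.AlgGrpLib.kernel_comp hq, MonObj.comp_one]
  haveI : Surjective p0.left ∧ Flat p0.left := by
    have h := (IsPullback.of_hasPullback i q).map (Over.forget _)
    exact ⟨MorphismProperty.of_isPullback (P := @Surjective) h.flip ‹_›,
      MorphismProperty.of_isPullback (P := @Flat) h.flip ‹_›⟩
  obtain ⟨_, _⟩ := this
  haveI : Epi p0.left := Flat.epi_of_flat_of_surjective p0.left
  haveI : Epi p0 := Over.epi_of_epi_left _
  rw [← cancel_epi p0, MonObj.comp_one, pullback.condition]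
  exact hgq

end Groth.Agent.S14597
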