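import Groth.Statements.S14599
import Groth.Agent.AlgGrpLib.ComponentQuot
import Groth.Agent.AlgGrpLib.ImageSubgroup
import Groth.Agent.AbVarLib.GeomIntegralSmooth
import Groth.Agent.H8Top.SchemeBasic
import Groth.Agent.AbSchLib.SmoothReduced
import Groth.Agent.AlgGrpLib.MultTypeAction2
import Groth.Agent.S11994

open CategoryTheory.Limits

set_option autoImplicit false
set_option backward.isDefEq.respectTransparency.types false
universe u
open CategoryTheory MonoidalCategory CartesianMonoidalCategory MonObj GrpObj AlgebraicGeometry CategoryTheory.Limits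
open AlgGrp

namespace Groth.Agent.S14599

/-- Let k be a field and G a smooth connected k-group scheme of finite type. Then G has a smallest
normal subgroup scheme N whose quotient is an abelian variety, N is connected, and the quotient
homomorphism α : G → G/N is universal: there are a connected closed normal subgroup scheme i : N →
G, a proper smooth connected k-group scheme A and a flat surjective homomorphism α : G → A with
kernel N such that every k-morphism from G to a proper smooth connected k-group scheme sending e to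
e factors uniquely through α, and every flat surjective homomorphism from G onto a proper smooth
connected k-group scheme kills N. -/
theorem result (k : Type u) [Field k]
    (G : Over (Spec (CommRingCat.of k))) [GrpObj G] [Smooth G.hom] [QuasiCompact G.hom] [ConnectedSpace ↥G.left] :
    ∃ (N : Over (Spec (CommRingCat.of k))) (_ : GrpObj N) (i : N ⟶ G) (A : Over (Spec (CommRingCat.of k))) (_ : GrpObj A) (α : G ⟶ A),
      IsMonHom i ∧ IsClosedImmersion i.left ∧ AlgGrp.IsNormalHom i ∧ ConnectedSpace ↥N.left ∧
      IsProper A.hom ∧ Smooth A.hom ∧ ConnectedSpace ↥A.left ∧ IsMonHom α ∧ Surjective α.left ∧ Flat α.left ∧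
      AlgGrp.IsKernel i α ∧
      (∀ (B : Over (Spec (CommRingCat.of k))) [GrpObj B] [IsProper B.hom] [Smooth B.hom] [ConnectedSpace ↥B.left] (f : G ⟶ B),
        η[G] ≫ f = η[B] → ∃! g : A ⟶ B, α ≫ g = f) ∧
      (∀ (B : Over (Spec (CommRingCat.of k))) [GrpObj B] [IsProper B.hom] [Smooth B.hom] [ConnectedSpace ↥B.left] (q : G ⟶ B)
        [IsMonHom q] [Surjective q.left] [Flat q.left], i ≫ q = 1) := by
  classical
  haveI : IsSeparated G.hom := Groth.Agent.SGA3xLib.isSeparated_of_grpObj G
  haveI : CompactSpace G.left := QuasiCompact.compactSpace_of_compactSpace G.hom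
  haveI : IsLocallyNoetherian G.left := LocallyOfFiniteType.isLocallyNoetherian G.hom
  haveI : AlgebraicGeometry.IsNoetherian G.left := {}
  let 𝒮 : Set G.left.IdealSheafData := {I | ∃ (Q : Over (Spec (CommRingCat.of k))) (_ : GrpObj Q) (N : Over (Spec (CommRingCat.of k))) (i : N ⟶ G) (α : G ⟶ Q),
    IsProper Q.hom ∧ IsMonHom α ∧ Surjective α.left ∧ Flat α.left ∧ AlgGrp.IsKernel i α ∧ i.left.ker = I}
  have hclosed : ∀ {Q N : Over (Spec (CommRingCat.of k))} [GrpObj Q] [IsSeparated Q.hom] {i : N ⟶ G} {α : G ⟶ Q},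
      AlgGrp.IsKernel i α → IsClosedImmersion i.left := by
    intro Q N _ _ i α h
    haveI : IsClosedImmersion η[Q].left := isClosedImmersion_of_comp_eq_id Q.hom η[Q].left (Over.w η[Q])
    exact MorphismProperty.of_isPullback (P := @IsClosedImmersion) (h.map (Over.forget _)).flip (by assumption)
  have hpull : ∀ {Q : Over (Spec (CommRingCat.of k))} [GrpObj Q] (α : G ⟶ Q),
      AlgGrp.IsKernel (pullback.fst α η[Q]) α := by
    intro Q _ α
    have h := IsPullback.of_hasPullback α η[Q]
    rwa [toUnit_unique (pullback.snd α η[Q]) (toUnit _)] at h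
  obtain ⟨I, hImem, hImax⟩ : ∃ I ∈ 𝒮, ∀ J ∈ 𝒮, ¬ I < J := by
    haveI := Groth.Agent.H8Top.wellFoundedGT_idealSheafData G.left
    refine WellFounded.has_min (r := (· > ·)) wellFounded_gt 𝒮 ⟨_, 𝟙_ (Over (Spec (CommRingCat.of k))), inferInstance,
      _, pullback.fst (toUnit G) η[𝟙_ (Over (Spec (CommRingCat.of k)))], toUnit G,
      inferInstanceAs (IsProper (𝟙 (Spec (CommRingCat.of k)))), ⟨toUnit_unique _ _, toUnit_unique _ _⟩,
      ?_, inferInstanceAs (Flat G.hom), hpull _, rfl⟩
    exact ⟨fun x => ⟨η[G].left x, congrArg (fun f : 𝟙_ (Over (Spec (CommRingCat.of k))) ⟶ 𝟙_ _ => f.left x)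
      (toUnit_unique (η[G] ≫ toUnit G) (𝟙 _))⟩⟩
  obtain ⟨A, gA, N, i, α, hA, hα, hαs, hαf, hk, hIi⟩ := hImem
  letI := gA
  haveI := hA
  haveI := hα
  haveI := hαs
  haveI := hαf
  haveI := hclosed hk
  haveI : QuasiCompact α.left := Groth.Agent.AlgGrpLib.quasiCompact_left α
  -- minimality
  have hmin : ∀ (Q' : Over (Spec (CommRingCat.of k))) [GrpObj Q'] [IsProper Q'.hom] (q' : G ⟶ Q') [IsMonHom q']
      [Surjective q'.left] [Flat q'.left], i ≫ q' = 1 := by
    intro Q' _ _ q' _ _ _
    haveI : IsProper (A ⊗ Q').hom := inferInstanceAs (IsProper (pullback.fst A.hom Q'.hom ≫ A.hom))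
    haveI : QuasiCompact (A ⊗ Q').hom := inferInstance
    haveI : IsMonHom (lift α q') := Groth.Agent.AlgGrpLib.MultTypeAct.isMonHom_of_map_mul _ fun x y => by
      apply CartesianMonoidalCategory.hom_ext
      · rw [Category.assoc, lift_fst, MonObj.mul_comp, MonObj.mul_comp _ _ (fst A Q'), Category.assoc, lift_fst,
          Category.assoc, lift_fst]
      · rw [Category.assoc, lift_snd, MonObj.mul_comp, MonObj.mul_comp _ _ (snd A Q'), Category.assoc, lift_snd,
          Category.assoc, lift_snd]
    obtain ⟨M, gM, j, g, hj, hg, hjc, hgj, hgs, hgf, hMs, hMl, hMq⟩ :=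
      Groth.Agent.AlgGrpLib.ImageSubgroup.exists_image (lift α q')
    letI := gM
    haveI := hjc
    haveI := hj
    haveI : IsProper M.hom := by rw [← Over.w j]; infer_instance
    let i' := pullback.fst g η[M]
    have hk' : AlgGrp.IsKernel i' g := hpull g
    haveI := hclosed hk'
    have h1 : i' ≫ lift α q' = 1 := by
      rw [← hgj, ← Category.assoc, Groth.Agent.AlgGrpLib.kernel_comp hk', MonObj.one_comp]
    have hiα : i' ≫ α = 1 := by
      have := congrArg (· ≫ fst A Q') h1
      simpa [MonObj.one_comp] using this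
    have hiq : i' ≫ q' = 1 := by
      have := congrArg (· ≫ snd A Q') h1
      simpa [MonObj.one_comp] using this
    obtain ⟨f, hf⟩ := Groth.Agent.AlgGrpLib.exists_lift_kernel hk hiα
    have hle : I ≤ i'.left.ker := by
      rw [← hIi, ← hf, Over.comp_left]
      exact Scheme.Hom.le_ker_comp _ _
    have heq : i'.left.ker = I := by
      rcases hle.eq_or_lt with h | h
      · exact h.symm
      · exact absurd h (hImax _ ⟨M, gM, _, i', g, inferInstance, hg, hgs, hgf, hk', rfl⟩)
    let w : N.left ⟶ _ := IsClosedImmersion.lift i'.left i.left (heq.trans hIi.symm).le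
    have hw : w ≫ i'.left = i.left := IsClosedImmersion.lift_fac _ _ _
    let w' : N ⟶ pullback g η[M] := Over.homMk w (by rw [← Over.w i', ← Category.assoc, hw, Over.w i])
    have hw' : w' ≫ i' = i := Over.OverMorphism.ext hw
    rw [← hw', Category.assoc, hiq, MonObj.comp_one]
  obtain ⟨gN, hi⟩ := Groth.Agent.AlgGrpLib.exists_grpObj_kernel α i hk
  letI := gN
  haveI := hi
  haveI : Smooth A.hom := by
    haveI : LocallyOfFinitePresentation α.left := Groth.Agent.AlgGrpLib.ExactSeqBasics.locallyOfFinitePresentation_left α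
    haveI : Smooth (α.left ≫ A.hom) := by rw [Over.w α]; infer_instance
    exact Groth.Agent.AlgSpLib.smooth_of_comp_fppf α.left A.hom (by assumption)
  haveI hAc : ConnectedSpace A.left := α.left.surjective.connectedSpace α.left.continuous
  -- the kernel is connected
  haveI : ConnectedSpace N.left := by
    obtain ⟨K, gK, v, W, gW, p, r, hv, hp, hK, hpf, hps, hkp, hrf, hpr, hWs⟩ :=
      Groth.Agent.AlgGrpLib.ComponentQuot.exists_componentQuot α i hk
    letI := gW
    haveI := hp
    haveI := hpf
    haveI := hps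
    haveI := hrf
    haveI : IsProper W.hom := by rw [← Over.w r]; infer_instance
    have h1 : i ≫ p = 1 := hmin W p
    obtain ⟨d, hd⟩ := Groth.Agent.AlgGrpLib.exists_lift_kernel hkp h1
    have hvα : v ≫ α = 1 := by
      rw [← hpr, ← Category.assoc, Groth.Agent.AlgGrpLib.kernel_comp hkp]
      haveI : Mono v := Groth.Agent.AlgGrpLib.kernel_mono hkp
      have hη : η[W] ≫ r = η[A] := by
        rw [← IsMonHom.one_hom p, Category.assoc, hpr, IsMonHom.one_hom]
      rw [Hom.one_def, Category.assoc, hη, ← Hom.one_def]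
    obtain ⟨d', hd'⟩ := Groth.Agent.AlgGrpLib.exists_lift_kernel hk hvα
    haveI : Mono i := Groth.Agent.AlgGrpLib.kernel_mono hk
    have hdd : d ≫ d' = 𝟙 N := by rw [← cancel_mono i, Category.assoc, hd', hd, Category.id_comp]
    have hsurj : Function.Surjective d'.left := fun x => ⟨d.left x, by
      show (d ≫ d').left x = x
      rw [hdd]; rfl⟩
    haveI := hK
    exact hsurj.connectedSpace d'.left.continuous
  refine ⟨N, gN, i, A, gA, α, hi, inferInstance, Groth.Agent.AlgGrpLib.ExactSeqBasics.isNormalHom_kernel α hk,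
    inferInstance, hA, inferInstance, hAc, hα, hαs, hαf, hk, fun B _ _ _ _ f hf => ?_,
    fun B _ _ _ _ q _ _ _ => hmin B q⟩
  haveI : GeometricallyConnected G.hom := by
    have := Groth.Agent.SGA3cLib.geometricallyConnected_of_rational_point k G.hom (𝟙 G.left) η[G].left (Over.w η[G]) (fun x _ => ⟨x, rfl⟩)
    rwa [Category.id_comp] at this
  haveI : GeometricallyConnected B.hom := by
    have := Groth.Agent.SGA3cLib.geometricallyConnected_of_rational_point k B.hom (𝟙 B.left) η[B].left (Over.w η[B]) (fun x _ => ⟨x, rfl⟩)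
    rwa [Category.id_comp] at this
  haveI := Groth.Agent.AbVarLib.geometricallyIntegral_of_smooth G.hom
  haveI := Groth.Agent.AbVarLib.geometricallyIntegral_of_smooth B.hom
  haveI : IsMonHom f := Groth.Agent.S11994.result k G B f hf
  obtain ⟨M, gM, j, g, hj, hg, hjc, hgj, hgs, hgf, hMs, hMl, hMq⟩ := Groth.Agent.AlgGrpLib.ImageSubgroup.exists_image f
  letI := gM
  haveI := hjc
  haveI := hj
  haveI := hg
  haveI := hgs
  haveI := hgf
  haveI : IsProper M.hom := by rw [← Over.w j]; infer_instance
  have hif : i ≫ f = 1 := by rw [← hgj, ← Category.assoc, hmin M g, MonObj.one_comp]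
  obtain ⟨h, hh⟩ := Groth.Agent.AlgGrpLib.ExactSeqBasics.exists_desc α hk f hif
  haveI : Epi α.left := Flat.epi_of_flat_of_surjective _
  haveI : Epi α := Over.epi_of_epi_left _
  exact ⟨h, hh, fun h' hh' => by rw [← cancel_epi α, hh, hh']⟩

end Groth.Agent.S14599
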