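import Groth.Statements.S1460
import Groth.Agent.FlatMorApprox.Basic

set_option autoImplicit false
universe u
open FlatMor

namespace Groth.Agent.S1460

open AlgebraicGeometry CategoryTheory Limits in
/-- Let f : X → S be a morphism of finite presentation between affine schemes. Then f is the base change
of a morphism of finite type f₀ : X₀ → S₀ between affine schemes with S₀ of finite type over ℤ. -/
theorem result {X S : Scheme.{u}} (f : X ⟶ S) [IsAffine X] [IsAffine S] [LocallyOfFinitePresentation f] :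
    ∃ (X₀ S₀ : Scheme.{u}) (f₀ : X₀ ⟶ S₀) (g : S ⟶ S₀) (g' : X ⟶ X₀), IsAffine X₀ ∧ IsAffine S₀ ∧ IsPullback g' f f₀ g ∧
      Algebra.FiniteType ℤ Γ(S₀, ⊤) ∧ LocallyOfFiniteType f₀ := by
  obtain ⟨A₀, B₀, φ, g, g', hφ, hA, h⟩ := Groth.Agent.FlatMorApprox.exists_pullback_model f
  refine ⟨_, _, Spec.map φ, g, g', inferInstance, inferInstance, h, ?_, ?_⟩
  · have h' := hA.comp_surjective (g := (Scheme.ΓSpecIso A₀).inv.hom)
      (ConcreteCategory.bijective_of_isIso (Scheme.ΓSpecIso A₀).inv).2
    rw [RingHom.ext_int ((Scheme.ΓSpecIso A₀).inv.hom.comp (algebraMap ℤ A₀)) (algebraMap ℤ _)] at h'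
    exact RingHom.finiteType_algebraMap.1 h'
  · exact HasRingHomProperty.Spec_iff.2 (RingHom.FiniteType.of_finitePresentation hφ)

end Groth.Agent.S1460
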