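import Groth.Statements.S14606
import Groth.Agent.Frob15.GeomReducedImage
-- import your own Groth.Agent.* helpers here

set_option autoImplicit false
universe u
open FrobAlg

namespace Groth.Agent.S14606

/-- Let k be a field of characteristic p > 0 and R a finitely generated commutative k-algebra. The
scheme-theoretic image of the n-th relative Frobenius morphism of Spec R is the spectrum of the
k-subalgebra k[R^(p^n)] generated by all p^n-th powers; for n large enough this image is
geometrically reduced: there is an n such that k[R^(p^n)] is a geometrically reduced k-algebra.
(Stated in affine, ring-theoretic form.) -/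
theorem result (k : Type u) [Field k] (p : ℕ) [Fact p.Prime] [CharP k p]
    (R : Type u) [CommRing R] [Algebra k R] [Algebra.FiniteType k R] :
    ∃ n : ℕ, Algebra.IsGeometricallyReduced k ↥(Algebra.adjoin k (Set.range (fun x : R => x ^ (p ^ n)))) := by
  exact Groth.Agent.Frob15.exists_isGeometricallyReduced_adjoin_pow k p R

end Groth.Agent.S14606
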