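import Groth.Statements.S14607
import Groth.Agent.PicA1S27.Main
-- import your own Groth.Agent.* helpers here

set_option autoImplicit false
set_option linter.style.haveILetI false
set_option backward.isDefEq.respectTransparency.types false
universe u
open CategoryTheory AlgebraicGeometry CategoryTheory.Limits
open PicF

namespace Groth.Agent.S14607

open CategoryTheory CategoryTheory.Limits MonObj AlgebraicGeometry in
open Groth.Agent in
/-- Let k be a field and X an integral, separated k-scheme of finite type which is seminormal, in the
sense that every point has an affine open neighbourhood whose ring of functions is seminormal (x³ =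
y² implies x = a² and y = a³ for exactly one a). Then the pull-back along the first projection X ×
A¹ → X induces a bijection from the isomorphism classes of invertible O_X-modules onto those of
invertible modules on X × A¹, i.e. Pic(X) → Pic(X × A¹) is an isomorphism. (This is the assertion
established in the course of the published proof, which deduces from it that the Picard variety of a
geometrically semi-normal proper variety is semi-abelian; semi-normality is taken in the
ring-theoretic form used by the cited input on Picard groups of polynomial rings.) -/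
theorem result (k : Type u) [Field k]
    (X : Scheme.{u}) (f : X ⟶ Spec (CommRingCat.of k)) [IsIntegral X] [IsSeparated f] [LocallyOfFiniteType f] [QuasiCompact f]
    (hX : HTop.IsSeminormal X) :
    Set.BijOn (PicF.pullCl (pullback.fst f (𝔸(PUnit.{u + 1}; Spec (CommRingCat.of k)) ↘ Spec (CommRingCat.of k))))
      {c : PicF.Cl X | PicF.IsInvertibleCl c}
      {c : PicF.Cl (pullback f (𝔸(PUnit.{u + 1}; Spec (CommRingCat.of k)) ↘ Spec (CommRingCat.of k))) | PicF.IsInvertibleCl c} := by
  haveI : IsLocallyNoetherian X := LocallyOfFiniteType.isLocallyNoetherian f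
  have hpb := AffineSpace.isPullback_map (n := PUnit.{u + 1}) f
  let π := pullback.fst f (𝔸(PUnit.{u + 1}; Spec (CommRingCat.of k)) ↘ Spec (CommRingCat.of k))
  let e := hpb.flip.isoPullback
  have he : e.hom ≫ π = 𝔸(PUnit.{u + 1}; X) ↘ X := hpb.flip.isoPullback_hom_fst
  refine ⟨fun c hc => PicLoc.isInvertibleCl_pullCl π hc, fun a ha b hb hab => ?_, fun c hc => ?_⟩
  · let σ : X ⟶ 𝔸(PUnit.{u + 1}; X) := AffineSpace.homOfVector (𝟙 X) fun _ => 0
    have hσ : (σ ≫ e.hom) ≫ π = 𝟙 X := by
      rw [Category.assoc, he]; exact AffineSpace.homOfVector_over _ _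
    have h : PicLib.PicM.pull π ⟨a, ha⟩ = PicLib.PicM.pull π ⟨b, hb⟩ := PicLib.PicM.ext hab
    have h' := congrArg (PicLib.PicM.pull (σ ≫ e.hom)) h
    rw [PicLib.PicM.pull_pull, PicLib.PicM.pull_pull, hσ, PicLib.PicM.pull_id, PicLib.PicM.pull_id] at h'
    exact congrArg PicLib.PicM.val h'
  · obtain ⟨d, hd⟩ := PicA1S27.exists_pull_affineLine hX (PicLib.PicM.pull e.hom ⟨c, hc⟩)
    refine ⟨d.val, d.prop, ?_⟩
    have h' := congrArg (PicLib.PicM.pull e.inv) hd
    rw [PicLib.PicM.pull_pull, PicLib.PicM.pull_pull, e.inv_hom_id, PicLib.PicM.pull_id, ← he,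
      e.inv_hom_id_assoc] at h'
    exact congrArg PicLib.PicM.val h'

end Groth.Agent.S14607
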