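import Groth.Statements.S14608
import Mathlib
import Groth.Agent.FlatCxLib.DRank2
import Groth.Agent.CAlgSmall.ClopenSplit

set_option linter.all false

set_option autoImplicit false
universe u v
open CAlg

open TensorProduct

namespace Groth.Agent.S14608

theorem inj_iff_baseChange {A : Type u} [CommRing A] (L : Type u) [CommRing L] [Algebra A L]
    (k : Type u) [CommRing k] [Algebra A k] [Algebra L k] [IsScalarTower A L k]
    {M N : Type v} [AddCommGroup M] [Module A M] [AddCommGroup N] [Module A N] (f : M →ₗ[A] N) :
    Function.Injective ((f.baseChange L).lTensor k) ↔ Function.Injective (f.lTensor k) := by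
  let e₁ := TensorProduct.AlgebraTensorModule.cancelBaseChange A L L k M
  let e₂ := TensorProduct.AlgebraTensorModule.cancelBaseChange A L L k N
  have h : ∀ x, f.lTensor k (e₁ x) = e₂ ((f.baseChange L).lTensor k x) := by
    intro x
    induction x with
    | zero => simp
    | add a b ha hb => simp only [map_add, ha, hb]
    | tmul c y =>
      induction y with
      | zero => simp
      | add a b ha hb => simp only [tmul_add, map_add, ha, hb]
      | tmul l m => simp [e₁, e₂]
  refine ⟨fun hi a b hab => ?_, fun hi a b hab => ?_⟩
  · obtain ⟨a, rfl⟩ := e₁.surjective a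
    obtain ⟨b, rfl⟩ := e₁.surjective b
    rw [h, h] at hab
    exact congrArg e₁ (hi (e₂.injective hab))
  · refine e₁.injective (hi ?_)
    rw [h, h, hab]

open TensorProduct in
/-- Let A be a Noetherian ring, M a finitely generated A-module, F a finitely generated free A-module, δ
: M → F an A-linear map and p a prime of A with residue field κ(p). The following are equivalent:
(a) the natural map (ker δ) ⊗ κ(p) → ker(δ ⊗ κ(p)) is surjective (its image is the whole kernel);
(b) that map is bijective; (c) (F / im δ) localized at p is a free module over the local ring A_p.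
Moreover, if these hold then (im δ) localized at p is free over A_p. (The published statement takes
M to be the cokernel of a map of finitely generated free modules; over a Noetherian ring this is
every finitely generated M, which is what this row takes.) -/
theorem result (A : Type u) [CommRing A] [IsNoetherianRing A]
    (M : Type v) (F : Type v) [AddCommGroup M] [Module A M] [Module.Finite A M]
    [AddCommGroup F] [Module A F] [Module.Finite A F] [Module.Free A F]
    (δ : M →ₗ[A] F) (p : Ideal A) [p.IsPrime] :
    [ Function.Exact (LinearMap.lTensor p.ResidueField (LinearMap.ker δ).subtype)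
        (LinearMap.lTensor p.ResidueField δ),
      Function.Exact (LinearMap.lTensor p.ResidueField (LinearMap.ker δ).subtype)
        (LinearMap.lTensor p.ResidueField δ) ∧
        Function.Injective (LinearMap.lTensor p.ResidueField (LinearMap.ker δ).subtype),
      Module.Free (Localization.AtPrime p)
        (LocalizedModule p.primeCompl (F ⧸ LinearMap.range δ)) ].TFAE ∧
    (Function.Exact (LinearMap.lTensor p.ResidueField (LinearMap.ker δ).subtype)
        (LinearMap.lTensor p.ResidueField δ) →
      Module.Free (Localization.AtPrime p)
        (LocalizedModule p.primeCompl (LinearMap.range δ))) := by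
  let k := p.ResidueField
  let L := Localization.AtPrime p
  let ι := (LinearMap.range δ).subtype
  let q := δ.rangeRestrict
  have hK : Function.Exact (LinearMap.ker δ).subtype q := by
    rw [LinearMap.exact_iff, LinearMap.ker_rangeRestrict, Submodule.range_subtype]
  have hKk : Function.Exact (LinearMap.lTensor k (LinearMap.ker δ).subtype) (q.lTensor k) :=
    lTensor_exact k hK δ.surjective_rangeRestrict
  have hδ : LinearMap.lTensor k δ = ι.lTensor k ∘ₗ q.lTensor k := by
    rw [← LinearMap.lTensor_comp]; congr 1
  -- (a) iff ι ⊗ k injective
  have ha : Function.Exact (LinearMap.lTensor k (LinearMap.ker δ).subtype) (LinearMap.lTensor k δ) ↔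
      Function.Injective (ι.lTensor k) := by
    rw [hδ]
    refine ⟨fun he => ?_, fun hi => hKk.comp_injective _ hi (map_zero _)⟩
    rw [← LinearMap.ker_eq_bot, eq_bot_iff]
    intro z hz
    obtain ⟨w, rfl⟩ := LinearMap.lTensor_surjective k δ.surjective_rangeRestrict z
    obtain ⟨v, rfl⟩ := (he w).1 hz
    rw [Submodule.mem_bot]
    exact (hKk _).2 ⟨v, rfl⟩
  let ιL := ι.baseChange L
  have hexC : Function.Exact ιL ((LinearMap.range δ).mkQ.baseChange L) :=
    lTensor_exact L (LinearMap.exact_subtype_mkQ _) (Submodule.mkQ_surjective _)
  have hsC : Function.Surjective ((LinearMap.range δ).mkQ.baseChange L) :=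
    LinearMap.lTensor_surjective L (Submodule.mkQ_surjective _)
  have hinjL : Function.Injective ιL :=
    Module.Flat.lTensor_preserves_injective_linearMap ι (LinearMap.range δ).injective_subtype
  have hcrit : Function.Injective (ι.lTensor k) ↔ ∃ r, r ∘ₗ ιL = LinearMap.id :=
    (inj_iff_baseChange L k ι).symm.trans
      (IsLocalRing.split_injective_iff_lTensor_residueField_injective ιL).symm
  let eC : L ⊗[A] (F ⧸ LinearMap.range δ) ≃ₗ[L] LocalizedModule p.primeCompl (F ⧸ LinearMap.range δ) :=
    (LocalizedModule.equivTensorProduct p.primeCompl _).symm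
  let eI : L ⊗[A] (LinearMap.range δ) ≃ₗ[L] LocalizedModule p.primeCompl (LinearMap.range δ) :=
    (LocalizedModule.equivTensorProduct p.primeCompl _).symm
  -- split implies everything
  have split : (∃ r, r ∘ₗ ιL = LinearMap.id) → Module.Free L (L ⊗[A] (LinearMap.range δ)) ∧
      Module.Free L (L ⊗[A] (F ⧸ LinearMap.range δ)) := by
    rintro ⟨r, hr⟩
    have : Module.Projective L (L ⊗[A] (LinearMap.range δ)) := Module.Projective.of_split ιL r hr
    have hsp := ((Function.Exact.split_tfae hexC hinjL hsC).out 1 0).1
      (show ∃ l, l ∘ₗ ιL = LinearMap.id from ⟨r, hr⟩)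
    obtain ⟨s, hs⟩ := hsp
    have : Module.Projective L (L ⊗[A] (F ⧸ LinearMap.range δ)) :=
      Module.Projective.of_split s ((LinearMap.range δ).mkQ.baseChange L) hs
    exact ⟨Module.free_of_flat_of_isLocalRing, Module.free_of_flat_of_isLocalRing⟩
  have free_split : Module.Free L (LocalizedModule p.primeCompl (F ⧸ LinearMap.range δ)) →
      ∃ r, r ∘ₗ ιL = LinearMap.id := by
    intro hfree
    have : Module.Free L (L ⊗[A] (F ⧸ LinearMap.range δ)) := Module.Free.of_equiv eC.symm
    exact ((Function.Exact.split_tfae hexC hinjL hsC).out 0 1).1
      (Module.projective_lifting_property _ LinearMap.id hsC)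
  have inj_ker : (∃ r, r ∘ₗ ιL = LinearMap.id) →
      Function.Injective (LinearMap.lTensor k (LinearMap.ker δ).subtype) := by
    intro h
    obtain ⟨hI, -⟩ := split h
    rw [← inj_iff_baseChange L k]
    have hex : Function.Exact ((LinearMap.ker δ).subtype.baseChange L) (q.baseChange L) :=
      lTensor_exact L hK δ.surjective_rangeRestrict
    have hs : Function.Surjective (q.baseChange L) :=
      LinearMap.lTensor_surjective L δ.surjective_rangeRestrict
    have hi : Function.Injective ((LinearMap.ker δ).subtype.baseChange L) :=
      Module.Flat.lTensor_preserves_injective_linearMap _ (LinearMap.ker δ).injective_subtype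
    obtain ⟨t, ht⟩ := ((Function.Exact.split_tfae hex hi hs).out 0 1).1
      (Module.projective_lifting_property _ LinearMap.id hs)
    refine Function.LeftInverse.injective (g := t.lTensor k) fun x => ?_
    rw [← LinearMap.comp_apply, ← LinearMap.lTensor_comp, ht, LinearMap.lTensor_id, LinearMap.id_apply]
  refine ⟨?_, fun h => ?_⟩
  · tfae_have 1 → 3 := fun h => by
      obtain ⟨-, hC⟩ := split (hcrit.1 (ha.1 h))
      exact Module.Free.of_equiv eC
    tfae_have 3 → 2 := fun h =>
      ⟨ha.2 (hcrit.2 (free_split h)), inj_ker (free_split h)⟩
    tfae_have 2 → 1 := fun h => h.1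
    tfae_finish
  · obtain ⟨hI, -⟩ := split (hcrit.1 (ha.1 h))
    exact Module.Free.of_equiv eI

end Groth.Agent.S14608
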