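import Groth.Statements.S1461
import Groth.Agent.FlatMorApprox.Refine
import Groth.Agent.FlatMorGeomRed.Constr
import Groth.Agent.FlatMorGeomRed.Descent

set_option autoImplicit false
universe u
open FlatMor

namespace Groth.Agent.S1461

open AlgebraicGeometry CategoryTheory Limits in
/-- Let f : X → S be a morphism of finite presentation between affine schemes whose fibres are
geometrically reduced. Then f is the base change of a morphism of finite type f₀ : X₀ → S₀ between
affine schemes with S₀ of finite type over ℤ, where f₀ can be chosen with the same property. -/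
theorem result {X S : Scheme.{u}} (f : X ⟶ S) [IsAffine X] [IsAffine S] [LocallyOfFinitePresentation f] [GeometricallyReduced f] :
    ∃ (X₀ S₀ : Scheme.{u}) (f₀ : X₀ ⟶ S₀) (g : S ⟶ S₀) (g' : X ⟶ X₀), IsAffine X₀ ∧ IsAffine S₀ ∧ IsPullback g' f f₀ g ∧
      Algebra.FiniteType ℤ Γ(S₀, ⊤) ∧ LocallyOfFiniteType f₀ ∧ GeometricallyReduced f₀ := by
  obtain ⟨X₀, S₀, f₀, g, g', h1, h2, h3, h4, h5, h6⟩ :=
    Groth.Agent.FlatMorApprox.exists_pullback_model_forall @GeometricallyReduced
      (fun {X X' Y Y'} {g'} {f'} {f} {g} hc _ y' => by
        rw [GeometricallyReduced.eq_geometrically]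
        exact Groth.Agent.FlatMorGeomRed.geometrically_fiber_iff_baseChange
          (fun π hs hf h => @Groth.Agent.FlatMorGeomRed.isReduced_descends _ _ π hs hf h) hc y')
      (fun h _ _ _ => Groth.Agent.FlatMorGeomRed.isLocallyConstructible_setOf_geometricallyReduced h) f
      (fun s => MorphismProperty.of_isPullback (IsPullback.of_hasPullback f (S.fromSpecResidueField s))
        (show GeometricallyReduced f from inferInstance))
  refine ⟨X₀, S₀, f₀, g, g', h1, h2, h3, h4, h5, ?_⟩
  rw [GeometricallyReduced.eq_geometrically] at h6 ⊢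
  exact geometrically_iff_forall_fiberToSpecResidueField.2 h6

end Groth.Agent.S1461
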