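import Groth.Statements.S14610
import Mathlib
import Groth.Agent.FlatCxLib.DRank2
import Groth.Agent.CAlgSmall.ClopenSplit

set_option linter.all false

set_option autoImplicit false
universe u v
open CAlg

open TensorProduct

namespace Groth.Agent.S14610

theorem usc_fibre {A : Type u} [CommRing A] (M : Type v) [AddCommGroup M] [Module A M]
    [Module.Finite A M] :
    UpperSemicontinuous (fun x : PrimeSpectrum A =>
      Module.finrank x.asIdeal.ResidueField (x.asIdeal.ResidueField ⊗[A] M)) := by
  obtain ⟨n, f, hf⟩ := Module.Finite.exists_fin' A M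
  let e := f.quotKerEquivOfSurjective hf
  have h := Groth.Agent.FlatCxLib.upperSemicontinuous_fibreRank (A := A)
    ((Fin n → A) ⧸ LinearMap.ker f)
  convert h using 1
  funext x
  symm
  exact (LinearEquiv.baseChange A x.asIdeal.ResidueField _ _ e).finrank_eq

theorem flat_of_lc {A : Type u} [CommRing A] [IsReduced A] (M : Type v) [AddCommGroup M] [Module A M]
    [Module.Finite A M] (h : IsLocallyConstant (fun x : PrimeSpectrum A =>
      Module.finrank x.asIdeal.ResidueField (x.asIdeal.ResidueField ⊗[A] M))) :
    Module.Flat A M := by
  obtain ⟨n, f, hf⟩ := Module.Finite.exists_fin' A M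
  let e := f.quotKerEquivOfSurjective hf
  have : Module.Flat A ((Fin n → A) ⧸ LinearMap.ker f) := by
    refine Groth.Agent.FlatCxLib.flat_of_isLocallyConstant_fibreRank _ ?_
    convert h using 1
    funext x
    exact (LinearEquiv.baseChange A x.asIdeal.ResidueField _ _ e).finrank_eq
  exact Module.Flat.of_linearEquiv e.symm

theorem rank_range {A : Type u} [CommRing A] {M N : Type v} [AddCommGroup M] [Module A M]
    [AddCommGroup N] [Module A N] [Module.Finite A N] (f : M →ₗ[A] N) (K : Type u) [Field K]
    [Algebra A K] :
    Module.finrank K (LinearMap.range (f.baseChange K)) +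
      Module.finrank K (K ⊗[A] (N ⧸ LinearMap.range f)) = Module.finrank K (K ⊗[A] N) := by
  let π := (LinearMap.range f).mkQ.baseChange K
  have hex : Function.Exact (f.baseChange K) π :=
    lTensor_exact K (LinearMap.exact_map_mkQ_range f) (Submodule.mkQ_surjective _)
  have hs : Function.Surjective π := LinearMap.lTensor_surjective K (Submodule.mkQ_surjective _)
  rw [← ((Submodule.quotEquivOfEq _ _ (LinearMap.exact_iff.mp hex).symm).trans
    (π.quotKerEquivOfSurjective hs)).finrank_eq, add_comm]
  exact Submodule.finrank_quotient_add_finrank _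

theorem lc_free {A : Type u} [CommRing A] [IsNoetherianRing A] (M : Type v) [AddCommGroup M]
    [Module A M] [Module.Finite A M] [Module.Flat A M] :
    IsLocallyConstant (fun x : PrimeSpectrum A =>
      Module.finrank x.asIdeal.ResidueField (x.asIdeal.ResidueField ⊗[A] M)) := by
  have : Module.FinitePresentation A M := Module.finitePresentation_of_finite A M
  have h := Module.isLocallyConstant_rankAtStalk (R := A) (M := M)
  convert h using 1
  funext x
  exact (Module.rankAtStalk_eq x).symm

theorem proj_of_flat {A : Type u} [CommRing A] [IsNoetherianRing A] (M : Type v) [AddCommGroup M]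
    [Module A M] [Module.Finite A M] [Module.Flat A M] : Module.Projective A M := by
  have : Module.FinitePresentation A M := Module.finitePresentation_of_finite A M
  exact Module.Flat.projective_of_finitePresentation (R := A) (M := M)

theorem range_summand {A : Type u} [CommRing A] {M : Type v} [AddCommGroup M] [Module A M]
    (N : Submodule A M) [Module.Projective A (M ⧸ N)] :
    ∃ r : M →ₗ[A] N, r ∘ₗ N.subtype = LinearMap.id := by
  obtain ⟨s, hs⟩ := Module.projective_lifting_property N.mkQ LinearMap.id (Submodule.mkQ_surjective _)
  refine ⟨LinearMap.codRestrict N (LinearMap.id - s ∘ₗ N.mkQ) fun x => ?_, ?_⟩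
  · rw [← Submodule.Quotient.mk_eq_zero, ← Submodule.mkQ_apply]
    have := LinearMap.congr_fun hs (N.mkQ x)
    simp only [LinearMap.sub_apply, LinearMap.id_apply, LinearMap.comp_apply, map_sub] at this ⊢
    rw [this, sub_self]
  · ext x
    simp [(Submodule.Quotient.mk_eq_zero N).2 x.2]

theorem ker_rank {A : Type u} [CommRing A] {M F : Type v} [AddCommGroup M] [Module A M]
    [Module.Finite A M] [AddCommGroup F] [Module A F] [Module.Finite A F] (δ : M →ₗ[A] F)
    (K : Type u) [Field K] [Algebra A K] :
    Module.finrank K (LinearMap.ker (δ.baseChange K)) + Module.finrank K (K ⊗[A] F) =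
      Module.finrank K (K ⊗[A] M) + Module.finrank K (K ⊗[A] (F ⧸ LinearMap.range δ)) := by
  have h1 := LinearMap.finrank_range_add_finrank_ker (δ.baseChange K)
  have h2 := rank_range δ K
  omega

open TensorProduct in
/-- Let A be a reduced Noetherian ring, M a finitely generated A-module, F a finitely generated free
A-module and δ : M → F an A-linear map such that the function p ↦ dim_{κ(p)} ker(δ ⊗ κ(p)) is
locally constant on Spec A. Then M, ker δ and coker δ = F / im δ are projective A-modules, and for
every A-module N the natural map (ker δ) ⊗ N → M ⊗ N is injective with image equal to the kernel of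
δ ⊗ N. -/
theorem result (A : Type u) [CommRing A]
    [IsNoetherianRing A] [IsReduced A] (M : Type v) (F : Type v) [AddCommGroup M] [Module A M]
    [Module.Finite A M] [AddCommGroup F] [Module A F] [Module.Finite A F] [Module.Free A F]
    (δ : M →ₗ[A] F)
    (h : IsLocallyConstant (fun x : PrimeSpectrum A =>
      Module.finrank x.asIdeal.ResidueField
        (LinearMap.ker (δ.baseChange x.asIdeal.ResidueField)))) :
    Module.Projective A M ∧ Module.Projective A (LinearMap.ker δ) ∧
      Module.Projective A (F ⧸ LinearMap.range δ) ∧
      ∀ (N : Type v) [AddCommGroup N] [Module A N],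
        Function.Injective (LinearMap.rTensor N (LinearMap.ker δ).subtype) ∧
        Function.Exact (LinearMap.rTensor N (LinearMap.ker δ).subtype) (LinearMap.rTensor N δ) := by
  have key : ∀ x : PrimeSpectrum A, ∀ᶠ y in nhds x,
      Module.finrank y.asIdeal.ResidueField (y.asIdeal.ResidueField ⊗[A] M) =
        Module.finrank x.asIdeal.ResidueField (x.asIdeal.ResidueField ⊗[A] M) ∧
      Module.finrank y.asIdeal.ResidueField (y.asIdeal.ResidueField ⊗[A] (F ⧸ LinearMap.range δ)) =
        Module.finrank x.asIdeal.ResidueField (x.asIdeal.ResidueField ⊗[A] (F ⧸ LinearMap.range δ)) := by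
    intro x
    filter_upwards [usc_fibre (A := A) (F ⧸ LinearMap.range δ) x _ (Nat.lt_succ_self _),
      usc_fibre (A := A) M x _ (Nat.lt_succ_self _),
      (lc_free (A := A) F).eventually_eq x, h.eventually_eq x] with y h1 h2 h3 h4
    have ex := ker_rank δ x.asIdeal.ResidueField
    have ey := ker_rank δ y.asIdeal.ResidueField
    omega
  have : Module.Flat A M := flat_of_lc M ((IsLocallyConstant.iff_eventually_eq _).2 fun x =>
    (key x).mono fun _ hy => hy.1)
  have : Module.Flat A (F ⧸ LinearMap.range δ) := flat_of_lc _
    ((IsLocallyConstant.iff_eventually_eq _).2 fun x => (key x).mono fun _ hy => hy.2)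
  have hM : Module.Projective A M := proj_of_flat M
  have hC : Module.Projective A (F ⧸ LinearMap.range δ) := proj_of_flat _
  obtain ⟨r, hr⟩ := range_summand (LinearMap.range δ)
  have hI : Module.Projective A (LinearMap.range δ) :=
    Module.Projective.of_split (LinearMap.range δ).subtype r hr
  have : Module.Projective A (M ⧸ LinearMap.ker δ) :=
    Module.Projective.of_equiv δ.quotKerEquivRange.symm
  obtain ⟨t, ht⟩ := range_summand (LinearMap.ker δ)
  refine ⟨hM, Module.Projective.of_split (LinearMap.ker δ).subtype t ht, hC, fun N _ _ => ⟨?_, ?_⟩⟩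
  · refine Function.LeftInverse.injective (g := t.rTensor N) fun x => ?_
    rw [← LinearMap.comp_apply, ← LinearMap.rTensor_comp, ht, LinearMap.rTensor_id, LinearMap.id_apply]
  · have e : Function.Exact (LinearMap.rTensor N (LinearMap.ker δ).subtype)
        (LinearMap.rTensor N δ.rangeRestrict) := by
      refine rTensor_exact N ?_ δ.surjective_rangeRestrict
      rw [LinearMap.exact_iff, LinearMap.ker_rangeRestrict, Submodule.range_subtype]
    have hi : Function.Injective (LinearMap.rTensor N (LinearMap.range δ).subtype) := by
      refine Function.LeftInverse.injective (g := r.rTensor N) fun x => ?_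
      rw [← LinearMap.comp_apply, ← LinearMap.rTensor_comp, hr, LinearMap.rTensor_id, LinearMap.id_apply]
    have := e.comp_injective _ hi (map_zero _)
    rw [← LinearMap.coe_comp, ← LinearMap.rTensor_comp] at this
    exact this

end Groth.Agent.S14610
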