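import Mathlib.AlgebraicGeometry.Morphisms.ClosedImmersion
import Mathlib.AlgebraicGeometry.Noetherian
import Mathlib.RingTheory.Filtration
import Mathlib.RingTheory.HopkinsLevitzki
import Mathlib.RingTheory.Artinian.Ring
import Mathlib.RingTheory.LocalRing.ResidueField.Basic
import Mathlib.AlgebraicGeometry.Morphisms.FlatMono
import Mathlib.AlgebraicGeometry.Noetherian

set_option autoImplicit false
universe u
namespace Mor
end Mor
open Mor

namespace Groth.Agent.S14614

open CategoryTheory AlgebraicGeometry in
/-- Let S be a locally Noetherian scheme and i : Z → S a closed immersion with the following property: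
for every Artinian local ring A with residue field k and every morphism g : Spec A → S, if the
restriction Spec k → Spec A → S of g factors through i then so does g. Then i is also an open
immersion, i.e. the closed subscheme Z is open in S as a subscheme. (The published hypothesis is an
equivalence; its other direction always holds, so this row assumes only the implication.) -/
theorem result (S : Scheme.{u}) [IsLocallyNoetherian S]
    {Z : Scheme.{u}} (i : Z ⟶ S) [IsClosedImmersion i]
    (h : ∀ (A : Type u) [CommRing A] [IsArtinianRing A] [IsLocalRing A] (g : Spec (CommRingCat.of A) ⟶ S),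
      (∃ t : Spec (CommRingCat.of (IsLocalRing.ResidueField A)) ⟶ Z,
          t ≫ i = Spec.map (CommRingCat.ofHom (IsLocalRing.residue A)) ≫ g) →
        ∃ g' : Spec (CommRingCat.of A) ⟶ Z, g' ≫ i = g) :
    IsOpenImmersion i := by
  have : LocallyOfFinitePresentation i := LocallyOfFinitePresentation.iff_locallyOfFiniteType.mpr inferInstance
  have : Flat i := by
    refine Flat.of_stalkMap i fun z => RingHom.Flat.of_bijective ⟨?_, i.stalkMap_surjective z⟩
    rw [injective_iff_map_eq_zero]
    intro r hr
    let R : Type u := S.presheaf.stalk (i.base z)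
    let m := IsLocalRing.maximalIdeal R
    suffices hk : ∀ n : ℕ, r ∈ m ^ (n + 1) by
      have hK := Ideal.iInf_pow_eq_bot_of_isLocalRing (R := R) m (IsLocalRing.maximalIdeal.isMaximal R).ne_top
      have h0 : r ∈ ⨅ k : ℕ, m ^ k := Submodule.mem_iInf _ |>.mpr fun k => by
        cases k with
        | zero => simp
        | succ k => exact hk k
      rw [hK] at h0
      exact h0
    intro n
    let q : R →+* R ⧸ m ^ (n + 1) := Ideal.Quotient.mk _
    have hne : m ^ (n + 1) ≠ ⊤ := fun h0 =>
      (IsLocalRing.maximalIdeal.isMaximal R).ne_top (top_le_iff.mp (h0 ▸ Ideal.pow_le_self (Nat.succ_ne_zero n)))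
    have : Nontrivial (R ⧸ m ^ (n + 1)) := Ideal.Quotient.nontrivial_iff.mpr hne
    have : IsLocalRing (R ⧸ m ^ (n + 1)) := IsLocalRing.of_surjective' q Ideal.Quotient.mk_surjective
    have : IsLocalHom q := IsLocalHom.of_surjective q Ideal.Quotient.mk_surjective
    have : IsArtinianRing (R ⧸ m ^ (n + 1)) := by
      have : Ring.KrullDimLE 0 (R ⧸ m ^ (n + 1)) := Ring.KrullDimLE.mk₀ fun P hP => by
        have hle : m ≤ P.comap q :=
          (Ideal.IsPrime.comap q (hK := hP)).le_of_pow_le fun x hx => by
            rw [Ideal.mem_comap, show q x = 0 from Ideal.Quotient.eq_zero_iff_mem.mpr hx]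
            exact zero_mem P
        have heq : m = P.comap q :=
          (IsLocalRing.maximalIdeal.isMaximal R).eq_of_le (Ideal.IsPrime.comap q (hK := hP)).ne_top hle
        rw [← Ideal.map_comap_of_surjective q Ideal.Quotient.mk_surjective P, ← heq]
        exact (Ideal.map_eq_top_or_isMaximal_of_surjective q Ideal.Quotient.mk_surjective
          (IsLocalRing.maximalIdeal.isMaximal R)).resolve_left fun ht => hP.ne_top (by
            rw [← Ideal.map_comap_of_surjective q Ideal.Quotient.mk_surjective P, ← heq, ht])
      exact isArtinianRing_iff_krullDimLE_zero.mpr inferInstance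
    let ρ := (IsLocalRing.residue (R ⧸ m ^ (n + 1))).comp q
    let χ : Z.presheaf.stalk z →+* IsLocalRing.ResidueField (R ⧸ m ^ (n + 1)) :=
      RingHom.liftOfSurjective (i.stalkMap z).hom (i.stalkMap_surjective z) ⟨ρ, fun a ha => by
        rw [RingHom.mem_ker] at ha ⊢
        show IsLocalRing.residue _ (q a) = 0
        rw [IsLocalRing.residue_eq_zero_iff]
        refine map_nonunit q a ?_
        intro hu
        have := hu.map (i.stalkMap z).hom
        rw [ha] at this
        exact not_isUnit_zero this⟩
    have hχ : (CommRingCat.ofHom χ : Z.presheaf.stalk z ⟶ _) =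
        CommRingCat.ofHom χ := rfl
    have hχ' : i.stalkMap z ≫ CommRingCat.ofHom χ = CommRingCat.ofHom q ≫ CommRingCat.ofHom (IsLocalRing.residue (R ⧸ m ^ (n + 1))) :=
      CommRingCat.hom_ext (RingHom.ext fun a => by
        show χ ((i.stalkMap z).hom a) = ρ a
        exact RingHom.liftOfSurjective_comp_apply _ _ _ a)
    obtain ⟨g', hg'⟩ := h (R ⧸ m ^ (n + 1))
      (Spec.map (CommRingCat.ofHom q) ≫ S.fromSpecStalk (i.base z))
      ⟨Spec.map (CommRingCat.ofHom χ) ≫ Z.fromSpecStalk z, by
        rw [Category.assoc, ← Scheme.SpecMap_stalkMap_fromSpecStalk, ← Spec.map_comp_assoc]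
        refine (congrArg (fun φ => Spec.map φ ≫ S.fromSpecStalk (i.base z)) hχ').trans ?_
        exact (congrArg (fun φ => φ ≫ S.fromSpecStalk (i.base z)) (Spec.map_comp _ _)).trans (Category.assoc _ _ _)⟩
    have hpt : g'.base (IsLocalRing.closedPoint (R ⧸ m ^ (n + 1))) = z := by
      apply i.isEmbedding.injective
      rw [← Scheme.Hom.comp_apply, hg', Scheme.Hom.comp_apply]
      have hq : (Spec.map (CommRingCat.ofHom q)).base (IsLocalRing.closedPoint (R ⧸ m ^ (n + 1))) =
          IsLocalRing.closedPoint R := IsLocalRing.comap_closedPoint q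
      rw [hq]
      exact S.fromSpecStalk_closedPoint
    obtain ⟨ψ, hψ⟩ : ∃ ψ : Z.presheaf.stalk z ⟶ CommRingCat.of (R ⧸ m ^ (n + 1)),
        Spec.map ψ ≫ Z.fromSpecStalk z = g' := by
      have key : ∀ w, g'.base (IsLocalRing.closedPoint (R ⧸ m ^ (n + 1))) = w →
          ∃ ψ : Z.presheaf.stalk w ⟶ CommRingCat.of (R ⧸ m ^ (n + 1)), Spec.map ψ ≫ Z.fromSpecStalk w = g' := by
        rintro w rfl
        exact ⟨Scheme.stalkClosedPointTo g', Scheme.Spec_stalkClosedPointTo_fromSpecStalk g'⟩
      exact key z hpt
    rw [← hψ, Category.assoc, ← Scheme.SpecMap_stalkMap_fromSpecStalk, ← Spec.map_comp_assoc,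
      cancel_mono] at hg'
    have h1 : ψ.hom ((i.stalkMap z).hom r) = q r := congrArg (fun φ => φ.hom r) (Spec.map_injective hg')
    rw [hr, map_zero] at h1
    exact Ideal.Quotient.eq_zero_iff_mem.mp h1.symm
  exact IsOpenImmersion.of_flat_of_mono i

end Groth.Agent.S14614
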