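import Groth.Statements.S14615
import Groth.Agent.ProComplLib.Basic

set_option autoImplicit false
universe u
open Formal2

namespace Groth.Agent.S14615

/-- Let … → G_2 → G_1 → G_0 be an inverse system of abelian groups with transition maps t_n : G_{n+1} →
G_n, and suppose that for every i there is j ≥ i such that the composite transition map G_j → G_i is
zero; this is expressed by asking that every sequence (x_n) ∈ ∏ G_n satisfying x_n = t_n(x_{n+1})
for i ≤ n < j has x_i = 0. Then both lim G_n and lim¹ G_n vanish: the map (x_n) ↦ (x_n −
t_n(x_{n+1})) on ∏ G_n, whose kernel is lim and whose cokernel is lim¹, is injective and surjective. -/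
theorem result (G : ℕ → Type u)
    [∀ n, AddCommGroup (G n)] (t : ∀ n, G (n + 1) →+ G n)
    (h : ∀ i : ℕ, ∃ j : ℕ, i ≤ j ∧
      ∀ x : ∀ n, G n, (∀ n, i ≤ n → n < j → x n = t n (x (n + 1))) → x i = 0) :
    Formal2.limZero G t = ⊥ ∧ Function.Surjective (Formal2.towerDiff G t) := by
  refine ⟨?_, ?_⟩
  · refine (AddSubgroup.eq_bot_iff_forall _).2 fun x hx => funext fun i => ?_
    obtain ⟨j, hij, hj⟩ := h i
    exact hj x fun n _ _ => sub_eq_zero.1 (congrFun hx n :)
  · intro y
    let step : ∀ N : ℕ, Nat → (∀ n, G n) := fun N m =>
      Nat.rec 0 (fun d z => Function.update z (N - (d + 1)) (y (N - (d + 1)) + t _ (z (N - (d + 1) + 1)))) m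
    let F : ℕ → ∀ n, G n := fun N => step N N
    have hF : ∀ N n, n < N → F N n = y n + t n (F N (n + 1)) := by
      intro N
      have key : ∀ d, d ≤ N → ∀ n, N - d ≤ n → n < N → step N d n = y n + t n (step N d (n + 1)) := by
        intro d
        induction d with
        | zero => intro _ n h1 h2; omega
        | succ d ih =>
          intro hd n h1 h2
          change Function.update (step N d) _ _ n = y n + t n (Function.update (step N d) _ _ (n + 1))
          rcases eq_or_ne n (N - (d + 1)) with rfl | hne
          · rw [Function.update_self, Function.update_of_ne (by omega)]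
          · rw [Function.update_of_ne hne, Function.update_of_ne (by omega)]
            exact ih (by omega) n (by omega) h2
      exact fun n hn => key N le_rfl n (by omega) hn
    choose j hij hj using h
    have hdet : ∀ i N M, j i ≤ N → j i ≤ M → F N i = F M i := fun i N M hN hM =>
      sub_eq_zero.1 (hj i (F N - F M) fun n _ hn => by
        simp only [Pi.sub_apply, map_sub]
        rw [hF N n (by omega), hF M n (by omega)]
        abel)
    refine ⟨fun i => F (j i) i, funext fun n => ?_⟩
    change F (j n) n - t n (F (j (n + 1)) (n + 1)) = y n
    have hn : n < max (j n) (j (n + 1)) := by have := hij (n + 1); omega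
    rw [hdet n (j n) (max (j n) (j (n + 1))) le_rfl (le_max_left _ _),
      hdet (n + 1) (j (n + 1)) (max (j n) (j (n + 1))) le_rfl (le_max_right _ _), hF _ n hn]
    abel

end Groth.Agent.S14615
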