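import Groth.Statements.S14617


set_option autoImplicit false
universe u
open Formal2

namespace Groth.Agent.S14617

/-- Let 0 → (G'_n) → (G_n) → (G''_n) → 0 be a short exact sequence of inverse systems of abelian groups
indexed by ℕ: maps u_n : G'_n → G_n and v_n : G_n → G''_n commuting with the transition maps, with
u_n injective, v_n surjective and ker v_n = im u_n for every n. Writing lim and lim¹ for the kernel
and cokernel of (x_n) ↦ (x_n − t_n(x_{n+1})) on the product, there is an exact sequence 0 → lim G' →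
lim G → lim G'' → lim¹ G' → lim¹ G → lim¹ G'' → 0 in which the four outer maps are the ones induced
by u and v on products and the connecting map δ sends a compatible sequence (z_n) to the class of
the unique (w_n) with u_n(w_n) = y_n − t_n(y_{n+1}), for any levelwise lift (y_n) of (z_n). -/
theorem result (G' G G'' : ℕ → Type u)
    [∀ n, AddCommGroup (G' n)] [∀ n, AddCommGroup (G n)] [∀ n, AddCommGroup (G'' n)]
    (t' : ∀ n, G' (n + 1) →+ G' n) (t : ∀ n, G (n + 1) →+ G n) (t'' : ∀ n, G'' (n + 1) →+ G'' n)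
    (u : ∀ n, G' n →+ G n) (v : ∀ n, G n →+ G'' n)
    (hu : ∀ n x, t n (u (n + 1) x) = u n (t' n x)) (hv : ∀ n x, t'' n (v (n + 1) x) = v n (t n x))
    (hinj : ∀ n, Function.Injective (u n)) (hsurj : ∀ n, Function.Surjective (v n))
    (hex : ∀ n, (v n).ker = (u n).range) :
    ∃ (α : Formal2.limZero G' t' →+ Formal2.limZero G t) (β : Formal2.limZero G t →+ Formal2.limZero G'' t'')
      (δ : Formal2.limZero G'' t'' →+ Formal2.limOne G' t')
      (ε : Formal2.limOne G' t' →+ Formal2.limOne G t) (ζ : Formal2.limOne G t →+ Formal2.limOne G'' t''),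
      (∀ (x : Formal2.limZero G' t') (n : ℕ), (α x : ∀ n, G n) n = u n ((x : ∀ n, G' n) n)) ∧
      (∀ (x : Formal2.limZero G t) (n : ℕ), (β x : ∀ n, G'' n) n = v n ((x : ∀ n, G n) n)) ∧
      (∀ (z : Formal2.limZero G'' t'') (y : ∀ n, G n) (w : ∀ n, G' n),
          (∀ n, v n (y n) = (z : ∀ n, G'' n) n) → (∀ n, u n (w n) = Formal2.towerDiff G t y n) →
            δ z = (QuotientAddGroup.mk w : Formal2.limOne G' t')) ∧
      (∀ y : ∀ n, G' n, ε (QuotientAddGroup.mk y : Formal2.limOne G' t') =
          (QuotientAddGroup.mk (fun n => u n (y n)) : Formal2.limOne G t)) ∧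
      (∀ y : ∀ n, G n, ζ (QuotientAddGroup.mk y : Formal2.limOne G t) =
          (QuotientAddGroup.mk (fun n => v n (y n)) : Formal2.limOne G'' t'')) ∧
      Function.Injective α ∧ α.range = β.ker ∧ β.range = δ.ker ∧ δ.range = ε.ker ∧ ε.range = ζ.ker ∧
      Function.Surjective ζ := by
  classical
  have hd : ∀ y : ∀ n, G' n, Formal2.towerDiff G t (fun n => u n (y n)) =
      fun n => u n (Formal2.towerDiff G' t' y n) := fun y => funext fun n => by
    simp [Formal2.towerDiff, hu]
  have hd' : ∀ y : ∀ n, G n, Formal2.towerDiff G'' t'' (fun n => v n (y n)) =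
      fun n => v n (Formal2.towerDiff G t y n) := fun y => funext fun n => by
    simp [Formal2.towerDiff, hv]
  have hvu : ∀ n x, v n (u n x) = 0 := fun n x =>
    AddMonoidHom.mem_ker.1 (hex n ▸ AddMonoidHom.mem_range.2 ⟨x, rfl⟩)
  have hlift : ∀ n x, v n x = 0 → ∃ w, u n w = x := fun n x hx =>
    AddMonoidHom.mem_range.1 (hex n ▸ AddMonoidHom.mem_ker.2 hx)
  let U : (∀ n, G' n) →+ ∀ n, G n :=
    AddMonoidHom.piMap u
  let V : (∀ n, G n) →+ ∀ n, G'' n :=
    AddMonoidHom.piMap v
  let α : Formal2.limZero G' t' →+ Formal2.limZero G t :=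
    (U.comp (Formal2.limZero G' t').subtype).codRestrict _ fun x => by
      change Formal2.towerDiff G t (fun n => u n ((x : ∀ n, G' n) n)) = 0
      rw [hd, (x.2 : Formal2.towerDiff G' t' x = 0)]
      exact funext fun n => map_zero (u n)
  let β : Formal2.limZero G t →+ Formal2.limZero G'' t'' :=
    (V.comp (Formal2.limZero G t).subtype).codRestrict _ fun x => by
      change Formal2.towerDiff G'' t'' (fun n => v n ((x : ∀ n, G n) n)) = 0
      rw [hd', (x.2 : Formal2.towerDiff G t x = 0)]
      exact funext fun n => map_zero (v n)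
  let ε : Formal2.limOne G' t' →+ Formal2.limOne G t :=
    QuotientAddGroup.map _ _ U (by
      rintro _ ⟨y, rfl⟩
      exact ⟨fun n => u n (y n), hd y⟩)
  let ζ : Formal2.limOne G t →+ Formal2.limOne G'' t'' :=
    QuotientAddGroup.map _ _ V (by
      rintro _ ⟨y, rfl⟩
      exact ⟨fun n => v n (y n), hd' y⟩)
  let Y : Formal2.limZero G'' t'' → ∀ n, G n := fun z n => (hsurj n ((z : ∀ n, G'' n) n)).choose
  have hY : ∀ z n, v n (Y z n) = (z : ∀ n, G'' n) n := fun z n => (hsurj n _).choose_spec
  have hW0 : ∀ (z : Formal2.limZero G'' t'') (y : ∀ n, G n), (∀ n, v n (y n) = (z : ∀ n, G'' n) n) →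
      ∃ w : ∀ n, G' n, ∀ n, u n (w n) = Formal2.towerDiff G t y n := fun z y hy => by
    choose w hw using fun n => hlift n (Formal2.towerDiff G t y n) (by
      have h1 := congrFun (hd' y) n
      rw [show (fun n => v n (y n)) = (z : ∀ n, G'' n) from funext hy,
        (z.2 : Formal2.towerDiff G'' t'' z = 0)] at h1
      exact h1.symm)
    exact ⟨w, hw⟩
  choose W hW using fun z => hW0 z (Y z) (hY z)
  have hδ : ∀ (z : Formal2.limZero G'' t'') (y : ∀ n, G n) (w : ∀ n, G' n),
      (∀ n, v n (y n) = (z : ∀ n, G'' n) n) → (∀ n, u n (w n) = Formal2.towerDiff G t y n) →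
        (QuotientAddGroup.mk (W z) : Formal2.limOne G' t') = QuotientAddGroup.mk w := by
    intro z y w hy hw
    choose a ha using fun n => hlift n (y n - Y z n) (by rw [map_sub, hy, hY, sub_self])
    refine QuotientAddGroup.eq.2 ⟨a, funext fun n => hinj n ?_⟩
    have h1 := congrFun (hd a) n
    rw [show (fun n => u n (a n)) = y - Y z from funext ha, map_sub] at h1
    rw [← h1, Pi.sub_apply, Pi.add_apply, Pi.neg_apply, map_add, map_neg, hw, hW]
    abel
  let δ : Formal2.limZero G'' t'' →+ Formal2.limOne G' t' :=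
    AddMonoidHom.mk' (fun z => QuotientAddGroup.mk (W z)) fun a b => by
      rw [← QuotientAddGroup.mk_add]
      refine hδ _ (Y a + Y b) _ (fun n => ?_) fun n => ?_
      · simp [hY]
      · simp [hW]
  have hmk : ∀ q : Formal2.limOne G' t', ∃ w, (QuotientAddGroup.mk w : Formal2.limOne G' t') = q :=
    QuotientAddGroup.mk_surjective
  refine ⟨α, β, δ, ε, ζ, fun x n => rfl, fun x n => rfl, fun z y w hy hw => hδ z y w hy hw,
    fun y => rfl, fun y => rfl, ?_, ?_, ?_, ?_, ?_, ?_⟩
  · exact fun a b h => Subtype.ext (funext fun n => hinj n (congrFun (congrArg Subtype.val h) n))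
  · refine le_antisymm ?_ fun x hx => ?_
    · rintro _ ⟨a, rfl⟩
      exact Subtype.ext (funext fun n => hvu n _)
    · choose a ha using fun n => hlift n ((x : ∀ n, G n) n) (congrFun (congrArg Subtype.val hx) n)
      refine ⟨⟨a, funext fun n => hinj n ?_⟩, Subtype.ext (funext ha)⟩
      have h1 := congrFun (hd a) n
      rw [show (fun n => u n (a n)) = (x : ∀ n, G n) from funext ha,
        (x.2 : Formal2.towerDiff G t x = 0)] at h1
      exact h1.symm.trans (map_zero (u n)).symm
  · refine le_antisymm ?_ fun z hz => ?_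
    · rintro _ ⟨x, rfl⟩
      refine (hδ (β x) x 0 (fun n => rfl) fun n => ?_).trans (QuotientAddGroup.mk_zero _)
      rw [(x.2 : Formal2.towerDiff G t x = 0)]
      exact map_zero (u n)
    · obtain ⟨a, ha⟩ := (QuotientAddGroup.eq_zero_iff (W z)).1 hz
      refine ⟨⟨Y z - fun n => u n (a n), ?_⟩, Subtype.ext (funext fun n => ?_)⟩
      · change Formal2.towerDiff G t (Y z - fun n => u n (a n)) = 0
        rw [map_sub, hd, ha]
        exact funext fun n => sub_eq_zero.2 (hW z n).symm
      · exact (map_sub (v n) _ _).trans (by rw [hY, hvu, sub_zero])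
  · refine le_antisymm ?_ fun q hq => ?_
    · rintro _ ⟨z, rfl⟩
      exact (QuotientAddGroup.eq_zero_iff _).2 ⟨Y z, funext fun n => (hW z n).symm⟩
    · obtain ⟨w, rfl⟩ := hmk q
      obtain ⟨y, hy⟩ := (QuotientAddGroup.eq_zero_iff (fun n => u n (w n))).1 hq
      refine ⟨⟨fun n => v n (y n), ?_⟩, hδ _ y w (fun n => rfl) fun n => (congrFun hy n).symm⟩
      change Formal2.towerDiff G'' t'' (fun n => v n (y n)) = 0
      rw [hd', hy]
      exact funext fun n => hvu n _
  · refine le_antisymm ?_ fun q hq => ?_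
    · rintro _ ⟨q, rfl⟩
      obtain ⟨w, rfl⟩ := hmk q
      exact (QuotientAddGroup.eq_zero_iff _).2 ⟨0, (map_zero _).trans (funext fun n => (hvu n _).symm)⟩
    · obtain ⟨x, rfl⟩ := QuotientAddGroup.mk_surjective q
      obtain ⟨b, hb⟩ := (QuotientAddGroup.eq_zero_iff (fun n => v n (x n))).1 hq
      choose y hy using fun n => hsurj n (b n)
      choose w hw using fun n => hlift n (x n - Formal2.towerDiff G t y n) (by
        have h1 := congrFun (hd' y) n
        rw [show (fun n => v n (y n)) = b from funext hy, hb] at h1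
        rw [map_sub, sub_eq_zero]
        exact h1)
      refine ⟨QuotientAddGroup.mk w, QuotientAddGroup.eq.2 ⟨y, ?_⟩⟩
      funext n
      change Formal2.towerDiff G t y n = -(u n (w n)) + x n
      rw [hw]; abel
  · intro q
    obtain ⟨b, rfl⟩ := QuotientAddGroup.mk_surjective q
    choose x hx using fun n => hsurj n (b n)
    exact ⟨QuotientAddGroup.mk x, congrArg QuotientAddGroup.mk (funext hx)⟩

end Groth.Agent.S14617
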