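import Groth.Statements.S14618
import Groth.Agent.FlatMor12.SplitFibres
-- import your own Groth.Agent.* helpers here

set_option autoImplicit false
universe u
open FlatMor

namespace Groth.Agent.S14618

open CategoryTheory CategoryTheory.Limits AlgebraicGeometry in
/-- Let f : X → S be a morphism of schemes and u : F → V a morphism of O_X-modules with F quasi-coherent
of finite type and V finite locally free. The following are equivalent: (a) u is a locally split
monomorphism, i.e. every point of X has an open neighbourhood U such that the restriction of u to U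
has a left inverse; (b) for every point s of S the pullback of u to the fibre X_s = X ×_S Spec κ(s)
is a locally split monomorphism on X_s; (c) for every point s of S the pullback of u to the
geometric fibre X ×_S Spec k̄, k̄ an algebraic closure of κ(s), is a locally split monomorphism.
Restrictions to opens and to fibres are written as module pullbacks along the corresponding
immersions/projections. (In the published statement X and S are schemes in a terminology where
schemes are separated preschemes; the proof is local on X and on S, so this row assumes no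
separatedness.) -/
theorem result {X S : Scheme.{u}} (f : X ⟶ S) {F V : X.Modules} (u : F ⟶ V)
    (hF : Coh.IsQCoh F) (hFt : CohB1.IsFT F) (hV : FlatMod.IsFinLocFree V) :
    [ ∀ x : X, ∃ U : X.Opens, x ∈ U ∧
        ∃ r : (Scheme.Modules.pullback U.ι).obj V ⟶ (Scheme.Modules.pullback U.ι).obj F,
          (Scheme.Modules.pullback U.ι).map u ≫ r = 𝟙 _,
      ∀ (s : S) (x : f.fiber s), ∃ U : (f.fiber s).Opens, x ∈ U ∧
        ∃ r : (Scheme.Modules.pullback U.ι).obj ((Scheme.Modules.pullback (f.fiberι s)).obj V) ⟶
            (Scheme.Modules.pullback U.ι).obj ((Scheme.Modules.pullback (f.fiberι s)).obj F),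
          (Scheme.Modules.pullback U.ι).map ((Scheme.Modules.pullback (f.fiberι s)).map u) ≫ r = 𝟙 _,
      ∀ (s : S) (x : ↑(pullback f (Spec.map (CommRingCat.ofHom (algebraMap (S.residueField s)
            (AlgebraicClosure (S.residueField s)))) ≫ S.fromSpecResidueField s))),
        ∃ U : Scheme.Opens _, x ∈ U ∧
        ∃ r : (Scheme.Modules.pullback U.ι).obj ((Scheme.Modules.pullback (pullback.fst f
              (Spec.map (CommRingCat.ofHom (algebraMap (S.residueField s) (AlgebraicClosure (S.residueField s)))) ≫
                S.fromSpecResidueField s))).obj V) ⟶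
            (Scheme.Modules.pullback U.ι).obj ((Scheme.Modules.pullback (pullback.fst f
              (Spec.map (CommRingCat.ofHom (algebraMap (S.residueField s) (AlgebraicClosure (S.residueField s)))) ≫
                S.fromSpecResidueField s))).obj F),
          (Scheme.Modules.pullback U.ι).map ((Scheme.Modules.pullback (pullback.fst f
              (Spec.map (CommRingCat.ofHom (algebraMap (S.residueField s) (AlgebraicClosure (S.residueField s)))) ≫
                S.fromSpecResidueField s))).map u) ≫ r = 𝟙 _ ].TFAE := by
  have hF' := hF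
  haveI : Coh.IsQCoh F := hF
  have mk : (∀ x : X, ∃ U : X.Opens, x ∈ U ∧ IsSplitMono ((Scheme.Modules.pullback U.ι).map u)) →
      ∀ x : X, ∃ U : X.Opens, x ∈ U ∧
        ∃ r : (Scheme.Modules.pullback U.ι).obj V ⟶ (Scheme.Modules.pullback U.ι).obj F,
          (Scheme.Modules.pullback U.ι).map u ≫ r = 𝟙 _ := fun h x => by
    obtain ⟨U, hU, hs⟩ := h x
    exact ⟨U, hU, @retraction _ _ _ _ _ hs, @IsSplitMono.id _ _ _ _ _ hs⟩
  have un : (∀ x : X, ∃ U : X.Opens, x ∈ U ∧
        ∃ r : (Scheme.Modules.pullback U.ι).obj V ⟶ (Scheme.Modules.pullback U.ι).obj F,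
          (Scheme.Modules.pullback U.ι).map u ≫ r = 𝟙 _) →
      ∀ x : X, ∃ U : X.Opens, x ∈ U ∧ IsSplitMono ((Scheme.Modules.pullback U.ι).map u) := fun h x => by
    obtain ⟨U, hU, r, hr⟩ := h x
    exact ⟨U, hU, IsSplitMono.mk' ⟨r, hr⟩⟩
  tfae_have 1 → 2 := fun h s x => (Groth.Agent.FlatMor12.SplitFibres.ls_iff u _ x).1
    (Groth.Agent.FlatMor12.SplitFibres.ls_of_split u (un h) (f.fiberι s) x)
  tfae_have 1 → 3 := fun h s x => (Groth.Agent.FlatMor12.SplitFibres.ls_iff u _ x).1
    (Groth.Agent.FlatMor12.SplitFibres.ls_of_split u (un h) _ x)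
  tfae_have 2 → 1 := fun h => mk fun x => by
    obtain ⟨x', hx'⟩ := (f.range_fiberι (f x)).ge (show f x = f x from rfl)
    obtain ⟨U, hU, hs⟩ := Groth.Agent.FlatMor12.SplitFibres.exists_split u hFt hV _ x'
      ((Groth.Agent.FlatMor12.SplitFibres.ls_iff u _ x').2 (h (f x) x'))
    exact ⟨U, hx' ▸ hU, hs⟩
  tfae_have 3 → 1 := fun h => mk fun x => by
    let g := Spec.map (CommRingCat.ofHom (algebraMap (S.residueField (f x))
      (AlgebraicClosure (S.residueField (f x))))) ≫ S.fromSpecResidueField (f x)
    obtain ⟨p₀⟩ : Nonempty ↥(Spec (CommRingCat.of (AlgebraicClosure (S.residueField (f x))))) :=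
      ⟨IsLocalRing.closedPoint _⟩
    have hp : f x = g p₀ := by
      have hmem : g p₀ ∈ Set.range (S.fromSpecResidueField (f x)) := ⟨_, rfl⟩
      rw [Scheme.range_fromSpecResidueField] at hmem
      exact hmem.symm
    obtain ⟨z, hz, -⟩ := Scheme.Pullback.exists_preimage_pullback (f := f) (g := g) x p₀ hp
    obtain ⟨U, hU, hs⟩ := Groth.Agent.FlatMor12.SplitFibres.exists_split u hFt hV _ z
      ((Groth.Agent.FlatMor12.SplitFibres.ls_iff u _ z).2 (h (f x) z))
    exact ⟨U, hz ▸ hU, hs⟩
  tfae_finish

end Groth.Agent.S14618
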