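import Groth.Statements.S14619
import Groth.Agent.Coherent.CohBC.Fibre
import Groth.Agent.Coherent.CohBC.UnivExact

set_option autoImplicit false
universe u
open Coherent Groth.Agent.Coherent

namespace Groth.Agent.S14619

open CategoryTheory CategoryTheory.Limits AlgebraicGeometry in
/-- Let A be a Noetherian ring, X a proper scheme over Spec A and F a coherent O_X-module flat over Spec
A. Suppose H^p(X, F) = 0 for all p > d and H^p(X_y, F|X_y) = 0 for every point y of Spec A and every
p < d'. Then there is a cochain complex L of finitely generated projective A-modules, with L^i = 0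
unless d' ≤ i ≤ d and with L = 0 when all H^p(X, F) vanish, such that for every A-algebra B and
every p the cohomology H^p(X ×_A Spec B, ξ^*F) of the pulled-back module is isomorphic to H^p(L ⊗_A
B). Only the existence of these isomorphisms of abelian groups is asserted (no naturality in B). -/
theorem result (A : Type u) [CommRing A] [IsNoetherianRing A] (X : Scheme.{u}) [X.Over (Spec (CommRingCat.of A))]
    [IsProper (X ↘ Spec (CommRingCat.of A))] (F : X.Modules) (hF : Coh.IsCoh F)
    (hfl : FlatMod.IsFlatOver (X ↘ Spec (CommRingCat.of A)) F) (d' d : ℕ)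
    (hd : ∀ p : ℕ, d < p → Subsingleton (Coh.HH X F p))
    (hd' : ∀ (y : ↑(Spec (CommRingCat.of A))) (p : ℕ), p < d' →
      Subsingleton (CohIII.fiberH (X ↘ Spec (CommRingCat.of A)) F y p)) :
    ∃ L : CochainComplex (ModuleCat.{u} A) ℤ,
      (∀ i, Module.Finite A (L.X i) ∧ Module.Projective A (L.X i)) ∧
      (∀ i : ℤ, i < (d' : ℤ) ∨ (d : ℤ) < i → IsZero (L.X i)) ∧
      ((∀ p : ℕ, Subsingleton (Coh.HH X F p)) → ∀ i, IsZero (L.X i)) ∧
      ∀ (B : Type u) [CommRing B] [Algebra A B] (p : ℕ),
        Nonempty (Coh.HH (pullback (X ↘ Spec (CommRingCat.of A)) (Spec.map (CommRingCat.ofHom (algebraMap A B))))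
            ((Scheme.Modules.pullback (pullback.fst (X ↘ Spec (CommRingCat.of A))
              (Spec.map (CommRingCat.ofHom (algebraMap A B))))).obj F) p ≃+
          CohIII.T L (p : ℤ) (ModuleCat.of A B)) := by
  obtain ⟨D⟩ := CohBC.nonempty_perfData F hF hfl
  have hL : ∀ i, Module.Finite A (D.L.X i) ∧ Module.Flat A (D.L.X i) := fun i =>
    ⟨(D.R.finFree i).1, D.R.flat_X i⟩
  have hH : ∀ p : ℕ, Subsingleton (Coh.HH X F p) → IsZero (D.L.homology (p : ℤ)) := fun p h => by
    have : Subsingleton (D.P.homology (-(p : ℤ))) :=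
      (D.hhHomology p).symm.toEquiv.subsingleton
    exact (ModuleCat.isZero_of_subsingleton _).of_iso
      ((CohBC.unitTIso D.L p).symm ≪≫ (CohBC.toChainTIso D.L _ (-(p : ℤ)) p (neg_neg _)).symm ≪≫
        CohBC.unitTIso D.P (-(p : ℤ)))
  have hneg : ∀ p : ℤ, p < 0 → IsZero (D.L.homology p) := fun p hp =>
    (D.R.isZero_neg p _ hp).of_iso (CohBC.unitTIso D.L p).symm
  obtain ⟨L', hL', hz, hzero, hT⟩ := CohBC.exists_amplitude D.L hL
    ⟨D.R.bound, fun i hi => D.R.isZero_X i hi⟩ (d' : ℤ) (d : ℤ)
    (fun m hm p hp => by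
      rcases lt_or_ge p 0 with hp0 | hp0
      · exact D.R.isZero_neg p _ hp0
      · lift p to ℕ using hp0
        let y : ↥(Spec (CommRingCat.of A)) := (⟨m, hm.isPrime⟩ : PrimeSpectrum A)
        have h := D.isZero_T_residue hfl y p (hd' y p (by omega))
        let e : ModuleCat.of A (A ⧸ m) ≅ ModuleCat.of A y.asIdeal.ResidueField :=
          (AlgEquiv.ofBijective (IsScalarTower.toAlgHom A (A ⧸ m) y.asIdeal.ResidueField)
            (Ideal.bijective_algebraMap_quotient_residueField m)).toLinearEquiv.toModuleIso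
        exact h.of_iso ((CohIII.TFun D.L (p : ℤ)).mapIso e ≪≫
          (CohBC.toChainTIso D.L _ (-(p : ℤ)) p (neg_neg _)).symm))
    (fun p hp => by
      lift p to ℕ using (by omega)
      exact hH p (hd p (by omega)))
  refine ⟨L', hL', hz, fun h i => hzero (fun p => ?_) i, fun B _ _ p => ?_⟩
  · rcases lt_or_ge p 0 with hp0 | hp0
    · exact hneg p hp0
    · lift p to ℕ using hp0
      exact hH p (h p)
  · letI : (pullback (X ↘ Spec (CommRingCat.of A))
        (Spec.map (CommRingCat.ofHom (algebraMap A B)))).Over (Spec (CommRingCat.of B)) :=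
      ⟨pullback.snd _ _⟩
    let D' := CohBC.PerfData.baseChange (algebraMap A B) (pullback.fst (X ↘ Spec (CommRingCat.of A))
      (Spec.map (CommRingCat.ofHom (algebraMap A B)))) (IsPullback.of_hasPullback _ _) D hfl
    obtain ⟨eT⟩ := hT (p : ℤ) (ModuleCat.of A B)
    let eI : (ModuleCat.restrictScalars (algebraMap A B)).obj ((CohIII.bcCx (algebraMap A B) D.P).homology
        (-(p : ℤ))) ≅ CohIII.T L' (p : ℤ) (ModuleCat.of A B) :=
      (CohBC.bcHomologyIso (algebraMap A B) D.P _).symm ≪≫
        (CohIII.TFun D.P (-(p : ℤ))).mapIso (CohBC.restrictSelfIso B) ≪≫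
        CohBC.toChainTIso D.L _ (-(p : ℤ)) p (neg_neg _) ≪≫ eT.symm
    exact ⟨(D'.hhHomology p).toAddEquiv.trans eI.toLinearEquiv.toAddEquiv⟩

end Groth.Agent.S14619
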