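import Groth.Prelude.Def_SGA4c
import Mathlib.CategoryTheory.Filtered.Basic
import Mathlib.CategoryTheory.Limits.Preserves.Basic
import Mathlib.CategoryTheory.Limits.Shapes.Pullback.HasPullback
import Groth.Agent.ToposFinLib.Eps
import Groth.Agent.ToposFinLib.Filt

set_option autoImplicit false
namespace CategoryTheory
end CategoryTheory
namespace CategoryTheory.Limits
end CategoryTheory.Limits
open CategoryTheory CategoryTheory.Limits
universe u
namespace CohSite
end CohSite
open CohSite

namespace Groth.Agent.S14621

/-- Let C be a small category with pullbacks and J a Grothendieck topology on C in which every object is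
quasi-compact in the site sense (every covering sieve contains finitely many morphisms which already
generate a covering sieve). Then for every small filtered category I the inclusion of sheaves of
sets on (C, J) into presheaves preserves colimits of shape I: filtered colimits of sheaves are
computed objectwise. (Only sheaves of sets are stated; the same holds for sheaves of abelian groups
or modules. All pullbacks in C are assumed.) -/
theorem result {C : Type u} [SmallCategory C]
    [HasPullbacks C] (J : GrothendieckTopology C) (hJ : ∀ U : C, ToposFin.IsQCSite J U)
    (I : Type u) [SmallCategory I] [IsFiltered I] :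
    PreservesColimitsOfShape I (sheafToPresheaf J (Type u)) := by
  refine ⟨fun {K} => ⟨fun {c} hc => ⟨evaluationJointlyReflectsColimits _ fun U => Classical.choice ?_⟩⟩⟩
  haveI : IsIso (colimit.post K (coyoneda.obj (Opposite.op (ToposFin.eps J U.unop)))) := by
    rw [CategoryTheory.isIso_iff_bijective]
    exact ⟨ToposFinLib.post_injective (D := K) (ToposFinLib.isQC_eps hJ _),
      ToposFinLib.post_surjective (D := K) (ToposFinLib.gen_qc_eps hJ) (ToposFinLib.isCoherent_eps hJ _)⟩
  haveI : PreservesColimit K (coyoneda.obj (Opposite.op (ToposFin.eps J U.unop))) := preservesColimit_of_isIso_post _ _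
  let e : coyoneda.obj (Opposite.op (ToposFin.eps J U.unop)) ≅ sheafToPresheaf J (Type u) ⋙ (evaluation Cᵒᵖ (Type u)).obj U :=
    NatIso.ofComponents (fun Z => (ToposFinLib.epsHom U.unop Z).toIso) fun {Z Z'} t => by
      ext s
      exact ToposFinLib.epsHom_comp s t
  haveI := preservesColimit_of_natIso K e
  exact ⟨isColimitOfPreserves (sheafToPresheaf J (Type u) ⋙ (evaluation Cᵒᵖ (Type u)).obj U) hc⟩

end Groth.Agent.S14621
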