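import Groth.Statements.S14624
import Groth.Agent.HenselLib.FPColim

set_option autoImplicit false
open CategoryTheory CategoryTheory.Limits
universe u
open Hensel

namespace Groth.Agent.S14624

/-- Let A be a commutative ring, m a proper ideal of A and Â the m-adic completion. Assume the
approximation property for polynomial systems: whenever finitely many polynomials over A in finitely
many variables have a common zero â in Â, then for every c there is a common zero a in A which
agrees with â in A/m^c. Let F be a functor from A-algebras (commutative rings under A) to sets which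
preserves filtered colimits, c a natural number and ξ ∈ F(Â). Then there is η ∈ F(A) whose image in
F(A/m^c) equals the image of ξ; here π is the A-algebra map Â → A/m^c (pinned by its underlying ring
map) and ρ the A-algebra map A → A/m^c. (The published statement takes for A the henselization at a
prime ideal of an algebra of finite type over a field or over an excellent discrete valuation ring,
for which the approximation property of polynomial systems is quoted; this row carries that property
as a hypothesis and draws the published conclusion for functors.) -/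
theorem result (A : Type u) [CommRing A]
    (m : Ideal A) (hm : m ≠ ⊤)
    (hAP : ∀ (k l c : ℕ) (f : Fin l → MvPolynomial (Fin k) A) (â : Fin k → AdicCompletion m A),
      (∀ i, MvPolynomial.aeval â (f i) = 0) →
      ∃ a : Fin k → A, (∀ i, MvPolynomial.eval a (f i) = 0) ∧
        ∀ j, Ideal.Quotient.mk (m ^ c) (a j) = AdicCompletion.evalₐ m c (â j))
    (F : Under (CommRingCat.of A) ⥤ Type u)
    (hF : ∀ (J : Type u) [SmallCategory J] [IsFiltered J], PreservesColimitsOfShape J F)
    (c : ℕ)
    (π : Under.mk (CommRingCat.ofHom (algebraMap A (AdicCompletion m A))) ⟶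
      Under.mk (CommRingCat.ofHom (algebraMap A (A ⧸ m ^ c))))
    (hπ : π.right = CommRingCat.ofHom
      (AdicCompletion.evalₐ m c : AdicCompletion m A →ₐ[A] A ⧸ m ^ c).toRingHom)
    (ρ : Under.mk (𝟙 (CommRingCat.of A)) ⟶ Under.mk (CommRingCat.ofHom (algebraMap A (A ⧸ m ^ c))))
    (ξ : F.obj (Under.mk (CommRingCat.ofHom (algebraMap A (AdicCompletion m A))))) :
    ∃ η : F.obj (Under.mk (𝟙 (CommRingCat.of A))), F.map ρ η = F.map π ξ := by
  obtain ⟨j, x, hx⟩ := HenselLib.FPColim.exists_descend F hF (AdicCompletion m A) ξ
  obtain ⟨s, hs⟩ := j.fg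
  let e := Finset.equivFin s
  obtain ⟨a, ha, hac⟩ := hAP j.n s.card c (fun i => ((e.symm i : s) : MvPolynomial (Fin j.n) A)) j.b
    (fun i => j.le _ (hs ▸ Ideal.subset_span (e.symm i).2))
  have hker : ∀ f ∈ j.K, MvPolynomial.aeval a f = 0 := by
    intro f hf
    rw [← hs] at hf
    refine (Ideal.span_le (I := RingHom.ker (MvPolynomial.aeval a : MvPolynomial (Fin j.n) A →ₐ[A] A))).mpr
      (fun g hg => ?_) hf
    have := ha (e ⟨g, hg⟩)
    rw [Equiv.symm_apply_apply] at this
    exact this
  let ψ : j.R →ₐ[A] A := Ideal.Quotient.liftₐ j.K (MvPolynomial.aeval a) hker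
  let θ : (HenselLib.FPColim.diagram A (AdicCompletion m A)).obj j ⟶ Under.mk (𝟙 (CommRingCat.of A)) :=
    Under.homMk (CommRingCat.ofHom ψ.toRingHom) (CommRingCat.hom_ext (RingHom.ext ψ.commutes))
  refine ⟨F.map θ x, ?_⟩
  have hsq : θ ≫ ρ = (HenselLib.FPColim.cocone A (AdicCompletion m A)).ι.app j ≫ π := by
    apply Under.UnderMorphism.ext
    have hρ : ρ.right = CommRingCat.ofHom (algebraMap A (A ⧸ m ^ c)) := by
      have := Under.w ρ
      simp only [Under.mk_hom] at this
      exact (Category.id_comp ρ.right).symm.trans this
    rw [Under.comp_right, Under.comp_right, hπ, hρ]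
    refine CommRingCat.hom_ext ?_
    show (algebraMap A (A ⧸ m ^ c)).comp ψ.toRingHom =
      (AdicCompletion.evalₐ m c).toRingHom.comp j.ev.toRingHom
    have h : (Algebra.ofId A (A ⧸ m ^ c)).comp ψ = (AdicCompletion.evalₐ m c).comp j.ev :=
      Ideal.Quotient.algHom_ext A (MvPolynomial.algHom_ext fun i => by
        show Ideal.Quotient.mk (m ^ c) (MvPolynomial.aeval a (MvPolynomial.X i)) =
          AdicCompletion.evalₐ m c (MvPolynomial.aeval j.b (MvPolynomial.X i))
        rw [MvPolynomial.aeval_X, MvPolynomial.aeval_X]
        exact hac i)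
    exact congrArg AlgHom.toRingHom h
  show (F.map θ ≫ F.map ρ) x = F.map π ξ
  rw [← F.map_comp, hsq, F.map_comp, ← hx]
  rfl

end Groth.Agent.S14624
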