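import Groth.Statements.S14625
import Groth.Agent.HenselLib.KummerSheaf
import Mathlib.RingTheory.RootsOfUnity.EnoughRootsOfUnity
import Mathlib.FieldTheory.IsSepClosed

set_option autoImplicit false
open CategoryTheory AlgebraicGeometry
universe u
open EtBase

namespace Groth.Agent.S14625

/-- Let A be a strictly henselian local ring, n ≥ 1 an integer invertible in A, and X a scheme over Spec
A. Then the étale sheaf μ_n of n-th roots of unity on X is isomorphic to the constant sheaf with
value ℤ/n. Only the existence of an isomorphism is asserted; it depends on the choice of a primitive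
n-th root of unity in A. -/
theorem result (A : Type u) [CommRing A]
    (hA : EtCoh.IsStrictlyHenselianLocalRing A) (n : ℕ) (hn : 1 ≤ n) (hu : IsUnit (n : A))
    (X : Scheme.{u}) (f : X ⟶ Spec (CommRingCat.of A)) :
    Nonempty (EtCoh.mu X n ≅ EtCoh.const X (ZMod n)) := by
  obtain ⟨_, hsep⟩ := hA
  haveI := hsep
  haveI : NeZero (n : IsLocalRing.ResidueField A) := ⟨by
    have := hu.map (IsLocalRing.residue A)
    rw [map_natCast] at this
    exact this.ne_zero⟩
  obtain ⟨r, hr⟩ := IsSepClosed.exists_root (Polynomial.cyclotomic n (IsLocalRing.ResidueField A))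
    (Polynomial.degree_cyclotomic_pos n _ (by omega)).ne'
    (Polynomial.separable_cyclotomic n _)
  obtain ⟨a₀, rfl⟩ := IsLocalRing.residue_surjective r
  have hr' : (IsLocalRing.residue A) ((Polynomial.cyclotomic n A).eval a₀) = 0 := by
    rw [← Polynomial.eval_map_apply, Polynomial.map_cyclotomic]
    exact hr
  have hd : IsUnit ((Polynomial.cyclotomic n A).derivative.eval a₀) := by
    rw [← IsLocalRing.residue_ne_zero_iff_isUnit, ← Polynomial.eval_map_apply, ← Polynomial.derivative_map,
      Polynomial.map_cyclotomic]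
    intro h
    exact (Polynomial.separable_cyclotomic n (IsLocalRing.ResidueField A)).aeval_derivative_ne_zero
      (x := IsLocalRing.residue A a₀) (by simpa [Polynomial.IsRoot] using hr) (by simpa using h)
  obtain ⟨a, ha, -⟩ := HenselianLocalRing.is_henselian _ (Polynomial.cyclotomic.monic n A) a₀
    ((IsLocalRing.residue_eq_zero_iff _).mp hr') hd
  let φ : A →+* Γ(X, ⊤) := ((Scheme.ΓSpecIso (CommRingCat.of A)).inv ≫ f.appTop).hom
  have hc : Polynomial.aeval (φ a) (Polynomial.cyclotomic n ℤ) = 0 := by
    rw [Polynomial.aeval_def, ← Polynomial.eval_map, Polynomial.map_cyclotomic,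
      ← Polynomial.map_cyclotomic n φ, Polynomial.eval_map_apply, ha.eq_zero, map_zero]
  have h1 : φ a ^ n = 1 := by
    obtain ⟨q, hq⟩ := Polynomial.cyclotomic.dvd_X_pow_sub_one n ℤ
    have := congrArg (Polynomial.aeval (φ a)) hq
    rw [map_mul, hc, zero_mul, map_sub, Polynomial.aeval_X_pow, map_one, sub_eq_zero] at this
    exact this
  have hn' : IsUnit (n : Γ(X, ⊤)) := by
    have := hu.map φ
    rwa [map_natCast] at this
  exact Groth.Agent.HenselLib.Kummer.nonempty_iso n hn
    (Units.ofPowEqOne (φ a) n h1 (by omega)) (Units.pow_ofPowEqOne h1 (by omega)) hn' hc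

end Groth.Agent.S14625
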