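import Groth.Statements.S14633
import Groth.Agent.SGA3cLib.GeomConn
import Groth.Agent.GQuot15.Basic
import Groth.Agent.AbSchLib.SmoothReduced
import Mathlib.AlgebraicGeometry.Artinian
import Mathlib.AlgebraicGeometry.Morphisms.QuasiFinite
import Mathlib.FieldTheory.IsAlgClosed.AlgebraicClosure

set_option autoImplicit false
universe u
open CategoryTheory MonoidalCategory CartesianMonoidalCategory MonObj GrpObj AlgebraicGeometry CategoryTheory.Limits
open AlgGrp

namespace Groth.Agent.S14633

/-- Over a field k, let G be a smooth connected k-group scheme of finite type and let Z be a reduced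
k-scheme of finite type of dimension at most 0 (for Z empty the conclusion is immediate). Then every
action of G on Z is trivial: the action morphism G × Z → Z is the second projection. -/
theorem result (k : Type u) [Field k]
    (G Z : Over (Spec (CommRingCat.of k))) [GrpObj G] [Smooth G.hom] [QuasiCompact G.hom] [ConnectedSpace ↥G.left]
    [LocallyOfFiniteType Z.hom] [QuasiCompact Z.hom] [IsReduced Z.left] (hdim : topologicalKrullDim ↥Z.left ≤ 0)
    (a : AlgGrp.Action G Z) : a.act = CartesianMonoidalCategory.snd G Z := by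
  haveI : IsLocallyNoetherian Z.left := LocallyOfFiniteType.isLocallyNoetherian Z.hom
  haveI : IsLocallyArtinian Z.left := IsLocallyArtinian.of_topologicalKrullDim_le_zero hdim
  haveI : CompactSpace Z.left := QuasiCompact.compactSpace_of_compactSpace Z.hom
  haveI : IsArtinianScheme Z.left := {}
  haveI : IsAffine Z.left := inferInstance
  haveI : IsSeparated Z.hom := inferInstance
  haveI : LocallyQuasiFinite Z.hom := by
    rw [locallyQuasiFinite_iff_isDiscrete_preimage_singleton]
    intro y
    exact ⟨inferInstance⟩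
  haveI : Smooth (pullback.snd G.hom Z.hom) := inferInstance
  haveI : IsReduced (G ⊗ Z).left := AbSchLib.isReduced_of_smooth (pullback.snd G.hom Z.hom)
  have hG : GeometricallyConnected G.hom := by
    have := SGA3cLib.geometricallyConnected_of_rational_point k G.hom (𝟙 G.left) η[G].left (Over.w η[G])
      (by simp)
    simpa using this
  apply Over.OverMorphism.ext
  refine ext_of_fromSpecResidueField_eq _ _ Z.hom Set.univ dense_univ (fun x _ => ?_)
    (by rw [Over.w a.act, Over.w (snd G Z)])
  let K := AlgebraicClosure ((G ⊗ Z).left.residueField x)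
  let j : Spec (CommRingCat.of K) ⟶ Spec ((G ⊗ Z).left.residueField x) :=
    Spec.map (CommRingCat.ofHom (algebraMap ((G ⊗ Z).left.residueField x) K))
  haveI : Flat j := (HasRingHomProperty.Spec_iff (P := @Flat)).2 (RingHom.flat_algebraMap_iff.2 inferInstance)
  haveI : Surjective j := ⟨fun y => ⟨IsLocalRing.closedPoint K, Subsingleton.elim (α := PrimeSpectrum ((G ⊗ Z).left.residueField x)) _ _⟩⟩
  haveI : Epi j := Flat.epi_of_flat_of_surjective j
  rw [← cancel_epi j]
  let P : Over (Spec (CommRingCat.of k)) := Over.mk (j ≫ (G ⊗ Z).left.fromSpecResidueField x ≫ (G ⊗ Z).hom)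
  let p : P ⟶ G ⊗ Z := Over.homMk (j ≫ (G ⊗ Z).left.fromSpecResidueField x) (Category.assoc _ _ _)
  suffices h : p ≫ a.act = p ≫ snd G Z by simpa [p] using congrArg CommaMorphism.left h
  let Φ : G ⊗ P ⟶ Z ⊗ P := lift (lift (fst G P) (snd G P ≫ p ≫ snd G Z) ≫ a.act) (snd G P)
  let σ₁ : P ⟶ G ⊗ P := lift (p ≫ fst G Z) (𝟙 P)
  let σ₀ : P ⟶ G ⊗ P := lift (toUnit P ≫ η[G]) (𝟙 P)
  have h1 : σ₁ ≫ Φ = lift (p ≫ a.act) (𝟙 P) := by
    apply hom_ext
    · simp only [σ₁, Φ, Category.assoc, lift_fst, comp_lift_assoc, comp_lift, lift_snd_assoc, Category.id_comp, lift_fst_assoc]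
      congr 1
      exact hom_ext _ _ (by simp) (by simp)
    · simp [σ₁, Φ]
  have h2 : σ₀ ≫ Φ = lift (p ≫ snd G Z) (𝟙 P) := by
    apply hom_ext
    swap
    · simp [σ₀, Φ]
    simp only [σ₀, Φ, Category.assoc, lift_fst, comp_lift_assoc, comp_lift, lift_snd_assoc, Category.id_comp, lift_fst_assoc]
    have e : lift (toUnit P ≫ η[G]) (p ≫ snd G Z) =
        (lift (toUnit P) (p ≫ snd G Z)) ≫ (η[G] ▷ Z) := hom_ext _ _ (by simp) (by simp)
    rw [e, Category.assoc, a.one_act]
    simp
  suffices h : lift (p ≫ a.act) (𝟙 P) = lift (p ≫ snd G Z) (𝟙 P) by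
    simpa using congrArg (fun m => m ≫ fst Z P) h
  rw [← h1, ← h2]
  haveI : Subsingleton ↥P.left := inferInstanceAs (Subsingleton (PrimeSpectrum K))
  haveI : Nonempty ↥P.left := inferInstanceAs (Nonempty (PrimeSpectrum K))
  haveI : IsLocallyArtinian P.left := inferInstanceAs (IsLocallyArtinian (Spec (CommRingCat.of K)))
  haveI : ConnectedSpace ↥(G ⊗ P).left :=
    haveI := hG
    GeometricallyConnected.connectedSpace_of_subsingleton (pullback.snd G.hom P.hom)
  haveI : LocallyQuasiFinite (pullback.snd Z.hom P.hom) := inferInstance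
  haveI : DiscreteTopology ↥(Z ⊗ P).left := by
    haveI : IsLocallyArtinian (Spec (CommRingCat.of K)) := inferInstance
    haveI : IsLocallyArtinian (Z ⊗ P).left :=
      IsLocallyArtinian.of_locallyQuasiFinite (pullback.snd Z.hom P.hom)
    infer_instance
  have hconst := (isPreconnected_range (Φ.left.continuous)).subsingleton
  let Y : Over (Spec (CommRingCat.of K)) := Over.mk (pullback.snd Z.hom P.hom)
  have hsec : ∀ (s : P ⟶ G ⊗ P), s ≫ snd G P = 𝟙 P → (s ≫ Φ).left ≫ pullback.snd Z.hom P.hom = 𝟙 _ := fun s hs => by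
    have : (s ≫ Φ) ≫ snd Z P = 𝟙 P := by simp [Φ, hs]
    exact congrArg CommaMorphism.left this
  let mkPt : ∀ s : P ⟶ G ⊗ P, s ≫ snd G P = 𝟙 P → (𝟙_ (Over (Spec (CommRingCat.of K))) ⟶ Y) := fun s hs =>
    Over.homMk (s ≫ Φ).left (hsec s hs)
  have := GQuot15.kpt_ext (mkPt σ₁ (by simp [σ₁])) (mkPt σ₀ (by simp [σ₀]))
    (hconst ⟨σ₁.left _, rfl⟩ ⟨σ₀.left _, rfl⟩)
  exact Over.OverMorphism.ext (congrArg (fun m : _ ⟶ Y => m.left) this : _)

end Groth.Agent.S14633
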