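import Groth.Statements.S14634
import Groth.Agent.SGA3cLib.Irreducible
import Groth.Agent.DimLib.BaseChange
import Groth.Agent.DimLib.Morphism
import Groth.Agent.AlgGrpLib.OpenOrbit
import Groth.Agent.AlgGrpLib.UnitsOnProducts
set_option backward.isDefEq.respectTransparency.types false

set_option autoImplicit false
universe u
open CategoryTheory MonoidalCategory CartesianMonoidalCategory MonObj GrpObj AlgebraicGeometry CategoryTheory.Limits
open AlgGrp

namespace Groth.Agent.S14634

/-- Over a field k, let G be a smooth connected k-group scheme of finite type acting on a curve C, i.e.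
a separated, geometrically integral k-scheme of finite type of dimension 1. Then C is almost
homogeneous under G, meaning that the graph morphism G × C → C × C, (g, x) ↦ (x, g·x), is dominant,
if and only if the action is not the trivial one (the action morphism is not the second projection). -/
theorem result (k : Type u) [Field k]
    (G C : Over (Spec (CommRingCat.of k))) [GrpObj G] [Smooth G.hom] [QuasiCompact G.hom] [ConnectedSpace ↥G.left]
    [IsSeparated C.hom] [LocallyOfFiniteType C.hom] [QuasiCompact C.hom] [GeometricallyIntegral C.hom] (hdim : topologicalKrullDim ↥C.left = 1)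
    (a : AlgGrp.Action G C) :
    IsDominant (CartesianMonoidalCategory.lift (CartesianMonoidalCategory.snd G C) a.act).left ↔
      a.act ≠ CartesianMonoidalCategory.snd G C := by
  haveI : IrreducibleSpace G.left := SGA3cLib.irreducibleSpace_of_connected G
  haveI : IrreducibleSpace C.left := AlgGrpLib.OpenOrbit.irreducibleSpace_of C
  haveI : IrreducibleSpace (G ⊗ C).left := AlgGrpLib.OpenOrbit.irreducibleSpace_tensor G C
  haveI : LocallyOfFiniteType (C ⊗ C).hom :=
    inferInstanceAs (LocallyOfFiniteType (Limits.pullback.fst C.hom C.hom ≫ C.hom))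
  haveI : IsReduced (G ⊗ C).left := by
    haveI : IsReduced G.left := WeilLib.isReduced_of_smooth G.hom
    haveI : IsLocallyNoetherian G.left := LocallyOfFiniteType.isLocallyNoetherian G.hom
    haveI : Flat C.hom := GrpdLib.flat_to_field C.hom k (Iso.refl _)
    haveI : Flat G.hom := GrpdLib.flat_to_field G.hom k (Iso.refl _)
    exact inferInstanceAs (IsReduced (Limits.pullback G.hom C.hom))
  -- the diagonal
  obtain ⟨δ, hδ⟩ : ∃ δ : C ⟶ C ⊗ C, δ = CartesianMonoidalCategory.lift (𝟙 C) (𝟙 C) := ⟨_, rfl⟩
  haveI : IsClosedImmersion δ.left := by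
    haveI : IsClosedImmersion (δ.left ≫ (CartesianMonoidalCategory.fst C C).left) := by
      rw [← Over.comp_left, hδ, lift_fst]
      infer_instance
    haveI : IsSeparated (CartesianMonoidalCategory.fst C C).left :=
      MorphismProperty.pullback_fst (P := @IsSeparated) (f := C.hom) (g := C.hom) inferInstance
    exact IsClosedImmersion.of_comp δ.left (CartesianMonoidalCategory.fst C C).left
  have hdC : DimLib.ptDim C.hom (genericPoint C.left) = 1 := by
    have := DimLib.topologicalKrullDim_eq_ptDim_genericPoint C.hom
    rw [hdim] at this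
    exact_mod_cast this.symm
  have hle1 : ∀ c : C.left, DimLib.ptDim C.hom c ≤ 1 := fun c => by
    by_cases hc : genericPoint C.left = c
    · rw [← hc, hdC]
    · have := DimLib.ptDim_lt_of_specializes C.hom (genericPoint_specializes c) hc
      omega
  have hptδ : ∀ c : C.left, DimLib.ptDim (C ⊗ C).hom (δ.left c) = DimLib.ptDim C.hom c := fun c => by
    rw [← DimLib.ptDim_comp_preimmersion (C ⊗ C).hom δ.left c, Over.w δ]
  obtain ⟨pη, -, -, hpη⟩ := DimLib.exists_product_point C.hom C.hom (genericPoint C.left) (genericPoint C.left)
  rw [hdC] at hpη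
  -- the image of the generic point under the graph
  obtain ⟨gr, hgr⟩ : ∃ gr : G ⊗ C ⟶ C ⊗ C, gr =
      CartesianMonoidalCategory.lift (CartesianMonoidalCategory.snd G C) a.act := ⟨_, rfl⟩
  rw [← hgr]
  constructor
  · intro hd hact
    have hrange : Set.range gr.left ⊆ Set.range δ.left := by
      have hfac : gr = CartesianMonoidalCategory.snd G C ≫ δ := by
        rw [hgr, hδ, hact, comp_lift, Category.comp_id]
      rw [hfac, Over.comp_left]
      rintro _ ⟨z, rfl⟩
      exact ⟨_, rfl⟩
    have huniv : Set.range δ.left = Set.univ :=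
      Set.eq_univ_of_univ_subset ((hd.denseRange.closure_range.symm.le).trans
        (closure_minimal hrange δ.left.isClosedEmbedding.isClosed_range))
    obtain ⟨c, hc⟩ := huniv.ge (Set.mem_univ (pη : ↥(C ⊗ C).left))
    have h2 := hptδ c
    rw [hc] at h2
    have h3 := hle1 c
    change DimLib.ptDim (C ⊗ C).hom pη = 1 + 1 at hpη
    omega
  · intro hne
    obtain ⟨z, hz⟩ : ∃ z, z = gr.left (genericPoint (G ⊗ C).left) := ⟨_, rfl⟩
    have hzδ : z ⤳ δ.left (genericPoint C.left) := by
      obtain ⟨s, hs⟩ : ∃ s : C ⟶ G ⊗ C, s = CartesianMonoidalCategory.lift (1 : C ⟶ G) (𝟙 C) := ⟨_, rfl⟩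
      have hsd : s ≫ gr = δ := by
        rw [hs, hgr, hδ, comp_lift, lift_snd, AlgGrpLib.one_act']
      rw [hz, ← hsd, Over.comp_left, Scheme.Hom.comp_apply]
      exact (genericPoint_specializes _).map gr.left.continuous
    have hzne : z ≠ δ.left (genericPoint C.left) := fun he => by
      apply hne
      have hrange : Set.range gr.left ⊆ Set.range δ.left := by
        rintro _ ⟨p, rfl⟩
        refine δ.left.isClosedEmbedding.isClosed_range.closure_subset
          (closure_mono (s := {z}) (Set.singleton_subset_iff.2 (he ▸ Set.mem_range_self _)) ?_)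
        rw [hz]
        exact ((genericPoint_specializes p).map gr.left.continuous).mem_closure
      have hsurj : Surjective (Limits.pullback.fst gr.left δ.left) := ⟨fun p => by
        obtain ⟨c, hc⟩ := hrange ⟨p, rfl⟩
        obtain ⟨q, hq, -⟩ := Scheme.Pullback.exists_preimage_pullback (f := gr.left) (g := δ.left) p c hc.symm
        exact ⟨q, hq⟩⟩
      haveI := isIso_of_isClosedImmersion_of_surjective (Limits.pullback.fst gr.left δ.left)
      have h1 : gr.left ≫ (CartesianMonoidalCategory.fst C C).left = gr.left ≫ (CartesianMonoidalCategory.snd C C).left := by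
        rw [← cancel_epi (Limits.pullback.fst gr.left δ.left), Limits.pullback.condition_assoc,
          Limits.pullback.condition_assoc]
        congr 1
        rw [← Over.comp_left, ← Over.comp_left, hδ, lift_fst, lift_snd]
      rw [← Over.comp_left, ← Over.comp_left, hgr, lift_fst, lift_snd] at h1
      exact (Over.OverMorphism.ext h1).symm
    have hz2 : 2 ≤ DimLib.ptDim (C ⊗ C).hom z := by
      have h2 := DimLib.ptDim_lt_of_specializes (C ⊗ C).hom hzδ hzne
      rw [hptδ, hdC] at h2
      omega
    haveI : IrreducibleSpace (C ⊗ C).left := AlgGrpLib.OpenOrbit.irreducibleSpace_tensor C C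
    have hzg : genericPoint (C ⊗ C).left = z := by
      by_contra hg
      have h2 := DimLib.ptDim_lt_of_specializes (C ⊗ C).hom (genericPoint_specializes z) hg
      have h3 := DimLib.ptDim_product_eq_of_maximal C.hom C.hom (z := genericPoint (C ⊗ C).left)
        fun w hw => ((genericPoint_specializes w).antisymm hw).eq
      change DimLib.ptDim (C ⊗ C).hom _ = _ at h3
      have h4 := hle1 ((CartesianMonoidalCategory.fst C C).left (genericPoint (C ⊗ C).left))
      have h5 := hle1 ((CartesianMonoidalCategory.snd C C).left (genericPoint (C ⊗ C).left))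
      change _ = DimLib.ptDim C.hom ((CartesianMonoidalCategory.fst C C).left _) +
        DimLib.ptDim C.hom ((CartesianMonoidalCategory.snd C C).left _) at h3
      omega
    refine ⟨dense_iff_closure_eq.2 (Set.eq_univ_of_univ_subset ?_)⟩
    rw [← genericPoint_closure, hzg, hz]
    exact closure_mono (Set.singleton_subset_iff.2 ⟨_, rfl⟩)

end Groth.Agent.S14634
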