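import Groth.Statements.S14636
import Groth.Agent.S1585
import Groth.Agent.AlgGrpLib.OpenOrbit
import Groth.Agent.SGA3cLib.Irreducible
set_option backward.isDefEq.respectTransparency.types false

set_option autoImplicit false
universe u
open CategoryTheory MonoidalCategory CartesianMonoidalCategory MonObj GrpObj AlgebraicGeometry CategoryTheory.Limits
open AlgGrp

namespace Groth.Agent.S14636

/-- Over a field k, let G be a smooth connected k-group scheme of finite type acting on a variety X (a
separated, geometrically integral k-scheme of finite type), let ν : X̃ → X be the normalization of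
X, and let G act on X̃ so that ν is equivariant (such an action exists and is unique). Then X is
almost homogeneous, i.e. the graph morphism G × X → X × X, (g, x) ↦ (x, g·x), is dominant, if and
only if X̃ is almost homogeneous for the lifted action. (The quasi-compactness and
quasi-separatedness binders on the morphism from the generic point always hold; they are only needed
to form the normalization.) -/
theorem result (k : Type u) [Field k]
    (G X : Over (Spec (CommRingCat.of k))) [GrpObj G] [Smooth G.hom] [QuasiCompact G.hom] [ConnectedSpace ↥G.left]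
    [IsSeparated X.hom] [LocallyOfFiniteType X.hom] [QuasiCompact X.hom] [GeometricallyIntegral X.hom] [IsIntegral X.left] [QuasiCompact (X.left.fromSpecStalk (genericPoint ↥X.left))] [QuasiSeparated (X.left.fromSpecStalk (genericPoint ↥X.left))]
    (a : AlgGrp.Action G X)
    (b : AlgGrp.Action G (Over.mk (Curv2.normalizationι X.left ≫ X.hom)))
    (hb : (G ◁ (Over.homMk (Curv2.normalizationι X.left) rfl : Over.mk (Curv2.normalizationι X.left ≫ X.hom) ⟶ X)) ≫ a.act =
      b.act ≫ Over.homMk (Curv2.normalizationι X.left) rfl) :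
    IsDominant (CartesianMonoidalCategory.lift (CartesianMonoidalCategory.snd G X) a.act).left ↔
      IsDominant (CartesianMonoidalCategory.lift
        (CartesianMonoidalCategory.snd G (Over.mk (Curv2.normalizationι X.left ≫ X.hom))) b.act).left := by
  letI : X.left.Over (Spec (CommRingCat.of k)) := ⟨X.hom⟩
  haveI : LocallyOfFiniteType (X.left ↘ Spec (CommRingCat.of k)) := ‹LocallyOfFiniteType X.hom›
  obtain ⟨hfin, -, ⟨V, hVne, hiso⟩, hint, -⟩ := S1585.result k X.left
  haveI := hfin; haveI := hiso; haveI := hint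
  obtain ⟨Xn, rfl⟩ : ∃ Xn : Over (Spec (CommRingCat.of k)), Xn = Over.mk (Curv2.normalizationι X.left ≫ X.hom) := ⟨_, rfl⟩
  obtain ⟨ν, hν⟩ : ∃ ν : Over.mk (Curv2.normalizationι X.left ≫ X.hom) ⟶ X,
      ν = Over.homMk (Curv2.normalizationι X.left) rfl := ⟨_, rfl⟩
  rw [← hν] at hb
  let Vo : Over (Spec (CommRingCat.of k)) := Over.mk (V.ι ≫ X.hom)
  let ι' : Vo ⟶ X := Over.homMk V.ι rfl
  let j : Vo ⟶ Over.mk (Curv2.normalizationι X.left ≫ X.hom) :=
    Over.homMk (inv (Curv2.normalizationι X.left ∣_ V) ≫ (Curv2.normalizationι X.left ⁻¹ᵁ V).ι) (by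
      show (_ ≫ _) ≫ _ ≫ X.hom = V.ι ≫ X.hom
      rw [Category.assoc, ← morphismRestrict_ι_assoc, IsIso.inv_hom_id_assoc])
  haveI : IsOpenImmersion j.left := inferInstanceAs
    (IsOpenImmersion (inv (Curv2.normalizationι X.left ∣_ V) ≫ (Curv2.normalizationι X.left ⁻¹ᵁ V).ι))
  haveI : IsOpenImmersion ι'.left := inferInstanceAs (IsOpenImmersion V.ι)
  have hjν : j ≫ ν = ι' := by
    rw [hν]
    refine Over.OverMorphism.ext ?_
    show (inv (Curv2.normalizationι X.left ∣_ V) ≫ (Curv2.normalizationι X.left ⁻¹ᵁ V).ι) ≫ Curv2.normalizationι X.left = V.ι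
    rw [Category.assoc, ← morphismRestrict_ι, IsIso.inv_hom_id_assoc]
  have hjr : Set.range j.left = ν.left ⁻¹' (V : Set X.left) := by
    rw [hν]
    show Set.range (inv (Curv2.normalizationι X.left ∣_ V) ≫ (Curv2.normalizationι X.left ⁻¹ᵁ V).ι) = _
    rw [Scheme.Hom.comp_base, TopCat.coe_comp, Set.range_comp,
      Set.range_eq_univ.2 (inv (Curv2.normalizationι X.left ∣_ V)).surjective, Set.image_univ, Scheme.Opens.range_ι]
    rfl
  obtain ⟨Xt, hXt⟩ : ∃ Xt, Xt = Over.mk (Curv2.normalizationι X.left ≫ X.hom) := ⟨_, rfl⟩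
  let νν := CartesianMonoidalCategory.lift (fst _ _ ≫ ν) (snd _ _ ≫ ν)
  haveI : IrreducibleSpace X.left := AlgGrpLib.OpenOrbit.irreducibleSpace_of X
  haveI : IrreducibleSpace G.left := SGA3cLib.irreducibleSpace_of_connected G
  haveI : IrreducibleSpace ↥(X ⊗ X).left := AlgGrpLib.OpenOrbit.irreducibleSpace_tensor X X
  haveI : IrreducibleSpace ↥(G ⊗ X).left := AlgGrpLib.OpenOrbit.irreducibleSpace_tensor G X
  have hsq : (G ◁ ν) ≫ CartesianMonoidalCategory.lift (CartesianMonoidalCategory.snd G X) a.act =
      CartesianMonoidalCategory.lift (CartesianMonoidalCategory.snd G _) b.act ≫ νν := by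
    apply CartesianMonoidalCategory.hom_ext
    · rw [Category.assoc, lift_fst, whiskerLeft_snd, Category.assoc, lift_fst, lift_fst_assoc]
    · rw [Category.assoc, lift_snd, hb, Category.assoc, lift_snd, lift_snd_assoc]
  -- the generic point of `X ⊗ X` lifts to the open
  let jj := CartesianMonoidalCategory.lift (fst Vo Vo ≫ j) (snd Vo Vo ≫ j)
  have hιι : ∀ v, νν.left (jj.left v) = (ι' ⊗ₘ ι').left v := fun v => by
    rw [← Scheme.Hom.comp_apply, ← Over.comp_left,
      show jj ≫ νν = ι' ⊗ₘ ι' from by
        apply CartesianMonoidalCategory.hom_ext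
        · rw [Category.assoc, lift_fst, lift_fst_assoc, Category.assoc, hjν, tensorHom_fst]
        · rw [Category.assoc, lift_snd, lift_snd_assoc, Category.assoc, hjν, tensorHom_snd]]
  haveI : IsOpenImmersion (ι' ⊗ₘ ι').left := by
    rw [MonoidalCategory.tensorHom_def, Over.comp_left]
    haveI : IsOpenImmersion (ι' ▷ Vo).left :=
      MorphismProperty.of_isPullback (AlgGrpLib.OpenOrbit.isPullback_whiskerRight_left ι' Vo) ‹_›
    haveI : IsOpenImmersion (X ◁ ι').left :=
      MorphismProperty.of_isPullback (AlgGrpLib.ActionDescent.isPullback_whiskerLeft_left X ι') ‹_›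
    infer_instance
  have hmem : ∀ p, p ∈ Set.range (ι' ⊗ₘ ι').left ↔ (fst X X).left p ∈ (V : Set X.left) ∧ (snd X X).left p ∈ (V : Set X.left) := by
    intro p
    constructor
    · rintro ⟨v, rfl⟩
      rw [← Scheme.Hom.comp_apply, ← Scheme.Hom.comp_apply, ← Over.comp_left, ← Over.comp_left, tensorHom_fst,
        tensorHom_snd, Over.comp_left, Over.comp_left]
      exact ⟨Subtype.mem _, Subtype.mem _⟩
    · rintro ⟨h1, h2⟩
      obtain ⟨v₁, hv₁⟩ : (fst X X).left p ∈ Set.range V.ι := by rw [Scheme.Opens.range_ι]; exact h1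
      obtain ⟨v₂, hv₂⟩ : (snd X X).left p ∈ Set.range V.ι := by rw [Scheme.Opens.range_ι]; exact h2
      obtain ⟨w, hw1, hw2⟩ := Scheme.exists_preimage_of_isPullback
        (AlgGrpLib.OpenOrbit.isPullback_whiskerRight_left ι' X) v₁ p hv₁
      obtain ⟨v, hv, hv'⟩ := Scheme.exists_preimage_of_isPullback
        (AlgGrpLib.ActionDescent.isPullback_whiskerLeft_left Vo ι') v₂ w (by
          rw [show (snd Vo X).left w = (snd X X).left ((ι' ▷ X).left w) by
            rw [← Scheme.Hom.comp_apply, ← Over.comp_left, whiskerRight_snd], hw2]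
          exact hv₂)
      refine ⟨v, ?_⟩
      rw [MonoidalCategory.tensorHom_def', Over.comp_left, Scheme.Hom.comp_apply, hv', hw2]
  constructor
  · intro hd
    haveI : IsFinite ν.left := by rw [hν]; exact hfin
    haveI : IsProper νν.left := by
      haveI : IsProper (ν ▷ Over.mk (Curv2.normalizationι X.left ≫ X.hom)).left :=
        MorphismProperty.of_isPullback (AlgGrpLib.OpenOrbit.isPullback_whiskerRight_left ν _) inferInstance
      haveI : IsProper (X ◁ ν).left :=
        MorphismProperty.of_isPullback (AlgGrpLib.ActionDescent.isPullback_whiskerLeft_left X ν) inferInstance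
      rw [show νν = (ν ▷ _) ≫ (X ◁ ν) by apply CartesianMonoidalCategory.hom_ext <;> simp [νν], Over.comp_left]
      infer_instance
    refine ⟨dense_iff_closure_eq.2 (Set.eq_univ_of_univ_subset ?_)⟩
    obtain ⟨Z, hZ⟩ : ∃ Z, Z = closure (Set.range (CartesianMonoidalCategory.lift
        (CartesianMonoidalCategory.snd G (Over.mk (Curv2.normalizationι X.left ≫ X.hom))) b.act).left) := ⟨_, rfl⟩
    rw [← hZ]
    have hdense : Dense (νν.left '' Z) := by
      have hGi : DenseRange (G ◁ ι').left := by
        haveI : IsOpenImmersion (G ◁ ι').left :=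
          MorphismProperty.of_isPullback (AlgGrpLib.ActionDescent.isPullback_whiskerLeft_left G ι') ‹_›
        refine (G ◁ ι').left.isOpenEmbedding.isOpen_range.dense ?_
        obtain ⟨x, hx⟩ := hVne
        obtain ⟨v, hv⟩ : x ∈ Set.range V.ι := by rw [Scheme.Opens.range_ι]; exact hx
        obtain ⟨w, hw, -⟩ := Scheme.Pullback.exists_preimage_pullback (f := Vo.hom) (g := G.hom) v
          (η[G].left (IsLocalRing.closedPoint k)) (Subsingleton.elim (α := PrimeSpectrum k) _ _)
        exact ⟨_, (β_ Vo G).hom.left w, rfl⟩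
      refine Dense.mono ?_ (hd.denseRange.comp hGi (Scheme.Hom.continuous _))
      rintro _ ⟨v, rfl⟩
      refine ⟨(CartesianMonoidalCategory.lift (CartesianMonoidalCategory.snd G _) b.act).left ((G ◁ j).left v),
        hZ ▸ subset_closure (Set.mem_range_self _), ?_⟩
      show (CartesianMonoidalCategory.lift (CartesianMonoidalCategory.snd G _) b.act ≫ νν).left _ = _
      rw [← hsq, ← hjν, MonoidalCategory.whiskerLeft_comp]
      rfl
    have hclosed : IsClosed (νν.left '' Z) := νν.left.isClosedMap _ (hZ ▸ isClosed_closure)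
    obtain ⟨z, hz, hzη⟩ : genericPoint ↥(X ⊗ X).left ∈ νν.left '' Z := by
      rw [← hclosed.closure_eq, hdense.closure_eq]; trivial
    have hηV : genericPoint ↥(X ⊗ X).left ∈ Set.range (ι' ⊗ₘ ι').left := by
      refine (hmem _).2 ⟨?_, ?_⟩ <;>
      · obtain ⟨x, hx⟩ := hVne
        obtain ⟨w, hw1, hw2⟩ := Scheme.Pullback.exists_preimage_pullback (f := X.hom) (g := X.hom) x x rfl
        first
          | exact ((genericPoint_specializes w).map (fst X X).left.continuous).mem_open V.isOpen (hw1.symm ▸ hx)
          | exact ((genericPoint_specializes w).map (snd X X).left.continuous).mem_open V.isOpen (hw2.symm ▸ hx)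
    have hzV : z ∈ Set.range jj.left := by
      have h1 := (hmem _).1 hηV
      rw [← hzη, ← Scheme.Hom.comp_apply, ← Scheme.Hom.comp_apply, ← Over.comp_left, ← Over.comp_left, lift_fst,
        lift_snd, Over.comp_left, Over.comp_left, Scheme.Hom.comp_apply, Scheme.Hom.comp_apply] at h1
      have a1 : (fst (Over.mk (Curv2.normalizationι X.left ≫ X.hom)) (Over.mk (Curv2.normalizationι X.left ≫ X.hom))).left z ∈ Set.range j.left := by rw [hjr]; exact h1.1
      have a2 : (snd (Over.mk (Curv2.normalizationι X.left ≫ X.hom)) (Over.mk (Curv2.normalizationι X.left ≫ X.hom))).left z ∈ Set.range j.left := by rw [hjr]; exact h1.2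
      obtain ⟨v₁, hv₁⟩ := a1
      obtain ⟨v₂, hv₂⟩ := a2
      obtain ⟨w, hw1, hw2⟩ := Scheme.exists_preimage_of_isPullback
        (AlgGrpLib.OpenOrbit.isPullback_whiskerRight_left j _) v₁ z hv₁
      obtain ⟨v, hv, hv'⟩ := Scheme.exists_preimage_of_isPullback
        (AlgGrpLib.ActionDescent.isPullback_whiskerLeft_left Vo j) v₂ w (by
          rw [← hw2, ← Scheme.Hom.comp_apply, ← Over.comp_left, whiskerRight_snd] at hv₂
          exact hv₂)
      refine ⟨v, ?_⟩
      rw [show jj = (Vo ◁ j) ≫ (j ▷ _) by apply CartesianMonoidalCategory.hom_ext <;> simp [jj],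
        Over.comp_left, Scheme.Hom.comp_apply, hv', hw2]
    obtain ⟨v, rfl⟩ := hzV
    rw [hιι] at hzη
    have hjd : DenseRange jj.left := by
      have hW : Set.range jj.left ⊇ (fst (Over.mk (Curv2.normalizationι X.left ≫ X.hom)) (Over.mk (Curv2.normalizationι X.left ≫ X.hom))).left ⁻¹' Set.range j.left ∩ (snd (Over.mk (Curv2.normalizationι X.left ≫ X.hom)) (Over.mk (Curv2.normalizationι X.left ≫ X.hom))).left ⁻¹' Set.range j.left := by
        rintro z ⟨⟨v₁, hv₁⟩, ⟨v₂, hv₂⟩⟩
        obtain ⟨w, hw1, hw2⟩ := Scheme.exists_preimage_of_isPullback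
          (AlgGrpLib.OpenOrbit.isPullback_whiskerRight_left j _) v₁ z hv₁
        obtain ⟨v, hv, hv'⟩ := Scheme.exists_preimage_of_isPullback
          (AlgGrpLib.ActionDescent.isPullback_whiskerLeft_left Vo j) v₂ w (by
            rw [← hw2, ← Scheme.Hom.comp_apply, ← Over.comp_left, whiskerRight_snd] at hv₂
            exact hv₂)
        refine ⟨v, ?_⟩
        rw [show jj = (Vo ◁ j) ≫ (j ▷ _) by apply CartesianMonoidalCategory.hom_ext <;> simp [jj],
          Over.comp_left, Scheme.Hom.comp_apply, hv', hw2]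
      have hjdense : Dense (Set.range j.left) := by
        haveI : IrreducibleSpace (Over.mk (Curv2.normalizationι X.left ≫ X.hom)).left :=
          inferInstanceAs (IrreducibleSpace (Curv2.normalization X.left))
        refine j.left.isOpenEmbedding.isOpen_range.dense ?_
        obtain ⟨x, hx⟩ := hVne
        obtain ⟨v, hv⟩ : x ∈ Set.range V.ι := by rw [Scheme.Opens.range_ι]; exact hx
        exact ⟨_, v, rfl⟩
      refine Dense.mono hW (Dense.inter_of_isOpen_left ?_ ?_ ?_)
      · haveI := AlgGrpLib.OpenOrbit.universallyOpen_fst (Over.mk (Curv2.normalizationι X.left ≫ X.hom))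
          (Over.mk (Curv2.normalizationι X.left ≫ X.hom))
        exact hjdense.preimage (fst (Over.mk (Curv2.normalizationι X.left ≫ X.hom)) (Over.mk (Curv2.normalizationι X.left ≫ X.hom))).left.isOpenMap
      · haveI : UniversallyOpen (snd (Over.mk (Curv2.normalizationι X.left ≫ X.hom))
            (Over.mk (Curv2.normalizationι X.left ≫ X.hom))).left :=
          MorphismProperty.pullback_snd (P := @UniversallyOpen) _ _ inferInstance
        exact hjdense.preimage (snd (Over.mk (Curv2.normalizationι X.left ≫ X.hom)) (Over.mk (Curv2.normalizationι X.left ≫ X.hom))).left.isOpenMap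
      · exact j.left.isOpenEmbedding.isOpen_range.preimage (Scheme.Hom.continuous _)
    intro p _
    refine (closure_minimal ?_ (hZ ▸ isClosed_closure)) (hjd.closure_range.ge (Set.mem_univ p))
    rintro _ ⟨v', rfl⟩
    have hvv' : v ⤳ v' := by
      rw [← (ι' ⊗ₘ ι').left.isOpenEmbedding.isInducing.specializes_iff, hzη]
      exact genericPoint_specializes _
    exact (hvv'.map jj.left.continuous).mem_closed (hZ ▸ isClosed_closure) hz
  · intro hd
    refine ⟨Dense.mono ?_ (DenseRange.comp (g := νν.left) ?_ hd.denseRange νν.left.continuous)⟩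
    · rintro _ ⟨w, rfl⟩
      show (_ ≫ νν).left w ∈ _
      rw [← hsq]
      exact ⟨_, rfl⟩
    · refine Dense.mono (s₁ := Set.range (ι' ⊗ₘ ι').left) (fun p hp => ?_)
        ((ι' ⊗ₘ ι').left.isOpenEmbedding.isOpen_range.dense ?_)
      · obtain ⟨v, rfl⟩ := hp
        exact ⟨_, hιι v⟩
      · obtain ⟨x, hx⟩ := hVne
        obtain ⟨w, hw1, hw2⟩ := Scheme.Pullback.exists_preimage_pullback (f := X.hom) (g := X.hom) x x rfl
        exact ⟨w, (hmem _).2 ⟨show (fst X X).left w ∈ _ from hw1.symm ▸ hx, show (snd X X).left w ∈ _ from hw2.symm ▸ hx⟩⟩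

end Groth.Agent.S14636
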