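import Groth.Statements.S14637
import Groth.Agent.Et18.RosenlichtGeom
import Groth.Agent.NeronLib.RigidProduct
import Groth.Agent.GaGmQuot.GaSmooth
import Groth.Agent.AbSchLib.SmoothReduced
import Mathlib.Algebra.Polynomial.Laurent

set_option backward.isDefEq.respectTransparency.types false

set_option autoImplicit false
universe u
open CategoryTheory MonoidalCategory CartesianMonoidalCategory MonObj GrpObj AlgebraicGeometry CategoryTheory.Limits
open AlgGrp

namespace Groth.Agent.S14637

/-- Over a field k, the only structure of algebraic group on the punctured affine line Spec k[T, T⁻¹]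
with unit element the point T = 1 is the multiplicative group. Precisely: let G be a k-group scheme
and e an isomorphism of k-schemes from the underlying scheme of G to Spec k[T, T⁻¹] under which the
unit section has T-coordinate 1; then for every k-scheme S and all S-valued points g, h of G, the
T-coordinate of g · h (the pull-back of the global function T along the point composed with e) is
the product of the T-coordinates of g and of h. -/
theorem result (k : Type u) [Field k]
    (G : Over (Spec (CommRingCat.of k))) [GrpObj G]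
    (e : G.left ≅ Spec (CommRingCat.of (LaurentPolynomial k)))
    (he : e.hom ≫ Spec.map (CommRingCat.ofHom (algebraMap k (LaurentPolynomial k))) = G.hom)
    (hunit : ((η[G]).left ≫ e.hom).appTop.hom ((Scheme.ΓSpecIso (CommRingCat.of (LaurentPolynomial k))).inv.hom (LaurentPolynomial.T 1)) = 1)
    (S : Over (Spec (CommRingCat.of k))) (g h : S ⟶ G) :
    ((g * h).left ≫ e.hom).appTop.hom ((Scheme.ΓSpecIso (CommRingCat.of (LaurentPolynomial k))).inv.hom (LaurentPolynomial.T 1)) =
      (g.left ≫ e.hom).appTop.hom ((Scheme.ΓSpecIso (CommRingCat.of (LaurentPolynomial k))).inv.hom (LaurentPolynomial.T 1)) * (h.left ≫ e.hom).appTop.hom ((Scheme.ΓSpecIso (CommRingCat.of (LaurentPolynomial k))).inv.hom (LaurentPolynomial.T 1)) := by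
  let R := LaurentPolynomial k
  haveI : IsScalarTower k (Polynomial k) R := IsScalarTower.of_algebraMap_eq fun x => by
    simp [LaurentPolynomial.algebraMap_eq_toLaurent, Polynomial.algebraMap_eq]
    exact (Polynomial.toLaurent_C x).symm
  haveI : Algebra.Smooth (Polynomial k) R := Algebra.Smooth.of_isLocalization_Away (Polynomial.X : Polynomial k)
  haveI : Algebra.Smooth k (Polynomial k) := ⟨inferInstance, inferInstance⟩
  haveI : Algebra.Smooth k R := Algebra.Smooth.comp k (Polynomial k) R
  haveI : Smooth (Spec.map (CommRingCat.ofHom (algebraMap k R))) := by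
    rw [HasRingHomProperty.Spec_iff (P := @Smooth)]
    exact RingHom.smooth_algebraMap.2 inferInstance
  haveI : Smooth G.hom := by rw [← he]; infer_instance
  haveI : IsDomain R := NoZeroDivisors.to_isDomain _
  haveI : IsIntegral (Spec (CommRingCat.of R)) := inferInstance
  haveI : Nonempty G.left := ⟨η[G].left (IsLocalRing.closedPoint k)⟩
  haveI : IsIntegral G.left := isIntegral_of_isOpenImmersion e.hom
  haveI : QuasiCompact G.hom := by rw [← he]; infer_instance
  haveI : GeometricallyIntegral G.hom := Groth.Agent.GaGmQuot.geometricallyIntegral_of_connected G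
  haveI : GeometricallyConnected G.hom := Groth.Agent.NeronLib.geometricallyConnected_of_irreducible _
  let t : Γ(G.left, ⊤) := e.hom.appTop.hom ((Scheme.ΓSpecIso (CommRingCat.of R)).inv.hom (LaurentPolynomial.T 1))
  have ht : IsUnit t := ((LaurentPolynomial.isUnit_T 1).map _).map _
  let c : ∀ {T : Over (Spec (CommRingCat.of k))}, (T ⟶ G) → Γ(T.left, ⊤) := fun x => x.left.appTop t
  have hc : ∀ {T : Over (Spec (CommRingCat.of k))} (x : T ⟶ G),
      (x.left ≫ e.hom).appTop.hom ((Scheme.ΓSpecIso (CommRingCat.of R)).inv.hom (LaurentPolynomial.T 1)) = c x := fun x => rfl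
  rw [hc, hc, hc]
  have hcomp : ∀ {T T' : Over (Spec (CommRingCat.of k))} (s : T' ⟶ T) (x : T ⟶ G), c (s ≫ x) = s.left.appTop (c x) :=
    fun s x => rfl
  have hone : ∀ {T : Over (Spec (CommRingCat.of k))}, c (1 : T ⟶ G) = 1 := fun {T} => by
    rw [Hom.one_def, hcomp]
    have h1 : c η[G] = 1 := hunit
    rw [h1, map_one]
  have hu : ∀ {T : Over (Spec (CommRingCat.of k))} (x : T ⟶ G), IsUnit (c x) := fun x => ht.map _
  let u : (Γ((G ⊗ G).left, ⊤))ˣ := (hu (fst G G * snd G G)).unit / ((hu (fst G G)).unit * (hu (snd G G)).unit)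
  have huniv : u = 1 := by
    refine Units.ext ?_
    refine Groth.Agent.Et18.Rosenlicht.eq_one_of_axes_field G.hom G.hom ⟨η[G].left, Over.w η[G]⟩ ⟨η[G].left, Over.w η[G]⟩
      u.isUnit ?_ ?_
    · refine Eq.trans (b := (CartesianMonoidalCategory.lift (𝟙 G) (toUnit G ≫ η[G])).left.appTop (u : Γ((G ⊗ G).left, ⊤))) rfl ?_
      have := congrArg (Units.val) (map_div (Units.map (CartesianMonoidalCategory.lift (𝟙 G) (toUnit G ≫ η[G])).left.appTop.hom.toMonoidHom) (hu (fst G G * snd G G)).unit ((hu (fst G G)).unit * (hu (snd G G)).unit))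
      refine this.trans ?_
      rw [← Units.val_one, ← div_self' ((hu (𝟙 G)).unit)]
      congr 2 <;> apply Units.ext <;>
        simp only [Units.coe_map, IsUnit.unit_spec, Units.val_mul, map_mul, RingHom.toMonoidHom_eq_coe, MonoidHom.coe_coe, RingHom.coe_coe, ← hcomp, MonObj.comp_mul, lift_fst, lift_snd, ← Hom.one_def, hone, _root_.mul_one, _root_.one_mul]
    · refine Eq.trans (b := (CartesianMonoidalCategory.lift (toUnit G ≫ η[G]) (𝟙 G)).left.appTop (u : Γ((G ⊗ G).left, ⊤))) rfl ?_
      have := congrArg (Units.val) (map_div (Units.map (CartesianMonoidalCategory.lift (toUnit G ≫ η[G]) (𝟙 G)).left.appTop.hom.toMonoidHom) (hu (fst G G * snd G G)).unit ((hu (fst G G)).unit * (hu (snd G G)).unit))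
      refine this.trans ?_
      rw [← Units.val_one, ← div_self' ((hu (𝟙 G)).unit)]
      congr 2 <;> apply Units.ext <;>
        simp only [Units.coe_map, IsUnit.unit_spec, Units.val_mul, map_mul, RingHom.toMonoidHom_eq_coe, MonoidHom.coe_coe, RingHom.coe_coe, ← hcomp, MonObj.comp_mul, lift_fst, lift_snd, ← Hom.one_def, hone, _root_.mul_one, _root_.one_mul]
  have key : c (fst G G * snd G G) = c (fst G G) * c (snd G G) := by
    have h2 := congrArg Units.val (div_eq_one.1 huniv)
    simpa using h2
  have := congrArg (CartesianMonoidalCategory.lift g h).left.appTop key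
  rw [map_mul, ← hcomp, ← hcomp, ← hcomp, MonObj.comp_mul, lift_fst, lift_snd] at this
  exact this

end Groth.Agent.S14637
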