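import Groth.Statements.S14638
import Groth.Agent.AlgGrpLib.OpenOrbit
set_option backward.isDefEq.respectTransparency.types false

set_option autoImplicit false
universe u
open CategoryTheory MonoidalCategory CartesianMonoidalCategory MonObj GrpObj AlgebraicGeometry CategoryTheory.Limits
open AlgGrp

namespace Groth.Agent.S14638

/-- Over a field k, let G be a smooth k-group scheme of finite type acting on a variety X (a separated,
geometrically integral k-scheme of finite type). Then X is almost homogeneous, i.e. the graph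
morphism G × X → X × X, (g, x) ↦ (x, g·x), is dominant, if and only if there is a nonempty open
subscheme U of X which is G-stable (the action restricts to an action on U) and homogeneous (the
graph morphism G × U → U × U is surjective). Moreover there is at most one such open subscheme U
(the open orbit). -/
theorem result (k : Type u) [Field k]
    (G X : Over (Spec (CommRingCat.of k))) [GrpObj G] [Smooth G.hom] [QuasiCompact G.hom]
    [IsSeparated X.hom] [LocallyOfFiniteType X.hom] [QuasiCompact X.hom] [GeometricallyIntegral X.hom]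
    (a : AlgGrp.Action G X) :
    (IsDominant (CartesianMonoidalCategory.lift (CartesianMonoidalCategory.snd G X) a.act).left ↔
      ∃ U : X.left.Opens, (U : Set ↥X.left).Nonempty ∧
        ∃ b : AlgGrp.Action G (Over.mk (U.ι ≫ X.hom)),
          (G ◁ (Over.homMk U.ι rfl : Over.mk (U.ι ≫ X.hom) ⟶ X)) ≫ a.act = b.act ≫ Over.homMk U.ι rfl ∧
          Surjective (CartesianMonoidalCategory.lift (CartesianMonoidalCategory.snd G (Over.mk (U.ι ≫ X.hom))) b.act).left) ∧
    ∀ U U' : X.left.Opens,
      ((U : Set ↥X.left).Nonempty ∧ ∃ b : AlgGrp.Action G (Over.mk (U.ι ≫ X.hom)),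
          (G ◁ (Over.homMk U.ι rfl : Over.mk (U.ι ≫ X.hom) ⟶ X)) ≫ a.act = b.act ≫ Over.homMk U.ι rfl ∧
          Surjective (CartesianMonoidalCategory.lift (CartesianMonoidalCategory.snd G (Over.mk (U.ι ≫ X.hom))) b.act).left) →
      ((U' : Set ↥X.left).Nonempty ∧ ∃ b' : AlgGrp.Action G (Over.mk (U'.ι ≫ X.hom)),
          (G ◁ (Over.homMk U'.ι rfl : Over.mk (U'.ι ≫ X.hom) ⟶ X)) ≫ a.act = b'.act ≫ Over.homMk U'.ι rfl ∧
          Surjective (CartesianMonoidalCategory.lift (CartesianMonoidalCategory.snd G (Over.mk (U'.ι ≫ X.hom))) b'.act).left) →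
      U = U' := by
  haveI : IrreducibleSpace X.left := Groth.Agent.AlgGrpLib.OpenOrbit.irreducibleSpace_of X
  haveI : IrreducibleSpace ↥(X ⊗ X).left := Groth.Agent.AlgGrpLib.OpenOrbit.irreducibleSpace_tensor X X
  refine ⟨⟨fun hdom => ?_, ?_⟩, ?_⟩
  · let U := Groth.Agent.AlgGrpLib.OpenOrbit.openOrbit a
    have hne : (U : Set X.left).Nonempty := Groth.Agent.AlgGrpLib.OpenOrbit.openOrbit_nonempty a hdom
    let X₀ : Over (Spec (CommRingCat.of k)) := Over.mk (U.ι ≫ X.hom)
    let j : X₀ ⟶ X := Over.homMk U.ι rfl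
    haveI : IsOpenImmersion j.left := inferInstanceAs (IsOpenImmersion U.ι)
    haveI : Mono ((Over.forget _).map j) := inferInstanceAs (Mono U.ι)
    haveI : Mono j := (Over.forget _).mono_of_mono_map this
    have hr : Set.range ((G ◁ j) ≫ a.act).left ⊆ Set.range U.ι := by
      rintro _ ⟨z, rfl⟩
      rw [Scheme.Opens.range_ι, Over.comp_left, Scheme.Hom.comp_apply]
      refine Groth.Agent.AlgGrpLib.OpenOrbit.act_mem_openOrbit a _ ?_
      rw [← Scheme.Hom.comp_apply, ← Over.comp_left, whiskerLeft_snd]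
      exact ((snd G X₀).left z).2
    let act' : G ⊗ X₀ ⟶ X₀ := Over.homMk (IsOpenImmersion.lift U.ι ((G ◁ j) ≫ a.act).left hr) (by
      show IsOpenImmersion.lift U.ι _ hr ≫ U.ι ≫ X.hom = _
      rw [← Category.assoc, IsOpenImmersion.lift_fac, Over.w])
    have hact : act' ≫ j = (G ◁ j) ≫ a.act := Over.OverMorphism.ext (IsOpenImmersion.lift_fac U.ι _ hr)
    let b : AlgGrp.Action G X₀ :=
      { act := act'
        one_act := by
          rw [← cancel_mono j, Category.assoc, hact, ← whisker_exchange_assoc, a.one_act, leftUnitor_naturality]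
        mul_act := by
          rw [← cancel_mono j]
          simp only [Category.assoc, hact]
          rw [← whisker_exchange_assoc, a.mul_act, ← MonoidalCategory.whiskerLeft_comp_assoc, hact,
            MonoidalCategory.whiskerLeft_comp_assoc, associator_naturality_right_assoc] }
    refine ⟨U, hne, b, hact.symm, ⟨fun p => ?_⟩⟩
    obtain ⟨K, _, _, _, t, rfl⟩ := Groth.Agent.AlgGrpLib.OpenOrbit.exists_point_over' (X₀ ⊗ X₀) p
    obtain ⟨g, hg⟩ := Groth.Agent.AlgGrpLib.OpenOrbit.exists_translate a (t ≫ fst X₀ X₀ ≫ j) (t ≫ snd X₀ X₀ ≫ j)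
      (show _ ∈ U by
        rw [← Category.assoc, Over.comp_left, Scheme.Hom.comp_apply]
        exact ((t ≫ fst X₀ X₀).left _).2)
      (show _ ∈ U by
        rw [← Category.assoc, Over.comp_left, Scheme.Hom.comp_apply]
        exact ((t ≫ snd X₀ X₀).left _).2)
    let q := CartesianMonoidalCategory.lift g (t ≫ fst X₀ X₀)
    have key : q ≫ CartesianMonoidalCategory.lift (snd G X₀) b.act = t := by
      apply CartesianMonoidalCategory.hom_ext
      · simp [q]
      · rw [← cancel_mono j, Category.assoc q, lift_snd, Category.assoc, Category.assoc]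
        show q ≫ act' ≫ j = _
        rw [hact, ← Category.assoc, lift_whiskerLeft, Category.assoc, hg]
    exact ⟨q.left (IsLocalRing.closedPoint K), congrArg (fun m => m.left (IsLocalRing.closedPoint K)) key⟩
  · rintro ⟨U, hne, b, hb, hs⟩
    let X₀ : Over (Spec (CommRingCat.of k)) := Over.mk (U.ι ≫ X.hom)
    let j : X₀ ⟶ X := Over.homMk U.ι rfl
    haveI : IsOpenImmersion j.left := inferInstanceAs (IsOpenImmersion U.ι)
    haveI : IsOpenImmersion (j ▷ X₀).left := MorphismProperty.of_isPullback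
      (Groth.Agent.AlgGrpLib.OpenOrbit.isPullback_whiskerRight_left j X₀) ‹_›
    haveI : IsOpenImmersion (X ◁ j).left := MorphismProperty.of_isPullback
      (Groth.Agent.AlgGrpLib.ActionDescent.isPullback_whiskerLeft_left X j) ‹_›
    let jj : X₀ ⊗ X₀ ⟶ X ⊗ X := (j ▷ X₀) ≫ (X ◁ j)
    haveI : IsOpenImmersion jj.left := inferInstanceAs (IsOpenImmersion ((j ▷ X₀).left ≫ (X ◁ j).left))
    obtain ⟨u, hu⟩ := hne
    obtain ⟨w, -, -⟩ := Scheme.Pullback.exists_preimage_pullback (f := X₀.hom) (g := X₀.hom) (⟨u, hu⟩ : U) ⟨u, hu⟩ rfl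
    have key : (G ◁ j) ≫ CartesianMonoidalCategory.lift (snd G X) a.act =
        CartesianMonoidalCategory.lift (snd G X₀) b.act ≫ jj := by
      apply CartesianMonoidalCategory.hom_ext
      · simp [jj]; exact (lift_fst_assoc _ _ _).symm
      · rw [Category.assoc, lift_snd, hb, Category.assoc]
        simp only [jj, Category.assoc, whiskerLeft_snd, whiskerRight_snd_assoc]
        rw [← Category.assoc, lift_snd]
    have hsub : Set.range jj.left ⊆ Set.range (CartesianMonoidalCategory.lift (snd G X) a.act).left := by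
      rintro _ ⟨v, rfl⟩
      obtain ⟨z, rfl⟩ := hs.surj v
      exact ⟨(G ◁ j).left z, congrArg (fun m => m.left z) key⟩
    exact ⟨((jj.left.isOpenEmbedding.isOpen_range.dense ⟨_, w, rfl⟩).mono hsub)⟩
  · rintro U U' ⟨hne, b, hb, hs⟩ ⟨hne', b', hb', hs'⟩
    have key : ∀ (V V' : X.left.Opens) (c : AlgGrp.Action G (Over.mk (V.ι ≫ X.hom)))
        (c' : AlgGrp.Action G (Over.mk (V'.ι ≫ X.hom))),
        (G ◁ (Over.homMk V.ι rfl : Over.mk (V.ι ≫ X.hom) ⟶ X)) ≫ a.act = c.act ≫ Over.homMk V.ι rfl →
        Surjective (CartesianMonoidalCategory.lift (snd G (Over.mk (V.ι ≫ X.hom))) c.act).left →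
        (G ◁ (Over.homMk V'.ι rfl : Over.mk (V'.ι ≫ X.hom) ⟶ X)) ≫ a.act = c'.act ≫ Over.homMk V'.ι rfl →
        (V : Set X.left).Nonempty → (V' : Set X.left).Nonempty → V ≤ V' := by
      intro V V' c c' hc hcs hc' hV hV' u hu
      obtain ⟨v, hvV, hvV'⟩ := nonempty_preirreducible_inter V.isOpen V'.isOpen hV hV'
      let X₀ : Over (Spec (CommRingCat.of k)) := Over.mk (V.ι ≫ X.hom)
      let j : X₀ ⟶ X := Over.homMk V.ι rfl
      let X₁ : Over (Spec (CommRingCat.of k)) := Over.mk (V'.ι ≫ X.hom)
      let j' : X₁ ⟶ X := Over.homMk V'.ι rfl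
      obtain ⟨w, hw1, hw2⟩ := Scheme.Pullback.exists_preimage_pullback (f := X₀.hom) (g := X₀.hom)
        (⟨v, hvV⟩ : V) (⟨u, hu⟩ : V) (Subsingleton.elim (α := PrimeSpectrum k) _ _)
      obtain ⟨z, hz⟩ := hcs.surj w
      have e1 : (snd G X₀).left z = (⟨v, hvV⟩ : V) := by
        rw [← hw1, ← hz]
        show _ = (fst X₀ X₀).left _
        rw [← Scheme.Hom.comp_apply, ← Over.comp_left, lift_fst]
      have e2 : c.act.left z = (⟨u, hu⟩ : V) := by
        rw [← hw2, ← hz]
        show _ = (snd X₀ X₀).left _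
        rw [← Scheme.Hom.comp_apply, ← Over.comp_left, lift_snd]
      have e3 : (snd G X).left ((G ◁ j).left z) = v := by
        rw [← Scheme.Hom.comp_apply, ← Over.comp_left, whiskerLeft_snd, Over.comp_left, Scheme.Hom.comp_apply, e1]
        rfl
      obtain ⟨z', -, hz'⟩ := Scheme.exists_preimage_of_isPullback
        (Groth.Agent.AlgGrpLib.ActionDescent.isPullback_whiskerLeft_left G j') (⟨v, hvV'⟩ : V')
        ((G ◁ j).left z) e3.symm
      have e4 : a.act.left ((G ◁ j').left z') = u := by
        rw [hz', ← Scheme.Hom.comp_apply, ← Over.comp_left, hc, Over.comp_left, Scheme.Hom.comp_apply, e2]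
        rfl
      rw [← e4, ← Scheme.Hom.comp_apply, ← Over.comp_left, hc', Over.comp_left, Scheme.Hom.comp_apply]
      exact (c'.act.left z').2
    exact le_antisymm (key U U' b b' hb hs hb' hne hne') (key U' U b' b hb' hs' hb hne' hne)

end Groth.Agent.S14638
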