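import Groth.Statements.S14639
import Mathlib.RingTheory.AdjoinRoot

set_option backward.isDefEq.respectTransparency.types false

set_option autoImplicit false
universe u
open Polynomial
open AlgGrp

namespace Groth.Agent.S14639

/-- Classification of the subalgebras of a truncated polynomial ring that are stable under the unipotent
substitutions, which is the algebraic step behind the classification of curves almost homogeneous
under the additive group in characteristic zero. Let k be a field of characteristic zero, N ≥ 0 and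
R = k[u]/(u^(N+1)). The additive group acts on R through the substitutions u ↦ u/(1 + a u), a in k.
If A is a k-subalgebra of R stable under all these substitutions (stated for every k-algebra
endomorphism σ of R with σ(u)(1 + a u) = u for some a in k), then there is an integer n with 1 ≤ n ≤
N + 1 such that A = k ⊕ (u^n): as a k-subspace, A is the span of 1 plus the ideal generated by u^n.
(In positive characteristic p and for N ≥ p + 1, the subalgebra generated by u^p is stable and not
of this form.) -/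
theorem result (k : Type u) [Field k] [CharZero k]
    (N : ℕ) (A : Subalgebra k (AdjoinRoot ((Polynomial.X : Polynomial k) ^ (N + 1))))
    (hA : ∀ (a : k) (σ : AdjoinRoot ((Polynomial.X : Polynomial k) ^ (N + 1)) →ₐ[k] AdjoinRoot ((Polynomial.X : Polynomial k) ^ (N + 1))),
      σ (AdjoinRoot.root ((Polynomial.X : Polynomial k) ^ (N + 1))) * (1 + algebraMap k (AdjoinRoot ((Polynomial.X : Polynomial k) ^ (N + 1))) a * AdjoinRoot.root ((Polynomial.X : Polynomial k) ^ (N + 1))) = AdjoinRoot.root ((Polynomial.X : Polynomial k) ^ (N + 1)) →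
        A.map σ ≤ A) :
    ∃ n : ℕ, 1 ≤ n ∧ n ≤ N + 1 ∧
      Subalgebra.toSubmodule A =
        Submodule.span k {1} ⊔ (Ideal.span {AdjoinRoot.root ((Polynomial.X : Polynomial k) ^ (N + 1)) ^ n}).restrictScalars k := by
  classical
  set R := AdjoinRoot ((Polynomial.X : Polynomial k) ^ (N + 1))
  set u : R := AdjoinRoot.root ((Polynomial.X : Polynomial k) ^ (N + 1)) with hu
  have hu0 : u ^ (N + 1) = 0 := by
    rw [hu, ← AdjoinRoot.mk_X, ← map_pow, AdjoinRoot.mk_self]
  obtain ⟨w, hw⟩ : ∃ w : R, (1 + u) * w = 1 :=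
    isUnit_iff_exists_inv.1 (IsNilpotent.isUnit_one_add ⟨N + 1, hu0⟩)
  have hev : Polynomial.eval₂ (Algebra.ofId k R : k →+* R) (u * w) ((Polynomial.X : Polynomial k) ^ (N + 1)) = 0 := by
    simp [mul_pow, hu0]
  obtain ⟨σ, hσu⟩ : ∃ σ : R →ₐ[k] R, σ u = u * w :=
    ⟨AdjoinRoot.liftAlgHom _ (Algebra.ofId k R) (u * w) hev, AdjoinRoot.liftAlgHom_root _ _ _ hev⟩
  have hmap : ∀ f ∈ A, σ f ∈ A := fun f hf => hA 1 σ (by
    show σ u * (1 + algebraMap k R 1 * u) = u
    rw [hσu, map_one, _root_.one_mul, mul_assoc, mul_comm w, hw, mul_one]) ⟨f, hf, rfl⟩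
  have hdec : ∀ g : R, ∃ (c : k) (g' : R), g = algebraMap k R c + u * g' := fun g => by
    obtain ⟨p, rfl⟩ := AdjoinRoot.mk_surjective g
    refine ⟨p.coeff 0, AdjoinRoot.mk _ p.divX, ?_⟩
    rw [hu, ← AdjoinRoot.mk_X, ← map_mul, AdjoinRoot.algebraMap_eq, ← AdjoinRoot.mk_C, ← map_add]
    exact congrArg (AdjoinRoot.mk _) ((Polynomial.X_mul_divX_add p).symm.trans (add_comm _ _))
  have hw1 : w = 1 - u * w := by linear_combination hw
  have hmod1 : ∀ g : R, u ∣ σ g - g := fun g => by
    obtain ⟨c, g', rfl⟩ := hdec g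
    rw [map_add, map_mul, AlgHom.commutes, hσu]
    exact ⟨w * σ g' - g', by ring⟩
  have hmod2 : ∀ g : R, u ^ 2 ∣ σ g - g := fun g => by
    obtain ⟨c, g', rfl⟩ := hdec g
    obtain ⟨h, hh⟩ := hmod1 g'
    rw [map_add, map_mul, AlgHom.commutes, hσu]
    exact ⟨h - w * σ g', by linear_combination (u * σ g') * hw1 + u * hh⟩
  have hwn : ∀ m : ℕ, u ^ 2 ∣ w ^ m - 1 + (m : R) * u := by
    intro m
    induction m with
    | zero => exact ⟨0, by simp⟩
    | succ m ih =>
      obtain ⟨h, hh⟩ := ih
      refine ⟨h * w + (m + 1) * w, ?_⟩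
      push_cast
      linear_combination w * hh + (1 - (m + 1) * u) * hw1
  let P : ℕ → Prop := fun m => ∃ f ∈ A, ∃ (c : k) (h : R), c ≠ 0 ∧ f = u ^ m * (algebraMap k R c + u * h)
  have hstep : ∀ m, 1 ≤ m → P m → P (m + 1) := by
    rintro m hm ⟨f, hf, c, h, hc, rfl⟩
    obtain ⟨a, ha⟩ := hwn m
    obtain ⟨b, hb⟩ := hmod2 (algebraMap k R c + u * h)
    refine ⟨_, A.sub_mem (hmap _ hf) hf, -(m : k) * c, a * (algebraMap k R c + u * h) + w ^ m * b - (m : R) * h,
      mul_ne_zero (neg_ne_zero.2 (Nat.cast_ne_zero.2 (by omega))) hc, ?_⟩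
    generalize hG : algebraMap k R c + u * h = G at hb ⊢
    rw [map_mul σ, map_pow σ, hσu, map_mul, map_neg, map_natCast, mul_pow, pow_succ u m]
    linear_combination (u ^ m * G) * ha + (u ^ m * w ^ m) * hb + (u ^ m * u * (m : R)) * hG
  have hN : P (N + 1) := ⟨0, A.zero_mem, 1, 0, one_ne_zero, by rw [hu0, zero_mul]⟩
  have hex : ∃ m, 1 ≤ m ∧ P m := ⟨N + 1, by omega, hN⟩
  let n := Nat.find hex
  obtain ⟨hn1, hn2⟩ : 1 ≤ n ∧ P n := Nat.find_spec hex
  have hnN : n ≤ N + 1 := Nat.find_min' hex ⟨by omega, hN⟩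
  have hall : ∀ j, P (n + j) := by
    intro j
    induction j with
    | zero => exact hn2
    | succ j ih => exact hstep (n + j) (hn1.trans (Nat.le_add_right n j)) ih
  have hideal : ∀ j m, m + j = N + 1 → n ≤ m → ∀ r : R, u ^ m * r ∈ A := by
    intro j
    induction j with
    | zero =>
      intro m hm _ r
      rw [show m = N + 1 by omega, hu0, zero_mul]
      exact A.zero_mem
    | succ j ih =>
      intro m hm hnm r
      have hnext := ih (m + 1) (by omega) (by omega)
      obtain ⟨f, hf, c, h, hc, hfe⟩ := hall (m - n)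
      rw [show n + (m - n) = m by omega] at hfe
      obtain ⟨c', r', rfl⟩ := hdec r
      have h1 : u ^ m * algebraMap k R c ∈ A := by
        have e : u ^ m * algebraMap k R c = f - u ^ (m + 1) * h := by rw [hfe]; ring
        exact e ▸ A.sub_mem hf (hnext h)
      have e : u ^ m * (algebraMap k R c' + u * r') =
          algebraMap k R (c' * c⁻¹) * (u ^ m * algebraMap k R c) + u ^ (m + 1) * r' := by
        have hcc : algebraMap k R (c' * c⁻¹) * algebraMap k R c = algebraMap k R c' := by
          rw [← map_mul, inv_mul_cancel_right₀ hc]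
        linear_combination -(u ^ m) * hcc
      exact e ▸ A.add_mem (A.mul_mem (A.algebraMap_mem _) h1) (hnext r')
  refine ⟨n, hn1, hnN, le_antisymm (fun f hf => ?_) (sup_le (Submodule.span_le.2 ?_) fun f hf => ?_)⟩
  · obtain ⟨c0, g, hg⟩ := hdec f
    have hdiv : ∀ j, j + 1 ≤ n → u ^ (j + 1) ∣ f - algebraMap k R c0 := by
      intro j
      induction j with
      | zero => exact fun _ => ⟨g, by rw [hg]; ring⟩
      | succ j ih =>
        intro hj
        obtain ⟨g', hg'⟩ := ih (by omega)
        obtain ⟨c, g'', hg''⟩ := hdec g'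
        by_cases hc : c = 0
        · exact ⟨g'', by rw [hg', hg'', hc, map_zero]; ring⟩
        · exact absurd ⟨Nat.le_add_left 1 j, _, A.sub_mem hf (A.algebraMap_mem c0), c, g'', hc, by
            rw [hg', hg'']⟩ (Nat.find_min hex (show j + 1 < n by omega))
    obtain ⟨g', hg'⟩ := hdiv (n - 1) (by omega)
    rw [show n - 1 + 1 = n by omega] at hg'
    rw [show f = c0 • (1 : R) + u ^ n * g' by rw [← hg', Algebra.smul_def, mul_one]; ring]
    exact Submodule.add_mem_sup (Submodule.smul_mem _ _ (Submodule.mem_span_singleton_self _))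
      (Ideal.mem_span_singleton.2 (dvd_mul_right _ _))
  · exact Set.singleton_subset_iff.2 A.one_mem
  · obtain ⟨r, rfl⟩ := Ideal.mem_span_singleton.1 hf
    exact hideal (N + 1 - n) n (by omega) le_rfl r

end Groth.Agent.S14639
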