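import Groth.Statements.S1464
import Groth.Agent.FlatMorApprox.Refine
import Groth.Agent.FlatMorDim.BaseChange

set_option autoImplicit false
universe u
open FlatMor

namespace Groth.Agent.S1464

open AlgebraicGeometry CategoryTheory Limits in
/-- Let f : X → S be a morphism of finite presentation between affine schemes all of whose fibres have
dimension d. Then f is the base change of a morphism of finite type f₀ : X₀ → S₀ between affine
schemes with S₀ of finite type over ℤ, where f₀ can be chosen with the same property. -/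
theorem result {X S : Scheme.{u}} (f : X ⟶ S) [IsAffine X] [IsAffine S] [LocallyOfFinitePresentation f] (d : ℕ) (hd : ∀ s : S, topologicalKrullDim ↑(f.fiber s) = d) :
    ∃ (X₀ S₀ : Scheme.{u}) (f₀ : X₀ ⟶ S₀) (g : S ⟶ S₀) (g' : X ⟶ X₀), IsAffine X₀ ∧ IsAffine S₀ ∧ IsPullback g' f f₀ g ∧
      Algebra.FiniteType ℤ Γ(S₀, ⊤) ∧ LocallyOfFiniteType f₀ ∧ ∀ s₀ : S₀, topologicalKrullDim ↑(f₀.fiber s₀) = d := by
  let P : MorphismProperty Scheme.{u} := fun Z _ _ => topologicalKrullDim ↥Z = d
  have hP : ∀ {X' Y' : Scheme.{u}} (h : X' ⟶ Y') [LocallyOfFinitePresentation h] [QuasiCompact h] [QuasiSeparated h],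
      Topology.IsLocallyConstructible {y : Y' | P (h.fiberToSpecResidueField y)} := fun h _ _ _ =>
    Groth.Agent.FlatMorDim.isLocallyConstructible_setOf_fiber_dim_eq h (d : WithBot ℕ∞)
  obtain ⟨X₀, S₀, f₀, g, g', h1, h2, h3, h4, h5, h6⟩ :=
    Groth.Agent.FlatMorApprox.exists_pullback_model_forall P (fun {X X' Y Y'} {g'} {f'} {f} {g} hc hft y' => by
      haveI := hft
      show _ = _ ↔ _ = _
      rw [Groth.Agent.FlatMorDim.fiber_dim_baseChange hc y']) hP f hd
  exact ⟨X₀, S₀, f₀, g, g', h1, h2, h3, h4, h5, h6⟩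

end Groth.Agent.S1464
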