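import Groth.Statements.S14640
import Groth.Agent.AlgGrpLib.CosetOrbit
set_option backward.isDefEq.respectTransparency.types false

set_option autoImplicit false
universe u
open CategoryTheory MonoidalCategory CartesianMonoidalCategory MonObj GrpObj AlgebraicGeometry CategoryTheory.Limits
open AlgGrp

namespace Groth.Agent.S14640

/-- Over a field k, let G be a smooth k-group scheme of finite type acting on a variety X (a separated,
geometrically integral k-scheme of finite type), and let i : G° → G be its identity component: a
homomorphism which is an open immersion from a connected k-group scheme whose image is the connected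
component of the unit element of G. Let G° act on X through i. Then X is homogeneous under G (the
graph morphism G × X → X × X, (g, x) ↦ (x, g·x), is surjective) if and only if it is homogeneous
under G°, and X is almost homogeneous under G (the graph morphism is dominant) if and only if it is
almost homogeneous under G°. -/
theorem result (k : Type u) [Field k]
    (G G0 X : Over (Spec (CommRingCat.of k))) [GrpObj G] [Smooth G.hom] [QuasiCompact G.hom]
    [GrpObj G0] (i : G0 ⟶ G) [IsMonHom i] [IsOpenImmersion i.left] [ConnectedSpace ↥G0.left]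
    (hi : Set.range i.left.base = connectedComponent ((η[G]).left.base (IsLocalRing.closedPoint k)))
    [IsSeparated X.hom] [LocallyOfFiniteType X.hom] [QuasiCompact X.hom] [GeometricallyIntegral X.hom]
    (a : AlgGrp.Action G X) (a0 : AlgGrp.Action G0 X) (ha0 : a0.act = (i ▷ X) ≫ a.act) :
    (Surjective (CartesianMonoidalCategory.lift (CartesianMonoidalCategory.snd G X) a.act).left ↔
      Surjective (CartesianMonoidalCategory.lift (CartesianMonoidalCategory.snd G0 X) a0.act).left) ∧
    (IsDominant (CartesianMonoidalCategory.lift (CartesianMonoidalCategory.snd G X) a.act).left ↔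
      IsDominant (CartesianMonoidalCategory.lift (CartesianMonoidalCategory.snd G0 X) a0.act).left) := by
  haveI : LocallyOfFiniteType G0.hom := by rw [← Over.w i]; infer_instance
  haveI : IsLocallyNoetherian G.left := LocallyOfFiniteType.isLocallyNoetherian G.hom
  haveI : CompactSpace G.left := QuasiCompact.compactSpace_of_compactSpace G.hom
  haveI : AlgebraicGeometry.IsNoetherian G.left := {}
  haveI : QuasiCompact G0.hom := by rw [← Over.w i]; infer_instance
  haveI : IrreducibleSpace X.left := AlgGrpLib.OpenOrbit.irreducibleSpace_of X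
  have hfac : CartesianMonoidalCategory.lift (CartesianMonoidalCategory.snd G0 X) a0.act =
      (i ▷ X) ≫ CartesianMonoidalCategory.lift (CartesianMonoidalCategory.snd G X) a.act := by
    rw [comp_lift, whiskerRight_snd, ha0]
  have hsub : Set.range (CartesianMonoidalCategory.lift (CartesianMonoidalCategory.snd G0 X) a0.act).left ⊆
      Set.range (CartesianMonoidalCategory.lift (CartesianMonoidalCategory.snd G X) a.act).left := by
    rw [hfac, Over.comp_left]
    rintro _ ⟨z, rfl⟩
    exact ⟨_, rfl⟩
  have hact : ∀ {T : Over (Spec (CommRingCat.of k))} (h : T ⟶ G0) (x : T ⟶ X),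
      CartesianMonoidalCategory.lift h x ≫ a0.act = CartesianMonoidalCategory.lift (h ≫ i) x ≫ a.act := fun h x => by
    rw [ha0, lift_whiskerRight_assoc]
  constructor
  · refine ⟨fun hs => ⟨fun z => ?_⟩, fun hs => ⟨fun z => hsub (hs.1 z)⟩⟩
    obtain ⟨K, _, _, _, t, rfl⟩ := AlgGrpLib.OpenOrbit.exists_point_over' (X ⊗ X) z
    have key : ∀ x : Over.mk (Spec.map (CommRingCat.ofHom (algebraMap k K))) ⟶ X,
        closure (Set.range (AlgGrpLib.CosetOrbit.orb i a x).left) = Set.univ := fun x =>
      AlgGrpLib.CosetOrbit.dense_orb i a x ⊤ trivial fun y _ =>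
        AlgGrpLib.OpenOrbit.exists_of_mem_range a x y (hs.1 _)
    obtain ⟨h, hh⟩ := AlgGrpLib.CosetOrbit.exists_translate i a (t ≫ fst X X) (t ≫ snd X X) (key _) (key _)
    refine ⟨(CartesianMonoidalCategory.lift h (t ≫ fst X X)).left (IsLocalRing.closedPoint K), ?_⟩
    rw [← Scheme.Hom.comp_apply, ← Over.comp_left, comp_lift, lift_snd, hact, hh, lift_comp_fst_snd]
  · refine ⟨fun hd => ⟨?_⟩, fun hd => ⟨Dense.mono hsub hd.denseRange⟩⟩
    haveI := hd
    obtain ⟨o, ho⟩ := AlgGrpLib.OpenOrbit.openOrbit_nonempty a hd
    have hη : genericPoint X.left ∈ AlgGrpLib.OpenOrbit.openOrbit a :=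
      (genericPoint_specializes o).mem_open (AlgGrpLib.OpenOrbit.openOrbit a).isOpen ho
    obtain ⟨K, _, _, _, x, hx⟩ := AlgGrpLib.OpenOrbit.exists_point_over' X (genericPoint X.left)
    have hdense : closure (Set.range (AlgGrpLib.CosetOrbit.orb i a x).left) = Set.univ :=
      AlgGrpLib.CosetOrbit.dense_orb i a x (AlgGrpLib.OpenOrbit.openOrbit a) (by rw [hx]; exact hη) fun y hy =>
        AlgGrpLib.OpenOrbit.exists_translate a x y (by rw [hx]; exact hη) hy
    haveI : IrreducibleSpace ↥(X ⊗ X).left := AlgGrpLib.OpenOrbit.irreducibleSpace_tensor X X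
    obtain ⟨q, hq⟩ : ∃ q, (x ▷ X).left q = genericPoint ↥(X ⊗ X).left := by
      have hgen : (fst X X).left (genericPoint ↥(X ⊗ X).left) = genericPoint X.left := by
        haveI := AlgGrpLib.OpenOrbit.universallyOpen_fst X X
        obtain ⟨w, hw, -⟩ := Scheme.Pullback.exists_preimage_pullback (f := X.hom) (g := X.hom)
          (genericPoint X.left) (genericPoint X.left) rfl
        exact ((genericPoint_specializes _).antisymm
          (hw ▸ (genericPoint_specializes (α := ↥(X ⊗ X).left) w).map (fst X X).left.continuous)).eq.symm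
      obtain ⟨q, -, hq⟩ := Scheme.exists_preimage_of_isPullback
        (AlgGrpLib.OpenOrbit.isPullback_whiskerRight_left x X) (IsLocalRing.closedPoint K)
        (genericPoint ↥(X ⊗ X).left) (hx.trans hgen.symm)
      exact ⟨q, hq⟩
    have hmap : AlgGrpLib.CosetOrbit.orb i a x ≫ (x ▷ X) = CartesianMonoidalCategory.lift (snd _ G0) (fst _ G0 ≫ x) ≫
        CartesianMonoidalCategory.lift (CartesianMonoidalCategory.snd G0 X) a0.act := by
      apply CartesianMonoidalCategory.hom_ext
      · rw [Category.assoc, whiskerRight_fst, ← Category.assoc, AlgGrpLib.CosetOrbit.orb_fst, Category.assoc,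
          lift_fst, lift_snd]
      · rw [Category.assoc, whiskerRight_snd, AlgGrpLib.CosetOrbit.orb_snd, Category.assoc, lift_snd, hact]
    have hmem : genericPoint ↥(X ⊗ X).left ∈
        closure (Set.range (CartesianMonoidalCategory.lift (CartesianMonoidalCategory.snd G0 X) a0.act).left) := by
      rw [← hq]
      refine closure_mono ?_ (image_closure_subset_closure_image (x ▷ X).left.continuous
        ⟨q, hdense.ge (Set.mem_univ q), rfl⟩)
      rintro _ ⟨_, ⟨w, rfl⟩, rfl⟩
      rw [← AlgGrpLib.CosetOrbit.apply_comp, hmap, AlgGrpLib.CosetOrbit.apply_comp]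
      exact ⟨_, rfl⟩
    refine dense_iff_closure_eq.2 (Set.eq_univ_of_univ_subset ?_)
    rw [← genericPoint_closure]
    exact isClosed_closure.closure_subset_iff.2 (Set.singleton_subset_iff.2 hmem)

end Groth.Agent.S14640
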