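import Groth.Statements.S14643
import Groth.Agent.AlgGrpLib.SubgroupCalc
import Groth.Agent.AlgGrpLib.OpenOrbit
import Groth.Agent.AlgGrpLib.ActionShear
import Groth.Prelude.Def_Magnet2
set_option backward.isDefEq.respectTransparency.types false

set_option autoImplicit false
universe u
open CategoryTheory MonoidalCategory CartesianMonoidalCategory MonObj GrpObj AlgebraicGeometry CategoryTheory.Limits
open AlgGrp

namespace Groth.Agent.S14643

/-- Over a field k, let G be a smooth k-group scheme of finite type acting on a variety X (a separated,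
geometrically integral k-scheme of finite type). Let n : N → G be the kernel of the action: a closed
subgroup scheme such that, for every k-scheme T, a T-point of G factors through N exactly when it
acts as the identity on all points of X over T-schemes. Let π : G → Q be a homomorphism onto a
k-group scheme of finite type which is flat and surjective with kernel N (the quotient G/N). Then
there is a unique action of Q on X inducing the given one along π; this action of Q is faithful (a
T-point of Q acting as the identity on all points of X over T-schemes is the unit); and X is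
homogeneous under G (surjective graph morphism (g, x) ↦ (x, g·x)) if and only if it is homogeneous
under Q, and almost homogeneous under G (dominant graph morphism) if and only if it is almost
homogeneous under Q. -/
theorem result (k : Type u) [Field k]
    (G N Q X : Over (Spec (CommRingCat.of k))) [GrpObj G] [Smooth G.hom] [QuasiCompact G.hom]
    [IsSeparated X.hom] [LocallyOfFiniteType X.hom] [QuasiCompact X.hom] [GeometricallyIntegral X.hom] (a : AlgGrp.Action G X)
    [GrpObj N] (n : N ⟶ G) [IsMonHom n] [IsClosedImmersion n.left]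
    (hN : ∀ (T : Over (Spec (CommRingCat.of k))) (g : T ⟶ G),
      (∃ m : T ⟶ N, m ≫ n = g) ↔
        ∀ (T' : Over (Spec (CommRingCat.of k))) (s : T' ⟶ T) (x : T' ⟶ X), CartesianMonoidalCategory.lift (s ≫ g) x ≫ a.act = x)
    [GrpObj Q] [LocallyOfFiniteType Q.hom] [QuasiCompact Q.hom] (π : G ⟶ Q) [IsMonHom π] [Flat π.left] [Surjective π.left]
    (hker : AlgGrp.IsKernel n π) :
    (∃! b : AlgGrp.Action Q X, (π ▷ X) ≫ b.act = a.act) ∧
    ∀ b : AlgGrp.Action Q X, (π ▷ X) ≫ b.act = a.act →
      (∀ (T : Over (Spec (CommRingCat.of k))) (q : T ⟶ Q),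
        (∀ (T' : Over (Spec (CommRingCat.of k))) (s : T' ⟶ T) (x : T' ⟶ X), CartesianMonoidalCategory.lift (s ≫ q) x ≫ b.act = x) → q = 1) ∧
      (Surjective (CartesianMonoidalCategory.lift (CartesianMonoidalCategory.snd G X) a.act).left ↔
        Surjective (CartesianMonoidalCategory.lift (CartesianMonoidalCategory.snd Q X) b.act).left) ∧
      (IsDominant (CartesianMonoidalCategory.lift (CartesianMonoidalCategory.snd G X) a.act).left ↔
        IsDominant (CartesianMonoidalCategory.lift (CartesianMonoidalCategory.snd Q X) b.act).left) := by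
  haveI : QuasiCompact π.left := AlgGrpLib.quasiCompact_left π
  have hwr := AlgGrpLib.OpenOrbit.isPullback_whiskerRight_left π X
  haveI : Surjective (π ▷ X).left := MorphismProperty.of_isPullback (P := @Surjective) hwr ‹_›
  haveI : Flat (π ▷ X).left := MorphismProperty.of_isPullback (P := @Flat) hwr ‹_›
  haveI : QuasiCompact (π ▷ X).left := MorphismProperty.of_isPullback (P := @QuasiCompact) hwr ‹_›
  haveI : Epi (π ▷ X).left := Flat.epi_of_flat_of_surjective _
  have hcancel : ∀ {T T' Z : Over (Spec (CommRingCat.of k))} (c : T' ⟶ T) [Surjective c.left] [Flat c.left]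
      [QuasiCompact c.left] (u v : T ⟶ Z), c ≫ u = c ≫ v → u = v := fun c _ _ _ u v h => by
    haveI : Epi c.left := Flat.epi_of_flat_of_surjective c.left
    exact Over.OverMorphism.ext ((cancel_epi c.left).1 (congrArg CommaMorphism.left h))
  have hpts : ∀ b₀ : Q ⊗ X ⟶ X, (π ▷ X) ≫ b₀ = a.act → ∀ {T : Over (Spec (CommRingCat.of k))} (g : T ⟶ G) (x : T ⟶ X),
      CartesianMonoidalCategory.lift (g ≫ π) x ≫ b₀ = CartesianMonoidalCategory.lift g x ≫ a.act := fun b₀ hb T g x => by
    rw [← hb, lift_whiskerRight_assoc]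
  obtain ⟨b₀, hb₀⟩ : ∃ b₀ : Q ⊗ X ⟶ X, (π ▷ X) ≫ b₀ = a.act := by
    haveI : EffectiveEpi (π ▷ X).left := inferInstance
    let d := EffectiveEpi.desc (π ▷ X).left a.act.left (fun {W} p q hpq => by
      let W' : Over (Spec (CommRingCat.of k)) := Over.mk (p ≫ (G ⊗ X).hom)
      let p' : W' ⟶ G ⊗ X := Over.homMk p rfl
      let q' : W' ⟶ G ⊗ X := Over.homMk q (by
        show q ≫ (G ⊗ X).hom = p ≫ (G ⊗ X).hom
        rw [← Over.w (π ▷ X), ← Category.assoc, ← hpq, Category.assoc])
      have h : p' ≫ (π ▷ X) = q' ≫ (π ▷ X) := Over.OverMorphism.ext hpq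
      have h1 : (p' ≫ fst G X) ≫ π = (q' ≫ fst G X) ≫ π := by
        have := congrArg (· ≫ fst Q X) h
        simpa only [Category.assoc, whiskerRight_fst] using this
      have h2 : p' ≫ snd G X = q' ≫ snd G X := by
        have := congrArg (· ≫ snd Q X) h
        simpa only [Category.assoc, whiskerRight_snd] using this
      obtain ⟨m, hm⟩ := AlgGrpLib.exists_lift_kernel hker (g := (q' ≫ fst G X)⁻¹ * (p' ≫ fst G X)) (by
        rw [MonObj.mul_comp, GrpObj.inv_comp, h1, inv_mul_cancel])
      have key := (hN _ _).1 ⟨m, hm⟩ W' (𝟙 _) (q' ≫ snd G X)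
      rw [Category.id_comp] at key
      have : p' ≫ a.act = q' ≫ a.act := by
        conv_rhs => rw [← lift_comp_fst_snd q', ← key, AlgGrpLib.act_act, mul_inv_cancel_left]
        conv_lhs => rw [← lift_comp_fst_snd p', h2]
      exact congrArg CommaMorphism.left this)
    have hd : (π ▷ X).left ≫ d = a.act.left := EffectiveEpi.fac _ _ _
    exact ⟨Over.homMk d (by rw [← cancel_epi (π ▷ X).left, ← Category.assoc, hd, Over.w a.act, Over.w (π ▷ X)]),
      Over.OverMorphism.ext hd⟩
  let bM : Magnet.MonAct Q X := Magnet.MonAct.mk' b₀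
    (fun T x => by rw [← MonObj.one_comp π, hpts b₀ hb₀, AlgGrpLib.one_act'])
    (fun T g h x => by
      obtain ⟨T₁, c₁, g', hs, hf, hq, hg'⟩ := AlgGrpLib.exists_lift_cover π g
      haveI := hs; haveI := hf; haveI := hq
      obtain ⟨T₂, c₂, h', hs', hf', hq', hh'⟩ := AlgGrpLib.exists_lift_cover π (c₁ ≫ h)
      haveI := hs'; haveI := hf'; haveI := hq'
      refine hcancel c₁ _ _ (hcancel c₂ _ _ ?_)
      have hg'' : c₂ ≫ c₁ ≫ g = (c₂ ≫ g') ≫ π := by rw [Category.assoc, hg']
      simp only [comp_lift_assoc, MonObj.comp_mul, hg'', ← hh', ← MonObj.mul_comp, hpts b₀ hb₀, AlgGrpLib.act_act])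
  refine ⟨⟨bM.toAction, hb₀, fun b' hb' => ?_⟩, fun b hb => ?_⟩
  · obtain ⟨b'', _, _⟩ := b'
    obtain rfl : b'' = b₀ := hcancel (π ▷ X) _ _ (hb'.trans hb₀.symm)
    rfl
  have hgr : (π ▷ X) ≫ CartesianMonoidalCategory.lift (CartesianMonoidalCategory.snd Q X) b.act =
      CartesianMonoidalCategory.lift (CartesianMonoidalCategory.snd G X) a.act := by
    rw [comp_lift, whiskerRight_snd, hb]
  have hrange : Set.range (CartesianMonoidalCategory.lift (CartesianMonoidalCategory.snd G X) a.act).left =
      Set.range (CartesianMonoidalCategory.lift (CartesianMonoidalCategory.snd Q X) b.act).left := by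
    rw [← hgr, Over.comp_left, Scheme.Hom.comp_base, TopCat.coe_comp, Set.range_comp,
      Set.range_eq_univ.2 (π ▷ X).left.surjective, Set.image_univ]
  refine ⟨fun T q hq => ?_, ?_, ?_⟩
  · obtain ⟨T₁, c, g, hs, hf, hc, hg⟩ := AlgGrpLib.exists_lift_cover π q
    haveI := hs; haveI := hf; haveI := hc
    obtain ⟨m, hm⟩ := (hN T₁ g).2 fun T' s x => by
      rw [← hpts b.act hb, Category.assoc, hg, ← Category.assoc, hq]
    refine hcancel c _ _ ?_
    rw [← hg, ← hm, Category.assoc, AlgGrpLib.kernel_comp hker, MonObj.comp_one, MonObj.comp_one]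
  · rw [surjective_iff, surjective_iff, ← Set.range_eq_univ, ← Set.range_eq_univ, hrange]
  · rw [isDominant_iff, isDominant_iff, DenseRange, DenseRange, hrange]

end Groth.Agent.S14643
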