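import Groth.Statements.S14645
import Groth.Agent.AlgGrpLib.GeomPoints
import Groth.Agent.AlgGrpLib.ExactSeqBasics

set_option backward.isDefEq.respectTransparency.types false

set_option autoImplicit false
universe u
open CategoryTheory MonoidalCategory CartesianMonoidalCategory MonObj GrpObj AlgebraicGeometry CategoryTheory.Limits
open AlgGrp

namespace Groth.Agent.S14645

/-- Over a field k with algebraic closure K, let G be a smooth k-group scheme of finite type acting on a
variety X (a separated, geometrically integral k-scheme of finite type). Then X is homogeneous under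
G, i.e. the graph morphism G × X → X × X, (g, x) ↦ (x, g·x), is surjective, if and only if the
abstract group G(K) of K-points over k acts transitively on the set X(K): for all K-points x, y of X
there is a K-point g of G with g · x = y. -/
theorem result (k : Type u) [Field k]
    (G X : Over (Spec (CommRingCat.of k))) [GrpObj G] [Smooth G.hom] [QuasiCompact G.hom]
    [IsSeparated X.hom] [LocallyOfFiniteType X.hom] [QuasiCompact X.hom] [GeometricallyIntegral X.hom] (a : AlgGrp.Action G X)
    (K : Type u) [Field K] [Algebra k K] [IsAlgClosure k K] :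
    Surjective (CartesianMonoidalCategory.lift (CartesianMonoidalCategory.snd G X) a.act).left ↔
      ∀ x y : Over.mk (Spec.map (CommRingCat.ofHom (algebraMap k K))) ⟶ X, ∃ g : Over.mk (Spec.map (CommRingCat.ofHom (algebraMap k K))) ⟶ G, CartesianMonoidalCategory.lift g x ≫ a.act = y := by
  haveI : IsAlgClosed K := IsAlgClosure.isAlgClosed k
  let gr := CartesianMonoidalCategory.lift (CartesianMonoidalCategory.snd G X) a.act
  haveI : LocallyOfFiniteType (G ⊗ X).hom :=
    inferInstanceAs (LocallyOfFiniteType (Limits.pullback.fst G.hom X.hom ≫ G.hom))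
  haveI : LocallyOfFiniteType (X ⊗ X).hom :=
    inferInstanceAs (LocallyOfFiniteType (Limits.pullback.fst X.hom X.hom ≫ X.hom))
  haveI : QuasiCompact (G ⊗ X).hom := inferInstanceAs (QuasiCompact (Limits.pullback.fst G.hom X.hom ≫ G.hom))
  haveI : QuasiCompact (X ⊗ X).hom := inferInstanceAs (QuasiCompact (Limits.pullback.fst X.hom X.hom ≫ X.hom))
  haveI : IsSeparated (X ⊗ X).hom := inferInstanceAs (IsSeparated (Limits.pullback.fst X.hom X.hom ≫ X.hom))
  haveI : CompactSpace (X ⊗ X).left := QuasiCompact.compactSpace_of_compactSpace (X ⊗ X).hom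
  haveI : QuasiSeparatedSpace (X ⊗ X).left := quasiSeparatedSpace_of_quasiSeparated (X ⊗ X).hom
  haveI := Groth.Agent.AlgGrpLib.ExactSeqBasics.locallyOfFinitePresentation_left gr
  haveI : QuasiCompact gr.left := by
    haveI : QuasiCompact (gr.left ≫ (X ⊗ X).hom) := by rw [Over.w gr]; infer_instance
    exact QuasiCompact.of_comp gr.left (X ⊗ X).hom
  constructor
  · intro h x y
    haveI : Surjective gr.left := h
    obtain ⟨q, hq⟩ := Groth.Agent.AlgGrpLib.GeomPoints.exists_lift_point gr (CartesianMonoidalCategory.lift x y)
    refine ⟨q ≫ CartesianMonoidalCategory.fst G X, ?_⟩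
    have h1 := congrArg (· ≫ CartesianMonoidalCategory.fst X X) hq
    have h2 := congrArg (· ≫ CartesianMonoidalCategory.snd X X) hq
    simp only [gr, Category.assoc, lift_fst, lift_snd] at h1 h2
    rw [← h1, ← h2]
    congr 1
    apply CartesianMonoidalCategory.hom_ext <;> simp
  · intro h
    refine Groth.Agent.AlgGrpLib.GeomPoints.surjective_of_points (K := K) gr fun p => ?_
    obtain ⟨g, hg⟩ := h (p ≫ CartesianMonoidalCategory.fst X X) (p ≫ CartesianMonoidalCategory.snd X X)
    refine ⟨CartesianMonoidalCategory.lift g (p ≫ CartesianMonoidalCategory.fst X X), ?_⟩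
    apply CartesianMonoidalCategory.hom_ext <;> simp [gr, hg]

end Groth.Agent.S14645
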