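import Groth.Statements.S14646
import Groth.Agent.EssDimP1.Line
import Groth.Agent.NeronLib.ProjLine
import Groth.Agent.DimLib.ProjPrime
import Groth.Agent.Coherent.ProjSpaceBase
-- import your own Groth.Agent.* helpers here

set_option autoImplicit false
universe u
open CategoryTheory CategoryTheory.Limits AlgebraicGeometry
open AlgGrp

namespace Groth.Agent.S14646

open MvPolynomial in
theorem closedPt_eq_stdPt (K : Type u) [Field K] [IsAlgClosed K] (x : ↥(CohB1.ProjSpace 1 K))
    (hx : IsClosed ({x} : Set ↥(CohB1.ProjSpace 1 K)))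
    (hn : x ∉ Proj.basicOpen (CohB1.polyGrading 1 K) (MvPolynomial.X 1 : MvPolynomial (Fin (1 + 1)) K)) :
    x = Groth.Agent.EssDimP1.stdPt (RingHom.id K) 0 (IsLocalRing.closedPoint K) := by
  obtain ⟨i, v, hv, hz⟩ := Groth.Agent.EssDimP1.exists_pt (pointOfClosedPoint (CohB1.ProjSpace.toSpec 1 K) x hx)
    (pointOfClosedPoint_comp _ _ _)
  have hxz : BrSev28.pt 1 (RingHom.id K) i v hv (IsLocalRing.closedPoint K) = x := by
    rw [← hz]; exact pointOfClosedPoint_apply _ _ _ _
  have hmem : ∀ (w : Fin (1 + 1) → K) (hw : w 1 = 1),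
      BrSev28.pt 1 (RingHom.id K) 1 w hw (IsLocalRing.closedPoint K) ∈
        Proj.basicOpen (CohB1.polyGrading 1 K) (MvPolynomial.X 1 : MvPolynomial (Fin (1 + 1)) K) := by
    intro w hw
    rw [BrSev28.pt, ← Proj.opensRange_awayι (CohB1.polyGrading 1 K) (MvPolynomial.X 1)
      (Groth.Agent.ProjLib.X_mem_polyGrading 1 K 1) one_pos]
    exact ⟨_, rfl⟩
  by_cases h1 : v 1 = 0
  · have hi : i = 0 := by
      fin_cases i
      · rfl
      · exact absurd (h1.symm.trans hv) zero_ne_one
    subst hi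
    have hv' : v = Groth.Agent.EssDimP1.stdVec K 0 := by
      funext l
      fin_cases l
      · exact hv
      · exact h1
    subst hv'
    exact hxz.symm
  · exfalso
    refine hn ?_
    rw [← hxz, BrSev28.pt_change 1 (RingHom.id K) i 1 v hv (v 1)⁻¹ (inv_mul_cancel₀ h1)]
    exact hmem _ _

theorem eq_of_mem_closed {X : Type u} [TopologicalSpace X] [JacobsonSpace X] {S : Set X} (hS : IsClosed S)
    (x₀ : X) (hx₀ : IsClosed ({x₀} : Set X)) (h : ∀ x ∈ S, IsClosed ({x} : Set X) → x = x₀) :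
    ∀ x ∈ S, x = x₀ := by
  intro x hx
  have h1 : x ∈ closure (S ∩ closedPoints X) := by
    rw [JacobsonSpace.closure_inter_closedPoints_eq_closure hS.isLocallyClosed]
    exact subset_closure hx
  have h2 : S ∩ closedPoints X ⊆ {x₀} := fun y hy => h y hy.1 hy.2
  exact (hx₀.closure_eq ▸ closure_mono h2 h1 : x ∈ ({x₀} : Set X))

theorem compl_basicOpen (K : Type u) [Field K] [IsAlgClosed K] (x : ↥(CohB1.ProjSpace 1 K)) :
    x ∈ Proj.basicOpen (CohB1.polyGrading 1 K) (MvPolynomial.X 1 : MvPolynomial (Fin (1 + 1)) K) ↔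
      x ≠ Groth.Agent.EssDimP1.stdPt (RingHom.id K) 0 (IsLocalRing.closedPoint K) := by
  constructor
  · intro h e
    rw [e, Groth.Agent.EssDimP1.stdPt, ← Groth.Agent.EssDimP1.pointAt_X (RingHom.id K)
      (Groth.Agent.EssDimP1.stdVec K 0) 0 (Groth.Agent.EssDimP1.stdVec_self K 0)] at h
    exact Groth.Agent.EssDimP1.pointAt_notMem (RingHom.id K) (Groth.Agent.EssDimP1.stdVec K 0) _ _
      (Groth.Agent.ProjLib.X_mem_polyGrading 1 K 1) one_pos _ (by simp [Groth.Agent.EssDimP1.stdVec]) _ h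
  · intro h
    haveI := (Groth.Agent.DimLib.PN.finiteType_toSpec 1 K).1
    haveI : JacobsonSpace ↥(CohB1.ProjSpace 1 K) :=
      LocallyOfFiniteType.jacobsonSpace (CohB1.ProjSpace.toSpec 1 K)
    by_contra hn
    refine h (eq_of_mem_closed (X := ↥(CohB1.ProjSpace 1 K)) (S := {y : ↥(CohB1.ProjSpace 1 K) | y ∉ Proj.basicOpen (CohB1.polyGrading 1 K)
      (MvPolynomial.X 1 : MvPolynomial (Fin (1 + 1)) K)}) ?_ _ ?_ (fun y hy hc => closedPt_eq_stdPt K y hc hy) x hn)
    · exact (Proj.basicOpen (CohB1.polyGrading 1 K) _).isOpen.isClosed_compl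
    · have hs : Groth.Agent.EssDimP1.stdPt (RingHom.id K) (0 : Fin (1 + 1)) ≫ CohB1.ProjSpace.toSpec 1 K = 𝟙 _ := by
        rw [Groth.Agent.EssDimP1.stdPt_toSpec, CommRingCat.ofHom_id, Spec.map_id]
      exact ((pointEquivClosedPoint (CohB1.ProjSpace.toSpec 1 K)) ⟨_, hs⟩).2

theorem hom_to_field_ext {F E : Type u} [Field F] [Field E] [Algebra F E] [IsPurelyInseparable F E] {K : Type u}
    [Field K] (a b : E →+* K) (h : a.comp (algebraMap F E) = b.comp (algebraMap F E)) : a = b := by
  letI : Algebra F K := (a.comp (algebraMap F E)).toAlgebra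
  let a' : E →ₐ[F] K := { a with commutes' := fun r => rfl }
  let b' : E →ₐ[F] K := { b with commutes' := fun r => (RingHom.congr_fun h r).symm }
  have : a' = b' := Subsingleton.elim _ _
  exact RingHom.ext fun e => AlgHom.congr_fun this e

theorem pt_unique {Z Y : Scheme.{u}} (s : Z ⟶ Y) (P : Z)
    (hpi : letI := (s.residueFieldMap P).hom.toAlgebra
      IsPurelyInseparable ↑(Y.residueField (s P)) ↑(Z.residueField P))
    (K : Type u) [Field K] (a b : Spec (CommRingCat.of K) ⟶ Z)
    (ha : a (IsLocalRing.closedPoint K) = P) (hb : b (IsLocalRing.closedPoint K) = P) (h : a ≫ s = b ≫ s) :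
    a = b := by
  have hfac : ∀ c : Spec (CommRingCat.of K) ⟶ Z, c (IsLocalRing.closedPoint K) = P →
      ∃ φ : Z.residueField P ⟶ CommRingCat.of K, c = Spec.map φ ≫ Z.fromSpecResidueField P := by
    intro c hc
    obtain ⟨⟨x, φ⟩, rfl⟩ := (Scheme.SpecToEquivOfField K Z).symm.surjective c
    have : x = P := by
      rw [← hc]
      exact (Scheme.fromSpecResidueField_apply x _).symm
    subst this
    exact ⟨φ, rfl⟩
  obtain ⟨φ, rfl⟩ := hfac a ha
  obtain ⟨ψ, rfl⟩ := hfac b hb
  rw [Category.assoc, Category.assoc, ← Scheme.Hom.SpecMap_residueFieldMap_fromSpecResidueField,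
    ← Spec.map_comp_assoc, ← Spec.map_comp_assoc, cancel_mono, Spec.map_inj] at h
  letI := (s.residueFieldMap P).hom.toAlgebra
  haveI : IsPurelyInseparable ↑(Y.residueField (s P)) ↑(Z.residueField P) := hpi
  rw [show φ = ψ from CommRingCat.hom_ext (hom_to_field_ext φ.hom ψ.hom (congrArg CommRingCat.Hom.hom h))]

open MorphismProperty
/-- Over a field k, let P be a closed point of the projective line P¹_k whose residue field κ(P) is
purely inseparable over k, and let C = P¹_k ∖ {P} be its open complement. Then C is a form of the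
affine line: for an algebraic closure K of k, the base change C ×_k Spec K is isomorphic over K to
Spec K[T]. (The published statement assumes moreover that k is imperfect and [κ(P) : k] ≥ 3; this
row assumes only that κ(P) is purely inseparable over k.) -/
theorem result (k : Type u) [Field k]
    (P : ↥(CohB1.ProjSpace 1 k)) (hP : IsClosed ({P} : Set ↥(CohB1.ProjSpace 1 k)))
    (hpi : letI := ((CohB1.ProjSpace.toSpec 1 k).residueFieldMap P).hom.toAlgebra
      IsPurelyInseparable ↑((Spec (CommRingCat.of k)).residueField ((CohB1.ProjSpace.toSpec 1 k) P)) ↑((CohB1.ProjSpace 1 k).residueField P))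
    (K : Type u) [Field K] [Algebra k K] [IsAlgClosure k K] :
    ∃ e : pullback (@Scheme.Opens.ι (CohB1.ProjSpace 1 k) ⟨{P}ᶜ, hP.isOpen_compl⟩ ≫ CohB1.ProjSpace.toSpec 1 k) (Spec.map (CommRingCat.ofHom (algebraMap k K))) ≅
        Spec (CommRingCat.of (Polynomial K)),
      e.hom ≫ Spec.map (CommRingCat.ofHom (algebraMap K (Polynomial K))) = pullback.snd _ _ := by
  haveI : IsAlgClosed K := IsAlgClosure.isAlgClosed k
  set s := CohB1.ProjSpace.toSpec 1 k
  set f := Spec.map (CommRingCat.ofHom (algebraMap k K))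
  set U : (CohB1.ProjSpace 1 k).Opens := ⟨{P}ᶜ, hP.isOpen_compl⟩
  let Q := CohB1.ProjSpace 1 K
  let π : Q ⟶ CohB1.ProjSpace 1 k :=
    Proj.map (Groth.Agent.Coherent.polyGradedMap 1 k K) (Groth.Agent.Coherent.polyGradedMap_irrelevant 1 k K)
  let t : Q ⟶ Spec (CommRingCat.of K) := CohB1.ProjSpace.toSpec 1 K
  have hPB : IsPullback π t s f := Groth.Agent.Coherent.isPullback_projSpace 1 k K
  haveI : LocallyOfFiniteType t := (Groth.Agent.DimLib.PN.finiteType_toSpec 1 K).1
  haveI : JacobsonSpace ↥Q := LocallyOfFiniteType.jacobsonSpace t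
  haveI : Surjective f := ⟨fun y => ⟨IsLocalRing.closedPoint K, Subsingleton.elim (α := PrimeSpectrum k) _ _⟩⟩
  haveI : Surjective π := MorphismProperty.of_isPullback hPB.flip ‹Surjective f›
  obtain ⟨x₁, hx₁⟩ := π.surjective P
  have hS : IsClosed (π ⁻¹' {P}) := hP.preimage π.continuous
  obtain ⟨x₀, hx₀P, hx₀⟩ : ∃ x ∈ π ⁻¹' {P}, IsClosed ({x} : Set Q) := by
    have h1 : x₁ ∈ closure (π ⁻¹' {P} ∩ closedPoints Q) := by
      rw [JacobsonSpace.closure_inter_closedPoints_eq_closure hS.isLocallyClosed]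
      exact subset_closure hx₁
    obtain ⟨y, hy⟩ := closure_nonempty_iff.1 ⟨_, h1⟩
    exact ⟨y, hy.1, hy.2⟩
  have hclosed : ∀ x ∈ π ⁻¹' {P}, IsClosed ({x} : Set Q) → x = x₀ := by
    intro x hxP hx
    have e1 := pointOfClosedPoint_apply t x hx (IsLocalRing.closedPoint K)
    have e0 := pointOfClosedPoint_apply t x₀ hx₀ (IsLocalRing.closedPoint K)
    have he : pointOfClosedPoint t x hx = pointOfClosedPoint t x₀ hx₀ := by
      refine hPB.hom_ext (pt_unique s P hpi K _ _ ?_ ?_ ?_) ?_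
      · exact (congrArg π e1).trans hxP
      · exact (congrArg π e0).trans hx₀P
      · rw [Category.assoc, Category.assoc, hPB.w, ← Category.assoc, pointOfClosedPoint_comp,
          ← Category.assoc, pointOfClosedPoint_comp]
      · rw [pointOfClosedPoint_comp, pointOfClosedPoint_comp]
    rw [← e1, he, e0]
  have hfib : ∀ x, π x = P ↔ x = x₀ :=
    fun x => ⟨fun h => eq_of_mem_closed hS x₀ hx₀ hclosed x h, fun h => h ▸ hx₀P⟩
  obtain ⟨α, hα, hz⟩ := Groth.Agent.EssDimP1.exists_aut_std_one (pointOfClosedPoint t x₀ hx₀)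
    (pointOfClosedPoint_comp _ _ _)
  have hα0 : α.hom x₀ = Groth.Agent.EssDimP1.stdPt (RingHom.id K) 0 (IsLocalRing.closedPoint K) := by
    rw [← hz]
    exact (congrArg α.hom (pointOfClosedPoint_apply t x₀ hx₀ (IsLocalRing.closedPoint K))).symm
  let j : pullback (U.ι ≫ s) f ⟶ Q := hPB.lift (pullback.fst _ _ ≫ U.ι) (pullback.snd _ _)
    (by rw [Category.assoc]; exact pullback.condition)
  have hj : IsPullback (pullback.fst (U.ι ≫ s) f) j U.ι π :=
    IsPullback.of_bot (by rw [show j ≫ t = pullback.snd _ _ from hPB.lift_snd _ _ _]; exact IsPullback.of_hasPullback _ _)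
      (hPB.lift_fst _ _ _).symm hPB
  haveI : IsOpenImmersion j := MorphismProperty.of_isPullback hj inferInstance
  haveI : IsOpenImmersion (j ≫ α.hom) := inferInstance
  have hrange : ∀ y, y ∈ Set.range j ↔ π y ∈ U := by
    intro y
    rw [← hj.isoPullback_hom_snd, Scheme.Hom.comp_base, TopCat.coe_comp,
      Set.range_comp, Set.range_eq_univ.2 hj.isoPullback.hom.surjective, Set.image_univ,
      Scheme.Pullback.range_snd, Scheme.Opens.range_ι]
    rfl
  let c := Groth.Agent.NeronLib.chart K 1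
  have hcr : ∀ y, y ∈ Set.range c ↔
      y ∈ Proj.basicOpen (CohB1.polyGrading 1 K) (MvPolynomial.X 1 : MvPolynomial (Fin (1 + 1)) K) := by
    intro y
    haveI : IsIso (CommRingCat.ofHom (Groth.Agent.NeronLib.chartEquiv K 1).toRingHom) :=
      (ConcreteCategory.isIso_iff_bijective _).mpr (Groth.Agent.NeronLib.chartEquiv K 1).bijective
    rw [← Proj.opensRange_awayι (CohB1.polyGrading 1 K) (MvPolynomial.X 1)
      (Groth.Agent.ProjLib.X_mem_polyGrading 1 K 1) one_pos]
    constructor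
    · rintro ⟨a, rfl⟩; exact ⟨_, rfl⟩
    · rintro ⟨a, rfl⟩
      obtain ⟨b, rfl⟩ := (Spec.map (CommRingCat.ofHom (Groth.Agent.NeronLib.chartEquiv K 1).toRingHom)).surjective a
      exact ⟨b, rfl⟩
  have hR : Set.range (j ≫ α.hom) = Set.range c := by
    ext y
    obtain ⟨x, rfl⟩ := α.hom.surjective y
    rw [hcr, compl_basicOpen, ← hα0, Scheme.Hom.comp_base, TopCat.coe_comp, Set.range_comp,
      α.hom.isOpenEmbedding.injective.mem_set_image, α.hom.isOpenEmbedding.injective.ne_iff, hrange]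
    exact not_congr (hfib x)
  let E := IsOpenImmersion.isoOfRangeEq (j ≫ α.hom) c hR
  let e₁ : CommRingCat.of (Polynomial K) ≅ CommRingCat.of (MvPolynomial PUnit.{u + 1} K) :=
    (MvPolynomial.pUnitAlgEquiv K).symm.toRingEquiv.toCommRingCatIso
  refine ⟨E ≪≫ Scheme.Spec.mapIso e₁.op, ?_⟩
  have hE : E.hom ≫ c = j ≫ α.hom := IsOpenImmersion.isoOfRangeEq_hom_fac _ _ _
  have hl : E.hom ≫ Groth.Agent.NeronLib.lineMap K = pullback.snd _ _ := by
    rw [← Groth.Agent.NeronLib.chart_toSpec K 1, ← Category.assoc, hE, Category.assoc, hα]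
    exact hPB.lift_snd _ _ _
  refine (Category.assoc _ _ _).trans (Eq.trans (congrArg (E.hom ≫ ·) ?_) hl)
  show Spec.map e₁.hom ≫ _ = _
  rw [← Spec.map_comp]
  refine congrArg Spec.map (CommRingCat.hom_ext (RingHom.ext fun r => ?_))
  exact (MvPolynomial.pUnitAlgEquiv K).symm.commutes r

end Groth.Agent.S14646
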