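import Groth.Statements.S14647
import Groth.Agent.S14646
import Groth.Agent.CurveLib.ProjLine
-- import your own Groth.Agent.* helpers here

set_option autoImplicit false
universe u
open CategoryTheory CategoryTheory.Limits AlgebraicGeometry
open AlgGrp

namespace Groth.Agent.S14647

theorem cons_zero {S : Type u} [One S] (a : S) : (![1, a] : Fin (1 + 1) → S) 0 = 1 := rfl

theorem cons_one {S : Type u} [One S] (a : S) : (![a, 1] : Fin (1 + 1) → S) 1 = 1 := rfl

theorem pt_closed {K : Type u} [Field K] {S : Type u} [CommRing S] [IsLocalRing S] (ρ : S →+* K) [IsLocalHom ρ] :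
    Spec.map (CommRingCat.ofHom ρ) (IsLocalRing.closedPoint K) = IsLocalRing.closedPoint S :=
  IsLocalRing.comap_closedPoint ρ

set_option backward.isDefEq.respectTransparency false

theorem factor_key {k : Type u} [Field k] {E : Type u} [Field E] [Algebra k E] [IsPurelyInseparable k E]
    (hdeg : 3 ≤ Module.finrank k E) {K : Type u} [Field K] (ev : Polynomial k →ₐ[k] E)
    (hev : Function.Surjective ev) {A : Type u} [CommRing A] [Nontrivial A] (ρ : A →+* K) (σ : K →+* A)
    (hρσ : ∀ x, ρ (σ x) = x) (hcube : ∀ x, ρ x = 0 → x ^ 3 = 0) (j : k →+* K) (φ : E →+* K)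
    (h : Polynomial k →+* A) (hC : ∀ r, h (Polynomial.C r) = σ (j r))
    (hred : ρ.comp h = φ.comp ev.toRingHom) :
    ∃ h' : E →+* A, h = h'.comp ev.toRingHom := by
  classical
  set e := ev Polynomial.X
  have hevp : ∀ p, ev p = Polynomial.aeval e p := fun p => by
    rw [Polynomial.aeval_algHom_apply, Polynomial.aeval_X_left_apply]
  haveI : Algebra.IsIntegral k E := inferInstance
  have he : IsIntegral k e := Algebra.IsIntegral.isIntegral e
  have htop : IntermediateField.adjoin k {e} = ⊤ := by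
    rw [eq_top_iff]
    rintro y -
    obtain ⟨p, rfl⟩ := hev y
    rw [hevp]
    exact IntermediateField.algebra_adjoin_le_adjoin k {e} (Polynomial.aeval_mem_adjoin_singleton k e)
  have hfr : Module.finrank k E = (minpoly k e).natDegree := by
    rw [← IntermediateField.adjoin.finrank he, htop, IntermediateField.finrank_top']
  let p := ringExpChar k
  haveI : ExpChar k p := ringExpChar.expChar k
  haveI : ExpChar A p := expChar_of_injective_ringHom (σ.comp j).injective p
  obtain ⟨n, c, hg⟩ := IsPurelyInseparable.minpoly_eq_X_pow_sub_C k p e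
  have hn : 3 ≤ p ^ n := by
    rwa [hfr, hg, Polynomial.natDegree_X_pow_sub_C] at hdeg
  have hce : φ e ^ p ^ n = j c := by
    have h0 : e ^ p ^ n = algebraMap k E c := by
      have := minpoly.aeval k e
      rwa [hg, map_sub, map_pow, Polynomial.aeval_X, Polynomial.aeval_C, sub_eq_zero] at this
    rw [← map_pow, h0]
    have h1 := RingHom.congr_fun hred (Polynomial.C c)
    simp only [RingHom.comp_apply, hC, hρσ, AlgHom.toRingHom_eq_coe, RingHom.coe_coe] at h1
    rw [← Polynomial.algebraMap_eq, AlgHom.commutes] at h1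
    exact h1.symm
  have ha : (h Polynomial.X) ^ p ^ n = σ (j c) := by
    have hε : ρ (h Polynomial.X - σ (φ e)) = 0 := by
      rw [map_sub, hρσ]
      exact sub_eq_zero.2 (RingHom.congr_fun hred Polynomial.X)
    rw [← sub_add_cancel (h Polynomial.X) (σ (φ e)), add_pow_expChar_pow, ← map_pow, hce,
      pow_eq_zero_of_le hn (hcube _ hε), zero_add]
  have hker : RingHom.ker ev.toRingHom ≤ RingHom.ker h := by
    intro f hf
    have hd : minpoly k e ∣ f := minpoly.dvd k e (by rw [← hevp]; exact hf)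
    obtain ⟨r, rfl⟩ := hd
    rw [RingHom.mem_ker, map_mul, hg, map_sub, map_pow, ha, hC, sub_self, zero_mul]
  refine ⟨RingHom.liftOfSurjective ev.toRingHom hev ⟨h, hker⟩, ?_⟩
  exact RingHom.ext fun x => (RingHom.liftOfRightInverse_comp_apply ev.toRingHom _
    (Function.rightInverse_surjInv hev) ⟨h, hker⟩ x).symm

noncomputable def polyPt (K : Type u) [Field K] : Spec (CommRingCat.of (Polynomial K)) ⟶ CohB1.ProjSpace 1 K :=
  BrSev28.pt 1 (Polynomial.C : K →+* Polynomial K) 1 ![Polynomial.X, 1] (cons_one _)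

theorem pt_congr {K : Type u} [Field K] {S : Type u} [CommRing S] {q q' : K →+* S} {i : Fin (1 + 1)}
    {v v' : Fin (1 + 1) → S} (hv : v i = 1) (hv' : v' i = 1) (h1 : q = q') (h2 : v = v') :
    BrSev28.pt 1 q i v hv = BrSev28.pt 1 q' i v' hv' := by subst h1 h2; rfl

theorem pt_inj {K : Type u} [Field K] {S : Type u} [CommRing S] {q q' : K →+* S} {i : Fin (1 + 1)}
    {v v' : Fin (1 + 1) → S} {hv : v i = 1} {hv' : v' i = 1}
    (h : BrSev28.pt 1 q i v hv = BrSev28.pt 1 q' i v' hv') : v = v' := by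
  let ι : Spec (CommRingCat.of (HomogeneousLocalization.Away (CohB1.polyGrading 1 K)
      (MvPolynomial.X i : MvPolynomial (Fin (1 + 1)) K))) ⟶ CohB1.ProjSpace 1 K :=
    Proj.awayι (CohB1.polyGrading 1 K) (MvPolynomial.X i) (Groth.Agent.ProjLib.X_mem_polyGrading 1 K i) one_pos
  haveI : IsOpenImmersion ι := inferInstanceAs (IsOpenImmersion (Proj.awayι _ _ _ _))
  have h' : Spec.map (CommRingCat.ofHom (BrSev28.exists_away_hom 1 q i v hv).choose) ≫ ι =
      Spec.map (CommRingCat.ofHom (BrSev28.exists_away_hom 1 q' i v' hv').choose) ≫ ι := h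
  rw [cancel_mono, Spec.map_inj] at h'
  funext l
  rw [← (BrSev28.exists_away_hom 1 q i v hv).choose_spec.2 l,
    ← (BrSev28.exists_away_hom 1 q' i v' hv').choose_spec.2 l]
  exact RingHom.congr_fun (congrArg CommRingCat.Hom.hom h') _

theorem isOpenImmersion_polyPt (K : Type u) [Field K] : IsOpenImmersion (polyPt K) ∧
    Set.range (polyPt K) = ((Proj.basicOpen (CohB1.polyGrading 1 K)
      (MvPolynomial.X 1 : MvPolynomial (Fin (1 + 1)) K)).carrier : Set ↥(CohB1.ProjSpace 1 K)) := by
  set a := (BrSev28.exists_away_hom 1 (Polynomial.C : K →+* Polynomial K) 1 ![Polynomial.X, 1] (cons_one _)).choose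
  obtain ⟨ha0, ha1⟩ := (BrSev28.exists_away_hom 1 (Polynomial.C : K →+* Polynomial K) 1 ![Polynomial.X, 1] (cons_one _)).choose_spec
  let b := Polynomial.eval₂RingHom (Groth.Agent.ProjLib.toAway 1 K (MvPolynomial.X 1)) (BrSev28.coord 1 (K := K) 1 0)
  have hab : a.comp b = RingHom.id _ := by
    refine Polynomial.ringHom_ext (fun r => ?_) ?_
    · simp only [b, RingHom.comp_apply, Polynomial.coe_eval₂RingHom, Polynomial.eval₂_C, RingHom.id_apply]
      exact RingHom.congr_fun ha0 r
    · simp only [b, RingHom.comp_apply, Polynomial.coe_eval₂RingHom, Polynomial.eval₂_X, RingHom.id_apply]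
      exact ha1 0
  have hba : b.comp a = RingHom.id _ := by
    refine BrSev28.away_hom_ext 1 1 ?_ fun l => ?_
    · rw [RingHom.comp_assoc, ha0, RingHom.id_comp]
      exact RingHom.ext fun r => Polynomial.eval₂_C _ _
    · rw [RingHom.comp_apply, ha1, RingHom.id_apply]
      fin_cases l
      · exact Polynomial.eval₂_X _ _
      · exact (map_one b).trans (BrSev28.coord_self 1 1).symm
  haveI : IsIso (CommRingCat.ofHom a) :=
    ⟨CommRingCat.ofHom b, CommRingCat.hom_ext hba, CommRingCat.hom_ext hab⟩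
  let ι : Spec (CommRingCat.of (HomogeneousLocalization.Away (CohB1.polyGrading 1 K)
      (MvPolynomial.X 1 : MvPolynomial (Fin (1 + 1)) K))) ⟶ CohB1.ProjSpace 1 K :=
    Proj.awayι (CohB1.polyGrading 1 K) (MvPolynomial.X 1) (Groth.Agent.ProjLib.X_mem_polyGrading 1 K 1) one_pos
  haveI : IsOpenImmersion ι := inferInstanceAs (IsOpenImmersion (Proj.awayι _ _ _ _))
  refine ⟨inferInstanceAs (IsOpenImmersion (Spec.map (CommRingCat.ofHom a) ≫ ι)), ?_⟩
  show Set.range (Spec.map (CommRingCat.ofHom a) ≫ ι) = _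
  rw [Scheme.Hom.comp_base, TopCat.coe_comp, Set.range_comp,
    Set.range_eq_univ.2 (Spec.map (CommRingCat.ofHom a)).surjective, Set.image_univ]
  exact congrArg TopologicalSpace.Opens.carrier (Proj.opensRange_awayι (CohB1.polyGrading 1 K) (MvPolynomial.X 1)
    (Groth.Agent.ProjLib.X_mem_polyGrading 1 K 1) one_pos)

theorem SpecMap_polyPt {K : Type u} [Field K] {S : Type u} [CommRing S] (g : Polynomial K →+* S) :
    Spec.map (CommRingCat.ofHom g) ≫ polyPt K =
      BrSev28.pt 1 (g.comp Polynomial.C) 1 ![g Polynomial.X, 1] (cons_one _) := by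
  rw [polyPt, BrSev28.pt_comp]
  refine pt_congr _ _ rfl ?_
  funext l
  fin_cases l
  · rfl
  · exact map_one g

theorem affine_of_endo_comp {K : Type u} [Field K] (P₁ P₂ : Polynomial K) (h : P₂.comp P₁ = Polynomial.X) :
    ∃ a b : K, a ≠ 0 ∧ P₁ = Polynomial.C a * Polynomial.X + Polynomial.C b := by
  have hd := congrArg Polynomial.natDegree h
  rw [Polynomial.natDegree_comp, Polynomial.natDegree_X] at hd
  have h1 := Nat.eq_one_of_mul_eq_one_left hd
  obtain ⟨a, ha, b, hb⟩ := Polynomial.natDegree_eq_one.1 h1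
  exact ⟨a, b, ha, hb.symm⟩

open PowerSeries in
/-- An automorphism of the line fixing `(1:0)` to second order is trivial. -/
theorem theta_eq_id {K : Type u} [Field K] [IsAlgClosed K] (θ : CohB1.ProjSpace 1 K ≅ CohB1.ProjSpace 1 K)
    (hθ : θ.hom ≫ CohB1.ProjSpace.toSpec 1 K = CohB1.ProjSpace.toSpec 1 K)
    (h3 : ∀ (A : Type u) [CommRing A] [Nontrivial A] (q : K →+* A) (ρ : A →+* K) (ε : A),
        (∀ x, ρ (q x) = x) → (∀ x, ρ x = 0 → x ^ 3 = 0) → ρ ε = 0 →
        BrSev28.pt 1 q 0 ![1, ε] (cons_zero _) ≫ θ.hom = BrSev28.pt 1 q 0 ![1, ε] (cons_zero _)) :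
    θ.hom = 𝟙 _ := by
  let x₀ : ↥(CohB1.ProjSpace 1 K) := Groth.Agent.EssDimP1.stdPt (RingHom.id K) 0 (IsLocalRing.closedPoint K)
  have hfix0 : θ.hom x₀ = x₀ := by
    have h := h3 K (RingHom.id K) (RingHom.id K) 0 (fun x => rfl)
      (fun x hx => by simp only [RingHom.id_apply] at hx; rw [hx, zero_pow (by norm_num)]) rfl
    have e : BrSev28.pt 1 (RingHom.id K) 0 ![(1 : K), 0] (cons_zero _) = Groth.Agent.EssDimP1.stdPt (RingHom.id K) 0 := by
      refine pt_congr _ _ rfl ?_
      funext l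
      fin_cases l <;> simp [Groth.Agent.EssDimP1.stdVec]
    rw [e] at h
    exact congrArg (fun g => g (IsLocalRing.closedPoint K)) h
  obtain ⟨hcoi, hcr⟩ := isOpenImmersion_polyPt K
  haveI := hcoi
  have hmem : ∀ x, x ∈ Set.range (polyPt K) ↔ x ≠ x₀ := fun x => by
    rw [hcr]; exact Groth.Agent.S14646.compl_basicOpen K x
  have hfix1 : θ.inv x₀ = x₀ := by
    have := congrArg θ.inv hfix0
    rw [← Scheme.Hom.comp_apply, θ.hom_inv_id] at this
    exact this.symm
  have hlift : ∀ g : CohB1.ProjSpace 1 K ≅ CohB1.ProjSpace 1 K,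
      g.hom ≫ CohB1.ProjSpace.toSpec 1 K = CohB1.ProjSpace.toSpec 1 K → g.inv x₀ = x₀ →
      ∃ ψ : Polynomial K →+* Polynomial K, ψ.comp Polynomial.C = Polynomial.C ∧
        Spec.map (CommRingCat.ofHom ψ) ≫ polyPt K = polyPt K ≫ g.hom := by
    intro g hg hg0
    have hr : Set.range (polyPt K ≫ g.hom) ⊆ Set.range (polyPt K) := by
      rintro _ ⟨y, rfl⟩
      rw [hmem, Scheme.Hom.comp_apply]
      intro e
      refine (hmem (polyPt K y)).1 ⟨y, rfl⟩ ?_
      have := congrArg g.inv e
      rwa [← Scheme.Hom.comp_apply, g.hom_inv_id, hg0] at this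
    obtain ⟨ψ, hψ⟩ := Spec.map_surjective (IsOpenImmersion.lift (polyPt K) (polyPt K ≫ g.hom) hr)
    have hl : Spec.map ψ ≫ polyPt K = polyPt K ≫ g.hom := by rw [hψ, IsOpenImmersion.lift_fac]
    refine ⟨ψ.hom, ?_, hl⟩
    have e := congrArg (· ≫ CohB1.ProjSpace.toSpec 1 K) hl
    simp only [Category.assoc, hg, polyPt, BrSev28.pt_toSpec] at e
    rw [← Spec.map_comp, Spec.map_inj] at e
    exact congrArg CommRingCat.Hom.hom e
  obtain ⟨ψ, hψC, hψ⟩ := hlift θ hθ hfix1
  obtain ⟨χ, hχC, hχ⟩ := hlift θ.symm (by rw [Iso.symm_hom]; exact (Iso.inv_comp_eq θ).2 hθ.symm) hfix0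
  have hcomp : χ.comp ψ = RingHom.id _ := by
    have : Spec.map (CommRingCat.ofHom χ) ≫ Spec.map (CommRingCat.ofHom ψ) ≫ polyPt K = 𝟙 _ ≫ polyPt K := by
      rw [hψ, ← Category.assoc, hχ, Category.assoc, Iso.symm_hom, θ.inv_hom_id, Category.comp_id, Category.id_comp]
    rw [← Category.assoc, cancel_mono, ← Spec.map_comp, ← Spec.map_id, Spec.map_inj] at this
    exact congrArg CommRingCat.Hom.hom this
  have hP : (ψ Polynomial.X).comp (χ Polynomial.X) = Polynomial.X := by
    have h1 : χ = Polynomial.eval₂RingHom Polynomial.C (χ Polynomial.X) :=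
      Polynomial.ringHom_ext (fun r => by simpa using RingHom.congr_fun hχC r) (by simp)
    have h2 := RingHom.congr_fun hcomp Polynomial.X
    rw [RingHom.comp_apply, h1] at h2
    simpa [Polynomial.comp] using h2
  have hP' : (χ Polynomial.X).comp (ψ Polynomial.X) = Polynomial.X := by
    obtain ⟨a, b, ha, hb⟩ := affine_of_endo_comp _ _ hP
    rw [hb] at hP ⊢
    have hd := congrArg Polynomial.natDegree hP
    rw [Polynomial.natDegree_comp, Polynomial.natDegree_X] at hd
    obtain ⟨a', ha', b', hb'⟩ := Polynomial.natDegree_eq_one.1 (Nat.eq_one_of_mul_eq_one_right hd)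
    rw [← hb'] at hP ⊢
    simp only [Polynomial.add_comp, Polynomial.mul_comp, Polynomial.C_comp, Polynomial.X_comp] at hP ⊢
    have h0 := congrArg (Polynomial.eval 0) hP
    have h1 := congrArg (Polynomial.eval 1) hP
    simp at h0 h1
    have haa : a * a' = 1 := by linear_combination h1 - h0
    have hab : a * b' + b = 0 := by linear_combination a * h0 + (-b) * haa
    rw [mul_add, ← mul_assoc, ← Polynomial.C_mul, haa, map_one, one_mul, ← Polynomial.C_mul, add_assoc,
      ← Polynomial.C_add, hab, map_zero, add_zero]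
  obtain ⟨a, b, ha, hab⟩ := affine_of_endo_comp _ _ hP'
  -- the germ at `(1:0)`
  let R := PowerSeries K
  let qR : K →+* R := PowerSeries.C
  let ζ : Spec (CommRingCat.of R) ⟶ CohB1.ProjSpace 1 K := BrSev28.pt 1 qR 0 ![1, PowerSeries.X] (cons_zero _)
  let ι : Spec (CommRingCat.of (HomogeneousLocalization.Away (CohB1.polyGrading 1 K)
      (MvPolynomial.X 0 : MvPolynomial (Fin (1 + 1)) K))) ⟶ CohB1.ProjSpace 1 K :=
    Proj.awayι (CohB1.polyGrading 1 K) (MvPolynomial.X 0) (Groth.Agent.ProjLib.X_mem_polyGrading 1 K 0) one_pos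
  haveI : IsOpenImmersion ι := inferInstanceAs (IsOpenImmersion (Proj.awayι _ _ _ _))
  have hx₀ : x₀ ∈ Set.range ι := ⟨_, rfl⟩
  have hclosed : ζ (IsLocalRing.closedPoint R) = x₀ := by
    have e : Spec.map (CommRingCat.ofHom (PowerSeries.constantCoeff (R := K))) ≫ ζ =
        Groth.Agent.EssDimP1.stdPt (RingHom.id K) 0 := by
      rw [BrSev28.pt_comp]
      refine pt_congr _ _ (RingHom.ext fun r => PowerSeries.constantCoeff_C r) ?_
      funext l
      fin_cases l <;> simp [Groth.Agent.EssDimP1.stdVec]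
    show _ = Groth.Agent.EssDimP1.stdPt (RingHom.id K) 0 (IsLocalRing.closedPoint K)
    rw [← e, Scheme.Hom.comp_apply]
    congr 1
    haveI : IsLocalHom (PowerSeries.constantCoeff (R := K)) :=
      ⟨fun f h => PowerSeries.isUnit_iff_constantCoeff.2 h⟩
    exact (pt_closed _).symm
  have hrange : Set.range (ζ ≫ θ.hom) ⊆ Set.range ι := by
    rintro _ ⟨y, rfl⟩
    have h1 : IsLocalRing.closedPoint R ∈ (ζ ≫ θ.hom) ⁻¹ᵁ ι.opensRange := by
      show (ζ ≫ θ.hom) (IsLocalRing.closedPoint R) ∈ Set.range ι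
      rw [Scheme.Hom.comp_apply, hclosed, hfix0]
      exact hx₀
    have h2 := (IsLocalRing.closedPoint_mem_iff ((ζ ≫ θ.hom) ⁻¹ᵁ ι.opensRange)).1 h1
    have h3 : y ∈ (ζ ≫ θ.hom) ⁻¹ᵁ ι.opensRange := h2 ▸ trivial
    exact h3
  obtain ⟨w, hw⟩ := Spec.map_surjective (IsOpenImmersion.lift ι (ζ ≫ θ.hom) hrange)
  let v : Fin (1 + 1) → R := fun l => w.hom (BrSev28.coord 1 0 l)
  have hv : v 0 = 1 := (congrArg w.hom (BrSev28.coord_self 1 0)).trans (map_one _)
  have hl : Spec.map w ≫ ι = ζ ≫ θ.hom := by rw [hw]; exact IsOpenImmersion.lift_fac _ _ _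
  have hqw : w.hom.comp (Groth.Agent.ProjLib.toAway 1 K (MvPolynomial.X 0)) = qR := by
    have e : Spec.map (CommRingCat.ofHom (w.hom.comp (Groth.Agent.ProjLib.toAway 1 K (MvPolynomial.X 0)))) =
        Spec.map (CommRingCat.ofHom qR) := by
      rw [CommRingCat.ofHom_comp, Spec.map_comp, CommRingCat.ofHom_hom,
        ← Groth.Agent.ProjLib.awayι_toSpec 1 K (Groth.Agent.ProjLib.X_mem_polyGrading 1 K 0) one_pos]
      refine (Category.assoc _ _ _).symm.trans ((congrArg (· ≫ CohB1.ProjSpace.toSpec 1 K) hl).trans ?_)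
      rw [Category.assoc, hθ]
      exact BrSev28.pt_toSpec 1 qR 0 _ _
    exact congrArg CommRingCat.Hom.hom (Spec.map_injective e)
  have hζ : ζ ≫ θ.hom = BrSev28.pt 1 qR 0 v hv := by
    rw [BrSev28.pt_eq 1 0 w.hom qR hqw v hv (fun l => rfl), CommRingCat.ofHom_hom]
    exact hl.symm
  -- modulo the cube
  let I : Ideal R := Ideal.span {PowerSeries.X ^ 3}
  let mk := Ideal.Quotient.mk I
  have hI : ∀ x ∈ I, PowerSeries.constantCoeff x = 0 := by
    intro x hx
    obtain ⟨r, rfl⟩ := Ideal.mem_span_singleton.1 hx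
    simp
  haveI : Nontrivial (R ⧸ I) := Ideal.Quotient.nontrivial_iff.2 fun h => by
    simpa using hI 1 (h ▸ Submodule.mem_top)
  have hA := h3 (R ⧸ I) (mk.comp qR) (Ideal.Quotient.lift I PowerSeries.constantCoeff hI) (mk PowerSeries.X)
    (fun x => PowerSeries.constantCoeff_C x)
    (fun x hx => by
      obtain ⟨f, rfl⟩ := Ideal.Quotient.mk_surjective x
      obtain ⟨g, rfl⟩ := PowerSeries.X_dvd_iff.2 hx
      rw [← map_pow, Ideal.Quotient.eq_zero_iff_mem, mul_pow]
      exact Ideal.mul_mem_right _ _ (Ideal.mem_span_singleton_self _))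
    PowerSeries.constantCoeff_X
  have hmkv : mk (v 1) = mk PowerSeries.X := by
    have e0 : Spec.map (CommRingCat.ofHom mk) ≫ ζ =
        BrSev28.pt 1 (mk.comp qR) 0 ![1, mk PowerSeries.X] (cons_zero _) := by
      rw [BrSev28.pt_comp]
      refine pt_congr _ _ rfl ?_
      funext l
      fin_cases l
      · exact map_one mk
      · rfl
    have e1 := congrArg (Spec.map (CommRingCat.ofHom mk) ≫ ·) hζ
    simp only [← Category.assoc, e0, hA, BrSev28.pt_comp] at e1
    exact (congrFun (pt_inj e1) 1).symm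
  -- at the generic point
  let L := FractionRing R
  let ιL : R →+* L := algebraMap R L
  let qL := ιL.comp qR
  let T : L := ιL PowerSeries.X
  have hinj : Function.Injective ιL := IsFractionRing.injective R L
  have hT : T ≠ 0 := fun h => PowerSeries.X_ne_zero (hinj (h.trans (map_zero ιL).symm))
  let ab : R := PowerSeries.C a + PowerSeries.C b * PowerSeries.X
  have hab0 : ιL ab ≠ 0 := fun h => ha (by
    simpa [ab] using congrArg PowerSeries.constantCoeff (hinj (h.trans (map_zero ιL).symm)))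
  have hσ : ιL (v 1) * ιL ab = T := by
    let g : Polynomial K →+* L := Polynomial.eval₂RingHom qL T⁻¹
    have e0 : Spec.map (CommRingCat.ofHom ιL) ≫ ζ = Spec.map (CommRingCat.ofHom g) ≫ polyPt K := by
      rw [SpecMap_polyPt, BrSev28.pt_comp, BrSev28.pt_change 1 _ 0 1 _ _ T⁻¹ (by
        show T⁻¹ * ιL PowerSeries.X = 1
        exact inv_mul_cancel₀ hT)]
      refine pt_congr _ _ (RingHom.ext fun r => by simp [g, qL]) ?_
      funext l
      fin_cases l
      · simp [g]
      · exact inv_mul_cancel₀ hT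
    have e1 := congrArg (Spec.map (CommRingCat.ofHom ιL) ≫ ·) hζ
    simp only [← Category.assoc, e0] at e1
    rw [Category.assoc, ← hψ, ← Category.assoc, ← Spec.map_comp, ← CommRingCat.ofHom_comp, SpecMap_polyPt,
      BrSev28.pt_comp] at e1
    have hy : (g.comp ψ) Polynomial.X = ιL ab * T⁻¹ := by
      rw [RingHom.comp_apply, hab]
      simp [g, ab, qL, qR, T, add_mul, mul_assoc, mul_inv_cancel₀ hT]
      rfl
    rw [BrSev28.pt_change 1 _ 1 0 _ _ (T * (ιL ab)⁻¹) (by
      show T * (ιL ab)⁻¹ * (g.comp ψ) Polynomial.X = 1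
      rw [hy, mul_assoc, inv_mul_cancel_left₀ hab0, mul_inv_cancel₀ hT])] at e1
    have e2 : T * (ιL ab)⁻¹ * 1 = ιL (v 1) := congrFun (pt_inj e1) 1
    rw [← e2, mul_one, mul_assoc, inv_mul_cancel₀ hab0, mul_one]
  have heq : v 1 * ab = PowerSeries.X := hinj (by rw [map_mul]; exact hσ)
  obtain ⟨τ, hτ⟩ : PowerSeries.X ^ 3 ∣ v 1 - PowerSeries.X :=
    Ideal.mem_span_singleton.1 (Ideal.Quotient.eq.1 hmkv)
  have hv1 : v 1 = PowerSeries.X + PowerSeries.X ^ 3 * τ := by linear_combination hτ
  rw [hv1] at heq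
  have h1 : PowerSeries.X * (ab - 1) = PowerSeries.X * (PowerSeries.X ^ 2 * (-(τ * ab))) := by
    linear_combination heq
  have h2 := mul_left_cancel₀ PowerSeries.X_ne_zero h1
  have ha1 : a = 1 := by
    have := congrArg (PowerSeries.coeff 0) h2
    simp [ab] at this
    linear_combination this
  have hb0 : b = 0 := by
    have := congrArg (PowerSeries.coeff 1) h2
    rw [PowerSeries.coeff_X_pow_mul'] at this
    simpa [ab] using this
  have hψid : ψ = RingHom.id _ := by
    refine Polynomial.ringHom_ext (fun r => RingHom.congr_fun hψC r) ?_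
    rw [hab, ha1, hb0]; simp
  have hdense : polyPt K ≫ θ.hom = polyPt K := by
    rw [← hψ, hψid, CommRingCat.ofHom_id, Spec.map_id, Category.id_comp]
  haveI : IsProper (CohB1.ProjSpace.toSpec 1 K) := Groth.Agent.CurveLib.isProper_projSpace K 1
  haveI : IsIntegral (CohB1.ProjSpace 1 K) := Groth.Agent.CurveLib.isIntegral_projSpace K 1
  haveI : IsDominant (polyPt K) := ⟨(polyPt K).isOpenEmbedding.isOpen_range.dense (Set.range_nonempty _)⟩
  exact ext_of_isDominant_of_isSeparated (CohB1.ProjSpace.toSpec 1 K) (by rw [hθ, Category.id_comp]) (polyPt K)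
    (by rw [hdense, Category.comp_id])

theorem surj_of_closed {R S : CommRingCat.{u}} (g : R ⟶ S) [IsClosedImmersion (Spec.map g)] :
    Function.Surjective g.hom := by
  intro y
  obtain ⟨r, hr⟩ := (Spec.map g).app_surjective (U := ⊤) (isAffineOpen_top _) ((Scheme.ΓSpecIso S).inv y)
  refine ⟨(Scheme.ΓSpecIso R).hom r, ?_⟩
  have h := congrArg (fun m => m.hom r) (Scheme.ΓSpecIso_naturality g)
  simp only [CommRingCat.hom_comp, RingHom.comp_apply] at h
  refine h.symm.trans ((congrArg (Scheme.ΓSpecIso S).hom hr).trans ?_)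
  exact congrArg (fun m => m.hom y) (Scheme.ΓSpecIso S).inv_hom_id

open MorphismProperty
/-- Over a field k, let P be a closed point of the projective line P¹_k whose residue field κ(P) is
purely inseparable over k with [κ(P) : k] ≥ 3 (this forces k to be imperfect). Then the centraliser
of P (with its reduced structure) in the automorphism group of P¹ is infinitesimal; on geometric
points: for an algebraic closure K of k, every automorphism φ of P¹_k ×_k Spec K over Spec K which
induces the identity on the closed subscheme Spec κ(P) ×_k Spec K — meaning φ ∘ z = z for every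
scheme T and every T-point z of P¹_k ×_k Spec K whose image in P¹_k factors through Spec κ(P) → P¹_k
— is the identity. -/
theorem result (k : Type u) [Field k]
    (P : ↥(CohB1.ProjSpace 1 k))
    (hpi : letI := ((CohB1.ProjSpace.toSpec 1 k).residueFieldMap P).hom.toAlgebra
      IsPurelyInseparable ↑((Spec (CommRingCat.of k)).residueField ((CohB1.ProjSpace.toSpec 1 k) P)) ↑((CohB1.ProjSpace 1 k).residueField P))
    (hdeg : letI := ((CohB1.ProjSpace.toSpec 1 k).residueFieldMap P).hom.toAlgebra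
      3 ≤ Module.finrank ↑((Spec (CommRingCat.of k)).residueField ((CohB1.ProjSpace.toSpec 1 k) P)) ↑((CohB1.ProjSpace 1 k).residueField P))
    (K : Type u) [Field K] [Algebra k K] [IsAlgClosure k K]
    (φ : pullback (CohB1.ProjSpace.toSpec 1 k) (Spec.map (CommRingCat.ofHom (algebraMap k K))) ≅ pullback (CohB1.ProjSpace.toSpec 1 k) (Spec.map (CommRingCat.ofHom (algebraMap k K))))
    (hφ : φ.hom ≫ pullback.snd (CohB1.ProjSpace.toSpec 1 k) (Spec.map (CommRingCat.ofHom (algebraMap k K))) = pullback.snd (CohB1.ProjSpace.toSpec 1 k) (Spec.map (CommRingCat.ofHom (algebraMap k K))))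
    (hfix : ∀ (T : Scheme.{u}) (z : T ⟶ pullback (CohB1.ProjSpace.toSpec 1 k) (Spec.map (CommRingCat.ofHom (algebraMap k K)))) (w : T ⟶ Spec ((CohB1.ProjSpace 1 k).residueField P)),
      z ≫ pullback.fst (CohB1.ProjSpace.toSpec 1 k) (Spec.map (CommRingCat.ofHom (algebraMap k K))) = w ≫ (CohB1.ProjSpace 1 k).fromSpecResidueField P → z ≫ φ.hom = z) :
    φ.hom = 𝟙 _ := by
  haveI : IsAlgClosed K := IsAlgClosure.isAlgClosed k
  let s := CohB1.ProjSpace.toSpec 1 k
  let f := Spec.map (CommRingCat.ofHom (algebraMap k K))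
  let Q := CohB1.ProjSpace 1 K
  let π : Q ⟶ CohB1.ProjSpace 1 k :=
    Proj.map (Groth.Agent.Coherent.polyGradedMap 1 k K) (Groth.Agent.Coherent.polyGradedMap_irrelevant 1 k K)
  let t : Q ⟶ Spec (CommRingCat.of K) := CohB1.ProjSpace.toSpec 1 K
  have hPB : IsPullback π t s f := Groth.Agent.Coherent.isPullback_projSpace 1 k K
  let e := hPB.isoPullback
  -- the residue field over `k`
  let Eκ := (CohB1.ProjSpace 1 k).residueField P
  obtain ⟨ιP, hιP⟩ := Spec.map_surjective ((CohB1.ProjSpace 1 k).fromSpecResidueField P ≫ s)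
  letI : Algebra k ↑Eκ := ιP.hom.toAlgebra
  obtain ⟨ψ, hψ⟩ := Spec.map_surjective ((Spec (CommRingCat.of k)).fromSpecResidueField (s P))
  have hψsurj : Function.Surjective ψ.hom := by
    haveI : Subsingleton ↥(Spec (CommRingCat.of k)) := inferInstanceAs (Subsingleton (PrimeSpectrum k))
    have hcl : IsClosed ({s P} : Set ↥(Spec (CommRingCat.of k))) := Set.subsingleton_singleton.isClosed
    haveI : IsClosedImmersion (Spec.map ψ) := hψ ▸ isClosed_singleton_iff_isClosedImmersion.1 hcl
    exact surj_of_closed _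
  have hcomp : ψ ≫ s.residueFieldMap P = ιP := by
    apply Spec.map_injective
    rw [Spec.map_comp, hψ, hιP, Scheme.Hom.SpecMap_residueFieldMap_fromSpecResidueField]
  let ψe : k ≃+* ↑((Spec (CommRingCat.of k)).residueField (s P)) :=
    RingEquiv.ofBijective ψ.hom ⟨ψ.hom.injective, hψsurj⟩
  have hfin : 3 ≤ Module.finrank k ↑Eκ := by
    letI := (s.residueFieldMap P).hom.toAlgebra
    refine hdeg.trans (le_of_eq ?_)
    refine (Algebra.finrank_eq_of_equiv_equiv ψe (RingEquiv.refl _) ?_).symm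
    exact congrArg CommRingCat.Hom.hom hcomp
  haveI hpk : IsPurelyInseparable k ↑Eκ := by
    let p := ringExpChar k
    haveI : ExpChar k p := ringExpChar.expChar k
    haveI : ExpChar ↑((Spec (CommRingCat.of k)).residueField (s P)) p :=
      expChar_of_injective_ringHom ψ.hom.injective p
    refine (isPurelyInseparable_iff_pow_mem k p).2 fun x => ?_
    letI := (s.residueFieldMap P).hom.toAlgebra
    haveI : IsPurelyInseparable ↑((Spec (CommRingCat.of k)).residueField (s P)) ↑Eκ := hpi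
    obtain ⟨n, y, hy⟩ := IsPurelyInseparable.pow_mem ↑((Spec (CommRingCat.of k)).residueField (s P)) p x
    obtain ⟨r, rfl⟩ := hψsurj y
    exact ⟨n, r, (congrArg (fun g => g.hom r) hcomp).symm.trans hy⟩
  haveI : Algebra.IsIntegral k ↑Eκ := inferInstance
  let φ₀ : ↑Eκ →ₐ[k] K := IsAlgClosed.lift
  let z₁ := Spec.map (CommRingCat.ofHom φ₀.toRingHom) ≫ (CohB1.ProjSpace 1 k).fromSpecResidueField P
  have hz₁ : z₁ ≫ s = 𝟙 _ ≫ f := by
    rw [Category.id_comp, Category.assoc, ← hιP, ← Spec.map_comp]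
    exact congrArg Spec.map (CommRingCat.hom_ext (RingHom.ext φ₀.commutes))
  let z₀ : Spec (CommRingCat.of K) ⟶ Q := hPB.lift z₁ (𝟙 _) hz₁
  have hz₀t : z₀ ≫ t = 𝟙 _ := hPB.lift_snd _ _ _
  have hz₀π : z₀ ≫ π = z₁ := hPB.lift_fst _ _ _
  have hP : IsClosed ({P} : Set ↥(CohB1.ProjSpace 1 k)) := by
    haveI : LocallyOfFiniteType t := (Groth.Agent.DimLib.PN.finiteType_toSpec 1 K).1
    haveI : IsIntegralHom f := (IsIntegralHom.SpecMap_iff).2 (algebraMap_isIntegral_iff.2 inferInstance)
    haveI : IsIntegralHom π := MorphismProperty.of_isPullback hPB.flip ‹IsIntegralHom f›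
    have h := π.isClosedMap _ ((pointEquivClosedPoint t) ⟨z₀, hz₀t⟩).2
    have he : π '' {z₀ (IsLocalRing.closedPoint K)} = {P} := by
      rw [Set.image_singleton]
      exact congrArg _ ((congrArg (fun g => g (IsLocalRing.closedPoint K)) hz₀π).trans
        (Scheme.fromSpecResidueField_apply P _))
    exact he ▸ h
  obtain ⟨i, hi⟩ := Groth.Agent.NeronLib.exists_chart k P
  let c := Groth.Agent.NeronLib.chart k i
  haveI : IsOpenImmersion c := inferInstanceAs (IsOpenImmersion (Groth.Agent.NeronLib.chart k i))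
  have hcP : Set.range ((CohB1.ProjSpace 1 k).fromSpecResidueField P) ⊆ Set.range c := by
    rw [Scheme.range_fromSpecResidueField, Set.singleton_subset_iff]; exact hi
  obtain ⟨ev₀, hev₀⟩ := Spec.map_surjective (IsOpenImmersion.lift c _ hcP)
  have hev : Spec.map ev₀ ≫ c = (CohB1.ProjSpace 1 k).fromSpecResidueField P := by
    rw [hev₀]; exact IsOpenImmersion.lift_fac _ _ _
  have hevs : Function.Surjective ev₀.hom := by
    haveI : IsClosedImmersion (Spec.map ev₀ ≫ c) := by
      rw [hev]; exact isClosed_singleton_iff_isClosedImmersion.1 hP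
    haveI : IsClosedImmersion (Spec.map ev₀) := IsClosedImmersion.of_comp (Spec.map ev₀) c
    exact surj_of_closed _
  have hevC : ev₀.hom.comp MvPolynomial.C = ιP.hom := by
    have h := congrArg (· ≫ s) hev
    simp only [Category.assoc, ← hιP] at h
    rw [show c ≫ s = Groth.Agent.NeronLib.lineMap k from Groth.Agent.NeronLib.chart_toSpec k i,
      Groth.Agent.NeronLib.lineMap, ← Spec.map_comp, Spec.map_inj] at h
    exact congrArg CommRingCat.Hom.hom h
  let eq₁ := (MvPolynomial.pUnitAlgEquiv k : MvPolynomial PUnit.{u + 1} k ≃ₐ[k] Polynomial k)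
  let ev : Polynomial k →ₐ[k] ↑Eκ :=
    { ev₀.hom.comp eq₁.symm.toAlgHom.toRingHom with
      commutes' := fun r => by
        refine (congrArg ev₀.hom (eq₁.symm.commutes r)).trans ?_
        exact RingHom.congr_fun hevC r }
  obtain ⟨α, hα, hzα⟩ := Groth.Agent.EssDimP1.exists_aut_std_one z₀ hz₀t
  have hαinv : α.inv ≫ t = t := (Iso.inv_comp_eq α).2 hα.symm
  let θ : Q ≅ Q := α.symm ≪≫ (e ≪≫ φ ≪≫ e.symm) ≪≫ α
  have hθt : θ.hom ≫ t = t := by
    have e1 : α.hom ≫ t = t := hα
    have e2 : hPB.isoPullback.inv ≫ t = pullback.snd s f := hPB.isoPullback_inv_snd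
    have e3 : φ.hom ≫ pullback.snd s f = pullback.snd s f := hφ
    have e4 : hPB.isoPullback.hom ≫ pullback.snd s f = t := hPB.isoPullback_hom_snd
    simp only [θ, e, Iso.trans_hom, Iso.symm_hom, Category.assoc]
    rw [e1, e2, e3, e4, hαinv]
  have hθ : θ.hom = 𝟙 Q := by
    refine theta_eq_id θ hθt ?_
    intro A _ _ q ρ ε hρ hcube hε
    let ζ := BrSev28.pt 1 q 0 ![1, ε] (cons_zero _)
    let z := ζ ≫ α.inv
    have hζρ : Spec.map (CommRingCat.ofHom ρ) ≫ ζ = Groth.Agent.EssDimP1.stdPt (RingHom.id K) 0 := by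
      rw [BrSev28.pt_comp]
      refine pt_congr _ _ (RingHom.ext hρ) ?_
      funext l
      fin_cases l <;> simp [Groth.Agent.EssDimP1.stdVec, hε]
    have hzρ : Spec.map (CommRingCat.ofHom ρ) ≫ z = z₀ := by
      rw [← Category.assoc, hζρ, ← hzα, Category.assoc, α.hom_inv_id, Category.comp_id]
    have hzt : z ≫ t = Spec.map (CommRingCat.ofHom q) := by
      rw [Category.assoc, hαinv]; exact BrSev28.pt_toSpec 1 q 0 _ _
    have hsurj : Function.Surjective (Spec.map (CommRingCat.ofHom ρ)) := by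
      intro p
      refine ⟨IsLocalRing.closedPoint K, PrimeSpectrum.ext ?_⟩
      have hle : RingHom.ker ρ ≤ p.asIdeal := fun x hx => p.2.mem_of_pow_mem 3 (by rw [hcube x hx]; exact zero_mem _)
      have hmax : (RingHom.ker ρ).IsMaximal :=
        RingHom.ker_isMaximal_of_surjective ρ fun x => ⟨q x, hρ x⟩
      refine Eq.trans ?_ (hmax.eq_of_le p.2.ne_top hle)
      show Ideal.comap ρ (IsLocalRing.maximalIdeal K) = _
      rw [IsLocalRing.maximalIdeal_eq_bot]; rfl
    have hrange : Set.range (z ≫ π) ⊆ Set.range c := by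
      rintro _ ⟨p, rfl⟩
      obtain ⟨p', rfl⟩ := hsurj p
      have h1 : (Spec.map (CommRingCat.ofHom ρ) ≫ z ≫ π) p' ∈ Set.range c := by
        rw [← Category.assoc, hzρ, hz₀π]
        exact hcP ⟨_, rfl⟩
      exact h1
    obtain ⟨a, ha⟩ := Spec.map_surjective (IsOpenImmersion.lift c (z ≫ π) hrange)
    have hac : Spec.map a ≫ c = z ≫ π := by rw [ha]; exact IsOpenImmersion.lift_fac _ _ _
    have haC : a.hom.comp MvPolynomial.C = q.comp (algebraMap k K) := by
      have h := congrArg (· ≫ s) hac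
      simp only [Category.assoc] at h
      rw [show c ≫ s = Groth.Agent.NeronLib.lineMap k from Groth.Agent.NeronLib.chart_toSpec k i,
        Groth.Agent.NeronLib.lineMap, hPB.w, ← Category.assoc z, hzt, ← Spec.map_comp, ← Spec.map_comp,
        Spec.map_inj] at h
      exact congrArg CommRingCat.Hom.hom h
    have hared : ρ.comp a.hom = φ₀.toRingHom.comp ev₀.hom := by
      have h : Spec.map (a ≫ CommRingCat.ofHom ρ) ≫ c = Spec.map (ev₀ ≫ CommRingCat.ofHom φ₀.toRingHom) ≫ c := by
        rw [Spec.map_comp, Spec.map_comp, Category.assoc, Category.assoc, hac, hev, ← Category.assoc, hzρ, hz₀π]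
      rw [cancel_mono, Spec.map_inj] at h
      exact congrArg CommRingCat.Hom.hom h
    obtain ⟨h', hh'⟩ := factor_key hfin ev (fun y => by
        obtain ⟨x, rfl⟩ := hevs y
        exact ⟨eq₁ x, congrArg ev₀.hom (eq₁.symm_apply_apply x)⟩) ρ q hρ hcube (algebraMap k K) φ₀.toRingHom
      (a.hom.comp eq₁.symm.toAlgHom.toRingHom)
      (fun r => (congrArg a.hom (eq₁.symm.commutes r)).trans (RingHom.congr_fun haC r))
      (RingHom.ext fun x => RingHom.congr_fun hared (eq₁.symm x))
    have ha' : a = ev₀ ≫ CommRingCat.ofHom h' := CommRingCat.hom_ext (RingHom.ext fun x => by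
      have := RingHom.congr_fun hh' (eq₁ x)
      rw [show a.hom x = (a.hom.comp eq₁.symm.toAlgHom.toRingHom) (eq₁ x) from (congrArg a.hom (eq₁.symm_apply_apply x)).symm, this]
      exact congrArg (fun y => h' (ev₀.hom y)) (eq₁.symm_apply_apply x))
    have hw := hfix _ (z ≫ e.hom) (Spec.map (CommRingCat.ofHom h')) (by
      rw [Category.assoc, hPB.isoPullback_hom_fst, ← hac, ha', Spec.map_comp, Category.assoc, hev])
    show ζ ≫ θ.hom = ζ
    calc ζ ≫ θ.hom = ((z ≫ e.hom) ≫ φ.hom) ≫ e.inv ≫ α.hom := by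
          simp only [θ, z, Iso.trans_hom, Iso.symm_hom, Category.assoc]
      _ = ζ := by
          rw [hw]; simp [z]
  have h1 : e.hom ≫ φ.hom ≫ e.inv = 𝟙 Q := by
    have : α.hom ≫ θ.hom ≫ α.inv = e.hom ≫ φ.hom ≫ e.inv := by
      simp [θ]
    rw [← this, hθ, Category.id_comp, α.hom_inv_id]
  calc φ.hom = e.inv ≫ (e.hom ≫ φ.hom ≫ e.inv) ≫ e.hom := by simp
    _ = 𝟙 _ := by rw [h1, Category.id_comp, e.inv_hom_id]

end Groth.Agent.S14647
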