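import Groth.Statements.S14648
import Groth.Agent.S1585
import Groth.Agent.AlgGrpLib.OpenOrbit
import Groth.Agent.FlatMor12.RegularExtend
import Groth.Agent.GrpdLib.SmoothOverField
import Mathlib.AlgebraicGeometry.Morphisms.SchemeTheoreticallyDominant
set_option backward.isDefEq.respectTransparency.types false

set_option autoImplicit false
universe u
open CategoryTheory MonoidalCategory CartesianMonoidalCategory MonObj GrpObj AlgebraicGeometry CategoryTheory.Limits
open AlgGrp

namespace Groth.Agent.S14648

/-- Over a field k, let G be a smooth connected k-group scheme of finite type acting on a variety X (a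
separated, geometrically integral k-scheme of finite type), let ν : X̃ → X be the normalization of X
and let G act on X̃ so that ν is equivariant (such a lifted action exists and is unique; here it is
given). Then the commutative square with the action maps G × X̃ → X̃ and G × X → X as horizontal
sides and id_G × ν, ν as vertical sides is cartesian, and the two actions have the same kernel: for
every k-scheme T, a T-point g of G acts as the identity on all points of X over T-schemes if and
only if it acts as the identity on all points of X̃ over T-schemes. (The quasi-compactness and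
quasi-separatedness binders on the morphism from the generic point always hold; they are only needed
to form the normalization.) -/
theorem result (k : Type u) [Field k]
    (G X : Over (Spec (CommRingCat.of k))) [GrpObj G] [Smooth G.hom] [QuasiCompact G.hom] [ConnectedSpace ↥G.left]
    [IsSeparated X.hom] [LocallyOfFiniteType X.hom] [QuasiCompact X.hom] [GeometricallyIntegral X.hom] [IsIntegral X.left] [QuasiCompact (X.left.fromSpecStalk (genericPoint ↥X.left))] [QuasiSeparated (X.left.fromSpecStalk (genericPoint ↥X.left))]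
    (a : AlgGrp.Action G X) (b : AlgGrp.Action G (Over.mk (Curv2.normalizationι X.left ≫ X.hom)))
    (hb : (G ◁ (Over.homMk (Curv2.normalizationι X.left) rfl : Over.mk (Curv2.normalizationι X.left ≫ X.hom) ⟶ X)) ≫ a.act = b.act ≫ Over.homMk (Curv2.normalizationι X.left) rfl) :
    IsPullback b.act (G ◁ (Over.homMk (Curv2.normalizationι X.left) rfl : Over.mk (Curv2.normalizationι X.left ≫ X.hom) ⟶ X)) (Over.homMk (Curv2.normalizationι X.left) rfl : Over.mk (Curv2.normalizationι X.left ≫ X.hom) ⟶ X) a.act ∧
    ∀ (T : Over (Spec (CommRingCat.of k))) (g : T ⟶ G),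
      (∀ (T' : Over (Spec (CommRingCat.of k))) (s : T' ⟶ T) (x : T' ⟶ X), CartesianMonoidalCategory.lift (s ≫ g) x ≫ a.act = x) ↔
      (∀ (T' : Over (Spec (CommRingCat.of k))) (s : T' ⟶ T) (y : T' ⟶ Over.mk (Curv2.normalizationι X.left ≫ X.hom)), CartesianMonoidalCategory.lift (s ≫ g) y ≫ b.act = y) := by
  letI : X.left.Over (Spec (CommRingCat.of k)) := ⟨X.hom⟩
  haveI : LocallyOfFiniteType (X.left ↘ Spec (CommRingCat.of k)) := ‹LocallyOfFiniteType X.hom›
  obtain ⟨hfin, -, ⟨V, hVne, hiso⟩, hint, -⟩ := S1585.result k X.left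
  haveI := hfin; haveI := hiso; haveI := hint
  obtain ⟨ν, hν⟩ : ∃ ν : Over.mk (Curv2.normalizationι X.left ≫ X.hom) ⟶ X,
      ν = Over.homMk (Curv2.normalizationι X.left) rfl := ⟨_, rfl⟩
  simp only [← hν] at hb ⊢
  let Vo : Over (Spec (CommRingCat.of k)) := Over.mk (V.ι ≫ X.hom)
  let ι' : Vo ⟶ X := Over.homMk V.ι rfl
  let j : Vo ⟶ Over.mk (Curv2.normalizationι X.left ≫ X.hom) :=
    Over.homMk (inv (Curv2.normalizationι X.left ∣_ V) ≫ (Curv2.normalizationι X.left ⁻¹ᵁ V).ι) (by
      show (_ ≫ _) ≫ _ ≫ X.hom = V.ι ≫ X.hom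
      rw [Category.assoc, ← morphismRestrict_ι_assoc, IsIso.inv_hom_id_assoc])
  haveI : IsOpenImmersion j.left := inferInstanceAs
    (IsOpenImmersion (inv (Curv2.normalizationι X.left ∣_ V) ≫ (Curv2.normalizationι X.left ⁻¹ᵁ V).ι))
  haveI : IsOpenImmersion ι'.left := inferInstanceAs (IsOpenImmersion V.ι)
  have hjν : j ≫ ν = ι' := by
    rw [hν]
    refine Over.OverMorphism.ext ?_
    show (inv (Curv2.normalizationι X.left ∣_ V) ≫ (Curv2.normalizationι X.left ⁻¹ᵁ V).ι) ≫ Curv2.normalizationι X.left = V.ι
    rw [Category.assoc, ← morphismRestrict_ι, IsIso.inv_hom_id_assoc]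
  have hjr : Set.range j.left = ν.left ⁻¹' (V : Set X.left) := by
    rw [hν]
    show Set.range (inv (Curv2.normalizationι X.left ∣_ V) ≫ (Curv2.normalizationι X.left ⁻¹ᵁ V).ι) = _
    rw [Scheme.Hom.comp_base, TopCat.coe_comp, Set.range_comp,
      Set.range_eq_univ.2 (inv (Curv2.normalizationι X.left ∣_ V)).surjective, Set.image_univ, Scheme.Opens.range_ι]
    rfl
  haveI : IsSeparated (Over.mk (Curv2.normalizationι X.left ≫ X.hom)).hom :=
    inferInstanceAs (IsSeparated (Curv2.normalizationι X.left ≫ X.hom))
  haveI : LocallyOfFiniteType (Over.mk (Curv2.normalizationι X.left ≫ X.hom)).hom :=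
    inferInstanceAs (LocallyOfFiniteType (Curv2.normalizationι X.left ≫ X.hom))
  haveI : IsLocallyNoetherian (Over.mk (Curv2.normalizationι X.left ≫ X.hom)).left :=
    LocallyOfFiniteType.isLocallyNoetherian (Over.mk (Curv2.normalizationι X.left ≫ X.hom)).hom
  haveI : IsLocallyNoetherian X.left := LocallyOfFiniteType.isLocallyNoetherian X.hom
  haveI : IrreducibleSpace (Over.mk (Curv2.normalizationι X.left ≫ X.hom)).left :=
    inferInstanceAs (IrreducibleSpace (Curv2.normalization X.left))
  haveI : IsReduced (Over.mk (Curv2.normalizationι X.left ≫ X.hom)).left :=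
    inferInstanceAs (IsReduced (Curv2.normalization X.left))
  obtain ⟨x₀, hx₀⟩ := hVne
  obtain ⟨v₀, hv₀⟩ : x₀ ∈ Set.range V.ι := by rw [Scheme.Opens.range_ι]; exact hx₀
  haveI : IsDominant j.left := ⟨j.left.isOpenEmbedding.isOpen_range.dense ⟨_, v₀, rfl⟩⟩
  haveI : IsDominant ι'.left := ⟨ι'.left.isOpenEmbedding.isOpen_range.dense ⟨_, v₀, rfl⟩⟩
  haveI hj1 : IsSchemeTheoreticallyDominant j.left := .of_isDominant _
  haveI hi1 : IsSchemeTheoreticallyDominant ι'.left := .of_isDominant _
  have hsch : ∀ (T : Over (Spec (CommRingCat.of k))),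
      IsSchemeTheoreticallyDominant (T ◁ j).left ∧ IsSchemeTheoreticallyDominant (T ◁ ι').left := fun T => by
    haveI : Flat T.hom := GrpdLib.flat_to_field T.hom k (Iso.refl _)
    haveI := AlgGrpLib.ActionDescent.flat_snd T (Over.mk (Curv2.normalizationι X.left ≫ X.hom))
    haveI := AlgGrpLib.ActionDescent.flat_snd T X
    haveI : QuasiCompact j.left := inferInstance
    haveI : QuasiCompact ι'.left := inferInstance
    exact ⟨.of_isPullback (AlgGrpLib.ActionDescent.isPullback_whiskerLeft_left T j),
      .of_isPullback (AlgGrpLib.ActionDescent.isPullback_whiskerLeft_left T ι')⟩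
  refine ⟨?_, fun T g => ?_⟩
  · have hbase : IsPullback (snd G _) (G ◁ ν) ν (snd G X) := AlgGrpLib.ActionDescent.isPullback_whiskerLeft G ν
    refine hbase.of_iso (AlgGrpLib.shearIso b).symm (Iso.refl _) (AlgGrpLib.shearIso a).symm (Iso.refl _) ?_ ?_ ?_ ?_
    · rw [Iso.refl_hom, Category.comp_id, Iso.symm_hom]
      exact (Iso.inv_comp_eq _).2 (lift_snd _ _).symm |>.symm
    · rw [Iso.symm_hom, Iso.symm_hom, Iso.comp_inv_eq, Category.assoc, Iso.eq_inv_comp]
      apply CartesianMonoidalCategory.hom_ext
      · simp [AlgGrpLib.shearIso]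
      · rw [Category.assoc, whiskerLeft_snd, ← Category.assoc, AlgGrpLib.shearIso_hom_snd, ← hb, Category.assoc,
          AlgGrpLib.shearIso_hom_snd]
    · simp
    · rw [Iso.refl_hom, Category.comp_id, Iso.symm_hom]
      exact (Iso.inv_comp_eq _).2 (lift_snd _ _).symm |>.symm
  have hstep : ∀ {W : Over (Spec (CommRingCat.of k))} (p : W ⟶ G)
      (y : W ⟶ Over.mk (Curv2.normalizationι X.left ≫ X.hom)),
      (CartesianMonoidalCategory.lift p y ≫ b.act) ≫ ν = CartesianMonoidalCategory.lift p (y ≫ ν) ≫ a.act := fun p y => by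
    rw [Category.assoc, ← hb, lift_whiskerLeft_assoc]
  constructor
  · intro h T' s y
    have key : CartesianMonoidalCategory.lift (fst T (Over.mk (Curv2.normalizationι X.left ≫ X.hom)) ≫ g) (snd T _) ≫ b.act =
        snd T _ := by
      refine Over.OverMorphism.ext ?_
      haveI := (hsch T).1
      refine FlatMor12.RegularExtend.ext_of_isSchemeTheoreticallyDominant
        (Over.mk (Curv2.normalizationι X.left ≫ X.hom)).hom (by rw [Over.w, Over.w]) (T ◁ j).left ?_
      rw [← Over.comp_left, ← Over.comp_left]
      congr 1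
      rw [comp_lift_assoc, whiskerLeft_fst_assoc, whiskerLeft_snd]
      obtain ⟨u, hu⟩ : ∃ u, u = CartesianMonoidalCategory.lift (fst T Vo ≫ g) (snd T Vo ≫ j) ≫ b.act := ⟨_, rfl⟩
      rw [← hu]
      have huν : u ≫ ν = snd T Vo ≫ ι' := by rw [hu, hstep, Category.assoc, hjν, h]
      have hr : Set.range u.left ⊆ Set.range j.left := by
        rw [hjr]
        rintro _ ⟨z, rfl⟩
        show (u ≫ ν).left z ∈ (V : Set X.left)
        rw [huν]
        exact Subtype.mem _
      let w := IsOpenImmersion.lift j.left u.left hr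
      have hw : w ≫ j.left = u.left := IsOpenImmersion.lift_fac _ _ hr
      have hwe : w = (snd T Vo).left := by
        rw [← cancel_mono ι'.left, ← hjν, Over.comp_left, ← Category.assoc, hw, ← Over.comp_left, huν, ← hjν,
          Over.comp_left, Over.comp_left]
      refine Over.OverMorphism.ext ?_
      rw [← hw, hwe, Over.comp_left]
    have := congrArg (CartesianMonoidalCategory.lift s y ≫ ·) key
    simpa only [comp_lift_assoc, lift_fst_assoc, lift_snd] using this
  · intro h T' s x
    have key : CartesianMonoidalCategory.lift (fst T X ≫ g) (snd T X) ≫ a.act = snd T X := by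
      refine Over.OverMorphism.ext ?_
      haveI := (hsch T).2
      refine FlatMor12.RegularExtend.ext_of_isSchemeTheoreticallyDominant
        X.hom (by rw [Over.w, Over.w]) (T ◁ ι').left ?_
      rw [← Over.comp_left, ← Over.comp_left]
      congr 1
      rw [comp_lift_assoc, whiskerLeft_fst_assoc, whiskerLeft_snd, ← hjν, ← Category.assoc (snd T Vo) j ν, ← hstep, h]
    have := congrArg (CartesianMonoidalCategory.lift s x ≫ ·) key
    simpa only [comp_lift_assoc, lift_fst_assoc, lift_snd] using this

end Groth.Agent.S14648
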