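import Groth.Statements.S1465
import Groth.Agent.FlatMorPush.Functorial

set_option autoImplicit false
universe u
open FlatMor

namespace Groth.Agent.S1465

open AlgebraicGeometry CategoryTheory Limits in
/-- Let i : Z → X be a closed immersion and j : Z → Y an integral morphism such that each fibre of j
lies in the preimage of an affine open of X. Let i' : Z' → X', j' : Z' → Y' and f : X' → X, g : Y' →
Y, h : Z' → Z form cartesian squares over i and j, with f, g, h separated and locally quasi-finite.
Then the pushouts W of (i, j) and W' of (i', j') exist in the category of schemes, the induced W' →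
W is separated and locally quasi-finite, and the squares comparing Y' → W', X' → W' with Y → W, X →
W are cartesian. -/
theorem result {X Y Z X' Y' Z' : Scheme.{u}}
    (i : Z ⟶ X) [IsClosedImmersion i] (j : Z ⟶ Y) [IsIntegralHom j]
    (h3 : ∀ y : Y, ∃ U : X.Opens, IsAffineOpen U ∧ j ⁻¹' {y} ⊆ (i ⁻¹ᵁ U : Set ↑Z))
    (i' : Z' ⟶ X') (j' : Z' ⟶ Y') (f : X' ⟶ X) (g : Y' ⟶ Y) (h : Z' ⟶ Z)
    (hX : IsPullback h i' i f) (hY : IsPullback h j' j g)
    [IsSeparated f] [LocallyQuasiFinite f] [LocallyOfFiniteType f] [IsSeparated g] [LocallyQuasiFinite g] [LocallyOfFiniteType g]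
    [IsSeparated h] [LocallyQuasiFinite h] [LocallyOfFiniteType h] :
    ∃ (W W' : Scheme.{u}) (a : Y ⟶ W) (b : X ⟶ W) (a' : Y' ⟶ W') (b' : X' ⟶ W') (k : W' ⟶ W),
      IsPushout j i a b ∧ IsPushout j' i' a' b' ∧ a' ≫ k = g ≫ a ∧ b' ≫ k = f ≫ b ∧
      IsSeparated k ∧ LocallyQuasiFinite k ∧ LocallyOfFiniteType k ∧ IsPullback g a' a k ∧ IsPullback f b' b k := by
  have := FlatMorPush.hasPairs_of_integral i j h3
  have : IsClosedImmersion i' := MorphismProperty.of_isPullback hX ‹IsClosedImmersion i›
  have : IsIntegralHom j' := MorphismProperty.of_isPullback hY ‹IsIntegralHom j›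
  have := FlatMorPush.hasPairs' (i := i) (j := j) (i' := i') (j' := j') hX.w hY.w
  have := FlatMorPush.isIntegralHom_inl i j
  have := FlatMorPush.isClosedImmersion_inr i j
  let k := FlatMorPush.poMap hX hY
  have hl : FlatMorPush.inl i' j' ≫ k = f ≫ FlatMorPush.inl i j := FlatMorPush.inl_poMap hX hY
  have hr : FlatMorPush.inr i' j' ≫ k = g ≫ FlatMorPush.inr i j := FlatMorPush.inr_poMap hX hY
  have : IsSeparated (FlatMorPush.inl i' j' ≫ k) := by rw [hl]; infer_instance
  have : IsSeparated (FlatMorPush.inr i' j' ≫ k) := by rw [hr]; infer_instance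
  exact ⟨_, _, FlatMorPush.inr i j, FlatMorPush.inl i j, FlatMorPush.inr i' j', FlatMorPush.inl i' j',
    k, (FlatMorPush.isPushout i j).flip, (FlatMorPush.isPushout i' j').flip, hr, hl,
    FlatMorPush.isSeparated_of_components k, FlatMorPush.locallyQuasiFinite_poMap hX hY,
    FlatMorPush.locallyOfFiniteType_poMap hX hY, FlatMorPush.isPullback_inr_poMap hX hY,
    FlatMorPush.isPullback_inl_poMap hX hY⟩

end Groth.Agent.S1465
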