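import Groth.Statements.S14659
import Mathlib
import Groth.Agent.CAlgH3.RegularLocal
-- import your own Groth.Agent.* helpers here

set_option autoImplicit false
universe u
open FiltBl

namespace Groth.Agent.S14659

/-- Let R be a Noetherian ℤ-graded commutative ring which is regular (every localization at a prime is a
regular local ring), whose degree-0 subring R_0 is a local ring, with R_1 ≠ 0 and with a homogeneous
unit in some positive degree; let N be the least positive degree in which R has a unit and t ∈ R_N a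
unit (so that R_N = t · R_0). Then C = R/(t − 1)R is a regular local ring. -/
theorem result (R : Type u) [CommRing R]
    [IsNoetherianRing R] (𝒜 : ℤ → AddSubgroup R) [GradedRing 𝒜]
    (hreg : ∀ (p : Ideal R) [p.IsPrime], IsRegularLocalRing (Localization.AtPrime p))
    [IsLocalRing (GrLC.deg0 𝒜)] (h1 : ∃ x ∈ 𝒜 1, x ≠ 0) (N : ℕ) (hN : 0 < N) (t : R)
    (ht : t ∈ 𝒜 (N : ℤ)) (htu : IsUnit t)
    (hmin : ∀ (n : ℤ), 0 < n → n < (N : ℤ) → ∀ s ∈ 𝒜 n, ¬ IsUnit s) :
    IsRegularLocalRing (R ⧸ Ideal.span {t - 1}) := by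
  classical
  obtain ⟨u, rfl⟩ := htu
  have hd0 : ∀ {a : R}, a ∈ 𝒜 0 → a ∈ GrLC.deg0 𝒜 := fun h => h
  -- the inverse of `t` is homogeneous of degree `-N`
  have hinv : ((u⁻¹ : Rˣ) : R) ∈ 𝒜 (-(N : ℤ)) := by
    have h := DirectSum.coe_decompose_mul_add_of_left_mem 𝒜 (j := -(N : ℤ)) (b := ((u⁻¹ : Rˣ) : R)) ht
    rw [Units.mul_inv, add_neg_cancel, DirectSum.decompose_of_mem_same 𝒜 (SetLike.one_mem_graded 𝒜)] at h
    rw [show ((u⁻¹ : Rˣ) : R) = (DirectSum.decompose 𝒜 ((u⁻¹ : Rˣ) : R) (-(N : ℤ)) : R) from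
      u.isUnit.mul_left_cancel (by rw [Units.mul_inv]; exact h)]
    exact SetLike.coe_mem _
  have hpw : ∀ j : ℤ, ((u ^ j : Rˣ) : R) ∈ 𝒜 (j * N) := by
    intro j
    obtain ⟨j, rfl | rfl⟩ := Int.eq_nat_or_neg j
    · rw [zpow_natCast, Units.val_pow_eq_pow_val]
      simpa using SetLike.pow_mem_graded j ht
    · rw [zpow_neg, zpow_natCast, ← inv_pow, Units.val_pow_eq_pow_val]
      simpa using SetLike.pow_mem_graded j hinv
  -- no units in degrees prime to the period
  have hnu : ∀ {n : ℤ}, ¬ (N : ℤ) ∣ n → ∀ s ∈ 𝒜 n, ¬ IsUnit s := by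
    intro n hn s hs hsu
    have h2 : s * ((u ^ (-(n / N)) : Rˣ) : R) ∈ 𝒜 (n % N) := by
      have := SetLike.mul_mem_graded hs (hpw (-(n / N)))
      rwa [show n + -(n / N) * N = n % N by rw [Int.emod_def]; ring] at this
    have h3 : n % N ≠ 0 := fun h => hn (Int.dvd_of_emod_eq_zero h)
    exact hmin (n % N) (lt_of_le_of_ne (Int.emod_nonneg _ (by omega)) (Ne.symm h3))
      (Int.emod_lt_of_pos _ (by omega)) _ h2 (hsu.mul (Units.isUnit _))
  let k := IsLocalRing.ResidueField (GrLC.deg0 𝒜)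
  let res : GrLC.deg0 𝒜 →+* k := IsLocalRing.residue _
  -- the degree-zero representative of a component of degree divisible by `N`
  have hrep : ∀ {n : ℤ}, (N : ℤ) ∣ n → ∀ s : 𝒜 n, (s : R) * ((u ^ (-(n / N)) : Rˣ) : R) ∈ GrLC.deg0 𝒜 := by
    intro n hn s
    apply hd0
    have := SetLike.mul_mem_graded s.2 (hpw (-(n / N)))
    rwa [show n + -(n / N) * N = 0 by obtain ⟨c, rfl⟩ := hn; rw [Int.mul_ediv_cancel_left _ (by omega)]; ring] at this
  let θ' : ∀ n : ℤ, 𝒜 n →+ (TrivSqZeroExt k k) := fun n =>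
    if hn : (N : ℤ) ∣ n then
      { toFun := fun s => TrivSqZeroExt.inl (res ⟨_, hrep hn s⟩) * (1 + TrivSqZeroExt.inr ((n / N : ℤ) : k))
        map_zero' := by
          rw [show (⟨_, hrep hn 0⟩ : GrLC.deg0 𝒜) = 0 from Subtype.ext (by simp), map_zero, TrivSqZeroExt.inl_zero, zero_mul]
        map_add' := fun s s' => by
          rw [← add_mul, ← TrivSqZeroExt.inl_add, ← map_add]
          congr 3
          exact Subtype.ext (by simp [add_mul]) }
    else 0
  have hθ'pos : ∀ {n : ℤ} (hn : (N : ℤ) ∣ n) (s : 𝒜 n),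
      θ' n s = TrivSqZeroExt.inl (res ⟨_, hrep hn s⟩) * (1 + TrivSqZeroExt.inr ((n / N : ℤ) : k)) := by
    intro n hn s; simp only [θ', dif_pos hn]; rfl
  have hθ'neg : ∀ {n : ℤ}, ¬ (N : ℤ) ∣ n → ∀ s : 𝒜 n, θ' n s = 0 := by
    intro n hn s; simp only [θ', dif_neg hn]; rfl
  have hone : θ' 0 (@GradedMonoid.GOne.one ℤ (fun i => 𝒜 i) _ _) = 1 := by
    rw [hθ'pos (dvd_zero _), show (⟨_, hrep (dvd_zero _) (@GradedMonoid.GOne.one ℤ (fun i => 𝒜 i) _ _)⟩ : GrLC.deg0 𝒜) = 1 from
      Subtype.ext (by simp), map_one, TrivSqZeroExt.inl_one, one_mul]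
    simp
  have hnonunit : ∀ {a : GrLC.deg0 𝒜}, ¬ IsUnit (a : R) → res a = 0 := fun {a} ha => by
    rw [IsLocalRing.residue_eq_zero_iff, IsLocalRing.mem_maximalIdeal]
    exact fun h => ha (h.map (GrLC.deg0 𝒜).subtype)
  have hmul : ∀ {i j : ℤ} (a : 𝒜 i) (b : 𝒜 j), θ' (i + j) (@GradedMonoid.GMul.mul ℤ (fun i => 𝒜 i) _ _ i j a b) = θ' i a * θ' j b := by
    intro i j a b
    by_cases hi : (N : ℤ) ∣ i
    · by_cases hj : (N : ℤ) ∣ j
      · rw [hθ'pos hi, hθ'pos hj, hθ'pos (dvd_add hi hj),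
          show (⟨_, hrep (dvd_add hi hj) (@GradedMonoid.GMul.mul ℤ (fun i => 𝒜 i) _ _ i j a b)⟩ : GrLC.deg0 𝒜) =
            ⟨_, hrep hi a⟩ * ⟨_, hrep hj b⟩ from Subtype.ext (by
              show (a : R) * b * _ = (a : R) * _ * ((b : R) * _)
              rw [Int.add_ediv_of_dvd_left hi, neg_add, zpow_add, Units.val_mul]; ring),
          map_mul, TrivSqZeroExt.inl_mul, Int.add_ediv_of_dvd_left hi, Int.cast_add, TrivSqZeroExt.inr_add]
        have hee : (TrivSqZeroExt.inr ((i / N : ℤ) : k) : (TrivSqZeroExt k k)) * TrivSqZeroExt.inr ((j / N : ℤ) : k) = 0 :=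
          TrivSqZeroExt.inr_mul_inr _ _ _
        linear_combination (-(TrivSqZeroExt.inl (res ⟨_, hrep hi a⟩) * TrivSqZeroExt.inl (res ⟨_, hrep hj b⟩) : (TrivSqZeroExt k k))) * hee
      · rw [hθ'neg hj, mul_zero, hθ'neg (fun h => hj ((dvd_add_right hi).1 h))]
    · rw [hθ'neg hi, zero_mul]
      by_cases hij : (N : ℤ) ∣ i + j
      · rw [hθ'pos hij, hnonunit (fun h => hnu hi a a.2 ?_), TrivSqZeroExt.inl_zero, zero_mul]
        have h' : IsUnit ((a : R) * b * ((u ^ (-((i + j) / N)) : Rˣ) : R)) := h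
        exact isUnit_of_mul_isUnit_left (isUnit_of_mul_isUnit_left h')
      · rw [hθ'neg hij]
  let θ : R →+* (TrivSqZeroExt k k) := (DirectSum.toSemiring θ' hone hmul).comp (DirectSum.decomposeRingEquiv 𝒜).toRingHom
  have hθof : ∀ {n : ℤ} (s : 𝒜 n), θ (s : R) = θ' n s := by
    intro n s
    show DirectSum.toSemiring θ' hone hmul (DirectSum.decompose 𝒜 (s : R)) = _
    rw [DirectSum.decompose_coe, DirectSum.toSemiring_of]
  let χ : R →+* k := (TrivSqZeroExt.fstHom k k k).toRingHom.comp θ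
  have hχ0 : ∀ a : GrLC.deg0 𝒜, χ (a : R) = res a := by
    intro a
    show (θ ((⟨(a : R), a.2⟩ : 𝒜 0) : R)).fst = _
    rw [hθof, hθ'pos (dvd_zero _)]
    have e : (⟨_, hrep (dvd_zero (N : ℤ)) (⟨(a : R), a.2⟩ : 𝒜 0)⟩ : GrLC.deg0 𝒜) = a := Subtype.ext (by simp)
    rw [e]; simp
  have hθt : θ (u : R) = 1 + TrivSqZeroExt.inr (1 : k) := by
    show θ ((⟨(u : R), ht⟩ : 𝒜 (N : ℤ)) : R) = _
    rw [hθof, hθ'pos (dvd_refl _),
      show (⟨_, hrep (dvd_refl (N : ℤ)) ⟨(u : R), ht⟩⟩ : GrLC.deg0 𝒜) = 1 from Subtype.ext (by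
        show (u : R) * _ = 1
        rw [Int.ediv_self (by omega : (N : ℤ) ≠ 0)]; simp),
      map_one, TrivSqZeroExt.inl_one, one_mul, Int.ediv_self (by omega : (N : ℤ) ≠ 0), Int.cast_one]
  set M : Ideal R := RingHom.ker χ with hM
  haveI hMmax : M.IsMaximal := RingHom.ker_isMaximal_of_surjective χ fun c => by
    obtain ⟨a, rfl⟩ := IsLocalRing.residue_surjective c
    exact ⟨a, hχ0 a⟩
  have hT : (u : R) - 1 ∈ M := by
    show (θ ((u : R) - 1)).fst = 0
    rw [map_sub, hθt, map_one]; simp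
  have hM2 : (u : R) - 1 ∉ M ^ 2 := by
    intro h
    have h2 : M ^ 2 ≤ RingHom.ker θ := by
      rw [pow_two, Ideal.mul_le]
      intro a ha b hb
      rw [RingHom.mem_ker, map_mul]
      have ha' : (θ a).fst = 0 := ha
      have hb' : (θ b).fst = 0 := hb
      ext <;> simp [TrivSqZeroExt.fst_mul, TrivSqZeroExt.snd_mul, ha', hb']
    have h3 := h2 h
    rw [RingHom.mem_ker, map_sub, hθt, map_one, add_sub_cancel_left] at h3
    exact (one_ne_zero : (1 : k) ≠ 0) (congrArg TrivSqZeroExt.snd h3)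
  -- the quotient is local with maximal ideal the image of `M`
  let B := R ⧸ Ideal.span {(u : R) - 1}
  let q : R →+* B := Ideal.Quotient.mk _
  have hq1 : q (u : R) = 1 := by
    rw [← map_one q, Ideal.Quotient.eq]; exact Ideal.mem_span_singleton_self _
  have hqpw : ∀ j : ℤ, q ((u ^ j : Rˣ) : R) = 1 := by
    intro j
    have : Units.map q.toMonoidHom u = 1 := Units.ext hq1
    show ((Units.map q.toMonoidHom (u ^ j) : Bˣ) : B) = 1
    rw [map_zpow, this, one_zpow, Units.val_one]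
  have hint : ∀ b : B, (q.comp (GrLC.deg0 𝒜).subtype).IsIntegralElem b := by
    intro b
    obtain ⟨a, rfl⟩ := Ideal.Quotient.mk_surjective b
    induction a using DirectSum.Decomposition.inductionOn 𝒜 with
    | zero => rw [map_zero]; exact RingHom.isIntegralElem_zero _
    | @homogeneous n s =>
      refine ⟨Polynomial.X ^ N - Polynomial.C ⟨(s : R) ^ N * ((u ^ (-n) : Rˣ) : R), hd0 ?_⟩,
        Polynomial.monic_X_pow_sub_C _ hN.ne', ?_⟩
      · rw [Polynomial.eval₂_sub, Polynomial.eval₂_X_pow, Polynomial.eval₂_C]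
        show q (s : R) ^ N - q ((s : R) ^ N * _) = 0
        rw [map_mul, hqpw, mul_one, map_pow, sub_self]
      · have := SetLike.mul_mem_graded (SetLike.pow_mem_graded N s.2) (hpw (-n))
        rwa [show (N • n + -n * N : ℤ) = 0 by rw [nsmul_eq_mul]; ring] at this
    | add a b ha hb => rw [map_add]; exact ha.add _ hb
  have hmapmax : (M.map q).IsMaximal := by
    refine (Ideal.map_eq_top_or_isMaximal_of_surjective q Ideal.Quotient.mk_surjective hMmax).resolve_left fun h => ?_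
    apply hMmax.ne_top
    have h2 := congrArg (Ideal.comap q) h
    rw [Ideal.comap_map_of_surjective _ Ideal.Quotient.mk_surjective, ← RingHom.ker_eq_comap_bot,
      Ideal.mk_ker, sup_eq_left.2 ((Ideal.span_singleton_le_iff_mem _).2 hT), Ideal.comap_top] at h2
    exact h2
  have hmax : ∀ Q : Ideal B, Q.IsMaximal → Q = M.map q := by
    intro Q hQ
    have hc : (Q.comap (q.comp (GrLC.deg0 𝒜).subtype)).IsMaximal :=
      Ideal.isMaximal_comap_of_isIntegral_of_isMaximal' _ hint Q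
    have hc' := IsLocalRing.eq_maximalIdeal hc
    have key : ∀ a : R, ∃ r : GrLC.deg0 𝒜, q a - q (r : R) ∈ Q ∧ χ a = res r := by
      intro a
      induction a using DirectSum.Decomposition.inductionOn 𝒜 with
      | zero => exact ⟨0, by simp, by simp⟩
      | @homogeneous n s =>
        by_cases hn : (N : ℤ) ∣ n
        · refine ⟨⟨_, hrep hn s⟩, by rw [map_mul, hqpw, mul_one, sub_self]; exact Q.zero_mem, ?_⟩
          show (θ (s : R)).fst = _
          rw [hθof, hθ'pos hn]; simp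
        · refine ⟨0, ?_, by show (θ (s : R)).fst = _; rw [hθof, hθ'neg hn]; simp⟩
          rw [ZeroMemClass.coe_zero, map_zero, sub_zero]
          refine hQ.isPrime.mem_of_pow_mem N ?_
          have hmem : (s : R) ^ N * ((u ^ (-n) : Rˣ) : R) ∈ GrLC.deg0 𝒜 := hd0 (by
            have := SetLike.mul_mem_graded (SetLike.pow_mem_graded N s.2) (hpw (-n))
            rwa [show (N • n + -n * N : ℤ) = 0 by rw [nsmul_eq_mul]; ring] at this)
          have hh : (⟨_, hmem⟩ : GrLC.deg0 𝒜) ∈ Q.comap (q.comp (GrLC.deg0 𝒜).subtype) := by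
            rw [hc', IsLocalRing.mem_maximalIdeal]
            intro hu'
            exact hnu hn s s.2 (isUnit_pow_iff hN.ne' |>.1
              (isUnit_of_mul_isUnit_left (hu'.map (GrLC.deg0 𝒜).subtype)))
          rw [Ideal.mem_comap] at hh
          have hh' : q ((s : R) ^ N * ((u ^ (-n) : Rˣ) : R)) ∈ Q := hh
          rwa [map_mul, hqpw, mul_one, map_pow] at hh'
      | add a b ha hb =>
        obtain ⟨r, hr, hr'⟩ := ha
        obtain ⟨r', hr2, hr2'⟩ := hb
        refine ⟨r + r', ?_, by simp [hr', hr2']⟩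
        rw [map_add, Subring.coe_add, map_add, add_sub_add_comm]
        exact Q.add_mem hr hr2
    have hle : M.map q ≤ Q := by
      rw [Ideal.map_le_iff_le_comap]
      intro a ha
      obtain ⟨r, hr, hr'⟩ := key a
      have hr0 : r ∈ Q.comap (q.comp (GrLC.deg0 𝒜).subtype) := by
        rw [hc']; exact (IsLocalRing.residue_eq_zero_iff _).1 (hr'.symm.trans ha)
      exact Ideal.mem_comap.2 (by simpa using Q.add_mem hr (Ideal.mem_comap.1 hr0))
    exact (((hmapmax).eq_of_le hQ.ne_top hle)).symm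
  haveI : Nontrivial B := Ideal.Quotient.nontrivial_iff.2 fun h =>
    hMmax.ne_top (top_le_iff.1 (h ▸ (Ideal.span_singleton_le_iff_mem _).2 hT))
  haveI : IsLocalRing B := IsLocalRing.of_unique_max_ideal ⟨M.map q, hmapmax, hmax⟩
  haveI : IsRegularLocalRing (Localization.AtPrime M) := hreg M
  let L := Localization.AtPrime M
  let x : L := algebraMap R L ((u : R) - 1)
  have hx : x ∈ IsLocalRing.maximalIdeal L :=
    (IsLocalization.AtPrime.to_map_mem_maximal_iff L M _).2 hT
  have hx2 : x ∉ IsLocalRing.maximalIdeal L ^ 2 := fun h => hM2 (by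
    rw [← Localization.AtPrime.map_eq_maximalIdeal, ← Ideal.map_pow, ← Ideal.mem_comap] at h
    have hprim : (M ^ 2).IsPrimary := Ideal.isPrimary_of_isMaximal_radical (by
      rw [Ideal.radical_pow M two_ne_zero, hMmax.isPrime.radical]; exact hMmax)
    rw [← Ideal.under_def, IsLocalization.under_map_of_isPrimary_disjoint M.primeCompl L hprim
      (Set.disjoint_left.2 fun y hy hy' => hy (Ideal.pow_le_self two_ne_zero hy'))] at h
    exact h)
  haveI := (Groth.Agent.CAlgH3.regular_quotient_of_notMem_sq hx hx2).1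
  -- the two descriptions agree
  have hunit : ∀ s : M.primeCompl, IsUnit (q s) := by
    intro s
    by_contra hs
    rw [← mem_nonunits_iff, ← IsLocalRing.mem_maximalIdeal,
      show IsLocalRing.maximalIdeal B = M.map q from (IsLocalRing.eq_maximalIdeal hmapmax).symm] at hs
    have h2 : (s : R) ∈ (M.map q).comap q := hs
    rw [Ideal.comap_map_of_surjective _ Ideal.Quotient.mk_surjective, ← RingHom.ker_eq_comap_bot,
      Ideal.mk_ker, sup_eq_left.2 ((Ideal.span_singleton_le_iff_mem _).2 hT)] at h2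
    exact s.2 h2
  let g₀ : L →+* B := IsLocalization.lift hunit
  let f : B →+* L ⧸ Ideal.span {x} :=
    Ideal.Quotient.lift _ ((Ideal.Quotient.mk (Ideal.span {x})).comp (algebraMap R L)) (fun a ha => by
      obtain ⟨c, rfl⟩ := Ideal.mem_span_singleton'.1 ha
      rw [RingHom.comp_apply, Ideal.Quotient.eq_zero_iff_mem, map_mul]
      exact Ideal.mul_mem_left _ _ (Ideal.mem_span_singleton_self _))
  let g : L ⧸ Ideal.span {x} →+* B := Ideal.Quotient.lift _ g₀ (fun a ha => by
    obtain ⟨c, rfl⟩ := Ideal.mem_span_singleton'.1 ha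
    rw [map_mul, IsLocalization.lift_eq, show q ((u : R) - 1) = 0 by rw [map_sub, hq1, map_one, sub_self], mul_zero])
  have hgf : g.comp f = RingHom.id B := Ideal.Quotient.ringHom_ext (RingHom.ext fun a => by
    show g₀ (algebraMap R L a) = q a
    exact IsLocalization.lift_eq hunit a)
  have hfg : f.comp g = RingHom.id _ := Ideal.Quotient.ringHom_ext
    (IsLocalization.ringHom_ext M.primeCompl (RingHom.ext fun a => by
      show f (g₀ (algebraMap R L a)) = Ideal.Quotient.mk _ (algebraMap R L a)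
      rw [IsLocalization.lift_eq]; rfl))
  exact IsRegularLocalRing.of_ringEquiv (RingEquiv.ofRingHom g f hgf hfg)

end Groth.Agent.S14659
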