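import Groth.Statements.S1466
import Groth.Agent.FlatMorH0.IsoApp

set_option autoImplicit false
universe u
open FlatMor

namespace Groth.Agent.S1466

open AlgebraicGeometry CategoryTheory Limits in
/-- Conclusions (a)–(e) (the source adds that they persist after base change in S, which is not restated
here): let f : X → Y be a proper morphism over S (structure maps X → S equal to f ≫ g and g : Y →
S), with g locally of finite presentation, f ≫ g locally of finite presentation and flat at every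
point over s, and suppose the induced morphism of fibres f_s : X_s → Y_s has all fibres of dimension
≤ 1, has H^1 of the structure sheaf vanishing over every affine open of Y_s, and induces
isomorphisms O_{Y_s}(U) → O_{X_s}(f_s⁻¹ U) for all opens U. Then there is an open V of Y containing
the fibre Y_s such that V → S and f⁻¹(V) → S are flat, every fibre of f over V has dimension ≤ 1,
H^1 of the structure sheaf vanishes over the preimage of every affine open of V, and f induces
isomorphisms O_Y(U) → O_X(f⁻¹ U) for all opens U ⊆ V. -/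
theorem result {X Y S : Scheme.{u}} (f : X ⟶ Y) (g : Y ⟶ S) [IsProper f] [LocallyOfFinitePresentation g] [LocallyOfFinitePresentation (f ≫ g)]
    (s : S) (hflat : ∀ x : X, g (f x) = s → ((f ≫ g).stalkMap x).hom.Flat)
    (hdim : ∀ y' : ↥(g.fiber s), topologicalKrullDim ↑((MoreMor.fiberMap f g s).fiber y') ≤ 1)
    (hR1 : ∀ U : (g.fiber s).Opens, IsAffineOpen U → Subsingleton (Coh.HHon ((f ≫ g).fiber s) (Coh.structureModule ((f ≫ g).fiber s)) (MoreMor.fiberMap f g s ⁻¹ᵁ U) 1))
    (hiso : ∀ U : (g.fiber s).Opens, IsIso ((MoreMor.fiberMap f g s).app U)) :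
    ∃ V : Y.Opens, g ⁻¹' {s} ⊆ (V : Set ↑Y) ∧ Flat (V.ι ≫ g) ∧ Flat ((f ⁻¹ᵁ V).ι ≫ f ≫ g) ∧
      (∀ y ∈ V, topologicalKrullDim ↑(f.fiber y) ≤ 1) ∧
      (∀ U : Y.Opens, U ≤ V → IsAffineOpen U → Subsingleton (Coh.HHon X (Coh.structureModule X) (f ⁻¹ᵁ U) 1)) ∧
      ∀ U : Y.Opens, U ≤ V → IsIso (f.app U) := by
  obtain ⟨V₀, hV, hfl, hd, h0⟩ := Groth.Agent.FlatMorH0.exists_good_nhd f g s hflat hdim hR1
  let V : Set Y := {y | ∃ (B : Type u) (_ : CommRing B) (q : Spec (CommRingCat.of B) ⟶ Y), IsOpenImmersion q ∧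
    y ∈ Set.range q ∧ (∀ z, q z ∈ V₀) ∧
    Function.Bijective (Groth.Agent.FlatMorH0.gm (pullback.snd f q)) ∧ Flat (q ≫ g)}
  have hVo : IsOpen V := isOpen_iff_forall_mem_open.2 fun y ⟨B, _, q, hq, hyq, h1, h2, h3⟩ =>
    ⟨Set.range q, fun z hz => ⟨B, _, q, hq, hz, h1, h2, h3⟩, (Scheme.Hom.isOpenEmbedding q).isOpen_range, hyq⟩
  let W : Y.Opens := ⟨V, hVo⟩
  have hVle : W ≤ V₀ := fun y ⟨B, _, q, _, ⟨z, hz⟩, h1, _, _⟩ => hz ▸ h1 z
  refine ⟨W, fun y hy => Groth.Agent.FlatMorH0.exists_bijective_nhd f g hfl hd h0 s hV hiso hy, ?_, ?_,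
    fun y hy => by exact_mod_cast hd y (hVle hy), fun U hU hUa =>
      Groth.Agent.FlatMorH0.subsingleton_HHon_of_good f hUa (fun y hy => hd y (hVle (hU hy)))
        (fun y hy => h0 y (hVle (hU hy))),
    fun U hU => Groth.Agent.FlatMorH0.isIso_app_of_local f W (fun y hy => ?_) hU⟩
  · rw [Flat.iff_flat_stalkMap]
    intro x
    obtain ⟨B, _, q, _, ⟨z, hz⟩, -, -, hqg⟩ := x.2
    have hy : (g.stalkMap (q z)).hom.Flat := by
      have h1 := (Flat.iff_flat_stalkMap (q ≫ g)).1 hqg z
      rw [Scheme.Hom.stalkMap_comp] at h1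
      have h2 := RingHom.Flat.comp h1 (RingHom.Flat.of_bijective
        (ConcreteCategory.bijective_of_isIso (inv (q.stalkMap z))))
      have h3 : ((g.stalkMap (q z) ≫ q.stalkMap z) ≫ inv (q.stalkMap z)).hom.Flat := h2
      rw [Category.assoc, IsIso.hom_inv_id, Category.comp_id] at h3
      exact h3
    rw [Scheme.Hom.stalkMap_comp]
    exact RingHom.Flat.comp (show (g.stalkMap (W.ι x)).hom.Flat from (show q z = W.ι x from hz) ▸ hy)
      (RingHom.Flat.of_bijective (ConcreteCategory.bijective_of_isIso (Scheme.Hom.stalkMap W.ι x)))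
  · rw [← X.homOfLE_ι (Scheme.Hom.preimage_mono f hVle), Category.assoc]
    infer_instance
  · obtain ⟨B, _, q, hq, hyq, -, h2, -⟩ := hy
    exact ⟨B, _, q, hq, hyq, h2⟩

end Groth.Agent.S1466
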