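import Groth.Statements.S14662
import Groth.Agent.Stk19b.SymCurve.Univ
open Groth.Agent

set_option autoImplicit false
universe u
open CategoryTheory CategoryTheory.Limits AlgebraicGeometry
open SymProd

set_option backward.isDefEq.respectTransparency.types false
set_option backward.isDefEq.respectTransparency false

namespace Groth.Agent.S14662


/-- Let S be a locally Noetherian scheme and f : C ⟶ S a proper morphism, smooth of relative dimension
1, such that every finite set of points of C lying over a single point of S is contained in an
affine open of C; let n ≥ 0 and let (Y, q, g) be an n-th symmetric power of C over S, i.e. q : C ×_S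
⋯ ×_S C ⟶ Y (n factors) is a quotient by the symmetric group permuting the factors (affine,
invariant, identifying sections of O_Y with invariant sections) and g : Y ⟶ S satisfies q ≫ g = the
structure map of the fibre power. Then g is proper and smooth. (The published statement is for a
flat projective family whose geometric fibres are connected regular curves, and concludes that the
symmetric power is proper and flat with regular geometric fibres; this row assumes only properness,
smoothness of relative dimension 1 and the affine-open property, which is what the proof uses, and
states regularity of the geometric fibres of the flat finite-type morphism g as smoothness.) -/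
theorem result {C S Y : Scheme.{u}} [IsLocallyNoetherian S]
    (f : C ⟶ S) [IsProper f] [SmoothOfRelativeDimension 1 f] (hAF : SymProd.IsAF f)
    (n : ℕ) (q : SymProd.fibPow f n ⟶ Y) (g : Y ⟶ S) (hq : SymProd.IsSymProd f n q g) :
    IsProper g ∧ Smooth g := by
  obtain ⟨H, Z, ψ, e, -, -, hdeg, hsm, he⟩ := Stk19b.SymCurve.exists_model f hAF n q g hq
  haveI := hsm
  have hp : IsProper (q ≫ g) := by
    rw [hq.over]; exact Stk19b.SymCurve.property_base @IsProper f inferInstance n
  haveI := hp
  have hg : g = e.inv.left ≫ H.hom := (Over.w e.inv).symm
  haveI : Smooth g := by rw [hg]; infer_instance
  haveI : IsSeparated g := SGA1Quot.isSeparated_of_comp hq.isQuot g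
  haveI : Surjective q := SGA1Quot.surjective hq.isQuot
  haveI : UniversallyClosed g := UniversallyClosed.of_comp_surjective q g
  exact ⟨⟨⟩, inferInstance⟩

end Groth.Agent.S14662
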