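import Groth.Statements.S14665
import Groth.Agent.SymBC17.Sections
import Groth.Agent.Stk19b.SymAff.Chart
import Groth.Agent.SGA1Quot.AffineQuot
open Groth.Agent
open scoped TensorProduct
-- import your own Groth.Agent.* helpers here

set_option autoImplicit false
universe u
open CategoryTheory CategoryTheory.Limits AlgebraicGeometry
open SymProd

set_option backward.isDefEq.respectTransparency.types false
set_option backward.isDefEq.respectTransparency false
set_option linter.style.haveILetI false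

namespace Groth.Agent.S14665

/-- The fibre power of a base change is the base change of the fibre power. -/
theorem isPullback_fibPow {X S S' : Scheme.{u}} (f : X ⟶ S) (b : S' ⟶ S) (n : ℕ)
    (c : SymProd.fibPow (pullback.snd f b) n ⟶ SymProd.fibPow f n)
    (hcπ : ∀ i : Fin n, c ≫ WidePullback.π (fun _ => f) i = WidePullback.π (fun _ => pullback.snd f b) i ≫ pullback.fst f b)
    (hcb : c ≫ WidePullback.base (fun _ => f) = WidePullback.base (fun _ => pullback.snd f b) ≫ b) :
    IsPullback c (WidePullback.base fun _ : Fin n => pullback.snd f b) (WidePullback.base fun _ : Fin n => f) b := by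
  refine IsPullback.mk' hcb (fun Z φ₁ φ₂ h₁ h₂ => WidePullback.hom_ext _ _ _ (fun i => pullback.hom_ext ?_ ?_) h₂)
    (fun Z a s h => ⟨WidePullback.lift s (fun i => pullback.lift (a ≫ WidePullback.π (fun _ : Fin n => f) i) s
      (by rw [Category.assoc, WidePullback.π_arrow, h])) (fun i => pullback.lift_snd _ _ _),
      WidePullback.hom_ext _ _ _ (fun i => ?_) ?_, WidePullback.lift_base _ _ _ _⟩)
  · simp only [Category.assoc, ← hcπ, reassoc_of% h₁]
  · simp only [Category.assoc, WidePullback.π_arrow, h₂]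
  · rw [Category.assoc, hcπ, WidePullback.lift_π_assoc, pullback.lift_fst]
  · rw [Category.assoc, hcb, WidePullback.lift_base_assoc, h]

/-- Let f : X ⟶ S be a flat morphism such that every finite set of points of X lying over a single point
of S is contained in an affine open of X, let n ≥ 0 and let (Y, q, g) be an n-th symmetric power of
X over S (q : X ×_S ⋯ ×_S X ⟶ Y a quotient of the n-fold fibre power by the symmetric group
permuting the factors: affine, invariant, identifying sections of O_Y with invariant sections; q ≫ g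
= the structure map). Then the formation of the symmetric power commutes with arbitrary base change:
for any b : S' ⟶ S, with X' = X ×_S S' and f' its projection to S', let c be the morphism from the
n-fold fibre power of X' over S' to that of X over S whose components are the first projections X' ⟶
X and which lies over b, and let q' be the morphism from the fibre power of X' to Y ×_S S' with
components c ≫ q and the structure map to S'. Then q' together with the projection Y ×_S S' ⟶ S' is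
an n-th symmetric power of X' over S'. -/
theorem result {X S S' Y : Scheme.{u}} (f : X ⟶ S) [Flat f]
    (hAF : SymProd.IsAF f) (n : ℕ) (q : SymProd.fibPow f n ⟶ Y) (g : Y ⟶ S) (hq : SymProd.IsSymProd f n q g)
    (b : S' ⟶ S)
    (c : SymProd.fibPow (pullback.snd f b) n ⟶ SymProd.fibPow f n)
    (hcπ : ∀ i : Fin n, c ≫ WidePullback.π (fun _ => f) i = WidePullback.π (fun _ => pullback.snd f b) i ≫ pullback.fst f b)
    (hcb : c ≫ WidePullback.base (fun _ => f) = WidePullback.base (fun _ => pullback.snd f b) ≫ b)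
    (q' : SymProd.fibPow (pullback.snd f b) n ⟶ pullback g b)
    (hq'₁ : q' ≫ pullback.fst g b = c ≫ q)
    (hq'₂ : q' ≫ pullback.snd g b = WidePullback.base (fun _ => pullback.snd f b)) :
    SymProd.IsSymProd (pullback.snd f b) n q' (pullback.snd g b) := by
  classical
  let f' := pullback.snd f b
  let base := WidePullback.base fun _ : Fin n => f
  let base' := WidePullback.base fun _ : Fin n => pullback.snd f b
  have hC : IsPullback c base' base b := isPullback_fibPow f b n c hcπ hcb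
  have hY : IsPullback (pullback.fst g b) (pullback.snd g b) g b := IsPullback.of_hasPullback g b
  have hX : IsPullback c q' q (pullback.fst g b) :=
    IsPullback.of_bot (by rw [hq'₂, hq.over]; exact hC) hq'₁.symm hY
  haveI := hq.isQuot.affine
  haveI : IsAffineHom q' := MorphismProperty.of_isPullback (P := @IsAffineHom) hX hq.isQuot.affine
  have hperm : ∀ σ : Equiv.Perm (Fin n), SymProd.permHom f' n σ ≫ c = c ≫ SymProd.permHom f n σ := fun σ =>
    WidePullback.hom_ext _ _ _
      (fun i => by simp only [Category.assoc, hcπ, SymProd.permHom_π, reassoc_of% SymProd.permHom_π f' n σ i, f'])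
      (by simp only [Category.assoc, hcb, SymProd.permHom_base, reassoc_of% SymProd.permHom_base f' n σ, f'])
  have hinv : ∀ σ : ULift.{u} (Equiv.Perm (Fin n)), (SymProd.permActU f' n σ).hom ≫ q' = q' := fun σ => by
    rw [SymProd.permActU_hom]
    refine pullback.hom_ext ?_ ?_
    · simp only [Category.assoc, hq'₁, reassoc_of% hperm σ.down]
      exact congrArg (c ≫ ·) (hq.isQuot.inv σ)
    · simp only [Category.assoc, hq'₂]
      exact SymProd.permHom_base f' n σ.down
  let I := {p : (S.affineOpens × X.affineOpens) × (Y.affineOpens × S'.affineOpens) //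
    p.1.2.1 ≤ f ⁻¹ᵁ p.1.1.1 ∧ p.2.1.1 ≤ g ⁻¹ᵁ p.1.1.1 ∧ p.2.2.1 ≤ b ⁻¹ᵁ p.1.1.1 ∧
      ∀ z, z ∈ q ⁻¹ᵁ p.2.1.1 ↔ base z ∈ p.1.1.1 ∧ ∀ i, (WidePullback.π (fun _ : Fin n => f) i) z ∈ p.1.2.1}
  let W : I → (pullback g b).Opens := fun i =>
    (pullback.fst g b) ⁻¹ᵁ i.1.2.1.1 ⊓ (pullback.snd g b) ⁻¹ᵁ i.1.2.2.1
  have hW : ∀ i, IsAffineOpen (W i) := fun i => by
    haveI : IsAffine i.1.1.1.1.toScheme := i.1.1.1.2
    haveI : IsAffine i.1.2.1.1.toScheme := i.1.2.1.2
    haveI : IsAffine i.1.2.2.1.toScheme := i.1.2.2.2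
    exact IsAffine.of_isIso
      (Scheme.Hom.isPullback_resLE hY i.2.2.2.1 i.2.2.1 (UY := W i) rfl).isoPullback.hom
  have main : ∀ i : I, Function.Injective (q'.app (W i)).hom ∧
      ∀ s, (∀ σ : ULift.{u} (Equiv.Perm (Fin n)), (SymProd.permActU f' n σ).hom.appLE _ _
        (SGA1.preimage_le_of_inv (SymProd.permActU f' n) q' hinv σ (W i)) s = s) → ∃ r, q'.app (W i) r = s := by
    rintro ⟨⟨⟨V, U⟩, W', V'⟩, e, e', eb, hmem⟩
    let i₀ : I := ⟨((V, U), W', V'), e, e', eb, hmem⟩
    let Ω := q ⁻¹ᵁ W'.1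
    let Ω' := q' ⁻¹ᵁ (W i₀)
    have hΩ : IsAffineOpen Ω := W'.2.preimage q
    have hb : Ω ≤ base ⁻¹ᵁ V.1 := fun z hz => ((hmem z).1 hz).1
    have hpermΩ : ∀ σ : Equiv.Perm (Fin n), Ω ≤ SymProd.permHom f n σ ⁻¹ᵁ Ω := fun σ =>
      SGA1.preimage_le_of_inv (SymProd.permActU f n) q hq.isQuot.inv ⟨σ⟩ W'.1
    have hΩ' : Ω' = c ⁻¹ᵁ Ω ⊓ base' ⁻¹ᵁ V'.1 := by
      show q' ⁻¹ᵁ (_ ⊓ _) = _
      rw [Scheme.Hom.preimage_inf, ← Scheme.Hom.comp_preimage, ← Scheme.Hom.comp_preimage, hq'₁, hq'₂,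
        Scheme.Hom.comp_preimage]
    have hle : Ω' ≤ c ⁻¹ᵁ Ω := hΩ'.le.trans inf_le_left
    have hle' : Ω' ≤ base' ⁻¹ᵁ V'.1 := hΩ'.le.trans inf_le_right
    have h₁ : IsPushout (g.appLE V.1 W'.1 e') (b.appLE V.1 V'.1 eb)
        ((pullback.fst g b).appLE W'.1 (W i₀) inf_le_left) ((pullback.snd g b).appLE V'.1 (W i₀) inf_le_right) :=
      (isIso_pushoutSection_iff hY eb e' (UY := W i₀) rfl).mp
        (isIso_pushoutSection_of_isAffineOpen hY eb e' rfl V.2 V'.2 W'.2)
    have h₂ : IsPushout (base.appLE V.1 Ω hb) (b.appLE V.1 V'.1 eb) (c.appLE Ω Ω' hle) (base'.appLE V'.1 Ω' hle') :=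
      (isIso_pushoutSection_iff hC eb hb (UY := Ω') hΩ').mp
        (isIso_pushoutSection_of_isAffineOpen hC eb hb hΩ' V.2 V'.2 hΩ)
    letI := (f.appLE V.1 U.1 e).hom.toAlgebra
    haveI : Module.Flat Γ(S, V.1) Γ(X, U.1) := f.flat_appLE V.2 U.2 e
    obtain ⟨φ, hφ, hφa, hφp⟩ := Stk19b.SymAff.exists_model f n e Ω V.2 U.2 hmem hpermΩ hb
    have ha : g.appLE V.1 W'.1 e' ≫ q.app W'.1 = base.appLE V.1 Ω hb := by
      rw [Scheme.Hom.app_eq_appLE, Scheme.Hom.appLE_comp_appLE]
      exact SGA1Quot.appLE_congr V.1 Ω _ _ hq.over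
    have hs1 : (pullback.snd g b).appLE V'.1 (W i₀) inf_le_right ≫ q'.app (W i₀) = base'.appLE V'.1 Ω' hle' := by
      rw [Scheme.Hom.app_eq_appLE, Scheme.Hom.appLE_comp_appLE]
      exact SGA1Quot.appLE_congr V'.1 Ω' _ _ hq'₂
    refine SymBC17.invariants_of_isPushout h₁ (ι := q.app W'.1) (t := c.appLE Ω Ω' hle) (by rw [ha, hs1]; exact h₂)
      (by
        rw [Scheme.Hom.app_eq_appLE, Scheme.Hom.app_eq_appLE, Scheme.Hom.appLE_comp_appLE, Scheme.Hom.appLE_comp_appLE]
        exact SGA1Quot.appLE_congr _ _ _ _ hq'₁)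
      (fun σ : ULift.{u} (Equiv.Perm (Fin n)) => (SymProd.permActU f n σ).hom.appLE Ω Ω (hpermΩ σ.down)) (fun σ => ?_)
      (fun σ : ULift.{u} (Equiv.Perm (Fin n)) => (SymProd.permActU f' n σ).hom.appLE _ _
        (SGA1.preimage_le_of_inv (SymProd.permActU f' n) q' hinv σ (W i₀))) (fun σ => ?_) (fun σ => ?_) ?_
    · rw [Scheme.Hom.app_eq_appLE, Scheme.Hom.appLE_comp_appLE]
      exact congrArg (g.appLE V.1 W'.1 e' ≫ ·) (SGA1Quot.appLE_congr _ _ _ _ (hq.isQuot.inv σ))
    · rw [Scheme.Hom.appLE_comp_appLE, Scheme.Hom.appLE_comp_appLE]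
      exact SGA1Quot.appLE_congr _ _ _ _ (hperm σ.down)
    · rw [hs1, Scheme.Hom.appLE_comp_appLE]
      exact SGA1Quot.appLE_congr _ _ _ _ (SymProd.permHom_base f' n σ.down)
    · letI : Algebra Γ(S, V.1) Γ(Y, W'.1) := (g.appLE V.1 W'.1 e').hom.toAlgebra
      letI : Algebra Γ(S, V.1) Γ(SymProd.fibPow f n, Ω) := (g.appLE V.1 W'.1 e' ≫ q.app W'.1).hom.toAlgebra
      letI : Algebra Γ(S, V.1) Γ(S', V'.1) := (b.appLE V.1 V'.1 eb).hom.toAlgebra
      let φA : (⨂[Γ(S, V.1)] _ : Fin n, Γ(X, U.1)) →ₐ[Γ(S, V.1)] Γ(SymProd.fibPow f n, Ω) :=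
        { φ with commutes' := fun r => (hφa r).trans (congrArg (fun t : Γ(S, V.1) ⟶ Γ(SymProd.fibPow f n, Ω) => t r) ha).symm }
      let φe := LinearEquiv.ofBijective φA.toLinearMap hφ
      obtain ⟨h1, h2⟩ := SymBC17.universal_of_equiv φe
        ({ (q.app W'.1).hom with commutes' := fun _ => rfl } : Γ(Y, W'.1) →ₐ[Γ(S, V.1)] Γ(SymProd.fibPow f n, Ω)).toLinearMap
        (hq.isQuot.injective W'.1)
        (fun σ => ({ ((SymProd.permHom f n σ).appLE Ω Ω (hpermΩ σ)).hom with
          commutes' := fun r => congrArg (fun t : Γ(S, V.1) ⟶ Γ(SymProd.fibPow f n, Ω) => t r)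
            (show (g.appLE V.1 W'.1 e' ≫ q.app W'.1) ≫ (SymProd.permHom f n σ).appLE Ω Ω (hpermΩ σ) =
                g.appLE V.1 W'.1 e' ≫ q.app W'.1 by
              rw [ha, Scheme.Hom.appLE_comp_appLE]
              exact SGA1Quot.appLE_congr _ _ _ _ (SymProd.permHom_base f n σ)) } :
            Γ(SymProd.fibPow f n, Ω) →ₐ[Γ(S, V.1)] Γ(SymProd.fibPow f n, Ω)).toLinearMap)
        (fun σ t => (hφp σ t).trans (congrArg φ (SymTen.perm_apply _ _ _ _ _)))
        (fun s => (hq.isQuot.range_iff W'.1 s).trans ⟨fun h σ => h ⟨σ⟩, fun h σ => h σ.down⟩)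
        Γ(S', V'.1)
      exact ⟨h1, fun y hy => h2 y fun σ => hy ⟨σ⟩⟩
  refine ⟨SGA1Quot.isQuot_of_cover (SymProd.permActU f' n) q' hinv W hW (fun y => ?_) (fun i => (main i).1)
    (fun i s hs => (main i).2 s fun σ => ?_), hq'₂⟩
  · obtain ⟨V, U, e, W', hy, e', hmem⟩ := Stk19b.SymAff.exists_chart f hAF q g hq (pullback.fst g b y)
    obtain ⟨V', hV', hyV, hle⟩ := exists_isAffineOpen_mem_and_subset (x := pullback.snd g b y) (U := b ⁻¹ᵁ V.1) (by
      show b (pullback.snd g b y) ∈ V.1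
      rw [← Scheme.Hom.comp_apply, ← pullback.condition, Scheme.Hom.comp_apply]
      exact e' hy)
    exact ⟨⟨((V, U), W', ⟨V', hV'⟩), e, e', hle, hmem⟩, hy, hyV⟩
  · have := hs σ⁻¹
    simp only [FEtQuot.act, inv_inv] at this
    exact this

end Groth.Agent.S14665
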