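import Groth.Statements.S14666
import Mathlib.AlgebraicGeometry.PullbackCarrier
import Mathlib.AlgebraicGeometry.Morphisms.Proper
import Mathlib.AlgebraicGeometry.Geometrically.Integral
open TopologicalSpace

set_option autoImplicit false
universe u
open CategoryTheory CategoryTheory.Limits AlgebraicGeometry
open AbSch

namespace Groth.Agent.S14666

theorem exists_factor_isAffine {X S Y : Scheme.{u}} (ξ : X ⟶ S) [IsAffine Y] (f : X ⟶ Y)
    (hb : Function.Bijective ξ.appTop.hom) : ∃ k : S ⟶ Y, ξ ≫ k = f := by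
  have : IsIso ξ.appTop := (ConcreteCategory.isIso_iff_bijective _).2 hb
  refine ⟨S.toSpecΓ ≫ Spec.map (f.appTop ≫ inv ξ.appTop) ≫ Y.isoSpec.inv, ext_of_isAffine ?_⟩
  simp only [Scheme.Hom.comp_appTop, Scheme.toSpecΓ_appTop, Category.assoc, Scheme.ΓSpecIso_naturality_assoc,
    IsIso.inv_hom_id, Category.comp_id]
  rw [← Scheme.toSpecΓ_appTop Y, ← Category.assoc, ← Scheme.Hom.comp_appTop, Scheme.toSpecΓ_isoSpec_inv]
  simp

theorem bijective_restrict {X S : Scheme.{u}} (ξ : X ⟶ S) (h0 : ∀ U : S.Opens, Function.Bijective (ξ.app U).hom)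
    (V : S.Opens) (W : V.toScheme.Opens) : Function.Bijective ((ξ ∣_ V).app W).hom := by
  rw [morphismRestrict_app]
  exact (ConcreteCategory.bijective_of_isIso (_ : Γ(X, _) ⟶ Γ(X, _))).comp (h0 _)

theorem epi_of_bijective {X S : Scheme.{u}} (ξ : X ⟶ S) [Surjective ξ]
    (h0 : ∀ U : S.Opens, Function.Bijective (ξ.app U).hom) : Epi ξ := by
  refine ⟨fun {Y} a b hab => ?_⟩
  have hpt : ∀ s, a s = b s := fun s => by
    obtain ⟨x, rfl⟩ := ξ.surjective s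
    rw [← Scheme.Hom.comp_apply, ← Scheme.Hom.comp_apply, hab]
  have hnb : ∀ s : S, ∃ U : Y.Opens, IsAffineOpen U ∧ a s ∈ U := fun s => by
    obtain ⟨_, ⟨U, hU, rfl⟩, hy, -⟩ :=
      Y.isBasis_affineOpens.exists_subset_of_mem_open (Set.mem_univ (a s)) isOpen_univ
    exact ⟨U, hU, hy⟩
  choose U hU hsU using hnb
  refine Scheme.Cover.hom_ext (Scheme.openCoverOfIsOpenCover S (fun s : S => a ⁻¹ᵁ U s) ?_) _ _ fun s => ?_
  · rw [IsOpenCover, eq_top_iff]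
    exact fun s _ => Opens.mem_iSup.2 ⟨s, hsU s⟩
  show (a ⁻¹ᵁ U s).ι ≫ a = (a ⁻¹ᵁ U s).ι ≫ b
  set O := a ⁻¹ᵁ U s
  have hb : Set.range (O.ι ≫ b) ⊆ Set.range (U s).ι := by
    rintro _ ⟨z, rfl⟩
    rw [Scheme.Opens.range_ι, Scheme.Hom.comp_apply, ← hpt]
    exact z.2
  have : IsAffine (U s) := hU s
  rw [← morphismRestrict_ι, ← IsOpenImmersion.lift_fac (U s).ι (O.ι ≫ b) hb]
  congr 1
  apply ext_of_isAffine
  have h : (ξ ∣_ O) ≫ (a ∣_ U s) = (ξ ∣_ O) ≫ IsOpenImmersion.lift (U s).ι (O.ι ≫ b) hb := by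
    rw [← cancel_mono (U s).ι, Category.assoc, Category.assoc, morphismRestrict_ι, IsOpenImmersion.lift_fac,
      morphismRestrict_ι_assoc, morphismRestrict_ι_assoc, hab]
  have h1 := congrArg Scheme.Hom.appTop h
  rw [Scheme.Hom.comp_appTop, Scheme.Hom.comp_appTop] at h1
  ext z
  exact (bijective_restrict ξ h0 O ⊤).1 (congr($h1 z))

variable {X Y S : Scheme.{u}} (ξ : X ⟶ S) (f : X ⟶ Y)

/-- `k` factors `f` over `V`. -/
def IsFactor (V : S.Opens) (k : V.toScheme ⟶ Y) : Prop :=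
  ∀ ⦃P : Scheme.{u}⦄ (a : P ⟶ X) (b : P ⟶ V.toScheme), a ≫ ξ = b ≫ V.ι → a ≫ f = b ≫ k

theorem exists_isFactor_nhds [IsProper ξ] [Surjective ξ] (h0 : ∀ U : S.Opens, Function.Bijective (ξ.app U).hom)
    (s : S) (hs : ∃ y : Y, ∀ x : X, ξ x = s → f x = y) :
    ∃ V : S.Opens, s ∈ V ∧ (∀ t ∈ V, ∃ y : Y, ∀ x : X, ξ x = t → f x = y) ∧ ∃ k, IsFactor ξ f V k := by
  obtain ⟨y, hy⟩ := hs
  obtain ⟨_, ⟨U, hU, rfl⟩, hyU, -⟩ :=
    Y.isBasis_affineOpens.exists_subset_of_mem_open (Set.mem_univ y) isOpen_univ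
  have : IsAffine (Scheme.Opens.toScheme U) := hU
  let V : S.Opens := ⟨(ξ '' ((f ⁻¹ᵁ U : X.Opens) : Set X)ᶜ)ᶜ,
    (ξ.isClosedMap _ (f ⁻¹ᵁ U).isOpen.isClosed_compl).isOpen_compl⟩
  have hsV : s ∈ V := by
    rintro ⟨x, hx, hxs⟩
    refine hx (show f x ∈ U from ?_)
    rw [hy x hxs]; exact hyU
  have hVU : ∀ x, ξ x ∈ V → f x ∈ U := fun x hx => by
    by_contra hc
    exact hx ⟨x, hc, rfl⟩
  let fV := IsOpenImmersion.lift (Scheme.Opens.ι U) ((ξ ⁻¹ᵁ V).ι ≫ f) (by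
    rintro _ ⟨z, rfl⟩
    rw [Scheme.Opens.range_ι]
    exact hVU _ z.2)
  obtain ⟨k, hk⟩ := exists_factor_isAffine (ξ ∣_ V) fV (bijective_restrict ξ h0 V ⊤)
  have hfac : IsFactor ξ f V (k ≫ Scheme.Opens.ι U) := by
    intro P a b hab
    let a' := IsOpenImmersion.lift (ξ ⁻¹ᵁ V).ι a (by
      rintro _ ⟨z, rfl⟩
      rw [Scheme.Opens.range_ι]
      show ξ (a z) ∈ V
      rw [← Scheme.Hom.comp_apply, hab]
      exact (b z).2)
    have h1 : a' ≫ (ξ ∣_ V) = b := by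
      rw [← cancel_mono V.ι, Category.assoc, morphismRestrict_ι, IsOpenImmersion.lift_fac_assoc, hab]
    rw [← h1, Category.assoc, reassoc_of% hk, IsOpenImmersion.lift_fac, IsOpenImmersion.lift_fac_assoc]
  refine ⟨V, hsV, fun t ht => ⟨(k ≫ Scheme.Opens.ι U) ⟨t, ht⟩, fun x hx => ?_⟩, _, hfac⟩
  have h2 := hfac (ξ ⁻¹ᵁ V).ι (ξ ∣_ V) (morphismRestrict_ι ξ V).symm
  have h3 := congr($h2 ⟨x, show ξ x ∈ V from hx ▸ ht⟩)
  simp only [Scheme.Hom.comp_apply] at h3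
  refine h3.trans (congrArg _ (congrArg k ?_))
  exact Subtype.ext ((morphismRestrict_base_coe ξ V _).trans hx)


/-- Let S be a locally Noetherian scheme, ξ : X ⟶ S a proper morphism all of whose geometric fibres are
integral and for which O_S ⟶ ξ_*O_X is an isomorphism (the map Γ(U, O_S) → Γ(ξ⁻¹U, O_X) is bijective
for every open U of S), v : Y ⟶ S an arbitrary S-scheme and f : X ⟶ Y a morphism over S. Let U be
the set of points s of S such that f sends every point of the fibre ξ⁻¹(s) to one and the same point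
of Y. Then U is open in S, and for every morphism τ : T ⟶ S the base change of f to T factors
through the projection X ×_S T ⟶ T — that is, there is r : T ⟶ Y with r ≫ v = τ and fst ≫ f = snd ≫
r on X ×_S T — if and only if τ maps every point of T into U. -/
theorem result {X Y S : Scheme.{u}} [IsLocallyNoetherian S]
    (ξ : X ⟶ S) [IsProper ξ] [GeometricallyIntegral ξ]
    (h0 : ∀ U : S.Opens, Function.Bijective (ξ.app U).hom)
    (v : Y ⟶ S) (f : X ⟶ Y) (hf : f ≫ v = ξ) :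
    IsOpen {s : ↥S | ∃ y : ↥Y, ∀ x : ↥X, ξ.base x = s → f.base x = y} ∧
    ∀ (T : Scheme.{u}) (τ : T ⟶ S),
      ((∃ r : T ⟶ Y, r ≫ v = τ ∧ pullback.fst ξ τ ≫ f = pullback.snd ξ τ ≫ r) ↔
        ∀ t : ↥T, τ.base t ∈ {s : ↥S | ∃ y : ↥Y, ∀ x : ↥X, ξ.base x = s → f.base x = y}) := by
  set Uset := {s : ↥S | ∃ y : ↥Y, ∀ x : ↥X, ξ.base x = s → f.base x = y}
  have hop : IsOpen Uset := by
    rw [isOpen_iff_forall_mem_open]
    intro s hs
    obtain ⟨V, hsV, hV, -⟩ := exists_isFactor_nhds ξ f h0 s hs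
    exact ⟨V, hV, V.isOpen, hsV⟩
  refine ⟨hop, fun T τ => ⟨?_, fun hτ => ?_⟩⟩
  · rintro ⟨r, -, hr⟩ t
    refine ⟨r t, fun x hx => ?_⟩
    obtain ⟨z, hz1, hz2⟩ := Scheme.Pullback.exists_preimage_pullback (f := ξ) (g := τ) x t hx
    have := congr($hr z)
    simp only [Scheme.Hom.comp_apply, hz1, hz2] at this
    exact this
  let W : S.Opens := ⟨Uset, hop⟩
  choose V hsV hV k hk using fun (s : W) => exists_isFactor_nhds ξ f h0 s.1 s.2
  have hVW : ∀ s, V s ≤ W := fun s t ht => hV s t ht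
  let 𝒰 := Scheme.openCoverOfIsOpenCover W.toScheme (fun s => W.ι ⁻¹ᵁ V s) (by
    rw [IsOpenCover, eq_top_iff]
    exact fun s _ => Opens.mem_iSup.2 ⟨s, hsV s⟩)
  let j : ∀ s : W, (W.ι ⁻¹ᵁ V s).toScheme ⟶ (V s).toScheme := fun s => W.ι ∣_ V s
  let kU : W.toScheme ⟶ Y := 𝒰.glueMorphisms (fun s => j s ≫ k s) (fun s t => by
    let P := pullback (𝒰.f s) (𝒰.f t)
    let i : P ⟶ S := pullback.fst (𝒰.f s) (𝒰.f t) ≫ 𝒰.f s ≫ W.ι
    let O : S.Opens := i.opensRange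
    let e : P ≅ O.toScheme := IsOpenImmersion.isoOfRangeEq i O.ι (by simp [O])
    have he : e.inv ≫ i = O.ι := IsOpenImmersion.isoOfRangeEq_inv_fac _ _ _
    have : Epi (ξ ∣_ O) := epi_of_bijective _ (bijective_restrict ξ h0 O)
    rw [← cancel_epi e.inv, ← cancel_epi (ξ ∣_ O)]
    have a1 := hk s (ξ ⁻¹ᵁ O).ι ((ξ ∣_ O) ≫ e.inv ≫ pullback.fst (𝒰.f s) (𝒰.f t) ≫ j s) (by
      rw [← morphismRestrict_ι, ← he]
      simp only [Category.assoc, i]
      congr 3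
      exact (morphismRestrict_ι _ _).symm)
    have a2 := hk t (ξ ⁻¹ᵁ O).ι ((ξ ∣_ O) ≫ e.inv ≫ pullback.snd (𝒰.f s) (𝒰.f t) ≫ j t) (by
      rw [← morphismRestrict_ι, ← he]
      simp only [Category.assoc, i, pullback.condition_assoc]
      congr 3
      exact (morphismRestrict_ι _ _).symm)
    simp only [Category.assoc] at a1 a2
    exact a1.symm.trans a2)
  have hkU : IsFactor ξ f W kU := by
    intro P a b hab
    refine Scheme.Cover.hom_ext (Scheme.openCoverOfIsOpenCover P (fun s => b ⁻¹ᵁ (W.ι ⁻¹ᵁ V s)) ?_) _ _ fun s => ?_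
    · rw [IsOpenCover, eq_top_iff]
      exact fun z _ => Opens.mem_iSup.2 ⟨b z, hsV _⟩
    · show (b ⁻¹ᵁ _).ι ≫ a ≫ f = (b ⁻¹ᵁ _).ι ≫ b ≫ kU
      have hg : (W.ι ⁻¹ᵁ V s).ι ≫ kU = j s ≫ k s := 𝒰.ι_glueMorphisms _ _ s
      rw [← morphismRestrict_ι_assoc, hg, ← Category.assoc, ← Category.assoc]
      refine hk s _ _ ?_
      simp only [Category.assoc, j, morphismRestrict_ι, hab, morphismRestrict_ι_assoc]
  let τ' := IsOpenImmersion.lift W.ι τ (by
    rintro _ ⟨z, rfl⟩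
    rw [Scheme.Opens.range_ι]
    exact hτ z)
  refine ⟨τ' ≫ kU, ?_, ?_⟩
  · have : Epi (ξ ∣_ W) := epi_of_bijective _ (bijective_restrict ξ h0 W)
    have h1 : kU ≫ v = W.ι := by
      rw [← cancel_epi (ξ ∣_ W), morphismRestrict_ι,
        ← reassoc_of% (hkU (ξ ⁻¹ᵁ W).ι (ξ ∣_ W) (morphismRestrict_ι ξ W).symm), hf]
    rw [Category.assoc, h1, IsOpenImmersion.lift_fac]
  · rw [← Category.assoc]
    refine hkU _ _ ?_
    rw [Category.assoc, IsOpenImmersion.lift_fac, pullback.condition]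

end Groth.Agent.S14666
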