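import Groth.Statements.S14667
import Groth.Agent.AbSchLib.RigidityOver
import Groth.Agent.AbSchLib.Rigidity
open Groth.Agent.AbSchLib

set_option autoImplicit false
universe u
open CategoryTheory CategoryTheory.Limits AlgebraicGeometry
open AbSch

namespace Groth.Agent.S14667

/-- Let S be a locally Noetherian scheme, ξ : X ⟶ S a proper flat morphism all of whose geometric fibres
are integral, v : Y ⟶ S a separated morphism and f : X ⟶ Y a morphism over S. Then the set U of
points s of S such that f sends every point of the fibre ξ⁻¹(s) to one and the same point of Y is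
closed and open in S. (Under flatness the condition that O_S ⟶ ξ_*O_X be an isomorphism, assumed for
openness in the non-flat case, holds automatically.) -/
theorem result {X Y S : Scheme.{u}} [IsLocallyNoetherian S]
    (ξ : X ⟶ S) [IsProper ξ] [Flat ξ] [GeometricallyIntegral ξ]
    (v : Y ⟶ S) [IsSeparated v] (f : X ⟶ Y) (hf : f ≫ v = ξ) :
    IsClosed {s : ↥S | ∃ y : ↥Y, ∀ x : ↥X, ξ.base x = s → f.base x = y} ∧ IsOpen {s : ↥S | ∃ y : ↥Y, ∀ x : ↥X, ξ.base x = s → f.base x = y} := by
  have := geometricallyConnected_of_irreducible ξ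
  have : IsLocallyNoetherian X := LocallyOfFiniteType.isLocallyNoetherian ξ
  obtain ⟨W, hW, hcl, -⟩ := exists_factor_of_local (𝟙 S) v ξ f (by rw [hf, Category.comp_id]) fun t ht =>
    exists_opens_eq_comp_section (pullback.snd ξ ξ) (pullback.diagonal ξ) (pullback.diagonal_snd ξ) _ t ht
  have hU : {s : ↥S | ∃ y : ↥Y, ∀ x : ↥X, ξ.base x = s → f.base x = y} = collapsedLocus ξ f := by
    ext s
    refine ⟨fun ⟨y, hy⟩ => mem_collapsedLocus_of_forall _ _ _ y hy, fun hs => ?_⟩
    obtain ⟨x₀, hx₀⟩ := ξ.surjective s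
    exact ⟨f x₀, fun x hx => hs ⟨x, hx, rfl⟩ ⟨x₀, hx₀, rfl⟩⟩
  rw [hU, ← hW]
  exact ⟨hcl, W.isOpen⟩

end Groth.Agent.S14667
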