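import Groth.Statements.S14668
import Groth.Agent.AbVarLib.ProjSpaceConstant
import Mathlib.AlgebraicGeometry.Morphisms.FinitePresentation
-- import your own Groth.Agent.* helpers here

set_option autoImplicit false
universe u
open CategoryTheory CategoryTheory.Limits MonoidalCategory CartesianMonoidalCategory MonObj GrpObj AlgebraicGeometry
open AbSch

namespace Groth.Agent.S14668

/-- Let S be a locally Noetherian scheme, A an abelian scheme over S (an S-group scheme whose structure
morphism is proper and flat with geometrically integral fibres), and P an S-scheme whose structure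
morphism is proper and flat and whose geometric fibres are projective spaces: for every
algebraically closed field K and every K-point of S, the fibre P ×_S Spec K is isomorphic over Spec
K to projective n-space over K for some n. Then every S-morphism P ⟶ A factors through the structure
morphism of P: it is the composite of P ⟶ S with a section S ⟶ A. -/
theorem result {S : Scheme.{u}} [IsLocallyNoetherian S]
    (A : Over S) [GrpObj A] [IsProper A.hom] [Flat A.hom] [GeometricallyIntegral A.hom]
    (P : Over S) [IsProper P.hom] [Flat P.hom]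
    (hP : ∀ (K : Type u) [Field K] [IsAlgClosed K] (s : Spec (CommRingCat.of K) ⟶ S),
      ∃ (n : ℕ) (e : pullback P.hom s ≅ CohB1.ProjSpace n K), e.hom ≫ CohB1.ProjSpace.toSpec n K = pullback.snd P.hom s)
    (φ : P ⟶ A) :
    ∃ a : 𝟙_ (Over S) ⟶ A, φ = toUnit P ≫ a := by
  obtain ⟨hc, hr⟩ := Groth.Agent.AbVarLib.ProjSpaceConstant.geometricallyConnected_and_reduced hP
  haveI : GeometricallyConnected P.hom := hc
  haveI : GeometricallyReduced P.hom := hr
  haveI : LocallyOfFinitePresentation P.hom := inferInstance
  haveI : Surjective P.hom := ⟨fun t => (P.hom.isConnected_preimage_singleton t).nonempty⟩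
  obtain ⟨W, hW, -, j, hj⟩ := Groth.Agent.AbSchLib.exists_factor_of_collapsed (T := S) (X := P.left) (Y := A.left)
    (𝟙 S) A.hom P.hom φ.left (by rw [Over.w]; exact (Category.comp_id _).symm)
  have hWt : W = ⊤ := by
    refine TopologicalSpace.Opens.ext ?_
    rw [hW]
    exact Set.eq_univ_of_forall (Groth.Agent.AbVarLib.ProjSpaceConstant.collapsed A hP φ)
  subst hWt
  let a : S ⟶ A.left := S.topIso.inv ≫ j
  have hφ : φ.left = P.hom ≫ a := by
    have h1 : (P.hom ⁻¹ᵁ ⊤).ι ≫ φ.left = (P.hom ⁻¹ᵁ ⊤).ι ≫ P.hom ≫ a := by
      rw [hj, ← morphismRestrict_ι_assoc]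
      show _ = _ ≫ S.topIso.hom ≫ S.topIso.inv ≫ j
      rw [Iso.hom_inv_id_assoc]
    haveI : IsIso (P.hom ⁻¹ᵁ ⊤).ι := inferInstanceAs (IsIso P.left.topIso.hom)
    exact (cancel_epi (P.hom ⁻¹ᵁ ⊤).ι).1 h1
  haveI : Epi P.hom := Flat.epi_of_flat_of_surjective P.hom
  have ha : a ≫ A.hom = 𝟙 S := by
    rw [← cancel_epi P.hom, ← Category.assoc, ← hφ, Over.w, Category.comp_id]
  refine ⟨Over.homMk a ha, Over.OverMorphism.ext ?_⟩
  rw [Over.comp_left, Over.toUnit_left]
  exact hφ


end Groth.Agent.S14668
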