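import Groth.Statements.S1467
import Groth.Agent.S1412
import Groth.Agent.HenselLib.StrictTransfer
-- import your own Groth.Agent.* helpers here

set_option autoImplicit false
set_option linter.all false
universe u
open FlatMor

namespace Groth.Agent.S1467

open AlgebraicGeometry CategoryTheory Limits in
/-- A morphism f : X → Y is weakly étale if and only if, for every point x of X, strict henselizations
of the local rings at f x and at x coincide under the stalk map: every strict henselization of O_{X,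
x} is, through the composite map O_{Y, f x} → O_{X, x} → (strict henselization), a strict
henselization of O_{Y, f x}. -/
theorem result {X Y : Scheme.{u}} (f : X ⟶ Y) :
    WeaklyEtale f ↔ ∀ (x : X) (R : Type u) [CommRing R] [IsLocalRing R] [Algebra ↑(X.presheaf.stalk x) R]
      [IsLocalHom (algebraMap ↑(X.presheaf.stalk x) R)] [Hensel.IsStrictHenselization ↑(X.presheaf.stalk x) R],
      letI : Algebra ↑(Y.presheaf.stalk (f x)) R := ((algebraMap ↑(X.presheaf.stalk x) R).comp (f.stalkMap x).hom).toAlgebra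
      ∃ _ : IsLocalHom (algebraMap ↑(Y.presheaf.stalk (f x)) R), Hensel.IsStrictHenselization ↑(Y.presheaf.stalk (f x)) R := by
  rw [Groth.Agent.S1412.result]
  constructor
  · intro h x R _ _ _ _ hR
    obtain ⟨h1, h2⟩ := h x
    letI : Algebra ↑(Y.presheaf.stalk (f x)) ↑(X.presheaf.stalk x) := (f.stalkMap x).hom.toAlgebra
    letI : Algebra ↑(Y.presheaf.stalk (f x)) R := ((algebraMap ↑(X.presheaf.stalk x) R).comp (f.stalkMap x).hom).toAlgebra
    haveI : IsScalarTower ↑(Y.presheaf.stalk (f x)) ↑(X.presheaf.stalk x) R := IsScalarTower.of_algebraMap_eq fun _ => rfl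
    haveI : Algebra.WeaklyEtale ↑(Y.presheaf.stalk (f x)) ↑(X.presheaf.stalk x) := ⟨h1, h2⟩
    obtain ⟨e⟩ := HenselLib.exists_equiv_localSH (R := ↑(X.presheaf.stalk x)) R
    haveI : Algebra.WeaklyEtale ↑(X.presheaf.stalk x) R := HenselLib.weaklyEtale_of_equiv e
    haveI : Algebra.WeaklyEtale ↑(Y.presheaf.stalk (f x)) R :=
      Algebra.WeaklyEtale.trans ↑(Y.presheaf.stalk (f x)) ↑(X.presheaf.stalk x) R
    haveI hloc : IsLocalHom (algebraMap ↑(Y.presheaf.stalk (f x)) R) :=
      inferInstanceAs (IsLocalHom ((algebraMap ↑(X.presheaf.stalk x) R).comp (f.stalkMap x).hom))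
    haveI := hR.henselian
    haveI := hR.isSepClosure
    haveI : IsSepClosed (IsLocalRing.ResidueField R) := IsSepClosure.sep_closed (IsLocalRing.ResidueField ↑(X.presheaf.stalk x))
    exact ⟨hloc, HenselLib.StrictTransfer.isStrictHenselization_of_weaklyEtale _ R⟩
  · intro h x
    haveI : Hensel.IsStrictHenselization ↑(X.presheaf.stalk x) (HenselLib.LocalSH ↑(X.presheaf.stalk x)) :=
      HenselLib.isStrictHenselization_localSH
    obtain ⟨hl, hS⟩ := h x (HenselLib.LocalSH ↑(X.presheaf.stalk x))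
    letI : Algebra ↑(Y.presheaf.stalk (f x)) ↑(X.presheaf.stalk x) := (f.stalkMap x).hom.toAlgebra
    letI : Algebra ↑(Y.presheaf.stalk (f x)) (HenselLib.LocalSH ↑(X.presheaf.stalk x)) :=
      ((algebraMap ↑(X.presheaf.stalk x) (HenselLib.LocalSH ↑(X.presheaf.stalk x))).comp (f.stalkMap x).hom).toAlgebra
    haveI : IsScalarTower ↑(Y.presheaf.stalk (f x)) ↑(X.presheaf.stalk x) (HenselLib.LocalSH ↑(X.presheaf.stalk x)) :=
      IsScalarTower.of_algebraMap_eq fun _ => rfl
    haveI := hl
    haveI := hS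
    obtain ⟨e⟩ := HenselLib.exists_equiv_localSH (R := ↑(Y.presheaf.stalk (f x))) (HenselLib.LocalSH ↑(X.presheaf.stalk x))
    haveI : Algebra.WeaklyEtale ↑(Y.presheaf.stalk (f x)) (HenselLib.LocalSH ↑(X.presheaf.stalk x)) :=
      HenselLib.weaklyEtale_of_equiv e
    have hw : Algebra.WeaklyEtale ↑(Y.presheaf.stalk (f x)) ↑(X.presheaf.stalk x) :=
      HenselLib.WEt.weaklyEtale_of_faithfullyFlat (C := HenselLib.LocalSH ↑(X.presheaf.stalk x))
    exact ⟨hw.flat, hw.flat_lmul'⟩

end Groth.Agent.S1467
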