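import Groth.Statements.S14670
import Groth.Agent.CAlgH3.MiracleFlat
import Groth.Agent.CAlgH3.RegularLocal
import Mathlib.RingTheory.IntegralClosure.GoingDown
-- import your own Groth.Agent.* helpers here

set_option autoImplicit false
universe u
open CAlg

namespace Groth.Agent.S14670

/-- Let R be a regular local ring and S an integral domain containing R as a subring over which it is a
finitely generated module, such that the localization of S at each of its maximal ideals is a
Cohen–Macaulay local ring. Then S is a flat R-module. (The published statement does not require S to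
be a domain; in that generality it fails — for a discrete valuation ring R with residue field κ the
ring R × κ contains R diagonally, is finite over R with Cohen–Macaulay localizations, and is not
flat — and the printed argument needs every maximal ideal of S to have height dim R, which holds
when S is a domain by going down.) -/
theorem result (R S : Type u) [CommRing R] [CommRing S]
    [IsRegularLocalRing R] [IsDomain S] [Algebra R S] [Module.Finite R S]
    (hinj : Function.Injective (algebraMap R S))
    (hCM : ∀ (q : Ideal S) [q.IsMaximal], LocCoh.IsCohenMacaulayLocalRing (Localization.AtPrime q)) :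
    Module.Flat R S := by
  haveI : IsDomain R := Groth.Agent.CAlgH3.isDomain_of_isRegularLocalRing R
  haveI : IsIntegrallyClosed R := Groth.Agent.CAlgH3.isIntegrallyClosed_of_regular R
  haveI : FaithfulSMul R S := (faithfulSMul_iff_algebraMap_injective R S).2 hinj
  haveI : Algebra.IsIntegral R S := inferInstance
  haveI : IsNoetherianRing S := IsNoetherianRing.of_finite R S
  refine Module.flat_of_isLocalized_maximal (R := R) S S (fun P _ => Localization.AtPrime P)
    (fun P _ => Algebra.linearMap S (Localization.AtPrime P)) ?_
  intro q hq
  haveI := hCM q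
  set A := Localization.AtPrime q
  have hqm : q.comap (algebraMap R S) = IsLocalRing.maximalIdeal R :=
    IsLocalRing.eq_maximalIdeal (Ideal.isMaximal_comap_of_isIntegral_of_isMaximal q)
  haveI : q.LiesOver (IsLocalRing.maximalIdeal R) := ⟨hqm.symm⟩
  have hRA : algebraMap R A = (algebraMap S A).comp (algebraMap R S) := IsScalarTower.algebraMap_eq R S A
  haveI : IsLocalHom (algebraMap R A) := by
    constructor
    intro a ha
    by_contra h
    have h1 : algebraMap R S a ∈ q := by
      rw [← Ideal.mem_comap, hqm]; exact h
    have h2 : algebraMap S A (algebraMap R S a) ∈ IsLocalRing.maximalIdeal A :=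
      (IsLocalization.AtPrime.to_map_mem_maximal_iff A q (algebraMap R S a)).2 h1
    rw [hRA] at ha
    exact h2 ha
  -- primes over the maximal ideal are maximal
  have hover : ∀ P : Ideal S, P.IsPrime →
      (IsLocalRing.maximalIdeal R).map (algebraMap R S) ≤ P → P.IsMaximal := by
    intro P hP hle
    refine Ideal.isMaximal_of_isIntegral_of_isMaximal_comap (R := R) P ?_
    haveI : (P.comap (algebraMap R S)).IsPrime := Ideal.IsPrime.comap _
    rw [← (IsLocalRing.maximalIdeal.isMaximal R).eq_of_le
      (Ideal.IsPrime.ne_top (I := P.comap (algebraMap R S)) inferInstance)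
      (Ideal.map_le_iff_le_comap.1 hle)]
    exact IsLocalRing.maximalIdeal.isMaximal R
  have hmq : (IsLocalRing.maximalIdeal R).map (algebraMap R S) ≤ q :=
    Ideal.map_le_iff_le_comap.2 hqm.ge
  have hh : q.height = (IsLocalRing.maximalIdeal R).height := by
    rw [Ideal.height_eq_height_add_of_liesOver_of_hasGoingDown (IsLocalRing.maximalIdeal R) q]
    haveI : Ring.KrullDimLE 0 (S ⧸ (IsLocalRing.maximalIdeal R).map (algebraMap R S)) := by
      rw [Ring.krullDimLE_zero_iff]
      intro I hI
      have hmax := hover (I.comap (Ideal.Quotient.mk ((IsLocalRing.maximalIdeal R).map (algebraMap R S))))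
        (Ideal.IsPrime.comap _) (fun x hx => by
        rw [Ideal.mem_comap, Ideal.Quotient.eq_zero_iff_mem.2 hx]; exact I.zero_mem)
      have := Ideal.map_eq_top_or_isMaximal_of_surjective
        (Ideal.Quotient.mk ((IsLocalRing.maximalIdeal R).map (algebraMap R S)))
        Ideal.Quotient.mk_surjective hmax
      rw [Ideal.map_comap_of_surjective _ Ideal.Quotient.mk_surjective] at this
      exact this.resolve_left hI.ne_top
    haveI : (q.map (Ideal.Quotient.mk ((IsLocalRing.maximalIdeal R).map (algebraMap R S)))).IsPrime :=
      Ideal.map_isPrime_of_surjective Ideal.Quotient.mk_surjective (by rwa [Ideal.mk_ker])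
    rw [Ideal.height_eq_zero_iff (I := q.map (Ideal.Quotient.mk
      ((IsLocalRing.maximalIdeal R).map (algebraMap R S)))) |>.2
      (Ideal.mem_minimalPrimes_of_krullDimLE_zero _), add_zero]
  have hdimA : ringKrullDim A = ringKrullDim R := by
    rw [IsLocalization.AtPrime.ringKrullDim_eq_height q A, hh,
      IsLocalRing.maximalIdeal_height_eq_ringKrullDim]
  have hfib : ringKrullDim (A ⧸ (IsLocalRing.maximalIdeal R).map (algebraMap R A)) = 0 := by
    have hne : (IsLocalRing.maximalIdeal R).map (algebraMap R A) ≠ ⊤ := fun h =>
      (IsLocalRing.maximalIdeal.isMaximal A).ne_top (top_le_iff.1 (h ▸ Ideal.map_le_iff_le_comap.2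
        (fun a ha => map_nonunit (algebraMap R A) a ha)))
    haveI := Ideal.Quotient.nontrivial_iff.2 hne
    haveI : Ring.KrullDimLE 0 (A ⧸ (IsLocalRing.maximalIdeal R).map (algebraMap R A)) := by
      rw [Ring.krullDimLE_zero_iff]
      intro I hI
      set J := I.comap (Ideal.Quotient.mk ((IsLocalRing.maximalIdeal R).map (algebraMap R A)))
      haveI : J.IsPrime := Ideal.IsPrime.comap _
      have hJ : (IsLocalRing.maximalIdeal R).map (algebraMap R A) ≤ J := fun x hx => by
        rw [Ideal.mem_comap, Ideal.Quotient.eq_zero_iff_mem.2 hx]; exact I.zero_mem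
      have hP := hover (J.comap (algebraMap S A)) (Ideal.IsPrime.comap _) (by
        rw [Ideal.map_le_iff_le_comap, Ideal.comap_comap, ← hRA, ← Ideal.map_le_iff_le_comap]
        exact hJ)
      have hJq : J.comap (algebraMap S A) ≤ q := by
        exact (Ideal.comap_mono (IsLocalRing.le_maximalIdeal_of_isPrime J)).trans_eq
          (IsLocalization.AtPrime.under_maximalIdeal A q)
      have hJmax : J = IsLocalRing.maximalIdeal A := by
        refine (IsLocalization.map_comap q.primeCompl A J).symm.trans ?_
        show (J.comap (algebraMap S A)).map (algebraMap S A) = _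
        rw [hP.eq_of_le hq.ne_top hJq, Localization.AtPrime.map_eq_maximalIdeal]
      have := Ideal.map_eq_top_or_isMaximal_of_surjective
        (Ideal.Quotient.mk ((IsLocalRing.maximalIdeal R).map (algebraMap R A)))
        Ideal.Quotient.mk_surjective (hJmax ▸ IsLocalRing.maximalIdeal.isMaximal A : J.IsMaximal)
      rw [Ideal.map_comap_of_surjective _ Ideal.Quotient.mk_surjective] at this
      exact this.resolve_left hI.ne_top
    exact ringKrullDimZero_iff_ringKrullDim_eq_zero.1 inferInstance
  exact Groth.Agent.CAlgH3.flat_of_dim_eq _ R rfl A (by rw [hdimA, hfib, add_zero])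

end Groth.Agent.S14670
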