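import Groth.Statements.S14673
import Groth.Agent.CommAlg4.SymTensor
import Groth.Agent.SymGen5.Gen

set_option autoImplicit false
universe u
open scoped TensorProduct
open SymTen

namespace Groth.Agent.S14673

/-- Let R be a commutative ring, A a commutative R-algebra which is flat as an R-module, and n ≥ 0. For
a ∈ A and j ≥ 0 write σ_j(a) for the j-th elementary symmetric polynomial in the n elements 1 ⊗ ⋯ ⊗
a ⊗ ⋯ ⊗ 1 of the n-fold tensor power of A over R, that is, the sum over the j-element sets I of
indices of the pure tensors having a in the places of I and 1 in the other places. Then the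
subalgebra TS^n_R(A) of symmetric tensors (tensors fixed by every permutation of the factors) equals
the R-subalgebra generated by all the σ_j(a). -/
theorem result (R : Type u) [CommRing R] (A : Type u) [CommRing A] [Algebra R A]
    [Module.Flat R A] (n : ℕ) :
    SymTen.TS R A n = Algebra.adjoin R {t : ⨂[R] _ : Fin n, A | ∃ (a : A) (j : ℕ),
      t = ∑ I ∈ (Finset.univ : Finset (Fin n)).powersetCard j,
        PiTensorProduct.tprod R (fun i : Fin n => if i ∈ I then a else (1 : A))} := by
  classical
  refine le_antisymm (fun t ht => ?_) (Algebra.adjoin_le ?_)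
  · obtain ⟨m, ψ, s, hs, hst, -⟩ := Groth.Agent.CommAlg4.exists_symm_lift (R := R) (M := A) n (ι := Unit)
      (fun _ => (0 : R)) (fun _ => t) (fun σ _ => ht σ) (by simp)
    let b := Basis.piTensorProduct fun _ : Fin n => Pi.basisFun R (Fin m)
    let c : (Fin n → Fin m) → R := fun g => b.repr (s ()) g
    let a : Option (Fin m) → A := fun o => o.elim 1 fun i => ψ (Pi.basisFun R (Fin m) i)
    have hexp : t = ∑ g : Fin n → Fin m, c g • PiTensorProduct.tprod R (a ∘ some ∘ g) := by
      rw [← hst ()]
      conv_lhs => rw [← b.sum_repr (s ())]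
      rw [map_sum]
      refine Finset.sum_congr rfl fun g _ => ?_
      rw [map_smul]
      simp [b, c, a, Basis.piTensorProduct_apply, Function.comp_def]
    have hc : ∀ g g' : Fin n → Fin m, Groth.Agent.SymGen5.cnt g' = Groth.Agent.SymGen5.cnt g → c g' = c g := by
      intro g g' h
      obtain ⟨σ, rfl⟩ := Groth.Agent.SymGen5.exists_perm_of_cnt (congrFun h)
      have := Groth.Agent.CommAlg4.repr_reindex (R := R) n m σ (s ()) g
      rw [hs σ ()] at this
      exact this.symm
    rw [hexp, ← Finset.sum_fiberwise_of_maps_to (g := fun g : Fin n → Fin m => Groth.Agent.SymGen5.cnt g)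
      (fun g _ => Finset.mem_image_of_mem _ (Finset.mem_univ g))]
    refine sum_mem fun k hk => ?_
    obtain ⟨g₀, -, rfl⟩ := Finset.mem_image.1 hk
    rw [Finset.sum_congr rfl fun g hg => by rw [hc g₀ g (Finset.mem_filter.1 hg).2], ← Finset.smul_sum]
    refine Subalgebra.smul_mem _ ?_ _
    have hinj : Function.Injective fun g : Fin n → Fin m => (some ∘ g : Fin n → Option (Fin m)) :=
      fun g g' h => funext fun p => Option.some_injective _ (congrFun h p)
    let F := (Finset.univ.filter fun g : Fin n → Fin m =>
      Groth.Agent.SymGen5.cnt g = Groth.Agent.SymGen5.cnt g₀).map ⟨_, hinj⟩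
    have hmem := Groth.Agent.SymGen5.sum_orbit_mem (R := R) n (Option (Fin m)) none a rfl F (fun h hh σ => by
        obtain ⟨g, hg, rfl⟩ := Finset.mem_map.1 hh
        refine Finset.mem_map.2 ⟨g ∘ σ, ?_, rfl⟩
        rw [Finset.mem_filter] at hg ⊢
        exact ⟨Finset.mem_univ _, (funext (Groth.Agent.SymGen5.cnt_comp_perm g σ)).trans hg.2⟩)
      (fun h _ => le_of_le_of_eq (Finset.card_le_univ _) (Fintype.card_fin n))
    rwa [Finset.sum_map] at hmem
  · rintro _ ⟨a, j, rfl⟩ σ
    rw [map_sum]
    simp only [PiTensorProduct.reindex_tprod]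
    refine Finset.sum_bij' (fun I _ => I.map σ.toEmbedding) (fun I _ => I.map σ.symm.toEmbedding) ?_ ?_ ?_ ?_ ?_
    · intro I hI; simp [Finset.mem_powersetCard] at hI ⊢; exact hI
    · intro I hI; simp [Finset.mem_powersetCard] at hI ⊢; exact hI
    · intro I _; ext x; simp
    · intro I _; ext x; simp
    · intro I _
      congr 1
      funext x
      simp

end Groth.Agent.S14673
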