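import Groth.Statements.S14674
import Groth.Agent.CubeS27.Basic
import Groth.Agent.AbSchLib.RigidityOver
-- import your own Groth.Agent.* helpers here

set_option autoImplicit false
set_option linter.style.haveILetI false
set_option backward.isDefEq.respectTransparency.types false
universe u
open CategoryTheory CategoryTheory.Limits MonoidalCategory CartesianMonoidalCategory MonObj GrpObj AlgebraicGeometry
open AbSch

namespace Groth.Agent.S14674

open CategoryTheory CategoryTheory.Limits MonObj AlgebraicGeometry in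
open Groth.Agent in
/-- Let S be a locally Noetherian scheme, X an abelian scheme over S (an S-group scheme whose structure
morphism α is proper and flat with geometrically integral fibres) with unit section e : S ⟶ X, L an
invertible O_X-module and n an integer; write [n] for the n-th multiple of the identity in the group
of S-endomorphisms of X. Then [n]^*L ⊗ α^*(e^*L)^{⊗ n²} is isomorphic to L^{⊗(n²+n)/2} ⊗
[-1]^*L^{⊗(n²−n)/2} ⊗ α^*e^*L; equivalently [n]^*L ≅ L^{⊗(n²+n)/2} ⊗ [-1]^*L^{⊗(n²−n)/2} ⊗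
[0]^*L^{⊗(1−n²)} with [0]^*L = α^*e^*L (existence of an isomorphism of O_X-modules only). -/
theorem result {S : Scheme.{u}} [IsLocallyNoetherian S] (X : Over S) [GrpObj X] [IsProper X.hom] [Flat X.hom] [GeometricallyIntegral X.hom]
    (L : X.left.Modules) (hL : PicF.IsInvertible L) (n : ℤ) :
    Nonempty (CohB1.tensorMod ((Scheme.Modules.pullback (𝟙 X ^ n).left).obj L)
        ((Scheme.Modules.pullback X.hom).obj (CohB1.tensorPow ((Scheme.Modules.pullback (η[X]).left).obj L) (n.natAbs ^ 2))) ≅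
      CohB1.tensorMod (CohB1.tensorMod (CohB1.tensorPow L ((n ^ 2 + n) / 2).toNat)
          ((Scheme.Modules.pullback (𝟙 X ^ (-1 : ℤ)).left).obj (CohB1.tensorPow L ((n ^ 2 - n) / 2).toNat)))
        ((Scheme.Modules.pullback X.hom).obj ((Scheme.Modules.pullback (η[X]).left).obj L))) := by
  haveI : GeometricallyConnected X.hom := AbSchLib.geometricallyConnected_of_irreducible X.hom
  haveI : LocallyOfFinitePresentation X.hom :=
    Coherent.CohBC.locallyOfFinitePresentation_of_isLocallyNoetherian _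
  have hp : ∀ {Y : Scheme.{u}} (g : Y ⟶ X.left), PicF.IsInvertible ((Scheme.Modules.pullback g).obj L) :=
    fun g => PicLoc.isInvertible_pullback _ hL
  have hη : PicF.IsInvertible ((Scheme.Modules.pullback η[X].left).obj L) := hp _
  have hηn := PicLoc.isInvertible_pullback X.hom (AmpleLib.isInvertible_tensorPow hη (n.natAbs ^ 2))
  have hLn := AmpleLib.isInvertible_tensorPow hL ((n ^ 2 + n) / 2).toNat
  have hLm := PicLoc.isInvertible_pullback (𝟙 X ^ (-1 : ℤ)).left
    (AmpleLib.isInvertible_tensorPow hL ((n ^ 2 - n) / 2).toNat)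
  have eT : PicLib.PicM.of hLn = PicLib.PicM.of hL ^ ((n ^ 2 + n) / 2).toNat := PicLib.PicM.of_tensorPow hL _
  have eU : PicLib.PicM.of hLm =
      PicLib.PicM.pull (𝟙 X ^ (-1 : ℤ)).left (PicLib.PicM.of hL) ^ ((n ^ 2 - n) / 2).toNat := by
    rw [← map_pow, ← PicLib.PicM.of_tensorPow hL, PicLib.PicM.pull_of]
  have e1 : PicLib.PicM.of hηn =
      PicLib.PicM.pull X.hom (PicLib.PicM.pull η[X].left (PicLib.PicM.of hL) ^ (n.natAbs ^ 2)) := by
    rw [PicLib.PicM.pull_of η[X].left hL, ← PicLib.PicM.of_tensorPow hη, PicLib.PicM.pull_of]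
  refine (PicLib.PicM.of_eq_iff (AmpleLib.isInvertible_tensorMod (hp _) hηn)
    (AmpleLib.isInvertible_tensorMod (AmpleLib.isInvertible_tensorMod hLn hLm)
      (PicLoc.isInvertible_pullback X.hom hη))).1 ?_
  rw [← PicLib.PicM.of_mul (hp _) hηn, ← PicLib.PicM.of_mul (AmpleLib.isInvertible_tensorMod hLn hLm)
    (PicLoc.isInvertible_pullback X.hom hη), ← PicLib.PicM.of_mul hLn hLm, e1, eT, eU, map_pow]
  show CubeS27.pb (𝟙 X ^ n) (PicLib.PicM.of hL) *
      PicLib.PicM.pull X.hom (PicLib.PicM.pull η[X].left (PicLib.PicM.of hL)) ^ n.natAbs ^ 2 =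
    _ * _ * PicLib.PicM.pull X.hom (PicLib.PicM.pull η[X].left (PicLib.PicM.of hL))
  rw [← CubeS27.pb_one_eq X]
  have h := CubeS27.pb_zpow' (PicLib.PicM.of hL) (𝟙 X) n
  rw [show (n ^ 2 : ℤ) = ((n.natAbs ^ 2 : ℕ) : ℤ) by rw [Nat.cast_pow, Int.natAbs_sq]] at h
  rw [zpow_natCast] at h
  simpa [CubeS27.pb, PicLib.PicM.pull_id, zpow_neg_one] using h

end Groth.Agent.S14674
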