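import Groth.Statements.S14676
import Mathlib.Algebra.Category.ModuleCat.Abelian
import Mathlib.CategoryTheory.Limits.Shapes.Countable
import Mathlib.CategoryTheory.Limits.Types.Pullbacks
import Mathlib.Dynamics.Newton
import Mathlib.Order.CompletePartialOrder
import Mathlib.RingTheory.AdicCompletion.Noetherian
import Mathlib.RingTheory.Etale.Weakly
import Mathlib.RingTheory.Flat.TorsionFree
import Mathlib.RingTheory.Ideal.AssociatedPrime.Localization
import Mathlib.RingTheory.PicardGroup
import Mathlib.RingTheory.PowerSeries.NoZeroDivisors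
import Mathlib.RingTheory.PowerSeries.Trunc
import Mathlib.RingTheory.TotallySplit
import Mathlib.Tactic
import Groth.Agent.CommAlg4.Nilpotent
import Groth.Agent.S14020

set_option linter.all false

set_option autoImplicit false
universe u
open CAlg

open CategoryTheory

namespace Groth.Agent.S14676

/-- Let A be a commutative ring which is separated and complete for the I-adic topology of an ideal I,
let P be any polynomial over A (not assumed monic) and a₀ an element of A such that P(a₀) lies in I
and P'(a₀) is a unit modulo I. Then there is a unique a in A congruent to a₀ modulo I with P(a) = 0. -/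
theorem result (A : Type u) [CommRing A] (I : Ideal A) [IsAdicComplete I A]
    (P : Polynomial A) (a₀ : A) (h₀ : P.eval a₀ ∈ I)
    (h₁ : IsUnit (Ideal.Quotient.mk I (P.derivative.eval a₀))) :
    ∃! a : A, a - a₀ ∈ I ∧ P.IsRoot a := by
  have hu : IsUnit (P.derivative.eval a₀) := by
    obtain ⟨c, hc⟩ := h₁.exists_right_inv
    obtain ⟨c, rfl⟩ := Ideal.Quotient.mk_surjective c
    rw [← map_mul, ← map_one (Ideal.Quotient.mk I), Ideal.Quotient.eq] at hc
    have hj := IsAdicComplete.le_jacobson_bot I hc
    have := Ideal.mem_jacobson_bot.mp hj 1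
    simp at this
    exact this.1
  have hN : ∀ n, ∃! r : A ⧸ I ^ (n+1), IsNilpotent (Ideal.Quotient.mk (I ^ (n+1)) a₀ - r) ∧ Polynomial.aeval r P = 0 := by
    intro n
    refine Polynomial.existsUnique_nilpotent_sub_and_aeval_eq_zero (x := Ideal.Quotient.mk (I ^ (n+1)) a₀) ⟨n+1, ?_⟩ ?_
    · rw [← Ideal.Quotient.algebraMap_eq, Polynomial.aeval_algebraMap_apply, Polynomial.coe_aeval_eq_eval, Ideal.Quotient.algebraMap_eq, ← map_pow, Ideal.Quotient.eq_zero_iff_mem]
      exact Ideal.pow_mem_pow h₀ _
    · rw [← Ideal.Quotient.algebraMap_eq, Polynomial.aeval_algebraMap_apply, Polynomial.coe_aeval_eq_eval]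
      exact hu.map _
  choose r hr hr' using hN
  choose f hf using fun n => Ideal.Quotient.mk_surjective (r n)
  have heval : ∀ n, P.eval (f n) ∈ I ^ (n+1) := by
    intro n
    have := (hr n).2
    rw [← hf n, ← Ideal.Quotient.algebraMap_eq, Polynomial.aeval_algebraMap_apply, Polynomial.coe_aeval_eq_eval, Ideal.Quotient.algebraMap_eq] at this
    exact Ideal.Quotient.eq_zero_iff_mem.mp this
  have hI : ∀ n, f n - a₀ ∈ I.radical := by
    intro n
    obtain ⟨k, hk⟩ := (hr n).1
    rw [← hf n, ← map_sub, ← map_pow, Ideal.Quotient.eq_zero_iff_mem] at hk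
    exact neg_sub a₀ (f n) ▸ neg_mem (Ideal.mem_radical_of_pow_mem (m := k) (Ideal.le_radical (Ideal.pow_le_self n.succ_ne_zero hk)))
  have uniq : ∀ n x, x - a₀ ∈ I.radical → P.eval x ∈ I ^ (n+1) → x - f n ∈ I ^ (n+1) := by
    intro n x hx hx'
    rw [← Ideal.Quotient.eq, hf n]
    refine hr' n _ ⟨?_, ?_⟩
    · obtain ⟨k, hk⟩ := (neg_sub x a₀ ▸ neg_mem hx : a₀ - x ∈ I.radical)
      refine ⟨k * (n+1), ?_⟩
      rw [← map_sub, ← map_pow, Ideal.Quotient.eq_zero_iff_mem, pow_mul]
      exact Ideal.pow_mem_pow hk _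
    · rw [← Ideal.Quotient.algebraMap_eq, Polynomial.aeval_algebraMap_apply, Polynomial.coe_aeval_eq_eval]
      exact Ideal.Quotient.eq_zero_iff_mem.mpr hx'
  obtain ⟨L, hL⟩ := IsPrecomplete.prec (I := I) (M := A) inferInstance (f := f) (fun {m n} hmn => by
    rw [SModEq.sub_mem]
    simp only [smul_eq_mul, Ideal.mul_top]
    have := uniq m (f n) (hI n) (Ideal.pow_le_pow_right (by omega) (heval n))
    exact Ideal.pow_le_pow_right m.le_succ (neg_sub (f n) (f m) ▸ neg_mem this))
  simp only [SModEq.sub_mem, smul_eq_mul, Ideal.mul_top] at hL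
  have hroot : P.IsRoot L := by
    refine IsHausdorff.haus (I := I) inferInstance _ fun n => ?_
    rw [SModEq.zero, smul_eq_mul, Ideal.mul_top]
    have h2 : P.eval (f n) - P.eval L ∈ I ^ n :=
      Ideal.mem_of_dvd _ (Polynomial.sub_dvd_eval_sub _ _ P) (hL n)
    simpa using sub_mem (Ideal.pow_le_pow_right n.le_succ (heval n)) h2
  refine ⟨L, ⟨?_, hroot⟩, fun y ⟨hy, hy'⟩ => ?_⟩
  · have h00 := uniq 0 a₀ (by simp) (by simpa using h₀)
    have h1 : f 1 - L ∈ I := by simpa using hL 1
    have h2 : f 0 - f 1 ∈ I := by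
      have := uniq 0 (f 1) (hI 1) (Ideal.pow_le_pow_right (by omega) (heval 1))
      simp only [zero_add, pow_one] at this
      simpa using neg_mem this
    simp only [zero_add, pow_one] at h00
    have := add_mem (add_mem h00 h2) h1
    have h3 : a₀ - L ∈ I := by convert this using 1; ring
    simpa using neg_mem h3
  · refine IsHausdorff.eq_iff_smodEq (I := I) |>.mpr fun n => ?_
    rw [SModEq.sub_mem, smul_eq_mul, Ideal.mul_top]
    have := uniq n y (Ideal.le_radical hy) (by rw [hy'.eq_zero]; exact zero_mem _)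
    have := add_mem (Ideal.pow_le_pow_right n.le_succ this) (hL n)
    simpa using this

end Groth.Agent.S14676
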