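import Groth.Statements.S14677
import Mathlib
import Groth.Prelude

set_option linter.all false

set_option autoImplicit false
universe u
open CAlg


namespace Groth.Agent.S14677

/-- Let A be a Noetherian commutative ring, I and J ideals of A and M a finitely generated A-module.
Then the map of I-adic completions induced by the inclusion of the submodule JM into M is injective
with image exactly J·M̂, where M̂ is the I-adic completion of M; that is, the completion of JM is J
times the completion of M. (The published statement does not say that A is Noetherian; its proof
uses exactness of completion on finitely generated modules, which needs it, so this row assumes A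
Noetherian.) -/
theorem result (A : Type u) [CommRing A] [IsNoetherianRing A] (I J : Ideal A)
    (M : Type u) [AddCommGroup M] [Module A M] [Module.Finite A M] :
    Function.Injective (AdicCompletion.map I (J • (⊤ : Submodule A M)).subtype) ∧
      LinearMap.range (AdicCompletion.map I (J • (⊤ : Submodule A M)).subtype) =
        (J.map (algebraMap A (AdicCompletion I A))) • (⊤ : Submodule (AdicCompletion I A) (AdicCompletion I M)) := by
  refine ⟨AdicCompletion.map_injective I Subtype.val_injective, le_antisymm ?_ ?_⟩
  · rintro _ ⟨y, rfl⟩
    obtain ⟨z, rfl⟩ := AdicCompletion.ofTensorProduct_surjective_of_finite I ↥(J • (⊤ : Submodule A M)) y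
    induction z using TensorProduct.induction_on with
    | zero => simp
    | add a b ha hb => rw [map_add, map_add]; exact Submodule.add_mem _ ha hb
    | tmul c x =>
      rw [AdicCompletion.ofTensorProduct_tmul, map_smul, AdicCompletion.map_of]
      refine Submodule.smul_mem _ c ?_
      obtain ⟨x, hx⟩ := x
      show AdicCompletion.of I M x ∈ _
      refine Submodule.smul_induction_on hx (fun j hj m _ => ?_) fun a b ha hb => ?_
      · rw [map_smul, ← algebraMap_smul (AdicCompletion I A) j]
        exact Submodule.smul_mem_smul (Ideal.mem_map_of_mem _ hj) trivial
      · rw [map_add]; exact Submodule.add_mem _ ha hb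
  · rw [Ideal.map, Submodule.span_smul_eq, Submodule.set_smul_le_iff]
    rintro _ y ⟨j, hj, rfl⟩ -
    obtain ⟨z, rfl⟩ := AdicCompletion.ofTensorProduct_surjective_of_finite I M y
    induction z using TensorProduct.induction_on with
    | zero => simp
    | add a b ha hb => rw [map_add, smul_add]; exact Submodule.add_mem _ ha hb
    | tmul c x =>
      rw [AdicCompletion.ofTensorProduct_tmul, smul_comm, algebraMap_smul, ← map_smul]
      refine Submodule.smul_mem _ c ⟨AdicCompletion.of I _ ⟨j • x, Submodule.smul_mem_smul hj trivial⟩, ?_⟩
      rw [AdicCompletion.map_of]; rfl

end Groth.Agent.S14677
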