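import Groth.Statements.S14678
import Groth.Agent.HenselLib.RealizeResidue
import Mathlib.AlgebraicGeometry.Morphisms.Preimmersion
import Mathlib.AlgebraicGeometry.ResidueField
import Mathlib.AlgebraicGeometry.Morphisms.ClosedImmersion
import Mathlib.AlgebraicGeometry.Morphisms.Flat
import Mathlib.AlgebraicGeometry.Morphisms.FinitePresentation

set_option autoImplicit false
universe u
open CategoryTheory CategoryTheory.Limits AlgebraicGeometry
open EtBase

namespace Groth.Agent.S14678

set_option maxHeartbeats 1000000 in
/-- Let S be a scheme, s a point of S and ℓ a finite field extension of the residue field κ(s). Then,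
fppf-locally around s, ℓ occurs as a residue field: there are an affine scheme U', a flat morphism b
: U' ⟶ S locally of finite presentation (so with open image containing s) and a morphism t : Spec ℓ
⟶ U' over the canonical morphism Spec ℓ ⟶ Spec κ(s) ⟶ S which is a preimmersion, i.e. the inclusion
of a point s' of U' above s together with an identification of κ(s') with ℓ over κ(s); such a point
is closed in its fibre over s. (The published statement gives an affine open neighbourhood U of s
and an fppf morphism U' ⟶ U; this row asks only for a flat, locally finitely presented U' ⟶ S, whose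
open image then contains s.) -/
theorem result (S : Scheme.{u}) (s : ↥S)
    (ℓ : Type u) [Field ℓ] [Algebra (S.residueField s) ℓ] [Module.Finite (S.residueField s) ℓ] :
    ∃ (U' : Scheme.{u}) (b : U' ⟶ S) (t : Spec (CommRingCat.of ℓ) ⟶ U'),
      IsAffine U' ∧ Flat b ∧ LocallyOfFinitePresentation b ∧ IsPreimmersion t ∧
        t ≫ b = Spec.map (CommRingCat.ofHom (algebraMap (S.residueField s) ℓ)) ≫ S.fromSpecResidueField s := by
  obtain ⟨U, hU, hsU, -⟩ := exists_isAffineOpen_mem_and_subset (X := S) (x := s) (U := ⊤) trivial
  let φ : Γ(S, U) →+* S.residueField s := (S.presheaf.germ U s hsU ≫ S.residue s).hom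
  have hφ : Groth.Agent.HenselLib.Realize.Dense φ := by
    intro x
    obtain ⟨z, rfl⟩ := S.residue_surjective s x
    haveI := hU.isLocalization_stalk ⟨s, hsU⟩
    letI : Algebra Γ(S, U) (S.presheaf.stalk s) := S.presheaf.algebra_section_stalk ⟨s, hsU⟩
    obtain ⟨⟨a, b⟩, hab⟩ := IsLocalization.surj (hU.primeIdealOf ⟨s, hsU⟩).asIdeal.primeCompl z
    refine ⟨a, b.1, ?_, ?_⟩
    · exact (((IsLocalization.map_units (S.presheaf.stalk s) b)).map (S.residue s).hom).ne_zero
    · show (S.residue s).hom (algebraMap _ _ b.1) * (S.residue s).hom z = (S.residue s).hom (algebraMap _ _ a)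
      rw [← map_mul, mul_comm, hab]
  obtain ⟨B, _, _, ψ, hfp, hflat, hψ, hdense⟩ :=
    Groth.Agent.HenselLib.Realize.exists_finite_free hφ (L := ℓ)
  haveI : (RingHom.ker ψ).IsPrime := RingHom.ker_isPrime ψ
  let θ : Localization.AtPrime (RingHom.ker ψ) →+* ℓ :=
    IsLocalization.lift (M := (RingHom.ker ψ).primeCompl) (g := ψ) (fun y => isUnit_iff_ne_zero.mpr y.2)
  have hθ : θ.comp (algebraMap B (Localization.AtPrime (RingHom.ker ψ))) = ψ := IsLocalization.lift_comp _
  haveI : IsClosedImmersion (Spec.map (CommRingCat.ofHom θ)) :=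
    IsClosedImmersion.spec_of_surjective _
      (Groth.Agent.HenselLib.Realize.surjective_localRingHom hdense θ hθ)
  haveI : IsPreimmersion (Spec.map (CommRingCat.ofHom (algebraMap B (Localization.AtPrime (RingHom.ker ψ))))) :=
    IsPreimmersion.of_isLocalization (RingHom.ker ψ).primeCompl
  haveI : Flat (Spec.map (CommRingCat.ofHom (algebraMap Γ(S, U) B))) := by
    rw [HasRingHomProperty.Spec_iff (P := @Flat)]
    exact RingHom.flat_algebraMap_iff.mpr hflat
  haveI : LocallyOfFinitePresentation (Spec.map (CommRingCat.ofHom (algebraMap Γ(S, U) B))) := by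
    rw [HasRingHomProperty.Spec_iff (P := @LocallyOfFinitePresentation)]
    exact RingHom.finitePresentation_algebraMap.mpr hfp
  refine ⟨Spec (CommRingCat.of B), Spec.map (CommRingCat.ofHom (algebraMap Γ(S, U) B)) ≫ hU.fromSpec,
    Spec.map (CommRingCat.ofHom θ) ≫ Spec.map (CommRingCat.ofHom (algebraMap B (Localization.AtPrime (RingHom.ker ψ)))),
    inferInstance, inferInstance, inferInstance, inferInstance, ?_⟩
  rw [Scheme.fromSpecResidueField, ← hU.fromSpecStalk_eq_fromSpecStalk hsU, IsAffineOpen.fromSpecStalk]
  simp only [Category.assoc]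
  simp only [← Spec.map_comp_assoc]
  refine congrArg (fun m => Spec.map m ≫ hU.fromSpec) ?_
  ext a
  show θ (algebraMap B _ (algebraMap Γ(S, U) B a)) = algebraMap _ ℓ (φ a)
  rw [← RingHom.comp_apply θ, hθ, ← RingHom.comp_apply, hψ]
  rfl

end Groth.Agent.S14678
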