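import Groth.Statements.S14679
import Mathlib.AlgebraicGeometry.ResidueField
import Mathlib.AlgebraicGeometry.PullbackCarrier

set_option autoImplicit false
universe u
open CategoryTheory CategoryTheory.Limits AlgebraicGeometry
open EtBase

namespace Groth.Agent.S14679

/-- Given a morphism of schemes f : X ⟶ Y and a point x ∈ X with image y = f(x), such that the residue
field map κ(y) → κ(x) is bijective; let ℓ be an algebraic extension field of κ(y) and form the base
change X ×_Y Spec ℓ along Spec ℓ ⟶ Spec κ(y) ⟶ Y. Then there is exactly one point of X ×_Y Spec ℓ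
mapping to x under the first projection. (The published statement takes ℓ to be an algebraic closure
of κ(y), noting that any algebraic extension works, and also identifies the local ring at the point
with O_{X,x} ⊗_{O_{Y,y}} ℓ; this row allows any algebraic extension ℓ and states only the first
assertion.) -/
theorem result {X Y : Scheme.{u}} (f : X ⟶ Y) (x : ↥X)
    (hx : Function.Bijective (f.residueFieldMap x).hom)
    (ℓ : Type u) [Field ℓ] [Algebra (Y.residueField (f.base x)) ℓ] [Algebra.IsAlgebraic (Y.residueField (f.base x)) ℓ] :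
    ∃! z : ↥(pullback f (Spec.map (CommRingCat.ofHom (algebraMap (Y.residueField (f.base x)) ℓ)) ≫ Y.fromSpecResidueField (f.base x))),
      (pullback.fst f (Spec.map (CommRingCat.ofHom (algebraMap (Y.residueField (f.base x)) ℓ)) ≫ Y.fromSpecResidueField (f.base x))).base z = x := by
  let iy := Y.fromSpecResidueField (f.base x)
  let b := Spec.map (CommRingCat.ofHom (algebraMap (Y.residueField (f.base x)) ℓ))
  let a := Spec.map (f.residueFieldMap x)
  let j := X.fromSpecResidueField x
  haveI : IsIso (f.residueFieldMap x) := (ConcreteCategory.isIso_iff_bijective _).mpr hx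
  have hj : j ≫ f = a ≫ iy := (f.SpecMap_residueFieldMap_fromSpecResidueField x).symm
  haveI : Subsingleton ↥(pullback j (pullback.fst f (b ≫ iy))) := by
    let e := pullbackRightPullbackFstIso f (b ≫ iy) j
    haveI : IsIso (pullback.snd (j ≫ f) (b ≫ iy)) := by
      refine ⟨pullback.lift (b ≫ inv a) (𝟙 _) ?_, ?_, pullback.lift_snd _ _ _⟩
      · rw [Category.assoc, hj, IsIso.inv_hom_id_assoc, Category.id_comp]
      · apply pullback.hom_ext
        · have hc : pullback.fst (j ≫ f) (b ≫ iy) ≫ a = pullback.snd (j ≫ f) (b ≫ iy) ≫ b := by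
            rw [← cancel_mono iy, Category.assoc, ← hj, pullback.condition, Category.assoc]
          rw [Category.assoc, pullback.lift_fst, Category.id_comp, ← Category.assoc, ← hc,
            Category.assoc, IsIso.hom_inv_id, Category.comp_id]
        · rw [Category.assoc, pullback.lift_snd, Category.comp_id, Category.id_comp]
    exact (Scheme.homeoOfIso (e ≪≫ asIso (pullback.snd (j ≫ f) (b ≫ iy)))).injective.subsingleton
  have hcomp : (Spec.map (inv (f.residueFieldMap x) ≫ CommRingCat.ofHom (algebraMap (Y.residueField (f.base x)) ℓ)) ≫ j) ≫ f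
      = 𝟙 _ ≫ b ≫ iy := by
    rw [Category.assoc, hj, ← Category.assoc, ← Spec.map_comp]
    erw [IsIso.hom_inv_id_assoc]
    rw [Category.id_comp]
    rfl
  refine ⟨pullback.lift _ _ hcomp (IsLocalRing.closedPoint ℓ), ?_, ?_⟩
  · show (pullback.lift _ _ hcomp ≫ pullback.fst f (b ≫ iy)) _ = x
    rw [pullback.lift_fst]
    exact Scheme.fromSpecResidueField_apply x _
  · intro z hz
    have hex : ∀ z : ↥(pullback f (b ≫ iy)), pullback.fst f (b ≫ iy) z = x →
        ∃ p : ↥(pullback j (pullback.fst f (b ≫ iy))), pullback.snd j (pullback.fst f (b ≫ iy)) p = z := by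
      intro z hz
      obtain ⟨p, -, hp⟩ := Scheme.Pullback.exists_preimage_pullback (f := j) (g := pullback.fst f (b ≫ iy))
        (IsLocalRing.closedPoint _) z (by rw [hz]; exact Scheme.fromSpecResidueField_apply x _)
      exact ⟨p, hp⟩
    obtain ⟨p, hp⟩ := hex z hz
    obtain ⟨q, hq⟩ := hex (pullback.lift _ _ hcomp (IsLocalRing.closedPoint ℓ)) (by
      show (pullback.lift _ _ hcomp ≫ pullback.fst f (b ≫ iy)) _ = x
      rw [pullback.lift_fst]
      exact Scheme.fromSpecResidueField_apply x _)
    rw [← hp, ← hq, Subsingleton.elim p q]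

end Groth.Agent.S14679
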