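import Groth.Statements.S1468
import Groth.Agent.CAlgH.RegularSmooth

set_option autoImplicit false
universe u
open FlatMor

namespace Groth.Agent.S1468

theorem isRegularHom_of_smooth {R S : Type u} [CommRing R] [CommRing S] [Algebra R S]
    (h : Algebra.Smooth R S) : CAlg.IsRegularHom R S := by
  refine ⟨inferInstance, fun p _ => ⟨?_, fun k' _ _ _ => CAlgH.isRegularRing_of_smooth k' _⟩⟩
  exact Algebra.FiniteType.isNoetherianRing p.ResidueField (p.Fiber S)

open AlgebraicGeometry CategoryTheory Limits in
/-- A smooth morphism is regular; concretely, for affine opens U ⊆ f⁻¹(V) the ring map O_Y(V) → O_X(U)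
is a regular ring map (flat, with Noetherian and geometrically regular fibre rings). -/
theorem result {X Y : Scheme.{u}} (f : X ⟶ Y) [Smooth f] (U : X.Opens) (V : Y.Opens) (hU : IsAffineOpen U) (hV : IsAffineOpen V) (hUV : U ≤ f ⁻¹ᵁ V) :
    letI := (f.appLE V U hUV).hom.toAlgebra
    CAlg.IsRegularHom Γ(Y, V) Γ(X, U) := by
  let _ := (f.appLE V U hUV).hom.toAlgebra
  have h : (f.appLE V U hUV).hom.Smooth := f.smooth_appLE hV hU hUV
  exact isRegularHom_of_smooth (R := Γ(Y, V)) (S := Γ(X, U)) h

end Groth.Agent.S1468
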