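import Groth.Statements.S14680
import Mathlib
import Groth.Prelude

set_option linter.all false

set_option autoImplicit false
universe u
open CAlg

open scoped TensorProduct
open MvPolynomial

namespace Groth.Agent.S14680

/-- Let A be a Noetherian commutative ring and f : M' → M, g : M → M'' linear maps between finitely
generated A-modules. Then the sequence 0 → M' → M → M'' → 0 is exact — f injective, the image of f
equal to the kernel of g, g surjective — if and only if for every maximal ideal m of A the sequence
of m-adic completions 0 → M'^ → M^ → M''^ → 0 (maps induced by f and g) is exact in the same sense. -/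
theorem result (A : Type u) [CommRing A] [IsNoetherianRing A]
    (M' M M'' : Type u) [AddCommGroup M'] [Module A M'] [AddCommGroup M] [Module A M] [AddCommGroup M''] [Module A M'']
    [Module.Finite A M'] [Module.Finite A M] [Module.Finite A M''] (f : M' →ₗ[A] M) (g : M →ₗ[A] M'') :
    (Function.Injective f ∧ Function.Exact f g ∧ Function.Surjective g) ↔
      ∀ (m : Ideal A) [m.IsMaximal],
        Function.Injective (AdicCompletion.map m f) ∧ Function.Exact (AdicCompletion.map m f) (AdicCompletion.map m g) ∧
          Function.Surjective (AdicCompletion.map m g) := by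
  constructor
  · rintro ⟨hf, hfg, hg⟩ m _
    exact ⟨AdicCompletion.map_injective m hf, AdicCompletion.map_exact hf hfg hg, AdicCompletion.map_surjective m hg⟩
  intro h
  have key : ∀ (N : Type u) [AddCommGroup N] [Module A N] [Module.Finite A N] (x : N),
      (∀ (m : Ideal A) [m.IsMaximal] (n : ℕ), x ∈ m ^ n • (⊤ : Submodule A N)) → x = 0 := by
    intro N _ _ _ x hx
    by_contra h0
    let J : Ideal A := LinearMap.ker (LinearMap.toSpanSingleton A N x)
    obtain ⟨m, hm, hJm⟩ := Ideal.exists_le_maximal J (fun hJ => h0 (by simpa [J] using (show (1 : A) ∈ J from hJ ▸ trivial)))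
    haveI := hm
    obtain ⟨r, hr⟩ := (Ideal.mem_iInf_smul_pow_eq_bot_iff m x).1 ((Submodule.mem_iInf _).2 fun n => hx m n)
    have : 1 - (r : A) ∈ J := by simp [J, sub_smul, hr]
    exact hm.ne_top ((Ideal.eq_top_iff_one m).2 (by simpa using m.add_mem (hJm this) r.2))
  have ofzero : ∀ (m : Ideal A) (N : Type u) [AddCommGroup N] [Module A N] (x : N), AdicCompletion.of m N x = 0 → ∀ n, x ∈ m ^ n • (⊤ : Submodule A N) :=
    fun m N _ _ x hx n => (Submodule.Quotient.mk_eq_zero _).1 (congrArg (fun z : AdicCompletion m N => z.val n) hx)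
  have range_mem : ∀ (N P : Type u) [AddCommGroup N] [Module A N] [AddCommGroup P] [Module A P] [Module.Finite A P] (φ : N →ₗ[A] P) (x : P),
      (∀ (m : Ideal A) [m.IsMaximal], ∃ y, AdicCompletion.map m φ y = AdicCompletion.of m P x) → x ∈ LinearMap.range φ := by
    intro N P _ _ _ _ _ φ x hx
    rw [← Submodule.Quotient.mk_eq_zero]
    refine key _ _ fun m _ n => ?_
    obtain ⟨y, hy⟩ := hx m
    obtain ⟨a, ha⟩ := Submodule.Quotient.mk_surjective _ (y.val n)
    have h2 := congrArg (fun z : AdicCompletion m P => z.val n) hy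
    simp only [AdicCompletion.map_val_apply, ← ha] at h2
    have h3 : φ a - x ∈ m ^ n • (⊤ : Submodule A P) := (Submodule.Quotient.eq _).1 h2
    have h4 : (LinearMap.range φ).mkQ x = (LinearMap.range φ).mkQ (-(φ a - x)) := by
      rw [Submodule.mkQ_apply, Submodule.mkQ_apply, Submodule.Quotient.eq]
      exact ⟨a, by abel⟩
    show (LinearMap.range φ).mkQ x ∈ _
    rw [h4]
    have : (m ^ n • (⊤ : Submodule A P)).map (LinearMap.range φ).mkQ ≤ m ^ n • ⊤ := by
      rw [Submodule.map_smul'']; exact Submodule.smul_mono le_rfl le_top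
    exact this ⟨_, Submodule.neg_mem _ h3, rfl⟩
  refine ⟨?_, ?_, ?_⟩
  · rw [injective_iff_map_eq_zero]
    intro x hx
    refine key _ _ fun m _ => ofzero m _ x ((h m).1 ?_)
    rw [AdicCompletion.map_of, hx, map_zero, map_zero]
  · intro y
    refine ⟨fun hy => range_mem _ _ f y fun m _ => ((h m).2.1 _).1 (by rw [AdicCompletion.map_of, hy, map_zero]), ?_⟩
    rintro ⟨x, rfl⟩
    refine key _ _ fun m _ => ofzero m _ _ ?_
    rw [← AdicCompletion.map_of, ← AdicCompletion.map_of]
    exact ((h m).2.1 _).2 ⟨_, rfl⟩
  · intro z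
    exact range_mem _ _ g z fun m _ => (h m).2.2 _

end Groth.Agent.S14680
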