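import Groth.Statements.S14681
import Groth.Agent.AbCubeLib.StabilizerComponents
import Groth.Agent.AbCubeLib.CanonicalSection
-- import your own Groth.Agent.* helpers here

set_option autoImplicit false
universe u
open CategoryTheory CategoryTheory.Limits MonoidalCategory CartesianMonoidalCategory MonObj GrpObj AlgebraicGeometry
open AbVar

namespace Groth.Agent.S14681

/-- (b) ⇒ (e): let k be an algebraically closed field, A an abelian variety over k (a proper k-group
scheme whose structure morphism is geometrically integral), D an effective Cartier divisor on A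
given by its ideal sheaf I, and L an invertible O_A-module with L ⊗ I ≅ O_A (so L = O_A(D)). Suppose
the set of k-points a of A whose translation x ↦ x·a maps each irreducible component of the support
of D onto itself is finite. Then L is ample. -/
theorem result (k : Type u) [Field k] [IsAlgClosed k]
    (A : Over (Spec (CommRingCat.of k))) [GrpObj A] [IsProper A.hom] [GeometricallyIntegral A.hom]
    (I : A.left.IdealSheafData) (hI : BlowUp.IsEffCartierIdeal I)
    (L : A.left.Modules) (hL : PicF.IsInvertible L) (hLI : ClSub.IsInverseOf L (ClSub.idealMod I))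
    (hb : Set.Finite {a : (𝟙_ (Over (Spec (CommRingCat.of k)))) ⟶ A |
      ∀ Z ∈ irreducibleComponents ↥(I.support : Set ↥A.left),
        (fun x : ↥A.left => (𝟙 A * (toUnit A ≫ a)).left.base x) '' (Subtype.val '' Z) = Subtype.val '' Z}) :
    CohB1.IsAmple L := by
  obtain ⟨s, hs⟩ := Groth.Agent.AbCubeLib.exists_section_of_effCartier I hI hL hLI
  haveI : IsCommMonObj A := isCommMonObj_of_isProper_of_geometricallyIntegral A
  have hne : (Groth.Agent.AmpleLib.glocus L s : Set A.left).Nonempty := by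
    rw [hs]
    by_contra h
    have : IsIntegral A.left := GeometricallyIntegral.isIntegral_of_subsingleton A.hom
    obtain ⟨z⟩ := (inferInstance : Nonempty A.left)
    obtain ⟨U, hzU, f, hf, hspan⟩ := hI z
    have hsub : ((U : A.left.Opens) : Set A.left) ⊆ I.support := fun w _ => not_not.1 fun hw => h ⟨w, hw⟩
    have hker : I.ideal U ≤ nilradical Γ(A.left, U) := fun g hg => by
      have hb : A.left.basicOpen g = ⊥ := by
        rw [eq_bot_iff]
        intro w hw
        have hwU : w ∈ (U : A.left.Opens) := A.left.basicOpen_le g hw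
        exact (Scheme.mem_zeroLocus_iff _ _ w).1 ((I.coe_support_inter U).le ⟨hsub hwU, hwU⟩).1 g hg hw
      rw [(basicOpen_eq_bot_iff g).1 hb]
      exact zero_mem _
    have : Nonempty ↥(U : A.left.Opens) := ⟨⟨z, hzU⟩⟩
    have hf0 : f = 0 := by
      have := hker (hspan.ge (Ideal.mem_span_singleton_self f))
      exact (mem_nilradical.1 this).eq_zero
    exact zero_notMem_nonZeroDivisors (hf0 ▸ hf)
  have hD : (Groth.Agent.AmpleLib.glocus L s : Set A.left)ᶜ = (I.support : Set A.left) := by rw [hs, compl_compl]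
  refine Groth.Agent.AbCubeLib.isAmple_of_sq_separates hL s hne fun T _ _ i _ h => ?_
  refine Groth.Agent.AbCubeLib.subsingleton_of_finite_differences i hb fun f g => ?_
  show ∀ Z ∈ irreducibleComponents ↥(I.support : Set A.left), _ = _
  intro Z hZ
  let Z' : Set A.left := Subtype.val '' Z
  have hcl : IsClosed Z' := I.support.isClosed.isClosedEmbedding_subtypeVal.isClosedMap _
    (isClosed_of_mem_irreducibleComponents _ hZ)
  have hirr : IsIrreducible Z' := hZ.1.image _ continuous_subtype_val.continuousOn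
  have hsub : Z' ⊆ (Groth.Agent.AmpleLib.glocus L s : Set A.left)ᶜ := by
    rw [hD]; rintro _ ⟨w, _, rfl⟩; exact w.2
  have hmax : ∀ C : Set A.left, IsIrreducible C → C ⊆ (Groth.Agent.AmpleLib.glocus L s : Set A.left)ᶜ →
      Z' ⊆ C → C ⊆ Z' := by
    intro C hC hCD hZC
    rw [hD] at hCD
    have hC' : IsIrreducible (Subtype.val ⁻¹' C : Set ↥(I.support : Set A.left)) := by
      refine ⟨?_, fun u v hu hv hu' hv' => ?_⟩
      · obtain ⟨c, hc⟩ := hC.1
        exact ⟨⟨c, hCD hc⟩, hc⟩
      · obtain ⟨U', hU', rfl⟩ := isOpen_induced_iff.1 hu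
        obtain ⟨V', hV', rfl⟩ := isOpen_induced_iff.1 hv
        obtain ⟨p, hpC, hp⟩ := hu'
        obtain ⟨q, hqC, hq⟩ := hv'
        obtain ⟨w, hwC, hwU, hwV⟩ := hC.2 U' V' hU' hV' ⟨_, hpC, hp⟩ ⟨_, hqC, hq⟩
        exact ⟨⟨w, hCD hwC⟩, hwC, hwU, hwV⟩
    intro c hc
    exact ⟨⟨c, hCD hc⟩, hZ.2 hC' (fun w hw => hZC ⟨w, hw, rfl⟩) hc, rfl⟩
  have key := fun f g => Groth.Agent.AbCubeLib.image_translate_component_subset hL s hne i h f g hcl hirr hsub hmax
  refine Set.Subset.antisymm (key f g) fun z hz => ?_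
  refine ⟨(𝟙 A * (toUnit A ≫ (g ≫ i * (f ≫ i)⁻¹))).left z, key g f ⟨z, hz, rfl⟩, ?_⟩
  show (𝟙 A * (toUnit A ≫ (f ≫ i * (g ≫ i)⁻¹))).left _ = z
  rw [← Scheme.Hom.comp_apply, ← Over.comp_left]
  have e : (𝟙 A * (toUnit A ≫ (g ≫ i * (f ≫ i)⁻¹))) ≫ (𝟙 A * (toUnit A ≫ (f ≫ i * (g ≫ i)⁻¹))) = 𝟙 A := by
    rw [comp_mul, Category.comp_id, ← Category.assoc, comp_toUnit, _root_.mul_assoc, ← comp_mul,
      _root_.mul_assoc (g ≫ i), ← _root_.mul_assoc (f ≫ i)⁻¹, inv_mul_cancel, _root_.one_mul,
      mul_inv_cancel, comp_one, _root_.mul_one]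
  rw [e]
  rfl

end Groth.Agent.S14681
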