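import Groth.Statements.S14683
import Groth.Agent.SekSuwaKer5.Main
import Groth.Agent.HopfLib.SpPoints
import Mathlib.LinearAlgebra.Vandermonde
import Mathlib.FieldTheory.IsAlgClosed.AlgebraicClosure
import Mathlib.RingTheory.RootsOfUnity.AlgebraicallyClosed
import Mathlib.GroupTheory.SpecificGroups.Cyclic
-- import your own Groth.Agent.* helpers here

set_option autoImplicit false
universe u
open CategoryTheory AlgebraicGeometry MonoidalCategory CartesianMonoidalCategory MonObj GrpObj
open SekSuwa
open scoped TensorProduct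

namespace Groth.Agent.S14683

open Groth.Agent.HopfLib.SpPoints CoactBr Polynomial

/-- The action on `T`-points is associative. -/
theorem lift_mul_act {S : Scheme.{u}} {G X : Over S} [GrpObj G] (a : AlgGrp.Action G X) {T : Over S} (g h : T ⟶ G)
    (x : T ⟶ X) : lift (lift g h ≫ μ[G]) x ≫ a.act = lift g (lift h x ≫ a.act) ≫ a.act := by
  have h1 : lift (lift g h) x ≫ (μ[G] ▷ X) = lift (lift g h ≫ μ[G]) x := lift_whiskerRight _ _ _
  rw [← h1, Category.assoc, a.mul_act]
  simp

/-- The unit acts trivially on `T`-points. -/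
theorem lift_one_act {S : Scheme.{u}} {G X : Over S} [GrpObj G] (a : AlgGrp.Action G X) {T : Over S} (x : T ⟶ X) :
    lift (toUnit T ≫ η[G]) x ≫ a.act = x := by
  rw [← lift_whiskerRight, Category.assoc, a.one_act, lift_leftUnitor_hom]

/-- `equivRoot` sends the root to `t`. -/
theorem equivRoot_root {R : Type u} [CommRing R] (lam : R) (N : ℕ) (h : DivCond lam N) (hN : 0 < N) :
    SekSuwaKer5.equivRoot R lam N h hN (AdjoinRoot.root _) = AK.t :=
  AdjoinRoot.liftAlgHom_root (psiPoly lam N h) (Algebra.ofId R (AK R lam N h)) AK.t AK.aeval_t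

/-- The `L`-points of `G_{λ,p}` and their values at `t`. -/
theorem exists_points {R : Type u} [CommRing R] [IsDomain R] (L : Type u) [Field L] [Algebra R L] [IsAlgClosed L]
    [CharZero L] (hinj : Function.Injective (algebraMap R L)) (p : ℕ) [Fact p.Prime] (lam : R) (h : DivCond lam p) :
    ∃ r : Fin p → (AK R lam p h →ₐ[R] L), Function.Bijective r ∧ Function.Injective fun i => r i AK.t := by
  have hp : p.Prime := Fact.out
  haveI : NeZero p := ⟨hp.ne_zero⟩
  haveI : NeZero (p : L) := ⟨Nat.cast_ne_zero.2 hp.ne_zero⟩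
  obtain ⟨ζ, hζ⟩ := _root_.HasEnoughRootsOfUnity.exists_primitiveRoot L p
  have hl : algebraMap R L lam ≠ 0 := fun e =>
    nonZeroDivisors.ne_zero h.nzd (hinj (e.trans (map_zero _).symm))
  let c : Fin p → L := fun i => (ζ ^ (i : ℕ) - 1) / algebraMap R L lam
  have hc : ∀ i, 1 + algebraMap R L lam * c i = ζ ^ (i : ℕ) := fun i => by
    show 1 + algebraMap R L lam * ((ζ ^ (i : ℕ) - 1) / algebraMap R L lam) = _
    rw [mul_div_cancel₀ _ hl, add_sub_cancel]
  have hroot : ∀ i, (psiPoly lam p h).eval₂ ((Algebra.ofId R L : R →ₐ[R] L) : R →+* L) (c i) = 0 := fun i => by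
    have e := aeval_psiPoly h (c i)
    rw [hc, ← pow_mul, mul_comm (i : ℕ), pow_mul, hζ.pow_eq_one, one_pow, sub_self, map_pow] at e
    exact (mul_eq_zero.1 e).resolve_left (pow_ne_zero _ hl)
  let e := SekSuwaKer5.equivRoot R lam p h hp.pos
  let r : Fin p → (AK R lam p h →ₐ[R] L) := fun i =>
    (AdjoinRoot.liftAlgHom (psiPoly lam p h) (Algebra.ofId R L) (c i) (hroot i)).comp e.symm.toAlgHom
  have het : e (AdjoinRoot.root _) = AK.t := equivRoot_root lam p h hp.pos
  have hrt : ∀ i, r i AK.t = c i := fun i => by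
    show AdjoinRoot.liftAlgHom (psiPoly lam p h) (Algebra.ofId R L) (c i) (hroot i) (e.symm AK.t) = _
    rw [← het, e.symm_apply_apply]
    exact AdjoinRoot.liftAlgHom_root _ _ _ _
  have hcinj : Function.Injective c := fun i j hij => Fin.ext (hζ.pow_inj i.2 j.2 (by rw [← hc, hij, hc]))
  have htinj : Function.Injective fun i => r i AK.t := fun i j hij => hcinj (by simpa only [hrt] using hij)
  refine ⟨r, ⟨fun i j hij => htinj (congrArg (fun f : AK R lam p h →ₐ[R] L => f AK.t) hij), fun x => ?_⟩, htinj⟩
  have hx : (1 + algebraMap R L lam * x AK.t) ^ p = 1 := by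
    have e1 := aeval_psiPoly h (x AK.t)
    rw [Polynomial.aeval_algHom_apply, AK.aeval_t, map_zero, mul_zero, eq_comm, sub_eq_zero] at e1
    exact e1
  obtain ⟨i, hi, hix⟩ := hζ.eq_pow_of_pow_eq_one hx
  refine ⟨⟨i, hi⟩, ?_⟩
  refine AlgHom.ext fun b => ?_
  have key : (r ⟨i, hi⟩).comp e.toAlgHom = x.comp e.toAlgHom := by
    refine AdjoinRoot.algHom_ext ?_
    show r ⟨i, hi⟩ (e _) = x (e _)
    rw [het, hrt]
    exact mul_left_cancel₀ hl (add_left_cancel ((hc _).trans hix))
  simpa using DFunLike.congr_fun key (e.symm b)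

/-- The points separate the coefficients of polynomials in `t` of degree `< p`. -/
theorem sep_coeff {R : Type u} [CommRing R] {L : Type u} [Field L] [Algebra R L] {p : ℕ} {B : Type u} [CommRing B]
    [Algebra R B] (t : B) (r : Fin p → (B →ₐ[R] L)) (hr : Function.Injective fun i => r i t) (a : Fin p → L)
    (ha : ∀ i, ∑ j : Fin p, a j * (r i t) ^ (j : ℕ) = 0) : a = 0 := by
  classical
  exact Matrix.eq_zero_of_forall_index_sum_mul_pow_eq_zero (f := fun i => r i t) hr ha

/-- An automorphism action of a group of order `p` on a group of order `p` is trivial. -/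
theorem action_trivial {G H : Type u} [Group G] [Group H] {p : ℕ} [Fact p.Prime] (hG : Nat.card G = p)
    (hH : Nat.card H = p) (act : G → H → H) (h1 : ∀ x, act 1 x = x)
    (hcomp : ∀ g g' x, act (g * g') x = act g (act g' x))
    (hmul : ∀ g x y, act g (x * y) = act g x * act g y) (g : G) (x : H) : act g x = x := by
  haveI : Finite H := Nat.finite_of_card_ne_zero (hH ▸ (Fact.out : p.Prime).ne_zero)
  haveI : IsCyclic H := isCyclic_of_prime_card hH
  let f : G →* MulAut H :=
    { toFun := fun g =>
        { toFun := act g, invFun := act g⁻¹,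
          left_inv := fun x => by rw [← hcomp, inv_mul_cancel, h1],
          right_inv := fun x => by rw [← hcomp, mul_inv_cancel, h1],
          map_mul' := hmul g }
      map_one' := MulEquiv.ext h1
      map_mul' := fun g g' => MulEquiv.ext (hcomp g g') }
  have hd1 : orderOf (f g) ∣ p := orderOf_dvd_of_pow_eq_one (by
    rw [← map_pow, ← hG, pow_card_eq_one', map_one])
  have hd2 : orderOf (f g) ∣ p - 1 := by
    have e : Nat.card (MulAut H) = p - 1 := by rw [IsCyclic.card_mulAut, hH, Nat.totient_prime Fact.out]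
    exact e ▸ orderOf_dvd_natCard (f g)
  have hf : f g = 1 := orderOf_eq_one_iff.1 (Nat.eq_one_of_dvd_coprimes
    (by
      have := (Fact.out : p.Prime).pos
      exact ((Nat.coprime_self_sub_left (n := p) (m := 1) this).2 (Nat.coprime_one_left p)).symm)
    hd1 hd2)
  exact DFunLike.congr_fun hf x

/-- Let R be a discrete valuation ring of characteristic zero and residue characteristic p, and let λ, μ
∈ R satisfy the divisibility condition under which the finite R-group schemes G_{λ,1} and G_{μ,1}
(the kernels of the isogenies ψ of the one-parameter groups with law s + t + λst, resp. μ) are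
defined. Then every action of G_{μ,1} on G_{λ,1} by group automorphisms is trivial: for every
R-scheme T and all T-valued points g of G_{μ,1} and x of G_{λ,1}, g · x = x. An action by group
automorphisms is an action of the group scheme G_{μ,1} on the scheme G_{λ,1} whose action map is
multiplicative in the second variable on points. (The published statement is made under standing
assumptions that R contains a primitive p²-th root of unity and that λ, μ have positive valuation;
this row drops both, which the argument does not use.) -/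
theorem result (R : Type u) [CommRing R] [IsDomain R] [IsDiscreteValuationRing R] [CharZero R]
    (p : ℕ) [Fact p.Prime] [CharP (IsLocalRing.ResidueField R) p]
    (lam mu : R) (h₁ : SekSuwa.DivCond lam p) (h₂ : SekSuwa.DivCond mu p)
    (a : AlgGrp.Action (SekSuwa.GK R mu p h₂) (SekSuwa.GK R lam p h₁))
    (hmul : ∀ (T : Over (Spec (CommRingCat.of R))) (g : T ⟶ SekSuwa.GK R mu p h₂)
      (x y : T ⟶ SekSuwa.GK R lam p h₁), lift g (x * y) ≫ a.act = (lift g x ≫ a.act) * (lift g y ≫ a.act))
    (T : Over (Spec (CommRingCat.of R))) (g : T ⟶ SekSuwa.GK R mu p h₂) (x : T ⟶ SekSuwa.GK R lam p h₁) :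
    lift g x ≫ a.act = x := by
  classical
  let L := AlgebraicClosure (FractionRing R)
  haveI : CharZero (FractionRing R) := charZero_of_injective_algebraMap (IsFractionRing.injective R (FractionRing R))
  haveI : CharZero L := charZero_of_injective_algebraMap (algebraMap (FractionRing R) L).injective
  have hinj : Function.Injective (algebraMap R L) := by
    rw [IsScalarTower.algebraMap_eq R (FractionRing R) L]
    exact (algebraMap (FractionRing R) L).injective.comp (IsFractionRing.injective R (FractionRing R))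
  obtain ⟨r, hr, hrt⟩ := exists_points L hinj p mu h₂
  obtain ⟨s, hs, hst⟩ := exists_points L hinj p lam h₁
  suffices key : a.act = CartesianMonoidalCategory.snd (GK R mu p h₂) (GK R lam p h₁) by rw [key, lift_snd]
  haveI := Misc15.AffinePoints.isIso_Q (R := R) (AK R mu p h₂) (AK R lam p h₁)
  obtain ⟨θ, hθ⟩ := Misc15.AffinePoints.pt_surjective
    (Misc15.AffinePoints.Q (R := R) (AK R mu p h₂) (AK R lam p h₁) ≫ a.act)
  rw [← cancel_epi (Misc15.AffinePoints.Q (R := R) (AK R mu p h₂) (AK R lam p h₁)), ← hθ, lift_snd]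
  congr 1
  -- the value on `L`-points
  have hcard : ∀ (l : R) (hl : DivCond l p) (q : Fin p → (AK R l p hl →ₐ[R] L)), Function.Bijective q →
      Nat.card (sp R L ⟶ GK R l p hl) = p := fun l hl q hq => by
    rw [← Nat.card_eq_of_bijective (fun φ : AK R l p hl →ₐ[R] L => pt φ)
        ⟨pt_injective, Misc15.AffinePoints.pt_surjective⟩, ← Nat.card_eq_of_bijective q hq, Nat.card_fin]
  have htriv : ∀ i j, lift (pt (r i)) (pt (s j)) ≫ a.act = (pt (s j) : sp R L ⟶ GK R lam p h₁) := fun i j =>
    action_trivial (G := sp R L ⟶ GK R mu p h₂) (H := sp R L ⟶ GK R lam p h₁) (hcard mu h₂ r hr) (hcard lam h₁ s hs)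
      (fun g x => lift g x ≫ a.act)
      (fun x => by rw [Hom.one_def]; exact lift_one_act a x)
      (fun g g' x => by rw [Hom.mul_def]; exact lift_mul_act a g g' x)
      (fun g x y => hmul _ g x y) (pt (r i)) (pt (s j))
  let Φ : Fin p → Fin p → (AK R mu p h₂ ⊗[R] AK R lam p h₁ →ₐ[R] L) := fun i j =>
    Algebra.TensorProduct.lift (r i) (s j) fun _ _ => Commute.all _ _
  have hΦ : ∀ i j b, Φ i j (θ b) = Φ i j (1 ⊗ₜ b) := fun i j b => by
    have e1 : (Φ i j).comp θ = s j := by
      apply pt_injective
      rw [CoactBr.pt_comp, hθ, ← htriv i j, ← Category.assoc]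
      congr 1
      rw [comp_lift, ← CoactBr.pt_comp, ← CoactBr.pt_comp, Algebra.TensorProduct.lift_comp_includeLeft,
        show (Φ i j).comp Algebra.TensorProduct.includeRight = s j from AlgHom.ext fun b => by simp [Φ]]
    rw [← AlgHom.comp_apply, e1]
    simp [Φ]
  refine AlgHom.ext fun b => ?_
  rw [← sub_eq_zero]
  -- separation
  obtain ⟨hm, hd⟩ := SekSuwaKer5.psiPoly_monic R mu p h₂ (Fact.out : p.Prime).pos
  obtain ⟨hm', hd'⟩ := SekSuwaKer5.psiPoly_monic R lam p h₁ (Fact.out : p.Prime).pos
  have hdim : (AdjoinRoot.powerBasis' hm).dim = p := by rw [AdjoinRoot.powerBasis'_dim]; exact hd inferInstance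
  have hdim' : (AdjoinRoot.powerBasis' hm').dim = p := by rw [AdjoinRoot.powerBasis'_dim]; exact hd' inferInstance
  let bμ := ((AdjoinRoot.powerBasis' hm).basis.map
    (SekSuwaKer5.equivRoot R mu p h₂ (Fact.out : p.Prime).pos).toLinearEquiv).reindex (finCongr hdim)
  let bl := ((AdjoinRoot.powerBasis' hm').basis.map
    (SekSuwaKer5.equivRoot R lam p h₁ (Fact.out : p.Prime).pos).toLinearEquiv).reindex (finCongr hdim')
  have hbμ : ∀ i, bμ i = (AK.t : AK R mu p h₂) ^ (i : ℕ) := fun i => by
    simp only [bμ, Module.Basis.reindex_apply, Module.Basis.map_apply, PowerBasis.basis_eq_pow,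
      AdjoinRoot.powerBasis'_gen, AlgEquiv.toLinearEquiv_apply, map_pow, equivRoot_root, finCongr_symm, finCongr_apply,
      Fin.val_cast]
  have hbl : ∀ i, bl i = (AK.t : AK R lam p h₁) ^ (i : ℕ) := fun i => by
    simp only [bl, Module.Basis.reindex_apply, Module.Basis.map_apply, PowerBasis.basis_eq_pow,
      AdjoinRoot.powerBasis'_gen, AlgEquiv.toLinearEquiv_apply, map_pow, equivRoot_root, finCongr_symm, finCongr_apply,
      Fin.val_cast]
  let bb := bμ.tensorProduct bl
  generalize hz : θ b - Algebra.TensorProduct.includeRight b = z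
  have hz0 : ∀ i j, Φ i j z = 0 := fun i j => by
    rw [← hz, map_sub, hΦ, sub_eq_zero]; rfl
  have h2 : ∀ m : Fin p, ∀ n : Fin p, ∑ i : Fin p, ∑ j : Fin p,
      algebraMap R L (bb.repr z (i, j)) * (s n AK.t) ^ (j : ℕ) * (r m AK.t) ^ (i : ℕ) = 0 := fun m n => by
    rw [← hz0 m n]
    conv_rhs => rw [← bb.sum_repr z, Fintype.sum_prod_type]
    simp only [Algebra.smul_def, map_sum, map_mul, AlgHom.commutes, bb, Module.Basis.tensorProduct_apply, hbμ, hbl, Φ,
      Algebra.TensorProduct.lift_tmul, map_pow]
    exact Finset.sum_congr rfl fun i _ => Finset.sum_congr rfl fun j _ => by ring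
  have h3 : ∀ n : Fin p, (fun i : Fin p => ∑ j : Fin p, algebraMap R L (bb.repr z (i, j)) * (s n AK.t) ^ (j : ℕ)) = 0 :=
    fun n => sep_coeff _ r hrt _ fun m => by
      rw [← h2 m n]; exact Finset.sum_congr rfl fun i _ => Finset.sum_mul _ _ _
  refine bb.ext_elem fun ij => ?_
  have h4 := sep_coeff _ s hst (fun j => algebraMap R L (bb.repr z (ij.1, j))) fun n => congrFun (h3 n) ij.1
  rw [map_zero]
  exact hinj ((congrFun h4 ij.2).trans (map_zero _).symm)

end Groth.Agent.S14683
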