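import Groth.Statements.S14684
import Groth.Agent.SekSuwa3.GTorsor
-- import your own Groth.Agent.* helpers here

set_option autoImplicit false
universe u
open CategoryTheory AlgebraicGeometry
open SekSuwa

namespace Groth.Agent.S14684

/-- Let R be a discrete valuation ring of characteristic zero and residue characteristic p, λ ≠ 0 in R,
and X a scheme which is faithfully flat over Spec R. Then every torsor for the fppf topology over X
under (the base change to X of) the affine R-group G^(λ) = Spec R[T, 1/(1+λT)], with group law s + t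
+ λst, is locally trivial for the Zariski topology; that is, the first higher direct image of G^(λ)
under the morphism from the flat site to the Zariski site of X vanishes, and fppf and Zariski H¹ of
X with coefficients in G^(λ) agree. -/
theorem result (R : Type u) [CommRing R] [IsDomain R] [IsDiscreteValuationRing R] [CharZero R]
    (p : ℕ) [Fact p.Prime] [CharP (IsLocalRing.ResidueField R) p]
    (lam : R) (hlam : lam ≠ 0)
    (X : Scheme.{u}) (f : X ⟶ Spec (CommRingCat.of R)) [Flat f] [Surjective f]
    (P : Over X) (a : AlgGrp.Action (Red.bc f (SekSuwa.G R lam)) P)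
    (hP : NonAbH1.IsTorsorFor Scheme.fppfPrecoverage a) :
    NonAbH1.IsTorsorFor Scheme.zariskiPrecoverage a := by
  open Groth.Agent.CAlgH3 in
  have hfpqc : NonAbH1.IsTorsorFor Scheme.fpqcPrecoverage a := by
    obtain ⟨hps, R', hR, hsec⟩ := hP
    exact ⟨hps, R', Scheme.fppfPrecoverage_le_fpqcPrecoverage _ hR, hsec⟩
  refine Groth.Agent.CAlgH3.FpqcTorsorLocal.isTorsorFor_zariski hP.1 fun x => ?_
  obtain ⟨_, ⟨V, hV, rfl⟩, hxV, -⟩ :=
    X.isBasis_affineOpens.exists_subset_of_mem_open (Set.mem_univ x) isOpen_univ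
  obtain ⟨φ, hφ⟩ := Spec.map_surjective (hV.fromSpec ≫ f)
  letI : Algebra R Γ(X, V) := φ.hom.toAlgebra
  have hj : hV.fromSpec ≫ f = Spec.map (CommRingCat.ofHom (algebraMap R Γ(X, V))) := hφ.symm
  haveI : Flat (Spec.map φ) := by rw [hφ]; infer_instance
  haveI : Module.Flat R Γ(X, V) :=
    RingHom.flat_algebraMap_iff.1 ((HasRingHomProperty.Spec_iff (P := @Flat)).1 ‹Flat (Spec.map φ)›)
  obtain ⟨q, hq⟩ : x ∈ Set.range hV.fromSpec := by rw [hV.range_fromSpec]; exact hxV
  obtain ⟨h, hh, hsec⟩ := Groth.Agent.SekSuwa3.exists_section_G (g := f) (j := hV.fromSpec) hlam hj hfpqc q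
  refine ⟨_, _, inferInstance, ?_, hsec⟩
  obtain ⟨q', hq'⟩ : q ∈ Set.range (Spec.map (CommRingCat.ofHom (algebraMap Γ(X, V) (Localization.Away h)))) := by
    show q ∈ Set.range (PrimeSpectrum.comap (algebraMap Γ(X, V) (Localization.Away h)))
    rw [PrimeSpectrum.localization_away_comap_range (Localization.Away h) h]
    exact hh
  exact ⟨q', by rw [Scheme.Hom.comp_apply, hq', hq]⟩

end Groth.Agent.S14684
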