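import Groth.Statements.S14685
import Groth.Agent.SekSuwa2.Points
import Groth.Agent.SekSuwa2.Main

set_option autoImplicit false
universe u
open CategoryTheory AlgebraicGeometry
open SekSuwa

namespace Groth.Agent.S14685

/-- Let R be a discrete valuation ring of characteristic zero and residue characteristic p containing a
primitive p-th root of unity, with fraction field K, and let G be a finite flat R-group scheme whose
generic fibre is isomorphic, as a K-group scheme, to the constant group ℤ/pℤ. Then G is isomorphic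
as an R-group scheme to G_{λ,1} = Spec R[T]/(((1 + λT)^p − 1)/λ^p) (the kernel of the isogeny ψ on
the one-parameter group with law s + t + λst) for some nonzero λ ∈ R for which that polynomial has
coefficients in R. -/
theorem result (R : Type u) [CommRing R] [IsDomain R] [IsDiscreteValuationRing R] [CharZero R]
    (p : ℕ) [Fact p.Prime] [CharP (IsLocalRing.ResidueField R) p]
    (ζ : R) (hζ : IsPrimitiveRoot ζ p)
    (G : Over (Spec (CommRingCat.of R))) [GrpObj G] [IsFinite G.hom] [Flat G.hom]
    (e : Red.bc (Spec.map (CommRingCat.ofHom (algebraMap R (FractionRing R)))) G ≅ TwC.const (Spec (CommRingCat.of (FractionRing R))) (Multiplicative (ZMod p)))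
    (he : TwC.IsConstGrp (Multiplicative (ZMod p)) (Red.bc (Spec.map (CommRingCat.ofHom (algebraMap R (FractionRing R)))) G) e) :
    ∃ (lam : R) (h : SekSuwa.DivCond lam p), lam ≠ 0 ∧ Nonempty (Grp.mk G ≅ Grp.mk (SekSuwa.GK R lam p h)) := by
  classical
  obtain ⟨B, _, _, _, _, ⟨i⟩⟩ := Groth.Agent.SekSuwa2.exists_hopf_finite G
  haveI : Module.Free R B := Module.free_of_flat_of_isLocalRing
  obtain ⟨χ, hmul, Φ, hΦ, hΦχ⟩ :=
    Groth.Agent.SekSuwa2.exists_points (FractionRing R) (Multiplicative (ZMod p)) G B i e he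
  obtain ⟨c, hc, hcmul, hsep, hrk⟩ :=
    Groth.Agent.SekSuwa2.exists_integral_points (FractionRing R) χ hmul Φ hΦ hΦχ
  haveI : NeZero p := ⟨(Fact.out : p.Prime).ne_zero⟩
  let f : Multiplicative (ZMod p) →* R :=
    { toFun := fun m => ζ ^ (Multiplicative.toAdd m).val
      map_one' := by simp
      map_mul' := fun m n => by
        rw [toAdd_mul, ZMod.val_add, ← pow_add]
        exact (pow_eq_pow_mod _ hζ.pow_eq_one).symm }
  obtain ⟨u, hu⟩ := Groth.Agent.SekSuwa2.exists_character (FractionRing R) χ hmul Φ hΦ hΦχ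
    (fun m b => ⟨c m b, hc m b⟩) f
  obtain ⟨lam, h, hlam, ⟨g⟩⟩ := Groth.Agent.SekSuwa2.exists_equiv p (Multiplicative (ZMod p)) ζ hζ
    (by rw [Fintype.card_multiplicative, ZMod.card]) c hcmul hsep
    (by rw [hrk, Fintype.card_multiplicative, ZMod.card]) f
    (fun m n hmn => Multiplicative.toAdd.injective (ZMod.val_injective p
      (hζ.pow_inj (ZMod.val_lt _) (ZMod.val_lt _) hmn)))
    (fun m => by show (ζ ^ _) ^ p = 1; rw [← pow_mul, mul_comm, pow_mul, hζ.pow_eq_one, one_pow])
    u (fun m => IsFractionRing.injective R (FractionRing R) ((hc m u).trans (hu m)))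
  obtain ⟨j⟩ := Groth.Agent.IsoTriv.SchemeSpec.nonempty_grpIso g.symm
  exact ⟨lam, h, hlam, ⟨i ≪≫ j⟩⟩

end Groth.Agent.S14685
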