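import Groth.Statements.S14686
import Groth.Agent.SekSuwa2.Points
import Groth.Agent.SekSuwa2.Quotient
import Groth.Agent.SekSuwa2.Exact

set_option autoImplicit false
universe u
open CategoryTheory AlgebraicGeometry
open SekSuwa

namespace Groth.Agent.S14686

/-- Let R be a discrete valuation ring of characteristic zero and residue characteristic p containing a
primitive p²-th root of unity, with fraction field K, and let G be a finite flat R-group scheme of
order p² (finite locally free of degree p² over Spec R) whose generic fibre is a constant K-group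
scheme (so the underlying group has order p²). Then G is an extension of G_{μ,1} by G_{λ,1} for some
nonzero λ, μ ∈ R satisfying the divisibility condition defining these kernels: there are
homomorphisms of R-group schemes G_{λ,1} → G and G → G_{μ,1} whose composite is trivial, with G a
pseudo-torsor under G_{λ,1} over G_{μ,1} and G → G_{μ,1} admitting sections locally for the fppf
topology. -/
theorem result (R : Type u) [CommRing R] [IsDomain R] [IsDiscreteValuationRing R] [CharZero R]
    (p : ℕ) [Fact p.Prime] [CharP (IsLocalRing.ResidueField R) p]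
    (ζ : R) (hζ : IsPrimitiveRoot ζ (p ^ 2))
    (G : Over (Spec (CommRingCat.of R))) [GrpObj G] (hG : Mor2.IsFinLocFreeOfDeg (p ^ 2) G.hom)
    (M : Type) [Group M] [Finite M]
    (e : Red.bc (Spec.map (CommRingCat.ofHom (algebraMap R (FractionRing R)))) G ≅ TwC.const (Spec (CommRingCat.of (FractionRing R))) M)
    (he : TwC.IsConstGrp M (Red.bc (Spec.map (CommRingCat.ofHom (algebraMap R (FractionRing R)))) G) e) :
    ∃ (lam mu : R) (h₁ : SekSuwa.DivCond lam p) (h₂ : SekSuwa.DivCond mu p)
      (u : SekSuwa.GK R lam p h₁ ⟶ G) (v : G ⟶ SekSuwa.GK R mu p h₂),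
      lam ≠ 0 ∧ mu ≠ 0 ∧ NonAbH1.IsExactSeq Scheme.fppfPrecoverage u v := by
  classical
  haveI : IsFinite G.hom := hG.1.1
  haveI : Flat G.hom := hG.1.2.1
  obtain ⟨B, _, _, _, _, ⟨i⟩⟩ := Groth.Agent.SekSuwa2.exists_hopf_finite G
  haveI : Module.Free R B := Module.free_of_flat_of_isLocalRing
  obtain ⟨_⟩ : Nonempty (Fintype M) := ⟨Fintype.ofFinite M⟩
  obtain ⟨χ, hmul, Φ, hΦ, hΦχ⟩ := Groth.Agent.SekSuwa2.exists_points (FractionRing R) M G B i e he
  obtain ⟨c, hc, hcmul, hsep, hrk⟩ :=
    Groth.Agent.SekSuwa2.exists_integral_points (FractionRing R) χ hmul Φ hΦ hΦχ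
  have hB : Module.finrank R B = p ^ 2 := by
    let j : CoactBr.sp R B ≅ G := ((Grp.forget _).mapIso i).symm
    haveI : IsIso j.hom.left := inferInstanceAs (IsIso ((Over.forget _).map j.hom))
    let x : PrimeSpectrum R := IsLocalRing.closedPoint R
    have h1 := hG.2 x
    rw [← congrFun (Scheme.Hom.finrank_comp_left_of_isIso j.hom.left G.hom) x, Over.w j.hom] at h1
    change Scheme.Hom.finrank (Spec.map (CommRingCat.ofHom (algebraMap R B))) x = _ at h1
    rw [Scheme.Hom.finrank_SpecMap_algebraMap, Module.rankAtStalk_eq_finrank_of_free] at h1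
    exact h1
  have hM : Fintype.card M = p ^ 2 := hrk.symm.trans hB
  letI : CommGroup M := { ‹Group M› with
    mul_comm := IsPGroup.commutative_of_card_eq_prime_sq (p := p) (by rw [Nat.card_eq_fintype_card, hM]) }
  obtain ⟨lam, mu, h₁, h₂, hlam, hmu, π, ι, h1, h2, h3, h4⟩ :=
    Groth.Agent.SekSuwa2.exists_sequence p (ζ ^ p)
      (hζ.pow (pow_pos (Fact.out : p.Prime).pos 2) (pow_two p)) M hM c hcmul hsep hB
  exact ⟨lam, mu, h₁, h₂, _, _, hlam, hmu, Groth.Agent.SekSuwa2.isExactSeq_of_iso
    (Groth.Agent.SekSuwa2.isExactSeq_spec π ι h1 h2 h3 h4) i.symm⟩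

end Groth.Agent.S14686
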