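import Groth.Statements.S14687
import Groth.Agent.S14540
import Groth.Agent.SekSuwa3.GTorsorGlobal
-- import your own Groth.Agent.* helpers here

set_option autoImplicit false
set_option backward.isDefEq.respectTransparency false
set_option backward.isDefEq.respectTransparency.types false
universe u
open CategoryTheory AlgebraicGeometry
open SekSuwa

namespace Groth.Agent.S14687

/-- Let R be a discrete valuation ring of characteristic zero and residue characteristic p, λ ≠ 0 in R,
and X a scheme flat over Spec R, with X_λ = X ×_R Spec(R/λR) its closed subscheme where λ vanishes.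
Suppose that the restriction map on global units Γ(X, O_X)^× → Γ(X_λ, O_{X_λ})^× is surjective and
that Pic X = 0, taken in the form the argument uses: every torsor for the fppf topology over X under
the multiplicative group has a section. Then every torsor for the fppf topology over X under (the
base change to X of) the affine R-group G^(λ) = Spec R[T, 1/(1+λT)] with law s + t + λst has a
section over X; that is, H¹(X, G^(λ)) is trivial. -/
theorem result (R : Type u) [CommRing R] [IsDomain R] [IsDiscreteValuationRing R] [CharZero R]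
    (p : ℕ) [Fact p.Prime] [CharP (IsLocalRing.ResidueField R) p]
    (lam : R) (hlam : lam ≠ 0)
    (X : Scheme.{u}) (f : X ⟶ Spec (CommRingCat.of R)) [Flat f]
    (hunit : Function.Surjective (Units.map
      (Limits.pullback.fst f (Spec.map (CommRingCat.ofHom (Ideal.Quotient.mk (Ideal.span ({lam} : Set R)))))).appTop.hom.toMonoidHom))
    (hpic : ∀ (Q : Over X) (b : AlgGrp.Action (Red.bc f (Red.diag R ℤ)) Q),
      NonAbH1.IsTorsorFor Scheme.fppfPrecoverage b → NonAbH1.HasSectionOver Q (𝟙 X))
    (P : Over X) (a : AlgGrp.Action (Red.bc f (SekSuwa.G R lam)) P)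
    (hP : NonAbH1.IsTorsorFor Scheme.fppfPrecoverage a) :
    NonAbH1.HasSectionOver P (𝟙 X) := by
  obtain ⟨hps, R', hR, hsec⟩ := hP
  have hfpqc : NonAbH1.IsTorsorFor Scheme.fpqcPrecoverage a :=
    ⟨hps, R', Scheme.fppfPrecoverage_le_fpqcPrecoverage _ hR, hsec⟩
  haveI : IsAffineHom (Red.bc f (SekSuwa.G R lam)).hom :=
    MorphismProperty.pullback_snd (P := @IsAffineHom) (SekSuwa.G R lam).hom f (inferInstanceAs (IsAffineHom (Spec.map (CommRingCat.ofHom (algebraMap R (SekSuwa.A R lam))))))
  haveI : IsAffineHom (Red.bc f (Red.diag R ℤ)).hom :=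
    MorphismProperty.pullback_snd (P := @IsAffineHom) (Red.diag R ℤ).hom f (inferInstanceAs (IsAffineHom (Spec.map (CommRingCat.ofHom (algebraMap R (MonoidAlgebra R (Multiplicative ℤ)))))))
  haveI : IsMonHom (Groth.Agent.SekSuwa3.alphaX lam f) :=
    inferInstanceAs (IsMonHom ((Over.pullback f).map (SekSuwa.alpha R lam)))
  obtain ⟨P', q, hq⟩ := Groth.Agent.S14540.result (Groth.Agent.SekSuwa3.alphaX lam f) ⟨P, a, hfpqc⟩
  have hP' : NonAbH1.IsTorsorFor Scheme.fppfPrecoverage P'.act := by
    refine ⟨P'.isTorsor.1, R', hR, fun {Y} h hh => ?_⟩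
    obtain ⟨s, hs⟩ := hsec h hh
    exact ⟨s ≫ q.left, by rw [Category.assoc, Over.w q]; exact hs⟩
  obtain ⟨σ, hσ⟩ := hpic P'.X P'.act hP'
  exact Groth.Agent.SekSuwa3.hasSection_of_push hlam hunit a P'.act hfpqc P'.isTorsor.1 q hq
    (Over.homMk σ hσ)

end Groth.Agent.S14687
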