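import Groth.Statements.S14695
import Groth.Agent.NonAb.NormalBase
import Groth.Agent.AlgSpLib.FppfLocal

set_option autoImplicit false
universe u
open CategoryTheory AlgebraicGeometry
open NonAbH1

namespace Groth.Agent.S14695

open CategoryTheory MonoidalCategory CartesianMonoidalCategory in
/-- In the case where the morphism Y → X is the identity of X: let X be a normal integral scheme
(integral, with every local ring an integrally closed domain), G and G' X-group schemes which are
finite and flat over X, and g : G → G' a homomorphism which becomes an isomorphism after base change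
to the spectrum of the function field of X. If an fppf G-torsor P over X becomes trivial after
extension of the structure group along g — there is an fppf G'-torsor P' over X with a g-equivariant
X-morphism P → P', and P' has a section over X — then P has a section over X. (The published
statement takes G, G' commutative and all schemes Noetherian, allows also composition with the
pull-back along a morphism Y → X admitting a rational section, and is phrased as injectivity of
H¹(X, G) → H¹(Y, G'_Y); this row is the case where Y → X is the identity of X, as the trivial-kernel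
assertion the argument establishes, for which commutativity and the Noetherian condition are not
needed.) -/
theorem result {X : Scheme.{u}} [IsIntegral X]
    (hX : Pi1.IsNormalScheme X) (G G' : Over X) [GrpObj G] [GrpObj G']
    [IsFinite G.hom] [Flat G.hom] [IsFinite G'.hom] [Flat G'.hom]
    (g : G ⟶ G') [IsMonHom g]
    (hg : IsIso ((Over.pullback (X.fromSpecStalk (genericPoint X))).map g))
    (P : Over X) (a : AlgGrp.Action G P) (hP : NonAbH1.IsTorsorFor Scheme.fppfPrecoverage a)
    (P' : Over X) (a' : AlgGrp.Action G' P') (hP' : NonAbH1.IsTorsorFor Scheme.fppfPrecoverage a')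
    (hpush : NonAbH1.IsPushforwardAlongSch g a a') (htriv : NonAbH1.HasSectionOver P' (𝟙 X)) :
    NonAbH1.HasSectionOver P (𝟙 X) := by
  let η := X.fromSpecStalk (genericPoint X)
  obtain ⟨φ, hφ⟩ := hpush
  let gη := (Over.pullback η).map g
  have : IsIso gη := hg
  have : IsMonHom gη := by infer_instance
  let a'' : AlgGrp.Action (Red.bc η G) (Red.bc η P') := (a'.bc η).restrict gη
  have hps : NonAbH1.IsPseudoTorsorSch a'' := by
    have : IsIso (lift (a'.bc η).act (snd _ _)) := NonAbH1.isPseudoTorsorSch_bc η hP'.1
    show IsIso (lift a''.act (snd (Red.bc η G) (Red.bc η P')))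
    have e : lift a''.act (snd (Red.bc η G) (Red.bc η P')) =
        (gη ▷ Red.bc η P') ≫ lift (a'.bc η).act (snd _ _) := by
      simp [a'']
    rw [e]
    infer_instance
  have heq : (a.bc η).act ≫ (Over.pullback η).map φ =
      (Red.bc η G ◁ (Over.pullback η).map φ) ≫ a''.act := by
    rw [NonAbLib.isPushforwardAlongSch_bc η hφ]
    simp only [a'', AlgGrp.Action.restrict_act, ← Category.assoc]
    congr 1
    refine CartesianMonoidalCategory.hom_ext _ _ ?_ ?_ <;> simp [gη]
  have : IsIso ((Over.pullback η).map φ) := NonAbLib.isIso_of_equivariant
    (NonAbH1.isTorsorFor_bc η Scheme.fpqcPrecoverage (NonAbLib.fppf_isTorsorFor_fpqc hP)) hps _ heq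
  obtain ⟨σ', hσ'⟩ := htriv
  refine NonAbLib.hasSectionOver_of_generic hX (NonAbLib.fppf_isTorsorFor_fpqc hP)
    Groth.Agent.Et18.descends_isFinite ?_
  let t : Over.mk (𝟙 (Spec X.functionField)) ⟶ Red.bc η P' :=
    Over.homMk (Limits.pullback.lift (η ≫ σ') (𝟙 _) (by simp [hσ']))
      (Limits.pullback.lift_snd _ _ _)
  let r := t ≫ inv ((Over.pullback η).map φ)
  refine ⟨r.left ≫ Limits.pullback.fst P.hom η, ?_⟩
  rw [Category.assoc, Limits.pullback.condition, ← Category.assoc]
  have hr : r.left ≫ Limits.pullback.snd P.hom η = 𝟙 _ := Over.w r
  rw [hr]
  exact Category.id_comp η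

end Groth.Agent.S14695
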