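import Groth.Statements.S14688
import Groth.Agent.S14695
import Groth.Agent.SekSuwaKer5.Main
-- import your own Groth.Agent.* helpers here

set_option autoImplicit false
universe u
open CategoryTheory AlgebraicGeometry
open SekSuwa

namespace Groth.Agent.S14688

open CategoryTheory.Limits MonoidalCategory CartesianMonoidalCategory Polynomial
open scoped TensorProduct

theorem flat_fromSpecStalk {T : Scheme.{u}} (t : T) : Flat (T.fromSpecStalk t) := by
  obtain ⟨_, ⟨V, hV, rfl⟩, htV, -⟩ :=
    T.isBasis_affineOpens.exists_subset_of_mem_open (Set.mem_univ t) isOpen_univ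
  rw [← hV.fromSpecStalk_eq_fromSpecStalk htV, IsAffineOpen.fromSpecStalk]
  let := (T.presheaf.germ V t htV).hom.toAlgebra
  have := hV.isLocalization_stalk ⟨t, htV⟩
  have h1 : Flat (Spec.map (T.presheaf.germ V t htV)) :=
    Flat.SpecMap_iff.2 (RingHom.flat_algebraMap_iff.mpr
      (IsLocalization.flat (R := Γ(T, V)) (T.presheaf.stalk t) (hV.primeIdealOf ⟨t, htV⟩).asIdeal.primeCompl))
  infer_instance

/-- Over an algebra in which `λ` is a unit the comorphism of `α^{λ,N}` is bijective. -/
theorem bijective_map_alphaN {R : Type u} [CommRing R] (lam : R) (N : ℕ) (hN : 0 < N) (h : DivCond lam N)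
    (K : Type u) [CommRing K] [Algebra R K] (hu : IsUnit (algebraMap R K lam)) :
    Function.Bijective (Algebra.TensorProduct.map
      (alphaNHom R lam N h : MonoidAlgebra R (Multiplicative (ZMod N)) →ₐ[R] AK R lam N h) (AlgHom.id R K)) := by
  haveI : NeZero N := ⟨hN.ne'⟩
  obtain ⟨v, hv⟩ := hu
  let MA := MonoidAlgebra R (Multiplicative (ZMod N))
  let F := Algebra.TensorProduct.map (alphaNHom R lam N h : MA →ₐ[R] AK R lam N h) (AlgHom.id R K)
  let gen : MA := MonoidAlgebra.single (Multiplicative.ofAdd (1 : ZMod N)) 1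
  let c : MA ⊗[R] K := (gen ⊗ₜ 1 - 1) * ((1 : MA) ⊗ₜ ((v⁻¹ : Kˣ) : K))
  have hlam : algebraMap R (MA ⊗[R] K) lam = (1 : MA) ⊗ₜ (v : K) := by
    rw [hv]
    exact (Algebra.TensorProduct.includeRight (R := R) (A := MA)).commutes lam |>.symm
  have hgen : gen ^ N = 1 := by
    rw [MonoidAlgebra.single_pow, one_pow, ← ofAdd_nsmul, nsmul_one, ZMod.natCast_self]
    rfl
  have hu' : IsUnit (algebraMap R (MA ⊗[R] K) lam) := by
    rw [hlam]
    exact (Units.isUnit v).map (Algebra.TensorProduct.includeRight (R := R) (A := MA))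
  have h1c : 1 + algebraMap R (MA ⊗[R] K) lam * c = gen ⊗ₜ 1 := by
    rw [hlam]
    show 1 + (1 : MA) ⊗ₜ (v : K) * ((gen ⊗ₜ 1 - 1) * ((1 : MA) ⊗ₜ ((v⁻¹ : Kˣ) : K))) = _
    rw [mul_left_comm, Algebra.TensorProduct.tmul_mul_tmul, one_mul, Units.mul_inv,
      ← Algebra.TensorProduct.one_def, mul_one, add_sub_cancel]
  have hroot : (psiPoly lam N h).eval₂
      ((Algebra.ofId R (MA ⊗[R] K) : R →ₐ[R] MA ⊗[R] K) : R →+* MA ⊗[R] K) c = 0 := by
    have e := aeval_psiPoly h c
    rw [h1c, Algebra.TensorProduct.tmul_pow, hgen, one_pow, ← Algebra.TensorProduct.one_def, sub_self,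
      map_pow] at e
    exact ((hu'.pow N).mul_right_eq_zero).1 e
  let e := SekSuwaKer5.equivRoot R lam N h hN
  let G₀ : AK R lam N h →ₐ[R] MA ⊗[R] K :=
    (AdjoinRoot.liftAlgHom (psiPoly lam N h) (Algebra.ofId R _) c hroot).comp e.symm.toAlgHom
  let G := Algebra.TensorProduct.lift G₀
    (Algebra.TensorProduct.includeRight : K →ₐ[R] MA ⊗[R] K) fun _ _ => Commute.all _ _
  have het : e (AdjoinRoot.root _) = AK.t :=
    AdjoinRoot.liftAlgHom_root (psiPoly lam N h) (Algebra.ofId R (AK R lam N h)) AK.t AK.aeval_t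
  have hG₀ : G₀ AK.t = c := by
    show AdjoinRoot.liftAlgHom (psiPoly lam N h) (Algebra.ofId R _) c hroot (e.symm AK.t) = c
    rw [← het, e.symm_apply_apply]
    exact AdjoinRoot.liftAlgHom_root _ _ _ _
  have hFgen : F (gen ⊗ₜ 1) = (1 + lam • AK.t) ⊗ₜ 1 := by
    simp [F, gen, alphaNHom_single_one]
  have h1 : F.comp G = AlgHom.id R _ := by
    refine Algebra.TensorProduct.ext ?_ (AlgHom.ext fun b => by simp [F, G])
    have key : ((F.comp G).comp Algebra.TensorProduct.includeLeft).comp e.toAlgHom =
        (Algebra.TensorProduct.includeLeft : AK R lam N h →ₐ[R] AK R lam N h ⊗[R] K).comp e.toAlgHom := by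
      refine AdjoinRoot.algHom_ext ?_
      show F (G (e _ ⊗ₜ 1)) = e _ ⊗ₜ 1
      rw [het, Algebra.TensorProduct.lift_tmul, hG₀, map_one, mul_one]
      show F ((gen ⊗ₜ 1 - 1) * ((1 : MA) ⊗ₜ ((v⁻¹ : Kˣ) : K))) = _
      rw [map_mul, map_sub, map_one, hFgen]
      show ((1 + lam • AK.t) ⊗ₜ[R] (1 : K) - 1) * F ((1 : MA) ⊗ₜ ((v⁻¹ : Kˣ) : K)) = _
      rw [show F ((1 : MA) ⊗ₜ ((v⁻¹ : Kˣ) : K)) = 1 ⊗ₜ ((v⁻¹ : Kˣ) : K) by simp [F],
        TensorProduct.add_tmul, ← Algebra.TensorProduct.one_def, add_sub_cancel_left,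
        Algebra.TensorProduct.tmul_mul_tmul, mul_one, one_mul, TensorProduct.smul_tmul, Algebra.smul_def, ← hv,
        Units.mul_inv]
    refine AlgHom.ext fun b => ?_
    simpa using DFunLike.congr_fun key (e.symm b)
  have h2 : G.comp F = AlgHom.id R _ := by
    refine Algebra.TensorProduct.ext ?_ (AlgHom.ext fun b => by simp [F, G])
    refine MonoidAlgebra.algHom_ext (fun m => ?_) (Subsingleton.elim _ _)
    have hm : (MonoidAlgebra.single m 1 : MA) = gen ^ (Multiplicative.toAdd m).val := by
      rw [MonoidAlgebra.single_pow, one_pow, ← ofAdd_nsmul, nsmul_one, ZMod.natCast_zmod_val, ofAdd_toAdd]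
    rw [hm]
    simp only [map_pow]
    congr 1
    show G (F (gen ⊗ₜ 1)) = gen ⊗ₜ 1
    rw [hFgen, Algebra.TensorProduct.lift_tmul, map_one, mul_one, map_add, map_one, map_smul, hG₀,
      ← algebraMap_smul (MA ⊗[R] K) lam c, smul_eq_mul]
    exact h1c
  exact Function.bijective_iff_has_inverse.2 ⟨G, fun x => DFunLike.congr_fun h2 x, fun x => DFunLike.congr_fun h1 x⟩

/-- Base change to a ring in which `λ` is a unit turns `α^{λ,N}` into an isomorphism. -/
theorem isIso_pullback_alphaN {R : Type u} [CommRing R] (lam : R) (N : ℕ) (hN : 0 < N) (h : DivCond lam N)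
    (K : Type u) [CommRing K] [Algebra R K] (hu : IsUnit (algebraMap R K lam)) :
    IsIso ((Over.pullback (Spec.map (CommRingCat.ofHom (algebraMap R K)))).map (alphaN R lam N h)) := by
  let MA := MonoidAlgebra R (Multiplicative (ZMod N))
  let F := Algebra.TensorProduct.map (alphaNHom R lam N h : MA →ₐ[R] AK R lam N h) (AlgHom.id R K)
  haveI : IsIso (CommRingCat.ofHom F.toRingHom) :=
    (ConcreteCategory.isIso_iff_bijective _).2 (bijective_map_alphaN lam N hN h K hu)
  let g := Spec.map (CommRingCat.ofHom (algebraMap R K))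
  let m := (Over.pullback g).map (alphaN R lam N h)
  suffices IsIso m.left by
    haveI : IsIso ((Over.forget _).map m) := this
    exact isIso_of_reflects_iso m (Over.forget _)
  have key : (pullbackSpecIso R (AK R lam N h) K).inv ≫ m.left =
      Spec.map (CommRingCat.ofHom F.toRingHom) ≫ (pullbackSpecIso R MA K).inv := by
    refine pullback.hom_ext ?_ ?_
    · have e : m.left ≫ pullback.fst _ _ = pullback.fst _ _ ≫ (alphaN R lam N h).left := pullback.lift_fst _ _ _
      refine (Category.assoc _ _ _).trans (((congrArg _ e).trans (Category.assoc _ _ _).symm).trans ?_)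
      erw [pullbackSpecIso_inv_fst, Category.assoc, pullbackSpecIso_inv_fst]
      change Spec.map _ ≫ Spec.map (CommRingCat.ofHom (alphaNHom R lam N h :
        MA →ₐ[R] AK R lam N h).toRingHom) = Spec.map _ ≫ Spec.map _
      refine (Spec.map_comp _ _).symm.trans (Eq.trans ?_ (Spec.map_comp _ _))
      congr 1
    · have e : m.left ≫ pullback.snd _ _ = pullback.snd _ _ := pullback.lift_snd _ _ _
      refine (Category.assoc _ _ _).trans ((congrArg _ e).trans ?_)
      erw [pullbackSpecIso_inv_snd, Category.assoc, pullbackSpecIso_inv_snd]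
      refine Eq.trans ?_ (Spec.map_comp _ _)
      congr 1
      ext x
      show (1 : AK R lam N h) ⊗ₜ[R] x = F (1 ⊗ₜ x)
      simp [F]
  have hiso : IsIso ((pullbackSpecIso R (AK R lam N h) K).inv ≫ m.left) := by
    rw [key]
    haveI : IsIso (Spec.map (CommRingCat.ofHom F.toRingHom)) := inferInstance
    exact IsIso.comp_isIso' ‹_› (Iso.isIso_inv _)
  exact IsIso.of_isIso_comp_left (pullbackSpecIso R (AK R lam N h) K).inv m.left

/-- Let R be a discrete valuation ring of characteristic zero and residue characteristic p, n ≥ 1, λ ∈ R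
satisfying the divisibility condition under which the finite flat R-group scheme G_{λ,n} (the kernel
of ψ on the one-parameter group with law s + t + λst, of order p^n) and its homomorphism α^{λ,n} to
μ_{p^n} are defined, and X a normal integral scheme which is faithfully flat over Spec R. If an fppf
torsor P over X under G_{λ,n} becomes trivial after extension of the structure group along α^{λ,n} —
there is an fppf μ_{p^n}-torsor P' over X with an α^{λ,n}-equivariant X-morphism P → P', and P' has
a section over X — then P has a section over X. So H¹(X, G_{λ,n}) → H¹(X, μ_{p^n}) has trivial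
kernel, and the groups H¹(X, G_{π^i,n}) for decreasing i form an increasing filtration of H¹(X,
μ_{p^n}). (The published statement is the filtration itself, for the commutative groups in question
injectivity of these homomorphisms; the trivial-kernel assertion stated here is what the argument
establishes.) -/
theorem result (R : Type u) [CommRing R] [IsDomain R] [IsDiscreteValuationRing R] [CharZero R]
    (p : ℕ) [Fact p.Prime] [CharP (IsLocalRing.ResidueField R) p]
    (n : ℕ) (hn : 0 < n) (lam : R) (h : SekSuwa.DivCond lam (p ^ n))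
    (X : Scheme.{u}) [IsIntegral X] (hX : Pi1.IsNormalScheme X)
    (f : X ⟶ Spec (CommRingCat.of R)) [Flat f] [Surjective f]
    (P : Over X) (a : AlgGrp.Action (Red.bc f (SekSuwa.GK R lam (p ^ n) h)) P)
    (hP : NonAbH1.IsTorsorFor Scheme.fppfPrecoverage a)
    (P' : Over X) (a' : AlgGrp.Action (Red.bc f (Red.diag R (ZMod (p ^ n)))) P')
    (hP' : NonAbH1.IsTorsorFor Scheme.fppfPrecoverage a')
    (hpush : NonAbH1.IsPushforwardAlongSch ((Over.pullback f).map (SekSuwa.alphaN R lam (p ^ n) h)) a a')
    (htriv : NonAbH1.HasSectionOver P' (𝟙 X)) :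
    NonAbH1.HasSectionOver P (𝟙 X) := by
  haveI : NeZero (p ^ n) := ⟨pow_ne_zero n (Fact.out : p.Prime).ne_zero⟩
  have hN : 0 < p ^ n := pow_pos (Fact.out : p.Prime).pos n
  let GKn := GK R lam (p ^ n) h
  let D := Red.diag R (ZMod (p ^ n))
  haveI hG1 : IsFinite GKn.hom := (SekSuwaKer5.isFinLocFreeOfDeg_GK R lam (p ^ n) h hN).1.1
  haveI hG2 : Flat GKn.hom := (SekSuwaKer5.isFinLocFreeOfDeg_GK R lam (p ^ n) h hN).1.2.1
  haveI hD1 : IsFinite D.hom := by
    show IsFinite (Spec.map (CommRingCat.ofHom (algebraMap R (MonoidAlgebra R (Multiplicative (ZMod (p ^ n)))))))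
    rw [IsFinite.SpecMap_iff]
    exact RingHom.finite_algebraMap.mpr (Module.Finite.of_basis
      (MonoidAlgebra.basis (Multiplicative (ZMod (p ^ n))) R))
  haveI hD2 : Flat D.hom := by
    show Flat (Spec.map (CommRingCat.ofHom (algebraMap R (MonoidAlgebra R (Multiplicative (ZMod (p ^ n)))))))
    rw [Flat.SpecMap_iff]
    exact RingHom.flat_algebraMap_iff.mpr inferInstance
  haveI : IsFinite (Red.bc f GKn).hom := MorphismProperty.pullback_snd (P := @IsFinite) _ _ hG1
  haveI : Flat (Red.bc f GKn).hom := MorphismProperty.pullback_snd (P := @Flat) _ _ hG2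
  haveI : IsFinite (Red.bc f D).hom := MorphismProperty.pullback_snd (P := @IsFinite) _ _ hD1
  haveI : Flat (Red.bc f D).hom := MorphismProperty.pullback_snd (P := @Flat) _ _ hD2
  let η := X.fromSpecStalk (genericPoint X)
  let φ : CommRingCat.of R ⟶ X.functionField := Spec.preimage (η ≫ f)
  letI : Algebra R X.functionField := φ.hom.toAlgebra
  have hφ : Spec.map (CommRingCat.ofHom (algebraMap R X.functionField)) = η ≫ f := Spec.map_preimage _
  haveI : Flat η := flat_fromSpecStalk _
  have hflat : Module.Flat R X.functionField := by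
    have h1 : Flat (Spec.map (CommRingCat.ofHom (algebraMap R X.functionField))) := by rw [hφ]; infer_instance
    rw [Flat.SpecMap_iff] at h1
    exact RingHom.flat_algebraMap_iff.1 h1
  have hu : IsUnit (algebraMap R X.functionField lam) := by
    refine isUnit_iff_ne_zero.2 fun e => one_ne_zero (α := X.functionField) ?_
    exact Module.Flat.isSMulRegular_of_nonZeroDivisors (M := X.functionField) h.nzd
      (show lam • (1 : X.functionField) = lam • 0 by rw [Algebra.smul_def, e, zero_mul, smul_zero])
  have hiso : IsIso ((Over.pullback (η ≫ f)).map (alphaN R lam (p ^ n) h)) :=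
    hφ ▸ isIso_pullback_alphaN lam (p ^ n) hN h X.functionField hu
  refine Groth.Agent.S14695.result hX _ _ ((Over.pullback f).map (alphaN R lam (p ^ n) h)) ?_ P a hP P' a' hP' hpush htriv
  exact (NatIso.isIso_map_iff (Over.pullbackComp η f) _).1 hiso

end Groth.Agent.S14688
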