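import Groth.Statements.S14689
import Groth.Agent.SekSuwaKer5.Main
import Groth.Agent.SekSuwa3.BCPoints
-- import your own Groth.Agent.* helpers here

set_option autoImplicit false
universe u
open CategoryTheory AlgebraicGeometry
open SekSuwa

namespace Groth.Agent.S14689

set_option backward.isDefEq.respectTransparency.types false

open CategoryTheory.Limits MonoidalCategory CartesianMonoidalCategory MonObj Polynomial
open scoped TensorProduct
open Groth.Agent.SekSuwa3

noncomputable section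

section Aux

variable {K : Type u} [CommRing K] (m : K) (q : K[X]) {n : ℕ}

/-- A polynomial identity `q(X + Y + mXY) = q(X) q(Y)` follows from its validity in the generic pair of roots
of a monic `Ψ` of degree `> deg q`. -/
theorem law_identity (Ψ : K[X]) (hΨ : Ψ.Monic) (hdeg : q.natDegree ≤ n) (hn : n < Ψ.natDegree)
    (h : let C1 := AdjoinRoot Ψ
      let b : AdjoinRoot (Ψ.map (AdjoinRoot.of Ψ)) := AdjoinRoot.of _ (AdjoinRoot.root Ψ)
      let c : AdjoinRoot (Ψ.map (AdjoinRoot.of Ψ)) := AdjoinRoot.root _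
      let jj : K →+* AdjoinRoot (Ψ.map (AdjoinRoot.of Ψ)) := (AdjoinRoot.of _).comp (AdjoinRoot.of Ψ)
      q.eval₂ jj (b + c + jj m * b * c) = q.eval₂ jj b * q.eval₂ jj c) :
    ∀ {B : Type u} [CommRing B] (jj : K →+* B) (b c : B),
      q.eval₂ jj (b + c + jj m * b * c) = q.eval₂ jj b * q.eval₂ jj c := by
  intro B _ jj b c
  rcases subsingleton_or_nontrivial K with hK | hK
  · haveI : Subsingleton B := subsingleton_of_zero_eq_one (by rw [← map_zero jj, ← map_one jj, Subsingleton.elim (0 : K) 1])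
    exact Subsingleton.elim _ _
  let CC : K →+* K[X][X] := (C : K[X] →+* K[X][X]).comp C
  let L : K[X][X] := C X + C (1 + C m * X) * X
  let P : K[X][X] := q.eval₂ CC L - C q * q.eval₂ CC X
  have hL1 : L.natDegree ≤ 1 := by simp only [L]; compute_degree
  have hL2 : ∀ j, (L.coeff j).natDegree ≤ 1 := by
    intro j
    simp only [L, coeff_add, coeff_C, coeff_C_mul, coeff_X]
    refine (natDegree_add_le _ _).trans (max_le ?_ ?_)
    · split_ifs <;> simp
    · split_ifs <;> simp <;> compute_degree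
  have hpow : ∀ k j, ((L ^ k).coeff j).natDegree ≤ k := by
    intro k
    induction k with
    | zero => intro j; simp only [pow_zero, coeff_one]; split_ifs <;> simp
    | succ k ih =>
      intro j
      rw [pow_succ, coeff_mul]
      exact natDegree_sum_le_of_forall_le _ _ fun x _ =>
        natDegree_mul_le.trans (Nat.add_le_add (ih _) (hL2 _))
  have hY : ∀ (Z : K[X][X]), Z.natDegree ≤ 1 → (q.eval₂ CC Z).natDegree ≤ n := fun Z hZ => by
    rw [eval₂_eq_sum_range]
    refine natDegree_sum_le_of_forall_le _ _ fun i hi => natDegree_mul_le.trans ?_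
    have hi' : i ≤ n := (Nat.lt_succ_iff.1 (Finset.mem_range.1 hi)).trans hdeg
    have := natDegree_pow_le (p := Z) (n := i)
    simp only [CC, RingHom.comp_apply, natDegree_C, zero_add]
    calc (Z ^ i).natDegree ≤ i * Z.natDegree := this
      _ ≤ i * 1 := Nat.mul_le_mul_left i hZ
      _ ≤ n := by omega
  have hP1 : P.natDegree ≤ n := by
    refine (natDegree_sub_le _ _).trans (max_le (hY L hL1) ((natDegree_C_mul_le _ _).trans (hY X ?_)))
    exact natDegree_X_le
  have hP2 : ∀ j, (P.coeff j).natDegree ≤ n := by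
    intro j
    rw [show P.coeff j = (q.eval₂ CC L).coeff j - (C q * q.eval₂ CC X).coeff j from coeff_sub _ _ _]
    refine (natDegree_sub_le _ _).trans (max_le ?_ ?_)
    · rw [eval₂_eq_sum_range, finsetSum_coeff]
      refine natDegree_sum_le_of_forall_le _ _ fun i hi => ?_
      have hi' : i ≤ n := (Nat.lt_succ_iff.1 (Finset.mem_range.1 hi)).trans hdeg
      rw [show CC (q.coeff i) = C (C (q.coeff i)) from rfl, coeff_C_mul]
      exact (natDegree_C_mul_le _ _).trans ((hpow i j).trans hi')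
    · rw [coeff_C_mul, eval₂_eq_sum_range, finsetSum_coeff]
      refine natDegree_mul_le.trans ?_
      have h0 : (∑ i ∈ Finset.range (q.natDegree + 1), (CC (q.coeff i) * X ^ i).coeff j).natDegree ≤ 0 := by
        refine natDegree_sum_le_of_forall_le _ _ fun i _ => ?_
        rw [show CC (q.coeff i) = C (C (q.coeff i)) from rfl, coeff_C_mul, coeff_X_pow]
        split_ifs <;> simp
      omega
  have key : ∀ {B : Type u} [CommRing B] (jj : K →+* B) (b c : B),
      eval₂RingHom (eval₂RingHom jj b) c P =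
        q.eval₂ jj (b + c + jj m * b * c) - q.eval₂ jj b * q.eval₂ jj c := by
    intro B _ jj b c
    have hc : (eval₂RingHom (eval₂RingHom jj b) c).comp CC = jj := RingHom.ext fun x => by simp [CC]
    rw [map_sub, map_mul, hom_eval₂, hom_eval₂, hc]
    congr 1
    · congr 1
      simp only [L, map_add, map_mul, map_one, coe_eval₂RingHom, eval₂_C, eval₂_X]
      ring
    · simp
  have hP : P = 0 := by
    set Ψ' := Ψ.map (AdjoinRoot.of Ψ) with hΨ'
    have h0 := (key ((AdjoinRoot.of Ψ').comp (AdjoinRoot.of Ψ)) (AdjoinRoot.of Ψ' (AdjoinRoot.root Ψ))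
      (AdjoinRoot.root Ψ')).trans (sub_eq_zero.2 h)
    have e : eval₂RingHom (eval₂RingHom ((AdjoinRoot.of Ψ').comp (AdjoinRoot.of Ψ))
        (AdjoinRoot.of Ψ' (AdjoinRoot.root Ψ))) (AdjoinRoot.root Ψ') =
        (AdjoinRoot.mk Ψ').comp (mapRingHom (AdjoinRoot.mk Ψ)) := by
      refine ringHom_ext (fun a => ?_) ?_
      · have e2 : eval₂RingHom ((AdjoinRoot.of Ψ').comp (AdjoinRoot.of Ψ)) (AdjoinRoot.of Ψ' (AdjoinRoot.root Ψ)) =
            (AdjoinRoot.of Ψ').comp (AdjoinRoot.mk Ψ) := ringHom_ext (fun a => by simp) (by simp)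
        rw [coe_eval₂RingHom, eval₂_C, e2]
        simp
      · simp
    rw [e] at h0
    have hmd : Ψ'.natDegree = Ψ.natDegree := by
      haveI : Nontrivial (AdjoinRoot Ψ) := Ideal.Quotient.nontrivial_iff.2 fun e => by
        have e1 := hΨ.isUnit_iff.1 (Ideal.span_singleton_eq_top.1 e)
        rw [e1, natDegree_one] at hn
        omega
      exact Monic.natDegree_map hΨ _
    have h1 : P.map (AdjoinRoot.mk Ψ) = 0 := by
      by_contra hne
      refine (hΨ.map (AdjoinRoot.of Ψ)).not_dvd_of_natDegree_lt hne ?_ (AdjoinRoot.mk_eq_zero.1 h0)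
      exact (natDegree_map_le.trans hP1).trans_lt (hmd ▸ hn)
    ext1 j
    by_contra hne
    have h2 : AdjoinRoot.mk Ψ (P.coeff j) = 0 := by rw [← coeff_map, h1, coeff_zero]
    exact hΨ.not_dvd_of_natDegree_lt hne ((hP2 j).trans_lt hn) (AdjoinRoot.mk_eq_zero.1 h2)
  exact sub_eq_zero.1 ((key jj b c).symm.trans (by rw [hP, map_zero]))

end Aux

section Geom

variable {R : Type u} [CommRing R] (J : Ideal R)

/-- `Spec (R/J) → Spec R`. -/
abbrev gJ : Spec (CommRingCat.of (R ⧸ J)) ⟶ Spec (CommRingCat.of R) :=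
  Spec.map (CommRingCat.ofHom (Ideal.Quotient.mk J))

variable {J}

/-- The structure map into global functions. -/
def str (X : Over (Spec (CommRingCat.of (R ⧸ J)))) : (R ⧸ J) →+* Γ(X.left, ⊤) :=
  ((Scheme.ΓSpecIso (CommRingCat.of (R ⧸ J))).inv ≫ X.hom.appTop).hom

theorem str_mk (X : Over (Spec (CommRingCat.of (R ⧸ J)))) (r : R) :
    letI := algOf (gJ J) X
    str X (Ideal.Quotient.mk J r) = algebraMap R Γ(X.left, ⊤) r := by
  show X.hom.appTop _ = (X.hom ≫ gJ J).appTop _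
  rw [Scheme.Hom.comp_appTop, CommRingCat.comp_apply]
  congr 1
  exact ConcreteCategory.congr_hom (Scheme.ΓSpecIso_inv_naturality (CommRingCat.ofHom (Ideal.Quotient.mk J))) r

theorem str_comp {X X' : Over (Spec (CommRingCat.of (R ⧸ J)))} (f : X' ⟶ X) (a : R ⧸ J) :
    f.left.appTop (str X a) = str X' a := by
  show f.left.appTop (X.hom.appTop _) = X'.hom.appTop _
  rw [← Over.w f, Scheme.Hom.comp_appTop, CommRingCat.comp_apply]

theorem z_ext {X : Over (Spec (CommRingCat.of (R ⧸ J)))} {x y : X ⟶ bcA (gJ J) (MonoidAlgebra R (Multiplicative ℤ))}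
    (h : fn x (MonoidAlgebra.single (Multiplicative.ofAdd (1 : ℤ)) 1) =
      fn y (MonoidAlgebra.single (Multiplicative.ofAdd (1 : ℤ)) 1)) : x = y := by
  letI := algOf (gJ J) X
  refine fn_injective (congrArg AlgHom.toRingHom
    (((MonoidAlgebra.lift R Γ(X.left, ⊤) _).symm.injective ?_ : fnAlg x = fnAlg y)))
  have key : ((fnAlg x).toMonoidHom.comp (MonoidAlgebra.of R (Multiplicative ℤ))) =
      (fnAlg y).toMonoidHom.comp (MonoidAlgebra.of R (Multiplicative ℤ)) := MonoidHom.ext_mint h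
  exact key

theorem fn_mul_z {X : Over (Spec (CommRingCat.of (R ⧸ J)))}
    (x y : X ⟶ bcA (gJ J) (MonoidAlgebra R (Multiplicative ℤ))) :
    fn (x * y) (MonoidAlgebra.single (Multiplicative.ofAdd (1 : ℤ)) 1) =
      fn x (MonoidAlgebra.single (Multiplicative.ofAdd (1 : ℤ)) 1) *
        fn y (MonoidAlgebra.single (Multiplicative.ofAdd (1 : ℤ)) 1) := by
  letI := algOf (gJ J) X
  rw [fn_mul, MonoidAlgebra.comul_single]
  simp
  rfl

theorem fn_z_of_idem {X : Over (Spec (CommRingCat.of (R ⧸ J)))}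
    (x : X ⟶ bcA (gJ J) (MonoidAlgebra R (Multiplicative ℤ))) (h : x * x = x) :
    fn x (MonoidAlgebra.single (Multiplicative.ofAdd (1 : ℤ)) 1) = 1 := by
  have hu : IsUnit (fn x (MonoidAlgebra.single (Multiplicative.ofAdd (1 : ℤ)) 1)) :=
    IsUnit.map (fn x) ⟨⟨_, MonoidAlgebra.single (Multiplicative.ofAdd (-1 : ℤ)) 1,
      by simp [MonoidAlgebra.single_mul_single, ← ofAdd_add, MonoidAlgebra.one_def],
      by simp [MonoidAlgebra.single_mul_single, ← ofAdd_add, MonoidAlgebra.one_def]⟩, rfl⟩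
  exact hu.mul_eq_left.1 ((fn_mul_z x x).symm.trans (congrArg (fun u => fn u _) h))

theorem fn_mul_t {H : Type u} [CommRing H] [HopfAlgebra R H] {mu : R} {t : H}
    (ht : CoalgebraStruct.comul (R := R) t = t ⊗ₜ[R] 1 + 1 ⊗ₜ[R] t + mu • (t ⊗ₜ[R] t))
    {X : Over (Spec (CommRingCat.of (R ⧸ J)))} (x y : X ⟶ bcA (gJ J) H) :
    fn (x * y) t = fn x t + fn y t + str X (Ideal.Quotient.mk J mu) * fn x t * fn y t := by
  letI := algOf (gJ J) X
  rw [fn_mul, ht, str_mk]
  simp [Algebra.smul_def, mul_assoc]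
  rfl

theorem equivRoot_root' {mu : R} {N : ℕ} {h : DivCond mu N} (hN : 0 < N) :
    SekSuwaKer5.equivRoot R mu N h hN (AdjoinRoot.root _) = AK.t :=
  AdjoinRoot.liftAlgHom_root (psiPoly mu N h) (Algebra.ofId R (AK R mu N h)) AK.t AK.aeval_t

theorem ak_ext {mu : R} {N : ℕ} {h : DivCond mu N} (hN : 0 < N) {B : Type u} [CommRing B] [Algebra R B]
    {f g : AK R mu N h →ₐ[R] B} (ht : f AK.t = g AK.t) : f = g := by
  refine AlgHom.ext fun a => ?_
  obtain ⟨b, rfl⟩ := (SekSuwaKer5.equivRoot R mu N h hN).surjective a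
  exact DFunLike.congr_fun (AdjoinRoot.algHom_ext
    (g₁ := f.comp (SekSuwaKer5.equivRoot R mu N h hN).toAlgHom)
    (g₂ := g.comp (SekSuwaKer5.equivRoot R mu N h hN).toAlgHom)
    (by simpa [equivRoot_root' hN] using ht)) b

theorem exists_point {mu : R} {N : ℕ} {h : DivCond mu N} (hN : 0 < N)
    {X : Over (Spec (CommRingCat.of (R ⧸ J)))} (b : Γ(X.left, ⊤))
    (hb : ((psiPoly mu N h).map (Ideal.Quotient.mk J)).eval₂ (str X) b = 0) :
    ∃ x : X ⟶ bcA (gJ J) (AK R mu N h), fn x AK.t = b := by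
  letI := algOf (gJ J) X
  have hb' : (psiPoly mu N h).eval₂ (Algebra.ofId R Γ(X.left, ⊤) : R →+* Γ(X.left, ⊤)) b = 0 := by
    rw [eval₂_map] at hb
    exact (congrArg (fun f => (psiPoly mu N h).eval₂ f b) (RingHom.ext (str_mk X))).symm.trans hb
  obtain ⟨x, hx⟩ := fnAlg_surjective (g := gJ J) (A := AK R mu N h)
    ((AdjoinRoot.liftAlgHom (psiPoly mu N h) (Algebra.ofId R _) b hb').comp
      (SekSuwaKer5.equivRoot R mu N h hN).symm.toAlgHom)
  refine ⟨x, (DFunLike.congr_fun hx AK.t).trans ?_⟩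
  show AdjoinRoot.liftAlgHom _ _ _ hb' ((SekSuwaKer5.equivRoot R mu N h hN).symm AK.t) = b
  rw [show (AK.t : AK R mu N h) = SekSuwaKer5.equivRoot R mu N h hN (AdjoinRoot.root _) from
    (equivRoot_root' hN).symm, AlgEquiv.symm_apply_apply]
  exact AdjoinRoot.liftAlgHom_root _ _ _ _

theorem psi_fn {mu : R} {N : ℕ} {h : DivCond mu N}
    {X : Over (Spec (CommRingCat.of (R ⧸ J)))} (x : X ⟶ bcA (gJ J) (AK R mu N h)) :
    ((psiPoly mu N h).map (Ideal.Quotient.mk J)).eval₂ (str X) (fn x AK.t) = 0 := by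
  letI := algOf (gJ J) X
  rw [eval₂_map, show (str X).comp (Ideal.Quotient.mk J) = algebraMap R Γ(X.left, ⊤) from RingHom.ext (str_mk X)]
  show aeval (fnAlg x AK.t) (psiPoly mu N h) = 0
  rw [aeval_algHom_apply, AK.aeval_t, map_zero]

theorem spec_over {C : Type u} [CommRing C] (i : (R ⧸ J) →+* C) (a : R ⧸ J) :
    str (Over.mk (Spec.map (CommRingCat.ofHom i))) a = (Scheme.ΓSpecIso (CommRingCat.of C)).inv (i a) :=
  (ConcreteCategory.congr_hom (Scheme.ΓSpecIso_inv_naturality (CommRingCat.ofHom i)) a).symm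

/-- The map to an affine scheme over `R/J` given by a ring map into global functions. -/
def toAff {C : Type u} [CommRing C] (i : (R ⧸ J) →+* C) {X : Over (Spec (CommRingCat.of (R ⧸ J)))}
    (f : C →+* Γ(X.left, ⊤)) (hf : f.comp i = str X) : X ⟶ Over.mk (Spec.map (CommRingCat.ofHom i)) :=
  Over.homMk (X.left.toSpecΓ ≫ Spec.map (CommRingCat.ofHom f)) (by
    show (_ ≫ _) ≫ Spec.map _ = _
    rw [Category.assoc, ← Spec.map_comp, show CommRingCat.ofHom i ≫ CommRingCat.ofHom f =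
      (Scheme.ΓSpecIso (CommRingCat.of (R ⧸ J))).inv ≫ X.hom.appTop from CommRingCat.hom_ext hf, Spec.map_comp]
    erw [← Scheme.toSpecΓ_naturality_assoc]
    erw [← SpecMap_ΓSpecIso_hom, ← Spec.map_comp, Iso.inv_hom_id, Spec.map_id, Category.comp_id])

theorem toAff_appTop {C : Type u} [CommRing C] (i : (R ⧸ J) →+* C) {X : Over (Spec (CommRingCat.of (R ⧸ J)))}
    (f : C →+* Γ(X.left, ⊤)) (hf : f.comp i = str X) (c : C) :
    (toAff i f hf).left.appTop ((Scheme.ΓSpecIso (CommRingCat.of C)).inv c) = f c := by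
  show (X.left.toSpecΓ ≫ Spec.map (CommRingCat.ofHom f)).appTop _ = _
  rw [Scheme.Hom.comp_appTop, Scheme.toSpecΓ_appTop]
  erw [Scheme.ΓSpecIso_naturality, CommRingCat.comp_apply, Iso.inv_hom_id_apply]
  rfl

/-- Homomorphisms of the finite subgroup to `𝔾ₘ` over `R/J` extend to the one-parameter group. -/
theorem extend (hJ : J ≠ ⊤) (mu : R) (p : ℕ) (hp : 0 < p) (h : DivCond mu p)
    (φ : bcA (gJ J) (AK R mu p h) ⟶ bcA (gJ J) (MonoidAlgebra R (Multiplicative ℤ))) [IsMonHom φ] :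
    ∃ ψ : bcA (gJ J) (SekSuwa.A R mu) ⟶ bcA (gJ J) (MonoidAlgebra R (Multiplicative ℤ)),
      IsMonHom ψ ∧ (Over.pullback (gJ J)).map (SekSuwa.incl R mu p h) ≫ ψ = φ := by
  haveI : Nontrivial (R ⧸ J) := Ideal.Quotient.nontrivial_iff.2 hJ
  haveI : Nontrivial R := (Ideal.Quotient.mk J).domain_nontrivial
  let z : MonoidAlgebra R (Multiplicative ℤ) := MonoidAlgebra.single (Multiplicative.ofAdd (1 : ℤ)) 1
  let m : R ⧸ J := Ideal.Quotient.mk J mu
  set Ψ : (R ⧸ J)[X] := (psiPoly mu p h).map (Ideal.Quotient.mk J) with hΨdef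
  obtain ⟨hm0, hd0⟩ := SekSuwaKer5.psiPoly_monic R mu p h hp
  have hΨ : Ψ.Monic := hm0.map _
  have hΨd : Ψ.natDegree = p := (hm0.natDegree_map _).trans (hd0 inferInstance)
  -- the universal point
  let i₁ : (R ⧸ J) →+* AdjoinRoot Ψ := AdjoinRoot.of Ψ
  let X₁ : Over (Spec (CommRingCat.of (R ⧸ J))) := Over.mk (Spec.map (CommRingCat.ofHom i₁))
  let e₁ : AdjoinRoot Ψ →+* Γ(X₁.left, ⊤) := (Scheme.ΓSpecIso (CommRingCat.of (AdjoinRoot Ψ))).inv.hom
  have he₁ : e₁.comp i₁ = str X₁ := RingHom.ext fun a => (spec_over i₁ a).symm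
  obtain ⟨x₁, hx₁⟩ := exists_point (h := h) hp (X := X₁) (e₁ (AdjoinRoot.root Ψ)) (by
    rw [← he₁, ← hom_eval₂]
    exact (congrArg e₁ (AdjoinRoot.eval₂_root Ψ)).trans (map_zero _))
  let f : AdjoinRoot Ψ := (Scheme.ΓSpecIso (CommRingCat.of (AdjoinRoot Ψ))).hom (fn (x₁ ≫ φ) z)
  have hf : e₁ f = fn (x₁ ≫ φ) z := Iso.hom_inv_id_apply (Scheme.ΓSpecIso (CommRingCat.of (AdjoinRoot Ψ))) _
  let q : (R ⧸ J)[X] := AdjoinRoot.modByMonicHom hΨ f
  have hqf : AdjoinRoot.mk Ψ q = f := AdjoinRoot.mk_leftInverse hΨ f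
  have hqd : q.natDegree < p := by
    obtain ⟨g, hg⟩ := AdjoinRoot.mk_surjective f
    rw [show q = g %ₘ Ψ by simp [q, ← hg, AdjoinRoot.modByMonicHom_mk]]
    rw [← hΨd]
    exact natDegree_modByMonic_lt g hΨ (fun e => by simp [e] at hΨd; omega)
  -- values of `φ`
  have hval : ∀ {X : Over (Spec (CommRingCat.of (R ⧸ J)))} (x : X ⟶ bcA (gJ J) (AK R mu p h)),
      fn (x ≫ φ) z = q.eval₂ (str X) (fn x AK.t) := by
    intro X x
    let k : AdjoinRoot Ψ →+* Γ(X.left, ⊤) := AdjoinRoot.lift (str X) (fn x AK.t) (psi_fn x)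
    have hk : k.comp i₁ = str X := RingHom.ext fun a => AdjoinRoot.lift_of (psi_fn x)
    have hx : toAff i₁ k hk ≫ x₁ = x := by
      refine fn_injective ?_
      letI := algOf (gJ J) X
      refine congrArg AlgHom.toRingHom (ak_ext hp (f := fnAlg (toAff i₁ k hk ≫ x₁)) (g := fnAlg x) ?_)
      show fn (toAff i₁ k hk ≫ x₁) AK.t = fn x AK.t
      rw [fn_comp, hx₁]
      exact (toAff_appTop i₁ k hk _).trans (AdjoinRoot.lift_root _)
    conv_lhs => rw [← hx, Category.assoc, fn_comp, ← hf]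
    exact (toAff_appTop i₁ k hk f).trans (by rw [← hqf]; exact AdjoinRoot.lift_mk _ _)
  have hmul : ∀ {X : Over (Spec (CommRingCat.of (R ⧸ J)))} (x y : X ⟶ bcA (gJ J) (AK R mu p h)),
      q.eval₂ (str X) (fn x AK.t + fn y AK.t + str X m * fn x AK.t * fn y AK.t) =
        q.eval₂ (str X) (fn x AK.t) * q.eval₂ (str X) (fn y AK.t) := by
    intro X x y
    rw [← fn_mul_t AK.comul_t, ← hval, ← hval, ← hval]
    exact (congrArg (fun u => fn u z) (MonObj.mul_comp x y φ)).trans (fn_mul_z _ _)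
  -- the polynomial identity
  have hlaw : ∀ {B : Type u} [CommRing B] (jj : (R ⧸ J) →+* B) (b c : B),
      q.eval₂ jj (b + c + jj m * b * c) = q.eval₂ jj b * q.eval₂ jj c := by
    refine law_identity (n := p - 1) m q Ψ hΨ (by omega) (by omega) ?_
    intro C1 b c jj
    let X₂ : Over (Spec (CommRingCat.of (R ⧸ J))) := Over.mk (Spec.map (CommRingCat.ofHom jj))
    let e₂ := (Scheme.ΓSpecIso (CommRingCat.of (AdjoinRoot (Ψ.map (AdjoinRoot.of Ψ))))).inv.hom
    have he₂ : e₂.comp jj = str X₂ := RingHom.ext fun a => (spec_over jj a).symm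
    obtain ⟨x, hx⟩ := exists_point (h := h) hp (X := X₂) (e₂ b) (by
      rw [← he₂, ← hom_eval₂, ← hom_eval₂]
      exact (congrArg e₂ (by rw [AdjoinRoot.eval₂_root, map_zero])).trans (map_zero _))
    obtain ⟨y, hy⟩ := exists_point (h := h) hp (X := X₂) (e₂ c) (by
      rw [← he₂, ← hom_eval₂]
      refine (congrArg e₂ ?_).trans (map_zero _)
      rw [← eval₂_map, AdjoinRoot.eval₂_root])
    have := hmul x y
    rw [hx, hy, ← he₂] at this
    have eb : e₂ b + e₂ c + (e₂.comp jj) m * e₂ b * e₂ c = e₂ (b + c + jj m * b * c) := by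
      rw [map_add, map_add, map_mul, map_mul, RingHom.comp_apply]
    rw [eb, ← hom_eval₂ q jj e₂ (b + c + jj m * b * c), ← hom_eval₂ q jj e₂ b, ← hom_eval₂ q jj e₂ c, ← map_mul] at this
    exact (ConcreteCategory.bijective_of_isIso
      (Scheme.ΓSpecIso (CommRingCat.of (AdjoinRoot (Ψ.map (AdjoinRoot.of Ψ))))).inv).1 this
  have hzu : IsUnit z := ⟨⟨z, MonoidAlgebra.single (Multiplicative.ofAdd (-1 : ℤ)) 1,
    by simp [z, MonoidAlgebra.single_mul_single, ← ofAdd_add, MonoidAlgebra.one_def],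
    by simp [z, MonoidAlgebra.single_mul_single, ← ofAdd_add, MonoidAlgebra.one_def]⟩, rfl⟩
  have hfu : IsUnit f := (hzu.map (fn (x₁ ≫ φ))).map (Scheme.ΓSpecIso (CommRingCat.of (AdjoinRoot Ψ))).hom.hom
  have hq0 : q.eval 0 = 1 := by
    have h0 := hlaw i₁ (AdjoinRoot.root Ψ) 0
    have e : q.eval₂ i₁ (AdjoinRoot.root Ψ) = f := (AdjoinRoot.aeval_eq q).trans hqf
    rw [mul_zero, add_zero, add_zero, e] at h0
    have h1 : q.eval₂ i₁ 0 = 1 := hfu.mul_left_cancel (h0.symm.trans (_root_.mul_one f).symm)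
    rw [eval₂_at_zero, ← map_one i₁] at h1
    rw [← coeff_zero_eq_eval_zero]
    by_contra hne
    refine hΨ.not_dvd_of_natDegree_lt (sub_ne_zero.2 fun e => hne (C_injective (e.trans C_1.symm))) ?_
      (AdjoinRoot.mk_eq_mk.1 ((AdjoinRoot.mk_C _).trans (h1.trans (map_one _).symm) : AdjoinRoot.mk Ψ (C (q.coeff 0)) = AdjoinRoot.mk Ψ 1))
    rw [← C_1, ← C_sub, natDegree_C]
    omega
  -- the extension
  let X₃ : Over (Spec (CommRingCat.of (R ⧸ J))) := bcA (gJ J) (SekSuwa.A R mu)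
  letI := algOf (gJ J) X₃
  let b₃ := fn (𝟙 X₃ : X₃ ⟶ bcA (gJ J) (SekSuwa.A R mu)) A.t
  let v₃ := fn (𝟙 X₃ : X₃ ⟶ bcA (gJ J) (SekSuwa.A R mu)) A.inv
  have hv₃ : (1 + str X₃ m * b₃) * v₃ = 1 := by
    have := congrArg (fnAlg (𝟙 X₃ : X₃ ⟶ bcA (gJ J) (SekSuwa.A R mu))) (A.u_mul_inv (R := R) (lam := mu))
    rw [A.u_def, map_mul, map_add, map_mul, AlgHom.commutes, map_one, ← str_mk] at this
    exact this
  have hu₃ : IsUnit (q.eval₂ (str X₃) b₃) := by
    refine IsUnit.of_mul_eq_one (q.eval₂ (str X₃) (-b₃ * v₃)) ?_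
    rw [← hlaw, show b₃ + -b₃ * v₃ + str X₃ m * b₃ * (-b₃ * v₃) = 0 by linear_combination (-b₃) * hv₃,
      eval₂_at_zero, coeff_zero_eq_eval_zero, hq0, map_one]
  obtain ⟨ψ, hψ⟩ := fnAlg_surjective (g := gJ J) (X := X₃) (A := MonoidAlgebra R (Multiplicative ℤ))
    (MonoidAlgebra.lift R Γ(X₃.left, ⊤) (Multiplicative ℤ) ((Units.coeHom _).comp (zpowersHom _ hu₃.unit)))
  have hψz : fn ψ z = q.eval₂ (str X₃) b₃ := (DFunLike.congr_fun hψ z).trans (by simp [z])
  have hψv : ∀ {X : Over (Spec (CommRingCat.of (R ⧸ J)))} (x : X ⟶ bcA (gJ J) (SekSuwa.A R mu)),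
      fn (x ≫ ψ) z = q.eval₂ (str X) (fn x A.t) := by
    intro X x
    rw [fn_comp, hψz, hom_eval₂, show (x.left.appTop.hom).comp (str X₃) = str X from RingHom.ext (str_comp x),
      ← fn_comp, Category.comp_id]
  have hψm : ∀ {X : Over (Spec (CommRingCat.of (R ⧸ J)))} (x y : X ⟶ bcA (gJ J) (SekSuwa.A R mu)),
      (x * y) ≫ ψ = (x ≫ ψ) * (y ≫ ψ) := fun x y => z_ext (by
    rw [fn_mul_z, hψv, hψv, hψv, fn_mul_t A.comul_t, hlaw])
  refine ⟨ψ, ⟨?_, ?_⟩, z_ext ?_⟩
  · have h1 := hψm (1 : 𝟙_ _ ⟶ X₃) 1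
    rw [_root_.mul_one] at h1
    replace h1 : (1 : 𝟙_ _ ⟶ X₃) ≫ ψ = 1 := z_ext
      ((fn_z_of_idem _ h1.symm).trans (fn_z_of_idem _ (_root_.mul_one _)).symm)
    rw [Hom.one_def, Hom.one_def,
      show toUnit (𝟙_ (Over (Spec (CommRingCat.of (R ⧸ J))))) = 𝟙 _ from toUnit_unique _ _,
      Category.id_comp, Category.id_comp] at h1
    exact h1
  · have := hψm (fst X₃ X₃) (snd X₃ X₃)
    rwa [Hom.mul_def, lift_fst_snd, Category.id_comp, Hom.mul_def, lift_fst_comp_snd_comp] at this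
  · rw [hψv, ← Category.id_comp ((Over.pullback (gJ J)).map (SekSuwa.incl R mu p h))]
    rw [fn_map (𝟙 _) (AK.mkHom R mu p h : SekSuwa.A R mu →ₐ[R] AK R mu p h) _ rfl]
    exact (hval (𝟙 _)).symm.trans (by rw [Category.id_comp])

end Geom

end


/-- Let R be a discrete valuation ring of characteristic zero and residue characteristic p containing a
primitive p²-th root of unity, λ, μ nonzero elements of the maximal ideal of R with μ satisfying the
divisibility condition under which G_{μ,1} ⊂ G^(μ) = Spec R[T, 1/(1+μT)] (law s + t + μst) is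
defined, and S_λ = Spec(R/λR). Then the map Hom_gr(G^(μ)|S_λ, 𝔾_m|S_λ) → Hom_gr(G_{μ,1}|S_λ,
𝔾_m|S_λ) induced by the inclusion G_{μ,1} → G^(μ) is surjective: every homomorphism of S_λ-group
schemes from the base change of G_{μ,1} to the (split) multiplicative group over S_λ is the
restriction of a homomorphism defined on the base change of G^(μ). -/
theorem result (R : Type u) [CommRing R] [IsDomain R] [IsDiscreteValuationRing R] [CharZero R]
    (p : ℕ) [Fact p.Prime] [CharP (IsLocalRing.ResidueField R) p]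
    (ζ : R) (hζ : IsPrimitiveRoot ζ (p ^ 2))
    (lam mu : R) (hlam : lam ≠ 0) (hlam' : lam ∈ IsLocalRing.maximalIdeal R)
    (hmu' : mu ∈ IsLocalRing.maximalIdeal R) (h : SekSuwa.DivCond mu p)
    (φ : Red.bc (Spec.map (CommRingCat.ofHom (Ideal.Quotient.mk (Ideal.span ({lam} : Set R))))) (SekSuwa.GK R mu p h) ⟶ Red.bc (Spec.map (CommRingCat.ofHom (Ideal.Quotient.mk (Ideal.span ({lam} : Set R))))) (Red.diag R ℤ)) [IsMonHom φ] :
    ∃ ψ : Red.bc (Spec.map (CommRingCat.ofHom (Ideal.Quotient.mk (Ideal.span ({lam} : Set R))))) (SekSuwa.G R mu) ⟶ Red.bc (Spec.map (CommRingCat.ofHom (Ideal.Quotient.mk (Ideal.span ({lam} : Set R))))) (Red.diag R ℤ),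
      IsMonHom ψ ∧ (Over.pullback (Spec.map (CommRingCat.ofHom (Ideal.Quotient.mk (Ideal.span ({lam} : Set R)))))).map (SekSuwa.incl R mu p h) ≫ ψ = φ := by
  have hJ : Ideal.span ({lam} : Set R) ≠ ⊤ := fun e => (IsLocalRing.notMem_maximalIdeal.2
    (Ideal.span_singleton_eq_top.1 e)) hlam'
  exact extend hJ mu p (Fact.out : p.Prime).pos h φ

end Groth.Agent.S14689
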