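import Groth.Statements.S9821

set_option autoImplicit false
universe u
open CategoryTheory CategoryTheory.Limits AlgebraicGeometry TopologicalSpace Opposite
open Props

namespace Groth.Agent.S9821

/-- An integral scheme is normal if and only if the coordinate ring of every nonempty affine open is an
integrally closed domain. -/
theorem result (X : Scheme.{u}) [IsIntegral X] :
    Pi1.IsNormalScheme X ↔ ∀ (U : X.Opens) [Nonempty U], IsAffineOpen U → IsIntegrallyClosed Γ(X, U) := by
  constructor
  · intro hN U _ hU
    refine IsIntegrallyClosed.of_localization_maximal fun p _ hp => ?_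
    let x := hU.fromSpec ⟨p, hp.isPrime⟩
    have hx : x ∈ U := hU.range_fromSpec.le (Set.mem_range_self _)
    let _ := TopCat.Presheaf.algebra_section_stalk X.presheaf (⟨x, hx⟩ : U)
    have := hU.isLocalization_stalk ⟨x, hx⟩
    have e : (hU.primeIdealOf ⟨x, hx⟩).asIdeal = p := by
      exact congrArg PrimeSpectrum.asIdeal (hU.fromSpec.isOpenEmbedding.injective ((hU.fromSpec_primeIdealOf ⟨x, hx⟩).trans rfl) : _ = (⟨p, hp.isPrime⟩ : PrimeSpectrum _))
    simp only [e] at this
    have := (hN x).2
    exact IsIntegrallyClosed.of_equiv (IsLocalization.algEquiv p.primeCompl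
      (X.presheaf.stalk x) (Localization.AtPrime p)).toRingEquiv
  · intro H x
    refine ⟨inferInstance, ?_⟩
    obtain ⟨U, hU, hx, -⟩ := TopologicalSpace.Opens.isBasis_iff_nbhd.mp X.isBasis_affineOpens
      (TopologicalSpace.Opens.mem_top x)
    have : Nonempty U := ⟨⟨x, hx⟩⟩
    have := H U hU
    let _ := TopCat.Presheaf.algebra_section_stalk X.presheaf (⟨x, hx⟩ : U)
    have := hU.isLocalization_stalk ⟨x, hx⟩
    exact isIntegrallyClosed_of_isLocalization _ (hU.primeIdealOf ⟨x, hx⟩).asIdeal.primeCompl
      (Ideal.primeCompl_le_nonZeroDivisors _)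

end Groth.Agent.S9821
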