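import Groth.Statements.S14691
import Groth.Agent.FinGrpLib.OrderKills

set_option autoImplicit false
universe u
open Groth.Agent
open CategoryTheory AlgebraicGeometry
open scoped MonObj
open SekSuwa

namespace Groth.Agent.S14691

/-- Let R be a discrete valuation ring of characteristic zero and residue characteristic p, and G a
commutative finite flat R-group scheme of order m (finite locally free of degree m over Spec R).
Then the endomorphism of Ext¹(G, 𝔾_m) induced by the m-th power map of the multiplicative group —
that is, multiplication by m on this group — is zero. Here Ext¹ is taken between the abelian sheaves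
of points of G and of the split multiplicative group on the big fppf site of Spec R. (The published
statement is made under a standing assumption that R contains a primitive p²-th root of unity; this
row does not assume it, the argument not using it.) -/
theorem result (R : Type u) [CommRing R] [IsDomain R] [IsDiscreteValuationRing R] [CharZero R]
    (p : ℕ) [Fact p.Prime] [CharP (IsLocalRing.ResidueField R) p]
    (G : Over (Spec (CommRingCat.of R))) [GrpObj G] [IsCommMonObj G]
    (m : ℕ) (hG : Mor2.IsFinLocFreeOfDeg m G.hom)
    (x : CGrpSh.ExtS Scheme.fppfPrecoverage G (Red.diag R ℤ) 1) : m • x = 0 := by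
  have hm : (𝟙 G : G ⟶ G) ^ m = 1 := FinGrpLib.pow_deg_eq_one R G m hG
  have h0 : m • 𝟙 (CGrpSh.pts Scheme.fppfPrecoverage G) = 0 := by
    refine Sheaf.hom_ext (NatTrans.ext (funext fun T => AddCommGrpCat.ext fun z => ?_))
    have key : ∀ n : ℕ, (n • 𝟙 (CGrpSh.pts Scheme.fppfPrecoverage G)).hom.app T z = n • z := by
      intro n
      induction n with
      | zero => rw [zero_nsmul, zero_nsmul]; rfl
      | succ n ih =>
        rw [succ_nsmul, succ_nsmul]
        show (n • 𝟙 (CGrpSh.pts Scheme.fppfPrecoverage G)).hom.app T z + z = _
        rw [ih]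
    rw [key]
    refine ULift.ext _ _ ?_
    show Additive.ofMul (z.down.toMul ^ m) = 0
    rw [← Category.comp_id z.down.toMul, ← MonObj.comp_pow, hm, MonObj.comp_one]
    rfl
  have h1 : m • Abelian.Ext.mk₀ (𝟙 (CGrpSh.pts Scheme.fppfPrecoverage G)) = 0 := by
    have h := map_nsmul (Abelian.Ext.addEquiv₀ (X := CGrpSh.pts Scheme.fppfPrecoverage G) (Y := CGrpSh.pts Scheme.fppfPrecoverage G)).symm m (𝟙 (CGrpSh.pts Scheme.fppfPrecoverage G))
    rw [h0, map_zero] at h
    exact h.symm
  rw [← Abelian.Ext.mk₀_id_comp x]
  refine (map_nsmul ((Abelian.Ext.bilinearComp (X := CGrpSh.pts Scheme.fppfPrecoverage G) (Y := CGrpSh.pts Scheme.fppfPrecoverage G) (Z := CGrpSh.pts Scheme.fppfPrecoverage (Red.diag R ℤ)) (a := 0) (b := 1) (c := 1) (h := zero_add 1)).flip x) m _).symm.trans ?_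
  rw [h1, map_zero]

end Groth.Agent.S14691
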