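import Groth.Statements.S14692
import Mathlib

set_option linter.all false

set_option autoImplicit false
universe u
open CAlg


namespace Groth.Agent.S14692

theorem pow_dvd_choose {R : Type u} [CommRing R] (p n j : ℕ) (hp : p.Prime) (hn : 0 < n) (ϖ : R)
    (hj : ϖ ^ (p ^ (n - 1) * (p - 1) * (j + 1)) ∣ (p : R)) (i : ℕ) (hi0 : 0 < i) (hiN : i < p ^ n) :
    ϖ ^ ((p ^ n - i) * (j + 1)) ∣ ((p ^ n).choose i : R) := by
  set v := i.factorization p
  have hpv : p ^ v ≤ i := Nat.le_of_dvd hi0 (Nat.ordProj_dvd i p)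
  have hvn : v < n := (Nat.pow_lt_pow_iff_right hp.one_lt).1 (hpv.trans_lt hiN)
  have hc : p ^ (n - v) ∣ (p ^ n).choose i := by
    rw [← Nat.factorization_choose_prime_pow hp hiN.le hi0.ne']
    exact Nat.ordProj_dvd _ _
  have hexp : p ^ n - i ≤ (n - v) * (p ^ (n - 1) * (p - 1)) := by
    have h1 : p ^ (n - 1) * (p - 1) + p ^ (n - 1) = p ^ n := by
      rw [← Nat.mul_succ, show (p - 1).succ = p by have := hp.pos; omega, ← pow_succ, Nat.sub_add_cancel hn]
    rcases Nat.lt_or_ge v (n - 1) with h | h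
    · have h2 : 2 * (p ^ (n - 1) * (p - 1)) ≤ (n - v) * (p ^ (n - 1) * (p - 1)) := Nat.mul_le_mul_right _ (by omega)
      have h3 : p ^ (n - 1) ≤ p ^ (n - 1) * (p - 1) := Nat.le_mul_of_pos_right _ (by have := hp.two_le; omega)
      omega
    · have h2 : p ^ (n - 1) ≤ i := by
        rw [show n - 1 = v by omega]; exact hpv
      rw [show n - v = 1 by omega, one_mul]
      omega
  obtain ⟨c, hc⟩ := hc
  refine (pow_dvd_pow ϖ (Nat.mul_le_mul_right (j + 1) hexp)).trans ?_
  rw [hc, Nat.cast_mul, Nat.cast_pow, show (n - v) * (p ^ (n - 1) * (p - 1)) * (j + 1) = (p ^ (n - 1) * (p - 1) * (j + 1)) * (n - v) by ring, pow_mul]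
  exact Dvd.dvd.mul_right (pow_dvd_pow_of_dvd hj _) _

open Finset in
/-- `(1+x)^N = 1 + x^N + middle terms`. -/
theorem one_add_pow_split {B : Type u} [CommRing B] (x : B) (N : ℕ) (hN : 0 < N) :
    (1 + x) ^ N = 1 + x ^ N + ∑ i ∈ Finset.Ico 1 N, (N.choose i : B) * x ^ i := by
  rw [add_comm (1 : B) x, add_pow, Finset.sum_range_succ, Finset.sum_range_eq_add_Ico _ hN]
  simp only [pow_zero, one_pow, Nat.choose_zero_right, Nat.cast_one, mul_one, Nat.choose_self]
  rw [Finset.sum_congr rfl fun i _ => mul_comm (x ^ i) ((N.choose i : ℕ) : B)]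
  ring

/-- Let R be a discrete valuation ring of characteristic zero and residue characteristic p, with
uniformizer π and a primitive p^n-th root of unity ζ (n ≥ 1), and A a Noetherian integrally closed
domain which is a faithfully flat R-algebra, in which πA is a prime ideal and every element that is
a unit modulo π is a unit (as when A is π-adically complete, or local). Let f, g be units of A, j a
natural number with π^{p^{n−1}(p−1)(j+1)} dividing p (that is, j is less than the valuation of ζ −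
1, so that the polynomials ((1 + π^{j}T)^{p^n} − 1)/π^{jp^n} and ((1 + π^{j+1}T)^{p^n} −
1)/π^{(j+1)p^n} have coefficients in R), and f₀ ∈ A with f·g^{p^n} = 1 + π^{j p^n}·f₀; suppose j is
maximal with this property: there is no unit g' of A with f·g'^{p^n} ≡ 1 modulo π^{(j+1)p^n}.
Suppose moreover that the algebra L = A[1/π][Z]/(Z^{p^n} − f) is an integral domain (the
μ_{p^n}-torsor Z^{p^n} = f is connected on the generic fibre) and that, B denoting the integral
closure of A in L (the normalization of Spec A in that cover), the ideal πB is radical (the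
normalization has reduced special fibre). Then f₀ is not congruent modulo πA to a p^n-th power. (The
published statement phrases the hypothesis on j as: the class of the torsor Z^{p^n} = f lies in
H¹(Spec A, G_{π^j,n}) and not in H¹(Spec A, G_{π^{j+1},n}); the conditions on g and g' are its
ring-theoretic form, which is the first assertion of the same lemma; A is there factorial and
π-adically complete, or normal local, which this row keeps only through the consequences used:
integrally closed, and units lift modulo π.) -/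
theorem result
    (R : Type u) [CommRing R] [IsDomain R] [IsDiscreteValuationRing R] [CharZero R]
    (p : ℕ) [Fact p.Prime] [CharP (IsLocalRing.ResidueField R) p] (ϖ : R) (hϖ : Irreducible ϖ)
    (n : ℕ) (hn : 0 < n) (ζ : R) (hζ : IsPrimitiveRoot ζ (p ^ n))
    (A : Type u) [CommRing A] [IsDomain A] [IsNoetherianRing A] [IsIntegrallyClosed A] [Algebra R A]
    [Module.FaithfullyFlat R A]
    (hprime : (Ideal.span {algebraMap R A ϖ}).IsPrime)
    (hlift : ∀ a : A, IsUnit (Ideal.Quotient.mk (Ideal.span {algebraMap R A ϖ}) a) → IsUnit a)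
    (f g : Aˣ) (j : ℕ) (hj : ϖ ^ (p ^ (n - 1) * (p - 1) * (j + 1)) ∣ (p : R)) (f₀ : A)
    (hfg : (f : A) * (g : A) ^ (p ^ n) = 1 + (algebraMap R A ϖ) ^ (j * p ^ n) * f₀)
    (hmax : ∀ (g' : Aˣ) (c : A), (f : A) * (g' : A) ^ (p ^ n) ≠ 1 + (algebraMap R A ϖ) ^ ((j + 1) * p ^ n) * c)
    [IsDomain (AdjoinRoot (Polynomial.X ^ (p ^ n) - Polynomial.C (algebraMap A (Localization.Away (algebraMap R A ϖ)) (f : A))))]
    (hred : (Ideal.span {algebraMap A (integralClosure A (AdjoinRoot (Polynomial.X ^ (p ^ n) - Polynomial.C (algebraMap A (Localization.Away (algebraMap R A ϖ)) (f : A))))) (algebraMap R A ϖ)}).IsRadical)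
    (g₀ : A) : f₀ - g₀ ^ (p ^ n) ∉ Ideal.span {(algebraMap R A ϖ)} := by
  classical
  intro hmem
  have hp := (Fact.out : p.Prime)
  set π := algebraMap R A ϖ with hπ
  set N := p ^ n with hN
  have hN0 : 0 < N := pow_pos hp.pos n
  have hcoef : ∀ i, 0 < i → i < N → π ^ ((N - i) * (j + 1)) ∣ (N.choose i : A) := fun i h0 h1 => by
    have := map_dvd (algebraMap R A) (pow_dvd_choose p n j hp hn ϖ hj i h0 h1)
    rwa [map_pow, map_natCast] at this
  have hπ0 : π ≠ 0 := fun h => hϖ.ne_zero ((map_eq_zero_iff _ (FaithfulSMul.algebraMap_injective R A)).1 h)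
  have hlow : ∀ i, 0 < i → i < N → π ^ (j * N + 1) ∣ (N.choose i : A) * π ^ (j * i) := fun i h0 h1 => by
    refine (pow_dvd_pow π (?_ : j * N + 1 ≤ (N - i) * (j + 1) + j * i)).trans ?_
    · have : j * N = j * (N - i) + j * i := by rw [← mul_add, Nat.sub_add_cancel h1.le]
      rw [mul_add, mul_one, mul_comm (N - i) j]
      omega
    · rw [pow_add]; exact mul_dvd_mul_right (hcoef i h0 h1) _
  -- the new unit
  set w := 1 + π ^ j * g₀ with hw
  obtain ⟨d, hd⟩ := Ideal.mem_span_singleton'.1 hmem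
  have hwN : π ^ (j * N + 1) ∣ w ^ N - (f : A) * (g : A) ^ N := by
    rw [hw, one_add_pow_split _ N hN0, hfg, mul_pow, ← pow_mul]
    have e : ∀ S : A, 1 + π ^ (j * N) * g₀ ^ N + S - (1 + π ^ (j * N) * f₀) = S - π ^ (j * N + 1) * d := fun S => by
      linear_combination π ^ (j * N) * hd
    rw [e]
    refine dvd_sub (Finset.dvd_sum fun i hi => ?_) (dvd_mul_right _ _)
    rw [Finset.mem_Ico] at hi
    rw [mul_pow, ← pow_mul, ← mul_assoc]
    exact (hlow i hi.1 hi.2).mul_right _
  have hwu : IsUnit w := by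
    refine hlift w ((isUnit_pow_iff hN0.ne').1 ?_)
    rw [← map_pow]
    have : Ideal.Quotient.mk (Ideal.span {π}) (w ^ N) = Ideal.Quotient.mk (Ideal.span {π}) ((f : A) * (g : A) ^ N) :=
      Ideal.Quotient.eq.2 (Ideal.mem_span_singleton.2 ((dvd_pow_self π (Nat.succ_ne_zero _)).trans hwN))
    rw [this]
    exact (f.isUnit.mul (g.isUnit.pow _)).map _
  obtain ⟨wu, hwu⟩ := hwu
  set g' := g * wu⁻¹ with hg'
  obtain ⟨c, hc⟩ : ∃ c, (f : A) * (g' : A) ^ N = 1 + π ^ (j * N + 1) * c := by
    obtain ⟨e, he⟩ := hwN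
    refine ⟨-(e * ((wu⁻¹ : Aˣ) : A) ^ N), ?_⟩
    have h1 : w ^ N * ((wu⁻¹ : Aˣ) : A) ^ N = 1 := by rw [← mul_pow, ← hwu, Units.mul_inv, one_pow]
    rw [hg', Units.val_mul, mul_pow]
    linear_combination h1 - ((wu⁻¹ : Aˣ) : A) ^ N * he
  -- the cover
  set P : Polynomial (Localization.Away π) := Polynomial.X ^ N - Polynomial.C (algebraMap A (Localization.Away π) (f : A))
  let L := AdjoinRoot P
  haveI : IsDomain (Localization.Away π) :=
    IsLocalization.isDomain_localization (powers_le_nonZeroDivisors_of_noZeroDivisors hπ0)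
  have hdegP : P.degree ≠ 0 := by
    rw [Polynomial.degree_X_pow_sub_C hN0]; exact_mod_cast hN0.ne'
  let ι : A →+* L := algebraMap A L
  have hι : Function.Injective ι := by
    show Function.Injective (algebraMap A (AdjoinRoot P))
    rw [IsScalarTower.algebraMap_eq A (Localization.Away π) (AdjoinRoot P), AdjoinRoot.algebraMap_eq]
    exact (AdjoinRoot.of.injective_of_degree_ne_zero hdegP).comp
      (IsLocalization.injective _ (powers_le_nonZeroDivisors_of_noZeroDivisors hπ0))
  have hπu : IsUnit (ι π) := by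
    show IsUnit (algebraMap A (AdjoinRoot P) π)
    rw [IsScalarTower.algebraMap_apply A (Localization.Away π) (AdjoinRoot P)]
    exact (IsLocalization.Away.algebraMap_isUnit π).map _
  obtain ⟨q, hq⟩ := hπu.exists_right_inv
  set Z : L := AdjoinRoot.root P
  have hZ : Z ^ N = ι (f : A) := by
    have := AdjoinRoot.eval₂_root P
    rw [Polynomial.eval₂_sub, Polynomial.eval₂_X_pow, Polynomial.eval₂_C, sub_eq_zero] at this
    rw [this]
    show _ = algebraMap A (AdjoinRoot P) _
    rw [IsScalarTower.algebraMap_apply A (Localization.Away π) (AdjoinRoot P), AdjoinRoot.algebraMap_eq]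
  set U : L := (Z * ι (g' : A) - 1) * q ^ j with hU
  have hU1 : 1 + ι π ^ j * U = Z * ι (g' : A) := by
    have : ι π ^ j * q ^ j = 1 := by rw [← mul_pow, hq, one_pow]
    rw [hU]; linear_combination (Z * ι (g' : A) - 1) * this
  choose a ha using fun i (h : 0 < i ∧ i < N) => hlow i h.1 h.2
  have hUeq : U ^ N + (∑ i ∈ Finset.Ico 1 N, (if h : 0 < i ∧ i < N then ι (π * a i h) else 0) * U ^ i) - ι (π * c) = 0 := by
    have hpow : (1 + ι π ^ j * U) ^ N = 1 + ι π ^ (j * N + 1) * ι c := by
      rw [hU1, mul_pow, hZ, ← map_pow, ← map_mul, hc]; simp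
    rw [one_add_pow_split _ N hN0] at hpow
    have hs : ∑ i ∈ Finset.Ico 1 N, (N.choose i : L) * (ι π ^ j * U) ^ i =
        ι π ^ (j * N) * ∑ i ∈ Finset.Ico 1 N, (if h : 0 < i ∧ i < N then ι (π * a i h) else 0) * U ^ i := by
      rw [Finset.mul_sum]
      refine Finset.sum_congr rfl fun i hi => ?_
      rw [Finset.mem_Ico] at hi
      rw [dif_pos ⟨hi.1, hi.2⟩, mul_pow, ← mul_assoc, ← mul_assoc, ← pow_mul, ← map_natCast ι, ← map_pow ι, ← map_mul ι, ha i ⟨hi.1, hi.2⟩, pow_succ, mul_assoc]
      simp only [map_mul, map_pow, mul_assoc]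
    rw [hs, mul_pow, ← pow_mul, pow_succ] at hpow
    refine (mul_right_inj' (pow_ne_zero (j * N) hπu.ne_zero)).1 ?_
    rw [map_mul, mul_zero]
    linear_combination hpow
  have hint : IsIntegral A U := by
    let Q : Polynomial A := ∑ i ∈ Finset.Ico 1 N, Polynomial.monomial i (if h : 0 < i ∧ i < N then π * a i h else 0) - Polynomial.C (π * c)
    refine ⟨Polynomial.X ^ N + Q, Polynomial.monic_X_pow_add (lt_of_le_of_lt (Polynomial.degree_sub_le _ _) (max_lt ?_ ?_)), ?_⟩
    · refine lt_of_le_of_lt (Polynomial.degree_sum_le _ _) ((Finset.sup_lt_iff (WithBot.bot_lt_coe N)).2 fun i hi => ?_)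
      exact lt_of_le_of_lt (Polynomial.degree_monomial_le _ _) (WithBot.coe_lt_coe.2 (Finset.mem_Ico.1 hi).2)
    · exact lt_of_le_of_lt Polynomial.degree_C_le (WithBot.coe_lt_coe.2 hN0)
    · rw [← hUeq]
      simp only [Q, Polynomial.eval₂_add, Polynomial.eval₂_sub, Polynomial.eval₂_X_pow, Polynomial.eval₂_C, Polynomial.eval₂_finsetSum, Polynomial.eval₂_monomial]
      rw [add_sub_assoc]
      congr 2
      refine Finset.sum_congr rfl fun i hi => ?_
      split_ifs <;> simp [ι]
  set Bc := integralClosure A L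
  let U₀ : Bc := ⟨U, hint⟩
  set J : Ideal Bc := Ideal.span {algebraMap A Bc π}
  have hUJ : U₀ ∈ J := by
    refine hred ⟨N, ?_⟩
    have hπJ : ∀ z : A, algebraMap A Bc (π * z) ∈ J := fun z => by
      rw [map_mul]; exact Ideal.mul_mem_right _ _ (Ideal.mem_span_singleton_self _)
    have e : U₀ ^ N = algebraMap A Bc (π * c) -
        ∑ i ∈ Finset.Ico 1 N, (if h : 0 < i ∧ i < N then algebraMap A Bc (π * a i h) else 0) * U₀ ^ i := by
      apply Subtype.ext
      rw [AddSubgroupClass.coe_sub, AddSubmonoidClass.coe_finsetSum]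
      simp only [MulMemClass.coe_mul, SubmonoidClass.coe_pow, Subalgebra.coe_algebraMap, U₀]
      rw [eq_sub_iff_add_eq, ← sub_eq_zero, ← hUeq]
      congr 2
      refine Finset.sum_congr rfl fun i hi => ?_
      split_ifs <;> simp [ι]
    rw [e]
    refine sub_mem (hπJ c) (Submodule.sum_mem _ fun i hi => Ideal.mul_mem_right _ _ ?_)
    split_ifs with h
    · exact hπJ _
    · exact Submodule.zero_mem _
  obtain ⟨U₁, hU₁⟩ := Ideal.mem_span_singleton.1 hUJ
  have hU₁' : U = ι π * (U₁ : L) := congrArg Subtype.val hU₁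
  choose b hb using fun i (h : 0 < i ∧ i < N) => hcoef i h.1 h.2
  -- contradiction
  have hkey : ι c = ι π ^ (N - 1) * ((U₁ : L) ^ N + ∑ i ∈ Finset.Ico 1 N, (if h : 0 < i ∧ i < N then ι (b i h) else 0) * (U₁ : L) ^ i) := by
    have hpow : (1 + ι π ^ (j + 1) * (U₁ : L)) ^ N = 1 + ι π ^ (j * N + 1) * ι c := by
      rw [pow_succ, mul_assoc, ← hU₁', hU1, mul_pow, hZ, ← map_pow, ← map_mul, hc]; simp
    rw [one_add_pow_split _ N hN0] at hpow
    have hs : ∑ i ∈ Finset.Ico 1 N, (N.choose i : L) * (ι π ^ (j + 1) * (U₁ : L)) ^ i =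
        ι π ^ ((j + 1) * N) * ∑ i ∈ Finset.Ico 1 N, (if h : 0 < i ∧ i < N then ι (b i h) else 0) * (U₁ : L) ^ i := by
      rw [Finset.mul_sum]
      refine Finset.sum_congr rfl fun i hi => ?_
      rw [Finset.mem_Ico] at hi
      rw [dif_pos ⟨hi.1, hi.2⟩, mul_pow, ← mul_assoc, ← mul_assoc, ← pow_mul, ← map_natCast ι, hb i ⟨hi.1, hi.2⟩, map_mul, map_pow,
        show (j + 1) * N = (N - i) * (j + 1) + (j + 1) * i by rw [mul_comm (N - i), ← mul_add, Nat.sub_add_cancel hi.2.le], pow_add]
      ring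
    rw [hs, mul_pow, ← pow_mul, show (j + 1) * N = (j * N + 1) + (N - 1) by rw [add_mul, one_mul]; omega, pow_add] at hpow
    refine (mul_right_inj' (pow_ne_zero (j * N + 1) hπu.ne_zero)).1 ?_
    linear_combination -hpow
  have hdiv : π ^ (N - 1) ∣ c := by
    let K := FractionRing A
    set x : L := (U₁ : L) ^ N + ∑ i ∈ Finset.Ico 1 N, (if h : 0 < i ∧ i < N then ι (b i h) else 0) * (U₁ : L) ^ i
    have hxint : IsIntegral A x := by
      refine IsIntegral.add (U₁.2.pow N) (IsIntegral.sum _ fun i _ => IsIntegral.mul ?_ (U₁.2.pow i))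
      split_ifs
      · exact isIntegral_algebraMap
      · exact isIntegral_zero
    -- x lies in A[1/π]
    set y : Localization.Away π := IsLocalization.mk' (Localization.Away π) c (⟨π ^ (N - 1), N - 1, rfl⟩ : Submonoid.powers π)
    have hy : algebraMap A (Localization.Away π) (π ^ (N - 1)) * y = algebraMap A (Localization.Away π) c :=
      IsLocalization.mk'_spec' (Localization.Away π) c (⟨π ^ (N - 1), N - 1, rfl⟩ : Submonoid.powers π)
    have hxy : algebraMap (Localization.Away π) L y = x := by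
      refine (mul_right_inj' (pow_ne_zero (N - 1) hπu.ne_zero)).1 ?_
      rw [← hkey, ← map_pow]
      show algebraMap A L (π ^ (N - 1)) * algebraMap (Localization.Away π) L y = algebraMap A L c
      rw [IsScalarTower.algebraMap_apply A (Localization.Away π) L, IsScalarTower.algebraMap_apply A (Localization.Away π) L c, ← map_mul]
      congr 1
    have hyint : IsIntegral A y := by
      refine (isIntegral_algebraMap_iff (A := Localization.Away π) (B := L) ?_).1 (hxy ▸ hxint)
      rw [AdjoinRoot.algebraMap_eq]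
      exact AdjoinRoot.of.injective_of_degree_ne_zero hdegP
    let j' : Localization.Away π →ₐ[A] K := IsLocalization.liftAlgHom (M := Submonoid.powers π) (f := Algebra.ofId A K) (by
      rintro ⟨_, m, rfl⟩
      exact isUnit_iff_ne_zero.2 ((map_ne_zero_iff _ (IsFractionRing.injective A K)).2 (pow_ne_zero _ hπ0)))
    obtain ⟨z, hz⟩ := IsIntegrallyClosed.isIntegral_iff.1 (hyint.map j')
    refine ⟨z, IsFractionRing.injective A K ?_⟩
    rw [map_mul, hz, ← j'.commutes (π ^ (N - 1)), ← map_mul, hy, AlgHom.commutes]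
  obtain ⟨c', hc'⟩ := hdiv
  refine hmax g' c' ?_
  rw [hc, hc', ← mul_assoc, ← pow_add, show (j + 1) * N = j * N + 1 + (N - 1) by rw [add_mul, one_mul]; omega]

end Groth.Agent.S14692
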