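import Groth.Statements.S14697
import Groth.Agent.Birat14.Euler
import Groth.Agent.Surf15.RRCor
import Groth.Agent.SerreDual.Projective
-- import your own Groth.Agent.* helpers here

set_option autoImplicit false
universe u
open CategoryTheory CategoryTheory.Limits AlgebraicGeometry
open Surf

open Groth.Agent.Coherent Groth.Agent.EulerLib
set_option linter.style.haveILetI false
set_option backward.isDefEq.respectTransparency.types false
set_option maxHeartbeats 1000000

namespace Groth.Agent.S14697

/-- Let k be an algebraically closed field and X an integral normal scheme of dimension two admitting a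
closed immersion into some P^n_k over k. Let φ : Y → X be a k-morphism from an integral scheme Y of
dimension two with all local rings regular, itself admitting a closed immersion into some P^m_k over
k, such that φ restricts to an isomorphism over an open subset U of X with finite complement (any
such resolution: φ may also fail to be an isomorphism over finitely many regular points). Let W be a
canonical module of Y, a second exterior power of Ω_{Y/k}, and L an invertible O_X-module. Then 2
χ(X, L) = (φ^*L · φ^*L) - (φ^*L · W) + 2 χ(X, O_X), the intersection numbers being taken on Y as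
(A·B) = χ(O_Y) - χ(A) - χ(B) + χ(A ⊗ B) (packaged as FGA.intNum). In the published form D.D and
D.K_* are the intersection numbers of the Cartier divisor D of L with itself and with the direct
image K_* of a canonical divisor of Y, in the rational-valued pairing defined through the
resolution; for a Cartier divisor both equal the numbers on Y written here. (The published statement
takes a resolved model, that is, φ an isomorphism exactly over the complement of the singular points
with exceptional curves nonsingular and crossing normally; this row allows any φ that is an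
isomorphism over some open subset with finite complement, to which the same proof applies. The
published display has constant term the arithmetic genus p_a(X) = χ(O_X) - 1 of the surface; the
proof given establishes the constant χ(O_X) used here, and with p_a(X) the identity already fails
for the trivial divisor, whose two sides would read χ(O_X) and χ(O_X) - 1.) -/
theorem result (k : Type u) [Field k] [IsAlgClosed k] (X : Scheme.{u}) [X.Over (Spec (CommRingCat.of k))]
    [IsIntegral X] (hdim : topologicalKrullDim X = 2)
    (hproj : ∃ (n : ℕ) (ι : X ⟶ CohB1.ProjSpace n k), IsClosedImmersion ι ∧ ι ≫ CohB1.ProjSpace.toSpec n k = (X ↘ (Spec (CommRingCat.of k))))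
    (hnorm : Pi1.IsNormalScheme X) (U : X.Opens) (hU : ((U : Set X)ᶜ).Finite)
    (Y : Scheme.{u}) (φ : Y ⟶ X) [IsIntegral Y] (hdimY : topologicalKrullDim Y = 2)
    (hregY : ∀ y : Y, IsRegularLocalRing (Y.presheaf.stalk y))
    (hprojY : ∃ (n : ℕ) (ι : Y ⟶ CohB1.ProjSpace n k), IsClosedImmersion ι ∧ ι ≫ CohB1.ProjSpace.toSpec n k = φ ≫ (X ↘ (Spec (CommRingCat.of k))))
    (hisoY : IsIso (φ ∣_ U))
    (W : Y.Modules) (hW : ExtPow.IsExtPow 2 (Omega.sheaf (φ ≫ (X ↘ (Spec (CommRingCat.of k))))) W)
    (L : X.Modules) (hL : PicF.IsInvertible L) :
    letI : Y.Over (Spec (CommRingCat.of k)) := ⟨φ ≫ (X ↘ (Spec (CommRingCat.of k)))⟩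
    2 * Curv2.euler k X L =
      FGA.intNum k Y 2 ![(Scheme.Modules.pullback φ).obj L, (Scheme.Modules.pullback φ).obj L] (Coh.structureModule Y) -
        FGA.intNum k Y 2 ![(Scheme.Modules.pullback φ).obj L, W] (Coh.structureModule Y) +
        2 * Curv2.euler k X (Coh.structureModule X) := by
  letI : Y.Over (Spec (CommRingCat.of k)) := ⟨φ ≫ (X ↘ (Spec (CommRingCat.of k)))⟩
  obtain ⟨n, ι, hι, hιk⟩ := hproj
  obtain ⟨m, ι', hι', hιk'⟩ := hprojY
  haveI := hι
  haveI := hι'
  obtain ⟨hXp, -⟩ := Groth.Agent.SerreDual.isProper_and_ample_of_closedImmersion ι hιk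
  obtain ⟨hYp, -⟩ := Groth.Agent.SerreDual.isProper_and_ample_of_closedImmersion ι' hιk'
  haveI := hXp
  haveI := hYp
  haveI : IsProper (φ ≫ (X ↘ Spec (CommRingCat.of k))) := hYp
  haveI : IsProper φ := IsProper.of_comp φ (X ↘ Spec (CommRingCat.of k))
  haveI : Smooth (Y ↘ Spec (CommRingCat.of k)) :=
    Groth.Agent.CurveRR24.smooth_of_regular_closedPoints _ fun y _ => hregY y
  haveI := hisoY
  haveI := isNoetherian_of_proper (X := X) k
  haveI := Groth.Agent.Coherent.hasInjectiveResolutions_modules Y
  have hX : topologicalKrullDim Y = ((2 : ℕ) : WithBot ℕ∞) := hdimY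
  have hne : (U : Set X).Nonempty := by
    by_contra h
    rw [Set.not_nonempty_iff_eq_empty] at h
    rw [h, Set.compl_empty] at hU
    have h1 := Groth.Agent.Birat14.dim_lt_one k isClosed_univ hU (subset_refl (Set.univ : Set X))
    rw [(Homeomorph.Set.univ X).isHomeomorph.topologicalKrullDim_eq, hdim] at h1
    exact absurd h1 (by decide)
  have hO := Groth.Agent.Birat14.isIso_unitToPush_of_birational φ hnorm U hne
  have h := Groth.Agent.Birat14.euler_pullback_sub k φ rfl U hU hO (d := 3) (by rw [hX]; decide) hL
  have hWi := Groth.Agent.Surf15.isInvertible_canonical k hX hW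
  have hr := Groth.Agent.Surf15.riemannRoch k hX hW hWi (PicLoc.isInvertible_pullback φ hL)
  linarith

end Groth.Agent.S14697
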