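import Groth.Statements.S1470
import Groth.Agent.FlatMorAssOpen.ClosureFibre

set_option autoImplicit false
universe u
open FlatMor

namespace Groth.Agent.S1470

open AlgebraicGeometry CategoryTheory Limits in
/-- Let f : X → S be locally of finite type, F a quasi-coherent O_X-module of finite type, and y a point
of the relative assassin of F with image t; let Y be the closure of y. For a point s of S and a
point x of the fibre of Y over s which is generic in an irreducible component of that fibre, if F is
flat over S at x then x belongs to the relative assassin of F and the local dimension of the fibre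
of Y over s at x equals the dimension of the fibre of Y over t (fibres taken as subspaces of X). -/
theorem result {X S : Scheme.{u}} (f : X ⟶ S) [LocallyOfFiniteType f]
    (F : X.Modules) (hF : Coh.IsCoh F) (y : X) (hy : y ∈ MoreMor.relAss f F) (s : S) (x : X) (hx : x ∈ closure ({y} : Set ↑X)) (hxs : f x = s)
    (hgen : ∃ C ∈ irreducibleComponents ↑(closure ({y} : Set ↑X) ∩ f ⁻¹' {s}), IsGenericPoint (⟨x, hx, hxs⟩ : ↑(closure ({y} : Set ↑X) ∩ f ⁻¹' {s})) C)
    (hfl : FlatMod.IsFlatOverAt f F x) :
    x ∈ MoreMor.relAss f F ∧
      FlatMor.localDim ↑(closure ({y} : Set ↑X) ∩ f ⁻¹' {s}) ⟨x, hx, hxs⟩ = topologicalKrullDim ↑(closure ({y} : Set ↑X) ∩ f ⁻¹' {f y}) := by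
  have := hF.1
  obtain ⟨hd, hloc, hdim⟩ := Groth.Agent.FlatMorAssOpen.closure_fibre f y s x hx hxs hgen
  obtain ⟨hass, heq⟩ := Groth.Agent.FlatMorAssOpen.relAss_of_specializes f F hF.2
    (specializes_iff_mem_closure.2 hx) hfl hy hd
  exact ⟨hass, by rw [hloc, hdim, heq]⟩

end Groth.Agent.S1470
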