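import Groth.Statements.S14700
import Groth.Agent.Surf15.CycleInduct
import Groth.Agent.Surf15.Connected
import Groth.Agent.Surf15.Config
import Groth.Agent.Props12.KerReduced
import Groth.Agent.Models7.PointScheme
import Groth.Agent.SDiv28.CartierPart
import Groth.Agent.Inters29.PrimeDiv
-- import your own Groth.Agent.* helpers here

set_option autoImplicit false
set_option linter.style.haveILetI false
set_option backward.isDefEq.respectTransparency.types false
set_option maxHeartbeats 1600000
universe u
open CategoryTheory CategoryTheory.Limits AlgebraicGeometry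
open Surf

namespace Groth.Agent.S14700

open Groth.Agent Groth.Agent.Coherent Groth.Agent.PicLib Groth.Agent.AmpleLib Groth.Agent.EulerLib Groth.Agent.Misc15.DivDescent Groth.Agent.SDiv28.CartierPart

/-- Let k be an algebraically closed field and X an integral scheme of dimension two with all local
rings regular, admitting a closed immersion into some P^n_k over k. Let C_1, …, C_n be pairwise
distinct integral one-dimensional closed subschemes of X with ideal sheaves I_1, …, I_n, and let Y
be the reduced closed subscheme with ideal I_1 ∩ ⋯ ∩ I_n (their union); assume Y is connected. Then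
χ(O_Y) ≤ 1, i.e. the arithmetic genus 1 - χ(O_Y) of Y is nonnegative. If moreover χ(O_Y) = 1, then
χ(O_{C_i}) = 1 for every i (each C_i has arithmetic genus zero) and Σ_{i<j} (C_i · C_j) = n - 1, so
that the incidence graph of the C_i, which is connected with Σ_{i<j} (C_i · C_j) edges, contains no
cycle; here (C_i · C_j) = χ(O_X) - χ(I_i) - χ(I_j) + χ(I_i ⊗ I_j) is the intersection number
(packaged as FGA.intNum). (The published statement allows any integral projective surface regular in
codimension one; this row takes X with all local rings regular, where the intersection numbers used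
by the proof are defined.) -/
theorem result (k : Type u) [Field k] [IsAlgClosed k] (X : Scheme.{u}) [X.Over (Spec (CommRingCat.of k))]
    [IsIntegral X] (hdim : topologicalKrullDim X = 2)
    (hproj : ∃ (n : ℕ) (ι : X ⟶ CohB1.ProjSpace n k), IsClosedImmersion ι ∧ ι ≫ CohB1.ProjSpace.toSpec n k = (X ↘ (Spec (CommRingCat.of k))))
    (hreg : ∀ x : X, IsRegularLocalRing (X.presheaf.stalk x))
    (n : ℕ) (C : Fin n → X.IdealSheafData) (hCint : ∀ i, IsIntegral (C i).subscheme)
    (hCdim : ∀ i, topologicalKrullDim ((C i).support : Set X) = 1)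
    (hCinj : Function.Injective fun i => ((C i).support : Set X))
    (hconn : _root_.IsConnected ((⨅ i, C i).support : Set X)) :
    Curv2.euler k X (ClSub.quotMod (⨅ i, C i)) ≤ 1 ∧
      (Curv2.euler k X (ClSub.quotMod (⨅ i, C i)) = 1 →
        (∀ i, Curv2.euler k X (ClSub.quotMod (C i)) = 1) ∧
          (∑ i : Fin n, ∑ j : Fin n,
              if i < j then FGA.intNum k X 2 ![ClSub.idealMod (C i), ClSub.idealMod (C j)] (Coh.structureModule X) else 0) =
            (n : ℤ) - 1) := by
  classical
  obtain ⟨N, ι, hι, hιk⟩ := hproj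
  haveI := hι
  haveI : IsProper (CohB1.ProjSpace.toSpec N k) := CurveLib.isProper_projSpace k N
  haveI : IsProper (X ↘ Spec (CommRingCat.of k)) := by rw [← hιk]; infer_instance
  haveI := EulerLib.isNoetherian_of_proper (X := X) k
  haveI := EulerLib.isSeparated_of_proper (X := X) k
  have hX : topologicalKrullDim X = ((2 : ℕ) : WithBot ℕ∞) := by rw [hdim]; rfl
  haveI := hCint
  have hCd : ∀ i, topologicalKrullDim ((C i).support : Set X) = ((1 : ℕ) : WithBot ℕ∞) := hCdim
  have hCe : ∀ i, BlowUp.IsEffCartierIdeal (C i) := fun i =>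
    Surf15.isEffCartier_curve k hX hreg (C i) (hCd i)
  let cl := fun i => Surf15.clI' (C i) (hCe i)
  have hgeninj : ∀ i j, gen (C i) = gen (C j) → i = j := fun i j h => hCinj (by
    show ((C i).support : Set X) = (C j).support
    rw [Surf15.support_eq_closure_gen (C i), Surf15.support_eq_closure_gen (C j), h])
  let D := ⨅ i, C i
  -- the intersection is reduced
  have hDv : D = Scheme.IdealSheafData.vanishingIdeal (⨆ i, (C i).support) := by
    refine eq_of_forall_le_iff fun I => ?_
    rw [← Scheme.IdealSheafData.le_support_iff_le_vanishingIdeal, iSup_le_iff, le_iInf_iff]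
    refine forall_congr' fun i => ?_
    conv_lhs => rw [Models7.eq_vanishingIdeal_of_isReduced (C i)]
    rw [← Scheme.IdealSheafData.le_support_iff_le_vanishingIdeal]
  haveI hDred : IsReduced D.subscheme := hDv ▸ Props12.isReduced_subscheme_vanishingIdeal _
  haveI hDconn : ConnectedSpace D.subscheme := by
    have hc : _root_.IsConnected (Set.range D.subschemeι) := D.range_subschemeι ▸ hconn
    haveI := isConnected_iff_connectedSpace.1 hc
    exact D.subschemeι.isClosedEmbedding.isEmbedding.toHomeomorph.symm.surjective.connectedSpace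
      D.subschemeι.isClosedEmbedding.isEmbedding.toHomeomorph.symm.continuous
  -- the intersection is the product
  have hprod : D = ∏ i, C i := by
    refine le_antisymm ?_ (le_iInf fun i => ?_)
    · refine Scheme.IdealSheafData.le_def.2 fun W a ha => (mem_ideal_iff _ W).2 fun y hy => ?_
      have h := mem_stk_prod C hCe (fun _ => 1) Finset.univ (fun i _ j _ h => hgeninj i j h) y
        (X.presheaf.germ W.1 y hy a) fun i _ h => by
          rw [pow_one, stk_specializes (C i) h]
          exact Ideal.mem_map_of_mem _ ((mem_ideal_iff _ W).1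
            (Scheme.IdealSheafData.le_def.1 (iInf_le C i) W ha) y hy)
      simpa only [pow_one] using h
    · rw [← Finset.mul_prod_erase Finset.univ C (Finset.mem_univ i)]
      exact Surf15.mul_le_fst _ _
  -- Euler characteristics of products
  have key : ∀ s : Finset (Fin n), ∃ h : BlowUp.IsEffCartierIdeal (∏ i ∈ s, C i),
      Surf15.clI' _ h = ∏ i ∈ s, cl i ∧
      Curv2.euler k X (ClSub.quotMod (∏ i ∈ s, C i)) =
        Curv2.euler k X (ClSub.quotMod (⊤ : X.IdealSheafData)) * (if s = ∅ then 1 else 0) +
        ((∑ i ∈ s, Curv2.euler k X (ClSub.quotMod (C i))) -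
        ∑ i ∈ s, ∑ j ∈ s, if i < j then Surf15.B k (cl i) (cl j) else 0) := by
    intro s
    induction s using Finset.induction_on with
    | empty =>
      refine ⟨Inters29.isEffCartier_prod _ _ hCe, ?_, ?_⟩
      · have h1 : BlowUp.IsEffCartierIdeal (1 : X.IdealSheafData) := Inters29.isEffCartier_one
        have h := Surf15.clI'_mul (1 : X.IdealSheafData) 1 h1 h1
        rw [Surf15.clI'_congr (mul_one (1 : X.IdealSheafData)) _ h1] at h
        obtain ⟨b, hb⟩ := Surf15.exists_inv (Surf15.clI' (1 : X.IdealSheafData) h1)
        have h2 := congrArg (· * b) h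
        simp only [mul_assoc, hb, mul_one] at h2
        refine (Surf15.clI'_congr Finset.prod_empty _ h1).trans (Eq.trans ?_ Finset.prod_empty.symm)
        exact h2.symm
      · simp only [Finset.prod_empty, if_true, mul_one, Finset.sum_empty, sub_zero, add_zero]
        rfl
    | insert a s ha ih =>
      obtain ⟨he, hcl, hχ⟩ := ih
      have hm := ModPairLib.isEffCartier_mul (hCe a) he
      refine ⟨Inters29.isEffCartier_prod _ _ hCe, ?_, ?_⟩
      · rw [Surf15.clI'_congr (Finset.prod_insert ha) _ hm, Surf15.clI'_mul _ _ (hCe a) he, hcl,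
          Finset.prod_insert ha]
      · rw [Finset.prod_insert ha, if_neg (Finset.insert_ne_empty a s), mul_zero, zero_add]
        rcases s.eq_empty_or_nonempty with rfl | hne
        · simp
        · rw [Surf15.euler_mul k (hCe a) he, hχ, if_neg hne.ne_empty, mul_zero, zero_add, hcl]
          have hB : Surf15.B k (Surf15.clI' (C a) (hCe a)) (∏ i ∈ s, cl i) = ∑ i ∈ s, Surf15.B k (cl i) (cl a) := by
            rw [Surf15.B_comm]
            have := Surf15.B_prod k hX.le s cl (fun _ => 1) (cl a)
            simpa using this
          rw [hB]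
          simp only [Finset.sum_insert ha, lt_irrefl, if_false, zero_add, Finset.sum_add_distrib]
          have e : ∑ j ∈ s, (if a < j then Surf15.B k (cl a) (cl j) else 0) +
              ∑ i ∈ s, (if i < a then Surf15.B k (cl i) (cl a) else 0) = ∑ i ∈ s, Surf15.B k (cl i) (cl a) := by
            rw [← Finset.sum_add_distrib]
            refine Finset.sum_congr rfl fun j hj => ?_
            rcases lt_trichotomy a j with h | h | h
            · rw [if_pos h, if_neg h.not_gt, add_zero, Surf15.B_comm]
            · exact absurd (h ▸ hj) ha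
            · rw [if_neg h.not_gt, if_pos h, zero_add]
          linarith
  obtain ⟨hP, -, hχ⟩ := key Finset.univ
  have hD0 : D ≠ ⊤ := fun h => by
    obtain ⟨x, hx⟩ := hconn.nonempty
    have hx' : x ∈ (D.support : Set X) := hx
    rw [h, Scheme.IdealSheafData.support_top] at hx'
    exact hx'
  have hne : (Finset.univ : Finset (Fin n)) ≠ ∅ := fun h => by
    apply hD0
    rw [hprod, h, Finset.prod_empty]
    rfl
  rw [if_neg hne, mul_zero, zero_add] at hχ
  have hDe : BlowUp.IsEffCartierIdeal D := hprod ▸ hP
  have hh0 : Module.finrank k (Coh.HH X (ClSub.quotMod D) 0) = 1 := by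
    letI : D.subscheme.Over (Spec (CommRingCat.of k)) := ⟨D.subschemeι ≫ (X ↘ Spec (CommRingCat.of k))⟩
    haveI : IsProper (D.subscheme ↘ Spec (CommRingCat.of k)) :=
      inferInstanceAs (IsProper (D.subschemeι ≫ (X ↘ Spec (CommRingCat.of k))))
    rw [Surf15.finrank_h0_quotMod k D rfl, CurveRR24.h0_structure k]
  have hχD := Surf15.euler_quotMod_eq k hX.le hDe
  rw [hh0] at hχD
  refine ⟨by show Curv2.euler k X (ClSub.quotMod D) ≤ 1; omega, fun h1 => ?_⟩
  have hzero : Module.finrank k (Coh.HH X (ClSub.quotMod D) 1) = 0 := by
    have : Curv2.euler k X (ClSub.quotMod D) = 1 := h1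
    omega
  haveI := CurveRR24.finite_HH_of_isCoh k (CurveRR24.isCoh_quotMod D) 1
  have hsub : Subsingleton (Coh.HH X (ClSub.quotMod D) 1) := Module.finrank_zero_iff.1 hzero
  have u : ∀ M : X.Modules, CohB1.tensorMod M (Coh.structureModule X) ≅ M := fun M =>
    AmpleLib.tensorComm _ _ ≪≫ AmpleLib.unitTensorIso M
  have hcomp : ∀ i, Curv2.euler k X (ClSub.quotMod (C i)) = 1 := fun i => by
    obtain ⟨hE, -, -⟩ := key (Finset.univ.erase i)
    have hdec : D = C i * ∏ j ∈ Finset.univ.erase i, C j := by
      rw [hprod, Finset.mul_prod_erase Finset.univ C (Finset.mem_univ i)]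
    have h := (Surf15.h1_ses_twist k hX.le (hCe i) hE isInvertible_structureModule).2
      (CurveRR24.subsingleton_HH_congr (u _).symm 1 (hdec ▸ hsub))
    haveI := CurveRR24.subsingleton_HH_congr (u (ClSub.quotMod (C i))) 1 h
    obtain ⟨-, h2, -⟩ := Surf15.curve_facts k (C i) (hCd i) (L := Coh.structureModule X)
      isInvertible_structureModule
    rw [Module.finrank_zero_of_subsingleton] at h2
    simpa using h2
  refine ⟨hcomp, ?_⟩
  have hint : ∀ i j, FGA.intNum k X 2 ![ClSub.idealMod (C i), ClSub.idealMod (C j)] (Coh.structureModule X) =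
      Surf15.B k (cl i) (cl j) := fun i j => Surf15.intNum_eq_B k hX.le _ _
  simp only [hint]
  have h3 : Curv2.euler k X (ClSub.quotMod (∏ i, C i)) = 1 := hprod ▸ h1
  rw [h3, Finset.sum_congr rfl fun i _ => hcomp i] at hχ
  simp at hχ
  linarith

end Groth.Agent.S14700
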