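import Groth.Statements.S14701
import Groth.Agent.Tree13.Config
import Groth.Agent.RatSplit13.Cover
import Groth.Agent.RatSplit13.H1Kill
import Groth.Agent.RatSplit13.ExcDivisor
import Groth.Agent.Coherent.BirationalFibre
import Groth.Agent.Coherent.ConnectedFibre
import Groth.Agent.Resolve13.Modification
import Groth.Agent.KPr28.OpenBC
import Groth.Agent.MorProj.OmegaAffine
import Groth.Agent.Models7.SteinContract
import Groth.Agent.Surf15.FiniteInter
import Groth.Agent.AbVarLib.AlgClosedIntegral
import Groth.Agent.S7834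
import Groth.Agent.Surf15.IntPush
import Groth.Agent.SerreDual.Trace

set_option autoImplicit false
set_option linter.style.haveILetI false
set_option backward.isDefEq.respectTransparency false
set_option maxHeartbeats 2000000
universe u
open CategoryTheory CategoryTheory.Limits AlgebraicGeometry
open Resolve

namespace Groth.Agent.S14701

/-- Let k be an algebraically closed field and X an integral normal scheme of dimension two admitting a
closed immersion into some P^n_k over k. Let φ : Y → X be a k-morphism from an integral scheme Y of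
dimension two with all local rings regular, itself admitting a closed immersion into some P^m_k over
k, which restricts to an isomorphism over an open subset U of X with finite complement, and assume
R^1 φ_* O_Y = 0 (first right derived functor of the direct image on abelian sheaves), so that the
singular points of X are rational singularities. Let x be a point of X whose local ring is not
regular and E_1, …, E_n pairwise distinct integral one-dimensional closed subschemes of Y mapped by
φ to x such that every integral one-dimensional closed subscheme of Y mapped to x has the support of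
one of them. Then every E_i is isomorphic to the projective line P^1_k, and Σ_{i<j} (E_i · E_j) = n
- 1, so that the incidence graph of the E_i (connected, as the fibre is connected) is a tree; here
(E_i · E_j) = χ(O_Y) - χ(I_i) - χ(I_j) + χ(I_i ⊗ I_j), I_i the ideal sheaves (packaged as
FGA.intNum). (The published statement is for a resolved model, whose exceptional curves are
nonsingular with normal crossings, and takes rationality in any of five forms it quotes as
equivalent; this row assumes the vanishing of R^1 φ_* O_Y, the first of them, and the passage from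
it to the nonpositivity of arithmetic genera of exceptional cycles used in the proof is taken from
the literature.) -/
theorem result (k : Type u) [Field k] [IsAlgClosed k] (X : Scheme.{u}) [X.Over (Spec (CommRingCat.of k))]
    [IsIntegral X] (hdim : topologicalKrullDim X = 2)
    (hproj : ∃ (n : ℕ) (ι : X ⟶ CohB1.ProjSpace n k), IsClosedImmersion ι ∧ ι ≫ CohB1.ProjSpace.toSpec n k = (X ↘ (Spec (CommRingCat.of k))))
    (hnorm : Pi1.IsNormalScheme X) (U : X.Opens) (hU : ((U : Set X)ᶜ).Finite)
    (Y : Scheme.{u}) (φ : Y ⟶ X) [IsIntegral Y] (hdimY : topologicalKrullDim Y = 2)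
    (hregY : ∀ y : Y, IsRegularLocalRing (Y.presheaf.stalk y))
    (hprojY : ∃ (n : ℕ) (ι : Y ⟶ CohB1.ProjSpace n k), IsClosedImmersion ι ∧ ι ≫ CohB1.ProjSpace.toSpec n k = φ ≫ (X ↘ (Spec (CommRingCat.of k))))
    (hisoY : IsIso (φ ∣_ U))
    (hrat : IsZero ((Coh.RpushAb φ 1).obj (Coh.toAb (Coh.structureModule Y))))
    (x : X) (hx : ¬ IsRegularLocalRing (X.presheaf.stalk x))
    (n : ℕ) (E : Fin n → Y.IdealSheafData) (hEint : ∀ i, IsIntegral (E i).subscheme)
    (hEdim : ∀ i, topologicalKrullDim ((E i).support : Set Y) = 1)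
    (hEpt : ∀ i, φ.base '' ((E i).support : Set Y) = {x})
    (hEinj : Function.Injective fun i => ((E i).support : Set Y))
    (hEall : ∀ F : Y.IdealSheafData, IsIntegral F.subscheme → topologicalKrullDim (F.support : Set Y) = 1 →
      φ.base '' (F.support : Set Y) = {x} → ∃ i, (F.support : Set Y) = (E i).support) :
    letI : Y.Over (Spec (CommRingCat.of k)) := ⟨φ ≫ (X ↘ (Spec (CommRingCat.of k)))⟩
    (∀ i, Nonempty ((E i).subscheme ≅ CohB1.ProjSpace 1 k)) ∧
      (∑ i : Fin n, ∑ j : Fin n,
          if i < j then FGA.intNum k Y 2 ![ClSub.idealMod (E i), ClSub.idealMod (E j)] (Coh.structureModule Y) else 0) =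
        (n : ℤ) - 1 := by
  letI iY : Y.Over (Spec (CommRingCat.of k)) := ⟨φ ≫ (X ↘ Spec (CommRingCat.of k))⟩
  haveI := hisoY
  obtain ⟨nX, ιX, hιX, eX⟩ := hproj
  obtain ⟨nY, ιY, hιY, eY⟩ := hprojY
  haveI : IsProper (CohB1.ProjSpace.toSpec nX k) := Coherent.isProper_projSpace_toSpec nX _
  haveI : IsProper (CohB1.ProjSpace.toSpec nY k) := Coherent.isProper_projSpace_toSpec nY _
  haveI : IsProper (X ↘ Spec (CommRingCat.of k)) := eX ▸ inferInstance
  haveI : IsProper (Y ↘ Spec (CommRingCat.of k)) := by
    show IsProper (φ ≫ (X ↘ Spec (CommRingCat.of k)))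
    rw [← eY]; infer_instance
  haveI : IsProper φ := by
    haveI : IsProper (φ ≫ (X ↘ Spec (CommRingCat.of k))) := inferInstanceAs (IsProper (Y ↘ Spec (CommRingCat.of k)))
    exact IsProper.of_comp φ (X ↘ Spec (CommRingCat.of k))
  haveI : AlgebraicGeometry.IsNoetherian X := EulerLib.isNoetherian_of_proper (X := X) k
  haveI : AlgebraicGeometry.IsNoetherian Y := EulerLib.isNoetherian_of_proper (X := Y) k
  haveI : JacobsonSpace X := LocallyOfFiniteType.jacobsonSpace (X ↘ Spec (CommRingCat.of k))
  have hregU : ∀ (V : X.Opens), IsIso (φ ∣_ V) → x ∈ V → False := fun V hi hxV => by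
    haveI := hi
    obtain ⟨y, hy⟩ := (φ ∣_ V).homeomorph.surjective ⟨x, hxV⟩
    have hyx : φ y.1 = x := (morphismRestrict_base_coe φ V y).symm.trans (congrArg Subtype.val hy)
    have h1 : IsIso ((φ ∣_ V).stalkMap y) := inferInstance
    haveI : IsIso (φ.stalkMap y.1) := ((MorphismProperty.isomorphisms CommRingCat).arrow_mk_iso_iff
      (morphismRestrictStalkMap φ V y)).1 h1
    haveI := hregY y.1
    exact hx (hyx ▸ IsRegularLocalRing.of_ringEquiv (asIso (φ.stalkMap y.1)).symm.commRingCatIsoToRingEquiv)
  have hxU : x ∉ U := hregU U inferInstance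
  have hxc : IsClosed ({x} : Set X) := Surf15.isClosed_of_mem_finite_closed hU U.2.isClosed_compl hxU
  have hUne : (U : Set X).Nonempty := by
    by_contra h
    rw [Set.not_nonempty_iff_eq_empty] at h
    rw [h, Set.compl_empty] at hU
    have hg : ∀ z : X, z = genericPoint X := fun z => by
      have hc := Surf15.isClosed_of_mem_finite_closed hU isClosed_univ (Set.mem_univ (genericPoint X))
      have := (genericPoint_spec X).mem_closed_set_iff hc |>.1 rfl (Set.mem_univ z)
      exact Set.mem_singleton_iff.1 this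
    haveI : Subsingleton X := ⟨fun a b => (hg a).trans (hg b).symm⟩
    have h0 : topologicalKrullDim X ≤ 0 := Order.krullDim_nonpos_iff_forall_isMin.2 fun C D hDC z hz =>
      (Subsingleton.elim D.2.nonempty.choose z) ▸ D.2.nonempty.choose_spec
    rw [hdim] at h0
    exact absurd h0 (by decide)
  have hgen := RatSplit13.map_genericPoint φ U hUne
  have hgU : genericPoint Y ∈ φ ⁻¹ᵁ U := by
    show φ (genericPoint Y) ∈ U
    rw [hgen]
    exact ((genericPoint_spec X).mem_open_set_iff U.2).2 ⟨hUne.choose, trivial, hUne.choose_spec⟩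
  have hgenx : φ (genericPoint Y) ≠ x := fun h => hxU (h ▸ hgU)
  have hbir : IsIso (φ.stalkMap (genericPoint Y)) := by
    have hi : IsIso ((φ ∣_ U).stalkMap ⟨genericPoint Y, hgU⟩) := inferInstance
    exact ((MorphismProperty.isomorphisms CommRingCat).arrow_mk_iso_iff
      (morphismRestrictStalkMap φ U ⟨genericPoint Y, hgU⟩)).1 hi
  have hstalk2 : ∀ z : X, ringKrullDim (X.presheaf.stalk z) ≤ 2 := fun z => by
    rw [ringKrullDim_stalk_eq_coheight, ← hdim, DimLib.topologicalKrullDim_eq_krullDim]
    exact Order.coheight_le_krullDim z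
  haveI := Coherent.isQCoh_structureModule (X := Y)
  have happ := Coherent.isIso_app_of_birational φ hnorm hgen hbir
  have hstalk2 : ∀ x : X, ringKrullDim (X.presheaf.stalk x) ≤ 2 := fun x => by
    rw [ringKrullDim_stalk_eq_coheight, ← hdim, DimLib.topologicalKrullDim_eq_krullDim]
    exact Order.coheight_le_krullDim x
  have hfd : ∀ x : X, topologicalKrullDim ↥(φ.fiber x) ≤ 1 :=
    Resolve13.Modification.fiber_dim_le_one φ hgen (ConcreteCategory.bijective_of_isIso _) hstalk2
      ((ringKrullDim_eq_zero_of_field X.functionField).le.trans zero_le_one)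
  haveI := Coherent.isQCoh_structureModule (X := Y)
  -- the cohomology of `O` on preimages
  have hOV : ∀ U : X.Opens, Subsingleton (Sheaf.H' (Coh.toAb (Coh.structureModule Y)) 1 (φ ⁻¹ᵁ U)) ↔
      Subsingleton (Coh.HH (φ ⁻¹ᵁ U).toScheme (Coh.structureModule _) 1) := fun U => by
    let e : (Coh.structureModule Y).restrict (φ ⁻¹ᵁ U).ι ≅ Coh.structureModule (φ ⁻¹ᵁ U).toScheme :=
      (Scheme.Modules.restrictFunctorIsoPullback (φ ⁻¹ᵁ U).ι).app (Coh.structureModule Y) ≪≫
        PicLoc.pullbackStructureIso (φ ⁻¹ᵁ U).ι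
    have E := ((Coherent.H'ModRestrictEquiv (φ ⁻¹ᵁ U).ι (Coh.structureModule Y) ⊤ 1).trans
      (Coherent.H'Congr (Coh.toAb (Coh.structureModule Y)) 1 (Scheme.Opens.ι_image_top _))).toEquiv.subsingleton_congr
    have E' := (Coherent.HHTopEquiv ((Coh.structureModule Y).restrict (φ ⁻¹ᵁ U).ι) 1).toEquiv.subsingleton_congr
    refine ⟨fun h => RatSplit13.subsingleton_HH_of_modIso e.symm 1 ?_, fun h => E.1 ?_⟩
    · exact E'.2 (E.2 h)
    · exact E'.1 (RatSplit13.subsingleton_HH_of_modIso e 1 h)
  -- vanishing above degree one on preimages of affine opens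
  have hv : ∀ U : X.Opens, IsAffineOpen U → Lipman24.NoH2 (φ ⁻¹ᵁ U).toScheme := fun U hU M hM => by
    haveI := hM
    haveI : IsNoetherianRing Γ(X, U) := IsLocallyNoetherian.component_noetherian ⟨U, hU⟩
    let g := Coherent.toSpecSections φ hU
    refine H8Lim.subsingleton_HH_of_fibre_dim g 1 (fun y => ?_) M 2 one_lt_two
    have hmem : ∀ w, g w = y → φ ((φ ⁻¹ᵁ U).ι w) = hU.fromSpec y := fun w hw => by
      rw [← hw]
      exact congrArg (fun ψ : (φ ⁻¹ᵁ U).toScheme ⟶ X => ψ w) (Coherent.isPullback_toSpecSections φ hU).w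
    let x := hU.fromSpec y
    let m : ↥(g.fiber y) → (φ ⁻¹' {x} : Set Y) := fun z =>
      ⟨(φ ⁻¹ᵁ U).ι (g.fiberι y z), hmem _ ((g.range_fiberι y).le ⟨z, rfl⟩)⟩
    have hm : Topology.IsInducing m :=
      Topology.IsInducing.of_comp (by fun_prop) continuous_subtype_val
        ((φ ⁻¹ᵁ U).ι.isEmbedding.isInducing.comp (g.fiberι y).isEmbedding.isInducing)
    exact hm.topologicalKrullDim_le.trans (((φ.fiberHomeo x).symm.isInducing.topologicalKrullDim_le).trans (hfd x))
  have hH1 : ∀ W : Y.IdealSheafData, (W.support : Set Y) ⊆ φ.base ⁻¹' {x} →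
      Subsingleton (Coh.HH Y (ClSub.quotMod W) 1) := fun W hWsupp => by
    obtain ⟨V₀, hV₀, hxV, -⟩ := exists_isAffineOpen_mem_and_subset (x := x) (U := (⊤ : X.Opens)) trivial
    let V := φ ⁻¹ᵁ V₀
    have hWV : (W.support : Set Y) ⊆ V := fun y hy => by
      show φ y ∈ V₀
      rw [show φ y = x from hWsupp hy]
      exact hxV
    refine (RatSplit13.subsingleton_HH_quotMod_comap_iff W V hWV 1).1 ?_
    haveI := MorProj.isQCoh_idealMod (W.comap V.ι)
    exact Lipman24.subsingleton_HH_X₃ (CurveRR24.shortExact_ideal (W.comap V.ι)) 1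
      ((hOV V₀).1 ((KPr28.isZero_rpushAb_iff _ 1).1 hrat V₀ hV₀)) (hv V₀ hV₀ _ inferInstance)
  let F : Set Y := φ.base ⁻¹' {x}
  have hfin : ¬ F.Finite := fun hfin => by
    let V : X.Opens := ⟨((U : Set X)ᶜ \ {x})ᶜ, by
      rw [isOpen_compl_iff, ← Set.biUnion_of_singleton ((U : Set X)ᶜ \ {x})]
      exact (hU.subset Set.sdiff_subset).isClosed_biUnion fun p hp =>
        Surf15.isClosed_of_mem_finite_closed hU U.2.isClosed_compl hp.1⟩
    refine hregU V (Models7.isIso_morphismRestrict_of_finite_fibres φ happ V fun y hy => ?_) fun h => h.2 rfl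
    by_cases hyx : y = x
    · exact hyx ▸ hfin
    have hyU : y ∈ U := not_not.1 fun h => hy ⟨h, hyx⟩
    refine Set.Subsingleton.finite fun a ha b hb => ?_
    have h1 : a ∈ φ ⁻¹ᵁ U := show φ a ∈ U from (Set.mem_singleton_iff.1 ha).symm ▸ hyU
    have h2 : b ∈ φ ⁻¹ᵁ U := show φ b ∈ U from (Set.mem_singleton_iff.1 hb).symm ▸ hyU
    have := (φ ∣_ U).isOpenEmbedding.injective (a₁ := ⟨a, h1⟩) (a₂ := ⟨b, h2⟩) (Subtype.ext (by
      rw [morphismRestrict_base_coe, morphismRestrict_base_coe]
      exact (Set.mem_singleton_iff.1 ha).trans (Set.mem_singleton_iff.1 hb).symm))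
    exact congrArg Subtype.val this
  have hX2 : topologicalKrullDim Y = ((2 : ℕ) : WithBot ℕ∞) := by rw [hdimY]; rfl
  have hconn := Coherent.isPreconnected_preimage_singleton φ happ x
  obtain ⟨W₀, hW₀, hW₀supp⟩ := RatSplit13.exists_effCartier_support (le_of_eq hdimY) hregY F
    (hxc.preimage φ.continuous) hgenx hconn hfin
  have hE : ∀ i, Surf15.IsCrv (E i) := fun i => ⟨hEint i, by rw [hEdim i]; rfl⟩
  have hEF : ∀ i, ((E i).support : Set Y) ⊆ F := fun i y hy => (hEpt i).subset ⟨y, hy, rfl⟩
  have hcov : (⋃ i, ((E i).support : Set Y)) = F := by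
    refine Set.Subset.antisymm (Set.iUnion_subset hEF) fun y hy => ?_
    obtain ⟨C, hC, hle, hyC⟩ := Surf15.exists_crv_through k hX2 hregY hW₀ (hW₀supp.ge hy)
    obtain ⟨i, hi⟩ := hEall C hC.1 (by rw [hC.2]; rfl) (Set.Subset.antisymm
      (Set.image_subset_iff.2 (fun z hz => hW₀supp.le (Scheme.IdealSheafData.support_antitone hle hz)))
      (Set.singleton_subset_iff.2 ⟨y, hyC, hy⟩))
    exact Set.mem_iUnion.2 ⟨i, hi ▸ hyC⟩
  have hn : 0 < n := Nat.pos_of_ne_zero fun h => by
    subst h
    refine hfin ?_
    rw [← hcov, Set.iUnion_of_empty]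
    exact Set.finite_empty
  refine ⟨fun i => ?_, ?_⟩
  · haveI := hEint i
    letI : (E i).subscheme.Over (Spec (CommRingCat.of k)) := ⟨(E i).subschemeι ≫ (Y ↘ Spec (CommRingCat.of k))⟩
    haveI : IsProper ((E i).subscheme ↘ Spec (CommRingCat.of k)) :=
      inferInstanceAs (IsProper ((E i).subschemeι ≫ (Y ↘ Spec (CommRingCat.of k))))
    haveI : GeometricallyIntegral ((E i).subscheme ↘ Spec (CommRingCat.of k)) :=
      AbVarLib.geometricallyIntegral_of_isAlgClosed _
    haveI := EulerLib.isNoetherian_of_proper (X := (E i).subscheme) k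
    haveI := EulerLib.isSeparated_of_proper (X := Y) k
    have hd : topologicalKrullDim (E i).subscheme = 1 := by
      rw [(E i).subschemeι.isClosedEmbedding.isEmbedding.toHomeomorph.isHomeomorph.topologicalKrullDim_eq]
      exact (congrArg (fun S : Set Y => topologicalKrullDim S) (E i).range_subschemeι).trans (hEdim i)
    haveI : Coh.IsQCoh (Coh.structureModule (E i).subscheme) := Coherent.isQCoh_structureModule
    obtain ⟨e⟩ := Surf15.nonempty_push_iso_quotMod (E i).subschemeι
    rw [(E i).ker_subschemeι] at e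
    have hg : Curv2.genus k (E i).subscheme = 0 := by
      haveI := hH1 (E i) (hEF i)
      refine ((SerreDual.hpush (E i).subschemeι k rfl (Coh.structureModule (E i).subscheme) 1).trans
        (Coherent.HHCongr k e 1)).finrank_eq.trans Module.finrank_zero_of_subsingleton
    obtain ⟨e', -⟩ := S7834.result k (E i).subscheme hd hg
    exact ⟨e'⟩
  · have hEc : ∀ i, BlowUp.IsEffCartierIdeal (E i) := fun i => (hE i).isEffCartier k hX2 hregY
    have hinj : Function.Injective E := fun i j h => hEinj (congrArg (fun I : Y.IdealSheafData => (I.support : Set Y)) h)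
    have hprod : ((∏ i, E i).support : Set Y) ⊆ F := by
      refine Finset.prod_induction E (fun I : Y.IdealSheafData => (I.support : Set Y) ⊆ F) (fun I J hI hJ => ?_) ?_ fun i _ => hEF i
      · rw [Scheme.IdealSheafData.support_mul]
        exact Set.union_subset hI hJ
      · rw [Scheme.IdealSheafData.one_eq_top, Scheme.IdealSheafData.support_top]
        exact Set.empty_subset _
    rw [← Tree13.sum_B_eq k hX2 hregY E hE hEc hn hinj (hcov.symm ▸ hconn) (fun i => hH1 _ (hEF i)) (hH1 _ hprod)]
    refine Finset.sum_congr rfl fun i _ => Finset.sum_congr rfl fun j _ => ?_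
    rw [Surf15.intNum_eq_B k hX2.le (FlatMor12.IdealModGen.isInvertible_idealMod _ (hEc i))
      (FlatMor12.IdealModGen.isInvertible_idealMod _ (hEc j))]
    rfl

end Groth.Agent.S14701
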