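import Groth.Statements.S14703
import Groth.Agent.Surf15.Config
import Groth.Agent.Surf15.Fibre
import Groth.Agent.Birat14.Euler
import Groth.Agent.SDiv28.CartierPart
-- import your own Groth.Agent.* helpers here

set_option autoImplicit false
universe u
open CategoryTheory CategoryTheory.Limits AlgebraicGeometry
open Surf

open Groth.Agent.Coherent Groth.Agent.EulerLib Groth.Agent.Surf15 Groth.Agent.SDiv28.CartierPart Groth.Agent.Misc15.DivDescent

namespace Groth.Agent.S14703

theorem eta_notMem {X : Scheme.{u}} [IsIntegral X] [IsLocallyNoetherian X] {D : X.IdealSheafData}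
    (hD : BlowUp.IsEffCartierIdeal D) : genericPoint X ∉ (D.support : Set X) := fun h => by
  have h1 := one_le_coheight hD h
  rw [Order.coheight_eq_zero.2 (fun z _ => genericPoint_specializes z)] at h1
  exact absurd h1 (by simp)

/-- Divisors on a regular surface supported on a finite set of curves. -/
theorem exists_fun {Y : Scheme.{u}} (k : Type u) [Field k] [Y.Over (Spec (CommRingCat.of k))]
    [IsProper (Y ↘ Spec (CommRingCat.of k))] [IsIntegral Y]
    (hY : topologicalKrullDim Y = ((2 : ℕ) : WithBot ℕ∞)) (hreg : ∀ y : Y, IsRegularLocalRing (Y.presheaf.stalk y))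
    (S : Finset Y.IdealSheafData) (hS : ∀ C ∈ S, IsCrv C)
    {Z : Y.IdealSheafData} (hZ : BlowUp.IsEffCartierIdeal Z) (hc : ∀ C, IsCrv C → Z ≤ C → C ∈ S) :
    ∃ a : Y.IdealSheafData → ℕ, Z = ∏ C ∈ S, C ^ a C := by
  classical
  by_cases h0 : Z = ⊤
  · exact ⟨0, by rw [h0, Finset.prod_eq_one (fun C _ => by exact pow_zero C), Scheme.IdealSheafData.one_eq_top]⟩
  obtain ⟨a, ha, -⟩ := exists_prod_eq k hY hreg (fun C : S => C.1)
    (fun C => (hS C.1 C.2).isEffCartier k hY hreg) hZ h0 (fun C hC hle => ⟨⟨C, hc C hC hle⟩, rfl⟩)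
  refine ⟨fun C => if h : C ∈ S then a ⟨C, h⟩ else 0, ?_⟩
  rw [ha, ← Finset.prod_attach S fun C => C ^ (if h : C ∈ S then a ⟨C, h⟩ else 0)]
  exact Finset.prod_congr rfl fun C _ => by simp [C.2]

/-- The stalk of such a product at the generic point of one of the curves. -/
theorem stk_prod_gen {Y : Scheme.{u}} (k : Type u) [Field k] [Y.Over (Spec (CommRingCat.of k))]
    [IsProper (Y ↘ Spec (CommRingCat.of k))] [IsIntegral Y]
    (hY : topologicalKrullDim Y = ((2 : ℕ) : WithBot ℕ∞)) (hreg : ∀ y : Y, IsRegularLocalRing (Y.presheaf.stalk y))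
    (S : Finset Y.IdealSheafData) (hS : ∀ C ∈ S, IsCrv C) (a : Y.IdealSheafData → ℕ)
    {C : Y.IdealSheafData} [IsIntegral C.subscheme] (hC : C ∈ S) :
    stk (∏ B ∈ S, B ^ a B) (gen C) = IsLocalRing.maximalIdeal (Y.presheaf.stalk (gen C)) ^ a C := by
  classical
  haveI := isNoetherian_of_proper k (X := Y)
  rw [stk_prod, Finset.prod_eq_single C, stk_pow, stk_gen ((hS C hC).isEffCartier k hY hreg)]
  · intro B hB hne
    rw [stk_pow, stk_eq_top, Ideal.top_pow, Ideal.one_eq_top]
    intro hm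
    haveI := (hS B hB).1
    have hle : B ≤ C := le_of_support_subset (by
      rw [support_eq_closure_gen C]
      exact B.support.isClosed.closure_subset_iff.2 (Set.singleton_subset_iff.2 hm))
    obtain ⟨_, he⟩ := exists_eq_of_crv k (fun _ : Unit => B) (fun _ => hS B hB) (hS C hC) hle
      fun x hx => Set.mem_iUnion.2 ⟨(), hx⟩
    exact hne he.symm
  · exact fun h => absurd hC h

theorem maximalIdeal_pow_inj {R : Type*} [CommRing R] [IsDomain R] [IsDiscreteValuationRing R] {a b : ℕ}
    (h : IsLocalRing.maximalIdeal R ^ a = IsLocalRing.maximalIdeal R ^ b) : a = b := by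
  exact (Ideal.pow_right_strictAnti (IsLocalRing.maximalIdeal R) (IsDiscreteValuationRing.not_a_field R)
    (IsLocalRing.maximalIdeal.isMaximal R).ne_top).injective h

theorem isLocPrincipal_comap {X Y : Scheme.{u}} {I : X.IdealSheafData} (hI : BlowUp.IsEffCartierIdeal I)
    (f : Y ⟶ X) : Curv2.IsLocPrincipal (I.comap f) := fun y _ => by
  obtain ⟨U, hxU, g, -, hg⟩ := hI (f y)
  obtain ⟨_, ⟨V, hV, rfl⟩, hyV, hVU⟩ :=
    Y.isBasis_affineOpens.exists_subset_of_mem_open (show y ∈ f ⁻¹ᵁ U.1 from hxU) (f ⁻¹ᵁ U.1).isOpen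
  exact ⟨⟨V, hV⟩, hyV, _, by rw [ProjLib.comap_ideal_eq I f U ⟨V, hV⟩ hVU, hg, Ideal.map_span, Set.image_singleton]⟩

/-- Let k be an algebraically closed field, X an integral scheme of dimension two admitting a closed
immersion into some P^n_k over k, and U ⊆ X open with finite complement. Let φ : Y → X be a
k-morphism from an integral scheme of dimension two with all local rings regular, itself admitting a
closed immersion into some projective space over k, restricting to an isomorphism over U; let μ_1,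
…, μ_s be distinct integral one-dimensional closed subschemes of Y, each mapped to a point, such
that every integral one-dimensional closed subscheme of Y mapped to a point has the support of one
of them. Let D be an effective Cartier divisor on X (an ideal sheaf I_D locally generated by one
nonzerodivisor) and D̃ an effective Cartier divisor on Y whose support contains no μ_j and whose
ideal agrees with the inverse-image ideal φ⁻¹I_D · O_Y on every affine open contained in φ⁻¹(U) —
the strict transform of D. Then there are natural numbers γ_1, …, γ_s such that φ⁻¹I_D · O_Y =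
I_{D̃} · ∏_j I_{μ_j}^{γ_j} (the total transform is the strict transform plus Σ γ_j μ_j) and Σ_j (μ_i
· μ_j) γ_j = -(D̃ · μ_i) for every i (the total transform meets every μ_i with intersection number
zero), where (A · B) = χ(O_Y) - χ(I_A) - χ(I_B) + χ(I_A ⊗ I_B) (packaged as FGA.intNum). (The
published statement writes the coefficient vector as γ = -d⁻¹ (D̃ · μ), with d = (μ_i · μ_j), for a
locally principal divisor on a normal surface and a resolution that is an isomorphism exactly off
the singular points with exceptional fibres of pure dimension one; this row states the linear system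
d γ = -(D̃ · μ), for effective Cartier divisors, any resolution that is an isomorphism over an open
subset with finite complement, and X not assumed normal.) -/
theorem result (k : Type u) [Field k] [IsAlgClosed k] (X : Scheme.{u}) [X.Over (Spec (CommRingCat.of k))]
    [IsIntegral X] (hdim : topologicalKrullDim X = 2)
    (hproj : ∃ (n : ℕ) (ι : X ⟶ CohB1.ProjSpace n k), IsClosedImmersion ι ∧ ι ≫ CohB1.ProjSpace.toSpec n k = (X ↘ (Spec (CommRingCat.of k))))
    (U : X.Opens) (hU : ((U : Set X)ᶜ).Finite)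
    (Y : Scheme.{u}) (φ : Y ⟶ X) [IsIntegral Y] (hdimY : topologicalKrullDim Y = 2)
    (hregY : ∀ y : Y, IsRegularLocalRing (Y.presheaf.stalk y))
    (hprojY : ∃ (n : ℕ) (ι : Y ⟶ CohB1.ProjSpace n k), IsClosedImmersion ι ∧ ι ≫ CohB1.ProjSpace.toSpec n k = φ ≫ (X ↘ (Spec (CommRingCat.of k))))
    (hiso : IsIso (φ ∣_ U))
    (s : ℕ) (μ : Fin s → Y.IdealSheafData) (hμint : ∀ j, IsIntegral (μ j).subscheme)
    (hμdim : ∀ j, topologicalKrullDim ((μ j).support : Set Y) = 1)
    (hμpt : ∀ j, ∃ x : X, φ.base '' ((μ j).support : Set Y) = {x})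
    (hμinj : Function.Injective fun j => ((μ j).support : Set Y))
    (hμall : ∀ E : Y.IdealSheafData, IsIntegral E.subscheme → topologicalKrullDim (E.support : Set Y) = 1 →
      (∃ x : X, φ.base '' (E.support : Set Y) = {x}) → ∃ j, (E.support : Set Y) = (μ j).support)
    (D : X.IdealSheafData) (hD : FGA.IsEffCartier D) (Dt : Y.IdealSheafData) (hDt : FGA.IsEffCartier Dt)
    (hDtexc : ∀ j, ¬ ((μ j).support : Set Y) ⊆ Dt.support)
    (hDtU : ∀ W : Y.affineOpens, (W : Y.Opens) ≤ φ ⁻¹ᵁ U → Dt.ideal W = (D.comap φ).ideal W) :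
    letI : Y.Over (Spec (CommRingCat.of k)) := ⟨φ ≫ (X ↘ (Spec (CommRingCat.of k)))⟩
    ∃ γ : Fin s → ℕ, D.comap φ = Dt * ∏ j : Fin s, μ j ^ γ j ∧
      ∀ i : Fin s, (∑ j : Fin s, FGA.intNum k Y 2 ![ClSub.idealMod (μ i), ClSub.idealMod (μ j)] (Coh.structureModule Y) * (γ j : ℤ)) =
        - FGA.intNum k Y 2 ![ClSub.idealMod Dt, ClSub.idealMod (μ i)] (Coh.structureModule Y) := by
  classical
  letI : Y.Over (Spec (CommRingCat.of k)) := ⟨φ ≫ (X ↘ (Spec (CommRingCat.of k)))⟩
  obtain ⟨n, ι, hι, hιk⟩ := hproj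
  obtain ⟨n', ι', hι', hιk'⟩ := hprojY
  haveI := hι
  haveI := hι'
  haveI : IsProper (X ↘ (Spec (CommRingCat.of k))) := by
    haveI := isProper_projSpace_toSpec n k
    rw [← hιk]; infer_instance
  haveI : IsProper (Y ↘ (Spec (CommRingCat.of k))) := by
    haveI := isProper_projSpace_toSpec n' k
    show IsProper (φ ≫ (X ↘ (Spec (CommRingCat.of k))))
    rw [← hιk']; infer_instance
  haveI := isNoetherian_of_proper k (X := X)
  haveI := isNoetherian_of_proper k (X := Y)
  have hY : topologicalKrullDim Y = ((2 : ℕ) : WithBot ℕ∞) := by rw [hdimY]; rfl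
  have hfin : IsClosed ((U : Set X)ᶜ) := U.isOpen.isClosed_compl
  have hUne : (U : Set X).Nonempty := by
    by_contra hne
    rw [Set.not_nonempty_iff_eq_empty] at hne
    rw [hne, Set.compl_empty] at hU hfin
    have h1 := Birat14.dim_lt_one k hfin hU (S := Set.univ) subset_rfl
    rw [(Homeomorph.Set.univ X).isHomeomorph.topologicalKrullDim_eq, hdim] at h1
    exact absurd h1 (by decide)
  obtain ⟨x₀, hx₀⟩ := hUne
  haveI := hiso
  have hηY : φ (genericPoint Y) = genericPoint X := by
    refine ((genericPoint_spec X).eq ?_).symm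
    rw [isGenericPoint_def, ← Set.univ_subset_iff]
    intro z _
    rw [mem_closure_iff]
    intro V hV hzV
    obtain ⟨w, hwV, hwU⟩ := nonempty_preirreducible_inter hV U.isOpen ⟨z, hzV⟩ ⟨x₀, hx₀⟩
    obtain ⟨y, hy⟩ := (φ ∣_ U).homeomorph.surjective ⟨w, hwU⟩
    have hy' : φ y.1 = w := by
      have := congrArg (fun v => U.ι v) hy
      calc φ y.1 = ((φ ⁻¹ᵁ U).ι ≫ φ) y := rfl
        _ = ((φ ∣_ U) ≫ U.ι) y := by rw [morphismRestrict_ι]
        _ = w := this
    exact ⟨_, (genericPoint_specializes y.1).mem_open (hV.preimage φ.continuous) (show φ y.1 ∈ V from hy' ▸ hwV), rfl⟩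
  have hT : BlowUp.IsEffCartierIdeal (D.comap φ) :=
    Surf15.isEffCartier_of_locPrincipal (isLocPrincipal_comap hD φ) (fun h => by
      rw [Scheme.IdealSheafData.support_comap] at h
      exact eta_notMem hD (hηY ▸ (h : φ (genericPoint Y) ∈ (D.support : Set X))))
  have hμc : ∀ j, IsCrv (μ j) := fun j => ⟨hμint j, by rw [hμdim j]; rfl⟩
  have hS0 : ∀ {Z : Y.IdealSheafData}, BlowUp.IsEffCartierIdeal Z →
      ∃ s : Finset Y.IdealSheafData, (∀ C ∈ s, IsCrv C) ∧ ∀ C, IsCrv C → Z ≤ C → C ∈ s := fun {Z} hZ => by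
    by_cases h0 : Z = ⊤
    · exact ⟨∅, by simp, fun C hC hle => absurd (top_le_iff.1 (h0 ▸ hle)) hC.ne_top⟩
    · obtain ⟨s, hs, hs'⟩ := exists_crv_finset k hY hregY hZ h0
      exact ⟨s, fun C hC => (hs C hC).1, hs'⟩
  obtain ⟨s1, hs1, hs1'⟩ := hS0 hT
  obtain ⟨s2, hs2, hs2'⟩ := hS0 (Z := Dt) hDt
  let M : Finset Y.IdealSheafData := Finset.univ.image μ
  let S := s1 ∪ s2 ∪ M
  have hS : ∀ C ∈ S, IsCrv C := fun C hC => by
    simp only [S, M, Finset.mem_union, Finset.mem_image, Finset.mem_univ, true_and] at hC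
    rcases hC with (h | h) | ⟨j, rfl⟩
    · exact hs1 C h
    · exact hs2 C h
    · exact hμc j
  obtain ⟨a, ha⟩ := exists_fun k hY hregY S hS hT fun C hC hle =>
    Finset.mem_union_left _ (Finset.mem_union_left _ (hs1' C hC hle))
  obtain ⟨b, hb⟩ := exists_fun k hY hregY S hS (Z := Dt) hDt fun C hC hle =>
    Finset.mem_union_left _ (Finset.mem_union_right _ (hs2' C hC hle))
  have hbM : ∀ C ∈ M, b C = 0 := fun C hC => by
    simp only [M, Finset.mem_image, Finset.mem_univ, true_and] at hC
    obtain ⟨j, rfl⟩ := hC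
    by_contra hne
    haveI := hμint j
    refine hDtexc j ?_
    rw [support_eq_closure_gen (μ j)]
    refine Dt.support.isClosed.closure_subset_iff.2 (Set.singleton_subset_iff.2 ?_)
    refine (mem_support_iff_stk _ _).2 ?_
    rw [hb, stk_prod_gen k hY hregY S hS b (Finset.mem_union_right _ (Finset.mem_image_of_mem μ (Finset.mem_univ j)))]
    exact Ideal.pow_le_self hne
  have hab : ∀ C ∈ S, C ∉ M → a C = b C := fun C hC hCM => by
    haveI := (hS C hC).1
    have hgU : gen C ∈ φ ⁻¹ᵁ U := by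
      by_contra hg
      have hcl := Birat14.isClosed_singleton_of_mem k hfin hU (x := φ (gen C)) hg
      obtain ⟨j, hj⟩ := hμall C (hS C hC).1 (by rw [(hS C hC).2]; rfl) ⟨φ (gen C),
        Set.eq_singleton_iff_nonempty_unique_mem.2 ⟨⟨_, gen C, (isGenericPoint_gen C).mem, rfl⟩, by
          rintro _ ⟨y, hy, rfl⟩
          exact (((isGenericPoint_gen C).specializes hy).map φ.continuous).mem_closed hcl rfl⟩⟩
      refine hCM (Finset.mem_image.2 ⟨j, Finset.mem_univ j, ?_⟩)
      haveI := hμint j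
      rw [VarietyLib.eq_clI_of_isIntegral C, VarietyLib.eq_clI_of_isIntegral (μ j)]
      refine congrArg AssSch12.clI ((isGenericPoint_gen (μ j)).eq ?_)
      rw [← hj]
      exact isGenericPoint_gen C
    obtain ⟨_, ⟨W, hW, rfl⟩, hgW, hWU⟩ := Y.isBasis_affineOpens.exists_subset_of_mem_open
      (show gen C ∈ (φ ⁻¹ᵁ U : Y.Opens) from hgU) (φ ⁻¹ᵁ U).isOpen
    have e : stk Dt (gen C) = stk (D.comap φ) (gen C) := by
      rw [stk_eq Dt ⟨W, hW⟩ hgW, stk_eq (D.comap φ) ⟨W, hW⟩ hgW, hDtU ⟨W, hW⟩ hWU]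
    rw [ha, hb, stk_prod_gen k hY hregY S hS b hC, stk_prod_gen k hY hregY S hS a hC] at e
    obtain ⟨_, _⟩ := SDiv28.StalkCartier.exists_dvr ((hS C hC).isEffCartier k hY hregY) _ (isGenericPoint_gen C)
    exact (maximalIdeal_pow_inj e).symm
  have hμi : Function.Injective μ := fun i j h => hμinj (by simp only [h])
  have hfac : D.comap φ = Dt * ∏ j, μ j ^ a (μ j) := by
    rw [← Finset.prod_image (f := fun C => C ^ a C) hμi.injOn, ha, hb]
    have hMS : M ⊆ S := Finset.subset_union_right
    rw [← Finset.prod_sdiff hMS, ← Finset.prod_sdiff hMS (f := fun C => C ^ b C)]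
    rw [Finset.prod_eq_one (s := M) (f := fun C => C ^ b C) fun C hC => by rw [hbM C hC, pow_zero], mul_one]
    congr 1
    refine Finset.prod_congr rfl fun C hC => ?_
    rw [hab C (Finset.mem_sdiff.1 hC).1 (Finset.mem_sdiff.1 hC).2]
  refine ⟨fun j => a (μ j), hfac, fun i => ?_⟩
  have hμe : ∀ j, BlowUp.IsEffCartierIdeal (μ j) := fun j => (hμc j).isEffCartier k hY hregY
  obtain ⟨x, hx⟩ := hμpt i
  have hzero := Surf15.B_comap_eq_zero k hY φ (P := D) hD hT (p := x) (hμe i) (fun y hy => by
    have : φ y ∈ φ.base '' ((μ i).support : Set Y) := ⟨y, hy, rfl⟩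
    rw [hx] at this
    exact this)
  have hcl : ∀ t : Finset (Fin s), ∃ h : BlowUp.IsEffCartierIdeal (Dt * ∏ j ∈ t, μ j ^ a (μ j)),
      Surf15.clI' _ h = Surf15.clI' Dt hDt * ∏ j ∈ t, Surf15.clI' (μ j) (hμe j) ^ a (μ j) := by
    have key : ∀ (A : Y.IdealSheafData) (hA : BlowUp.IsEffCartierIdeal A) (j : Fin s) (m : ℕ),
        ∃ h : BlowUp.IsEffCartierIdeal (A * μ j ^ m),
          Surf15.clI' _ h = Surf15.clI' A hA * Surf15.clI' (μ j) (hμe j) ^ m := by
      intro A hA j m
      induction m with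
      | zero => simp only [pow_zero, mul_one]; exact ⟨hA, trivial⟩
      | succ m ih =>
        obtain ⟨h, he⟩ := ih
        rw [pow_succ (μ j), ← mul_assoc]
        exact ⟨ModPairLib.isEffCartier_mul h (hμe j), by rw [Surf15.clI'_mul _ _ h (hμe j), he, pow_succ, mul_assoc]⟩
    intro t
    induction t using Finset.induction_on with
    | empty => simp only [Finset.prod_empty, mul_one]; exact ⟨hDt, trivial⟩
    | insert j t hj ih =>
      obtain ⟨h, he⟩ := ih
      rw [Finset.prod_insert hj, mul_left_comm, mul_comm (μ j ^ a (μ j))]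
      obtain ⟨h', he'⟩ := key _ h j (a (μ j))
      exact ⟨h', by rw [he', he, Finset.prod_insert hj]; ac_rfl⟩
  obtain ⟨he, hecl⟩ := hcl Finset.univ
  rw [Surf15.clI'_congr hfac hT he, hecl, Surf15.B_mul_right k hY.le, B_comm k (Surf15.clI' (μ i) (hμe i)),
    Surf15.B_comm k _ (∏ j, _), Surf15.B_prod k hY.le] at hzero
  have hinv : ∀ (I : Y.IdealSheafData) (hI : BlowUp.IsEffCartierIdeal I), PicF.IsInvertible (ClSub.idealMod I) :=
    fun I hI => FlatMor12.IdealModGen.isInvertible_idealMod I hI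
  rw [Surf15.intNum_eq_B k hY.le (hinv Dt hDt) (hinv _ (hμe i))]
  have hsum : ∀ j, FGA.intNum k Y 2 ![ClSub.idealMod (μ i), ClSub.idealMod (μ j)] (Coh.structureModule Y) =
      Surf15.B k (Surf15.clI' (μ j) (hμe j)) (Surf15.clI' (μ i) (hμe i)) := fun j => by
    rw [Surf15.intNum_eq_B k hY.le (hinv _ (hμe i)) (hinv _ (hμe j)), Surf15.B_comm]
    rfl
  simp only [hsum]
  unfold Surf15.clI' at hzero ⊢
  rw [Finset.sum_congr rfl fun j _ => mul_comm _ _]
  linarith

end Groth.Agent.S14703
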