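import Groth.Statements.S14704
import Groth.Agent.FModLib.ClosedBC

set_option autoImplicit false
set_option backward.isDefEq.respectTransparency false
open CategoryTheory CategoryTheory.Limits AlgebraicGeometry
universe u
open FCompl

namespace Groth.Agent.S14704

/-- Let 𝔖, 𝔛, 𝔜 be locally Noetherian formal schemes, presented as adic systems of locally Noetherian
thickenings with a common underlying space, let f : 𝔛 ⟶ 𝔖 be a closed immersion (adic, with a closed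
immersion at level 0) and g : 𝔜 ⟶ 𝔖 any morphism, and let p, q be the two projections of the
levelwise fibre product 𝔛 ×_𝔖 𝔜, assumed to be again a locally Noetherian formal scheme (which
holds, f being of finite type). Then for every coherent O_𝔛-module 𝔉 the base-change morphism u :
g^*(f_* 𝔉) ⟶ q_*(p^* 𝔉), whose adjunct f_* 𝔉 ⟶ g_* q_* p^* 𝔉 = f_* p_* p^* 𝔉 is f_* of the unit 𝔉 ⟶
p_* p^* 𝔉, is an isomorphism. -/
theorem result (𝔖 𝔛 𝔜 : FSch.Sys.{u})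
    (h𝔖 : 𝔖.IsLocNoethFormal) (h𝔛 : 𝔛.IsLocNoethFormal) (h𝔜 : 𝔜.IsLocNoethFormal)
    (f : 𝔛 ⟶ 𝔖) (g : 𝔜 ⟶ 𝔖) (hf : FSch.IsClosedImmHom f)
    (hZ : (FSch.pullbackSys f g).IsLocNoethFormal)
    (𝔉 : FSch.ModF 𝔛 h𝔛.1) (h𝔉 : FSch.IsCohF 𝔛 h𝔛.1 𝔉) :
    IsIso (FSch.bcMapF (FSch.pullbackFst f g) f (FSch.pullbackSnd f g) g (FSch.pullbackSys_condition f g)
      hZ.1 h𝔛.1 h𝔜.1 h𝔖.1 𝔉) := by
  have hf0 : IsClosedImmersion ((f : FSch.Hom 𝔛 𝔖).app 0) := hf.2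
  have hpb : ∀ n, IsPullback ((FSch.pullbackFst f g : FSch.Hom _ _).app n)
      ((FSch.pullbackSnd f g : FSch.Hom _ _).app n) ((f : FSch.Hom 𝔛 𝔖).app n) ((g : FSch.Hom 𝔜 𝔖).app n) :=
    fun n => IsPullback.of_hasPullback _ _
  have hq : FSch.IsAdicHom (FSch.pullbackSnd f g) := fun n => by
    have h1 := (IsPullback.of_hasPullback ((f : FSch.Hom 𝔛 𝔖).app n)
      ((g : FSch.Hom 𝔜 𝔖).app n)).paste_horiz (hf.1 n)
    have e1 : (FSch.pullbackSys f g).ι n ≫ pullback.fst ((f : FSch.Hom 𝔛 𝔖).app (n + 1))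
        ((g : FSch.Hom 𝔜 𝔖).app (n + 1)) = pullback.fst _ _ ≫ 𝔛.ι n := pullback.lift_fst _ _ _
    have e2 : (FSch.pullbackSys f g).ι n ≫ pullback.snd ((f : FSch.Hom 𝔛 𝔖).app (n + 1))
        ((g : FSch.Hom 𝔜 𝔖).app (n + 1)) = pullback.snd _ _ ≫ 𝔜.ι n := pullback.lift_snd _ _ _
    rw [← e1, (g : FSch.Hom 𝔜 𝔖).comm n] at h1
    exact IsPullback.of_right h1 e2 (IsPullback.of_hasPullback _ _)
  have : IsClosedImmersion ((FSch.pullbackSnd f g : FSch.Hom _ _).app 0) :=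
    inferInstanceAs (IsClosedImmersion (pullback.snd _ _))
  exact Groth.Agent.FModLib.isIso_bcMapF (FSch.pullbackFst f g) f (FSch.pullbackSnd f g) g
    (FSch.pullbackSys_condition f g) hZ.1 h𝔛.1 h𝔜.1 h𝔖.1 hZ h𝔛 h𝔜 h𝔖 hf.1 hq hpb 𝔉 h𝔉

end Groth.Agent.S14704
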