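import Groth.Statements.S1471
import Groth.Agent.Props12.KerReduced
import Groth.Agent.Props12.Stalks

set_option autoImplicit false
universe u
open FlatMor

namespace Groth.Agent.S1471

open AlgebraicGeometry CategoryTheory Limits in
/-- Let f : X → Y and η a generic point of an irreducible component of Y. Then the fibre over η of the
composite X_red → X → Y is reduced; since it is a closed subscheme of X_η with the same underlying
set, this says (X_η)_red = (X_red)_η. -/
theorem result {X Y : Scheme.{u}} (f : X ⟶ Y) (η : Y) (W : Set ↑Y) (hW : W ∈ irreducibleComponents ↑Y) (hη : IsGenericPoint η W) :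
    IsReduced ((X.nilradical.subschemeι ≫ f).fiber η) := by
  have : IsReduced X.nilradical.subscheme := by
    rw [← Scheme.IdealSheafData.vanishingIdeal_top]
    exact Groth.Agent.Props12.isReduced_subscheme_vanishingIdeal _
  generalize hg : X.nilradical.subschemeι ≫ f = g
  clear hg
  apply +allowSynthFailures isReduced_of_isReduced_stalk
  intro y
  obtain ⟨hsurj, hker⟩ := Groth.Agent.Props12.stalkMap_fiberι g η y
  have hη' : g (g.fiberι η y) = η := (g.range_fiberι η).le ⟨y, rfl⟩
  have hnil : ∀ a ∈ IsLocalRing.maximalIdeal (Y.presheaf.stalk (g (g.fiberι η y))), IsNilpotent a := by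
    intro a ha
    rw [← mem_nilradical, nilradical_eq_sInf]
    refine Submodule.mem_sInf.2 fun (P : Ideal _) (hP : P.IsPrime) => ?_
    have hle : Y.fromSpecStalk _ ⟨P, hP⟩ ⤳ g (g.fiberι η y) := by
      have : Y.fromSpecStalk _ ⟨P, hP⟩ ∈ Set.range (Y.fromSpecStalk (g (g.fiberι η y))) := ⟨_, rfl⟩
      rwa [Scheme.range_fromSpecStalk] at this
    have hgen : IsGenericPoint (g (g.fiberι η y)) W := hη'.symm ▸ hη
    have heq : Y.fromSpecStalk _ ⟨P, hP⟩ = g (g.fiberι η y) := by
      have hle' : W ⊆ closure {Y.fromSpecStalk _ ⟨P, hP⟩} :=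
        hgen ▸ closure_minimal (Set.singleton_subset_iff.2 hle.mem_closure) isClosed_closure
      exact IsGenericPoint.eq (le_antisymm (hW.2 isIrreducible_singleton.closure hle') hle') hgen
    have := (Y.fromSpecStalk (g (g.fiberι η y))).isEmbedding.injective
      (heq.trans Scheme.fromSpecStalk_closedPoint.symm)
    rw [show P = IsLocalRing.maximalIdeal _ from congrArg PrimeSpectrum.asIdeal this]
    exact ha
  have hzero : RingHom.ker ((g.fiberι η).stalkMap y).hom = ⊥ := by
    rw [hker, Ideal.map_eq_bot_iff_le_ker]
    exact fun a ha => ((hnil a ha).map _).eq_zero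
  exact isReduced_of_injective (RingEquiv.ofBijective ((g.fiberι η).stalkMap y).hom
    ⟨(RingHom.injective_iff_ker_eq_bot _).2 hzero, hsurj⟩).symm (RingEquiv.injective _)

end Groth.Agent.S1471
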