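import Groth.Statements.S14718
import Groth.Agent.CohDer1.GITBundle.Ample
-- import your own Groth.Agent.* helpers here

set_option autoImplicit false
universe u
open CategoryTheory MonoidalCategory CartesianMonoidalCategory MonObj GrpObj AlgebraicGeometry Topology
open GIT

namespace Groth.Agent.S14718

/-- Let k be a field, G a group scheme over k acting by σ on a k-scheme X, φ : X → Y an invariant
k-morphism (φ ∘ σ = φ ∘ p₂) which is affine, and M an ample invertible sheaf on Y. Then there is a
G-linearised line bundle L on X, taken in total-space form, with X = X^ss(L): every point x has an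
invariant section s of some L^n, n ≥ 1, with s(x) ≠ 0 and X_s affine. If moreover (Y, φ) is a
geometric quotient of X by G, then X = X^s(L) for the same L (the action of G on those X_s is
closed; no condition on stabilisers). (The published statement assumes G reductive, X of finite type
and (Y, φ) a categorical quotient with Y quasi-projective; this row keeps only what the construction
uses: φ invariant and affine, M ample. L is taken in total-space form.) -/
theorem result (k : Type u) [Field k]
    (G X Y : Over (Spec (CommRingCat.of k))) [GrpObj G]
    (a : AlgGrp.Action G X) (φ : X ⟶ Y) (hφ : GIT.IsInvariant a φ) [IsAffineHom φ.left]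
    (M : Y.left.Modules) (hM : CohB1.IsAmple M) :
    ∃ B : GLinSh.LinBun G a, B.ssLocus = Set.univ ∧ (GIT.IsGeomQuot a φ → B.sLocus = Set.univ) := by
  obtain ⟨D⟩ := CohDer1.GITBundle.nonempty_quotData hM
  have hD := CohDer1.GITBundle.isInvariantData_pullback D hφ
  refine ⟨(D.pullback φ).linBun hD, Set.eq_univ_iff_forall.2 fun x => ?_, fun hq => Set.eq_univ_iff_forall.2 fun x => ?_⟩
  · obtain ⟨i, hi⟩ := (D.pullback φ).cover x
    exact ⟨1, (D.pullback φ).z i, le_rfl, (D.pullback φ).isInvSection hD i,
      ((D.pullback φ).nonvanishing_eq hD i).symm ▸ hi, (D.pullback φ).U i,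
      ((D.pullback φ).nonvanishing_eq hD i).symm, (D.pullback φ).affine i⟩
  · obtain ⟨i, hi⟩ := (D.pullback φ).cover x
    exact ⟨1, (D.pullback φ).z i, le_rfl, (D.pullback φ).isInvSection hD i,
      ((D.pullback φ).nonvanishing_eq hD i).symm ▸ hi, (D.pullback φ).U i,
      ((D.pullback φ).nonvanishing_eq hD i).symm, (D.pullback φ).affine i,
      CohDer1.GITBundle.closedOrbitsOn_preimage hq (D.U i) (D.affine i)⟩

end Groth.Agent.S14718
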