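import Groth.Statements.S14727
import Mathlib.RingTheory.AdicCompletion.Functoriality
import Mathlib.RingTheory.Ideal.Quotient.Operations
import Mathlib.RingTheory.Localization.Ideal
import Mathlib.Tactic.LinearCombination

set_option autoImplicit false
universe u
open ValPrufer

namespace Groth.Agent.S14727

/-- Let R be a semilocal ring (finitely many maximal ideals) and I an ideal of R of co-height zero, i.e.
every prime ideal containing I is maximal. Then the canonical map from the I-adic completion of R to
the product, over the maximal ideals m ⊇ I, of the I-adic completions of the local rings R_m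
(equivalently their IR_m-adic completions) is bijective; it is the continuous ring isomorphism of
the source, stated here as bijectivity of the canonical map of completed modules. -/
theorem result
    (R : Type u) [CommRing R] (hR : Finite (MaximalSpectrum R)) (I : Ideal R)
    (hI : ∀ (p : Ideal R), p.IsPrime → I ≤ p → p.IsMaximal) :
    Function.Bijective (LinearMap.pi (fun m : {m : MaximalSpectrum R // I ≤ m.asIdeal} =>
      AdicCompletion.map I (Algebra.linearMap R (Localization.AtPrime m.1.asIdeal)))) := by
  classical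
  let σ := {m : MaximalSpectrum R // I ≤ m.asIdeal}
  have : Finite σ := Subtype.finite
  let J : ℕ → σ → Ideal R := fun n m ↦
    ((I ^ n).map (algebraMap R (Localization.AtPrime m.1.asIdeal))).comap (algebraMap R _)
  have htop : ∀ (n : ℕ) (m : σ) (z : Localization.AtPrime m.1.asIdeal),
      z ∈ (I ^ n • ⊤ : Submodule R (Localization.AtPrime m.1.asIdeal)) ↔
        z ∈ (I ^ n).map (algebraMap R (Localization.AtPrime m.1.asIdeal)) := fun n m z ↦ by
    rw [Ideal.smul_top_eq_map, Submodule.restrictScalars_mem]
  -- only one maximal ideal contains `J n m`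
  have hsep : ∀ (n : ℕ) (m : σ) (M : Ideal R), M.IsMaximal → J n m ≤ M → M = m.1.asIdeal := by
    intro n m M hM hJM
    by_contra hne
    obtain ⟨y, hy, hyM⟩ := SetLike.not_le_iff_exists.mp
      (fun h : m.1.asIdeal ≤ M ↦ hne (m.1.isMaximal.eq_of_le hM.ne_top h).symm)
    have hrad : algebraMap R _ y ∈
        ((I ^ n).map (algebraMap R (Localization.AtPrime m.1.asIdeal))).radical := by
      rw [Ideal.radical_eq_sInf, Submodule.mem_sInf]
      rintro q ⟨hq, hqp⟩
      have hle : Ideal.comap (algebraMap R (Localization.AtPrime m.1.asIdeal)) q ≤ m.1.asIdeal := fun z hz ↦ by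
        by_contra hzm
        exact hqp.ne_top (Ideal.eq_top_of_isUnit_mem _ hz
          (IsLocalization.map_units (Localization.AtPrime m.1.asIdeal)
            (⟨z, hzm⟩ : m.1.asIdeal.primeCompl)))
      have hI' : I ≤ Ideal.comap (algebraMap R (Localization.AtPrime m.1.asIdeal)) q :=
        Ideal.IsPrime.le_of_pow_le (n := n) (Ideal.map_le_iff_le_comap.mp hq)
      have := (hI _ (Ideal.comap_isPrime _ q) hI').eq_of_le m.1.isMaximal.ne_top hle
      rw [← Ideal.mem_comap, this]
      exact hy
    obtain ⟨k, hk⟩ := hrad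
    exact hyM (hM.isPrime.mem_of_pow_mem k (hJM (Ideal.mem_comap.mpr (by rwa [map_pow]))))
  have hcop : ∀ n, Pairwise fun a b ↦ IsCoprime (J n a) (J n b) := fun n a b hab ↦ by
    show IsCoprime (J n a) (J n b)
    rw [Ideal.isCoprime_iff_sup_eq]
    by_contra h
    obtain ⟨M, hM, hle⟩ := Ideal.exists_le_maximal _ h
    exact hab (Subtype.ext (MaximalSpectrum.ext
      ((hsep n a M hM (le_sup_left.trans hle)).symm.trans (hsep n b M hM (le_sup_right.trans hle)))))
  have hinj : ∀ n (x : R), (∀ m : σ, algebraMap R (Localization.AtPrime m.1.asIdeal) x ∈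
      (I ^ n • ⊤ : Submodule R (Localization.AtPrime m.1.asIdeal))) → x ∈ I ^ n := by
    intro n x hx
    let C : Ideal R := Submodule.comap (LinearMap.toSpanSingleton R R x) (I ^ n)
    suffices hC : (1 : R) ∈ C by simpa [C] using hC
    rw [← Ideal.eq_top_iff_one]
    by_contra hne
    obtain ⟨M, hM, hle⟩ := Ideal.exists_le_maximal _ hne
    have hIM : I ≤ M := Ideal.IsPrime.le_of_pow_le (n := n) fun a ha ↦ hle (by
      simpa [C] using (I ^ n).mul_mem_right x ha)
    obtain ⟨s, hs, hsx⟩ := (IsLocalization.algebraMap_mem_map_algebraMap_iff M.primeCompl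
      (Localization.AtPrime M) (I ^ n) x).mp ((htop n ⟨⟨M, hM⟩, hIM⟩ _).mp (hx ⟨⟨M, hM⟩, hIM⟩))
    exact hs (hle (by simpa [C] using hsx))
  have hsurj : ∀ n (z : (m : σ) → Localization.AtPrime m.1.asIdeal),
      ∃ r : R, ∀ m, algebraMap R (Localization.AtPrime m.1.asIdeal) r - z m ∈
        (I ^ n • ⊤ : Submodule R (Localization.AtPrime m.1.asIdeal)) := by
    intro n z
    have hb : ∀ m : σ, ∃ b : R, algebraMap R (Localization.AtPrime m.1.asIdeal) b - z m ∈
        (I ^ n).map (algebraMap R (Localization.AtPrime m.1.asIdeal)) := fun m ↦ by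
      obtain ⟨a, s, hz⟩ := IsLocalization.exists_mk'_eq m.1.asIdeal.primeCompl (z m)
      have hu : J n m ⊔ Ideal.span {(s : R)} = ⊤ := by
        by_contra h
        obtain ⟨M, hM, hle⟩ := Ideal.exists_le_maximal _ h
        have hsM : (s : R) ∈ M := hle (Ideal.mem_sup_right (Ideal.mem_span_singleton_self _))
        exact s.2 (hsep n m M hM (le_sup_left.trans hle) ▸ hsM :)
      obtain ⟨j, hj, c, hc, hjc⟩ := Submodule.mem_sup.mp (hu ▸ Submodule.mem_top (x := (1 : R)))
      obtain ⟨d, rfl⟩ := Ideal.mem_span_singleton'.mp hc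
      refine ⟨a * d, ?_⟩
      have e : algebraMap R (Localization.AtPrime m.1.asIdeal) (a * d) - z m =
          algebraMap R _ j * -(z m) := by
        have h1 := IsLocalization.mk'_spec (Localization.AtPrime m.1.asIdeal) a s
        rw [hz] at h1
        have h2 := congrArg (algebraMap R (Localization.AtPrime m.1.asIdeal)) hjc
        rw [map_add, map_mul, map_one] at h2
        rw [map_mul, ← h1]
        linear_combination (z m) * h2
      rw [e]
      exact Ideal.mul_mem_right _ _ hj
    choose b hb using hb
    obtain ⟨r, hr⟩ := Ideal.pi_quotient_surjective (hcop n) (fun m ↦ Ideal.Quotient.mk (J n m) (b m))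
    refine ⟨r, fun m ↦ (htop n m _).mpr ?_⟩
    have h1 : algebraMap R (Localization.AtPrime m.1.asIdeal) (r - b m) ∈
        (I ^ n).map (algebraMap R (Localization.AtPrime m.1.asIdeal)) :=
      Ideal.mem_comap.mp (Ideal.Quotient.eq.mp (hr m))
    simpa using Ideal.add_mem _ h1 (hb m)
  constructor
  · rw [injective_iff_map_eq_zero]
    intro x hx
    refine AdicCompletion.ext fun n ↦ ?_
    obtain ⟨r, hr⟩ := Submodule.Quotient.mk_surjective _ (x.val n)
    rw [AdicCompletion.val_zero_apply, ← hr, Submodule.Quotient.mk_eq_zero, smul_eq_mul, Ideal.mul_top]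
    refine hinj n r fun m ↦ ?_
    have h := congrArg (fun c ↦ c.val n) (congrFun hx m)
    simp only [LinearMap.pi_apply, Pi.zero_apply, AdicCompletion.val_zero_apply,
      AdicCompletion.map_val_apply, ← hr] at h
    exact (Submodule.Quotient.mk_eq_zero _).mp h
  · intro y
    have hz : ∀ n, ∃ r : R, ∀ m : σ, Submodule.Quotient.mk
        (algebraMap R (Localization.AtPrime m.1.asIdeal) r) = (y m).val n := fun n ↦ by
      choose z hz using fun m : σ ↦ Submodule.Quotient.mk_surjective _ ((y m).val n)
      obtain ⟨r, hr⟩ := hsurj n z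
      exact ⟨r, fun m ↦ ((Submodule.Quotient.eq _).mpr (hr m)).trans (hz m)⟩
    choose r hr using hz
    refine ⟨⟨fun n ↦ Submodule.Quotient.mk (r n), fun {i k} hik ↦ ?_⟩, ?_⟩
    · refine (Submodule.Quotient.eq _).mpr ?_
      rw [smul_eq_mul, Ideal.mul_top]
      refine hinj i _ fun m ↦ ?_
      rw [map_sub, ← Submodule.Quotient.eq, hr i m, ← (y m).property hik, ← hr k m]
      rfl
    · funext m
      refine AdicCompletion.ext fun n ↦ ?_
      simp only [LinearMap.pi_apply, AdicCompletion.map_val_apply]
      exact hr n m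

end Groth.Agent.S14727
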