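import Groth.Statements.S14728
import Mathlib.RingTheory.Valuation.ValuationRing
import Mathlib.RingTheory.Localization.LocalizationLocalization

set_option autoImplicit false
universe u
open ValPrufer

namespace Groth.Agent.S14728

/-- Let R be a Prüfer domain, i.e. a domain all of whose local rings at primes are valuation rings. (a)
For a multiplicative subset S, any localisation B = S⁻¹R that is a domain (S not containing 0) is a
Prüfer domain. (b) For a prime ideal I, the quotient R/I is a Prüfer domain. -/
theorem result
    (R : Type u) [CommRing R] [IsDomain R]
    (hR : ∀ (p : Ideal R) [p.IsPrime], ValuationRing (Localization.AtPrime p))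
    (S : Submonoid R) (B : Type u) [CommRing B] [IsDomain B] [Algebra R B] [IsLocalization S B]
    (I : Ideal R) [I.IsPrime] :
    (∀ (q : Ideal B) [q.IsPrime], ValuationRing (Localization.AtPrime q)) ∧
      (∀ (q : Ideal (R ⧸ I)) [q.IsPrime], ValuationRing (Localization.AtPrime q)) := by
  constructor
  · intro q hq
    have := hR (q.comap (algebraMap R B))
    have hloc := IsLocalization.isLocalization_isLocalization_atPrime_isLocalization
      (R := R) (S := B) S (Localization.AtPrime q) q
    let e := IsLocalization.algEquiv (q.comap (algebraMap R B)).primeCompl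
      (Localization.AtPrime (q.comap (algebraMap R B))) (Localization.AtPrime q)
    exact Function.Surjective.valuationRing e.toRingEquiv.toRingHom e.surjective
  · intro q hq
    have := hR (q.comap (Ideal.Quotient.mk I))
    refine Function.Surjective.valuationRing
      (Localization.localRingHom (q.comap (Ideal.Quotient.mk I)) q (Ideal.Quotient.mk I) rfl) ?_
    intro y
    obtain ⟨a, s, rfl⟩ := IsLocalization.exists_mk'_eq q.primeCompl y
    obtain ⟨a', rfl⟩ := Ideal.Quotient.mk_surjective a
    obtain ⟨s, hs⟩ := s
    obtain ⟨s', rfl⟩ := Ideal.Quotient.mk_surjective s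
    refine ⟨IsLocalization.mk' _ a' (⟨s', hs⟩ : (q.comap (Ideal.Quotient.mk I)).primeCompl), ?_⟩
    rw [Localization.localRingHom_mk']

end Groth.Agent.S14728
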