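import Groth.Statements.S1473
import Groth.Agent.FlatMorH0.Locus

set_option autoImplicit false
universe u
open FlatMor

namespace Groth.Agent.S1473

open AlgebraicGeometry CategoryTheory Limits in
/-- Conclusions (a)–(d) (the source adds that (b)–(d) persist after base change in Y, which is not
restated here): let f : X → Y be a proper morphism over S (structure maps f ≫ g and g : Y → S) with
f ≫ g locally of finite presentation and flat at every point over s, and suppose the morphism of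
fibres f_s : X_s → Y_s has all fibres of dimension ≤ 1, has H^1 of the structure sheaf vanishing
over every affine open of Y_s, and induces surjections O_{Y_s}(U) → O_{X_s}(f_s⁻¹ U) for all affine
opens U. Then there is an open V of Y containing the fibre Y_s such that f⁻¹(V) → S is flat, every
fibre of f over V has dimension ≤ 1, H^1 of the structure sheaf vanishes over the preimage of every
affine open of V, and f induces surjections O_Y(U) → O_X(f⁻¹ U) for all affine opens U ⊆ V. -/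
theorem result {X Y S : Scheme.{u}} (f : X ⟶ Y) (g : Y ⟶ S) [IsProper f] [LocallyOfFinitePresentation (f ≫ g)]
    (s : S) (hflat : ∀ x : X, g (f x) = s → ((f ≫ g).stalkMap x).hom.Flat)
    (hdim : ∀ y' : ↥(g.fiber s), topologicalKrullDim ↑((MoreMor.fiberMap f g s).fiber y') ≤ 1)
    (hR1 : ∀ U : (g.fiber s).Opens, IsAffineOpen U → Subsingleton (Coh.HHon ((f ≫ g).fiber s) (Coh.structureModule ((f ≫ g).fiber s)) (MoreMor.fiberMap f g s ⁻¹ᵁ U) 1))
    (hsurj : ∀ U : (g.fiber s).Opens, IsAffineOpen U → Function.Surjective ((MoreMor.fiberMap f g s).app U)) :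
    ∃ V : Y.Opens, g ⁻¹' {s} ⊆ (V : Set ↑Y) ∧ Flat ((f ⁻¹ᵁ V).ι ≫ f ≫ g) ∧
      (∀ y ∈ V, topologicalKrullDim ↑(f.fiber y) ≤ 1) ∧
      (∀ U : Y.Opens, U ≤ V → IsAffineOpen U → Subsingleton (Coh.HHon X (Coh.structureModule X) (f ⁻¹ᵁ U) 1)) ∧
      ∀ U : Y.Opens, U ≤ V → IsAffineOpen U → Function.Surjective (f.app U) := by
  obtain ⟨V₀, hV, hfl, hd, h0⟩ := Groth.Agent.FlatMorH0.exists_good_nhd f g s hflat hdim hR1
  let V : Set Y := {y | ∃ (B : Type u) (_ : CommRing B) (q : Spec (CommRingCat.of B) ⟶ Y), IsOpenImmersion q ∧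
    y ∈ Set.range q ∧ (∀ z, q z ∈ V₀) ∧
    Function.Surjective (Groth.Agent.FlatMorH0.gm (pullback.snd f q))}
  have hVo : IsOpen V := isOpen_iff_forall_mem_open.2 fun y ⟨B, _, q, hq, hyq, h1, h2⟩ =>
    ⟨Set.range q, fun z hz => ⟨B, _, q, hq, hz, h1, h2⟩, (Scheme.Hom.isOpenEmbedding q).isOpen_range, hyq⟩
  have hVle : (⟨V, hVo⟩ : Y.Opens) ≤ V₀ := fun y ⟨B, _, q, _, ⟨z, hz⟩, h1, _⟩ => hz ▸ h1 z
  refine ⟨⟨V, hVo⟩, fun y hy => Groth.Agent.FlatMorH0.exists_surjective_nhd f g hfl hd h0 s hV hsurj hy, ?_,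
    fun y hy => by exact_mod_cast hd y (hVle hy), fun U hU hUa =>
      Groth.Agent.FlatMorH0.subsingleton_HHon_of_good f hUa (fun y hy => hd y (hVle (hU hy)))
        (fun y hy => h0 y (hVle (hU hy))), fun U hU hUa => ?_⟩
  · rw [← X.homOfLE_ι (Scheme.Hom.preimage_mono f hVle), Category.assoc]
    infer_instance
  · refine Groth.Agent.FlatMorH0.surjective_app_of_local f hUa fun y hy => ?_
    obtain ⟨B, _, q, hq, hyq, h1, h2⟩ := hU hy
    exact ⟨B, _, q, hq, hyq, fun z => hd _ (h1 z), fun z => h0 _ (h1 z), h2⟩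

end Groth.Agent.S1473
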