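import Groth.Statements.S14730
import Groth.Agent.PruferLib.OfPrufer
import Groth.Agent.PruferLib.DimBound

set_option autoImplicit false
universe u
open ValPrufer

namespace Groth.Agent.S14730

/-- Let R be a semilocal Prüfer domain (an integral domain with finitely many maximal ideals whose
localisations at primes are valuation rings). Then R is the increasing union of subrings that are
semilocal Prüfer domains of finite Krull dimension; equivalently, every finite subset of R is
contained in such a subring. -/
theorem result
    (R : Type u) [CommRing R] [IsDomain R]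
    (hR : ∀ (p : Ideal R) [p.IsPrime], ValuationRing (Localization.AtPrime p))
    (hfin : Finite (MaximalSpectrum R)) (s : Finset R) :
    ∃ R' : Subring R, (↑s : Set R) ⊆ R' ∧
      (∀ (p : Ideal R') [p.IsPrime], ValuationRing (Localization.AtPrime p)) ∧
      Finite (MaximalSpectrum R') ∧ ringKrullDim R' < ⊤ := by
  classical
  let f := algebraMap R (FractionRing R)
  have hf : Function.Injective f := IsFractionRing.injective R (FractionRing R)
  let K := Subfield.closure ((s.image f : Finset (FractionRing R)) : Set (FractionRing R))
  let R' : Subring R := K.toSubring.comap f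
  have hA := Groth.Agent.PruferLib.mem_inf_subfield_iff (L := FractionRing R) hR K
  have hmap : R'.map f = f.range ⊓ K.toSubring := by
    rw [inf_comm]
    exact Subring.map_comap_eq f K.toSubring |>.trans (inf_comm _ _) |>.trans (inf_comm _ _)
  let e : R' ≃+* ↥(f.range ⊓ K.toSubring) :=
    (R'.equivMapOfInjective f hf).trans (RingEquiv.subringCongr hmap)
  refine ⟨R', fun a ha ↦ Subfield.subset_closure
    (Finset.mem_coe.mpr (Finset.mem_image_of_mem f ha)), fun p _ ↦ ?_, ?_, ?_⟩
  · have := Groth.Agent.PruferLib.valuationRing_atPrime _ K _ hA (p.comap e.symm.toRingHom)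
    refine Function.Surjective.valuationRing
      (Localization.localRingHom (p.comap e.symm.toRingHom) p e.symm.toRingHom rfl) ?_
    intro y
    obtain ⟨a, t, rfl⟩ := IsLocalization.exists_mk'_eq p.primeCompl y
    obtain ⟨a', rfl⟩ := e.symm.surjective a
    obtain ⟨t, ht⟩ := t
    obtain ⟨t', rfl⟩ := e.symm.surjective t
    refine ⟨IsLocalization.mk' _ a' (⟨t', ht⟩ : (p.comap e.symm.toRingHom).primeCompl), ?_⟩
    rw [Localization.localRingHom_mk']
    rfl
  · have := Groth.Agent.PruferLib.finite_maximalSpectrum _ K _ hA
    refine Finite.of_injective (fun m : MaximalSpectrum R' ↦ (⟨m.asIdeal.comap e.symm.toRingHom,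
      have := m.isMaximal; Ideal.comap_isMaximal_of_surjective _ e.symm.surjective⟩ :
        MaximalSpectrum ↥(f.range ⊓ K.toSubring))) fun a b h ↦ MaximalSpectrum.ext ?_
    exact Ideal.comap_injective_of_surjective _ e.symm.surjective
      (congrArg MaximalSpectrum.asIdeal h)
  · rw [ringKrullDim_eq_of_ringEquiv e]
    exact Groth.Agent.PruferLib.ringKrullDim_lt_top _ _ _ hA

end Groth.Agent.S14730
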