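import Groth.Statements.S14731
import Groth.Agent.GenSmoothLib.Alg

set_option autoImplicit false
universe u
open ValPrufer

namespace Groth.Agent.S14731

/-- In characteristic zero, every field K generated as a field by a finite set is the fraction field of
a subring A of K of finite type and smooth over the integers. -/
theorem result
    (K : Type u) [Field K] [CharZero K] (s : Finset K)
    (hs : Subfield.closure (↑s : Set K) = ⊤) :
    ∃ A : Subring K, Algebra.FiniteType ℤ A ∧ Algebra.Smooth ℤ A ∧ IsFractionRing A K := by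
  classical
  let B : Subring K := Subring.closure (↑s : Set K)
  have hft : Algebra.FiniteType ℤ B := by
    have e : (Algebra.adjoin ℤ (↑s : Set K)).toSubring = B := by
      rw [Algebra.adjoin_int]; rfl
    have h1 : Algebra.FiniteType ℤ (Algebra.adjoin ℤ (↑s : Set K)) :=
      ⟨(Subalgebra.fg_top _).2 ⟨s, rfl⟩⟩
    let φ : Algebra.adjoin ℤ (↑s : Set K) →ₐ[ℤ] B :=
      ((Algebra.adjoin ℤ (↑s : Set K)).val.toRingHom.codRestrict B fun x => e.le x.2).toIntAlgHom
    exact h1.of_surjective φ fun x => ⟨⟨x.1, e.ge x.2⟩, rfl⟩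
  haveI hfr : IsFractionRing B K := by
    refine IsFractionRing.of_field B K fun z => ?_
    have hz : z ∈ Subfield.closure (↑s : Set K) := by rw [hs]; trivial
    obtain ⟨a, ha, b, hb, hab⟩ := Subfield.mem_closure_iff.1 hz
    exact ⟨⟨a, ha⟩, ⟨b, hb⟩, hab.symm⟩
  haveI : Algebra.FinitePresentation ℤ B := Algebra.FinitePresentation.of_finiteType.1 hft
  haveI : IsScalarTower ℤ B K := .of_algebraMap_eq fun x => by simp
  haveI : Algebra.EssFiniteType ℤ K :=
    haveI : Algebra.EssFiniteType B K := .of_isLocalization K (nonZeroDivisors B)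
    Algebra.EssFiniteType.comp ℤ B K
  haveI : Algebra.EssFiniteType ℚ K := Algebra.EssFiniteType.of_comp ℤ ℚ K
  obtain ⟨g, hg, hsm⟩ := GenSmoothLib.exists_smooth_away ℤ B ℚ K
  have hgK : IsUnit (algebraMap B K g) :=
    isUnit_iff_ne_zero.2 ((map_ne_zero_iff _ (IsFractionRing.injective B K)).2 hg)
  let ψ : Localization.Away g →+* K := IsLocalization.Away.lift g hgK
  have hψ : ∀ b, ψ (algebraMap B _ b) = algebraMap B K b := IsLocalization.Away.lift_eq g hgK
  have hψinj : Function.Injective ψ := by
    rw [injective_iff_map_eq_zero]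
    intro q hq
    obtain ⟨r, t, rfl⟩ := IsLocalization.exists_mk'_eq (Submonoid.powers g) q
    have h1 : algebraMap B K r = 0 := by
      rw [← hψ, ← IsLocalization.mk'_spec (Localization.Away g) r t, map_mul, hq, zero_mul]
    rw [(map_eq_zero_iff _ (IsFractionRing.injective B K)).1 h1, IsLocalization.mk'_zero]
  let e : Localization.Away g ≃+* ψ.range := RingEquiv.ofBijective ψ.rangeRestrict
    ⟨fun x y h => hψinj (congrArg Subtype.val h), ψ.rangeRestrict_surjective⟩
  let eA : Localization.Away g ≃ₐ[ℤ] ψ.range := AlgEquiv.ofRingEquiv (f := e) (fun x => by simp)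
  refine ⟨ψ.range, Algebra.FiniteType.equiv (inferInstance : Algebra.FiniteType ℤ (Localization.Away g)) eA,
    Algebra.Smooth.of_equiv eA, IsFractionRing.of_field _ K fun z => ?_⟩
  obtain ⟨x, y, hy, hxy⟩ := IsFractionRing.div_surjective (A := B) z
  exact ⟨⟨algebraMap B K x, _, hψ x⟩, ⟨algebraMap B K y, _, hψ y⟩, hxy.symm⟩

end Groth.Agent.S14731
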