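import Groth.Statements.S14732
import Groth.Agent.GenSmoothLib.Alg

set_option autoImplicit false
universe u
open ValPrufer

namespace Groth.Agent.S14732

/-- In characteristic p > 0, a field K that is finitely generated over its prime subfield F (a field
with p elements) is the fraction field of an integral scheme smooth over F; concretely, there is an
F-subalgebra A of K, of finite type and smooth over F, whose fraction field is K. -/
theorem result
    (K : Type u) [Field K] (p : ℕ) [Fact p.Prime] [CharP K p] (s : Finset K)
    (hs : Subfield.closure (↑s : Set K) = ⊤) :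
    ∃ A : Subalgebra (⊥ : Subfield K) K, Algebra.FiniteType (⊥ : Subfield K) A ∧
      Algebra.Smooth (⊥ : Subfield K) A ∧ IsFractionRing A K := by
  classical
  let F : Subfield K := ⊥
  let B : Subalgebra F K := Algebra.adjoin F (↑s : Set K)
  haveI hft : Algebra.FiniteType F B := ⟨(Subalgebra.fg_top _).2 ⟨s, rfl⟩⟩
  haveI hfr : IsFractionRing B K := by
    refine IsFractionRing.of_field B K fun z => ?_
    have hz : z ∈ Subfield.closure (↑s : Set K) := by rw [hs]; trivial
    obtain ⟨a, ha, b, hb, hab⟩ := Subfield.mem_closure_iff.1 hz
    have hle : Subring.closure (↑s : Set K) ≤ B.toSubring := Subring.closure_le.2 Algebra.subset_adjoin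
    exact ⟨⟨a, hle ha⟩, ⟨b, hle hb⟩, hab.symm⟩
  haveI : Algebra.FinitePresentation F B := Algebra.FinitePresentation.of_finiteType.1 hft
  haveI : Finite F := by
    letI := Subfield.fintypeBot K p
    exact Finite.of_fintype _
  haveI : Algebra.EssFiniteType F K :=
    haveI : Algebra.EssFiniteType B K := .of_isLocalization K (nonZeroDivisors B)
    Algebra.EssFiniteType.comp F B K
  obtain ⟨g, hg, hsm⟩ := GenSmoothLib.exists_smooth_away F B F K
  have hgK : IsUnit (algebraMap B K g) :=
    isUnit_iff_ne_zero.2 ((map_ne_zero_iff _ (IsFractionRing.injective B K)).2 hg)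
  let ψ : Localization.Away g →ₐ[F] K :=
    { (IsLocalization.Away.lift g hgK : Localization.Away g →+* K) with
      commutes' := fun x => by
        show IsLocalization.Away.lift g hgK (algebraMap F _ x) = _
        rw [IsScalarTower.algebraMap_apply F B (Localization.Away g), IsLocalization.Away.lift_eq,
          ← IsScalarTower.algebraMap_apply] }
  have hψ : ∀ b, ψ (algebraMap B _ b) = algebraMap B K b := IsLocalization.Away.lift_eq g hgK
  have hψinj : Function.Injective ψ := by
    rw [injective_iff_map_eq_zero]
    intro q hq
    obtain ⟨r, t, rfl⟩ := IsLocalization.exists_mk'_eq (Submonoid.powers g) q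
    have h1 : algebraMap B K r = 0 := by
      rw [← hψ, ← IsLocalization.mk'_spec (Localization.Away g) r t, map_mul, hq, zero_mul]
    rw [(map_eq_zero_iff _ (IsFractionRing.injective B K)).1 h1, IsLocalization.mk'_zero]
  let eA : Localization.Away g ≃ₐ[F] ψ.range := AlgEquiv.ofInjective ψ hψinj
  refine ⟨ψ.range, Algebra.FiniteType.equiv (inferInstance : Algebra.FiniteType F (Localization.Away g)) eA,
    Algebra.Smooth.of_equiv eA, IsFractionRing.of_field _ K fun z => ?_⟩
  obtain ⟨x, y, hy, hxy⟩ := IsFractionRing.div_surjective (A := B) z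
  exact ⟨⟨algebraMap B K x, _, hψ x⟩, ⟨algebraMap B K y, _, hψ y⟩, hxy.symm⟩

end Groth.Agent.S14732
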