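import Groth.Statements.S14737
import Groth.Agent.BLTorsor.Completion
import Mathlib.RingTheory.Spectrum.Prime.RingHom
-- import your own Groth.Agent.* helpers here

set_option autoImplicit false
universe u
open CategoryTheory MonoidalCategory CartesianMonoidalCategory MonObj AlgebraicGeometry
open ValPrufer CoactBr
open scoped TensorProduct

namespace Groth.Agent.S14737

/-- Let R be a regular local ring with fraction field K, r ∈ R, R̂ the r-adic completion of R, and G a
reductive R-group scheme. Assume the Grothendieck–Serre statement for R and G: every G-torsor for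
the fppf topology over Spec R that has a K-point has a section. Then G(R̂[1/r]) = G(R̂) · G(R[1/r]):
every point g of G over R̂[1/r] is the product, in the group of R̂[1/r]-points, of the restriction
of an R̂-point g₂ and the restriction of an R[1/r]-point g₁; the product is written through the pair
morphism h = (g₂, g₁) into G ×_R G followed by the multiplication of G. (The published statement is
the implication from the Grothendieck–Serre conjecture; only its instance for this R and this G
enters the proof, so that instance is the hypothesis here.) -/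
theorem result (R : Type u) [CommRing R] [IsRegularLocalRing R] (r : R)
    (G : Over (Spec (CommRingCat.of R))) [GrpObj G] (hG : Red.IsReductive G)
    (hGS : ∀ (X : Over (Spec (CommRingCat.of R))) (a : AlgGrp.Action G X),
      NonAbH1.IsTorsorFor Scheme.fppfPrecoverage a →
      NonAbH1.HasSectionOver X (Spec.map (CommRingCat.ofHom (algebraMap R (FractionRing R)))) →
      NonAbH1.HasSectionOver X (𝟙 (Spec (CommRingCat.of R))))
    (g : Spec (CommRingCat.of (Localization.Away
            (algebraMap R (AdicCompletion (Ideal.span {r}) R) r))) ⟶ G.left)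
    (hg : g ≫ G.hom = Spec.map (CommRingCat.ofHom (algebraMap R (Localization.Away
            (algebraMap R (AdicCompletion (Ideal.span {r}) R) r))))) :
    ∃ (g₁ : Spec (CommRingCat.of (Localization.Away r)) ⟶ G.left)
      (g₂ : Spec (CommRingCat.of (AdicCompletion (Ideal.span {r}) R)) ⟶ G.left)
      (h : Spec (CommRingCat.of (Localization.Away
            (algebraMap R (AdicCompletion (Ideal.span {r}) R) r))) ⟶ (G ⊗ G).left),
      g₁ ≫ G.hom = Spec.map (CommRingCat.ofHom (algebraMap R (Localization.Away r))) ∧
      g₂ ≫ G.hom = Spec.map (CommRingCat.ofHom (algebraMap R (AdicCompletion (Ideal.span {r}) R))) ∧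
      h ≫ (fst G G).left = Spec.map (CommRingCat.ofHom (algebraMap (AdicCompletion (Ideal.span {r}) R)
                (Localization.Away (algebraMap R (AdicCompletion (Ideal.span {r}) R) r)))) ≫ g₂ ∧
      h ≫ (snd G G).left = Spec.map (CommRingCat.ofHom (Localization.awayMap
                (algebraMap R (AdicCompletion (Ideal.span {r}) R)) r)) ≫ g₁ ∧
      g = h ≫ (μ[G]).left := by
  by_cases hr : r = 0
  · subst hr
    haveI : Subsingleton (Localization.Away (algebraMap R (AdicCompletion (Ideal.span {(0 : R)}) R) 0)) :=
      IsLocalization.subsingleton (M := Submonoid.powers (algebraMap R (AdicCompletion (Ideal.span {(0 : R)}) R) 0))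
        ⟨1, by simp⟩
    haveI : IsEmpty (Spec (CommRingCat.of (Localization.Away (algebraMap R (AdicCompletion (Ideal.span {(0 : R)}) R) 0)))) :=
      inferInstanceAs (IsEmpty (PrimeSpectrum _))
    let e1 : Spec (CommRingCat.of (Localization.Away (0 : R))) ⟶ G.left :=
      Spec.map (CommRingCat.ofHom (algebraMap R (Localization.Away (0 : R)))) ≫ η[G].left
    let e2 : Spec (CommRingCat.of (AdicCompletion (Ideal.span {(0 : R)}) R)) ⟶ G.left :=
      Spec.map (CommRingCat.ofHom (algebraMap R (AdicCompletion (Ideal.span {(0 : R)}) R))) ≫ η[G].left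
    have hη : η[G].left ≫ G.hom = 𝟙 _ := Over.w η[G]
    refine ⟨e1, e2, Spec.map (CommRingCat.ofHom (algebraMap R _)) ≫ (lift η[G] η[G]).left, ?_, ?_,
      isInitialOfIsEmpty.hom_ext _ _, isInitialOfIsEmpty.hom_ext _ _, isInitialOfIsEmpty.hom_ext _ _⟩
    · simp only [e1, Category.assoc, hη]; exact Category.comp_id _
    · simp only [e2, Category.assoc, hη]; exact Category.comp_id _
  haveI := Groth.Agent.CAlgH3.isDomain_of_isRegularLocalRing R
  set P := AdicCompletion (Ideal.span {r}) R
  have hpair : EtGlue.IsGlueingPair R P r :=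
    Groth.Agent.BLTorsor.isGlueingPair_completion (mem_nonZeroDivisors_of_ne_zero hr)
  haveI : IsIso (pt (Groth.Agent.BLTorsor.overlapHom r P)) :=
    Groth.Agent.BLTorsor.isIso_pt _ (Groth.Agent.BLTorsor.bijective_overlapHom r P)
  let g0 : sp R (Localization.Away (algebraMap R P r)) ⟶ G := Over.homMk g hg
  have hcov : ∀ p : PrimeSpectrum R,
      p ∈ Set.range (PrimeSpectrum.comap (algebraMap R (Localization.Away r))) ∨
        p ∈ Set.range (PrimeSpectrum.comap (algebraMap R P)) := fun p => by
    by_cases hp : r ∈ p.asIdeal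
    · refine Or.inr ?_
      obtain ⟨q, hq⟩ : p ∈ Set.range (PrimeSpectrum.comap (Ideal.Quotient.mk (Ideal.span {r} ^ 1))) := by
        rw [_root_.range_comap_of_surjective _ _ Ideal.Quotient.mk_surjective, Ideal.mk_ker,
          PrimeSpectrum.mem_zeroLocus, SetLike.coe_subset_coe, pow_one, Ideal.span_singleton_le_iff_mem]
        exact hp
      refine ⟨PrimeSpectrum.comap (AdicCompletion.evalₐ (Ideal.span {r}) 1).toRingHom q, ?_⟩
      rw [← hq, ← PrimeSpectrum.comap_comp_apply]
      congr 2
    · refine Or.inl ?_
      rw [PrimeSpectrum.localization_away_comap_range (Localization.Away r) r]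
      exact hp
  obtain ⟨x₁, x₂, hx⟩ := Groth.Agent.BLTorsor.exists_factor hpair hcov hG.1 hG.2.1
    (fun X a ha ⟨t⟩ => by
      let φ : Localization.Away r →ₐ[R] FractionRing R :=
        IsLocalization.liftAlgHom (M := Submonoid.powers r) (f := Algebra.ofId R (FractionRing R)) (by
          rintro ⟨_, n, rfl⟩
          simp only [Algebra.ofId_apply, map_pow]
          exact (IsUnit.mk0 _ (by simpa using hr)).pow n)
      obtain ⟨s, hs⟩ := hGS X a ha ⟨(pt φ ≫ t).left, Over.w (pt φ ≫ t)⟩
      exact ⟨Over.homMk s hs⟩)
    (inv (pt (Groth.Agent.BLTorsor.overlapHom r P)) ≫ g0)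
  have hU : pt (Groth.Agent.BLTorsor.overlapHom r P) ≫ Groth.Agent.BLTorsor.wU P r =
      pt (Groth.Agent.BLTorsor.awayAlgHom r P) := by
    rw [← pt_comp, Groth.Agent.BLTorsor.overlapHom, Algebra.TensorProduct.lift_comp_includeRight']
  have hV : pt (Groth.Agent.BLTorsor.overlapHom r P) ≫ Groth.Agent.BLTorsor.wV P r =
      pt (IsScalarTower.toAlgHom R P (Localization.Away (algebraMap R P r))) := by
    rw [← pt_comp, Groth.Agent.BLTorsor.overlapHom, Algebra.TensorProduct.lift_comp_includeLeft]
  have hg0 := congrArg (pt (Groth.Agent.BLTorsor.overlapHom r P) ≫ ·) hx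
  simp only [IsIso.hom_inv_id_assoc, MonObj.comp_mul, reassoc_of% hU, reassoc_of% hV] at hg0
  refine ⟨x₁.left, x₂.left, (lift (pt (IsScalarTower.toAlgHom R P (Localization.Away (algebraMap R P r))) ≫ x₂)
    (pt (Groth.Agent.BLTorsor.awayAlgHom r P) ≫ x₁)).left, Over.w x₁, Over.w x₂, ?_, ?_, ?_⟩
  · exact congrArg (fun z => z.left) (lift_fst (pt (IsScalarTower.toAlgHom R P (Localization.Away (algebraMap R P r))) ≫ x₂)
      (pt (Groth.Agent.BLTorsor.awayAlgHom r P) ≫ x₁))
  · exact congrArg (fun z => z.left) (lift_snd (pt (IsScalarTower.toAlgHom R P (Localization.Away (algebraMap R P r))) ≫ x₂)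
      (pt (Groth.Agent.BLTorsor.awayAlgHom r P) ≫ x₁))
  · exact congrArg (fun z => z.left) (hg0.trans (Hom.mul_def _ _))

end Groth.Agent.S14737
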