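import Groth.Statements.S14738
import Groth.Agent.PruferLib.Semilocal

set_option autoImplicit false
universe u
open ValPrufer

namespace Groth.Agent.S14738

/-- Let R be a semilocal Prüfer domain (an integral domain with finitely many maximal ideals whose
localisations at primes are valuation rings) of finite Krull dimension, and m a maximal ideal of R.
Then there is a ∈ R with V(a) = {m}, i.e. m is the only prime ideal containing a, and there is b ∉ m
such that R[1/b] is the localisation R_m (every element outside m becomes invertible after inverting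
b); consequently the spectra of the local rings R_m form a Zariski open covering of Spec R. (The
published remark assumes positive Krull dimension to construct a; for R a field the assertions hold
with a = 0 and b = 1. It also takes b to be the product of the elements a_n chosen in the same way
for the other maximal ideals n; that choice fails as soon as a non-maximal prime lies in another
maximal ideal but not in m, e.g. for the intersection of two independent rank-two valuation rings of
a field, so this row asserts only that some such b exists.) -/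
theorem result
    (R : Type u) [CommRing R] [IsDomain R]
    (hR : ∀ (p : Ideal R) [p.IsPrime], ValuationRing (Localization.AtPrime p))
    (hfin : Finite (MaximalSpectrum R)) (hdim : ringKrullDim R < ⊤)
    (m : Ideal R) [m.IsMaximal] :
    (∃ a : R, ∀ (p : Ideal R), p.IsPrime → (a ∈ p ↔ p = m)) ∧
      ∃ b : R, b ∉ m ∧ IsLocalization.AtPrime (Localization.Away b) m := by
  have := Groth.Agent.PruferLib.finite_primeSpectrum hR hfin hdim
  classical
  let _ : Fintype (PrimeSpectrum R) := Fintype.ofFinite _
  constructor
  · have hnot : ¬ ((m : Set R) ⊆ ⋃ P ∈ ((Finset.univ.filter fun P : PrimeSpectrum R ↦ P.asIdeal ≠ m) :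
        Set (PrimeSpectrum R)), (P.asIdeal : Set R)) := by
      rw [Ideal.subset_union_prime ⟨⊥, Ideal.isPrime_bot⟩ ⟨⊥, Ideal.isPrime_bot⟩
        (fun P _ _ _ ↦ P.isPrime)]
      rintro ⟨P, hP, hle⟩
      simp only [Finset.mem_filter, Finset.mem_univ, true_and] at hP
      exact hP (((inferInstance : m.IsMaximal).eq_of_le P.isPrime.ne_top hle).symm)
    obtain ⟨a, ham, ha⟩ := Set.not_subset.mp hnot
    refine ⟨a, fun p hp ↦ ⟨fun hap ↦ ?_, fun h ↦ h ▸ ham⟩⟩
    by_contra hne
    exact ha (Set.mem_biUnion (x := (⟨p, hp⟩ : PrimeSpectrum R))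
      (Finset.mem_filter.mpr ⟨Finset.mem_univ _, hne⟩) hap)
  · have hch : ∀ P : PrimeSpectrum R, ∃ x : R, x ∉ m ∧ (¬ P.asIdeal ≤ m → x ∈ P.asIdeal) := by
      intro P
      by_cases h : P.asIdeal ≤ m
      · exact ⟨1, (Ideal.ne_top_iff_one m).mp (inferInstance : m.IsPrime).ne_top, fun h' ↦ absurd h h'⟩
      · obtain ⟨x, hx, hxm⟩ := SetLike.not_le_iff_exists.mp h
        exact ⟨x, hxm, fun _ ↦ hx⟩
    choose x hxm hxP using hch
    have hb : ∏ P, x P ∉ m := fun h ↦ by
      obtain ⟨P, -, hP⟩ := (inferInstance : m.IsPrime).prod_mem_iff.mp h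
      exact hxm P hP
    refine ⟨∏ P, x P, hb, ?_⟩
    refine IsLocalization.of_le (Submonoid.powers (∏ P, x P)) m.primeCompl ?_ ?_
    · rintro _ ⟨k, rfl⟩ h
      exact hb ((inferInstance : m.IsPrime).mem_of_pow_mem k h)
    · intro r hr
      by_contra hu
      obtain ⟨q, hq, hrq⟩ := exists_max_ideal_of_mem_nonunits hu
      have := hq.isPrime
      let P : PrimeSpectrum R := ⟨q.comap (algebraMap R _), Ideal.comap_isPrime _ _⟩
      by_cases h : P.asIdeal ≤ m
      · exact hr (h hrq)
      · have hbP : ∏ P, x P ∈ P.asIdeal :=
          Ideal.prod_mem P.asIdeal (Finset.mem_univ P) (hxP P h)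
        exact hq.ne_top (Ideal.eq_top_of_isUnit_mem _ hbP
          (IsLocalization.Away.algebraMap_isUnit (∏ P, x P)))

end Groth.Agent.S14738
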