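import Groth.Statements.S1474
import Groth.Agent.FlatMor12.FibreProp
import Groth.Agent.CAlgH.RegularFieldExt
-- import your own Groth.Agent.* helpers here

set_option autoImplicit false
set_option maxHeartbeats 1000000
set_option backward.isDefEq.respectTransparency false
universe u
open FlatMor

namespace Groth.Agent.S1474

open AlgebraicGeometry CategoryTheory Limits in
/-- An affine open of a scheme over a field, as a scheme over the field. -/
theorem fromSpec_comm {k : CommRingCat.{u}} {F : Scheme.{u}} (π : F ⟶ Spec k) {W : F.Opens} (hW : IsAffineOpen W) :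
    hW.fromSpec ≫ π = Spec.map ((Scheme.ΓSpecIso k).inv ≫ π.appTop ≫ F.presheaf.map (homOfLE le_top).op) ≫ 𝟙 _ := by
  rw [Category.comp_id, Spec.map_comp, Spec.map_comp, ← hW.fromSpec_toSpecΓ, Category.assoc, Category.assoc,
    ← Scheme.toSpecΓ_naturality_assoc, toSpecΓ_SpecMap_ΓSpecIso_inv, Category.comp_id]

open AlgebraicGeometry CategoryTheory Limits in
/-- (2) ⇔ (3): let f : X → Y have locally Noetherian fibres. Then the ring maps O_Y(V) → O_X(U) are
regular for all affine opens U ⊆ f⁻¹(V) if and only if f is flat and every fibre X_y is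
geometrically regular over κ(y), i.e. every affine open of X_y has Noetherian, geometrically regular
coordinate ring over κ(y). -/
theorem result {X Y : Scheme.{u}} (f : X ⟶ Y) (hN : ∀ y : Y, IsLocallyNoetherian (f.fiber y)) :
    (∀ (U : X.Opens) (V : Y.Opens) (hU : IsAffineOpen U) (hV : IsAffineOpen V) (hUV : U ≤ f ⁻¹ᵁ V),
        letI := (f.appLE V U hUV).hom.toAlgebra
        CAlg.IsRegularHom Γ(Y, V) Γ(X, U)) ↔
      Flat f ∧ ∀ (y : Y) (W : (f.fiber y).Opens), IsAffineOpen W →
        letI : Algebra ↑(Y.residueField y) ↑Γ(f.fiber y, W) := ((Scheme.ΓSpecIso (Y.residueField y)).inv ≫ (f.fiberToSpecResidueField y).appTop ≫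
          (f.fiber y).presheaf.map (homOfLE le_top).op).hom.toAlgebra
        IsNoetherianRing ↑Γ(f.fiber y, W) ∧ CAlg.IsGeometricallyRegular ↑(Y.residueField y) ↑Γ(f.fiber y, W) := by
  open _root_.Groth.Agent.FlatMor12 in
  have key : (∀ (U : X.Opens) (V : Y.Opens) (hU : IsAffineOpen U) (hV : IsAffineOpen V) (hUV : U ≤ f ⁻¹ᵁ V),
        letI := (f.appLE V U hUV).hom.toAlgebra
        CAlg.IsRegularHom Γ(Y, V) Γ(X, U)) ↔ FibreProp.Good FibreProp.regularProp f :=
    ⟨fun h => (FibreProp.affineLocally_iff _ f).1 fun U V hU hV e =>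
      letI := (f.appLE V U e).hom.toAlgebra
      (FibreProp.homP_regular_iff _ _).2 (h U V hU hV e),
    fun h U V hU hV e =>
      letI := (f.appLE V U e).hom.toAlgebra
      (FibreProp.homP_regular_iff _ _).1 ((FibreProp.affineLocally_iff _ f).2 h U V hU hV e)⟩
  rw [key]
  constructor
  · rintro ⟨hflat, hG⟩
    refine ⟨hflat, fun y W hW => ?_⟩
    let k : Type u := Y.residueField y
    letI algW : Algebra k ↑Γ(f.fiber y, W) := ((Scheme.ΓSpecIso (Y.residueField y)).inv ≫
      (f.fiberToSpecResidueField y).appTop ≫ (f.fiber y).presheaf.map (homOfLE le_top).op).hom.toAlgebra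
    haveI := hN y
    refine ⟨IsLocallyNoetherian.component_noetherian ⟨W, hW⟩, fun k' _ _ hfin => ?_⟩
    haveI : Module.Finite k k' := hfin
    let ψ : Y.residueField y ⟶ CommRingCat.of k' := CommRingCat.ofHom (algebraMap k k')
    have hSP := hG k' (Spec.map ψ ≫ Y.fromSpecResidueField y)
      ⟨y, ψ, RingHom.essFiniteType_algebraMap.2 inferInstance, rfl⟩
    haveI : IsOpenImmersion hW.fromSpec := hW.isOpenImmersion_fromSpec
    obtain ⟨j, hj, -⟩ := _root_.Groth.Agent.FlatMor12.FibreProp.exists_piece (f.fiberToSpecResidueField y)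
      k Γ(f.fiber y, W) k' hW.fromSpec (𝟙 _) (fromSpec_comm _ hW) (Spec.map ψ) (Category.comp_id _).symm
    have h1 := _root_.Groth.Agent.FlatMor12.FibreProp.LocalProp.of_iso _
      (pullbackLeftPullbackSndIso f (Y.fromSpecResidueField y) (Spec.map ψ)) hSP
    haveI : IsRegularRing (TensorProduct k Γ(f.fiber y, W) k') :=
      (_root_.Groth.Agent.FlatMor12.FibreProp.regularProp.spec_iff _).1
        (_root_.Groth.Agent.FlatMor12.FibreProp.regularProp.of_openImmersion j h1)
    exact IsRegularRing.of_ringEquiv (Algebra.TensorProduct.comm k Γ(f.fiber y, W) k').toRingEquiv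
  · rintro ⟨hflat, hGR⟩
    refine ⟨hflat, fun K _ g hg => ?_⟩
    obtain ⟨y, ψ, hψ, rfl⟩ := hg
    refine _root_.Groth.Agent.FlatMor12.FibreProp.LocalProp.of_iso _
      (pullbackLeftPullbackSndIso f (Y.fromSpecResidueField y) (Spec.map ψ)).symm ?_
    refine _root_.Groth.Agent.FlatMor12.FibreProp.regularProp.of_cover fun z => ?_
    let k : Type u := Y.residueField y
    letI : Algebra k K := ψ.hom.toAlgebra
    haveI : Algebra.EssFiniteType k K := RingHom.essFiniteType_algebraMap.1 hψ
    obtain ⟨W, hW, hwW, -⟩ := exists_isAffineOpen_mem_and_subset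
      (x := pullback.fst (f.fiberToSpecResidueField y) (Spec.map ψ) z) (U := ⊤) trivial
    letI algW : Algebra k ↑Γ(f.fiber y, W) := ((Scheme.ΓSpecIso (Y.residueField y)).inv ≫
      (f.fiberToSpecResidueField y).appTop ≫ (f.fiber y).presheaf.map (homOfLE le_top).op).hom.toAlgebra
    haveI : IsOpenImmersion hW.fromSpec := hW.isOpenImmersion_fromSpec
    obtain ⟨j, hj, hrange⟩ := _root_.Groth.Agent.FlatMor12.FibreProp.exists_piece (f.fiberToSpecResidueField y)
      k Γ(f.fiber y, W) K hW.fromSpec (𝟙 _) (fromSpec_comm _ hW) (Spec.map ψ) (Category.comp_id _).symm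
    refine ⟨_, j, hj, hrange z (by rw [hW.range_fromSpec]; exact hwW),
      (_root_.Groth.Agent.FlatMor12.FibreProp.regularProp.spec_iff _).2 ?_⟩
    haveI := _root_.Groth.Agent.CAlgH.isRegularRing_fg_ext k K Γ(f.fiber y, W) (hGR y W hW).2
    exact IsRegularRing.of_ringEquiv (Algebra.TensorProduct.comm k K Γ(f.fiber y, W)).toRingEquiv

end Groth.Agent.S1474
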