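import Groth.Statements.S14742
import Groth.Agent.PruferLib.CoherentPoly

set_option autoImplicit false
universe u
open ValPrufer

namespace Groth.Agent.S14742

/-- Let R be a Prüfer domain (an integral domain whose localisations at primes are valuation rings) and
A a finitely presented R-algebra. Then A is a coherent ring: every finitely generated ideal I of A
is finitely presented as an A-module. -/
theorem result
    (R : Type u) [CommRing R] [IsDomain R]
    (hR : ∀ (p : Ideal R) [p.IsPrime], ValuationRing (Localization.AtPrime p))
    (A : Type u) [CommRing A] [Algebra R A] [Algebra.FinitePresentation R A]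
    (I : Ideal A) (hI : I.FG) : Module.FinitePresentation A I := by
  obtain ⟨n, π, hπ, hker⟩ := Algebra.FinitePresentation.out (R := R) (A := A)
  let S := MvPolynomial (Fin n) R
  letI : Algebra S A := π.toRingHom.toAlgebra
  haveI : Module.Finite S A := Module.Finite.of_surjective (Algebra.linearMap S A) hπ
  haveI : Module.FinitePresentation S A :=
    Module.finitePresentation_of_surjective (Algebra.linearMap S A) hπ hker
  haveI : Module.Finite A I := Module.Finite.iff_fg.2 hI
  haveI : Module.Finite S I := Module.Finite.trans A I
  haveI : Module.FinitePresentation S I :=
    PruferLib.FlatFP.finitePresentation_submodule hR (I.restrictScalars S)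
      ((Module.Finite.iff_fg (N := I.restrictScalars S)).1 (inferInstanceAs (Module.Finite S I)))
  obtain ⟨m, f, hf⟩ := Module.Finite.exists_fin' A I
  refine Module.finitePresentation_of_surjective f hf ?_
  have hk := Module.FinitePresentation.fg_ker (f.restrictScalars S) hf
  rw [LinearMap.ker_restrictScalars] at hk
  obtain ⟨t, ht⟩ := hk
  refine ⟨t, le_antisymm (Submodule.span_le.2 fun x hx => ?_) fun x hx => ?_⟩
  · have : x ∈ (LinearMap.ker f).restrictScalars S := ht ▸ Submodule.subset_span hx
    exact this
  · have : x ∈ Submodule.span S (t : Set (Fin m → A)) := ht.symm ▸ hx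
    exact Submodule.span_le_restrictScalars S A (t : Set (Fin m → A)) this

end Groth.Agent.S14742
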