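import Groth.Statements.S14743
import Groth.Agent.AlgGrpLib.SubgroupCalc

set_option autoImplicit false
universe u
open CategoryTheory MonoidalCategory CartesianMonoidalCategory MonObj GrpObj AlgebraicGeometry
open AlgGrp

namespace Groth.Agent.S14743
open Groth.Agent.AlgGrpLib

/-- Over an algebraically closed field k let L, G, B be commutative k-group schemes, i : L → G and π : G
→ B homomorphisms with i the kernel of π, and suppose that every k-morphism B × B → L is constant
(factors through a k-point of L). If π admits a section which is a morphism of k-schemes, then it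
admits a section which is a homomorphism, so the extension splits. (The published statement is for
algebraic groups, that is, of finite type over k; finiteness plays no role and is not assumed here.) -/
theorem result (k : Type u) [Field k] [IsAlgClosed k]
    (L G B : Over (Spec (CommRingCat.of k))) [GrpObj L] [GrpObj G] [GrpObj B]
    [IsCommMonObj L] [IsCommMonObj G] [IsCommMonObj B]
    (i : L ⟶ G) [IsMonHom i] (π : G ⟶ B) [IsMonHom π] (hker : AlgGrp.IsKernel i π)
    (hconst : ∀ f : B ⊗ B ⟶ L, ∃ l : 𝟙_ (Over (Spec (CommRingCat.of k))) ⟶ L, f = toUnit (B ⊗ B) ≫ l)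
    (s : B ⟶ G) (hs : s ≫ π = 𝟙 B) :
    ∃ s' : B ⟶ G, IsMonHom s' ∧ s' ≫ π = 𝟙 B := by
  let c : 𝟙_ (Over (Spec (CommRingCat.of k))) ⟶ G := η[B] ≫ s
  have hc : c ≫ π = 1 := by
    simp only [c, Category.assoc, hs, Category.comp_id, one_unit]
  let s' : B ⟶ G := s * (toUnit B ≫ c)⁻¹
  have hs' : s' ≫ π = 𝟙 B := by
    simp only [s', MonObj.mul_comp, GrpObj.inv_comp, hs, Category.assoc, hc, MonObj.comp_one, inv_one, _root_.mul_one]
  have h1 : η[B] ≫ s' = 1 := by
    simp only [s', MonObj.comp_mul, GrpObj.comp_inv, ← Category.assoc, toUnit_unique (η[B] ≫ toUnit B) (𝟙 _),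
      Category.id_comp, c]
    exact mul_inv_cancel _
  let d : B ⊗ B ⟶ G := (fst B B ≫ s') * (snd B B ≫ s') * ((fst B B * snd B B) ≫ s')⁻¹
  have hd : d ≫ π = 1 := by
    simp only [d, MonObj.mul_comp, GrpObj.inv_comp, Category.assoc, hs', Category.comp_id, mul_inv_cancel]
  obtain ⟨n, hn⟩ := exists_lift_kernel hker hd
  obtain ⟨l, hl⟩ := hconst n
  have hl1 : l ≫ i = 1 := by
    have h0 : lift η[B] η[B] ≫ d = 1 := by
      simp only [d, MonObj.comp_mul, GrpObj.comp_inv, ← Category.assoc, lift_fst, lift_snd]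
      rw [h1, one_unit (Q := B), _root_.mul_one (1 : 𝟙_ _ ⟶ B), ← one_unit (Q := B), h1, inv_one, _root_.mul_one,
        _root_.mul_one]
    rw [← hn, hl, ← Category.assoc, ← Category.assoc, toUnit_unique (lift η[B] η[B] ≫ toUnit _) (𝟙 _),
      Category.id_comp] at h0
    exact h0
  have hd1 : d = 1 := by rw [← hn, hl, Category.assoc, hl1, MonObj.comp_one]
  refine ⟨s', ⟨h1.trans one_unit.symm, ?_⟩, hs'⟩
  simp only [d, mul_inv_eq_one] at hd1
  rw [Hom.mul_def, Hom.mul_def, lift_fst_snd, Category.id_comp, ← lift_map, lift_fst_snd, Category.id_comp] at hd1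
  exact hd1.symm

end Groth.Agent.S14743
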