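import Groth.Statements.S14744
import Groth.Agent.SGA7Aut29.AntiPow
import Groth.Agent.S19702
-- import your own Groth.Agent.* helpers here

set_option autoImplicit false
set_option linter.style.haveILetI false
set_option backward.isDefEq.respectTransparency.types false
universe u
open CategoryTheory MonoidalCategory CartesianMonoidalCategory MonObj GrpObj AlgebraicGeometry
open AlgGrp

namespace Groth.Agent.S14744

/-- Over an algebraically closed field k, a smooth connected k-group scheme of finite type M whose only
global functions are the constants (an anti-affine group variety; the largest anti-affine subgroup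
of any group variety is of this kind) is divisible: for every n ≥ 1 the n-th power map M → M is
surjective. -/
theorem result (k : Type u) [Field k] [IsAlgClosed k]
    (M : Over (Spec (CommRingCat.of k))) [GrpObj M] [Smooth M.hom] [QuasiCompact M.hom] [ConnectedSpace ↥M.left]
    (hM : Function.Bijective ((Scheme.ΓSpecIso (CommRingCat.of k)).inv ≫ M.hom.appTop).hom)
    (n : ℕ) (hn : 0 < n) :
    Surjective ((𝟙 M) ^ n).left := by
  have hM' : Function.Bijective M.hom.appTop := (Function.Bijective.of_comp_iff _
    ((ConcreteCategory.isIso_iff_bijective (Scheme.ΓSpecIso (CommRingCat.of k)).inv).1 inferInstance)).1 hM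
  obtain ⟨-, hcomm⟩ := Groth.Agent.S3293.result k M hM
  exact Groth.Agent.SGA7Aut29.surjective_pow_of_antiAffine M hM' hn

end Groth.Agent.S14744
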