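import Groth.Statements.S14745
import Mathlib.Algebra.Category.ModuleCat.Abelian
import Mathlib.CategoryTheory.Limits.Shapes.Countable
import Mathlib.CategoryTheory.Limits.Types.Pullbacks
import Mathlib.Dynamics.Newton
import Mathlib.Order.CompletePartialOrder
import Mathlib.RingTheory.AdicCompletion.Noetherian
import Mathlib.RingTheory.Etale.Weakly
import Mathlib.RingTheory.Flat.TorsionFree
import Mathlib.RingTheory.Ideal.AssociatedPrime.Localization
import Mathlib.RingTheory.PicardGroup
import Mathlib.RingTheory.PowerSeries.NoZeroDivisors
import Mathlib.RingTheory.PowerSeries.Trunc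
import Mathlib.RingTheory.TotallySplit
import Mathlib.Tactic
import Groth.Agent.CommAlg4.Nilpotent
import Groth.Agent.S14020

set_option linter.all false

set_option autoImplicit false
universe u v w
open CAlg

open CategoryTheory

namespace Groth.Agent.S14745

/-- Let k be a field of characteristic zero, A a commutative k-algebra on which a finite group Γ acts by
k-algebra automorphisms, and I the ideal of A generated by a set of Γ-invariant elements. Then the
Γ-invariants of A map onto the Γ-invariants of A/I: every element of A whose class modulo I is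
Γ-invariant is congruent modulo I to a Γ-invariant element. (The published statement takes A
finitely generated and finitely many invariant generators; neither finiteness is used.) -/
theorem result (k : Type u) [Field k] [CharZero k]
    (A : Type v) [CommRing A] [Algebra k A] (Γ : Type w) [Group Γ] [Finite Γ]
    [MulSemiringAction Γ A] [SMulCommClass Γ k A]
    (S : Set A) (hS : ∀ f ∈ S, ∀ γ : Γ, γ • f = f) (a : A) (ha : ∀ γ : Γ, γ • a - a ∈ Ideal.span S) :
    ∃ b : A, (∀ γ : Γ, γ • b = b) ∧ a - b ∈ Ideal.span S := by
  cases nonempty_fintype Γ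
  refine ⟨(Fintype.card Γ : k)⁻¹ • ∑ γ : Γ, γ • a, fun γ => ?_, ?_⟩
  · rw [smul_comm, Finset.smul_sum]
    congr 1
    exact Fintype.sum_equiv (Equiv.mulLeft γ) _ _ fun x => by simp [mul_smul]
  · have : a - (Fintype.card Γ : k)⁻¹ • ∑ γ : Γ, γ • a = (Fintype.card Γ : k)⁻¹ • ∑ γ : Γ, (a - γ • a) := by
      rw [Finset.sum_sub_distrib, Finset.sum_const, Finset.card_univ, smul_sub, ← Nat.cast_smul_eq_nsmul k, inv_smul_smul₀ (Nat.cast_ne_zero.mpr Fintype.card_ne_zero)]
    rw [this]
    exact Submodule.smul_of_tower_mem _ _ (sum_mem fun γ _ => by simpa using neg_mem (ha γ))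

end Groth.Agent.S14745
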