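import Groth.Statements.S14746
import Groth.Agent.AlgGrpLib.TwistedLang

set_option autoImplicit false
set_option backward.isDefEq.respectTransparency.types false
universe u
open CategoryTheory MonoidalCategory CartesianMonoidalCategory MonObj GrpObj AlgebraicGeometry CategoryTheory.Limits
open AlgGrp

namespace Groth.Agent.S14746

/-- Over an algebraically closed field k let G be a k-group scheme of finite type, i : H → G a smooth
connected affine closed subgroup scheme, and X = G/H the quotient with its G-action, base point o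
and orbit map G → X. Let σ be an endomorphism of G restricting to a surjective endomorphism τ of H
and compatible with an endomorphism φ of X under the orbit map, and suppose σ has only finitely many
fixed k-points. Then the number of fixed k-points of σ equals the number of fixed k-points of τ
times the number of fixed k-points of φ. (The published statement allows any subgroup H and any
restriction τ; for the square roots of unity inside the multiplicative group and the cube map the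
count fails, and the published proof applies the surjectivity of the Lang map h ↦ h⁻¹τ(h) of H, so H
is taken smooth, connected and affine and τ surjective here.) -/
theorem result (k : Type u) [Field k] [IsAlgClosed k]
    (G H : Over (Spec (CommRingCat.of k))) [GrpObj G] [GrpObj H] [QuasiCompact G.hom] [LocallyOfFiniteType G.hom]
    (i : H ⟶ G) [IsMonHom i] [IsClosedImmersion i.left] [Smooth H.hom] [ConnectedSpace ↥H.left] [IsAffine H.left]
    (X : Over (Spec (CommRingCat.of k))) (a : AlgGrp.Action G X) (o : 𝟙_ (Over (Spec (CommRingCat.of k))) ⟶ X)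
    (hX : AGF.IsQuotient i X a o)
    (σ : G ⟶ G) [IsMonHom σ] (τ : H ⟶ H) [IsMonHom τ] (hτ : τ ≫ i = i ≫ σ) (hτs : Surjective τ.left)
    (φ : X ⟶ X) (hφ : a.orbitMap o ≫ φ = σ ≫ a.orbitMap o)
    (hfin : Finite {g : 𝟙_ (Over (Spec (CommRingCat.of k))) ⟶ G // g ≫ σ = g}) :
    Nat.card {g : 𝟙_ (Over (Spec (CommRingCat.of k))) ⟶ G // g ≫ σ = g} =
      Nat.card {h : 𝟙_ (Over (Spec (CommRingCat.of k))) ⟶ H // h ≫ τ = h} *
        Nat.card {x : 𝟙_ (Over (Spec (CommRingCat.of k))) ⟶ X // x ≫ φ = x} := by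
  obtain ⟨hXlft, -, horbs, hcart⟩ := hX
  haveI := hXlft
  haveI := horbs
  haveI : QuasiCompact H.hom := inferInstance
  haveI : IrreducibleSpace H.left := AlgGrpLib.IsogenyProps.irreducibleSpace_of_pt H η[H]
  haveI : Mono i := Over.mono_of_mono_left i
  let π := a.orbitMap o
  let L := AlgGrpLib.TwistedLang.twistAct H τ
  have hsame : ∀ g g' : 𝟙_ (Over (Spec (CommRingCat.of k))) ⟶ G, g ≫ π = g' ≫ π → ∃ h : 𝟙_ (Over (Spec (CommRingCat.of k))) ⟶ H, g' = g * (h ≫ i) := by
    intro g g' e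
    refine ⟨hcart.lift g g' e ≫ snd G H, ?_⟩
    conv_lhs => rw [← hcart.lift_snd g g' e]
    have hm : (G ◁ i) ≫ μ[G] = fst G H * (snd G H ≫ i) := by
      rw [Hom.mul_def]
      congr 1
    refine (congrArg (hcart.lift g g' e ≫ ·) hm).trans ?_
    show hcart.lift g g' e ≫ (fst G H * (snd G H ≫ i)) = _
    rw [MonObj.comp_mul, Category.assoc]
    exact congrArg (· * _) (hcart.lift_fst g g' e)
  have hback : ∀ (g : 𝟙_ (Over (Spec (CommRingCat.of k))) ⟶ G) (h : 𝟙_ (Over (Spec (CommRingCat.of k))) ⟶ H), (g * (h ≫ i)) ≫ π = g ≫ π := by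
    intro g h
    have hm : (G ◁ i) ≫ μ[G] = fst G H * (snd G H ≫ i) := by
      rw [Hom.mul_def]
      congr 1
    have e := congrArg (lift g h ≫ ·) hcart.w
    simp only [lift_fst_assoc] at e
    rw [← Category.assoc, hm, MonObj.comp_mul, lift_fst, lift_snd_assoc] at e
    exact e.symm
  have hlift : ∀ x : 𝟙_ (Over (Spec (CommRingCat.of k))) ⟶ X, ∃ g, g ≫ π = x := fun x =>
    AlgGrpLib.TwistedLang.exists_lift π x (π.left.surjective _)
  have hstab : ∀ (y : 𝟙_ (Over (Spec (CommRingCat.of k))) ⟶ H) (g : 𝟙_ (Over (Spec (CommRingCat.of k))) ⟶ G), g ≫ σ = g * (y ≫ i) →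
      Finite {h : 𝟙_ (Over (Spec (CommRingCat.of k))) ⟶ H // h * y * (h ≫ τ)⁻¹ = y} := by
    intro y g hg
    haveI := hfin
    refine Finite.of_injective (fun h => (⟨g * (h.1 ≫ i) * g⁻¹, ?_⟩ :
      {g : 𝟙_ (Over (Spec (CommRingCat.of k))) ⟶ G // g ≫ σ = g})) ?_
    · have hτh : h.1 ≫ τ = y⁻¹ * h.1 * y := by
        have h2 := h.2
        rw [mul_inv_eq_iff_eq_mul] at h2
        rw [_root_.mul_assoc, h2, inv_mul_cancel_left]
      have e1 : (h.1 ≫ i) ≫ σ = (y ≫ i)⁻¹ * (h.1 ≫ i) * (y ≫ i) := by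
        rw [Category.assoc, ← hτ, ← Category.assoc, hτh, MonObj.mul_comp, MonObj.mul_comp, GrpObj.inv_comp]
      rw [MonObj.mul_comp, MonObj.mul_comp, GrpObj.inv_comp, hg, e1]
      group
    · intro h h' e
      have e' := congrArg Subtype.val e
      exact Subtype.ext ((cancel_mono i).1 (mul_left_cancel (mul_right_cancel e')))
  have hlang : ∀ (y : 𝟙_ (Over (Spec (CommRingCat.of k))) ⟶ H) (g : 𝟙_ (Over (Spec (CommRingCat.of k))) ⟶ G), g ≫ σ = g * (y ≫ i) →
      ∃ h : 𝟙_ (Over (Spec (CommRingCat.of k))) ⟶ H, y = h * (h ≫ τ)⁻¹ := by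
    intro y g hg
    obtain ⟨ho1, hne1⟩ := AlgGrpLib.TwistedLang.isOpen_orbit τ y (hstab y g hg)
    obtain ⟨ho2, hne2⟩ := AlgGrpLib.TwistedLang.isOpen_orbit τ 1 (hstab 1 1 (by rw [MonObj.one_comp, MonObj.one_comp, _root_.mul_one]))
    have hne := nonempty_preirreducible_inter ho1 ho2 hne1 hne2
    obtain ⟨z, hz⟩ := AlgGrpLib.OrbitDim.exists_ratPoint_mem (ho1.inter ho2).isLocallyClosed hne
    obtain ⟨h1, e1⟩ := AlgGrpLib.TwistedLang.exists_lift (L.orbitMap y) z (hz _).1
    obtain ⟨h2, e2⟩ := AlgGrpLib.TwistedLang.exists_lift (L.orbitMap 1) z (hz _).2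
    rw [AlgGrpLib.TwistedLang.pt_orbitMap] at e1 e2
    rw [_root_.mul_one] at e2
    refine ⟨h1⁻¹ * h2, ?_⟩
    rw [MonObj.mul_comp, GrpObj.inv_comp, _root_.mul_inv_rev, _root_.inv_inv]
    have e := e1.trans e2.symm
    calc y = h1⁻¹ * (h1 * y * (h1 ≫ τ)⁻¹) * (h1 ≫ τ) := by group
      _ = _ := by rw [e]; group
  have hdown : ∀ g : {g : 𝟙_ (Over (Spec (CommRingCat.of k))) ⟶ G // g ≫ σ = g}, (g.1 ≫ π) ≫ φ = g.1 ≫ π := fun g => by
    rw [Category.assoc, hφ, ← Category.assoc, g.2]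
  have hup : ∀ x : {x : 𝟙_ (Over (Spec (CommRingCat.of k))) ⟶ X // x ≫ φ = x},
      ∃ g : {g : 𝟙_ (Over (Spec (CommRingCat.of k))) ⟶ G // g ≫ σ = g}, g.1 ≫ π = x.1 := by
    intro x
    obtain ⟨g, hg⟩ := hlift x.1
    obtain ⟨y, hy⟩ := hsame g (g ≫ σ) (by
      rw [Category.assoc, ← hφ, ← Category.assoc, hg]; exact x.2.symm)
    obtain ⟨h, hh⟩ := hlang y g hy
    refine ⟨⟨g * (h ≫ i), ?_⟩, (hback g h).trans hg⟩
    rw [MonObj.mul_comp, Category.assoc, ← hτ, hy, hh, ← Category.assoc, _root_.mul_assoc, ← MonObj.mul_comp,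
      inv_mul_cancel_right]
  choose s hs using hup
  have hmem : ∀ (x : {x : 𝟙_ (Over (Spec (CommRingCat.of k))) ⟶ X // x ≫ φ = x})
      (h : {h : 𝟙_ (Over (Spec (CommRingCat.of k))) ⟶ H // h ≫ τ = h}),
      ((s x).1 * (h.1 ≫ i)) ≫ σ = (s x).1 * (h.1 ≫ i) := fun x h => by
    rw [MonObj.mul_comp, (s x).2, Category.assoc, ← hτ, ← Category.assoc, h.2]
  rw [_root_.mul_comm, ← Nat.card_prod]
  symm
  refine Nat.card_eq_of_bijective (fun p => ⟨(s p.1).1 * (p.2.1 ≫ i), hmem p.1 p.2⟩) ⟨?_, ?_⟩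
  · rintro ⟨x, h⟩ ⟨x', h'⟩ e
    have e' : (s x).1 * (h.1 ≫ i) = (s x').1 * (h'.1 ≫ i) := congrArg Subtype.val e
    have hx : x = x' := Subtype.ext (by
      rw [← hs x, ← hs x', ← hback (s x).1 h.1, e', hback])
    subst hx
    rw [Subtype.ext ((cancel_mono i).1 (mul_left_cancel e'))]
  · intro g
    let x : {x : 𝟙_ (Over (Spec (CommRingCat.of k))) ⟶ X // x ≫ φ = x} := ⟨g.1 ≫ π, hdown g⟩
    obtain ⟨h, hh⟩ := hsame (s x).1 g.1 (hs x)
    have hhτ : h ≫ τ = h := by
      have e := g.2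
      rw [hh, MonObj.mul_comp, (s x).2, Category.assoc, ← hτ, ← Category.assoc] at e
      exact (cancel_mono i).1 (mul_left_cancel e)
    exact ⟨(x, ⟨h, hhτ⟩), Subtype.ext hh.symm⟩

end Groth.Agent.S14746
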