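import Groth.Statements.S1475
import Groth.Agent.FlatMor12.CMBaseChange
import Groth.Agent.FlatMor12.FibreProp
-- import your own Groth.Agent.* helpers here

set_option autoImplicit false
universe u
open FlatMor

namespace Groth.Agent.S1475

open AlgebraicGeometry CategoryTheory Limits in
/-- Let Y' → Y be flat, locally of finite presentation and surjective and f' the base change of f : X →
Y. Then f has locally Noetherian fibres and is normal (affine-locally: flat ring maps with
geometrically normal fibres) if and only if the same holds for f'. -/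
theorem result {X Y X' Y' : Scheme.{u}} (f : X ⟶ Y) (f' : X' ⟶ Y') (g' : X' ⟶ X) (g : Y' ⟶ Y) [Flat g] [LocallyOfFinitePresentation g] [Surjective g]
    (hc : IsPullback g' f' f g) :
    ((∀ y : Y, IsLocallyNoetherian (f.fiber y)) ∧ (∀ (U : X.Opens) (V : Y.Opens) (hU : IsAffineOpen U) (hV : IsAffineOpen V) (hUV : U ≤ f ⁻¹ᵁ V),
        letI := (f.appLE V U hUV).hom.toAlgebra
        EGA4.IsNormalHom Γ(Y, V) Γ(X, U))) ↔
      ((∀ y' : Y', IsLocallyNoetherian (f'.fiber y')) ∧ (∀ (U : X'.Opens) (V : Y'.Opens) (hU : IsAffineOpen U) (hV : IsAffineOpen V) (hUV : U ≤ f' ⁻¹ᵁ V),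
        letI := (f'.appLE V U hUV).hom.toAlgebra
        EGA4.IsNormalHom Γ(Y', V) Γ(X', U))) := by
  open _root_.Groth.Agent.FlatMor12 in
  have key : ∀ {X Y : Scheme.{u}} (f : X ⟶ Y),
      (∀ (U : X.Opens) (V : Y.Opens) (hU : IsAffineOpen U) (hV : IsAffineOpen V) (hUV : U ≤ f ⁻¹ᵁ V),
        letI := (f.appLE V U hUV).hom.toAlgebra
        EGA4.IsNormalHom Γ(Y, V) Γ(X, U)) ↔ FibreProp.Good FibreProp.normalProp f := fun f =>
    ⟨fun h => (FibreProp.affineLocally_iff _ f).1 fun U V hU hV e =>
      letI := (f.appLE V U e).hom.toAlgebra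
      (FibreProp.homP_normal_iff _ _).2 (h U V hU hV e),
    fun h U V hU hV e =>
      letI := (f.appLE V U e).hom.toAlgebra
      (FibreProp.homP_normal_iff _ _).1 ((FibreProp.affineLocally_iff _ f).2 h U V hU hV e)⟩
  rw [key, key]
  haveI : Surjective g' := MorphismProperty.of_isPullback hc.flip ‹Surjective g›
  exact and_congr (_root_.Groth.Agent.FlatMor12.CMBaseChange.noetherian_fibres_iff hc)
    ⟨fun h => h.baseChange hc (_root_.Groth.Agent.FlatMorNoethFib.essFiniteType_residueFieldMap g),
      fun h => h.descend hc⟩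

end Groth.Agent.S1475
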