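import Groth.Statements.S14751
import Groth.Agent.AlgGrpLib.AbelianComplement

set_option autoImplicit false
set_option backward.isDefEq.respectTransparency.types false
universe u
open CategoryTheory CategoryTheory.Limits MonoidalCategory CartesianMonoidalCategory MonObj GrpObj AlgebraicGeometry
open AlgGrp

namespace Groth.Agent.S14751

/-- Over an algebraically closed field k let G be a group variety (smooth connected k-group scheme of
finite type), i : N → G an affine closed subgroup scheme which is the kernel of a flat surjective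
homomorphism π : G → Q, and j : A → G an abelian subvariety (a smooth connected proper closed
subgroup scheme) with A · N = G, that is, the multiplication A × N → G is surjective. Then the
multiplication A × N → G is a homomorphism and an isogeny (surjective with finite kernel), and so is
the composite A → G → Q. (In the published statement N is the largest connected affine normal
subgroup variety and Q = G/N the Albanese quotient; only the listed properties are used.) -/
theorem result (k : Type u) [Field k] [IsAlgClosed k]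
    (G N A Q : Over (Spec (CommRingCat.of k))) [GrpObj G] [GrpObj N] [GrpObj A] [GrpObj Q]
    [Smooth G.hom] [QuasiCompact G.hom] [ConnectedSpace ↥G.left]
    (i : N ⟶ G) [IsMonHom i] [IsClosedImmersion i.left] [IsAffine N.left]
    (π : G ⟶ Q) [IsMonHom π] [Flat π.left] [Surjective π.left] (hker : AlgGrp.IsKernel i π)
    (j : A ⟶ G) [IsMonHom j] [IsClosedImmersion j.left] [Smooth A.hom] [ConnectedSpace ↥A.left] [IsProper A.hom]
    (hsurj : Surjective ((j ⊗ₘ i) ≫ μ[G]).left) :
    IsMonHom ((j ⊗ₘ i) ≫ μ[G]) ∧ SGA7.IsIsogenyOver ((j ⊗ₘ i) ≫ μ[G]) ∧ SGA7.IsIsogenyOver (j ≫ π) := by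
  haveI : Mono i := Over.mono_of_mono_left i
  haveI : Mono j := Over.mono_of_mono_left j
  have hcen : ∀ (T : Over (Spec (CommRingCat.of k))) (a : T ⟶ A) (g : T ⟶ G), (a ≫ j) * g = g * (a ≫ j) :=
    fun T a g => Groth.Agent.AlgGrpLib.AbelianSubvariety.central j a g
  have hmh := Groth.Agent.AlgGrpLib.AbelianComplement.isMonHom_mul j i fun T a x => hcen T a _
  have hm : (j ⊗ₘ i) ≫ μ[G] = (fst A N ≫ j) * (snd A N ≫ i) := by
    rw [Hom.mul_def, ← lift_map, lift_fst_snd, Category.id_comp]
  have hiπ : i ≫ π = 1 := Groth.Agent.AlgGrpLib.kernel_comp hker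
  let W : Over (Spec (CommRingCat.of k)) := pullback j i
  let w₁ : W ⟶ A := pullback.fst j i
  let w₂ : W ⟶ N := pullback.snd j i
  haveI : Mono w₁ := inferInstanceAs (Mono (pullback.fst j i))
  haveI hW : IsFinite W.hom := by
    have sq := (IsPullback.of_hasPullback j i).map (Over.forget (Spec (CommRingCat.of k)))
    haveI : IsClosedImmersion w₁.left := MorphismProperty.of_isPullback sq.flip ‹IsClosedImmersion i.left›
    haveI : IsClosedImmersion w₂.left := MorphismProperty.of_isPullback sq ‹IsClosedImmersion j.left›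
    haveI : IsProper W.hom := by rw [← Over.w w₁]; infer_instance
    haveI : IsAffineHom N.hom := inferInstance
    haveI : IsAffineHom W.hom := by rw [← Over.w w₂]; infer_instance
    exact IsFinite.iff_isProper_and_isAffineHom.2 ⟨inferInstance, inferInstance⟩
  have hfin : ∀ {X Y : Over (Spec (CommRingCat.of k))} [GrpObj Y] (u : X ⟶ Y) (w : W ⟶ X),
      AlgGrp.IsKernel w u → ∀ (K : Over (Spec (CommRingCat.of k))) (l : K ⟶ X), AlgGrp.IsKernel l u → IsFinite K.hom := by
    intro X Y _ u w hw K l hl
    let e : K ≅ W := hl.isoPullback ≪≫ hw.isoPullback.symm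
    rw [← Over.w e.hom]
    haveI : IsIso e.hom.left := inferInstanceAs (IsIso ((Over.forget _).map e.hom))
    infer_instance
  haveI hs : Surjective (j ≫ π).left := by
    haveI := hsurj
    have h : ((j ⊗ₘ i) ≫ μ[G]) ≫ π = fst A N ≫ j ≫ π := by
      rw [hm, MonObj.mul_comp _ _ π, Category.assoc, Category.assoc, hiπ, MonObj.comp_one, _root_.mul_one]
    haveI : Surjective ((fst A N).left ≫ (j ≫ π).left) := by
      rw [← Over.comp_left, ← h, Over.comp_left]; infer_instance
    exact Surjective.of_comp (fst A N).left (j ≫ π).left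
  refine ⟨hmh, ⟨hsurj, hfin _ (lift w₁ w₂⁻¹) ?_⟩, ⟨hs, hfin _ w₁ ?_⟩⟩
  · haveI : Mono (lift w₁ w₂⁻¹) := mono_of_mono_fac (lift_fst w₁ w₂⁻¹)
    refine Groth.Agent.AlgGrpLib.isKernel_of_points _ _ ?_ fun T g hg => ?_
    · rw [hm, MonObj.comp_mul, lift_fst_assoc, lift_snd_assoc, GrpObj.inv_comp _ i,
        show w₁ ≫ j = w₂ ≫ i from pullback.condition, mul_inv_cancel]
    · rw [hm, MonObj.comp_mul, ← Category.assoc, ← Category.assoc] at hg
      refine ⟨pullback.lift (g ≫ fst A N) (g ≫ snd A N)⁻¹ ?_, ?_⟩
      · rw [GrpObj.inv_comp _ i]; exact eq_inv_of_mul_eq_one_left hg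
      · apply CartesianMonoidalCategory.hom_ext
        · rw [Category.assoc, lift_fst]; exact pullback.lift_fst _ _ _
        · rw [Category.assoc, lift_snd, GrpObj.comp_inv, pullback.lift_snd, _root_.inv_inv]
  · refine Groth.Agent.AlgGrpLib.isKernel_of_points _ _ ?_ fun T g hg => ?_
    · rw [← Category.assoc, show w₁ ≫ j = w₂ ≫ i from pullback.condition, Category.assoc, hiπ, MonObj.comp_one]
    · obtain ⟨x, hx⟩ := Groth.Agent.AlgGrpLib.exists_lift_kernel hker (g := g ≫ j) (by rw [Category.assoc]; exact hg)
      exact ⟨pullback.lift g x hx.symm, pullback.lift_fst _ _ _⟩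

end Groth.Agent.S14751
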