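import Groth.Statements.S14754
import Groth.Agent.AlgGrpLib.TorusExt

set_option autoImplicit false
universe u
open CategoryTheory CategoryTheory.Limits MonoidalCategory CartesianMonoidalCategory MonObj GrpObj AlgebraicGeometry
open AlgGrp

namespace Groth.Agent.S14754

/-- Over an algebraically closed field k, every exact sequence of split tori splits: if K, G, Q are
split tori over k, i : K → G a closed subgroup scheme which is the kernel of a flat surjective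
homomorphism π : G → Q, then π has a section which is a homomorphism. -/
theorem result (k : Type u) [Field k] [IsAlgClosed k]
    (K G Q : Over (Spec (CommRingCat.of k))) [GrpObj K] [GrpObj G] [GrpObj Q] (nK nG nQ : ℕ)
    (hK : Red.IsSplitTorusWith (Fin nK → ℤ) K) (hG : Red.IsSplitTorusWith (Fin nG → ℤ) G)
    (hQ : Red.IsSplitTorusWith (Fin nQ → ℤ) Q)
    (i : K ⟶ G) [IsMonHom i] [IsClosedImmersion i.left]
    (π : G ⟶ Q) [IsMonHom π] [Flat π.left] [Surjective π.left] (hker : AlgGrp.IsKernel i π) :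
    ∃ s : Q ⟶ G, IsMonHom s ∧ s ≫ π = 𝟙 Q := by
  obtain ⟨eK⟩ := hK; obtain ⟨eG⟩ := hG; obtain ⟨eQ⟩ := hQ
  have h1 : ∀ {A B : Grp (Over (Spec (CommRingCat.of k)))} (e : A ≅ B), e.hom.hom.hom ≫ e.inv.hom.hom = 𝟙 A.X :=
    fun e => congrArg (fun m => m.hom.hom) e.hom_inv_id
  have h2 : ∀ {A B : Grp (Over (Spec (CommRingCat.of k)))} (e : A ≅ B), e.inv.hom.hom ≫ e.hom.hom.hom = 𝟙 B.X :=
    fun e => congrArg (fun m => m.hom.hom) e.inv_hom_id
  let π' := eG.inv.hom.hom ≫ π ≫ eQ.hom.hom.hom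
  let i' := eK.inv.hom.hom ≫ i ≫ eG.hom.hom.hom
  haveI := eG.inv.hom.isMonHom_hom
  haveI := eG.hom.hom.isMonHom_hom
  haveI := eK.inv.hom.isMonHom_hom
  haveI := eQ.hom.hom.isMonHom_hom
  haveI := eQ.inv.hom.isMonHom_hom
  haveI : IsMonHom π' := inferInstanceAs (IsMonHom (eG.inv.hom.hom ≫ π ≫ eQ.hom.hom.hom))
  haveI : IsMonHom i' := inferInstanceAs (IsMonHom (eK.inv.hom.hom ≫ i ≫ eG.hom.hom.hom))
  haveI : IsIso eG.inv.hom.hom := inferInstanceAs (IsIso ((Grp.forget _).map eG.inv))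
  haveI : IsIso eQ.hom.hom.hom := inferInstanceAs (IsIso ((Grp.forget _).map eQ.hom))
  haveI : Epi π.left := Flat.epi_of_flat_of_surjective _
  haveI : Epi π := (Over.forget _).epi_of_epi_map (f := π) ‹_›
  haveI : Epi π' := inferInstanceAs (Epi (eG.inv.hom.hom ≫ π ≫ eQ.hom.hom.hom))
  have hker' : AlgGrp.IsKernel i' π' := by
    unfold AlgGrp.IsKernel
    refine IsPullback.of_iso hker ((Grp.forget _).mapIso eK) ((Grp.forget _).mapIso eG) (Iso.refl _)
      ((Grp.forget _).mapIso eQ) ?_ ?_ ?_ ?_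
    · show i ≫ eG.hom.hom.hom = eK.hom.hom.hom ≫ eK.inv.hom.hom ≫ i ≫ eG.hom.hom.hom
      rw [reassoc_of% h1 eK]
    · exact toUnit_unique _ _
    · show π ≫ eQ.hom.hom.hom = eG.hom.hom.hom ≫ eG.inv.hom.hom ≫ π ≫ eQ.hom.hom.hom
      rw [reassoc_of% h1 eG]
    · show η[Q] ≫ eQ.hom.hom.hom = 𝟙 _ ≫ η[_]
      rw [Category.id_comp]; exact eQ.hom.hom.isMonHom_hom.one_hom
  obtain ⟨s, hs, hs'⟩ := Groth.Agent.AlgGrpLib.exists_section_DS i' π' hker'
  refine ⟨eQ.hom.hom.hom ≫ s ≫ eG.inv.hom.hom, inferInstanceAs (IsMonHom (_ ≫ s ≫ _)), ?_⟩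
  calc (eQ.hom.hom.hom ≫ s ≫ eG.inv.hom.hom) ≫ π
      = eQ.hom.hom.hom ≫ (s ≫ π') ≫ eQ.inv.hom.hom := by simp only [π', Category.assoc, h1 eQ, Category.comp_id]
    _ = 𝟙 Q := by rw [hs', Category.id_comp, h1]

end Groth.Agent.S14754
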