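import Groth.Statements.S14759
import Groth.Agent.AlgGrpLib.ComponentQuot
import Groth.Agent.UnipStruct.Step
import Groth.Agent.S4094

set_option autoImplicit false
set_option backward.isDefEq.respectTransparency.types false
universe u
open CategoryTheory CategoryTheory.Limits MonoidalCategory CartesianMonoidalCategory MonObj GrpObj AlgebraicGeometry
open AlgGrp

namespace Groth.Agent.S14759

/-- Over a field k, every isogeny φ : G → H of k-group schemes of finite type (a surjective homomorphism
with finite kernel) factors as φ = χ ∘ ψ with ψ : G → Q a purely inseparable isogeny (its kernel is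
connected) followed by a separable isogeny χ : Q → H (its kernel is etale over k). (The published
definition of isogeny asks only for a finite kernel and an image of finite index in H; this row
takes φ surjective, which is the same notion when H is connected.) -/
theorem result (k : Type u) [Field k]
    (G H : Over (Spec (CommRingCat.of k))) [GrpObj G] [GrpObj H]
    [QuasiCompact G.hom] [LocallyOfFiniteType G.hom] [QuasiCompact H.hom] [LocallyOfFiniteType H.hom]
    (φ : G ⟶ H) [IsMonHom φ] (hφ : SGA7.IsIsogenyOver φ) :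
    ∃ (Q : Over (Spec (CommRingCat.of k))) (_ : GrpObj Q) (ψ : G ⟶ Q) (χ : Q ⟶ H),
      IsMonHom ψ ∧ IsMonHom χ ∧ ψ ≫ χ = φ ∧ SGA7.IsIsogenyOver ψ ∧ SGA7.IsIsogenyOver χ ∧
      (∀ (N : Over (Spec (CommRingCat.of k))) (n : N ⟶ G), AlgGrp.IsKernel n ψ → ConnectedSpace ↥N.left) ∧
      (∀ (N : Over (Spec (CommRingCat.of k))) (n : N ⟶ Q), AlgGrp.IsKernel n χ → Etale N.hom) := by
  obtain ⟨hφs, hφk⟩ := hφ
  haveI : IsLocallyNoetherian G.left := LocallyOfFiniteType.isLocallyNoetherian G.hom
  haveI : LocallyOfFinitePresentation G.hom := inferInstance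
  let i₀ := Groth.Agent.UnipStruct.kerι φ
  have hk₀ : AlgGrp.IsKernel i₀ φ := Groth.Agent.UnipStruct.isKernel_kerι φ
  have hfin₀ : IsFinite (Groth.Agent.UnipStruct.kerObj φ).hom := hφk _ i₀ hk₀
  obtain ⟨Q₀, gQ₀, p, i, hp, hi, hpi, hps, hpf, hpl, him, hQ₀, hkp⟩ :=
    Groth.Agent.S4094.result (Spec (CommRingCat.of k)) G H φ inferInstance
  letI := gQ₀
  haveI := hp; haveI := hi; haveI := hps; haveI := hpf; haveI := him; haveI := hQ₀
  haveI : IsMonHom i₀ := inferInstance
  obtain ⟨K, gK, v, W, gW, ψ, r, hv, hψ, hK, hψf, hψs, hkv, hrfin, hψr, -, hret⟩ :=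
    Groth.Agent.AlgGrpLib.ComponentQuot.exists_componentQuot_etale p i₀ hkp
  letI := gK; letI := gW
  haveI := hψ; haveI := hψf; haveI := hψs; haveI := hrfin; haveI := hret
  haveI := Groth.Agent.AlgGrpLib.quasiCompact_left p
  haveI : LocallyOfFiniteType W.hom := by rw [← Over.w r]; infer_instance
  haveI : QuasiCompact ψ.left := Groth.Agent.AlgGrpLib.quasiCompact_left ψ
  haveI : IsMonHom (ψ ≫ r) := hψr ▸ inferInstance
  haveI : IsMonHom r := Groth.Agent.UnipStruct.isMonHom_desc ψ r
  haveI : IsSeparated W.hom := Groth.Agent.SGA3xLib.isSeparated_of_grpObj W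
  haveI : IsSeparated H.hom := Groth.Agent.SGA3xLib.isSeparated_of_grpObj H
  haveI : IsClosedImmersion i₀.left := Groth.Agent.UnipStruct.isClosedImmersion_kerι φ
  haveI : IsClosedImmersion η[W].left := isClosedImmersion_of_comp_eq_id W.hom η[W].left (Over.w η[W])
  have hfac : ψ ≫ r ≫ i = φ := by rw [← Category.assoc, hψr, hpi]
  have hkr : ∀ (N : Over (Spec (CommRingCat.of k))) (n : N ⟶ W), AlgGrp.IsKernel n (r ≫ i) →
      IsPullback n.left (toUnit N).left r.left η[Q₀].left := by
    intro N n hn
    have hw : n ≫ r = toUnit N ≫ η[Q₀] := by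
      rw [← cancel_mono i, Category.assoc, hn.w, Category.assoc, IsMonHom.one_hom (f := i)]
    have hn' : IsPullback n (toUnit N) r η[Q₀] :=
      IsPullback.of_isLimit' ⟨hw⟩ (PullbackCone.IsLimit.mk _
        (fun s => hn.lift s.fst s.snd (by rw [reassoc_of% s.condition, IsMonHom.one_hom (f := i)]))
        (fun s => hn.lift_fst _ _ _) (fun s => hn.lift_snd _ _ _)
        (fun s m h1 h2 => hn.hom_ext (by rw [h1, hn.lift_fst]) (by rw [h2, hn.lift_snd])))
    exact IsPullback.map (Over.forget _) hn'
  refine ⟨W, inferInstance, ψ, r ≫ i, hψ, inferInstance, hfac, ⟨hψs, fun N n hn => ?_⟩,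
    ⟨?_, fun N n hn => ?_⟩, fun N n hn => ?_, fun N n hn => ?_⟩
  · haveI : IsClosedImmersion n.left :=
      MorphismProperty.of_isPullback (P := @IsClosedImmersion) (IsPullback.map (Over.forget _) hn).flip ‹_›
    have h1 : n ≫ φ = toUnit N ≫ η[H] := by
      rw [← hfac, reassoc_of% hn.w, ← Category.assoc η[W], IsMonHom.one_hom (f := r), IsMonHom.one_hom (f := i)]
    let m := hk₀.lift n (toUnit N) h1
    have hm : m ≫ i₀ = n := hk₀.lift_fst _ _ h1
    haveI : IsClosedImmersion (m.left ≫ i₀.left) := by rw [← Over.comp_left, hm]; infer_instance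
    haveI : IsClosedImmersion m.left := IsClosedImmersion.of_comp m.left i₀.left
    rw [← Over.w m]
    infer_instance
  · haveI : Surjective (ψ.left ≫ (r ≫ i).left) := by rw [← Over.comp_left, hfac]; exact hφs
    exact Surjective.of_comp ψ.left (r ≫ i).left
  · have h := MorphismProperty.of_isPullback (P := @IsFinite) (hkr N n hn) hrfin
    have h2 : (toUnit N).left = N.hom := rfl
    rwa [h2] at h
  · haveI := hK
    let e := hkv.isoIsPullback _ _ hn
    exact e.hom.left.surjective.connectedSpace e.hom.left.continuous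
  · have h := MorphismProperty.of_isPullback (P := @Etale) (hkr N n hn) hret
    have h2 : (toUnit N).left = N.hom := rfl
    rwa [h2] at h

end Groth.Agent.S14759
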