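import Groth.Statements.S14763
import Groth.Agent.AlgGrpLib.AbelianComplement
import Groth.Agent.AlgGrpLib.ImageSubgroup
import Groth.Agent.AbVarLib.KernelTorsor
import Groth.Agent.AbVarLib.KernelQuot
import Groth.Agent.AbCubeLib.DeligneKills
import Groth.Agent.Et18.Descent

set_option autoImplicit false
set_option backward.isDefEq.respectTransparency.types false
universe u
open CategoryTheory CategoryTheory.Limits MonoidalCategory CartesianMonoidalCategory MonObj GrpObj AlgebraicGeometry
open AlgGrp

namespace Groth.Agent.S14763

/-- Over an algebraically closed field k let G be a commutative group variety (smooth connected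
commutative k-group scheme of finite type) written as an extension 0 → L → G → A → 0 of an abelian
variety by its largest connected affine subgroup: i : L → G a smooth connected affine closed
subgroup scheme, kernel of a flat surjective homomorphism π : G → A onto an abelian variety A
(proper, smooth, connected). Then the following are equivalent: (a) for some d ≥ 1 there is a
homomorphism s : A → G with π ∘ s equal to multiplication by d on A (the class of the extension is
killed by d: its pullback along multiplication by d splits); (b) there is an abelian subvariety A'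
of G (a smooth connected proper closed subgroup scheme) with A' · L = G, that is, the multiplication
A' × L → G is surjective. (The published statement phrases (a) as the class of G having finite order
in the group of extension classes and (b) as G being isogenous to L × A; the published proof passes
through exactly the two conditions stated here.) -/
theorem result (k : Type u) [Field k] [IsAlgClosed k]
    (G L A : Over (Spec (CommRingCat.of k))) [GrpObj G] [GrpObj L] [GrpObj A] [IsCommMonObj G]
    [Smooth G.hom] [QuasiCompact G.hom] [ConnectedSpace ↥G.left]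
    (i : L ⟶ G) [IsMonHom i] [IsClosedImmersion i.left] [IsAffine L.left] [Smooth L.hom] [ConnectedSpace ↥L.left]
    (π : G ⟶ A) [IsMonHom π] [Flat π.left] [Surjective π.left] (hker : AlgGrp.IsKernel i π)
    [IsProper A.hom] [Smooth A.hom] [ConnectedSpace ↥A.left] :
    (∃ d : ℕ, 0 < d ∧ ∃ s : A ⟶ G, IsMonHom s ∧ s ≫ π = (𝟙 A) ^ d) ↔
      (∃ (A' : Over (Spec (CommRingCat.of k))) (_ : GrpObj A') (j : A' ⟶ G), IsMonHom j ∧ IsClosedImmersion j.left ∧
        Smooth A'.hom ∧ ConnectedSpace ↥A'.left ∧ IsProper A'.hom ∧ Surjective ((j ⊗ₘ i) ≫ μ[G]).left) := by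
  constructor
  · rintro ⟨d, hd, s, hs, hsπ⟩
    haveI := hs
    obtain ⟨A', gA', j, g, hj, hg, hjc, hgj, hgs, -, hA', -, -⟩ := Groth.Agent.AlgGrpLib.ImageSubgroup.exists_image s
    letI := gA'
    haveI := hj
    haveI := hg
    haveI := hjc
    haveI := hgs
    haveI := hA'
    haveI : ConnectedSpace ↥A'.left := hgs.surj.connectedSpace g.left.continuous
    haveI : IsSeparated A'.hom := by
      haveI := Groth.Agent.SGA3xLib.isSeparated_of_grpObj G
      rw [← Over.w j]; infer_instance
    haveI : QuasiCompact A'.hom := by rw [← Over.w j]; infer_instance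
    haveI : UniversallyClosed A'.hom := by
      haveI : UniversallyClosed (g.left ≫ A'.hom) := by rw [Over.w g]; infer_instance
      exact UniversallyClosed.of_comp_surjective g.left A'.hom
    haveI : IsProper A'.hom := {}
    refine ⟨A', gA', j, hj, hjc, hA', inferInstance, inferInstance, ?_⟩
    haveI := Groth.Agent.AlgGrpLib.AbelianSubvariety.geometricallyConnected_of_connected A
    haveI := Groth.Agent.AbVarLib.geometricallyIntegral_of_smooth A.hom
    haveI : IsFinite ((𝟙 A) ^ d).left := Groth.Agent.AbCubeLib.isFinite_pow hd
    haveI : IsMonHom ((𝟙 A) ^ d) := by rw [← hsπ]; infer_instance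
    have hds := (Groth.Agent.AbVarLib.surjective_and_flat_of_isFinite ((𝟙 A) ^ d) rfl).1
    haveI hjs : Surjective (j ≫ π).left := by
      haveI : Surjective (g.left ≫ (j ≫ π).left) := by
        rw [← Over.comp_left, ← Category.assoc, hgj, hsπ]; exact hds
      exact Surjective.of_comp g.left (j ≫ π).left
    have hm : (j ⊗ₘ i) ≫ μ[G] = (fst A' L ≫ j) * (snd A' L ≫ i) := by
      rw [Hom.mul_def, ← lift_map, lift_fst_snd, Category.id_comp]
    have hiπ := Groth.Agent.AlgGrpLib.kernel_comp hker
    have hc : ((fst A' L ≫ j) * (snd A' L ≫ i)) ≫ π = fst A' L ≫ j ≫ π := by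
      rw [MonObj.mul_comp _ _ π, Category.assoc, Category.assoc, hiπ, MonObj.comp_one, _root_.mul_one]
    have hsq : IsPullback ((fst A' L ≫ j) * (snd A' L ≫ i)) (fst A' L) π (j ≫ π) := by
      haveI : Mono i := Over.mono_of_mono_left i
      refine IsPullback.of_isLimit' ⟨hc⟩ (PullbackCone.IsLimit.mk _
        (fun t => lift t.snd (hker.lift ((t.snd ≫ j)⁻¹ * t.fst) (toUnit _) ?_)) (fun t => ?_) (fun t => lift_fst _ _)
        (fun t m h1 h2 => ?_))
      · rw [MonObj.mul_comp _ _ π, GrpObj.inv_comp _ π, t.condition, Category.assoc, inv_mul_cancel,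
          Groth.Agent.AlgGrpLib.one_unit, MonObj.comp_one]
      · rw [MonObj.comp_mul, lift_fst_assoc, lift_snd_assoc, hker.lift_fst, mul_inv_cancel_left]
      · refine CartesianMonoidalCategory.hom_ext _ _ (by rw [lift_fst, h2]) ?_
        rw [lift_snd, ← cancel_mono i, hker.lift_fst, ← h1, MonObj.comp_mul, ← h2, Category.assoc, Category.assoc,
          inv_mul_cancel_left]
    rw [hm]
    exact MorphismProperty.of_isPullback (hsq.map (Over.forget _)).flip hjs
  · rintro ⟨A', gA', j, hj, hjc, hA', hA'c, hA'p, hsurj⟩
    letI := gA'
    haveI := hj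
    haveI := hjc
    haveI := hA'
    haveI := hA'c
    haveI := hA'p
    haveI : Mono j := Over.mono_of_mono_left j
    haveI := Groth.Agent.AlgGrpLib.TorsorNormRel.isCommMonObj_abelianVariety A'
    let f : A' ⟶ A := j ≫ π
    have hiπ := Groth.Agent.AlgGrpLib.kernel_comp hker
    have hm : (j ⊗ₘ i) ≫ μ[G] = (fst A' L ≫ j) * (snd A' L ≫ i) := by
      rw [Hom.mul_def, ← lift_map, lift_fst_snd, Category.id_comp]
    haveI hfs : Surjective f.left := by
      haveI := hsurj
      have h : ((j ⊗ₘ i) ≫ μ[G]) ≫ π = fst A' L ≫ j ≫ π := by
        rw [hm, MonObj.mul_comp _ _ π, Category.assoc, Category.assoc, hiπ, MonObj.comp_one, _root_.mul_one]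
      haveI : Surjective ((fst A' L).left ≫ f.left) := by
        rw [← Over.comp_left, ← h, Over.comp_left]; infer_instance
      exact Surjective.of_comp (fst A' L).left f.left
    haveI : GeometricallyReduced A.hom := Groth.Agent.AbSchLib.geometricallyReduced_of_smooth A.hom
    haveI : Flat f.left := Groth.Agent.AlgGrpLib.flat_hom_of_surjective f
    haveI : QuasiCompact f.left := by
      haveI : QuasiCompact (f.left ≫ A.hom) := by rw [Over.w f]; infer_instance
      exact QuasiCompact.of_comp f.left A.hom
    haveI := Groth.Agent.Et18.descends_isFinite.{u}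
    haveI : IsFinite f.left := by
      refine Groth.Agent.AbVarLib.of_kernel f (pullback.fst j i) @IsFinite ?_ ?_
      · haveI : Mono i := Over.mono_of_mono_left i
        haveI : Mono (pullback.fst j i) := inferInstance
        refine Groth.Agent.AlgGrpLib.isKernel_of_points _ _ ?_ fun T g hg => ?_
        · rw [← Category.assoc, pullback.condition, Category.assoc, hiπ, MonObj.comp_one]
        · obtain ⟨x, hx⟩ := Groth.Agent.AlgGrpLib.exists_lift_kernel hker (g := g ≫ j) (by rw [Category.assoc]; exact hg)
          exact ⟨pullback.lift g x hx.symm, pullback.lift_fst _ _ _⟩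
      · have sq := (IsPullback.of_hasPullback j i).map (Over.forget (Spec (CommRingCat.of k)))
        haveI : IsClosedImmersion (pullback.fst j i).left := MorphismProperty.of_isPullback sq.flip ‹IsClosedImmersion i.left›
        haveI : IsClosedImmersion (pullback.snd j i).left := MorphismProperty.of_isPullback sq ‹IsClosedImmersion j.left›
        haveI : IsProper (pullback j i).hom := by rw [← Over.w (pullback.fst j i)]; infer_instance
        haveI : IsAffineHom L.hom := inferInstance
        haveI : IsAffineHom (pullback j i).hom := by rw [← Over.w (pullback.snd j i)]; infer_instance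
        exact IsFinite.iff_isProper_and_isAffineHom.2 ⟨inferInstance, inferInstance⟩
    let pt₀ : Spec (CommRingCat.of k) := IsLocalRing.closedPoint k
    let n := Scheme.Hom.finrank f.left (η[A].left pt₀)
    have hn : 0 < n := by
      have h := Scheme.Hom.one_le_finrank_map f.left (η[A'].left pt₀)
      rw [← Scheme.Hom.comp_apply, ← Over.comp_left, IsMonHom.one_hom] at h
      exact h
    haveI : IsMonHom ((𝟙 A') ^ n) := by
      refine Groth.Agent.SGA3cLib.BCPoints.isMonHom_of_mul _ fun T x y => ?_
      rw [MonObj.comp_pow, MonObj.comp_pow, MonObj.comp_pow, Category.comp_id, Category.comp_id, Category.comp_id, mul_pow]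
    have hK := Groth.Agent.UnipStruct.isKernel_kerι f
    obtain ⟨ρ, ⟨hρ, hfρ⟩, -⟩ := Groth.Agent.AbVarLib.existsUnique_lift_of_kernel f _ hK ((𝟙 A') ^ n) (by
      rw [MonObj.comp_pow, Category.comp_id]
      exact Groth.Agent.AbCubeLib.pow_eq_one_of_comp_eq_one f n
        (fun s => congrArg (Scheme.Hom.finrank f.left) (congrArg η[A].left (Subsingleton.elim (α := PrimeSpectrum k) _ _)))
        _ (Groth.Agent.AlgGrpLib.kernel_comp hK))
    haveI := hρ
    haveI : Epi f := by
      haveI : Epi f.left := Flat.epi_of_flat_of_surjective _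
      exact Over.epi_of_epi_left _
    refine ⟨n, hn, ρ ≫ j, inferInstance, ?_⟩
    rw [Category.assoc, ← cancel_epi f, ← Category.assoc, hfρ, MonObj.comp_pow, Category.comp_id]
    show ((𝟙 A') ^ n) ≫ f = f ^ n
    have hp : ((𝟙 A') ^ n) ≫ f = ((𝟙 A') ≫ f) ^ n :=
      map_pow ({ toFun := fun h => h ≫ f, map_one' := MonObj.one_comp f, map_mul' := fun a b => MonObj.mul_comp a b f } :
        (A' ⟶ A') →* (A' ⟶ A)) (𝟙 A') n
    rw [hp, Category.id_comp]

end Groth.Agent.S14763
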