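import Groth.Statements.S14771
import Groth.Agent.SubtrLib.Noetherian

set_option autoImplicit false
universe u
open CategoryTheory CategoryTheory.Limits AlgebraicGeometry
open Subtr

namespace Groth.Agent.S14771

/-- Let Y be locally Noetherian and f : X ⟶ Y quasi-compact and locally of finite type. The following
are equivalent: (i) f is universally submersive; (ii) every base change of f has the lifting
property for ordered pairs of points; (iii) for every discrete valuation ring D and morphism g :
Spec D ⟶ Y there are a discrete valuation ring D', a morphism a : Spec D' ⟶ X and a surjective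
morphism b : Spec D' ⟶ Spec D with a ≫ f = b ≫ g. (The published statement assumes f only locally of
finite type. Quasi-compactness cannot be dropped: over the local ring of a regular surface at a
closed point s, the disjoint union of the punctured surface, a regular curve C through s and, for
every n ≥ 1, the n-fold blow-up along successive points of the strict transform of C with the n-th
such point removed, satisfies (iii) with D' = D, while (ii) fails at a valuation ring of rank two
whose centres are exactly the removed points; the limit argument behind the published proof uses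
quasi-compactness of the fibres.) -/
theorem result {X Y : Scheme.{u}} [IsLocallyNoetherian Y]
    (f : X ⟶ Y) [LocallyOfFiniteType f] [QuasiCompact f] :
    List.TFAE [
      SGA1.UnivSubmersive f,
      Subtr.UnivSSubtrusive f,
      ∀ (D : Type u) [CommRing D] [IsDomain D] [IsDiscreteValuationRing D] (g : Spec (CommRingCat.of D) ⟶ Y),
        ∃ (D' : Type u) (_ : CommRing D') (_ : IsDomain D') (_ : IsDiscreteValuationRing D')
          (a : Spec (CommRingCat.of D') ⟶ X) (b : Spec (CommRingCat.of D') ⟶ Spec (CommRingCat.of D)),
          Surjective b ∧ a ≫ f = b ≫ g] := by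
  tfae_have 1 → 2 := fun h => SubtrLib.univSSubtrusive_of_dvr f fun D _ _ _ g =>
    SubtrLib.hasLift_of_submersive f h D g
  tfae_have 2 → 1 := fun h => SubtrLib.univSubmersive_of_univSSubtrusive f h
  tfae_have 2 → 3 := fun h D _ _ _ g => by
    obtain ⟨x, x', hxx, hx, hx'⟩ := h _ _ (pullback.snd f g) (IsPullback.of_hasPullback f g).flip
      (SubtrLib.spec_bot_specializes D (IsLocalRing.closedPoint D))
    have : IsLocallyNoetherian (pullback f g) :=
      LocallyOfFiniteType.isLocallyNoetherian (pullback.snd f g)
    let P := pullback f g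
    obtain ⟨s, hs⟩ : ∃ s : Spec (P.presheaf.stalk x), P.fromSpecStalk x s = x' :=
      (P.range_fromSpecStalk (x := x)).ge hxx
    let π : P.presheaf.stalk x →+* P.presheaf.stalk x ⧸ s.asIdeal := Ideal.Quotient.mk s.asIdeal
    have : Nontrivial (P.presheaf.stalk x ⧸ s.asIdeal) := Ideal.Quotient.nontrivial_iff.2 s.isPrime.ne_top
    have : IsLocalRing (P.presheaf.stalk x ⧸ s.asIdeal) :=
      IsLocalRing.of_surjective' π Ideal.Quotient.mk_surjective
    have : IsLocalHom π := Ideal.Quotient.mk_surjective.isLocalHom
    have hsx : s.asIdeal ≠ IsLocalRing.maximalIdeal (P.presheaf.stalk x) := fun e => by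
      have hxe : x' = x := by
        rw [← hs, show s = IsLocalRing.closedPoint _ from PrimeSpectrum.ext e]
        exact Scheme.fromSpecStalk_closedPoint
      rw [hxe, hx] at hx'
      exact IsDiscreteValuationRing.not_a_field D (congrArg PrimeSpectrum.asIdeal hx')
    have hnf : ¬ IsField (P.presheaf.stalk x ⧸ s.asIdeal) := fun hf => hsx
      (IsLocalRing.eq_maximalIdeal ((Ideal.Quotient.maximal_ideal_iff_isField_quotient _).2 hf))
    obtain ⟨D', _, _, _, φ, hφ, hl⟩ := DVRDom.exists_dvr _ hnf
    let c : Spec (CommRingCat.of D') ⟶ P :=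
      Spec.map (CommRingCat.ofHom (φ.comp π)) ≫ P.fromSpecStalk x
    have hc0 : c (⟨⊥, Ideal.isPrime_bot⟩ : PrimeSpectrum D') = x' := by
      rw [← hs]
      change P.fromSpecStalk x (PrimeSpectrum.comap (φ.comp π) ⟨⊥, Ideal.isPrime_bot⟩) = _
      congr 1
      refine PrimeSpectrum.ext ?_
      change RingHom.ker (φ.comp π) = _
      rw [RingHom.ker_comp_of_injective _ hφ, Ideal.mk_ker]
    have hc1 : c (IsLocalRing.closedPoint D') = x := by
      refine Eq.trans ?_ (Scheme.fromSpecStalk_closedPoint (X := P) (x := x))
      change P.fromSpecStalk x (PrimeSpectrum.comap (φ.comp π) (IsLocalRing.closedPoint D')) = _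
      congr 1
      exact IsLocalRing.comap_closedPoint _
    refine ⟨D', inferInstance, inferInstance, inferInstance, c ≫ pullback.fst f g,
      c ≫ pullback.snd f g, ⟨fun y => ?_⟩, (Category.assoc _ _ _).trans ((congrArg (c ≫ ·) pullback.condition).trans (Category.assoc _ _ _).symm)⟩
    have := ((IsDiscreteValuationRing.iff_pid_with_one_nonzero_prime D).1 inferInstance).2
    obtain ⟨Q, -, hu⟩ := this
    by_cases h0 : (y : PrimeSpectrum D).asIdeal = ⊥
    · refine ⟨(⟨⊥, Ideal.isPrime_bot⟩ : PrimeSpectrum D'), ?_⟩
      exact ((congrArg (pullback.snd f g) hc0).trans hx').trans (PrimeSpectrum.ext h0.symm)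
    · refine ⟨IsLocalRing.closedPoint D', ((congrArg (pullback.snd f g) hc1).trans hx).trans ?_⟩
      exact PrimeSpectrum.ext ((hu _ ⟨IsDiscreteValuationRing.not_a_field D, inferInstance⟩).trans
        (hu _ ⟨h0, (y : PrimeSpectrum D).isPrime⟩).symm)
  tfae_have 3 → 2 := fun h => SubtrLib.univSSubtrusive_of_dvr f fun D _ _ _ g => by
    obtain ⟨D', _, _, _, a, b, hb, hab⟩ := h D g
    obtain ⟨w, hw⟩ := b.surjective (IsLocalRing.closedPoint D)
    obtain ⟨e, he⟩ := b.surjective (⟨⊥, Ideal.isPrime_bot⟩ : PrimeSpectrum D)
    have hη : b (⟨⊥, Ideal.isPrime_bot⟩ : PrimeSpectrum D') = (⟨⊥, Ideal.isPrime_bot⟩ : PrimeSpectrum D) := by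
      have h1 := (SubtrLib.spec_bot_specializes D' e).map b.continuous
      rw [he] at h1
      exact (h1.antisymm (SubtrLib.spec_bot_specializes D _)).eq
    let l := pullback.lift a b hab
    refine ⟨l w, l (⟨⊥, Ideal.isPrime_bot⟩ : PrimeSpectrum D'),
      (SubtrLib.spec_bot_specializes D' w).map l.continuous, ?_, ?_⟩
    · exact (congrArg (fun m => m w) (pullback.lift_snd a b hab)).trans hw
    · exact (congrArg (fun m => m (⟨⊥, Ideal.isPrime_bot⟩ : PrimeSpectrum D'))
        (pullback.lift_snd a b hab)).trans hη
  tfae_finish

end Groth.Agent.S14771
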