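import Groth.Statements.S14772
import Groth.Agent.SubtrLib.Noetherian
-- import your own Groth.Agent.* helpers here

set_option autoImplicit false
set_option backward.isDefEq.respectTransparency false
universe u
open CategoryTheory CategoryTheory.Limits AlgebraicGeometry
open Subtr

namespace Groth.Agent.S14772

/-- Let f : X ⟶ Y be a quasi-compact morphism of schemes. Then every base change of f has the lifting
property for ordered pairs of points if and only if, for every integer n ≥ 1, the base change X ×_Y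
𝔸ⁿ_Y ⟶ 𝔸ⁿ_Y has it. (The published statement is about universally subtrusive morphisms f, with the
condition that f be universally submersive for the constructible topologies added on both sides, and
does not assume f quasi-compact; this row states the quasi-compact case, where that condition is
automatic once f is surjective.) -/
theorem result {X Y : Scheme.{u}} (f : X ⟶ Y) [QuasiCompact f] :
    Subtr.UnivSSubtrusive f ↔
      ∀ n : ℕ, 0 < n →
        Subtr.IsSSubtrusive (pullback.snd f (AffineSpace (ULift.{u} (Fin n)) Y ↘ Y)) := by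
  refine ⟨fun h n _ => h _ _ _ (IsPullback.of_hasPullback f _).flip, fun h => ?_⟩
  refine Groth.Agent.SubtrLib.univSSubtrusive_of_valuation f fun V _ _ _ g => ?_
  change Groth.Agent.SubtrLib.HasLift V f g
  obtain ⟨_, ⟨U, hU, rfl⟩, hgU, -⟩ := Y.isBasis_affineOpens.exists_subset_of_mem_open
    (Set.mem_univ (g (IsLocalRing.closedPoint V))) isOpen_univ
  let A : Type u := Γ(Y, U)
  let u : Spec (CommRingCat.of A) ⟶ Y := hU.fromSpec
  have hru : Set.range u = U := hU.range_fromSpec
  have hrg : Set.range g ⊆ Set.range u := by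
    rw [hru]
    rintro _ ⟨s, rfl⟩
    exact ((IsLocalRing.specializes_closedPoint (R := V) s).map g.continuous).mem_open U.2 hgU
  let ψ : A →+* V := (Spec.preimage (IsOpenImmersion.lift u g hrg)).hom
  letI : Algebra A V := ψ.toAlgebra
  have hg : Spec.map (CommRingCat.ofHom (algebraMap A V)) ≫ u = g := by
    change Spec.map (CommRingCat.ofHom ψ) ≫ u = g
    rw [show CommRingCat.ofHom ψ = Spec.preimage (IsOpenImmersion.lift u g hrg) from rfl,
      Spec.map_preimage, IsOpenImmersion.lift_fac]
  suffices Groth.Agent.SubtrLib.HasLift V f (Spec.map (CommRingCat.ofHom (algebraMap A V)) ≫ u) by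
    rwa [hg] at this
  by_contra hV
  obtain ⟨σ, hσ, hcov⟩ := (isCompact_and_isOpen_iff_finite_and_eq_biUnion_affineOpens).mp
    ⟨f.isCompact_preimage hU.isCompact, (f ⁻¹ᵁ U).2⟩
  have hle : ∀ W ∈ σ, W.1 ≤ f ⁻¹ᵁ U := fun W hW a ha => hcov.ge (Set.mem_iUnion₂.mpr ⟨W, hW, ha⟩)
  have := hσ.to_subtype
  have hchart : ∀ W : σ, ∃ (B : Type u) (_ : CommRing B) (_ : Algebra A B)
      (j : Spec (CommRingCat.of B) ⟶ X) (_ : IsOpenImmersion j),
      Spec.map (CommRingCat.ofHom (algebraMap A B)) ≫ u = j ≫ f ∧ Set.range j = W.1.1 := fun W =>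
    ⟨Γ(X, W.1.1), inferInstance, (f.appLE U W.1.1 (hle W.1 W.2)).hom.toAlgebra,
      W.1.2.fromSpec, inferInstance, hU.SpecMap_appLE_fromSpec f W.1.2 (hle W.1 W.2), W.1.2.range_fromSpec⟩
  choose B _ _ j _ hj hrj using hchart
  choose S hS hstage using fun W : σ => Groth.Agent.SubtrLib.exists_stage (A := A) (V := V) (B := B W)
    (fun hp => hV (Groth.Agent.SubtrLib.hasLift_of_hasPair f u (j W) (hj W) hp))
  have : Fintype σ := Fintype.ofFinite _
  let S' : Subalgebra A V := Finset.univ.sup S
  have hS'fg : S'.FG := Finset.sup_induction Subalgebra.fg_bot (fun _ h _ h' => h.sup h') fun i _ => hS i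
  obtain ⟨m, φm, hφm⟩ := Algebra.FiniteType.iff_quotient_mvPolynomial''.1
    ((Subalgebra.fg_iff_finiteType S').mp hS'fg)
  -- at least one variable
  let τ : ULift.{u} (Fin (m + 1)) → S' := fun i => if h : i.down.1 < m then φm (MvPolynomial.X ⟨i.down.1, h⟩) else 0
  let φ : MvPolynomial (ULift.{u} (Fin (m + 1))) A →ₐ[A] S' := MvPolynomial.aeval τ
  have hφ : Function.Surjective φ := by
    intro s
    obtain ⟨p, rfl⟩ := hφm s
    refine ⟨MvPolynomial.rename (fun i : Fin m => ⟨Fin.castSucc i⟩) p, ?_⟩
    show (φ.comp (MvPolynomial.rename _)) p = φm p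
    congr 1
    refine MvPolynomial.algHom_ext fun i => ?_
    simp [φ, τ]
  let q : Ideal S' := (IsLocalRing.maximalIdeal V).comap S'.val.toRingHom
  have hq : q.IsPrime := Ideal.comap_isPrime _ _
  let D : Type u := Localization.AtPrime q
  haveI : IsDomain D := IsLocalization.isDomain_of_atPrime D q
  let ι' : S' →+* D := algebraMap S' D
  letI : Algebra A D := (ι'.comp (algebraMap A S')).toAlgebra
  let φD : S' →ₐ[A] D := { toRingHom := ι', commutes' := fun _ => rfl }
  let n := m + 1
  let em : Spec (CommRingCat.of D) ⟶ AffineSpace (ULift.{u} (Fin n)) Y :=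
    Spec.map (CommRingCat.ofHom ι') ≫ Spec.map (CommRingCat.ofHom φ.toRingHom) ≫
      (AffineSpace.SpecIso (ULift.{u} (Fin n)) (CommRingCat.of A)).inv ≫ AffineSpace.map (ULift.{u} (Fin n)) u
  haveI : IsPreimmersion (Spec.map (CommRingCat.ofHom ι')) := IsPreimmersion.of_isLocalization q.primeCompl
  haveI : IsClosedImmersion (Spec.map (CommRingCat.ofHom φ.toRingHom)) := IsClosedImmersion.spec_of_surjective _ hφ
  haveI : IsOpenImmersion (AffineSpace.map (ULift.{u} (Fin n)) u) :=
    MorphismProperty.of_isPullback (P := @IsOpenImmersion) (AffineSpace.isPullback_map u).flip inferInstance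
  haveI : IsPreimmersion em := inferInstance
  have hem : em ≫ (AffineSpace (ULift.{u} (Fin n)) Y ↘ Y) = Spec.map (CommRingCat.ofHom (algebraMap A D)) ≫ u := by
    simp only [em, Category.assoc, AffineSpace.map_over, AffineSpace.SpecIso_inv_over_assoc]
    rw [← Spec.map_comp_assoc, ← Spec.map_comp_assoc]
    congr 2
    ext a
    show ι' (φ (MvPolynomial.C a)) = ι' (algebraMap A S' a)
    rw [MvPolynomial.aeval_C]
  let gD := Spec.map (CommRingCat.ofHom (algebraMap A D)) ≫ u
  let an := AffineSpace (ULift.{u} (Fin n)) Y ↘ Y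
  let bot : PrimeSpectrum D := ⟨⊥, Ideal.isPrime_bot⟩
  obtain ⟨x, x', hxx, hx, hx'⟩ := h n (Nat.succ_pos m)
    (((PrimeSpectrum.le_iff_specializes bot (IsLocalRing.closedPoint D)).1 bot_le).map em.continuous)
  let l : pullback f gD ⟶ pullback f an := pullback.map _ _ _ _ (𝟙 X) em (𝟙 Y) (by simp) (by simp [gD, an, hem])
  have sq : IsPullback l (pullback.snd f gD) (pullback.snd f an) em := by
    refine IsPullback.of_right ?_ (by simp [l]) (IsPullback.of_hasPullback f an)
    simpa [l, gD, an, hem] using IsPullback.of_hasPullback f gD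
  haveI : IsPreimmersion l := MorphismProperty.of_isPullback (P := @IsPreimmersion) sq.flip inferInstance
  obtain ⟨z, hz, hz'⟩ := Scheme.exists_preimage_of_isPullback sq x (IsLocalRing.closedPoint D) hx
  obtain ⟨w, hw, hw'⟩ := Scheme.exists_preimage_of_isPullback sq x' bot hx'
  have hzw : w ⤳ z := l.isEmbedding.isInducing.specializes_iff.1 (by rw [hz, hw]; exact hxx)
  have hzU : pullback.fst f gD z ∈ f ⁻¹ᵁ U := by
    change (pullback.fst f gD ≫ f) z ∈ U
    rw [pullback.condition]
    exact hru.le ⟨_, rfl⟩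
  obtain ⟨W, hW, hzW⟩ := Set.mem_iUnion₂.1 (hcov.le hzU)
  exact hstage ⟨W, hW⟩ S' (Finset.le_sup (Finset.mem_univ _)) D φD
    (IsLocalization.injective D q.primeCompl_le_nonZeroDivisors)
    (fun s hs => ((IsLocalization.AtPrime.to_map_mem_maximal_iff D q s).mpr hs))
    (Groth.Agent.SubtrLib.hasPair_of_lift f u (j ⟨W, hW⟩) (hj ⟨W, hW⟩) hzw hz' hw'
      ((hrj ⟨W, hW⟩).ge hzW))

end Groth.Agent.S14772
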