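import Groth.Statements.S14780
import Groth.Agent.FlatMor12.SubtrFlat.OpenFlatten
-- import your own Groth.Agent.* helpers here

set_option autoImplicit false
universe u
open CategoryTheory CategoryTheory.Limits AlgebraicGeometry
open Subtr

namespace Groth.Agent.S14780

/-- Let Y be a scheme that is affine or Noetherian and f : X ⟶ Y a universally open surjective morphism
of finite presentation. Then there are a scheme Y', a proper surjective morphism q : Y' ⟶ Y of
finite presentation, a scheme X' and a surjective closed immersion r : X' ⟶ X ×_Y Y' (a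
nil-immersion) such that the composite X' ⟶ X ×_Y Y' ⟶ Y' is flat, surjective and of finite
presentation. -/
theorem result {X Y : Scheme.{u}}
    (f : X ⟶ Y) (hY : IsAffine Y ∨ IsNoetherian Y) [LocallyOfFinitePresentation f] [QuasiCompact f] [QuasiSeparated f]
    [UniversallyOpen f] [Surjective f] :
    ∃ (Y' : Scheme.{u}) (q : Y' ⟶ Y) (X' : Scheme.{u}) (r : X' ⟶ pullback f q),
      IsProper q ∧ Surjective q ∧ LocallyOfFinitePresentation q ∧
      IsClosedImmersion r ∧ Surjective r ∧
      Flat (r ≫ pullback.snd f q) ∧ Surjective (r ≫ pullback.snd f q) ∧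
      LocallyOfFinitePresentation (r ≫ pullback.snd f q) ∧ QuasiCompact (r ≫ pullback.snd f q) ∧
      QuasiSeparated (r ≫ pullback.snd f q) := by
  obtain ⟨Y', q, X', r, h1, h2, h3, h4, h5, h6, h7, h8, h9⟩ :=
    Groth.Agent.FlatMor12.SubtrFlat.hasFlattening f hY
  haveI : Surjective (pullback.snd f q) := MorphismProperty.pullback_snd _ _ ‹_›
  exact ⟨Y', q, X', r, h1, h2, h3, h4, h5, h6, inferInstance, h7, h8, h9⟩

end Groth.Agent.S14780
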