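import Groth.Statements.S19530
import Groth.Agent.SubtrLib.Chain

set_option autoImplicit false
universe u
open CategoryTheory CategoryTheory.Limits AlgebraicGeometry
open Subtr

namespace Groth.Agent.S19530

theorem lift_over_valuation {V : Type u} [CommRing V] [IsDomain V] [ValuationRing V] {Z : Scheme.{u}}
    (g : Z ⟶ Spec (CommRingCat.of V)) (hg : Subtr.IsSSubtrusive g) (n : ℕ)
    (P : Fin (n + 1) → Ideal V) (hP : ∀ i, (P i).IsPrime) (hm : Monotone P) (h0 : P 0 = ⊥) :
    ∃ z : Fin (n + 1) → Z, (∀ i j, i ≤ j → z i ⤳ z j) ∧ ∀ i, g (z i) = ⟨P i, hP i⟩ := by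
  have hspec : (⟨P 0, hP 0⟩ : PrimeSpectrum V) ⤳ ⟨P (Fin.last n), hP _⟩ :=
    (PrimeSpectrum.le_iff_specializes _ _).1 (hm (Fin.zero_le _))
  obtain ⟨b, a, hab, hb, ha⟩ := hg hspec
  obtain ⟨q, hq⟩ : ∃ q : Spec (Z.presheaf.stalk b), Z.fromSpecStalk b q = a :=
    (Z.range_fromSpecStalk (x := b)).ge hab
  let D := Z.presheaf.stalk b ⧸ q.asIdeal
  let π : Z.presheaf.stalk b →+* D := Ideal.Quotient.mk q.asIdeal
  let h : Spec (CommRingCat.of D) ⟶ Z := Spec.map (CommRingCat.ofHom π) ≫ Z.fromSpecStalk b
  let χ : V →+* D := (Spec.preimage (h ≫ g)).hom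
  have hχ : Spec.map (CommRingCat.ofHom χ) = h ≫ g := Spec.map_preimage _
  letI : Algebra V D := χ.toAlgebra
  let pt : PrimeSpectrum D → Z := fun s => h s
  have hpt : ∀ s : PrimeSpectrum D, g (pt s) = PrimeSpectrum.comap χ s := fun s => by
    change (h ≫ g) s = _
    rw [← hχ]; rfl
  have : IsDomain D := inferInstance
  have hbot : pt ⊥ = a := by
    rw [← hq]
    change Z.fromSpecStalk b (PrimeSpectrum.comap π ⊥) = _
    congr 1
    exact PrimeSpectrum.ext (Ideal.mk_ker (I := q.asIdeal))
  have hinj : Function.Injective χ := by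
    rw [RingHom.injective_iff_ker_eq_bot]
    have := (hpt ⊥).symm.trans ((congrArg g hbot).trans ha)
    exact (congrArg PrimeSpectrum.asIdeal this).trans h0
  have : Module.IsTorsionFree V D :=
    Module.isTorsionFree_iff_algebraMap_injective.2 hinj
  have : Module.Flat V D := Module.Flat.flat_iff_torsion_eq_bot_of_isBezout.2
    (Submodule.isTorsionFree_iff_torsion_eq_bot.1 inferInstance)
  let top : PrimeSpectrum D := ⟨(IsLocalRing.maximalIdeal (Z.presheaf.stalk b)).map π,
    Ideal.map_isPrime_of_surjective Ideal.Quotient.mk_surjective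
      (by rw [Ideal.mk_ker]; exact IsLocalRing.le_maximalIdeal q.isPrime.ne_top)⟩
  have htop : pt top = b := by
    refine Eq.trans ?_ (Scheme.fromSpecStalk_closedPoint (X := Z) (x := b))
    change Z.fromSpecStalk b (PrimeSpectrum.comap π top) = _
    congr 1
    refine PrimeSpectrum.ext ?_
    change Ideal.comap π _ = IsLocalRing.maximalIdeal _
    rw [Ideal.comap_map_of_surjective _ Ideal.Quotient.mk_surjective, sup_eq_left,
      ← RingHom.ker_eq_comap_bot, Ideal.mk_ker]
    exact IsLocalRing.le_maximalIdeal q.isPrime.ne_top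
  have := top.isPrime
  obtain ⟨Q, hQ, hQm, -, hQu⟩ := SubtrLib.exists_chain_of_goingDown n P hP hm top.asIdeal
    (congrArg PrimeSpectrum.asIdeal ((hpt top).symm.trans ((congrArg g htop).trans hb)))
  refine ⟨fun i => pt ⟨Q i, hQ i⟩, fun i j hij =>
    ((PrimeSpectrum.le_iff_specializes (⟨Q i, hQ i⟩ : PrimeSpectrum D) ⟨Q j, hQ j⟩).1 (hQm hij)).map
      h.continuous, fun i => ?_⟩
  rw [hpt]
  exact PrimeSpectrum.ext (hQu i)

/-- Let f : X ⟶ Y be a morphism of schemes such that every base change of f has the lifting property for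
ordered pairs of points (every point together with a specialization of it is the image of such a
pair). Then every finite chain of points y_0, y_1, …, y_n of Y, in which y_j is a specialization of
y_i whenever i ≤ j, lifts to a chain in X: there are points x_0, …, x_n of X with x_j a
specialization of x_i for i ≤ j and f(x_i) = y_i for every i. (The published statement is for
universally subtrusive f, which adds submersiveness for the constructible topologies, and for
arbitrary chains having a lower bound in Y; this row keeps the pair-lifting property alone and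
finite chains, whose most special member is a lower bound.) -/
theorem result {X Y : Scheme.{u}} (f : X ⟶ Y)
    (hf : Subtr.UnivSSubtrusive f) (n : ℕ) (y : Fin (n + 1) → Y)
    (hy : ∀ i j : Fin (n + 1), i ≤ j → y i ⤳ y j) :
    ∃ x : Fin (n + 1) → X, (∀ i j : Fin (n + 1), i ≤ j → x i ⤳ x j) ∧ ∀ i, f (x i) = y i := by
  have hr : ∀ i, ∃ s : Spec (Y.presheaf.stalk (y (Fin.last n))),
      Y.fromSpecStalk (y (Fin.last n)) s = y i := fun i =>
    (Y.range_fromSpecStalk (x := y (Fin.last n))).ge (hy i _ (Fin.le_last i))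
  choose s hs using hr
  let R := Y.presheaf.stalk (y (Fin.last n))
  let e := Y.fromSpecStalk (y (Fin.last n))
  have hmon : Monotone fun i => (s i).asIdeal := fun i j hij =>
    (PrimeSpectrum.le_iff_specializes (s i) (s j)).2
      ((IsPreimmersion.base_embedding (f := e)).isInducing.specializes_iff.1
        (by simpa only [e, hs] using hy i j hij))
  let L := FractionRing (R ⧸ (s 0).asIdeal)
  let φ : R →+* L := (algebraMap (R ⧸ (s 0).asIdeal) L).comp (Ideal.Quotient.mk _)
  have hφ : (s 0).asIdeal = RingHom.ker φ := by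
    rw [RingHom.ker_comp_of_injective _ (IsFractionRing.injective _ _), Ideal.mk_ker]
  obtain ⟨V, hV, P, hP, hPm, hP0, hPc⟩ := SubtrLib.exists_valuation_chain n φ
    (fun i => (s i).asIdeal) (fun i => (s i).isPrime) hmon hφ
  let g : Spec (CommRingCat.of V) ⟶ Y :=
    Spec.map (CommRingCat.ofHom (φ.codRestrict V.toSubring hV)) ≫ e
  have hsub : Subtr.IsSSubtrusive (pullback.snd f g) :=
    hf _ _ (pullback.snd f g) (IsPullback.of_hasPullback f g).flip
  obtain ⟨z, hz, hzP⟩ := lift_over_valuation (pullback.snd f g) hsub n P hP hPm hP0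
  refine ⟨fun i => pullback.fst f g (z i),
    fun i j hij => (hz i j hij).map (pullback.fst f g).continuous, fun i => ?_⟩
  change (pullback.fst f g ≫ f) (z i) = _
  rw [pullback.condition]
  change g (pullback.snd f g (z i)) = _
  rw [hzP i, ← hs i]
  change e (PrimeSpectrum.comap (φ.codRestrict V.toSubring hV) ⟨P i, hP i⟩) = _
  congr 1
  exact PrimeSpectrum.ext (hPc i)

end Groth.Agent.S19530
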