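import Groth.Statements.S14783
import Groth.Agent.SubtrLib.Noetherian
import Groth.Agent.S19530

set_option autoImplicit false
universe u
open CategoryTheory CategoryTheory.Limits AlgebraicGeometry
open Subtr

namespace Groth.Agent.S14783

/-- Let f : S' ⟶ S be a quasi-compact morphism of schemes every base change of which has the lifting
property for ordered pairs of points, and E ⊆ S any subset. For E to be both locally closed and
retrocompact it is necessary and sufficient that f⁻¹(E) be both. -/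
theorem result {S' S : Scheme.{u}} (f : S' ⟶ S)
    [QuasiCompact f] (hf : Subtr.UnivSSubtrusive f) (E : Set S) :
    (IsLocallyClosed E ∧ IsRetrocompact E) ↔
      (IsLocallyClosed (f ⁻¹' E) ∧ IsRetrocompact (f ⁻¹' E)) := by
  have hsurj := SubtrLib.surjective_of_isSSubtrusive (hf (𝟙 S') (𝟙 S) f (IsPullback.of_vert_isIso ⟨by simp⟩))
  constructor
  · rintro ⟨hloc, hret⟩
    refine ⟨hloc.preimage f.continuous, ?_⟩
    intro V hVc hVo
    obtain ⟨U, Z, hU, hZ, rfl⟩ := hloc
    -- cover `V` by finitely many affines mapping into affines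
    have hcover : ∀ v ∈ V, ∃ W : S'.Opens, IsAffineOpen W ∧ v ∈ W ∧ (W : Set S') ⊆ V ∧
        ∃ W' : S.Opens, IsAffineOpen W' ∧ W ≤ f ⁻¹ᵁ W' := by
      intro v hv
      obtain ⟨_, ⟨W', hW', rfl⟩, hvW', -⟩ := S.isBasis_affineOpens.exists_subset_of_mem_open
        (Set.mem_univ (f v)) isOpen_univ
      obtain ⟨_, ⟨W, hW, rfl⟩, hvW, hWsub⟩ := S'.isBasis_affineOpens.exists_subset_of_mem_open
        (show v ∈ V ∩ (f ⁻¹ᵁ W' : Set S') from ⟨hv, hvW'⟩) (hVo.inter (f ⁻¹ᵁ W').2)
      exact ⟨W, hW, hvW, fun a ha => (hWsub ha).1, W', hW', fun a ha => (hWsub ha).2⟩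
    choose W hW hvW hWV W' hW' hWW' using hcover
    obtain ⟨t, ht⟩ := hVc.elim_finite_subcover (fun v : V => (W v.1 v.2 : Set S')) (fun v => (W v.1 v.2).2)
      (fun v hv => Set.mem_iUnion.2 ⟨⟨v, hv⟩, hvW v hv⟩)
    have heq : f ⁻¹' (U ∩ Z) ∩ V = ⋃ v ∈ t, (f ⁻¹' (U ∩ Z) ∩ W v.1 v.2) := by
      ext a
      simp only [Set.mem_inter_iff, Set.mem_iUnion]
      constructor
      · rintro ⟨h1, h2⟩
        obtain ⟨v, hv, hav⟩ := Set.mem_iUnion₂.1 (ht h2)
        exact ⟨v, hv, h1, hav⟩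
      · rintro ⟨v, -, h1, h2⟩
        exact ⟨h1, hWV _ _ h2⟩
    rw [heq]
    refine t.isCompact_biUnion fun v _ => ?_
    let M := W v.1 v.2
    let M' := W' v.1 v.2
    have hc : IsCompact ((U ∩ Z) ∩ (M' : Set S)) := hret (hW' _ _).isCompact M'.2
    obtain ⟨T, hT, hTc, hTU, hKT⟩ : ∃ T : Set S, IsOpen T ∧ IsCompact T ∧ T ⊆ U ∩ M' ∧
        (U ∩ Z) ∩ (M' : Set S) ⊆ T := by
      have hex : ∀ a : ↥((U ∩ Z) ∩ (M' : Set S)), ∃ O : S.Opens, IsAffineOpen O ∧ a.1 ∈ O ∧
          (O : Set S) ⊆ U ∩ M' := fun a => by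
        obtain ⟨_, ⟨O, hO, rfl⟩, haO, hOsub⟩ := S.isBasis_affineOpens.exists_subset_of_mem_open
          (show a.1 ∈ U ∩ (M' : Set S) from ⟨a.2.1.1, a.2.2⟩) (hU.inter M'.2)
        exact ⟨O, hO, haO, hOsub⟩
      choose O hO haO hOsub using hex
      obtain ⟨r, hr⟩ := hc.elim_finite_subcover (fun a => (O a : Set S)) (fun a => (O a).2)
        (fun a ha => Set.mem_iUnion.2 ⟨⟨a, ha⟩, haO _⟩)
      exact ⟨⋃ a ∈ r, (O a : Set S), isOpen_biUnion fun a _ => (O a).2,
        r.isCompact_biUnion fun a _ => (hO a).isCompact, Set.iUnion₂_subset fun a _ => hOsub a, hr⟩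
    have hM : f ⁻¹' (U ∩ Z) ∩ (M : Set S') = (f ⁻¹' T ∩ M) ∩ f ⁻¹' Z := by
      ext a
      constructor
      · rintro ⟨h1, h2⟩
        exact ⟨⟨hKT ⟨h1, hWW' _ _ h2⟩, h2⟩, h1.2⟩
      · rintro ⟨⟨h1, h2⟩, h3⟩
        exact ⟨⟨(hTU h1).1, h3⟩, h2⟩
    rw [hM]
    refine IsCompact.inter_right ?_ (hZ.preimage f.continuous)
    obtain ⟨σ, hσ, hTeq⟩ := (isCompact_and_isOpen_iff_finite_and_eq_biUnion_affineOpens).mp ⟨hTc, hT⟩
    have hTeq' : f ⁻¹' T ∩ (M : Set S') = ⋃ k ∈ σ, ((f ⁻¹ᵁ k.1 : S'.Opens) : Set S') ∩ M := by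
      rw [hTeq]; simp only [Set.preimage_iUnion, Set.iUnion_inter]; rfl
    rw [hTeq']
    refine hσ.isCompact_biUnion fun k hk => ?_
    have : IsAffine M := hW _ _
    have : IsAffine M' := hW' _ _
    have hres : QuasiCompact (f.resLE M' M (hWW' _ _)) := inferInstance
    have h1 : IsCompact ((f.resLE M' M (hWW' _ _)) ⁻¹' (M'.ι ⁻¹' (k.1 : Set S))) := by
      refine QuasiCompact.isCompact_preimage (f := f.resLE M' M (hWW' _ _)) _
        (k.1.2.preimage M'.ι.continuous) ?_
      refine M'.ι.isEmbedding.isCompact_iff.2 ?_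
      rw [Set.image_preimage_eq_inter_range, Scheme.Opens.range_ι,
        Set.inter_eq_left.2 fun a ha => (hTU (hTeq.ge (Set.mem_iUnion₂.2 ⟨k, hk, ha⟩))).2]
      exact k.2.isCompact
    convert h1.image M.ι.continuous using 1
    ext a
    constructor
    · rintro ⟨h2, h3⟩
      refine ⟨⟨a, h3⟩, ?_, rfl⟩
      change (f.resLE M' M (hWW' _ _) ≫ M'.ι) ⟨a, h3⟩ ∈ k.1
      rw [Scheme.Hom.resLE_comp_ι]
      exact h2
    · rintro ⟨⟨b, hb⟩, h2, rfl⟩
      refine ⟨?_, hb⟩
      change (f.resLE M' M (hWW' _ _) ≫ M'.ι) ⟨b, hb⟩ ∈ k.1 at h2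
      rw [Scheme.Hom.resLE_comp_ι] at h2
      exact h2
  · rintro ⟨hloc, hret⟩
    have hE : f '' (f ⁻¹' E) = E := Set.image_preimage_eq E hsurj
    have hret' : IsRetrocompact E := by
      intro V hVc hVo
      have := hret (QuasiCompact.isCompact_preimage (f := f) V hVo hVc) (hVo.preimage f.continuous)
      rw [← Set.preimage_inter] at this
      rw [← Set.image_preimage_eq (E ∩ V) hsurj]
      exact this.image f.continuous
    refine ⟨?_, hret'⟩
    obtain ⟨O, C, hO, hC, hOC⟩ := hloc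
    let F : Set S' := closure (f ⁻¹' E) \ f ⁻¹' E
    have hFc : IsClosed F := by
      have : F = closure (f ⁻¹' E) ∩ Oᶜ := by
        ext a
        constructor
        · rintro ⟨h1, h2⟩
          refine ⟨h1, fun haO => h2 (hOC ▸ ⟨haO, ?_⟩)⟩
          exact (closure_minimal (hOC ▸ Set.inter_subset_right) hC) h1
        · rintro ⟨h1, h2⟩
          exact ⟨h1, fun h => h2 (hOC ▸ h : a ∈ O ∩ C).1⟩
      rw [this]; exact isClosed_closure.inter hO.isClosed_compl
    have hpro : ProCons.IsProConstructible (f ⁻¹' E) → ∀ y ∈ closure E, ∃ a ∈ closure (f ⁻¹' E), f a = y := by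
      intro hp y hy
      have hEpro : ProCons.IsProConstructible E := hE ▸ H8ProCons.isProConstructible_image f hp
      obtain ⟨y', hy', hyy⟩ := SubtrLib.exists_specializes_of_mem_closure_proCons hEpro hy
      obtain ⟨x, x', hxx, hx, hx'⟩ := (hf (𝟙 S') (𝟙 S) f (IsPullback.of_vert_isIso ⟨by simp⟩)) hyy
      refine ⟨x, closure_mono (Set.singleton_subset_iff.2 ?_) (specializes_iff_mem_closure.1 hxx), hx⟩
      change f x' ∈ E
      rw [hx']; exact hy'
    have hp : ProCons.IsProConstructible (f ⁻¹' E) := by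
      refine H8ProCons.isProConstructible_of_forall_isClosed_cons fun a => ?_
      obtain ⟨_, ⟨W, hW, rfl⟩, haW, -⟩ := S'.isBasis_affineOpens.exists_subset_of_mem_open
        (Set.mem_univ a) isOpen_univ
      refine ⟨W, hW, haW, ?_⟩
      have := H8ProCons.quasiSeparatedSpace_of_isAffineOpen hW
      have : CompactSpace ↥(W : Set S') := isCompact_iff_compactSpace.mp hW.isCompact
      have hcompact : IsCompact (Subtype.val ⁻¹' (f ⁻¹' E) : Set ↥(W : Set S')) := by
        rw [Topology.IsEmbedding.subtypeVal.isCompact_iff, Subtype.image_preimage_coe, Set.inter_comm]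
        exact hret hW.isCompact W.2
      have hex : ∀ b : (Subtype.val ⁻¹' (f ⁻¹' E) : Set ↥(W : Set S')), ∃ U : Set ↥(W : Set S'),
          IsOpen U ∧ IsCompact U ∧ b.1 ∈ U ∧ U ⊆ Subtype.val ⁻¹' O := fun b => by
        obtain ⟨U, ⟨hU, hUc⟩, hbU, hUsub⟩ := PrespectralSpace.isTopologicalBasis.exists_subset_of_mem_open
          (show b.1 ∈ Subtype.val ⁻¹' O from (hOC.le b.2 : _).1) (hO.preimage continuous_subtype_val)
        exact ⟨U, hU, hUc, hbU, hUsub⟩
      choose U hUo hUc hbU hUsub using hex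
      obtain ⟨r, hr⟩ := hcompact.elim_finite_subcover U hUo fun b hb => Set.mem_iUnion.2 ⟨⟨b, hb⟩, hbU _⟩
      have heq : (Subtype.val ⁻¹' (f ⁻¹' E) : Set ↥(W : Set S')) =
          (⋃ b ∈ r, U b) ∩ Subtype.val ⁻¹' C := by
        refine Set.Subset.antisymm (fun b hb => ⟨hr hb, (hOC.le hb : _).2⟩) ?_
        rintro b ⟨hb1, hb2⟩
        obtain ⟨c, -, hbc⟩ := Set.mem_iUnion₂.1 hb1
        exact hOC.ge ⟨hUsub c hbc, hb2⟩
      rw [heq]
      refine @IsClosed.inter _ _ _ (constructibleTopology _) ?_ ?_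
      · refine (@isOpen_compl_iff _ _ (constructibleTopology _)).1 ?_
        exact H8ProCons.isOpen_cons_compl_of_isCompact (isOpen_biUnion fun b _ => hUo b)
          (r.isCompact_biUnion fun b _ => hUc b)
      · refine (@isOpen_compl_iff _ _ (constructibleTopology _)).1 ?_
        exact H8ProCons.isOpen_cons_of_isOpen ((hC.preimage continuous_subtype_val).isOpen_compl)
    have hEpro : ProCons.IsProConstructible E := hE ▸ H8ProCons.isProConstructible_image f hp
    have hsat : ∀ a, f a ∈ E ↔ a ∈ O ∩ C := fun a => Set.ext_iff.1 hOC a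
    have hTeq : closure E \ E = f '' F := by
      refine Set.Subset.antisymm ?_ ?_
      · rintro y ⟨hy, hyE⟩
        obtain ⟨a, ha, rfl⟩ := hpro hp y hy
        exact ⟨a, ⟨ha, hyE⟩, rfl⟩
      · rintro _ ⟨a, ⟨ha, haE⟩, rfl⟩
        exact ⟨(closure_mono (Set.image_preimage_subset f E))
          (image_closure_subset_closure_image f.continuous ⟨a, ha, rfl⟩), haE⟩
    have hTc : IsClosed (closure E \ E) := by
      have hTpro : ProCons.IsProConstructible (closure E \ E) := hTeq ▸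
        H8ProCons.isProConstructible_image f (H8ProCons.isProConstructible_iff_compl.2
          (H8ProCons.isIndConstructible_of_isOpen hFc.isOpen_compl))
      refine isClosed_of_closure_subset fun y hy => ?_
      obtain ⟨y', ⟨hy'cl, hy'E⟩, hyy⟩ := SubtrLib.exists_specializes_of_mem_closure_proCons hTpro hy
      refine ⟨isClosed_closure.closure_subset (closure_mono (Set.singleton_subset_iff.2 hy'cl)
        (specializes_iff_mem_closure.1 hyy)), fun hyE => ?_⟩
      obtain ⟨e, he, hey⟩ := SubtrLib.exists_specializes_of_mem_closure_proCons hEpro hy'cl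
      obtain ⟨x, hx, hfx⟩ := S19530.result f hf 2 ![e, y', y] (by
        intro i j hij
        fin_cases i <;> fin_cases j <;> first
          | exact specializes_rfl | exact hey | exact hyy | exact hey.trans hyy
          | exact absurd hij (by decide))
      have h0 : x 0 ∈ O ∩ C := (hsat _).1 (by rw [hfx 0]; exact he)
      have h2 : x 2 ∈ O ∩ C := (hsat _).1 (by rw [hfx 2]; exact hyE)
      refine hy'E ?_
      have h1 : x 1 ∈ O ∩ C :=
        ⟨(hx 1 2 (by decide)).mem_open hO h2.1, (hx 0 1 (by decide)).mem_closed hC h0.2⟩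
      have := (hsat _).2 h1
      rwa [hfx 1] at this
    exact ⟨(closure E \ E)ᶜ, closure E, hTc.isOpen_compl, isClosed_closure, by
      ext y
      exact ⟨fun hy => ⟨fun h => h.2 hy, subset_closure hy⟩,
        fun ⟨h1, h2⟩ => by_contra fun h => h1 ⟨h2, h⟩⟩⟩

end Groth.Agent.S14783
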