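import Groth.Statements.S14784
import Groth.Agent.SubtrLib.Noetherian
import Groth.Agent.S19530
-- import your own Groth.Agent.* helpers here

set_option autoImplicit false
universe u
open CategoryTheory CategoryTheory.Limits AlgebraicGeometry
open Subtr

namespace Groth.Agent.S14784

/-- Let f : S' ⟶ S be a morphism of schemes of finite presentation every base change of which has the
lifting property for ordered pairs of points, and E ⊆ S a subset. Then E is locally closed if and
only if f⁻¹(E) is locally closed. (The published statement is for algebraic spaces; this row is the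
case of schemes.) -/
theorem result {S' S : Scheme.{u}} (f : S' ⟶ S)
    [LocallyOfFinitePresentation f] [QuasiCompact f] [QuasiSeparated f]
    (hf : Subtr.UnivSSubtrusive f) (E : Set S) :
    IsLocallyClosed E ↔ IsLocallyClosed (f ⁻¹' E) := by
  have hs : Subtr.IsSSubtrusive f := hf (𝟙 S') (𝟙 S) f (IsPullback.of_vert_isIso ⟨by simp⟩)
  refine ⟨fun h => h.preimage f.continuous, ?_⟩
  rintro ⟨O, Z, hO, hZ, hOZ⟩
  let C : Set S' := closure (f ⁻¹' E)
  let F : Set S' := C \ f ⁻¹' E
  have hsat : ∀ a, a ∈ C → a ∈ O → f a ∈ E := fun a ha haO =>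
    hOZ.ge ⟨haO, closure_minimal (hOZ.le.trans Set.inter_subset_right) hZ ha⟩
  have hEO : ∀ a, f a ∈ E → a ∈ O := fun a ha => (hOZ.le ha).1
  have hF : IsClosed F := by
    have : F = C ∩ Oᶜ := Set.ext fun a => ⟨fun h => ⟨h.1, fun haO => h.2 (hsat a h.1 haO)⟩,
      fun h => ⟨h.1, fun ha => h.2 (hEO a ha)⟩⟩
    rw [this]; exact isClosed_closure.inter hO.isClosed_compl
  -- the pro-constructible hull of `E`
  let K : Set S := ⋂₀ {P | ProCons.IsProConstructible P ∧ E ⊆ P}
  have hEK : E ⊆ K := Set.subset_sInter fun P hP => hP.2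
  have hK : ProCons.IsProConstructible K := by
    refine H8ProCons.isProConstructible_of_forall_isClosed_cons fun y => ?_
    obtain ⟨_, ⟨W, hW, rfl⟩, hyW, -⟩ := S.isBasis_affineOpens.exists_subset_of_mem_open
      (Set.mem_univ y) isOpen_univ
    refine ⟨W, hW, hyW, ?_⟩
    rw [Set.preimage_sInter]
    exact @isClosed_biInter _ _ (constructibleTopology _) _ _ fun P hP =>
      H8ProCons.isClosed_cons_of_isProConstructible hP.1 hW
  have hKC : ∀ b, f b ∈ K → b ∈ C := by
    intro b hb
    by_contra hbC
    have hind : ProCons.IsIndConstructible (f '' Cᶜ) :=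
      H8ProCons.isIndConstructible_image f (H8ProCons.isIndConstructible_of_isOpen isClosed_closure.isOpen_compl)
    have hpro : ProCons.IsProConstructible (f '' Cᶜ)ᶜ :=
      H8ProCons.isProConstructible_iff_compl.2 (by rw [compl_compl]; exact hind)
    exact Set.mem_sInter.1 hb _ ⟨hpro, fun e he ⟨a, ha, hae⟩ => ha (subset_closure (show f a ∈ E from hae ▸ he))⟩
      ⟨b, hbC, rfl⟩
  have hclK : ∀ y ∈ closure E, ∃ y'' ∈ K, y'' ⤳ y := fun y hy =>
    SubtrLib.exists_specializes_of_mem_closure_proCons hK (closure_mono hEK hy)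
  have hTpro : ProCons.IsProConstructible (f '' F) := H8ProCons.isProConstructible_image f
    (H8ProCons.isProConstructible_iff_compl.2 (H8ProCons.isIndConstructible_of_isOpen hF.isOpen_compl))
  refine ⟨(closure (f '' F))ᶜ, closure E, isClosed_closure.isOpen_compl, isClosed_closure, ?_⟩
  ext e
  refine ⟨fun he => ⟨fun hcl => ?_, subset_closure he⟩, fun ⟨hnF, hcl⟩ => ?_⟩
  · obtain ⟨_, ⟨a, ⟨haC, haE⟩, rfl⟩, hy'⟩ := SubtrLib.exists_specializes_of_mem_closure_proCons hTpro hcl
    obtain ⟨y'', hy''K, hy''⟩ := hclK (f a)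
      (closure_mono (Set.image_preimage_subset f E) (image_closure_subset_closure_image f.continuous ⟨a, haC, rfl⟩))
    obtain ⟨x, hx, hfx⟩ := S19530.result f hf 2 ![y'', f a, e] (by
      intro i j hij
      fin_cases i <;> fin_cases j <;> first
        | exact specializes_rfl | exact hy'' | exact hy' | exact hy''.trans hy'
        | exact absurd hij (by decide))
    have h1O : x 1 ∈ O := (hx 1 2 (by decide)).mem_open hO (hEO _ (by rw [hfx 2]; exact he))
    have h0C : x 0 ∈ C := hKC _ (by rw [hfx 0]; exact hy''K)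
    have h1 := hsat _ ((hx 0 1 (by decide)).mem_closed isClosed_closure h0C) h1O
    rw [hfx 1] at h1
    exact haE h1
  · obtain ⟨y'', hy''K, hy''⟩ := hclK e hcl
    obtain ⟨b, b'', hbb, hb, hb''⟩ := hs hy''
    have hbC : b ∈ C := hbb.mem_closed isClosed_closure (hKC _ (by rw [hb'']; exact hy''K))
    by_contra heE
    exact hnF (subset_closure ⟨b, ⟨hbC, fun h => heE (hb ▸ h)⟩, hb⟩)

end Groth.Agent.S14784
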