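import Groth.Statements.S14787
import Groth.Agent.AlgSpLib.UnivHomeoAffine

set_option autoImplicit false
universe u
open CategoryTheory CategoryTheory.Limits AlgebraicGeometry
open AlgSp
set_option backward.isDefEq.respectTransparency.types false
set_option backward.isDefEq.respectTransparency false

namespace Groth.Agent.S14787

/-- Let S be a quasi-separated scheme and f : X ⟶ Y a morphism of algebraic spaces over S, with X and Y
quasi-separated over S. If f is separated and a universal homeomorphism, then f is representable by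
schemes and integral. -/
theorem result {S : Scheme.{u}} [QuasiSeparatedSpace S]
    {X Y : AlgSp.Space S} (hX : AlgSp.IsQuasiSeparatedSp X.obj) (hY : AlgSp.IsQuasiSeparatedSp Y.obj)
    (f : X ⟶ Y) (hsep : AlgSp.IsSeparatedMor f.hom) (hh : AlgSp.IsUnivHomeoMor f.hom) :
    AlgSp.Representable f.hom ∧ AlgSp.IsIntegralMor f.hom := by
  have key : AlgSp.IsIntegralMor f.hom := fun Z hZ g => by
    have := hZ
    have sq := IsPullback.of_hasPullback f.hom g
    obtain ⟨W, w, e, he, hW, hw⟩ := Groth.Agent.AlgSpLib.UnivHomeoAff.exists_integral_model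
      (Groth.Agent.AlgSpLib.isAlgSpace_of_isPullback Y.property.diag X.property (AlgSp.IsAlgSpace.yon_obj Z) sq)
      (pullback.snd f.hom g) (Groth.Agent.AlgSpLib.isSeparatedMor_of_isPullback sq hsep)
      (fun Q Q' hQ z fst snd sq' => hh hQ _ _ snd (sq'.paste_horiz sq))
    exact ⟨W, w, e.hom ≫ pullback.fst f.hom g,
      sq.of_iso e.symm (Iso.refl _) (Iso.refl _) (Iso.refl _) (by simp) (by simp [← he]) (by simp) (by simp), hW, hw⟩
  have haff : AlgSp.IsAffineMor f.hom := fun Z hZ g => by
    obtain ⟨W, i, fst, sq, hW, -⟩ := key hZ g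
    exact ⟨W, i, fst, sq, hW⟩
  exact ⟨((Groth.Agent.AlgSpLib.isAffineMor_iff_repWith _).1 haff).1, key⟩

end Groth.Agent.S14787
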