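import Groth.Statements.S14788
import Groth.Agent.SubtrLib.Basic

set_option autoImplicit false
universe u
open CategoryTheory CategoryTheory.Limits AlgebraicGeometry
open Subtr

namespace Groth.Agent.S14788

/-- (i) ⇔ (iv): a morphism of schemes f : X ⟶ Y has the lifting property for ordered pairs of points if
and only if, for every pro-constructible subset Z ⊆ Y, the image under f of the closure of f⁻¹(Z) is
the closure of Z. (In the published item (iv) the right-hand side is printed as Z itself; the
closure is meant, as the case of a non-closed point shows and as the proof uses.) -/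
theorem result {X Y : Scheme.{u}} (f : X ⟶ Y) :
    Subtr.IsSSubtrusive f ↔
      ∀ Z : Set Y, ProCons.IsProConstructible Z → f '' closure (f ⁻¹' Z) = closure Z := by
  constructor
  · intro h Z hZ
    refine Set.Subset.antisymm ((image_closure_subset_closure_image f.continuous).trans
      (closure_mono (Set.image_preimage_subset _ _))) fun y hy => ?_
    obtain ⟨z, hz, hzy⟩ := SubtrLib.exists_specializes_of_mem_closure_proCons hZ hy
    obtain ⟨x, x', hxx, hx, hx'⟩ := h hzy
    refine ⟨x, closure_mono (Set.singleton_subset_iff.2 ?_) (specializes_iff_mem_closure.1 hxx), hx⟩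
    change f x' ∈ Z
    rw [hx']; exact hz
  · intro h y y' hy
    obtain ⟨x, hx, hfx⟩ := (h _ (H8ProCons.isProConstructible_singleton y')).ge
      (specializes_iff_mem_closure.1 hy)
    obtain ⟨x', hx', hxx⟩ := SubtrLib.exists_specializes_of_mem_closure_proCons
      (H8ProCons.isProConstructible_preimage f (H8ProCons.isProConstructible_singleton y')) hx
    exact ⟨x, x', hxx, hfx, hx'⟩

end Groth.Agent.S14788
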