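import Groth.Statements.S1479
import Groth.Agent.FlatMorSmoothPair.Scheme

set_option autoImplicit false
universe u
open FlatMor

namespace Groth.Agent.S1479

open AlgebraicGeometry CategoryTheory Limits in
/-- Let X and Y be smooth over S and i : Y → X a closed immersion over S. For every point y of Y there
are an open U of X containing i y, natural numbers m, n, and an étale S-morphism π from U to affine
(m+n)-space over S such that the closed subscheme Y ∩ U of U is the pullback along π of the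
coordinate subspace given by the vanishing of the last n coordinates. -/
theorem result {S X Y : Scheme.{u}} (pX : X ⟶ S) (pY : Y ⟶ S) [Smooth pX] [Smooth pY]
    (i : Y ⟶ X) [IsClosedImmersion i] (w : i ≫ pX = pY) (y : Y) :
    ∃ (U : X.Opens) (m n : ℕ) (π : (U : Scheme.{u}) ⟶ 𝔸(ULift.{u} (Fin m ⊕ Fin n); S)) (ρ : (↑(i ⁻¹ᵁ U) : Scheme.{u}) ⟶ 𝔸(ULift.{u} (Fin m); S)),
      i y ∈ U ∧ Etale π ∧ π ≫ (𝔸(ULift.{u} (Fin m ⊕ Fin n); S) ↘ S) = U.ι ≫ pX ∧
      IsPullback ρ (i ∣_ U)
        (AffineSpace.homOfVector (𝔸(ULift.{u} (Fin m); S) ↘ S)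
          (fun j : ULift.{u} (Fin m ⊕ Fin n) => Sum.elim (fun a => AffineSpace.coord S (ULift.up a)) (fun _ => 0) j.down))
        π := by
  obtain ⟨B, j, m, n, v, hj, hiy, het, k, hk⟩ := FlatMorSmoothPair.exists_chart pX pY i w y
  obtain ⟨ρ₀, hρ₀⟩ := FlatMorSmoothPair.isPullback_coords (a := Fin m) (b := Fin n) (j ≫ pX) v
  have hk' : IsPullback k (Spec.map (CommRingCat.ofHom (Ideal.Quotient.mk _)) ≫ j.isoOpensRange.hom) i j.opensRange.ι :=
    hk.of_iso (Iso.refl _) (Iso.refl _) j.isoOpensRange (Iso.refl _) (by simp) (by simp) (by simp)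
      (by simp)
  let e := (isPullback_morphismRestrict i j.opensRange).flip.isoIsPullback _ _ hk'
  refine ⟨j.opensRange, m, n, j.isoOpensRange.inv ≫
    AffineSpace.homOfVector (j ≫ pX) (fun i => (Scheme.ΓSpecIso B).inv (v i)), e.hom ≫ ρ₀, hiy, (by haveI := het; infer_instance), ?_, ?_⟩
  · rw [Category.assoc, AffineSpace.homOfVector_over, ← Category.assoc, Scheme.Hom.isoOpensRange_inv_comp]
  · refine hρ₀.of_iso e.symm (Iso.refl _) j.isoOpensRange (Iso.refl _) ?_ ?_ (by simp) ?_
    · simp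
    · have h : e.hom ≫ (Spec.map _ ≫ j.isoOpensRange.hom) = i ∣_ j.opensRange :=
        IsPullback.isoIsPullback_hom_snd _ _ _ hk'
      rw [← h, Iso.symm_hom, Iso.inv_hom_id_assoc]
    · simp

end Groth.Agent.S1479
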