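import Groth.Statements.S14790
import Groth.Agent.FlatMor12.SubtrFlat.Generic
-- import your own Groth.Agent.* helpers here

set_option autoImplicit false
universe u
open CategoryTheory CategoryTheory.Limits AlgebraicGeometry
open Subtr

namespace Groth.Agent.S14790

/-- Take a scheme Y that is reduced, quasi-compact and quasi-separated, whose set of maximal points
(points with no proper generization) is quasi-compact, and f : X ⟶ Y a morphism of finite
presentation. Then there is a dense quasi-compact open subset U ⊆ Y over which f is flat. -/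
theorem result {X Y : Scheme.{u}} [IsReduced Y]
    [CompactSpace Y] [QuasiSeparatedSpace Y]
    (hgen : IsCompact {y : Y | ∀ y' : Y, y' ⤳ y → y' = y})
    (f : X ⟶ Y) [LocallyOfFinitePresentation f] [QuasiCompact f] [QuasiSeparated f] :
    ∃ U : Y.Opens, Dense (U : Set Y) ∧ IsCompact (U : Set Y) ∧ Flat (f ∣_ U) := by
  obtain ⟨U, h1, h2, h3⟩ := Groth.Agent.FlatMor12.SubtrFlat.exists_open_flat hgen f
  exact ⟨U, Groth.Agent.FlatMor12.SubtrFlat.dense_of_maxPts_subset h1, h2, h3⟩

end Groth.Agent.S14790
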