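import Groth.Statements.S14791
import Groth.Agent.SubtrLib.Basic
import Groth.Agent.EGA43.Limit.Basic
-- import your own Groth.Agent.* helpers here

set_option autoImplicit false
set_option backward.isDefEq.respectTransparency false
universe u
open CategoryTheory CategoryTheory.Limits AlgebraicGeometry
open Subtr

namespace Groth.Agent.S14791

/-- Let S = lim S_i be a cofiltered limit of schemes with affine transition morphisms, Y₀ a scheme over
a stage S_{i₀}, f₀ : X₀ ⟶ Y₀ a quasi-compact morphism, and write f_i, f for the base changes of f₀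
to the stages S_i and to S (realised as second projections of fibre products). If there is a stage
S_{i₁} such that f_i has the lifting property for ordered pairs of points for every stage S_i over
S_{i₁}, then f has it. (The published statement is about subtrusive morphisms and assumes f a
quotient map for the constructible topologies; this row keeps only the lifting property and assumes
f₀ quasi-compact, which makes the fibres quasi-compact as the filtered-intersection step of the
argument requires.) -/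
theorem result {I : Type u} [SmallCategory I] [IsCofiltered I]
    (D : I ⥤ Scheme.{u}) (c : Limits.Cone D) (hc : Limits.IsLimit c)
    [∀ (i j : I) (a : i ⟶ j), IsAffineHom (D.map a)] (i₀ : I)
    {X₀ Y₀ : Scheme.{u}} (f₀ : X₀ ⟶ Y₀) (g₀ : Y₀ ⟶ D.obj i₀) [QuasiCompact f₀]
    (h : ∃ (i₁ : I) (ψ : i₁ ⟶ i₀), ∀ (i : I) (φ : i ⟶ i₁),
      Subtr.IsSSubtrusive (pullback.snd f₀ (pullback.fst g₀ (D.map (φ ≫ ψ))))) :
    Subtr.IsSSubtrusive (pullback.snd f₀ (pullback.fst g₀ (c.π.app i₀))) := by
  obtain ⟨i₁, ψ, h⟩ := h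
  let a := pullback.fst g₀ (c.π.app i₀)
  let p : ∀ k : Over i₁, pullback g₀ (c.π.app i₀) ⟶ pullback g₀ (D.map (k.hom ≫ ψ)) := fun k =>
    pullback.lift a (pullback.snd _ _ ≫ c.π.app k.left)
      (by rw [Category.assoc, c.w, pullback.condition])
  let t : ∀ k : Over i₁, pullback f₀ a ⟶ pullback f₀ (pullback.fst g₀ (D.map (k.hom ≫ ψ))) := fun k =>
    pullback.lift (pullback.fst _ _) (pullback.snd _ _ ≫ p k)
      (by simp [p, pullback.condition])
  have sq : ∀ k : Over i₁, IsPullback (t k) (pullback.snd f₀ a)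
      (pullback.snd f₀ (pullback.fst g₀ (D.map (k.hom ≫ ψ)))) (p k) := fun k => by
    refine IsPullback.of_right ?_ (pullback.lift_snd _ _ _) (IsPullback.of_hasPullback f₀ _)
    simpa [t, p] using IsPullback.of_hasPullback f₀ a
  intro y y' hyy
  -- the fibre of `X → Y` at `y` and the specialisations of the fibres at the stages
  let F := (pullback.snd f₀ a) ⁻¹' {y}
  let Z : ∀ k : Over i₁, Set (pullback f₀ a : Scheme.{u}) := fun k =>
    t k ⁻¹' closure (pullback.snd f₀ (pullback.fst g₀ (D.map (k.hom ≫ ψ))) ⁻¹' {p k y'})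
  have hne : ∀ k, (F ∩ Z k).Nonempty := fun k => by
    obtain ⟨x, x', hxx, hx, hx'⟩ := h k.left k.hom (hyy.map (p k).continuous)
    obtain ⟨z, hz, hz'⟩ := Scheme.exists_preimage_of_isPullback (sq k) x y hx
    refine ⟨z, hz', ?_⟩
    show t k z ∈ closure _
    rw [hz]
    refine closure_mono ?_ (specializes_iff_mem_closure.1 hxx)
    rintro _ rfl
    exact hx' 
  have hmono : ∀ {k l : Over i₁} (_ : k ⟶ l), Z k ⊆ Z l := fun {k l} φ z hz => by
    let q : pullback g₀ (D.map (k.hom ≫ ψ)) ⟶ pullback g₀ (D.map (l.hom ≫ ψ)) :=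
      pullback.lift (pullback.fst _ _) (pullback.snd _ _ ≫ D.map φ.left)
        (by rw [Category.assoc, ← D.map_comp, Over.w_assoc, pullback.condition])
    let r : pullback f₀ (pullback.fst g₀ (D.map (k.hom ≫ ψ))) ⟶
        pullback f₀ (pullback.fst g₀ (D.map (l.hom ≫ ψ))) :=
      pullback.lift (pullback.fst _ _) (pullback.snd _ _ ≫ q) (by simp [q, pullback.condition])
    have hp : p k ≫ q = p l := by
      apply pullback.hom_ext <;> simp [p, q]
    have ht : t k ≫ r = t l := by
      apply pullback.hom_ext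
      · simp [t, r]
      · simp only [t, r, Category.assoc, pullback.lift_snd, pullback.lift_snd_assoc, hp]
    change t l z ∈ closure _
    rw [show t l z = r (t k z) by rw [← ht]; rfl]
    refine map_mem_closure r.continuous hz fun w hw => ?_
    change pullback.snd f₀ _ (r w) = p l y'
    rw [← hp, ← Scheme.Hom.comp_apply, pullback.lift_snd]
    exact congrArg q hw
  obtain ⟨x, hx, hxZ⟩ : (F ∩ ⋂ k, Z k).Nonempty := by
    refine ((pullback.snd f₀ a).isCompact_preimage_singleton y).inter_iInter_nonempty Z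
      (fun k => isClosed_closure.preimage (t k).continuous) fun s => ?_
    classical
    obtain ⟨k₀, hk₀⟩ := IsCofiltered.inf_objs_exists s
    exact (hne k₀).mono fun z hz => ⟨hz.1, Set.mem_iInter₂.2 fun k hk => hmono (hk₀ hk).some hz.2⟩
  suffices hcl : x ∈ closure ((pullback.snd f₀ a) ⁻¹' {y'}) by
    obtain ⟨x', hx', hxx⟩ := Groth.Agent.SubtrLib.exists_specializes_of_mem_closure_proCons
      (H8ProCons.isProConstructible_preimage _ (H8ProCons.isProConstructible_singleton y')) hcl
    exact ⟨x, x', hxx, hx, hx'⟩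
  refine mem_closure_iff.2 fun O hO hxO => ?_
  have sq0 : IsPullback (pullback.fst f₀ a) (pullback.snd f₀ a ≫ pullback.snd g₀ (c.π.app i₀))
      (f₀ ≫ g₀) (c.π.app i₀) :=
    (IsPullback.of_hasPullback f₀ a).paste_vert (IsPullback.of_hasPullback g₀ (c.π.app i₀))
  obtain ⟨W, ⟨j, V, -, rfl⟩, hxV, hVO⟩ := TopologicalSpace.Opens.isBasis_iff_nbhd.1
    (isBasis_preimage_isAffineOpen _ _ (Groth.Agent.EGA43.Limit.isLimitStageCone D c (f₀ ≫ g₀) sq0 hc))
    (U := ⟨O, hO⟩) hxO
  let l := IsCofiltered.min j (Over.mk ψ)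
  let b := IsCofiltered.minToRight j (Over.mk ψ)
  have hb : b.left ≫ ψ = l.hom := Over.w b
  let k : Over i₁ := Over.mk b.left
  let e : pullback f₀ (pullback.fst g₀ (D.map (k.hom ≫ ψ))) ⟶
      (Groth.Agent.EGA43.Limit.stage D (f₀ ≫ g₀)).obj j :=
    pullback.lift (pullback.fst _ _)
      (pullback.snd _ _ ≫ pullback.snd _ _ ≫ D.map (IsCofiltered.minToLeft j (Over.mk ψ)).left)
      (by
        simp only [Category.assoc]
        rw [← D.map_comp, Over.w, pullback.condition_assoc, pullback.condition]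
        simp [k, hb]
        rfl)
  have he : t k ≫ e = (Groth.Agent.EGA43.Limit.stageCone D c (f₀ ≫ g₀) sq0).π.app j := by
    apply pullback.hom_ext
    · simp [t, e]
    · simp only [t, e, p, k, Groth.Agent.EGA43.Limit.stageCone_π_app, Category.assoc, pullback.lift_snd,
        pullback.lift_snd_assoc]
      simp [l]
  have hxV' : t k x ∈ e ⁻¹ᵁ V := by
    change (t k ≫ e) x ∈ V
    rw [he]
    exact hxV
  obtain ⟨w, hwV, hw⟩ := mem_closure_iff.1 (Set.mem_iInter.1 hxZ k) _ (e ⁻¹ᵁ V).2 hxV'
  obtain ⟨z, hz, hz'⟩ := Scheme.exists_preimage_of_isPullback (sq k) w y' hw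
  refine ⟨z, hVO ?_, hz'⟩
  change (Groth.Agent.EGA43.Limit.stageCone D c (f₀ ≫ g₀) sq0).π.app j z ∈ V
  rw [← he]
  show e (t k z) ∈ V
  rw [hz]
  exact hwV


end Groth.Agent.S14791
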