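import Groth.Statements.S14792
import Groth.Agent.FlatMor12.SubtrLimit
import Groth.Agent.H10Spread.Model
import Groth.Agent.S14770
-- import your own Groth.Agent.* helpers here

set_option autoImplicit false
universe u
open CategoryTheory CategoryTheory.Limits AlgebraicGeometry
open Subtr

namespace Groth.Agent.S14792

/-- (i) ⇔ (iii): let A be a commutative ring and f : X ⟶ Spec A a morphism of finite presentation. Then
every base change of f has the lifting property for ordered pairs of points if and only if there are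
a finitely generated subring A₀ ⊆ A, a scheme X₀ and a universally submersive morphism f₀ : X₀ ⟶
Spec A₀ of finite presentation such that f is the base change of f₀ along Spec A ⟶ Spec A₀. -/
theorem result (A : Type u) [CommRing A]
    {X : Scheme.{u}} (f : X ⟶ Spec (CommRingCat.of A))
    [LocallyOfFinitePresentation f] [QuasiCompact f] [QuasiSeparated f] :
    Subtr.UnivSSubtrusive f ↔
      ∃ (A₀ : Subalgebra ℤ A) (_ : A₀.FG) (X₀ : Scheme.{u}) (f₀ : X₀ ⟶ Spec (CommRingCat.of A₀))
        (q : X ⟶ X₀), IsPullback q f f₀ (Spec.map (CommRingCat.ofHom A₀.val.toRingHom)) ∧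
        LocallyOfFinitePresentation f₀ ∧ QuasiCompact f₀ ∧ QuasiSeparated f₀ ∧
        SGA1.UnivSubmersive f₀ := by
  have noeth : ∀ A₀ : Subalgebra ℤ A, A₀.FG → IsLocallyNoetherian (Spec (CommRingCat.of A₀)) := fun A₀ hA => by
    haveI : Algebra.FiniteType ℤ A₀ := (Subalgebra.fg_iff_finiteType A₀).1 hA
    haveI : IsNoetherianRing A₀ := Algebra.FiniteType.isNoetherianRing ℤ _
    infer_instance
  constructor
  · intro hf
    obtain ⟨j, Z, h, q, _, _, _, sq⟩ := Groth.Agent.H8Lim.exists_stage_spec (R := A) f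
    let D := Groth.Agent.H8Lim.fgSpecDiagram A
    let c := Groth.Agent.H8Lim.fgSpecCone A
    haveI : CompactSpace (D.obj j) := inferInstanceAs (CompactSpace (Spec _ : Scheme.{u}))
    obtain ⟨k, φ, hk⟩ := Groth.Agent.FlatMor12.SubtrLimit.exists_univSSubtrusive_descend D c
      (Groth.Agent.H8Lim.isLimitFgSpecCone A) j h (𝟙 (D.obj j)) f (𝟙 c.pt) (c.π.app j) q
      IsPullback.of_id_snd sq hf
    haveI : IsIso (pullback.snd (𝟙 (D.obj j)) (D.map φ)) := inferInstance
    have e : pullback.fst (𝟙 (D.obj j)) (D.map φ) = pullback.snd (𝟙 (D.obj j)) (D.map φ) ≫ D.map φ := by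
      rw [← pullback.condition, Category.comp_id]
    have hP : Subtr.UnivSSubtrusive (pullback.snd h (D.map φ)) := by
      refine Groth.Agent.FlatMor12.SubtrLimit.of_isPullback_factor (IsPullback.of_hasPullback h _)
        (IsPullback.of_hasPullback h (D.map φ)) (inv (pullback.snd (𝟙 (D.obj j)) (D.map φ))) ?_ hk
      rw [IsIso.inv_comp_eq]
      exact e
    haveI : IsLocallyNoetherian (D.obj k) := noeth (Groth.Agent.H8Lim.fgSub A k.unop) ⟨k.unop, rfl⟩
    haveI : QuasiCompact (pullback.snd h (D.map φ)) := MorphismProperty.pullback_snd _ _ ‹_›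
    refine ⟨Groth.Agent.H8Lim.fgSub A k.unop, ⟨k.unop, rfl⟩, _, pullback.snd h (D.map φ),
      pullback.lift q (f ≫ c.π.app k) (Groth.Agent.H8Lim.eq_later sq φ), ?_,
      MorphismProperty.pullback_snd _ _ ‹_›, MorphismProperty.pullback_snd _ _ ‹_›,
      MorphismProperty.pullback_snd _ _ ‹_›, (Groth.Agent.S14770.result _).2 hP⟩
    exact Groth.Agent.H8Lim.isPullback_later (D := D) (c := c) sq φ (Groth.Agent.H8Lim.eq_later sq φ)
  · rintro ⟨A₀, hA, X₀, f₀, q, sq, hlfp, hqc, hqs, hsub⟩
    haveI := noeth A₀ hA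
    exact MorphismProperty.of_isPullback (P := Subtr.UnivSSubtrusive.{u}) sq
      ((Groth.Agent.S14770.result f₀).1 hsub)

end Groth.Agent.S14792
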