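import Groth.Statements.S14793
import Groth.Agent.FlatMor12.SubtrFlat.Flatten
-- import your own Groth.Agent.* helpers here

set_option autoImplicit false
universe u
open Subtr

namespace Groth.Agent.S14793

open AlgebraicGeometry CategoryTheory Limits in
/-- Let Y be a reduced, quasi-compact and quasi-separated scheme whose set of maximal points is
quasi-compact (for instance Y Noetherian), and f : X ⟶ Y a morphism of finite presentation every
base change of which has the lifting property for ordered pairs of points. Then there are a dense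
quasi-compact open U ⊆ Y, an ideal sheaf 𝓘 admissible for U (of finite type, cosupported off U) and
a blow-up b : Y' ⟶ Y of Y in 𝓘, with b surjective, such that the strict transform X'' of X (the
closed subscheme of X' = X ×_Y Y' whose ideal consists, on each affine open, of the functions
annihilated by a power of the pulled-back exceptional ideal) is flat, surjective and of finite
presentation over Y'. -/
theorem result {X Y : Scheme.{u}} [IsReduced Y] [CompactSpace Y]
    [QuasiSeparatedSpace Y] (hgen : IsCompact {y : Y | ∀ y' : Y, y' ⤳ y → y' = y})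
    (f : X ⟶ Y) [LocallyOfFinitePresentation f] [QuasiCompact f] [QuasiSeparated f]
    (hf : Subtr.UnivSSubtrusive f) :
    ∃ (U : Y.Opens) (𝓘 : Y.IdealSheafData) (Y' : Scheme.{u}) (b : Y' ⟶ Y),
      Dense (U : Set Y) ∧ IsCompact (U : Set Y) ∧ BlowUp.IsBlowUp b 𝓘 ∧ BlowUp.IsAdmissibleFor U 𝓘 ∧
      Surjective b ∧
      ∀ (X' : Scheme.{u}) (p₁ : X' ⟶ X) (p₂ : X' ⟶ Y'), IsPullback p₁ p₂ f b →
      ∀ (𝒥 : X'.IdealSheafData),
        (∀ (V : X'.affineOpens) (a : Γ(X', V.1)), a ∈ 𝒥.ideal V ↔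
          BlowUp.KilledByPowerNear ((𝓘.comap f).comap p₁) (Coh.structureModule X') V a) →
        Flat (𝒥.subschemeι ≫ p₂) ∧ Surjective (𝒥.subschemeι ≫ p₂) ∧
          LocallyOfFinitePresentation (𝒥.subschemeι ≫ p₂) ∧
          QuasiCompact (𝒥.subschemeι ≫ p₂) ∧ QuasiSeparated (𝒥.subschemeι ≫ p₂) := by
  obtain ⟨U, 𝓘, Y', b, hd, hU, hb, hadm, -, hbs, h⟩ :=
    Groth.Agent.FlatMor12.SubtrFlat.exists_flattening_surjective hgen f
  refine ⟨U, 𝓘, Y', b, hd, hU, hb, hadm, hbs, fun X' p₁ p₂ H 𝒥 h𝒥 => ?_⟩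
  obtain ⟨⟨h1, h2, h3, h4⟩, h5⟩ := h X' p₁ p₂ H 𝒥 h𝒥
  refine ⟨h1, ⟨fun y => ?_⟩, h2, h3, h4⟩
  obtain ⟨η, hη, hmax⟩ := H8ProCons.exists_maximal_specializes y
  obtain ⟨x, x', hxx, hx, hx'⟩ := (hf _ _ _ H.flip : Subtr.IsSSubtrusive p₂) hη
  have hx'' : x ∈ 𝒥.support :=
    hxx.mem_closed 𝒥.support.isClosed (h5 x' (hx' ▸ hmax))
  obtain ⟨z, hz⟩ := (Scheme.IdealSheafData.range_subschemeι 𝒥).ge hx''
  exact ⟨z, by rw [Scheme.Hom.comp_apply, hz, hx]⟩

end Groth.Agent.S14793
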