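import Groth.Statements.S14794
import Groth.Agent.FEtDesc.Submersive
import Groth.Agent.FEtDesc.Radicial
-- import your own Groth.Agent.* helpers here

set_option autoImplicit false
set_option backward.isDefEq.respectTransparency false
set_option backward.isDefEq.respectTransparency.types false
universe u
open CategoryTheory CategoryTheory.Limits AlgebraicGeometry
open Subtr

namespace Groth.Agent.S14794

open Groth.Agent

lemma agree_residue {T T' X : Scheme.{u}} {p : T' ⟶ T} {f' : T' ⟶ X}
    (heq : ∀ (W : Scheme.{u}) [IsReduced W] (w : W ⟶ pullback p p),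
      w ≫ pullback.fst p p ≫ f' = w ≫ pullback.snd p p ≫ f') (w : ↥(pullback p p)) :
    (pullback p p).fromSpecResidueField w ≫ pullback.fst p p ≫ f' =
      (pullback p p).fromSpecResidueField w ≫ pullback.snd p p ≫ f' :=
  heq _ _

lemma point_eq {A B : Scheme.{u}} (a b : A ⟶ B) (x : A)
    (h : A.fromSpecResidueField x ≫ a = A.fromSpecResidueField x ≫ b) : a x = b x := by
  have hx := congrArg (fun φ : Spec (A.residueField x) ⟶ B => φ (IsLocalRing.closedPoint (A.residueField x))) h
  simpa using hx

lemma isUnivHomeo_of_uc {A B : Scheme.{u}} (u : A ⟶ B) [UniversallyClosed u] [UniversallyInjective u]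
    [Surjective u] : FlatMor.IsUnivHomeo u := by
  intro X' Y' i₁ i₂ f' h
  have h1 : UniversallyClosed f' := MorphismProperty.of_isPullback h.flip ‹_›
  have h2 : UniversallyInjective f' := MorphismProperty.of_isPullback h.flip ‹_›
  have h3 : Surjective f' := MorphismProperty.of_isPullback h.flip ‹_›
  show IsHomeomorph f'.base
  rw [isHomeomorph_iff_continuous_isClosedMap_bijective]
  exact ⟨f'.continuous, f'.isClosedMap, f'.injective, f'.surjective⟩

/-- Let X ⟶ S be a quasi-separated morphism of schemes, T ⟶ S an S-scheme, p : T' ⟶ T a quasi-compact,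
quasi-separated and universally submersive morphism, and f' : T' ⟶ X an S-morphism whose composites
with the two projections T' ×_T T' ⟶ T' agree on every reduced scheme mapping to T' ×_T T' (that is,
they agree on the reduction of T' ×_T T'). Then there are a scheme T₁ and a factorization p = q ≫ u
with q : T' ⟶ T₁ schematically dominant (injective on sections) and u : T₁ ⟶ T a separated universal
homeomorphism, together with an S-morphism f₁ : T₁ ⟶ X with q ≫ f₁ = f'. In particular f' descends
to T as soon as every such factorization of p has u an isomorphism (p weakly normal). (This is the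
factorization produced by the proof of the descent of morphisms along weakly normal morphisms. The
published remark is for algebraic spaces X with X ⟶ S locally separated and also asserts that the
factorization can be chosen minimal; this row is the case of schemes, which are locally separated,
without the minimality.) -/
theorem result {S X T T' : Scheme.{u}}
    (πX : X ⟶ S) [QuasiSeparated πX] (t : T ⟶ S) (p : T' ⟶ T) [QuasiCompact p] [QuasiSeparated p]
    (hp : SGA1.UnivSubmersive p) (f' : T' ⟶ X) (hf' : f' ≫ πX = p ≫ t)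
    (heq : ∀ (W : Scheme.{u}) [IsReduced W] (w : W ⟶ pullback p p),
      w ≫ pullback.fst p p ≫ f' = w ≫ pullback.snd p p ≫ f') :
    ∃ (T₁ : Scheme.{u}) (q : T' ⟶ T₁) (u : T₁ ⟶ T) (f₁ : T₁ ⟶ X), q ≫ u = p ∧
      (∀ U : T₁.Opens, Function.Injective (q.app U).hom) ∧ FlatMor.IsUnivHomeo u ∧ IsSeparated u ∧
      q ≫ f₁ = f' ∧ f₁ ≫ πX = u ≫ t := by
  let π₁ := pullback.fst t πX
  let π₂ := pullback.snd t πX
  let m : T' ⟶ pullback t πX := pullback.lift p f' hf'.symm
  have hps : Surjective p := FEtDesc.surjective_of_univSubmersive hp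
  -- opens of `X` saturate
  have hpt : ∀ a b : T', p a = p b → f' a = f' b := fun a b hab => by
    obtain ⟨w, hw1, hw2⟩ := Scheme.exists_preimage_of_isPullback (IsPullback.of_hasPullback p p) a b hab
    have := point_eq _ _ w (agree_residue heq w)
    rwa [Scheme.Hom.comp_apply, Scheme.Hom.comp_apply, hw1, hw2] at this
  have hV : ∀ W : X.affineOpens, IsOpen (p '' (f' ⁻¹' (W.1 : Set X))) := fun W => by
    rw [← (FEtDesc.isQuotientMap_of_univSubmersive hp).isOpen_preimage]
    convert (f' ⁻¹ᵁ W.1).2 using 1
    ext a
    exact ⟨fun ⟨b, hb, hab⟩ => show f' a ∈ W.1 from hpt b a hab ▸ hb, fun ha => ⟨a, ha, rfl⟩⟩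
  let OW : X.affineOpens → (pullback t πX).Opens := fun W =>
    π₁ ⁻¹ᵁ ⟨_, hV W⟩ ⊓ π₂ ⁻¹ᵁ W.1
  let O : (pullback t πX).Opens := ⨆ W, OW W
  have hm1 : ∀ a, π₁ (m a) = p a := fun a => by rw [← Scheme.Hom.comp_apply, pullback.lift_fst]
  have hm2 : ∀ a, π₂ (m a) = f' a := fun a => by rw [← Scheme.Hom.comp_apply, pullback.lift_snd]
  have hmO : Set.range m ⊆ Set.range O.ι := by
    rw [Scheme.Opens.range_ι]
    rintro _ ⟨a, rfl⟩
    obtain ⟨_, ⟨W, hW, rfl⟩, haW, -⟩ :=
      X.isBasis_affineOpens.exists_subset_of_mem_open (Set.mem_univ (f' a)) isOpen_univ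
    refine (le_iSup OW ⟨W, hW⟩ : OW ⟨W, hW⟩ ≤ O) ⟨?_, ?_⟩
    · show π₁ (m a) ∈ p '' _
      rw [hm1]; exact ⟨a, haW, rfl⟩
    · show π₂ (m a) ∈ W
      rw [hm2]; exact haW
  let mO : T' ⟶ (O : Scheme.{u}) := IsOpenImmersion.lift O.ι m hmO
  have hmOι : mO ≫ O.ι = m := IsOpenImmersion.lift_fac _ _ _
  -- the image is closed in `O`
  let ψ := pullback.fst π₁ p
  let pr := pullback.snd π₁ p
  have hψ : SGA1.UnivSubmersive ψ := MorphismProperty.pullback_fst _ _ hp
  let g : T' ⟶ pullback π₁ p := pullback.lift m (𝟙 T') (by rw [Category.id_comp, pullback.lift_fst])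
  have hgψ : ψ ⁻¹' Set.range m = Set.range g := by
    ext z
    refine ⟨fun ⟨a, ha⟩ => ?_, ?_⟩
    · let h : pullback p p ⟶ pullback π₁ p :=
        pullback.lift (pullback.fst _ _ ≫ m) (pullback.snd _ _)
          (by rw [Category.assoc, pullback.lift_fst, pullback.condition])
      have sq : IsPullback (pullback.fst p p) h m ψ := by
        have hr : IsPullback (pullback.fst p p) (h ≫ pr) (m ≫ π₁) p := by
          simpa [h, pr, m, π₁] using IsPullback.of_hasPullback p p
        exact IsPullback.of_bot hr (pullback.lift_fst _ _ _).symm (IsPullback.of_hasPullback π₁ p)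
      obtain ⟨w, -, rfl⟩ := Scheme.exists_preimage_of_isPullback sq a z ha
      have : h w = (pullback.snd p p ≫ g) w := by
        refine point_eq _ _ w ?_
        apply pullback.hom_ext
        · apply pullback.hom_ext
          · simp only [h, g, m, Category.assoc, pullback.lift_fst, pullback.lift_fst_assoc,
              pullback.condition]
          · simp only [h, g, m, Category.assoc, pullback.lift_fst_assoc, pullback.lift_snd]
            exact agree_residue heq w
        · simp [h, g]
      rw [this]
      exact ⟨_, rfl⟩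
    · rintro ⟨a, rfl⟩
      exact ⟨a, by rw [← Scheme.Hom.comp_apply g ψ, pullback.lift_fst]⟩
  have hclosed : IsClosed (Set.range mO) := by
    have e : Set.range mO = O.ι ⁻¹' Set.range m := by
      refine Set.Subset.antisymm ?_ ?_
      · rintro _ ⟨a, rfl⟩
        exact ⟨a, by rw [← hmOι]; rfl⟩
      · rintro z ⟨a, ha⟩
        exact ⟨a, O.ι.isOpenEmbedding.injective (by rw [← ha, ← hmOι]; rfl)⟩
    rw [e]
    have hloc : ∀ W, IsClosed (Subtype.val ⁻¹' Set.range m : Set (OW W : Set ↥(pullback t πX))) := fun W => by
      rw [← ((FEtDesc.isQuotientMap_of_univSubmersive hψ).restrictPreimage_isOpen (OW W).2).isClosed_preimage]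
      haveI : IsAffine (W.1 : Scheme.{u}) := W.2
      let Q := ψ ⁻¹ᵁ OW W
      have hQ1 : Set.range (Q.ι ≫ ψ ≫ π₂) ⊆ Set.range W.1.ι := by
        rw [Scheme.Opens.range_ι]
        rintro _ ⟨z, rfl⟩
        exact z.2.2
      have hQ2 : Set.range (Q.ι ≫ pr ≫ f') ⊆ Set.range W.1.ι := by
        rw [Scheme.Opens.range_ι]
        rintro _ ⟨z, rfl⟩
        obtain ⟨b, hb, hbz⟩ := z.2.1
        have hpz : p (pr z.1) = π₁ (ψ z.1) := by
          rw [← Scheme.Hom.comp_apply, ← Scheme.Hom.comp_apply, pullback.condition]
        exact (hpt b (pr z.1) (hbz.trans hpz.symm)) ▸ hb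
      let α := IsOpenImmersion.lift W.1.ι _ hQ1
      let β := IsOpenImmersion.lift W.1.ι _ hQ2
      haveI : IsSeparated (W.1.ι ≫ πX) := inferInstance
      have hαβ : α ≫ W.1.ι ≫ πX = β ≫ W.1.ι ≫ πX := by
        simp only [α, β, IsOpenImmersion.lift_fac_assoc, Category.assoc]
        rw [hf', ← pullback.condition, pullback.condition_assoc]
      let δ := pullback.lift α β hαβ
      let e := pullback.fst δ (pullback.diagonal (W.1.ι ≫ πX))
      have hrange : (OW W : Set ↥(pullback t πX)).restrictPreimage ψ ⁻¹' (Subtype.val ⁻¹' Set.range m) =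
          Set.range e := by
        ext ⟨z, hz⟩
        change ψ z ∈ Set.range m ↔ _
        rw [← Set.mem_preimage, hgψ]
        constructor
        · rintro ⟨a, rfl⟩
          let Wa := g ⁻¹ᵁ Q
          let l : (Wa : Scheme.{u}) ⟶ (Q : Scheme.{u}) := g ∣_ Q
          have hl : l ≫ α = l ≫ β := by
            rw [← cancel_mono W.1.ι]
            simp only [α, β, Category.assoc, IsOpenImmersion.lift_fac, l, morphismRestrict_ι_assoc, g, ψ, pr,
              pullback.lift_fst_assoc, pullback.lift_snd_assoc, m, pullback.lift_snd, Category.id_comp, π₂]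
          have hd : l ≫ δ = (l ≫ α) ≫ pullback.diagonal (W.1.ι ≫ πX) := by
            apply pullback.hom_ext
            · simp [δ]
            · simp [δ, hl]
          refine ⟨pullback.lift l (l ≫ α) hd ⟨a, hz⟩, ?_⟩
          rw [← Scheme.Hom.comp_apply, pullback.lift_fst]
          exact Subtype.ext (congr($(morphismRestrict_ι g Q) ⟨a, hz⟩))
        · rintro ⟨v, hv⟩
          have hv' : z = (e ≫ Q.ι) v := congrArg Subtype.val hv.symm
          have : e ≫ Q.ι = (e ≫ Q.ι ≫ pr) ≫ g := by
            have hαe : e ≫ α = e ≫ β := by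
              have h0 : e ≫ δ = _ := pullback.condition
              have h1 := congrArg (· ≫ pullback.fst _ _) h0
              have h2 := congrArg (· ≫ pullback.snd _ _) h0
              simp only [δ, Category.assoc, pullback.lift_fst, pullback.lift_snd, pullback.diagonal_fst,
                pullback.diagonal_snd, Category.comp_id] at h1 h2
              rw [h1, h2]
            apply pullback.hom_ext
            · apply pullback.hom_ext
              · simp only [g, m, Category.assoc, pullback.lift_fst, pullback.lift_fst_assoc]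
                rw [pullback.condition]
              · simp only [g, m, Category.assoc, pullback.lift_fst_assoc, pullback.lift_snd]
                have := congrArg (· ≫ W.1.ι) hαe
                simpa [α, β] using this
            · simp [g, pr]
          rw [hv', this]
          exact ⟨_, rfl⟩
      refine (congrArg IsClosed hrange).mpr ?_
      exact e.isClosedEmbedding.isClosed_range
    rw [← isOpen_compl_iff, isOpen_iff_forall_mem_open]
    intro z hz
    obtain ⟨W, hW⟩ := TopologicalSpace.Opens.mem_iSup.1 z.2
    obtain ⟨C, hC, hCe⟩ := isOpen_induced_iff.1 (hloc W).isOpen_compl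
    refine ⟨O.ι ⁻¹' (C ∩ OW W), fun y hy hy' => ?_, (hC.inter (OW W).2).preimage O.ι.continuous, ?_, hW⟩
    · exact (hCe.le (show (⟨O.ι y, hy.2⟩ : (OW W : Set _)) ∈ Subtype.val ⁻¹' C from hy.1)) hy'
    · exact hCe.ge (show (⟨O.ι z, hW⟩ : (OW W : Set _)) ∈ (Subtype.val ⁻¹' Set.range m)ᶜ from hz)
  -- the factorisation
  haveI : QuasiSeparated (O.ι ≫ π₁) := inferInstance
  haveI : QuasiCompact (mO ≫ O.ι ≫ π₁) := by
    rw [reassoc_of% hmOι, pullback.lift_fst]
    infer_instance
  haveI : QuasiCompact mO := QuasiCompact.of_comp mO (O.ι ≫ π₁)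
  let q := mO.toImage
  let u := mO.imageι ≫ O.ι ≫ π₁
  have hqu : q ≫ u = p := by
    simp only [q, u]
    rw [Scheme.Hom.toImage_imageι_assoc, reassoc_of% hmOι, pullback.lift_fst]
  have hqf : q ≫ mO.imageι ≫ O.ι ≫ π₂ = f' := by
    simp only [q]
    rw [Scheme.Hom.toImage_imageι_assoc, reassoc_of% hmOι, pullback.lift_snd]
  haveI : Surjective q := ⟨fun y => by
    have hy : mO.imageι y ∈ closure (Set.range mO) :=
      (Scheme.IdealSheafData.range_subschemeι _).trans (Scheme.Hom.support_ker mO) |>.le ⟨y, rfl⟩
    rw [hclosed.closure_eq] at hy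
    obtain ⟨a, ha⟩ := hy
    exact ⟨a, mO.imageι.isEmbedding.injective (by rw [← Scheme.Hom.comp_apply, Scheme.Hom.toImage_imageι, ha])⟩⟩
  haveI : Surjective u := by
    haveI : Surjective (q ≫ u) := hqu ▸ hps
    exact Surjective.of_comp q u
  have hkey : ∀ w : ↥(pullback p p), (pullback p p).fromSpecResidueField w ≫ pullback.fst p p ≫ q =
      (pullback p p).fromSpecResidueField w ≫ pullback.snd p p ≫ q := fun w => by
    simp only [q, ← cancel_mono mO.imageι, Category.assoc, Scheme.Hom.toImage_imageι]
    simp only [← cancel_mono O.ι, Category.assoc, hmOι, m]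
    apply pullback.hom_ext
    · simp only [Category.assoc, pullback.lift_fst, pullback.condition]
    · simp only [Category.assoc, pullback.lift_snd]
      exact agree_residue heq w
  haveI : UniversallyInjective u := by
    refine (UniversallyInjective.iff_diagonal u).2 ⟨fun z => ?_⟩
    let qq : pullback p p ⟶ pullback u u := pullback.map p p u u q q (𝟙 T) (by simp [hqu]) (by simp [hqu])
    haveI : Surjective qq :=
      MorphismProperty.pullbackMap (P := @Surjective.{u}) ‹Surjective q› ‹Surjective q› hqu.symm hqu.symm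
    obtain ⟨w, rfl⟩ := qq.surjective z
    refine ⟨(pullback.fst p p ≫ q) w, ?_⟩
    rw [← Scheme.Hom.comp_apply]
    refine point_eq _ _ w ?_
    apply pullback.hom_ext
    · simp [qq]
    · simp [qq, hkey w]
  haveI : UniversallyClosed u := by
    let s : T' ⟶ pullback u p := pullback.lift q (𝟙 T') (by rw [hqu, Category.id_comp])
    haveI : Surjective s := ⟨fun z => by
      let q1 : pullback p p ⟶ pullback u p := pullback.map p p u p q (𝟙 T') (𝟙 T) (by simp [hqu]) (by simp)
      haveI : Surjective q1 :=
        MorphismProperty.pullbackMap (P := @Surjective.{u}) ‹Surjective q› (inferInstanceAs (Surjective (𝟙 T')))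
          hqu.symm (Category.id_comp p).symm
      obtain ⟨w, rfl⟩ := q1.surjective z
      refine ⟨pullback.snd p p w, ?_⟩
      rw [← Scheme.Hom.comp_apply]
      refine point_eq _ _ w ?_
      apply pullback.hom_ext
      · simp [q1, s, hkey w]
      · simp [q1, s]⟩
    haveI : UniversallyClosed (s ≫ pullback.snd u p) := by
      rw [show s ≫ pullback.snd u p = 𝟙 T' from pullback.lift_snd _ _ _]
      infer_instance
    haveI : UniversallyClosed (pullback.snd u p) := UniversallyClosed.of_comp_surjective s _
    exact FEtDesc.universallyClosed_of_isPullback (IsPullback.of_hasPullback u p) hp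
  refine ⟨_, q, u, mO.imageι ≫ O.ι ≫ π₂, hqu, fun U => ?_, isUnivHomeo_of_uc u,
    FEtDesc.isSeparated_of_universallyInjective u, hqf, ?_⟩
  · exact (TopCat.Presheaf.app_injective_iff_stalkFunctor_map_injective (F := mO.image.sheaf) mO.toImage.c).1
      mO.stalkFunctor_toImage_injective U
  · simp only [u, π₁, π₂, Category.assoc, pullback.condition]


end Groth.Agent.S14794
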