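import Groth.Statements.S14795
import Groth.Agent.UnivHomeo.Scheme

set_option autoImplicit false
universe u
open CategoryTheory CategoryTheory.Limits AlgebraicGeometry
open Subtr

namespace Groth.Agent.S14795

open scoped TensorProduct

/-- Let A ⊆ B be an integral ring extension and C ⊆ B the weak subintegral closure of A in B, that is
the largest A-subalgebra C of B such that Spec C ⟶ Spec A is a universal homeomorphism (C is
characterised here by that maximality). Then b ∈ B lies in C if and only if b ⊗ 1 − 1 ⊗ b is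
nilpotent in B ⊗_A B (b ⊗ 1 = 1 ⊗ b in the reduction of B ⊗_A B). -/
theorem result {A B : Type u} [CommRing A] [CommRing B]
    [Algebra A B] (hinj : Function.Injective (algebraMap A B)) [Algebra.IsIntegral A B]
    (C : Subalgebra A B) (hC : FlatMor.IsUnivHomeo (Spec.map (CommRingCat.ofHom (algebraMap A C))))
    (hmax : ∀ D : Subalgebra A B, FlatMor.IsUnivHomeo (Spec.map (CommRingCat.ofHom (algebraMap A D))) → D ≤ C) (b : B) :
    b ∈ C ↔ IsNilpotent (b ⊗ₜ[A] (1 : B) - (1 : B) ⊗ₜ[A] b) := by
  constructor
  · intro hb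
    obtain ⟨-, hrad, -⟩ := (UnivHomeo.isUnivHomeo_iff _).1 hC
    rw [nilpotent_iff_mem_prime]
    intro P hP
    let L := P.ResidueField
    let h : B ⊗[A] B →+* L := algebraMap _ L
    let g₁ : C →+* L := (h.comp (Algebra.TensorProduct.includeLeftRingHom)).comp C.val.toRingHom
    let g₂ : C →+* L :=
      (h.comp (Algebra.TensorProduct.includeRight : B →ₐ[A] B ⊗[A] B).toRingHom).comp C.val.toRingHom
    have e := hrad L g₁ g₂ (by
      ext a
      change h (algebraMap A B a ⊗ₜ 1) = h (1 ⊗ₜ algebraMap A B a)
      rw [Algebra.TensorProduct.tmul_one_eq_one_tmul])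
    have e' : h (b ⊗ₜ[A] (1 : B)) = h ((1 : B) ⊗ₜ[A] b) := RingHom.congr_fun e ⟨b, hb⟩
    rw [← Ideal.algebraMap_residueField_eq_zero]
    change h _ = 0
    rw [map_sub, e', sub_self]
  · intro hb
    let D := Algebra.adjoin A ({b} : Set B)
    refine hmax D ((UnivHomeo.isUnivHomeo_iff _).2 ⟨?_, ?_, ?_⟩) (Algebra.self_mem_adjoin_singleton A b)
    · intro d
      exact (Algebra.IsIntegral.adjoin fun x _ => Algebra.IsIntegral.isIntegral (R := A) x).isIntegral d
    · intro K _ g₁ g₂ hg
      let L := AlgebraicClosure K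
      letI : Algebra D B := (D.val.toRingHom).toAlgebra
      have hint : (D.val.toRingHom).IsIntegral := fun x =>
        IsIntegral.tower_top (R := A) (A := D) (Algebra.IsIntegral.isIntegral x)
      have hinj : Function.Injective D.val.toRingHom := Subtype.val_injective
      obtain ⟨G₁, hG₁⟩ := UnivHomeo.exists_extend D.val.toRingHom hint ((algebraMap K L).comp g₁)
        (by rw [(RingHom.injective_iff_ker_eq_bot _).1 hinj]; exact bot_le)
      obtain ⟨G₂, hG₂⟩ := UnivHomeo.exists_extend D.val.toRingHom hint ((algebraMap K L).comp g₂)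
        (by rw [(RingHom.injective_iff_ker_eq_bot _).1 hinj]; exact bot_le)
      letI : Algebra A L := (((algebraMap K L).comp g₁).comp (algebraMap A D)).toAlgebra
      let G₁' : B →ₐ[A] L := { toRingHom := G₁, commutes' := fun a => RingHom.congr_fun hG₁ (algebraMap A D a) }
      let G₂' : B →ₐ[A] L :=
        { toRingHom := G₂
          commutes' := fun a => by
            refine (RingHom.congr_fun hG₂ (algebraMap A D a)).trans ?_
            change algebraMap K L (g₂ (algebraMap A D a)) = algebraMap K L (g₁ (algebraMap A D a))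
            exact congrArg _ (RingHom.congr_fun hg a).symm }
      have h0 := (hb.map (Algebra.TensorProduct.lift G₁' G₂' fun _ _ => Commute.all _ _)).eq_zero
      rw [map_sub, Algebra.TensorProduct.lift_tmul, Algebra.TensorProduct.lift_tmul, map_one, map_one,
        one_mul, mul_one, sub_eq_zero] at h0
      have hbD : (⟨b, Algebra.self_mem_adjoin_singleton A b⟩ : D) ∈ RingHom.eqLocus g₁ g₂ := by
        apply (algebraMap K L).injective
        have e1 := RingHom.congr_fun hG₁ ⟨b, Algebra.self_mem_adjoin_singleton A b⟩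
        have e2 := RingHom.congr_fun hG₂ ⟨b, Algebra.self_mem_adjoin_singleton A b⟩
        exact (e1.symm.trans (h0 : G₁ b = G₂ b)).trans e2
      refine RingHom.ext fun ⟨d, hd⟩ => ?_
      induction hd using Algebra.adjoin_induction with
      | mem x hx => obtain rfl := hx; exact hbD
      | algebraMap r => exact RingHom.congr_fun hg r
      | add x y hx hy h1 h2 =>
        exact (map_add g₁ ⟨x, hx⟩ ⟨y, hy⟩).trans ((congrArg₂ (· + ·) h1 h2).trans (map_add g₂ ⟨x, hx⟩ ⟨y, hy⟩).symm)
      | mul x y hx hy h1 h2 =>
        exact (map_mul g₁ ⟨x, hx⟩ ⟨y, hy⟩).trans ((congrArg₂ (· * ·) h1 h2).trans (map_mul g₂ ⟨x, hx⟩ ⟨y, hy⟩).symm)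
    · intro a ha
      have : algebraMap A B a = 0 := congrArg Subtype.val (ha : algebraMap A D a = 0)
      rw [hinj (this.trans (map_zero _).symm)]
      exact Ideal.zero_mem _

end Groth.Agent.S14795
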