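import Groth.Statements.S14796
import Groth.Agent.S14795
import Groth.Agent.UnivHomeo.Scheme
import Groth.Agent.HenselLib.EtaleReduced
import Mathlib.RingTheory.Smooth.IntegralClosure
import Mathlib.RingTheory.LocalProperties.Reduced
-- import your own Groth.Agent.* helpers here

set_option autoImplicit false
universe u
open CategoryTheory CategoryTheory.Limits AlgebraicGeometry
open Subtr

namespace Groth.Agent.S14796

open scoped TensorProduct
open Groth.Agent

instance : FlatMor.IsUnivHomeo.{u}.IsStableUnderBaseChange :=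
  MorphismProperty.universally_isStableUnderBaseChange _

/-- The weak subintegral closure seen inside the integral closure. -/
lemma mem_iff_nilpotent {A B : Type u} [CommRing A] [CommRing B] [Algebra A B]
    (hinj : Function.Injective (algebraMap A B))
    (C : Subalgebra A B) (hC : FlatMor.IsUnivHomeo (Spec.map (CommRingCat.ofHom (algebraMap A C))))
    (hmax : ∀ D : Subalgebra A B, FlatMor.IsUnivHomeo (Spec.map (CommRingCat.ofHom (algebraMap A D))) → D ≤ C) :
    C ≤ integralClosure A B ∧ ∀ b : integralClosure A B,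
      (b : B) ∈ C ↔ IsNilpotent (b ⊗ₜ[A] (1 : integralClosure A B) - (1 : integralClosure A B) ⊗ₜ[A] b) := by
  have hle : C ≤ integralClosure A B := fun c hc => by
    obtain ⟨hint, -, -⟩ := (UnivHomeo.isUnivHomeo_iff _).1 hC
    exact (show IsIntegral A (⟨c, hc⟩ : C) from hint ⟨c, hc⟩).map C.val
  refine ⟨hle, fun b => ?_⟩
  haveI : Algebra.IsIntegral A (integralClosure A B) := IsIntegralClosure.isIntegral_algebra A B
  let e : C.comap (integralClosure A B).val ≃ₐ[A] C :=
    AlgEquiv.ofBijective
      (((integralClosure A B).val.comp (C.comap (integralClosure A B).val).val).codRestrict C fun x => x.2)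
      ⟨fun x y h => Subtype.ext (Subtype.ext (congrArg Subtype.val h :)),
        fun c => ⟨⟨⟨c.1, hle c.2⟩, c.2⟩, rfl⟩⟩
  have key := S14795.result (A := A) (B := integralClosure A B)
    (fun x y h => hinj (congrArg Subtype.val h :)) (C.comap (integralClosure A B).val) ?_ ?_ b
  · exact key
  · have hh : CommRingCat.ofHom (algebraMap A (C.comap (integralClosure A B).val)) =
        CommRingCat.ofHom (algebraMap A C) ≫ e.symm.toRingEquiv.toCommRingCatIso.hom := by
      refine CommRingCat.hom_ext (RingHom.ext fun a => ?_)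
      exact (e.symm.commutes a).symm
    rw [hh, Spec.map_comp]
    exact ((FlatMor.IsUnivHomeo).cancel_left_of_respectsIso _ _).2 hC
  · intro D hD
    let e' : D ≃ₐ[A] D.map (integralClosure A B).val :=
      D.equivMapOfInjective _ Subtype.val_injective
    refine fun d hd => hmax (D.map (integralClosure A B).val) ?_ (Subalgebra.mem_map.2 ⟨d, hd, rfl⟩)
    have hh : CommRingCat.ofHom (algebraMap A (D.map (integralClosure A B).val)) =
        CommRingCat.ofHom (algebraMap A D) ≫ e'.toRingEquiv.toCommRingCatIso.hom := by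
      refine CommRingCat.hom_ext (RingHom.ext fun a => ?_)
      exact (e'.commutes a).symm
    rw [hh, Spec.map_comp]
    exact ((FlatMor.IsUnivHomeo).cancel_left_of_respectsIso _ _).2 hD

lemma isReduced_tensor {A R A' : Type u} [CommRing A] [CommRing R] [CommRing A'] [Algebra A R] [Algebra A A']
    [IsReduced R] (hA' : (∃ M : Submonoid A, IsLocalization M A') ∨ Algebra.Etale A A') :
    IsReduced (A' ⊗[A] R) := by
  suffices IsReduced (R ⊗[A] A') from
    isReduced_of_injective (Algebra.TensorProduct.comm A A' R) (Algebra.TensorProduct.comm A A' R).injective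
  rcases hA' with ⟨M, hM⟩ | hE
  · exact isReduced_localizationPreserves (Algebra.algebraMapSubmonoid R M) (R ⊗[A] A') inferInstance
  · exact HenselLib.isReduced_of_etale R (R ⊗[A] A')

lemma mem_range_of_nilpotent {A A' B₀ : Type u} [CommRing A] [CommRing A'] [CommRing B₀] [Algebra A A']
    [Algebra A B₀] [Module.Flat A A'] (hA' : (∃ M : Submonoid A, IsLocalization M A') ∨ Algebra.Etale A A')
    {M : Type u} [AddCommGroup M] [Module A M] (inc : M →ₗ[A] B₀)
    (hinc : ∀ b, b ∈ Set.range inc ↔ IsNilpotent (b ⊗ₜ[A] (1 : B₀) - (1 : B₀) ⊗ₜ[A] b))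
    (w : A' ⊗[A] B₀) (hw : IsNilpotent (w ⊗ₜ[A'] (1 : A' ⊗[A] B₀) - (1 : A' ⊗[A] B₀) ⊗ₜ[A'] w)) :
    ∃ z, inc.lTensor A' z = w := by
  let N := nilradical (B₀ ⊗[A] B₀)
  let l : B₀ →ₐ[A] (B₀ ⊗[A] B₀) ⧸ N :=
    (Ideal.Quotient.mkₐ A N).comp Algebra.TensorProduct.includeLeft
  let r : B₀ →ₐ[A] (B₀ ⊗[A] B₀) ⧸ N :=
    (Ideal.Quotient.mkₐ A N).comp Algebra.TensorProduct.includeRight
  haveI : IsReduced ((B₀ ⊗[A] B₀) ⧸ N) :=
    (Ideal.isRadical_iff_quotient_reduced N).1 (Ideal.radical_isRadical _)
  haveI := isReduced_tensor (R := (B₀ ⊗[A] B₀) ⧸ N) hA'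
  let δ : B₀ →ₗ[A] (B₀ ⊗[A] B₀) ⧸ N := l.toLinearMap - r.toLinearMap
  have hex : Function.Exact inc δ := by
    intro b
    rw [hinc b, ← mem_nilradical, ← Ideal.Quotient.eq_zero_iff_mem, map_sub]
    rfl
  let G₁ : A' ⊗[A] B₀ →ₐ[A'] A' ⊗[A] ((B₀ ⊗[A] B₀) ⧸ N) := Algebra.TensorProduct.map (AlgHom.id A' A') l
  let G₂ : A' ⊗[A] B₀ →ₐ[A'] A' ⊗[A] ((B₀ ⊗[A] B₀) ⧸ N) := Algebra.TensorProduct.map (AlgHom.id A' A') r
  have := (hw.map (Algebra.TensorProduct.lift G₁ G₂ fun x y => mul_comm (G₁ x) (G₂ y))).eq_zero
  rw [map_sub, Algebra.TensorProduct.lift_tmul, Algebra.TensorProduct.lift_tmul, map_one, map_one,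
    one_mul, mul_one] at this
  refine ((Module.Flat.lTensor_exact A' hex) w).1 ?_
  rw [LinearMap.lTensor_sub]
  exact this

/-- Let A ⊆ B be a ring extension and A ⟶ A' a ring map that is a localization or étale; put B' = A' ⊗_A
B. Let C ⊆ B be the weak subintegral closure of A in B and C' ⊆ B' that of A' in B' (each the
largest subalgebra whose spectrum maps to the base by a universal homeomorphism, characterised here
by that maximality). Then C' is the image of A' ⊗_A C ⟶ A' ⊗_A B: the weak subintegral closure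
commutes with such base changes. -/
theorem result {A B A' : Type u} [CommRing A] [CommRing B]
    [CommRing A'] [Algebra A B] [Algebra A A'] (hinj : Function.Injective (algebraMap A B))
    (hA' : (∃ M : Submonoid A, IsLocalization M A') ∨ Algebra.Etale A A')
    (C : Subalgebra A B) (hC : FlatMor.IsUnivHomeo (Spec.map (CommRingCat.ofHom (algebraMap A C))))
    (hmax : ∀ D : Subalgebra A B, FlatMor.IsUnivHomeo (Spec.map (CommRingCat.ofHom (algebraMap A D))) → D ≤ C)
    (C' : Subalgebra A' (TensorProduct A A' B)) (hC' : FlatMor.IsUnivHomeo (Spec.map (CommRingCat.ofHom (algebraMap A' C'))))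
    (hmax' : ∀ D : Subalgebra A' (TensorProduct A A' B), FlatMor.IsUnivHomeo (Spec.map (CommRingCat.ofHom (algebraMap A' D))) → D ≤ C') :
    (C' : Set (TensorProduct A A' B)) =
      Set.range (Algebra.TensorProduct.map (AlgHom.id A A') C.val) := by
  classical
  haveI : Module.Flat A A' := by
    rcases hA' with ⟨M, hM⟩ | hE
    · exact IsLocalization.flat A' M
    · infer_instance
  have hbij : Function.Bijective (TensorProduct.toIntegralClosure A A' B) := by
    rcases hA' with ⟨M, hM⟩ | hE
    · exact TensorProduct.toIntegralClosure_bijective_of_isLocalization M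
    · exact TensorProduct.toIntegralClosure_bijective_of_smooth
  let ι : A' ⊗[A] C →ₐ[A'] A' ⊗[A] B := Algebra.TensorProduct.map (AlgHom.id A' A') C.val
  have hι : Function.Injective ι :=
    Module.Flat.lTensor_preserves_injective_linearMap (M := A') C.val.toLinearMap Subtype.val_injective
  have hrange : Set.range (Algebra.TensorProduct.map (AlgHom.id A A') C.val) = (ι.range : Set (A' ⊗[A] B)) := rfl
  rw [hrange]
  refine le_antisymm ?_ (hmax' ι.range ?_)
  · have hinj' : Function.Injective (algebraMap A' (A' ⊗[A] B)) := by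
      intro x y h
      apply (TensorProduct.rid A A').symm.injective
      apply Module.Flat.lTensor_preserves_injective_linearMap (M := A') (Algebra.linearMap A B) hinj
      simpa using h
    obtain ⟨hle, hmem⟩ := mem_iff_nilpotent hinj C hC hmax
    obtain ⟨hle', hmem'⟩ := mem_iff_nilpotent hinj' C' hC' hmax'
    intro x hx
    obtain ⟨w, hw⟩ := hbij.2 ⟨x, hle' hx⟩
    let B₀ := integralClosure A B
    let inc : C →ₗ[A] B₀ := (Subalgebra.inclusion hle).toLinearMap
    let φ := TensorProduct.toIntegralClosure A A' B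
    let e := AlgEquiv.ofBijective φ hbij
    have hnil := ((hmem' (φ w)).1 (by rw [hw]; exact hx)).map
      (Algebra.TensorProduct.map e.symm.toAlgHom e.symm.toAlgHom)
    have hew : e.symm (φ w) = w := e.symm_apply_apply w
    rw [map_sub, Algebra.TensorProduct.map_tmul, Algebra.TensorProduct.map_tmul, map_one,
      AlgEquiv.coe_toAlgHom, hew] at hnil
    obtain ⟨z, hz⟩ := mem_range_of_nilpotent (B₀ := B₀) hA' inc (fun b =>
      ⟨by rintro ⟨c, rfl⟩; exact (hmem _).1 c.2, fun hb => ⟨⟨b, (hmem b).2 hb⟩, rfl⟩⟩) w hnil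
    refine ⟨z, ?_⟩
    have hx' : x = (φ w : A' ⊗[A] B) := (congrArg Subtype.val hw).symm
    rw [hx', ← hz]
    show ι z = ((Algebra.TensorProduct.map (AlgHom.id A' A') B₀.val) (inc.lTensor A' z))
    clear hz
    induction z with
    | zero => simp
    | tmul a c => rfl
    | add a b ha hb =>
      rw [map_add, map_add, map_add]
      exact congrArg₂ (· + ·) ha hb
  · let e := AlgEquiv.ofInjective ι hι
    have hp := isPullback_SpecMap_of_isPushout _ _ _ _ (CommRingCat.isPushout_tensorProduct A A' C)
    have hb : FlatMor.IsUnivHomeo (Spec.map (CommRingCat.ofHom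
        (Algebra.TensorProduct.includeLeftRingHom : A' →+* A' ⊗[A] C))) :=
      MorphismProperty.of_isPullback hp.flip hC
    have hh : CommRingCat.ofHom (algebraMap A' ι.range) =
        CommRingCat.ofHom (Algebra.TensorProduct.includeLeftRingHom : A' →+* A' ⊗[A] C) ≫
          e.toRingEquiv.toCommRingCatIso.hom := by
      refine CommRingCat.hom_ext (RingHom.ext fun a => ?_)
      exact (e.commutes a).symm
    rw [hh, Spec.map_comp]
    exact ((FlatMor.IsUnivHomeo).cancel_left_of_respectsIso _ _).2 hb


end Groth.Agent.S14796
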