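import Groth.Statements.S1480
import Groth.Agent.FlatMorQF.Torsion

set_option autoImplicit false
universe u
open FlatMor

namespace Groth.Agent.S1480

open AlgebraicGeometry CategoryTheory Limits in
/-- Let f : X → S be flat, locally of finite presentation and locally quasi-finite, and g a nonzero
global function on X. Then there are affine opens V of X and U of S with f(V) ⊆ U and g nonzero on
V, an ideal F of O_S(U), a positive integer r and an injective O_S(U)-linear map from F^r to O_X(V)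
whose image contains the restriction of g to V. -/
theorem result {X S : Scheme.{u}} (f : X ⟶ S) [Flat f] [LocallyOfFinitePresentation f] [LocallyQuasiFinite f]
    (g : Γ(X, ⊤)) (hg : g ≠ 0) :
    ∃ (U : S.Opens) (hU : IsAffineOpen U) (V : X.Opens) (hV : IsAffineOpen V) (hVU : V ≤ f ⁻¹ᵁ U),
      X.presheaf.map (homOfLE le_top).op g ≠ (0 : Γ(X, V)) ∧
      ∃ (F : Ideal Γ(S, U)) (r : ℕ), 0 < r ∧
        letI := (f.appLE U V hVU).hom.toAlgebra
        ∃ φ : (Fin r → ↥F) →ₗ[Γ(S, U)] Γ(X, V), Function.Injective φ ∧ X.presheaf.map (homOfLE le_top).op g ∈ LinearMap.range φ := by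
  obtain ⟨x, hx⟩ : ∃ x : X, X.presheaf.germ ⊤ x trivial g ≠ 0 := by
    by_contra! h
    exact hg (TopCat.Presheaf.section_ext X.sheaf ⊤ g 0 fun x _ => (h x).trans (map_zero _).symm)
  obtain ⟨U, hU, hyU, -⟩ := exists_isAffineOpen_mem_and_subset (x := f x) (U := ⊤) trivial
  obtain ⟨V, hV, hxV, e⟩ := exists_isAffineOpen_mem_and_subset (x := x) (U := f ⁻¹ᵁ U) hyU
  let gV : Γ(X, V) := X.presheaf.map (homOfLE le_top).op g
  have hgV : gV ≠ 0 := fun h => hx (by
    rw [← TopCat.Presheaf.germ_res_apply X.presheaf (homOfLE (le_top : V ≤ ⊤)) x hxV g]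
    exact (congrArg (X.presheaf.germ V x hxV) h).trans (map_zero _))
  let _ := (f.appLE U V e).hom.toAlgebra
  have hqf : Algebra.QuasiFinite Γ(S, U) Γ(X, V) := LocallyQuasiFinite.quasiFinite_appLE (f := f) hU hV e
  have hfp : Algebra.FinitePresentation Γ(S, U) Γ(X, V) := f.finitePresentation_appLE hU hV e
  have hfl : Module.Flat Γ(S, U) Γ(X, V) := HasRingHomProperty.appLE @Flat f inferInstance ⟨U, hU⟩ ⟨V, hV⟩ e
  obtain ⟨s, hs, h⟩ := FlatMorQF.exists_localization_torsion_map (A := Γ(S, U)) gV hgV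
  let s' : Γ(X, V) := algebraMap Γ(S, U) Γ(X, V) s
  have he : X.basicOpen s' ≤ f ⁻¹ᵁ S.basicOpen s := by
    rw [show s' = f.appLE U V e s from rfl, Scheme.basicOpen_appLE]
    exact inf_le_right
  let _ : Algebra Γ(S, U) Γ(S, S.basicOpen s) := (S.presheaf.map (homOfLE (S.basicOpen_le s)).op).hom.toAlgebra
  let _ : Algebra Γ(X, V) Γ(X, X.basicOpen s') := (X.presheaf.map (homOfLE (X.basicOpen_le s')).op).hom.toAlgebra
  let _ : Algebra Γ(S, U) Γ(X, X.basicOpen s') := ((X.presheaf.map (homOfLE (X.basicOpen_le s')).op).hom.comp (f.appLE U V e).hom).toAlgebra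
  let _ : Algebra Γ(S, S.basicOpen s) Γ(X, X.basicOpen s') := (f.appLE _ _ he).hom.toAlgebra
  have : IsScalarTower Γ(S, U) Γ(S, S.basicOpen s) Γ(X, X.basicOpen s') := IsScalarTower.of_algebraMap_eq' (by
    show (f.appLE U V e ≫ X.presheaf.map (homOfLE (X.basicOpen_le s')).op).hom =
      (S.presheaf.map (homOfLE (S.basicOpen_le s)).op ≫ f.appLE (S.basicOpen s) (X.basicOpen s') he).hom
    rw [Scheme.Hom.appLE_map, Scheme.Hom.map_appLE])
  have : IsScalarTower Γ(S, U) Γ(X, V) Γ(X, X.basicOpen s') := IsScalarTower.of_algebraMap_eq' rfl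
  have := hU.isLocalization_basicOpen s
  have := hV.isLocalization_basicOpen s'
  obtain ⟨F, r, hr, φ, hφ, hgφ⟩ := h Γ(S, S.basicOpen s) Γ(X, X.basicOpen s')
  have hres : X.presheaf.map (homOfLE (le_top : X.basicOpen s' ≤ ⊤)).op g = algebraMap Γ(X, V) Γ(X, X.basicOpen s') gV :=
    (ConcreteCategory.congr_hom (X.presheaf.map_comp (homOfLE (le_top : V ≤ ⊤)).op (homOfLE (X.basicOpen_le s')).op) g)
  refine ⟨S.basicOpen s, hU.basicOpen s, X.basicOpen s', hV.basicOpen s', he, ?_, F, r, hr, φ, hφ, hres ▸ hgφ⟩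
  rw [hres]
  intro h0
  obtain ⟨⟨_, n, rfl⟩, hn⟩ := (IsLocalization.map_eq_zero_iff (Submonoid.powers s') _ gV).1 h0
  exact hs n (by rw [Algebra.smul_def, map_pow]; exact hn)

end Groth.Agent.S1480
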