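import Groth.Statements.S14800
import Groth.Agent.GraphLib.Contract

set_option autoImplicit false
universe u
open Finset
open LabGraph

namespace Groth.Agent.S14800

/-- Let (G, β) be a finite multigraph with a multiplicity function (each β(v) is a positive integer
dividing Σ_{w ≠ v} β(w)·#edges(v, w)) and let C be a connecting chain of G (distinct vertices v₀, …,
v_k and distinct edges e₁, …, e_k, e_i joining v_{i-1} and v_i, every e_i a connecting edge) such
that β is constant on the vertices of C. Let G' be the contraction of C (the vertices of C
identified to a single vertex, the edges of C removed) and β' the function it induces (β'([v]) =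
β(v)). Then (G', β') is again a multigraph with a multiplicity function. -/
theorem result {V E : Type u} [Fintype V] [Fintype E] [DecidableEq V] [DecidableEq E]
    (ends : E → V × V) (β : V → ℤ) (hβ : LabGraph.IsMultFn ends β)
    {k : ℕ} (f : Fin (k + 1) → V) (e : Fin k → E) (hC : LabGraph.IsChain ends f e)
    (hconn : ∀ i, LabGraph.IsConnecting ends (e i)) (hconst : ∀ i j, β (f i) = β (f j)) :
    LabGraph.IsMultFn (DualGr.ctrEnds ends (univ.image e))
      (LabGraph.ctrFn ends (univ.image e) β) := by
  refine (Groth.Agent.GraphLib.pushV_mulVec_pullback hβ ?_).1
  intro x hx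
  obtain ⟨j, -, rfl⟩ := Finset.mem_image.1 hx
  rcases hC.2.2 j with h | h <;> rw [h] <;> exact hconst _ _

end Groth.Agent.S14800
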