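import Groth.Statements.S14801
import Groth.Agent.GraphLib.Contract

set_option autoImplicit false
universe u
open Finset
open LabGraph

namespace Groth.Agent.S14801

/-- Let (G, β) be a finite multigraph with a multiplicity function and α its matrix (α_{vw} = #edges(v,
w) for v ≠ w, diagonal entries defined by Σ_w β(w) α_{vw} = 0); let L be a connecting chain of
length m (vertices v₀, …, v_m, edges e₁, …, e_m, each connecting) with β(v_i) = m and α_{v_i v_i} =
-2 for all i; let (G', β') be the contraction of L and f : ℤ^{V(G')} → ℤ^{V(G)} the map extending a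
vector by zero along the section of V(G) → V(G') that sends the contracted vertex to v₀. Then f
carries ker β' into ker β, and there is a map h : ℤ^{V(G')} → ℤ^{V(G)} with f ∘ α' = α ∘ h, so that
f induces a homomorphism of component groups ker β'/im α' → ker β/im α; this homomorphism is
surjective. -/
theorem result {V E : Type u} [Fintype V] [Fintype E] [DecidableEq V] [DecidableEq E]
    (ends : E → V × V) (β : V → ℤ) (hβ : LabGraph.IsMultFn ends β)
    (m : ℕ) (f : Fin (m + 1) → V) (e : Fin m → E) (hC : LabGraph.IsChain ends f e)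
    (hconn : ∀ i, LabGraph.IsConnecting ends (e i)) (hβm : ∀ i, β (f i) = m)
    (hα : ∀ i, LabGraph.mfMatrix ends β (f i) (f i) = -2) :
    ∃ φ : LabGraph.CompGrp (DualGr.ctrEnds ends (univ.image e)) (LabGraph.ctrFn ends (univ.image e) β) →+
        LabGraph.CompGrp ends β,
      Function.Surjective φ ∧
      ∀ (x : LinearMap.ker (LabGraph.betaHom (LabGraph.ctrFn ends (univ.image e) β)))
        (y : LinearMap.ker (LabGraph.betaHom β)),
        (y : V → ℤ) = LabGraph.liftAt ends (univ.image e) (f 0) (x : DualGr.CtrVert ends (univ.image e) → ℤ) →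
        φ (Submodule.Quotient.mk x) = Submodule.Quotient.mk y := by
  have h := Groth.Agent.GraphLib.chain_of hβ f e hC hconn hβm hα
  have e0 : f ⟨min 0 m, by omega⟩ = f 0 := congrArg f (Fin.ext (Nat.zero_min m))
  set D := Finset.univ.image e with hDdef
  let L : (DualGr.CtrVert ends D → ℤ) →ₗ[ℤ] (V → ℤ) :=
    { toFun := LabGraph.liftAt ends D (f 0)
      map_add' := fun a b => funext fun v => by
        simp only [LabGraph.liftAt, Pi.add_apply]; split_ifs <;> simp
      map_smul' := fun c a => funext fun v => by
        simp only [LabGraph.liftAt, Pi.smul_apply, RingHom.id_apply]; split_ifs <;> simp }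
  have hL : ∀ x, LabGraph.betaHom β (L x) = LabGraph.betaHom (LabGraph.ctrFn ends D β) x := fun x => by
    rw [← Groth.Agent.GraphLib.betaHom_pushV h.hD]
    congr 1
    have := h.push_lift x
    simp only [e0] at this
    exact this
  let L' := L.restrict (p := LinearMap.ker (LabGraph.betaHom (LabGraph.ctrFn ends D β)))
    (q := LinearMap.ker (LabGraph.betaHom β)) fun x hx => by
      rw [LinearMap.mem_ker] at hx ⊢; rw [hL, hx]
  let Φ := Submodule.mapQ
    ((LinearMap.range (Matrix.mulVecLin (LabGraph.mfMatrix (DualGr.ctrEnds ends D) (LabGraph.ctrFn ends D β)))).comap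
      (LinearMap.ker (LabGraph.betaHom (LabGraph.ctrFn ends D β))).subtype)
    ((LinearMap.range (Matrix.mulVecLin (LabGraph.mfMatrix ends β))).comap
      (LinearMap.ker (LabGraph.betaHom β)).subtype) L' (by
      rintro ⟨x, hx⟩ ⟨y, hy⟩
      have := h.lift_mem_range y
      simp only [e0] at this
      rw [Submodule.mem_comap, Submodule.mem_comap]
      change L x ∈ _
      rw [Matrix.mulVecLin_apply] at hy
      simp only [Submodule.subtype_apply] at hy
      rw [← hy]
      exact this)
  refine ⟨Φ.toAddMonoidHom, ?_, ?_⟩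
  · intro q
    obtain ⟨⟨y, hy⟩, rfl⟩ := Submodule.Quotient.mk_surjective _ q
    obtain ⟨x, z, hxz⟩ := h.exists_lift y
    simp only [e0] at hxz
    have hz : LabGraph.betaHom β ((LabGraph.mfMatrix ends β).mulVec z) = 0 := by
      rw [Groth.Agent.GraphLib.betaHom_apply]
      simp only [Matrix.mulVec, dotProduct, Finset.sum_mul]
      rw [Finset.sum_comm]
      refine Finset.sum_eq_zero fun j _ => ?_
      calc _ = z j * ∑ i, β i * LabGraph.mfMatrix ends β i j := by
            rw [Finset.mul_sum]; exact Finset.sum_congr rfl fun i _ => by ring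
        _ = 0 := by rw [Groth.Agent.GraphLib.mfMatrix_col hβ, mul_zero]
    have hx : x ∈ LinearMap.ker (LabGraph.betaHom (LabGraph.ctrFn ends D β)) := by
      rw [LinearMap.mem_ker] at hy ⊢
      rw [hxz, map_add, hz, add_zero] at hy
      rw [← hL]; exact hy
    refine ⟨Submodule.Quotient.mk ⟨x, hx⟩, ?_⟩
    change Submodule.Quotient.mk (L' ⟨x, hx⟩) = Submodule.Quotient.mk ⟨y, hy⟩
    rw [Submodule.Quotient.eq, Submodule.mem_comap]
    refine ⟨-z, ?_⟩
    change (LabGraph.mfMatrix ends β).mulVec (-z) = LabGraph.liftAt ends D (f 0) x - y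
    rw [Matrix.mulVec_neg, hxz]
    abel
  · intro x y hxy
    change Submodule.Quotient.mk (L' x) = Submodule.Quotient.mk y
    exact congrArg _ (Subtype.ext hxy.symm)

end Groth.Agent.S14801
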