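import Groth.Statements.S14804
import Groth.Agent.GraphLib.Tree

set_option autoImplicit false
universe u
open Finset
open LabGraph

namespace Groth.Agent.S14804

/-- In a connected finite multigraph G, a vertex v belongs to some cycle of G (here: v is an endpoint of
an edge of some circuit, a circuit being a minimal nonempty edge set meeting every vertex in an even
number of edge-ends, which includes loops and pairs of parallel edges) if and only if G has a
spanning tree T such that some edge outside T has v as an endpoint. (The published statement is for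
an arbitrary multigraph; when G is disconnected it has no spanning tree while a vertex may lie on a
cycle, so G is taken connected here, the case of dual graphs for which it is used.) -/
theorem result
    {V E : Type u} [Fintype V] [Fintype E] [DecidableEq V] [DecidableEq E]
    (ends : E → V × V) (hG : LabGraph.Connected ends) (v : V) :
    (∃ C : Finset E, LabGraph.IsCircuit ends C ∧ LabGraph.endCount ends C v ≠ 0) ↔
      ∃ T : Finset E, LabGraph.IsSpanningTree ends T ∧
        ∃ e : E, e ∉ T ∧ ((ends e).1 = v ∨ (ends e).2 = v) := by
  classical
  obtain ⟨r⟩ := hG.1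
  constructor
  · rintro ⟨C, hC, hv⟩
    obtain ⟨e, heC, he⟩ : ∃ e ∈ C, ((ends e).1 = v ∨ (ends e).2 = v) := by
      by_contra h
      push Not at h
      exact hv (Finset.sum_eq_zero fun e he => by simp [(h e he).1, (h e he).2])
    have hs : Groth.Agent.GraphLib.Spans ends (Finset.univ : Finset E) {r} := fun w =>
      ⟨r, Finset.mem_singleton_self r, Relation.ReflTransGen.mono
        (fun _ _ ⟨e, he⟩ => ⟨e, Finset.mem_univ e, he⟩) _ _ (hG.2 w r)⟩
    obtain ⟨T, hT, hgood⟩ :=
      (Groth.Agent.GraphLib.spans_erase hs (Finset.subset_univ C) heC hC.2.1).exists_good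
    exact ⟨T, (Groth.Agent.GraphLib.isSpanningTree_iff T r).2 hgood, e,
      fun h => (Finset.mem_erase.1 (hT h)).1 rfl, he⟩
  · rintro ⟨T, hT, e, heT, he⟩
    have hgood := (Groth.Agent.GraphLib.isSpanningTree_iff T r).1 hT
    have hna : ¬ Groth.Agent.GraphLib.Acyc ends (insert e T) := fun h => by
      have h1 := h.card_lt r
      have h2 := hgood.2
      rw [Finset.card_insert_of_notMem heT] at h1
      rw [Finset.card_singleton] at h2
      omega
    simp only [Groth.Agent.GraphLib.Acyc] at hna
    push Not at hna
    obtain ⟨C, hC, hne, hev⟩ := hna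
    obtain ⟨C', hC', hcirc⟩ := Groth.Agent.GraphLib.exists_circuit hne hev
    have heC : e ∈ C' := by
      by_contra h
      obtain ⟨u, hu⟩ := hgood.acyc C' (fun x hx =>
        (Finset.mem_insert.1 (hC (hC' hx))).resolve_left (fun hxe => h (hxe ▸ hx))) hcirc.1
      exact hu (hcirc.2.1 u)
    refine ⟨C', hcirc, fun h => ?_⟩
    have := (Finset.sum_eq_zero_iff.1 h) e heC
    rcases he with he | he <;> simp [he] at this

end Groth.Agent.S14804
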