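import Mathlib.LinearAlgebra.Matrix.Rank
import Mathlib.LinearAlgebra.Matrix.ToLin
import Mathlib.LinearAlgebra.Quotient.Basic
import Mathlib.Algebra.GCDMonoid.Finset
import Mathlib.SetTheory.Cardinal.Finite
import Mathlib.LinearAlgebra.Pi
import Mathlib.Algebra.Order.AbsoluteValue.Basic
import Mathlib.Algebra.BigOperators.Group.Finset.Basic
import Groth.Agent.CompLat16.Index

set_option autoImplicit false
namespace Finset
end Finset
open Finset
namespace CompLat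
end CompLat
open CompLat

namespace Groth.Agent.S14806

/-- Let n ≥ 1, let D, D' : ℤⁿ → ℤⁿ be given by diagonal matrices with nonzero diagonal entries, A : ℤⁿ →
ℤⁿ an integer matrix of rank n - 1, S : ℤⁿ → ℤ the sum of the coordinates and Δ : ℤ → ℤⁿ the
diagonal embedding, with S D A = 0 and A D' Δ = 0; let d, d' be the greatest common divisors of the
diagonal entries of D and of D' (dℤ = im(S D), d'ℤ = im(S D')). Then #(ker(S D)/im A) · |det D| ·
|det D'| = d d' · #(ker S/im(D A D')). -/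
theorem result (n : ℕ) (hn : 0 < n) (δ δ' : Fin n → ℤ) (hδ : ∀ i, δ i ≠ 0) (hδ' : ∀ i, δ' i ≠ 0)
    (A : Matrix (Fin n) (Fin n) ℤ) (hA : A.rank = n - 1)
    (hSDA : (∑ i : Fin n, (LinearMap.proj i : (Fin n → ℤ) →ₗ[ℤ] ℤ)) ∘ₗ
        (Matrix.mulVecLin (Matrix.diagonal δ)) ∘ₗ (Matrix.mulVecLin A) = 0)
    (hADΔ : (Matrix.mulVecLin A) ∘ₗ (Matrix.mulVecLin (Matrix.diagonal δ')) ∘ₗ
        (LinearMap.pi fun _ : Fin n => (LinearMap.id : ℤ →ₗ[ℤ] ℤ)) = 0) :
    (Nat.card (LinearMap.ker ((∑ i : Fin n, (LinearMap.proj i : (Fin n → ℤ) →ₗ[ℤ] ℤ)) ∘ₗ (Matrix.mulVecLin (Matrix.diagonal δ))) ⧸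
          (LinearMap.range (Matrix.mulVecLin A)).comap (LinearMap.ker ((∑ i : Fin n, (LinearMap.proj i : (Fin n → ℤ) →ₗ[ℤ] ℤ)) ∘ₗ (Matrix.mulVecLin (Matrix.diagonal δ)))).subtype) : ℤ) * |∏ i, δ i| * |∏ i, δ' i| =
      (univ.gcd δ) * (univ.gcd δ') * Nat.card (LinearMap.ker (∑ i : Fin n, (LinearMap.proj i : (Fin n → ℤ) →ₗ[ℤ] ℤ)) ⧸
          (LinearMap.range ((Matrix.mulVecLin (Matrix.diagonal δ)) ∘ₗ (Matrix.mulVecLin A) ∘ₗ (Matrix.mulVecLin (Matrix.diagonal δ')))).comap (LinearMap.ker (∑ i : Fin n, (LinearMap.proj i : (Fin n → ℤ) →ₗ[ℤ] ℤ))).subtype) := by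
  rw [CompLat16.card_quot_comap, CompLat16.card_quot_comap]
  have h1 := CompLat16.main hn δ hδ A hSDA
  have hAδ' : A.mulVec δ' = 0 := by
    have := LinearMap.congr_fun hADΔ 1
    simp only [LinearMap.comp_apply, LinearMap.zero_apply, Matrix.mulVecLin_apply] at this
    rwa [show (Matrix.diagonal δ').mulVec ((LinearMap.pi fun _ : Fin n => (LinearMap.id : ℤ →ₗ[ℤ] ℤ)) 1) = δ' from
      funext fun i => by simp [Matrix.mulVec_diagonal]] at this
  have h2 := CompLat16.twist hn δ δ' hδ hδ' A hA hAδ' (LinearMap.ker (CompLat16.S n)).toAddSubgroup (by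
    rintro _ ⟨x, rfl⟩
    exact LinearMap.congr_fun hSDA x)
  linear_combination |∏ i, δ' i| * h1 - (univ.gcd δ) * h2

end Groth.Agent.S14806
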