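import Groth.Statements.S14807
import Mathlib.RingTheory.Derivation.Basic
import Mathlib.RingTheory.Flat.Equalizer
import Mathlib.RingTheory.Henselian
import Mathlib.RingTheory.Regular.RegularSequence
import Mathlib.RingTheory.RegularLocalRing.Defs
import Mathlib.RingTheory.SimpleRing.Principal
import Mathlib.RingTheory.Flat.FaithfullyFlat.Algebra
import Mathlib.RingTheory.Ideal.AssociatedPrime.Basic
import Mathlib.RingTheory.HopkinsLevitzki
import Mathlib.RingTheory.Support
import Mathlib.Tactic
import Groth.Agent.CommAlg4.Basic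

set_option linter.all false

set_option autoImplicit false
universe u
open CAlg

open Groth.Agent.CommAlg4

namespace Groth.Agent.S14807

/-- Let G be a finite abelian group, written additively, and ℓ a prime number. Every sequence (g_n)_{n ≥
0} of elements of G with ℓ^n · g_n = 0 and ℓ · g_{n+1} = g_n for all n is identically zero; in other
words the inverse limit of the subgroups of ℓ^n-torsion elements, with transition maps
multiplication by ℓ, vanishes. -/
theorem result (G : Type u) [AddCommGroup G] [Finite G]
    (ℓ : ℕ) (hℓ : ℓ.Prime) (g : ℕ → G) (htor : ∀ n : ℕ, ℓ ^ n • g n = 0)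
    (hcomp : ∀ n : ℕ, ℓ • g (n + 1) = g n) (n : ℕ) : g n = 0 := by
  obtain ⟨v, c, hc, hcard⟩ := Nat.exists_eq_pow_mul_and_not_dvd (Nat.card_pos (α := G)).ne' ℓ hℓ.ne_one
  have hk : ∀ k, ℓ ^ k • g (n + k) = g n := by
    intro k; induction k with
    | zero => simp
    | succ k ih => rw [pow_succ, mul_smul, ← Nat.add_assoc, hcomp, ih]
  have h1 : c • g n = 0 := by
    rw [← hk v, smul_smul, mul_comm, ← hcard]; exact card_nsmul_eq_zero'
  have hco : (ℓ ^ n).Coprime c := ((Nat.Prime.coprime_iff_not_dvd hℓ).mpr hc).pow_left n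
  rw [← AddMonoid.addOrderOf_eq_one_iff]
  exact Nat.eq_one_of_dvd_coprimes hco (addOrderOf_dvd_of_nsmul_eq_zero (htor n)) (addOrderOf_dvd_of_nsmul_eq_zero h1)

end Groth.Agent.S14807
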