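import Groth.Statements.S14808
import Groth.Agent.PicLib.Invertible
open Groth.Agent.PicLib Groth.Agent.Coherent AlgebraicGeometry CategoryTheory

set_option autoImplicit false
universe u
open CategoryTheory CategoryTheory.Limits AlgebraicGeometry
open PicF

namespace Groth.Agent.S14808

/-- Let X be an integral scheme such that Γ(X, O_X) is a field and L an invertible O_X-module. If L has
a nonzero global section (a nonzero morphism O_X → L) and its dual has a nonzero global section (a
nonzero morphism L → O_X), then L is isomorphic to O_X. -/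
theorem result (X : Scheme.{u}) [IsIntegral X]
    (hfield : IsField (Γ(X, ⊤) : Type u)) (L : X.Modules) (hL : PicF.IsInvertible L)
    (s : Coh.structureModule X ⟶ L) (hs : s ≠ 0) (t : L ⟶ Coh.structureModule X) (ht : t ≠ 0) :
    Nonempty (L ≅ Coh.structureModule X) := by
  obtain ⟨U, g, hmem, hg⟩ := exists_cover hL
  have hU : iSup U = ⊤ := eq_top_iff.2 fun y _ => TopologicalSpace.Opens.mem_iSup.2 ⟨y, hmem y⟩
  let c : Γ(X, ⊤) := (s ≫ t).app ⊤ (1 : Γ(X, ⊤))
  let σ : ∀ y, Γ(X, U y) := fun y => (hg y).coef le_rfl (unitVal s (U y))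
  let τ : ∀ y, Γ(X, U y) := fun y => t.app (U y) (g y)
  have hσ : ∀ y, σ y • g y = unitVal s (U y) := fun y => by
    have := (hg y).coef_spec le_rfl (unitVal s (U y))
    rwa [resM_self] at this
  have hcy : ∀ y, res le_top c = σ y * τ y := fun y => by
    have h1 : res le_top c = (s ≫ t).app (U y) (1 : Γ(X, U y)) := (resM_unitVal (s ≫ t) le_top)
    rw [h1]
    show t.app (U y) (unitVal s (U y)) = _
    rw [← hσ y, Scheme.Modules.Hom.app_smul]
    rfl
  have hs1 : ∃ y, σ y ≠ 0 := by
    by_contra hc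
    push Not at hc
    refine hs (Scheme.Modules.hom_ext _ _ fun V => ConcreteCategory.hom_ext _ _ fun r => ?_)
    refine (app_unit s (show Γ(X, V) from r)).trans ?_
    have : unitVal s ⊤ = 0 := by
      refine TopCat.Sheaf.eq_of_locally_eq' (⟨L.presheaf, L.isSheaf⟩ : TopCat.Sheaf Ab X) U ⊤
        (fun y => homOfLE le_top) hU.ge _ _ fun y => ?_
      show resM L (le_top : U y ≤ ⊤) (unitVal s ⊤) = resM L le_top 0
      rw [resM_unitVal, ← hσ y, hc y, zero_smul, map_zero]
    rw [← resM_unitVal s (le_top : V ≤ ⊤), this, map_zero, smul_zero]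
    rfl
  have ht1 : ∃ y, τ y ≠ 0 := by
    by_contra hc
    push Not at hc
    refine ht (hom_ext_gen U hU g hg t 0 fun y => ?_)
    rw [show t.app (U y) (g y) = 0 from hc y]
    rfl
  obtain ⟨y, hy⟩ := hs1
  obtain ⟨z, hz⟩ := ht1
  have hne : ∀ y, Nonempty (U y : Scheme.{u}) := fun y => ⟨⟨y, hmem y⟩⟩
  have hW : ((U y : Set X) ∩ (U z : Set X)).Nonempty :=
    nonempty_preirreducible_inter (U y).2 (U z).2 ⟨y, hmem y⟩ ⟨z, hmem z⟩
  let W : X.Opens := U y ⊓ U z
  have : Nonempty (W : Scheme.{u}) := ⟨⟨hW.some, hW.some_mem⟩⟩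
  have hinj : ∀ (V : X.Opens) (h : W ≤ V), Function.Injective (res h) := fun V h => by
    have : Nonempty (V : Scheme.{u}) := ⟨⟨hW.some, h hW.some_mem⟩⟩
    exact map_injective_of_isIntegral X (homOfLE h)
  have hσW : res (inf_le_left : W ≤ U y) (σ y) ≠ 0 := fun h => hy (hinj _ _ (h.trans (map_zero _).symm))
  have hτW : res (inf_le_left : W ≤ U y) (τ y) ≠ 0 := by
    intro h
    apply hz
    apply hinj (U z) inf_le_right
    rw [map_zero]
    have e := congrArg (t.app W) ((hg y).coef_spec (inf_le_left : W ≤ U y) (resM L (inf_le_right : W ≤ U z) (g z)))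
    rw [Scheme.Modules.Hom.app_smul, app_resM, app_resM] at e
    refine e.symm.trans ?_
    show _ * res inf_le_left (τ y) = 0
    rw [h, mul_zero]
  have hc0 : c ≠ 0 := by
    intro h
    have e := congrArg (res (inf_le_left : W ≤ U y)) (hcy y)
    rw [h, map_zero, map_zero, map_mul] at e
    exact mul_ne_zero hσW hτW e.symm
  obtain ⟨d, hd⟩ := hfield.mul_inv_cancel hc0
  have hcu : IsUnit c := IsUnit.of_mul_eq_one _ hd
  have : IsIso s := by
    refine isIso_of_isGen s (isGen_of_cover U (fun _ => le_top) hU.ge fun y => ?_)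
    rw [resM_unitVal, ← hσ y]
    have hu : IsUnit (σ y) := isUnit_of_mul_isUnit_left (hcy y ▸ hcu.map (res (le_top : U y ≤ ⊤)))
    exact (hg y).smul_unit hu.unit
  exact ⟨(asIso s).symm⟩

end Groth.Agent.S14808
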