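import Groth.Statements.S14809
import Groth.Agent.AmpleLib.Ample
open Groth.Agent.PicLib Groth.Agent.Coherent Groth.Agent.AmpleLib
-- import your own Groth.Agent.* helpers here

set_option autoImplicit false
universe u
open CategoryTheory CategoryTheory.Limits AlgebraicGeometry
open PicF

namespace Groth.Agent.S14809

/-- Let X be an integral scheme such that Γ(X, O_X) is a field and L an invertible O_X-module with a
nonzero global section (a nonzero morphism O_X → L). If some tensor power L^{⊗d} with d ≥ 1 is
isomorphic to O_X, then L itself is isomorphic to O_X. -/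
theorem result (X : Scheme.{u}) [IsIntegral X]
    (hfield : IsField (Γ(X, ⊤) : Type u)) (L : X.Modules) (hL : PicF.IsInvertible L)
    (s : Coh.structureModule X ⟶ L) (hs : s ≠ 0) (d : ℕ) (hd : 0 < d)
    (htriv : Nonempty (CohB1.tensorPow L d ≅ Coh.structureModule X)) :
    Nonempty (L ≅ Coh.structureModule X) := by
  obtain ⟨e⟩ := htriv
  obtain ⟨n, rfl⟩ : ∃ n, d = n + 1 := ⟨d - 1, by omega⟩
  let a : Γ(L, ⊤) := unitVal s ⊤
  let c : Γ(X, ⊤) := e.hom.app ⊤ (powSec a (n + 1))
  have hc : X.basicOpen c = glocus L a := by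
    rw [← glocus_structureModule, ← glocus_powSec hL a n]
    exact glocus_map_iso e _
  have hne : glocus L a ≠ ⊥ := by
    intro hbot
    apply hs
    rw [← unitDesc_unitVal s]
    obtain ⟨U, g, hmem, hg⟩ := exists_cover hL
    have h0 : unitVal s ⊤ = 0 := by
      refine TopCat.Sheaf.eq_of_locally_eq' (⟨L.presheaf, L.isSheaf⟩ : TopCat.Sheaf Ab X) U ⊤
        (fun y => homOfLE le_top) (fun y _ => TopologicalSpace.Opens.mem_iSup.2 ⟨y, hmem y⟩) _ _ fun y => ?_
      show resM L (le_top : U y ≤ ⊤) a = resM L le_top 0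
      have h1 := glocus_inf a (hg y)
      rw [hbot, bot_inf_eq] at h1
      have h2 := (basicOpen_eq_bot_iff _).1 h1.symm
      have h3 := (hg y).coef_spec le_rfl (resM L le_top a)
      rw [h2, zero_smul] at h3
      rw [← h3, map_zero]
    rw [h0]
    refine Scheme.Modules.hom_ext _ _ fun V => ConcreteCategory.hom_ext _ _ fun r => ?_
    rw [app_unit (unitDesc L 0), unitVal_unitDesc, map_zero, smul_zero]
    rfl
  have hc0 : c ≠ 0 := fun h => hne (by rw [← hc, h, Scheme.basicOpen_zero])
  obtain ⟨c', hc'⟩ := hfield.mul_inv_cancel hc0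
  have htop : glocus L a = ⊤ := by
    rw [← hc]; exact Scheme.basicOpen_of_isUnit _ (IsUnit.of_mul_eq_one _ hc')
  have : IsIso s := isIso_of_isGen s (by
    have := isGen_glocus a
    rw [htop, resM_self] at this
    exact this)
  exact ⟨(asIso s).symm⟩

end Groth.Agent.S14809
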