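import Groth.Statements.S1481
import Groth.Agent.ValCritLib.Refined
-- import your own Groth.Agent.* helpers here

set_option autoImplicit false
set_option backward.isDefEq.respectTransparency false
universe u
open FlatMor

namespace Groth.Agent.S1481

theorem exists_generic_component {α : Type*} [TopologicalSpace α] [QuasiSober α] (A : Set α) (a : α)
    (ha : a ∈ A) (hA : ∀ η, η ⤳ a → η ∈ closure A → η ∈ A) :
    ∃ (η : α) (hη : η ∈ A), η ⤳ a ∧ ∃ C ∈ irreducibleComponents ↥A, IsGenericPoint (⟨η, hη⟩ : ↥A) C := by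
  let C : Set ↥A := irreducibleComponent ⟨a, ha⟩
  have hC : IsIrreducible C := isIrreducible_irreducibleComponent
  let C' : Set α := closure (Subtype.val '' C)
  have hC' : IsIrreducible C' := (hC.image _ continuous_subtype_val.continuousOn).closure
  obtain ⟨η, hη⟩ := QuasiSober.sober hC' isClosed_closure
  have haC : a ∈ C' := subset_closure ⟨_, mem_irreducibleComponent, rfl⟩
  have hηa : η ⤳ a := hη.specializes haC
  have hηA : η ∈ A := hA η hηa (closure_mono (Subtype.coe_image_subset A C) hη.mem)
  refine ⟨η, hηA, hηa, C, irreducibleComponent_mem_irreducibleComponents _, ?_⟩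
  show closure {(⟨η, hηA⟩ : ↥A)} = C
  rw [Topology.IsInducing.subtypeVal.closure_eq_preimage_closure_image, Set.image_singleton,
    hη.def, ← Topology.IsInducing.subtypeVal.closure_eq_preimage_closure_image]
  exact isClosed_irreducibleComponent.closure_eq

open AlgebraicGeometry CategoryTheory Limits in
/-- Let f : X → S, y a point of X with image t, Y the closure of y, s a point of S and x a point of Y
over s which is generic in an irreducible component of the fibre of Y over s (fibres as subspaces).
Then there are a valuation ring R and a morphism g : Spec R → S sending the generic point to t and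
the closed point to s, such that, writing X' for the base change with projections g' : X' → X and f'
: X' → Spec R, there is a point y' of X' over the generic point with g' y' = y which is generic in
an irreducible component of the generic fibre of g'⁻¹(Y), and a point x' in the closure of y' over
the closed point with g' x' = x which is generic in an irreducible component of the special fibre of
the closure of y'. -/
theorem result {X S : Scheme.{u}} (f : X ⟶ S) (y : X) (s : S) (x : X)
    (hx : x ∈ closure ({y} : Set ↑X)) (hxs : f x = s)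
    (hgen : ∃ C ∈ irreducibleComponents ↑(closure ({y} : Set ↑X) ∩ f ⁻¹' {s}), IsGenericPoint (⟨x, hx, hxs⟩ : ↑(closure ({y} : Set ↑X) ∩ f ⁻¹' {s})) C) :
    ∃ (R : Type u) (_ : CommRing R) (_ : IsDomain R) (_ : ValuationRing R) (g : Spec (CommRingCat.of R) ⟶ S),
      g (⊥ : PrimeSpectrum R) = f y ∧ g (IsLocalRing.closedPoint R) = s ∧
      ∃ (y' : ↑(pullback f g)) (hy't : pullback.snd f g y' = (⊥ : PrimeSpectrum R)) (hy'Y : pullback.fst f g y' ∈ closure ({y} : Set ↑X)),
        pullback.fst f g y' = y ∧
        (∃ C ∈ irreducibleComponents ↑((pullback.fst f g) ⁻¹' closure ({y} : Set ↑X) ∩ (pullback.snd f g) ⁻¹' {(⊥ : PrimeSpectrum R)}),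
          IsGenericPoint (⟨y', hy'Y, hy't⟩ : ↑((pullback.fst f g) ⁻¹' closure ({y} : Set ↑X) ∩ (pullback.snd f g) ⁻¹' {(⊥ : PrimeSpectrum R)})) C) ∧
        ∃ (x' : ↑(pullback f g)) (hx' : x' ∈ closure ({y'} : Set ↑(pullback f g))) (hx's : pullback.snd f g x' = IsLocalRing.closedPoint R),
          pullback.fst f g x' = x ∧
          ∃ C ∈ irreducibleComponents ↑(closure ({y'} : Set ↑(pullback f g)) ∩ (pullback.snd f g) ⁻¹' {IsLocalRing.closedPoint R}),
            IsGenericPoint (⟨x', hx', hx's⟩ : ↑(closure ({y'} : Set ↑(pullback f g)) ∩ (pullback.snd f g) ⁻¹' {IsLocalRing.closedPoint R})) C := by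
  obtain ⟨V, ψ, hψ, hψc⟩ := Groth.Agent.ValCritLib.exists_valuation_of_specializes (𝟙 X) y x
    (specializes_iff_mem_closure.2 hx)
  let R := ↥V
  let g : Spec (CommRingCat.of R) ⟶ S := ψ ≫ f
  let b₀ : ↥(Spec (CommRingCat.of R)) := (⊥ : PrimeSpectrum R)
  let c₀ : ↥(Spec (CommRingCat.of R)) := IsLocalRing.closedPoint R
  have hsp : b₀ ⤳ c₀ := (PrimeSpectrum.le_iff_specializes _ _).1 bot_le
  have hψb : ψ b₀ = y := by
    let p : Spec (X.residueField y) := IsLocalRing.closedPoint (X.residueField y)
    have h1 : Spec.map (CommRingCat.ofHom V.subtype) p = b₀ := by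
      apply PrimeSpectrum.ext
      show (IsLocalRing.maximalIdeal (X.residueField y)).comap V.subtype = ⊥
      rw [IsLocalRing.maximalIdeal_eq_bot, ← RingHom.ker_eq_comap_bot,
        (RingHom.injective_iff_ker_eq_bot _).1 Subtype.val_injective]
    rw [← h1, ← Scheme.Hom.comp_apply, hψ, Category.comp_id]
    exact X.fromSpecResidueField_apply y p
  have hgs : g c₀ = s := by
    show f (ψ (IsLocalRing.closedPoint R)) = s
    rw [← hxs]
    exact congrArg f hψc
  have hbmax : ∀ z : ↥(Spec (CommRingCat.of R)), z ⤳ b₀ → z = b₀ := fun z hz =>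
    (le_bot_iff (α := PrimeSpectrum R)).1 ((PrimeSpectrum.le_iff_specializes z b₀).2 hz)
  have hcmin : ∀ z : ↥(Spec (CommRingCat.of R)), c₀ ⤳ z → z = c₀ := fun z hz =>
    le_antisymm (α := PrimeSpectrum R) (IsLocalRing.le_maximalIdeal z.isPrime.ne_top) ((PrimeSpectrum.le_iff_specializes c₀ z).2 hz)
  have hgb : g b₀ = f y := congrArg f hψb
  refine ⟨R, inferInstance, inferInstance, inferInstance, g, hgb, hgs, ?_⟩
  let σ : Spec (CommRingCat.of R) ⟶ pullback f g := pullback.lift ψ (𝟙 _) (by simp [g])
  have hσ₁ : ∀ z, pullback.fst f g (σ z) = ψ z := fun z => by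
    rw [← Scheme.Hom.comp_apply, pullback.lift_fst]
  have hσ₂ : ∀ z, pullback.snd f g (σ z) = z := fun z => by
    rw [← Scheme.Hom.comp_apply, pullback.lift_snd]; rfl
  let Y' := (pullback.fst f g) ⁻¹' closure ({y} : Set ↑X)
  have hY' : IsClosed Y' := isClosed_closure.preimage (pullback.fst f g).continuous
  obtain ⟨y', hy', hy'a, hcomp⟩ := exists_generic_component (Y' ∩ (pullback.snd f g) ⁻¹' {b₀}) (σ b₀)
    ⟨subset_closure ((hσ₁ b₀).trans hψb), hσ₂ b₀⟩ fun η hη hη' =>
      ⟨hY'.closure_eq.le (closure_mono Set.inter_subset_left hη'),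
        hbmax _ ((hη.map (pullback.snd f g).continuous).trans (specializes_of_eq (hσ₂ b₀)))⟩
  have hy'y : pullback.fst f g y' = y :=
    (((hy'a.map (pullback.fst f g).continuous).trans (specializes_of_eq ((hσ₁ b₀).trans hψb))).antisymm
      (specializes_iff_mem_closure.2 hy'.1)).eq
  refine ⟨y', hy'.2, hy'.1, hy'y, hcomp, ?_⟩
  obtain ⟨x', hx', hx'a, hcomp'⟩ := exists_generic_component
    (closure ({y'} : Set ↑(pullback f g)) ∩ (pullback.snd f g) ⁻¹' {c₀}) (σ c₀)
    ⟨specializes_iff_mem_closure.1 (hy'a.trans (hsp.map σ.continuous)), hσ₂ c₀⟩ fun η hη hη' =>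
      ⟨isClosed_closure.closure_eq.le (closure_mono Set.inter_subset_left hη'), hcmin _ (by
        have h : pullback.snd f g η ∈ closure ({c₀} : Set ↥(Spec (CommRingCat.of R))) :=
          closure_minimal (t := (pullback.snd f g) ⁻¹' closure {c₀}) (fun z hz => subset_closure hz.2)
            (isClosed_closure.preimage (pullback.snd f g).continuous) hη'
        exact specializes_iff_mem_closure.2 h)⟩
  refine ⟨x', hx'.1, hx'.2, ?_, hcomp'⟩
  have h1 : pullback.fst f g x' ⤳ x := (hx'a.map (pullback.fst f g).continuous).trans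
    (specializes_of_eq ((hσ₁ c₀).trans hψc))
  have h2 : pullback.fst f g x' ∈ closure ({y} : Set ↑X) := by
    exact specializes_iff_mem_closure.1 ((specializes_of_eq hy'y.symm).trans
      ((specializes_iff_mem_closure.2 hx'.1).map (pullback.fst f g).continuous))
  have h3 : f (pullback.fst f g x') = s := by
    rw [← Scheme.Hom.comp_apply, pullback.condition, Scheme.Hom.comp_apply]
    exact (congrArg g hx'.2).trans hgs
  obtain ⟨C, hC, hgenC⟩ := hgen
  let w : ↑(closure ({y} : Set ↑X) ∩ f ⁻¹' {s}) := ⟨pullback.fst f g x', h2, h3⟩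
  let x₀ : ↑(closure ({y} : Set ↑X) ∩ f ⁻¹' {s}) := ⟨x, hx, hxs⟩
  have hw : w ⤳ x₀ := Topology.IsInducing.subtypeVal.specializes_iff.1 h1
  have hle : C ⊆ closure {w} := hgenC.def.symm.le.trans
    (closure_minimal (Set.singleton_subset_iff.2 (specializes_iff_mem_closure.1 hw)) isClosed_closure)
  have hwC : w ∈ C := hC.2 isIrreducible_singleton.closure hle (subset_closure rfl)
  exact (h1.antisymm (Topology.IsInducing.subtypeVal.specializes_iff.2 (hgenC.specializes hwC) :
    x ⤳ pullback.fst f g x')).eq

end Groth.Agent.S1481
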