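import Groth.Statements.S14810
import Groth.Agent.NumSec27.Projective
import Groth.Agent.VarietyLib.PullDegree
-- import your own Groth.Agent.* helpers here

set_option autoImplicit false
set_option linter.style.haveILetI false
set_option backward.isDefEq.respectTransparency.types false
universe u
open CategoryTheory CategoryTheory.Limits AlgebraicGeometry
open Pic13

namespace Groth.Agent.S14810

open CategoryTheory CategoryTheory.Limits MonObj AlgebraicGeometry in
open Groth.Agent Groth.Agent.EulerLib in
/-- Let X be an integral scheme, proper over a field k, such that Γ(X, O_X) is a field, and let L be an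
invertible O_X-module which is numerically trivial: its restriction to every closed subscheme of X
which is integral of dimension one has degree 0. If L has a nonzero global section (a nonzero
morphism O_X → L), then L is isomorphic to O_X. -/
theorem result (k : Type u) [Field k] (X : Scheme.{u})
    [X.Over (Spec (CommRingCat.of k))] [IsProper (X ↘ Spec (CommRingCat.of k))] [IsIntegral X]
    (hfield : IsField (Γ(X, ⊤) : Type u)) (L : X.Modules) (hL : PicF.IsInvertible L)
    (hnum : Pic13.IsNumEquivZero k X L) (s : Coh.structureModule X ⟶ L) (hs : s ≠ 0) :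
    Nonempty (L ≅ Coh.structureModule X) := by
  haveI := EulerLib.isNoetherian_of_proper (X := X) k
  obtain ⟨d, hd⟩ : ∃ d : ℕ, topologicalKrullDim X = (d : WithBot ℕ∞) :=
    ⟨DimLib.ptDim (X ↘ Spec (CommRingCat.of k)) (genericPoint X),
      ((Homeomorph.Set.univ X).isHomeomorph.topologicalKrullDim_eq).symm.trans
        (DimLib.topologicalKrullDim_eq_ptDim_of_isGenericPoint _ (genericPoint_spec X))⟩
  obtain ⟨Z, _, _, _, π, _, H, hH, hπ, hπη, -, -⟩ := VarietyLib.exists_chow_integral (k := k) (Y := X) hd
  haveI : Surjective π := by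
    refine ⟨Set.range_eq_univ.1 (Set.eq_univ_of_univ_subset ?_)⟩
    rw [← genericPoint_closure (α := X)]
    exact π.isClosedMap.isClosed_range.closure_subset_iff.2 (Set.singleton_subset_iff.2 ⟨_, hπη⟩)
  have hR := PicLoc.isInvertible_pullback π hL
  have hc := NumTriv23.isNum_of_isNumEquivZero k hL hnum
  have hcR : NumTriv23.IsNum k (InvCl.mk _ hR) := by
    refine EulerLib.sameDeg_of_curveDeg k hR AmpleLib.isInvertible_structureModule fun C j _ hC hdC => ?_
    letI : C.Over (Spec (CommRingCat.of k)) := ⟨j ≫ (Z ↘ Spec (CommRingCat.of k))⟩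
    haveI : IsProper (C ↘ Spec (CommRingCat.of k)) :=
      inferInstanceAs (IsProper (j ≫ (Z ↘ Spec (CommRingCat.of k))))
    have hji : (j ≫ π) ≫ (X ↘ Spec (CommRingCat.of k)) = C ↘ Spec (CommRingCat.of k) := by
      rw [Category.assoc, hπ]; rfl
    have h2 := EulerLib.curveDeg_pullback_congr k (j ≫ π) hji hdC.le hL AmpleLib.isInvertible_structureModule hc
    rw [show j ≫ (Z ↘ Spec (CommRingCat.of k)) = C ↘ Spec (CommRingCat.of k) from rfl]
    rw [EulerLib.curveDeg_congr k (show (Scheme.Modules.pullback j).obj ((Scheme.Modules.pullback π).obj L) ≅ _ from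
        (Scheme.Modules.pullbackComp j π).app L), EulerLib.curveDeg_congr k (PicLoc.pullbackStructureIso j),
      ← EulerLib.curveDeg_congr k (PicLoc.pullbackStructureIso (j ≫ π))]
    exact h2
  let σ : Γ(L, (⊤ : X.Opens)) := Coherent.unitVal s ⊤
  have hσ : σ ≠ 0 := fun h => hs (PicLib.hom_ext_gen (fun _ : PUnit.{u + 1} => (⊤ : X.Opens)) iSup_const
    (fun _ => AmpleLib.oneSec ⊤) (fun _ => AmpleLib.isGen_oneSec ⊤) s 0 fun _ => by
      show σ = (0 : Coh.structureModule X ⟶ L).app ⊤ (AmpleLib.oneSec ⊤)
      rw [h]; rfl)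
  have hη := CurveRR24.genericPoint_mem_glocus hL hσ
  let τ : Γ((Scheme.Modules.pullback π).obj L, (⊤ : Z.Opens)) := PicLib.pullSec π σ
  have hgl : AmpleLib.glocus _ τ = π ⁻¹ᵁ AmpleLib.glocus L σ := AmpleLib.glocus_pullSec π hL σ
  have hτ : τ ≠ 0 := fun h => by
    have h1 : genericPoint Z ∈ AmpleLib.glocus _ τ := by
      rw [hgl]; show π (genericPoint Z) ∈ AmpleLib.glocus L σ; rw [hπη]; exact hη
    rw [h] at h1
    exact (CurveRR24.mem_glocus_iff_germ hR 0 (genericPoint Z)).1 h1 (by rw [map_zero]; exact zero_mem _)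
  have htop := NumSec27.glocus_eq_top k ⟨H, hH⟩ hR hcR τ hτ
  have hall : AmpleLib.glocus L σ = ⊤ := top_le_iff.1 fun x _ => by
    obtain ⟨z, rfl⟩ := π.surjective x
    have : z ∈ AmpleLib.glocus _ τ := by rw [htop]; trivial
    rwa [hgl] at this
  have hgen := AmpleLib.isGen_glocus (L := L) σ
  have h2 : PicLib.IsGen L ⊤ σ := by
    have := hgen.restrict hall.ge
    rwa [Coherent.resM_resM, PicLib.resM_self] at this
  have := PicLib.isIso_of_isGen s h2
  exact ⟨(asIso s).symm⟩

end Groth.Agent.S14810
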