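import Groth.Statements.S14812
import Groth.Agent.NumSec27.EulerProper
-- import your own Groth.Agent.* helpers here

set_option autoImplicit false
set_option linter.style.haveILetI false
set_option backward.isDefEq.respectTransparency.types false
universe u
open CategoryTheory CategoryTheory.Limits AlgebraicGeometry
open Pic13

namespace Groth.Agent.S14812

open CategoryTheory CategoryTheory.Limits MonObj AlgebraicGeometry in
open Groth.Agent Groth.Agent.EulerLib Groth.Agent.NumTriv23 Groth.Agent.NumSec27 Groth.Agent.AmpleLib TopologicalSpace Groth.Agent.AssSch12 in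
/-- Take any field k, a proper k-scheme X and an invertible O_X-module L. Then L is numerically trivial
(degree 0 on every closed subscheme of X which is integral of dimension one) if and only if χ(F ⊗ L)
= χ(F) for every coherent O_X-module F; here χ is the alternating sum of the dimensions dim_k H^i(X,
·) over 0 ≤ i ≤ d, for any natural number d bounding the dimension of X. The field k is not assumed
algebraically closed. -/
theorem result (k : Type u) [Field k] (X : Scheme.{u})
    [X.Over (Spec (CommRingCat.of k))] [IsProper (X ↘ Spec (CommRingCat.of k))] (L : X.Modules) (hL : PicF.IsInvertible L) :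
    Pic13.IsNumEquivZero k X L ↔
      ∀ (F : X.Modules), Coh.IsCoh F → ∀ d : ℕ, topologicalKrullDim X ≤ d →
        FGA.eulerCharLE k X (CohB1.tensorMod F L) d = FGA.eulerCharLE k X F d := by
  haveI := EulerLib.isNoetherian_of_proper (X := X) k
  have hq : ∀ F : X.Modules, Coh.IsCoh F → Coh.IsQCoh (CohB1.tensorMod F L) := fun F hF =>
    (isCoh_twist hL hF).1
  constructor
  · intro h F hF d hd
    rw [eulerCharLE_eq k _ (hq F hF) hd, eulerCharLE_eq k F hF.1 hd, ← chiCl_mk k F hL,
      chiCl_eq_of_num_proper k hL (isNum_of_isNumEquivZero k hL h) hF]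
    exact chiCl_one k F
  · intro h
    obtain ⟨d, hd⟩ := EulerLib.exists_dim_le k (Set.univ : Set X)
    rw [(Homeomorph.Set.univ X).isHomeomorph.topologicalKrullDim_eq] at hd
    have hnum : IsNum k (InvCl.mk L hL) := fun y _ => by
      have hy := Coherent.isCoh_clM y
      have e := h _ hy d hd
      rw [eulerCharLE_eq k _ (hq _ hy) hd, eulerCharLE_eq k _ hy.1 hd, ← chiCl_mk k _ hL] at e
      rw [e]
      exact (chiCl_one k _).symm
    intro C j _ hC hdC
    letI : C.Over (Spec (CommRingCat.of k)) := ⟨j ≫ (X ↘ Spec (CommRingCat.of k))⟩
    haveI : IsProper (C ↘ Spec (CommRingCat.of k)) :=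
      inferInstanceAs (IsProper (j ≫ (X ↘ Spec (CommRingCat.of k))))
    have h2 := curveDeg_pullback_congr k j rfl hdC.le hL isInvertible_structureModule hnum
    rw [show j ≫ (X ↘ Spec (CommRingCat.of k)) = C ↘ Spec (CommRingCat.of k) from rfl, h2,
      curveDeg_congr k (PicLoc.pullbackStructureIso j)]
    exact sub_self _

end Groth.Agent.S14812
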