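import Groth.Statements.S14813
import Groth.Agent.EtDeg8.Degree
import Groth.Agent.CommAlg6.DimMaps
-- import your own Groth.Agent.* helpers here

set_option autoImplicit false
set_option backward.isDefEq.respectTransparency.types false
universe u
open CategoryTheory CategoryTheory.Limits AlgebraicGeometry
open FGA

namespace Groth.Agent.S14813

/-- Let k be an arbitrary field and let X and X' be smooth, integral, proper k-schemes, X of dimension
n, with an étale k-morphism φ : X' → X (it is then finite étale); suppose φ is finite locally free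
of constant degree d. Then χ(O_{X'}) = d · χ(O_X), where χ denotes the alternating sum of dim_k
H^i(·, O) over 0 ≤ i ≤ n (X' has dimension n as well). -/
theorem result (k : Type u) [Field k] (X X' : Scheme.{u})
    [X.Over (Spec (CommRingCat.of k))] [X'.Over (Spec (CommRingCat.of k))]
    [IsProper (X ↘ Spec (CommRingCat.of k))] [IsProper (X' ↘ Spec (CommRingCat.of k))] [Smooth (X ↘ Spec (CommRingCat.of k))] [Smooth (X' ↘ Spec (CommRingCat.of k))]
    [IsIntegral X] [IsIntegral X'] (φ : X' ⟶ X) [Etale φ] (hφ : φ ≫ (X ↘ Spec (CommRingCat.of k)) = X' ↘ Spec (CommRingCat.of k))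
    (d : ℕ) (hd : Mor2.IsFinLocFreeOfDeg d φ) (n : ℕ) (hn : topologicalKrullDim X = n) :
    FGA.eulerCharLE k X' (Coh.structureModule X') n = d * FGA.eulerCharLE k X (Coh.structureModule X) n := by
  haveI : IsFinite φ := hd.1.1
  haveI := EulerLib.isNoetherian_of_proper (X := X) k
  haveI := EulerLib.isNoetherian_of_proper (X := X') k
  have hdim : topologicalKrullDim X' ≤ n := by
    refine le_trans (CommAlg6.topologicalKrullDim_le_of_fibres φ.continuous fun x x' h e => ?_) hn.le
    have hd' := φ.isDiscrete_preimage_singleton (φ x)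
    haveI := hd'.to_subtype
    have h1 : (⟨x, rfl⟩ : φ ⁻¹' {φ x}) ⤳ ⟨x', e.symm⟩ := Topology.IsInducing.subtypeVal.specializes_iff.1 h
    exact congrArg Subtype.val h1.eq
  have hO : Coh.IsCoh (Coh.structureModule X) := Coherent.isCoh_structureModule X
  rw [EulerLib.eulerCharLE_eq k _ (Coherent.isCoh_structureModule X').1 hdim, EulerLib.eulerCharLE_eq k _ hO.1 hn.le,
    ← EulerLib.euler_congr k X' (PicLoc.pullbackStructureIso φ)]
  exact EtDeg8.euler_pullback_finite_etale k d X X' φ hφ hd.2 _ hO

end Groth.Agent.S14813
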