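import Groth.Statements.S14816
import Groth.Agent.PicTau27.Torsion
import Groth.Agent.CohEdge27.AlgEquiv
import Groth.Agent.AbCubeLib.KernelPhi
import Groth.Agent.S8120
import Groth.Agent.S4278
-- import your own Groth.Agent.* helpers here

set_option autoImplicit false
set_option linter.style.haveILetI false
set_option backward.isDefEq.respectTransparency.types false
universe u
open CategoryTheory MonoidalCategory CartesianMonoidalCategory MonObj GrpObj AlgebraicGeometry
open AbVar

namespace Groth.Agent.S14816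

open CategoryTheory CategoryTheory.Limits MonObj AlgebraicGeometry in
open Groth.Agent Groth.Agent.PicLib Groth.Agent.CubeLib Groth.Agent.AbCubeLib in
/-- Let k be an algebraically closed field of characteristic p > 0 which is algebraic over its prime
field (every element x satisfies x^(p^n) = x for some n ≥ 1) and let A be an abelian variety over k
(a proper, geometrically integral group scheme over k). Then every k-rational point of A has finite
order in the group A(k) of k-points. -/
theorem result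
    (p : ℕ) [Fact (Nat.Prime p)] (k : Type u) [Field k] [IsAlgClosed k] [CharP k p]
    (halg : ∀ x : k, ∃ n : ℕ, 0 < n ∧ x ^ (p ^ n) = x)
    (A : Over (Spec (CommRingCat.of k))) [GrpObj A] [IsProper A.hom] [GeometricallyIntegral A.hom]
    (a : 𝟙_ (Over (Spec (CommRingCat.of k))) ⟶ A) : IsOfFinOrder a := by
  letI : A.left.Over (Spec (CommRingCat.of k)) := ⟨A.hom⟩
  haveI : IsProper (A.left ↘ Spec (CommRingCat.of k)) := inferInstanceAs (IsProper A.hom)
  obtain ⟨L, hL, hLa⟩ := exists_ample (A := A)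
  obtain ⟨l', hll⟩ := PicM.exists_mul_eq_one (PicM.of hL)
  let l := PicM.of hL
  let g : (𝟙_ (Over (Spec (CommRingCat.of k))) ⟶ A) → PicM A.left := fun x => pb (𝟙 A * (toUnit A ≫ x)) l * l'
  have hg : ∀ x y, g (x * y) = g x * g y := fun x y => by
    obtain ⟨e⟩ := Groth.Agent.S8120.result k A L hL x y
    have h := (PicM.of_eq_iff (AmpleLib.isInvertible_tensorMod (PicLoc.isInvertible_pullback _ hL) hL)
      (AmpleLib.isInvertible_tensorMod (PicLoc.isInvertible_pullback _ hL) (PicLoc.isInvertible_pullback _ hL))).2 ⟨e⟩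
    have h' : pb (𝟙 A * (toUnit A ≫ (x * y))) l * l =
        pb (𝟙 A * (toUnit A ≫ x)) l * pb (𝟙 A * (toUnit A ≫ y)) l := h
    show _ * l' = (_ * l') * (_ * l')
    calc pb (𝟙 A * (toUnit A ≫ (x * y))) l * l' = (pb (𝟙 A * (toUnit A ≫ (x * y))) l * l) * (l' * l') := by
          rw [_root_.mul_assoc, ← _root_.mul_assoc l, hll, _root_.one_mul]
      _ = _ := by rw [h']; ac_rfl
  have htors : ∃ d : ℕ, 0 < d ∧ g a ^ d = 1 := by
    obtain ⟨N, hN, hNe⟩ := PicM.exists_eq_of (g a)
    have hN1 := AmpleLib.isInvertible_tensorPow hN 1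
    have h1 : g a = PicM.of hN1 := by rw [PicM.of_tensorPow hN, pow_one, hNe]
    have halgz := CohEdge27.isAlgEquivZero_phi A l l' hll a _ hN1 h1
    have hnum := Groth.Agent.S4278.result k A.left N hN ⟨1, Nat.one_pos, halgz⟩
    obtain ⟨d, hd, hd'⟩ := PicTau27.exists_pow_trivial_proj k p halg hLa hN
      (NumTriv23.isNum_of_isNumEquivZero k hN hnum)
    refine ⟨d, hd, ?_⟩
    rw [hNe, ← PicM.of_tensorPow hN, (PicM.of_eq_iff _ AmpleLib.isInvertible_structureModule).2 hd']
    rfl
  obtain ⟨d, hd, hd'⟩ := htors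
  have hone : g 1 = 1 := by
    show pb (𝟙 A * (toUnit A ≫ (1 : 𝟙_ (Over (Spec (CommRingCat.of k))) ⟶ A))) l * l' = 1
    rw [MonObj.comp_one, _root_.mul_one, pb_id]
    exact hll
  have hpow : ∀ n, g (a ^ n) = g a ^ n := fun n => by
    induction n with
    | zero => rw [pow_zero, pow_zero, hone]
    | succ n ih => rw [pow_succ, pow_succ, hg, ih]
  have hmem : ∀ m : ℕ, a ^ (d * m) ∈ {x : 𝟙_ (Over (Spec (CommRingCat.of k))) ⟶ A |
      pb (𝟙 A * (toUnit A ≫ x)) (PicM.of hLa.1) = PicM.of hLa.1} := fun m => by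
    have h : g (a ^ (d * m)) = 1 := by rw [hpow, pow_mul, hd', one_pow]
    show pb (𝟙 A * (toUnit A ≫ a ^ (d * m))) l = l
    have h2 := congrArg (· * l) h
    simp only [g, _root_.one_mul] at h2
    rwa [_root_.mul_assoc, _root_.mul_comm l' l, hll, _root_.mul_one] at h2
  haveI := (finite_fixing_of_isAmple hLa).to_subtype
  obtain ⟨m, n, hne, heq⟩ := Finite.exists_ne_map_eq_of_infinite fun m : ℕ => (⟨_, hmem m⟩ :
    {x : 𝟙_ (Over (Spec (CommRingCat.of k))) ⟶ A | pb (𝟙 A * (toUnit A ≫ x)) (PicM.of hLa.1) = PicM.of hLa.1})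
  have hh : a ^ (d * m) = a ^ (d * n) := congrArg Subtype.val heq
  by_contra hno
  exact hne (Nat.eq_of_mul_eq_mul_left hd (((injective_pow_iff_not_isOfFinOrder).2 hno) hh))

end Groth.Agent.S14816
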