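import Groth.Statements.S14819
import Groth.Agent.CycRoot27.Insep
import Groth.Agent.PicLib.PicMonoid
-- import your own Groth.Agent.* helpers here

set_option autoImplicit false
set_option linter.style.haveILetI false
set_option backward.isDefEq.respectTransparency.types false
universe u
open CategoryTheory CategoryTheory.Limits AlgebraicGeometry
open PicF

namespace Groth.Agent.S14819

open CategoryTheory CategoryTheory.Limits MonObj AlgebraicGeometry in
open Groth.Agent Groth.Agent.CycRoot27 in
/-- Let X be an integral Noetherian scheme which is normal (all local rings integrally closed domains)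
and whose ring of global functions Γ(X, O_X) is a field of characteristic p > 0; let L be an
invertible O_X-module of exact order d in Pic(X), i.e. L^{⊗d} ≅ O_X with d ≥ 1 and L^{⊗i} not
isomorphic to O_X for 0 < i < d, and suppose p divides d. Let X' be a connected scheme such that
every unit of Γ(X', O_{X'}) has a p-th root. Then no finite étale morphism f : X' → X (a finite
étale covering of X by X') satisfies f^*L ≅ O_{X'}. -/
theorem result (X X' : Scheme.{u})
    [IsIntegral X] [IsNoetherian X] (hnorm : Pi1.IsNormalScheme X)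
    (hfield : IsField (Γ(X, ⊤) : Type u)) (p : ℕ) [Fact (Nat.Prime p)] [CharP (Γ(X, ⊤) : Type u) p]
    (L : X.Modules) (hL : PicF.IsInvertible L) (d : ℕ) (hd : 0 < d)
    (hord : Nonempty (CohB1.tensorPow L d ≅ Coh.structureModule X))
    (hmin : ∀ i : ℕ, 0 < i → i < d → IsEmpty (CohB1.tensorPow L i ≅ Coh.structureModule X))
    (hpd : p ∣ d) [ConnectedSpace X']
    (hroot : ∀ u : (Γ(X', ⊤) : Type u), IsUnit u → ∃ v : (Γ(X', ⊤) : Type u), v ^ p = u)
    (f : X' ⟶ X) [IsFinite f] [Etale f] :
    IsEmpty ((Scheme.Modules.pullback f).obj L ≅ Coh.structureModule X') := by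
  refine ⟨fun ψ => ?_⟩
  have hp := (Fact.out : p.Prime)
  have : Surjective f := by
    refine ⟨Set.range_eq_univ.1 ?_⟩
    refine IsClopen.eq_univ ⟨f.isClosedMap.isClosed_range, f.isOpenMap.isOpen_range⟩ (Set.range_nonempty _)
  obtain ⟨m, rfl⟩ := hpd
  have hm : 0 < m := Nat.pos_of_mul_pos_left hd
  have hmd : m < p * m := lt_mul_left hm hp.one_lt
  have hM := AmpleLib.isInvertible_tensorPow hL m
  suffices h : Nonempty (CohB1.tensorPow L m ≅ Coh.structureModule X) from h.elim (hmin m hm hmd).false
  have e1 : PicLib.PicM.of hM ^ p = 1 := by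
    rw [PicLib.PicM.of_tensorPow hL m, ← pow_mul, mul_comm, ← PicLib.PicM.of_tensorPow hL (p * m)]
    exact (PicLib.PicM.of_eq_one_iff _).2 hord
  rw [← PicLib.PicM.of_tensorPow hM p] at e1
  obtain ⟨e⟩ := (PicLib.PicM.of_eq_one_iff _).1 e1
  have hLt : PicLib.PicM.pull f (PicLib.PicM.of hL) = 1 := by
    rw [PicLib.PicM.pull_of]
    exact (PicLib.PicM.of_eq_one_iff _).2 ⟨ψ⟩
  have hMt : PicLib.PicM.pull f (PicLib.PicM.of hM) = 1 := by
    rw [PicLib.PicM.of_tensorPow hL m, map_pow, hLt, _root_.one_pow]
  rw [PicLib.PicM.pull_of] at hMt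
  obtain ⟨ψ'⟩ := (PicLib.PicM.of_eq_one_iff _).1 hMt
  exact trivial_of_etale_trivial f hp (CharP.cast_eq_zero _ p) hroot hM e ψ'

end Groth.Agent.S14819
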