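import Groth.Statements.S1482
import Groth.Agent.FlatMor12.EtaleSplitting

set_option autoImplicit false
universe u
open FlatMor
set_option backward.isDefEq.respectTransparency false
open Groth.Agent.FlatMorWeight

namespace Groth.Agent.S1482

open AlgebraicGeometry CategoryTheory Limits in
/-- Let f : X → S be locally of finite type, s a point of S and x_1, …, x_n pairwise distinct points
over s at which f is quasi-finite. Then there are an étale morphism g : U → S with a point u over s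
and, for each i, finitely many opens V_{i,j} of X_U = X ×_S U, each finite over U and containing
exactly one point v_{i,j} over u, with κ(v_{i,j}) finite purely inseparable over κ(u), the v_{i,j}
pairwise distinct, v_{i,j} mapping to x_i, and every point of X_U over u mapping to some x_i equal
to one of the v_{i,j}. -/
theorem result {X S : Scheme.{u}} (f : X ⟶ S) [LocallyOfFiniteType f] (s : S) {ι : Type} [Finite ι]
    (x : ι → ↑X) (hinj : Function.Injective x) (hs : ∀ i, f (x i) = s) (hx : ∀ i, f.QuasiFiniteAt (x i)) :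
    ∃ (U : Scheme.{u}) (g : U ⟶ S) (u : U), Etale g ∧ g u = s ∧
      ∃ (J : ι → Type) (_ : ∀ i, Finite (J i)) (V : ∀ i, J i → (pullback f g).Opens) (v : ∀ i, J i → ↑(pullback f g)),
        (∀ i j, v i j ∈ V i j ∧ IsFinite ((V i j).ι ≫ pullback.snd f g) ∧ pullback.snd f g (v i j) = u ∧
          (∀ w : ↑(pullback f g), w ∈ V i j → pullback.snd f g w = u → w = v i j) ∧
          (letI := ((pullback.snd f g).residueFieldMap (v i j)).hom.toAlgebra
           Module.Finite ↑(U.residueField (pullback.snd f g (v i j))) ↑((pullback f g).residueField (v i j)) ∧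
           IsPurelyInseparable ↑(U.residueField (pullback.snd f g (v i j))) ↑((pullback f g).residueField (v i j))) ∧
          pullback.fst f g (v i j) = x i) ∧
        (∀ i j i' j', v i j = v i' j' → i = i' ∧ HEq j j') ∧
        (∀ (w : ↑(pullback f g)) (i : ι), pullback.snd f g w = u → pullback.fst f g w = x i → ∃ j, w = v i j) := by
  classical
  let W : X.Opens := f.quasiFiniteLocus
  let f' := W.ι ≫ f
  obtain ⟨yb, hyb⟩ := exists_geomPt s
  let Ω := AlgebraicClosure (S.residueField s)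
  let Z : ι → Set (Spec (CommRingCat.of Ω) ⟶ W.toScheme) := fun i => {z | z ≫ f' = yb ∧ pt z = ⟨x i, hx i⟩}
  have hZ : ∀ i, (Z i).Finite := fun i => Set.finite_coe_iff.1
    (card_GP_at f' yb ⟨x i, hx i⟩ (by rw [hyb]; exact hs i)).1
  obtain ⟨U₀, g, vb, P, hg, hvb, hP⟩ := exists_pieces f' (yb := yb)
    (Set.finite_iUnion hZ) (fun z hz => (Set.mem_iUnion.1 hz).choose_spec.1)
  choose z' hz' hz'1 hz'2 using fun z : ↥(⋃ i, Z i) => isSingle_of_isPiece (hP z.1 z.2)
  let μ : pullback f' g ⟶ pullback f g :=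
    pullback.map f' g f g W.ι (𝟙 _) (𝟙 _) (Category.comp_id _) (by simp)
  have hμ1 : μ ≫ pullback.fst f g = pullback.fst f' g ≫ W.ι := pullback.lift_fst _ _ _
  have hμ2 : μ ≫ pullback.snd f g = pullback.snd f' g := by
    rw [pullback.lift_snd, Category.comp_id]
  have hsnd : ∀ z : ↥(⋃ i, Z i), pullback.snd f g (μ (pt (z' z))) = pt vb := fun z => by
    rw [← Scheme.Hom.comp_apply, hμ2, ← pt_comp, hz'2 z]
  let J : ι → Type := fun i => Fin (hZ i).toFinset.card
  let ζ : ∀ i, J i → ↥(⋃ i, Z i) := fun i j => ⟨((hZ i).toFinset.equivFin.symm j).1,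
    Set.mem_iUnion.2 ⟨i, (hZ i).mem_toFinset.1 ((hZ i).toFinset.equivFin.symm j).2⟩⟩
  have hζ : ∀ i j, (ζ i j).1 ∈ Z i := fun i j => (hZ i).mem_toFinset.1 ((hZ i).toFinset.equivFin.symm j).2
  have hsingle : ∀ i j, IsSingle (pullback.snd f g) (μ ''ᵁ (P (ζ i j).1)) (z' (ζ i j) ≫ μ) :=
    fun i j => Groth.Agent.FlatMor12.isSingle_image _ μ hμ2 (hz' (ζ i j))
  have hfinres : ∀ (V : (pullback f g).Opens), IsFinite (V.ι ≫ pullback.snd f g) → ∀ b ∈ V,
      ((pullback.snd f g).residueFieldMap b).hom.Finite := fun V hV b hb => by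
    obtain ⟨a, rfl⟩ : ∃ a : V.toScheme, V.ι a = b := ⟨⟨b, hb⟩, rfl⟩
    have h := residueFieldMap_finite (V.ι ≫ pullback.snd f g) a
    rw [Scheme.residueFieldMap_comp, CommRingCat.hom_comp] at h
    let e := (asIso (V.ι.residueFieldMap a)).commRingCatIsoToRingEquiv
    have := RingHom.Finite.comp (RingHom.Finite.of_surjective e.symm.toRingHom e.symm.surjective) h
    have e2 : e.symm.toRingHom.comp ((V.ι.residueFieldMap a).hom.comp
        ((pullback.snd f g).residueFieldMap (V.ι a)).hom) = ((pullback.snd f g).residueFieldMap (V.ι a)).hom :=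
      RingHom.ext fun r => e.symm_apply_apply _
    rw [e2] at this
    exact this
  refine ⟨U₀, g, pt vb, hg, ?_, J, fun i => inferInstanceAs (Finite (Fin _)),
    fun i j => μ ''ᵁ (P (ζ i j).1), fun i j => μ (pt (z' (ζ i j))), ?_, ?_, ?_⟩
  · rw [← pt_comp, hvb, hyb]
  · intro i j
    have hmem : μ (pt (z' (ζ i j))) ∈ μ ''ᵁ (P (ζ i j).1) := ⟨_, (hz' (ζ i j)).2.1, rfl⟩
    refine ⟨hmem, (hsingle i j).1, hsnd (ζ i j), ?_, ⟨hfinres _ (hsingle i j).1 _ hmem, ?_⟩, ?_⟩
    · rintro _ ⟨a, ha, rfl⟩ hau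
      refine congrArg μ (mem_of_fibre (pullback.snd f' g) (hz' (ζ i j)) ha ?_)
      rw [← pt_comp, hz'2 (ζ i j)]
      refine Eq.trans ?_ hau
      show _ = (μ ≫ pullback.snd f g) a
      rw [hμ2]
    · exact Groth.Agent.FlatMor12.isPurelyInseparable_of_isSingle' (pullback.snd f g) (hsingle i j) _
        (pt_comp _ _)
    · rw [← Scheme.Hom.comp_apply, hμ1, Scheme.Hom.comp_apply, ← pt_comp, hz'1 (ζ i j), (hζ i j).2]
      rfl
  · intro i j i' j' he
    have he' : pt (z' (ζ i j)) = pt (z' (ζ i' j')) := μ.isOpenEmbedding.injective he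
    have h1 : z' (ζ i' j') = z' (ζ i j) := (hz' (ζ i j)).2.2 _
      (show z' _ ≫ _ = z' _ ≫ _ by rw [hz'2, hz'2]) (he' ▸ (hz' (ζ i j)).2.1)
    have h2 : (ζ i' j').1 = (ζ i j).1 := by rw [← hz'1 (ζ i' j'), h1, hz'1]
    obtain rfl : i = i' := by
      refine hinj ?_
      have e1 := (hζ i' j').2
      rw [h2, (hζ i j).2] at e1
      exact congrArg W.ι e1
    exact ⟨rfl, heq_of_eq ((hZ i).toFinset.equivFin.symm.injective (Subtype.ext h2.symm))⟩
  · intro w i hwu hwx
    obtain ⟨w₁, rfl⟩ : w ∈ Set.range μ := by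
      rw [Scheme.Pullback.range_map]
      refine ⟨⟨⟨x i, hx i⟩, ?_⟩, ⟨_, rfl⟩⟩
      show x i = _
      exact hwx.symm
    have hwu' : pullback.snd f' g w₁ = pt vb := by rw [← hwu, ← Scheme.Hom.comp_apply μ, hμ2]
    obtain ⟨z, hz, hzw⟩ := exists_GP_at (pullback.snd f' g) vb w₁ hwu'
    let z₀ := z ≫ pullback.fst f' g
    have hz₀ : z₀ ∈ Z i := by
      refine ⟨?_, W.ι.isOpenEmbedding.injective ?_⟩
      · show (z ≫ _) ≫ f' = yb
        rw [Category.assoc, pullback.condition, ← Category.assoc, show z ≫ _ = vb from hz, hvb]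
      · rw [pt_comp, hzw]
        rw [← Scheme.Hom.comp_apply μ, hμ1, Scheme.Hom.comp_apply] at hwx
        exact hwx
    obtain ⟨j, hj⟩ : ∃ j : J i, (ζ i j).1 = z₀ :=
      ⟨(hZ i).toFinset.equivFin ⟨z₀, (hZ i).mem_toFinset.2 hz₀⟩, by simp [ζ]⟩
    refine ⟨j, congrArg μ ?_⟩
    have he : z = z' (ζ i j) := pullback.hom_ext (by rw [hz'1 (ζ i j), hj]) (by
      rw [hz'2 (ζ i j)]; exact hz)
    rw [← hzw, he]

end Groth.Agent.S1482
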