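import Groth.Statements.S14820
import Groth.Agent.AbCubeLib.ImageInGroup
import Groth.Agent.AbCubeLib.FiniteProduct
import Groth.Agent.SGA3cLib.GeomConn
import Groth.Agent.DimLib.Morphism
import Groth.Agent.AbVarLib.GeomIntegralSmooth
import Mathlib.RingTheory.KrullDimension.Polynomial
-- import your own Groth.Agent.* helpers here

set_option autoImplicit false
universe u
open CategoryTheory MonoidalCategory CartesianMonoidalCategory MonObj GrpObj AlgebraicGeometry
open AbVar

namespace Groth.Agent.S14820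

/-- Let k be an arbitrary field and G a commutative group scheme locally of finite type over k. Then
there is a closed subgroup scheme M of G which is an abelian variety over k (proper and
geometrically integral) and through which every homomorphism A → G from an abelian variety A over k
(a geometrically reduced, connected, proper k-group scheme) factors. -/
theorem result (k : Type u) [Field k]
    (G : Over (Spec (CommRingCat.of k))) [GrpObj G] [IsCommMonObj G] [LocallyOfFiniteType G.hom] :
    ∃ (M : Over (Spec (CommRingCat.of k))) (_ : GrpObj M) (i : M ⟶ G), IsMonHom i ∧ IsClosedImmersion i.left ∧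
      IsProper M.hom ∧ GeometricallyIntegral M.hom ∧
      ∀ (A : Over (Spec (CommRingCat.of k))) [GrpObj A] [IsProper A.hom] [GeometricallyReduced A.hom] [ConnectedSpace ↥A.left]
        (φ : A ⟶ G), IsMonHom φ → ∃ ψ : A ⟶ M, ψ ≫ i = φ := by
  classical
  let e : G.left := η[G].left (IsLocalRing.closedPoint k)
  -- a bound on the dimension near the unit
  obtain ⟨R, φ₀, j₀, P₀, hj₀, hφ₀, hj₀f, hP₀⟩ := Groth.Agent.DimLib.exists_chart G.hom e
  obtain ⟨n, hn⟩ : ∃ n : ℕ, ringKrullDim R ≤ n := by
    algebraize [φ₀]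
    obtain ⟨n, f, hf⟩ := Algebra.FiniteType.iff_quotient_mvPolynomial''.1 (inferInstance : Algebra.FiniteType k R)
    refine ⟨n, (ringKrullDim_le_of_surjective f.toRingHom hf).trans ?_⟩
    rw [MvPolynomial.ringKrullDim_of_isNoetherianRing, ringKrullDim_eq_zero_of_field, zero_add, Nat.card_fin]
  let S : Set ℕ := {d | ∃ (M : Over (Spec (CommRingCat.of k))) (_ : GrpObj M) (i : M ⟶ G), IsMonHom i ∧
    IsClosedImmersion i.left ∧ IsProper M.hom ∧ GeometricallyIntegral M.hom ∧
    ∃ x : M.left, (∀ y, x ⤳ y) ∧ Groth.Agent.DimLib.ptDim M.hom x = d}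
  have hgen : ∀ (M : Over (Spec (CommRingCat.of k))) [GeometricallyIntegral M.hom],
      ∃ x : M.left, ∀ y, x ⤳ y := fun M _ => by
    haveI : IsIntegral M.left := GeometricallyIntegral.isIntegral_of_subsingleton M.hom
    exact ⟨genericPoint M.left, fun y => genericPoint_specializes y⟩
  have hbdd : ∀ d ∈ S, d ≤ n := by
    rintro d ⟨M, _, i, hi, hic, hMp, hMg, x, hx, rfl⟩
    have he : η[M].left (IsLocalRing.closedPoint k) ∈ (Set.univ : Set M.left) := trivial
    have h1 : i.left x ⤳ e := by
      have h : i.left (η[M].left (IsLocalRing.closedPoint k)) = e := by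
        rw [← Scheme.Hom.comp_apply, ← Over.comp_left, IsMonHom.one_hom]
      exact h ▸ (hx _).map i.left.continuous
    obtain ⟨P, hP⟩ : i.left x ∈ Set.range j₀ :=
      h1.mem_open j₀.isOpenEmbedding.isOpen_range ⟨P₀, hP₀⟩
    have h2 := Groth.Agent.DimLib.ptDim_chart G.hom φ₀ hφ₀ j₀ hj₀f P
    rw [hP, ← Groth.Agent.DimLib.ptDim_comp_preimmersion G.hom i.left x, Over.w i] at h2
    have h3 := (h2 ▸ (ringKrullDim_quotient_le P.asIdeal)).trans hn
    exact_mod_cast h3
  have hne : S.Nonempty := by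
    haveI : GeometricallyIntegral (𝟙_ (Over (Spec (CommRingCat.of k)))).hom :=
      Groth.Agent.AbCubeLib.geometricallyIntegral_id
    haveI : IsProper (𝟙_ (Over (Spec (CommRingCat.of k)))).hom :=
      inferInstanceAs (IsProper (𝟙 (Spec (CommRingCat.of k))))
    obtain ⟨M, _, i, q, hMp, hMg, hi, hic, -, -, -, -⟩ :=
      Groth.Agent.AbCubeLib.exists_image_in_group (A := 𝟙_ (Over (Spec (CommRingCat.of k)))) η[G]
    obtain ⟨x, hx⟩ := hgen M
    exact ⟨_, M, inferInstance, i, hi, hic, hMp, hMg, x, hx, rfl⟩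
  obtain ⟨M, _, i, hi, hic, hMp, hMg, x, hx, hd⟩ := Nat.sSup_mem hne ⟨n, hbdd⟩
  refine ⟨M, inferInstance, i, hi, hic, hMp, hMg, fun A _ _ _ _ φ hφ => ?_⟩
  haveI : IsMonHom φ := hφ
  haveI : GeometricallyIntegral A.hom := by
    haveI : Smooth A.hom := Groth.Agent.AbVarLib.smooth_of_geometricallyReduced A
    haveI : GeometricallyConnected A.hom := by
      have := Groth.Agent.SGA3cLib.geometricallyConnected_of_rational_point k A.hom (𝟙 A.left) η[A].left (Over.w η[A])
        (fun y _ => ⟨y, rfl⟩)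
      rwa [Category.id_comp] at this
    exact Groth.Agent.AbVarLib.geometricallyIntegral_of_smooth A.hom
  obtain ⟨N, _, j, qN, hNp, hNg, hj, hjc, hqN, -, hfac, -⟩ := Groth.Agent.AbCubeLib.exists_image_in_group φ
  haveI : GeometricallyIntegral (M ⊗ N).hom := Groth.Agent.AbCubeLib.geometricallyIntegral_tensor' M N
  haveI : IsProper (M ⊗ N).hom := inferInstanceAs (IsProper (Limits.pullback.fst M.hom N.hom ≫ M.hom))
  let σ : M ⊗ N ⟶ G := (fst M N ≫ i) * (snd M N ≫ j)
  haveI : IsMonHom σ := inferInstanceAs (IsMonHom (lift (fst M N ≫ i) (snd M N ≫ j) ≫ μ[G]))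
  obtain ⟨C, _, jC, qC, hCp, hCg, hjC, hjCc, hqC, -, hfacC, -⟩ := Groth.Agent.AbCubeLib.exists_image_in_group σ
  let iM : M ⟶ C := lift (𝟙 M) 1 ≫ qC
  let iN : N ⟶ C := lift 1 (𝟙 N) ≫ qC
  have hiM : iM ≫ jC = i := by
    rw [Category.assoc, hfacC, MonObj.comp_mul, lift_fst_assoc, lift_snd_assoc, Category.id_comp, MonObj.one_comp,
      _root_.mul_one]
  have hiN : iN ≫ jC = j := by
    rw [Category.assoc, hfacC, MonObj.comp_mul, lift_fst_assoc, lift_snd_assoc, Category.id_comp, MonObj.one_comp,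
      _root_.one_mul]
  haveI : IsClosedImmersion (iM.left ≫ jC.left) := by rw [← Over.comp_left, hiM]; exact hic
  haveI : IsClosedImmersion iM.left := IsClosedImmersion.of_comp iM.left jC.left
  obtain ⟨c, hc⟩ := hgen C
  have hcS : Groth.Agent.DimLib.ptDim C.hom c ≤ sSup S :=
    le_csSup ⟨n, hbdd⟩ ⟨C, inferInstance, jC, hjC, hjCc, hCp, hCg, c, hc, rfl⟩
  have hxc : iM.left x = c := by
    by_contra h
    have h1 := Groth.Agent.DimLib.ptDim_lt_of_specializes C.hom (hc (iM.left x)) (fun e => h e.symm)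
    rw [← Groth.Agent.DimLib.ptDim_comp_preimmersion C.hom iM.left x, Over.w iM, hd] at h1
    omega
  haveI : Surjective iM.left := ⟨fun y => (hc y).mem_closed iM.left.isClosedEmbedding.isClosed_range ⟨x, hxc⟩⟩
  haveI : IsIntegral C.left := GeometricallyIntegral.isIntegral_of_subsingleton C.hom
  haveI : IsIso iM.left := isIso_of_isClosedImmersion_of_surjective _
  haveI : IsIso ((Over.forget _).map iM) := inferInstanceAs (IsIso iM.left)
  haveI : IsIso iM := isIso_of_reflects_iso iM (Over.forget _)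
  refine ⟨qN ≫ iN ≫ inv iM, ?_⟩
  rw [← hfac, ← hiM, ← hiN]
  simp only [Category.assoc, IsIso.inv_hom_id_assoc]

end Groth.Agent.S14820
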