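import Groth.Statements.S14822
import Groth.Agent.Coherent.BiratFibration

set_option autoImplicit false
universe u
open CategoryTheory CategoryTheory.Limits AlgebraicGeometry
open CohIII

namespace Groth.Agent.S14822

/-- Let k be a field and f : X → Y a surjective k-morphism between integral proper k-schemes of the same
dimension, with Y normal (all local rings integrally closed domains). Then f is a fibration (Γ(U,
O_Y) → Γ(f⁻¹U, O_X) bijective for every open U ⊆ Y) if and only if f is birational: the embedding
K(Y) → K(X) of function fields given by the stalk map at the generic points is bijective. -/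
theorem result (k : Type u) [Field k]
    (X Y : Scheme.{u}) [X.Over (Spec (CommRingCat.of k))] [Y.Over (Spec (CommRingCat.of k))]
    [IsProper (X ↘ Spec (CommRingCat.of k))] [IsProper (Y ↘ Spec (CommRingCat.of k))] [IsIntegral X] [IsIntegral Y]
    (hY : Pi1.IsNormalScheme Y) (f : X ⟶ Y) [Surjective f] (hf : f ≫ (Y ↘ Spec (CommRingCat.of k)) = X ↘ Spec (CommRingCat.of k))
    (hdim : topologicalKrullDim ↥X = topologicalKrullDim ↥Y)
    (h : f.base (genericPoint ↥X) ⤳ genericPoint ↥Y) :
    (∀ U : Y.Opens, IsIso (f.app U)) ↔ Function.Bijective (CohIII.stalkToFunctionField f (genericPoint ↥Y) h) := by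
  have : IsProper f := by
    have hp : IsProper (f ≫ (Y ↘ Spec (CommRingCat.of k))) := by rw [hf]; infer_instance
    exact IsProper.of_comp f (Y ↘ Spec (CommRingCat.of k))
  have : IsLocallyNoetherian Y :=
    LocallyOfFiniteType.isLocallyNoetherian (Y ↘ Spec (CommRingCat.of k))
  have : Y.IsSeparated := by
    constructor
    have : IsSeparated ((Y ↘ Spec (CommRingCat.of k)) ≫ Limits.terminal.from _) := inferInstance
    rwa [Limits.terminal.comp_from] at this
  have : LocallyOfFiniteType (f ≫ (Y ↘ Spec (CommRingCat.of k))) := by rw [hf]; infer_instance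
  refine ⟨fun hiso => Groth.Agent.Coherent.bijective_stalkToFunctionField f h hiso fun z hz =>
      Groth.Agent.Coherent.eq_genericPoint_of_apply_eq (Y ↘ Spec (CommRingCat.of k)) f hdim hz,
    fun hbij U => Groth.Agent.Coherent.isIso_app_of_algClosed f hY h (fun x _ => hbij.2 x) U⟩

end Groth.Agent.S14822

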