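import Groth.Statements.S14825
-- import your own Groth.Agent.* helpers here

set_option autoImplicit false
universe u
open CategoryTheory MonoidalCategory CartesianMonoidalCategory MonObj GrpObj AlgebraicGeometry
open AbVar

namespace Groth.Agent.S14825

open CategoryTheory.Limits Opposite TopologicalSpace in
/-- Zeroth cohomology of the structure sheaf has the dimension of the ring of global functions, so a
one-dimensional `H⁰` means that the global functions are the scalars. -/
theorem bijective_appTop (k : Type u) [Field k] (X : Scheme.{u}) [X.Over (Spec (CommRingCat.of k))]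
    (h0 : Module.finrank k (Coh.HH X (Coh.structureModule X) 0) = 1) :
    Function.Bijective (Coh.toGlobal (X ↘ Spec (CommRingCat.of k))) := by
  let φ := Coh.toGlobal (X ↘ Spec (CommRingCat.of k))
  let : Algebra k (Coh.Γtop X) := RingHom.toAlgebra' φ (fun r x => @mul_comm Γ(X, ⊤) _ (φ r) x)
  let T := Limits.IsTerminal.ofUniqueHom (fun U : Opens X => homOfLE (le_top (a := U))) fun _ _ => rfl
  let E : Coh.HH X (Coh.structureModule X) 0 ≃+ Coh.Γtop X :=
    Sheaf.H.equiv₀ (Coh.toAb (Coh.structureModule X)) T
  have hE : ∀ (r : k) (x : Coh.HH X (Coh.structureModule X) 0), E (r • x) = r • E x := by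
    intro r x
    refine (Sheaf.H.equiv₀_naturality T (Coh.smulAb (Coh.structureModule X) (φ r)) x).symm.trans ?_
    change Coh.resTop X (op ⊤) (φ r) • E x = _
    have : Coh.resTop X (op ⊤) = RingHom.id _ := by
      have h1 : (homOfLE (le_top (a := (⊤ : Opens X)))).op = 𝟙 (op (⊤ : Opens X)) := rfl
      unfold Coh.resTop
      erw [h1, CategoryTheory.Functor.map_id]
      rfl
    rw [this]
    rfl
  let L : Coh.HH X (Coh.structureModule X) 0 ≃ₗ[k] Coh.Γtop X := { E with map_smul' := hE }
  have h1 : Module.finrank k (Coh.Γtop X) = 1 := L.finrank_eq ▸ h0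
  have : Nontrivial (Coh.Γtop X) := Module.nontrivial_of_finrank_eq_succ h1
  refine ⟨φ.injective, fun x => ?_⟩
  obtain ⟨c, hc⟩ := (finrank_eq_one_iff_of_nonzero' (1 : Coh.Γtop X) one_ne_zero).mp h1 x
  refine ⟨c, ?_⟩
  rw [← hc, Algebra.smul_def]
  exact (_root_.mul_one _).symm

/-- A morphism from a scheme with only constant functions whose image is a point is constant. -/
theorem eq_toUnit_comp_of_subsingleton {S : Scheme.{u}} [IsAffine S] {X A : Over S}
    (hX : IsIso X.hom.appTop) (f : X ⟶ A) (x₀ : 𝟙_ (Over S) ⟶ X)
    (hf : (Set.range f.left.base).Subsingleton) : f = toUnit X ≫ x₀ ≫ f := by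
  rcases isEmpty_or_nonempty ↥X.left with hemp | hne
  · exact Over.OverMorphism.ext ((emptyIsInitial.ofIso (asIso (Scheme.emptyTo X.left))).hom_ext _ _)
  obtain ⟨x⟩ := hne
  obtain ⟨_, ⟨U, hU, rfl⟩, hxU, -⟩ :=
    A.left.isBasis_affineOpens.exists_subset_of_mem_open (Set.mem_univ (f.left x)) isOpen_univ
  have hsub : Set.range f.left.base ⊆ (U : Set A.left) := fun a ha => by
    rw [hf ha ⟨x, rfl⟩]; exact hxU
  change A.left.Opens at U
  have : IsAffine U.toScheme := hU
  let f' : X.left ⟶ U.toScheme := IsOpenImmersion.lift U.ι f.left (by simpa using hsub)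
  let σ : S ⟶ X.left := x₀.left
  have hσ : σ ≫ X.hom = 𝟙 S := Over.w x₀
  apply Over.OverMorphism.ext
  change f.left = X.hom ≫ σ ≫ f.left
  have hext : f' = X.hom ≫ σ ≫ f' := by
    apply ext_of_isAffine
    have hinv : σ.appTop ≫ X.hom.appTop = 𝟙 _ := by
      have : X.hom.appTop ≫ σ.appTop = 𝟙 _ := by rw [← Scheme.Hom.comp_appTop, hσ]; simp
      rw [← cancel_epi X.hom.appTop, ← Category.assoc, this, Category.id_comp, Category.comp_id]
    simp only [Scheme.Hom.comp_appTop, Category.assoc, hinv, Category.comp_id]
  calc f.left = f' ≫ U.ι := (IsOpenImmersion.lift_fac _ _ _).symm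
    _ = (X.hom ≫ σ ≫ f') ≫ U.ι := by rw [← hext]
    _ = X.hom ≫ σ ≫ f.left := by rw [Category.assoc, Category.assoc, IsOpenImmersion.lift_fac]


/-- In the pointed case, let k be a field and X a proper k-scheme with H^0(X, O_X) one-dimensional and a
k-rational point x₀; let alb : X → A be the Albanese morphism (A an abelian variety over k — proper,
geometrically integral group scheme — with alb(x₀) = 0, universal among pointed k-morphisms from X
to abelian varieties, the latter being geometrically reduced, connected, proper group schemes). Then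
X has Albanese dimension zero, i.e. the image of alb is a single point of A (X is connected, so this
says the image is zero-dimensional), if and only if A is the trivial abelian variety, i.e. A → Spec
k is an isomorphism. (The published statement does not assume a rational point (it works with the
Albanese torsor); this row assumes one.) -/
theorem result (k : Type u) [Field k] (X : Scheme.{u}) [X.Over (Spec (CommRingCat.of k))]
    [IsProper (X ↘ Spec (CommRingCat.of k))] (h0 : Module.finrank k (Coh.HH X (Coh.structureModule X) 0) = 1)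
    (x₀ : 𝟙_ (Over (Spec (CommRingCat.of k))) ⟶ Over.mk (X ↘ Spec (CommRingCat.of k)))
    (A : Over (Spec (CommRingCat.of k))) [GrpObj A] [IsProper A.hom] [GeometricallyIntegral A.hom]
    (alb : Over.mk (X ↘ Spec (CommRingCat.of k)) ⟶ A) (halb : x₀ ≫ alb = η[A])
    (huniv : ∀ (B : Over (Spec (CommRingCat.of k))) [GrpObj B] [IsProper B.hom] [GeometricallyReduced B.hom] [ConnectedSpace ↥B.left]
      (g : Over.mk (X ↘ Spec (CommRingCat.of k)) ⟶ B), x₀ ≫ g = η[B] → ∃! h : A ⟶ B, IsMonHom h ∧ alb ≫ h = g) :
    (Set.range alb.left.base).Subsingleton ↔ IsIso A.hom := by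
  constructor
  · intro h
    have hb := bijective_appTop k X h0
    have hiso : IsIso (X ↘ Spec (CommRingCat.of k)).appTop := by
      rw [ConcreteCategory.isIso_iff_bijective]
      exact ((Function.Bijective.of_comp_iff _ (ConcreteCategory.bijective_of_isIso
        (Scheme.ΓSpecIso (CommRingCat.of k)).inv)).mp hb)
    have hconst := eq_toUnit_comp_of_subsingleton (X := Over.mk (X ↘ Spec (CommRingCat.of k))) hiso alb x₀ h
    rw [halb] at hconst
    have : IrreducibleSpace ↥A.left := GeometricallyIrreducible.irreducibleSpace A.hom A.hom.isOpenMap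
    obtain ⟨e, -, he⟩ := huniv A alb halb
    have h1 : (𝟙 A : A ⟶ A) = toUnit A ≫ η[A] := by
      refine (he (𝟙 A) ⟨inferInstance, Category.comp_id alb⟩).trans (he _ ⟨?_, ?_⟩).symm
      · exact inferInstanceAs (IsMonHom (toUnit A ≫ η[A]))
      · rw [← Category.assoc, toUnit_unique (alb ≫ toUnit A) (toUnit _)]
        exact hconst.symm
    exact ⟨η[A].left, congrArg Over.Hom.left h1.symm, Over.w η[A]⟩
  · intro _
    have : Subsingleton ↥A.left :=
      (ConcreteCategory.bijective_of_isIso A.hom.base).1.subsingleton
    exact Set.subsingleton_of_subsingleton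

end Groth.Agent.S14825
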