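import Groth.Statements.S14827
import Mathlib.CategoryTheory.Monoidal.Cartesian.Grp
open CategoryTheory CategoryTheory.Limits AlgebraicGeometry MonoidalCategory CartesianMonoidalCategory MonObj

set_option autoImplicit false
universe u
open CategoryTheory MonoidalCategory CartesianMonoidalCategory MonObj GrpObj AlgebraicGeometry
open AbVar

namespace Groth.Agent.S14827

/-- Over a field k (the published statement is over a base scheme S), let X be a proper k-scheme with
H^0(X, O_X) one-dimensional and a k-rational point x₀, and alb : X → A the Albanese morphism for the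
base point x₀ (A an abelian variety — proper, geometrically integral group scheme — with alb(x₀) =
0, universal among pointed morphisms to geometrically reduced, connected, proper group schemes). For
a second k-rational point x₁ let alb' = alb · (constant map with value alb(x₁))⁻¹, i.e. alb followed
by the translation of A by −alb(x₁). Then alb' is the Albanese morphism of X pointed by x₁: alb'(x₁)
= 0, and every k-morphism g : X → B to an abelian variety B with g(x₁) = 0 equals alb' ≫ h for a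
unique homomorphism h : A → B. -/
theorem result (k : Type u) [Field k] (X : Scheme.{u}) [X.Over (Spec (CommRingCat.of k))]
    [IsProper (X ↘ Spec (CommRingCat.of k))] (h0 : Module.finrank k (Coh.HH X (Coh.structureModule X) 0) = 1)
    (x₀ : 𝟙_ (Over (Spec (CommRingCat.of k))) ⟶ Over.mk (X ↘ Spec (CommRingCat.of k)))
    (A : Over (Spec (CommRingCat.of k))) [GrpObj A] [IsProper A.hom] [GeometricallyIntegral A.hom]
    (alb : Over.mk (X ↘ Spec (CommRingCat.of k)) ⟶ A) (halb : x₀ ≫ alb = η[A])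
    (huniv : ∀ (B : Over (Spec (CommRingCat.of k))) [GrpObj B] [IsProper B.hom] [GeometricallyReduced B.hom] [ConnectedSpace ↥B.left]
      (g : Over.mk (X ↘ Spec (CommRingCat.of k)) ⟶ B), x₀ ≫ g = η[B] → ∃! h : A ⟶ B, IsMonHom h ∧ alb ≫ h = g)
    (x₁ : 𝟙_ (Over (Spec (CommRingCat.of k))) ⟶ Over.mk (X ↘ Spec (CommRingCat.of k))) :
    x₁ ≫ (alb * (toUnit (Over.mk (X ↘ Spec (CommRingCat.of k))) ≫ x₁ ≫ alb)⁻¹) = η[A] ∧
    ∀ (B : Over (Spec (CommRingCat.of k))) [GrpObj B] [IsProper B.hom] [GeometricallyReduced B.hom] [ConnectedSpace ↥B.left]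
      (g : Over.mk (X ↘ Spec (CommRingCat.of k)) ⟶ B), x₁ ≫ g = η[B] →
        ∃! h : A ⟶ B, IsMonHom h ∧ (alb * (toUnit (Over.mk (X ↘ Spec (CommRingCat.of k))) ≫ x₁ ≫ alb)⁻¹) ≫ h = g := by
  let X' := Over.mk (X ↘ Spec (CommRingCat.of k))
  have hx : ∀ (B : Over (Spec (CommRingCat.of k))) (x : 𝟙_ _ ⟶ X') (y : 𝟙_ _ ⟶ B),
      x ≫ toUnit X' ≫ y = y := fun B x y => by
    rw [← Category.assoc, show x ≫ toUnit X' = 𝟙 (𝟙_ _) from toUnit_unique _ _, Category.id_comp]
  rw [one_eq_one] at halb ⊢
  refine ⟨by rw [MonObj.comp_mul, GrpObj.comp_inv, hx, mul_inv_cancel], fun B _ _ _ _ g hg => ?_⟩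
  rw [one_eq_one] at hg
  set c : 𝟙_ _ ⟶ B := (x₀ ≫ g)⁻¹ with hc
  obtain ⟨h, ⟨hh, hgh⟩, hu⟩ := huniv B (g * (toUnit X' ≫ c))
    (by rw [one_eq_one, MonObj.comp_mul, hx, hc, mul_inv_cancel])
  refine ⟨h, ⟨hh, ?_⟩, fun h' hh' => hu h' ⟨hh'.1, ?_⟩⟩
  · have := hh
    rw [MonObj.mul_comp, GrpObj.inv_comp, Category.assoc, Category.assoc, hgh, MonObj.comp_mul, hx, hg, _root_.one_mul]
    exact mul_inv_cancel_right _ _
  · have := hh'.1
    have h1 := hh'.2
    rw [MonObj.mul_comp, GrpObj.inv_comp, Category.assoc, Category.assoc, ← eq_mul_inv_iff_mul_eq, _root_.inv_inv] at h1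
    have h2 := congrArg (fun q => x₀ ≫ q) h1
    simp only [MonObj.comp_mul] at h2
    rw [← Category.assoc, halb, MonObj.one_comp, hx] at h2
    rw [h1, hc, inv_eq_of_mul_eq_one_right h2.symm]

end Groth.Agent.S14827
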