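import Groth.Statements.S14828
import Groth.Agent.Mod22.CMDual
import Groth.Agent.EGA43.DimFormula.Interval
import Groth.Agent.S8914
import Groth.Agent.SDiv28.StalkCartier
import Groth.Agent.CAlgH3.CMRing
import Groth.Agent.Surf15.IntPush
import Groth.Agent.SerreDual.ExtShDivisor
import Groth.Agent.SerreDual.ExtShRep
import Groth.Agent.Coherent.TensorQcoh
import Groth.Agent.FlatMor12.HomQCoh
import Groth.Agent.EGA43.InjFibre.Scheme
-- import your own Groth.Agent.* helpers here

set_option autoImplicit false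
universe u
open CategoryTheory CategoryTheory.Limits AlgebraicGeometry
open Canon
open CategoryTheory.Abelian

namespace Groth.Agent.S14828

open Groth.Agent.Coherent Groth.Agent.SerreDual Groth.Agent.EulerLib

set_option linter.style.haveILetI false
set_option backward.isDefEq.respectTransparency.types false

theorem stalk_cm {X D : Scheme.{u}} (i : D ⟶ X) [IsClosedImmersion i]
    (hI : BlowUp.IsEffCartierIdeal i.ker) (d : D)
    [LocCoh.IsCohenMacaulayLocalRing (X.presheaf.stalk (i d))] :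
    LocCoh.IsCohenMacaulayLocalRing (D.presheaf.stalk d) ∧
      ringKrullDim (D.presheaf.stalk d) + 1 = ringKrullDim (X.presheaf.stalk (i d)) := by
  obtain ⟨U, hx, f, hf, hfI⟩ := hI (i d)
  letI := X.presheaf.algebra_section_stalk (⟨_, hx⟩ : U.1)
  haveI := U.2.isLocalization_stalk ⟨_, hx⟩
  let R := X.presheaf.stalk (i d)
  let g : R := X.presheaf.germ U.1 _ hx f
  have hg : g ∈ nonZeroDivisors R := IsLocalization.map_nonZeroDivisors_le
    (U.2.primeIdealOf ⟨_, hx⟩).asIdeal.primeCompl _ (Submonoid.mem_map_of_mem _ hf)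
  haveI : IsClosedImmersion (i ∣_ U.1) := inferInstance
  have hker : RingHom.ker (i.stalkMap d).hom = Ideal.span {g} := by
    rw [CAlgH.RegImmStalk.ker_stalkMap_eq i d U.2 hx, ← Scheme.Hom.ker_apply, hfI, Ideal.map_span,
      Set.image_singleton]
  have hgm : g ∈ IsLocalRing.maximalIdeal R :=
    IsLocalRing.le_maximalIdeal (hker ▸ RingHom.ker_ne_top (i.stalkMap d).hom)
      (Ideal.mem_span_singleton_self g)
  haveI : IsLocalRing (R ⧸ Ideal.span {g}) :=
    CAlgH3.isLocalRing_quotient (CAlgH3.span_singleton_le_maximal hgm)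
  let e : R ⧸ Ideal.span {g} ≃+* D.presheaf.stalk d :=
    (Ideal.quotEquivOfEq hker.symm).trans (RingHom.quotientKerEquivOfSurjective (i.stalkMap_surjective d))
  haveI := (CAlgH3.isCohenMacaulayLocalRing_quotient_span_iff hgm
    (Module.Flat.isSMulRegular_of_nonZeroDivisors hg)).2 inferInstance
  refine ⟨CAlgH3.isCohenMacaulayLocalRing_of_ringEquiv e, ?_⟩
  rw [← ringKrullDim_eq_of_ringEquiv e]
  exact ringKrullDim_quotient_span_singleton_succ_eq_ringKrullDim_of_mem_nonZeroDivisors hg hgm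

theorem nonempty_extSh_iso {X D : Scheme.{u}} (i : D ⟶ X) [IsClosedImmersion i]
    (hI : PicF.IsInvertible (ClSub.idealMod i.ker)) (OD : X.Modules)
    (hOD : ClSub.IsInverseOf OD (ClSub.idealMod i.ker)) (ω : X.Modules) (J : InjectiveResolution ω) :
    Nonempty ((Scheme.Modules.pushforward i).obj ((Scheme.Modules.pullback i).obj (CohB1.tensorMod OD ω)) ≅
      (homCx ((Scheme.Modules.pushforward i).obj (Coh.structureModule D)) J).homology 1) := by
  obtain ⟨e⟩ := hOD
  haveI := AmpleLib.mono_idealModι i.ker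
  obtain ⟨eQ⟩ := Surf15.nonempty_push_iso_quotMod i
  have hS := CurveRR24.shortExact_ideal i.ker
  obtain ⟨h1⟩ := SerreDual.nonempty_homology_one_iso hS (Coherent.CohBC.isFinLocFree_structureModule X) J
  obtain ⟨h2⟩ := SerreDual.nonempty_homology_congr eQ J 1
  obtain ⟨h3⟩ := SerreDual.nonempty_cokernel_precompApp (ClSub.idealModι i.ker) ω hI
    (ClSub.toSubscheme i.ker) _ hS
  obtain ⟨h4⟩ := SerreDual.nonempty_internalHom_eq_tensor (SerreDual.isFinLocFree_of_invertible hI) ω
  obtain ⟨h5⟩ := SerreDual.nonempty_dual_iso_inverse hI e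
  exact ⟨(pushPullTensIso i).app _ ≪≫
    (h2 ≪≫ h1 ≪≫ h3 ≪≫ AmpleLib.tensorIso eQ.symm (h4 ≪≫ AmpleLib.tensorIso h5 (Iso.refl ω))).symm⟩


/-- Take any field k and a proper k-scheme X that is Cohen–Macaulay and equidimensional of dimension n
(the local ring at every closed point is Cohen–Macaulay of dimension n, and dim X = n), let (ω_X,
tr_X) be a dualizing sheaf of X in the sense that Hom(F, ω_X) → H^n(X, F)^∨, φ ↦ tr_X ∘ H^n(φ), is
bijective for every quasi-coherent F, and let i : D → X be an effective Cartier divisor, i.e. a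
closed subscheme whose ideal sheaf I is an invertible O_X-module, with O_X(D) an inverse of I. Then
(i) D is Cohen–Macaulay and every closed point of D has local ring of dimension n − 1, and (ii) for
every dualizing sheaf (ω_D, tr_D) of D in degree n − 1 there is an isomorphism ω_D ≅ (O_X(D) ⊗
ω_X)|_D (existence of an isomorphism; the canonical identification through Ext¹(O_D, ω_X) is not
constructed here). -/
theorem result (k : Type u) [Field k]
    (X : Scheme.{u}) [X.Over (Spec (CommRingCat.of k))] [IsProper (X ↘ Spec (CommRingCat.of k))] (n : ℕ) (hn : topologicalKrullDim ↥X = n)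
    (hCM : ∀ x : X, LocCoh.IsCohenMacaulayLocalRing (X.presheaf.stalk x))
    (heq : ∀ x : X, IsClosed ({x} : Set ↥X) → ringKrullDim (X.presheaf.stalk x) = n)
    (ωX : X.Modules) (trX : Coh.HH X ωX n →ₗ[k] k) (hωX : Canon.IsRDualOver k X n ωX trX)
    (D : Scheme.{u}) (i : D ⟶ X) [IsClosedImmersion i] (hI : PicF.IsInvertible (ClSub.idealMod i.ker))
    (OD : X.Modules) (hOD : ClSub.IsInverseOf OD (ClSub.idealMod i.ker)) :
    letI : D.Over (Spec (CommRingCat.of k)) := ⟨i ≫ (X ↘ Spec (CommRingCat.of k))⟩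
    (∀ d : D, LocCoh.IsCohenMacaulayLocalRing (D.presheaf.stalk d) ∧
        (IsClosed ({d} : Set ↥D) → ringKrullDim (D.presheaf.stalk d) = (n - 1 : ℕ))) ∧
      ∀ (ωD : D.Modules) (trD : Coh.HH D ωD (n - 1) →ₗ[k] k), Canon.IsRDualOver k D (n - 1) ωD trD →
        Nonempty (ωD ≅ (Scheme.Modules.pullback i).obj (CohB1.tensorMod OD ωX)) := by
  letI : D.Over (Spec (CommRingCat.of k)) := ⟨i ≫ (X ↘ Spec (CommRingCat.of k))⟩
  haveI : IsProper (D ↘ Spec (CommRingCat.of k)) :=
    inferInstanceAs (IsProper (i ≫ (X ↘ Spec (CommRingCat.of k))))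
  haveI := isNoetherian_of_proper (k := k) (X := X)
  haveI := isNoetherian_of_proper (k := k) (X := D)
  haveI := isSeparated_of_proper (X := X) k
  haveI := isSeparated_of_proper (X := D) k
  haveI : JacobsonSpace D := LocallyOfFiniteType.jacobsonSpace (D ↘ Spec (CommRingCat.of k))
  have hE : BlowUp.IsEffCartierIdeal i.ker := (S8914.result i.ker).1 hI
  have hst : ∀ d : D, LocCoh.IsCohenMacaulayLocalRing (D.presheaf.stalk d) ∧ (IsClosed ({d} : Set D) →
      ringKrullDim (D.presheaf.stalk d) + 1 = n) := fun d => by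
    haveI := hCM (i d)
    refine ⟨(stalk_cm i hE d).1, fun hd => (stalk_cm i hE d).2.trans (heq _ ?_)⟩
    simpa [Set.image_singleton] using i.isClosedEmbedding.isClosedMap _ hd
  have hdimc : ∀ d : D, IsClosed ({d} : Set D) → ringKrullDim (D.presheaf.stalk d) = (n - 1 : ℕ) ∧ 1 ≤ n :=
    fun d hd => by
    have h := (hst d).2 hd
    haveI := (hst d).1
    obtain ⟨m, hm⟩ := LocCoh.exists_dim_eq (R := D.presheaf.stalk d)
    rw [hm] at h
    have h' : m + 1 = n := by exact_mod_cast h
    exact ⟨by rw [hm, show m = n - 1 by omega], by omega⟩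
  refine ⟨fun d => ⟨(hst d).1, fun hd => (hdimc d hd).1⟩, fun ωD trD hωD => ?_⟩
  let ω' := (Scheme.Modules.pullback i).obj (CohB1.tensorMod OD ωX)
  by_cases hne : Nonempty D
  swap
  · haveI := not_nonempty_iff.1 hne
    have hz : ∀ M : D.Modules, IsZero M := fun M => Mod22.CMDual.isZero_of_subsingleton fun y => isEmptyElim y
    exact ⟨(hz ωD).iso (hz ω')⟩
  obtain ⟨c, -, hc⟩ := nonempty_inter_closedPoints (Z := (Set.univ : Set D)) ⟨hne.some, trivial⟩
    isClosed_univ.isLocallyClosed
  have hn1 : 1 ≤ n := (hdimc c hc).2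
  have hdimD : topologicalKrullDim D ≤ ((n - 1 : ℕ) : WithBot ℕ∞) := by
    rw [EGA43.DimFormula.topologicalKrullDim_eq_iSup_closed]
    exact iSup_le fun x => (hdimc x.1 x.2).1.le
  haveI : HasExt.{u} X.Modules :=
    haveI : IsGrothendieckAbelian.{u} X.Modules := DCat.schemeModules_isGrothendieckAbelian _
    inferInstance
  haveI := DCat.hasRpush (X ↘ Spec (CommRingCat.of k))
  haveI : Coh.IsQCoh ωX := hωX.1
  have hXrep : ∀ F : X.Modules, Coh.IsQCoh F → Rep trX F := fun F hF =>
    (congrArg Function.Bijective (funext fun φ => LinearMap.ext fun x => (theta_apply trX φ x).symm)).mp (hωX.2 F hF)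
  have hDrep : ∀ F : D.Modules, Coh.IsQCoh F → Rep trD F := fun F hF =>
    (congrArg Function.Bijective (funext fun φ => LinearMap.ext fun x => (theta_apply trD φ x).symm)).mp (hωD.2 F hF)
  haveI : ∀ (F : D.Modules) [Coh.IsQCoh F], Coh.IsQCoh ((Coh.push i).obj F) := fun F _ => Coherent.isQCoh_push i F
  haveI : HasInjectiveResolutions X.Modules := SerreDual.hasInjectiveResolutions_modules X
  let J := injectiveResolution ωX
  let P := (Coh.push i).obj (Coh.structureModule D)
  have hP : Coh.IsCoh P := isCoh_push_finite i (Coherent.isCoh_structureModule D)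
  haveI : Coh.IsQCoh P := hP.1
  haveI : Coh.IsQCoh (internalHom P ωX) := FlatMor12.isQCoh_internalHom_of_isFP (isFP_of_isCoh hP)
  haveI : Coh.IsQCoh ((shriekR i).obj ωX) := EGA43.InjFibre.isQCoh_pullback i (internalHom P ωX)
  have hM : IsZero ((shriekR i).obj ωX) := by
    rw [IsZero.iff_id_eq_zero]
    apply ((shriekAdj i).homEquiv ((shriekR i).obj ωX) ωX).symm.injective
    haveI : Subsingleton (Coh.HH D ((shriekR i).obj ωX) n) := subsingleton_HH_of_dim _ hdimD (by omega)
    exact (hXrep _ inferInstance).1 (LinearMap.ext fun x => by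
      rw [show x = hpush i k rfl ((shriekR i).obj ωX) n ((hpush i k rfl _ n).symm x) from
        ((hpush i k rfl _ n).apply_symm_apply x).symm,
        Subsingleton.elim ((hpush i k rfl _ n).symm x) 0, map_zero, map_zero, map_zero])
  have hlow : ∀ q, q < 1 → IsZero ((homCx P J).homology q) := fun q hq => by
    obtain rfl : q = 0 := by omega
    haveI := isIso_zeroHom P J
    refine IsZero.of_iso ?_ (asIso (zeroHom P J)).symm
    exact IsZero.of_iso ((Scheme.Modules.pushforward i).map_isZero hM) ((internalHomPushIso i).app ωX)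
  obtain ⟨e⟩ := nonempty_extSh_iso i hI OD hOD ωX J
  obtain ⟨ε, hε⟩ := exists_universal_push i J 1 hlow e
  obtain ⟨Φ, hΦ, hΦn⟩ := Mod22.CMDual.exists_extDuality k X n hn hCM heq trX hXrep 1 (n - 1) (by omega)
  haveI : Coh.IsQCoh OD := AmpleLib.isQCoh_of_isInvertible (MorProj.isInvertible_of_tensor_iso hOD.some)
  haveI : Coh.IsQCoh (CohB1.tensorMod OD ωX) := Coherent.isQCoh_tensorMod OD ωX
  haveI hω' : Coh.IsQCoh ω' := EGA43.InjFibre.isQCoh_pullback i (CohB1.tensorMod OD ωX)
  let t' : Coh.HH D ω' (n - 1) →ₗ[k] k :=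
    Φ ((Coh.push i).obj ω') ε ∘ₗ (hpush i k rfl ω' (n - 1)).toLinearMap
  have ht' : ∀ F : D.Modules, Coh.IsQCoh F → Rep t' F := fun F hF => by
    haveI := hF
    have hb : Function.Bijective fun φ : F ⟶ ω' =>
        Φ ((Coh.push i).obj F) ((Ext.mk₀ ((Coh.push i).map φ)).comp ε (zero_add 1)) ∘ₗ
          (hpush i k rfl F (n - 1)).toLinearMap :=
      (hpush i k rfl F (n - 1)).dualMap.bijective.comp ((hΦ _ inferInstance).comp (hε F))
    refine (congrArg Function.Bijective (funext fun φ => LinearMap.ext fun x => ?_)).mpr hb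
    show t' (hmap k φ (n - 1) x) = _
    rw [hΦn]
    show Φ _ ε (hpush i k rfl ω' (n - 1) (hmap k φ (n - 1) x)) = _
    rw [hpush_natural]
    rfl
  obtain ⟨a, ha⟩ := (ht' ωD hωD.1).2 trD
  obtain ⟨b, hb⟩ := (hDrep ω' hω').2 t'
  refine ⟨⟨a, b, (hDrep ωD hωD.1).1 ?_, (ht' ω' hω').1 ?_⟩⟩
  · rw [theta_comp, hb]
    show t' ∘ₗ hmap k a (n - 1) = trD ∘ₗ hmap k (𝟙 ωD) (n - 1)
    rw [hmap_id, LinearMap.comp_id]
    exact ha
  · rw [theta_comp, ha]
    show trD ∘ₗ hmap k b (n - 1) = t' ∘ₗ hmap k (𝟙 ω') (n - 1)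
    rw [hmap_id, LinearMap.comp_id]
    exact hb

end Groth.Agent.S14828
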