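import Groth.Statements.S1483
import Groth.Agent.EGA43.Cons.FibreCritScheme

set_option autoImplicit false
set_option backward.isDefEq.respectTransparency false
universe u
open FlatMor

namespace Groth.Agent.S1483

open AlgebraicGeometry CategoryTheory Limits in
/-- Fibrewise flatness criterion (critère de platitude par fibres), pointwise equivalence for a module:
let f : X → Y and g : Y → S be morphisms of schemes with X locally of finite presentation over S
(via g ∘ f) and Y locally of finite type over S, F a finitely presented quasi-coherent O_X-module,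
and x a point of X with images y = f(x) and s = g(y) at which the stalk F_x is nonzero. The
following are equivalent: (a) F is flat over S at x and F_x / 𝔪_s F_x is flat over O_{Y,y} / 𝔪_s
O_{Y,y}; (b) the morphism g is flat at the point y and F is Y-flat at x. The published statement
also asserts that the locus of such x is open in the support of F; that is not restated here (the
companion statement for F = O_X carries it). -/
theorem result {X Y S : Scheme.{u}} (f : X ⟶ Y) (g : Y ⟶ S) [LocallyOfFinitePresentation (f ≫ g)] [LocallyOfFiniteType g]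
    (F : X.Modules) (hq : Coh.IsQCoh F) (hfp : CohB1.IsFP F) (x : X) (hx : Nontrivial ↑(F.presheaf.stalk x)) :
    letI := FlatMod.moduleStalkOver f F x
    (FlatMod.IsFlatOverAt (f ≫ g) F x ∧
      Module.Flat (↑(Y.presheaf.stalk (f x)) ⧸ Ideal.map (g.stalkMap (f x)).hom (IsLocalRing.maximalIdeal ↑(S.presheaf.stalk (g (f x)))))
        (↑(F.presheaf.stalk x) ⧸ (Ideal.map (g.stalkMap (f x)).hom (IsLocalRing.maximalIdeal ↑(S.presheaf.stalk (g (f x)))) •
          (⊤ : Submodule ↑(Y.presheaf.stalk (f x)) ↑(F.presheaf.stalk x))))) ↔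
    ((g.stalkMap (f x)).hom.Flat ∧ FlatMod.IsFlatOverAt f F x) := by
  have : Coh.IsQCoh F := hq
  constructor
  · rintro ⟨h₁, h₂⟩
    have h₃ := Groth.Agent.EGA43.Cons.isFlatOverAt_of_isFibFlatAt f g F hfp x h₁ h₂
    exact ⟨Groth.Agent.EGA43.Cons.flat_stalkMap_of_isFlatOverAt f g F hfp x hx h₁ h₃, h₃⟩
  · rintro ⟨h₁, h₂⟩
    refine ⟨?_, Groth.Agent.EGA43.Cons.isFibFlatAt_of_isFlatOverAt f g F x h₂⟩
    let := FlatMod.moduleStalkOver f F x
    let := (g.stalkMap (f x)).hom.toAlgebra
    let := Module.compHom (F.presheaf.stalk x) ((g.stalkMap (f x)).hom)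
    have : IsScalarTower (S.presheaf.stalk (g (f x))) (Y.presheaf.stalk (f x)) (F.presheaf.stalk x) :=
      .of_algebraMap_smul fun _ _ => rfl
    have : Module.Flat (S.presheaf.stalk (g (f x))) (Y.presheaf.stalk (f x)) := h₁
    have : Module.Flat (Y.presheaf.stalk (f x)) (F.presheaf.stalk x) := h₂
    have he : FlatMod.moduleStalkOver (f ≫ g) F x =
        Module.compHom (F.presheaf.stalk x) ((g.stalkMap (f x)).hom) := by
      refine Module.ext' _ _ fun r m => ?_
      show ((f ≫ g).stalkMap x).hom r • m = (f.stalkMap x).hom ((g.stalkMap (f x)).hom r) • m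
      rw [Scheme.Hom.stalkMap_comp]
      rfl
    unfold FlatMod.IsFlatOverAt
    rw [he]
    exact Module.Flat.trans (S.presheaf.stalk (g (f x))) (Y.presheaf.stalk (f x)) _
end Groth.Agent.S1483
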