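import Groth.Statements.S14830
import Groth.Agent.AbSchLib.RigidityOver

set_option autoImplicit false
universe u
open CategoryTheory MonoidalCategory CartesianMonoidalCategory MonObj GrpObj AlgebraicGeometry
open AbVar

namespace Groth.Agent.S14830

/-- Let k be a field and X, Y proper, geometrically integral k-schemes with k-rational points x₀ and y₀.
Let albX : X → A and albY : Y → B be Albanese morphisms: A, B abelian varieties over k (proper,
geometrically integral group schemes), albX(x₀) = 0, albY(y₀) = 0, each universal among pointed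
k-morphisms into abelian varieties (geometrically reduced, connected, proper group schemes). Then
the product morphism albX × albY : X ×_k Y → A ×_k B is the Albanese morphism of X ×_k Y pointed at
(x₀, y₀): for every abelian variety C and every k-morphism g : X ×_k Y → C with g(x₀, y₀) = 0 there
is a unique homomorphism h : A ×_k B → C with (albX × albY) ≫ h = g. -/
theorem result (k : Type u) [Field k] (X Y : Scheme.{u}) [X.Over (Spec (CommRingCat.of k))] [Y.Over (Spec (CommRingCat.of k))]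
    [IsProper (X ↘ Spec (CommRingCat.of k))] [IsProper (Y ↘ Spec (CommRingCat.of k))]
    [GeometricallyIntegral (X ↘ Spec (CommRingCat.of k))] [GeometricallyIntegral (Y ↘ Spec (CommRingCat.of k))]
    (x₀ : 𝟙_ (Over (Spec (CommRingCat.of k))) ⟶ Over.mk (X ↘ Spec (CommRingCat.of k))) (y₀ : 𝟙_ (Over (Spec (CommRingCat.of k))) ⟶ Over.mk (Y ↘ Spec (CommRingCat.of k)))
    (A : Over (Spec (CommRingCat.of k))) [GrpObj A] [IsProper A.hom] [GeometricallyIntegral A.hom]
    (albX : Over.mk (X ↘ Spec (CommRingCat.of k)) ⟶ A) (halbX : x₀ ≫ albX = η[A])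
    (hunivA : ∀ (C : Over (Spec (CommRingCat.of k))) [GrpObj C] [IsProper C.hom] [GeometricallyReduced C.hom] [ConnectedSpace ↥C.left]
      (g : Over.mk (X ↘ Spec (CommRingCat.of k)) ⟶ C), x₀ ≫ g = η[C] → ∃! h : A ⟶ C, IsMonHom h ∧ albX ≫ h = g)
    (B : Over (Spec (CommRingCat.of k))) [GrpObj B] [IsProper B.hom] [GeometricallyIntegral B.hom]
    (albY : Over.mk (Y ↘ Spec (CommRingCat.of k)) ⟶ B) (halbY : y₀ ≫ albY = η[B])
    (hunivB : ∀ (C : Over (Spec (CommRingCat.of k))) [GrpObj C] [IsProper C.hom] [GeometricallyReduced C.hom] [ConnectedSpace ↥C.left]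
      (g : Over.mk (Y ↘ Spec (CommRingCat.of k)) ⟶ C), y₀ ≫ g = η[C] → ∃! h : B ⟶ C, IsMonHom h ∧ albY ≫ h = g)
    (C : Over (Spec (CommRingCat.of k))) [GrpObj C] [IsProper C.hom] [GeometricallyReduced C.hom] [ConnectedSpace ↥C.left]
    (g : Over.mk (X ↘ Spec (CommRingCat.of k)) ⊗ Over.mk (Y ↘ Spec (CommRingCat.of k)) ⟶ C) (hg : lift x₀ y₀ ≫ g = η[C]) :
    ∃! h : A ⊗ B ⟶ C, IsMonHom h ∧ (albX ⊗ₘ albY) ≫ h = g := by
  let pX := Over.mk (X ↘ Spec (CommRingCat.of k))
  let pY := Over.mk (Y ↘ Spec (CommRingCat.of k))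
  have : GeometricallyConnected (pX).hom := Groth.Agent.AbSchLib.geometricallyConnected_of_irreducible (X ↘ Spec (CommRingCat.of k))
  have : GeometricallyConnected (pY).hom := Groth.Agent.AbSchLib.geometricallyConnected_of_irreducible (Y ↘ Spec (CommRingCat.of k))
  have : GeometricallyConnected A.hom := Groth.Agent.AbSchLib.geometricallyConnected_of_irreducible _
  have : GeometricallyConnected B.hom := Groth.Agent.AbSchLib.geometricallyConnected_of_irreducible _
  have : IsProper pX.hom := ‹IsProper (X ↘ Spec (CommRingCat.of k))›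
  have : GeometricallyReduced pX.hom := inferInstanceAs (GeometricallyReduced (X ↘ Spec (CommRingCat.of k)))
  let g₁ := lift (𝟙 pX) (toUnit pX ≫ y₀) ≫ g
  let g₂ := lift (toUnit pY ≫ x₀) (𝟙 pY) ≫ g
  have hx1 : x₀ ≫ g₁ = η[C] := by
    rw [← hg]
    simp only [g₁, ← Category.assoc]
    congr 1
    ext : 1
    · simp
      exact Category.comp_id _
    · rw [Category.assoc, lift_snd, lift_snd, ← Category.assoc, toUnit_unique (x₀ ≫ toUnit pX) (𝟙 _), Category.id_comp]
  have hy2 : y₀ ≫ g₂ = η[C] := by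
    rw [← hg]
    simp only [g₂, ← Category.assoc]
    congr 1
    ext : 1
    · rw [Category.assoc, lift_fst, lift_fst, ← Category.assoc, toUnit_unique (y₀ ≫ toUnit pY) (𝟙 _), Category.id_comp]
    · simp
      exact Category.comp_id _
  have hdec : g = (fst pX pY ≫ g₁) * (snd pX pY ≫ g₂) := by
    let d := (fst pX pY ≫ g₁)⁻¹ * g
    have hax : lift (𝟙 pX) (toUnit pX ≫ y₀) ≫ d = toUnit pX ≫ η[C] := by
      rw [MonObj.comp_mul, GrpObj.comp_inv, lift_fst_assoc, Category.id_comp, inv_mul_cancel, Hom.one_def]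
    have h := Groth.Agent.AbSchLib.eq_snd_comp_of_axis pX pY C x₀ y₀ η[C] d hax
    have h2 : lift (toUnit pY ≫ x₀) (𝟙 pY) ≫ d = g₂ := by
      rw [MonObj.comp_mul, GrpObj.comp_inv, lift_fst_assoc, Category.assoc, hx1, ← Hom.one_def, inv_one,
        _root_.one_mul]
    rw [← h2, ← h]
    exact (mul_inv_cancel_left _ g).symm
  obtain ⟨hA, ⟨hAm, hA1⟩, hAu⟩ := hunivA C g₁ hx1
  obtain ⟨hB, ⟨hBm, hB1⟩, hBu⟩ := hunivB C g₂ hy2
  have hcomm : (fst A B ≫ hA) * (snd A B ≫ hB) = (snd A B ≫ hB) * (fst A B ≫ hA) := by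
    let c := ((fst A B ≫ hA) * (snd A B ≫ hB)) * ((snd A B ≫ hB) * (fst A B ≫ hA))⁻¹
    have hax : lift (𝟙 A) (toUnit A ≫ η[B]) ≫ c = toUnit A ≫ η[C] := by
      simp only [c, MonObj.comp_mul, GrpObj.comp_inv, lift_fst_assoc, lift_snd_assoc, Category.id_comp, Category.assoc,
        IsMonHom.one_hom, ← Hom.one_def, MonObj.one_comp, _root_.mul_one, _root_.one_mul, mul_inv_cancel]
    have h := Groth.Agent.AbSchLib.eq_snd_comp_of_axis A B C η[A] η[B] η[C] c hax
    have h2 : lift (toUnit B ≫ η[A]) (𝟙 B) ≫ c = 1 := by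
      simp only [c, MonObj.comp_mul, GrpObj.comp_inv, lift_fst_assoc, lift_snd_assoc, Category.id_comp, Category.assoc,
        IsMonHom.one_hom, ← Hom.one_def, MonObj.one_comp, _root_.mul_one, _root_.one_mul, mul_inv_cancel]
    rw [h2, MonObj.comp_one] at h
    exact mul_inv_eq_one.1 h
  let h := (fst A B ≫ hA) * (snd A B ≫ hB)
  have : IsProper (A ⊗ B).hom := inferInstanceAs (IsProper (Limits.pullback.fst A.hom B.hom ≫ A.hom))
  refine ⟨h, ⟨?_, ?_⟩, ?_⟩
  · have hh : ∀ {T : Over (Spec (CommRingCat.of k))} (x y : T ⟶ A ⊗ B), (x * y) ≫ h = (x ≫ h) * (y ≫ h) := by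
      intro T x y
      have e : (x ≫ snd A B ≫ hB) * (y ≫ fst A B ≫ hA) = (y ≫ fst A B ≫ hA) * (x ≫ snd A B ≫ hB) := by
        have := congrArg (lift (y ≫ fst A B) (x ≫ snd A B) ≫ ·) hcomm
        simpa only [MonObj.comp_mul, lift_fst_assoc, lift_snd_assoc, Category.assoc] using this.symm
      simp only [h, MonObj.comp_mul, ← Category.assoc (x * y), MonObj.mul_comp]
      simp only [Category.assoc]
      calc (x ≫ fst A B ≫ hA) * (y ≫ fst A B ≫ hA) * ((x ≫ snd A B ≫ hB) * (y ≫ snd A B ≫ hB))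
          = (x ≫ fst A B ≫ hA) * ((y ≫ fst A B ≫ hA) * (x ≫ snd A B ≫ hB)) * (y ≫ snd A B ≫ hB) := by
            simp only [_root_.mul_assoc]
        _ = _ := by rw [← e]; simp only [_root_.mul_assoc]
    have hone : η[A ⊗ B] ≫ h = η[C] := by
      have := hh (1 : 𝟙_ _ ⟶ A ⊗ B) 1
      rw [_root_.mul_one] at this
      have h1 : (1 : 𝟙_ _ ⟶ A ⊗ B) ≫ h = 1 := mul_eq_left.1 this.symm
      simpa [Hom.one_def] using h1
    refine { one_hom := hone, mul_hom := ?_ }
    have := hh (fst (A ⊗ B) (A ⊗ B)) (snd (A ⊗ B) (A ⊗ B))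
    rw [Hom.mul_def, lift_fst_snd, Category.id_comp] at this
    rw [this, Hom.mul_def]
    congr 1
  · rw [hdec, MonObj.comp_mul, tensorHom_fst_assoc, tensorHom_snd_assoc, hA1, hB1]
  · rintro h' ⟨hm, hh'⟩
    have hl1 : IsMonHom (lift (𝟙 A) (toUnit A ≫ η[B]) ≫ h') := by
      refine Groth.Agent.AbSchLib.isMonHom_of_one A C _ ?_
      rw [← Category.assoc, show η[A] ≫ lift (𝟙 A) (toUnit A ≫ η[B]) = η[A ⊗ B] by ext <;> simp, hm.one_hom]
    have hl2 : IsMonHom (lift (toUnit B ≫ η[A]) (𝟙 B) ≫ h') := by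
      refine Groth.Agent.AbSchLib.isMonHom_of_one B C _ ?_
      rw [← Category.assoc, show η[B] ≫ lift (toUnit B ≫ η[A]) (𝟙 B) = η[A ⊗ B] by ext <;> simp, hm.one_hom]
    have e1 := hAu (lift (𝟙 A) (toUnit A ≫ η[B]) ≫ h') ⟨hl1, by
      show _ = lift (𝟙 pX) (toUnit pX ≫ y₀) ≫ g
      rw [← hh', ← Category.assoc, ← Category.assoc]
      congr 1
      ext : 1 <;> simp [halbY]
      all_goals rfl⟩
    have e2 := hBu (lift (toUnit B ≫ η[A]) (𝟙 B) ≫ h') ⟨hl2, by
      show _ = lift (toUnit pY ≫ x₀) (𝟙 pY) ≫ g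
      rw [← hh', ← Category.assoc, ← Category.assoc]
      congr 1
      ext : 1 <;> simp [halbX]
      all_goals rfl⟩
    have hid : 𝟙 (A ⊗ B) = (fst A B ≫ lift (𝟙 A) (toUnit A ≫ η[B])) * (snd A B ≫ lift (toUnit B ≫ η[A]) (𝟙 B)) := by
      ext : 1 <;> simp [MonObj.mul_comp, ← Hom.one_def]
    show h' = (fst A B ≫ hA) * (snd A B ≫ hB)
    rw [← e1, ← e2]
    conv_lhs => rw [← Category.id_comp h', hid, MonObj.mul_comp]
    simp only [Category.assoc]

end Groth.Agent.S14830
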