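import Groth.Statements.S14833
import Groth.Agent.OmegaLib.StalkCompat
import Groth.Agent.OmegaLib.DOmega
import Groth.Agent.EGA41Lib.FieldSeparableSmooth
import Groth.Agent.EGA43.IntegralBaseChangeComponent
import Groth.Agent.FlatMorAdm.LocFreeApps
import Groth.Agent.LiftObs29.Bridge
import Groth.Agent.Hurwitz24.Sequence
import Groth.Agent.RefHullLib.GenericStalk
import Groth.Agent.Props12.FinLocFree
-- import your own Groth.Agent.* helpers here

set_option autoImplicit false
set_option backward.isDefEq.respectTransparency.types false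
set_option linter.style.haveILetI false
universe u
open CategoryTheory CategoryTheory.Limits AlgebraicGeometry
open OmegaSh

namespace Groth.Agent.S14833


open scoped TensorProduct in
/-- A scheme with a flat preimmersion to a reduced scheme is reduced. -/
theorem isReduced_of_flat_preimmersion {A B : Scheme.{u}} (m : A ⟶ B) [IsPreimmersion m] [Flat m]
    [IsReduced B] : IsReduced A := by
  haveI : ∀ a : A, _root_.IsReduced (A.presheaf.stalk a) := fun a => by
    letI := (m.stalkMap a).hom.toAlgebra
    haveI : Module.Flat (B.presheaf.stalk (m a)) (A.presheaf.stalk a) := Flat.stalkMap m a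
    haveI : IsLocalHom (algebraMap (B.presheaf.stalk (m a)) (A.presheaf.stalk a)) :=
      inferInstanceAs (IsLocalHom (m.stalkMap a).hom)
    haveI := Module.FaithfullyFlat.of_flat_of_isLocalHom (A := B.presheaf.stalk (m a)) (B := A.presheaf.stalk a)
    let e := RingEquiv.ofBijective (m.stalkMap a).hom
      ⟨FaithfulSMul.algebraMap_injective (B.presheaf.stalk (m a)) (A.presheaf.stalk a), m.stalkMap_surjective a⟩
    exact isReduced_of_injective e.symm e.symm.injective
  exact isReduced_of_isReduced_stalk A

open scoped TensorProduct in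
/-- The residue extension at a point of a geometrically reduced fibre lying over a field point is separable. -/
theorem isReduced_tensor {X Z : Scheme.{u}} (f : X ⟶ Z) (x : X) (hA : IsField (Z.presheaf.stalk (f x)))
    (hsep : GeometricallyReduced (pullback.snd f (Z.fromSpecResidueField (f x))))
    (L : Type u) [Field L] [Algebra (Z.presheaf.stalk (f x)) L] :
    letI := (f.stalkMap x).hom.toAlgebra
    _root_.IsReduced (X.presheaf.stalk x ⊗[Z.presheaf.stalk (f x)] L) := by
  letI := (f.stalkMap x).hom.toAlgebra
  let A := Z.presheaf.stalk (f x)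
  let B := X.presheaf.stalk x
  have hbot : IsLocalRing.maximalIdeal A = ⊥ := IsLocalRing.isField_iff_maximalIdeal_eq.1 hA
  haveI : IsIso (Z.residue (f x)) := by
    refine (ConcreteCategory.isIso_iff_bijective _).2 ⟨?_, IsLocalRing.residue_surjective⟩
    exact (injective_iff_map_eq_zero _).2 fun a ha => by
      have : a ∈ IsLocalRing.maximalIdeal A := (IsLocalRing.residue_eq_zero_iff a).1 ha
      rwa [hbot, Ideal.mem_bot] at this
  haveI : IsIso (Spec.map (Z.residue (f x))) := inferInstance
  let r := Z.fromSpecResidueField (f x)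
  let i := inv (Spec.map (Z.residue (f x)))
  have hr : i ≫ r = Z.fromSpecStalk (f x) := by
    simp [i, r, Scheme.fromSpecResidueField]
  let F := pullback f r
  have hw : X.fromSpecStalk x ≫ f = (Spec.map (f.stalkMap x) ≫ i) ≫ r := by
    rw [Category.assoc, hr, Scheme.SpecMap_stalkMap_fromSpecStalk]
  let j : Spec B ⟶ F := pullback.lift (X.fromSpecStalk x) (Spec.map (f.stalkMap x) ≫ i) hw
  have hjf : j ≫ pullback.fst f r = X.fromSpecStalk x := pullback.lift_fst _ _ _
  have hjs : j ≫ pullback.snd f r = Spec.map (f.stalkMap x) ≫ i := pullback.lift_snd _ _ _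
  haveI : IsPreimmersion (Z.fromSpecResidueField (f x)) := inferInstance
  haveI : IsPreimmersion (pullback.fst f r) := inferInstance
  have sqj : IsPullback j (𝟙 _) (pullback.fst f r) (X.fromSpecStalk x) := by
    refine ⟨⟨by rw [hjf, Category.id_comp]⟩, ⟨PullbackCone.IsLimit.mk _ (fun s => s.snd) (fun s => ?_)
      (fun s => Category.comp_id _) (fun s m _ h2 => by simpa using h2)⟩⟩
    rw [← cancel_mono (pullback.fst f r), Category.assoc, hjf]
    exact s.condition.symm
  haveI : IsPreimmersion (j ≫ pullback.fst f r) := by rw [hjf]; infer_instance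
  haveI : IsPreimmersion j := IsPreimmersion.of_comp j (pullback.fst f r)
  haveI : Flat (X.fromSpecStalk x) := inferInstance
  haveI : Flat j := MorphismProperty.of_isPullback sqj.flip (by assumption)
  let l : Spec (CommRingCat.of L) ⟶ Spec (Z.residueField (f x)) :=
    Spec.map (CommRingCat.ofHom (algebraMap A L)) ≫ i
  haveI : IsReduced (pullback (pullback.snd f r) l) :=
    pullback_of_geometrically (GeometricallyReduced.geometrically_isReduced (f := pullback.snd f r)) L l
  let m : pullback (Spec.map (f.stalkMap x)) (Spec.map (CommRingCat.ofHom (algebraMap A L))) ⟶ pullback (pullback.snd f r) l :=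
    pullback.lift (pullback.fst (Spec.map (f.stalkMap x)) (Spec.map (CommRingCat.ofHom (algebraMap A L))) ≫ j)
      (pullback.snd _ _) (by
        rw [Category.assoc, hjs, pullback.condition_assoc]
        rfl)
  have sq : IsPullback m (pullback.fst _ _) (pullback.fst (pullback.snd f r) l) j := by
    refine IsPullback.flip (IsPullback.of_bot ?_ ?_ (IsPullback.of_hasPullback (pullback.snd f r) l))
    · simp only [m, l, pullback.lift_snd, hjs]
      simpa only [Category.comp_id] using (IsPullback.of_hasPullback (Spec.map (f.stalkMap x)) (Spec.map (CommRingCat.ofHom (algebraMap A L)))).paste_vert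
        (IsPullback.of_vert_isIso (snd := 𝟙 _) (f := i) (g := Spec.map (CommRingCat.ofHom (algebraMap A L)) ≫ i) ⟨(Category.id_comp _).symm⟩)
    · exact (pullback.lift_fst _ _ _).symm
  haveI : IsPreimmersion m := MorphismProperty.of_isPullback (P := @IsPreimmersion) sq.flip (by assumption)
  haveI : Flat m := MorphismProperty.of_isPullback (P := @Flat) sq.flip (by assumption)
  haveI hP : IsReduced (pullback (Spec.map (f.stalkMap x)) (Spec.map (CommRingCat.ofHom (algebraMap A L)))) :=
    isReduced_of_flat_preimmersion m
  haveI : IsReduced (Spec (CommRingCat.of (B ⊗[A] L))) := by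
    haveI : IsReduced (pullback (Spec.map (CommRingCat.ofHom (algebraMap A B))) (Spec.map (CommRingCat.ofHom (algebraMap A L)))) := hP
    exact isReduced_of_isOpenImmersion (pullbackSpecIso A B L).inv
  exact isReduced_of_injective (Scheme.ΓSpecIso (CommRingCat.of (B ⊗[A] L))).inv.hom
    (ConcreteCategory.bijective_of_isIso (Scheme.ΓSpecIso (CommRingCat.of (B ⊗[A] L))).inv).1


/-- Let k be a field and f : X → Z a surjective k-morphism between integral proper k-schemes, where X is
geometrically normal (its base change to an algebraic closure of k has integrally closed local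
domains), Z is smooth over k, and the generic fibre of f is geometrically reduced over the function
field of Z (equivalently K(Z) ⊆ K(X) is separable). Let d_Z : O_Z → Ω_Z and d_X : O_X → Ω_X be
universal k-derivations (sheaves of Kähler differentials over k) and c : f^*Ω_Z → Ω_X the O_X-linear
map compatible with them. Then for every open subscheme U ⊆ X which is smooth over k, the
restriction of c to U is a monomorphism of O_U-modules; in particular c is injective on the smooth
locus of X. -/
theorem result (k : Type u) [Field k]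
    (X Z : Scheme.{u}) [X.Over (Spec (CommRingCat.of k))] [Z.Over (Spec (CommRingCat.of k))]
    [IsProper (X ↘ Spec (CommRingCat.of k))] [IsProper (Z ↘ Spec (CommRingCat.of k))] [IsIntegral X] [IsIntegral Z]
    [Smooth (Z ↘ Spec (CommRingCat.of k))]
    (hgn : ∀ (K : Type u) [Field K] [Algebra k K] [IsAlgClosure k K],
      Pi1.IsNormalScheme (pullback (X ↘ Spec (CommRingCat.of k)) (Spec.map (CommRingCat.ofHom (algebraMap k K)))))
    (f : X ⟶ Z) [Surjective f] (hf : f ≫ (Z ↘ Spec (CommRingCat.of k)) = X ↘ Spec (CommRingCat.of k))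
    (hsep : GeometricallyReduced (pullback.snd f (Z.fromSpecResidueField (genericPoint ↥Z))))
    (ΩZ : Z.Modules) (dZ : OmegaSh.Der (Z ↘ Spec (CommRingCat.of k)) ΩZ) (hdZ : OmegaSh.IsUniversal dZ)
    (ΩX : X.Modules) (dX : OmegaSh.Der (X ↘ Spec (CommRingCat.of k)) ΩX) (hdX : OmegaSh.IsUniversal dX)
    (c : (Scheme.Modules.pullback f).obj ΩZ ⟶ ΩX) (hc : OmegaSh.IsDiffCompat f dZ dX c)
    (U : X.Opens) (hU : Smooth (U.ι ≫ (X ↘ Spec (CommRingCat.of k)))) :
    Mono ((Scheme.Modules.restrictFunctor U.ι).map c) := by
  have : Mono c := by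
    let q := X ↘ Spec (CommRingCat.of k)
    let g := Z ↘ Spec (CommRingCat.of k)
    obtain ⟨e⟩ := Hurwitz24.nonempty_iso_of_isUniversal (OmegaLib.isUniversal_dOmega g) hdZ
    have hΩ : FlatMod.IsFinLocFree ΩZ := FlatMorAdm.isFinLocFree_of_iso e (LiftObs29.isFinLocFree_omega g)
    have hP := FlatMorAdm.isFinLocFree_pullback f hΩ
    let x := genericPoint X
    haveI : IsDominant f := inferInstance
    have hfx : f x = genericPoint Z := EGA43.IntBC.base_genericPoint f
    have hA : IsField (Z.presheaf.stalk (f x)) := hfx ▸ (Field.toIsField Z.functionField)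
    have hB : IsField (X.presheaf.stalk x) := Field.toIsField X.functionField
    letI : Field (Z.presheaf.stalk (f x)) := hA.toField
    letI : Field (X.presheaf.stalk x) := hB.toField
    letI := (f.stalkMap x).hom.toAlgebra
    haveI : Algebra.IsGeometricallyReduced (Z.presheaf.stalk (f x)) (X.presheaf.stalk x) := by
      rw [← hfx] at hsep
      rw [Algebra.isGeometricallyReduced_field_iff]
      haveI := isReduced_tensor f x hA hsep (AlgebraicClosure (Z.presheaf.stalk (f x)))
      exact isReduced_of_injective _ (Algebra.TensorProduct.comm (Z.presheaf.stalk (f x))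
        (AlgebraicClosure (Z.presheaf.stalk (f x))) (X.presheaf.stalk x)).injective
    have hxT : g (f x) ∈ (⊤ : (Spec (CommRingCat.of k)).Opens) := trivial
    letI : Algebra Γ(Spec (CommRingCat.of k), ⊤) (Z.presheaf.stalk (f x)) :=
      ((Spec (CommRingCat.of k)).presheaf.germ ⊤ (g (f x)) hxT ≫ g.stalkMap (f x)).hom.toAlgebra
    letI : Algebra Γ(Spec (CommRingCat.of k), ⊤) (X.presheaf.stalk x) :=
      (((Spec (CommRingCat.of k)).presheaf.germ ⊤ (g (f x)) hxT ≫ g.stalkMap (f x)) ≫ f.stalkMap x).hom.toAlgebra
    haveI : IsScalarTower Γ(Spec (CommRingCat.of k), ⊤) (Z.presheaf.stalk (f x)) (X.presheaf.stalk x) :=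
      IsScalarTower.of_algebraMap_eq fun _ => rfl
    obtain ⟨E₂, hE₂⟩ := OmegaLib.exists_stalk_equiv hdX (isAffineOpen_top (Spec (CommRingCat.of k))) x trivial
      (fun r => by
        have key : ∀ (h : X ⟶ Spec (CommRingCat.of k)), f ≫ g = h →
            f.stalkMap x (g.stalkMap (f x) ((Spec (CommRingCat.of k)).presheaf.germ ⊤ (g (f x)) hxT r)) =
              h.stalkMap x ((Spec (CommRingCat.of k)).presheaf.germ ⊤ (h x) trivial r) := by
          rintro _ rfl
          rw [Scheme.Hom.stalkMap_comp]
          rfl
        exact key _ hf)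
    obtain ⟨E₁, hE₁⟩ := OmegaLib.exists_stalk_compat hdZ hc (isAffineOpen_top (Spec (CommRingCat.of k))) x hxT
      (fun _ => rfl) E₂ hE₂
    have hinj : Function.Injective ((DerSch.stalkFunctor X x).map c) := by
      intro a b hab
      obtain ⟨a, rfl⟩ := E₁.surjective a
      obtain ⟨b, rfl⟩ := E₁.surjective b
      rw [hE₁, hE₁] at hab
      rw [EGA41Lib.injective_mapBaseChange_of_isGeometricallyReduced Γ(Spec (CommRingCat.of k), ⊤)
        (Z.presheaf.stalk (f x)) (X.presheaf.stalk x) (E₂.injective hab)]
    refine ⟨fun {K} a b hab => Scheme.Modules.hom_ext _ _ fun V => ?_⟩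
    ext m
    refine RefHullLib.section_ext_of_germ_genericPoint _ (Coherent.CohBC.isCoh_of_isFinLocFree hP).1
      (fun z _ => by
        haveI : Coh.IsQCoh ((Scheme.Modules.pullback f).obj ΩZ) := (Coherent.CohBC.isCoh_of_isFinLocFree hP).1
        haveI := Props12.free_stalk_of_isFinLocFree _ hP z
        infer_instance) _ _ fun hη => ?_
    have h1 := congrArg (fun φ => (Scheme.Modules.Hom.app φ V) m) hab
    exact hinj (by
      erw [OmegaLib.map_gm, OmegaLib.map_gm]
      exact congrArg _ h1)
  infer_instance

end Groth.Agent.S14833
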