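import Groth.Statements.S14834
-- import your own Groth.Agent.* helpers here

set_option autoImplicit false
universe u
open CategoryTheory MonoidalCategory CartesianMonoidalCategory MonObj GrpObj AlgebraicGeometry
open AbVar

namespace Groth.Agent.S14834

open CategoryTheory.Limits in
/-- A universally closed morphism with `O_Y ≅ r_* O_X` is an epimorphism of schemes. -/
theorem epi_of_app_isIso {X Y : Scheme.{u}} (r : X ⟶ Y) [UniversallyClosed r]
    (hr : ∀ U : Y.Opens, IsIso (r.app U)) : Epi r := by
  have hs : Function.Surjective r := by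
    let V : Y.Opens := ⟨(Set.range r)ᶜ, r.isClosedMap.isClosed_range.isOpen_compl⟩
    intro y
    by_contra hy
    have hy' : y ∈ V := hy
    have hpre : r ⁻¹ᵁ V = ⊥ := by
      ext x
      simp [V]
    have : Subsingleton Γ(X, r ⁻¹ᵁ V) := by
      rw [hpre]
      exact CommRingCat.subsingleton_of_isTerminal X.sheaf.isTerminalOfEmpty
    have : Subsingleton Γ(Y, V) :=
      have := hr V
      (ConcreteCategory.bijective_of_isIso (r.app V)).1.subsingleton
    have := (Y.presheaf.germ V y hy').hom.codomain_trivial
    exact not_subsingleton (Y.presheaf.stalk y) this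
  refine ⟨fun {Z} g g' h => ?_⟩
  have hb : g.base = g'.base := by
    apply TopCat.hom_ext
    ext y
    obtain ⟨x, rfl⟩ := hs y
    exact congr($h x)
  refine Scheme.Hom.ext hb fun U => ?_
  have := hr (g' ⁻¹ᵁ U)
  rw [← cancel_mono (r.app (g' ⁻¹ᵁ U))]
  have e := Scheme.Hom.congr_app h U
  simp only [Scheme.Hom.comp_app] at e
  rw [Category.assoc, r.naturality, ← Category.assoc, e]
  refine (Category.assoc _ _ _).trans ?_
  refine (congrArg (_ ≫ ·) ?_).trans (Category.comp_id _)
  exact (X.presheaf.map_comp _ _).symm.trans
    ((congr_arg X.presheaf.map (Subsingleton.elim _ _)).trans (X.presheaf.map_id _))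

/-- Let k be a field, X a proper k-scheme with H^0(X, O_X) = k (k → Γ(X, O_X) bijective) and a
k-rational point x₀, and alb : X → A the Albanese morphism (A an abelian variety — proper,
geometrically integral group scheme — with alb(x₀) = 0, universal among pointed k-morphisms from X
to geometrically reduced, connected, proper group schemes). Let X → Y → A be a Stein factorisation
of alb: Y proper over k, r : X → Y a k-morphism with O_Y → r_*O_X an isomorphism, s : Y → A finite
with r ≫ s = alb. Then s is the Albanese morphism of Y pointed at r(x₀): for every abelian variety B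
and every k-morphism g : Y → B with g(r(x₀)) = 0 there is a unique homomorphism h : A → B with s ≫ h
= g. (The published statement has no rational point and also identifies the maximal abelian
subschemes of the Picard schemes of the Albanese, of Y and of X by pullback; this row is the pointed
statement about the Albanese of Y only.) -/
theorem result (k : Type u) [Field k] (X Y : Over (Spec (CommRingCat.of k)))
    [IsProper X.hom] [IsProper Y.hom] (h0 : Function.Bijective (X.hom.appTop).hom)
    (x₀ : 𝟙_ (Over (Spec (CommRingCat.of k))) ⟶ X)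
    (A : Over (Spec (CommRingCat.of k))) [GrpObj A] [IsProper A.hom] [GeometricallyIntegral A.hom]
    (alb : X ⟶ A) (halb : x₀ ≫ alb = η[A])
    (huniv : ∀ (B : Over (Spec (CommRingCat.of k))) [GrpObj B] [IsProper B.hom] [GeometricallyReduced B.hom] [ConnectedSpace ↥B.left]
      (g : X ⟶ B), x₀ ≫ g = η[B] → ∃! h : A ⟶ B, IsMonHom h ∧ alb ≫ h = g)
    (r : X ⟶ Y) (hr : ∀ U : Y.left.Opens, IsIso (r.left.app U)) (s : Y ⟶ A) [IsFinite s.left]
    (hrs : r ≫ s = alb)
    (B : Over (Spec (CommRingCat.of k))) [GrpObj B] [IsProper B.hom] [GeometricallyReduced B.hom] [ConnectedSpace ↥B.left]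
    (g : Y ⟶ B) (hg : x₀ ≫ r ≫ g = η[B]) :
    ∃! h : A ⟶ B, IsMonHom h ∧ s ≫ h = g := by
  obtain ⟨h, ⟨hmon, hh⟩, huni⟩ := huniv B (r ≫ g) hg
  have hp : IsProper (r.left ≫ Y.hom) := by rw [Over.w r]; infer_instance
  have : IsProper r.left := IsProper.of_comp r.left Y.hom
  have := epi_of_app_isIso r.left hr
  refine ⟨h, ⟨hmon, ?_⟩, fun h' ⟨hm', e'⟩ => huni h' ⟨hm', ?_⟩⟩
  · apply Over.OverMorphism.ext
    rw [← cancel_epi r.left, ← Over.comp_left, ← Over.comp_left, ← hh, ← hrs, Category.assoc]
  · rw [← hrs, Category.assoc, e']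

end Groth.Agent.S14834
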