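import Groth.Statements.S14835
import Groth.Agent.S7811
import Groth.Agent.S1585
import Groth.Agent.Hyper24.BiratH1
import Groth.Agent.AlgSpLib.DimBasic
import Groth.Agent.CurveRR24.SmoothCompletion
import Groth.Agent.CurveRR24.RatPoint
-- import your own Groth.Agent.* helpers here

set_option autoImplicit false
universe u
open CategoryTheory CategoryTheory.Limits AlgebraicGeometry
open Curves

set_option backward.isDefEq.respectTransparency.types false
namespace Groth.Agent.S14835

/-- Let k be an algebraically closed field, C and B proper curves over k (proper k-schemes of dimension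
one) with B connected and regular (all local rings regular), φ : C → B a k-morphism, and ι : C_i → C
a closed integral one-dimensional subscheme (an integral component) such that the composite C_i → B
is finite. Then dim_k H^1(C, O_C) ≥ dim_k H^1(C_i, O_{C_i}) ≥ dim_k H^1(B, O_B). -/
theorem result (k : Type u) [Field k] [IsAlgClosed k]
    (C B Ci : Scheme.{u}) [C.Over (Spec (CommRingCat.of k))] [B.Over (Spec (CommRingCat.of k))] [Ci.Over (Spec (CommRingCat.of k))]
    [IsProper (C ↘ Spec (CommRingCat.of k))] [IsProper (B ↘ Spec (CommRingCat.of k))]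
    (hC : topologicalKrullDim ↥C = 1) (hB : topologicalKrullDim ↥B = 1) [ConnectedSpace ↥B]
    (hBreg : ∀ b : B, IsRegularLocalRing (B.presheaf.stalk b))
    (φ : C ⟶ B) (hφ : φ ≫ (B ↘ Spec (CommRingCat.of k)) = C ↘ Spec (CommRingCat.of k))
    (ι : Ci ⟶ C) [IsClosedImmersion ι] [IsIntegral Ci] (hCi : topologicalKrullDim ↥Ci = 1)
    (hι : ι ≫ (C ↘ Spec (CommRingCat.of k)) = Ci ↘ Spec (CommRingCat.of k)) [IsFinite (ι ≫ φ)] :
    Module.finrank k (Coh.HH Ci (Coh.structureModule Ci) 1) ≤ Module.finrank k (Coh.HH C (Coh.structureModule C) 1) ∧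
      Module.finrank k (Coh.HH B (Coh.structureModule B) 1) ≤ Module.finrank k (Coh.HH Ci (Coh.structureModule Ci) 1) := by
  classical
  haveI : IsProper (Ci ↘ Spec (CommRingCat.of k)) := by
    rw [← hι]; infer_instance
  haveI := CurveRR24.isLocallyNoetherian_of_proper k (X := B)
  haveI : IsClosedImmersion (ι ∣_ (⊤ : C.Opens)) := IsZariskiLocalAtTarget.restrict ‹IsClosedImmersion ι› ⊤
  refine ⟨Hyper24.genus_le_of_finite k hC.le ι hι (U := ⊤) (by simp) inferInstance, ?_⟩
  -- the normalization of the component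
  haveI : QuasiCompact (Ci.fromSpecStalk (genericPoint Ci)) := inferInstance
  haveI := CurveRR24.isLocallyNoetherian_of_proper k (X := Ci)
  haveI : QuasiSeparated (Ci.fromSpecStalk (genericPoint Ci)) := inferInstance
  obtain ⟨hfin, hdom, ⟨V, hV, hiso⟩, hNi, hNn⟩ := Groth.Agent.S1585.result k Ci
  haveI := hfin; haveI := hdom; haveI := hiso; haveI := hNi
  let N := Curv2.normalization Ci
  let ν : N ⟶ Ci := Curv2.normalizationι Ci
  letI : N.Over (Spec (CommRingCat.of k)) := ⟨ν ≫ (Ci ↘ Spec (CommRingCat.of k))⟩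
  haveI : IsProper (N ↘ Spec (CommRingCat.of k)) := inferInstanceAs (IsProper (ν ≫ _))
  haveI := CurveRR24.isLocallyNoetherian_of_proper k (X := N)
  have h1 : Curv2.genus k N ≤ Curv2.genus k Ci := Hyper24.genus_le_of_finite k hCi.le ν rfl
    (V.isOpen.dense hV) (inferInstanceAs (IsClosedImmersion (ν ∣_ V)))
  haveI : Surjective ν := ⟨by
    rw [← Set.range_eq_univ, ← ν.isClosedMap.isClosed_range.closure_eq]
    exact ν.denseRange.closure_eq⟩
  have hN1 : topologicalKrullDim N = 1 :=
    le_antisymm ((AlgSpLib.topologicalKrullDim_le_of_isIntegralHom ν).trans hCi.le)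
      (hCi.ge.trans (AlgSpLib.topologicalKrullDim_ge_of_isIntegralHom ν))
  haveI : Smooth (N ↘ Spec (CommRingCat.of k)) :=
    CurveRR24.smooth_of_regular_closedPoints _ fun x hx => by
      haveI := (hNn x).1; haveI := (hNn x).2
      exact CAlgH3.isRegularLocalRing_of_normal_dim_le_one (CurveRR24.stalk_dim_eq_one hN1 hx).le
  haveI : Smooth (B ↘ Spec (CommRingCat.of k)) :=
    CurveRR24.smooth_of_regular_closedPoints _ fun x _ => hBreg x
  haveI : IsIntegral B := CurveRR24.isIntegral_of_normal_connected (B ↘ Spec (CommRingCat.of k))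
    (NeronLib.isNormalScheme_of_smooth (B ↘ Spec (CommRingCat.of k)) (CurveRR24.isNormalScheme_spec_field k))
  haveI : GeometricallyIntegral (N ↘ Spec (CommRingCat.of k)) := AbVarLib.geometricallyIntegral_of_isAlgClosed _
  haveI : GeometricallyIntegral (B ↘ Spec (CommRingCat.of k)) := AbVarLib.geometricallyIntegral_of_isAlgClosed _
  haveI : GeometricallyConnected (N ↘ Spec (CommRingCat.of k)) :=
    ⟨fun K _ y P fst snd h => by
      have := GeometricallyIrreducible.geometrically_irreducibleSpace (f := N ↘ Spec (CommRingCat.of k)) y fst snd h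
      infer_instance⟩
  haveI : GeometricallyConnected (B ↘ Spec (CommRingCat.of k)) :=
    ⟨fun K _ y P fst snd h => by
      have := GeometricallyIrreducible.geometrically_irreducibleSpace (f := B ↘ Spec (CommRingCat.of k)) y fst snd h
      infer_instance⟩
  have hcomp : (ν ≫ ι ≫ φ) ≫ (B ↘ Spec (CommRingCat.of k)) = N ↘ Spec (CommRingCat.of k) := by
    rw [Category.assoc, Category.assoc, hφ, hι]
    rfl
  have h2 := Groth.Agent.S7811.result k (N ↘ Spec (CommRingCat.of k)) (B ↘ Spec (CommRingCat.of k))
    hN1 hB (ν ≫ ι ≫ φ) hcomp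
  exact le_trans h2 h1

end Groth.Agent.S14835
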