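import Groth.Statements.S14836
import Groth.Agent.PicLib.PullbackGen
import Groth.Agent.AmpleLib.Relative
-- import your own Groth.Agent.* helpers here

set_option autoImplicit false
universe u
open CategoryTheory CategoryTheory.Limits AlgebraicGeometry
open Formal2

namespace Groth.Agent.S14836

/-- Let k be a field and f : X → Y a k-morphism between proper k-schemes which is a fibration, i.e. O_Y
→ f_*O_X is an isomorphism (Γ(V, O_Y) → Γ(f⁻¹V, O_X) bijective for every open V ⊆ Y). Then N ↦ f^*N
is injective on Picard groups: every invertible O_Y-module whose pullback to X is trivial is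
trivial. -/
theorem result (k : Type u) [Field k] (X Y : Scheme.{u})
    [X.Over (Spec (CommRingCat.of k))] [Y.Over (Spec (CommRingCat.of k))] [IsProper (X ↘ Spec (CommRingCat.of k))] [IsProper (Y ↘ Spec (CommRingCat.of k))]
    (f : X ⟶ Y) (hf : f ≫ (Y ↘ Spec (CommRingCat.of k)) = X ↘ Spec (CommRingCat.of k)) (hfib : ∀ V : Y.Opens, IsIso (f.app V)) :
    Formal2.PicPullbackInjective f := by
  intro L hL he
  obtain ⟨e⟩ := he
  have hσ : ∀ V : Y.Opens, Function.Bijective (f.app V) := fun V => by
    have := hfib V
    exact ConcreteCategory.bijective_of_isIso (f.app V)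
  have key : ∀ M : Y.Modules, PicF.IsInvertible M →
      Nonempty (M ≅ (AlgebraicGeometry.Scheme.Modules.pushforward f).obj
        ((AlgebraicGeometry.Scheme.Modules.pullback f).obj M)) := fun M hM => by
    haveI : IsIso ((AlgebraicGeometry.Scheme.Modules.pullbackPushforwardAdjunction f).unit.app M) := by
      rw [AlgebraicGeometry.Scheme.Modules.Hom.isIso_iff_isIso_app]
      exact fun U => (ConcreteCategory.isIso_iff_bijective _).2 (PicLib.bijective_pullSec f hσ hM U)
    exact ⟨asIso ((AlgebraicGeometry.Scheme.Modules.pullbackPushforwardAdjunction f).unit.app M)⟩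
  obtain ⟨e₁⟩ := key L hL
  obtain ⟨e₂⟩ := key (Coh.structureModule Y) AmpleLib.isInvertible_structureModule
  obtain ⟨e₃⟩ := AmpleLib.exists_pullStructureIso f
  exact ⟨e₁ ≪≫ (AlgebraicGeometry.Scheme.Modules.pushforward f).mapIso (e ≪≫ e₃.symm) ≪≫ e₂.symm⟩

end Groth.Agent.S14836
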