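import Groth.Statements.S14837
import Groth.Agent.CommAlg4.EdgeInjective
import Groth.Agent.Coherent.ConnectedFibre
import Groth.Agent.CohExch.Cech
import Groth.Agent.Coherent.CohFinite
import Groth.Agent.Coherent.ProjSpaceBC
-- import your own Groth.Agent.* helpers here

set_option autoImplicit false
set_option backward.isDefEq.respectTransparency false
universe u
open CategoryTheory CategoryTheory.Limits AlgebraicGeometry
open Coh

namespace Groth.Agent.S14837

open CategoryTheory CategoryTheory.Limits Opposite TopologicalSpace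
open CohPull CohCmp
open Groth.Agent.Coherent Groth.Agent.CohCmpLib

theorem push_smulModΓ {X Y : Scheme.{u}} (f : X ⟶ Y) (G : X.Modules) (r : Coh.Γtop Y) :
    (Scheme.Modules.pushforward f).map (Formal.smulModΓ G (f.appTop r)) =
      Formal.smulModΓ ((Scheme.Modules.pushforward f).obj G) r := by
  refine Scheme.Modules.hom_ext _ _ fun V => ?_
  ext m
  exact congrArg (fun c : Γ(X, f ⁻¹ᵁ V) => c • (show Γ(G, f ⁻¹ᵁ V) from m))
    congr($(f.naturality (homOfLE (le_top (a := V))).op) r).symm

theorem pushEdge_smul {X Y : Scheme.{u}} (f : X ⟶ Y) (G : X.Modules) (p : ℕ) (r : Coh.Γtop Y)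
    (x : Coh.HH Y ((Scheme.Modules.pushforward f).obj G) p) :
    pushEdge f G p (r • x) = (show Coh.Γtop X from f.appTop r) • pushEdge f G p x := by
  have h := pushEdge_natural f (Formal.smulModΓ G (f.appTop r)) p x
  rw [push_smulModΓ] at h
  exact h

theorem mapH_smul {X : Scheme.{u}} {M N : X.Modules} (φ : M ⟶ N) (p : ℕ) (r : Coh.Γtop X) (x : Coh.HH X M p) :
    mapH φ p (r • x) = r • mapH φ p x := by
  show Sheaf.H.map _ p (Sheaf.H.map (Coh.smulAb M r) p x) = Sheaf.H.map (Coh.smulAb N r) p (Sheaf.H.map _ p x)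
  rw [← Sheaf.H.map_comp_apply, ← Sheaf.H.map_comp_apply]
  refine congrArg (fun t => Sheaf.H.map t p x) ?_
  ext U m
  exact φ.app_smul _ _

/-- Let k be a field and f : X → Y a k-morphism between proper k-schemes which is a fibration (Γ(V, O_Y)
→ Γ(f⁻¹V, O_X) bijective for every open V ⊆ Y). Then H^1(Y, O_Y) injects naturally into H^1(X, O_X)
(edge map of the Leray spectral sequence); stated here as the inequality dim_k H^1(Y, O_Y) ≤ dim_k
H^1(X, O_X) of finite dimensions. -/
theorem result (k : Type u) [Field k] (X Y : Scheme.{u})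
    [X.Over (Spec (CommRingCat.of k))] [Y.Over (Spec (CommRingCat.of k))] [IsProper (X ↘ Spec (CommRingCat.of k))] [IsProper (Y ↘ Spec (CommRingCat.of k))]
    (f : X ⟶ Y) (hf : f ≫ (Y ↘ Spec (CommRingCat.of k)) = X ↘ Spec (CommRingCat.of k)) (hfib : ∀ V : Y.Opens, IsIso (f.app V)) :
    Module.finrank k (Coh.HH Y (Coh.structureModule Y) 1) ≤ Module.finrank k (Coh.HH X (Coh.structureModule X) 1) := by
  haveI : HasInjectiveResolutions X.Modules := hasInjectiveResolutions_modules X
  let φ : Coh.structureModule Y ⟶ (Scheme.Modules.pushforward f).obj (Coh.structureModule X) :=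
    pushRingUnit f
  haveI : IsIso φ := by
    rw [Scheme.Modules.Hom.isIso_iff_isIso_app]
    intro V
    rw [ConcreteCategory.isIso_iff_bijective]
    haveI := hfib V
    have hb := ConcreteCategory.bijective_of_isIso (f.app V)
    exact ⟨fun a b hab => hb.1 ((pushRingUnit_app f V a).symm.trans (hab.trans (pushRingUnit_app f V b))),
      fun c => let ⟨r, hr⟩ := hb.2 c; ⟨r, (pushRingUnit_app f V r).trans hr⟩⟩
  have hφ : Function.Injective (mapH φ 1) := fun a b hab => by
    have h2 := congrArg (mapH (inv φ) 1) hab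
    simpa only [mapH, ← Sheaf.H.map_comp_apply, ← Functor.map_comp, IsIso.hom_inv_id,
      CategoryTheory.Functor.map_id, Sheaf.H.map_id_apply] using h2
  have ha : ∀ a : k, f.appTop (Coh.toGlobal (Y ↘ Spec (CommRingCat.of k)) a) =
      Coh.toGlobal (X ↘ Spec (CommRingCat.of k)) a := fun a => by
    show f.appTop ((Y ↘ Spec (CommRingCat.of k)).appTop _) = (X ↘ Spec (CommRingCat.of k)).appTop _
    rw [← ConcreteCategory.comp_apply, ← Scheme.Hom.comp_appTop, hf]
  let E : Coh.HH Y (Coh.structureModule Y) 1 →ₗ[k] Coh.HH X (Coh.structureModule X) 1 :=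
    { toFun := fun x => pushEdge f (Coh.structureModule X) 1 (mapH φ 1 x)
      map_add' := fun x y => by rw [map_add, map_add]
      map_smul' := fun a x => by
        show pushEdge f _ 1 (mapH φ 1 (Coh.toGlobal (Y ↘ Spec (CommRingCat.of k)) a • x)) =
          Coh.toGlobal (X ↘ Spec (CommRingCat.of k)) a • pushEdge f _ 1 (mapH φ 1 x)
        rw [mapH_smul, pushEdge_smul, ← ha a] }
  have hO : Coh.IsCoh (Coh.structureModule X) := by
    haveI : IsLocallyNoetherian X := LocallyOfFiniteType.isLocallyNoetherian (X ↘ Spec (CommRingCat.of k))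
    exact isCoh_structureModule X
  haveI := hO.1
  haveI : Module.Finite k (Coh.HH X (Coh.structureModule X) 1) :=
    (finite_HH_iff k (Coh.structureModule X) 1).2
      (finCoh_of_isProper (X ↘ Spec (CommRingCat.of k)) _ hO 1)
  exact LinearMap.finrank_le_finrank_of_injective (f := E)
    ((Groth.Agent.CommAlg4.injective_pushEdge_one f (Coh.structureModule X)).comp hφ)

end Groth.Agent.S14837
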