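import Groth.Statements.S14838
import Groth.Agent.S14828
import Groth.Agent.S14810
import Groth.Agent.PicH127.Norm
import Groth.Agent.NumSec27.BaseChange
import Groth.Agent.BlowUpCoh.LocFree
import Groth.Agent.TwoPunct8.Main
import Groth.Agent.VarietyLib.PullClass
import Groth.Agent.KLLib.Basic
-- import your own Groth.Agent.* helpers here

set_option autoImplicit false
set_option backward.isDefEq.respectTransparency.types false
set_option maxHeartbeats 1000000
universe u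
open CategoryTheory CategoryTheory.Limits AlgebraicGeometry
open Canon

namespace Groth.Agent.S14838

theorem chi_pow {X : Scheme.{u}} (k : Type u) [Field k] [X.Over (Spec (CommRingCat.of k))]
    [IsProper (X ↘ Spec (CommRingCat.of k))] (a : EulerLib.InvCl X) {y : X}
    (hy : topologicalKrullDim (closure {y} : Set X) = 1) :
    ∀ n : ℕ, EulerLib.chiCl k (AssSch12.clM y) (a ^ n) - EulerLib.chiCl k (AssSch12.clM y) 1 =
      n * (EulerLib.chiCl k (AssSch12.clM y) a - EulerLib.chiCl k (AssSch12.clM y) 1) := by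
  intro n
  induction n with
  | zero => simp
  | succ n ih =>
    have h := NumTriv23.chi_curve_mul k (a ^ n) a hy
    rw [pow_succ]
    push_cast
    linarith

theorem isNum_of_pow {X : Scheme.{u}} (k : Type u) [Field k] [X.Over (Spec (CommRingCat.of k))]
    [IsProper (X ↘ Spec (CommRingCat.of k))] {a : EulerLib.InvCl X} {n : ℕ} (hn : 0 < n)
    (h : NumTriv23.IsNum k (a ^ n)) : NumTriv23.IsNum k a := fun y hy => by
  have h1 := chi_pow k a hy n
  rw [h y hy, sub_self] at h1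
  rcases mul_eq_zero.1 h1.symm with h0 | h0
  · exact absurd (Int.natCast_eq_zero.1 h0) hn.ne'
  · exact sub_eq_zero.1 h0

theorem pullHom_comp {X Y Z : Scheme.{u}} (f : Z ⟶ Y) (g : Y ⟶ X) (c : EulerLib.InvCl X) :
    VarietyLib.pullHom f (VarietyLib.pullHom g c) = VarietyLib.pullHom (f ≫ g) c := by
  obtain ⟨L, hL, rfl⟩ := c.exists_rep
  exact EulerLib.InvCl.mk_eq _ _ ((Scheme.Modules.pullbackComp f g).app L)

theorem eq_one_of_pullHom_eq_one {D Z : Scheme.{u}} (α : D ⟶ Z) (hα : ∀ V : Z.Opens, IsIso (α.app V))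
    {c : EulerLib.InvCl Z} (h : VarietyLib.pullHom α c = 1) : c = 1 := by
  obtain ⟨L, hL, rfl⟩ := c.exists_rep
  obtain ⟨e⟩ : Nonempty ((Scheme.Modules.pullback α).obj L ≅ Coh.structureModule D) := Quotient.exact h
  haveI : IsIso (StMod.unitMap α) := TwistLib.G.isIso_of_bijective_on_basis _ (fun _ => True)
    (fun V y hy => ⟨V, trivial, hy, le_rfl⟩) (fun V _ => by
      haveI := hα V
      exact ConcreteCategory.bijective_of_isIso (α.app V))
  haveI := BlowUpCoh.isIso_unit_of_locFree α (LocFreeLib.isFinLocFree_of_rank (PicLib.isFinLocFreeOfRank_one hL))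
  exact EulerLib.InvCl.mk_eq _ _ (asIso ((Scheme.Modules.pullbackPushforwardAdjunction α).unit.app L) ≪≫
    (Scheme.Modules.pushforward α).mapIso e ≪≫ (asIso (StMod.unitMap α)).symm)

theorem pow_eq_one_of_pullHom_eq_one {Z Y : Scheme.{u}} (β : Z ⟶ Y) {r : ℕ} (hβ : Mor2.IsFinLocFreeOfDeg r β)
    {c : EulerLib.InvCl Y} (h : VarietyLib.pullHom β c = 1) : c ^ r = 1 := by
  obtain ⟨L, hL, rfl⟩ := c.exists_rep
  haveI := hβ.1.1
  haveI := hβ.1.2.1
  haveI := hβ.1.2.2
  obtain ⟨e⟩ := PicH127.nonempty_tensorPow_iso_of_pullback_trivial β r hβ.2 hL (Quotient.exact h)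
  rw [← EulerLib.InvCl.mk_tensorPow hL r]
  exact EulerLib.InvCl.mk_eq _ _ e

/-- Let k be a field and X an integral proper k-scheme of dimension n which is Gorenstein: every local
ring is Cohen–Macaulay and X carries an invertible dualizing sheaf (ω_X, tr_X) in degree n (Hom(F,
ω_X) → H^n(X, F)^∨ bijective for all quasi-coherent F); assume ω_X is numerically trivial. Let i : D
→ X be an integral effective Cartier divisor (integral closed subscheme with invertible ideal sheaf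
I; O_X(D) an inverse of I) with a dualizing sheaf (ω_D, tr_D) in degree n − 1, let Y be a proper
k-scheme and f : X → Y a surjective k-morphism, and let m₁, m₂, m₃ ≥ 1 be integers with: (i)
ω_D^{⊗m₁} ≅ O_D and O_D(m₂D) = (O_X(D)|_D)^{⊗m₂} has a nonzero global section; (ii) ω_X^{⊗m₃} ≅ f^*N
for some invertible O_Y-module N; (iii) the restriction f|_D factors as D → Z → Y with O_Z → α_*O_D
an isomorphism and β : Z → Y finite locally free of constant degree r (a flat Stein factorisation).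
Then ω_X^{⊗(r·lcm(m₁,m₂,m₃))} ≅ O_X; thus ω_X has finite order in Pic(X) dividing r·lcm(m₁,m₂,m₃).
(The published statement prints the bound r·lcm(m₁, m₂, m₂); its proof takes m to be a common
multiple for which (i) and (ii) hold with m in place of m₁, m₂ and m₃, i.e. m = lcm(m₁, m₂, m₃),
which is the bound this row states.) -/
theorem result (k : Type u) [Field k]
    (X : Scheme.{u}) [X.Over (Spec (CommRingCat.of k))] [IsProper (X ↘ Spec (CommRingCat.of k))] [IsIntegral X] (n : ℕ) (hn : topologicalKrullDim ↥X = n)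
    (hCM : ∀ x : X, LocCoh.IsCohenMacaulayLocalRing (X.presheaf.stalk x))
    (ωX : X.Modules) (trX : Coh.HH X ωX n →ₗ[k] k) (hωX : Canon.IsRDualOver k X n ωX trX) (hωXinv : PicF.IsInvertible ωX)
    (hnum : Pic13.IsNumEquivZero k X ωX)
    (D : Scheme.{u}) (i : D ⟶ X) [IsClosedImmersion i] [IsIntegral D] (hI : PicF.IsInvertible (ClSub.idealMod i.ker))
    (OD : X.Modules) (hOD : ClSub.IsInverseOf OD (ClSub.idealMod i.ker))
    (Y : Scheme.{u}) [Y.Over (Spec (CommRingCat.of k))] [IsProper (Y ↘ Spec (CommRingCat.of k))] (f : X ⟶ Y) [Surjective f] (hf : f ≫ (Y ↘ Spec (CommRingCat.of k)) = X ↘ Spec (CommRingCat.of k))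
    (m₁ m₂ m₃ : ℕ) (hm₁ : 0 < m₁) (hm₂ : 0 < m₂) (hm₃ : 0 < m₃)
    (N : Y.Modules) (hN : PicF.IsInvertible N) (hii : Nonempty (CohB1.tensorPow ωX m₃ ≅ (Scheme.Modules.pullback f).obj N))
    (Z : Scheme.{u}) (α : D ⟶ Z) (β : Z ⟶ Y) (hαβ : α ≫ β = i ≫ f) (hα : ∀ V : Z.Opens, IsIso (α.app V))
    (r : ℕ) (hβ : Mor2.IsFinLocFreeOfDeg r β) :
    letI : D.Over (Spec (CommRingCat.of k)) := ⟨i ≫ (X ↘ Spec (CommRingCat.of k))⟩
    ∀ (ωD : D.Modules) (trD : Coh.HH D ωD (n - 1) →ₗ[k] k), Canon.IsRDualOver k D (n - 1) ωD trD →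
      Nonempty (CohB1.tensorPow ωD m₁ ≅ Coh.structureModule D) →
      ∀ (s : Coh.structureModule D ⟶ CohB1.tensorPow ((Scheme.Modules.pullback i).obj OD) m₂), s ≠ 0 →
        Nonempty (CohB1.tensorPow ωX (r * Nat.lcm m₁ (Nat.lcm m₂ m₃)) ≅ Coh.structureModule X) := by
  letI : D.Over (Spec (CommRingCat.of k)) := ⟨i ≫ (X ↘ Spec (CommRingCat.of k))⟩
  intro ωD trD hωD hωDm s hs
  haveI : IsProper (D ↘ Spec (CommRingCat.of k)) :=
    inferInstanceAs (IsProper (i ≫ (X ↘ Spec (CommRingCat.of k))))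
  obtain ⟨-, hdual⟩ := S14828.result k X n hn hCM
    (fun x hx => (TwoPunct8.ringKrullDim_stalk_of_isClosed (X ↘ Spec (CommRingCat.of k)) hx).trans hn)
    ωX trX hωX D i hI OD hOD
  obtain ⟨eD⟩ := hdual ωD trD hωD
  obtain ⟨tO⟩ := hOD
  have iOD : PicF.IsInvertible OD := MorProj.isInvertible_of_tensor_iso tO
  let P := VarietyLib.pullHom i
  let o := EulerLib.InvCl.mk OD iOD
  let a := EulerLib.InvCl.mk ωX hωXinv
  have hD : (P o * P a) ^ m₁ = 1 := by
    have iD := PicLoc.isInvertible_pullback i (AmpleLib.isInvertible_tensorMod iOD hωXinv)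
    show (P o * P a) ^ m₁ = 1
    rw [← map_mul]
    show (EulerLib.InvCl.mk ((Scheme.Modules.pullback i).obj (CohB1.tensorMod OD ωX)) iD) ^ m₁ = 1
    obtain ⟨e⟩ := hωDm
    have iωD : PicF.IsInvertible ωD := KLLib.isInvertible_of_iso eD.symm iD
    rw [← EulerLib.InvCl.mk_eq iωD iD eD, ← EulerLib.InvCl.mk_tensorPow iωD m₁]
    exact EulerLib.InvCl.mk_eq _ _ e
  have hnumA : NumTriv23.IsNum k (P a) :=
    NumTriv23.isNum_pull k i rfl hωXinv (NumTriv23.isNum_of_isNumEquivZero k hωXinv hnum)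
  have hnumO : NumTriv23.IsNum k (P o) := by
    refine isNum_of_pow k hm₁ (NumTriv23.IsNum.of_mul_eq_one k (NumTriv23.IsNum.pow k hnumA m₁) ?_)
    rw [mul_comm, ← mul_pow]
    exact hD
  have ho : P o ^ m₂ = 1 := by
    have iP := PicLoc.isInvertible_pullback i iOD
    have hmk : P o ^ m₂ = EulerLib.InvCl.mk _ (AmpleLib.isInvertible_tensorPow iP m₂) :=
      (EulerLib.InvCl.mk_tensorPow iP m₂).symm
    have hn2 : NumTriv23.IsNum k (EulerLib.InvCl.mk _ (AmpleLib.isInvertible_tensorPow iP m₂)) :=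
      hmk ▸ NumTriv23.IsNum.pow k hnumO m₂
    obtain ⟨e⟩ := S14810.result k D (isField_of_universallyClosed k (D ↘ Spec (CommRingCat.of k))) _
      (AmpleLib.isInvertible_tensorPow iP m₂) (NumSec27.isNumEquivZero_of_isNum k _ hn2) s hs
    exact hmk.trans (EulerLib.InvCl.mk_eq _ _ e)
  obtain ⟨m, hm⟩ : ∃ m, Nat.lcm m₁ (Nat.lcm m₂ m₃) = m := ⟨_, rfl⟩
  obtain ⟨q₁, hq₁⟩ : m₁ ∣ m := hm ▸ Nat.dvd_lcm_left _ _
  obtain ⟨q₂, hq₂⟩ : m₂ ∣ m := hm ▸ (Nat.dvd_lcm_left _ _).trans (Nat.dvd_lcm_right _ _)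
  obtain ⟨q₃, hq₃⟩ : m₃ ∣ m := hm ▸ (Nat.dvd_lcm_right _ _).trans (Nat.dvd_lcm_right _ _)
  have h1 : P a ^ m = 1 := by
    have h2 : (P o * P a) ^ m = 1 := by rw [hq₁, pow_mul, hD, one_pow]
    rwa [mul_pow, show P o ^ m = 1 by rw [hq₂, pow_mul, ho, one_pow], one_mul] at h2
  let b := EulerLib.InvCl.mk N hN
  have hb : a ^ m₃ = VarietyLib.pullHom f b := by
    obtain ⟨e⟩ := hii
    rw [← EulerLib.InvCl.mk_tensorPow hωXinv m₃]
    exact EulerLib.InvCl.mk_eq _ _ e
  have hc : (b ^ q₃) ^ r = 1 := by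
    refine pow_eq_one_of_pullHom_eq_one β hβ (eq_one_of_pullHom_eq_one α hα ?_)
    rw [pullHom_comp, hαβ, ← pullHom_comp, map_pow (VarietyLib.pullHom f), ← hb, ← pow_mul, ← hq₃,
      map_pow]
    exact h1
  have key : a ^ (r * Nat.lcm m₁ (Nat.lcm m₂ m₃)) = 1 := by
    rw [hm, hq₃, show r * (m₃ * q₃) = m₃ * (q₃ * r) by ring, pow_mul, hb, ← map_pow, pow_mul, hc, map_one]
  rw [← EulerLib.InvCl.mk_tensorPow hωXinv] at key
  exact Quotient.exact key

end Groth.Agent.S14838
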