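import Groth.Statements.S1484
import Mathlib

set_option autoImplicit false
universe u
open FlatMor

namespace Groth.Agent.S1484

/-- Let R be a ring, p_1, …, p_r primes of R none of which is contained in another, k_i ⊆ κ(p_i)
subfields over which κ(p_i) is not algebraic, and J an ideal of R contained in none of the p_i. Then
some x ∈ J has image in κ(p_i) transcendental over k_i for every i. -/
theorem result {R : Type u} [CommRing R] {r : ℕ} (p : Fin r → Ideal R) [∀ i, (p i).IsPrime]
    (hp : ∀ i j, i ≠ j → ¬ p i ≤ p j) (k : ∀ i, Subfield (p i).ResidueField)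
    (hk : ∀ i, ¬ Algebra.IsAlgebraic ↥(k i) (p i).ResidueField) (J : Ideal R) (hJ : ∀ i, ¬ J ≤ p i) :
    ∃ x ∈ J, ∀ i, Transcendental ↥(k i) (algebraMap R (p i).ResidueField x) := by
  classical
  have halg : ∀ i, IsField (Polynomial (k i)) → False := fun i h => Polynomial.not_isField _ h
  have key : ∀ i, ∃ b ∈ J, (∀ j, j ≠ i → b ∈ p j) ∧
      Transcendental ↥(k i) (algebraMap R (p i).ResidueField b) := by
    intro i
    let T : Finset (Fin r) := Finset.univ.erase i
    obtain ⟨a, haJ, haT, hai⟩ : ∃ a ∈ J, (∀ j ∈ T, a ∈ p j) ∧ a ∉ p i := by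
      have h1 : ∀ j ∈ T, ¬ p j ≤ p i := fun j hj => hp j i (Finset.ne_of_mem_erase hj)
      have h2 : ¬ J ⊓ T.inf p ≤ p i := by
        intro h
        rcases (inferInstance : (p i).IsPrime).inf_le.1 h with h | h
        · exact hJ i h
        · obtain ⟨j, hj, hle⟩ := (inferInstance : (p i).IsPrime).inf_le'.1 h
          exact h1 j hj hle
      obtain ⟨a, ha, hai⟩ := SetLike.not_le_iff_exists.1 h2
      exact ⟨a, ha.1, fun j hj => (Finset.inf_le hj : T.inf p ≤ p j) (Submodule.mem_inf.1 ha).2, hai⟩
    let K := (p i).ResidueField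
    have hne : algebraMap R K a ≠ 0 := fun h => hai (Ideal.algebraMap_residueField_eq_zero.1 h)
    have hmem : ∀ c, ∀ j, j ≠ i → a * c ∈ p j := fun c j hj =>
      Ideal.mul_mem_right _ _ (haT j (Finset.mem_erase.2 ⟨hj, Finset.mem_univ _⟩))
    by_cases hta : Transcendental ↥(k i) (algebraMap R K a)
    · exact ⟨a, haJ, fun j hj => by simpa using hmem 1 j hj, hta⟩
    · obtain ⟨y, hy⟩ : ∃ y : R, Transcendental ↥(k i) (algebraMap R K y) := by
        by_contra h
        simp only [not_exists, Transcendental, not_not] at h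
        refine hk i ⟨fun z => ?_⟩
        obtain ⟨b, c, -, rfl⟩ := IsFractionRing.div_surjective (A := R ⧸ p i) z
        obtain ⟨b, rfl⟩ := Ideal.Quotient.mk_surjective b
        obtain ⟨c, rfl⟩ := Ideal.Quotient.mk_surjective c
        rw [div_eq_mul_inv]
        exact (h b).mul (h c).inv
      refine ⟨a * y, Ideal.mul_mem_right _ _ haJ, hmem y, fun h => hy ?_⟩
      rw [Transcendental, not_not] at hta
      rw [map_mul] at h
      have h3 := h.mul hta.inv
      rwa [mul_comm (algebraMap R K a), mul_assoc, mul_inv_cancel₀ hne, mul_one] at h3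
  choose b hbJ hbp hbt using key
  refine ⟨∑ i, b i, Ideal.sum_mem _ fun i _ => hbJ i, fun i => ?_⟩
  have : algebraMap R (p i).ResidueField (∑ j, b j) = algebraMap R (p i).ResidueField (b i) := by
    rw [map_sum]
    refine Finset.sum_eq_single i (fun j _ hj => ?_) (fun h => absurd (Finset.mem_univ i) h)
    exact Ideal.algebraMap_residueField_eq_zero.2 (hbp j i (Ne.symm hj))
  rw [this]
  exact hbt i

end Groth.Agent.S1484
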