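import Groth.Statements.S14840
import Groth.Agent.AlgGrpLib.FixedLocus

set_option autoImplicit false
open CategoryTheory MonoidalCategory CartesianMonoidalCategory AlgebraicGeometry
universe u
open AlgGrp

namespace Groth.Agent.S14840

theorem free_of_square {A A' B B' : Type u} [CommRing A] [CommRing A'] [CommRing B] [CommRing B']
    (φ : A →+* B) (ψ : A' →+* B') (α : A ≃+* A') (β : B ≃+* B') (h : ∀ a, ψ (α a) = β (φ a))
    (hf : letI := φ.toAlgebra; Module.Free A B) : letI := ψ.toAlgebra; Module.Free A' B' := by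
  letI := φ.toAlgebra
  letI := ψ.toAlgebra
  letI : Module A' B := Module.compHom B α.symm.toRingHom
  have hs : ∀ (c : A) (x : B), α c • x = c • x := fun c x => by
    show α.symm (α c) • x = c • x
    rw [α.symm_apply_apply]
  let b := (Module.Free.chooseBasis A B).mapCoeffs α hs
  let e : B ≃ₗ[A'] B' :=
    { β.toAddEquiv with
      map_smul' := fun c x => by
        show β (α.symm c • x) = c • β x
        rw [Algebra.smul_def, map_mul, Algebra.smul_def, RingHom.algebraMap_toAlgebra, RingHom.algebraMap_toAlgebra,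
          ← h, α.apply_symm_apply] }
  exact Module.Free.of_basis (b.map e)

theorem projective_of_square {Z S : Scheme.{u}} (f : Z ⟶ S) (U : S.affineOpens)
    (hU : @Module.Free Γ(S, U) Γ(Z, f ⁻¹ᵁ U) _ _ (f.app U).hom.toAlgebra.toModule) :
    letI := (((⊤ : (Limits.pullback f (𝟙 _ ≫ (U : S.Opens).ι)).Opens)).ι ≫
      Limits.pullback.snd f (𝟙 _ ≫ (U : S.Opens).ι)).appTop.hom.toAlgebra
    Module.Projective Γ((U : S.Opens), ⊤) Γ((⊤ : (Limits.pullback f (𝟙 _ ≫ (U : S.Opens).ι)).Opens), ⊤) := by
  let g : ((U : S.Opens) : Scheme) ⟶ S := 𝟙 _ ≫ (U : S.Opens).ι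
  let t := (Limits.pullback f g).topIso
  let w := pullbackRestrictIsoRestrict f U
  let e : ((⊤ : (Limits.pullback f g).Opens) : Scheme) ≅ ((f ⁻¹ᵁ (U : S.Opens) : Z.Opens) : Scheme) :=
    (Limits.pullback f g).topIso ≪≫ Limits.pullback.congrHom rfl (Category.id_comp _) ≪≫ w
  have he : (⊤ : (Limits.pullback f g).Opens).ι ≫ Limits.pullback.snd f g = e.hom ≫ (f ∣_ U) := by
    simp [e, w, g, Limits.pullback.map]
    exact congrArg (_ ≫ ·) (Limits.pullback.lift_snd _ _ _).symm
  let α : Γ(S, U) ≃+* Γ((U : S.Opens), ⊤) := (U : S.Opens).topIso.commRingCatIsoToRingEquiv.symm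
  let β : Γ(Z, f ⁻¹ᵁ U) ≃+* Γ((⊤ : (Limits.pullback f g).Opens), ⊤) :=
    ((f ⁻¹ᵁ (U : S.Opens)).topIso.symm ≪≫ Scheme.Γ.mapIso e.op).commRingCatIsoToRingEquiv
  have hsq : (U : S.Opens).topIso.inv ≫ ((⊤ : (Limits.pullback f g).Opens).ι ≫ Limits.pullback.snd f g).appTop =
      f.app U ≫ (f ⁻¹ᵁ (U : S.Opens)).topIso.inv ≫ e.hom.appTop := by
    rw [he, Scheme.Hom.comp_appTop, ← Category.assoc, ← Category.assoc]
    congr 1
    rw [morphismRestrict_appTop]
    simp [Scheme.Opens.topIso_inv, Scheme.Hom.app_eq_appLE]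
    exact (Scheme.Hom.map_appLE _ _ _).trans (Scheme.Hom.appLE_map _ _ _).symm
  have := free_of_square (f.app U).hom ((⊤ : (Limits.pullback f g).Opens).ι ≫ Limits.pullback.snd f g).appTop.hom α β
    (fun a => congr($hsq a)) hU
  letI := ((⊤ : (Limits.pullback f g).Opens).ι ≫ Limits.pullback.snd f g).appTop.hom.toAlgebra
  exact Module.Projective.of_free

/-- Let G be a group scheme over a scheme S, affine over S and with structure sheaf locally free over
O_S (each point of S has an affine open neighbourhood U such that the sections of O_G over the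
preimage of U form a free module over the sections of O_S over U), acting on an S-scheme Y which is
separated over S. Then the subfunctor of G-fixed points of Y is a closed subfunctor: there are an
S-scheme Z and a closed immersion i : Z → Y over S such that a T-valued point y of Y factors through
i exactly when it is fixed, i.e. g · y = y for every S-scheme T' over T and every T'-valued point g
of G. -/
theorem result
    {S : Scheme.{u}} (G Y : Over S) [GrpObj G] (a : AlgGrp.Action G Y)
    [IsAffineHom G.hom] [IsSeparated Y.hom]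
    (hfree : ∀ s : S, ∃ U : S.affineOpens, s ∈ (U : S.Opens) ∧
      @Module.Free Γ(S, U) Γ(G.left, G.hom ⁻¹ᵁ U) _ _ (G.hom.app U).hom.toAlgebra.toModule) :
    ∃ (Z : Over S) (i : Z ⟶ Y), IsClosedImmersion i.left ∧
      ∀ (T : Over S) (y : T ⟶ Y),
        (∀ (T' : Over S) (t : T' ⟶ T) (g : T' ⟶ G), lift g (t ≫ y) ≫ a.act = t ≫ y) ↔
          ∃ z : T ⟶ Z, z ≫ i = y := by
  have hfr : SGA3x.IsEssentiallyFree G.hom := by
    intro s
    obtain ⟨U, hsU, hU⟩ := hfree s
    haveI : IsAffine ((U : S.Opens) : Scheme) := U.2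
    refine ⟨U, hsU, U.2, (U : S.Opens), inferInstance, 𝟙 _, inferInstance, inferInstance, fun x => ?_⟩
    haveI : IsAffine (Limits.pullback G.hom (𝟙 _ ≫ (U : S.Opens).ι)) := isAffine_of_isAffineHom (Limits.pullback.snd G.hom (𝟙 _ ≫ (U : S.Opens).ι))
    refine ⟨⊤, trivial, isAffineOpen_top _, ?_⟩
    exact projective_of_square G.hom U hU
  obtain ⟨Z, j, hj, hZ⟩ := AlgGrpLib.exists_fixedLocus a.act hfr
  exact ⟨Z, j, hj, fun T f => ((hZ T f).trans (AlgGrpLib.fixed_iff a.act f)).symm⟩

end Groth.Agent.S14840
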