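import Groth.Statements.S14845


set_option autoImplicit false
open CategoryTheory CategoryTheory.Limits AlgebraicGeometry
universe u
open HilbD

namespace Groth.Agent.S14845

/-- For a separated morphism f : X → S, the Hilbert functor of one point of X over S is represented by X
with the diagonal as universal family: the diagonal of X ×_S X (the graph of the identity section of
X over itself) is a closed subscheme finite locally free of degree 1 over X, and every closed
subscheme of X ×_S T which is finite locally free of degree 1 over T is its base change along a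
unique S-morphism T → X. (The published statement takes S Noetherian, f locally of finite type and
the Hilbert functor on locally Noetherian S-schemes with flat proper families of Hilbert polynomial
1; this row uses the functor of families finite locally free of degree 1 on all S-schemes, for which
the same argument applies without Noetherian hypotheses.) -/
theorem result {X S : Scheme.{u}} (f : X ⟶ S) [IsSeparated f] :
    ∃ Δ : HilbD.Obj f 1 (Over.mk f),
      Δ.1 = HilbD.secGraph f (Over.mk f) (𝟙 X) (Category.id_comp f) ∧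
      HilbD.IsUniversal f 1 (Over.mk f) Δ := by

  haveI hproj : ∀ T : Over S, IsSeparated (PicF.XTproj f T) := fun T => inferInstanceAs (IsSeparated (pullback.snd f T.hom))
  let sec : ∀ (T : Over S) (x : T.left ⟶ X), x ≫ f = T.hom → (T.left ⟶ PicF.XT f T) := fun T x hx =>
    pullback.lift x (𝟙 T.left) (by simpa using hx)
  have hsec2 : ∀ T x hx, sec T x hx ≫ PicF.XTproj f T = 𝟙 T.left := fun T x hx => pullback.lift_snd _ _ _
  have hci : ∀ T x hx, IsClosedImmersion (sec T x hx) := fun T x hx => by
    haveI : IsClosedImmersion (sec T x hx ≫ PicF.XTproj f T) := by rw [hsec2 T x hx]; infer_instance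
    exact IsClosedImmersion.of_comp (sec T x hx) (PicF.XTproj f T)
  have hpull : ∀ {T T' : Over S} (g : T' ⟶ T) (I : (PicF.XT f T).IdealSheafData),
      HilbD.pull f g I = I.comap (PicF.XTmap f g) := fun g I => by
    rw [HilbD.pull, ← pullbackSymmetry_hom_comp_fst, Scheme.Hom.ker_comp_of_isIso,
      Scheme.IdealSheafData.ker_fst_of_isClosedImmersion, Scheme.IdealSheafData.ker_subschemeι]
  have hgraph : ∀ {T T' : Over S} (g : T' ⟶ T) (x : T.left ⟶ X) (hx : x ≫ f = T.hom),
      (sec T x hx).ker.comap (PicF.XTmap f g) = (sec T' (g.left ≫ x) (by rw [Category.assoc, hx, Over.w g])).ker := by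
    intro T T' g x hx
    haveI := hci T x hx
    have sq : IsPullback (sec T' (g.left ≫ x) (by rw [Category.assoc, hx, Over.w g])) g.left (PicF.XTmap f g) (sec T x hx) := by
      refine (IsPullback.of_bot (h₂₁ := PicF.XTmap f g) (v₂₁ := pullback.snd f T'.hom) (v₂₂ := pullback.snd f T.hom)
        (h₃₁ := g.left) ?_ (by
          apply pullback.hom_ext <;> simp only [sec, PicF.XTmap, pullback.map, Category.assoc]
          · erw [pullback.lift_fst, pullback.lift_fst]; erw [Category.comp_id, pullback.lift_fst]
          · erw [pullback.lift_snd, pullback.lift_snd]; erw [pullback.lift_snd_assoc]; simp) ?_).flip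
      · rw [hsec2 T x hx, hsec2 T' (g.left ≫ x) (by rw [Category.assoc, hx, Over.w g])]
        exact IsPullback.of_vert_isIso ⟨by simp⟩
      · refine IsPullback.of_right ?_ (by simp only [PicF.XTmap, pullback.map]; exact pullback.lift_snd _ _ _) (IsPullback.of_hasPullback f T.hom)
        have h : PicF.XTmap f g ≫ pullback.fst f T.hom = pullback.fst f T'.hom := (pullback.lift_fst _ _ _).trans (Category.comp_id _)
        rw [h, show g.left ≫ T.hom = T'.hom from Over.w g]
        exact IsPullback.of_hasPullback f T'.hom
    rw [← Scheme.IdealSheafData.ker_fst_of_isClosedImmersion (sec T x hx) (PicF.XTmap f g), ← sq.isoPullback_hom_fst,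
      Scheme.Hom.ker_comp_of_isIso]
  have hdeg : ∀ T x hx, Mor2.IsFinLocFreeOfDeg 1 ((sec T x hx).ker.subschemeι ≫ PicF.XTproj f T) := by
    intro T x hx
    haveI := hci T x hx
    haveI : IsIso ((sec T x hx).ker.subschemeι ≫ PicF.XTproj f T) := by
      have h : (sec T x hx).toImage ≫ ((sec T x hx).ker.subschemeι ≫ PicF.XTproj f T) = 𝟙 _ := by
        rw [← Category.assoc]
        exact ((sec T x hx).toImage_imageι_assoc _).trans (hsec2 T x hx)
      exact IsIso.of_isIso_fac_left h
    exact ⟨⟨inferInstance, inferInstance, inferInstance⟩, fun y => congrFun (Scheme.Hom.finrank_eq_one_of_isIso _) y⟩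
  refine ⟨⟨(sec (Over.mk f) (𝟙 X) (Category.id_comp f)).ker, hdeg (Over.mk f) (𝟙 X) (Category.id_comp f)⟩, rfl, fun T Z' => ?_⟩
  obtain ⟨⟨hfin, hflat, hfp⟩, hrk⟩ := Z'.2
  haveI := hfin; haveI := hflat; haveI := hfp
  haveI : IsIso (Z'.1.subschemeι ≫ PicF.XTproj f T) :=
    (Scheme.Hom.isIso_iff_finrank_eq _).mpr (funext fun y => hrk y)
  let e := Z'.1.subschemeι ≫ PicF.XTproj f T
  have hx : (inv e ≫ Z'.1.subschemeι ≫ pullback.fst f T.hom) ≫ f = T.hom := by
    rw [Category.assoc, Category.assoc, pullback.condition, IsIso.inv_comp_eq]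
    exact (Category.assoc _ _ _).symm
  have heq : sec T _ hx = inv e ≫ Z'.1.subschemeι := by
    apply pullback.hom_ext
    · rw [Category.assoc]; exact pullback.lift_fst _ _ _
    · rw [Category.assoc]; exact (hsec2 T _ hx).trans (IsIso.inv_hom_id e).symm
  have hpullΔ : ∀ g : T ⟶ Over.mk f, HilbD.pull f g (sec (Over.mk f) (𝟙 X) (Category.id_comp f)).ker =
      (sec T g.left (Over.w g)).ker := fun g => by
    rw [hpull, hgraph g (𝟙 X) (Category.id_comp f)]
    congr 1
  have hZ : (sec T _ hx).ker = Z'.1 := by
    rw [heq, Scheme.Hom.ker_comp_of_isIso, Scheme.IdealSheafData.ker_subschemeι]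
  refine ⟨Over.homMk (inv e ≫ Z'.1.subschemeι ≫ pullback.fst f T.hom) hx, (hpullΔ _).trans hZ, fun g hg => ?_⟩
  have hk : (sec T g.left (Over.w g)).ker = (sec T _ hx).ker := ((hpullΔ g).symm.trans hg).trans hZ.symm
  haveI := hci T g.left (Over.w g)
  have hl := IsClosedImmersion.lift_fac (sec T g.left (Over.w g)) (sec T _ hx) hk.le
  have hw : IsClosedImmersion.lift (sec T g.left (Over.w g)) (sec T _ hx) hk.le = 𝟙 _ := by
    rw [← Category.comp_id (IsClosedImmersion.lift (sec T g.left (Over.w g)) (sec T _ hx) hk.le)]
    calc _ = IsClosedImmersion.lift (sec T g.left (Over.w g)) (sec T _ hx) hk.le ≫ sec T g.left (Over.w g) ≫ PicF.XTproj f T := by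
            rw [hsec2 T g.left (Over.w g)]
      _ = _ := by rw [← Category.assoc, hl, hsec2 T _ hx]
  rw [hw, Category.id_comp] at hl
  apply Over.OverMorphism.ext
  have h1 : sec T g.left (Over.w g) ≫ pullback.fst f T.hom = g.left := pullback.lift_fst _ _ _
  have h2 : sec T _ hx ≫ pullback.fst f T.hom = inv e ≫ Z'.1.subschemeι ≫ pullback.fst f T.hom := pullback.lift_fst _ _ _
  rw [← h1, hl, h2]
  rfl

end Groth.Agent.S14845
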