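import Groth.Statements.S14846
import Mathlib

set_option autoImplicit false
universe u v w
open Brauer

namespace Groth.Agent.S14846

open TensorProduct in
/-- Let L/K be a Galois extension with group Γ = Aut_K(L), and A a K-algebra which is a simple ring. If
L ⊗_K A is semisimple, then Γ, acting on L ⊗_K A through the first tensor factor, permutes its
simple components, i.e. its minimal nonzero two-sided ideals, transitively: any minimal two-sided
ideal is carried onto any other by some γ ⊗ id. -/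
theorem result
    {K : Type u} {L : Type v} [Field K] [Field L] [Algebra K L] [IsGalois K L]
    {A : Type w} [Ring A] [Algebra K A] [IsSimpleRing A]
    [IsSemisimpleRing (L ⊗[K] A)]
    (I J : TwoSidedIdeal (L ⊗[K] A)) (hI : IsAtom I) (hJ : IsAtom J) :
    ∃ γ : L ≃ₐ[K] L, (J : Set (L ⊗[K] A)) =
      Algebra.TensorProduct.map (γ : L →ₐ[K] L) (AlgHom.id K A) '' (I : Set (L ⊗[K] A)) := by
  classical
  let F : (L ≃ₐ[K] L) → (L ⊗[K] A) →ₐ[K] (L ⊗[K] A) := fun γ =>
    Algebra.TensorProduct.map (γ : L →ₐ[K] L) (AlgHom.id K A)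
  change ∃ γ, (J : Set (L ⊗[K] A)) = F γ '' (I : Set (L ⊗[K] A))
  have hcomp : ∀ (γ δ : L ≃ₐ[K] L) z, F γ (F δ z) = F (γ * δ) z := fun γ δ z => by
    induction z using TensorProduct.induction_on with
    | zero => simp
    | tmul l a => simp [F]
    | add x y hx hy => simp only [map_add, hx, hy]
  have hone : ∀ z, F 1 z = z := fun z => by
    induction z using TensorProduct.induction_on with
    | zero => simp
    | tmul l a => simp [F]
    | add x y hx hy => simp only [map_add, hx, hy]
  have hFF : ∀ γ z, F γ (F γ⁻¹ z) = z := fun γ z => by rw [hcomp, mul_inv_cancel, hone]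
  have hFF' : ∀ γ z, F γ⁻¹ (F γ z) = z := fun γ z => by rw [hcomp, inv_mul_cancel, hone]
  by_contra! hne
  -- products vanish
  have hzero : ∀ γ, ∀ x ∈ I, ∀ y ∈ J, y * F γ x = 0 := by
    intro γ x hx y hy
    by_contra hne0
    have hJle : J.comap (F γ) ≤ I := by
      have h1 : (J.comap (F γ)) ⊓ I ≠ ⊥ := by
        intro h
        have hm : F γ⁻¹ y * x ∈ (J.comap (F γ)) ⊓ I := by
          refine ⟨?_, I.mul_mem_left _ _ hx⟩
          change F γ⁻¹ y * x ∈ J.comap (F γ)
          rw [TwoSidedIdeal.mem_comap, map_mul, hFF]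
          exact J.mul_mem_right _ _ hy
        rw [h, TwoSidedIdeal.mem_bot] at hm
        apply hne0
        have := congrArg (F γ) hm
        rwa [map_mul, hFF, map_zero] at this
      have hInf : (J.comap (F γ)) ⊓ I = I := (hI.le_iff.1 inf_le_right).resolve_left h1
      have hIle : I ≤ J.comap (F γ) := inf_eq_right.1 hInf
      have h2 : I.comap (F γ⁻¹) ≤ J := fun z hz => by
        have := hIle ((TwoSidedIdeal.mem_comap _).1 hz)
        rwa [TwoSidedIdeal.mem_comap, hFF] at this
      have h3 : I.comap (F γ⁻¹) = J := (hJ.le_iff.1 h2).resolve_left fun h => hI.1 (eq_bot_iff.2 fun z hz => by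
        have hz' : F γ z ∈ I.comap (F γ⁻¹) := by rw [TwoSidedIdeal.mem_comap, hFF']; exact hz
        rw [h, TwoSidedIdeal.mem_bot] at hz'
        rw [TwoSidedIdeal.mem_bot, ← hFF' γ z, hz', map_zero])
      intro z hz
      rw [TwoSidedIdeal.mem_comap, ← h3, TwoSidedIdeal.mem_comap, hFF'] at hz
      exact hz
    apply hne γ
    ext z
    constructor
    · intro hz
      exact ⟨F γ⁻¹ z, hJle ((TwoSidedIdeal.mem_comap _).2 (by rw [hFF]; exact hz)), hFF γ z⟩
    · rintro ⟨w, hw, rfl⟩
      have h1 : (J.comap (F γ)) ≠ ⊥ := fun h => hJ.1 (eq_bot_iff.2 fun z hz => by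
        have hz' : F γ⁻¹ z ∈ J.comap (F γ) := by rw [TwoSidedIdeal.mem_comap, hFF]; exact hz
        rw [h, TwoSidedIdeal.mem_bot] at hz'
        rw [TwoSidedIdeal.mem_bot, ← hFF γ z, hz', map_zero])
      have heq : J.comap (F γ) = I := (hI.le_iff.1 hJle).resolve_left h1
      have hw' : w ∈ J.comap (F γ) := heq ▸ hw
      exact (TwoSidedIdeal.mem_comap _).1 hw'
  -- the stable ideal of elements all of whose conjugates annihilate `J` from the right
  let N : TwoSidedIdeal (L ⊗[K] A) := TwoSidedIdeal.mk'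
    {x | ∀ γ, ∀ y ∈ J, y * F γ x = 0}
    (fun γ y _ => by rw [map_zero, mul_zero])
    (fun hx hx' γ y hy => by rw [map_add, mul_add, hx γ y hy, hx' γ y hy, add_zero])
    (fun hx γ y hy => by rw [map_neg, mul_neg, hx γ y hy, neg_zero])
    (fun {r _} hx γ y hy => by rw [map_mul, ← mul_assoc]; exact hx γ _ (J.mul_mem_right _ _ hy))
    (fun {_ r} hx γ y hy => by rw [map_mul, ← mul_assoc, hx γ y hy, zero_mul])
  have memN : ∀ x, x ∈ N ↔ ∀ γ, ∀ y ∈ J, y * F γ x = 0 := fun x => TwoSidedIdeal.mem_mk' ..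
  have hstable : ∀ γ x, x ∈ N → F γ x ∈ N := fun γ x hx => (memN _).2 fun δ y hy => by
    rw [hcomp]; exact (memN _).1 hx _ y hy
  obtain ⟨x₀, hx₀, hx₀0⟩ : ∃ x ∈ I, x ≠ 0 := by
    by_contra! h
    exact hI.1 (eq_bot_iff.2 fun x hx => (TwoSidedIdeal.mem_bot _).2 (h x hx))
  have hx₀N : x₀ ∈ N := (memN _).2 fun γ y hy => hzero γ x₀ hx₀ y hy
  let b := Module.Basis.ofVectorSpace K A
  let B := b.baseChange L
  have hB : ∀ γ z i, B.repr (F γ z) i = γ (B.repr z i) := by
    intro γ z i
    induction z using TensorProduct.induction_on with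
    | zero => simp
    | tmul l a => simp [B, F, Module.Basis.baseChange_repr_tmul, map_smul]
    | add x y hx hy => simp only [map_add, Finsupp.add_apply, hx, hy]
  let P : ℕ → Prop := fun m => ∃ z ∈ N, z ≠ 0 ∧ (B.repr z).support.card = m
  have hP : ∃ m, P m := ⟨_, x₀, hx₀N, hx₀0, rfl⟩
  obtain ⟨z, hzN, hz0, hzc⟩ := Nat.find_spec hP
  obtain ⟨i, hi⟩ : ∃ i, B.repr z i ≠ 0 := by
    by_contra! h
    exact hz0 (B.repr.map_eq_zero_iff.1 (Finsupp.ext h))
  set w := ((B.repr z i)⁻¹) • z with hw
  have hwN : w ∈ N := by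
    rw [hw, Algebra.smul_def]; exact N.mul_mem_left _ _ hzN
  have hwi : B.repr w i = 1 := by
    rw [hw, map_smul, Finsupp.smul_apply, smul_eq_mul, inv_mul_cancel₀ hi]
  have hfix : ∀ (γ : L ≃ₐ[K] L) j, γ (B.repr w j) = B.repr w j := by
    intro γ j
    by_contra hj
    have hd : F γ w - w ∈ N := N.sub_mem (hstable γ w hwN) hwN
    have hd0 : F γ w - w ≠ 0 := fun h => hj (by
      have := congrArg (fun x => B.repr x j) h
      simpa [hB, sub_eq_zero] using this)
    refine Nat.find_min hP ?_ ⟨_, hd, hd0, rfl⟩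
    rw [← hzc]
    refine Finset.card_lt_card ((Finset.ssubset_iff_of_subset ?_).2 ⟨i, Finsupp.mem_support_iff.2 hi, ?_⟩)
    · intro l hl
      rw [Finsupp.mem_support_iff] at hl ⊢
      intro h
      apply hl
      simp [hB, hw, h]
    · rw [Finsupp.notMem_support_iff, map_sub, Finsupp.sub_apply, hB, hwi, map_one, sub_self]
  obtain ⟨a, ha⟩ : ∃ a : A, (1 : L) ⊗ₜ[K] a = w := by
    have hK : ∀ j, ∃ c : K, algebraMap K L c = B.repr w j := fun j =>
      IntermediateField.mem_bot.1 ((InfiniteGalois.mem_bot_iff_fixed _).2 fun γ => hfix γ j)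
    choose c hc using hK
    refine ⟨∑ j ∈ (B.repr w).support, c j • b j, ?_⟩
    conv_rhs => rw [← B.linearCombination_repr w]
    rw [Finsupp.linearCombination_apply, Finsupp.sum, TensorProduct.tmul_sum]
    refine Finset.sum_congr rfl fun j _ => ?_
    rw [Module.Basis.baseChange_apply, TensorProduct.tmul_smul, ← hc j, algebraMap_smul]
  let T : TwoSidedIdeal A := N.comap (Algebra.TensorProduct.includeRight (R := K) (A := L) (B := A))
  have hT : T = ⊤ := (eq_bot_or_eq_top T).resolve_left fun h => by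
    have haT : a ∈ T := by
      change a ∈ N.comap _
      rw [TwoSidedIdeal.mem_comap, Algebra.TensorProduct.includeRight_apply, ha]; exact hwN
    rw [h, TwoSidedIdeal.mem_bot] at haT
    subst haT
    rw [TensorProduct.tmul_zero] at ha
    rw [← ha, map_zero, Finsupp.zero_apply] at hwi
    exact zero_ne_one hwi
  have h1 : (1 : L ⊗[K] A) ∈ N := by
    have : (1 : A) ∈ T := hT ▸ trivial
    simpa [T, TwoSidedIdeal.mem_comap, Algebra.TensorProduct.one_def] using this
  refine hJ.1 (eq_bot_iff.2 fun y hy => (TwoSidedIdeal.mem_bot _).2 ?_)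
  simpa using (memN _).1 h1 1 y hy
end Groth.Agent.S14846
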