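import Groth.Statements.S14847
import Groth.Agent.HopfLib.IntegralTrace
import Groth.Agent.HopfLib.ComodSubcoalg

set_option autoImplicit false
universe u v
open HopfRep

namespace Groth.Agent.S14847

open TensorProduct in
/-- When K is a field of characteristic zero and G = Spec A is a finite group scheme over K, the
coordinate Hopf algebra A is cosemisimple, i.e. A is the internal direct sum of simple
subcoalgebras. Here a subcoalgebra of A is a subspace B whose comultiplication lands in the image of
B ⊗ B, and a simple subcoalgebra is a nonzero subcoalgebra D whose only subcoalgebras contained in D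
are 0 and D. -/
theorem result {K : Type u} {A : Type v} [Field K] [CharZero K]
    [CommRing A] [HopfAlgebra K A] [Module.Finite K A] :
    ∃ (ι : Type v) (D : ι → Submodule K A), iSupIndep D ∧ iSup D = ⊤ ∧ ∀ i,
        D i ≠ ⊥ ∧ (∀ b ∈ (D i), CoalgebraStruct.comul (R := K) b ∈ LinearMap.range (TensorProduct.map (D i).subtype (D i).subtype)) ∧
        ∀ B : Submodule K A, B ≤ D i → (∀ b ∈ B, CoalgebraStruct.comul (R := K) b ∈ LinearMap.range (TensorProduct.map B.subtype B.subtype)) → B = ⊥ ∨ B = D i := by
  have hA : Nontrivial A := by
    refine ⟨1, 0, fun h => ?_⟩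
    simpa [h] using (Bialgebra.counit_one (R := K) (A := A)).symm
  have hpos : (Module.finrank K A : K) ≠ 0 := Nat.cast_ne_zero.2 Module.finrank_pos.ne'
  let α : A →ₗ[K] K := (Module.finrank K A : K)⁻¹ • Algebra.trace K A
  have hα : Groth.Agent.HopfLib.IsIntegral α := fun a => by
    have h := Groth.Agent.HopfLib.isIntegral_trace (k := K) a
    have e : ∀ t : A ⊗[K] A, Groth.Agent.HopfLib.sliceL α t =
        (Module.finrank K A : K)⁻¹ • Groth.Agent.HopfLib.sliceL (Algebra.trace K A) t := by
      intro t
      induction t using TensorProduct.induction_on with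
      | zero => simp
      | add p q hp hq => simp only [map_add, smul_add, hp, hq]
      | tmul x y => simp [α, mul_smul]
    rw [e, h]
    simp [α, mul_smul]
  have h1 : α 1 = 1 := by
    have := Algebra.trace_algebraMap (R := K) (S := A) 1
    rw [map_one] at this
    simp [α, this, hpos]
  exact ⟨{D : Submodule K A // Groth.Agent.HopfLib.IsSimpleSubcoalg K D}, fun D => D.1,
    Groth.Agent.HopfLib.iSupIndep_simpleSubcoalg,
    Groth.Agent.HopfLib.iSup_simpleSubcoalg_eq_top
      (Groth.Agent.HopfLib.isSemisimpleComod_of_integral hα h1), fun D => D.2⟩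

end Groth.Agent.S14847
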