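import Groth.Statements.S14848
import Mathlib

set_option linter.all false

set_option autoImplicit false
universe u v
open McKay

open TensorProduct

namespace Groth.Agent.S14848

/-- Let K be a field of characteristic zero, L an extension field of K and ξ ∈ L a primitive n-th root
of unity (n ≥ 1) with ξ + ξ⁻¹ ∈ K, say ξ + ξ⁻¹ = 2c with c ∈ K (the character of the natural
two-dimensional representation of the cyclic group of order n takes values in K). Then the cyclic
group of order n is realisable over K as a subgroup of SL(2, K): there is an element of SL(2, K) of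
order n. -/
theorem result {K : Type u} {L : Type v} [Field K] [Field L]
    [CharZero K] [Algebra K L] (n : ℕ) (hn : 1 ≤ n) (ξ : L) (hξ : IsPrimitiveRoot ξ n) (c : K)
    (hc : algebraMap K L (2 * c) = ξ + ξ⁻¹) :
    ∃ M : Matrix.SpecialLinearGroup (Fin 2) K, orderOf M = n := by
  classical
  have : CharZero L := charZero_of_injective_algebraMap (algebraMap K L).injective
  rcases eq_or_lt_of_le hn with rfl | h1
  · exact ⟨1, orderOf_one⟩
  rcases eq_or_lt_of_le (show 2 ≤ n by omega) with rfl | h2
  · let M2 : Matrix.SpecialLinearGroup (Fin 2) K := ⟨!![-1, 0; 0, -1], by simp [Matrix.det_fin_two]⟩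
    have hM2 : (M2 : Matrix (Fin 2) (Fin 2) K) = !![-1, 0; 0, -1] := rfl
    refine ⟨M2, orderOf_eq_prime ?_ ?_⟩
    · refine Matrix.SpecialLinearGroup.ext _ _ fun i j => ?_
      rw [Matrix.SpecialLinearGroup.coe_pow, Matrix.SpecialLinearGroup.coe_one, hM2]
      fin_cases i <;> fin_cases j <;> simp [pow_two, Matrix.mul_apply, Fin.sum_univ_two]
    · intro h
      have := congrArg (fun S : Matrix.SpecialLinearGroup (Fin 2) K => (S : Matrix (Fin 2) (Fin 2) K) 0 0) h
      simp only [hM2, Matrix.SpecialLinearGroup.coe_one] at this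
      norm_num at this
  have hξ0 : ξ ≠ 0 := hξ.ne_zero (by omega)
  have hne : ξ - ξ⁻¹ ≠ 0 := by
    intro h
    have h' : ξ ^ 2 = 1 := by rw [pow_two]; nth_rewrite 2 [sub_eq_zero.1 h]; exact mul_inv_cancel₀ hξ0
    have := Nat.le_of_dvd (by omega) (hξ.dvd_of_pow_eq_one 2 h')
    omega
  let M3 : Matrix.SpecialLinearGroup (Fin 2) K := ⟨!![0, -1; 1, 2 * c], by simp [Matrix.det_fin_two]⟩
  have hM3 : (M3 : Matrix (Fin 2) (Fin 2) K) = !![0, -1; 1, 2 * c] := rfl
  refine ⟨M3, ?_⟩
  set A : Matrix (Fin 2) (Fin 2) L := (!![0, -1; 1, 2 * c] : Matrix (Fin 2) (Fin 2) K).map (algebraMap K L) with hA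
  let V : Matrix (Fin 2) (Fin 2) L := !![1, 1; -ξ, -ξ⁻¹]
  let D : Matrix (Fin 2) (Fin 2) L := Matrix.diagonal ![ξ, ξ⁻¹]
  have hV : IsUnit V.det := by
    rw [isUnit_iff_ne_zero, Matrix.det_fin_two]
    simpa [V, sub_eq_add_neg, add_comm] using hne
  have hc' : (2 : L) * algebraMap K L c = ξ + ξ⁻¹ := by rw [← hc, map_mul, map_ofNat]
  have hs : SemiconjBy V D A := by
    show V * D = A * V
    ext i j
    fin_cases i <;> fin_cases j <;>
      simp [hA, V, D, Matrix.mul_apply, Fin.sum_univ_two, hc', mul_neg, map_ofNat] <;> field_simp <;> ring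
  have key : ∀ m : ℕ, M3 ^ m = 1 ↔ ξ ^ m = 1 := by
    intro m
    have h1 : A ^ m = 1 ↔ D ^ m = 1 := by
      have h := hs.pow_right m
      have h' : V * D ^ m = A ^ m * V := h
      constructor
      · intro e
        rw [e, one_mul] at h'
        have := congrArg (V⁻¹ * ·) h'
        simpa [← mul_assoc, Matrix.nonsing_inv_mul V hV] using this
      · intro e
        rw [e, mul_one] at h'
        have := congrArg (· * V⁻¹) h'
        simpa [mul_assoc, Matrix.mul_nonsing_inv V hV] using this.symm
    have h2 : D ^ m = 1 ↔ ξ ^ m = 1 := by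
      rw [Matrix.diagonal_pow]
      constructor
      · intro e
        simpa using congrFun (congrFun e 0) 0
      · intro e
        rw [← Matrix.diagonal_one]
        congr 1
        ext i
        fin_cases i <;> simp [inv_pow, e]
    rw [← h2, ← h1, hA, ← Matrix.map_pow, ← hM3, ← Matrix.SpecialLinearGroup.coe_pow]
    constructor
    · intro e; rw [e]; simp
    · intro e
      refine Matrix.SpecialLinearGroup.ext _ _ fun i j => (algebraMap K L).injective ?_
      have := congrFun (congrFun e i) j
      rw [Matrix.map_apply] at this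
      rw [this, Matrix.SpecialLinearGroup.coe_one]
      rw [Matrix.one_apply, Matrix.one_apply]
      split_ifs <;> simp
  rw [orderOf_eq_iff (by omega)]
  exact ⟨(key n).2 hξ.pow_eq_one, fun m hm hm0 => fun h =>
    (hξ.pow_ne_one_of_pos_of_lt hm0.ne' hm) ((key m).1 h)⟩

end Groth.Agent.S14848
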