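import Groth.Statements.S14849
import Mathlib.Tactic
import Mathlib.GroupTheory.SpecificGroups.Quaternion
import Mathlib.RingTheory.RootsOfUnity.Basic

set_option autoImplicit false
universe u v
open McKay

namespace Groth.Agent.S14849

open Matrix in
theorem exists_hom_of_rel {G : Type*} [Group G] (n : ℕ) (hn : n ≠ 0) (A B : G) (ho : orderOf A = 2 * n)
    (hBB : B * B = A ^ n) (hAB : A * B = B * A⁻¹) (hB : ∀ m : ℕ, B ≠ A ^ m) :
    ∃ f : QuaternionGroup n →* G, Function.Injective f := by
  have : NeZero (2 * n) := ⟨by omega⟩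
  let α : ZMod (2 * n) → G := fun i => A ^ i.val
  have hadd : ∀ i j, α (i + j) = α i * α j := fun i j => by
    simp only [α, ← pow_add, ZMod.val_add]
    conv_rhs => rw [← pow_mod_orderOf, ho]
  have h0 : α 0 = 1 := by simp [α]
  have hneg : ∀ i, α (-i) = (α i)⁻¹ := fun i => eq_inv_of_mul_eq_one_left (by rw [← hadd, neg_add_cancel, h0])
  have hαn : α n = A ^ n := by simp only [α]; rw [ZMod.val_natCast, Nat.mod_eq_of_lt (by omega)]
  have hcomm : ∀ i, α i * B = B * α (-i) := fun i => by
    rw [hneg]
    simp only [α, ← inv_pow]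
    exact ((show SemiconjBy B A⁻¹ A from hAB.symm).pow_right i.val).symm
  let F : QuaternionGroup n → G := fun q => match q with
    | .a i => α i
    | .xa i => B * α i
  refine ⟨MonoidHom.mk' F ?_, ?_⟩
  · rintro (i | i) (j | j)
    · exact hadd i j
    · change B * α (j - i) = α i * (B * α j)
      rw [← mul_assoc, hcomm, mul_assoc, ← hadd, neg_add_eq_sub]
    · change B * α (i + j) = B * α i * α j
      rw [mul_assoc, ← hadd]
    · change α (n + j - i) = B * α i * (B * α j)
      rw [mul_assoc B, ← mul_assoc (α i), hcomm, mul_assoc B, ← mul_assoc B B, hBB, ← hαn, ← hadd, ← hadd]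
      congr 1; ring
  · have hinj : Function.Injective α := fun i j h =>
      ZMod.val_injective _ (pow_injOn_Iio_orderOf (by simpa [ho] using i.val_lt) (by simpa [ho] using j.val_lt) h)
    rintro (i | i) (j | j) h
    · exact congrArg QuaternionGroup.a (hinj h)
    · exact absurd (show B = α (i - j) by
        rw [sub_eq_add_neg, hadd, hneg, (show α i = B * α j from h), mul_inv_cancel_right]) (hB _)
    · exact absurd (show B = α (j - i) by
        rw [sub_eq_add_neg, hadd, hneg, ← (show B * α i = α j from h), mul_inv_cancel_right]) (hB _)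
    · exact congrArg QuaternionGroup.xa (hinj (mul_left_cancel (show B * α i = B * α j from h)))


/-- Let K be a field of characteristic zero, L an extension field of K, n ≥ 2, and ξ ∈ L a primitive
2n-th root of unity with ξ + ξ⁻¹ = 2c for some c ∈ K. If the Hilbert symbol of -1 and c² - 1 over K
equals 1, i.e. x² - (c² - 1) y² = -1 has a solution in K, then the binary dihedral group of order 4n
(generators σ, τ with τ² = σⁿ = (τσ)²) is isomorphic to a subgroup of SL(2, K). (The published
statement is an equivalence; this row is the direction realising the group from a solution of the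
conic.) -/
theorem result {K : Type u} {L : Type v}
    [Field K] [Field L] [CharZero K] [Algebra K L] (n : ℕ) (hn : 2 ≤ n) (ξ : L)
    (hξ : IsPrimitiveRoot ξ (2 * n)) (c : K) (hc : algebraMap K L (2 * c) = ξ + ξ⁻¹)
    (hsol : ∃ x y : K, x ^ 2 - (c ^ 2 - 1) * y ^ 2 = -1) :
    ∃ f : QuaternionGroup n →* Matrix.SpecialLinearGroup (Fin 2) K, Function.Injective f := by
  obtain ⟨x, y, hxy⟩ := hsol
  let A : Matrix.SpecialLinearGroup (Fin 2) K := ⟨!![0, -1; 1, 2 * c], by simp [Matrix.det_fin_two]⟩
  let B : Matrix.SpecialLinearGroup (Fin 2) K :=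
    ⟨!![x + c * y, y; y - 2 * c * (x + c * y), -(x + c * y)], by
      simp [Matrix.det_fin_two]; linear_combination (-1 : K) * hxy⟩
  have hξ0 : ξ ≠ 0 := hξ.ne_zero (by omega)
  have hne : ξ ≠ ξ⁻¹ := fun h => by
    have h2 : ξ ^ 2 = 1 := by
      conv_lhs => rw [pow_two]
      nth_rewrite 2 [h]
      exact mul_inv_cancel₀ hξ0
    have := Nat.le_of_dvd (by norm_num) (hξ.dvd_of_pow_eq_one 2 h2)
    omega
  let φ := (algebraMap K L).mapMatrix (m := Fin 2)
  let P : Matrix (Fin 2) (Fin 2) L := !![1, 1; -ξ, -ξ⁻¹]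
  let D : Matrix (Fin 2) (Fin 2) L := Matrix.diagonal ![ξ, ξ⁻¹]
  have hP : IsUnit P := by
    rw [Matrix.isUnit_iff_isUnit_det, isUnit_iff_ne_zero]
    simp only [P, Matrix.det_fin_two_of]
    intro h
    exact hne (by linear_combination h)
  have hc' : algebraMap K L 2 * algebraMap K L c = ξ + ξ⁻¹ := by rw [← map_mul]; exact hc
  have hsc : SemiconjBy P D (φ A.1) := by
    ext i j
    fin_cases i <;> fin_cases j <;> simp [P, D, φ, A, Matrix.mul_apply] <;>
      (field_simp at hc' ⊢; grind)
  have hpow : ∀ m : ℕ, P * D ^ m = φ (A ^ m).1 * P := fun m => by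
    rw [Matrix.SpecialLinearGroup.coe_pow, map_pow]; exact hsc.pow_right m
  have hAn : (A ^ n).1 = -1 := by
    have h : ξ ^ n = -1 := (hξ.pow (a := n) (b := 2) (by omega) (mul_comm 2 n)).eq_neg_one_of_two_right
    have hD : D ^ n = -1 := by
      rw [Matrix.diagonal_pow, ← Matrix.diagonal_one, Matrix.diagonal_neg]
      congr 1; ext i; fin_cases i <;> simp [inv_pow, h]
    refine Matrix.map_injective (algebraMap K L).injective ?_
    refine hP.mul_left_injective ?_
    change φ (A ^ n).1 * P = φ (-1) * P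
    rw [← hpow n, hD, map_neg, map_one, mul_neg, neg_mul, mul_one, one_mul]
  have hA1 : A ^ (2 * n) = 1 := Subtype.ext (by
    rw [mul_comm, pow_mul, Matrix.SpecialLinearGroup.coe_pow, hAn, neg_one_sq, Matrix.SpecialLinearGroup.coe_one])
  have ho : orderOf A = 2 * n := by
    refine (orderOf_eq_iff (by omega)).mpr ⟨hA1, fun m hm hm0 h => ?_⟩
    have h' := hpow m
    rw [h, Matrix.SpecialLinearGroup.coe_one, map_one, one_mul] at h'
    have hD : D ^ m = 1 := hP.mul_left_cancel (by rw [h', mul_one])
    rw [Matrix.diagonal_pow] at hD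
    have := congrFun (congrFun hD 0) 0
    simp at this
    exact hξ.pow_ne_one_of_pos_of_lt hm0.ne' hm this
  have hAB : A * B = B * A⁻¹ := Subtype.ext (by
    rw [Matrix.SpecialLinearGroup.coe_mul, Matrix.SpecialLinearGroup.coe_mul, Matrix.SpecialLinearGroup.coe_inv]
    ext i j
    fin_cases i <;> fin_cases j <;> simp [A, B, Matrix.mul_apply, Matrix.adjugate_fin_two] <;> ring)
  have hBB : B * B = A ^ n := Subtype.ext (by
    rw [hAn, Matrix.SpecialLinearGroup.coe_mul]
    ext i j
    fin_cases i <;> fin_cases j <;> simp [B, Matrix.mul_apply] <;> grind)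
  refine exists_hom_of_rel n (by omega) A B ho hBB hAB fun m hm => ?_
  rw [hm, ← pow_succ'] at hAB
  have h2 : A ^ (m + 1) = A ^ m * A⁻¹ := hAB
  have h3 : A ^ 2 = 1 := by
    rw [pow_succ, mul_left_cancel_iff] at h2
    rw [pow_two]
    nth_rewrite 1 [h2]
    exact inv_mul_cancel A
  have := Nat.le_of_dvd (by norm_num) (ho ▸ orderOf_dvd_of_pow_eq_one h3)
  omega

end Groth.Agent.S14849
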