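import Groth.Statements.S1485
import Groth.Agent.FlatMorH1.Apps

set_option autoImplicit false
universe u
open FlatMor

namespace Groth.Agent.S1485

open AlgebraicGeometry CategoryTheory Limits in
/-- Let f : X → Y be proper and y a point with fibre of dimension ≤ 1. Suppose there is a morphism g :
Y' → Y whose image contains y such that, for the base change f' : X' → Y', H^1 of the structure
sheaf vanishes over the preimage of every affine open of Y' (that is, R^1 f'_* O = 0; taking g the
identity covers the case R^1 f_* O_X = 0). Then H^1(X_y, O_{X_y}) = 0. -/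
theorem result {X Y Y' : Scheme.{u}} (f : X ⟶ Y) [IsProper f] (y : Y) (hdim : topologicalKrullDim ↑(f.fiber y) ≤ 1)
    (g : Y' ⟶ Y) (hy : y ∈ Set.range ⇑g)
    (hR1 : ∀ U : Y'.Opens, IsAffineOpen U → Subsingleton (Coh.HHon (pullback f g) (Coh.structureModule (pullback f g)) (pullback.snd f g ⁻¹ᵁ U) 1)) :
    Subsingleton (Coh.HH (f.fiber y) (Coh.structureModule (f.fiber y)) 1) := by
  obtain ⟨y', rfl⟩ := hy
  exact FlatMorH1.noH1_fiber_of_baseChange f g y' (by exact_mod_cast hdim)
    fun U hU => FlatMorH1.noH1_of_HHon _ (hR1 U hU)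

end Groth.Agent.S1485
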