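import Groth.Statements.S14850
import Groth.Agent.HopfLib.ComodSubcoalg

set_option autoImplicit false
universe u v
open HopfRep

namespace Groth.Agent.S14850

open scoped Groth.Agent.HopfLib

open TensorProduct in
/-- Over a field K, a nonzero coalgebra C is simple if and only if C is isotypic as a right comodule
over itself, i.e. C is the internal direct sum of the images of a family of injective comodule maps
from one simple right C-comodule E. Here a subcoalgebra of C is a subspace B whose comultiplication
lands in the image of B ⊗ B, and C is simple when its only subcoalgebras are 0 and C. (Stated for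
the right regular comodule; the published statement allows left or right.) -/
theorem result {K : Type u} {C : Type v} [Field K] [AddCommGroup C]
    [Module K C] [Coalgebra K C] [Nontrivial C] :
    (∀ B : Submodule K C, (∀ b ∈ B, CoalgebraStruct.comul (R := K) b ∈ LinearMap.range (TensorProduct.map B.subtype B.subtype)) → B = ⊥ ∨ B = ⊤) ↔
    ∃ (E : Type v) (_ : AddCommGroup E) (_ : Module K E) (_ : HopfRep.Comod K C E),
      HopfRep.IsSimpleComod K C E ∧
      ∃ (ι : Type v) (f : ι → (E →ₗ[K] C)),
        (∀ i, Hoch.IsComodHom C (f i) ∧ Function.Injective (f i)) ∧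
        iSupIndep (fun i => LinearMap.range (f i)) ∧ (⨆ i, LinearMap.range (f i)) = ⊤ := by
  constructor
  · intro h
    have hs : Groth.Agent.HopfLib.IsSimpleSubcoalg K (⊤ : Submodule K C) := by
      refine ⟨top_ne_bot, fun b _ => ?_, fun B _ hB => h B hB⟩
      rw [Groth.Agent.HopfLib.mem_range_map_subtype_iff]
      exact ⟨fun _ => trivial, fun _ => trivial⟩
    obtain ⟨E, hE, -, hco⟩ := hs.exists_coeffSpace_eq
    let cE := ComodSub.Comod.restr (HopfRep.Comod.regular K C) E hE.1
    have hEs : HopfRep.IsSimpleComod K C E := Groth.Agent.HopfLib.isSimpleComod_restr hE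
    refine ⟨E, inferInstance, inferInstance, cE, hEs, ?_⟩
    have := Groth.Agent.HopfLib.isSimpleComod_iff.1 hEs
    have := Groth.Agent.HopfLib.isSemisimpleComod_iff.1
      (Groth.Agent.HopfLib.isSemisimpleComod_regular_of_iSup_simpleSubcoalg
        (fun _ : Unit => (⊤ : Submodule K C)) (fun _ => hs) iSup_const)
    have htop : isotypicComponent (Groth.Agent.HopfLib.FormAlg K C) C E = ⊤ := by
      rw [← Submodule.restrictScalars_eq_top_iff K, ← Groth.Agent.HopfLib.homRange_eq_isotypic hEs,
        eq_top_iff, ← hco]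
      exact iSup_le fun f => le_iSup_of_le ⟨_, Groth.Agent.HopfLib.isComodHom_cf f⟩ le_rfl
    have hiso := IsIsotypicOfType.of_isotypicComponent_eq_top htop
    obtain ⟨s, hind, hsup, hsimp⟩ :=
      IsSemisimpleModule.exists_sSupIndep_sSup_simples_eq_top (Groth.Agent.HopfLib.FormAlg K C) C
    let e := fun N : s => (@hiso N.1 (hsimp N.1 N.2)).some
    refine ⟨s, fun N => (N.1.subtype ∘ₗ (e N).symm.toLinearMap).restrictScalars K,
      fun N => ⟨Groth.Agent.HopfLib.isComodHom_restrictScalars _,
        N.1.injective_subtype.comp (e N).symm.injective⟩, ?_, ?_⟩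
    all_goals
      have hr : ∀ N : s, LinearMap.range ((N.1.subtype ∘ₗ (e N).symm.toLinearMap).restrictScalars K) =
          N.1.restrictScalars K := by
        intro N
        refine le_antisymm (fun x ⟨y, hy⟩ => hy ▸ ((e N).symm y).2) fun x hx => ?_
        exact ⟨e N ⟨x, hx⟩, by simp⟩
      simp only [hr]
    · intro N
      rw [Submodule.disjoint_def]
      intro x h1 h2
      refine Submodule.disjoint_def.1 (hind N.2) x h1 ?_
      refine (iSup₂_le fun N' hN' => ?_ : _ ≤ (sSup (s \ {N.1})).restrictScalars K) h2
      exact fun y hy => le_sSup (show N'.1 ∈ s \ {N.1} from ⟨N'.2, fun h => hN' (Subtype.ext h)⟩) hy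
    · rw [← Submodule.restrictScalars_iSup, ← sSup_eq_iSup', hsup, Submodule.restrictScalars_top]
  · rintro ⟨E, _, _, _, hE, ι, f, hf, -, htop⟩ B hB
    refine or_iff_not_imp_left.2 fun h0 => eq_top_iff.2 ?_
    obtain ⟨T, hTB, hT⟩ :=
      Groth.Agent.HopfLib.exists_isSimpleSub_le (Groth.Agent.HopfLib.IsSubcoalg.isSubcomod hB) h0
    let cT := ComodSub.Comod.restr (HopfRep.Comod.regular K C) T hT.1
    have hTi := ComodSub.isComodHom_subtype (HopfRep.Comod.regular K C) T hT.1
    obtain ⟨i, e, he⟩ := Groth.Agent.HopfLib.exists_comodEquiv_of_le_iSup (k := K) (A := C) (V := C)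
      (S := T) (fun _ : ι => E) (fun _ => hE) f (fun i => (hf i).1)
      (Groth.Agent.HopfLib.isSimpleComod_restr hT) hTi
      (fun h => hT.2.1 ((Submodule.eq_bot_iff _).2 fun x hx =>
        LinearMap.congr_fun h (⟨x, hx⟩ : T)))
      (by rw [htop]; exact le_top)
    rw [← htop]
    refine iSup_le fun j => (Groth.Agent.HopfLib.range_le_coeffSpace (hf j).1).trans ?_
    refine Groth.Agent.HopfLib.coeffSpace_le_of_range_le hB
      (Groth.Agent.HopfLib.IsComodHom.comp hTi (Groth.Agent.HopfLib.IsComodHom.symm he))
      (T.injective_subtype.comp e.symm.injective) ?_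
    rintro _ ⟨x, rfl⟩
    exact hTB (e.symm x).2

end Groth.Agent.S14850
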