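import Groth.Statements.S14851
import Groth.Agent.HopfLib.ComodIsotypic

set_option autoImplicit false
universe u v w w'
open HopfRep

namespace Groth.Agent.S14851

open TensorProduct in
/-- The map E ↦ C(E) from isomorphism classes of simple comodules to simple subcoalgebras is injective,
that is: over a field K, two simple right comodules E, E' over a coalgebra C with the same
coefficient space D (the least subspace D' of C such that the coaction lands in E ⊗ D', resp. E' ⊗
D') are isomorphic as comodules. (The published statement is made for a cosemisimple coalgebra and
for left comodules; the printed argument for this part uses neither restriction.) -/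
theorem result {K : Type u} {C : Type v} [Field K]
    [AddCommGroup C] [Module K C] [Coalgebra K C]
    {E : Type w} [AddCommGroup E] [Module K E] [HopfRep.Comod K C E]
    {E' : Type w'} [AddCommGroup E'] [Module K E'] [HopfRep.Comod K C E']
    (hE : HopfRep.IsSimpleComod K C E) (hE' : HopfRep.IsSimpleComod K C E') (D : Submodule K C)
    (hD : IsLeast {D' : Submodule K C |
      ∀ e : E, HopfRep.Comod.coact (k := K) (A := C) e ∈ LinearMap.range (LinearMap.lTensor E D'.subtype)} D)
    (hD' : IsLeast {D' : Submodule K C |
      ∀ e : E', HopfRep.Comod.coact (k := K) (A := C) e ∈ LinearMap.range (LinearMap.lTensor E' D'.subtype)} D) :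
    ∃ e : E ≃ₗ[K] E', Hoch.IsComodHom C e.toLinearMap := by
  have h1 := hD.unique Groth.Agent.HopfLib.isLeast_coeffSpace
  have h2 := hD'.unique Groth.Agent.HopfLib.isLeast_coeffSpace
  exact Groth.Agent.HopfLib.exists_comodEquiv_of_coeffSpace_eq hE hE' (h1.symm.trans h2).le

end Groth.Agent.S14851
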