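import Groth.Statements.S14857
import Groth.Agent.CommAlg4.FiniteAlgClosed
import Groth.Agent.S15706
import Mathlib.Algebra.Azumaya.Basic
import Mathlib.Algebra.DualNumber
import Mathlib.Algebra.Module.StablyFree.Basic
import Mathlib.NumberTheory.Padics.PadicIntegers
import Mathlib.RingTheory.Etale.StandardEtale
import Mathlib.RingTheory.WittVector.Domain
import Mathlib.RingTheory.WittVector.Teichmuller
import Mathlib.Tactic
import Groth.Agent.CommAlg4.FiniteAlgClosed
import Groth.Agent.S15706

set_option linter.all false

set_option autoImplicit false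
open CAlg

open Groth.Agent.CommAlg4

namespace Groth.Agent.S14857

/-- For a prime p, the Teichmüller representative [p^p] of the element p^p of the p-adic integers is
divisible by p in the ring of p-typical Witt vectors W(ℤ_p). -/
theorem result (p : ℕ) [Fact p.Prime] :
    (p : WittVector p ℤ_[p]) ∣ WittVector.teichmuller p ((p : ℤ_[p]) ^ p) := by
  set W := WittVector p ℤ_[p]
  have h0 : ∀ i < 1, (WittVector.teichmuller p (p : ℤ_[p]) - (p : W)).coeff i = 0 := by
    intro i hi
    obtain rfl : i = 0 := by omega
    show WittVector.constantCoeff (WittVector.teichmuller p (p : ℤ_[p]) - (p : W)) = 0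
    rw [map_sub, map_natCast WittVector.constantCoeff, sub_eq_zero]; exact WittVector.teichmuller_coeff_zero p (p : ℤ_[p])
  have hy := WittVector.eq_iterate_verschiebung h0
  simp only [Function.iterate_one] at hy
  set y := (WittVector.teichmuller p (p : ℤ_[p]) - (p : W)).shift 1
  have hsq : (p : W) ∣ WittVector.verschiebung y * WittVector.verschiebung y := by
    rw [← WittVector.verschiebung_mul_frobenius, WittVector.frobenius_verschiebung]
    refine ⟨WittVector.verschiebung (y * y), ?_⟩
    rw [← mul_assoc, mul_comm (y * y) (p : W), ← nsmul_eq_mul, map_nsmul, nsmul_eq_mul]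
  rw [map_pow]
  have e : WittVector.teichmuller p (p : ℤ_[p]) = WittVector.verschiebung y + (p : W) := by rw [← hy]; ring
  have h2 : (p : W) ∣ WittVector.verschiebung y ^ p := by
    obtain ⟨r, hr⟩ := Nat.exists_eq_add_of_le (Fact.out : p.Prime).two_le
    have hpow : WittVector.verschiebung y ^ p = WittVector.verschiebung y * WittVector.verschiebung y * WittVector.verschiebung y ^ r := by
      conv_lhs => arg 2; rw [hr]
      rw [pow_add, pow_two]
    rw [hpow]; exact hsq.mul_right _
  have h3 : (p : W) ∣ (WittVector.verschiebung y + (p : W)) ^ p - WittVector.verschiebung y ^ p :=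
    (dvd_of_eq (add_sub_cancel_left (WittVector.verschiebung y) (p : W)).symm).trans (sub_dvd_pow_sub_pow _ _ p)
  rw [e]
  simpa using dvd_add h3 h2

end Groth.Agent.S14857
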