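import Groth.Statements.S14858
import Groth.Agent.DispLib.Basic
import Groth.Agent.DispLib.LiftIdem

set_option autoImplicit false
universe u v
open Disp

namespace Groth.Agent.S14858

/-- Let p be a prime and R a commutative ring which is complete and separated for the p-adic topology;
write W = W(R) for the p-typical Witt vectors and I for the ideal of W generated by the image of the
Verschiebung. Let P be a finitely generated projective W-module and Q a submodule of P which admits
a complement modulo I·P, that is a submodule C with Q + C = P and Q ∩ C = I·P (equivalently I·P ⊆ Q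
and the graded pieces P/Q and Q/I·P of the filtration I·P ⊆ Q ⊆ P are finitely generated projective
R-modules). Then there is a direct sum decomposition P = L ⊕ T by submodules with Q = L + I·T, so
that together with any Frobenius-semilinear operators F and V⁻¹ satisfying the remaining axioms the
pair (P, Q) underlies a 3n-display. -/
theorem result (p : ℕ) [Fact p.Prime] (R : Type u) [CommRing R]
    [IsAdicComplete (Ideal.span {(p : R)}) R]
    (P : Type v) [AddCommGroup P] [Module (WittVector p R) P]
    [Module.Finite (WittVector p R) P] [Module.Projective (WittVector p R) P]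
    (Q : Submodule (WittVector p R) P)
    (hQ : ∃ C : Submodule (WittVector p R) P,
      Q ⊔ C = ⊤ ∧ Q ⊓ C = W4c1extbt610.IV p R • (⊤ : Submodule (WittVector p R) P)) :
    ∃ L T : Submodule (WittVector p R) P, IsCompl L T ∧ Q = L ⊔ W4c1extbt610.IV p R • T := by
  obtain ⟨C, hsup, hinf⟩ := hQ
  haveI : IsAdicComplete (W4c1extbt610.IV p R) (WittVector p R) := by
    rw [DispLib.IV_eq_ker]; exact CommAlg4.WittTop.isAdicComplete_augIdeal
  set K := W4c1extbt610.IV p R • (⊤ : Submodule (WittVector p R) P) with hK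
  have hKQ : K ≤ Q := hinf ▸ inf_le_left
  have hc : IsCompl (Q.map K.mkQ) (C.map K.mkQ) := by
    refine ⟨?_, ?_⟩
    · rw [Submodule.disjoint_def]
      rintro _ ⟨a, ha, rfl⟩ ⟨b, hb, hab⟩
      rw [Submodule.mkQ_apply, Submodule.mkQ_apply, Submodule.Quotient.eq] at hab
      rw [Submodule.mkQ_apply, Submodule.Quotient.mk_eq_zero, ← hinf]
      have : b ∈ Q ⊓ C := ⟨by simpa using Q.add_mem ha (hKQ hab), hb⟩
      rw [hinf] at this ⊢
      simpa using K.sub_mem this hab
    · rw [codisjoint_iff, ← Submodule.map_sup, hsup, Submodule.map_top, Submodule.range_mkQ]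
  let π : P →ₗ[WittVector p R] P ⧸ K :=
    ((Q.map K.mkQ).subtype ∘ₗ (Q.map K.mkQ).projectionOnto _ hc) ∘ₗ K.mkQ
  obtain ⟨ψ, hψ⟩ := Module.projective_lifting_property K.mkQ π K.mkQ_surjective
  have hψ' : ∀ x, K.mkQ (ψ x) = π x := fun x => LinearMap.congr_fun hψ x
  have hψQ : ∀ x, ψ x ∈ Q := by
    intro x
    obtain ⟨q, hq, hqe⟩ := ((Q.map K.mkQ).projectionOnto _ hc (K.mkQ x)).2
    have h := (Submodule.Quotient.eq K).1 ((hψ' x).trans hqe.symm)
    simpa using Q.add_mem (hKQ h) hq
  have hQψ : ∀ z ∈ Q, ψ z - z ∈ K := by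
    intro z hz
    refine (Submodule.Quotient.eq K).1 ((hψ' z).trans ?_)
    exact congrArg Subtype.val (Submodule.projectionOnto_apply_left hc ⟨K.mkQ z, ⟨z, hz, rfl⟩⟩)
  obtain ⟨e, he, heψ⟩ := DispLib.exists_idempotent_end (W4c1extbt610.IV p R) ψ (fun x => hQψ _ (hψQ x))
  have he' : ∀ x, e (e x) = e x := fun x => LinearMap.congr_fun he x
  refine ⟨LinearMap.range e, LinearMap.ker e, ⟨?_, ?_⟩, le_antisymm (fun z hz => ?_) (sup_le ?_ ?_)⟩
  · rw [Submodule.disjoint_def]
    rintro _ ⟨x, rfl⟩ hx
    rw [LinearMap.mem_ker, he'] at hx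
    exact hx
  · rw [codisjoint_iff, eq_top_iff]
    intro x _
    exact Submodule.mem_sup.2 ⟨e x, ⟨x, rfl⟩, x - e x,
      by rw [LinearMap.mem_ker, map_sub, he', sub_self], add_sub_cancel _ _⟩
  · have h1 : z - e z ∈ K := by
      have := K.sub_mem (K.neg_mem (hQψ z hz)) (heψ z)
      convert this using 1
      abel
    refine Submodule.mem_sup.2 ⟨e z, ⟨z, rfl⟩, z - e z, ?_, add_sub_cancel _ _⟩
    have h2 := Submodule.mem_map_of_mem (f := LinearMap.id - e) h1
    rw [hK, Submodule.map_smul''] at h2
    simp only [LinearMap.sub_apply, LinearMap.id_apply, map_sub, he', sub_self, sub_zero] at h2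
    refine Submodule.smul_mono le_rfl ?_ h2
    rintro _ ⟨y, -, rfl⟩
    simp [he']
  · rintro _ ⟨x, rfl⟩
    simpa using Q.add_mem (hKQ (heψ x)) (hψQ x)
  · exact (Submodule.smul_mono le_rfl le_top).trans hKQ

end Groth.Agent.S14858
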