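import Groth.Statements.S14859
import Groth.Agent.DispLib.Basic

set_option autoImplicit false
universe u v w
open Disp

namespace Groth.Agent.S14859

/-- Let p be a prime, R a commutative ring with p-typical Witt vectors W = W(R), and (P, Q, F, V⁻¹) a
3n-display over R with a normal decomposition P = L ⊕ T, Q = L + I_R·T. Then V⁻¹ ⊕ F : L ⊕ T → P is
a Frobenius-linear isomorphism; stated here in the case where L and T are free with bases (l_i) and
(t_j): the family consisting of the V⁻¹(l_i) and the F(t_j) is a basis of the W-module P, i.e. it is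
linearly independent over W and spans P. -/
theorem result (p : ℕ) [Fact p.Prime] (R : Type u) [CommRing R]
    (P : Type v) [AddCommGroup P] [Module (WittVector p R) P] (D : W4c1extbt610.Display3n p R P)
    (L T : Submodule (WittVector p R) P) (hLT : IsCompl L T)
    (hQ : D.Q = L ⊔ W4c1extbt610.IV p R • T) (hLQ : L ≤ D.Q)
    (ιL ιT : Type w) (bL : Module.Basis ιL (WittVector p R) L) (bT : Module.Basis ιT (WittVector p R) T) :
    LinearIndependent (WittVector p R)
        (Sum.elim (fun i : ιL => D.Vinv ⟨(bL i : P), hLQ (bL i).2⟩) (fun j : ιT => D.F (bT j : P))) ∧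
      Submodule.span (WittVector p R)
        (Set.range (Sum.elim (fun i : ιL => D.Vinv ⟨(bL i : P), hLQ (bL i).2⟩) (fun j : ιT => D.F (bT j : P)))) = ⊤ := by
  classical
  haveI := D.finite
  let bP : Module.Basis (ιL ⊕ ιT) (WittVector p R) P :=
    (bL.prod bT).map (Submodule.prodEquivOfIsCompl L T hLT)
  set fam : ιL ⊕ ιT → P :=
    Sum.elim (fun i : ιL => D.Vinv ⟨(bL i : P), hLQ (bL i).2⟩) (fun j : ιT => D.F (bT j : P)) with hfam
  have hspan : Submodule.span (WittVector p R) (Set.range fam) = ⊤ := by
    set M := Submodule.span (WittVector p R) (Set.range fam) with hM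
    rw [eq_top_iff, ← D.span_range_Vinv, Submodule.span_le]
    rintro _ ⟨y, rfl⟩
    refine DispLib.Vinv_mem_span D hQ hLQ M (fun l => ?_) (fun t => ?_) y
    · have hl : l ∈ Submodule.span (WittVector p R) (Set.range bL) := bL.span_eq ▸ trivial
      induction hl using Submodule.span_induction with
      | mem x hx => obtain ⟨i, rfl⟩ := hx; exact Submodule.subset_span ⟨Sum.inl i, rfl⟩
      | zero =>
        show D.Vinv (Submodule.inclusion hLQ 0) ∈ M
        rw [map_zero, map_zero]
        exact M.zero_mem
      | add a b _ _ ha hb =>
        show D.Vinv (Submodule.inclusion hLQ (a + b)) ∈ M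
        rw [map_add, map_add]
        exact M.add_mem ha hb
      | smul c a _ ha =>
        show D.Vinv (Submodule.inclusion hLQ (c • a)) ∈ M
        rw [map_smul, DispLib.Vinv_smul]
        exact M.smul_mem _ ha
    · have ht : t ∈ Submodule.span (WittVector p R) (Set.range bT) := bT.span_eq ▸ trivial
      induction ht using Submodule.span_induction with
      | mem x hx => obtain ⟨i, rfl⟩ := hx; exact Submodule.subset_span ⟨Sum.inr i, rfl⟩
      | zero => rw [Submodule.coe_zero, map_zero]; exact M.zero_mem
      | add a b _ _ ha hb => rw [Submodule.coe_add, map_add]; exact M.add_mem ha hb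
      | smul c a _ ha => rw [Submodule.coe_smul, DispLib.F_smul]; exact M.smul_mem _ ha
  refine ⟨?_, hspan⟩
  set f : P →ₗ[WittVector p R] P := bP.constr (WittVector p R) fam with hf
  have hsurj : Function.Surjective f := by
    rw [← LinearMap.range_eq_top, hf, Module.Basis.constr_range, hspan]
  have hinj : Function.Injective f :=
    (OrzechProperty.bijective_of_surjective_endomorphism f hsurj).1
  have := bP.linearIndependent.map' f (LinearMap.ker_eq_bot.2 hinj)
  rw [show (f ∘ bP) = fam from funext fun i => bP.constr_basis (WittVector p R) fam i] at this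
  exact this

end Groth.Agent.S14859
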