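import Groth.Statements.S14862
import Mathlib
import Groth.Prelude
import Groth.Agent.CommAlg4.WittTop

set_option linter.all false

set_option autoImplicit false
universe u
open CAlg


namespace Groth.Agent.S14862

/-- Let p be a prime and S a commutative ring without p-torsion which is complete and separated for the
p-adic topology; write W = W(S) for the p-typical Witt vectors, I_r ⊆ W for the ideal of Witt
vectors whose first r components vanish (the image of the r-th iterate of the Verschiebung) and
W(p^s S) ⊆ W for the ideal of Witt vectors all of whose components lie in p^s S (the kernel of W(S)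
→ W(S/p^s S)). Then for every natural number u the ideal p^u W is closed for the linear topology on
W in which the ideals I_r + W(p^s S) form a neighbourhood basis of zero: the intersection over all r
and s of p^u W + I_r + W(p^s S) equals p^u W. (The published statement asks only that S have no
p-torsion; S is moreover taken p-adically complete and separated here, the case in which the result
is applied and through which the published proof goes.) -/
theorem result (p : ℕ) [Fact p.Prime] (S : Type u) [CommRing S]
    (hS : ∀ y : S, (p : S) * y = 0 → y = 0) [IsAdicComplete (Ideal.span {(p : S)}) S] (u : ℕ) :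
    (⨅ r : ℕ, ⨅ s : ℕ,
        Ideal.span {(p : WittVector p S) ^ u} ⊔ RingHom.ker (WittVector.truncate (p := p) (R := S) r) ⊔
          RingHom.ker (WittVector.map (p := p) (Ideal.Quotient.mk (Ideal.span {(p : S) ^ s})))) =
      Ideal.span {(p : WittVector p S) ^ u} := by
  open Groth.Agent.CommAlg4.WittTop in
  refine le_antisymm (fun a ha => ?_) (le_iInf fun r => le_iInf fun s => le_sup_of_le_left le_sup_left)
  simp only [Submodule.mem_iInf] at ha
  have hsol : ∀ r, ∃ x, (p : WittVector p S) ^ u * x - a ∈
      RingHom.ker (WittVector.truncate (p := p) (R := S) r) := fun r =>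
    exists_solution hS a r u fun s => by
      obtain ⟨b, hb, d, hd, hbd⟩ := Submodule.mem_sup.mp (ha r s)
      obtain ⟨e, he, c, hc, hec⟩ := Submodule.mem_sup.mp hb
      obtain ⟨w, rfl⟩ := Ideal.mem_span_singleton.mp he
      refine ⟨w, ?_⟩
      rw [← hbd, ← hec, sub_add_eq_sub_sub, sub_add_eq_sub_sub, sub_self, zero_sub]
      exact sub_mem (neg_mem (ker_truncate_le_Jid s r hc)) (ker_map_le_Jid s r hd)
  choose x hx using hsol
  let L : WittVector p S := WittVector.mk p fun i => (x (i + 1)).coeff i
  refine Ideal.mem_span_singleton.mpr ⟨L, ?_⟩
  refine (sub_eq_zero.mp ?_).symm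
  refine eq_zero_of_mem_Jid fun l m => ?_
  have hLx : L - x m ∈ Jid p S l m := sub_mem_Jid.mpr fun i hi => by
    simp only [L, WittVector.coeff_mk]
    have h1 : (p : WittVector p S) ^ u * (x (i + 1) - x m) ∈ Jid p S (l + u + 1) (i + 1) := by
      rw [mul_sub, ← sub_sub_sub_cancel_right _ _ a]
      exact sub_mem (ker_truncate_le_Jid _ _ (hx (i + 1)))
        (Jid_mono le_rfl (show i + 1 ≤ m by lia) (ker_truncate_le_Jid _ _ (hx m)))
    exact sub_mem_Jid.mp (Jid_mono (show l ≤ l + u + 1 - u by lia) le_rfl
      (mem_Jid_of_pow_mul_mem hS (by lia) h1)) i (Nat.lt_succ_self i)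
  have h2 := add_mem (ker_truncate_le_Jid l m (hx m)) (Ideal.mul_mem_left _ ((p : WittVector p S) ^ u) hLx)
  convert h2 using 1
  ring

end Groth.Agent.S14862
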