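import Groth.Statements.S14865
import Mathlib
import Groth.Prelude

set_option linter.all false

set_option autoImplicit false
universe u v w z
open Disp


namespace Groth.Agent.S14865

theorem constantCoeff_aux (p : ℕ) [Fact p.Prime] (n : ℕ) :
    MvPolynomial.constantCoeff (WittVector.frobeniusPolyAux p n) = 0 := by
  have h := WittVector.coeff_frobenius (R := ℤ) (p := p) 0 n
  rw [map_zero, WittVector.zero_coeff, show (0 : WittVector p ℤ).coeff = 0 from funext (WittVector.zero_coeff p ℤ),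
    MvPolynomial.aeval_zero, WittVector.frobeniusPoly] at h
  simpa [(Fact.out : p.Prime).ne_zero] using h

theorem coeff_frob {p : ℕ} [Fact p.Prime] {S : Type u} [CommRing S] (I : Ideal S) (x : WittVector p S)
    (hx : ∀ i, x.coeff i ∈ I) (n : ℕ) :
    ∃ q ∈ I, (WittVector.frobenius x).coeff n = x.coeff n ^ p + (p : S) * q := by
  refine ⟨MvPolynomial.aeval x.coeff (WittVector.frobeniusPolyAux p n), ?_, by
    rw [WittVector.coeff_frobenius, WittVector.frobeniusPoly]
    simp⟩
  rw [← Ideal.Quotient.eq_zero_iff_mem, show Ideal.Quotient.mk I (MvPolynomial.aeval x.coeff (WittVector.frobeniusPolyAux p n)) =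
    (Ideal.Quotient.mkₐ ℤ I) (MvPolynomial.aeval x.coeff (WittVector.frobeniusPolyAux p n)) from rfl,
    MvPolynomial.comp_aeval_apply, show (fun i => (Ideal.Quotient.mkₐ ℤ I) (x.coeff i)) = 0 from
      funext fun i => Ideal.Quotient.eq_zero_iff_mem.2 (hx i), MvPolynomial.aeval_zero, constantCoeff_aux, map_zero]

theorem mem_ker_map_iff {p : ℕ} [Fact p.Prime] {S : Type u} [CommRing S] {R : Type u} [CommRing R] (φ : S →+* R)
    (x : WittVector p S) :
    x ∈ RingHom.ker (WittVector.map (p := p) φ) ↔ ∀ n, x.coeff n ∈ RingHom.ker φ := by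
  rw [RingHom.mem_ker, WittVector.ext_iff]
  simp [WittVector.map_coeff, RingHom.mem_ker]

theorem ker_stable {p : ℕ} [Fact p.Prime] {S : Type u} [CommRing S] {R : Type u} [CommRing R] (φ : S →+* R) :
    ∀ x ∈ RingHom.ker (WittVector.map (p := p) φ), WittVector.frobenius x ∈ RingHom.ker (WittVector.map (p := p) φ) := by
  intro x hx
  rw [mem_ker_map_iff] at hx ⊢
  intro n
  obtain ⟨q, hq, he⟩ := coeff_frob (RingHom.ker φ) x hx n
  rw [he]
  exact add_mem (Ideal.pow_mem_of_mem _ (hx n) p (Fact.out : p.Prime).pos) (Ideal.mul_mem_left _ _ hq)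

theorem iterate_coeff {p : ℕ} [Fact p.Prime] {S : Type u} [CommRing S] (x : WittVector p S) (m : ℕ) :
    ∀ n, (p : S) ∣ (WittVector.frobenius^[m] x).coeff n - x.coeff n ^ p ^ m := by
  induction m with
  | zero => intro n; simp
  | succ m ih =>
    intro n
    rw [Function.iterate_succ_apply']
    obtain ⟨q, -, he⟩ := coeff_frob (⊤ : Ideal S) (WittVector.frobenius^[m] x) (fun _ => trivial) n
    rw [he, pow_succ, pow_mul, add_sub_right_comm]
    exact dvd_add ((ih n).trans (sub_dvd_pow_sub_pow _ _ p)) (dvd_mul_right _ _)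

theorem exists_iterate_eq_zero {p : ℕ} [Fact p.Prime] {S : Type u} [CommRing S] {R : Type u} [CommRing R]
    (φ : S →+* R) (hp : IsNilpotent (p : S)) (N : ℕ) (hN : ∀ a : S, φ a = 0 → a ^ N = 0) :
    ∃ M : ℕ, ∀ x ∈ RingHom.ker (WittVector.map (p := p) φ), WittVector.frobenius^[M] x = 0 := by
  obtain ⟨e, he⟩ := hp
  refine ⟨e + N, fun x hx => ?_⟩
  have key : ∀ j n, (WittVector.frobenius^[j + N] x).coeff n ∈ Ideal.span {(p : S) ^ (j + 1)} := by
    intro j
    induction j with
    | zero =>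
      intro n
      rw [Ideal.mem_span_singleton, zero_add, zero_add, pow_one]
      have h := iterate_coeff x N n
      rwa [pow_eq_zero_of_le (Nat.lt_pow_self (Fact.out : p.Prime).one_lt).le
        (hN _ ((mem_ker_map_iff φ x).1 hx n)), sub_zero] at h
    | succ j ih =>
      intro n
      rw [show j + 1 + N = (j + N) + 1 by omega, Function.iterate_succ_apply']
      obtain ⟨q, hq, he'⟩ := coeff_frob _ _ ih n
      rw [he', Ideal.mem_span_singleton]
      rw [Ideal.mem_span_singleton] at hq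
      refine dvd_add ?_ ?_
      · refine dvd_trans ?_ (pow_dvd_pow_of_dvd (Ideal.mem_span_singleton.1 (ih n)) p)
        rw [← pow_mul]
        refine pow_dvd_pow _ ?_
        calc j + 1 + 1 ≤ (j + 1) * 2 := by omega
          _ ≤ (j + 1) * p := Nat.mul_le_mul_left _ (Fact.out : p.Prime).two_le
      · rw [pow_succ']
        exact mul_dvd_mul_left _ hq
  ext n
  have := key e n
  rw [pow_eq_zero_of_le (Nat.le_succ e) he, Ideal.mem_span_singleton, zero_dvd_iff] at this
  rw [this, WittVector.zero_coeff]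

variable {p : ℕ} [Fact p.Prime] {S : Type u} [CommRing S]
  {P₁ : Type v} [AddCommGroup P₁] [Module (WittVector p S) P₁]
  {P₂ : Type w} [AddCommGroup P₂] [Module (WittVector p S) P₂]
  {ι₁ : Type z} (b₁ : Module.Basis ι₁ (WittVector p S) P₁)
  (F₁ : P₁ →ₛₗ[(WittVector.frobenius : WittVector p S →+* WittVector p S)] P₁)
  (F₂ : P₂ →ₛₗ[(WittVector.frobenius : WittVector p S →+* WittVector p S)] P₂)

theorem map_smul_mem (I : Ideal (WittVector p S)) {y : P₂} (hy : y ∈ I • (⊤ : Submodule (WittVector p S) P₂)) :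
    F₂ y ∈ I.map (WittVector.frobenius : WittVector p S →+* WittVector p S) • (⊤ : Submodule (WittVector p S) P₂) := by
  refine Submodule.smul_induction_on hy (fun r hr m _ => ?_) (fun a b ha hb => ?_)
  · rw [LinearMap.map_smulₛₗ]
    exact Submodule.smul_mem_smul (Ideal.mem_map_of_mem _ hr) trivial
  · rw [map_add]; exact add_mem ha hb

theorem exists_fixed (hF₁ : LinearIndependent (WittVector p S) (fun i => F₁ (b₁ i)) ∧
      Submodule.span (WittVector p S) (Set.range fun i => F₁ (b₁ i)) = ⊤)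
    (𝔠 : Ideal (WittVector p S)) (h𝔠F : ∀ x ∈ 𝔠, WittVector.frobenius x ∈ 𝔠)
    (M : ℕ) (hM : ∀ x ∈ 𝔠, WittVector.frobenius^[M] x = 0)
    (α₀ : P₁ →ₗ[WittVector p S] P₂)
    (hα₀ : ∀ x : P₁, F₂ (α₀ x) - α₀ (F₁ x) ∈ 𝔠 • (⊤ : Submodule (WittVector p S) P₂)) :
    ∃! α : P₁ →ₗ[WittVector p S] P₂,
      (∀ x : P₁, α x - α₀ x ∈ 𝔠 • (⊤ : Submodule (WittVector p S) P₂)) ∧ ∀ x : P₁, F₂ (α x) = α (F₁ x) := by
  classical
  let b' := Module.Basis.mk hF₁.1 hF₁.2.ge
  let D : (P₁ →ₗ[WittVector p S] P₂) → (P₁ →ₗ[WittVector p S] P₂) := fun η =>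
    b'.constr ℕ fun i => F₂ (η (b₁ i))
  have hb' : ∀ i, b' i = F₁ (b₁ i) := fun i => Module.Basis.mk_apply _ _ i
  have hDF : ∀ η x, D η (F₁ x) = F₂ (η x) := fun η => LinearMap.congr_fun
    (b₁.ext (f₁ := (D η).comp F₁) (f₂ := F₂.comp η) fun i => by
      simp only [LinearMap.comp_apply, ← hb', D, Module.Basis.constr_basis])
  have hDeq : ∀ η, (∀ x, F₂ (η x) = η (F₁ x)) → D η = η := fun η h => b'.ext fun i => by
    rw [hb', hDF, h]
  have hDadd : ∀ η η', D (η + η') = D η + D η' := fun η η' => b'.ext fun i => by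
    simp [D, Module.Basis.constr_basis]
  have hDsum : ∀ (m : ℕ) (η : ℕ → P₁ →ₗ[WittVector p S] P₂), D (∑ j ∈ Finset.range m, η j) = ∑ j ∈ Finset.range m, D (η j) :=
    fun m η => map_sum (AddMonoidHom.mk' D hDadd) η _
  have hrange : ∀ (I : Ideal (WittVector p S)) η, (∀ x, η x ∈ I • (⊤ : Submodule (WittVector p S) P₂)) →
      ∀ x, D η x ∈ I.map (WittVector.frobenius : WittVector p S →+* WittVector p S) • (⊤ : Submodule (WittVector p S) P₂) := by
    intro I η h x
    have hle : LinearMap.range (D η) ≤ I.map (WittVector.frobenius : WittVector p S →+* WittVector p S) • ⊤ := by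
      rw [Module.Basis.constr_range, Submodule.span_le]
      rintro _ ⟨i, rfl⟩
      exact map_smul_mem F₂ I (h _)
    exact hle ⟨x, rfl⟩
  have hiter : ∀ (η : P₁ →ₗ[WittVector p S] P₂), (∀ x, η x ∈ 𝔠 • (⊤ : Submodule (WittVector p S) P₂)) →
      ∀ m x, D^[m] η x ∈ Ideal.span (WittVector.frobenius^[m] '' (𝔠 : Set (WittVector p S))) • (⊤ : Submodule (WittVector p S) P₂) := by
    intro η h m
    induction m with
    | zero => intro x; simpa using h x
    | succ m ih =>
      intro x
      rw [Function.iterate_succ_apply']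
      have := hrange _ _ ih x
      rwa [Ideal.map_span, ← Set.image_comp, ← Function.iterate_succ'] at this
  have hkill : ∀ (η : P₁ →ₗ[WittVector p S] P₂), (∀ x, η x ∈ 𝔠 • (⊤ : Submodule (WittVector p S) P₂)) → D^[M] η = 0 := by
    intro η h
    ext x
    have hb : Ideal.span (WittVector.frobenius^[M] '' (𝔠 : Set (WittVector p S))) = ⊥ :=
      Ideal.span_eq_bot.2 (by rintro _ ⟨c, hc, rfl⟩; exact hM c hc)
    have := hiter η h M x
    rwa [hb, Submodule.bot_smul, Submodule.mem_bot] at this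
  have hmap : 𝔠.map (WittVector.frobenius : WittVector p S →+* WittVector p S) ≤ 𝔠 := Ideal.map_le_iff_le_comap.2 h𝔠F
  have hmem : ∀ (η : P₁ →ₗ[WittVector p S] P₂), (∀ x, η x ∈ 𝔠 • (⊤ : Submodule (WittVector p S) P₂)) →
      ∀ m x, D^[m] η x ∈ 𝔠 • (⊤ : Submodule (WittVector p S) P₂) := by
    intro η h m
    induction m with
    | zero => exact h
    | succ m ih =>
      intro x
      rw [Function.iterate_succ_apply']
      exact Submodule.smul_mono_left hmap (hrange _ _ ih x)
  set δ := D α₀ - α₀ with hδdef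
  have hδ : ∀ x, δ x ∈ 𝔠 • (⊤ : Submodule (WittVector p S) P₂) := by
    have : LinearMap.range δ ≤ 𝔠 • (⊤ : Submodule (WittVector p S) P₂) := by
      rw [LinearMap.range_eq_map, ← b'.span_eq, Submodule.map_span, Submodule.span_le]
      rintro _ ⟨_, ⟨i, rfl⟩, rfl⟩
      rw [hδdef, LinearMap.sub_apply, hb', hDF]
      exact hα₀ _
    exact fun x => this ⟨x, rfl⟩
  refine ⟨α₀ + ∑ j ∈ Finset.range M, D^[j] δ, ⟨fun x => ?_, fun x => ?_⟩, ?_⟩
  · rw [LinearMap.add_apply, add_sub_cancel_left, LinearMap.sum_apply]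
    exact Submodule.sum_mem _ fun j _ => hmem δ hδ j x
  · rw [← hDF]
    refine LinearMap.congr_fun ?_ (F₁ x)
    rw [hDadd, hDsum, show D α₀ = α₀ + δ by rw [hδdef, add_sub_cancel], add_assoc]
    congr 1
    have h1 := Finset.sum_range_succ' (fun j => D^[j] δ) M
    rw [Finset.sum_range_succ, hkill δ hδ, add_zero, Function.iterate_zero_apply] at h1
    rw [h1, add_comm]
    simp only [Function.iterate_succ_apply']
  · rintro α ⟨hα, hαF⟩
    set β := α₀ + ∑ j ∈ Finset.range M, D^[j] δ with hβdef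
    have hβ : D β = β := by
      rw [hβdef, hDadd, hDsum, show D α₀ = α₀ + δ by rw [hδdef, add_sub_cancel], add_assoc]
      congr 1
      have h1 := Finset.sum_range_succ' (fun j => D^[j] δ) M
      rw [Finset.sum_range_succ, hkill δ hδ, add_zero, Function.iterate_zero_apply] at h1
      rw [h1, add_comm]
      simp only [Function.iterate_succ_apply']
    set η := α - β with hη
    have hfix : D η = η := by
      have h2 : D η + D β = D α := by rw [← hDadd, hη, sub_add_cancel]
      rw [hβ, hDeq α hαF] at h2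
      rw [hη]; rw [hη] at h2; exact eq_sub_of_add_eq h2
    have hmem' : ∀ x, η x ∈ 𝔠 • (⊤ : Submodule (WittVector p S) P₂) := fun x => by
      rw [hη, hβdef, LinearMap.sub_apply, LinearMap.add_apply, ← sub_sub, LinearMap.sum_apply]
      exact sub_mem (hα x) (Submodule.sum_mem _ fun j _ => hmem δ hδ j x)
    have := hkill η hmem'
    rw [Function.iterate_fixed hfix] at this
    exact sub_eq_zero.1 this

/-- Let p be a prime and S → R a surjective homomorphism of commutative rings with kernel 𝔞, with p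
nilpotent in S and with one exponent N such that a^N = 0 for every a ∈ 𝔞; let J = W(𝔞) denote the
kernel of the induced map W(S) → W(R) on p-typical Witt vectors. Let P_1 and P_2 be free
W(S)-modules of finite rank, each with a Frobenius-semilinear endomorphism F_i which is an F-linear
isomorphism, i.e. carries a basis of P_i to a basis of P_i. A homomorphism of the reductions (W(R) ⊗
P_1, F̄_1) → (W(R) ⊗ P_2, F̄_2) is the class modulo J·P_2 of a W(S)-linear map α_0 : P_1 → P_2 with
F_2 α_0 ≡ α_0 F_1 modulo J·P_2; the assertion is that every such α_0 is congruent modulo J·P_2 to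
exactly one W(S)-linear α : P_1 → P_2 satisfying F_2 α = α F_1. (The published statement has P_1,
P_2 finitely generated projective; this row takes them free with given finite bases.) -/
theorem result (p : ℕ) [Fact p.Prime] (S R : Type u)
    [CommRing S] [CommRing R] (φ : S →+* R) (hφ : Function.Surjective φ) (hp : IsNilpotent (p : S))
    (N : ℕ) (hN : ∀ a : S, φ a = 0 → a ^ N = 0)
    (P₁ : Type v) [AddCommGroup P₁] [Module (WittVector p S) P₁]
    (P₂ : Type w) [AddCommGroup P₂] [Module (WittVector p S) P₂]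
    (ι₁ ι₂ : Type z) [Finite ι₁] [Finite ι₂]
    (b₁ : Module.Basis ι₁ (WittVector p S) P₁) (b₂ : Module.Basis ι₂ (WittVector p S) P₂)
    (F₁ : P₁ →ₛₗ[(WittVector.frobenius : WittVector p S →+* WittVector p S)] P₁)
    (F₂ : P₂ →ₛₗ[(WittVector.frobenius : WittVector p S →+* WittVector p S)] P₂)
    (hF₁ : LinearIndependent (WittVector p S) (fun i => F₁ (b₁ i)) ∧
      Submodule.span (WittVector p S) (Set.range fun i => F₁ (b₁ i)) = ⊤)
    (hF₂ : LinearIndependent (WittVector p S) (fun i => F₂ (b₂ i)) ∧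
      Submodule.span (WittVector p S) (Set.range fun i => F₂ (b₂ i)) = ⊤)
    (α₀ : P₁ →ₗ[WittVector p S] P₂)
    (hα₀ : ∀ x : P₁, F₂ (α₀ x) - α₀ (F₁ x) ∈
      RingHom.ker (WittVector.map (p := p) φ) • (⊤ : Submodule (WittVector p S) P₂)) :
    ∃! α : P₁ →ₗ[WittVector p S] P₂,
      (∀ x : P₁, α x - α₀ x ∈ RingHom.ker (WittVector.map (p := p) φ) • (⊤ : Submodule (WittVector p S) P₂)) ∧
        ∀ x : P₁, F₂ (α x) = α (F₁ x) := by
  obtain ⟨M, hM⟩ := exists_iterate_eq_zero φ hp N hN
  exact exists_fixed b₁ F₁ F₂ hF₁ _ (ker_stable φ) M hM α₀ hα₀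

end Groth.Agent.S14865
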