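import Groth.Statements.S14867
import Mathlib
import Groth.Prelude
import Groth.Agent.CommAlg4.WittProj

set_option linter.all false

set_option autoImplicit false
universe u
open CAlg


namespace Groth.Agent.S14867

open Groth.Agent.CommAlg4.WittTop Groth.Agent.CommAlg4.WittProj in
theorem exists_lift {p : ℕ} [Fact p.Prime] {S R : Type u} [CommRing S] [CommRing R] (φ : S →+* R)
    (hφ : Function.Surjective φ) (hnil : ∀ a : S, φ a = 0 → IsNilpotent a) (hp : IsNilpotent (p : S))
    (P : Type u) [AddCommGroup P] [Module (WittVector p R) P]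
    [Module.Finite (WittVector p R) P] [Module.Projective (WittVector p R) P] :
    ∃ (P' : Type u) (_ : AddCommGroup P') (_ : Module (WittVector p S) P'),
      Module.Finite (WittVector p S) P' ∧ Module.Projective (WittVector p S) P' ∧
        ∃ π : P' →ₛₗ[WittVector.map (p := p) φ] P, Function.Surjective π ∧
          LinearMap.ker π = RingHom.ker (WittVector.map (p := p) φ) • (⊤ : Submodule (WittVector p S) P') := by
  classical
  set f : WittVector p S →+* WittVector p R := WittVector.map φ with hf
  set J := RingHom.ker f with hJdef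
  have hfs : Function.Surjective f := WittVector.map_surjective φ hφ
  have hJ : ∀ x ∈ J, IsNilpotent (x.coeff 0) := fun x hx => hnil _ (by
    have h1 := congrArg (fun z => WittVector.coeff z 0) (RingHom.mem_ker.mp hx)
    simpa [f, WittVector.map_coeff] using h1)
  obtain ⟨r, g, s, -, -, hgs⟩ := Module.Finite.exists_comp_eq_id_of_projective (WittVector p R) P
  have hgs' : ∀ z, g (s z) = z := fun z => LinearMap.congr_fun hgs z
  let ER : Matrix (Fin r) (Fin r) (WittVector p R) := LinearMap.toMatrix' (s.comp g)
  have hER : ER * ER = ER := by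
    simp only [ER, ← LinearMap.toMatrix'_comp]
    congr 1
    exact LinearMap.ext fun z => by simp [hgs']
  choose e₀ he₀ using fun i j => hfs (ER i j)
  have he : ∀ i j, (Matrix.of e₀ * Matrix.of e₀ - Matrix.of e₀) i j ∈ J := fun i j => by
    rw [hJdef, RingHom.mem_ker, Matrix.sub_apply, map_sub, Matrix.mul_apply, map_sum]
    simp only [Matrix.of_apply, map_mul, he₀]
    rw [← Matrix.mul_apply, hER, sub_self]
  obtain ⟨E, hE, hEe⟩ := exists_idempotent_lift hp hJ (Matrix.of e₀) he
  have hfil : ∀ (n : ℕ) (x : WittVector p S), x ∈ fil p S n → f x ∈ fil p R n := fun n x hx =>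
    (WittVector.mem_ker_truncate n _).mpr fun i hi => by
      show (WittVector.map φ x).coeff i = 0
      rw [WittVector.map_coeff, (WittVector.mem_ker_truncate n x).mp hx i hi, map_zero]
  have hfE : ∀ i j, f (E i j) = ER i j := fun i j =>
    sub_eq_zero.mp (eq_zero_of_forall_mem fun n => by
      obtain ⟨c, hc, hc'⟩ := hEe n i j
      have := hfil n _ hc'
      rwa [map_sub, map_sub, RingHom.mem_ker.mp hc, sub_zero, Matrix.of_apply, he₀] at this)
  have hfmul : ∀ v : Fin r → WittVector p S, f ∘ (E.mulVec v) = s (g (f ∘ v)) := fun v => by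
    have h1 : s (g (f ∘ v)) = ER.mulVec (f ∘ v) := by
      rw [← Matrix.toLin'_apply, Matrix.toLin'_toMatrix']; rfl
    rw [h1]
    funext i
    simp [Matrix.mulVec, dotProduct, hfE]
  let P' : Submodule (WittVector p S) (Fin r → WittVector p S) := LinearMap.range E.mulVecLin
  let pr : (Fin r → WittVector p S) →ₗ[WittVector p S] P' := E.mulVecLin.rangeRestrict
  have hfix : ∀ v : P', E.mulVec v.1 = v.1 := by
    rintro ⟨_, w, rfl⟩
    simp [hE]
  have hsplit : pr.comp P'.subtype = LinearMap.id := LinearMap.ext fun v => Subtype.ext (hfix v)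
  have hfin : Module.Finite (WittVector p S) P' :=
    Module.Finite.of_surjective pr fun v => ⟨v.1, LinearMap.congr_fun hsplit v⟩
  have hproj : Module.Projective (WittVector p S) P' := Module.Projective.of_split P'.subtype pr hsplit
  let π : P' →ₛₗ[f] P :=
    { toFun := fun v => g (f ∘ v.1)
      map_add' := fun a b => by
        rw [← map_add g]; congr 1; funext i; simp
      map_smul' := fun c a => by
        rw [← map_smul g]; congr 1; funext i; simp }
  refine ⟨P', inferInstance, inferInstance, hfin, hproj, π, fun x => ?_, ?_⟩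
  · choose v hv using fun i => hfs (s x i)
    refine ⟨pr v, ?_⟩
    show g (f ∘ E.mulVec v) = x
    rw [hfmul, hgs', show f ∘ v = s x from funext hv, hgs']
  · refine le_antisymm (fun v hv => ?_) (Submodule.smul_le.mpr fun a ha v _ => ?_)
    · have h1 : f ∘ v.1 = 0 := by
        rw [← hfix v, hfmul, show g (f ∘ v.1) = 0 from hv, map_zero]
      have hv' : v = ∑ j, v.1 j • pr (Pi.single j 1) := by
        conv_lhs => rw [← LinearMap.congr_fun hsplit v |>.trans (LinearMap.id_apply v)]
        show pr v.1 = _
        conv_lhs => rw [show v.1 = ∑ j, v.1 j • (Pi.single j 1 : Fin r → WittVector p S) from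
          pi_eq_sum_univ' v.1]
        simp [map_sum]
      rw [hv']
      exact Submodule.sum_mem _ fun j _ => Submodule.smul_mem_smul (congrFun h1 j) Submodule.mem_top
    · rw [LinearMap.mem_ker, LinearMap.map_smulₛₗ, show f a = 0 from ha, zero_smul]

open Groth.Agent.CommAlg4.WittTop Groth.Agent.CommAlg4.WittProj in
theorem exists_iso {p : ℕ} [Fact p.Prime] {S R : Type u} [CommRing S] [CommRing R] (φ : S →+* R)
    (hnil : ∀ a : S, φ a = 0 → IsNilpotent a) (hp : IsNilpotent (p : S))
    (P : Type u) [AddCommGroup P] [Module (WittVector p R) P]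
    (P₁ : Type u) [AddCommGroup P₁] [Module (WittVector p S) P₁]
    [Module.Finite (WittVector p S) P₁] [Module.Projective (WittVector p S) P₁]
    (P₂ : Type u) [AddCommGroup P₂] [Module (WittVector p S) P₂]
    [Module.Finite (WittVector p S) P₂] [Module.Projective (WittVector p S) P₂]
    (π₁ : P₁ →ₛₗ[WittVector.map (p := p) φ] P) (π₂ : P₂ →ₛₗ[WittVector.map (p := p) φ] P)
    (h1 : Function.Surjective π₁)
    (k1 : LinearMap.ker π₁ = RingHom.ker (WittVector.map (p := p) φ) • (⊤ : Submodule (WittVector p S) P₁))
    (h2 : Function.Surjective π₂)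
    (k2 : LinearMap.ker π₂ = RingHom.ker (WittVector.map (p := p) φ) • (⊤ : Submodule (WittVector p S) P₂)) :
    ∃ e : P₁ ≃ₗ[WittVector p S] P₂, ∀ x : P₁, π₂ (e x) = π₁ x := by
  let f : WittVector p S →+* WittVector p R := WittVector.map φ
  let _ : Module (WittVector p S) P := Module.compHom P f
  have hJ : RingHom.ker f ≤ (⊥ : Ideal (WittVector p S)).jacobson := le_jacobson hp fun x hx => hnil _ (by
    have h1 := congrArg (fun z => WittVector.coeff z 0) (RingHom.mem_ker.mp hx)
    simpa [f, WittVector.map_coeff] using h1)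
  let l₁ : P₁ →ₗ[WittVector p S] P :=
    { toFun := π₁, map_add' := map_add π₁, map_smul' := fun c x => LinearMap.map_smulₛₗ π₁ c x }
  let l₂ : P₂ →ₗ[WittVector p S] P :=
    { toFun := π₂, map_add' := map_add π₂, map_smul' := fun c x => LinearMap.map_smulₛₗ π₂ c x }
  obtain ⟨a, ha⟩ := Module.projective_lifting_property l₂ l₁ h2
  obtain ⟨b, hb⟩ := Module.projective_lifting_property l₁ l₂ h1
  have ha' : ∀ x, π₂ (a x) = π₁ x := fun x => LinearMap.congr_fun ha x
  have hb' : ∀ x, π₁ (b x) = π₂ x := fun x => LinearMap.congr_fun hb x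
  have hsa : Function.Surjective a := by
    rw [← LinearMap.range_eq_top]
    refine top_le_iff.mp (Submodule.le_of_le_smul_of_le_jacobson_bot Module.Finite.fg_top hJ ?_)
    intro y _
    obtain ⟨x, hx⟩ := h1 (π₂ y)
    refine Submodule.mem_sup.mpr ⟨a x, LinearMap.mem_range_self a x, y - a x, ?_, add_sub_cancel _ _⟩
    rw [← k2, LinearMap.mem_ker, map_sub, ha', hx, sub_self]
  have hsb : Function.Surjective b := by
    rw [← LinearMap.range_eq_top]
    refine top_le_iff.mp (Submodule.le_of_le_smul_of_le_jacobson_bot Module.Finite.fg_top hJ ?_)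
    intro y _
    obtain ⟨x, hx⟩ := h2 (π₁ y)
    refine Submodule.mem_sup.mpr ⟨b x, LinearMap.mem_range_self b x, y - b x, ?_, add_sub_cancel _ _⟩
    rw [← k1, LinearMap.mem_ker, map_sub, hb', hx, sub_self]
  have hbij : Function.Bijective (b.comp a) :=
    OrzechProperty.bijective_of_surjective_endomorphism _ (hsb.comp hsa)
  exact ⟨LinearEquiv.ofBijective a ⟨fun x y h => hbij.1 (congrArg b h), hsa⟩, ha'⟩

/-- Let p be a prime and S → R a surjective homomorphism of commutative rings such that every element of
its kernel 𝔞 is nilpotent and p is nilpotent in S; write J = W(𝔞) for the kernel of the induced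
surjection W(S) → W(R) of rings of p-typical Witt vectors. Then finitely generated projective
modules lift along W(S) → W(R), uniquely up to isomorphism: for every finitely generated projective
W(R)-module P there is a finitely generated projective W(S)-module P̃ together with a surjection P̃
→ P, semilinear over W(S) → W(R), whose kernel is J·P̃ (that is, an isomorphism W(R) ⊗_{W(S)} P̃ ≅
P); and for any two such pairs (P̃_1, π_1), (P̃_2, π_2) there is a W(S)-linear isomorphism P̃_1 ≅
P̃_2 compatible with π_1 and π_2. -/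
theorem result (p : ℕ) [Fact p.Prime] (S R : Type u)
    [CommRing S] [CommRing R] (φ : S →+* R) (hφ : Function.Surjective φ)
    (hnil : ∀ a : S, φ a = 0 → IsNilpotent a) (hp : IsNilpotent (p : S))
    (P : Type u) [AddCommGroup P] [Module (WittVector p R) P]
    [Module.Finite (WittVector p R) P] [Module.Projective (WittVector p R) P] :
    (∃ (P' : Type u) (_ : AddCommGroup P') (_ : Module (WittVector p S) P'),
        Module.Finite (WittVector p S) P' ∧ Module.Projective (WittVector p S) P' ∧
          ∃ π : P' →ₛₗ[WittVector.map (p := p) φ] P, Function.Surjective π ∧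
            LinearMap.ker π = RingHom.ker (WittVector.map (p := p) φ) • (⊤ : Submodule (WittVector p S) P')) ∧
      ∀ (P₁ : Type u) [AddCommGroup P₁] [Module (WittVector p S) P₁]
        [Module.Finite (WittVector p S) P₁] [Module.Projective (WittVector p S) P₁]
        (P₂ : Type u) [AddCommGroup P₂] [Module (WittVector p S) P₂]
        [Module.Finite (WittVector p S) P₂] [Module.Projective (WittVector p S) P₂]
        (π₁ : P₁ →ₛₗ[WittVector.map (p := p) φ] P) (π₂ : P₂ →ₛₗ[WittVector.map (p := p) φ] P),
        Function.Surjective π₁ →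
          LinearMap.ker π₁ = RingHom.ker (WittVector.map (p := p) φ) • (⊤ : Submodule (WittVector p S) P₁) →
        Function.Surjective π₂ →
          LinearMap.ker π₂ = RingHom.ker (WittVector.map (p := p) φ) • (⊤ : Submodule (WittVector p S) P₂) →
        ∃ e : P₁ ≃ₗ[WittVector p S] P₂, ∀ x : P₁, π₂ (e x) = π₁ x := by
  exact ⟨exists_lift φ hφ hnil hp P, fun P₁ _ _ _ _ P₂ _ _ _ _ π₁ π₂ h1 k1 h2 k2 =>
    exists_iso φ hnil hp P P₁ P₂ π₁ π₂ h1 k1 h2 k2⟩

end Groth.Agent.S14867
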