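import Groth.Statements.S14869
import Mathlib.Algebra.Category.ModuleCat.Abelian
import Mathlib.CategoryTheory.Limits.Shapes.Countable
import Mathlib.CategoryTheory.Limits.Types.Pullbacks
import Mathlib.Dynamics.Newton
import Mathlib.Order.CompletePartialOrder
import Mathlib.RingTheory.AdicCompletion.Noetherian
import Mathlib.RingTheory.Etale.Weakly
import Mathlib.RingTheory.Flat.TorsionFree
import Mathlib.RingTheory.Ideal.AssociatedPrime.Localization
import Mathlib.RingTheory.PicardGroup
import Mathlib.RingTheory.PowerSeries.NoZeroDivisors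
import Mathlib.RingTheory.PowerSeries.Trunc
import Mathlib.RingTheory.TotallySplit
import Mathlib.Tactic
import Groth.Agent.CommAlg4.Nilpotent
import Groth.Agent.S14020

set_option linter.all false

set_option autoImplicit false
universe u v w
open CAlg

open CategoryTheory

namespace Groth.Agent.S14869

open TensorProduct in
/-- Let S → R be a surjective homomorphism of commutative rings, let π : P_1 → P_2 be a surjective
homomorphism of S-modules with P_2 projective, and let π̄ : R ⊗_S P_1 → R ⊗_S P_2 be its base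
change. Then every R-linear section σ̄ of π̄ lifts to a section of π: there is an S-linear map σ :
P_2 → P_1 with π ∘ σ = id whose base change R ⊗_S σ is σ̄. -/
theorem result (S R : Type u) [CommRing S] [CommRing R] [Algebra S R]
    (hSR : Function.Surjective (algebraMap S R))
    (P₁ : Type v) [AddCommGroup P₁] [Module S P₁]
    (P₂ : Type w) [AddCommGroup P₂] [Module S P₂] [Module.Projective S P₂]
    (π : P₁ →ₗ[S] P₂) (hπ : Function.Surjective π)
    (σ' : R ⊗[S] P₂ →ₗ[R] R ⊗[S] P₁) (hσ' : (π.baseChange R).comp σ' = LinearMap.id) :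
    ∃ σ : P₂ →ₗ[S] P₁, π.comp σ = LinearMap.id ∧ σ.baseChange R = σ' := by
  let F : P₁ →ₗ[S] P₂ × (R ⊗[S] P₁) := π.prod (TensorProduct.mk S R P₁ 1)
  let T : P₂ →ₗ[S] P₂ × (R ⊗[S] P₁) := LinearMap.id.prod ((σ'.restrictScalars S) ∘ₗ TensorProduct.mk S R P₂ 1)
  have hT : ∀ x, T x ∈ LinearMap.range F := by
    intro x
    obtain ⟨y, hy⟩ := TensorProduct.mk_surjective S P₁ R hSR (σ' (1 ⊗ₜ x))
    have h1 : (1 : R) ⊗ₜ[S] (π y - x) = 0 := by
      have := congrArg (fun f : R ⊗[S] P₂ →ₗ[R] R ⊗[S] P₂ => f (1 ⊗ₜ x)) hσ'
      simp only [LinearMap.comp_apply, LinearMap.id_apply, ← hy, TensorProduct.mk_apply, LinearMap.baseChange_tmul] at this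
      rw [TensorProduct.tmul_sub, this, sub_self]
    -- correct y by the kernel
    have hker : π y - x ∈ Submodule.map π (LinearMap.ker (TensorProduct.mk S R P₁ 1)) := by
      have e : Function.Exact (LinearMap.ker (Algebra.linearMap S R)).subtype (Algebra.linearMap S R) := LinearMap.exact_subtype_ker_map _
      have hex := rTensor_exact P₂ e hSR
      have h2 : (Algebra.linearMap S R).rTensor P₂ (1 ⊗ₜ (π y - x)) = 0 := by simpa using h1
      obtain ⟨z, hz⟩ := (hex _).mp h2
      have h3 := congrArg (TensorProduct.lid S P₂) hz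
      rw [TensorProduct.lid_tmul, one_smul] at h3
      rw [← h3]
      clear hz h3
      induction z using TensorProduct.induction_on with
      | zero => simp
      | tmul a m =>
        obtain ⟨m', rfl⟩ := hπ m
        refine ⟨(a : S) • m', ?_, by simp⟩
        rw [SetLike.mem_coe, LinearMap.mem_ker, TensorProduct.mk_apply, ← TensorProduct.smul_tmul, Algebra.smul_def, mul_one, show algebraMap S R a = 0 from a.2, TensorProduct.zero_tmul]
      | add u v hu hv => rw [map_add, map_add]; exact add_mem hu hv
    obtain ⟨d, hd, hd'⟩ := hker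
    refine ⟨y - d, Prod.ext ?_ ?_⟩
    · simp [F, T, hd']
    · show TensorProduct.mk S R P₁ 1 (y - d) = σ' (1 ⊗ₜ x)
      rw [map_sub, LinearMap.mem_ker.mp hd, sub_zero, hy]
  obtain ⟨σ, hσ⟩ := Module.projective_lifting_property F.rangeRestrict (T.codRestrict _ hT) F.surjective_rangeRestrict
  have h : ∀ x, F (σ x) = T x := fun x => congrArg Subtype.val (LinearMap.congr_fun hσ x)
  refine ⟨σ, LinearMap.ext fun x => congrArg Prod.fst (h x), ?_⟩
  refine TensorProduct.AlgebraTensorModule.ext fun r x => ?_
  have : r ⊗ₜ[S] x = r • ((1 : R) ⊗ₜ[S] x) := by simp [TensorProduct.smul_tmul']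
  rw [this, map_smul, map_smul, LinearMap.baseChange_tmul]
  exact congrArg (r • ·) (congrArg Prod.snd (h x))

end Groth.Agent.S14869
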