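import Groth.Statements.S14873
import Groth.Agent.PLieLib.Hom

set_option autoImplicit false
universe u v
open PLie

namespace Groth.Agent.S14873

/-- Let `L` be a finite-dimensional Lie algebra over a field of characteristic `p` equipped with a
`p`-mapping `φ`, and let `I` be an ideal of `L` stable under `φ` all of whose elements are
`p`-nilpotent (for instance the `p`-radical, the largest such ideal). Then `I` is nilpotent as a Lie
ring, hence lies in the nilradical of `L`. (The published item also records that the nilradical lies
in the solvable radical, which is immediate since nilpotent ideals are solvable.) -/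
theorem result
    (k : Type u) [Field k] (p : ℕ) [Fact p.Prime] [CharP k p]
    (L : Type v) [LieRing L] [LieAlgebra k L] [Module.Finite k L]
    (φ : PLie.PMap k p L) (I : LieIdeal k L) (hsub : ∀ x ∈ I, φ x ∈ I)
    (hnil : ∀ x ∈ I, PLie.IsPNilpotent φ x) : LieRing.IsNilpotent I := by
  refine (LieAlgebra.isNilpotent_iff_forall (R := k)).mpr fun x => ?_
  obtain ⟨n, hn⟩ := hnil x.1 x.2
  have h0 : LieAlgebra.ad k L x.1 ^ p ^ n = 0 := by rw [← PLieLib.ad_pmap_iterate, hn, map_zero]
  refine ⟨p ^ n, LinearMap.ext fun w => Subtype.ext ?_⟩
  have := PLieLib.hom_ad_pow I.incl x (p ^ n) w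
  exact this.trans (by rw [show I.incl x = x.1 from rfl, h0]; rfl)

end Groth.Agent.S14873
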