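import Groth.Statements.S14875
import Groth.Agent.PLieLib.Hom
import Mathlib.Algebra.Lie.Killing
import Mathlib.LinearAlgebra.BilinearForm.Orthogonal
import Mathlib.LinearAlgebra.Trace

set_option autoImplicit false
universe u v
open PLie

namespace Groth.Agent.S14875

/-- Let `L` be a finite-dimensional Lie algebra over a field of characteristic `p` equipped with a
`p`-mapping `φ`, whose Killing form is non-degenerate. Let `U` and `H` be Lie subalgebras of `L`
such that `H` is the normaliser of `U`, `U` is the set of elements of `H` that lie in the solvable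
radical of `H` and are `p`-nilpotent, and the orthogonal of `U` for the Killing form is closed under
the bracket. Then `U` is the orthogonal of `H` for the Killing form. (The published statement is for
the Lie algebra of a reductive group over a field of characteristic `p` with its canonical
`p`-structure; this row states it for any finite-dimensional Lie algebra with a `p`-mapping.) -/
theorem result
    (k : Type u) [Field k] (p : ℕ) [Fact p.Prime] [CharP k p]
    (L : Type v) [LieRing L] [LieAlgebra k L] [Module.Finite k L]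
    (φ : PLie.PMap k p L) (hκ : (killingForm k L).Nondegenerate)
    (U H : LieSubalgebra k L) (hH : H = U.normalizer)
    (hU : ∀ x : L, x ∈ U ↔ ∃ hx : x ∈ H, (⟨x, hx⟩ : ↥H) ∈ LieAlgebra.radical k ↥H ∧ PLie.IsPNilpotent φ x)
    (hperp : ∀ a b : L, (∀ y ∈ U, killingForm k L a y = 0) → (∀ y ∈ U, killingForm k L b y = 0) →
      ∀ y ∈ U, killingForm k L ⁅a, b⁆ y = 0) :
    ∀ x : L, x ∈ U ↔ ∀ h ∈ H, killingForm k L h x = 0 := by
  subst hH
  let I : LieIdeal k ↥U.normalizer :=
    { toSubmodule := U.toSubmodule.comap U.normalizer.toSubmodule.subtype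
      lie_mem := fun {h x} hx => (LieSubalgebra.mem_normalizer_iff U _).mp h.2 _ hx }
  have hpn : ∀ u ∈ U, IsNilpotent (LieAlgebra.ad k L u) := fun u hu => by
    obtain ⟨_, -, n, hn⟩ := (hU u).mp hu
    exact ⟨p ^ n, by rw [← PLieLib.ad_pmap_iterate, hn, map_zero]⟩
  have hnil : LieModule.IsNilpotent I L :=
    (LieModule.isNilpotent_iff_forall (R := k)).mpr fun x => hpn x.1.1 x.2
  obtain ⟨m, hm⟩ := LieModule.IsNilpotent.nilpotent k I L
  have hzero : ∀ h ∈ U.normalizer, ∀ u ∈ U, killingForm k L h u = 0 := by
    intro h hh u hu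
    have hmem : ∀ j (v : L), ((LieAlgebra.ad k L h ∘ₗ LieAlgebra.ad k L u) ^ j) v ∈ I.lcs L j := by
      intro j
      induction j with
      | zero => intro v; trivial
      | succ j ih =>
        intro v
        rw [pow_succ', Module.End.mul_apply, LieIdeal.lcs_succ, LinearMap.comp_apply]
        refine (⁅I, I.lcs L j⁆ : LieSubmodule k ↥U.normalizer L).lie_mem (x := (⟨h, hh⟩ : ↥U.normalizer)) ?_
        have hu' : (⟨u, U.le_normalizer hu⟩ : ↥U.normalizer) ∈ I := hu
        exact LieSubmodule.lie_mem_lie hu' (ih v)
    refine IsNilpotent.eq_zero (LinearMap.isNilpotent_trace_of_isNilpotent ⟨m, LinearMap.ext fun v => ?_⟩)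
    have h2 : (I.lcs L m).toSubmodule = ⊥ := by rw [LieIdeal.coe_lcs_eq, hm, LieSubmodule.bot_toSubmodule]
    have := hmem m v
    rw [← LieSubmodule.mem_toSubmodule, h2, Submodule.mem_bot] at this
    exact this
  have hc : ∀ a b : L, killingForm k L a b = killingForm k L b a := LieModule.traceForm_comm k L L
  let B : LinearMap.BilinForm k L := killingForm k L
  have hB : B.orthogonal (B.orthogonal U.toSubmodule) = U.toSubmodule :=
    LinearMap.BilinForm.orthogonal_orthogonal hκ (fun a b h => (hc b a).trans h) _
  intro x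
  refine ⟨fun hx h hh => hzero h hh x hx, fun hx => ?_⟩
  change x ∈ U.toSubmodule
  rw [← hB]
  intro w hw
  have hw' : ∀ y ∈ U, killingForm k L w y = 0 := fun y hy => (hc w y).trans (hw y hy)
  refine hx w ((LieSubalgebra.mem_normalizer_iff U w).mpr fun u hu => ?_)
  change ⁅w, u⁆ ∈ U.toSubmodule
  rw [← hB]
  intro y hy
  have hy' : ∀ z ∈ U, killingForm k L y z = 0 := fun z hz => (hc y z).trans (hy z hz)
  have := hperp y w hy' hw' u hu
  exact (LieModule.traceForm_apply_lie_apply k L L y w u).symm.trans this

end Groth.Agent.S14875
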