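import Groth.Statements.S14877
import Groth.Agent.AlgGrpLib.TorsorMap
import Groth.Agent.Et18.Descent
import Groth.Agent.SGA3cLib.ActionPoints
import Groth.Agent.AlgSpLib.FppfLocal

set_option autoImplicit false
set_option backward.isDefEq.respectTransparency.types false

universe u
open CategoryTheory MonoidalCategory CartesianMonoidalCategory MonObj GrpObj AlgebraicGeometry CategoryTheory.Limits
open AlgGrp

namespace Groth.Agent.S14877

/-- Over an algebraically closed field k of characteristic zero, let G be an algebraic group (a smooth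
k-group scheme of finite type) acting on a variety P (reduced, separated, of finite type over k),
and let π : P → X be a geometric quotient by this action onto a variety X: π is invariant,
surjective and open, the map (g, p) ↦ (g·p, p) from G × P to P ×_X P is surjective on points, and
for every open U of X the sections of O_X over U are exactly the invariant sections of O_P over
π⁻¹U. Suppose the bundle is locally isotrivial: every point of X has an open neighbourhood U with a
finite étale surjective morphism U' → U and a morphism s : U' → P lifting U' → U → X such that (u,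
g) ↦ g·s(u) exhibits U' × G as the fibre product U' ×_X P. Then the bundle is principal: (g, p) ↦
(g·p, p) is an isomorphism of G × P onto P ×_X P, and π is flat. (The published definition of an
étale covering asks only for a finite étale morphism; this row also requires it to be surjective,
since an empty cover would make every bundle isotrivial.) -/
theorem result (k : Type u) [Field k] [IsAlgClosed k] [CharZero k]
    (G P X : Over (Spec (CommRingCat.of k))) [GrpObj G] [Smooth G.hom] [QuasiCompact G.hom]
    [LocallyOfFiniteType P.hom] [QuasiCompact P.hom] [IsSeparated P.hom] [IsReduced P.left]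
    [LocallyOfFiniteType X.hom] [QuasiCompact X.hom] [IsSeparated X.hom] [IsReduced X.left]
    (a : AlgGrp.Action G P) (π : P ⟶ X) (hinv : GIT.IsInvariant a π)
    (hq : Function.Surjective π.left.base ∧ IsOpenMap π.left.base ∧
      Function.Surjective (GIT.PsiY a π hinv).base ∧
      ∀ U : X.left.Opens, Function.Injective (π.left.app U) ∧
        Set.range (π.left.app U) = {f | GIT.IsInvSection a π U f})
    (hli : ∀ x : ↥X.left, ∃ (U : X.left.Opens) (_ : x ∈ U) (U' : Scheme.{u}) (φ : U' ⟶ ↑U)
      (_ : IsFinite φ) (_ : Etale φ) (_ : Surjective φ) (s : Over.mk (φ ≫ U.ι ≫ X.hom) ⟶ P),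
      s.left ≫ π.left = φ ≫ U.ι ∧
      IsPullback (fst (Over.mk (φ ≫ U.ι ≫ X.hom)) G).left (lift (snd (Over.mk (φ ≫ U.ι ≫ X.hom)) G) (fst (Over.mk (φ ≫ U.ι ≫ X.hom)) G ≫ s) ≫ a.act).left
        (φ ≫ U.ι) π.left) :
    IsIso (GIT.PsiY a π hinv) ∧ Flat π.left := by
  have main : ∀ x : ↥X.left, ∃ U : X.left.Opens, x ∈ U ∧ Flat (π.left ∣_ U) ∧
      IsIso (GIT.PsiY a π hinv ∣_ ((pullback.snd π.left π.left ≫ π.left) ⁻¹ᵁ U)) := by
    intro x
    obtain ⟨U, hxU, U', φ, hfin, het, hsur, s, hs, hsq⟩ := hli x
    refine ⟨U, hxU, ?_⟩
    let W : Over (Spec (CommRingCat.of k)) := Over.mk (φ ≫ U.ι ≫ X.hom)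
    let φ' : W ⟶ X := Over.homMk (φ ≫ U.ι) (by simp [W])
    let m : W ⊗ G ⟶ P := lift (snd W G) (fst W G ≫ s) ≫ a.act
    have sq : IsPullback m (fst W G) π φ' :=
      IsPullback.of_map (Over.forget _) (Over.OverMorphism.ext (by
        simp only [Over.comp_left]
        exact hsq.w.symm)) hsq.flip
    have hQ : (@Surjective ⊓ @Flat ⊓ @QuasiCompact : MorphismProperty Scheme.{u}) φ :=
      ⟨⟨hsur, inferInstance⟩, inferInstance⟩
    constructor
    · have hr := isPullback_morphismRestrict π.left U
      have hsq2 : IsPullback m.left (fst W G).left π.left (φ ≫ U.ι) := hsq.flip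
      have hmU : Set.range m.left ⊆ Set.range (π.left ⁻¹ᵁ U).ι := by
        rw [Scheme.Opens.range_ι]
        rintro _ ⟨p, rfl⟩
        have h := congrArg (fun t => t.base p) hsq2.w
        change π.left.base (m.left.base p) ∈ U
        simp only [Scheme.Hom.comp_base, TopCat.comp_app] at h
        rw [h]
        exact ((φ.base ((fst W G).left.base p))).2
      let m' := IsOpenImmersion.lift (π.left ⁻¹ᵁ U).ι m.left hmU
      have h1 : IsPullback m' (fst W G).left (π.left ∣_ U) φ := by
        refine IsPullback.of_right ?_ ?_ hr.flip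
        · rw [IsOpenImmersion.lift_fac]
          exact hsq2
        · rw [← cancel_mono U.ι, Category.assoc, Category.assoc, morphismRestrict_ι,
            IsOpenImmersion.lift_fac_assoc, hsq2.w]
      haveI := Groth.Agent.AlgSpLib.descends_flat.{u}
      haveI : Flat G.hom := inferInstance
      exact MorphismProperty.of_isPullback_of_descendsAlong (P := @Flat)
        (Q := Groth.Agent.Et18.FPQC.{u}) h1.flip hQ
        (MorphismProperty.pullback_fst (P := @Flat) W.hom G.hom inferInstance)
    · set Ψ := GIT.PsiY a π hinv with hΨ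
      let d := pullback.snd π.left π.left ≫ π.left
      have hP1 : Ψ ≫ pullback.fst π.left π.left = a.act.left := pullback.lift_fst _ _ _
      have hP2 : Ψ ≫ pullback.snd π.left π.left = (snd G P).left := pullback.lift_snd _ _ _
      have hΨd : Ψ ≫ d = (snd G P).left ≫ π.left := by
        rw [hΨ]; exact pullback.lift_snd_assoc _ _ _ _
      have sqB : IsPullback (G ◁ m).left ((snd G (W ⊗ G)).left ≫ (fst W G).left) (Ψ ≫ d) (φ ≫ U.ι) := by
        rw [hΨd]
        exact (Groth.Agent.AlgGrpLib.TorsorMap.isPullback_whiskerLeft (H := G) m).paste_vert hsq.flip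
      have key : IsPullback ((G ◁ m).left ≫ Ψ) ((snd G (W ⊗ G)).left ≫ (fst W G).left) d (φ ≫ U.ι) := by
        have hw : ((G ◁ m).left ≫ Ψ) ≫ d = ((snd G (W ⊗ G)).left ≫ (fst W G).left) ≫ φ ≫ U.ι := by
          rw [Category.assoc]; exact sqB.w
        have hdec : ∀ {T : Over (Spec (CommRingCat.of k))} (g : T ⟶ G) (t : T ⟶ W ⊗ G),
            lift g t ≫ (G ◁ m) ≫ a.act = lift (t ≫ fst W G) (g * (t ≫ snd W G)) ≫ m := by
          intro T g t
          have hm : m = Groth.Agent.SGA3cLib.smulPt a (snd W G) (fst W G ≫ s) := rfl
          rw [lift_whiskerLeft_assoc, hm]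
          change Groth.Agent.SGA3cLib.smulPt a g (t ≫ Groth.Agent.SGA3cLib.smulPt a (snd W G) (fst W G ≫ s)) = _
          rw [Groth.Agent.SGA3cLib.comp_smulPt, Groth.Agent.SGA3cLib.comp_smulPt,
            ← Groth.Agent.SGA3cLib.mul_smulPt, lift_snd, lift_fst_assoc, Category.assoc]
        have hlift : ∀ c : PullbackCone d (φ ≫ U.ι), ∃ v : c.pt ⟶ (G ⊗ (W ⊗ G)).left,
            v ≫ (G ◁ m).left ≫ Ψ = c.fst ∧ v ≫ (snd G (W ⊗ G)).left ≫ (fst W G).left = c.snd ∧
            ∀ w : c.pt ⟶ (G ⊗ (W ⊗ G)).left, w ≫ (G ◁ m).left ≫ Ψ = c.fst →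
              w ≫ (snd G (W ⊗ G)).left ≫ (fst W G).left = c.snd → w = v := by
          intro c
          let T : Over (Spec (CommRingCat.of k)) := Over.mk (c.snd ≫ W.hom)
          let u0 : T ⟶ W := Over.homMk c.snd rfl
          have hc : c.fst ≫ pullback.snd π.left π.left ≫ π.left = c.snd ≫ φ ≫ U.ι := c.condition
          have hc1 : (c.fst ≫ pullback.fst π.left π.left) ≫ π.left = c.snd ≫ φ ≫ U.ι := by
            rw [Category.assoc, pullback.condition]; exact hc
          let p1 : T ⟶ P := Over.homMk (c.fst ≫ pullback.fst π.left π.left) (by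
            rw [← Over.w π, ← Category.assoc, hc1]
            simp [T, W])
          let p2 : T ⟶ P := Over.homMk (c.fst ≫ pullback.snd π.left π.left) (by
            rw [← Over.w π, Category.assoc, reassoc_of% hc]
            simp [T, W])
          have e1 : p1 ≫ π = u0 ≫ φ' := Over.OverMorphism.ext (by simpa [p1, u0, φ'] using hc1)
          have e2 : p2 ≫ π = u0 ≫ φ' := Over.OverMorphism.ext (by simpa [p2, u0, φ'] using hc)
          let t1 := sq.lift p1 u0 e1
          let t2 := sq.lift p2 u0 e2
          let g : T ⟶ G := (t1 ≫ snd W G) * (t2 ≫ snd W G)⁻¹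
          have v1 : lift g t2 ≫ (G ◁ m) ≫ a.act = p1 := by
            rw [hdec]
            have : lift (t2 ≫ fst W G) (g * (t2 ≫ snd W G)) = t1 := by
              apply CartesianMonoidalCategory.hom_ext
              · simp [t1, t2]
              · simp [g]
            rw [this]
            exact sq.lift_fst p1 u0 e1
          have v2 : lift g t2 ≫ (G ◁ m) ≫ snd G P = p2 := by
            rw [whiskerLeft_snd, lift_snd_assoc]
            exact sq.lift_fst p2 u0 e2
          refine ⟨(lift g t2).left, ?_, ?_, ?_⟩
          · apply pullback.hom_ext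
            · simp only [Category.assoc, hΨ, GIT.PsiY, pullback.lift_fst]
              exact congrArg CommaMorphism.left v1
            · simp only [Category.assoc, hΨ, GIT.PsiY, pullback.lift_snd]
              exact congrArg CommaMorphism.left v2
          · have : lift g t2 ≫ snd G (W ⊗ G) ≫ fst W G = u0 := by
              rw [lift_snd_assoc]; exact sq.lift_snd p2 u0 e2
            exact congrArg CommaMorphism.left this
          · intro w w1 w2
            let w' : T ⟶ G ⊗ (W ⊗ G) := Over.homMk w (by
              change w ≫ _ = c.snd ≫ W.hom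
              rw [← w2, Category.assoc, Category.assoc, Over.w (fst W G), Over.w (snd G (W ⊗ G))])
            have wu : (w' ≫ snd G (W ⊗ G)) ≫ fst W G = u0 := Over.OverMorphism.ext (by simpa [w', u0] using w2)
            have wp1 : w' ≫ (G ◁ m) ≫ a.act = p1 := Over.OverMorphism.ext (by
              have := congrArg (fun r => r ≫ pullback.fst π.left π.left) w1
              simpa [w', p1, hP1] using this)
            have wp2 : w' ≫ (G ◁ m) ≫ snd G P = p2 := Over.OverMorphism.ext (by
              have := congrArg (fun r => r ≫ pullback.snd π.left π.left) w1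
              simpa [w', p2, hP2] using this)
            have a2 : w' ≫ snd G (W ⊗ G) = t2 := by
              apply sq.hom_ext
              · rw [sq.lift_fst, Category.assoc, ← whiskerLeft_snd G m]
                exact wp2
              · rw [sq.lift_snd]; exact wu
            have a1 : lift ((w' ≫ snd G (W ⊗ G)) ≫ fst W G) ((w' ≫ fst G (W ⊗ G)) * ((w' ≫ snd G (W ⊗ G)) ≫ snd W G)) = t1 := by
              apply sq.hom_ext
              · rw [sq.lift_fst, ← hdec]
                have : lift (w' ≫ fst G (W ⊗ G)) (w' ≫ snd G (W ⊗ G)) = w' := by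
                  apply CartesianMonoidalCategory.hom_ext <;> simp
                rw [this]
                exact wp1
              · rw [sq.lift_snd, lift_fst]; exact wu
            have : w' = lift g t2 := by
              apply CartesianMonoidalCategory.hom_ext
              · have := congrArg (fun r => r ≫ snd W G) a1
                simp only [lift_snd] at this
                rw [lift_fst]
                simp only [g, ← this, a2]
                simp
              · rw [lift_snd]; exact a2
            exact congrArg CommaMorphism.left this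
        choose L h1 h2 h3 using hlift
        exact ⟨⟨hw⟩, ⟨PullbackCone.IsLimit.mk _ L h1 h2 fun c w w1 w2 => h3 c w w1 w2⟩⟩
      have sqT : IsPullback (G ◁ m).left (𝟙 _) Ψ ((G ◁ m).left ≫ Ψ) := by
        refine IsPullback.of_bot ?_ (by simp) key
        rw [Category.id_comp]
        exact sqB
      let V := d ⁻¹ᵁ U
      have htop : Set.range ((G ◁ m).left ≫ Ψ) ⊆ Set.range V.ι := by
        rw [Scheme.Opens.range_ι]
        rintro _ ⟨p, rfl⟩
        have h := congrArg (fun t => t.base p) key.w
        change d.base (((G ◁ m).left ≫ Ψ).base p) ∈ U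
        simp only [Scheme.Hom.comp_base, TopCat.comp_app] at h ⊢
        rw [h]
        exact (φ.base _).2
      let top' := IsOpenImmersion.lift V.ι ((G ◁ m).left ≫ Ψ) htop
      have k1 : IsPullback top' ((snd G (W ⊗ G)).left ≫ (fst W G).left) (d ∣_ U) φ := by
        refine IsPullback.of_right ?_ ?_ (isPullback_morphismRestrict d U).flip
        · rw [IsOpenImmersion.lift_fac]
          exact key
        · rw [← cancel_mono U.ι, Category.assoc, Category.assoc, morphismRestrict_ι,
            IsOpenImmersion.lift_fac_assoc, key.w]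
      have hmV : Set.range (G ◁ m).left ⊆ Set.range (Ψ ⁻¹ᵁ V).ι := by
        rw [Scheme.Opens.range_ι]
        rintro _ ⟨p, rfl⟩
        have := htop ⟨p, rfl⟩
        rw [Scheme.Opens.range_ι] at this
        exact this
      let mV := IsOpenImmersion.lift (Ψ ⁻¹ᵁ V).ι (G ◁ m).left hmV
      have k2 : IsPullback mV (𝟙 _) (Ψ ∣_ V) top' := by
        refine IsPullback.of_right ?_ ?_ (isPullback_morphismRestrict Ψ V).flip
        · rw [IsOpenImmersion.lift_fac, IsOpenImmersion.lift_fac]
          exact sqT
        · rw [← cancel_mono V.ι, Category.assoc, Category.assoc, morphismRestrict_ι,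
            IsOpenImmersion.lift_fac_assoc, IsOpenImmersion.lift_fac, Category.id_comp]
      exact MorphismProperty.of_isPullback_of_descendsAlong
        (P := MorphismProperty.isomorphisms Scheme.{u}) k2.flip
        (show Groth.Agent.Et18.FPQC.{u} top' from
          ⟨⟨MorphismProperty.of_isPullback k1.flip hQ.1.1, MorphismProperty.of_isPullback k1.flip hQ.1.2⟩,
            MorphismProperty.of_isPullback k1.flip hQ.2⟩)
        (inferInstanceAs (IsIso (𝟙 _)))
  choose U hxU hflat hiso using main
  have hsup : ⨆ x, U x = ⊤ := eq_top_iff.mpr fun x _ => TopologicalSpace.Opens.mem_iSup.2 ⟨x, hxU x⟩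
  refine ⟨?_, IsZariskiLocalAtTarget.of_iSup_eq_top (P := @Flat) U hsup hflat⟩
  exact IsZariskiLocalAtTarget.of_iSup_eq_top (P := MorphismProperty.isomorphisms Scheme.{u})
    (fun x => (pullback.snd π.left π.left ≫ π.left) ⁻¹ᵁ U x)
    (by rw [← Scheme.Hom.preimage_iSup, hsup]; rfl) hiso

end Groth.Agent.S14877
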