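import Groth.Statements.S14878
import Groth.Agent.AlgGrpLib.GroupBundle

set_option autoImplicit false
set_option backward.isDefEq.respectTransparency.types false
set_option maxHeartbeats 800000
universe u
open CategoryTheory MonoidalCategory CartesianMonoidalCategory MonObj GrpObj AlgebraicGeometry CategoryTheory.Limits
open AlgGrp

namespace Groth.Agent.S14878

/-- Over an algebraically closed field k of characteristic zero, let G be a connected algebraic group (a
smooth connected k-group scheme of finite type), let H be an algebraic subgroup of G (a smooth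
closed subgroup scheme, j : H → G), and let H act on a variety X (reduced, separated, of finite type
over k) in which every finite set of points is contained in an affine open subset. Let H act on G ×
X by h·(g, x) = (g·h⁻¹, h·x). Then this action has a geometric quotient q : G × X → Q with Q a
variety: q is invariant, surjective and open, the map (h, y) ↦ (h·y, y) from H × (G × X) to (G × X)
×_Q (G × X) is surjective on points, and over every open U of Q the sections of O_Q are exactly the
invariant sections over q⁻¹U. Moreover the H-bundle G × X → Q is principal, that is (h, y) ↦ (h·y,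
y) is an isomorphism onto (G × X) ×_Q (G × X) and q is flat, and it is locally isotrivial: every
point of Q has an open neighbourhood U with a finite étale surjective U' → U and a morphism s : U' →
G × X lifting U' → U → Q such that (u, h) ↦ h·s(u) exhibits U' × H as the fibre product U' ×_Q (G ×
X). -/
theorem result (k : Type u) [Field k] [IsAlgClosed k] [CharZero k]
    (G H X : Over (Spec (CommRingCat.of k))) [GrpObj G] [Smooth G.hom] [QuasiCompact G.hom]
    [ConnectedSpace ↥G.left] [GrpObj H] (j : H ⟶ G) [IsMonHom j] [IsClosedImmersion j.left] [Smooth H.hom]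
    [LocallyOfFiniteType X.hom] [QuasiCompact X.hom] [IsSeparated X.hom] [IsReduced X.left]
    (hF : ∀ F : Finset ↥X.left, ∃ U : X.left.Opens, IsAffineOpen U ∧ (↑F : Set ↥X.left) ⊆ (U : Set ↥X.left))
    (aX : AlgGrp.Action H X) (b : AlgGrp.Action H (G ⊗ X))
    (hb : ∀ (T : Over (Spec (CommRingCat.of k))) (h : T ⟶ H) (g : T ⟶ G) (x : T ⟶ X),
      lift h (lift g x) ≫ b.act = lift (g * (h ≫ j)⁻¹) (lift h x ≫ aX.act)) :
    ∃ (Q : Over (Spec (CommRingCat.of k))) (q : G ⊗ X ⟶ Q) (hinv : GIT.IsInvariant b q),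
      (LocallyOfFiniteType Q.hom ∧ QuasiCompact Q.hom ∧ IsSeparated Q.hom ∧ IsReduced Q.left) ∧
      (Function.Surjective q.left.base ∧ IsOpenMap q.left.base ∧
        Function.Surjective (GIT.PsiY b q hinv).base ∧
        ∀ U : Q.left.Opens, Function.Injective (q.left.app U) ∧
          Set.range (q.left.app U) = {f | GIT.IsInvSection b q U f}) ∧
      (IsIso (GIT.PsiY b q hinv) ∧ Flat q.left) ∧
      ∀ y : ↥Q.left, ∃ (U : Q.left.Opens) (_ : y ∈ U) (U' : Scheme.{u}) (φ : U' ⟶ ↑U)
        (_ : IsFinite φ) (_ : Etale φ) (_ : Surjective φ) (s : Over.mk (φ ≫ U.ι ≫ Q.hom) ⟶ G ⊗ X),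
        s.left ≫ q.left = φ ≫ U.ι ∧
        IsPullback (fst (Over.mk (φ ≫ U.ι ≫ Q.hom)) H).left (lift (snd (Over.mk (φ ≫ U.ι ≫ Q.hom)) H) (fst (Over.mk (φ ≫ U.ι ≫ Q.hom)) H ≫ s) ≫ b.act).left
          (φ ≫ U.ι) q.left := by
  classical
  haveI : IsReduced G.left := AbSchLib.isReduced_of_smooth G.hom
  haveI : LocallyOfFinitePresentation G.hom := LocallyOfFinitePresentation.iff_locallyOfFiniteType.2 inferInstance
  obtain ⟨Q₀, q₀, hl₀, hc₀, hsep₀, hsu₀, hfl₀, hfp₀, sq₀⟩ := Groth.Agent.AlgGrpLib.HomogQuot.exists_quotient j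
  haveI : IsReduced Q₀.left := AlgSpLib.isReduced_of_flat_surjective q₀.left
  haveI := LocallyOfFiniteType.isLocallyNoetherian Q₀.hom
  haveI : QuasiSeparated Q₀.hom := inferInstance
  haveI : QuasiCompact q₀.left := by
    haveI : QuasiCompact (q₀.left ≫ Q₀.hom) := by rw [Over.w]; infer_instance
    exact QuasiCompact.of_comp q₀.left Q₀.hom
  obtain ⟨a₀, ha₀⟩ := Groth.Agent.GrpQLib.exists_action_quotient j q₀ sq₀
  let r := Groth.Agent.AlgGrpLib.GroupBundle.rightInvAct j
  have hr₀ := Groth.Agent.AlgGrpLib.GroupBundle.isPullback_rightInvAct j q₀ sq₀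
  have hrl : IsPullback r.act.left (snd H G).left q₀.left q₀.left := hr₀.map (Over.forget _)
  have hloc₀ := Groth.Agent.AlgGrpLib.GroupBundle.locIsotrivial a₀ _ q₀ ha₀
  obtain ⟨Q, q, ψ, hinv, hp⟩ := Groth.Agent.AlgGrpLib.IsotrivialBundle.exists_bundle r q₀ hrl hloc₀ aX hF
  have hbr : b.act = (r.prod aX).act := by
    rw [← Category.id_comp b.act, ← Category.id_comp (r.prod aX).act]
    have e : 𝟙 (H ⊗ (G ⊗ X)) = lift (fst H (G ⊗ X)) (lift (snd H (G ⊗ X) ≫ fst G X) (snd H (G ⊗ X) ≫ snd G X)) := by
      apply CartesianMonoidalCategory.hom_ext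
      · simp
      · apply CartesianMonoidalCategory.hom_ext <;> simp
    rw [e, hb, Groth.Agent.AlgGrpLib.AssociatedBundle.prod_act_pts, lift_fst, lift_snd,
      Groth.Agent.AlgGrpLib.GroupBundle.lift_rightInvAct]
  have hinv' : GIT.IsInvariant b q := by
    show b.act ≫ q = _
    rw [hbr]; exact hinv
  have htor : IsPullback b.act.left (snd H (G ⊗ X)).left q.left q.left := by
    rw [hbr]
    exact (Groth.Agent.AlgGrpLib.AssociatedBundle.isPullback_prod r q₀ hrl aX q ψ hinv hp).map (Over.forget _)
  obtain ⟨hqf, hqs, hqp, hqc⟩ := Groth.Agent.AlgGrpLib.GroupBundle.flat_fst hp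
  haveI := hqf
  haveI := hqs
  haveI := hqp
  haveI := hqc
  have hgeo := Groth.Agent.AlgGrpLib.TorsorQuot.isGeomQuot_of_torsor b q hinv' htor
  haveI : IsSeparated (fst G X).left := MorphismProperty.pullback_fst (P := @IsSeparated) _ _ ‹IsSeparated X.hom›
  haveI : LocallyOfFiniteType (fst G X).left := MorphismProperty.pullback_fst (P := @LocallyOfFiniteType) _ _ ‹LocallyOfFiniteType X.hom›
  haveI : QuasiCompact (fst G X).left := MorphismProperty.pullback_fst (P := @QuasiCompact) _ _ ‹QuasiCompact X.hom›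
  haveI : LocallyOfFiniteType (G ⊗ X).hom := by rw [← Over.w (fst G X)]; infer_instance
  haveI : LocallyOfFinitePresentation (G ⊗ X).hom := LocallyOfFinitePresentation.iff_locallyOfFiniteType.2 inferInstance
  haveI : QuasiCompact (G ⊗ X).hom := by rw [← Over.w (fst G X)]; infer_instance
  haveI : IsSeparated ψ.left :=
    Et18.descends_isSeparated.of_isPullback hp ⟨⟨inferInstance, inferInstance⟩, inferInstance⟩ inferInstance
  haveI : IsReduced (G ⊗ X).left := by
    haveI : Smooth (snd G X).left := MorphismProperty.pullback_snd (P := @Smooth) _ _ ‹Smooth G.hom›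
    exact AbSchLib.isReduced_of_smooth (snd G X).left
  haveI : LocallyOfFinitePresentation Q.hom := AlgSpLib.lfp_of_comp_fppf q.left Q.hom (by rw [Over.w]; infer_instance)
  have hiso : IsIso (GIT.PsiY b q hinv') := by
    have : GIT.PsiY b q hinv' = htor.isoPullback.hom := by
      apply pullback.hom_ext
      · exact (pullback.lift_fst _ _ _).trans htor.isoPullback_hom_fst.symm
      · exact (pullback.lift_snd _ _ _).trans htor.isoPullback_hom_snd.symm
    rw [this]; infer_instance
  refine ⟨Q, q, hinv', ⟨inferInstance, ?_, ?_, AlgSpLib.isReduced_of_flat_surjective q.left⟩,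
    ⟨q.left.surjective, q.left.isOpenMap, hgeo.orbit, hgeo.sections⟩, ⟨hiso, inferInstance⟩, fun y => ?_⟩
  · haveI : QuasiCompact (q.left ≫ Q.hom) := by rw [Over.w]; infer_instance
    exact FlatMorThick.quasiCompact_of_comp_surjective q.left Q.hom
  · rw [← Over.w ψ]; infer_instance
  obtain ⟨V, hyV, V', p, s, hp1, hp2, hp3, hs⟩ := hloc₀ (ψ.left y)
  haveI := hp1
  haveI := hp2
  haveI := hp3
  let U := ψ.left ⁻¹ᵁ V
  let U' := pullback (ψ.left ∣_ V) p
  let φ : U' ⟶ U.toScheme := pullback.fst (ψ.left ∣_ V) p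
  haveI : IsFinite φ := MorphismProperty.pullback_fst _ _ inferInstance
  haveI : Etale φ := MorphismProperty.pullback_fst _ _ inferInstance
  haveI : Surjective φ := MorphismProperty.pullback_fst _ _ inferInstance
  let T : Over (Spec (CommRingCat.of k)) := Over.mk (φ ≫ U.ι ≫ Q.hom)
  have hw : (φ ≫ U.ι) ≫ ψ.left = (pullback.snd (ψ.left ∣_ V) p ≫ s) ≫ q₀.left := by
    rw [Category.assoc, Category.assoc, hs, ← morphismRestrict_ι, ← Category.assoc, ← Category.assoc,
      pullback.condition]
  let s₀ : U' ⟶ (G ⊗ X).left := hp.lift (pullback.snd (ψ.left ∣_ V) p ≫ s) (φ ≫ U.ι) hw.symm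
  have hs₀ : s₀ ≫ q.left = φ ≫ U.ι := hp.lift_snd _ _ _
  let s' : T ⟶ G ⊗ X := Over.homMk s₀ (by
    show s₀ ≫ (G ⊗ X).hom = φ ≫ U.ι ≫ Q.hom
    rw [← Over.w q, reassoc_of% hs₀])
  refine ⟨U, hyV, U', φ, inferInstance, inferInstance, inferInstance, s', hs₀, ?_⟩
  have sq1 : IsPullback (fst T H) (lift (snd T H) (fst T H ≫ s')) s' (snd H (G ⊗ X)) := by
    refine IsPullback.of_isLimit' ⟨(lift_snd _ _).symm⟩ (PullbackCone.IsLimit.mk _
      (fun c => lift c.fst (c.snd ≫ fst H (G ⊗ X))) (fun c => lift_fst _ _) (fun c => ?_) (fun c m h1 h2 => ?_))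
    · apply CartesianMonoidalCategory.hom_ext
      · simp
      · simpa using c.condition
    · apply CartesianMonoidalCategory.hom_ext
      · simpa using h1
      · simpa using congrArg (· ≫ fst H (G ⊗ X)) h2
  have sq2 := (sq1.map (Over.forget _)).paste_vert htor.flip
  show IsPullback (fst T H).left (lift (snd T H) (fst T H ≫ s') ≫ b.act).left (φ ≫ U.ι) q.left
  rw [← hs₀]
  exact sq2

end Groth.Agent.S14878
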