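import Groth.Statements.S14879
import Mathlib.GroupTheory.Perm.Fin
import Mathlib.LinearAlgebra.Matrix.Determinant.Basic
import Mathlib.LinearAlgebra.Matrix.Permutation
import Mathlib.Logic.Equiv.Fin.Basic

set_option autoImplicit false
universe u
open Finset
open AlgGrp

namespace Groth.Agent.S14879

/-- Let k be a field of characteristic zero, n = p + r with p, r ≥ 1, M an n × n matrix over k, A a set
of p row indices and B a set of r row indices, both listed increasingly. For a permutation π of the
indices, with permutation matrix P_π, let Y_A(M·P_π) be the minor of M·P_π on the rows A and the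
first p columns, and Z_B(M·P_π) the minor on the rows B and the last r columns. Then the sum over
all π of sign(π)·Y_A(M·P_π)·Z_B(M·P_π) equals p!·r!·(−1)^N·det M when B is the complement of A,
where N is the number of pairs (a, b) with a in A, b outside A and b < a, and equals 0 otherwise.
Taking det M = 1 this says that the pairing (f, h) ↦ Σ_π sign(π) f(π) h(π) between the spans of the
left p-minors and of the right r-minors is invariant under left translation by matrices of
determinant one and pairs Y_A with the signed complementary minor to p!·r!. (The published statement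
asserts that the two families of minors are dual bases for this pairing, that is, the value 1 in
place of p!·r!; the p!·r! permutations preserving the two column blocks each contribute the same
signed term, so this row carries that factor, which is 1 only for n = 2.) -/
theorem result (k : Type u) [Field k] [CharZero k]
    (p r : ℕ) (hp : 1 ≤ p) (hr : 1 ≤ r) (M : Matrix (Fin (p + r)) (Fin (p + r)) k)
    (A : Finset (Fin (p + r))) (hA : A.card = p) (B : Finset (Fin (p + r))) (hB : B.card = r) :
    ∑ π : Equiv.Perm (Fin (p + r)), (((Equiv.Perm.sign π : ℤˣ) : ℤ) : k) *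
      ((M * π.permMatrix k).submatrix (A.orderEmbOfFin hA) (Fin.castAdd r)).det *
      ((M * π.permMatrix k).submatrix (B.orderEmbOfFin hB) (Fin.natAdd p)).det =
    if B = Aᶜ then ((p.factorial * r.factorial : ℕ) : k) *
      (-1 : k) ^ ((A ×ˢ Aᶜ).filter (fun ab => ab.2 < ab.1)).card * M.det else 0 := by
  classical
  set a := A.orderEmbOfFin hA with ha
  set b := B.orderEmbOfFin hB with hb
  let w : Fin (p + r) → Fin (p + r) := Fin.append a b
  -- the antisymmetrised sum is a determinant
  have key : ∑ π : Equiv.Perm (Fin (p + r)), (((Equiv.Perm.sign π : ℤˣ) : ℤ) : k) *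
      ((M * π.permMatrix k).submatrix a (Fin.castAdd r)).det *
      ((M * π.permMatrix k).submatrix b (Fin.natAdd p)).det =
      ((p.factorial * r.factorial : ℕ) : k) * (M.submatrix w id).det := by
    have h1 : ∀ π : Equiv.Perm (Fin (p + r)), M * π.permMatrix k = M.submatrix id π.symm := fun π =>
      PEquiv.mul_toMatrix_toPEquiv M π
    simp only [h1, Matrix.submatrix_submatrix, Function.id_comp]
    have h2 : ∀ {q : ℕ} (rows cols : Fin q → Fin (p + r)),
        (M.submatrix rows cols).det =
          ∑ σ : Equiv.Perm (Fin q), (((Equiv.Perm.sign σ : ℤˣ) : ℤ) : k) * ∏ i, M (rows i) (cols (σ i)) := by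
      intro q rows cols
      rw [← Matrix.det_transpose, Matrix.det_apply']
      rfl
    simp only [h2]
    simp only [Finset.mul_sum, Finset.sum_mul]
    rw [Finset.sum_comm]
    have h3 : ∀ (τ : Equiv.Perm (Fin r)) (σ : Equiv.Perm (Fin p)),
        ∑ π : Equiv.Perm (Fin (p + r)), (((Equiv.Perm.sign π : ℤˣ) : ℤ) : k) *
            ((((Equiv.Perm.sign σ : ℤˣ) : ℤ) : k) *
              ∏ i, M (a i) ((⇑π.symm ∘ Fin.castAdd r) (σ i))) *
            ((((Equiv.Perm.sign τ : ℤˣ) : ℤ) : k) *
              ∏ i, M (b i) ((⇑π.symm ∘ Fin.natAdd p) (τ i))) =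
        ∑ π : Equiv.Perm (Fin (p + r)), (((Equiv.Perm.sign π : ℤˣ) : ℤ) : k) * ∏ x, M (w x) (π x) := by
      intro τ σ
      let ρ : Equiv.Perm (Fin (p + r)) := finSumFinEquiv.permCongr (Equiv.sumCongr σ τ)
      refine Fintype.sum_equiv ((Equiv.inv (Equiv.Perm (Fin (p + r)))).trans (Equiv.mulRight ρ)) _ _ fun π => ?_
      simp only [Equiv.trans_apply, Equiv.inv_apply, Equiv.coe_mulRight, Equiv.Perm.sign_mul,
        Equiv.Perm.sign_inv, Units.val_mul, Int.cast_mul, Fin.prod_univ_add, w, Fin.append_left,
        Fin.append_right, Function.comp_apply, Equiv.Perm.coe_mul, Equiv.Perm.coe_inv]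
      have hρ : Equiv.Perm.sign ρ = Equiv.Perm.sign σ * Equiv.Perm.sign τ := by
        simp [ρ, Equiv.Perm.sign_sumCongr]
      have hl : ∀ i, ρ (Fin.castAdd r i) = Fin.castAdd r (σ i) := fun i => by simp [ρ]
      have hr' : ∀ i, ρ (Fin.natAdd p i) = Fin.natAdd p (τ i) := fun i => by simp [ρ]
      simp only [hl, hr', hρ, Units.val_mul, Int.cast_mul]
      ring
    rw [Finset.sum_congr rfl fun τ _ => Finset.sum_comm]
    simp only [h3, Finset.sum_const, Finset.card_univ, Fintype.card_perm, Fintype.card_fin,
      nsmul_eq_mul]
    simp only [Finset.mul_sum, id_eq, Nat.cast_mul]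
    exact Finset.sum_congr rfl fun π _ => by ring
  rw [key]
  split_ifs with hBA
  · -- a shuffle
    have hinj : Function.Injective w := by
      intro x y hxy
      induction x using Fin.addCases with
      | left i =>
        induction y using Fin.addCases with
        | left j =>
          simp only [w, Fin.append_left] at hxy
          rw [a.injective hxy]
        | right j =>
          simp only [w, Fin.append_left, Fin.append_right] at hxy
          have h1 : b j ∈ B := Finset.orderEmbOfFin_mem B hB j
          rw [← hxy, hBA, Finset.mem_compl] at h1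
          exact absurd (Finset.orderEmbOfFin_mem A hA i) h1
      | right i =>
        induction y using Fin.addCases with
        | left j =>
          simp only [w, Fin.append_left, Fin.append_right] at hxy
          have h1 : b i ∈ B := Finset.orderEmbOfFin_mem B hB i
          rw [hxy, hBA, Finset.mem_compl] at h1
          exact absurd (Finset.orderEmbOfFin_mem A hA j) h1
        | right j =>
          simp only [w, Fin.append_right] at hxy
          rw [b.injective hxy]
    let e : Equiv.Perm (Fin (p + r)) := Equiv.ofBijective w (Finite.injective_iff_bijective.1 hinj)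
    have hs : Equiv.Perm.sign e = ∏ i : Fin p, ∏ j : Fin r, (if a i < b j then (1 : ℤˣ) else -1) := by
      have hI : ∀ (i : Fin (p + r)) (f : Fin (p + r) → ℤˣ),
          ∏ j ∈ Finset.Ioi i, f j = ∏ j, if i < j then f j else 1 := fun i f => by
        rw [← Finset.prod_filter]
        exact Finset.prod_congr (by ext; simp) fun _ _ => rfl
      rw [Equiv.Perm.sign_eq_prod_prod_Ioi, Fin.prod_univ_add]
      simp only [hI, Fin.prod_univ_add]
      have hw : ∀ x, e x = w x := fun x => rfl
      simp only [hw, w, Fin.append_left, Fin.append_right]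
      have c1 : ∀ i j : Fin p, (if Fin.castAdd r i < Fin.castAdd r j then
          (if a i < a j then (1 : ℤˣ) else -1) else 1) = 1 := fun i j => by
        split_ifs with h1 h2
        · rfl
        · exact absurd (a.strictMono (show i < j from h1)) h2
        · rfl
      have c2 : ∀ i j : Fin r, (if Fin.natAdd p i < Fin.natAdd p j then
          (if b i < b j then (1 : ℤˣ) else -1) else 1) = 1 := fun i j => by
        split_ifs with h1 h2
        · rfl
        · exact absurd (b.strictMono (show i < j from Nat.lt_of_add_lt_add_left (n := p) h1)) h2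
        · rfl
      have c3 : ∀ (i : Fin p) (j : Fin r), Fin.castAdd r i < Fin.natAdd p j := fun i j => by
        simp only [Fin.lt_def, Fin.val_castAdd, Fin.val_natAdd]; omega
      have c4 : ∀ (i : Fin r) (j : Fin p), ¬ Fin.natAdd p i < Fin.castAdd r j := fun i j =>
        (c3 j i).asymm
      simp only [c1, c2, if_pos (c3 _ _), if_neg (c4 _ _), Finset.prod_const_one, one_mul, mul_one]
    have hcard : ((A ×ˢ Aᶜ).filter (fun ab => ab.2 < ab.1)).card =
        ((Finset.univ : Finset (Fin p × Fin r)).filter (fun x => ¬ a x.1 < b x.2)).card := by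
      symm
      refine Finset.card_bij (fun x _ => (a x.1, b x.2)) (fun x hx => ?_) (fun x _ y _ hxy => ?_)
        fun z hz => ?_
      · simp only [Finset.mem_filter, Finset.mem_univ, true_and, not_lt] at hx
        simp only [Finset.mem_filter, Finset.mem_product, ← hBA]
        refine ⟨⟨Finset.orderEmbOfFin_mem A hA _, Finset.orderEmbOfFin_mem B hB _⟩, lt_of_le_of_ne hx ?_⟩
        intro heq
        have h1 := Finset.orderEmbOfFin_mem B hB x.2
        rw [← hb, heq] at h1
        exact (Finset.mem_compl.1 (hBA ▸ h1)) (Finset.orderEmbOfFin_mem A hA x.1)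
      · simp only [Prod.mk.injEq] at hxy
        exact Prod.ext (a.injective hxy.1) (b.injective hxy.2)
      · simp only [Finset.mem_filter, Finset.mem_product, ← hBA] at hz
        obtain ⟨i, hi⟩ : z.1 ∈ Set.range a := by
          rw [ha, Finset.range_orderEmbOfFin]; exact hz.1.1
        obtain ⟨j, hj⟩ : z.2 ∈ Set.range b := by
          rw [hb, Finset.range_orderEmbOfFin]; exact hz.1.2
        refine ⟨(i, j), ?_, by rw [hi, hj]⟩
        simp only [Finset.mem_filter, Finset.mem_univ, true_and, hi, hj, not_lt]
        exact hz.2.le
    have hdet : (M.submatrix w id).det = (((Equiv.Perm.sign e : ℤˣ) : ℤ) : k) * M.det :=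
      Matrix.det_permute e M
    have hsk : (((Equiv.Perm.sign e : ℤˣ) : ℤ) : k) =
        (-1 : k) ^ ((A ×ˢ Aᶜ).filter (fun ab => ab.2 < ab.1)).card := by
      rw [hs, hcard, ← Fintype.prod_prod_type', Finset.prod_ite, Finset.prod_const_one, one_mul,
        Finset.prod_const]
      push_cast
      rfl
    rw [hdet, hsk, mul_assoc]
  · -- a repeated row
    obtain ⟨x, hxA, hxB⟩ : ∃ x, x ∈ A ∧ x ∈ B := by
      by_contra h
      push Not at h
      refine hBA (Finset.eq_of_subset_of_card_le (fun x hx => Finset.mem_compl.2 fun h' => h x h' hx) ?_)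
      rw [Finset.card_compl, Fintype.card_fin, hA, hB]
      omega
    obtain ⟨i, hi⟩ : x ∈ Set.range a := by rw [ha, Finset.range_orderEmbOfFin]; exact hxA
    obtain ⟨j, hj⟩ : x ∈ Set.range b := by rw [hb, Finset.range_orderEmbOfFin]; exact hxB
    rw [Matrix.det_zero_of_row_eq (i := Fin.castAdd r i) (j := Fin.natAdd p j) ?_ ?_, mul_zero]
    · intro h
      have := congrArg Fin.val h
      simp only [Fin.val_castAdd, Fin.val_natAdd] at this
      omega
    · funext c
      simp [w, hi, hj]

end Groth.Agent.S14879
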