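import Groth.Statements.S14882


set_option autoImplicit false
universe u
open CategoryTheory MonoidalCategory CartesianMonoidalCategory MonObj GrpObj AlgebraicGeometry CategoryTheory.Limits
open AlgGrp

namespace Groth.Agent.S14882

/-- Over an algebraically closed field k of characteristic zero, let G be an algebraic group (a smooth
k-group scheme of finite type), X a variety (reduced, separated, of finite type over k) and Γ a
finite group acting on X on the right (x ↦ x·σ, with x·(στ) = (x·σ)·τ). Let φ and φ' be 1-cocycles Γ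
→ G(X), φ_{στ} = φ_σ · (φ_τ ∘ (·σ)), with attached Γ-linearizations of X × G given on points by
λ_σ(x, g) = (x·σ, φ_σ(x)⁻¹·g) and λ'_σ(x, g) = (x·σ, φ'_σ(x)⁻¹·g). Then the two Γ-linearized trivial
bundles are isomorphic, meaning that there is an automorphism Φ of X × G over X, commuting with the
action of G by right multiplication, with Φ ∘ λ_σ = λ'_σ ∘ Φ for every σ, if and only if the
cocycles are cohomologous: there is ψ in G(X) with φ_σ = ψ⁻¹ · φ'_σ · (ψ ∘ (·σ)) for every σ. Hence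
isomorphism classes of Γ-linearizations of the trivial bundle correspond to H¹(Γ, G(X)). -/
theorem result (k : Type u) [Field k] [IsAlgClosed k] [CharZero k]
    (G X : Over (Spec (CommRingCat.of k))) [GrpObj G] [Smooth G.hom] [QuasiCompact G.hom]
    [LocallyOfFiniteType X.hom] [QuasiCompact X.hom] [IsSeparated X.hom] [IsReduced X.left]
    (Γ : Type) [Group Γ] [Finite Γ] (ρ : Γ → (X ⟶ X)) (hρ₁ : ρ 1 = 𝟙 X) (hρ : ∀ σ τ : Γ, ρ (σ * τ) = ρ σ ≫ ρ τ)
    (φ φ' : Γ → (X ⟶ G)) (hφ : ∀ σ τ : Γ, φ (σ * τ) = φ σ * (ρ σ ≫ φ τ))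
    (hφ' : ∀ σ τ : Γ, φ' (σ * τ) = φ' σ * (ρ σ ≫ φ' τ))
    (lam lam' : Γ → (X ⊗ G ⟶ X ⊗ G))
    (hlam : ∀ (σ : Γ) (T : Over (Spec (CommRingCat.of k))) (x : T ⟶ X) (g : T ⟶ G),
      lift x g ≫ lam σ = lift (x ≫ ρ σ) ((x ≫ φ σ)⁻¹ * g))
    (hlam' : ∀ (σ : Γ) (T : Over (Spec (CommRingCat.of k))) (x : T ⟶ X) (g : T ⟶ G),
      lift x g ≫ lam' σ = lift (x ≫ ρ σ) ((x ≫ φ' σ)⁻¹ * g)) :
    (∃ Φ : X ⊗ G ⟶ X ⊗ G, IsIso Φ ∧ Φ ≫ fst X G = fst X G ∧
      (∀ (T : Over (Spec (CommRingCat.of k))) (x : T ⟶ X) (g h : T ⟶ G),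
        lift x (g * h) ≫ Φ ≫ snd X G = (lift x g ≫ Φ ≫ snd X G) * h) ∧
      ∀ σ : Γ, lam σ ≫ Φ = Φ ≫ lam' σ) ↔
    ∃ ψ : X ⟶ G, ∀ σ : Γ, φ σ = ψ⁻¹ * φ' σ * (ρ σ ≫ ψ) := by
  have hext : ∀ (f g : X ⊗ G ⟶ X ⊗ G), (∀ (T : Over (Spec (CommRingCat.of k))) (x : T ⟶ X) (y : T ⟶ G),
      lift x y ≫ f = lift x y ≫ g) → f = g := fun f g h => by
    have := h _ (fst X G) (snd X G)
    simpa using this
  constructor
  · rintro ⟨Φ, -, hΦfst, hΦmul, hcomm⟩
    let u : X ⟶ G := lift (𝟙 X) (1 : X ⟶ G) ≫ Φ ≫ snd X G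
    have hΦ : ∀ (T : Over (Spec (CommRingCat.of k))) (x : T ⟶ X) (g : T ⟶ G),
        lift x g ≫ Φ = lift x ((x ≫ u) * g) := by
      intro T x g
      apply CartesianMonoidalCategory.hom_ext
      · rw [Category.assoc, hΦfst, lift_fst, lift_fst]
      · have h := hΦmul T x 1 g
        rw [_root_.one_mul] at h
        rw [Category.assoc, h, lift_snd]
        congr 1
        simp only [u]
        rw [← Category.assoc x, comp_lift, Category.comp_id, MonObj.comp_one]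
    refine ⟨u, fun σ => ?_⟩
    have h := congrArg (fun f => lift (𝟙 X) (1 : X ⟶ G) ≫ f) (hcomm σ)
    rw [← Category.assoc, ← Category.assoc, hlam, hΦ, hΦ, hlam'] at h
    have h2 := congrArg (· ≫ snd X G) h
    simp only [lift_snd, Category.id_comp, _root_.mul_one] at h2
    have h3 : φ σ = u⁻¹ * φ' σ * (ρ σ ≫ u) := by
      rw [mul_inv_eq_iff_eq_mul] at h2
      rw [h2]
      group
    exact h3
  · rintro ⟨ψ, hψ⟩
    let Φ : X ⊗ G ⟶ X ⊗ G := lift (fst X G) ((fst X G ≫ ψ) * snd X G)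
    have hΦ : ∀ (T : Over (Spec (CommRingCat.of k))) (x : T ⟶ X) (g : T ⟶ G),
        lift x g ≫ Φ = lift x ((x ≫ ψ) * g) := by
      intro T x g
      simp only [Φ, comp_lift, lift_fst, MonObj.comp_mul, lift_fst_assoc, lift_snd]
    have hΦ' : ∀ (T : Over (Spec (CommRingCat.of k))) (x : T ⟶ X) (g : T ⟶ G),
        lift x g ≫ lift (fst X G) ((fst X G ≫ ψ)⁻¹ * snd X G) = lift x ((x ≫ ψ)⁻¹ * g) := by
      intro T x g
      simp only [comp_lift, lift_fst, MonObj.comp_mul, GrpObj.comp_inv, lift_fst_assoc, lift_snd]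
    refine ⟨Φ, ⟨lift (fst X G) ((fst X G ≫ ψ)⁻¹ * snd X G), hext _ _ fun T x g => ?_, hext _ _ fun T x g => ?_⟩,
      lift_fst _ _, fun T x g h => ?_, fun σ => hext _ _ fun T x g => ?_⟩
    · rw [← Category.assoc, hΦ, hΦ', inv_mul_cancel_left, Category.comp_id]
    · rw [← Category.assoc, hΦ', hΦ, mul_inv_cancel_left, Category.comp_id]
    · rw [← Category.assoc, ← Category.assoc (lift x g), hΦ, hΦ, lift_snd, lift_snd, _root_.mul_assoc]
    · rw [← Category.assoc, ← Category.assoc, hlam, hΦ, hΦ, hlam', hψ, Category.assoc]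
      congr 1
      rw [MonObj.comp_mul, MonObj.comp_mul, GrpObj.comp_inv]
      group

end Groth.Agent.S14882
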