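import Groth.Statements.S14885
-- import your own Groth.Agent.* helpers here

set_option autoImplicit false
universe u v
open CategoryTheory TopologicalSpace Opposite AlgebraicGeometry Topology
open AlgGrp

namespace Groth.Agent.S14885

theorem mm {X : SheafedSpace CommRingCat.{u}} {A B C : (Opens X)ᵒᵖ} (a : A ⟶ B) (b : B ⟶ C) (c : A ⟶ C)
    (s : X.presheaf.obj A) : X.presheaf.map b (X.presheaf.map a s) = X.presheaf.map c s := by
  rw [← CommRingCat.comp_apply, ← Functor.map_comp, Subsingleton.elim (a ≫ b) c]

theorem mm' {X : SheafedSpace CommRingCat.{u}} {A B B' C : (Opens X)ᵒᵖ} (a : A ⟶ B) (b : B ⟶ C) (a' : A ⟶ B') (b' : B' ⟶ C)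
    (s : X.presheaf.obj A) : X.presheaf.map b (X.presheaf.map a s) = X.presheaf.map b' (X.presheaf.map a' s) :=
  (mm a b (a' ≫ b') s).trans (mm a' b' (a' ≫ b') s).symm

theorem mi {X : SheafedSpace CommRingCat.{u}} {A : (Opens X)ᵒᵖ} (a : A ⟶ A) (s : X.presheaf.obj A) :
    X.presheaf.map a s = s := by
  rw [Subsingleton.elim a (𝟙 A), X.presheaf.map_id]; rfl

theorem mnat {X X' : SheafedSpace CommRingCat.{u}} (g : X ⟶ X') {A B : (Opens X')ᵒᵖ} (a : A ⟶ B)
    (s : X'.presheaf.obj A) :
    g.hom.c.app B (X'.presheaf.map a s) =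
      X.presheaf.map ((Opens.map g.hom.base).op.map a) (g.hom.c.app A s) := by
  have := congr($(g.hom.c.naturality a) s)
  exact this

/-- Let a group Γ act on a ringed space X (a topological space with a sheaf of rings) by automorphisms
τ_g, and let π : X → Y be a Γ-invariant morphism of ringed spaces which exhibits Y as the quotient
ringed space X/Γ: the underlying continuous map of π is a topological quotient map whose fibres are
exactly the Γ-orbits, and for every open subset V of Y the ring map O_Y(V) → O_X(π⁻¹V) is injective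
with image the sections s satisfying τ_g^♯(s) = s for all g. Then (Y, π) is a categorical quotient
for the action in the category of ringed spaces: every morphism of ringed spaces f : X → Z with f ∘
τ_g = f for all g (as morphisms of ringed spaces) factors uniquely as f = f̄ ∘ π. -/
theorem result (X Y : SheafedSpace CommRingCat.{u}) (Γ : Type v) [Group Γ]
    (τ : Γ →* Aut X) (π : X ⟶ Y) (hτ : ∀ g : Γ, (τ g).hom ≫ π = π)
    (h1 : IsQuotientMap π.hom.base)
    (h2 : ∀ x x' : X, π.hom.base x = π.hom.base x' ↔ ∃ g : Γ, (τ g).hom.hom.base x = x')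
    (h3 : ∀ V : Opens Y, Function.Injective (π.hom.c.app (op V)) ∧
      Set.range (π.hom.c.app (op V)) =
        {s | ∀ g : Γ, (τ g).hom.hom.c.app (op ((Opens.map π.hom.base).obj V)) s =
          X.presheaf.map (eqToHom (congrArg (fun f : X ⟶ Y => op ((Opens.map f.hom.base).obj V)) (hτ g).symm)) s})
    (Z : SheafedSpace CommRingCat.{u}) (f : X ⟶ Z) (hf : ∀ g : Γ, (τ g).hom ≫ f = f) :
    ∃! fbar : Y ⟶ Z, π ≫ fbar = f := by
  have hsurj := h1.surjective
  have hfac : Function.FactorsThrough f.hom.base π.hom.base := fun x x' h => by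
    obtain ⟨g, rfl⟩ := (h2 x x').1 h
    exact (congr($(congrArg (fun m : X ⟶ Z => m.hom.base) (hf g)) x)).symm
  let b : C(Y, Z) := Topology.IsQuotientMap.lift (f := π.hom.base.hom) h1 f.hom.base.hom hfac
  have hb : π.hom.base ≫ TopCat.ofHom b = f.hom.base := TopCat.hom_ext (Topology.IsQuotientMap.lift_comp (f := π.hom.base.hom) h1 _ hfac)
  have e : ∀ W : Opens Z, (Opens.map f.hom.base).obj W = (Opens.map π.hom.base).obj ((Opens.map (TopCat.ofHom b)).obj W) :=
    fun W => by rw [← hb]; rfl
  have hex : ∀ (W : (Opens Z)ᵒᵖ) (s : Z.presheaf.obj W), ∃ t, π.hom.c.app (op ((Opens.map (TopCat.ofHom b)).obj W.unop)) t =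
      X.presheaf.map (eqToHom (congrArg op (e W.unop))) (f.hom.c.app W s) := by
    intro W s
    refine (Set.ext_iff.1 (h3 _).2 _).2 fun g => ?_
    have := congr($(PresheafedSpace.congr_app (congrArg (fun m : X ⟶ Z => m.hom) (hf g)) W) s)
    refine (mnat (τ g).hom (eqToHom (congrArg op (e W.unop))) (f.hom.c.app W s)).trans ?_
    refine (congrArg _ this).trans ?_
    exact mm' _ _ _ _ _
  let φ : (W : (Opens Z)ᵒᵖ) → Z.presheaf.obj W →+* Y.presheaf.obj (op ((Opens.map (TopCat.ofHom b)).obj W.unop)) :=
    fun W =>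
    { toFun := fun s => (hex W s).choose
      map_one' := (h3 _).1 (by rw [(hex W 1).choose_spec, map_one, map_one, map_one])
      map_zero' := (h3 _).1 (by rw [(hex W 0).choose_spec, map_zero, map_zero, map_zero])
      map_mul' := fun x y => (h3 _).1 (((hex W _).choose_spec.trans (by rw [map_mul, map_mul])).trans
        ((congrArg₂ (· * ·) (hex W x).choose_spec (hex W y).choose_spec).symm.trans (map_mul _ _ _).symm))
      map_add' := fun x y => (h3 _).1 (((hex W _).choose_spec.trans (by rw [map_add, map_add])).trans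
        ((congrArg₂ (· + ·) (hex W x).choose_spec (hex W y).choose_spec).symm.trans (map_add _ _ _).symm)) }
  have hφ : ∀ W s, π.hom.c.app (op ((Opens.map (TopCat.ofHom b)).obj W.unop)) (φ W s) =
      X.presheaf.map (eqToHom (congrArg op (e W.unop))) (f.hom.c.app W s) := fun W s => (hex W s).choose_spec
  let fb : Y ⟶ Z := InducedCategory.homMk
    { base := TopCat.ofHom b
      c :=
        { app := fun W => CommRingCat.ofHom (φ W)
          naturality := fun {W W'} a => by
            ext s
            refine (h3 _).1 ?_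
            show π.hom.c.app _ (φ W' (Z.presheaf.map a s)) = π.hom.c.app _ (Y.presheaf.map ((Opens.map (TopCat.ofHom b)).op.map a) (φ W s))
            rw [hφ, mnat f]
            refine Eq.trans ?_ (mnat π _ _).symm
            refine Eq.trans ?_ (congrArg _ (hφ W s)).symm
            exact mm' _ _ _ _ _ } }
  have hfb : π ≫ fb = f := by
    refine SheafedSpace.ext _ _ hb ?_
    refine NatTrans.ext (funext fun W => ?_)
    ext s
    show X.presheaf.map _ (π.hom.c.app _ (φ W s)) = f.hom.c.app W s
    rw [hφ]
    exact (mm _ _ (𝟙 _) _).trans (mi _ _)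
  refine ⟨fb, hfb, fun g hg => ?_⟩
  subst hg
  have hbase : g.hom.base = fb.hom.base := by
    ext y
    obtain ⟨x, rfl⟩ := hsurj y
    exact congr($(congrArg (fun m : X ⟶ Z => m.hom.base) hfb.symm) x)
  refine SheafedSpace.ext _ _ hbase ?_
  refine NatTrans.ext (funext fun W => ?_)
  ext s
  refine (h3 _).1 ?_
  show π.hom.c.app _ (Y.presheaf.map _ (g.hom.c.app W s)) = π.hom.c.app _ (φ W s)
  rw [hφ]
  exact (mnat π _ _).trans (congrArg (fun a => X.presheaf.map a _) (Subsingleton.elim _ _))

end Groth.Agent.S14885
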