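import Groth.Statements.S14886
import Groth.Agent.AlgGrpLib.TorsorMap

set_option autoImplicit false
set_option backward.isDefEq.respectTransparency.types false

universe u
open CategoryTheory MonoidalCategory CartesianMonoidalCategory MonObj GrpObj AlgebraicGeometry CategoryTheory.Limits
open AlgGrp

namespace Groth.Agent.S14886
open Groth.Agent.AlgGrpLib.TorsorMap

/-- Over an algebraically closed field k of characteristic zero, let G be a connected algebraic group (a
smooth connected k-group scheme of finite type) and H an algebraic subgroup (a smooth closed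
subgroup scheme, j : H → G). Let π : G → B be the quotient of G by H (a geometric quotient for the
action h·g = g·h⁻¹ which is a principal H-bundle: (h, g) ↦ (g·h⁻¹, g) is an isomorphism H × G ≅ G
×_B G and π is flat). Let X and Y be varieties (reduced, separated, of finite type over k) with
H-actions, in each of which every finite set of points lies in an affine open subset, and let qX : G
× X → QX, qY : G × Y → QY and qXY : G × (X × Y) → QXY be the associated bundles G_H(X), G_H(Y) and
G_H(X × Y): geometric quotients (invariant, surjective, open, fibre-pair map surjective on points,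
sections = invariant sections) which are principal H-bundles, for the actions h·(g, x) = (g·h⁻¹,
h·x), h·(g, y) = (g·h⁻¹, h·y) and h·(g, x, y) = (g·h⁻¹, h·x, h·y), with QX, QY, QXY varieties over B
= G/H through pX, pY, pXY satisfying p ∘ q = π ∘ pr₁. Let fX : QXY → QX and fY : QXY → QY be the
morphisms over B induced by the projections, fX ∘ qXY = qX ∘ (id × pr₁) and fY ∘ qXY = qY ∘ (id ×
pr₂). Then the square formed by fX, fY, pX, pY is cartesian: G_H(X × Y) is the fibre product of
G_H(X) and G_H(Y) over G/H. -/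
theorem result (k : Type u) [Field k] [IsAlgClosed k] [CharZero k]
    (G H : Over (Spec (CommRingCat.of k))) [GrpObj G] [Smooth G.hom] [QuasiCompact G.hom]
    [ConnectedSpace ↥G.left] [GrpObj H] (j : H ⟶ G) [IsMonHom j] [IsClosedImmersion j.left] [Smooth H.hom]
    (B : Over (Spec (CommRingCat.of k))) [LocallyOfFiniteType B.hom] [QuasiCompact B.hom] [IsSeparated B.hom] [IsReduced B.left]
    (r : AlgGrp.Action H G) (hr : ∀ (T : Over (Spec (CommRingCat.of k))) (h : T ⟶ H) (g : T ⟶ G),
      lift h g ≫ r.act = g * (h ≫ j)⁻¹)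
    (π : G ⟶ B) (hπinv : GIT.IsInvariant r π)
    (hπ : (Function.Surjective π.left.base ∧ IsOpenMap π.left.base ∧
      Function.Surjective (GIT.PsiY r π hπinv).base ∧
      (∀ U : B.left.Opens, Function.Injective (π.left.app U) ∧
        Set.range (π.left.app U) = {f | GIT.IsInvSection r π U f}) ∧
      IsIso (GIT.PsiY r π hπinv) ∧ Flat π.left))
    (X Y : Over (Spec (CommRingCat.of k))) [LocallyOfFiniteType X.hom] [QuasiCompact X.hom] [IsSeparated X.hom] [IsReduced X.left] [LocallyOfFiniteType Y.hom] [QuasiCompact Y.hom] [IsSeparated Y.hom] [IsReduced Y.left]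
    (hFX : ∀ F : Finset ↥X.left, ∃ U : X.left.Opens, IsAffineOpen U ∧ (↑F : Set ↥X.left) ⊆ (U : Set ↥X.left))
    (hFY : ∀ F : Finset ↥Y.left, ∃ U : Y.left.Opens, IsAffineOpen U ∧ (↑F : Set ↥Y.left) ⊆ (U : Set ↥Y.left))
    (aX : AlgGrp.Action H X) (aY : AlgGrp.Action H Y)
    (b : AlgGrp.Action H (G ⊗ X))
    (hb : ∀ (T : Over (Spec (CommRingCat.of k))) (h : T ⟶ H) (g : T ⟶ G) (x : T ⟶ X),
      lift h (lift g x) ≫ b.act = lift (g * (h ≫ j)⁻¹) (lift h x ≫ aX.act))
    (c : AlgGrp.Action H (G ⊗ Y))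
    (hc : ∀ (T : Over (Spec (CommRingCat.of k))) (h : T ⟶ H) (g : T ⟶ G) (x : T ⟶ Y),
      lift h (lift g x) ≫ c.act = lift (g * (h ≫ j)⁻¹) (lift h x ≫ aY.act))
    (d : AlgGrp.Action H (G ⊗ (X ⊗ Y)))
    (hd : ∀ (T : Over (Spec (CommRingCat.of k))) (h : T ⟶ H) (g : T ⟶ G) (x : T ⟶ X) (y : T ⟶ Y),
      lift h (lift g (lift x y)) ≫ d.act = lift (g * (h ≫ j)⁻¹) (lift (lift h x ≫ aX.act) (lift h y ≫ aY.act)))
    (QX QY QXY : Over (Spec (CommRingCat.of k))) [LocallyOfFiniteType QX.hom] [QuasiCompact QX.hom] [IsSeparated QX.hom] [IsReduced QX.left] [LocallyOfFiniteType QY.hom] [QuasiCompact QY.hom] [IsSeparated QY.hom] [IsReduced QY.left] [LocallyOfFiniteType QXY.hom] [QuasiCompact QXY.hom] [IsSeparated QXY.hom] [IsReduced QXY.left]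
    (qX : G ⊗ X ⟶ QX) (hqXinv : GIT.IsInvariant b qX) (hqX : (Function.Surjective qX.left.base ∧ IsOpenMap qX.left.base ∧
      Function.Surjective (GIT.PsiY b qX hqXinv).base ∧
      (∀ U : QX.left.Opens, Function.Injective (qX.left.app U) ∧
        Set.range (qX.left.app U) = {f | GIT.IsInvSection b qX U f}) ∧
      IsIso (GIT.PsiY b qX hqXinv) ∧ Flat qX.left))
    (qY : G ⊗ Y ⟶ QY) (hqYinv : GIT.IsInvariant c qY) (hqY : (Function.Surjective qY.left.base ∧ IsOpenMap qY.left.base ∧
      Function.Surjective (GIT.PsiY c qY hqYinv).base ∧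
      (∀ U : QY.left.Opens, Function.Injective (qY.left.app U) ∧
        Set.range (qY.left.app U) = {f | GIT.IsInvSection c qY U f}) ∧
      IsIso (GIT.PsiY c qY hqYinv) ∧ Flat qY.left))
    (qXY : G ⊗ (X ⊗ Y) ⟶ QXY) (hqXYinv : GIT.IsInvariant d qXY) (hqXY : (Function.Surjective qXY.left.base ∧ IsOpenMap qXY.left.base ∧
      Function.Surjective (GIT.PsiY d qXY hqXYinv).base ∧
      (∀ U : QXY.left.Opens, Function.Injective (qXY.left.app U) ∧
        Set.range (qXY.left.app U) = {f | GIT.IsInvSection d qXY U f}) ∧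
      IsIso (GIT.PsiY d qXY hqXYinv) ∧ Flat qXY.left))
    (pX : QX ⟶ B) (hpX : qX ≫ pX = fst G X ≫ π) (pY : QY ⟶ B) (hpY : qY ≫ pY = fst G Y ≫ π)
    (pXY : QXY ⟶ B) (hpXY : qXY ≫ pXY = fst G (X ⊗ Y) ≫ π)
    (fX : QXY ⟶ QX) (hfX : qXY ≫ fX = (G ◁ fst X Y) ≫ qX) (hfXp : fX ≫ pX = pXY)
    (fY : QXY ⟶ QY) (hfY : qXY ≫ fY = (G ◁ snd X Y) ≫ qY) (hfYp : fY ≫ pY = pXY) :
    IsPullback fX.left fY.left pX.left pY.left := by
  haveI : IsIso (GIT.PsiY b qX hqXinv) := hqX.2.2.2.2.1
  haveI : IsIso (GIT.PsiY c qY hqYinv) := hqY.2.2.2.2.1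
  haveI : IsIso (GIT.PsiY d qXY hqXYinv) := hqXY.2.2.2.2.1
  haveI : IsIso (GIT.PsiY r π hπinv) := hπ.2.2.2.2.1
  haveI : Flat qX.left := hqX.2.2.2.2.2
  haveI : Flat qY.left := hqY.2.2.2.2.2
  haveI : Flat qXY.left := hqXY.2.2.2.2.2
  haveI : Surjective qX.left := ⟨hqX.1⟩
  haveI : Surjective qY.left := ⟨hqY.1⟩
  haveI : Surjective qXY.left := ⟨hqXY.1⟩
  have hqc : ∀ {A Q : Over (Spec (CommRingCat.of k))} [QuasiCompact A.hom] [IsSeparated Q.hom] (p : A ⟶ Q), QuasiCompact p.left := by
    intro A Q _ _ p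
    haveI : QuasiCompact (p.left ≫ Q.hom) := by rw [Over.w]; infer_instance
    exact QuasiCompact.of_comp _ Q.hom
  have hqcT : ∀ (A C : Over (Spec (CommRingCat.of k))) [QuasiCompact A.hom] [QuasiCompact C.hom], QuasiCompact (A ⊗ C).hom := by
    intro A C _ _
    haveI : QuasiCompact (pullback.fst A.hom C.hom) := MorphismProperty.pullback_fst (P := @QuasiCompact) _ _ inferInstance
    change QuasiCompact (pullback.fst A.hom C.hom ≫ A.hom)
    infer_instance
  haveI := hqcT X Y
  haveI := hqcT G X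
  haveI := hqcT G Y
  haveI := hqcT G (X ⊗ Y)
  haveI : QuasiCompact qX.left := hqc qX
  haveI : QuasiCompact qY.left := hqc qY
  haveI : QuasiCompact qXY.left := hqc qXY
  -- equivariance of the three projections
  have efst : ∀ {T : Over (Spec (CommRingCat.of k))} (t : T ⟶ G ⊗ (X ⊗ Y)),
      t = lift (t ≫ fst G _) (lift (t ≫ snd G _ ≫ fst X Y) (t ≫ snd G _ ≫ snd X Y)) := by
    intro T t
    apply CartesianMonoidalCategory.hom_ext
    · simp
    · simp only [lift_snd]
      apply CartesianMonoidalCategory.hom_ext <;> simp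
  have edec : d.act = lift (fst H _) (lift (snd H _ ≫ fst G _)
      (lift (snd H _ ≫ snd G _ ≫ fst X Y) (snd H _ ≫ snd G _ ≫ snd X Y))) ≫ d.act := by
    rw [← efst (snd H (G ⊗ (X ⊗ Y))), lift_fst_snd, Category.id_comp]
  have ebdec : b.act = lift (fst H _) (lift (snd H _ ≫ fst G X) (snd H _ ≫ snd G X)) ≫ b.act := by
    rw [show lift (snd H (G ⊗ X) ≫ fst G X) (snd H (G ⊗ X) ≫ snd G X) = snd H (G ⊗ X) by
      apply CartesianMonoidalCategory.hom_ext <;> simp, lift_fst_snd, Category.id_comp]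
  have ecdec : c.act = lift (fst H _) (lift (snd H _ ≫ fst G Y) (snd H _ ≫ snd G Y)) ≫ c.act := by
    rw [show lift (snd H (G ⊗ Y) ≫ fst G Y) (snd H (G ⊗ Y) ≫ snd G Y) = snd H (G ⊗ Y) by
      apply CartesianMonoidalCategory.hom_ext <;> simp, lift_fst_snd, Category.id_comp]
  have hfdX : d.act ≫ (G ◁ fst X Y) = (H ◁ (G ◁ fst X Y)) ≫ b.act := by
    have e : H ◁ (G ◁ fst X Y) = lift (fst H _) (lift (snd H _ ≫ fst G _) (snd H _ ≫ snd G _ ≫ fst X Y)) := by
      apply CartesianMonoidalCategory.hom_ext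
      · simp
      · simp only [lift_snd, whiskerLeft_snd]
        apply CartesianMonoidalCategory.hom_ext <;> simp
    rw [edec, hd, e, hb]
    apply CartesianMonoidalCategory.hom_ext <;> simp
  have hfbG : b.act ≫ fst G X = (H ◁ fst G X) ≫ r.act := by
    have e : H ◁ fst G X = lift (fst H _) (snd H _ ≫ fst G X) := by
      apply CartesianMonoidalCategory.hom_ext <;> simp
    rw [ebdec, hb, e, hr]
    simp
  have hfcG : c.act ≫ fst G Y = (H ◁ fst G Y) ≫ r.act := by
    have e : H ◁ fst G Y = lift (fst H _) (snd H _ ≫ fst G Y) := by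
      apply CartesianMonoidalCategory.hom_ext <;> simp
    rw [ecdec, hc, e, hr]
    simp
  have s1 := isPullback_of_equivariant d b qXY qX (G ◁ fst X Y) fX hqXYinv hqXinv hfdX hfX
  have sY := isPullback_of_equivariant c r qY π (fst G Y) pY hqYinv hπinv hfcG hpY
  -- the product square
  have prodSq : IsPullback (G ◁ snd X Y) (G ◁ fst X Y) (fst G Y) (fst G X) := by
    refine ⟨⟨by simp⟩, ⟨PullbackCone.IsLimit.mk _
      (fun s => lift (s.snd ≫ fst G X) (lift (s.snd ≫ snd G X) (s.fst ≫ snd G Y))) ?_ ?_ ?_⟩⟩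
    · intro s
      apply CartesianMonoidalCategory.hom_ext
      · simp [s.condition]
      · simp
    · intro s
      apply CartesianMonoidalCategory.hom_ext <;> simp
    · intro s u h1 h2
      rw [efst u, ← h1, ← h2]
      apply CartesianMonoidalCategory.hom_ext
      · simp
      · simp only [lift_snd]
        apply CartesianMonoidalCategory.hom_ext <;> simp
  have prodSq' : IsPullback (G ◁ snd X Y).left (G ◁ fst X Y).left (fst G Y).left (fst G X).left :=
    (Over.forget _).map_isPullback prodSq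
  have sP := prodSq'.paste_horiz sY.flip
  have h1 : (G ◁ snd X Y).left ≫ qY.left = qXY.left ≫ fY.left := by
    rw [← Over.comp_left, ← hfY, Over.comp_left]
  have h2 : (fst G X).left ≫ π.left = qX.left ≫ pX.left := by
    rw [← Over.comp_left, ← hpX, Over.comp_left]
  rw [h1, h2] at sP
  have hw : fY.left ≫ pY.left = fX.left ≫ pX.left := by
    rw [← Over.comp_left, ← Over.comp_left, hfYp, hfXp]
  let ψ := pullback.lift fY.left fX.left hw
  have hL : IsPullback (qXY.left ≫ ψ) (G ◁ fst X Y).left (pullback.snd pY.left pX.left) qX.left := by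
    refine IsPullback.of_right ?_ ?_ (IsPullback.of_hasPullback pY.left pX.left)
    · rw [Category.assoc, pullback.lift_fst]
      exact sP
    · rw [Category.assoc, pullback.lift_snd, ← Over.comp_left, hfX, Over.comp_left]
  have hT : IsPullback qXY.left (𝟙 _) ψ (qXY.left ≫ ψ) := by
    refine IsPullback.of_bot ?_ (by simp) hL
    rw [Category.id_comp, pullback.lift_snd]
    exact s1.flip
  have hQ : (@Surjective ⊓ @Flat ⊓ @QuasiCompact : MorphismProperty Scheme.{u}) (qXY.left ≫ ψ) :=
    ⟨⟨MorphismProperty.of_isPullback hL.flip (inferInstance : Surjective qX.left),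
      MorphismProperty.of_isPullback hL.flip (inferInstance : Flat qX.left)⟩,
      MorphismProperty.of_isPullback hL.flip (inferInstance : QuasiCompact qX.left)⟩
  haveI : IsIso ψ := MorphismProperty.of_isPullback_of_descendsAlong
    (P := MorphismProperty.isomorphisms Scheme.{u}) hT.flip hQ
    (inferInstanceAs (IsIso (𝟙 (G ⊗ (X ⊗ Y)).left)))
  exact (IsPullback.of_iso_pullback ⟨hw⟩ (asIso ψ) (pullback.lift_fst _ _ _) (pullback.lift_snd _ _ _)).flip

end Groth.Agent.S14886
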