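import Groth.Statements.S14888
import Mathlib
-- import your own Groth.Agent.* helpers here

set_option autoImplicit false
universe u
open CategoryTheory AlgebraicGeometry
open CAlg

namespace Groth.Agent.S14888

/-- Let R be a valuation ring whose spectrum is finite (finite height) and let f : X → Spec R be locally
of finite type with locally quasi-finite fibres. For every x ∈ X the canonical morphism Spec O_{X,x}
→ X is an open immersion, and the composite Spec O_{X,x} → Spec R is locally of finite type; in
particular O_{X,x} is finitely generated as an R-algebra. (The published statement takes X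
quasi-finite over Spec R; the assertions are local at x, so this row assumes only that X is locally
of finite type with discrete fibres.) -/
theorem result
    (R : Type u) [CommRing R] [IsDomain R] [ValuationRing R] [Finite (PrimeSpectrum R)]
    {X : Scheme.{u}} (f : X ⟶ Spec (CommRingCat.of R)) [LocallyOfFiniteType f] [LocallyQuasiFinite f]
    (x : X) :
    IsOpenImmersion (X.fromSpecStalk x) ∧ LocallyOfFiniteType (X.fromSpecStalk x ≫ f) := by
  obtain ⟨U, hU, hxU, -⟩ := exists_isAffineOpen_mem_and_subset (X := X) (x := x) (U := ⊤) trivial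
  have : IsAffine U.toScheme := hU
  let g := U.ι ≫ f
  have : QuasiCompact g := inferInstance
  have hfin : Finite U.toScheme := by
    have h : (Set.univ : Set U.toScheme).Finite := by
      rw [← Set.preimage_univ (f := g)]
      rw [← Set.biUnion_of_singleton (Set.univ : Set (Spec (CommRingCat.of R))), Set.preimage_iUnion₂]
      have : Finite (Spec (CommRingCat.of R)) := inferInstanceAs (Finite (PrimeSpectrum R))
      exact Set.finite_univ.biUnion fun y _ => g.finite_preimage_singleton y
    exact Set.finite_univ_iff.1 h
  have hUfin : (U : Set X).Finite := by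
    have h := Set.finite_range (fun y : U.toScheme => U.ι y)
    exact h.subset (Scheme.Opens.range_ι U).ge
  let N : Set X := (U : Set X) ∩ ⋂ y ∈ {y ∈ (U : Set X) | ¬ y ⤳ x}, (closure {y})ᶜ
  have hN : IsOpen N :=
    U.2.inter ((hUfin.subset (Set.sep_subset _ _)).isOpen_biInter fun y _ => isClosed_closure.isOpen_compl)
  have hxN : x ∈ N := ⟨hxU, Set.mem_iInter₂.2 fun y hy h => hy.2 (specializes_iff_mem_closure.2 h)⟩
  obtain ⟨a, haN, hxa⟩ := hU.exists_basicOpen_le (V := ⟨N, hN⟩) ⟨x, hxN⟩ hxU
  let W := X.basicOpen a
  have hW : IsAffineOpen W := hU.basicOpen a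
  have hmin : ∀ y ∈ W, y ⤳ x := fun y hy => by
    by_contra hcon
    exact Set.mem_iInter₂.1 (haN hy).2 y ⟨(haN hy).1, hcon⟩ (subset_closure rfl)
  letI : Algebra Γ(X, W) (X.presheaf.stalk x) := (X.presheaf.germ W x hxa).hom.toAlgebra
  have : IsLocalization.AtPrime (X.presheaf.stalk x) (hW.primeIdealOf ⟨x, hxa⟩).asIdeal :=
    hW.isLocalization_stalk ⟨x, hxa⟩
  have hunit : (hW.primeIdealOf ⟨x, hxa⟩).asIdeal.primeCompl ≤ IsUnit.submonoid Γ(X, W) := fun b hb => by
    have hxb : x ∈ X.basicOpen b := (X.mem_basicOpen b x hxa).2
      (IsLocalization.map_units (X.presheaf.stalk x) ⟨b, hb⟩)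
    exact X.toRingedSpace.isUnit_of_isUnit_germ W b fun y hy =>
      (X.mem_basicOpen b y hy).1 ((hmin y hy).mem_open (X.basicOpen b).2 hxb)
  have hbij : Function.Bijective (X.presheaf.germ W x hxa).hom :=
    (IsLocalization.atUnits Γ(X, W) (hW.primeIdealOf ⟨x, hxa⟩).asIdeal.primeCompl
      (S := X.presheaf.stalk x) hunit).bijective
  have : IsIso (X.presheaf.germ W x hxa) := (ConcreteCategory.isIso_iff_bijective _).2 hbij
  have hoi : IsOpenImmersion (X.fromSpecStalk x) := by
    rw [← hW.fromSpecStalk_eq_fromSpecStalk hxa, IsAffineOpen.fromSpecStalk]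
    infer_instance
  exact ⟨hoi, inferInstance⟩

end Groth.Agent.S14888
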