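import Groth.Statements.S14891
import Mathlib.RingTheory.AlgebraicIndependent.TranscendenceBasis
import Mathlib.RingTheory.Henselian
import Mathlib.RingTheory.RegularLocalRing.Defs
import Mathlib.RingTheory.SimpleRing.Principal
import Mathlib.RingTheory.Valuation.Extension
import Mathlib.Tactic

set_option linter.all false

set_option autoImplicit false
universe u
open CAlg


namespace Groth.Agent.S14891

theorem algebraicIndependent_abhyankar
    {K L Γ₀ Γ₁ : Type u} [Field K] [Field L] [Algebra K L]
    [LinearOrderedCommGroupWithZero Γ₀] [LinearOrderedCommGroupWithZero Γ₁]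
    (vK : Valuation K Γ₀) (vL : Valuation L Γ₁) [vK.HasExtension vL] {σ τ : Type u}
    (x : σ → Lˣ) (y : τ → vL.valuationSubring)
    (hx : LinearIndependent ℤ (fun i => (QuotientAddGroup.mk (Additive.ofMul (x i)) :
      Additive Lˣ ⧸ Subgroup.toAddSubgroup
        (vL.valuationSubring.unitGroup ⊔ (Units.map (algebraMap K L).toMonoidHom).range))))
    (hy : AlgebraicIndependent (IsLocalRing.ResidueField vK.valuationSubring)
      (fun j => IsLocalRing.residue vL.valuationSubring (y j))) :
    AlgebraicIndependent K (Sum.elim (fun i => (x i : L)) (fun j => (y j : L))) := by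
  classical
  rw [algebraicIndependent_iff]
  intro P hP
  let φ : MvPolynomial τ K →ₐ[K] L := MvPolynomial.aeval (fun j => (y j : L))
  -- value of a polynomial in the `y`
  have key : ∀ Q : MvPolynomial τ K, Q ≠ 0 → ∃ c : Kˣ, vL (φ Q) = vL (algebraMap K L c) := by
    intro Q hQ
    obtain ⟨d₀, hd₀, hmax⟩ := Finset.exists_max_image Q.support (fun d => vK (Q.coeff d))
      (MvPolynomial.support_nonempty.mpr hQ)
    set c := Q.coeff d₀ with hc
    have hc0 : c ≠ 0 := MvPolynomial.mem_support_iff.mp hd₀
    have hle : ∀ d, Q.coeff d * c⁻¹ ∈ vK.valuationSubring := by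
      intro d
      rw [Valuation.mem_valuationSubring_iff]
      by_cases hd : d ∈ Q.support
      · rw [map_mul, map_inv₀, ← div_eq_mul_inv, div_le_one₀ (zero_lt_iff.mpr ((Valuation.ne_zero_iff _).mpr hc0))]
        exact hmax d hd
      · rw [MvPolynomial.notMem_support_iff.mp hd, zero_mul, map_zero]; exact zero_le
    let Q' : MvPolynomial τ vK.valuationSubring :=
      ∑ d ∈ Q.support, MvPolynomial.monomial d ⟨Q.coeff d * c⁻¹, hle d⟩
    have hmap : MvPolynomial.C c⁻¹ * Q = MvPolynomial.map vK.valuationSubring.subtype Q' := by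
      conv_lhs => rw [MvPolynomial.as_sum Q, Finset.mul_sum]
      rw [map_sum]
      refine Finset.sum_congr rfl fun d _ => ?_
      rw [MvPolynomial.C_mul_monomial, MvPolynomial.map_monomial, mul_comm]
      rfl
    let z : vL.valuationSubring := MvPolynomial.aeval y Q'
    have hz : (z : L) = algebraMap K L c⁻¹ * φ Q := by
      have h1 : φ (MvPolynomial.C c⁻¹ * Q) = algebraMap K L c⁻¹ * φ Q := by
        rw [map_mul, MvPolynomial.aeval_C]
      rw [← h1, hmap]
      show vL.valuationSubring.subtype (MvPolynomial.aeval y Q') =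
        MvPolynomial.aeval (fun j => (y j : L)) _
      rw [MvPolynomial.aeval_def, MvPolynomial.eval₂_comp_left, MvPolynomial.aeval_def,
        MvPolynomial.eval₂_map]
      rfl
    have hres : IsLocalRing.residue vL.valuationSubring z =
        MvPolynomial.aeval (fun j => IsLocalRing.residue vL.valuationSubring (y j))
          (MvPolynomial.map (IsLocalRing.residue vK.valuationSubring) Q') := by
      show IsLocalRing.residue _ (MvPolynomial.aeval y Q') = _
      rw [MvPolynomial.aeval_def, MvPolynomial.eval₂_comp_left, MvPolynomial.aeval_def,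
        MvPolynomial.eval₂_map]
      rfl
    have hne : IsLocalRing.residue vL.valuationSubring z ≠ 0 := by
      rw [hres]
      refine fun h => ?_
      have h2 := congrArg (MvPolynomial.coeff d₀) (hy.eq_zero_of_aeval_eq_zero _ h)
      rw [MvPolynomial.coeff_map, MvPolynomial.coeff_zero, MvPolynomial.coeff_sum,
        Finset.sum_eq_single d₀ (fun d _ hd => by rw [MvPolynomial.coeff_monomial, if_neg hd])
          (fun h' => absurd hd₀ h'), MvPolynomial.coeff_monomial, if_pos rfl] at h2
      rw [show (⟨Q.coeff d₀ * c⁻¹, hle d₀⟩ : vK.valuationSubring) = 1 from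
        Subtype.ext (mul_inv_cancel₀ hc0), map_one] at h2
      exact one_ne_zero h2
    have hunit : IsUnit z := (IsLocalRing.residue_ne_zero_iff_isUnit z).mp hne
    have hv1 : vL (z : L) = 1 :=
      (Valuation.integer.integers (v := vL)).one_of_isUnit hunit
    refine ⟨Units.mk0 c hc0, ?_⟩
    rw [hz, map_mul, map_inv₀ (algebraMap K L), map_inv₀] at hv1
    have hc' : vL (algebraMap K L c) ≠ 0 := (Valuation.ne_zero_iff _).mpr (by simpa using hc0)
    exact ((inv_mul_eq_one₀ hc').mp hv1).symm
  let P' : MvPolynomial σ (MvPolynomial τ K) := MvPolynomial.sumAlgEquiv K σ τ P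
  suffices P' = 0 from (MvPolynomial.sumAlgEquiv K σ τ).injective (this.trans (map_zero _).symm)
  have hPe : MvPolynomial.eval₂ φ.toRingHom (fun i => (x i : L)) P' = 0 := by
    rw [← hP]
    have : ((MvPolynomial.eval₂Hom φ.toRingHom (fun i => (x i : L))).comp
        (MvPolynomial.sumAlgEquiv K σ τ).toAlgHom.toRingHom) =
        (MvPolynomial.aeval (Sum.elim (fun i => (x i : L)) (fun j => (y j : L)))).toRingHom := by
      apply MvPolynomial.ringHom_ext
      · intro r; simp [φ]
      · rintro (i | j) <;> simp [φ]
    exact congrArg (fun f : MvPolynomial (σ ⊕ τ) K →+* L => f P) this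
  by_contra hne
  set T : (σ →₀ ℕ) → L := fun e => φ (P'.coeff e) * ∏ i ∈ e.support, (x i : L) ^ e i
  have hsum : ∑ e ∈ P'.support, T e = 0 := by
    rw [← hPe, MvPolynomial.eval₂_eq]; rfl
  choose! c hc using fun e (he : e ∈ P'.support) => key _ (MvPolynomial.mem_support_iff.mp he)
  have hval : ∀ e ∈ P'.support,
      vL (T e) = vL ((Units.map (algebraMap K L).toMonoidHom (c e) * ∏ i ∈ e.support, x i ^ e i : Lˣ) : L) := by
    intro e he
    rw [map_mul, hc e he, ← map_mul]
    simp [Units.coe_prod]
  have hinj : ∀ e ∈ P'.support, ∀ e' ∈ P'.support, vL (T e) = vL (T e') → e = e' := by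
    intro e he e' he' h
    rw [hval e he, hval e' he'] at h
    let π : Lˣ →* Multiplicative (Additive Lˣ ⧸ Subgroup.toAddSubgroup
        (vL.valuationSubring.unitGroup ⊔ (Units.map (algebraMap K L).toMonoidHom).range)) :=
      AddMonoidHom.toMultiplicativeRight (QuotientAddGroup.mk' _)
    have hker : ∀ u : Lˣ, u ∈ vL.valuationSubring.unitGroup ⊔ (Units.map (algebraMap K L).toMonoidHom).range →
        π u = 1 := fun u hu => (QuotientAddGroup.eq_zero_iff (Additive.ofMul u)).mpr hu
    set A := Units.map (algebraMap K L).toMonoidHom (c e) * ∏ i ∈ e.support, x i ^ e i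
    set B := Units.map (algebraMap K L).toMonoidHom (c e') * ∏ i ∈ e'.support, x i ^ e' i
    have h1 : π A = π B := by
      refine div_eq_one.mp ((map_div π A B).symm.trans (hker _ (Subgroup.mem_sup_left ?_)))
      rw [ValuationSubring.mem_unitGroup_iff]
      refine (vL.isEquiv_valuation_valuationSubring.eq_one_iff_eq_one).mp ?_
      rw [Units.val_div_eq_div_val, map_div₀, h, div_self ((Valuation.ne_zero_iff _).mpr B.ne_zero)]
    have h2 : ∀ e : σ →₀ ℕ, ∀ u : Kˣ, π (Units.map (algebraMap K L).toMonoidHom u * ∏ i ∈ e.support, x i ^ e i) =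
        Multiplicative.ofAdd (Finsupp.linearCombination ℤ (fun i => (QuotientAddGroup.mk (Additive.ofMul (x i)) :
          Additive Lˣ ⧸ Subgroup.toAddSubgroup
            (vL.valuationSubring.unitGroup ⊔ (Units.map (algebraMap K L).toMonoidHom).range)))
          (e.mapRange (fun n : ℕ => (n : ℤ)) Nat.cast_zero)) := by
      intro e u
      rw [show ∀ z, π (Units.map (algebraMap K L).toMonoidHom u * z) = π z from fun z =>
        div_eq_one.mp ((map_div π _ _).symm.trans (by
          rw [mul_div_cancel_right]; exact hker _ (Subgroup.mem_sup_right ⟨u, rfl⟩))), map_prod,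
        Finsupp.linearCombination_apply, Finsupp.sum_mapRange_index, Finsupp.sum, ofAdd_sum]
      · refine Finset.prod_congr rfl fun i _ => ?_
        rw [map_pow, natCast_zsmul, ofAdd_nsmul]
        rfl
      · intro a; exact zero_smul ℤ _
    rw [h2, h2] at h1
    have h3 := hx (Multiplicative.ofAdd.injective h1)
    ext i
    have := congrArg (fun f => f i) h3
    simpa using this
  obtain ⟨e₀, he₀, hmax⟩ := Finset.exists_max_image P'.support (fun e => vL (T e))
    (MvPolynomial.support_nonempty.mpr hne)
  have h0 : vL (T e₀) ≠ 0 := by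
    rw [hval e₀ he₀]
    exact (Valuation.ne_zero_iff _).mpr (Units.ne_zero _)
  have hlt : vL (∑ e ∈ P'.support, T e) = vL (T e₀) := by
    refine vL.map_sum_eq_of_lt he₀ ?_
    intro e he
    rw [Finset.mem_sdiff, Finset.mem_singleton] at he
    exact lt_of_le_of_ne (hmax e he.1) fun h => he.2 (hinj e he.1 e₀ he₀ h)
  rw [hsum, map_zero] at hlt
  exact h0 hlt.symm

/-- Let L/K be an extension of valued fields, i.e. v_L is a valuation on L whose restriction to K is
equivalent to v_K. Write E for the rational rank of the quotient of value groups |L^×|/|K^×| — here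
the rank of the abelian group L^× modulo the subgroup generated by the units of the valuation ring
of v_L and the image of K^× — and F for the transcendence degree of the residue field of v_L over
that of v_K. Then E + F ≤ tr.deg(L/K) (an inequality of cardinals). -/
theorem result
    {K L Γ₀ Γ₁ : Type u} [Field K] [Field L] [Algebra K L]
    [LinearOrderedCommGroupWithZero Γ₀] [LinearOrderedCommGroupWithZero Γ₁]
    (vK : Valuation K Γ₀) (vL : Valuation L Γ₁) [vK.HasExtension vL] :
    Module.rank ℤ (Additive Lˣ ⧸ Subgroup.toAddSubgroup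
        (vL.valuationSubring.unitGroup ⊔ (Units.map (algebraMap K L).toMonoidHom).range)) +
      Algebra.trdeg (IsLocalRing.ResidueField vK.valuationSubring)
        (IsLocalRing.ResidueField vL.valuationSubring) ≤ Algebra.trdeg K L := by
  classical
  obtain ⟨s, hs, hsi⟩ := exists_set_linearIndependent ℤ (Additive Lˣ ⧸ Subgroup.toAddSubgroup
        (vL.valuationSubring.unitGroup ⊔ (Units.map (algebraMap K L).toMonoidHom).range))
  obtain ⟨t, ht⟩ := exists_isTranscendenceBasis (IsLocalRing.ResidueField vK.valuationSubring)
    (IsLocalRing.ResidueField vL.valuationSubring)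
  rw [← hs, ← ht.cardinalMk_eq_trdeg]
  choose x hx using fun a : s => QuotientAddGroup.mk_surjective (a : Additive Lˣ ⧸ Subgroup.toAddSubgroup
        (vL.valuationSubring.unitGroup ⊔ (Units.map (algebraMap K L).toMonoidHom).range))
  choose y hy using fun b : t => IsLocalRing.residue_surjective (b : IsLocalRing.ResidueField vL.valuationSubring)
  have h := algebraicIndependent_abhyankar vK vL (fun a => Additive.toMul (x a)) y
    (by
      have e : (fun i : s => (QuotientAddGroup.mk (x i) : Additive Lˣ ⧸ Subgroup.toAddSubgroup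
        (vL.valuationSubring.unitGroup ⊔ (Units.map (algebraMap K L).toMonoidHom).range))) = Subtype.val :=
        funext hx
      exact e.symm ▸ hsi) (by simpa [hy] using! ht.1)
  have := h.cardinalMk_le_trdeg
  rwa [Cardinal.mk_sum, Cardinal.lift_id, Cardinal.lift_id] at this

end Groth.Agent.S14891
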