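import Groth.Statements.S14892
import Mathlib.RingTheory.AlgebraicIndependent.TranscendenceBasis
import Mathlib.RingTheory.Valuation.ValuationSubring
import Mathlib.RingTheory.KrullDimension.Basic
import Mathlib.RingTheory.Multiplicity
import Mathlib.RingTheory.Int.Basic
import Mathlib.Algebra.Field.Subfield.Basic
-- import your own Groth.Agent.* helpers here

set_option autoImplicit false
set_option linter.all false
set_option backward.isDefEq.respectTransparency false
universe u
open CAlg

namespace Groth.Agent.S14892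

variable {K : Type u} [Field K]

/-- monomials in a chain of primes of a valuation ring have lexicographically ordered values -/
theorem monomial_dvd {A : Type u} [CommRing A] [IsDomain A] [ValuationRing A] {n : ℕ} (P : Fin n → Ideal A)
    (hP : ∀ i, (P i).IsPrime) (x : Fin n → A) (hx : ∀ i, x i ∈ P i) (hlt : ∀ i j, i < j → x j ∉ P i)
    (e e' : Fin n → ℕ) (i : Fin n) (hi : ∀ j, j < i → e j = e' j) (hei : e' i < e i) :
    ∃ r, ¬ IsUnit r ∧ (∏ j, x j ^ e j) = (∏ j, x j ^ e' j) * r := by
  classical
  haveI := hP i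
  let q := ∏ j ∈ Finset.univ.filter (i < ·), x j ^ e' j
  have hq : q ∉ P i := by
    intro hq
    obtain ⟨j, hj, hj'⟩ := ((hP i).prod_mem_iff).mp hq
    exact hlt i j (Finset.mem_filter.mp hj).2 ((hP i).mem_of_pow_mem _ hj')
  obtain ⟨r, hr⟩ : ∃ r, x i = q * r := by
    rcases ValuationRing.dvd_total q (x i) with h | ⟨c, hc⟩
    · exact h
    · exact absurd (hc ▸ (P i).mul_mem_right c (hx i)) hq
  have hrP : r ∈ P i := ((hP i).mem_or_mem (hr ▸ hx i)).resolve_left hq
  refine ⟨r * (x i ^ (e i - e' i - 1) * ∏ j ∈ Finset.univ.filter (i < ·), x j ^ e j), fun hu => ?_, ?_⟩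
  · exact (hP i).ne_top ((P i).eq_top_of_isUnit_mem hrP (isUnit_of_mul_isUnit_left hu))
  · have hsplit : ∀ f : Fin n → ℕ, ∏ j, x j ^ f j =
        (∏ j ∈ Finset.univ.filter (· < i), x j ^ f j) * x i ^ f i * ∏ j ∈ Finset.univ.filter (i < ·), x j ^ f j := by
      intro f
      rw [← Finset.prod_filter_mul_prod_filter_not Finset.univ (· < i), mul_assoc]
      congr 1
      rw [show Finset.univ.filter (fun j => ¬ j < i) = insert i (Finset.univ.filter (i < ·)) from by
        ext j; simp [le_iff_eq_or_lt, eq_comm], Finset.prod_insert (by simp)]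
    rw [hsplit e, hsplit e', Finset.prod_congr rfl (fun j hj => by rw [hi j (Finset.mem_filter.mp hj).2])]
    have h2 : x i ^ e i = x i ^ e' i * (q * r) * x i ^ (e i - e' i - 1) := by
      rw [← hr, ← pow_succ, ← pow_add]
      congr 1; omega
    rw [h2]
    ring

theorem sum_monomial_ne_zero {A : Type u} [CommRing A] [IsDomain A] [ValuationRing A] {n : ℕ} (P : Fin n → Ideal A)
    (hP : ∀ i, (P i).IsPrime) (x : Fin n → A) (hx : ∀ i, x i ∈ P i) (hlt : ∀ i j, i < j → x j ∉ P i)
    (hx0 : ∀ i, x i ≠ 0)
    {ι : Type*} (S : Finset ι) (hS : S.Nonempty) (e : ι → Fin n → ℕ) (he : Set.InjOn e S) (u : ι → Aˣ) :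
    ∑ m ∈ S, (u m : A) * ∏ j, x j ^ e m j ≠ 0 := by
  classical
  obtain ⟨m₀, hm₀, hmin⟩ := S.exists_min_image (fun m => toLex (e m)) hS
  have hdiv : ∀ m ∈ S.erase m₀, ∃ r, ¬ IsUnit r ∧ (∏ j, x j ^ e m j) = (∏ j, x j ^ e m₀ j) * r := by
    intro m hm
    obtain ⟨hne, hm⟩ := Finset.mem_erase.mp hm
    have hlt' : toLex (e m₀) < toLex (e m) := lt_of_le_of_ne (hmin m hm) fun h => hne (he hm hm₀ (toLex.injective h).symm)
    obtain ⟨i, hi, hei⟩ := hlt'
    exact monomial_dvd P hP x hx hlt (e m) (e m₀) i (fun j hj => (hi j hj).symm) hei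
  choose r hr hr' using hdiv
  rw [← Finset.add_sum_erase _ _ hm₀, ← Finset.sum_attach (S.erase m₀)]
  rw [Finset.sum_congr rfl (fun m _ => by rw [hr' m.1 m.2, mul_left_comm])]
  rw [← Finset.mul_sum, mul_comm (u m₀ : A), ← mul_add]
  refine mul_ne_zero (Finset.prod_ne_zero_iff.mpr fun j _ => pow_ne_zero _ (hx0 j)) fun h0 => ?_
  have hmem : ∑ m ∈ (S.erase m₀).attach, (u m.1 : A) * r m.1 m.2 ∈ IsLocalRing.maximalIdeal A :=
    sum_mem fun m _ => Ideal.mul_mem_left _ _ (hr m.1 m.2)
  rw [show ∑ m ∈ (S.erase m₀).attach, (u m.1 : A) * r m.1 m.2 = -(u m₀ : A) by linear_combination h0, neg_mem_iff] at hmem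
  exact hmem (u m₀).isUnit

/-- every nonzero element of the prime field is a unit times a power of one natural number -/
theorem exists_uniformizer (A : ValuationSubring K) :
    (∀ c : (⊥ : Subfield K), c ≠ 0 → ∃ u : Aˣ, ((u : A) : K) = c) ∨
    ∃ p : ℕ, (p : A) ∈ IsLocalRing.maximalIdeal A ∧ (p : K) ≠ 0 ∧
      ∀ c : (⊥ : Subfield K), c ≠ 0 → ∃ (a b : ℕ) (u : Aˣ), (p : K) ^ b * c = ((u : A) : K) * (p : K) ^ a := by
  classical
  have hform : ∀ c : (⊥ : Subfield K), c ≠ 0 → ∃ a b : ℤ, (a : K) ≠ 0 ∧ (b : K) ≠ 0 ∧ (c : K) = a / b := by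
    intro c hc
    have h : (c : K) ∈ Subfield.closure (∅ : Set K) := by rw [Subfield.closure_empty]; exact c.2
    obtain ⟨x, hx, y, hy, hxy⟩ := Subfield.mem_closure_iff.mp h
    rw [Subring.closure_empty, Subring.mem_bot] at hx hy
    obtain ⟨a, rfl⟩ := hx
    obtain ⟨b, rfl⟩ := hy
    have hc0 : (c : K) ≠ 0 := fun h0 => hc (Subtype.ext h0)
    rw [← hxy, div_ne_zero_iff] at hc0
    exact ⟨a, b, hc0.1, hc0.2, hxy.symm⟩
  by_cases hex : ∃ p : ℕ, p.Prime ∧ (p : K) ≠ 0 ∧ (p : A) ∈ IsLocalRing.maximalIdeal A
  · obtain ⟨p, hp, hp0, hpm⟩ := hex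
    refine Or.inr ⟨p, hpm, hp0, fun c hc => ?_⟩
    have key : ∀ a : ℤ, (a : K) ≠ 0 → ∃ (v : ℕ) (u : Aˣ), (a : K) = ((u : A) : K) * (p : K) ^ v := by
      intro a ha
      obtain ⟨m, hvm', hm⟩ := (Int.finiteMultiplicity_iff (a := (p : ℤ)) (b := a)).mpr
        ⟨by simpa using hp.ne_one, fun h0 => ha (by rw [h0, Int.cast_zero])⟩ |>.exists_eq_pow_mul_and_not_dvd
      obtain ⟨v, hvm⟩ : ∃ v, a = (p : ℤ) ^ v * m := ⟨_, hvm'⟩
      have hu : IsUnit (m : A) := by
        by_contra hnu
        have hcop : IsCoprime (p : ℤ) m := (Nat.prime_iff_prime_int.mp hp).coprime_iff_not_dvd.mpr hm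
        obtain ⟨x, y, hxy⟩ := hcop
        have h1 := congrArg (fun z : ℤ => (z : A)) hxy
        push_cast at h1
        exact (IsLocalRing.maximalIdeal.isMaximal A).ne_top ((Ideal.eq_top_iff_one _).mpr
          (h1 ▸ add_mem (Ideal.mul_mem_left _ _ hpm) (Ideal.mul_mem_left _ _ (show (m : A) ∈ IsLocalRing.maximalIdeal A from hnu))))
      obtain ⟨u, hu⟩ := hu
      refine ⟨v, u, ?_⟩
      rw [hvm, hu]; push_cast; ring
    obtain ⟨a, b, ha, hb, hcab⟩ := hform c hc
    obtain ⟨v, u, hau⟩ := key a ha
    obtain ⟨w, u', hbu⟩ := key b hb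
    refine ⟨v, w, u * u'⁻¹, ?_⟩
    have h1 : ((u' : A) : K) * (((u'⁻¹ : Aˣ) : A) : K) = 1 := congrArg Subtype.val u'.mul_inv
    rw [hbu] at hb
    rw [hcab, hau, hbu, Units.val_mul]
    push_cast
    rw [eq_inv_of_mul_eq_one_right h1]
    have h2 : ((u' : A) : K) ≠ 0 := left_ne_zero_of_mul hb
    have h3 : (p : K) ^ w ≠ 0 := right_ne_zero_of_mul hb
    field_simp
  · push Not at hex
    refine Or.inl fun c hc => ?_
    have key : ∀ a : ℕ, (a : K) ≠ 0 → IsUnit (a : A) := by
      intro a
      induction a using Nat.strong_induction_on with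
      | _ a ih =>
        intro ha
        by_cases h1 : a = 1
        · subst h1; simp
        have hp := Nat.minFac_prime h1
        obtain ⟨q, hq⟩ := Nat.minFac_dvd a
        have ha' : ((a.minFac : ℕ) : K) ≠ 0 ∧ (q : K) ≠ 0 := by
          rw [hq, Nat.cast_mul] at ha; exact ⟨left_ne_zero_of_mul ha, right_ne_zero_of_mul ha⟩
        have hlt : q < a := by
          have hq0 : q ≠ 0 := fun h0 => ha'.2 (by rw [h0, Nat.cast_zero])
          calc q = 1 * q := (one_mul q).symm
            _ < a.minFac * q := Nat.mul_lt_mul_of_pos_right hp.one_lt (Nat.pos_of_ne_zero hq0)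
            _ = a := hq.symm
        rw [hq, Nat.cast_mul]
        exact (IsLocalRing.notMem_maximalIdeal.mp (hex _ hp ha'.1)).mul (ih q hlt ha'.2)
    have keyZ : ∀ a : ℤ, (a : K) ≠ 0 → IsUnit (a : A) := by
      intro a ha
      obtain ⟨n, rfl | rfl⟩ := a.eq_nat_or_neg
      · simpa using key n (by simpa using ha)
      · simpa using (key n (by simpa using ha)).neg
    obtain ⟨a, b, ha, hb, hcab⟩ := hform c hc
    obtain ⟨u, hu⟩ := keyZ a ha
    obtain ⟨v, hv⟩ := keyZ b hb
    refine ⟨u * v⁻¹, ?_⟩
    have h1 : ((v : A) : K) * (((v⁻¹ : Aˣ) : A) : K) = 1 := congrArg Subtype.val v.mul_inv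
    rw [hcab, Units.val_mul]
    push_cast
    rw [eq_inv_of_mul_eq_one_right h1, hu, hv, div_eq_mul_inv]
    push_cast
    rfl

/-- If the field K has finite transcendence degree d over its prime subfield, then every valuation
subring of K has height (Krull dimension) at most d + 1. -/
theorem result
    (K : Type u) [Field K] (A : ValuationSubring K) (d : ℕ)
    (hd : Algebra.trdeg (⊥ : Subfield K) K = d) :
    ringKrullDim A ≤ ((d + 1 : ℕ) : WithBot ℕ∞) := by
  classical
  refine iSup_le fun l => ?_
  rw [Nat.cast_le]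
  let n := l.length
  let P : Fin n → Ideal A := fun i => (l i.succ).asIdeal
  have hP : ∀ i, (P i).IsPrime := fun i => (l i.succ).isPrime
  have hmono : ∀ {a b : Fin (n + 1)}, a ≤ b → (l a).asIdeal ≤ (l b).asIdeal := fun h => l.monotone h
  have hex : ∀ i : Fin n, ∃ y, y ∈ (l i.succ).asIdeal ∧ y ∉ (l i.castSucc).asIdeal := fun i =>
    SetLike.exists_of_lt (l.step i)
  choose y hy hy' using hex
  have hylt : ∀ (x : Fin n → A), (∀ i, x i ∉ (l i.castSucc).asIdeal) → ∀ i j, i < j → x j ∉ P i :=
    fun x hx i j hij h => hx j (hmono (Fin.succ_le_castSucc_iff.mpr hij) h)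
  rcases exists_uniformizer A with hunit | ⟨p, hpm, hp0, hpow⟩
  · -- the prime field consists of units
    have hind : AlgebraicIndependent (⊥ : Subfield K) fun i => ((y i : A) : K) := by
      rw [algebraicIndependent_iff]
      intro f hf
      by_contra hf0
      choose u hu using fun m : f.support => hunit (f.coeff m.1) (MvPolynomial.mem_support_iff.mp m.2)
      refine sum_monomial_ne_zero P hP y hy (hylt y hy') (fun i h0 => hy' i (h0 ▸ zero_mem _)) f.support.attach
        (by simpa using MvPolynomial.support_nonempty.mpr hf0) (fun m i => m.1 i)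
        (fun a _ b _ h => Subtype.ext (Finsupp.ext (congrFun h))) u ?_
      apply Subtype.val_injective
      refine Eq.trans ?_ (hf.trans (ZeroMemClass.coe_zero A).symm)
      rw [MvPolynomial.aeval_def, MvPolynomial.eval₂_eq', ← Finset.sum_attach f.support]
      push_cast
      refine Finset.sum_congr rfl fun m _ => ?_
      rw [hu m]
      rfl
    have := hind.lift_cardinalMk_le_trdeg
    simp [hd] at this
    omega
  · -- insert `p` into the chain
    have hp_not : (p : A) ∉ (l 0).asIdeal ∨ (p : A) ∈ (l 0).asIdeal := em' _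
    by_cases hpl : (p : A) ∈ (l (Fin.last n)).asIdeal ∧ (p : A) ∉ (l 0).asIdeal
    · obtain ⟨j, hj, hj'⟩ : ∃ j : Fin n, (p : A) ∈ (l j.succ).asIdeal ∧ (p : A) ∉ (l j.castSucc).asIdeal := by
        by_contra! hno
        have : ∀ i : Fin (n + 1), (p : A) ∉ (l i).asIdeal := fun i => by
          induction i using Fin.induction with
          | zero => exact hpl.2
          | succ i ih => exact fun h => ih (hno i h)
        exact this _ hpl.1
      let x := Function.update y j (p : A)
      have hx : ∀ i, x i ∈ P i := fun i => by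
        by_cases h : i = j
        · subst h; simpa [x] using hj
        · simpa [x, h] using hy i
      have hx' : ∀ i, x i ∉ (l i.castSucc).asIdeal := fun i => by
        by_cases h : i = j
        · subst h; simpa [x] using hj'
        · simpa [x, h] using hy' i
      have hind : AlgebraicIndependent (⊥ : Subfield K) fun i : {i : Fin n // i ≠ j} => ((y i.1 : A) : K) := by
        rw [algebraicIndependent_iff]
        intro f hf
        by_contra hf0
        choose a b u hu using fun m : f.support => hpow (f.coeff m.1) (MvPolynomial.mem_support_iff.mp m.2)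
        let N := ∑ m, b m
        have hN : ∀ m, b m ≤ N := fun m => Finset.single_le_sum (fun i _ => Nat.zero_le _) (Finset.mem_univ m)
        let e : f.support → Fin n → ℕ := fun m i => if h : i = j then N - b m + a m else m.1 ⟨i, h⟩
        refine sum_monomial_ne_zero P hP x hx (hylt x hx') (fun i h0 => hx' i (h0 ▸ zero_mem _)) f.support.attach
          (by simpa using MvPolynomial.support_nonempty.mpr hf0) e
          (fun m _ m' _ h => Subtype.ext (Finsupp.ext fun i => by simpa [e, i.2] using congrFun h i.1)) u ?_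
        apply Subtype.val_injective
        have hf' := congrArg (fun z => (p : K) ^ N * z) hf
        simp only [mul_zero, MvPolynomial.aeval_def, MvPolynomial.eval₂_eq'] at hf'
        rw [Finset.mul_sum, ← Finset.sum_attach f.support] at hf'
        push_cast
        refine Eq.trans (Finset.sum_congr rfl fun m _ => ?_) hf'
        rw [← Finset.mul_prod_erase Finset.univ (fun i => ((x i : A) : K) ^ e m i) (Finset.mem_univ j)]
        have h1 : ∏ i ∈ Finset.univ.erase j, ((x i : A) : K) ^ e m i = ∏ i : {i : Fin n // i ≠ j}, ((y i.1 : A) : K) ^ m.1 i := by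
          rw [Finset.prod_subtype (p := fun i => i ≠ j) (Finset.univ.erase j) (by simp)]
          exact Finset.prod_congr rfl fun i _ => by simp [x, e, i.2]
        rw [h1, show x j = (p : A) from Function.update_self j _ y, show e m j = N - b m + a m by simp [e]]
        rw [show (algebraMap (⊥ : Subfield K) K) (f.coeff m.1) = ((f.coeff m.1 : (⊥ : Subfield K)) : K) from rfl,
          show (((p : A) : A) : K) = (p : K) from map_natCast A.subtype p, pow_add]
        have hpN : (p : K) ^ N = (p : K) ^ (N - b m) * (p : K) ^ b m := by rw [← pow_add, Nat.sub_add_cancel (hN m)]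
        rw [hpN]
        linear_combination (p : K) ^ (N - b m) * (∏ i : {i : Fin n // i ≠ j}, ((y i.1 : A) : K) ^ m.1 i) * -(hu m)
      have := hind.lift_cardinalMk_le_trdeg
      simp [hd, Cardinal.mk_fintype] at this
      omega
    · -- `p` lies outside every `l i` or inside all of them: extend the chain
      have h0 : (p : A) ≠ 0 := fun h => hp0 (by rw [← map_natCast A.subtype, h, map_zero])
      have hind : ∀ f : MvPolynomial (Fin n) (⊥ : Subfield K), MvPolynomial.aeval (fun i => ((y i : A) : K)) f = 0 → f = 0 := by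
        intro f hf
        by_contra hf0
        choose a b u hu using fun m : f.support => hpow (f.coeff m.1) (MvPolynomial.mem_support_iff.mp m.2)
        let N := ∑ m, b m
        have hN : ∀ m, b m ≤ N := fun m => Finset.single_le_sum (fun i _ => Nat.zero_le _) (Finset.mem_univ m)
        let mon : f.support → A := fun m => ∏ i, y i ^ m.1 i
        by_cases hin : (p : A) ∈ (l 0).asIdeal
        · let P' : Fin (n + 1) → Ideal A := fun i => (l i).asIdeal
          let x : Fin (n + 1) → A := Fin.cons (p : A) y
          refine sum_monomial_ne_zero P' (fun i => (l i).isPrime) x (Fin.cases hin fun i => hy i) ?_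
            (Fin.cases h0 fun i h => hy' i ((show y i = 0 from h) ▸ zero_mem _)) f.support.attach
            (by simpa using MvPolynomial.support_nonempty.mpr hf0) (fun m => Fin.cons (N - b m + a m) fun i => m.1 i)
            (fun m _ m' _ h => Subtype.ext (Finsupp.ext fun i => by simpa using congrFun h i.succ)) u ?_
          · intro i k hik h
            obtain ⟨k, rfl⟩ := Fin.exists_succ_eq.mpr (Fin.pos_iff_ne_zero.mp (lt_of_le_of_lt (Fin.zero_le i) hik))
            exact hy' k (hmono (by rwa [Fin.le_castSucc_iff]) h)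
          apply Subtype.val_injective
          have hf' := congrArg (fun z => (p : K) ^ N * z) hf
          simp only [mul_zero, MvPolynomial.aeval_def, MvPolynomial.eval₂_eq'] at hf'
          rw [Finset.mul_sum, ← Finset.sum_attach f.support] at hf'
          push_cast
          refine Eq.trans (Finset.sum_congr rfl fun m _ => ?_) hf'
          rw [Fin.prod_univ_succ]
          simp only [x, Fin.cons_zero, Fin.cons_succ]
          rw [show (algebraMap (⊥ : Subfield K) K) (f.coeff m.1) = ((f.coeff m.1 : (⊥ : Subfield K)) : K) from rfl,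
            show (((p : A) : A) : K) = (p : K) from map_natCast A.subtype p, pow_add]
          have hpN : (p : K) ^ N = (p : K) ^ (N - b m) * (p : K) ^ b m := by rw [← pow_add, Nat.sub_add_cancel (hN m)]
          rw [hpN]
          linear_combination (p : K) ^ (N - b m) * (∏ i : Fin n, ((y i : A) : K) ^ m.1 i) * -(hu m)
        · have hlast : (p : A) ∉ (l (Fin.last n)).asIdeal := fun h => hpl ⟨h, hin⟩
          let P' : Fin (n + 1) → Ideal A := Fin.snoc P (IsLocalRing.maximalIdeal A)
          let x : Fin (n + 1) → A := Fin.snoc y (p : A)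
          refine sum_monomial_ne_zero P' (Fin.lastCases (by simpa [P'] using (IsLocalRing.maximalIdeal.isMaximal A).isPrime) fun i => by simpa [P'] using hP i)
            x (Fin.lastCases (by simpa [P', x] using hpm) fun i => by simpa [P', x] using hy i) ?_
            (Fin.lastCases (by simpa [x] using h0) fun i => by simpa [x] using fun h : y i = 0 => hy' i (h ▸ zero_mem _))
            f.support.attach (by simpa using MvPolynomial.support_nonempty.mpr hf0)
            (fun m => Fin.snoc (fun i => m.1 i) (N - b m + a m))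
            (fun m _ m' _ h => Subtype.ext (Finsupp.ext fun i => by simpa using congrFun h i.castSucc)) u ?_
          · intro i k hik h
            obtain ⟨i, rfl⟩ : ∃ i' : Fin n, i'.castSucc = i := ⟨i.castPred (Fin.ne_last_of_lt hik), Fin.castSucc_castPred _ _⟩
            rw [show P' i.castSucc = P i by simp [P']] at h
            induction k using Fin.lastCases with
            | last => rw [show x (Fin.last n) = (p : A) by simp [x]] at h; exact hlast (hmono (Fin.le_last _) h)
            | cast k => rw [show x k.castSucc = y k by simp [x]] at h; exact hylt y hy' i k (by simpa using hik) h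
          apply Subtype.val_injective
          have hf' := congrArg (fun z => (p : K) ^ N * z) hf
          simp only [mul_zero, MvPolynomial.aeval_def, MvPolynomial.eval₂_eq'] at hf'
          rw [Finset.mul_sum, ← Finset.sum_attach f.support] at hf'
          push_cast
          refine Eq.trans (Finset.sum_congr rfl fun m _ => ?_) hf'
          rw [Fin.prod_univ_castSucc]
          simp only [x, Fin.snoc_last, Fin.snoc_castSucc]
          rw [show (algebraMap (⊥ : Subfield K) K) (f.coeff m.1) = ((f.coeff m.1 : (⊥ : Subfield K)) : K) from rfl,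
            show (((p : A) : A) : K) = (p : K) from map_natCast A.subtype p, pow_add]
          have hpN : (p : K) ^ N = (p : K) ^ (N - b m) * (p : K) ^ b m := by rw [← pow_add, Nat.sub_add_cancel (hN m)]
          rw [hpN]
          linear_combination (p : K) ^ (N - b m) * (∏ i : Fin n, ((y i : A) : K) ^ m.1 i) * -(hu m)
      have := (algebraicIndependent_iff.mpr hind).lift_cardinalMk_le_trdeg
      simp [hd] at this
      omega

end Groth.Agent.S14892
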