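import Groth.Statements.S14893
import Mathlib
import Groth.Agent.PruferLib.DimBound
-- import your own Groth.Agent.* helpers here

set_option autoImplicit false
universe u
open CAlg

namespace Groth.Agent.S14893

/-- Every valuation ring R is a filtered union of subrings which are valuation rings with finite
spectrum (finite height): there is a nonempty directed index type and a monotone family of such
subrings of R whose supremum is R. -/
theorem result
    (R : Type u) [CommRing R] [IsDomain R] [ValuationRing R] :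
    ∃ (ι : Type u) (_ : Preorder ι) (_ : IsDirected ι (fun a b ↦ a ≤ b)) (_ : Nonempty ι)
      (F : ι → Subring R), Monotone F ∧ (⨆ i, F i) = ⊤ ∧
        ∀ i, ValuationRing (F i) ∧ Finite (PrimeSpectrum (F i)) := by
  classical
  let L := FractionRing R
  let ι' := algebraMap R L
  have hinj : Function.Injective ι' := IsFractionRing.injective R L
  have htot : ∀ x : L, (∃ a, ι' a = x) ∨ ∃ a, ι' a = x⁻¹ := fun x => by
    obtain ⟨a, b, hb, rfl⟩ := IsFractionRing.div_surjective (A := R) x
    have hb0 : ι' b ≠ 0 := fun h => nonZeroDivisors.ne_zero hb (hinj (h.trans (map_zero _).symm))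
    rcases ValuationRing.iff_dvd_total.1 ‹_› |>.total b a with ⟨c, rfl⟩ | ⟨c, rfl⟩
    · exact Or.inl ⟨c, by rw [map_mul, mul_div_cancel_left₀ _ hb0]⟩
    · refine Or.inr ⟨c, ?_⟩
      rw [inv_div, map_mul]
      by_cases ha : ι' a = 0
      · exact absurd (by rw [map_mul, ha, zero_mul]) hb0
      · rw [mul_div_cancel_left₀ _ ha]
  let V : ValuationSubring L := ⟨ι'.range, fun x => (htot x).imp (fun ⟨a, ha⟩ => ⟨a, ha⟩) fun ⟨a, ha⟩ => ⟨a, ha⟩⟩
  let F : Finset L → Subring R := fun s => (Subfield.closure (s : Set L)).toSubring.comap ι'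
  refine ⟨Finset L, inferInstance, ⟨fun a b => ⟨a ∪ b, Finset.subset_union_left, Finset.subset_union_right⟩⟩,
    inferInstance, F, fun s t hst => fun r hr => (Subfield.closure_mono (Finset.coe_subset.2 hst) hr : ι' r ∈ Subfield.closure (t : Set L)), ?_, fun s => ?_⟩
  · refine eq_top_iff.2 fun r _ => ?_
    exact (le_iSup F {ι' r}) (Subfield.subset_closure (by simp) : ι' r ∈ Subfield.closure (↑({ι' r} : Finset L) : Set L))
  have hval : ValuationRing (F s) := by
    rw [ValuationRing.iff_dvd_total]
    refine ⟨fun a b => ?_⟩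
    by_cases ha : (a : R) = 0
    · exact Or.inr ⟨0, by rw [mul_zero]; exact Subtype.ext ha⟩
    by_cases hb : (b : R) = 0
    · exact Or.inl ⟨0, by rw [mul_zero]; exact Subtype.ext hb⟩
    rcases ValuationRing.iff_dvd_total.1 ‹_› |>.total (a : R) b with ⟨c, hc⟩ | ⟨c, hc⟩
    · have hm : ι' c ∈ Subfield.closure (s : Set L) := by
        have : ι' (b : R) / ι' (a : R) ∈ Subfield.closure (s : Set L) := div_mem (show ι' (b : R) ∈ Subfield.closure (s : Set L) from b.2) (show ι' (a : R) ∈ Subfield.closure (s : Set L) from a.2)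
        rwa [hc, map_mul, mul_div_cancel_left₀ _ ((map_ne_zero_iff _ hinj).2 ha)] at this
      exact Or.inl ⟨⟨c, hm⟩, Subtype.ext hc⟩
    · have hm : ι' c ∈ Subfield.closure (s : Set L) := by
        have : ι' (a : R) / ι' (b : R) ∈ Subfield.closure (s : Set L) := div_mem (show ι' (a : R) ∈ Subfield.closure (s : Set L) from a.2) (show ι' (b : R) ∈ Subfield.closure (s : Set L) from b.2)
        rwa [hc, map_mul, mul_div_cancel_left₀ _ ((map_ne_zero_iff _ hinj).2 hb)] at this
      exact Or.inr ⟨⟨c, hm⟩, Subtype.ext hc⟩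
  refine ⟨hval, ?_⟩
  haveI := hval
  let A : Subring L := (F s).map ι'
  let e : F s ≃+* A := (F s).equivMapOfInjective ι' hinj
  have hA : ∀ x, x ∈ A ↔ x ∈ Subfield.closure (s : Set L) ∧ ∀ _i : Unit, x ∈ V := fun x =>
    ⟨fun ⟨r, hr, hx⟩ => hx ▸ ⟨hr, fun _ => ⟨r, rfl⟩⟩, fun ⟨hx, hV⟩ => by
      obtain ⟨r, rfl⟩ := hV ()
      exact ⟨r, hx, rfl⟩⟩
  let o : PrimeSpectrum A ≃o PrimeSpectrum (F s) := PrimeSpectrum.comapEquiv e.symm
  have hb : ∀ x : PrimeSpectrum (F s), Order.height x ≤ ((s.card + 1 : ℕ) : ℕ∞) := fun x =>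
    Order.height_le fun ch _ => by
      have := Groth.Agent.PruferLib.length_le_of_chain (fun _ : Unit => V) s A hA (ch.map o.symm o.symm.strictMono)
      exact_mod_cast this
  refine Finite.of_injective (fun x : PrimeSpectrum (F s) =>
    (⟨(Order.height x).toNat, Nat.lt_succ_of_le (ENat.toNat_le_of_le_coe (hb x))⟩ : Fin (s.card + 1 + 1))) fun x y hxy => ?_
  simp only [Fin.mk.injEq] at hxy
  have hfinh : ∀ z : PrimeSpectrum (F s), Order.height z < ⊤ := fun z => (hb z).trans_lt (ENat.coe_lt_top _)
  have he : Order.height x = Order.height y := by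
    rw [← ENat.natCast_toNat (hfinh x).ne, ← ENat.natCast_toNat (hfinh y).ne, hxy]
  rcases (ValuationRing.le_total_ideal (A := F s)).total x.asIdeal y.asIdeal with h | h
  · exact (eq_or_lt_of_le (show x ≤ y from h)).elim id fun h' => absurd he (Order.height_strictMono h' (hfinh x)).ne
  · exact (eq_or_lt_of_le (show y ≤ x from h)).elim Eq.symm fun h' => absurd he (Order.height_strictMono h' (hfinh y)).ne'

end Groth.Agent.S14893
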