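import Groth.Statements.S14896
import Mathlib
-- import your own Groth.Agent.* helpers here

set_option autoImplicit false
universe u
open CAlg

namespace Groth.Agent.S14896

/-- Let L/K be a finite extension of valued fields, v_L extending v_K, with K° = the valuation ring of
v_K having finite spectrum (finite height), and L° the valuation ring of v_L. If L° is local-étale
over K°, i.e. L° is the localization at a prime ideal of some étale K°-algebra B compatibly with the
K°-algebra structures, then L° is étale over K°. (For valued fields of finite height 'unramified' in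
the local-étale sense is thus the same as K° → L° étale; the published lemma phrases the hypothesis
as 'L/K unramified'.) -/
theorem result
    {K L Γ₀ Γ₁ : Type u} [Field K] [Field L] [Algebra K L] [FiniteDimensional K L]
    [LinearOrderedCommGroupWithZero Γ₀] [LinearOrderedCommGroupWithZero Γ₁]
    (vK : Valuation K Γ₀) (vL : Valuation L Γ₁) [vK.HasExtension vL]
    [Finite (PrimeSpectrum vK.valuationSubring)]
    (B : Type u) [CommRing B] [Algebra vK.valuationSubring B] [Algebra.Etale vK.valuationSubring B]
    [Algebra B vL.valuationSubring] [IsScalarTower vK.valuationSubring B vL.valuationSubring]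
    (P : Ideal B) [P.IsPrime] [IsLocalization.AtPrime vL.valuationSubring P] :
    Algebra.Etale vK.valuationSubring vL.valuationSubring := by
  classical
  haveI : Algebra.QuasiFinite vK.valuationSubring B := inferInstance
  haveI : Finite (PrimeSpectrum B) := by
    have h := Algebra.QuasiFinite.finite_comap_preimage (S := B)
      (Set.finite_univ : (Set.univ : Set (PrimeSpectrum vK.valuationSubring)).Finite)
    rw [Set.preimage_univ] at h
    exact Set.finite_univ_iff.1 h
  have hsep : ∀ Q : PrimeSpectrum B, ∃ g ∉ P, ¬ Q.asIdeal ≤ P → g ∈ Q.asIdeal := by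
    intro Q
    by_cases h : Q.asIdeal ≤ P
    · exact ⟨1, (inferInstance : P.IsPrime).one_notMem, fun h' => absurd h h'⟩
    · obtain ⟨g, hg, hg'⟩ := SetLike.not_le_iff_exists.1 h
      exact ⟨g, hg', fun _ => hg⟩
  choose g hg hgQ using hsep
  haveI := Fintype.ofFinite (PrimeSpectrum B)
  let f : B := ∏ Q, g Q
  have hf : f ∉ P := fun h => by
    obtain ⟨Q, _, hQ⟩ := (inferInstance : P.IsPrime).prod_mem_iff.1 h
    exact hg Q hQ
  have hle : Submonoid.powers f ≤ P.primeCompl := Submonoid.powers_le.2 hf
  haveI : IsLocalization.Away f vL.valuationSubring := by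
    refine IsLocalization.iff_of_le_of_exists_dvd (Submonoid.powers f) P.primeCompl hle ?_ |>.2 inferInstance
    intro s hs
    have : f ∈ (Ideal.span {s}).radical := by
      rw [Ideal.radical_eq_sInf, Submodule.mem_sInf]
      rintro Q ⟨hQ, hQp⟩
      have hnle : ¬ Q ≤ P := fun h => hs (h (hQ (Ideal.mem_span_singleton_self s)))
      exact Ideal.prod_mem Q (Finset.mem_univ (⟨Q, hQp⟩ : PrimeSpectrum B)) (hgQ ⟨Q, hQp⟩ hnle)
    obtain ⟨m, hm⟩ := this
    exact ⟨f ^ m, ⟨m, rfl⟩, Ideal.mem_span_singleton.1 hm⟩
  haveI : Algebra.Etale B vL.valuationSubring := Algebra.Etale.of_isLocalizationAway f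
  exact Algebra.Etale.comp vK.valuationSubring B vL.valuationSubring

end Groth.Agent.S14896
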