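import Groth.Statements.S14898
import Groth.Agent.S0384
import Groth.Agent.ModPairLib.MProd

set_option autoImplicit false
universe u
open CategoryTheory CategoryTheory.Limits AlgebraicGeometry
open FlatMor

namespace Groth.Agent.S14898

/-- A finite family of proper `S`-schemes with compatible points has a proper product. -/
theorem exists_prod (ι : Type u) [Finite ι] : ∀ {K S : Scheme.{u}} (e : K ⟶ S) (T : ι → Scheme.{u})
    (g : ∀ i, T i ⟶ S) (_ : ∀ i, IsProper (g i)) (a : ∀ i, K ⟶ T i) (_ : ∀ i, a i ≫ g i = e),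
    ∃ (P : Scheme.{u}) (q : P ⟶ S) (s : K ⟶ P) (π : ∀ i, P ⟶ T i),
      IsProper q ∧ s ≫ q = e ∧ ∀ i, π i ≫ g i = q ∧ s ≫ π i = a i := by
  induction ι using Finite.induction_empty_option with
  | of_equiv eq ih =>
    intro K S e T g hg a ha
    obtain ⟨P, q, s, π, hq, hs, hπ⟩ := ih e (fun i => T (eq i)) (fun i => g (eq i)) (fun i => hg _)
      (fun i => a (eq i)) (fun i => ha _)
    have key : ∀ j, ∃ πj : P ⟶ T j, πj ≫ g j = q ∧ s ≫ πj = a j := fun j => by
      obtain ⟨i, rfl⟩ := eq.surjective j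
      exact ⟨π i, hπ i⟩
    choose π' hπ' using key
    exact ⟨P, q, s, π', hq, hs, hπ'⟩
  | h_empty =>
    intro K S e T g hg a ha
    exact ⟨S, 𝟙 S, e, fun i => i.elim, inferInstance, Category.comp_id _, fun i => i.elim⟩
  | h_option ih =>
    intro K S e T g hg a ha
    obtain ⟨P, q, s, π, hq, hs, hπ⟩ := ih e (fun i => T (some i)) (fun i => g (some i))
      (fun i => hg _) (fun i => a (some i)) (fun i => ha _)
    haveI := hg none
    refine ⟨pullback (g none) q, pullback.snd _ _ ≫ q,
      pullback.lift (a none) s ((ha none).trans hs.symm),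
      fun i => match i with
        | none => pullback.fst _ _
        | some i => pullback.snd _ _ ≫ π i,
      inferInstance, by rw [pullback.lift_snd_assoc, hs], ?_⟩
    rintro (_ | i)
    · exact ⟨pullback.condition, pullback.lift_fst _ _ _⟩
    · exact ⟨by rw [Category.assoc, (hπ i).1], by rw [pullback.lift_snd_assoc, (hπ i).2]⟩

/-- Let S be integral, quasi-compact and quasi-separated and η̄ : Spec K̄ → S dominant, K̄ a field.
Suppose given finitely many K̄-quasi-modifications of S: schematically dominant t_i : Spec K̄ → T_i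
followed by separated, quasi-compact, locally finite type p_i : T_i → S with t_i ≫ p_i = η̄. Then
there is a K̄-modification of S — a schematically dominant s : Spec K̄ → S' followed by a proper q :
S' → S with s ≫ q = η̄ — and opens V_i ⊆ S' through which s factors, together with proper
S-morphisms r_i : V_i → T_i sending the K̄-point to t_i; that is, each V_i is a K̄-modification of
T_i sitting inside S' as an open subscheme over S. -/
theorem result
    {S : Scheme.{u}} [IsIntegral S] [CompactSpace S] [QuasiSeparatedSpace S]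
    (Kb : Type u) [Field Kb] (ηb : Spec (CommRingCat.of Kb) ⟶ S) [IsDominant ηb]
    {ι : Type u} [Finite ι] (T : ι → Scheme.{u}) (t : ∀ i, Spec (CommRingCat.of Kb) ⟶ T i)
    (p : ∀ i, T i ⟶ S) [∀ i, IsSchemeTheoreticallyDominant (t i)] [∀ i, IsSeparated (p i)]
    [∀ i, LocallyOfFiniteType (p i)] [∀ i, QuasiCompact (p i)] (hp : ∀ i, t i ≫ p i = ηb) :
    ∃ (S' : Scheme.{u}) (s : Spec (CommRingCat.of Kb) ⟶ S') (q : S' ⟶ S),
      IsSchemeTheoreticallyDominant s ∧ IsProper q ∧ s ≫ q = ηb ∧
      ∀ i, ∃ (V : S'.Opens) (v : Spec (CommRingCat.of Kb) ⟶ (V : Scheme.{u}))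
        (r : (V : Scheme.{u}) ⟶ T i),
        v ≫ V.ι = s ∧ IsProper r ∧ v ≫ r = t i ∧ r ≫ p i = V.ι ≫ q := by
  choose Tc j g hj hjq hg hjg using fun i => S0384.result (p i)
  obtain ⟨P, qP, s₀, π, hqP, hs₀, hπ⟩ := exists_prod ι ηb Tc g hg (fun i => t i ≫ j i)
    (fun i => by rw [Category.assoc, hjg, hp])
  haveI := hqP
  haveI : QuasiSeparatedSpace P := quasiSeparatedSpace_of_quasiSeparated qP
  haveI : QuasiCompact s₀ := inferInstance
  haveI hdom : IsSchemeTheoreticallyDominant s₀.toImage := ⟨ModPairLib.ker_toImage s₀⟩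
  refine ⟨s₀.image, s₀.toImage, s₀.imageι ≫ qP, hdom, inferInstance,
    by rw [Scheme.Hom.toImage_imageι_assoc, hs₀], fun i => ?_⟩
  haveI := hj i
  haveI := hg i
  let ψ : s₀.image ⟶ Tc i := s₀.imageι ≫ π i
  have hψ : ψ ≫ g i = s₀.imageι ≫ qP := by rw [Category.assoc, (hπ i).1]
  haveI : IsProper (ψ ≫ g i) := by rw [hψ]; infer_instance
  haveI : IsProper ψ := IsProper.of_comp ψ (g i)
  let V : s₀.image.Opens := ψ ⁻¹ᵁ (j i).opensRange
  have hsψ : s₀.toImage ≫ ψ = t i ≫ j i := by
    rw [Scheme.Hom.toImage_imageι_assoc, (hπ i).2]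
  have hsub : Set.range s₀.toImage.base ⊆ Set.range V.ι.base := by
    rw [Scheme.Opens.range_ι]
    rintro _ ⟨x, rfl⟩
    show ψ.base (s₀.toImage.base x) ∈ (j i).opensRange
    rw [← Scheme.Hom.comp_apply, hsψ, Scheme.Hom.comp_apply]
    exact ⟨_, rfl⟩
  let v := IsOpenImmersion.lift V.ι s₀.toImage hsub
  let r : (V : Scheme.{u}) ⟶ T i := (ψ ∣_ (j i).opensRange) ≫ (j i).isoOpensRange.inv
  have hr : r ≫ j i = V.ι ≫ ψ := by
    rw [Category.assoc, Scheme.Hom.isoOpensRange_inv_comp, morphismRestrict_ι]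
  haveI : IsProper (ψ ∣_ (j i).opensRange) := IsZariskiLocalAtTarget.restrict (P := @IsProper) inferInstance _
  refine ⟨V, v, r, IsOpenImmersion.lift_fac _ _ _, inferInstance, ?_, ?_⟩
  · rw [← cancel_mono (j i), Category.assoc, hr, IsOpenImmersion.lift_fac_assoc, hsψ]
  · rw [← hjg i, ← Category.assoc, hr, Category.assoc, hψ]

end Groth.Agent.S14898
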