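import Groth.Statements.S14901
import Groth.Agent.DimLib.Components
import Groth.Agent.DimLib.Sub
import Groth.Agent.DimLib.Fibre
import Groth.Agent.DimLib.Morphism
-- import your own Groth.Agent.* helpers here

set_option autoImplicit false
universe u
open MovLem

namespace Groth.Agent.S14901

open AlgebraicGeometry CategoryTheory in
/-- Let k be a field, let S and X be separated k-schemes of finite type that are locally equidimensional
(all irreducible components passing through a given point have the same dimension), let f : S → X be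
a k-morphism and Z ⊆ X a closed subset. Let d be the dimension of the image f(S), as a subspace of
X. If every point s of S with f(s) ∈ Z satisfies dim O_{S,s} ≥ d + 1 (equivalently: the closed
subset f⁻¹(Z) of S has local codimension at least d + 1 at each of its points), then f⁻¹(Z) is
empty. -/
theorem result (k : Type u) [Field k] (S X : Scheme.{u})
    (pS : S ⟶ Spec (CommRingCat.of k)) (pX : X ⟶ Spec (CommRingCat.of k))
    [IsSeparated pS] [LocallyOfFiniteType pS] [QuasiCompact pS]
    [IsSeparated pX] [LocallyOfFiniteType pX] [QuasiCompact pX]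
    (hS : ∀ (s : S) (A B : Set S), A ∈ irreducibleComponents (S : Type u) → B ∈ irreducibleComponents (S : Type u) →
      s ∈ A → s ∈ B → topologicalKrullDim A = topologicalKrullDim B)
    (hX : ∀ (x : X) (A B : Set X), A ∈ irreducibleComponents (X : Type u) → B ∈ irreducibleComponents (X : Type u) →
      x ∈ A → x ∈ B → topologicalKrullDim A = topologicalKrullDim B)
    (f : S ⟶ X) (hf : f ≫ pX = pS) (Z : Set X) (hZ : IsClosed Z)
    (h : ∀ s : S, f.base s ∈ Z →
      topologicalKrullDim (Set.range f.base) + 1 ≤ ringKrullDim (S.presheaf.stalk s)) :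
    f.base ⁻¹' Z = ∅ := by
  by_contra hne
  obtain ⟨s₀, hs₀⟩ := Set.nonempty_iff_ne_empty.2 hne
  subst hf
  have : IsLocallyNoetherian S := LocallyOfFiniteType.isLocallyNoetherian (f ≫ pX)
  have hfin : ∀ z : S, ∃ n : ℕ, Order.coheight z = n ∧ ringKrullDim (S.presheaf.stalk z) = (n : WithBot ℕ∞) := by
    intro z
    have h1 := ringKrullDim_stalk_eq_coheight z
    have h2 : Order.coheight z ≠ ⊤ := fun e => ringKrullDim_ne_top (R := S.presheaf.stalk z) (by rw [h1, e]; rfl)
    obtain ⟨n, hn⟩ := ENat.ne_top_iff_exists.1 h2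
    exact ⟨n, hn.symm, by rw [h1, ← hn]; rfl⟩
  let T : Set S := {z | f.base z = f.base s₀}
  obtain ⟨s, hsT, hmin⟩ := (InvImage.wf (fun z : S => (hfin z).choose) (Nat.lt_wfRel.wf)).has_min T ⟨s₀, rfl⟩
  have hfibre : ∀ z : S, z ⤳ s → f.base z = f.base s → z = s := by
    intro z hz he
    by_contra hzs
    refine hmin z (he.trans hsT) ?_
    have hlt : s < z := lt_of_le_not_ge (Scheme.le_iff_specializes.2 hz)
      (fun h' => hzs (hz.antisymm (Scheme.le_iff_specializes.1 h')).eq)
    have h1 := Order.coheight_strictAnti hlt (by rw [(hfin z).choose_spec.1]; exact ENat.natCast_lt_top _)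
    rw [(hfin z).choose_spec.1, (hfin s).choose_spec.1] at h1
    exact_mod_cast h1
  obtain ⟨n, hco, hdim⟩ := hfin s
  have hs : f.base s ∈ Z := by rw [show f.base s = f.base s₀ from hsT]; exact hs₀
  have h1 := h s hs
  rw [hdim] at h1
  obtain ⟨p, hp, hlen⟩ := Order.exists_series_of_coheight_eq_coe _ hco
  let η : S := p.last
  have hη : η ⤳ s := Scheme.le_iff_specializes.1 (hp ▸ p.head_le_last)
  have hbound := DimLib.ptDim_add_le_of_minimal pX f hη (fun z _ hz he => hfibre z hz he)
  have hmono : StrictMono (fun z : S => DimLib.ptDim (f ≫ pX) z) := fun a b hab =>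
    DimLib.ptDim_lt_of_specializes (f ≫ pX) (Scheme.le_iff_specializes.1 hab.le) hab.ne'
  have hn : DimLib.ptDim (f ≫ pX) s + n ≤ DimLib.ptDim (f ≫ pX) η := by
    have := LTSeries.head_add_length_le_nat (p.map _ hmono)
    simp only [LTSeries.head_map, LTSeries.last_map, LTSeries.map_length, hp, hlen] at this
    exact this
  have hle : n ≤ DimLib.ptDim pX (f.base η) := by omega
  obtain ⟨V, hV, hηV, hsub⟩ := DimLib.exists_open_subset_image pX f isOpen_univ (Set.mem_univ η)
  have hL : IsLocallyClosed (V ∩ closure {f.base η}) := hV.isLocallyClosed.inter isClosed_closure.isLocallyClosed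
  have hLsub : V ∩ closure {f.base η} ⊆ Set.range f.base := fun x hx =>
    Set.image_subset_range _ _ (hsub x hx.1 (specializes_iff_mem_closure.2 hx.2))
  have h2 : ((DimLib.ptDim pX (f.base η) : ℕ) : WithBot ℕ∞) ≤ topologicalKrullDim (Set.range f.base) := by
    refine le_trans ?_ (Topology.IsEmbedding.inclusion hLsub).isInducing.topologicalKrullDim_le
    rw [DimLib.topologicalKrullDim_locallyClosed_eq_iSup pX hL]
    exact le_iSup (fun x : ↥(V ∩ closure {f.base η}) => (DimLib.ptDim pX x.1 : WithBot ℕ∞)) ⟨_, hηV, subset_closure rfl⟩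
  have h3 : ((n : ℕ) : WithBot ℕ∞) + 1 ≤ n :=
    (add_le_add ((by exact_mod_cast hle : ((n : ℕ) : WithBot ℕ∞) ≤ _).trans h2) le_rfl).trans h1
  have : n + 1 ≤ n := by exact_mod_cast h3
  omega


end Groth.Agent.S14901
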