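import Groth.Statements.S14902
import Mathlib
import Groth.Prelude
import Groth.Agent.FlatCrit.Tor

set_option linter.all false

set_option autoImplicit false
universe u
open MovLem

open CategoryTheory CategoryTheory.Limits AlgebraicGeometry
open scoped TensorProduct

namespace Groth.Agent.S14902

open AlgebraicGeometry CategoryTheory CategoryTheory.Limits in
/-- Let X₁, X₂, X₃ be schemes over a field k, with the fibre products X₁₂ = X₁ ×_k X₂, X₂₃ = X₂ ×_k X₃,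
X₁₃ = X₁ ×_k X₃ and X₁₂₃ = X₁₂ ×_{X₂} X₂₃ = X₁ ×_k X₂ ×_k X₃. Write p₁₂ : X₁₂₃ → X₁₂, p₂₃ : X₁₂₃ →
X₂₃, p₁₃ : X₁₂₃ → X₁₃, p₁ : X₁₂₃ → X₁ and p₃ : X₁₂₃ → X₃ for the projections from the triple
product, and, on the double products, pr₁ : X₁₂ → X₁, pr₂ : X₁₂ → X₂, pr₁ : X₁₃ → X₁, pr₃ : X₁₃ →
X₃, pr₂ : X₂₃ → X₂ and pr₃ : X₂₃ → X₃ for the projections (indexed by the target factor). Let W₁ ⊆
X₁₂, W₂ ⊆ X₂₃ and R₁ ⊆ X₁ be arbitrary subsets of the underlying spaces, and put W₁₂ = p₁₂⁻¹(W₁) ∩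
p₂₃⁻¹(W₂), W₃ = p₁₃(W₁₂), R₂ = pr₂(W₁ ∩ pr₁⁻¹(R₁)) and R₃ = p₃(W₁₂ ∩ p₁⁻¹(R₁)). Then R₃ = pr₃(W₃ ∩
pr₁⁻¹(R₁)), computed in X₁₃, and R₃ = pr₃(W₂ ∩ pr₂⁻¹(R₂)), computed in X₂₃, as identities of point
sets. (The published statement concerns supports of algebraic cycles on smooth projective
equidimensional k-schemes; this row is stated for arbitrary subsets of the underlying spaces of
arbitrary k-schemes.) -/
theorem result (k : Type u) [Field k] (X₁ X₂ X₃ : Scheme.{u})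
    (π₁ : X₁ ⟶ Spec (CommRingCat.of k)) (π₂ : X₂ ⟶ Spec (CommRingCat.of k)) (π₃ : X₃ ⟶ Spec (CommRingCat.of k))
    (p₁₃ : pullback (pullback.snd π₁ π₂) (pullback.fst π₂ π₃) ⟶ pullback π₁ π₃)
    (h₁₃ : p₁₃ ≫ pullback.fst π₁ π₃ =
      pullback.fst (pullback.snd π₁ π₂) (pullback.fst π₂ π₃) ≫ pullback.fst π₁ π₂)
    (h₁₃' : p₁₃ ≫ pullback.snd π₁ π₃ =
      pullback.snd (pullback.snd π₁ π₂) (pullback.fst π₂ π₃) ≫ pullback.snd π₂ π₃)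
    (W₁ : Set ↥(pullback π₁ π₂)) (W₂ : Set ↥(pullback π₂ π₃)) (R₁ : Set X₁)
    (W₁₂ : Set ↥(pullback (pullback.snd π₁ π₂) (pullback.fst π₂ π₃)))
    (hW₁₂ : W₁₂ = (pullback.fst (pullback.snd π₁ π₂) (pullback.fst π₂ π₃)).base ⁻¹' W₁ ∩
      (pullback.snd (pullback.snd π₁ π₂) (pullback.fst π₂ π₃)).base ⁻¹' W₂)
    (W₃ : Set ↥(pullback π₁ π₃)) (hW₃ : W₃ = p₁₃.base '' W₁₂)
    (R₂ : Set X₂) (hR₂ : R₂ = (pullback.snd π₁ π₂).base '' (W₁ ∩ (pullback.fst π₁ π₂).base ⁻¹' R₁))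
    (R₃ : Set X₃) (hR₃ : R₃ = (pullback.snd (pullback.snd π₁ π₂) (pullback.fst π₂ π₃) ≫ pullback.snd π₂ π₃).base ''
      (W₁₂ ∩ (pullback.fst (pullback.snd π₁ π₂) (pullback.fst π₂ π₃) ≫ pullback.fst π₁ π₂).base ⁻¹' R₁)) :
    R₃ = (pullback.snd π₁ π₃).base '' (W₃ ∩ (pullback.fst π₁ π₃).base ⁻¹' R₁) ∧
      R₃ = (pullback.snd π₂ π₃).base '' (W₂ ∩ (pullback.fst π₂ π₃).base ⁻¹' R₂) := by
  set a := pullback.fst (pullback.snd π₁ π₂) (pullback.fst π₂ π₃)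
  set b := pullback.snd (pullback.snd π₁ π₂) (pullback.fst π₂ π₃)
  have e1 : ∀ z, (pullback.fst π₁ π₃).base (p₁₃.base z) = (pullback.fst π₁ π₂).base (a.base z) := fun z => by
    rw [← Scheme.Hom.comp_apply, h₁₃]; rfl
  have e3 : ∀ z, (pullback.snd π₁ π₃).base (p₁₃.base z) = (pullback.snd π₂ π₃).base (b.base z) := fun z => by
    rw [← Scheme.Hom.comp_apply, h₁₃']; rfl
  have e2 : ∀ z, (pullback.snd π₁ π₂).base (a.base z) = (pullback.fst π₂ π₃).base (b.base z) := fun z => by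
    rw [← Scheme.Hom.comp_apply, pullback.condition]; rfl
  subst hW₃ hR₂ hR₃ hW₁₂
  constructor <;> ext y <;> constructor
  · rintro ⟨z, ⟨hz, hz1⟩, rfl⟩
    exact ⟨p₁₃.base z, ⟨⟨z, hz, rfl⟩, show (pullback.fst π₁ π₃).base (p₁₃.base z) ∈ R₁ by rw [e1]; exact hz1⟩, e3 z⟩
  · rintro ⟨_, ⟨⟨z, hz, rfl⟩, hz1⟩, rfl⟩
    refine ⟨z, ⟨hz, ?_⟩, (e3 z).symm⟩
    show (pullback.fst π₁ π₂).base (a.base z) ∈ R₁
    rw [← e1]; exact hz1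
  · rintro ⟨z, ⟨hz, hz1⟩, rfl⟩
    exact ⟨b.base z, ⟨hz.2, ⟨a.base z, ⟨hz.1, hz1⟩, e2 z⟩⟩, rfl⟩
  · rintro ⟨w₂, ⟨hw₂, w₁, ⟨hw₁, hw₁'⟩, he⟩, rfl⟩
    obtain ⟨z, hz1, hz2⟩ := Scheme.Pullback.exists_preimage_pullback (f := pullback.snd π₁ π₂) (g := pullback.fst π₂ π₃) w₁ w₂ he
    refine ⟨z, ⟨⟨show a.base z ∈ W₁ from hz1.symm ▸ hw₁, show b.base z ∈ W₂ from hz2.symm ▸ hw₂⟩, show (pullback.fst π₁ π₂).base (a.base z) ∈ R₁ from hz1.symm ▸ hw₁'⟩, ?_⟩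
    show (pullback.snd π₂ π₃).base (b.base z) = _
    rw [show b.base z = w₂ from hz2]

end Groth.Agent.S14902
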