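import Groth.Statements.S14904
import Groth.Agent.NeronModel27.Main
import Groth.Agent.HenselLib.Perm
-- import your own Groth.Agent.* helpers here

set_option autoImplicit false
set_option linter.style.haveILetI false
set_option backward.isDefEq.respectTransparency.types false
universe u
open CategoryTheory MonoidalCategory CartesianMonoidalCategory MonObj GrpObj AlgebraicGeometry
open Neron

namespace Groth.Agent.S14904

open CategoryTheory CategoryTheory.Limits MonObj AlgebraicGeometry in
open Groth.Agent in
/-- Let R be a complete discrete valuation ring with fraction field K of characteristic 0 and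
algebraically closed residue field k of characteristic 0, and let G be an affine smooth R-group
scheme of finite type together with an isomorphism of K-group schemes between its generic fibre and
the additive group over K (an affine smooth R-model of the additive group). Then the special fibre
G_k is connected and G is isomorphic to the additive group over R as an R-group scheme (existence of
an isomorphism of group schemes). -/
theorem result (R : Type u) [CommRing R] [IsDomain R] [IsDiscreteValuationRing R]
    [IsAdicComplete (IsLocalRing.maximalIdeal R) R] (K : Type u) [Field K] [Algebra R K] [IsFractionRing R K] [CharZero K]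
    [IsAlgClosed (IsLocalRing.ResidueField R)] [CharZero (IsLocalRing.ResidueField R)]
    (G : Over (Spec (CommRingCat.of R))) [GrpObj G] [Smooth G.hom] [IsAffineHom G.hom] [LocallyOfFiniteType G.hom]
    (e : Red.bc (Spec.map (CommRingCat.ofHom (algebraMap R K))) G ≅ Red.Ga (Spec (CommRingCat.of K))) [IsMonHom e.hom] :
    ConnectedSpace ↥(Red.bc (Spec.map (CommRingCat.ofHom (IsLocalRing.residue R))) G).left ∧
      ∃ e' : G ≅ Red.Ga (Spec (CommRingCat.of R)), IsMonHom e'.hom := by
  haveI : IsAffine G.left := isAffine_of_isAffineHom G.hom
  haveI : IsCommMonObj G := Groth.Agent.NeronModel27.isCommMonObj_of_ga K G e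
  haveI : HenselianLocalRing R := Groth.Agent.HenselLib.henselianLocalRing_of_henselianRing R
  refine ⟨Groth.Agent.NeronModel27.connectedSpace_of_forall G fun y => ?_, ?_⟩
  · obtain ⟨c, hc, hcx⟩ := Groth.Agent.NeronModel27.exists_card G
    exact Groth.Agent.NeronModel27.component_trivial G (N := c) (Nat.cast_ne_zero.2 hc)
      (fun z hz => Groth.Agent.NeronModel27.eq_one_of_pow_eq_one G K e hc z hz) y (hcx y)
  · obtain ⟨ϖ, hϖ⟩ := IsDiscreteValuationRing.exists_irreducible R
    obtain ⟨t, s, hs, ht, hdvd⟩ := Groth.Agent.NeronModel27.exists_ga_coord K G e hϖ
    exact Groth.Agent.NeronModel27.exists_iso_ga K G e hϖ hs ht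
      (Groth.Agent.NeronModel27.infinite_values K G e hϖ ht hdvd)

end Groth.Agent.S14904
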