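import Groth.Statements.S14905
import Groth.Agent.NeronModel27.GaUnit
import Groth.Agent.HenselLib.Perm
-- import your own Groth.Agent.* helpers here

set_option autoImplicit false
set_option linter.style.haveILetI false
set_option backward.isDefEq.respectTransparency.types false
universe u
open CategoryTheory MonoidalCategory CartesianMonoidalCategory MonObj GrpObj AlgebraicGeometry
open Neron

namespace Groth.Agent.S14905

open CategoryTheory CategoryTheory.Limits MonObj AlgebraicGeometry in
open Groth.Agent in
/-- Let R be a complete discrete valuation ring with fraction field K of characteristic 0 and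
algebraically closed residue field k of characteristic p > 0, and let G be an affine smooth R-group
scheme of finite type together with an isomorphism of K-group schemes between its generic fibre and
the additive group over K. Then the group of connected components of the special fibre G_k is a
p-group: for every k-point x of G_k some power x^(p^m) lies in the connected component of the
identity; and the identity component of G is the additive group over R: there is a homomorphism of
R-group schemes from the additive group over R to G which is an open immersion. (The published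
statement also asserts that every finite abelian p-group occurs as such a component group; this row
does not state that.) -/
theorem result (R : Type u) [CommRing R] [IsDomain R] [IsDiscreteValuationRing R]
    [IsAdicComplete (IsLocalRing.maximalIdeal R) R] (K : Type u) [Field K] [Algebra R K] [IsFractionRing R K] [CharZero K]
    [IsAlgClosed (IsLocalRing.ResidueField R)]
    (p : ℕ) [Fact p.Prime] [CharP (IsLocalRing.ResidueField R) p]
    (G : Over (Spec (CommRingCat.of R))) [GrpObj G] [Smooth G.hom] [IsAffineHom G.hom] [LocallyOfFiniteType G.hom]
    (e : Red.bc (Spec.map (CommRingCat.ofHom (algebraMap R K))) G ≅ Red.Ga (Spec (CommRingCat.of K))) [IsMonHom e.hom] :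
    (∀ x : 𝟙_ (Over (Spec (CommRingCat.of (IsLocalRing.ResidueField R)))) ⟶ Red.bc (Spec.map (CommRingCat.ofHom (IsLocalRing.residue R))) G,
        ∃ m : ℕ, (x ^ (p ^ m)).left.base (IsLocalRing.closedPoint (IsLocalRing.ResidueField R)) ∈
          connectedComponent ((η[Red.bc (Spec.map (CommRingCat.ofHom (IsLocalRing.residue R))) G]).left.base (IsLocalRing.closedPoint (IsLocalRing.ResidueField R)))) ∧
      ∃ j : Red.Ga (Spec (CommRingCat.of R)) ⟶ G, IsMonHom j ∧ IsOpenImmersion j.left := by
  haveI : IsAffine G.left := isAffine_of_isAffineHom G.hom
  haveI : IsCommMonObj G := Groth.Agent.NeronModel27.isCommMonObj_of_ga K G e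
  haveI : HenselianLocalRing R := Groth.Agent.HenselLib.henselianLocalRing_of_henselianRing R
  refine ⟨fun x => ?_, Groth.Agent.NeronModel27.exists_open_ga G K e⟩
  obtain ⟨c, hc, hcx⟩ := Groth.Agent.NeronModel27.exists_card G
  obtain ⟨v, N, hpN, rfl⟩ := Nat.exists_eq_pow_mul_and_not_dvd hc p (Fact.out : p.Prime).ne_one
  haveI : LocallyOfFiniteType (Red.bc (Spec.map (CommRingCat.ofHom (IsLocalRing.residue R))) G).hom :=
    MorphismProperty.pullback_snd G.hom _ inferInstance
  have h1 := Groth.Agent.SGA3Bounded26.pImg_one (Red.bc (Spec.map (CommRingCat.ofHom (IsLocalRing.residue R))) G)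
  have h := Groth.Agent.NeronModel27.component_trivial G (N := N)
    (fun h => hpN ((CharP.cast_eq_zero_iff (IsLocalRing.ResidueField R) p N).1 h))
    (fun z hz => Groth.Agent.NeronModel27.eq_one_of_pow_eq_one G K e (fun h0 : N = 0 => hpN (by rw [h0]; exact dvd_zero p)) z hz)
    (x ^ (p ^ v)) (by rw [← pow_mul]; exact hcx x)
  rw [h1] at h
  exact ⟨v, h⟩

end Groth.Agent.S14905
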