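import Groth.Statements.S14908
import Groth.Agent.NeronModel27.Commutative
import Groth.Agent.HenselLib.Perm
-- import your own Groth.Agent.* helpers here

set_option autoImplicit false
set_option linter.style.haveILetI false
set_option backward.isDefEq.respectTransparency.types false
universe u
open CategoryTheory MonoidalCategory CartesianMonoidalCategory MonObj GrpObj AlgebraicGeometry
open Neron

namespace Groth.Agent.S14908

open CategoryTheory CategoryTheory.Limits MonObj AlgebraicGeometry in
open Groth.Agent in
/-- Let R be a complete discrete valuation ring with fraction field K of characteristic 0 and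
algebraically closed residue field k of characteristic p > 0, and let G be an affine smooth R-group
scheme of finite type together with an isomorphism of K-group schemes between its generic fibre and
the multiplicative group over K. Suppose the identity component of the special fibre G_k is the
additive group: there is a homomorphism of k-group schemes from the additive group over k to G_k
which is an open immersion. Then the group of connected components of G_k is the product of a cyclic
group of order prime to p and a p-group; equivalently its prime-to-p part is cyclic: there is a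
k-point x₀ of G_k such that for every k-point x of G_k some power x^(p^e) lies in the connected
component of some power x₀^m. (The further assertion that every such group occurs is not stated.) -/
theorem result (R : Type u) [CommRing R] [IsDomain R] [IsDiscreteValuationRing R]
    [IsAdicComplete (IsLocalRing.maximalIdeal R) R] (K : Type u) [Field K] [Algebra R K] [IsFractionRing R K] [CharZero K]
    [IsAlgClosed (IsLocalRing.ResidueField R)]
    (p : ℕ) [Fact p.Prime] [CharP (IsLocalRing.ResidueField R) p]
    (G : Over (Spec (CommRingCat.of R))) [GrpObj G] [Smooth G.hom] [IsAffineHom G.hom] [LocallyOfFiniteType G.hom]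
    (e : Red.bc (Spec.map (CommRingCat.ofHom (algebraMap R K))) G ≅ Red.Gm (Spec (CommRingCat.of K))) [IsMonHom e.hom]
    (j₀ : Red.Ga (Spec (CommRingCat.of (IsLocalRing.ResidueField R))) ⟶ Red.bc (Spec.map (CommRingCat.ofHom (IsLocalRing.residue R))) G) [IsMonHom j₀]
    [IsOpenImmersion j₀.left] :
    ∃ x₀ : 𝟙_ (Over (Spec (CommRingCat.of (IsLocalRing.ResidueField R)))) ⟶ Red.bc (Spec.map (CommRingCat.ofHom (IsLocalRing.residue R))) G,
      ∀ x : 𝟙_ (Over (Spec (CommRingCat.of (IsLocalRing.ResidueField R)))) ⟶ Red.bc (Spec.map (CommRingCat.ofHom (IsLocalRing.residue R))) G,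
        ∃ e₁ m : ℕ, (x ^ (p ^ e₁)).left.base (IsLocalRing.closedPoint (IsLocalRing.ResidueField R)) ∈ connectedComponent ((x₀ ^ m).left.base (IsLocalRing.closedPoint (IsLocalRing.ResidueField R))) := by
  haveI : IsCommMonObj G := Groth.Agent.NeronModel27.isCommMonObj_of_gm K G e
  haveI : HenselianLocalRing R := Groth.Agent.HenselLib.henselianLocalRing_of_henselianRing R
  obtain ⟨χ, hχ⟩ := Groth.Agent.NeronModel27.exists_char G K e
  haveI := Groth.Agent.NeronModel27.isDomain_generic K
  obtain ⟨c, hc, hcx⟩ := Groth.Agent.NeronModel27.exists_card G
  obtain ⟨v, N, hpN, rfl⟩ := Nat.exists_eq_pow_mul_and_not_dvd hc p (Fact.out : p.Prime).ne_one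
  obtain ⟨y₀, hy⟩ := Groth.Agent.NeronModel27.exists_generator G χ hχ
    (N := N) (fun h => hpN ((CharP.cast_eq_zero_iff (IsLocalRing.ResidueField R) p N).1 h))
  refine ⟨y₀, fun x => ?_⟩
  obtain ⟨m, hm⟩ := hy (x ^ (p ^ v)) (by rw [← pow_mul]; exact hcx x)
  exact ⟨v, m, (connectedComponent_eq hm) ▸ mem_connectedComponent⟩

end Groth.Agent.S14908
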