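import Groth.Statements.S14909
import Groth.Agent.CommAlg4.PowerSeriesTest
-- import your own Groth.Agent.* helpers here

set_option autoImplicit false
universe u
open Neron

namespace Groth.Agent.S14909

set_option maxHeartbeats 2000000 in
/-- Let R be a discrete valuation ring with uniformizer ϖ, let a₁, a₆ ∈ R with a₁ of valuation v ≥ 1, a₆
of valuation 1, and 2 of valuation at least v (so the residue characteristic is 2; 2 = 0 is
allowed). In the power series ring S = R[[x, y]] let M = (ϖ, x, y) be the maximal ideal and I the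
ideal generated by y² + a₁xy − x³ − a₆, 2y + a₁x and 3x² − a₁y, so that S/I is a local ring with
maximal ideal m = M/I. Then the classes of y^(2v) and x·y^(2v−1) form a basis of the vector space
m^(2v)/m^(2v+1) over the residue field: M^(2v) + I = (y^(2v), x·y^(2v−1)) + I, and whenever a·y^(2v)
+ b·x·y^(2v−1) ∈ M^(2v+1) + I with a, b ∈ R, both a and b lie in the maximal ideal of R. (Generation
holds with any exponent i ≥ 1 in place of 2v: M^i + I = (y^i, x·y^(i−1)) + I.) -/
theorem result (R : Type u) [CommRing R] [IsDomain R] [IsDiscreteValuationRing R]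
    (ϖ a₁ a₆ : R) (hϖ : Irreducible ϖ) (v : ℕ) (hv : 1 ≤ v) (u₁ u₆ : Rˣ) (ha₁ : a₁ = u₁ * ϖ ^ v) (ha₆ : a₆ = u₆ * ϖ)
    (h2 : (2 : R) ∈ IsLocalRing.maximalIdeal R ^ v)
    (x y : MvPowerSeries (Fin 2) R) (hx : x = MvPowerSeries.X 0) (hy : y = MvPowerSeries.X 1)
    (I M : Ideal (MvPowerSeries (Fin 2) R))
    (hI : I = Ideal.span {y ^ 2 + a₁ • (x * y) - x ^ 3 - algebraMap R (MvPowerSeries (Fin 2) R) a₆,
      2 * y + a₁ • x, 3 * x ^ 2 - a₁ • y})
    (hM : M = Ideal.span {algebraMap R (MvPowerSeries (Fin 2) R) ϖ, x, y}) :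
    M ^ (2 * v) ⊔ I = Ideal.span {y ^ (2 * v), x * y ^ (2 * v - 1)} ⊔ I ∧
      ∀ a b : R, a • y ^ (2 * v) + b • (x * y ^ (2 * v - 1)) ∈ M ^ (2 * v + 1) ⊔ I →
        a ∈ IsLocalRing.maximalIdeal R ∧ b ∈ IsLocalRing.maximalIdeal R := by
  classical
  have hmax : IsLocalRing.maximalIdeal R = Ideal.span {ϖ} := hϖ.maximalIdeal_eq
  obtain ⟨t, ht⟩ : ∃ t : R, (2 : R) = ϖ ^ v * t := by
    rw [hmax, Ideal.span_singleton_pow, Ideal.mem_span_singleton] at h2
    exact h2
  have h2m : (2 : R) ∈ IsLocalRing.maximalIdeal R := Ideal.pow_le_self (by omega) h2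
  have h3 : IsUnit (3 : R) := by
    have : IsUnit (1 + 2 : R) := by
      by_contra hnu
      have h3m : (1 + 2 : R) ∈ IsLocalRing.maximalIdeal R := hnu
      have h1m := Ideal.sub_mem _ h3m h2m
      rw [add_sub_cancel_right] at h1m
      exact (Ideal.ne_top_iff_one _).mp (IsLocalRing.maximalIdeal.isMaximal R).ne_top h1m
    norm_num at this ⊢
    exact this
  obtain ⟨c3, hc3⟩ : ∃ c : R, 3 * c = 1 := ⟨↑h3.unit⁻¹, h3.mul_val_inv⟩
  have hcR : c3 * (3 : R) = 1 := by rw [mul_comm]; exact hc3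
  obtain ⟨w, rfl⟩ : ∃ w, v = w + 1 := ⟨v - 1, by omega⟩
  set q := Ideal.Quotient.mk I with hq
  set κ : R →+* MvPowerSeries (Fin 2) R ⧸ I :=
    q.comp (algebraMap R (MvPowerSeries (Fin 2) R)) with hκ
  set X := q x with hX
  set Y := q y with hY
  have hmem1 : y ^ 2 + a₁ • (x * y) - x ^ 3 - algebraMap R (MvPowerSeries (Fin 2) R) a₆ ∈ I := by
    rw [hI]; exact Ideal.subset_span (Set.mem_insert _ _)
  have hmem2 : 2 * y + a₁ • x ∈ I := by
    rw [hI]; exact Ideal.subset_span (Set.mem_insert_of_mem _ (Set.mem_insert _ _))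
  have hmem3 : 3 * x ^ 2 - a₁ • y ∈ I := by
    rw [hI]
    exact Ideal.subset_span (Set.mem_insert_of_mem _ (Set.mem_insert_of_mem _ rfl))
  have e1 : Y ^ 2 + κ a₁ * (X * Y) - X ^ 3 - κ a₆ = 0 := by
    have := Ideal.Quotient.eq_zero_iff_mem.mpr hmem1
    simpa [Algebra.smul_def, hq, hκ, hX, hY] using this
  have e2 : κ 2 * Y + κ a₁ * X = 0 := by
    have := Ideal.Quotient.eq_zero_iff_mem.mpr hmem2
    simpa [Algebra.smul_def, hq, hκ, hX, hY, map_ofNat] using this
  have e3 : κ 3 * X ^ 2 - κ a₁ * Y = 0 := by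
    have := Ideal.Quotient.eq_zero_iff_mem.mpr hmem3
    simpa [Algebra.smul_def, hq, hκ, hX, hY, map_ofNat] using this
  have hκc : κ c3 * κ 3 = 1 := by rw [← map_mul, hcR, map_one]
  have hXX : X ^ 2 = κ (c3 * a₁) * Y := by
    rw [map_mul]
    linear_combination κ c3 * e3 - X ^ 2 * hκc
  have hϖY : IsUnit (κ (u₆ : R) - κ ((u₁ : R) * ϖ ^ w * (1 - c3)) * (X * Y)) := by
    have hS : IsUnit (algebraMap R (MvPowerSeries (Fin 2) R) (u₆ : R) -
        algebraMap R (MvPowerSeries (Fin 2) R) ((u₁ : R) * ϖ ^ w * (1 - c3)) * (x * y)) := by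
      rw [MvPowerSeries.isUnit_iff_constantCoeff]
      simp [hx, hy, MvPowerSeries.algebraMap_apply]
    have := hS.map q
    simpa [hq, hκ, hX, hY] using this
  obtain ⟨W, hW⟩ := hϖY
  have hϖ2 : κ ϖ * (W : MvPowerSeries (Fin 2) R ⧸ I) = Y ^ 2 := by
    rw [hW]
    have h' : κ a₆ = κ (u₆ : R) * κ ϖ := by rw [ha₆, map_mul]
    have h'' : κ a₁ = κ (u₁ : R) * (κ ϖ ^ w * κ ϖ) := by rw [ha₁, map_mul, map_pow, pow_succ]
    simp only [map_mul, map_sub, map_one, map_pow] at hXX ⊢
    linear_combination -e1 - h' + (X * Y - X * κ c3 * Y) * h'' - X * hXX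
  have hϖY' : κ ϖ = Y ^ 2 * ↑W⁻¹ := by
    rw [← hϖ2, mul_assoc, Units.mul_inv, mul_one]
  have hϖv : κ (ϖ ^ (w + 1)) = Y ^ (2 * (w + 1)) * (↑W⁻¹) ^ (w + 1) := by
    rw [map_pow, hϖY', mul_pow, ← pow_mul]
  have hXY : X * Y ^ (2 * (w + 1)) = -(κ (t * ↑u₁⁻¹)) * Y ^ (2 * (w + 1) + 1) := by
    have hu : κ (↑u₁⁻¹ : R) * κ (u₁ : R) = 1 := by
      rw [← map_mul, Units.inv_mul, map_one]
    have hWW : ((↑W⁻¹ : MvPowerSeries (Fin 2) R ⧸ I)) ^ (w + 1) *
        (↑W : MvPowerSeries (Fin 2) R ⧸ I) ^ (w + 1) = 1 := by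
      rw [← mul_pow, Units.inv_mul, one_pow]
    rw [ht, ha₁, map_mul, map_mul, hϖv] at e2
    rw [map_mul, pow_succ Y (2 * (w + 1))]
    linear_combination (κ (↑u₁⁻¹ : R) * (↑W : MvPowerSeries (Fin 2) R ⧸ I) ^ (w + 1)) * e2
      - (Y ^ (2 * (w + 1)) * Y * κ t * κ (↑u₁⁻¹ : R)
          + Y ^ (2 * (w + 1)) * κ (↑u₁⁻¹ : R) * κ (u₁ : R) * X) * hWW
      - (Y ^ (2 * (w + 1)) * X) * hu
  have key : ∀ i : ℕ, Ideal.map q M ^ (i + 1) ≤ Ideal.span {Y ^ (i + 1), X * Y ^ i} := by
    have hM1 : Ideal.map q M ≤ Ideal.span {Y, X} := by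
      rw [hM, Ideal.map_span, Ideal.span_le]
      rintro z ⟨z', hz', rfl⟩
      rcases hz' with rfl | rfl | rfl
      · show κ ϖ ∈ Ideal.span {Y, X}
        rw [hϖY', sq, mul_assoc]
        exact Ideal.mul_mem_right _ _ (Ideal.subset_span (Set.mem_insert _ _))
      · exact Ideal.subset_span (Set.mem_insert_of_mem _ rfl)
      · exact Ideal.subset_span (Set.mem_insert _ _)
    intro i
    induction i with
    | zero => simpa using hM1
    | succ i ih =>
      rw [pow_succ]
      refine (Ideal.mul_mono ih hM1).trans ?_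
      rw [Ideal.span_mul_span', Ideal.span_le]
      rintro z ⟨z1, hz1, z2, hz2, rfl⟩
      rcases hz1 with rfl | rfl <;> rcases hz2 with rfl | rfl
      · exact Ideal.subset_span (Or.inl (pow_succ Y (i + 1)).symm)
      · exact Ideal.subset_span (Or.inr (show Y ^ (i + 1) * X = X * Y ^ (i + 1) from mul_comm _ _))
      · exact Ideal.subset_span (Or.inr (show X * Y ^ i * Y = X * Y ^ (i + 1) by ring))
      · show X * Y ^ i * X ∈ Ideal.span {Y ^ (i + 1 + 1), X * Y ^ (i + 1)}
        have h : X * Y ^ i * X =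
            (κ c3 * κ (u₁ : R) * (↑W⁻¹) ^ (w + 1) * Y ^ (2 * w + 1)) * Y ^ (i + 1 + 1) := by
          have hX2 := hXX
          rw [ha₁, map_mul, map_mul, hϖv] at hX2
          linear_combination Y ^ i * hX2
        rw [h]
        exact Ideal.mul_mem_left _ _ (Ideal.subset_span (Set.mem_insert _ _))
  have hqs : Function.Surjective q := Ideal.Quotient.mk_surjective
  have hker : Ideal.comap q ⊥ = I := Ideal.mk_ker
  have hcm : ∀ J : Ideal (MvPowerSeries (Fin 2) R), Ideal.comap q (Ideal.map q J) = J ⊔ I := by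
    intro J; rw [Ideal.comap_map_of_surjective q hqs, hker]
  constructor
  · rw [← hcm, ← hcm]
    congr 1
    apply le_antisymm
    · rw [Ideal.map_pow, Ideal.map_span, Set.image_pair, map_pow, map_mul, map_pow, ← hX, ← hY]
      have := key (2 * w + 1)
      rwa [show 2 * w + 1 + 1 = 2 * (w + 1) by ring,
        show (2 * w + 1 : ℕ) = 2 * (w + 1) - 1 by omega] at this
    · apply Ideal.map_mono
      rw [Ideal.span_le]
      have hxM : x ∈ M := by
        rw [hM]; exact Ideal.subset_span (Set.mem_insert_of_mem _ (Set.mem_insert _ _))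
      have hyM : y ∈ M := by
        rw [hM]; exact Ideal.subset_span (Set.mem_insert_of_mem _ (Set.mem_insert_of_mem _ rfl))
      rintro z (rfl | rfl)
      · exact Ideal.pow_mem_pow hyM _
      · show x * y ^ (2 * (w + 1) - 1) ∈ M ^ (2 * (w + 1))
        rw [show 2 * (w + 1) - 1 = 2 * w + 1 by omega, show 2 * (w + 1) = (2 * w + 1) + 1 by ring,
          pow_succ' M]
        exact Ideal.mul_mem_mul hxM (Ideal.pow_mem_pow hyM _)
  intro a b hab
  have gen : ∀ {A : Type u} [CommRing A] [Algebra R A] (p : DualNumber A) (a b : R) (c d e : A),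
      a • TrivSqZeroExt.inlHom A A c + b • (DualNumber.eps * TrivSqZeroExt.inlHom A A d)
        = p * TrivSqZeroExt.inlHom A A e → b • d = TrivSqZeroExt.snd p * e := by
    intro A _ _ p a b c d e h
    have h' := congrArg TrivSqZeroExt.snd h
    simpa [mul_comm] using h'
  obtain ⟨z, i, hi, hzi⟩ : ∃ z, ∃ i ∈ I,
      a • y ^ (2 * (w + 1)) + b • (x * y ^ (2 * (w + 1) - 1)) = z * y ^ (2 * (w + 1) + 1) + i := by
    have h1 : Ideal.map q (M ^ (2 * (w + 1) + 1)) ≤ Ideal.map q (Ideal.span {y ^ (2 * (w + 1) + 1)}) := by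
      rw [Ideal.map_pow, Ideal.map_span, Set.image_singleton, map_pow, ← hY]
      refine (key _).trans ?_
      rw [Ideal.span_le]
      rintro _ (rfl | rfl)
      · exact Ideal.subset_span rfl
      · rw [SetLike.mem_coe, hXY]
        exact Ideal.mul_mem_left _ _ (Ideal.subset_span rfl)
    rw [← hcm] at hab
    have h2' := Ideal.comap_mono h1 hab
    rw [hcm, Submodule.mem_sup] at h2'
    obtain ⟨_, hz, i, hi, hsum⟩ := h2'
    obtain ⟨z, rfl⟩ := Ideal.mem_span_singleton'.mp hz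
    exact ⟨z, i, hi, hsum.symm⟩
  have hϖp : Prime ϖ := hϖ.prime
  have ha6 : a₆ ≠ 0 := by rw [ha₆]; exact mul_ne_zero u₆.ne_zero hϖ.ne_zero
  set P : Polynomial R := Polynomial.X ^ 2 - Polynomial.C a₆ with hP
  have hPm : P.Monic := Polynomial.monic_X_pow_sub_C a₆ two_ne_zero
  set T : AdjoinRoot P := AdjoinRoot.root P with hT
  have hT2 : T ^ 2 = algebraMap R (AdjoinRoot P) a₆ := by
    have := AdjoinRoot.eval₂_root P
    rw [hP, Polynomial.eval₂_sub, Polynomial.eval₂_X_pow, Polynomial.eval₂_C, sub_eq_zero] at this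
    exact this
  have hreg : ∀ z' : AdjoinRoot P, T ^ (2 * (w + 1)) * z' = 0 → z' = 0 := by
    intro z' hz'
    rw [pow_mul, hT2, ← map_pow, ← Algebra.smul_def] at hz'
    let B := (AdjoinRoot.powerBasis' hPm).basis
    apply B.repr.injective
    have hB := congrArg B.repr hz'
    rw [map_smul, map_zero] at hB
    ext j
    have hj := congrArg (fun f => f j) hB
    simp only [Finsupp.smul_apply, Finsupp.zero_apply, smul_eq_mul, mul_eq_zero] at hj
    simpa [pow_ne_zero _ ha6] using hj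
  have hmemT : ∀ (c : R) (z' : AdjoinRoot P), algebraMap R (AdjoinRoot P) c = T * z' →
      c ∈ IsLocalRing.maximalIdeal R := by
    intro c z' hc
    have hroot : P.eval₂ (Ideal.Quotient.mk (IsLocalRing.maximalIdeal R)) 0 = 0 := by
      rw [hP, Polynomial.eval₂_sub, Polynomial.eval₂_X_pow, Polynomial.eval₂_C, ha₆]
      simp [Ideal.Quotient.eq_zero_iff_mem, hmax, Ideal.mem_span_singleton]
    have := congrArg (AdjoinRoot.lift (Ideal.Quotient.mk (IsLocalRing.maximalIdeal R)) 0 hroot) hc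
    rw [map_mul, AdjoinRoot.algebraMap_eq, AdjoinRoot.lift_of, hT, AdjoinRoot.lift_root,
      zero_mul] at this
    exact Ideal.Quotient.eq_zero_iff_mem.mp this
  have hϖT : algebraMap R (AdjoinRoot P) (ϖ ^ (w + 1)) =
      algebraMap R (AdjoinRoot P) ((↑u₆⁻¹ : R) ^ (w + 1)) * T ^ (2 * (w + 1)) := by
    rw [pow_mul, hT2, ← map_pow, ← map_mul, ← mul_pow, ha₆, ← mul_assoc, Units.inv_mul, one_mul]
  constructor
  · set K : Ideal (AdjoinRoot P) := Ideal.span {T ^ (2 * (w + 1) + 1)} with hK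
    have hTn : IsNilpotent (Ideal.Quotient.mk K T) := ⟨2 * (w + 1) + 1, by
      rw [← map_pow, Ideal.Quotient.eq_zero_iff_mem, hK]; exact Ideal.subset_span rfl⟩
    obtain ⟨φ, hφ0, hφ1⟩ := Groth.Agent.CommAlg4.exists_algHom_mvPowerSeries_two (R := R)
      (IsNilpotent.zero : IsNilpotent (0 : AdjoinRoot P ⧸ K)) hTn
    rw [← hx] at hφ0
    rw [← hy] at hφ1
    have hvT : algebraMap R (AdjoinRoot P ⧸ K) (ϖ ^ (w + 1)) * Ideal.Quotient.mk K T = 0 := by
      rw [← Ideal.Quotient.mk_algebraMap, ← map_mul, Ideal.Quotient.eq_zero_iff_mem, hϖT,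
        mul_assoc, ← pow_succ, hK]
      exact Ideal.mul_mem_left _ _ (Ideal.subset_span rfl)
    have hker0 : I ≤ RingHom.ker φ := by
      rw [hI, Ideal.span_le]
      rintro f (rfl | rfl | rfl)
      · rw [SetLike.mem_coe, RingHom.mem_ker, map_sub, map_sub, map_add, map_smul, map_mul,
          map_pow, map_pow, hφ0, hφ1, zero_mul, smul_zero, add_zero, zero_pow (by omega), sub_zero,
          AlgHom.commutes, ← map_pow, hT2, Ideal.Quotient.mk_algebraMap, sub_self]
      · rw [SetLike.mem_coe, RingHom.mem_ker, map_add, map_smul, hφ0, smul_zero, add_zero,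
          map_mul, map_ofNat, hφ1, ← map_ofNat (algebraMap R (AdjoinRoot P ⧸ K)) 2, ht, map_mul,
          mul_right_comm, hvT, zero_mul]
      · rw [SetLike.mem_coe, RingHom.mem_ker, map_sub, map_smul, map_mul, map_pow, hφ0, hφ1,
          zero_pow two_ne_zero, mul_zero, zero_sub, neg_eq_zero, Algebra.smul_def, ha₁, map_mul,
          mul_assoc, hvT, mul_zero]
    have := congrArg φ hzi
    rw [map_add, map_add, map_smul, map_smul, map_mul, map_mul, map_pow, map_pow, map_pow, hφ0,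
      hφ1, zero_mul, smul_zero, add_zero, (RingHom.mem_ker).mp (hker0 hi), add_zero,
      Algebra.smul_def] at this
    obtain ⟨z0, hz0⟩ := Ideal.Quotient.mk_surjective (φ z)
    rw [← hz0, ← Ideal.Quotient.mk_algebraMap, ← map_pow, ← map_pow, ← map_mul, ← map_mul,
      Ideal.Quotient.mk_eq_mk_iff_sub_mem, hK, Ideal.mem_span_singleton'] at this
    obtain ⟨r, hr⟩ := this
    refine hmemT a (z0 + r) (sub_eq_zero.mp (hreg _ ?_))
    rw [pow_succ] at hr
    linear_combination -hr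
  · set K : Ideal (AdjoinRoot P) := Ideal.span {T ^ (2 * (w + 1))} with hK
    have hTn : IsNilpotent (TrivSqZeroExt.inlHom (AdjoinRoot P ⧸ K) (AdjoinRoot P ⧸ K)
        (Ideal.Quotient.mk K T) : DualNumber (AdjoinRoot P ⧸ K)) := by
      refine IsNilpotent.map ⟨2 * (w + 1), ?_⟩ _
      rw [← map_pow, Ideal.Quotient.eq_zero_iff_mem, hK]; exact Ideal.subset_span rfl
    have hεn : IsNilpotent (DualNumber.eps : DualNumber (AdjoinRoot P ⧸ K)) :=
      ⟨2, by rw [sq, DualNumber.eps_mul_eps]⟩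
    obtain ⟨φ, hφ0, hφ1⟩ := Groth.Agent.CommAlg4.exists_algHom_mvPowerSeries_two (R := R) hεn hTn
    rw [← hx] at hφ0
    rw [← hy] at hφ1
    have hv0 : algebraMap R (DualNumber (AdjoinRoot P ⧸ K)) (ϖ ^ (w + 1)) = 0 := by
      rw [TrivSqZeroExt.algebraMap_eq_inl', ← Ideal.Quotient.mk_algebraMap, hϖT,
        Ideal.Quotient.eq_zero_iff_mem.mpr (hK ▸ Ideal.mul_mem_left _ _ (Ideal.subset_span rfl)),
        TrivSqZeroExt.inl_zero]
    have h20 : (2 : DualNumber (AdjoinRoot P ⧸ K)) = 0 := by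
      rw [← map_ofNat (algebraMap R (DualNumber (AdjoinRoot P ⧸ K))) 2, ht, map_mul, hv0, zero_mul]
    have ha10 : algebraMap R (DualNumber (AdjoinRoot P ⧸ K)) a₁ = 0 := by
      rw [ha₁, map_mul, hv0, mul_zero]
    have hker0 : I ≤ RingHom.ker φ := by
      rw [hI, Ideal.span_le]
      rintro f (rfl | rfl | rfl) <;>
        rw [SetLike.mem_coe, RingHom.mem_ker]
      · rw [map_sub, map_sub, map_add, map_smul, map_mul, map_pow, map_pow, hφ0, hφ1,
          AlgHom.commutes, Algebra.smul_def, ha10, zero_mul, add_zero, pow_succ DualNumber.eps 2,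
          sq DualNumber.eps, DualNumber.eps_mul_eps, zero_mul, sub_zero, ← map_pow, ← map_pow, hT2,
          TrivSqZeroExt.algebraMap_eq_inl', ← Ideal.Quotient.mk_algebraMap]
        exact sub_self _
      · rw [map_add, map_smul, map_mul, map_ofNat, h20, zero_mul, zero_add, Algebra.smul_def,
          ha10, zero_mul]
      · rw [map_sub, map_smul, map_mul, map_pow, hφ0, sq, DualNumber.eps_mul_eps, mul_zero,
          zero_sub, neg_eq_zero, Algebra.smul_def, ha10, zero_mul]
    have := congrArg φ hzi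
    rw [map_add, map_add, map_smul, map_smul, map_mul, map_mul, map_pow, map_pow, map_pow, hφ0,
      hφ1, (RingHom.mem_ker).mp (hker0 hi), add_zero] at this
    simp only [← map_pow] at this
    have hs := gen (φ z) a b _ _ _ this
    obtain ⟨z0, hz0⟩ := Ideal.Quotient.mk_surjective (TrivSqZeroExt.snd (φ z))
    rw [← hz0, Algebra.smul_def, ← Ideal.Quotient.mk_algebraMap, ← map_mul,
      ← map_mul, Ideal.Quotient.mk_eq_mk_iff_sub_mem, hK, Ideal.mem_span_singleton'] at hs
    obtain ⟨r, hr⟩ := hs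
    refine hmemT b (T * z0 + r) (sub_eq_zero.mp (hreg _ ?_))
    rw [show 2 * (w + 1) - 1 = 2 * w + 1 by omega] at hr
    linear_combination (-T) * hr

end Groth.Agent.S14909
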