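import Groth.Statements.S1491
import Groth.Agent.FlatMorKoszul.Presentation

set_option autoImplicit false
universe u
attribute [local instance] HasDerivedCategory.standard
open FlatMor

namespace Groth.Agent.S1491

open AlgebraicGeometry CategoryTheory Limits in
/-- Let f : X → Y and g : Y → Z be local complete intersection morphisms, in the affine-local sense that
all ring maps between affine opens are local complete intersection homomorphisms. Then f ≫ g is a
local complete intersection morphism. -/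
theorem result {X Y Z : Scheme.{u}} (f : X ⟶ Y) (g : Y ⟶ Z)
    (hf : (∀ (U : X.Opens) (V : Y.Opens) (hU : IsAffineOpen U) (hV : IsAffineOpen V) (hUV : U ≤ f ⁻¹ᵁ V),
        letI := (f.appLE V U hUV).hom.toAlgebra
        LCI.IsLCI Γ(Y, V) Γ(X, U)))
    (hg : (∀ (U : Y.Opens) (V : Z.Opens) (hU : IsAffineOpen U) (hV : IsAffineOpen V) (hUV : U ≤ g ⁻¹ᵁ V),
        letI := (g.appLE V U hUV).hom.toAlgebra
        LCI.IsLCI Γ(Z, V) Γ(Y, U))) :
    (∀ (U : X.Opens) (V : Z.Opens) (hU : IsAffineOpen U) (hV : IsAffineOpen V) (hUV : U ≤ (f ≫ g) ⁻¹ᵁ V),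
        letI := ((f ≫ g).appLE V U hUV).hom.toAlgebra
        LCI.IsLCI Γ(Z, V) Γ(X, U)) := by
  intro U V hU hV hUV
  let _algU := ((f ≫ g).appLE V U hUV).hom.toAlgebra
  let s : Set Γ(X, U) := {a | ∃ W : Y.Opens, IsAffineOpen W ∧ W ≤ g ⁻¹ᵁ V ∧ X.basicOpen a ≤ f ⁻¹ᵁ W}
  have hs : Ideal.span s = ⊤ := by
    rw [← IsAffineOpen.iSup_basicOpen_eq_self_iff hU]
    refine le_antisymm (iSup_le fun a => X.basicOpen_le a.1) fun x hx => ?_
    obtain ⟨_, ⟨W, hW, rfl⟩, hxW, hWle⟩ :=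
      Y.isBasis_affineOpens.exists_subset_of_mem_open (show f x ∈ g ⁻¹ᵁ V from hUV hx) (g ⁻¹ᵁ V).2
    obtain ⟨a, hale, hxa⟩ := IsAffineOpen.exists_basicOpen_le hU (V := f ⁻¹ᵁ W) ⟨x, hxW⟩ hx
    exact TopologicalSpace.Opens.mem_iSup.2 ⟨⟨a, W, hW, hWle, hale⟩, hxa⟩
  refine Groth.Agent.FlatMorKoszul.isLCI_of_span s hs ?_
  rintro a ⟨W, hW, hWV, haW⟩
  let R := Γ(Z, V)
  let P := Γ(X, X.basicOpen a)
  let _algW := (g.appLE V W hWV).hom.toAlgebra
  let _algWP := (f.appLE W (X.basicOpen a) haW).hom.toAlgebra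
  let _algP : Algebra Γ(Z, V) Γ(X, X.basicOpen a) :=
    ((f ≫ g).appLE V (X.basicOpen a) ((X.basicOpen_le a).trans hUV)).hom.toAlgebra
  have htower : IsScalarTower Γ(Z, V) Γ(Y, W) Γ(X, X.basicOpen a) := by
    refine .of_algebraMap_eq' ?_
    show ((f ≫ g).appLE V (X.basicOpen a) _).hom =
      (f.appLE W (X.basicOpen a) haW).hom.comp (g.appLE V W hWV).hom
    rw [← CommRingCat.hom_comp, Scheme.Hom.appLE_comp_appLE]
  have hlci : LCI.IsLCI Γ(Z, V) Γ(X, X.basicOpen a) :=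
    Groth.Agent.FlatMorKoszul.isLCI_trans (hg W V hW hV hWV) (hf (X.basicOpen a) W (IsAffineOpen.basicOpen hU a) hW haW)
  have hloc := IsAffineOpen.isLocalization_basicOpen hU a
  let e := IsLocalization.algEquiv (Submonoid.powers a) Γ(X, X.basicOpen a) (Localization.Away a)
  have htower' : IsScalarTower Γ(Z, V) Γ(X, U) Γ(X, X.basicOpen a) := by
    refine .of_algebraMap_eq' ?_
    show ((f ≫ g).appLE V (X.basicOpen a) _).hom =
      (X.presheaf.map (homOfLE (X.basicOpen_le a)).op).hom.comp ((f ≫ g).appLE V U hUV).hom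
    rw [← CommRingCat.hom_comp, Scheme.Hom.appLE_map]
  exact Groth.Agent.FlatMorKoszul.isLCI_of_equiv (e.restrictScalars Γ(Z, V)) hlci

end Groth.Agent.S1491
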