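import Groth.Statements.S14925
import Groth.Agent.PerfSchLib.Pic
open Groth.Agent.Coherent Groth.Agent.PicLib Groth.Agent.AmpleLib

set_option autoImplicit false
set_option backward.isDefEq.respectTransparency false
set_option backward.defeqAttrib.useBackward true
universe u
open CategoryTheory AlgebraicGeometry
open PerfSch

namespace Groth.Agent.S14925

theorem triv_of_glocus {Y : Scheme.{u}} {M : Y.Modules} (a : Γ(M, ⊤)) (h : glocus M a = ⊤) :
    Nonempty (M ≅ Coh.structureModule Y) := by
  have hg : IsGen M ⊤ a := by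
    have := (le_glocus_iff a ⊤).1 h.ge
    rwa [resM_self] at this
  have : IsIso (unitDesc M a) := isIso_of_isGen _ (by rw [unitVal_unitDesc, resM_self]; exact hg)
  exact ⟨(asIso (unitDesc M a)).symm⟩

theorem exists_glocus_top {Y : Scheme.{u}} {M : Y.Modules} (e : M ≅ Coh.structureModule Y) :
    ∃ a : Γ(M, ⊤), glocus M a = ⊤ :=
  ⟨e.inv.app ⊤ (oneSec ⊤), (glocus_map_iso e.symm (oneSec ⊤)).trans glocus_oneSec⟩

/-- Let p be a prime and X a quasi-compact quasi-separated scheme of characteristic p. Let π : X' ⟶ X be
a perfection of X: X' is a perfect scheme of characteristic p (its absolute Frobenius is an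
isomorphism) and every morphism from a perfect scheme of characteristic p to X factors uniquely
through π. For an invertible O_X-module L, the pullback π^*L is isomorphic to the structure sheaf of
X' if and only if some tensor power L^{⊗ p^n}, n ≥ 0, is isomorphic to the structure sheaf of X.
(The published statement is that pullback along π induces an isomorphism Pic(X)[1/p] ≅ Pic(X'); this
row is the assertion that the kernel of Pic(X) → Pic(X') is the p-power torsion.) -/
theorem result (p : ℕ) [Fact p.Prime] {X XP : Scheme.{u}} [FrobSch.IsCharP X p] [FrobSch.IsCharP XP p]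
    [CompactSpace X] [QuasiSeparatedSpace X] (πX : XP ⟶ X) (hX : FrobSch.IsPerfection πX p)
    (L : X.Modules) (hL : PicF.IsInvertible L) :
    PicF.IsTrivialCl (PicF.pullCl πX (PicF.cl L)) ↔
      ∃ n : ℕ, PicF.IsTrivialCl (PicF.cl (CohB1.tensorPow L (p ^ n))) := by
  show PicF.cl ((Scheme.Modules.pullback πX).obj L) = PicF.cl (Coh.structureModule XP) ↔
    ∃ n : ℕ, PicF.cl (CohB1.tensorPow L (p ^ n)) = PicF.cl (Coh.structureModule X)
  simp only [PicGrp.cl_eq_cl_iff]
  constructor
  · rintro ⟨e⟩
    obtain ⟨a, ha⟩ := exists_glocus_top e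
    obtain ⟨k, b, hb⟩ := Groth.Agent.PerfSchLib.exists_descend_section p hX hL a
    exact ⟨k, triv_of_glocus b (Groth.Agent.PerfSchLib.eq_of_preimage_eq p hX
      (hb.trans (ha.trans rfl)))⟩
  · rintro ⟨n, ⟨e⟩⟩
    obtain ⟨e', -⟩ := exists_pullPowIso πX hL (p ^ n)
    obtain ⟨s, hs⟩ := exists_glocus_top (e'.symm ≪≫ (Scheme.Modules.pullback πX).mapIso e ≪≫
      (exists_pullStructureIso πX).some)
    obtain ⟨a, ha⟩ := Groth.Agent.PerfSchLib.exists_root_section p hX.1
      (PicLoc.isInvertible_pullback πX hL) n s
    exact triv_of_glocus a (ha.trans hs)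


end Groth.Agent.S14925
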