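import Groth.Statements.S14926
import Groth.Agent.PerfSchLib.Pic
open Groth.Agent.Coherent Groth.Agent.PicLib Groth.Agent.AmpleLib

set_option autoImplicit false
set_option backward.isDefEq.respectTransparency false
set_option backward.defeqAttrib.useBackward true
universe u
open CategoryTheory AlgebraicGeometry
open PerfSch

namespace Groth.Agent.S14926

/-- Let p be a prime and X a quasi-compact quasi-separated scheme of characteristic p. Let π : X' ⟶ X be
a perfection of X: X' is a perfect scheme of characteristic p (its absolute Frobenius is an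
isomorphism) and every morphism from a perfect scheme of characteristic p to X factors uniquely
through π. For every invertible O_{X'}-module M there are n ≥ 0 and an invertible O_X-module L with
M^{⊗ p^n} isomorphic to π^*L. (The published statement is that pullback along π induces an
isomorphism Pic(X)[1/p] ≅ Pic(X'); this row is the assertion that every class in Pic(X') has a
p^n-th multiple in the image of Pic(X).) -/
theorem result (p : ℕ) [Fact p.Prime] {X XP : Scheme.{u}} [FrobSch.IsCharP X p] [FrobSch.IsCharP XP p]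
    [CompactSpace X] [QuasiSeparatedSpace X] (πX : XP ⟶ X) (hX : FrobSch.IsPerfection πX p)
    (M : XP.Modules) (hM : PicF.IsInvertible M) :
    ∃ (n : ℕ) (L : X.Modules), PicF.IsInvertible L ∧
      PicF.cl (CohB1.tensorPow M (p ^ n)) = PicF.pullCl πX (PicF.cl L) := by
  classical
  haveI := Groth.Agent.PerfSchLib.surjective_of_isPerfection p hX
  haveI := Groth.Agent.PerfSchLib.universallyInjective_of_isPerfection p hX
  haveI := Groth.Agent.PerfSchLib.isIntegralHom_of_isPerfection p hX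
  have homeo : IsHomeomorph πX := isHomeomorph_iff_continuous_isClosedMap_bijective.mpr
    ⟨πX.continuous, πX.isClosedMap, πX.injective, πX.surjective⟩
  have hV : ∀ x : X, ∃ V : X.Opens, x ∈ V ∧ IsAffineOpen V ∧
      ∃ g : Γ(M, πX ⁻¹ᵁ V), IsGen M (πX ⁻¹ᵁ V) g := fun x => by
    obtain ⟨y, rfl⟩ := πX.surjective x
    obtain ⟨W, hy, g, hg⟩ := exists_isGen hM y
    let W' : X.Opens := ⟨πX '' (W : Set XP), homeo.isOpenMap _ W.2⟩
    obtain ⟨V, hV, hxV, hVW⟩ :=
      exists_isAffineOpen_mem_and_subset (X := X) (x := πX y) (U := W') ⟨y, hy, rfl⟩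
    have hle : πX ⁻¹ᵁ V ≤ W := fun z hz => by
      obtain ⟨z', hz', he⟩ := hVW hz
      exact πX.injective he ▸ hz'
    exact ⟨V, hxV, hV, resM M hle g, hg.restrict hle⟩
  choose V hxV hVaff g hg using hV
  obtain ⟨T, hT⟩ := isCompact_univ.elim_finite_subcover (fun x : X => (V x : Set X))
    (fun x => (V x).2) fun x _ => Set.mem_iUnion.2 ⟨x, hxV x⟩
  let U : T → X.Opens := fun i => V i.1
  have hU : iSup U = ⊤ := top_le_iff.1 fun x _ => by
    obtain ⟨i, hi, hx⟩ := Set.mem_iUnion₂.1 (hT (Set.mem_univ x))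
    exact TopologicalSpace.Opens.mem_iSup.2 ⟨⟨i, hi⟩, hx⟩
  have hc2 : ∀ i j, IsCompact ((U i ⊓ U j : X.Opens) : Set X) := fun i j =>
    QuasiSeparatedSpace.inter_isCompact _ _ (U i).2 (hVaff i.1).isCompact (U j).2
      (hVaff j.1).isCompact
  have hc3 : ∀ i j k, IsCompact ((U i ⊓ U j ⊓ U k : X.Opens) : Set X) := fun i j k =>
    QuasiSeparatedSpace.inter_isCompact _ _ (U i ⊓ U j).2 (hc2 i j) (U k).2
      (hVaff k.1).isCompact
  let h : ∀ i : T, Γ(M, πX ⁻¹ᵁ U i) := fun i => g i.1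
  have hh : ∀ i, IsGen M (πX ⁻¹ᵁ U i) (h i) := fun i => hg i.1
  let l : ∀ i j, πX ⁻¹ᵁ (U i ⊓ U j) ≤ πX ⁻¹ᵁ U i := fun i j z hz => hz.1
  let r : ∀ i j, πX ⁻¹ᵁ (U i ⊓ U j) ≤ πX ⁻¹ᵁ U j := fun i j z hz => hz.2
  have hv : ∀ i j, ∃ v : Γ(XP, πX ⁻¹ᵁ (U i ⊓ U j)),
      v • resM M (r i j) (h j) = resM M (l i j) (h i) := fun i j => (hh j _ (r i j)).2 _
  choose v hv using hv
  have hcoc : ∀ i j k,
      res (show πX ⁻¹ᵁ (U i ⊓ U j ⊓ U k) ≤ πX ⁻¹ᵁ (U i ⊓ U k) from fun z hz => ⟨hz.1.1, hz.2⟩) (v i k) =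
        res (show πX ⁻¹ᵁ (U i ⊓ U j ⊓ U k) ≤ πX ⁻¹ᵁ (U i ⊓ U j) from fun z hz => hz.1) (v i j) *
          res (show πX ⁻¹ᵁ (U i ⊓ U j ⊓ U k) ≤ πX ⁻¹ᵁ (U j ⊓ U k) from fun z hz => ⟨hz.1.2, hz.2⟩) (v j k) := by
    intro i j k
    have hk : πX ⁻¹ᵁ (U i ⊓ U j ⊓ U k) ≤ πX ⁻¹ᵁ U k := fun z hz => hz.2
    refine (hh k _ hk).1 ?_
    have e : ∀ a b (hab : πX ⁻¹ᵁ (U i ⊓ U j ⊓ U k) ≤ πX ⁻¹ᵁ (U a ⊓ U b)),
        res hab (v a b) • resM M (hab.trans (r a b)) (h b) = resM M (hab.trans (l a b)) (h a) :=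
      fun a b hab => by
        rw [← resM_resM M (r a b) hab, ← resM_smul, hv, resM_resM]
    show res _ (v i k) • resM M hk (h k) = (res _ (v i j) * res _ (v j k)) • resM M hk (h k)
    rw [mul_smul, e i k, e j k, e i j]
  have hunit : ∀ i j, IsUnit (v i j) := by
    intro i j
    have h1 := ((hh j).restrict (r i j)).isUnit_coef ((hh i).restrict (l i j))
    rwa [IsGen.coef_eq _ le_rfl (r := v i j) (by rw [resM_self]; exact hv i j)] at h1
  choose n u hu using fun ij : T × T =>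
    Groth.Agent.PerfSchLib.exists_app_eq_pow p hX (hc2 ij.1 ij.2) (v ij.1 ij.2)
  let n0 := Finset.univ.sup n
  obtain ⟨w, hw⟩ : ∃ w : ∀ i j, Γ(X, U i ⊓ U j), ∀ i j, πX.app _ (w i j) = v i j ^ p ^ n0 :=
    ⟨fun i j => u (i, j) ^ p ^ (n0 - n (i, j)), fun i j => by
      rw [map_pow, Groth.Agent.PerfSchLib.res_pow_up p (hu (i, j)),
        Nat.add_sub_cancel' (Finset.le_sup (Finset.mem_univ (i, j)))]⟩
  have hwu : ∀ i j, IsUnit (w i j) := fun i j => by
    have h1 : X.basicOpen (w i j) = U i ⊓ U j := Groth.Agent.PerfSchLib.eq_of_preimage_eq p hX (by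
      rw [Scheme.preimage_basicOpen, hw, Scheme.basicOpen_of_isUnit _ ((hunit i j).pow _)])
    exact RingedSpace.isUnit_of_isUnit_germ _ _ _ fun x hx => by
      exact (Scheme.mem_basicOpen X (w i j) x hx).1 (h1.ge hx)
  have hres : ∀ {A B : X.Opens} (hAB : B ≤ A) (t : Γ(X, A)),
      πX.app B (res hAB t) = res (show πX ⁻¹ᵁ B ≤ πX ⁻¹ᵁ A from fun z hz => hAB hz) (πX.app A t) := fun hAB t =>
    ConcreteCategory.congr_hom (πX.naturality (homOfLE hAB).op) t
  have hpc : ∀ i j k, ∃ m, ∀ m', m ≤ m' →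
      res (inf_le_inf_right (U k) inf_le_left : U i ⊓ U j ⊓ U k ≤ U i ⊓ U k) (w i k) ^ p ^ m' =
        (res (inf_le_left : U i ⊓ U j ⊓ U k ≤ U i ⊓ U j) (w i j) *
          res (inf_le_inf_right (U k) inf_le_right : U i ⊓ U j ⊓ U k ≤ U j ⊓ U k) (w j k)) ^ p ^ m' :=
    fun i j k => Groth.Agent.PerfSchLib.exists_pow_app_eq p hX (hc3 i j k) _ _ (by
      rw [map_mul, hres, hres, hres, hw, hw, hw, map_pow, map_pow, map_pow, ← mul_pow, ← hcoc])
  choose m hm using fun t : T × T × T => hpc t.1 t.2.1 t.2.2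
  let m0 := Finset.univ.sup m
  let η : ∀ i j, (Γ(X, U i ⊓ U j))ˣ := fun i j => ((hwu i j).pow (p ^ m0)).unit
  have hη : ∀ i j, (η i j : Γ(X, U i ⊓ U j)) = w i j ^ p ^ m0 := fun i j => rfl
  obtain ⟨L, s, hLinv, hs, hst⟩ := CocycleGlue.exists_invertible U η (fun x i j k => by
    have hx : x ∈ U i.1 ⊓ U j.1 ⊓ U k.1 := ⟨⟨i.2, j.2⟩, k.2⟩
    have h1 := congrArg (X.presheaf.germ (U i.1 ⊓ U j.1 ⊓ U k.1) x hx)
      (hm (i.1, j.1, k.1) m0 (Finset.le_sup (Finset.mem_univ _)))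
    simp only [map_mul, map_pow, TopCat.Presheaf.germ_res_apply] at h1
    show X.presheaf.germ _ x _ (η i.1 k.1 : Γ(X, U i.1 ⊓ U k.1)) =
      X.presheaf.germ _ x _ (η i.1 j.1 : Γ(X, U i.1 ⊓ U j.1)) *
        X.presheaf.germ _ x _ (η j.1 k.1 : Γ(X, U j.1 ⊓ U k.1))
    rw [hη, hη, hη, map_pow, map_pow, map_pow, h1, mul_pow]) hU
  refine ⟨n0 + m0, L, hLinv, (PicGrp.cl_eq_cl_iff _ _).2 ?_⟩
  have hUP : (⨆ i, πX ⁻¹ᵁ U i) = ⊤ := by
    rw [← Scheme.Hom.preimage_iSup, hU, Scheme.Hom.preimage_top]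
  obtain ⟨e, -⟩ := exists_iso_of_gens (fun i => πX ⁻¹ᵁ U i) hUP
    (fun i => pullSec πX (s i)) (fun i => isGen_pullSec πX (hs i) hLinv)
    (fun i => powSec (h i) (p ^ (n0 + m0))) (fun i => isGen_powSec (hh i) _) (by
      intro i j W hi hj c hc
      have hW : W ≤ πX ⁻¹ᵁ (U i ⊓ U j) := fun z hz => ⟨hi hz, hj hz⟩
      have hcc : c = res hW (v i j) ^ p ^ (n0 + m0) := by
        refine ((isGen_pullSec πX (hs j) hLinv) W hj).1 ?_
        show c • resM _ hj (pullSec πX (s j)) = _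
        rw [← hc, ← resM_resM _ (l i j) hW, resM_pullSec πX inf_le_left (s i), hst, pullSec_smul,
          resM_smul, ← resM_pullSec πX inf_le_right (s j), resM_resM, hη, map_pow, hw, ← pow_mul,
          ← pow_add, map_pow]
      rw [hcc, resM_powSec, resM_powSec, ← powSec_smul, ← resM_resM _ (r i j) hW (h j), ← resM_smul,
        hv, resM_resM])
  exact ⟨e.symm⟩


end Groth.Agent.S14926
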