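import Groth.Statements.S14927
import Groth.Agent.PerfSchLib.Pic
open Groth.Agent.Coherent Groth.Agent.PicLib Groth.Agent.AmpleLib

set_option autoImplicit false
set_option backward.isDefEq.respectTransparency false
set_option backward.defeqAttrib.useBackward true
universe u
open CategoryTheory AlgebraicGeometry
open PerfSch

namespace Groth.Agent.S14927

/-- Let p be a prime and X a quasi-compact quasi-separated scheme of characteristic p. Let π : X' ⟶ X be
a perfection of X: X' is a perfect scheme of characteristic p (its absolute Frobenius is an
isomorphism) and every morphism from a perfect scheme of characteristic p to X factors uniquely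
through π. An invertible O_X-module L is ample (every point of the quasi-compact scheme X has an
affine open neighbourhood of the form X_s with s a global section of a positive tensor power of L)
if and only if its pullback π^*L to X' is ample. (Invertibility of L is assumed: for the spectrum of
the dual numbers over the prime field, whose perfection is a point, the pullback of the
non-invertible module O/(ε) is the structure sheaf.) -/
theorem result (p : ℕ) [Fact p.Prime] {X XP : Scheme.{u}} [FrobSch.IsCharP X p] [FrobSch.IsCharP XP p]
    [CompactSpace X] [QuasiSeparatedSpace X] (πX : XP ⟶ X) (hX : FrobSch.IsPerfection πX p)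
    (L : X.Modules) (hL : PicF.IsInvertible L) :
    CohB1.IsAmple L ↔ CohB1.IsAmple ((Scheme.Modules.pullback πX).obj L) := by
  haveI := Groth.Agent.PerfSchLib.isAffineHom_of_isPerfection p hX
  refine ⟨fun h => isAmple_pullback_of_isAffineHom πX h, fun h => ?_⟩
  rw [isAmple_iff_affGlocus]
  refine ⟨hL, inferInstance, fun x => ?_⟩
  haveI := Groth.Agent.PerfSchLib.surjective_of_isPerfection p hX
  obtain ⟨y, rfl⟩ := πX.surjective x
  obtain ⟨m, hm, s, hy, -, ha⟩ := (isAmple_iff_affGlocus.1 h).2.2 y
  obtain ⟨e, -⟩ := exists_pullPowIso πX hL m
  obtain ⟨k, b, hb⟩ := Groth.Agent.PerfSchLib.exists_descend_section p hX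
    (isInvertible_tensorPow hL m) (e.inv.app ⊤ s)
  rw [show glocus _ (e.inv.app ⊤ s) = glocus _ s from glocus_map_iso e.symm s] at hb
  obtain ⟨e2, -⟩ := exists_powPowIso hL m (p ^ k)
  refine ⟨m * p ^ k, mul_pos hm (pow_pos (Fact.out : p.Prime).pos _), e2.hom.app ⊤ b, ?_⟩
  rw [glocus_map_iso]
  refine ⟨?_, le_top, Groth.Agent.PerfSchLib.isAffineOpen_of_preimage p hX (hb ▸ ha)⟩
  exact (SetLike.ext_iff.1 hb y).2 hy


end Groth.Agent.S14927
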