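import Groth.Statements.S1493
import Groth.Agent.FlatMorKoszul.RegularLCI

set_option autoImplicit false
universe u
attribute [local instance] HasDerivedCategory.standard
open FlatMor

namespace Groth.Agent.S1493

open AlgebraicGeometry CategoryTheory Limits in
/-- Let f : X → Y be locally of finite type with X and Y regular (locally Noetherian with regular local
rings). Then f is a local complete intersection morphism (affine-locally: local complete
intersection ring maps). -/
theorem result {X Y : Scheme.{u}} (f : X ⟶ Y) [LocallyOfFiniteType f] [IsLocallyNoetherian X] [IsLocallyNoetherian Y]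
    (hX : ∀ x : X, IsRegularLocalRing ↑(X.presheaf.stalk x)) (hY : ∀ y : Y, IsRegularLocalRing ↑(Y.presheaf.stalk y)) :
    (∀ (U : X.Opens) (V : Y.Opens) (hU : IsAffineOpen U) (hV : IsAffineOpen V) (hUV : U ≤ f ⁻¹ᵁ V),
        letI := (f.appLE V U hUV).hom.toAlgebra
        LCI.IsLCI Γ(Y, V) Γ(X, U)) := by
  intro U V hU hV hUV
  let _alg := (f.appLE V U hUV).hom.toAlgebra
  have hft : Algebra.FiniteType Γ(Y, V) Γ(X, U) := Scheme.Hom.finiteType_appLE f hV hU hUV
  have key : ∀ {Z : Scheme.{u}} [IsLocallyNoetherian Z] (_ : ∀ z : Z, IsRegularLocalRing (Z.presheaf.stalk z))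
      {W : Z.Opens}, IsAffineOpen W → IsRegularRing Γ(Z, W) := by
    intro Z _ hZ W hW
    have := IsLocallyNoetherian.component_noetherian ⟨W, hW⟩
    refine isRegularRing_iff.2 fun p _ => ?_
    have hy : hW.fromSpec ⟨p, inferInstance⟩ ∈ W := hW.range_fromSpec.le ⟨_, rfl⟩
    let _ : Algebra Γ(Z, W) (Z.presheaf.stalk (hW.fromSpec ⟨p, inferInstance⟩)) :=
      (Z.presheaf.germ W _ hy).hom.toAlgebra
    have : IsLocalization.AtPrime (Z.presheaf.stalk (hW.fromSpec ⟨p, inferInstance⟩)) p :=
      hW.isLocalization_stalk' ⟨p, inferInstance⟩ hy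
    have := hZ (hW.fromSpec ⟨p, inferInstance⟩)
    exact IsRegularLocalRing.of_ringEquiv (IsLocalization.algEquiv p.primeCompl
      (Z.presheaf.stalk (hW.fromSpec ⟨p, inferInstance⟩)) (Localization.AtPrime p)).toRingEquiv
  have := key hX hU
  have := key hY hV
  exact Groth.Agent.FlatMorKoszul.isLCI_of_regular

end Groth.Agent.S1493
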