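import Groth.Statements.S14932
import Groth.Agent.CommAlg4.FrobDegree
import Groth.Agent.S14930
import Groth.Agent.S1544
import Groth.Agent.CurveLib.Completion
import Groth.Agent.DimLib.OverBridge
import Groth.Agent.VarietyLib.LocalDimPt
-- import your own Groth.Agent.* helpers here

set_option autoImplicit false
universe u
open CategoryTheory CategoryTheory.Limits AlgebraicGeometry
open Variety

namespace Groth.Agent.S14932

set_option linter.unusedVariables false

attribute [local instance] Curv2.resAlgebra Curv2.stalkAlgebra

open Groth.Agent in
/-- The residue field at the generic point: trdeg, finite generation, separability. -/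
lemma generic_props (k : Type u) [Field k] (X : Scheme.{u}) [X.Over (Spec (CommRingCat.of k))] [IsIntegral X]
    [LocallyOfFiniteType (X ↘ (Spec (CommRingCat.of k)))]
    [GeometricallyReduced (X ↘ (Spec (CommRingCat.of k)))] (d : ℕ) (hd : topologicalKrullDim X = d) :
    Algebra.trdeg k (X.residueField (genericPoint X)) = d ∧
      Algebra.EssFiniteType k (X.residueField (genericPoint X)) ∧
      Algebra.FormallySmooth k (X.residueField (genericPoint X)) := by
  refine ⟨?_, ?_⟩
  · have h := VarietyLib.trdeg_eq_ptDim (k := k) (genericPoint X)
    rw [DimLib.topologicalKrullDim_eq_ptDim_genericPoint (X ↘ (Spec (CommRingCat.of k)))] at hd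
    have hd' : DimLib.ptDim (X ↘ (Spec (CommRingCat.of k))) (genericPoint X) = d := by exact_mod_cast hd
    rw [hd'] at h
    exact h
  · let r : X.functionField →ₐ[k] X.residueField (genericPoint X) :=
      ⟨(X.residue (genericPoint X)).hom, fun _ ↦ rfl⟩
    have hr : Function.Bijective r :=
      ⟨(X.residue (genericPoint X)).hom.injective, IsLocalRing.residue_surjective⟩
    haveI : Algebra.IsGeometricallyReduced k X.functionField := (S1544.result k X).1 inferInstance
    haveI : Algebra.FormallySmooth k X.functionField :=
      (EGA41Lib.formallySmooth_iff_isGeometricallyReduced_field k X.functionField).2 inferInstance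
    haveI : Algebra.EssFiniteType k X.functionField := by
      haveI h2 : Algebra.EssFiniteType k (⊤ : IntermediateField k X.functionField) :=
        IntermediateField.essFiniteType_iff.mpr (CurveLib.functionField_fg (k := k) X)
      exact Algebra.EssFiniteType.of_surjective
        (IntermediateField.topEquiv (F := k) (E := X.functionField)).toAlgHom (AlgEquiv.surjective _)
    exact ⟨Algebra.EssFiniteType.of_surjective r hr.2,
      Algebra.FormallySmooth.of_equiv (AlgEquiv.ofBijective r hr)⟩

open Groth.Agent in
/-- The image of the residue field of the twist is `k[L^p]`. -/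
lemma range_residueFieldMap (k : Type u) [Field k] (p : ℕ) [Fact p.Prime] [CharP k p] (X : Scheme.{u})
    [X.Over (Spec (CommRingCat.of k))] (x : X) :
    ((FrobSch.relFrob (X ↘ (Spec (CommRingCat.of k))) p).residueFieldMap x).hom.range =
      (EGA41Lib.PB.powAlg p k (X.residueField x)).toSubring := by
  set f := X ↘ (Spec (CommRingCat.of k)) with hf
  set rF := FrobSch.relFrob f p with hrF
  set L := X.residueField x
  haveI : CharP L p := charP_of_injective_algebraMap (algebraMap k L).injective p
  haveI : FrobSch.IsCharP X p := FrobSch.IsCharP.of_hom f p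
  set r := rF.residueFieldMap x
  have hk : Spec.map (CommRingCat.ofHom (algebraMap k L)) = X.fromSpecResidueField x ≫ f := by
    rw [hf, ← DimLib.specMap_baseRingHom, DimLib.baseRingHom_eq_resMap]
    first | done | rfl
  have hfr : X.fromSpecResidueField x ≫ FrobSch.frob X p =
      Spec.map (CommRingCat.ofHom (frobenius L p)) ≫ X.fromSpecResidueField x := by
    rw [← CommAlg4.frob_Spec p L]
    exact (FrobSch.frob_comp p (X.fromSpecResidueField x)).symm
  let G := EGA41Lib.PB.powAlg p k L
  let fr : L →+* G := (frobenius L p).codRestrict G fun z => Algebra.subset_adjoin ⟨z, rfl⟩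
  have hfr' : Spec.map (CommRingCat.ofHom fr) ≫ X.fromSpecResidueField x ≫ f =
      Spec.map (CommRingCat.ofHom (algebraMap k G)) ≫ FrobSch.frob (Spec (CommRingCat.of k)) p := by
    rw [← hk, CommAlg4.frob_Spec p k, ← Spec.map_comp, ← Spec.map_comp]
    congr 1
    refine CommRingCat.hom_ext (RingHom.ext fun c => Subtype.ext ?_)
    exact ((algebraMap k L).map_pow c p).symm
  let m : Spec (CommRingCat.of G) ⟶ FrobSch.frobTwist f p :=
    pullback.lift _ _ ((Category.assoc _ _ _).trans hfr')
  have hm : Spec.map (CommRingCat.ofHom G.val.toRingHom) ≫ m = X.fromSpecResidueField x ≫ rF := by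
    refine pullback.hom_ext ?_ ?_
    · rw [Category.assoc, pullback.lift_fst, ← Category.assoc, ← Spec.map_comp, Category.assoc,
        hrF, FrobSch.relFrob_fst, hfr]
      rfl
    · rw [Category.assoc, pullback.lift_snd, ← Spec.map_comp, Category.assoc, hrF, FrobSch.relFrob_snd, ← hk]
      rfl
  have hr0 : Spec.map r ≫ (FrobSch.frobTwist f p).fromSpecResidueField (rF x) = X.fromSpecResidueField x ≫ rF :=
    Scheme.Hom.SpecMap_residueFieldMap_fromSpecResidueField rF x
  apply le_antisymm
  · have hG : IsField G := Field.toIsField (EGA41Lib.PB.subfieldOf (p := p) G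
      (fun b => Algebra.subset_adjoin ⟨b, rfl⟩))
    haveI : Subsingleton (Spec (CommRingCat.of G)) := by
      letI := hG.toField
      exact inferInstanceAs (Subsingleton (PrimeSpectrum G))
    have hpt : ∀ z, m z = rF x := fun z => by
      obtain ⟨y⟩ : Nonempty (Spec (CommRingCat.of L)) := inferInstance
      have h := congrArg (fun g : Spec (CommRingCat.of L) ⟶ FrobSch.frobTwist f p => g y) hm
      rw [Subsingleton.elim z ((Spec.map (CommRingCat.ofHom G.val.toRingHom)) y)]
      exact h.trans (congrArg rF (Scheme.fromSpecResidueField_apply x y))
    letI := hG.toField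
    let χ : (FrobSch.frobTwist f p).residueField (rF x) ⟶ CommRingCat.of G :=
      ((FrobSch.frobTwist f p).residueFieldCongr (hpt (IsLocalRing.closedPoint G))).inv ≫
        (Scheme.SpecToEquivOfField G _ m).2
    have hχ : Spec.map χ ≫ (FrobSch.frobTwist f p).fromSpecResidueField (rF x) = m := by
      have key : ∀ {P : Scheme.{u}} {z y : P} (h : z = y) {R : CommRingCat.{u}} (a : P.residueField z ⟶ R),
          Spec.map ((P.residueFieldCongr h).inv ≫ a) ≫ P.fromSpecResidueField y =
            Spec.map a ≫ P.fromSpecResidueField z := by
        intro P z y h R a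
        subst h
        simp
      exact (key _ _).trans ((Scheme.SpecToEquivOfField G _).symm_apply_apply m)
    have hcomp : χ ≫ CommRingCat.ofHom G.val.toRingHom = r := by
      refine Spec.map_injective ?_
      rw [← cancel_mono ((FrobSch.frobTwist f p).fromSpecResidueField (rF x)), Spec.map_comp, Category.assoc,
        hχ, hm, hr0]
    rintro _ ⟨z, rfl⟩
    rw [← hcomp]
    exact (χ.hom z).2
  · intro z hz
    induction (hz : z ∈ Algebra.adjoin k _) using Algebra.adjoin_induction with
    | mem z hz =>
      obtain ⟨y, rfl⟩ := hz
      let P := FrobSch.frobTwist f p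
      let π := pullback.fst f (FrobSch.frob (Spec (CommRingCat.of k)) p)
      have h : Spec.map (π.residueFieldMap (rF x) ≫ r) ≫ X.fromSpecResidueField (π (rF x)) =
          Spec.map (CommRingCat.ofHom (frobenius L p)) ≫ X.fromSpecResidueField x := by
        rw [Spec.map_comp, Category.assoc, Scheme.Hom.SpecMap_residueFieldMap_fromSpecResidueField,
          reassoc_of% hr0, hrF, FrobSch.relFrob_fst, hfr]
      have hπ : π (rF x) = x := by
        rw [← Scheme.Hom.comp_apply, hrF, FrobSch.relFrob_fst]
        rfl
      rw [← X.residueFieldCongr_fromSpecResidueField hπ, ← Category.assoc, ← Spec.map_comp, cancel_mono] at h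
      have h' : π.residueFieldMap (rF x) ≫ r = (X.residueFieldCongr hπ).hom ≫ CommRingCat.ofHom (frobenius L p) :=
        Spec.map_injective h
      have h2 := congrArg (fun g : X.residueField (π (rF x)) ⟶ X.residueField x =>
        g.hom ((X.residueFieldCongr hπ).inv.hom y)) h'
      refine ⟨_, h2.trans ?_⟩
      show frobenius L p (((X.residueFieldCongr hπ).inv ≫ (X.residueFieldCongr hπ).hom).hom y) = y ^ p
      rw [Iso.inv_hom_id]
      rfl
    | algebraMap c =>
      let σ := pullback.snd f (FrobSch.frob (Spec (CommRingCat.of k)) p)
      let ρ : CommRingCat.of k ⟶ (FrobSch.frobTwist f p).residueField (rF x) :=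
        Spec.preimage ((FrobSch.frobTwist f p).fromSpecResidueField (rF x) ≫ σ)
      have h : ρ ≫ r = CommRingCat.ofHom (algebraMap k L) := by
        refine Spec.map_injective ?_
        rw [Spec.map_comp, Spec.map_preimage, reassoc_of% hr0, hrF, FrobSch.relFrob_snd, hk]
      exact ⟨ρ.hom c, congrArg (fun g : CommRingCat.of k ⟶ X.residueField x => g.hom c) h⟩
    | add a b _ _ ha hb => exact Subring.add_mem _ ha hb
    | mul a b _ _ ha hb => exact Subring.mul_mem _ ha hb

/-- Let k be a field of characteristic p > 0 and X a variety over k (an integral scheme, separated and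
of finite type over k) which is geometrically reduced over k, of dimension d. Then the Frobenius
twist X^(p) = X ×_{Spec k, F_k} Spec k, the base change of X along the absolute Frobenius of Spec k,
is an integral scheme, and the relative Frobenius F_{X/k} : X → X^(p) has degree p^d: the residue
field of the generic point of X is an extension of degree p^d of the residue field of its image in
X^(p). (The published item also says that X^(p) is separated and of finite type over k and that
F_{X/k} is finite and dominant; these hold for every base change of a separated morphism of finite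
type, respectively for the relative Frobenius of every scheme locally of finite type over a base of
characteristic p, and are not restated. It also states the equivalence of: X^(p) reduced, X
geometrically reduced, X has a nonempty open smooth over k; that equivalence is not part of this
row.) -/
theorem result (k : Type u) [Field k]
    (p : ℕ) [Fact p.Prime] [CharP k p] (X : Scheme.{u}) [X.Over (Spec (CommRingCat.of k))] [IsIntegral X]
    [IsSeparated (X ↘ (Spec (CommRingCat.of k)))] [LocallyOfFiniteType (X ↘ (Spec (CommRingCat.of k)))] [QuasiCompact (X ↘ (Spec (CommRingCat.of k)))]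
    [GeometricallyReduced (X ↘ (Spec (CommRingCat.of k)))] (d : ℕ) (hd : topologicalKrullDim X = d) :
    IsIntegral (FrobSch.frobTwist (X ↘ (Spec (CommRingCat.of k))) p) ∧
      (FrobSch.relFrob (X ↘ (Spec (CommRingCat.of k))) p).residueDegree (genericPoint X) = p ^ d := by
  set f := X ↘ (Spec (CommRingCat.of k)) with hf
  obtain ⟨hu, -, -⟩ := Groth.Agent.S14930.result p f
  haveI : IsReduced (FrobSch.frobTwist f p) :=
    GeometricallyReduced.geometrically_isReduced (f := f) (FrobSch.frob (Spec (CommRingCat.of k)) p)
      (pullback.fst _ _) _ (IsPullback.of_hasPullback _ _)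
  have hhomeo : IsHomeomorph (FrobSch.relFrob f p) := by
    exact MorphismProperty.universally_le _ _ hu
  haveI : IrreducibleSpace (FrobSch.frobTwist f p) := by
    refine (irreducibleSpace_def _).2 ?_
    have := (IrreducibleSpace.isIrreducible_univ X).image _ hhomeo.continuous.continuousOn
    rwa [Set.image_univ, hhomeo.surjective.range_eq] at this
  refine ⟨isIntegral_of_irreducibleSpace_of_isReduced _, ?_⟩
  obtain ⟨htr, _, _⟩ := generic_props k X d hd
  set L := X.residueField (genericPoint X)
  haveI : CharP L p := charP_of_injective_algebraMap (algebraMap k L).injective p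
  set r := ((FrobSch.relFrob f p).residueFieldMap (genericPoint X)).hom with hr
  rw [← CommAlg4.finrank_powAlg p k L d htr]
  have hrange := range_residueFieldMap k p X (genericPoint X)
  let e : (FrobSch.frobTwist f p).residueField ((FrobSch.relFrob f p) (genericPoint X)) ≃+*
      EGA41Lib.PB.powAlg p k L :=
    RingEquiv.ofBijective (r.codRestrict (EGA41Lib.PB.powAlg p k L) fun z =>
        (Subalgebra.mem_toSubring).1 (hrange ▸ ⟨z, rfl⟩))
      ⟨fun a b h => r.injective (congrArg Subtype.val h), fun z => by
        obtain ⟨w, hw⟩ : (z : L) ∈ r.range := by rw [hr, hrange]; exact z.2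
        exact ⟨w, Subtype.ext hw⟩⟩
  letI := r.toAlgebra
  exact Algebra.finrank_eq_of_equiv_equiv e (RingEquiv.refl L) rfl

end Groth.Agent.S14932
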