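import Groth.Statements.S14933
import Groth.Agent.Frob8.Der
-- import your own Groth.Agent.* helpers here

set_option autoImplicit false
set_option backward.isDefEq.respectTransparency.types false
universe u
open CategoryTheory CategoryTheory.Limits AlgebraicGeometry
open Variety

namespace Groth.Agent.S14933

/-- Let p be a prime, S a scheme of characteristic p (p is zero in the structure sheaf) and f : X → S a
morphism of schemes, with relative Frobenius F_{X/S} : X → X^(p) = X ×_{S,F_S} S over S. Then the
sheaf of differentials of X over S is also the sheaf of differentials of X over X^(p): if Ω is an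
O_X-module and d : O_X → Ω a universal S-derivation, then d kills every section coming from X^(p),
i.e. there is a derivation O_X → Ω relative to F_{X/S} with the same values as d, and that
derivation is universal among derivations relative to F_{X/S}. -/
theorem result (p : ℕ) [Fact p.Prime]
    {X S : Scheme.{u}} [FrobSch.IsCharP S p] (f : X ⟶ S)
    (Ω : X.Modules) (d : OmegaSh.Der f Ω) (hd : OmegaSh.IsUniversal d) :
    ∃ d' : OmegaSh.Der (FrobSch.relFrob f p) Ω,
      (∀ (U : X.Opens) (s : Γ(X, U)), d'.app U s = d.app U s) ∧ OmegaSh.IsUniversal d' := by
  exact Groth.Agent.Frob8.exists_universal p f d hd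

end Groth.Agent.S14933
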