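import Groth.Statements.S2079
import Groth.Agent.H8Lim.ApproxClosed
import Groth.Agent.H8Lim.ProperStage
import Mathlib

set_option backward.isDefEq.respectTransparency.types false

set_option autoImplicit false
universe u
open CategoryTheory AlgebraicGeometry
open Lim

namespace Groth.Agent.S2079

/-- Let `f : X → S` be proper with `S` quasi-compact and quasi-separated. Then `X` is the limit of a
cofiltered diagram of `S`-schemes which are proper and of finite presentation over `S`, with all
transition morphisms and all projections `X → X_i` closed immersions. -/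
theorem result {X S : Scheme.{u}} (f : X ⟶ S) [IsProper f] [CompactSpace S]
    [QuasiSeparatedSpace S] :
    ∃ (I : Type u) (_ : SmallCategory I) (_ : IsCofiltered I) (D : I ⥤ Over S) (c : Limits.Cone D)
      (_ : Limits.IsLimit c) (e : c.pt ≅ Over.mk f),
      (∀ (i j : I) (a : i ⟶ j), IsClosedImmersion (D.map a).left) ∧
      (∀ i, IsClosedImmersion (c.π.app i).left ∧ IsProper (D.obj i).hom ∧
        LocallyOfFinitePresentation (D.obj i).hom) := by
  have : CompactSpace X := QuasiCompact.compactSpace_of_compactSpace f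
  have : QuasiSeparatedSpace X := quasiSeparatedSpace_of_quasiSeparated f
  obtain ⟨I, _, _, _, D, c, hc, hD, htr, hsep, hπ, ⟨e⟩⟩ :=
    H8Lim.exists_limit_closedImmersion_transitions f
  have : IsConnected Iᵒᵖ := IsCofiltered.isConnected _
  let W := D ⋙ Over.forget S
  let cW : Limits.Cone W := (Over.forget S).mapCone c
  have hW : Limits.IsLimit cW := Limits.isLimitOfPreserves (Over.forget S) hc
  have : ∀ {i j : Iᵒᵖ} (g : i ⟶ j), IsClosedImmersion (W.map g) := fun g ↦ htr _ _ g
  have : ∀ i, IsClosedImmersion (cW.π.app i) := hπ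
  let t : W ⟶ (Functor.const _).obj S :=
    { app := fun i ↦ (D.obj i).hom
      naturality := fun i j g ↦ (Over.w (D.map g)).trans (Category.comp_id _).symm }
  let s : cW.pt ⟶ S := c.pt.hom
  let e' : cW.pt ≅ X := (Over.forget S).mapIso e
  have : IsProper s := by
    have he : s = e'.hom ≫ f := (Over.w e.hom).symm
    rw [he]; infer_instance
  obtain ⟨i⟩ := IsCofiltered.nonempty (C := Iᵒᵖ)
  obtain ⟨h1, h2, -⟩ := hD i
  let ti : W.obj i ⟶ S := (D.obj i).hom
  have : IsSeparated ti := hsep inferInstance i
  have : LocallyOfFinitePresentation ti := h1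
  have : QuasiCompact ti := h2
  obtain ⟨i₁, -, hi₁⟩ := H8Lim.exists_isProper_stage hW t s (fun j ↦ Over.w (c.π.app j)) i
    ti rfl
  refine ⟨Over i₁, inferInstance, inferInstance, Over.forget i₁ ⋙ D, c.whisker (Over.forget i₁),
    (Functor.Initial.isLimitWhiskerEquiv (Over.forget i₁) c).symm hc, e,
    fun a b g ↦ htr _ _ g.left, fun a ↦ ⟨hπ a.left, ?_, (hD a.left).1⟩⟩
  have hw : IsProper (W.map a.hom ≫ (show W.obj i₁ ⟶ S from t.app i₁)) :=
    MorphismProperty.comp_mem @IsProper _ _ inferInstance hi₁
  rwa [show W.map a.hom ≫ (show W.obj i₁ ⟶ S from t.app i₁) = (D.obj a.left).hom from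
    Over.w (D.map a.hom)] at hw

end Groth.Agent.S2079
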