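import Groth.Statements.S1495
import Groth.Agent.S2079
import Groth.Agent.H8Coh.FibreAmple
import Groth.Agent.H8Lim.RelAmpleStage
import Groth.Agent.H8Lim.InvertibleStage
import Groth.Agent.Props12.AmpleExternal
-- import your own Groth.Agent.* helpers here

set_option autoImplicit false
set_option backward.isDefEq.respectTransparency.types false
set_option backward.isDefEq.respectTransparency false
universe u
attribute [local instance] HasDerivedCategory.standard
open FlatMor

namespace Groth.Agent.S1495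

open AlgebraicGeometry CategoryTheory Limits in
/-- Let f : X → Y be proper, L an invertible O_X-module and y a point such that the pullback of L to the
fibre X_y is ample. Then there is an open neighbourhood V of y such that L restricted to f⁻¹(V) is
ample relative to f⁻¹(V) → V. -/
theorem result {X Y : Scheme.{u}} (f : X ⟶ Y) [IsProper f] (L : X.Modules) (hL : PicF.IsInvertible L)
    (y : Y) (hy : CohB1.IsAmple ((Scheme.Modules.pullback (f.fiberι y)).obj L)) :
    ∃ V : Y.Opens, y ∈ V ∧ RelAmple.IsRelAmple (f ∣_ V) (L.restrict (f ⁻¹ᵁ V).ι) := by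
  classical
  obtain ⟨V, hV, hyV, -⟩ := exists_isAffineOpen_mem_and_subset (x := y) (U := ⊤) trivial
  let u := f ∣_ V
  let v : (V : Scheme.{u}) := ⟨y, hyV⟩
  let LV := (Scheme.Modules.pullback (f ⁻¹ᵁ V).ι).obj L
  have hLV : PicF.IsInvertible LV := PicLoc.isInvertible_pullback _ hL
  have hv : CohB1.IsAmple ((Scheme.Modules.pullback (u.fiberι v)).obj LV) := by
    have h := Groth.Agent.H8Coh.FibreAmple.locus_preimage hL (isPullback_morphismRestrict f V).flip
    exact h.ge (show V.ι v ∈ Groth.Agent.H8Coh.FibreAmple.locus f L from hy)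
  have : IsAffine (V : Scheme.{u}) := hV
  obtain ⟨I, _, _, D, c, hc, e, hDmap, hD⟩ := Groth.Agent.S2079.result u
  let D' := D ⋙ Over.forget (V : Scheme.{u})
  let c' : Cone D' := (Over.forget (V : Scheme.{u})).mapCone c
  let hc' : IsLimit c' := isLimitOfPreserves _ hc
  have : ∀ {i j : I} (a : i ⟶ j), IsAffineHom (D'.map a) := fun a => by
    have := hDmap _ _ a
    exact inferInstanceAs (IsAffineHom (D.map a).left)
  have hprop : ∀ i, IsProper (D.obj i).hom := fun i => (hD i).2.1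
  have hlfp : ∀ i, LocallyOfFinitePresentation (D.obj i).hom := fun i => (hD i).2.2
  have : ∀ i, CompactSpace (D'.obj i) := fun i => by
    show CompactSpace (D.obj i).left
    exact QuasiCompact.compactSpace_of_compactSpace (D.obj i).hom
  have : ∀ i, QuasiSeparatedSpace (D'.obj i) := fun i => by
    show QuasiSeparatedSpace (D.obj i).left
    exact quasiSeparatedSpace_of_quasiSeparated (D.obj i).hom
  have hcs : ∀ i, CompactSpace (D.obj i).left := fun i =>
    QuasiCompact.compactSpace_of_compactSpace (D.obj i).hom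
  have hqs : ∀ i, QuasiSeparatedSpace (D.obj i).left := fun i =>
    quasiSeparatedSpace_of_quasiSeparated (D.obj i).hom
  let eX : c'.pt ≅ (f ⁻¹ᵁ V : Scheme.{u}) := (Over.forget (V : Scheme.{u})).mapIso e
  have heX : ∀ i, c'.π.app i ≫ (D.obj i).hom = eX.hom ≫ u := fun i => by
    show (c.π.app i).left ≫ (D.obj i).hom = e.hom.left ≫ u
    rw [Over.w]
    exact (Over.w e.hom).symm
  let L' := (Scheme.Modules.pullback eX.hom).obj LV
  obtain ⟨i₀⟩ := IsCofiltered.nonempty (C := I)
  have sq0 : IsPullback (c'.π.app i₀) (𝟙 c'.pt) (𝟙 (D'.obj i₀)) (c'.π.app i₀) :=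
    IsPullback.of_id_snd
  have sq1 : IsPullback (c'.π.app i₀) (𝟙 c'.pt) (𝟙 (D'.obj i₀)) (c'.π.app i₀) := sq0
  obtain ⟨j, φ, Xj, Yj, fj, gj, pY, pX, qYj, qXj, Lj, h1, h2, h3, h4, -, -, hLj, ⟨eL⟩⟩ :=
    Groth.Agent.H8Lim.exists_stage_invertible hc' (𝟙 (D'.obj i₀)) (𝟙 (D'.obj i₀)) sq0 sq1 L'
      (PicLoc.isInvertible_pullback _ hLV)
  have : IsIso gj := h1.isIso_snd_of_isIso
  have : IsIso fj := h2.isIso_snd_of_isIso
  let s : D'.obj j ⟶ Xj := inv gj ≫ inv fj
  let L₁ := (Scheme.Modules.pullback s).obj Lj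
  have hL₁ : PicF.IsInvertible L₁ := PicLoc.isInvertible_pullback _ hLj
  have hq : qXj = c'.π.app j ≫ s := by
    have e1 : qXj ≫ fj = qYj := h4.w.trans (Category.id_comp _)
    have e2 : qYj ≫ gj = c'.π.app j := h3.w.trans (Category.id_comp _)
    rw [← e2, ← e1]
    simp only [s, Category.assoc, Category.id_comp, IsIso.hom_inv_id_assoc, IsIso.hom_inv_id,
      Category.comp_id]
  let eL₁ : (Scheme.Modules.pullback (c'.π.app j)).obj L₁ ≅ L' :=
    (Scheme.Modules.pullbackComp (c'.π.app j) s).app Lj ≪≫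
      (Scheme.Modules.pullbackCongr hq.symm).app Lj ≪≫ eL
  -- ampleness on the fibre of a stage
  let p := (D.obj j).hom.fiberι v
  have : IsAffineHom p := MorphismProperty.pullback_fst _ _ (isAffineHom_of_isAffine _)
  have : CompactSpace ((D.obj j).hom.fiber v) := QuasiCompact.compactSpace_of_compactSpace p
  have : QuasiSeparatedSpace ((D.obj j).hom.fiber v) := quasiSeparatedSpace_of_quasiSeparated p
  have sqP := (IsPullback.of_hasPullback (c'.π.app j) p).flip
  have sqF : IsPullback (pullback.fst (c'.π.app j) p ≫ eX.hom)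
      (pullback.snd (c'.π.app j) p ≫ (D.obj j).hom.fiberToSpecResidueField v) u
      ((V : Scheme.{u}).fromSpecResidueField v) := by
    have h := (IsPullback.of_hasPullback (c'.π.app j) p).paste_vert
      (IsPullback.of_hasPullback (D.obj j).hom ((V : Scheme.{u}).fromSpecResidueField v))
    exact h.of_iso (Iso.refl _) eX (Iso.refl _) (Iso.refl _) (by simp) (by simp; rfl)
      (by simp [heX]) (by simp)
  have hP : CohB1.IsAmple ((Scheme.Modules.pullback (pullback.snd (c'.π.app j) p)).obj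
      ((Scheme.Modules.pullback p).obj L₁)) := by
    rw [Groth.Agent.AmpleLib.isAmple_pullback_comp_iff]
    refine Groth.Agent.AmpleLib.isAmple_pullback_congr pullback.condition ?_
    rw [← Groth.Agent.AmpleLib.isAmple_pullback_comp_iff]
    refine Groth.Agent.AmpleLib.isAmple_of_iso ((Scheme.Modules.pullback _).mapIso eL₁.symm) ?_
    show CohB1.IsAmple ((Scheme.Modules.pullback _).obj ((Scheme.Modules.pullback eX.hom).obj LV))
    rw [Groth.Agent.AmpleLib.isAmple_pullback_comp_iff]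
    have h := Groth.Agent.AmpleLib.isAmple_pullback_of_isAffineHom sqF.isoPullback.hom hv
    rw [Groth.Agent.AmpleLib.isAmple_pullback_comp_iff] at h
    exact Groth.Agent.AmpleLib.isAmple_pullback_congr sqF.isoPullback_hom_fst h
  obtain ⟨k, ψ, hk⟩ := Groth.Agent.H8Lim.exists_stage_isAmple_baseChange hc' p
    ((Scheme.Modules.pullback p).obj L₁) (PicLoc.isInvertible_pullback _ hL₁) sqP hP
  let a : (D.obj k).hom.fiber v ⟶ (D.obj j).hom.fiber v :=
    pullback.map _ _ _ _ (D.map ψ).left (𝟙 _) (𝟙 _) (by simp) (by simp)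
  have sqa : IsPullback a ((D.obj k).hom.fiberι v) p (D'.map (𝟙 k ≫ ψ)) := by
    rw [Category.id_comp]
    refine IsPullback.flip (IsPullback.of_bot ?_ ?_
      (IsPullback.of_hasPullback (D.obj j).hom ((V : Scheme.{u}).fromSpecResidueField v)))
    · have h := IsPullback.of_hasPullback (D.obj k).hom ((V : Scheme.{u}).fromSpecResidueField v)
      rw [show a ≫ pullback.snd (D.obj j).hom _ = pullback.snd (D.obj k).hom _ from
        (pullback.lift_snd _ _ _).trans (Category.comp_id _),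
        show D'.map ψ ≫ (D.obj j).hom = (D.obj k).hom from Over.w (D.map ψ)]
      exact h
    · exact (pullback.lift_fst _ _ _).symm
  have hA := hk k (𝟙 k) a _ sqa
  let L₂ := (Scheme.Modules.pullback (D'.map ψ)).obj L₁
  have hy₂ : v ∈ Groth.Agent.H8Coh.FibreAmple.locus (D.obj k).hom L₂ := by
    show CohB1.IsAmple ((Scheme.Modules.pullback ((D.obj k).hom.fiberι v)).obj
      ((Scheme.Modules.pullback (D'.map ψ)).obj L₁))
    rw [Groth.Agent.AmpleLib.isAmple_pullback_comp_iff] at hA ⊢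
    refine Groth.Agent.AmpleLib.isAmple_pullback_congr ?_ hA
    rw [sqa.w, Category.id_comp]
  have := hprop k
  have := hlfp k
  obtain ⟨W, hW, hvW, hWA⟩ := Groth.Agent.H8Coh.FibreAmple.exists_nhd_isAmple (f := (D.obj k).hom)
    (L := L₂) (PicLoc.isInvertible_pullback _ hL₁) hy₂
  -- back to `X`
  let σ : (f ⁻¹ᵁ V : Scheme.{u}) ⟶ D'.obj k := eX.inv ≫ c'.π.app k
  have hσ : σ ≫ (D.obj k).hom = u := by
    simp only [σ, Category.assoc, heX, Iso.inv_hom_id_assoc]
  have hσ' : ∀ z, (D.obj k).hom (σ z) = u z := fun z => by rw [← hσ]; rfl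
  have : IsClosedImmersion (c'.π.app k) := (hD k).1
  have : IsAffineHom σ := inferInstance
  let eσ : (Scheme.Modules.pullback σ).obj L₂ ≅ LV :=
    (Scheme.Modules.pullbackComp σ (D'.map ψ)).app L₁ ≪≫
      (Scheme.Modules.pullbackCongr (show σ ≫ D'.map ψ = eX.inv ≫ c'.π.app j by
        simp only [σ, Category.assoc]; rw [c'.w])).app L₁ ≪≫
      ((Scheme.Modules.pullbackComp eX.inv (c'.π.app j)).app L₁).symm ≪≫
      (Scheme.Modules.pullback eX.inv).mapIso eL₁ ≪≫
      (Scheme.Modules.pullbackComp eX.inv eX.hom).app LV ≪≫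
      (Scheme.Modules.pullbackCongr eX.inv_hom_id).app LV ≪≫ (Scheme.Modules.pullbackId _).app LV
  have h5 := Groth.Agent.AmpleLib.isAmple_pullback_of_isAffineHom (σ ∣_ ((D.obj k).hom ⁻¹ᵁ W)) hWA
  rw [Groth.Agent.AmpleLib.isAmple_pullback_comp_iff] at h5
  have h6 := Groth.Agent.AmpleLib.isAmple_pullback_congr (morphismRestrict_ι σ ((D.obj k).hom ⁻¹ᵁ W)) h5
  rw [← Groth.Agent.AmpleLib.isAmple_pullback_comp_iff] at h6
  have h7 := Groth.Agent.AmpleLib.isAmple_of_iso ((Scheme.Modules.pullback _).mapIso eσ) h6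
  rw [Groth.Agent.AmpleLib.isAmple_pullback_comp_iff] at h7
  let W' : Y.Opens := V.ι ''ᵁ W
  have hW' : IsAffineOpen W' := hW.image_of_isOpenImmersion V.ι
  refine ⟨W', ⟨v, hvW, rfl⟩, ?_⟩
  have : IsAffine (W' : Scheme.{u}) := hW'
  refine Groth.Agent.Props12.AmpleExternal.isRelAmple_of_isAmple _ _ ?_
  refine Groth.Agent.AmpleLib.isAmple_of_iso
    (Groth.Agent.AmpleLib.restrictIsoPullback (f ⁻¹ᵁ W').ι L).symm ?_
  let S := (σ ⁻¹ᵁ (D.obj k).hom ⁻¹ᵁ W).ι ≫ (f ⁻¹ᵁ V).ι
  have hr : Set.range (f ⁻¹ᵁ W').ι = Set.range S := by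
    refine (f ⁻¹ᵁ W').range_ι.trans ?_
    ext z
    constructor
    · rintro ⟨w, hw, hwz⟩
      have hz : f z ∈ V := hwz ▸ w.2
      refine ⟨⟨⟨z, hz⟩, ?_⟩, rfl⟩
      show (D.obj k).hom (σ _) ∈ W
      rw [hσ' ⟨z, hz⟩]
      exact (V.ι.isOpenEmbedding.injective
        (hwz.trans (congrArg (fun g => g ⟨z, hz⟩) (morphismRestrict_ι f V)).symm) : w = u ⟨z, hz⟩) ▸ hw
    · rintro ⟨⟨w, hw⟩, rfl⟩
      exact ⟨u w, hσ' w ▸ hw, congrArg (fun g => g w) (morphismRestrict_ι f V)⟩
  let η := IsOpenImmersion.isoOfRangeEq (f ⁻¹ᵁ W').ι S hr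
  have h8 := Groth.Agent.AmpleLib.isAmple_pullback_of_isAffineHom η.hom h7
  rw [Groth.Agent.AmpleLib.isAmple_pullback_comp_iff] at h8
  exact Groth.Agent.AmpleLib.isAmple_pullback_congr (IsOpenImmersion.isoOfRangeEq_hom_fac _ _ hr) h8

end Groth.Agent.S1495
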