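import Groth.Statements.S14955
import Groth.Agent.HenselLib.MilnorGlue

set_option autoImplicit false
universe u
open TensorProduct
open EtAlg

namespace Groth.Agent.S14955

/-- Let B' = B ×_A A' be a fibre product of commutative rings with A' → A surjective. Then the square is
also a pushout of commutative rings: the canonical map B ⊗_{B'} A' → A is an isomorphism. -/
theorem result (B' B A' A : Type u) [CommRing B'] [CommRing B] [CommRing A'] [CommRing A]
    [Algebra B' B] [Algebra B' A'] [Algebra B A] [Algebra A' A] [Algebra B' A] [IsScalarTower B' B A] [IsScalarTower B' A' A]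
    (hsq : EtMil.IsFibreSquare B' B A' A) : Algebra.IsPushout B' B A' A := by
  have w := HenselLib.Milnor.isWeakSquare hsq
  let g := (IsScalarTower.toAlgHom B' A' A).toLinearMap
  refine ⟨IsBaseChange.of_equiv (LinearEquiv.ofBijective (LinearMap.liftBaseChange B g)
    ⟨(injective_iff_map_eq_zero _).mpr fun z hz => ?_, fun a => ?_⟩) fun x => (LinearMap.liftBaseChange_tmul B g 1 x).trans (one_smul _ _)⟩
  · obtain ⟨x, rfl⟩ : ∃ x, (1 : B) ⊗ₜ[B'] x = z := by
      clear hz
      induction z with
      | zero => exact ⟨0, TensorProduct.tmul_zero _ _⟩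
      | tmul b l =>
        obtain ⟨r, rfl⟩ := w.surjB b
        exact ⟨r • l, HenselLib.Milnor.one_tmul_smul r l⟩
      | add x y hx hy =>
        obtain ⟨a, rfl⟩ := hx
        obtain ⟨c, rfl⟩ := hy
        exact ⟨a + c, TensorProduct.tmul_add _ _ _⟩
    have hz' : algebraMap A' A x = 0 := by simpa [g] using hz
    obtain ⟨j, hj, rfl⟩ := w.lift x hz'
    rw [Algebra.algebraMap_eq_smul_one (A := A'), HenselLib.Milnor.one_tmul_smul, hj,
      TensorProduct.zero_tmul]
  · obtain ⟨a', rfl⟩ := w.surjA a
    exact ⟨1 ⊗ₜ a', by simp [g]⟩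

end Groth.Agent.S14955
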