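import Groth.Statements.S14956
import Groth.Agent.HenselLib.MilnorGlue
import Groth.Agent.CSA.Azumaya

set_option autoImplicit false
universe u
open TensorProduct
open Brauer

namespace Groth.Agent.S14956

/-- Let B' = B ×_A A' be a fibre product of commutative rings with A' → A surjective and D' a B'-algebra
(associative, unital, not necessarily commutative). Then D' is an Azumaya algebra over B' if and
only if B ⊗_{B'} D' is an Azumaya algebra over B and A' ⊗_{B'} D' is an Azumaya algebra over A'.
(The published statement is for a quasi-coherent algebra on the pushout scheme Y of a closed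
immersion and an affine morphism; this row is the case of an affine Y. Azumaya is taken in the
finite-projective-faithful sense.) -/
theorem result (B' B A' A : Type u) [CommRing B'] [CommRing B] [CommRing A'] [CommRing A]
    [Algebra B' B] [Algebra B' A'] [Algebra B A] [Algebra A' A] [Algebra B' A] [IsScalarTower B' B A] [IsScalarTower B' A' A]
    (hsq : EtMil.IsFibreSquare B' B A' A)
    (D' : Type u) [Ring D'] [Algebra B' D'] :
    IsAzumaya B' D' ↔ IsAzumaya B (B ⊗[B'] D') ∧ IsAzumaya A' (A' ⊗[B'] D') := by
  constructor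
  · intro _
    exact ⟨_root_.Groth.Agent.CSA.isAzumaya_baseChange B D', _root_.Groth.Agent.CSA.isAzumaya_baseChange A' D'⟩
  rintro ⟨hB, hA'⟩
  haveI := hB
  haveI := hA'
  haveI : Module.Finite B' D' := _root_.Groth.Agent.HenselLib.Milnor.finite_of_finite hsq D'
  haveI : Module.Flat B' D' := _root_.Groth.Agent.HenselLib.Milnor.flat_of_flat hsq D'
  haveI : Module.FinitePresentation B (B ⊗[B'] D') := Module.finitePresentation_of_projective _ _
  haveI : Module.FinitePresentation A' (A' ⊗[B'] D') := Module.finitePresentation_of_projective _ _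
  haveI : Module.FinitePresentation B' D' := _root_.Groth.Agent.HenselLib.Milnor.finitePresentation_of_flat hsq D'
  haveI : Module.Projective B' D' := Module.Flat.projective_of_finitePresentation
  refine _root_.Groth.Agent.CSA.isAzumaya_of_fibres D' fun m hm => ?_
  by_cases hj : RingHom.ker (algebraMap B' B) ≤ m
  · refine ⟨B, inferInstance, inferInstance, fun h => hm.ne_top ?_, hB⟩
    have hs := (_root_.Groth.Agent.HenselLib.Milnor.isWeakSquare hsq).surjB
    rw [← sup_eq_left.mpr hj, RingHom.ker_eq_comap_bot, ← Ideal.comap_map_of_surjective _ hs, h, Ideal.comap_top]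
  · obtain ⟨j, hj₀, hjm⟩ := SetLike.not_le_iff_exists.mp hj
    refine ⟨A', inferInstance, inferInstance, fun h => hjm ?_, hA'⟩
    obtain ⟨ψ, hψ⟩ := _root_.Groth.Agent.HenselLib.Milnor.exists_smulMap hsq (B' ⧸ m) (RingHom.mem_ker.mp hj₀)
    have h1 : ((1 : A') ⊗ₜ[B'] (Ideal.Quotient.mk m 1) : A' ⊗[B'] (B' ⧸ m)) = 0 := by
      let e := (Algebra.TensorProduct.quotIdealMapEquivTensorQuot A' m)
      haveI : Subsingleton (A' ⧸ Ideal.map (algebraMap B' A') m) := Ideal.Quotient.subsingleton_iff.mpr h
      haveI : Subsingleton (A' ⊗[B'] (B' ⧸ m)) := e.symm.injective.subsingleton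
      exact Subsingleton.elim _ _
    have h2 := hψ (Ideal.Quotient.mk m 1)
    rw [h1, map_zero] at h2
    rw [← Ideal.Quotient.eq_zero_iff_mem, h2, ← Ideal.Quotient.mk_eq_mk, ← Ideal.Quotient.mk_eq_mk, ← Submodule.Quotient.mk_smul, smul_eq_mul, mul_one]

end Groth.Agent.S14956
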