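import Groth.Statements.S14957
import Mathlib.Algebra.Module.StablyFree.Basic
import Mathlib.Algebra.Order.Ring.Star
import Mathlib.Data.Int.ConditionallyCompleteOrder
import Mathlib.Order.CompletePartialOrder
import Mathlib.RingTheory.Flat.TorsionFree
import Mathlib.RingTheory.LaurentSeries
import Mathlib.RingTheory.LocalRing.Pullback
import Mathlib.RingTheory.SimpleRing.Principal
import Mathlib.RingTheory.TotallySplit
import Mathlib.Topology.Algebra.Module.ModuleTopology
import Mathlib.Topology.Instances.Matrix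
import Mathlib.Tactic

set_option linter.all false

set_option autoImplicit false
universe u
open CAlg


namespace Groth.Agent.S14957

/-- Let A be a commutative ring and u : M → M', w : M → N, w' : M' → N', v : N → N' a commutative square
of A-linear maps (w' ∘ u = v ∘ w). The square is cartesian, i.e. the induced map M → N ×_{N'} M' is
bijective, if and only if u induces a bijection from ker w onto ker w' and v induces an injection
from coker w into coker w'. Here the three conditions are written elementwise. -/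
theorem result (A : Type u) [CommRing A]
    (M M' N N' : Type u) [AddCommGroup M] [Module A M] [AddCommGroup M'] [Module A M']
    [AddCommGroup N] [Module A N] [AddCommGroup N'] [Module A N']
    (u : M →ₗ[A] M') (w : M →ₗ[A] N) (w' : M' →ₗ[A] N') (v : N →ₗ[A] N') (hc : w'.comp u = v.comp w) :
    (Function.Injective (w.prod u) ∧ ∀ (x : N) (y : M'), v x = w' y → ∃ m : M, w m = x ∧ u m = y) ↔
    (LinearMap.ker w ⊓ LinearMap.ker u = ⊥ ∧ Submodule.map u (LinearMap.ker w) = LinearMap.ker w' ∧
      ∀ x : N, v x ∈ LinearMap.range w' → x ∈ LinearMap.range w) := by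
  have hc' : ∀ m, w' (u m) = v (w m) := LinearMap.congr_fun hc
  rw [← LinearMap.ker_eq_bot, LinearMap.ker_prod]
  constructor
  · rintro ⟨h1, h2⟩
    refine ⟨h1, le_antisymm ?_ ?_, ?_⟩
    · rintro _ ⟨m, hm, rfl⟩; rw [LinearMap.mem_ker, hc', LinearMap.mem_ker.mp hm, map_zero]
    · intro y hy
      obtain ⟨m, hm, rfl⟩ := h2 0 y (by rw [map_zero, LinearMap.mem_ker.mp hy])
      exact ⟨m, hm, rfl⟩
    · rintro x ⟨y, hy⟩
      obtain ⟨m, hm, -⟩ := h2 x y hy.symm
      exact ⟨m, hm⟩
  · rintro ⟨h1, h2, h3⟩
    refine ⟨h1, fun x y hxy => ?_⟩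
    obtain ⟨m₀, rfl⟩ := h3 x ⟨y, hxy.symm⟩
    obtain ⟨k, hk, hk'⟩ : y - u m₀ ∈ Submodule.map u (LinearMap.ker w) := by
      rw [h2, LinearMap.mem_ker, map_sub, hc', ← hxy, sub_self]
    exact ⟨m₀ + k, by rw [map_add, LinearMap.mem_ker.mp hk, add_zero], by rw [map_add, hk', add_sub_cancel]⟩

end Groth.Agent.S14957
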