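import Groth.Statements.S14958
import Groth.Agent.CommAlg4.DerivedLES

set_option autoImplicit false
universe u
open TensorProduct CategoryTheory CategoryTheory.Limits
open EtAlg

namespace Groth.Agent.S14958

lemma leftDerived_additive {C : Type*} [Category C] [Abelian C] [HasProjectiveResolutions C]
    {D : Type*} [Category D] [Abelian D] (F : C ⥤ D) [F.Additive] (n : ℕ) :
    (F.leftDerived n).Additive := by
  refine ⟨fun {X Y f g} => ?_⟩
  let P := projectiveResolution X
  let Q := projectiveResolution Y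
  rw [← cancel_mono (Q.isoLeftDerivedObj F n).hom, Preadditive.add_comp,
    ProjectiveResolution.isoLeftDerivedObj_hom_naturality f P Q (ProjectiveResolution.lift f P Q)
      (ProjectiveResolution.lift_commutes_zero f P Q) F n,
    ProjectiveResolution.isoLeftDerivedObj_hom_naturality g P Q (ProjectiveResolution.lift g P Q)
      (ProjectiveResolution.lift_commutes_zero g P Q) F n,
    ProjectiveResolution.isoLeftDerivedObj_hom_naturality (f + g) P Q
      (ProjectiveResolution.lift f P Q + ProjectiveResolution.lift g P Q) ?_ F n,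
    Functor.map_add, Preadditive.comp_add]
  rw [HomologicalComplex.add_f_apply, Preadditive.add_comp]
  exact (congrArg₂ (· + ·) (ProjectiveResolution.lift_commutes_zero f P Q)
    (ProjectiveResolution.lift_commutes_zero g P Q)).trans (Preadditive.comp_add _ _ _ _ _ _).symm

section
variable {C : Type*} [Category C] [Abelian C] {D : Type*} [Category D] [Abelian D]
  (G : C ⥤ D) [G.Additive]

lemma epi_map_desc_iff {X Y Z : C} (u : X ⟶ Z) (v : Y ⟶ Z) :
    Epi (G.map (biprod.desc u (-v))) ↔ Epi (biprod.desc (G.map u) (G.map v)) := by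
  have e1 : G.map (biprod.desc u (-v)) =
      biprod.lift (G.map biprod.fst) (-G.map biprod.snd) ≫ biprod.desc (G.map u) (G.map v) := by
    rw [biprod.lift_desc, Preadditive.neg_comp, ← G.map_comp, ← G.map_comp, ← G.map_neg,
      ← G.map_add]
    congr 1
    apply biprod.hom_ext' <;> simp
  have e2 : biprod.desc (G.map u) (G.map v) =
      biprod.desc (G.map biprod.inl) (-G.map biprod.inr) ≫ G.map (biprod.desc u (-v)) := by
    apply biprod.hom_ext'
    · rw [biprod.inl_desc, biprod.inl_desc_assoc, ← G.map_comp, biprod.inl_desc]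
    · rw [biprod.inr_desc, biprod.inr_desc_assoc, Preadditive.neg_comp, ← G.map_comp,
        biprod.inr_desc, G.map_neg, neg_neg]
  constructor
  · intro h
    rw [e1] at h
    exact epi_of_epi (biprod.lift (G.map biprod.fst) (-G.map biprod.snd)) _
  · intro h
    rw [e2] at h
    exact epi_of_epi (biprod.desc (G.map biprod.inl) (-G.map biprod.inr)) _

end

/-- Let B' = B ×_A A' be a fibre product of commutative rings with A' → A surjective and L' a B'-module.
Then L' is a fixed point of the glueing adjunction, i.e. the canonical map from L' to the compatible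
pairs in (B ⊗_{B'} L') × (A' ⊗_{B'} L') is injective (it is always surjective), if and only if the
map Tor_1(L', B) ⊕ Tor_1(L', A') → Tor_1(L', A) over B' induced by B → A and A' → A is surjective.
Here Tor_1(L', –) is the first left derived functor of L' ⊗_{B'} – on B'-modules. -/
theorem result (B' B A' A : Type u) [CommRing B'] [CommRing B] [CommRing A'] [CommRing A]
    [Algebra B' B] [Algebra B' A'] [Algebra B A] [Algebra A' A] [Algebra B' A] [IsScalarTower B' B A] [IsScalarTower B' A' A]
    (hsq : EtMil.IsFibreSquare B' B A' A)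
    (L' : Type u) [AddCommGroup L'] [Module B' L'] :
    (∀ l : L', ((1 : B) ⊗ₜ[B'] l : B ⊗[B'] L') = 0 → ((1 : A') ⊗ₜ[B'] l : A' ⊗[B'] L') = 0 → l = 0) ↔
    Epi (biprod.desc
      (((Tor (ModuleCat.{u} B') 1).obj (ModuleCat.of B' L')).map
        (ModuleCat.ofHom (IsScalarTower.toAlgHom B' B A).toLinearMap))
      (((Tor (ModuleCat.{u} B') 1).obj (ModuleCat.of B' L')).map
        (ModuleCat.ofHom (IsScalarTower.toAlgHom B' A' A).toLinearMap))) := by
  classical
  let u : ModuleCat.of B' B' ⟶ ModuleCat.of B' B := ModuleCat.ofHom (Algebra.linearMap B' B)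
  let v : ModuleCat.of B' B' ⟶ ModuleCat.of B' A' := ModuleCat.ofHom (Algebra.linearMap B' A')
  let s : ModuleCat.of B' B ⟶ ModuleCat.of B' A :=
    ModuleCat.ofHom (IsScalarTower.toAlgHom B' B A).toLinearMap
  let t : ModuleCat.of B' A' ⟶ ModuleCat.of B' A :=
    ModuleCat.ofHom (IsScalarTower.toAlgHom B' A' A).toLinearMap
  have w : biprod.lift u v ≫ biprod.desc s (-t) = 0 := by
    rw [biprod.lift_desc, Preadditive.comp_neg, ← sub_eq_add_neg, sub_eq_zero]
    ext
    change algebraMap B A (algebraMap B' B 1) = algebraMap A' A (algebraMap B' A' 1)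
    simp
  have hus : ∀ x : B', (u x : B) = algebraMap B' B x := fun x => rfl
  have hfst : ∀ x, (biprod.fst : _ ⊞ ModuleCat.of B' A' ⟶ _) ((biprod.lift u v) x) = u x :=
    fun x => ConcreteCategory.congr_hom (biprod.lift_fst u v) x
  have hsnd : ∀ x, (biprod.snd : ModuleCat.of B' B ⊞ _ ⟶ _) ((biprod.lift u v) x) = v x :=
    fun x => ConcreteCategory.congr_hom (biprod.lift_snd u v) x
  let S := ShortComplex.mk _ _ w
  have hS : S.ShortExact := by
    have hinj : Function.Injective (biprod.lift u v) := fun x y h => by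
      obtain ⟨hsurj, hu⟩ := hsq
      have h1 : algebraMap B' B x = algebraMap B' B y := by
        have := congrArg (biprod.fst : _ ⊞ ModuleCat.of B' A' ⟶ _) h
        rw [hfst, hfst] at this
        exact this
      have h2 : algebraMap B' A' x = algebraMap B' A' y := by
        have := congrArg (biprod.snd : ModuleCat.of B' B ⊞ _ ⟶ _) h
        rw [hsnd, hsnd] at this
        exact this
      obtain ⟨z, -, hz⟩ := hu (algebraMap B' B y) (algebraMap B' A' y)
        ((IsScalarTower.algebraMap_apply B' B A y).symm.trans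
          (IsScalarTower.algebraMap_apply B' A' A y))
      exact (hz x ⟨h1, h2⟩).trans (hz y ⟨rfl, rfl⟩).symm
    have hdec : ∀ z, biprod.desc s (-t) z =
        s ((biprod.fst : _ ⊞ ModuleCat.of B' A' ⟶ _) z) -
          t ((biprod.snd : ModuleCat.of B' B ⊞ _ ⟶ _) z) := fun z => by
      have : biprod.desc s (-t) = biprod.fst ≫ s - biprod.snd ≫ t := by
        apply biprod.hom_ext' <;> simp
      rw [this]
      rfl
    haveI : Mono S.f := (ModuleCat.mono_iff_injective _).2 hinj
    haveI : Epi S.g := (ModuleCat.epi_iff_surjective _).2 fun a => by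
      obtain ⟨a', rfl⟩ := hsq.1 a
      refine ⟨-((biprod.inr : _ ⟶ ModuleCat.of B' B ⊞ _) a'), ?_⟩
      change biprod.desc s (-t) _ = _
      rw [map_neg, ← ConcreteCategory.comp_apply, biprod.inr_desc]
      exact neg_neg _
    refine ShortComplex.ShortExact.mk' ((ShortComplex.moduleCat_exact_iff _).2 fun z hz => ?_)
      inferInstance inferInstance
    change biprod.desc s (-t) z = 0 at hz
    rw [hdec, sub_eq_zero] at hz
    obtain ⟨b', ⟨hb1, hb2⟩, -⟩ := hsq.2 _ _ hz
    refine ⟨b', ?_⟩
    have : ∀ y z : (ModuleCat.of B' B ⊞ ModuleCat.of B' A' : ModuleCat.{u} B'),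
        (biprod.fst : _ ⊞ ModuleCat.of B' A' ⟶ _) y = (biprod.fst : _ ⊞ ModuleCat.of B' A' ⟶ _) z →
        (biprod.snd : ModuleCat.of B' B ⊞ _ ⟶ _) y = (biprod.snd : ModuleCat.of B' B ⊞ _ ⟶ _) z →
        y = z := fun y z h1 h2 => by
      have e : ∀ y : (ModuleCat.of B' B ⊞ ModuleCat.of B' A' : ModuleCat.{u} B'),
          (biprod.inl : _ ⟶ _ ⊞ ModuleCat.of B' A') ((biprod.fst : _ ⊞ ModuleCat.of B' A' ⟶ _) y) +
          (biprod.inr : _ ⟶ ModuleCat.of B' B ⊞ _) ((biprod.snd : ModuleCat.of B' B ⊞ _ ⟶ _) y) = y :=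
        fun y => ConcreteCategory.congr_hom biprod.total y
      rw [← e y, ← e z, h1, h2]
    exact this _ _ ((hfst _).trans hb1) ((hsnd _).trans hb2)
  let F := (MonoidalCategory.tensoringLeft (ModuleCat.{u} B')).obj (ModuleCat.of B' L')
  haveI : F.Additive := inferInstanceAs (MonoidalCategory.tensorLeft _).Additive
  haveI : PreservesFiniteColimits F :=
    inferInstanceAs (PreservesFiniteColimits (MonoidalCategory.tensorLeft _))
  haveI := leftDerived_additive F 1
  refine Iff.trans ?_ (epi_map_desc_iff (F.leftDerived 1) s t)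
  obtain ⟨-, δ, w₁, w₂, ex₁, ex₂⟩ := CommAlg4.DerivedLES.les hS F 0
  have hmono : Mono (F.map S.f) ↔ Mono ((F.leftDerived 0).map S.f) := by
    have := F.leftDerivedZeroIsoSelf.hom.naturality S.f
    rw [← Iso.app_hom, ← Iso.app_hom] at this
    constructor <;> intro h
    · haveI : Mono ((F.leftDerived 0).map S.f ≫ (F.leftDerivedZeroIsoSelf.app S.X₂).hom) := by
        rw [this]; infer_instance
      exact mono_of_mono ((F.leftDerived 0).map S.f) (F.leftDerivedZeroIsoSelf.app S.X₂).hom
    · haveI : Mono ((F.leftDerivedZeroIsoSelf.app S.X₁).hom ≫ F.map S.f) := by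
        rw [← this]; infer_instance
      rw [← Iso.inv_hom_id_assoc (F.leftDerivedZeroIsoSelf.app S.X₁) (F.map S.f)]
      infer_instance
  have hδ : Mono ((F.leftDerived 0).map S.f) ↔ Epi ((F.leftDerived 1).map S.g) := by
    constructor
    · intro h
      exact ex₁.epi_f ((cancel_mono ((F.leftDerived 0).map S.f)).1 (w₂.trans zero_comp.symm))
    · intro h
      exact ex₂.mono_g ((cancel_epi ((F.leftDerived 1).map S.g)).1 (w₁.trans comp_zero.symm))
  refine Iff.trans ?_ (hmono.trans hδ)
  rw [ModuleCat.mono_iff_injective, injective_iff_map_eq_zero]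
  have hr : ∀ x : L' ⊗[B'] B', ∃ l : L', x = l ⊗ₜ 1 := fun x =>
    ⟨TensorProduct.rid B' L' x, ((TensorProduct.rid B' L').symm_apply_apply x).symm⟩
  have hp : ∀ (l : L'), F.map u (l ⊗ₜ (1 : B') : L' ⊗[B'] B') = (l ⊗ₜ (1 : B) : L' ⊗[B'] B) :=
    fun l => by
      change (Algebra.linearMap B' B).lTensor L' (l ⊗ₜ 1) = _
      rw [LinearMap.lTensor_tmul, Algebra.linearMap_apply, map_one]
  have hq : ∀ (l : L'), F.map v (l ⊗ₜ (1 : B') : L' ⊗[B'] B') = (l ⊗ₜ (1 : A') : L' ⊗[B'] A') :=
    fun l => by
      change (Algebra.linearMap B' A').lTensor L' (l ⊗ₜ 1) = _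
      rw [LinearMap.lTensor_tmul, Algebra.linearMap_apply, map_one]
  have hlift : F.map S.f = F.map u ≫ F.map biprod.inl + F.map v ≫ F.map biprod.inr := by
    rw [← F.map_comp, ← F.map_comp, ← F.map_add, ← biprod.lift_eq]
  have hcomm : ∀ {X : Type u} [AddCommGroup X] [Module B' X] (x : X) (l : L'),
      x ⊗ₜ[B'] l = 0 ↔ l ⊗ₜ[B'] x = 0 := fun x l => by
    rw [← (TensorProduct.comm B' L' _).map_eq_zero_iff, TensorProduct.comm_tmul]
  constructor
  · intro h x hx
    obtain ⟨l, rfl⟩ := hr x
    have h1 := congrArg (F.map (biprod.fst : ModuleCat.of B' B ⊞ ModuleCat.of B' A' ⟶ _)) hx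
    have h2 := congrArg (F.map (biprod.snd : ModuleCat.of B' B ⊞ ModuleCat.of B' A' ⟶ _)) hx
    rw [map_zero, ← ConcreteCategory.comp_apply, ← F.map_comp, biprod.lift_fst, hp] at h1
    rw [map_zero, ← ConcreteCategory.comp_apply, ← F.map_comp, biprod.lift_snd, hq] at h2
    rw [h l ((hcomm _ _).2 h1) ((hcomm _ _).2 h2)]
    exact zero_tmul _ _
  · intro h l h1 h2
    have := h (l ⊗ₜ (1 : B') : L' ⊗[B'] B') (by
      rw [hlift]
      change F.map biprod.inl (F.map u (l ⊗ₜ (1 : B') : L' ⊗[B'] B')) +
        F.map biprod.inr (F.map v (l ⊗ₜ (1 : B') : L' ⊗[B'] B')) = 0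
      rw [hp, hq, (hcomm _ _).1 h1, (hcomm _ _).1 h2]
      exact (congrArg₂ (· + ·) (map_zero _) (map_zero _)).trans (add_zero _))
    simpa using congrArg (TensorProduct.rid B' L') this

end Groth.Agent.S14958
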