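import Groth.Statements.S14965
import Groth.Agent.CSA.Azumaya
import Groth.Agent.HenselLib.MilnorGlue

set_option autoImplicit false
universe u
open TensorProduct
open Brauer

namespace Groth.Agent.S14965

/-- Let B' = B ×_A A' be a fibre product of commutative rings with A' → A surjective, N an Azumaya
B-algebra, M' an Azumaya A'-algebra and φ : A ⊗_B N ≅ A ⊗_{A'} M' an isomorphism of A-algebras. If a
B'-algebra D' with B'-algebra homomorphisms π₁ : D' → N and π₂ : D' → M' is the glued algebra N ×_φ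
M', in the sense that (π₁, π₂) is injective with image the pairs (n, m') satisfying φ(1 ⊗ n) = 1 ⊗
m', then D' is an Azumaya B'-algebra. (The published statement is for Azumaya algebras on the
pushout scheme of a closed immersion and an affine morphism, glued as u_*B' ×_{h_*} f_*A; this row
is the case of an affine pushout.) -/
theorem result (B' B A' A : Type u) [CommRing B'] [CommRing B] [CommRing A'] [CommRing A]
    [Algebra B' B] [Algebra B' A'] [Algebra B A] [Algebra A' A] [Algebra B' A] [IsScalarTower B' B A] [IsScalarTower B' A' A]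
    (hsq : EtMil.IsFibreSquare B' B A' A)
    (N : Type u) [Ring N] [Algebra B N] [Algebra B' N] [IsScalarTower B' B N] [IsAzumaya B N]
    (M' : Type u) [Ring M'] [Algebra A' M'] [Algebra B' M'] [IsScalarTower B' A' M'] [IsAzumaya A' M']
    (φ : A ⊗[B] N ≃ₐ[A] A ⊗[A'] M')
    (D' : Type u) [Ring D'] [Algebra B' D'] (π₁ : D' →ₐ[B'] N) (π₂ : D' →ₐ[B'] M')
    (hinj : ∀ d : D', π₁ d = 0 → π₂ d = 0 → d = 0)
    (himg : ∀ (n : N) (m' : M'), φ ((1 : A) ⊗ₜ[B] n) = (1 : A) ⊗ₜ[A'] m' ↔ ∃ d : D', π₁ d = n ∧ π₂ d = m') :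
    IsAzumaya B' D' := by
  have w := HenselLib.Milnor.isWeakSquare hsq
  let φ' : A ⊗[B] N ≃ₗ[A] A ⊗[A'] M' := φ.toLinearEquiv
  let toGlue : D' →ₗ[B'] ↥(EtMil.glue B' φ') :=
    LinearMap.codRestrict _ (π₁.toLinearMap.prod π₂.toLinearMap) fun d =>
      (himg (π₁ d) (π₂ d)).2 ⟨d, rfl, rfl⟩
  have htoGlue : Function.Bijective toGlue := by
    refine ⟨(injective_iff_map_eq_zero _).2 fun d hd => ?_, fun g => ?_⟩
    · have h := congrArg Subtype.val hd
      exact hinj d (congrArg Prod.fst h) (congrArg Prod.snd h)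
    · obtain ⟨d, h1, h2⟩ := (himg g.1.1 g.1.2).1 g.2
      exact ⟨d, Subtype.ext (Prod.ext h1 h2)⟩
  let e := LinearEquiv.ofBijective toGlue htoGlue
  let Φ₁ : B ⊗[B'] D' →ₐ[B] N :=
    Algebra.TensorProduct.lift (Algebra.ofId B N) π₁ fun c d => Algebra.commutes c _
  let Φ₂ : A' ⊗[B'] D' →ₐ[A'] M' :=
    Algebra.TensorProduct.lift (Algebra.ofId A' M') π₂ fun c d => Algebra.commutes c _
  have hΦ₁ : Function.Bijective Φ₁ := by
    have h : Φ₁.toLinearMap = (LinearMap.liftBaseChange B (EtMil.glueFst B' φ')).comp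
        (e.baseChange B' B D' _).toLinearMap :=
      TensorProduct.AlgebraTensorModule.ext fun c d => by
        simp [Φ₁, e, toGlue, EtMil.glueFst, Algebra.ofId_apply, Algebra.smul_def]
    rw [← AlgHom.coe_toLinearMap, h, LinearMap.coe_comp]
    exact (HenselLib.Milnor.bijective_liftBaseChange_glueFst hsq φ').comp (LinearEquiv.bijective _)
  have hΦ₂ : Function.Bijective Φ₂ := by
    have h : Φ₂.toLinearMap = (LinearMap.liftBaseChange A' (EtMil.glueSnd B' φ')).comp
        (e.baseChange B' A' D' _).toLinearMap :=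
      TensorProduct.AlgebraTensorModule.ext fun c d => by
        simp [Φ₂, e, toGlue, EtMil.glueSnd, Algebra.ofId_apply, Algebra.smul_def]
    rw [← AlgHom.coe_toLinearMap, h, LinearMap.coe_comp]
    exact (HenselLib.Milnor.bijective_liftBaseChange_glueSnd hsq φ').comp (LinearEquiv.bijective _)
  have hN : IsAzumaya B (B ⊗[B'] D') := IsAzumaya.of_AlgEquiv B _ _ (AlgEquiv.ofBijective Φ₁ hΦ₁).symm
  have hM : IsAzumaya A' (A' ⊗[B'] D') := IsAzumaya.of_AlgEquiv A' _ _ (AlgEquiv.ofBijective Φ₂ hΦ₂).symm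
  haveI : Module.Finite B' D' := by
    haveI := HenselLib.Milnor.finite_glue w φ'
    exact Module.Finite.equiv e.symm
  haveI : Module.Flat B' D' := by
    haveI := HenselLib.Milnor.flat_glue hsq φ'
    exact Module.Flat.of_linearEquiv e
  haveI : Module.FinitePresentation B (B ⊗[B'] D') := Module.finitePresentation_of_projective B _
  haveI : Module.FinitePresentation A' (A' ⊗[B'] D') := Module.finitePresentation_of_projective A' _
  haveI : Module.FinitePresentation B' D' := HenselLib.Milnor.finitePresentation_of_flat hsq D'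
  haveI : Module.Projective B' D' := Module.Flat.projective_of_finitePresentation
  refine CSA.isAzumaya_of_fibres.{u} D' fun m hm => ?_
  by_cases hj : RingHom.ker (algebraMap B' B) ≤ m
  · refine ⟨B, inferInstance, inferInstance, fun htop => hm.ne_top ?_, hN⟩
    rw [← sup_eq_left.2 hj, ← Ideal.comap_map_of_surjective' _ w.surjB, htop, Ideal.comap_top]
  · refine ⟨A', inferInstance, inferInstance, fun htop => ?_, hM⟩
    obtain ⟨j, hj0, hjm⟩ := SetLike.not_le_iff_exists.1 hj
    obtain ⟨ψ, hψ⟩ := HenselLib.Milnor.exists_smulMap hsq B' hj0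
    let ψ' : A' →ₗ[B'] B' := ψ.comp (TensorProduct.rid B' A').symm.toLinearMap
    have hle : (m • ⊤ : Submodule B' A') ≤ Submodule.comap ψ' m :=
      Submodule.smul_le.2 fun r hr x _ => by
        rw [Submodule.mem_comap, map_smul]
        exact Ideal.mul_mem_right _ _ hr
    have h1 : ψ' 1 ∈ m := @hle (1 : A') (by rw [Ideal.smul_top_eq_map, htop]; trivial)
    exact hjm (by simpa [ψ', hψ] using h1)

end Groth.Agent.S14965
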