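import Groth.Statements.S14966
import Mathlib.RingTheory.Ideal.Quotient.Basic

set_option autoImplicit false
universe u
open EtAlg

namespace Groth.Agent.S14966

/-- Let A → A' be an injective homomorphism of commutative rings and let I ⊆ A be the conductor, i.e.
the annihilator of the A-module A'/A. Then the conductor square formed by A → A/I, A → A', A/I →
A'/IA' and A' → A'/IA' is a fibre product square of rings with A' → A'/IA' surjective: A = A/I
×_{A'/IA'} A'. (The published Lemma is for the conductor square of a finite modification of schemes;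
this row is the underlying statement for one injective ring map, which needs no finiteness.) -/
theorem result (A A' : Type u) [CommRing A] [CommRing A'] [Algebra A A']
    (hinj : Function.Injective (algebraMap A A')) :
    EtMil.IsFibreSquare A (A ⧸ Module.annihilator A (A' ⧸ LinearMap.range (Algebra.linearMap A A'))) A'
      (A' ⧸ Ideal.map (algebraMap A A') (Module.annihilator A (A' ⧸ LinearMap.range (Algebra.linearMap A A')))) := by
  set I := Module.annihilator A (A' ⧸ LinearMap.range (Algebra.linearMap A A'))
  have hI : ∀ c, c ∈ I ↔ ∀ a : A', ∃ x, algebraMap A A' x = c • a := by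
    intro c
    rw [Module.mem_annihilator]
    constructor
    · intro h a
      have := h (Submodule.Quotient.mk a)
      rwa [← Submodule.Quotient.mk_smul, Submodule.Quotient.mk_eq_zero] at this
    · intro h q
      obtain ⟨a, rfl⟩ := Submodule.Quotient.mk_surjective _ q
      rw [← Submodule.Quotient.mk_smul, Submodule.Quotient.mk_eq_zero]
      exact h a
  have key : ∀ y ∈ I.map (algebraMap A A'), ∀ z : A', ∃ c ∈ I, algebraMap A A' c = y * z := by
    intro y hy
    induction hy using Submodule.span_induction with
    | mem x hx =>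
      obtain ⟨i, hi, rfl⟩ := hx
      intro z
      obtain ⟨c, hc⟩ := (hI i).mp hi z
      refine ⟨c, (hI c).mpr fun a => ?_, by rw [hc, Algebra.smul_def]⟩
      obtain ⟨x, hx⟩ := (hI i).mp hi (z * a)
      exact ⟨x, by rw [hx, Algebra.smul_def, Algebra.smul_def, hc, Algebra.smul_def]; ring⟩
    | zero => exact fun z => ⟨0, zero_mem _, by simp⟩
    | add x y _ _ hx hy =>
      intro z
      obtain ⟨a, ha, ha'⟩ := hx z
      obtain ⟨b, hb, hb'⟩ := hy z
      exact ⟨a + b, add_mem ha hb, by rw [map_add, ha', hb', add_mul]⟩
    | smul r x _ hx =>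
      intro z
      obtain ⟨c, hc, hc'⟩ := hx (r * z)
      exact ⟨c, hc, by rw [hc', smul_eq_mul]; ring⟩
  refine ⟨Ideal.Quotient.mk_surjective, fun b a h => ?_⟩
  obtain ⟨x, rfl⟩ := Ideal.Quotient.mk_surjective b
  have h' : a - algebraMap A A' x ∈ I.map (algebraMap A A') :=
    (Ideal.Quotient.mk_eq_mk_iff_sub_mem _ _).mp h.symm
  obtain ⟨c, hc, hc'⟩ := key _ h' 1
  refine ⟨x + c, ⟨?_, ?_⟩, fun y hy => hinj ?_⟩
  · change Ideal.Quotient.mk I (x + c) = Ideal.Quotient.mk I x
    rw [map_add, Ideal.Quotient.eq_zero_iff_mem.mpr hc, add_zero]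
  · rw [map_add, hc']; ring
  · rw [map_add, hc']; exact hy.2.trans (by ring)

end Groth.Agent.S14966
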