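import Groth.Statements.S14972
import Groth.Agent.EulerLib.StabHN
import Groth.Agent.CAlgH3.PSheafSeq
import Groth.Agent.MorProj.VeryAmple


set_option autoImplicit false
open CategoryTheory CategoryTheory.Limits AlgebraicGeometry
open Coherent

namespace Groth.Agent.S14972

section Aux

open Groth.Agent.EulerLib Groth.Agent.Coherent StabCat
open Groth.Agent.CAlgH3 Groth.Agent.CAlgH3.PSheaf Groth.Agent.CAlgH3.PSheafGen Groth.Agent.CAlgH3.PSheafSeq
open Groth.Agent.CAlgH3.PRing Groth.Agent.AmpleLib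

variable {n : ℕ}

local notation "XX" => CohB1.ProjSpace n ℂ
local notation "LL" => Twist.twistProjSpace n ℂ 1

theorem nonempty_pow_twist (d : ℤ) (p : ℕ) :
    Nonempty (CohB1.tensorPow (Twist.twistProjSpace n ℂ d) p ≅ Twist.twistProjSpace n ℂ (d * p)) := by
  induction p with
  | zero =>
    obtain ⟨e⟩ := TwistLib.G.nonempty_twist_pow_iso (𝒜 := CohB1.polyGrading n ℂ) covers 0
    exact ⟨e.symm ≪≫ twistCompare (((0 : ℕ) : ℤ)) ≪≫ eqToIso (by simp)⟩
  | succ p ih =>
    obtain ⟨e⟩ := ih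
    obtain ⟨e'⟩ := TwistLib.G.nonempty_tensor_twist_iso (𝒜 := CohB1.polyGrading n ℂ) covers
      (show d * (p : ℤ) + d = d * ((p + 1 : ℕ) : ℤ) by push_cast; ring)
    exact ⟨tensorIso e (Iso.refl _) ≪≫ e'⟩

theorem isAmple_one : CohB1.IsAmple (LL) :=
  TwistLib.G.isAmple_twist_one (𝒜 := CohB1.polyGrading n ℂ) (Finset.univ.image MvPolynomial.X) (by
      intro g hg
      obtain ⟨j, -, rfl⟩ := Finset.mem_image.1 hg
      exact MvPolynomial.isHomogeneous_X _ j) (by
      classical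
      rw [Finset.coe_image, Finset.coe_univ, Set.image_univ]
      refine le_antisymm (ProjLib.irrelevant_le_span_X n _) (Ideal.span_le.2 ?_)
      rintro _ ⟨j, rfl⟩
      exact HomogeneousIdeal.mem_irrelevant_of_mem (CohB1.polyGrading n _) Nat.one_pos
        (MvPolynomial.isHomogeneous_X _ j))

/-- `F(-t)` twisted `m` times by `O(1)` is `F(m - t)`. -/
theorem euler_twist_int {F : (XX).Modules} (hF : Coh.IsCoh F) (a : ℤ) (m : ℕ) :
    Curv2.euler ℂ (XX) (ShStab.twist (XX) (LL) (CohB1.tensorMod F (Twist.twistProjSpace n ℂ a)) m) =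
      Curv2.euler ℂ (XX) (CohB1.tensorMod F (Twist.twistProjSpace n ℂ (a + m))) := by
  obtain ⟨e⟩ := nonempty_pow_twist (n := n) 1 m
  obtain ⟨e'⟩ := nonempty_twist_assoc (r := n) (k := ℂ) hF.1 (show a + 1 * (m : ℤ) = a + m by ring)
  exact euler_congr ℂ (XX) (Groth.Agent.AmpleLib.tensorIso (Iso.refl _) e ≪≫ e')

theorem euler_twist_nat {F : (XX).Modules} (m : ℕ) :
    Curv2.euler ℂ (XX) (ShStab.twist (XX) (LL) F m) =
      Curv2.euler ℂ (XX) (CohB1.tensorMod F (Twist.twistProjSpace n ℂ m)) := by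
  obtain ⟨e⟩ := nonempty_pow_twist (n := n) 1 m
  exact euler_congr ℂ (XX)
    (Groth.Agent.AmpleLib.tensorIso (Iso.refl _) (e ≪≫ eqToIso (by rw [one_mul])))

/-- The Hilbert polynomial computes all twists. -/
theorem hilb_iff {F : (XX).Modules} (hF : Coh.IsCoh F) (φ : Polynomial ℚ) :
    (∀ m : ℤ, (Curv2.euler ℂ (XX) (CohB1.tensorMod F (Twist.twistProjSpace n ℂ m)) : ℚ) = φ.eval (m : ℚ)) ↔
      ShStab.IsHilbPoly ℂ (XX) (LL) F φ := by
  haveI : IsProper (XX ↘ Spec (CommRingCat.of ℂ)) := Groth.Agent.Coherent.isProper_projSpace_toSpec n ℂ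
  refine ⟨fun h m => by rw [euler_twist_nat]; exact_mod_cast h m, fun h m => ?_⟩
  have hF' := isCoh_twistProj (k := ℂ) (r := n) hF (-(m.natAbs : ℤ))
  obtain ⟨Q, hQ⟩ : ∃ Q, ShStab.IsHilbPoly ℂ (XX) (LL) (CohB1.tensorMod F (Twist.twistProjSpace n ℂ (-(m.natAbs : ℤ)))) Q :=
    exists_isHilbPoly ℂ isAmple_one.1 hF' (exists_dim_le ℂ _).choose_spec
  have key : Q = φ.comp (Polynomial.X - Polynomial.C (m.natAbs : ℚ)) := by
    refine Polynomial.eq_of_infinite_eval_eq _ _ (Set.infinite_of_injective_forall_mem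
      (f := fun j : ℕ => ((j + m.natAbs : ℕ) : ℚ)) (fun a b hab => by simpa using hab) fun j => ?_)
    show Q.eval _ = Polynomial.eval _ _
    rw [← hQ, euler_twist_int hF, Polynomial.eval_comp,
      show (-(m.natAbs : ℤ) + ((j + m.natAbs : ℕ) : ℤ)) = (j : ℤ) by push_cast; ring,
      ← euler_twist_nat, h j]
    simp
  obtain ⟨j, hj⟩ : ∃ j : ℕ, m + m.natAbs = j := ⟨(m + m.natAbs).toNat, (Int.toNat_of_nonneg (by omega)).symm⟩
  have := hQ j
  rw [euler_twist_int hF, key, Polynomial.eval_comp, show -(m.natAbs : ℤ) + (j : ℤ) = m by omega] at this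
  have hm : ((m : ℚ)) = (j : ℚ) - (m.natAbs : ℚ) := by
    have : (m : ℤ) = (j : ℤ) - (m.natAbs : ℤ) := by omega
    exact_mod_cast this
  rw [this, hm]
  simp

theorem redLE_iff {d : ℕ} {ψ φ : Polynomial ℚ} (hψ : 0 < alpha d ψ) (hφ : 0 < alpha d φ) :
    W4c2simpsonmod1.RedLE d ψ φ ↔ StabCat.RedLE d ψ φ := by
  constructor
  · rintro ⟨N, hN⟩
    refine ⟨N.toNat, fun m hm => ?_⟩
    have := (div_le_div_iff₀ hψ hφ).1 (hN (m : ℤ) (by omega))
    simp only [Int.cast_natCast, Polynomial.eval_smul, smul_eq_mul] at this ⊢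
    linarith
  · rintro ⟨N, hN⟩
    refine ⟨(N : ℤ), fun m hm => (div_le_div_iff₀ hψ hφ).2 ?_⟩
    lift m to ℕ using le_trans (Int.natCast_nonneg N) hm
    have := hN m (by omega)
    simp only [Int.cast_natCast, Polynomial.eval_smul, smul_eq_mul] at this ⊢
    show _ * alpha d φ ≤ _ * alpha d ψ
    linarith

theorem redLT_iff {d : ℕ} {ψ φ : Polynomial ℚ} (hψ : 0 < alpha d ψ) (hφ : 0 < alpha d φ) :
    W4c2simpsonmod1.RedLT d ψ φ ↔ StabCat.RedLT d ψ φ := by
  constructor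
  · rintro ⟨N, hN⟩
    refine ⟨N.toNat, fun m hm => ?_⟩
    have := (div_lt_div_iff₀ hψ hφ).1 (hN (m : ℤ) (by omega))
    simp only [Int.cast_natCast, Polynomial.eval_smul, smul_eq_mul] at this ⊢
    linarith
  · rintro ⟨N, hN⟩
    refine ⟨(N : ℤ), fun m hm => (div_lt_div_iff₀ hψ hφ).2 ?_⟩
    lift m to ℕ using le_trans (Int.natCast_nonneg N) hm
    have := hN m (by omega)
    simp only [Int.cast_natCast, Polynomial.eval_smul, smul_eq_mul] at this ⊢
    show _ * alpha d φ < _ * alpha d ψ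
    linarith

/-- The semistability clause of the statement. -/
theorem clause_iff {d : ℕ} {G : (XX).Modules} (hG : Coh.IsCoh G) :
    ((topologicalKrullDim ↥(CohB1.support G) = (d : WithBot ℕ∞) ∧
        ∀ (F : (XX).Modules) (ι : F ⟶ G), Mono ι → Coh.IsCoh F → ¬ IsZero F → topologicalKrullDim ↥(CohB1.support F) = (d : WithBot ℕ∞)) ∧
      (∀ (F : (XX).Modules) (ι : F ⟶ G), Mono ι → Coh.IsCoh F → ¬ IsZero F →
        ∀ φ ψ : Polynomial ℚ, (∀ m : ℤ, (Curv2.euler ℂ (XX) (CohB1.tensorMod G (Twist.twistProjSpace n ℂ m)) : ℚ) = φ.eval (m : ℚ)) →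
          (∀ m : ℤ, (Curv2.euler ℂ (XX) (CohB1.tensorMod F (Twist.twistProjSpace n ℂ m)) : ℚ) = ψ.eval (m : ℚ)) →
            W4c2simpsonmod1.RedLE d ψ φ)) ↔ ShStab.IsSemistable ℂ (XX) (LL) G d := by
  haveI : IsProper (XX ↘ Spec (CommRingCat.of ℂ)) := Groth.Agent.Coherent.isProper_projSpace_toSpec n ℂ
  haveI := isNoetherian_of_proper (X := XX) ℂ
  constructor
  · rintro ⟨⟨hdim, hpure⟩, hss⟩
    have h0 : ¬ IsZero G := fun hz => by
      rw [Set.subset_empty_iff.1 (support_of_isZero hz ∅)] at hdim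
      exact absurd hdim (dim_empty_lt (X := XX) d).ne
    refine ⟨hG, h0, hpure, fun F ι hm hF hF0 _ pF pE hpF hpE => ?_⟩
    exact (redLE_iff (alpha_pos_of_sub ℂ isAmple_one hpure ι hF hF0 hpF)
      (alpha_pos_self ℂ isAmple_one hG h0 hpure hpE)).1
      (hss F ι hm hF hF0 pE pF ((hilb_iff hG pE).2 hpE) ((hilb_iff hF pF).2 hpF))
  · rintro ⟨-, h0, hpure, hss⟩
    refine ⟨⟨hpure G (𝟙 G) inferInstance hG h0, hpure⟩, fun F ι hm hF hF0 φ ψ hφ hψ => ?_⟩
    have hφ' := (hilb_iff hG φ).1 hφ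
    have hψ' := (hilb_iff hF ψ).1 hψ
    refine (redLE_iff (alpha_pos_of_sub ℂ isAmple_one hpure ι hF hF0 hψ')
      (alpha_pos_self ℂ isAmple_one hG h0 hpure hφ')).2 ?_
    by_cases hi : IsIso ι
    · rw [isHilbPoly_unique ℂ (isHilbPoly_iso ℂ (@asIso _ _ _ _ ι hi) hψ') hφ']
      exact redLE_refl _
    · exact hss F ι hm hF hF0 hi ψ φ hψ' hφ'

/-- Adjacent members of the image of a series are consecutive terms. -/
theorem adjacent {α : Type*} [Preorder α] (s : LTSeries α) (a b : Fin (s.length + 1)) (hab : s a < s b)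
    (h : ∀ c, ¬ (s a < s c ∧ s c < s b)) : ∃ i : Fin s.length, i.castSucc = a ∧ i.succ = b := by
  have hlt : a < b := by
    by_contra hh
    exact absurd (s.monotone (not_lt.1 hh)) (not_le_of_gt hab)
  have hal : a.val < s.length := by
    have h1 : a.val < b.val := hlt
    have h2 := b.isLt
    omega
  refine ⟨⟨a.val, hal⟩, Fin.ext rfl, Fin.ext ?_⟩
  show a.val + 1 = b.val
  by_contra hne
  have h1 : a.val < b.val := hlt
  exact h ⟨a.val + 1, by omega⟩ ⟨s.strictMono (show a < ⟨a.val + 1, by omega⟩ from Nat.lt_succ_self _),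
    s.strictMono (show (⟨a.val + 1, by omega⟩ : Fin (s.length + 1)) < b from (show a.val + 1 < b.val by omega))⟩

/-- A finite chain with a least element is the image of a series. -/
theorem exists_series {α : Type*} [PartialOrder α] (C : Finset α)
    (hC : IsChain (fun A B : α => A ≤ B) (↑C : Set α)) {b t : α} (hb : b ∈ C) (ht : t ∈ C)
    (hb' : ∀ x ∈ C, b ≤ x) (ht' : ∀ x ∈ C, x ≤ t) :
    ∃ s : LTSeries α, s.head = b ∧ s.last = t ∧ (∀ m, s m ∈ C) ∧ ∀ x ∈ C, ∃ m, s m = x := by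
  classical
  letI : LinearOrder {x // x ∈ C} :=
    { (inferInstance : PartialOrder {x // x ∈ C}) with
      le_total := fun x y => hC.total x.2 y.2
      toDecidableLE := Classical.decRel _ }
  obtain ⟨l, hl⟩ := Nat.exists_eq_add_of_le (Finset.card_pos.2 ⟨b, hb⟩ : 1 ≤ C.card)
  let f := Fintype.orderIsoFinOfCardEq {x // x ∈ C} (k := l + 1) (by rw [Fintype.card_coe]; omega)
  refine ⟨⟨l, fun m => (f m).1, fun i => f.strictMono i.castSucc_lt_succ⟩, ?_, ?_, fun m => (f m).2,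
    fun x hx => ⟨f.symm ⟨x, hx⟩, by show (f _).1 = x; rw [f.apply_symm_apply]⟩⟩
  · refine le_antisymm ?_ (hb' _ (f 0).2)
    have := f.monotone (Fin.zero_le (f.symm ⟨b, hb⟩))
    rw [f.apply_symm_apply] at this
    exact this
  · refine le_antisymm (ht' _ (f (Fin.last l)).2) ?_
    have := f.monotone (Fin.le_last (f.symm ⟨t, ht⟩))
    rw [f.apply_symm_apply] at this
    exact this

end Aux

end Groth.Agent.S14972

namespace Groth.Agent.S14972

/-- Over the complex numbers, let E be a coherent sheaf on projective n-space which is pure of dimension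
d (its support and the support of every nonzero coherent subsheaf have dimension d). Then there is
exactly one finite chain of coherent subsheaves 0 = E_0 ⊂ E_1 ⊂ ⋯ ⊂ E_k = E such that each
successive quotient E_j/E_(j-1) is pure of dimension d and p-semistable (every nonzero coherent
subsheaf G of it with Hilbert polynomial ψ satisfies ψ(m)/r(ψ) ≤ φ(m)/r(φ) for all large integers m,
φ being the Hilbert polynomial of the quotient and r denoting d! times the degree-d coefficient) and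
the reduced Hilbert polynomials φ/r(φ) of consecutive quotients strictly decrease for large
arguments. The chain is recorded as a finite set of subobjects of E, totally ordered by inclusion,
containing 0 and E, all of whose members are coherent. (The published statement is for modules over
a sheaf of rings of differential operators and filtrations by submodules stable under it, and does
not assume E pure, although quotients pure of dimension d force it; this row is the case of the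
structure sheaf, where every coherent subsheaf is stable, and assumes E pure.) -/
theorem result (n d : ℕ)
    (E : (CohB1.ProjSpace n ℂ).Modules) (hE : Coh.IsCoh E)
    (hpure : (topologicalKrullDim ↥(CohB1.support E) = (d : WithBot ℕ∞) ∧
          ∀ (G : (CohB1.ProjSpace n ℂ).Modules) (ι : G ⟶ E), Mono ι → Coh.IsCoh G → ¬ IsZero G → topologicalKrullDim ↥(CohB1.support G) = (d : WithBot ℕ∞))) :
    ∃! C : Finset (Subobject E),
      ⊥ ∈ C ∧ ⊤ ∈ C ∧ IsChain (fun A B : Subobject E => A ≤ B) (↑C : Set (Subobject E)) ∧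
      (∀ A ∈ C, Coh.IsCoh (A : (CohB1.ProjSpace n ℂ).Modules)) ∧
      (∀ A ∈ C, ∀ B ∈ C, ∀ hAB : A < B, (∀ D ∈ C, ¬ (A < D ∧ D < B)) →
        (topologicalKrullDim ↥(CohB1.support (cokernel (Subobject.ofLE A B hAB.le))) = (d : WithBot ℕ∞) ∧
          ∀ (G : (CohB1.ProjSpace n ℂ).Modules) (ι : G ⟶ (cokernel (Subobject.ofLE A B hAB.le))), Mono ι → Coh.IsCoh G → ¬ IsZero G → topologicalKrullDim ↥(CohB1.support G) = (d : WithBot ℕ∞)) ∧
        (∀ (G : (CohB1.ProjSpace n ℂ).Modules) (ι : G ⟶ (cokernel (Subobject.ofLE A B hAB.le))), Mono ι → Coh.IsCoh G → ¬ IsZero G →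
          ∀ φ ψ : Polynomial ℚ, (∀ m : ℤ, (Curv2.euler ℂ (CohB1.ProjSpace n ℂ) (CohB1.tensorMod (cokernel (Subobject.ofLE A B hAB.le)) (Twist.twistProjSpace n ℂ m)) : ℚ) = φ.eval (m : ℚ)) → (∀ m : ℤ, (Curv2.euler ℂ (CohB1.ProjSpace n ℂ) (CohB1.tensorMod G (Twist.twistProjSpace n ℂ m)) : ℚ) = ψ.eval (m : ℚ)) →
            W4c2simpsonmod1.RedLE d ψ φ)) ∧
      (∀ A ∈ C, ∀ B ∈ C, ∀ B' ∈ C, ∀ hAB : A < B, ∀ hBB : B < B',
        (∀ D ∈ C, ¬ (A < D ∧ D < B)) → (∀ D ∈ C, ¬ (B < D ∧ D < B')) →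
        ∀ ψ ψ' : Polynomial ℚ, (∀ m : ℤ, (Curv2.euler ℂ (CohB1.ProjSpace n ℂ) (CohB1.tensorMod (cokernel (Subobject.ofLE A B hAB.le)) (Twist.twistProjSpace n ℂ m)) : ℚ) = ψ.eval (m : ℚ)) →
          (∀ m : ℤ, (Curv2.euler ℂ (CohB1.ProjSpace n ℂ) (CohB1.tensorMod (cokernel (Subobject.ofLE B B' hBB.le)) (Twist.twistProjSpace n ℂ m)) : ℚ) = ψ'.eval (m : ℚ)) →
          W4c2simpsonmod1.RedLT d ψ' ψ) := by
  open Groth.Agent.EulerLib Groth.Agent.Coherent StabCat in
  classical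
  haveI : IsProper (CohB1.ProjSpace n ℂ ↘ Spec (CommRingCat.of ℂ)) :=
    Groth.Agent.Coherent.isProper_projSpace_toSpec n ℂ
  haveI := isNoetherian_of_proper (X := CohB1.ProjSpace n ℂ) ℂ
  have hL := isAmple_one (n := n)
  have h0 : ¬ IsZero E := fun hz => by
    have h := hpure.1
    rw [Set.subset_empty_iff.1 (support_of_isZero hz ∅)] at h
    exact absurd h (dim_empty_lt (X := CohB1.ProjSpace n ℂ) d).ne
  obtain ⟨s', hs'⟩ := RankData.exists_isHN (R := stabData ℂ hL hE hpure.2) ⊥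
    (pureOver_bot ℂ hL hpure.2)
  have hs := isHN_ofCoh ℂ hL hE hpure.2 s' hs'
  set s := ofCohSeries s' with hsdef
  have hcoh : ∀ m, Coh.IsCoh ((s m : Subobject E) : (CohB1.ProjSpace n ℂ).Modules) :=
    fun m => (s' m).2
  refine ⟨Finset.univ.image s, ⟨?_, ?_, ?_, ?_, ?_, ?_⟩, ?_⟩
  · exact Finset.mem_image.2 ⟨0, Finset.mem_univ _, hs.1⟩
  · exact Finset.mem_image.2 ⟨Fin.last _, Finset.mem_univ _, hs.2.1⟩
  · intro A hA B hB _
    obtain ⟨a, -, rfl⟩ := Finset.mem_image.1 hA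
    obtain ⟨b, -, rfl⟩ := Finset.mem_image.1 hB
    exact (le_total a b).imp (fun h => s.monotone h) (fun h => s.monotone h)
  · intro A hA
    obtain ⟨a, -, rfl⟩ := Finset.mem_image.1 hA
    exact hcoh a
  · intro A hA B hB hAB hD
    obtain ⟨a, -, rfl⟩ := Finset.mem_image.1 hA
    obtain ⟨b, -, rfl⟩ := Finset.mem_image.1 hB
    obtain ⟨i, rfl, rfl⟩ := adjacent s a b hAB fun c => hD _ (Finset.mem_image.2 ⟨c, Finset.mem_univ _, rfl⟩)
    exact (clause_iff (hs.2.2.1 i).1).2 (hs.2.2.1 i)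
  · intro A hA B hB B' hB' hAB hBB hD hD' ψ ψ' hψ hψ'
    obtain ⟨a, -, rfl⟩ := Finset.mem_image.1 hA
    obtain ⟨b, -, rfl⟩ := Finset.mem_image.1 hB
    obtain ⟨c, -, rfl⟩ := Finset.mem_image.1 hB'
    obtain ⟨i, rfl, rfl⟩ := adjacent s a b hAB fun c => hD _ (Finset.mem_image.2 ⟨c, Finset.mem_univ _, rfl⟩)
    obtain ⟨j, hj, rfl⟩ := adjacent s _ c hBB fun c => hD' _ (Finset.mem_image.2 ⟨c, Finset.mem_univ _, rfl⟩)
    have hij : i.val + 1 = j.val := (congrArg Fin.val hj).symm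
    have hSi := hs.2.2.1 i
    have hSj := hs.2.2.1 j
    have e : cokernel (Subobject.ofLE (s i.succ) (s j.succ) hBB.le) ≅ StabCat.factor s j :=
      cokerCongr (congrArg s hj.symm) rfl _ _
    have hψ1 := (hilb_iff hSi.1 ψ).1 hψ
    have hψ2 := isHilbPoly_iso ℂ e ((hilb_iff (isCoh_cokernel _ (hcoh _).1 (hcoh _)) ψ').1 hψ')
    exact (redLT_iff (alpha_pos_self ℂ hL hSj.1 hSj.2.1 hSj.2.2.1 hψ2)
      (alpha_pos_self ℂ hL hSi.1 hSi.2.1 hSi.2.2.1 hψ1)).2 (hs.2.2.2 i j hij ψ ψ' hψ1 hψ2)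
  · rintro C ⟨hbot, htop, hchain, hCcoh, hss, hdec⟩
    obtain ⟨t, ht0, ht1, htC, htsurj⟩ := exists_series C hchain hbot htop (fun x _ => bot_le) (fun x _ => le_top)
    have hadj : ∀ (i : Fin t.length) (D : Subobject E), D ∈ C → ¬ (t i.castSucc < D ∧ D < t i.succ) := by
      rintro i D hD ⟨h1, h2⟩
      obtain ⟨m, rfl⟩ := htsurj D hD
      have h1' : i.castSucc < m := t.strictMono.lt_iff_lt.1 h1
      have h2' : m < i.succ := t.strictMono.lt_iff_lt.1 h2
      have h1'' : i.val < m.val := h1'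
      have h2'' : m.val < i.val + 1 := h2'
      omega
    have hfcoh : ∀ i : Fin t.length, Coh.IsCoh (StabCat.factor t i) := fun i =>
      isCoh_cokernel _ (hCcoh _ (htC _)).1 (hCcoh _ (htC _))
    have hSS : ∀ i : Fin t.length, ShStab.IsSemistable ℂ (CohB1.ProjSpace n ℂ) (Twist.twistProjSpace n ℂ 1)
        (StabCat.factor t i) d := fun i =>
      (clause_iff (hfcoh i)).1 (hss _ (htC _) _ (htC _) (t.step i) (hadj i))
    have ht : ShStab.IsHNFiltration ℂ (CohB1.ProjSpace n ℂ) (Twist.twistProjSpace n ℂ 1) E d t := by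
      refine ⟨ht0, ht1, hSS, fun i j hij p q hp hq => ?_⟩
      have hj : i.succ = j.castSucc := Fin.ext hij
      refine (redLT_iff (alpha_pos_self ℂ hL (hSS j).1 (hSS j).2.1 (hSS j).2.2.1 hq)
        (alpha_pos_self ℂ hL (hSS i).1 (hSS i).2.1 (hSS i).2.2.1 hp)).1 ?_
      have hBB : t i.succ < t j.succ := by rw [hj]; exact t.step j
      have e : StabCat.factor t j ≅ cokernel (Subobject.ofLE (t i.succ) (t j.succ) hBB.le) :=
        cokerCongr (congrArg t hj.symm) rfl _ _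
      refine hdec _ (htC _) _ (htC _) _ (htC _) (t.step i) hBB (hadj i) (fun D hD h => ?_) p q
        ((hilb_iff (hfcoh i) p).2 hp)
        ((hilb_iff (isCoh_cokernel _ (hCcoh _ (htC _)).1 (hCcoh _ (htC _))) q).2 (isHilbPoly_iso ℂ e hq))
      rw [hj] at h
      exact hadj j D hD h
    have hc := cohSub_series_coh t ht.1 fun i => (ht.2.2.1 i).1
    have e := RankData.IsHN.unique (R := stabData ℂ hL hE hpure.2) ⊥ _ s'
      (pureOver_bot ℂ hL hpure.2) (isHN_toCoh ℂ hL hE hpure.2 t ht hc) hs'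
    have hts : t = s := by rw [hsdef, ← e]; rfl
    subst hts
    ext D
    simp only [Finset.mem_image, Finset.mem_univ, true_and]
    exact ⟨fun hD => htsurj D hD, fun ⟨m, hm⟩ => hm ▸ htC m⟩


end Groth.Agent.S14972
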