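import Groth.Statements.S14973
-- import your own Groth.Agent.* helpers here

set_option autoImplicit false
universe u v
open Diff16

namespace Groth.Agent.S14973

/-- In ring form. Let B be a commutative ring, L a ring with a ring homomorphism f from B, and L_0, L_1,
L_2, … additive subgroups of L exhausting L such that for every b in B, f(b) commutes with every
element of L_0 and, for each i, the commutator f(b) x - x f(b) of f(b) with an element x of L_(i+1)
lies in L_i. Let M be a multiplicative subset of B. Then M acts invertibly on the right of the left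
localisation of L at M (L viewed as a B-module through left multiplication): in elementwise terms,
(a) if x is in L and m, u are in M with f(u) x f(m) = 0, then f(u') x = 0 for some u' in M; (b) for
every x in L and m in M there are e in M and y in L with f(e) x = y f(m). (The published statement
assumes a filtration satisfying all the axioms of a filtered ring of differential operators on an
affine scheme; this row assumes only an exhaustive family of additive subgroups on which commutators
with the image of B lower the index.) -/
theorem result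
    {B : Type u} [CommRing B] {L : Type v} [Ring L] (f : B →+* L) (F : ℕ → AddSubgroup L)
    (hex : ∀ x : L, ∃ i : ℕ, x ∈ F i)
    (h0 : ∀ x ∈ F 0, ∀ b : B, f b * x = x * f b)
    (hS : ∀ (i : ℕ), ∀ x ∈ F (i + 1), ∀ b : B, f b * x - x * f b ∈ F i)
    (M : Submonoid B) :
    (∀ (x : L) (m u : B), m ∈ M → u ∈ M → f u * x * f m = 0 → ∃ u' ∈ M, f u' * x = 0) ∧
    (∀ (x : L) (m : B), m ∈ M → ∃ e ∈ M, ∃ y : L, f e * x = y * f m) := by
  have A : ∀ i, ∀ x ∈ F i, ∀ m u : B, m ∈ M → u ∈ M → f u * x * f m = 0 → ∃ u' ∈ M, f u' * x = 0 := by
    intro i
    induction i with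
    | zero =>
      intro x hx m u hm hu h
      refine ⟨u * m, M.mul_mem hu hm, ?_⟩
      rw [map_mul, mul_assoc, h0 x hx m, ← mul_assoc]
      exact h
    | succ i ih =>
      intro x hx m u hm hu h
      have hc : f u * (f m * x - x * f m) * f m = 0 := by
        have e1 : f u * (f m * x) * f m = f m * (f u * x * f m) := by
          rw [← mul_assoc (f u), ← map_mul, mul_comm u m, map_mul]; simp [mul_assoc]
        rw [mul_sub, sub_mul, e1, h, mul_zero, ← mul_assoc, h, zero_mul, sub_zero]
      obtain ⟨u', hu', h'⟩ := ih _ (hS i x hx m) m u hm hu hc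
      refine ⟨u * u' * m, M.mul_mem (M.mul_mem hu hu') hm, ?_⟩
      rw [mul_sub, sub_eq_zero] at h'
      calc f (u * u' * m) * x = f u * (f u' * (f m * x)) := by simp [mul_assoc]
        _ = f u * (f u' * (x * f m)) := by rw [h']
        _ = f (u' * u) * x * f m := by rw [mul_comm u' u, map_mul]; simp [mul_assoc]
        _ = f u' * (f u * x * f m) := by simp [mul_assoc]
        _ = 0 := by rw [h, mul_zero]
  have Bq : ∀ i, ∀ x ∈ F i, ∀ m ∈ M, ∃ e ∈ M, ∃ y : L, f e * x = y * f m := by
    intro i
    induction i with
    | zero => exact fun x hx m hm => ⟨m, hm, x, h0 x hx m⟩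
    | succ i ih =>
      intro x hx m hm
      obtain ⟨e, he, y, hy⟩ := ih _ (hS i x hx m) m hm
      refine ⟨e * m, M.mul_mem he hm, f e * x + y, ?_⟩
      rw [mul_sub, sub_eq_iff_eq_add] at hy
      rw [map_mul, mul_assoc, hy, add_mul, mul_assoc, add_comm]
  constructor
  · intro x m u hm hu h
    obtain ⟨i, hi⟩ := hex x
    exact A i x hi m u hm hu h
  · intro x m hm
    obtain ⟨i, hi⟩ := hex x
    exact Bq i x hi m hm

end Groth.Agent.S14973
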