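import Groth.Statements.S14978
import Groth.Agent.Stk19b.Quot.ToSheaf

set_option autoImplicit false
universe u
open CategoryTheory MonoidalCategory CartesianMonoidalCategory AlgebraicGeometry
open AlgSt

set_option backward.isDefEq.respectTransparency.types false
set_option backward.isDefEq.respectTransparency false

namespace Groth.Agent.S14978


/-- Let `S` be a scheme, `G` a group scheme over `S` whose structure morphism is affine, flat and
locally of finite presentation, acting on a scheme `X` over `S`, and `M` an algebraic space over
`S`. A morphism of fppf sheaves `f : h_X ⟶ M` which is `G`-invariant (its composites with the action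
`G ×_S X ⟶ X` and with the projection agree) factors through the canonical functor `X ⟶ [X/G]` by
exactly one functor `[X/G] ⟶ M` over `(Sch/S)` (this is the lifting half of the correspondence
between morphisms `[X/G] ⟶ M` and `G`-invariant morphisms `X ⟶ M`). Here `[X/G]` is the fppf
quotient stack described by `G`-torsors that are schemes together with an equivariant map to `X`,
and `M` is viewed as the category of its sections over `(Sch/S)`; since that category is fibred in
sets, equality of functors over the base is the appropriate uniqueness. (The published statement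
takes the base `S` affine; this row allows any base scheme.) -/
theorem result (S : Scheme.{u}) (G : Over S) [GrpObj G]
    [IsAffineHom G.hom] [Flat G.hom] [LocallyOfFinitePresentation G.hom]
    (X : Over S) (aX : AlgGrp.Action G X) (M : AlgSp.Space S)
    (f : (AlgSp.yon S).obj X ⟶ M.obj)
    (hf : (AlgSp.yon S).map aX.act ≫ f = (AlgSp.yon S).map (snd G X) ≫ f) :
    ∃! φ : AlgSt.QuotSt Scheme.fppfPrecoverage G aX ⥤ᵇ AlgSt.ofSp M.obj,
      BasedFunctor.comp (AlgSt.quotMap Scheme.fppfPrecoverage G aX) φ = AlgSt.ofSpMap f := by
  obtain ⟨φ, hφ, huniq⟩ := Groth.Agent.Stk19b.Quot.exists_descend (K := Scheme.fppfPrecoverage) (aX := aX) M.obj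
    (fun {Z} r => f.hom.app (Opposite.op Z) ⟨r⟩)
    (fun {Z Z'} k r => Groth.Agent.Stk19b.Quot.map_app f k _)
    (fun {Z} q => by
      have := congrArg (fun g : (AlgSp.yon S).obj (G ⊗ X) ⟶ M.obj => g.hom.app (Opposite.op Z) ⟨q⟩) hf
      exact this)
  refine ⟨φ, ?_, fun ψ hψ => huniq ψ fun a => ?_⟩
  · have key : ∀ θ : AlgSt.ofSch X ⥤ᵇ AlgSt.ofSp M.obj,
        (∀ a, θ.obj a = (AlgSt.ofSpMap f).obj a) → θ = AlgSt.ofSpMap f := by
      intro θ hθ
      obtain ⟨F, w⟩ := θ
      have : F = (AlgSt.ofSpMap f).toFunctor := by
        refine CategoryTheory.Functor.ext hθ fun A B h => Stk.EltObj.hom_ext ?_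
        have := Functor.congr_hom w h
        change (F.map h).hom = _ at this
        rw [Stk.EltObj.comp_hom, Stk.EltObj.comp_hom, Groth.Agent.Stk19b.Quot.eltObj_eqToHom_hom,
          Groth.Agent.Stk19b.Quot.eltObj_eqToHom_hom]
        exact this
      subst this
      rfl
    exact key _ hφ
  · exact congrArg (fun θ : AlgSt.ofSch X ⥤ᵇ AlgSt.ofSp M.obj => θ.obj a) hψ

end Groth.Agent.S14978
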