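import Groth.Statements.S1498
import Groth.Agent.FlatMorAmpleUniform
import Groth.Agent.CohExch.Chart0
import Groth.Agent.Coherent.CohBC.HomSheaf
import Groth.Agent.Coherent.ProjSpaceBC
import Groth.Agent.Coherent.HigherQcoh
import Groth.Agent.Coherent.RpushStalk

set_option autoImplicit false
universe u
attribute [local instance] HasDerivedCategory.standard
open FlatMor

namespace Groth.Agent.S1498

open AlgebraicGeometry CategoryTheory Limits in
/-- Parts (1) and (2) (the source moreover reconstructs X' as the relative Proj of the resulting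
algebra, which is not stated here): let f : X → S be proper, flat and of finite presentation with S
quasi-compact, and let L be an O_X-module ample relative to f. Then there is d₀ ≥ 0 such that for
every thickening i : S → S', every proper flat morphism of finite presentation f' : X' → S' with a
cartesian square over i, and every invertible O_{X'}-module L' pulling back to L, for all d ≥ d₀ the
cohomology H^p, p > 0, of L'^{⊗d} vanishes over the preimage of every affine open of S' and f'_*
L'^{⊗d} is a finite locally free O_{S'}-module. -/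
theorem result {X S : Scheme.{u}} (f : X ⟶ S) [IsProper f] [Flat f] [LocallyOfFinitePresentation f] [CompactSpace ↑S]
    (L : X.Modules) (hL : RelAmple.IsRelAmple f L) :
    ∃ d₀ : ℕ, ∀ (X' S' : Scheme.{u}) (i : S ⟶ S') (i' : X ⟶ X') (f' : X' ⟶ S') (hi : MoreMor.IsThickening i) (hc : IsPullback i' f f' i)
      (hf'₁ : IsProper f') (hf'₂ : Flat f') (hf'₃ : LocallyOfFinitePresentation f') (L' : X'.Modules) (hL' : PicF.IsInvertible L')
      (e : Nonempty ((Scheme.Modules.pullback i').obj L' ≅ L)) (d : ℕ), d₀ ≤ d →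
        (∀ (U : S'.Opens) (p : ℕ), IsAffineOpen U → 0 < p → Subsingleton (Coh.HHon X' (CohB1.tensorPow L' d) (f' ⁻¹ᵁ U) p)) ∧
        FlatMod.IsFinLocFree ((Scheme.Modules.pushforward f').obj (CohB1.tensorPow L' d)) := by
  obtain ⟨N, hN⟩ := Groth.Agent.FlatMorAmpleUniform.exists_uniform f hL
  refine ⟨N, fun X' S' i i' f' hi hc hf'₁ hf'₂ hf'₃ L' hL' e d hd => ?_⟩
  have := hi.2
  obtain ⟨e⟩ := e
  let M := CohB1.tensorPow L' d
  have hM : PicF.IsInvertible M := Groth.Agent.AmpleLib.isInvertible_tensorPow hL' d
  have : Coh.IsQCoh M := Groth.Agent.AmpleLib.isQCoh_of_isInvertible hM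
  have hfp : CohB1.IsFP M := Groth.Agent.H8Coh.FibreAmple.isFP_of_invertible hM
  have hfl : FlatMod.IsFlatOver f' M :=
    Groth.Agent.Coherent.CohBC.isFlatOver_of_isFinLocFree f'
      (Groth.Agent.Coherent.isFinLocFree_of_invertible hM)
  have hv : ∀ p : ℕ, 0 < p → ∀ s' : S', Subsingleton (CohIII.fiberH f' M s' p) := by
    intro p hp s'
    obtain ⟨s, rfl⟩ := i.surjective s'
    rw [Groth.Agent.CohExch.subsingleton_fiberH_iff_rank hfp]
    obtain ⟨e₁, -⟩ := Groth.Agent.AmpleLib.exists_pullPowIso i' hL' d
    rw [← Groth.Agent.Coherent.CohBC.fiberRank_pullback hc M p s,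
      Groth.Agent.FlatMorAmpleUniform.fiberRank_congr _
        (e₁ ≪≫ Groth.Agent.AmpleLib.powIsoOfIso e d) p s]
    exact hN d hd p hp s
  refine ⟨fun U p hU hp => ?_, fun y => ?_⟩
  · have := Groth.Agent.Coherent.hasInjectiveResolutions_modules X'
    obtain ⟨ee⟩ := Groth.Agent.Coherent.exists_rpush_sections_equiv f' hU M p
    have hz := Groth.Agent.CohExch.isZero_rpush_of_fibres hfp hfl p (hv p hp)
    have : Subsingleton Γ((Coh.Rpush f' p).obj M, U) :=
      subsingleton_of_forall_eq 0 fun t => congr(($((IsZero.iff_id_eq_zero _).1 hz)).app U t)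
    exact ee.toEquiv.subsingleton
  · obtain ⟨C, hyC, -, -, hC, -⟩ := Groth.Agent.CohExch.exists_zero_chart hfp hfl
      (V := ⊤) (s := y) trivial 1 (hv 1 one_pos y)
    exact C.exists_trivial_nhd0 (by simpa using hC) hyC

end Groth.Agent.S1498
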