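import Groth.Statements.S14984


set_option autoImplicit false
universe u v w
open HopfRep

namespace Groth.Agent.S14984

open TensorProduct
set_option synthInstance.maxHeartbeats 400000
set_option maxHeartbeats 4000000

/-- Let `R` be a commutative ring, `A` a commutative Hopf algebra over `R`, flat as an `R`-module, `B` a
commutative `R`-algebra with a coaction of `A` that is an algebra map (an action of `G = Spec A` on
`X = Spec B`), and `C = B^A` the ring of invariants. If the action base-changed along `R → C` — the
`C`-Hopf algebra `C ⊗ A` coacting on `C ⊗ B` — is tame, i.e. there is a `C`-linear comodule map `β :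
C ⊗ A → C ⊗ B` (regular coaction on the source, base-changed coaction on the target) with `β 1 = 1`,
then the original action is tame: there is an `R`-linear comodule map `α : A → B` with `α 1 = 1`.
(The converse is the case `S = C` of stability of tameness under base change. The published lemma
also lists, as a third equivalent condition, tameness of the action of `C ⊗ A` on `B` itself over
`C`; that condition is not stated here.) -/
theorem result
    (R : Type u) (A : Type v) (B : Type w)
    [CommRing R] [CommRing A] [HopfAlgebra R A] [Module.Flat R A]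
    [CommRing B] [Algebra R B] [HopfRep.Comod R A B] [GLin.IsCoactAlg R A B]
    (h : ∃ β : TensorProduct R ↥(GLin.invariants R A B) A →ₗ[↥(GLin.invariants R A B)]
        TensorProduct R ↥(GLin.invariants R A B) B,
      @Hoch.IsComodHom ↥(GLin.invariants R A B) _ (TensorProduct R ↥(GLin.invariants R A B) A) _ _ _
        (TensorProduct R ↥(GLin.invariants R A B) A) _ _
        (HopfRep.Comod.regular ↥(GLin.invariants R A B) (TensorProduct R ↥(GLin.invariants R A B) A))
        (TensorProduct R ↥(GLin.invariants R A B) B) _ _
        (CoactBr.Comod.baseChange R ↥(GLin.invariants R A B) A B) β ∧ β 1 = 1) :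
    ∃ α : A →ₗ[R] B, Hoch.IsComodHom A α ∧ α 1 = 1 := by
  obtain ⟨β, hβ, hβ1⟩ := h
  let C := GLin.invariants R A B
  let μ : C ⊗[R] B →ₗ[R] B := (LinearMap.mul' R B) ∘ₗ (C.val.toLinearMap).rTensor B
  let ι : A →ₗ[R] C ⊗[R] A := TensorProduct.mk R C A 1
  let α : A →ₗ[R] B := μ ∘ₗ β.restrictScalars R ∘ₗ ι
  refine ⟨α, ?_, ?_⟩
  · refine LinearMap.ext fun a => ?_
    let cb : (C ⊗[R] B) ⊗[C] (C ⊗[R] A) →ₗ[R] B ⊗[R] A :=
      μ.rTensor A ∘ₗ (TensorProduct.AlgebraTensorModule.cancelBaseChange R C C (C ⊗[R] B) A).toLinearMap.restrictScalars R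
    have h1 : ∀ x : C ⊗[R] B, Comod.coact (k := R) (A := A) (μ x) =
        cb ((CoactBr.Comod.baseChange R C A B).coact x) := by
      intro x
      induction x using TensorProduct.induction_on with
      | zero => simp
      | add p q hp hq => simp only [map_add, hp, hq]
      | tmul c b =>
        rw [CoactBr.baseChange_coact_tmul]
        have e : Comod.coact (k := R) (A := A) (μ (c ⊗ₜ b)) =
            ((c : B) ⊗ₜ[R] (1 : A)) * Comod.coact (k := R) (A := A) b := by
          simp only [μ, LinearMap.comp_apply, LinearMap.rTensor_tmul, LinearMap.mul'_apply,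
            AlgHom.toLinearMap_apply, Subalgebra.coe_val, GLin.IsCoactAlg.coact_mul]
          rw [(GLin.mem_invariants_iff R A B (c : B)).1 c.2]
        rw [e]
        generalize Comod.coact (k := R) (A := A) b = t
        induction t using TensorProduct.induction_on with
        | zero => simp
        | add p q hp hq => simp only [map_add, mul_add, TensorProduct.tmul_add, hp, hq]
        | tmul x y => simp [cb, μ, TensorProduct.smul_tmul']
    show Comod.coact (k := R) (A := A) (μ (β ((1 : C) ⊗ₜ[R] a))) =
      α.rTensor A (CoalgebraStruct.comul (R := R) a)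
    rw [h1]
    have h2 : (CoactBr.Comod.baseChange R C A B).coact (β ((1 : C) ⊗ₜ[R] a)) =
        β.rTensor (C ⊗[R] A) ((CoactBr.Comod.baseChange R C A A).coact ((1 : C) ⊗ₜ[R] a)) :=
      LinearMap.congr_fun hβ ((1 : C) ⊗ₜ[R] a)
    rw [h2, CoactBr.baseChange_coact_tmul]
    show _ = α.rTensor A (Comod.coact (k := R) (A := A) a)
    generalize Comod.coact (k := R) (A := A) a = t
    induction t using TensorProduct.induction_on with
    | zero => simp
    | add p q hp hq => simp only [map_add, TensorProduct.tmul_add, hp, hq]
    | tmul x y =>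
      simp [cb, α, ι]
      show μ.rTensor A (TensorProduct.AlgebraTensorModule.cancelBaseChange R C C (C ⊗[R] B) A
        (β ((1 : C) ⊗ₜ[R] x) ⊗ₜ[C] ((1 : C) ⊗ₜ[R] y))) = _
      rw [TensorProduct.AlgebraTensorModule.cancelBaseChange_tmul, one_smul, LinearMap.rTensor_tmul]
  · show μ (β ((1 : C) ⊗ₜ[R] (1 : A))) = 1
    rw [← Algebra.TensorProduct.one_def, hβ1, Algebra.TensorProduct.one_def]
    simp [μ]

end Groth.Agent.S14984
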