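import Groth.Statements.S14987
import Groth.Agent.AlgSpLib.DecentSingleton
import Groth.Agent.AlgSpLib.NoethDecent
import Groth.Agent.AlgSpLib.StratCovClosed
import Groth.Agent.AlgSpLib.EtaleField
import Groth.Agent.AlgSpLib.PointsTop
import Groth.Agent.Desc19b.HensSp.RatPt
-- import your own Groth.Agent.* helpers here

set_option autoImplicit false
universe u
open CategoryTheory CategoryTheory.Limits AlgebraicGeometry Topology TopologicalSpace
open AlgSp

namespace Groth.Agent.S14987

set_option backward.isDefEq.respectTransparency.types false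
set_option backward.isDefEq.respectTransparency false
open CategoryTheory CategoryTheory.Limits AlgebraicGeometry Groth.Agent.AlgSpLib AlgSp IsLocalRing

section
variable {S : Scheme.{u}} {X : Sp S}

theorem hom_ext_yon' {F G : Sp S} {g₁ g₂ : F ⟶ G}
    (h : ∀ (T : Over S) (w : (yon S).obj T ⟶ F), w ≫ g₁ = w ≫ g₂) : g₁ = g₂ := by
  refine Sheaf.hom_ext (NatTrans.ext (funext fun T => ConcreteCategory.hom_ext _ _ fun z => ?_))
  obtain ⟨w, rfl⟩ := ((J S).uliftYonedaEquiv.{u + 1} (F := F) (X := T.unop)).surjective z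
  have h1 := congrArg (fun q => (J S).uliftYonedaEquiv.{u + 1} q) (h T.unop w)
  simp only [GrothendieckTopology.uliftYonedaEquiv_comp] at h1
  exact h1

theorem ideal_pow' (I : IdealEt X) (n : ℕ) (E : EtOver X) (hE : IsAffine E.obj.left.left) :
    (I ^ n).ideal E hE = I.ideal E hE ^ n := rfl

/-- powers of an ideal cut out the same points -/
theorem range_cutOut_pow (hX : IsAlgSpace X) {Z Zn : Sp S} {i : Z ⟶ X} {iZ : Zn ⟶ X} {I : IdealEt X}
    (hi : IsCutOutBy I i) {n : ℕ} (hn : 1 ≤ n) (hiZ : IsCutOutBy (I ^ n) iZ) :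
    Set.range (Points.map iZ) = Set.range (Points.map i) := by
  obtain ⟨U, a, hae, has⟩ := hX.atlas
  have key : ∀ u : ↥U.left, Points.ofPt a u ∈ Set.range (Points.map iZ) ↔
      Points.ofPt a u ∈ Set.range (Points.map i) := fun u => by
    obtain ⟨O, hO, hu, -⟩ := exists_isAffineOpen_mem_and_subset (x := u) (U := ⊤) trivial
    let UO : Over S := Over.mk (O.ι ≫ U.hom)
    let j : UO ⟶ U := Over.homMk O.ι rfl
    have hje : RepWith @Etale ((yon S).map j ≫ a) :=
      RepWith.comp ((repWith_yon_map_iff @Etale j).2 (inferInstanceAs (Etale O.ι))) hae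
    have hUO : IsAffine UO.left := hO
    let E := EtOver.mk _ hje
    have h1 := Set.ext_iff.1 (StratCov.preimage_range_cutOut hi E hUO) ⟨u, hu⟩
    have h2 := Set.ext_iff.1 (StratCov.preimage_range_cutOut hiZ E hUO) ⟨u, hu⟩
    have e : Points.ofPt E.obj.hom (⟨u, hu⟩ : O) = Points.ofPt a u := ofPt_map j a _
    rw [Set.mem_preimage, e] at h1 h2
    rw [h1, h2, ideal_pow', ← Scheme.zeroLocus_span, ← Scheme.zeroLocus_span (U := ⊤) (s := SetLike.coe (I.ideal E hUO))]
    simp only [Ideal.span_eq]
    rw [← Scheme.zeroLocus_radical, Ideal.radical_pow _ (by omega), Scheme.zeroLocus_radical]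
  ext x
  obtain ⟨u, rfl⟩ := surjective_ofPt a has x
  exact key u

/-- a scheme with one point is the spectrum of a local ring mapping through the stalk -/
theorem exists_lift_fromSpecStalk {V O : Scheme.{u}} [Subsingleton ↥O] (o : ↥O) (g : O ⟶ V) {v : ↥V} (hv : g o = v) :
    ∃ l : O ⟶ Spec (V.presheaf.stalk v), l ≫ V.fromSpecStalk v = g := by
  obtain ⟨W, hW, hoW, -⟩ := exists_isAffineOpen_mem_and_subset (x := o) (U := ⊤) trivial
  have e : W = ⊤ := top_le_iff.1 fun y _ => Subsingleton.elim o y ▸ hoW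
  subst e
  have : IsAffine (⊤ : O.Opens).toScheme := hW
  have : IsAffine O := IsAffine.of_isIso O.topIso.inv
  have : Subsingleton (PrimeSpectrum Γ(O, ⊤)) := (O.isoSpec.hom.homeomorph.toEquiv.symm).subsingleton
  have : Nonempty (PrimeSpectrum Γ(O, ⊤)) := ⟨O.isoSpec.hom o⟩
  have : Nontrivial Γ(O, ⊤) := PrimeSpectrum.nonempty_iff_nontrivial.1 this
  have : IsLocalRing Γ(O, ⊤) := IsLocalRing.of_unique_max_ideal
    ⟨(O.isoSpec.hom o).asIdeal, by
      obtain ⟨m, hm⟩ := Ideal.exists_maximal Γ(O, ⊤)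
      have e := @Subsingleton.elim (PrimeSpectrum Γ(O, ⊤)) inferInstance (O.isoSpec.hom o) ⟨m, hm.isPrime⟩
      exact (congrArg PrimeSpectrum.asIdeal e).symm ▸ hm, fun m hm => congrArg PrimeSpectrum.asIdeal
        (Subsingleton.elim (⟨m, hm.isPrime⟩ : PrimeSpectrum Γ(O, ⊤)) (O.isoSpec.hom o))⟩
  let g' : Spec Γ(O, ⊤) ⟶ V := O.isoSpec.inv ≫ g
  have hc : g' (closedPoint Γ(O, ⊤)) = v := by
    show g (O.isoSpec.inv (closedPoint Γ(O, ⊤))) = v
    rw [Subsingleton.elim (O.isoSpec.inv (closedPoint Γ(O, ⊤))) o, hv]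
  subst hc
  exact ⟨O.isoSpec.hom ≫ Spec.map (Scheme.stalkClosedPointTo g'), by
    rw [Category.assoc, Scheme.Spec_stalkClosedPointTo_fromSpecStalk, Iso.hom_inv_id_assoc]⟩

end


/-- Let X be a Noetherian algebraic space (quasi-compact, quasi-separated, locally Noetherian) over a
scheme S and z a closed point of X. Then there are a Noetherian local ring R over S and a
representable flat morphism φ : h_{Spec R} ⟶ X sending the closed point to z which is a flat
neighbourhood of z: z is represented by a closed immersion Spec k ⟶ X whose base change along φ is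
an isomorphism onto Spec k, and for every n ≥ 1 and every closed subspace Z_n of X cut out by the
n-th power of the ideal sheaf of that closed immersion, the projection Spec R ×_X Z_n ⟶ Z_n is an
isomorphism; moreover dim R equals the dimension of the local ring of X at z. -/
theorem result {S : Scheme.{u}} (X : AlgSp.Space S)
    (hqc : AlgSp.IsQuasiCompactSp X.obj) (hqs : AlgSp.IsQuasiSeparatedSp X.obj)
    (hN : AlgSp.IsLocNoethSp X.obj)
    (z : AlgSp.Points X.obj) (hz : IsClosed ({z} : Set (AlgSp.Points X.obj))) :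
    ∃ (R : CommRingCat.{u}) (hR : IsLocalRing ↥R) (str : Spec R ⟶ S)
      (φ : (AlgSp.yon S).obj (Over.mk str) ⟶ X.obj) (p : AlgSp.FieldPt X.obj) (t : p.pt ⟶ Over.mk str),
      IsNoetherianRing ↥R ∧ AlgSp.RepWith @Flat φ ∧
      AlgSp.Points.ofPt φ (@IsLocalRing.closedPoint ↥R _ hR) = z ∧
      AlgSp.Points.mk p = z ∧ AlgSp.RepWith @IsClosedImmersion p.toHom ∧
      IsPullback ((AlgSp.yon S).map t) (𝟙 ((AlgSp.yon S).obj p.pt)) φ p.toHom ∧
      (∀ (I : AlgSp.IdealEt X.obj), AlgSp.IsCutOutBy I p.toHom → ∀ n : ℕ, 1 ≤ n →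
        ∀ (Zn : AlgSp.Sp S) (iZ : Zn ⟶ X.obj), AlgSp.IsCutOutBy (I ^ n) iZ →
          ∀ (P : AlgSp.Sp S) (fst : P ⟶ (AlgSp.yon S).obj (Over.mk str)) (snd : P ⟶ Zn),
            IsPullback fst snd φ iZ → IsIso snd) ∧
      AlgSp.HasAt (fun U u => ringKrullDim ↥(U.presheaf.stalk u) = ringKrullDim ↥R) X.obj z := by
  classical
  have hX := X.property
  obtain ⟨p, hp, hpc⟩ := exists_closedImmersion_point hX (isDecent_of_qsep hX hqs) z hz
  obtain ⟨ι, W, f, -, hf, hlift⟩ := Desc19b.HensSp.exists_rat_charts hX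
  obtain ⟨i, v, hv⟩ := hlift p.K p.str p.toHom
  let V := W i
  let a : (AlgSp.yon S).obj V ⟶ X.obj := f i
  have ha : RepWith @Etale a := hf i
  let v0 : ↥V.left := v.left (closedPoint p.K)
  have hz0 : Points.ofPt a v0 = z := by
    rw [← ofPt_map v a, hv, Points.ofPt_toHom, hp]
  have : IsLocallyNoetherian V.left := isLocallyNoetherian_chart hN a ha
  let R := V.left.presheaf.stalk v0
  let fS : Spec R ⟶ V.left := V.left.fromSpecStalk v0
  let str : Spec R ⟶ S := fS ≫ V.hom
  let FS : Over.mk str ⟶ V := Over.homMk fS rfl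
  have : Mono FS := (Over.forget S).mono_of_mono_map (inferInstanceAs (Mono fS))
  let φ := (AlgSp.yon S).map FS ≫ a
  let tL : Spec (CommRingCat.of p.K) ⟶ Spec R := Spec.map (Scheme.stalkClosedPointTo v.left)
  have htL : tL ≫ fS = v.left := Scheme.Spec_stalkClosedPointTo_fromSpecStalk v.left
  let t : p.pt ⟶ Over.mk str := Over.homMk tL (by
    show tL ≫ fS ≫ V.hom = _
    rw [reassoc_of% htL]
    exact Over.w v)
  have ht : t ≫ FS = v := Over.OverMorphism.ext htL
  -- the fibre on the chart
  let P := hpc.1.pullback a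
  let j : P ⟶ V := hpc.1.snd a
  obtain ⟨d, hd⟩ := (AlgSp.yon S).map_surjective (hpc.1.fst a)
  have sqP : IsPullback ((AlgSp.yon S).map d) ((AlgSp.yon S).map j) p.toHom a := hd ▸ hpc.1.isPullback a
  have : IsClosedImmersion j.left := hpc.property _ _ _ sqP
  have hde : Etale d.left := ha.property _ _ _ sqP.flip
  have := locallyQuasiFinite_of_etale d.left
  have hdisc : DiscreteTopology ↥P.left := by
    refine discreteTopology_iff_isOpen_singleton.2 fun w => ?_
    have h := d.left.isDiscrete_preimage_singleton (d.left w)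
    have hsub : Subsingleton ↥p.pt.left := inferInstanceAs (Subsingleton ↥(Spec (CommRingCat.of p.K)))
    rw [show d.left ⁻¹' {d.left w} = Set.univ from Set.eq_univ_of_forall fun v => Subsingleton.elim _ _] at h
    have := isDiscrete_univ_iff.1 h
    exact isOpen_discrete _
  obtain ⟨σ, hσ⟩ := (AlgSp.yon S).map_surjective (sqP.lift (𝟙 _) ((AlgSp.yon S).map v) (by rw [Category.id_comp, hv]))
  have hσd : σ ≫ d = 𝟙 _ := (AlgSp.yon S).map_injective (by
    rw [Functor.map_comp, hσ, sqP.lift_fst]; exact ((AlgSp.yon S).map_id _).symm)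
  have hσj : σ ≫ j = v := (AlgSp.yon S).map_injective (by rw [Functor.map_comp, hσ, sqP.lift_snd])
  let π0 : ↥P.left := σ.left (closedPoint p.K)
  have hπ0 : j.left π0 = v0 := by rw [← Scheme.Hom.comp_apply, ← Over.comp_left, hσj]
  have hσo : IsOpenImmersion σ.left := by
    have : IsOpenImmersion (σ.left ≫ d.left) := by
      rw [← Over.comp_left, hσd]; infer_instance
    have : Etale (σ.left ≫ d.left) := inferInstance
    have : Etale σ.left := Etale.of_comp σ.left d.left
    have : Mono σ.left := by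
      have : Mono (σ.left ≫ d.left) := inferInstance
      exact mono_of_mono σ.left d.left
    exact IsOpenImmersion.of_flat_of_mono σ.left
  have hfield : ∀ (T : Over S) (x : T ⟶ Over.mk str) (y : T ⟶ p.pt),
      (AlgSp.yon S).map x ≫ φ = (AlgSp.yon S).map y ≫ p.toHom → x = y ≫ t := fun T x y hxy => by
    obtain ⟨l, hl⟩ := (AlgSp.yon S).map_surjective (sqP.lift ((AlgSp.yon S).map y) ((AlgSp.yon S).map (x ≫ FS)) (by
      rw [Functor.map_comp, Category.assoc, ← hxy]))
    have hl1 : l ≫ d = y := (AlgSp.yon S).map_injective (by rw [Functor.map_comp, hl, sqP.lift_fst])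
    have hl2 : l ≫ j = x ≫ FS := (AlgSp.yon S).map_injective (by rw [Functor.map_comp, hl, sqP.lift_snd])
    have hr : Set.range l.left ⊆ Set.range σ.left := by
      rintro _ ⟨s, rfl⟩
      refine ⟨closedPoint p.K, j.left.isClosedEmbedding.injective ?_⟩
      have h1 : j.left (l.left s) ∈ Set.range fS := ⟨x.left s, by
        show fS (x.left s) = j.left (l.left s)
        have e0 := congr($((congrArg CommaMorphism.left hl2).symm) s)
        exact e0⟩
      rw [Scheme.range_fromSpecStalk] at h1
      have h2 : IsClosed ({j.left (l.left s)} : Set ↥V.left) := by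
        rw [← Set.image_singleton]
        exact j.left.isClosedEmbedding.isClosedMap _ (isClosed_discrete _)
      have h3 := h1.mem_closed h2 rfl
      exact hπ0.trans h3
    let l' : T ⟶ p.pt := Over.homMk (IsOpenImmersion.lift σ.left l.left hr) (by
      rw [← Over.w σ, ← Category.assoc, IsOpenImmersion.lift_fac]; exact Over.w l)
    have hl' : l' ≫ σ = l := Over.OverMorphism.ext (IsOpenImmersion.lift_fac _ _ _)
    have e : l' = y := by rw [← hl1, ← hl', Category.assoc, hσd, Category.comp_id]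
    rw [← cancel_mono FS, ← hl2, ← hl', e, Category.assoc, hσj, Category.assoc, ht]
  have hflat : RepWith @Flat φ := by
    refine RepWith.comp ((repWith_yon_map_iff (P := @Flat) FS).2 ?_) (RepWith.mono etale_le_flat ha)
    exact inferInstanceAs (Flat (V.left.fromSpecStalk v0))
  have hclosed : Points.ofPt φ (closedPoint R) = z := by
    show Points.ofPt ((AlgSp.yon S).map FS ≫ a) _ = z
    rw [ofPt_map]
    show Points.ofPt a (V.left.fromSpecStalk v0 (closedPoint R)) = z
    rw [Scheme.fromSpecStalk_closedPoint, hz0]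
  refine ⟨R, inferInstance, str, φ, p, t, inferInstance, hflat, hclosed, hp, hpc, ?_, ?_,
    ⟨V, a, v0, ha, hz0, rfl⟩⟩
  · refine isPullback_of_yon ?_ fun T x y hxy => ?_
    · show (AlgSp.yon S).map t ≫ (AlgSp.yon S).map FS ≫ a = 𝟙 _ ≫ p.toHom
      rw [← Functor.map_comp_assoc, ht, hv, Category.id_comp]
    · obtain ⟨x', rfl⟩ := (AlgSp.yon S).map_surjective x
      obtain ⟨y', rfl⟩ := (AlgSp.yon S).map_surjective y
      refine ⟨(AlgSp.yon S).map y', ⟨by rw [← Functor.map_comp, ← hfield T x' y' hxy], Category.comp_id _⟩,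
        fun w hw => (Category.comp_id w).symm.trans hw.2⟩
  intro I hI n hn Zn iZ hiZ Q fst snd sq
  have hrange : Set.range (Points.map iZ) = {z} := by
    rw [range_cutOut_pow hX hI hn hiZ]
    ext x
    constructor
    · rintro ⟨w, rfl⟩
      obtain ⟨s, rfl⟩ := (Points.schemeEquiv p.pt).surjective w
      show Points.map p.toHom (Points.ofScheme p.pt s) = z
      rw [← Points.ofPt_eq_map_ofScheme, Points.ofPt_toHom, hp]
    · rintro rfl
      exact ⟨Points.ofScheme p.pt (closedPoint p.K), by rw [← Points.ofPt_eq_map_ofScheme, Points.ofPt_toHom, hp]⟩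
  -- a point of `Spec R` over `Zn` is the closed point, uniquely
  let D := ha.1.pullback a
  obtain ⟨r₁, hr₁⟩ := (AlgSp.yon S).map_surjective (ha.1.fst a)
  let r₂ : D ⟶ V := ha.1.snd a
  have sqD : IsPullback ((AlgSp.yon S).map r₁) ((AlgSp.yon S).map r₂) a a := hr₁ ▸ ha.1.isPullback a
  obtain ⟨Δ, hΔ⟩ := (AlgSp.yon S).map_surjective (sqD.lift (𝟙 _) (𝟙 _) rfl)
  have hΔ1 : Δ ≫ r₁ = 𝟙 _ := (AlgSp.yon S).map_injective (by
    rw [Functor.map_comp, hΔ, sqD.lift_fst]; exact ((AlgSp.yon S).map_id _).symm)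
  have hΔ2 : Δ ≫ r₂ = 𝟙 _ := (AlgSp.yon S).map_injective (by
    rw [Functor.map_comp, hΔ, sqD.lift_snd]; exact ((AlgSp.yon S).map_id _).symm)
  have hΔo : IsOpenImmersion Δ.left := by
    have hr₁e : Etale r₁.left := ha.property _ _ _ sqD.flip
    have : IsOpenImmersion (Δ.left ≫ r₁.left) := by
      rw [← Over.comp_left, hΔ1]; infer_instance
    have : Etale (Δ.left ≫ r₁.left) := inferInstance
    have : Etale Δ.left := Etale.of_comp Δ.left r₁.left
    have : Mono Δ.left := by
      have : Mono (Δ.left ≫ r₁.left) := inferInstance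
      exact mono_of_mono Δ.left r₁.left
    exact IsOpenImmersion.of_flat_of_mono Δ.left
  have hmZ : Mono iZ := mono_closedImmersion hiZ.1
  have huniq : ∀ (T : Over S) (x x' : T ⟶ Over.mk str) (w : (AlgSp.yon S).obj T ⟶ Zn),
      (AlgSp.yon S).map x ≫ φ = w ≫ iZ → (AlgSp.yon S).map x' ≫ φ = w ≫ iZ → x = x' := fun T x x' w hx hx' => by
    obtain ⟨l, hl⟩ := (AlgSp.yon S).map_surjective
      (sqD.lift ((AlgSp.yon S).map (x ≫ FS)) ((AlgSp.yon S).map (x' ≫ FS)) (by
        simp only [φ] at hx hx'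
        rw [Functor.map_comp_assoc, Functor.map_comp_assoc, hx, hx']))
    have hl1 : l ≫ r₁ = x ≫ FS := (AlgSp.yon S).map_injective (by rw [Functor.map_comp, hl, sqD.lift_fst])
    have hl2 : l ≫ r₂ = x' ≫ FS := (AlgSp.yon S).map_injective (by rw [Functor.map_comp, hl, sqD.lift_snd])
    have hr : Set.range l.left ⊆ Set.range Δ.left := by
      rintro _ ⟨s, rfl⟩
      let K := T.left.residueField s
      let T' : Over S := Over.mk (T.left.fromSpecResidueField s ≫ T.hom)
      let e : T' ⟶ T := Over.homMk (T.left.fromSpecResidueField s) rfl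
      let g := (AlgSp.yon S).map e ≫ w ≫ iZ
      -- factor through the closed point
      have hg : ∀ s', Points.ofPt g s' = z := fun s' => by
        show Points.ofPt g s' ∈ ({z} : Set _)
        rw [← hrange]
        refine ⟨Points.ofPt ((AlgSp.yon S).map e ≫ w) s', ?_⟩
        rw [Points.map_ofPt, Category.assoc]
      have : IsClosedImmersion (hpc.1.snd g).left := hpc.property_snd g
      have : Surjective (hpc.1.snd g).left := ⟨fun s' => by
        obtain ⟨q, -, hq⟩ := exists_point_of_isPullback (hpc.1.isPullback g)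
          (x := Points.ofScheme p.pt (closedPoint p.K)) (y := Points.ofScheme T' s') (by
            rw [← Points.ofPt_eq_map_ofScheme, ← Points.ofPt_eq_map_ofScheme, Points.ofPt_toHom, hp, hg])
        obtain ⟨q', rfl⟩ := (Points.schemeEquiv _).surjective q
        exact ⟨q', (Points.schemeEquiv T').injective ((map_yon_map_ofScheme _ q').symm.trans hq)⟩⟩
      have : IsReduced T'.left := inferInstanceAs (IsReduced (Spec (CommRingCat.of K)))
      have : IsIso (hpc.1.snd g).left := isIso_of_isClosedImmersion_of_surjective _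
      have : IsIso ((Over.forget S).map (hpc.1.snd g)) := this
      have : IsIso (hpc.1.snd g) := isIso_of_reflects_iso _ (Over.forget S)
      obtain ⟨y, hy⟩ := (AlgSp.yon S).map_surjective ((AlgSp.yon S).map (inv (hpc.1.snd g)) ≫ hpc.1.fst g)
      have hyg : (AlgSp.yon S).map y ≫ p.toHom = g := by
        rw [hy, Category.assoc, hpc.1.w g, ← Functor.map_comp_assoc, IsIso.inv_hom_id]
        erw [CategoryTheory.Functor.map_id]
        exact Category.id_comp g
      have e1 : e ≫ x = y ≫ t := hfield T' (e ≫ x) y (by rw [hyg, Functor.map_comp, Category.assoc, hx])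
      have e2 : e ≫ x' = y ≫ t := hfield T' (e ≫ x') y (by rw [hyg, Functor.map_comp, Category.assoc, hx'])
      have h12 : e ≫ l = y ≫ v ≫ Δ := by
        refine (AlgSp.yon S).map_injective (sqD.hom_ext ?_ ?_) <;> rw [← Functor.map_comp, ← Functor.map_comp] <;>
          refine congrArg _ ?_
        · rw [Category.assoc, hl1, reassoc_of% e1, ht, Category.assoc, Category.assoc, hΔ1, Category.comp_id]
        · rw [Category.assoc, hl2, reassoc_of% e2, ht, Category.assoc, Category.assoc, hΔ2, Category.comp_id]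
      refine ⟨(y ≫ v).left (closedPoint K), ?_⟩
      rw [← Scheme.Hom.comp_apply, ← Over.comp_left, Category.assoc, ← h12, Over.comp_left, Scheme.Hom.comp_apply]
      show l.left (T.left.fromSpecResidueField s (closedPoint K)) = l.left s
      rw [Scheme.fromSpecResidueField_apply]
    let l' : T ⟶ V := Over.homMk (IsOpenImmersion.lift Δ.left l.left hr) (by
      rw [← Over.w Δ, ← Category.assoc, IsOpenImmersion.lift_fac]; exact Over.w l)
    have hl' : l' ≫ Δ = l := Over.OverMorphism.ext (IsOpenImmersion.lift_fac _ _ _)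
    rw [← cancel_mono FS, ← hl1, ← hl2, ← hl', Category.assoc, hΔ1, Category.assoc, hΔ2]
  have : Mono snd := by
    constructor
    intro G g₁ g₂ hg
    refine hom_ext_yon' fun T w => ?_
    refine sq.hom_ext ?_ (by simp only [Category.assoc, hg])
    obtain ⟨x₁, hx₁⟩ := (AlgSp.yon S).map_surjective ((w ≫ g₁) ≫ fst)
    obtain ⟨x₂, hx₂⟩ := (AlgSp.yon S).map_surjective ((w ≫ g₂) ≫ fst)
    rw [← hx₁, ← hx₂, huniq T x₁ x₂ ((w ≫ g₁) ≫ snd) (by rw [hx₁]; simp only [Category.assoc, sq.w])
      (by rw [hx₂]; simp only [Category.assoc, sq.w]; rw [reassoc_of% hg])]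
  -- the closed point covers
  have : Epi snd := by
    let Pn := hiZ.1.1.pullback a
    let jn : Pn ⟶ V := hiZ.1.1.snd a
    have : IsClosedImmersion jn.left := hiZ.1.property_snd a
    have hsame : ∀ w : ↥Pn.left, jn.left w ∈ Set.range j.left := fun w => by
      have h1 : Points.ofPt a (jn.left w) = z := by
        show Points.ofPt a (jn.left w) ∈ ({z} : Set _)
        rw [← hrange, ← ofPt_map jn a, ← hiZ.1.1.w a]
        exact ⟨Points.ofPt (hiZ.1.1.fst a) w, Points.map_ofPt _ _ _⟩
      obtain ⟨r, -, hr⟩ := (ofPt_eq_ofPt_iff sqP (closedPoint p.K) (jn.left w)).1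
        (by rw [Points.ofPt_toHom, hp, h1])
      exact ⟨r, hr⟩
    let C : Set ↥V.left := j.left '' ({π0}ᶜ)
    have hC : IsClosed C := j.left.isClosedEmbedding.isClosedMap _ (isClosed_discrete _)
    let O : Pn.left.Opens := ⟨jn.left ⁻¹' Cᶜ, hC.isOpen_compl.preimage jn.left.continuous⟩
    have hOv : ∀ w : ↥O.toScheme, jn.left (O.ι w) = v0 := fun w => by
      obtain ⟨r, hr⟩ := hsame (O.ι w)
      have h2 : jn.left (O.ι w) ∉ C := w.2
      by_cases h : r = π0
      · rw [← hr, h, hπ0]
      · exact absurd ⟨r, h, hr⟩ h2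
    let OO : Over S := Over.mk (O.ι ≫ Pn.hom)
    let o : OO ⟶ Pn := Over.homMk O.ι rfl
    let q : (AlgSp.yon S).obj OO ⟶ Zn := (AlgSp.yon S).map o ≫ hiZ.1.1.fst a
    have hqe : RepWith @Etale q := RepWith.comp ((repWith_yon_map_iff @Etale o).2 (inferInstanceAs (Etale O.ι)))
      (RepWith.baseChange (hiZ.1.1.isPullback a).flip ha)
    obtain ⟨y, hy⟩ : z ∈ Set.range (Points.map iZ) := hrange.ge rfl
    obtain ⟨w, -, hw⟩ := exists_point_of_isPullback (hiZ.1.1.isPullback a) (x := y)
      (y := Points.ofScheme V v0) (by rw [← Points.ofPt_eq_map_ofScheme, hy, hz0])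
    obtain ⟨w, rfl⟩ := (Points.schemeEquiv _).surjective w
    have hw' : jn.left w = v0 := (Points.schemeEquiv V).injective ((map_yon_map_ofScheme _ w).symm.trans hw)
    have hwO : w ∈ O := by
      show ¬ jn.left w ∈ C
      rw [hw', ← hπ0]
      rintro ⟨r, hr, e⟩
      exact hr (j.left.isClosedEmbedding.injective e)
    have hqs : RepWith @Surjective q := repWith_surjective_of_surjective_ofPt q hqe.1 fun x => by
      refine ⟨⟨w, hwO⟩, @injective_map_of_mono _ _ _ iZ hmZ _ _ ?_⟩
      have h1 : ∀ x', Points.map iZ x' = z := fun x' => hrange.le ⟨x', rfl⟩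
      rw [h1, h1]
    have : Subsingleton ↥OO.left := ⟨fun w w' => O.ι.isOpenEmbedding.injective
      (jn.left.isClosedEmbedding.injective ((hOv w).trans (hOv w').symm))⟩
    obtain ⟨l, hl⟩ := exists_lift_fromSpecStalk (O := OO.left) (⟨w, hwO⟩ : O) (O.ι ≫ jn.left) (hOv ⟨w, hwO⟩)
    let L : OO ⟶ Over.mk str := Over.homMk l (by
      show l ≫ fS ≫ V.hom = O.ι ≫ Pn.hom
      rw [reassoc_of% hl, Over.w jn])
    have hq : sq.lift ((AlgSp.yon S).map L) q (by
        show (AlgSp.yon S).map L ≫ (AlgSp.yon S).map FS ≫ a = q ≫ iZ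
        rw [← Functor.map_comp_assoc, show L ≫ FS = o ≫ jn from Over.OverMorphism.ext hl, Category.assoc,
          hiZ.1.1.w a, ← Functor.map_comp_assoc]) ≫ snd = q := sq.lift_snd _ _ _
    have := isLocallySurjective_of_etale hqe hqs
    have : Epi q := Sheaf.epi_of_isLocallySurjective _
    exact epi_of_epi_fac hq
  have : Balanced (Sp S) := inferInstanceAs (Balanced (Sheaf (J S) (Type (u + 1))))
  exact isIso_of_mono_of_epi snd

end Groth.Agent.S14987
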