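import Groth.Statements.S14988
import Groth.Agent.H8Res.TensorEpi
-- import your own Groth.Agent.* helpers here

set_option autoImplicit false
set_option backward.isDefEq.respectTransparency.types false
universe u
open CategoryTheory CategoryTheory.Limits AlgebraicGeometry
open ResProp

namespace Groth.Agent.S14988

/-- In the case of schemes, let f : X ⟶ Y be a morphism of quasi-compact quasi-separated schemes. If
every quasi-coherent module on Y is a quotient of a direct sum of finite locally free modules (Y has
the resolution property) and some family (W_i) of finite locally free modules on X is f-generating,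
i.e. every quasi-coherent module on X is a quotient of a direct sum of modules W_i ⊗ f^*N with N
quasi-coherent on Y, then every quasi-coherent module on X is a quotient of a direct sum of finite
locally free modules (X has the resolution property). (The published statement is for quasi-compact
quasi-separated morphisms of algebraic stacks and assumes the family universally f-generating; this
row is the case of schemes and assumes the family only f-generating, which is what the argument
uses.) -/
theorem result {X Y : Scheme.{u}}
    [CompactSpace X] [QuasiSeparatedSpace X] [CompactSpace Y] [QuasiSeparatedSpace Y] (f : X ⟶ Y)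
    (hY : ∀ N : Y.Modules, Coh.IsQCoh N →
      ∃ (κ : Type u) (V : κ → Y.Modules) (π : (∐ V) ⟶ N), (∀ k, FlatMod.IsFinLocFree (V k)) ∧ Epi π)
    {ι : Type u} (W : ι → X.Modules) (hW : ∀ i, FlatMod.IsFinLocFree (W i))
    (hf : ∀ M : X.Modules, Coh.IsQCoh M →
      ∃ (κ : Type u) (j : κ → ι) (N : κ → Y.Modules)
        (π : (∐ fun k => CohB1.tensorMod (W (j k)) ((Scheme.Modules.pullback f).obj (N k))) ⟶ M),
        (∀ k, Coh.IsQCoh (N k)) ∧ Epi π) :
    ∀ M : X.Modules, Coh.IsQCoh M →
      ∃ (κ : Type u) (E : κ → X.Modules) (π : (∐ E) ⟶ M), (∀ k, FlatMod.IsFinLocFree (E k)) ∧ Epi π := by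
  intro M hM
  obtain ⟨κ, j, N, π, hN, hπ⟩ := hf M hM
  choose κ' V p hV hp using fun k => hY (N k) (hN k)
  let E : (Σ k, κ' k) → X.Modules := fun q =>
    CohB1.tensorMod (W (j q.1)) ((Scheme.Modules.pullback f).obj (V q.1 q.2))
  let m : ∀ q : (Σ k, κ' k), E q ⟶ M := fun q =>
    ((DCoh.tensorBi (X := X)).obj (W (j q.1))).map
        ((Scheme.Modules.pullback f).map (Limits.Sigma.ι (V q.1) q.2 ≫ p q.1)) ≫
      Limits.Sigma.ι (fun k => CohB1.tensorMod (W (j k)) ((Scheme.Modules.pullback f).obj (N k))) q.1 ≫ π
  refine ⟨_, E, Limits.Sigma.desc m, fun q => Groth.Agent.DCat.PerfTensor.isFinLocFree_tensor (hW _)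
    (Groth.Agent.DCat.PullPerf.isFinLocFree_pullback f (hV _ _)), ?_⟩
  refine ⟨fun {Q} a b hab => ?_⟩
  haveI := hπ
  refine (cancel_epi π).1 (Limits.Sigma.hom_ext _ _ fun k => ?_)
  haveI := (Scheme.Modules.pullbackPushforwardAdjunction f).leftAdjoint_preservesColimits
  haveI := hp k
  haveI := Groth.Agent.H8Res.preservesCoproducts_tensor (W (j k)) (κ' k)
  haveI : Epi ((Scheme.Modules.pullback f).map (p k)) := (Scheme.Modules.pullback f).map_epi (p k)
  haveI := Groth.Agent.H8Res.epi_tensor_map (W (j k)) ((Scheme.Modules.pullback f).map (p k))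
  have hc := Limits.isColimitOfPreserves
    (Scheme.Modules.pullback f ⋙ (DCoh.tensorBi (X := X)).obj (W (j k))) (Limits.coproductIsCoproduct (V k))
  refine (cancel_epi (((DCoh.tensorBi (X := X)).obj (W (j k))).map ((Scheme.Modules.pullback f).map (p k)))).1
    (hc.hom_ext fun ⟨l⟩ => ?_)
  have h := congrArg (fun t => Limits.Sigma.ι E ⟨k, l⟩ ≫ t) hab
  simp only [Limits.colimit.ι_desc_assoc, Limits.Cofan.mk_ι_app] at h
  simp only [m, Functor.map_comp, Category.assoc] at h
  exact h

end Groth.Agent.S14988
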