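import Groth.Statements.S1499
import Groth.Agent.FlatMor12.AmpleRestrict
import Groth.Agent.MorProj.FinFree
import Groth.Agent.AmpleLib.Local

set_option autoImplicit false
universe u
attribute [local instance] HasDerivedCategory.standard
open FlatMor

namespace Groth.Agent.S1499

open AlgebraicGeometry CategoryTheory Limits in
/-- Let f : X → Y with Y having an ample family of invertible modules, and suppose some O_X-module is
ample relative to f. Then X has an ample family of invertible modules. -/
theorem result {X Y : Scheme.{u}} (f : X ⟶ Y)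
    (hY : MoreMor.HasAmpleFamily Y) (L : X.Modules) (hL : RelAmple.IsRelAmple f L) :
    MoreMor.HasAmpleFamily X := by
  have hsep := Groth.Agent.MorProj.isSeparated_of_isRelAmple f L hL
  have := hL.1
  have := hY.1
  have := Groth.Agent.FlatMor12.AmpleFamily.quasiSeparatedSpace hY
  have : CompactSpace X := QuasiCompact.compactSpace_of_compactSpace f
  have : QuasiSeparatedSpace X := quasiSeparatedSpace_of_quasiSeparated f
  refine Groth.Agent.FlatMor12.AmpleFamily.hasAmpleFamily_of fun x => ?_
  obtain ⟨A, ⟨N, a, hN, ha⟩, hx, hA⟩ := Groth.Agent.FlatMor12.AmpleFamily.exists_locus hY (f x)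
  exact Groth.Agent.FlatMor12.AmpleFamily.exists_locus_of_isAmple_restrict
    (Groth.Agent.AmpleLib.isInvertible_of_isRelAmple f hL) (PicLoc.isInvertible_pullback f hN)
    (Groth.Agent.PicLib.pullSec f a) (V := f ⁻¹ᵁ A) ((Groth.Agent.AmpleLib.glocus_pullSec f hN a).trans (by rw [ha]))
    (hL.2 ⟨A, hA⟩) hx

end Groth.Agent.S1499
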