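import Groth.Statements.S14994
import Mathlib.Algebra.Module.StablyFree.Basic
import Mathlib.Algebra.Order.Ring.Star
import Mathlib.Data.Int.ConditionallyCompleteOrder
import Mathlib.Order.CompletePartialOrder
import Mathlib.RingTheory.Flat.TorsionFree
import Mathlib.RingTheory.LaurentSeries
import Mathlib.RingTheory.LocalRing.Pullback
import Mathlib.RingTheory.SimpleRing.Principal
import Mathlib.RingTheory.TotallySplit
import Mathlib.Topology.Algebra.Module.ModuleTopology
import Mathlib.Topology.Instances.Matrix
import Mathlib.Tactic

set_option linter.all false

set_option autoImplicit false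
universe u
open CAlg


namespace Groth.Agent.S14994

/-- Let A be a Noetherian integrally closed domain, M a finitely generated torsion-free A-module, N a
submodule of M and ι : M → M** the canonical map to the double dual. Write N** → M** for the double
dual of the inclusion N → M. Then every m ∈ M whose image ι(m) lies in the image of N** is a torsion
element modulo N: some nonzero a ∈ A satisfies a·m ∈ N. In other words the preimage of N** under ι
is contained in the saturation of N in M (the preimage of the torsion submodule of M/N), and the two
coincide when M/N is torsion-free. (The published statement asserts equality of the preimage with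
the saturation for every N; for N = xA inside M = A = k[x] the saturation is all of M while N** has
image xA = N under the identification M** = M, so only the inclusion stated here holds, and it is
the inclusion later used, for saturated N, where the two sides agree.) -/
theorem result (A : Type u) [CommRing A] [IsDomain A]
    [IsNoetherianRing A] [IsIntegrallyClosed A]
    (M : Type u) [AddCommGroup M] [Module A M] [Module.Finite A M] [NoZeroSMulDivisors A M]
    (N : Submodule A M) :
    (LinearMap.range N.subtype.dualMap.dualMap).comap (Module.Dual.eval A M) ≤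
      (Submodule.torsion A (M ⧸ N)).comap N.mkQ := by
  classical
  rintro x ⟨η, hη⟩
  rw [Submodule.mem_comap]
  by_contra hx
  let S := nonZeroDivisors A
  let K := FractionRing A
  let V := LocalizedModule S (M ⧸ N)
  let j := LocalizedModule.mkLinearMap S (M ⧸ N)
  have hjx : j (N.mkQ x) ≠ 0 := by
    intro h
    obtain ⟨s, hs⟩ := (IsLocalizedModule.eq_zero_iff S j).mp h
    exact hx ⟨s, hs⟩
  obtain ⟨l, hl⟩ : ∃ l : V →ₗ[K] K, l (j (N.mkQ x)) ≠ 0 := by
    by_contra! h
    exact hjx ((Module.forall_dual_apply_eq_zero_iff K _).mp h)
  let ρ : (M ⧸ N) →ₗ[A] K := (l.restrictScalars A) ∘ₗ j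
  obtain ⟨gens, hgens⟩ := (Module.Finite.fg_top : (⊤ : Submodule A (M ⧸ N)).FG)
  obtain ⟨b, hb⟩ := IsLocalization.exist_integer_multiples_of_finset S (gens.image ρ)
  have hrange : ∀ y, (b : A) • ρ y ∈ LinearMap.range (Algebra.linearMap A K) := by
    intro y
    have hy : y ∈ Submodule.span A (gens : Set (M ⧸ N)) := hgens ▸ trivial
    induction hy using Submodule.span_induction with
    | mem z hz => exact hb _ (Finset.mem_image_of_mem ρ hz)
    | zero => simp
    | add p q _ _ hp hq => rw [map_add, smul_add]; exact add_mem hp hq
    | smul c p _ hp => rw [map_smul, smul_comm]; exact Submodule.smul_mem _ c hp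
  let e := LinearEquiv.ofInjective (Algebra.linearMap A K) (IsFractionRing.injective A K)
  let φ : (M ⧸ N) →ₗ[A] A := e.symm.toLinearMap ∘ₗ ((b : A) • ρ).codRestrict _ hrange
  have hne : φ (N.mkQ x) ≠ 0 := by
    intro h
    simp only [φ, LinearMap.comp_apply, LinearEquiv.coe_coe, LinearEquiv.map_eq_zero_iff] at h
    have h := congrArg Subtype.val h
    simp only [LinearMap.codRestrict_apply, LinearMap.smul_apply, ZeroMemClass.coe_zero, Algebra.smul_def, mul_eq_zero] at h
    rcases h with h | h
    · exact nonZeroDivisors.ne_zero b.2 ((map_eq_zero_iff _ (IsFractionRing.injective A K)).mp h)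
    · exact hl h
  apply hne
  have := LinearMap.congr_fun hη (φ ∘ₗ N.mkQ)
  have h0 : N.subtype.dualMap (φ ∘ₗ N.mkQ) = 0 := by
    ext n; simp [(Submodule.Quotient.mk_eq_zero N).mpr n.2]
  rw [LinearMap.dualMap_apply] at this
  rw [h0, map_zero] at this
  exact this.symm

end Groth.Agent.S14994
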