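import Groth.Statements.S6039
import Groth.Agent.CAlgH3.SupportDepth
import Mathlib

set_option autoImplicit false
universe u
open CategoryTheory CategoryTheory.Limits TopologicalSpace AlgebraicGeometry Opposite
open LocCohZ

namespace Groth.Agent.S6039

/-- Let X be a locally Noetherian scheme, Y a closed subset with open complement U and M a coherent
O_X-module. Then depth M_x ≥ 2 for every x ∈ Y if and only if, for every open V of X, the
restriction map Γ(V, M) → Γ(V ∩ U, M) is bijective. -/
theorem result (X : Scheme.{u}) [IsLocallyNoetherian X] (U : X.Opens)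
    (M : X.Modules) (hM : Coh.IsCoh M) :
    (∀ x : X, x ∉ (U : Set X) → (2 : ℕ∞) ≤ LocCoh.depth (X.presheaf.stalk x) (M.presheaf.stalk x)) ↔
      ∀ V : X.Opens, Function.Bijective (M.val.map (homOfLE (inf_le_left : V ⊓ U ≤ V)).op).hom := by
  haveI : Coh.IsQCoh M := hM.1
  constructor
  · intro h V
    exact CAlgH3.SupportDepth.bijective_of_vanish (X := X.carrier) (Coh.toAb M) (inf_le_left : V ⊓ U ≤ V)
      fun i hi => (CAlgH3.SupportVanish.isZero_HZsh_iff (X := X.carrier) U (Coh.toAb M) 2).1
        ((CAlgH3.SupportDepth.isZero_iff_depth X U M hM 2).2 h) V i hi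
  · intro h x hx
    obtain ⟨V, hV, hxV, -⟩ := exists_isAffineOpen_mem_and_subset (x := x) (U := ⊤) trivial
    exact (CAlgH3.SupportAffine.vanish_iff_depth M hM hV U 2).1
      (CAlgH3.SupportDepth.vanish_of_bijective (X := X.carrier) (Coh.toAb M) (inf_le_left : V ⊓ U ≤ V)
        (Groth.Agent.Coherent.subsingleton_H'_qcoh_pos M hV le_rfl) (h V)) x hxV hx

end Groth.Agent.S6039
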