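import Groth.Statements.S14995
import Groth.Agent.S6039
-- import your own Groth.Agent.* helpers here

set_option autoImplicit false
universe u
open CategoryTheory CategoryTheory.Limits AlgebraicGeometry
open Coherent

namespace Groth.Agent.S14995

/-- Let Y be a locally Noetherian scheme, E and F coherent O_Y-modules and U an open subset of Y such
that for every point y of Y outside U the stalk E_y has depth at least 2 as a module over the local
ring O_{Y,y}. Then restricting morphisms to U is a bijection from Hom(F, E) onto Hom(F|_U, E|_U).
(The published statement is the case F = E; this row allows any coherent F.) -/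
theorem result (Y : Scheme.{u}) [IsLocallyNoetherian Y]
    (E F : Y.Modules) (hE : Coh.IsCoh E) (hF : Coh.IsCoh F) (U : Y.Opens)
    (hdepth : ∀ y : Y, y ∉ U → (2 : ℕ∞) ≤ LocCoh.depth (Y.presheaf.stalk y) (E.presheaf.stalk y)) :
    Function.Bijective (fun φ : F ⟶ E => (Scheme.Modules.restrictFunctor U.ι).map φ) := by
  let adj := Scheme.Modules.restrictAdjunction U.ι
  haveI : IsIso (adj.unit.app E) := by
    rw [Scheme.Modules.Hom.isIso_iff_isIso_app]
    intro V
    rw [ConcreteCategory.isIso_iff_bijective]
    have key : ∀ {W : Y.Opens} (_ : W = V ⊓ U) (hle : W ≤ V),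
        Function.Bijective (E.val.map (homOfLE hle).op).hom := by
      intro W e hle
      subst e
      exact (Groth.Agent.S6039.result Y U E hE).1 hdepth V
    exact key ((U.ι.image_preimage_eq_opensRange_inf V).trans (by rw [Scheme.Opens.opensRange_ι, inf_comm]))
      (U.ι.image_preimage_le V)
  have e : (fun φ : F ⟶ E => (Scheme.Modules.restrictFunctor U.ι).map φ) =
      (adj.homEquiv F _).symm ∘ fun φ : F ⟶ E => φ ≫ adj.unit.app E := funext fun φ => by
    apply (adj.homEquiv F _).injective
    show _ = (adj.homEquiv F _) ((adj.homEquiv F _).symm _)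
    rw [Equiv.apply_symm_apply, Adjunction.homEquiv_unit]
    exact (adj.unit_naturality φ)
  rw [e]
  exact (adj.homEquiv F _).symm.bijective.comp
    ⟨fun a b hab => (cancel_mono _).mp hab, fun b => ⟨b ≫ inv (adj.unit.app E), by simp⟩⟩
end Groth.Agent.S14995
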