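import Groth.Statements.S14997
import Mathlib
import Groth.Prelude

set_option linter.all false

set_option autoImplicit false
open HilbPol

open CategoryTheory MonoidalCategory

namespace Groth.Agent.S14997

open Polynomial in
/-- Let d and ℓ be natural numbers with ℓ + 1 ≤ d, let a be a nonzero rational number and let P, Q be
polynomials with rational coefficients, both of degree exactly d. For a polynomial R of degree e
write R(m) = Σ_i α_i(R) m^i / i! (so α_i(R) = i! · coeff_i(R)) and let r_ℓ(R) ∈ ℚ^ℓ be the vector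
(α_{e−1}(R)/α_e(R), …, α_{e−ℓ}(R)/α_e(R)) of the ℓ coefficients after the leading one of the reduced
polynomial R/α_e(R), ordered lexicographically. The polynomials P(m) − P(m − a) and Q(m) − Q(m − a)
have degree d − 1, and r_ℓ(P) ≤ r_ℓ(Q) lexicographically if and only if r_ℓ(P(m) − P(m − a)) ≤
r_ℓ(Q(m) − Q(m − a)) lexicographically (hence the same with strict inequalities, by exchanging P and
Q). When P and Q are the Hilbert polynomials of pure d-dimensional coherent sheaves E → F on a
polarized projective scheme and D is a hypersurface section of degree a containing no associated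
point of E or F, the Hilbert polynomials of E|_D and F|_D are P(m) − P(m − a) and Q(m) − Q(m − a),
and the two sides are the comparisons of the ℓ-truncated reduced Hilbert polynomials p_ℓ(E) ≥ p_ℓ(F)
and p_ℓ(E|_D) ≥ p_ℓ(F|_D). (The published statement is phrased for the sheaves; this row is the
statement about their Hilbert polynomials that the displayed coefficient formula yields.) -/
theorem result (d ℓ : ℕ) (hℓ : ℓ + 1 ≤ d) (a : ℚ) (ha : a ≠ 0)
    (P Q : ℚ[X]) (hP : P.natDegree = d) (hQ : Q.natDegree = d) (hP0 : P ≠ 0) (hQ0 : Q ≠ 0) :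
    toLex (fun j : Fin ℓ => ((P).coeff (d - 1 - (j : ℕ)) * (Nat.factorial (d - 1 - (j : ℕ)) : ℚ)) / ((P).coeff (d) * (Nat.factorial (d) : ℚ))) ≤ toLex (fun j : Fin ℓ => ((Q).coeff (d - 1 - (j : ℕ)) * (Nat.factorial (d - 1 - (j : ℕ)) : ℚ)) / ((Q).coeff (d) * (Nat.factorial (d) : ℚ))) ↔
      toLex (fun j : Fin ℓ => ((P - P.comp (X - C a)).coeff ((d - 1) - 1 - (j : ℕ)) * (Nat.factorial ((d - 1) - 1 - (j : ℕ)) : ℚ)) / ((P - P.comp (X - C a)).coeff ((d - 1)) * (Nat.factorial ((d - 1)) : ℚ))) ≤
        toLex (fun j : Fin ℓ => ((Q - Q.comp (X - C a)).coeff ((d - 1) - 1 - (j : ℕ)) * (Nat.factorial ((d - 1) - 1 - (j : ℕ)) : ℚ)) / ((Q - Q.comp (X - C a)).coeff ((d - 1)) * (Nat.factorial ((d - 1)) : ℚ))) := by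
  classical
  let A : Polynomial ℚ → ℕ → ℚ := fun R i => R.coeff i * (i.factorial : ℚ)
  let c : ℕ → ℚ := fun k => (-1) ^ (k + 1) * a ^ k / (k.factorial : ℚ)
  -- coefficients of the difference
  have hdiff : ∀ (R : Polynomial ℚ), R.natDegree = d → ∀ i, i + 1 ≤ d → A (R - R.comp (Polynomial.X - Polynomial.C a)) i = ∑ k ∈ Finset.Icc 1 (d - i), c k * A R (i + k) := by
    intro R hR i hi
    have hcomp : R.comp (Polynomial.X - Polynomial.C a) = ∑ n ∈ Finset.range (d + 1), Polynomial.C (R.coeff n) * (Polynomial.X - Polynomial.C a) ^ n := by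
      rw [Polynomial.comp, Polynomial.eval₂_eq_sum_range' Polynomial.C (show R.natDegree < d + 1 by omega)]
    have hcoef : ∀ n, ((Polynomial.X - Polynomial.C a) ^ n).coeff i = (-a) ^ (n - i) * (n.choose i : ℚ) := fun n => by
      rw [sub_eq_add_neg, ← Polynomial.C_neg, Polynomial.coeff_X_add_C_pow]
    have hsplit : ∑ n ∈ Finset.range (d + 1), R.coeff n * ((-a) ^ (n - i) * (n.choose i : ℚ)) =
        R.coeff i + ∑ k ∈ Finset.Icc 1 (d - i), R.coeff (i + k) * ((-a) ^ k * ((i + k).choose i : ℚ)) := by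
      rw [Finset.range_eq_Ico, ← Finset.sum_Ico_consecutive _ (Nat.zero_le i) (show i ≤ d + 1 by omega)]
      rw [Finset.sum_eq_zero (s := Finset.Ico 0 i) (fun n hn => by rw [Nat.choose_eq_zero_of_lt (Finset.mem_Ico.1 hn).2]; simp), zero_add]
      rw [Finset.sum_eq_sum_Ico_succ_bot (show i < d + 1 by omega)]
      congr 1
      · simp
      · refine Finset.sum_bij (fun n _ => n - i) (fun n hn => ?_) (fun n hn n' hn' h => ?_) (fun k hk => ⟨i + k, ?_, by omega⟩) (fun n hn => ?_)
        all_goals simp only [Finset.mem_Ico, Finset.mem_Icc] at *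
        · omega
        · omega
        · omega
        · rw [Nat.add_sub_cancel' (by omega)]
    show (R - R.comp (Polynomial.X - Polynomial.C a)).coeff i * (i.factorial : ℚ) = _
    rw [Polynomial.coeff_sub, hcomp, Polynomial.finsetSum_coeff]
    simp only [Polynomial.coeff_C_mul, hcoef]
    rw [hsplit, sub_add_cancel_left, neg_mul, Finset.sum_mul, ← Finset.sum_neg_distrib]
    refine Finset.sum_congr rfl fun k hk => ?_
    have hf : ((i + k).factorial : ℚ) = ((i + k).choose i : ℚ) * (i.factorial : ℚ) * (k.factorial : ℚ) := by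
      rw [Nat.choose_symm_add]
      exact_mod_cast (Nat.add_choose_mul_factorial_mul_factorial i k).symm
    have hk0 : (k.factorial : ℚ) ≠ 0 := by exact_mod_cast k.factorial_ne_zero
    simp only [c, A]
    rw [hf, neg_pow]
    field_simp
    ring
  have hc1 : c 1 = a := by simp [c]
  have hA : ∀ (R : Polynomial ℚ), R.natDegree = d → R ≠ 0 → A R d ≠ 0 := fun R hR hR0 => by
    refine mul_ne_zero ?_ (by exact_mod_cast d.factorial_ne_zero)
    rw [← hR]; exact Polynomial.leadingCoeff_ne_zero.2 hR0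
  let r : Polynomial ℚ → ℕ → ℚ := fun R j => A R (d - 1 - j) / A R d
  have hform : ∀ (R : Polynomial ℚ), R.natDegree = d → R ≠ 0 → ∀ j, j + 1 < d →
      A (R - R.comp (Polynomial.X - Polynomial.C a)) (d - 1 - 1 - j) / A (R - R.comp (Polynomial.X - Polynomial.C a)) (d - 1) =
        r R j + (∑ k ∈ Finset.Icc 2 (j + 1), c k / a * r R (j + 1 - k)) + c (j + 2) / a := by
    intro R hR hR0 j hj
    rw [hdiff R hR _ (by omega), hdiff R hR _ (by omega), show d - (d - 1) = 1 by omega, Finset.Icc_self, Finset.sum_singleton,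
      hc1, show d - 1 + 1 = d by omega, show d - (d - 1 - 1 - j) = j + 1 + 1 by omega,
      Finset.sum_Icc_succ_top (by omega), ← Finset.add_sum_Ioc_eq_sum_Icc (by omega : 1 ≤ j + 1), ← Finset.Icc_succ_left_eq_Ioc]
    have h0 := hA R hR hR0
    rw [show d - 1 - 1 - j + 1 = d - 1 - j by omega, show d - 1 - 1 - j + (j + 1 + 1) = d by omega, hc1, add_div, add_div, Finset.sum_div]
    refine congrArg₂ (· + ·) (congrArg₂ (· + ·) ?_ (Finset.sum_congr rfl fun k hk => ?_)) ?_
    · simp only [r]; field_simp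
    · obtain ⟨hk1, hk2⟩ := Finset.mem_Icc.1 hk
      have hk1' : 2 ≤ k := hk1
      simp only [r]
      rw [show d - 1 - 1 - j + k = d - 1 - (j + 1 - k) by omega]
      field_simp
    · field_simp
  have key : ∀ (R S : Polynomial ℚ), R.natDegree = d → R ≠ 0 → S.natDegree = d → S ≠ 0 →
      toLex (fun j : Fin ℓ => r R j) < toLex (fun j : Fin ℓ => r S j) →
      toLex (fun j : Fin ℓ => A (R - R.comp (Polynomial.X - Polynomial.C a)) (d - 1 - 1 - j) / A (R - R.comp (Polynomial.X - Polynomial.C a)) (d - 1)) <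
        toLex (fun j : Fin ℓ => A (S - S.comp (Polynomial.X - Polynomial.C a)) (d - 1 - 1 - j) / A (S - S.comp (Polynomial.X - Polynomial.C a)) (d - 1)) := by
    intro R S hR hR0 hS hS0 hlt
    obtain ⟨i, hi, hi'⟩ := hlt
    have hsum : ∀ j : Fin ℓ, j ≤ i → ∑ k ∈ Finset.Icc 2 ((j : ℕ) + 1), c k / a * r R ((j : ℕ) + 1 - k) = ∑ k ∈ Finset.Icc 2 ((j : ℕ) + 1), c k / a * r S ((j : ℕ) + 1 - k) := by
      intro j hj
      refine Finset.sum_congr rfl fun k hk => ?_
      obtain ⟨hk1, hk2⟩ := Finset.mem_Icc.1 hk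
      have hlt' : (j : ℕ) + 1 - k < i := by have : (j : ℕ) ≤ i := hj; omega
      have := hi ⟨(j : ℕ) + 1 - k, by omega⟩ hlt'
      simp only [toLex, Equiv.coe_refl, id] at this
      exact congrArg _ this
    refine ⟨i, fun j hj => ?_, ?_⟩
    · show A _ _ / A _ _ = A _ _ / A _ _
      rw [hform R hR hR0 j (by omega), hform S hS hS0 j (by omega), hsum j hj.le]
      have := hi j hj
      exact congrArg (fun z => z + _ + _) this
    · show A _ _ / A _ _ < A _ _ / A _ _
      rw [hform R hR hR0 i (by omega), hform S hS hS0 i (by omega), hsum i le_rfl]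
      exact add_lt_add_of_lt_of_le (add_lt_add_of_lt_of_le hi' le_rfl) le_rfl
  constructor
  · intro h
    rcases h.eq_or_lt with he | hlt
    · refine le_of_eq (congrArg toLex (funext fun j => ?_))
      show A _ _ / A _ _ = A _ _ / A _ _
      have hrj : ∀ i : Fin ℓ, r P i = r Q i := fun i => congrFun (toLex.injective he) i
      rw [hform P hP hP0 j (by omega), hform Q hQ hQ0 j (by omega), hrj j]
      refine congrArg (fun z => _ + z + _) (Finset.sum_congr rfl fun k hk => ?_)
      obtain ⟨hk1, hk2⟩ := Finset.mem_Icc.1 hk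
      rw [hrj ⟨(j : ℕ) + 1 - k, by omega⟩]
    · exact (key P Q hP hP0 hQ hQ0 hlt).le
  · intro h
    by_contra hcon
    exact absurd h (not_le.2 (key Q P hQ hQ0 hP hP0 (not_le.1 hcon)))

end Groth.Agent.S14997
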