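import Groth.Statements.S14998
import Groth.Agent.ValExtLib.Criterion

set_option linter.style.haveILetI false

set_option autoImplicit false
universe u
open CategoryTheory CategoryTheory.Limits AlgebraicGeometry
open AlgGrp

namespace Groth.Agent.S14998


open CategoryTheory AlgebraicGeometry in
theorem app1 {A B C : Scheme.{u}} {a : A ⟶ B} {b : B ⟶ C} {c : A ⟶ C} (h : a ≫ b = c) (x : A) : b (a x) = c x := by
  rw [← h, Scheme.Hom.comp_apply]

open CategoryTheory AlgebraicGeometry in
theorem app2 {A B B' C : Scheme.{u}} {a : A ⟶ B} {b : B ⟶ C} {c : A ⟶ B'} {d : B' ⟶ C} (h : a ≫ b = c ≫ d)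
    (x : A) : b (a x) = d (c x) := by
  rw [app1 h, Scheme.Hom.comp_apply]

open CategoryTheory CategoryTheory.Limits AlgebraicGeometry in
theorem map_fst {R S T T' : Scheme.{u}} (f : R ⟶ S) (q : S ⟶ T) (π : T' ⟶ T) :
    pullback.map (f ≫ q) π q π f (𝟙 _) (𝟙 _) (by simp) (by simp) ≫ pullback.fst q π =
      pullback.fst (f ≫ q) π ≫ f :=
  pullback.lift_fst _ _ _

open CategoryTheory CategoryTheory.Limits AlgebraicGeometry in
theorem map_snd {R S T T' : Scheme.{u}} (f : R ⟶ S) (q : S ⟶ T) (π : T' ⟶ T) :
    pullback.map (f ≫ q) π q π f (𝟙 _) (𝟙 _) (by simp) (by simp) ≫ pullback.snd q π =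
      pullback.snd (f ≫ q) π :=
  (pullback.lift_snd _ _ _).trans (Category.comp_id _)

open CategoryTheory CategoryTheory.Limits AlgebraicGeometry IsLocalRing in
/-- The DVR step: a specialisation in a base change of `T` below a point of `R` lifts to the image of `R`. -/
theorem exists_specializes {R S T T' : Scheme.{u}} (f : R ⟶ S) (q : S ⟶ T) (π : T' ⟶ T)
    [IsLocallyNoetherian T] [LocallyOfFiniteType π] [LocallyOfFiniteType (f ≫ q)]
    (H : ∀ (A : Type u) [CommRing A] [IsDomain A] [IsDiscreteValuationRing A]
      (x : Spec (CommRingCat.of (FractionRing A)) ⟶ R) (y : Spec (CommRingCat.of A) ⟶ T),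
      x ≫ f ≫ q = Spec.map (CommRingCat.ofHom (algebraMap A (FractionRing A))) ≫ y →
      ∃ l : Spec (CommRingCat.of A) ⟶ R, l ≫ f ≫ q = y ∧
        Spec.map (CommRingCat.ofHom (algebraMap A (FractionRing A))) ≫ l ≫ f = x ≫ f)
    (x : ↥(pullback (f ≫ q) π)) (w : T') (hw : pullback.snd (f ≫ q) π x ⤳ w) :
    ∃ x₁ : ↥(pullback (f ≫ q) π), pullback.snd (f ≫ q) π x₁ = w ∧
      pullback.map (f ≫ q) π q π f (𝟙 _) (𝟙 _) (by simp) (by simp) x ⤳
        pullback.map (f ≫ q) π q π f (𝟙 _) (𝟙 _) (by simp) (by simp) x₁ := by
  rcases eq_or_ne w (pullback.snd (f ≫ q) π x) with rfl | hne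
  · exact ⟨x, rfl, specializes_rfl⟩
  haveI : IsLocallyNoetherian T' := LocallyOfFiniteType.isLocallyNoetherian π
  obtain ⟨V, h, hV, hc, hgen⟩ := Groth.Agent.ValExtLib.exists_dvr_valuationSubring
    (pullback.snd (f ≫ q) π) x hw hne
  let P := pullback (f ≫ q) π
  let E := FractionRing.algEquiv V (P.residueField x)
  let e : P.residueField x ⟶ CommRingCat.of (FractionRing V) :=
    CommRingCat.ofHom E.symm.toRingEquiv.toRingHom
  have hfr : CommRingCat.ofHom V.subtype ≫ e = CommRingCat.ofHom (algebraMap V (FractionRing V)) := by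
    ext v; exact E.symm.commutes v
  let g : Spec (CommRingCat.of (FractionRing V)) ⟶ P := Spec.map e ≫ P.fromSpecResidueField x
  obtain ⟨l, hl, hlg⟩ := H V (g ≫ pullback.fst (f ≫ q) π) (h ≫ π) (by
    rw [← hfr, Spec.map_comp_assoc, reassoc_of% hgen, Category.assoc, pullback.condition]
    simp only [g, Category.assoc, P])
  let L : Spec (CommRingCat.of V) ⟶ P := pullback.lift l h hl
  refine ⟨L (closedPoint V), ?_, ?_⟩
  · exact (congrArg (fun z : Spec (CommRingCat.of V) ⟶ T' => z (closedPoint V)) (pullback.lift_snd l h hl)).trans hc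
  set m := pullback.map (f ≫ q) π q π f (𝟙 _) (𝟙 _) (by simp) (by simp)
  have hgenL : (Spec.map (CommRingCat.ofHom (algebraMap V (FractionRing V))) ≫ L) ≫ m = g ≫ m := by
    apply pullback.hom_ext
    · simp only [L, m, pullback.map, Category.assoc, pullback.lift_fst, pullback.lift_fst_assoc]
      rw [hlg, Category.assoc]
    · simp only [L, m, pullback.map, Category.assoc, Category.comp_id, pullback.lift_snd, pullback.lift_snd_assoc]
      rw [← hfr, Spec.map_comp_assoc, hgen]
      simp only [g, Category.assoc, P]
  let c : ↥(Spec (CommRingCat.of (FractionRing V))) := closedPoint (FractionRing V)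
  have hx : g c = x :=
    (app1 (a := Spec.map e) (b := P.fromSpecResidueField x) rfl c).symm.trans
      (Scheme.fromSpecResidueField_apply x _)
  have h0 := app2 hgenL c
  rw [hx, ← app1 (a := Spec.map (CommRingCat.ofHom (algebraMap V (FractionRing V)))) (b := L) rfl c] at h0
  exact (specializes_of_eq h0.symm).trans (((IsLocalRing.specializes_closedPoint _).map L.continuous).map m.continuous)

/-- Let k be a field and G a group scheme over k (a group object of schemes over Spec k) acting on a
k-scheme R of finite type. Let f : R → S and q : S → T be morphisms of k-schemes of finite type such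
that q is separated, f is invariant under the action, and the composite p = q ∘ f is G-universally
closed: p is invariant and for every discrete valuation ring A over k with fraction field K, every
K-point of R and A-point of T over k forming a commutative square with p admit an A-point of R over
T restricting on Spec K to a translate of the given K-point by a K-point of G. Then the
set-theoretic image f(R) is closed in S, and the reduced closed subscheme of S with underlying set
f(R) is proper over T. (The published statement fixes a connected algebraic group over the complex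
numbers; this row allows any group scheme over any field, which is what the printed argument uses.) -/
theorem result (k : Type u) [Field k]
    (G R S T : Over (Spec (CommRingCat.of k))) [GrpObj G]
    [LocallyOfFiniteType R.hom] [CompactSpace ↥R.left] [LocallyOfFiniteType S.hom] [CompactSpace ↥S.left]
    [LocallyOfFiniteType T.hom] [CompactSpace ↥T.left]
    (a : AlgGrp.Action G R) (f : R ⟶ S) (q : S ⟶ T) [IsSeparated q.left]
    (hf : W4c2lssmoduli.IsInvariantMor a f) (hp : W4c2lssmoduli.IsGUnivClosed a (f ≫ q)) :
    IsClosed (Set.range f.left.base) ∧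
      IsProper ((Scheme.IdealSheafData.vanishingIdeal
          (⟨closure (Set.range f.left.base), isClosed_closure⟩ : TopologicalSpace.Closeds ↥S.left)).subschemeι ≫ q.left) := by
  haveI : IsLocallyNoetherian T.left := LocallyOfFiniteType.isLocallyNoetherian T.hom
  haveI : IsLocallyNoetherian S.left := LocallyOfFiniteType.isLocallyNoetherian S.hom
  haveI : IsLocallyNoetherian R.left := LocallyOfFiniteType.isLocallyNoetherian R.hom
  haveI : LocallyOfFiniteType (q.left ≫ T.hom) := by rw [Over.w q]; infer_instance
  haveI : LocallyOfFiniteType q.left := locallyOfFiniteType_of_comp q.left T.hom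
  haveI : LocallyOfFiniteType ((f.left ≫ q.left) ≫ T.hom) := by
    rw [Category.assoc, Over.w q, Over.w f]; infer_instance
  haveI : LocallyOfFiniteType (f.left ≫ q.left) := locallyOfFiniteType_of_comp (f.left ≫ q.left) T.hom
  haveI : IsNoetherian R.left := ⟨⟩
  haveI : IsNoetherian S.left := ⟨⟩
  haveI : QuasiCompact f.left := inferInstance
  have H : ∀ (A : Type u) [CommRing A] [IsDomain A] [IsDiscreteValuationRing A]
      (x : Spec (CommRingCat.of (FractionRing A)) ⟶ R.left) (y : Spec (CommRingCat.of A) ⟶ T.left),
      x ≫ f.left ≫ q.left = Spec.map (CommRingCat.ofHom (algebraMap A (FractionRing A))) ≫ y →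
      ∃ l : Spec (CommRingCat.of A) ⟶ R.left, l ≫ f.left ≫ q.left = y ∧
        Spec.map (CommRingCat.ofHom (algebraMap A (FractionRing A))) ≫ l ≫ f.left = x ≫ f.left := by
    intro A _ _ _ x y hxy
    let g : Over.mk (Spec.map (CommRingCat.ofHom (algebraMap A (FractionRing A))) ≫ y ≫ T.hom) ⟶ R :=
      Over.homMk x (by
        show x ≫ R.hom = _
        rw [← Over.w f, ← Over.w q]
        exact (reassoc_of% hxy) T.hom)
    let h : Over.mk (y ≫ T.hom) ⟶ T := Over.homMk y rfl
    obtain ⟨i, γ, hi, hiK⟩ := hp.2 A (FractionRing A) (y ≫ T.hom) g h (Over.OverMorphism.ext hxy)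
    refine ⟨i.left, congrArg CommaMorphism.left hi, ?_⟩
    have e := congrArg (· ≫ f) hiK
    simp only [Category.assoc] at e
    rw [show a.act ≫ f = CartesianMonoidalCategory.snd G R ≫ f from hf, CartesianMonoidalCategory.lift_snd_assoc] at e
    exact congrArg CommaMorphism.left e
  -- the image is closed
  have hclosed : IsClosed (Set.range f.left.base) := by
    refine isClosed_iff_clusterPt.2 fun s hs => ?_
    have hs' : s ∈ closure (Set.range f.left) := mem_closure_iff_clusterPt.2 hs
    obtain ⟨r, hr⟩ := Groth.Agent.ValCritLib.exists_specializes_of_mem_closure f.left s hs'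
    let x : ↥(pullback (f.left ≫ q.left) q.left) :=
      (pullback.lift (f := f.left ≫ q.left) (g := q.left) (𝟙 R.left) f.left (by simp)).base r
    have hx : pullback.snd (f.left ≫ q.left) q.left x = f.left r := by
      show (pullback.lift (𝟙 R.left) f.left (by simp) ≫ pullback.snd (f.left ≫ q.left) q.left) r = _
      rw [pullback.lift_snd]
    obtain ⟨x₁, hx₁, hsp⟩ := exists_specializes f.left q.left q.left H x s (hx.symm ▸ hr)
    set m := pullback.map (f.left ≫ q.left) q.left q.left q.left f.left (𝟙 _) (𝟙 _) (by simp) (by simp)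
    have hd : pullback.lift (f := f.left ≫ q.left) (g := q.left) (𝟙 R.left) f.left (by simp) ≫ m =
        f.left ≫ pullback.diagonal q.left := by
      apply pullback.hom_ext
      · rw [Category.assoc, map_fst, pullback.lift_fst_assoc, Category.id_comp, Category.assoc,
          pullback.diagonal_fst, Category.comp_id]
      · rw [Category.assoc, map_snd, pullback.lift_snd, Category.assoc, pullback.diagonal_snd, Category.comp_id]
    have hxd : m x = pullback.diagonal q.left (f.left r) := app2 hd r
    obtain ⟨z, hz⟩ := hsp.mem_closed (pullback.diagonal q.left).isClosedEmbedding.isClosed_range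
      ⟨f.left r, hxd.symm⟩
    refine ⟨pullback.fst (f.left ≫ q.left) q.left x₁, ?_⟩
    have e1 : pullback.fst q.left q.left (m x₁) = f.left (pullback.fst (f.left ≫ q.left) q.left x₁) :=
      app2 (map_fst _ _ _) x₁
    have e2 : pullback.snd q.left q.left (m x₁) = s := (app1 (map_snd _ _ _) x₁).trans hx₁
    rw [← hz] at e1 e2
    have e3 : pullback.fst q.left q.left (pullback.diagonal q.left z) = pullback.snd q.left q.left (pullback.diagonal q.left z) := by
      rw [← Scheme.Hom.comp_apply, ← Scheme.Hom.comp_apply, pullback.diagonal_fst, pullback.diagonal_snd]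
    exact e1.symm.trans (e3.trans e2)
  refine ⟨hclosed, ?_⟩
  set I := Scheme.IdealSheafData.vanishingIdeal
    (⟨closure (Set.range f.left.base), isClosed_closure⟩ : TopologicalSpace.Closeds ↥S.left)
  have hI : Set.range I.subschemeι = Set.range f.left := by
    rw [Scheme.IdealSheafData.range_subschemeι, Scheme.IdealSheafData.coe_support_vanishingIdeal]
    simp only [TopologicalSpace.Closeds.coe_mk, closure_closure]
    exact hclosed.closure_eq
  have huc : UniversallyClosed (I.subschemeι ≫ q.left) := by
    refine Groth.Agent.UCLib.universallyClosed_of_affineSpace _ fun n => ?_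
    let π := 𝔸(ULift.{u} (Fin n); T.left) ↘ T.left
    haveI : LocallyOfFiniteType π := inferInstance
    haveI : QuasiCompact (pullback.snd (I.subschemeι ≫ q.left) π) := inferInstance
    refine (isClosedMap_iff_specializingMap _).mpr fun z w hw => ?_
    let j := pullback.map (I.subschemeι ≫ q.left) π q.left π I.subschemeι (𝟙 _) (𝟙 _) (by simp) (by simp)
    let m := pullback.map (f.left ≫ q.left) π q.left π f.left (𝟙 _) (𝟙 _) (by simp) (by simp)
    obtain ⟨r, hr⟩ := hI.subset ⟨pullback.fst (I.subschemeι ≫ q.left) π z, rfl⟩
    have hjz : pullback.fst q.left π (j z) = f.left r := (app2 (map_fst _ _ _) z).trans hr.symm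
    -- a point above `j z` in the base change of `R`
    obtain ⟨x, hxz⟩ : ∃ x, m x = j z := by
      have hpb : IsPullback (pullback.fst (f.left ≫ q.left) π) m f.left (pullback.fst q.left π) := by
        refine IsPullback.of_bot ?_ (map_fst _ _ _).symm ((IsPullback.of_hasPullback q.left π).flip).flip
        have : m ≫ pullback.snd q.left π = pullback.snd (f.left ≫ q.left) π := map_snd _ _ _
        rw [this]
        exact IsPullback.of_hasPullback _ _
      obtain ⟨y, -, hy⟩ := Scheme.Pullback.exists_preimage_pullback r (j z) hjz.symm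
      exact ⟨hpb.isoPullback.inv y, by rw [← Scheme.Hom.comp_apply, hpb.isoPullback_inv_snd]; exact hy⟩
    obtain ⟨x₁, hx₁, hsp⟩ := exists_specializes f.left q.left π H x w (by
      have : m ≫ pullback.snd q.left π = pullback.snd (f.left ≫ q.left) π := map_snd _ _ _
      rw [← this, Scheme.Hom.comp_apply, hxz, ← Scheme.Hom.comp_apply]
      have : j ≫ pullback.snd q.left π = pullback.snd (I.subschemeι ≫ q.left) π := map_snd _ _ _
      rw [this]
      exact hw)
    haveI : IsClosedImmersion j := by
      have hpb : IsPullback (pullback.fst (I.subschemeι ≫ q.left) π) j I.subschemeι (pullback.fst q.left π) := by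
        refine IsPullback.of_bot ?_ (map_fst _ _ _).symm ((IsPullback.of_hasPullback q.left π).flip).flip
        have : j ≫ pullback.snd q.left π = pullback.snd (I.subschemeι ≫ q.left) π := map_snd _ _ _
        rw [this]
        exact IsPullback.of_hasPullback _ _
      exact MorphismProperty.of_isPullback hpb inferInstance
    have hjx : j z ⤳ m x₁ := hxz ▸ hsp
    obtain ⟨z₁, hz₁⟩ := hjx.mem_closed j.isClosedEmbedding.isClosed_range ⟨z, rfl⟩
    refine ⟨z₁, j.isClosedEmbedding.isInducing.specializes_iff.1 (hz₁.symm ▸ hjx), ?_⟩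
    rw [← hx₁]
    have e1 : j ≫ pullback.snd q.left π = pullback.snd (I.subschemeι ≫ q.left) π := map_snd _ _ _
    have e2 : m ≫ pullback.snd q.left π = pullback.snd (f.left ≫ q.left) π := map_snd _ _ _
    rw [← e1, ← e2, Scheme.Hom.comp_apply, Scheme.Hom.comp_apply, hz₁]
  exact { }

end Groth.Agent.S14998
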