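import Groth.Statements.S14999
import Groth.Agent.AlgGrpLib.InvariantsFinite

set_option autoImplicit false
universe u
open CategoryTheory CategoryTheory.Limits AlgebraicGeometry
open AlgGrp

namespace Groth.Agent.S14999

/-- Let k be a field, A a finitely generated k-algebra and G a group scheme over k acting on an integral
k-scheme Y of finite type; let p : Y → Spec A be a morphism over k which is G-universally closed
(invariant under the action, and for every discrete valuation ring over k with fraction field K
every commutative square of a K-point of Y and a point of Spec A with values in that ring lifts, up
to translation of the K-point by a K-point of G, to a point of Y with values in the ring). Call a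
global function s on Y invariant when its pullbacks along the action morphism and along the
projection G ×_k Y → Y agree. Then the invariant global functions form a finite A-module: there are
finitely many invariant functions such that every invariant function is a linear combination of them
with coefficients from A (acting on Γ(Y, O_Y) through p). (The published statement is for an
integral G-stable closed subscheme Y of a G-universally closed scheme over Spec A, with k the
complex numbers and G a connected algebraic group; such a Y is itself G-universally closed over Spec
A, and the printed argument uses only a field k and a group scheme G.) -/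
theorem result (k : Type u) [Field k]
    (G Y : Over (Spec (CommRingCat.of k))) [GrpObj G]
    [LocallyOfFiniteType Y.hom] [CompactSpace ↥Y.left] [IsIntegral Y.left]
    (A : Type u) [CommRing A] [Algebra k A] [Algebra.FiniteType k A]
    (a : AlgGrp.Action G Y)
    (p : Y ⟶ Over.mk (Spec.map (CommRingCat.ofHom (algebraMap k A))))
    (hp : W4c2lssmoduli.IsGUnivClosed a p) :
    ∃ t : Finset ↑Γ(Y.left, ⊤),
      (∀ s ∈ t, a.act.left.appTop s = (CartesianMonoidalCategory.snd G Y).left.appTop s) ∧
      ∀ s : ↑Γ(Y.left, ⊤), a.act.left.appTop s = (CartesianMonoidalCategory.snd G Y).left.appTop s →
        ∃ c : ↑Γ(Y.left, ⊤) → A,
          s = ∑ x ∈ t, ((Scheme.ΓSpecIso (CommRingCat.of A)).inv ≫ p.left.appTop) (c x) * x := by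
  exact Groth.Agent.AlgGrpLib.InvariantsFinite.exists_finite A a p hp

end Groth.Agent.S14999
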