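import Groth.Statements.S1500
import Groth.Agent.FlatMor12.AmpleRestrict
import Groth.Agent.KLLib.Basic
import Groth.Agent.VarietyLib.Dual
import Groth.Agent.ModPairLib.EffCartier

set_option autoImplicit false
universe u
open FlatMor

namespace Groth.Agent.S1500

open AlgebraicGeometry CategoryTheory Limits in
/-- Let D_1, …, D_m be effective Cartier divisors on X (ideal sheaves locally generated by a
nonzerodivisor) with empty common support, and L_1, …, L_m invertible O_X-modules with L_i ample on
the open complement of D_i. Then X has an ample family of invertible modules. -/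
theorem result {X : Scheme.{u}} {m : ℕ} (D : Fin m → X.IdealSheafData)
    (hD : ∀ i, BlowUp.IsEffCartierIdeal (D i)) (hcap : ⋂ i, ((D i).support : Set ↑X) = ∅)
    (L : Fin m → X.Modules) (hL : ∀ i, PicF.IsInvertible (L i)) (hamp : ∀ i, CohB1.IsAmple ((L i).restrict (Scheme.Opens.ι (D i).support.compl))) :
    MoreMor.HasAmpleFamily X := by
  have hcov : ∀ x : X, ∃ i, x ∈ (D i).support.compl := fun x => by
    by_contra h
    push Not at h
    exact (Set.eq_empty_iff_forall_notMem.1 hcap x) (Set.mem_iInter.2 fun i => not_not.1 (h i))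
  have hc : ∀ i, IsCompact ((D i).support.compl : Set X) := fun i =>
    isCompact_iff_compactSpace.2 (hamp i).2.1
  have : CompactSpace X := by
    refine ⟨?_⟩
    have : (Set.univ : Set X) = ⋃ i, ((D i).support.compl : Set X) :=
      (Set.eq_univ_of_forall fun x => Set.mem_iUnion.2 (hcov x)).symm
    rw [this]
    exact isCompact_iUnion hc
  have : QuasiSeparatedSpace X := by
    rw [quasiSeparatedSpace_iff_forall_affineOpens]
    intro A B
    have heq : (A.1 ∩ B.1 : Set X) = ⋃ i, (((D i).support.compl ⊓ A.1 : X.Opens) : Set X) ∩ ((D i).support.compl ⊓ B.1 : X.Opens) := by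
      ext z
      simp only [Set.mem_iUnion, Set.mem_inter_iff]
      exact ⟨fun hz => let ⟨i, hi⟩ := hcov z; ⟨i, ⟨hi, hz.1⟩, hi, hz.2⟩, fun ⟨i, h1, h2⟩ => ⟨h1.2, h2.2⟩⟩
    rw [heq]
    refine isCompact_iUnion fun i => ?_
    haveI := Groth.Agent.ModPairLib.isAffineHom_interior (hD i)
    have haff : ∀ C : X.affineOpens, IsAffineOpen ((D i).support.compl ⊓ C.1) := fun C => by
      have h1 := (C.2.preimage (ModPair.interior (D i)).ι).image_of_isOpenImmersion (ModPair.interior (D i)).ι
      rwa [Scheme.Hom.image_preimage_eq_opensRange_inf, Scheme.Opens.opensRange_ι] at h1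
    have hqs : IsQuasiSeparated ((D i).support.compl : Set X) := by
      obtain ⟨h1, h2, h3⟩ := Groth.Agent.AmpleLib.isAmple_iff_affGlocus.1 (hamp i)
      have := Groth.Agent.AmpleLib.quasiSeparatedSpace_of_affGlocus h1 h3
      exact (isQuasiSeparated_iff_quasiSeparatedSpace _ (D i).support.compl.isOpen).2 this
    exact hqs _ _ Set.inter_subset_left ((D i).support.compl ⊓ A.1).2 (haff A).isCompact
      Set.inter_subset_left ((D i).support.compl ⊓ B.1).2 (haff B).isCompact
  refine Groth.Agent.FlatMor12.AmpleFamily.hasAmpleFamily_of fun x => ?_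
  obtain ⟨i, hi⟩ := hcov x
  have hinv := Groth.Agent.FlatMor12.IdealModGen.isInvertible_idealMod _ (hD i)
  obtain ⟨M, ⟨e⟩⟩ := Groth.Agent.VarietyLib.exists_isInverseOf hinv
  have hM : PicF.IsInvertible M := Groth.Agent.PicLib.PicM.isInvertible_of_tensor hinv
    (Groth.Agent.KLLib.isInvertible_of_iso e.symm Groth.Agent.AmpleLib.isInvertible_structureModule)
  obtain ⟨σ, hσ⟩ := Groth.Agent.FlatMor12.IdealModGen.exists_section_of_effCartier _ (hD i) hM
    ⟨Groth.Agent.AmpleLib.tensorComm _ _ ≪≫ e⟩
  exact Groth.Agent.FlatMor12.AmpleFamily.exists_locus_of_isAmple_restrict (hL i) hM σ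
    (TopologicalSpace.Opens.ext hσ) (hamp i) hi

end Groth.Agent.S1500
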