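import Groth.Statements.S15002
import Groth.Agent.EulerLib.SlopeBasic
import Groth.Agent.EulerLib.Scalar
import Groth.Agent.EulerLib.IntPoly
import Groth.Agent.PicTau27.Bounded
import Groth.Agent.SerreDual.Projective

set_option autoImplicit false
universe u
open CategoryTheory CategoryTheory.Limits AlgebraicGeometry
open Coherent

open Groth.Agent Groth.Agent.EulerLib Groth.Agent.Coherent StabCat
set_option backward.isDefEq.respectTransparency.types false

namespace Groth.Agent.S15002

open Polynomial in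
/-- Let k be an algebraically closed field and X an integral scheme, smooth and proper over k, with a
closed immersion ι into projective N-space over k compatible with the structure maps; write E(m) = E
⊗ ι^*O(m). Let 1 ≤ ℓ ≤ d and let E be a coherent O_X-module whose Hilbert polynomial P (χ(E(m)) =
P(m) for all integers m) is nonzero of degree d, which is pure of dimension d (every nonzero
coherent subsheaf of E has support of Krull dimension d) and ℓ-stable: writing R(m) = Σ_i α_i(R)
m^i/i! for a polynomial R, for every coherent subsheaf F of E with Hilbert polynomial Q such that 0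
< α_d(Q) < α_d(P), the vector (α_{d−1}(Q)/α_d(Q), …, α_{d−ℓ}(Q)/α_d(Q)) is strictly smaller than
(α_{d−1}(P)/α_d(P), …, α_{d−ℓ}(P)/α_d(P)) in the lexicographic order. Then E is simple: every
endomorphism φ of E is multiplication by a scalar, i.e. there is c ∈ k with φ(s) = c·s for every
local section s of E. (The published statement gives more generally, for such E, that the
endomorphisms of the restriction of E to the complement of any closed subset meeting the support of
E in codimension at least ℓ + 1 are the scalars; this row is the case of the empty closed subset.) -/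
theorem result (k : Type u) [Field k] [IsAlgClosed k]
    (X : Scheme.{u}) [X.Over (Spec (CommRingCat.of k))] [IsIntegral X]
    [Smooth (X ↘ Spec (CommRingCat.of k))] [IsProper (X ↘ Spec (CommRingCat.of k))]
    (N : ℕ) (ι : X ⟶ CohB1.ProjSpace N k) [IsClosedImmersion ι] (hι : ι ≫ CohB1.ProjSpace.toSpec N k = X ↘ Spec (CommRingCat.of k))
    (d ℓ : ℕ) (hℓ : 1 ≤ ℓ) (hℓd : ℓ ≤ d)
    (E : X.Modules) (hE : Coh.IsCoh E) (P : ℚ[X]) (hPd : P.natDegree = d) (hP0 : P ≠ 0)
    (hP : ∀ m : ℤ, (Curv2.euler k X (Pic13.twistOn k ι E m) : ℚ) = P.eval (m : ℚ))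
    (hpure : ∀ (F : X.Modules) (j : F ⟶ E), Mono j → Coh.IsCoh F → ¬ IsZero F →
      topologicalKrullDim (CohB1.support F) = (d : WithBot ℕ∞))
    (hst : ∀ (F : X.Modules) (j : F ⟶ E), Mono j → Coh.IsCoh F → ∀ Q : ℚ[X],
      (∀ m : ℤ, (Curv2.euler k X (Pic13.twistOn k ι F m) : ℚ) = Q.eval (m : ℚ)) →
        0 < Q.coeff d → Q.coeff d < P.coeff d →
          toLex (fun j : Fin ℓ => ((Q).coeff (d - 1 - (j : ℕ)) * (Nat.factorial (d - 1 - (j : ℕ)) : ℚ)) / ((Q).coeff d * (Nat.factorial d : ℚ))) < toLex (fun j : Fin ℓ => ((P).coeff (d - 1 - (j : ℕ)) * (Nat.factorial (d - 1 - (j : ℕ)) : ℚ)) / ((P).coeff d * (Nat.factorial d : ℚ))))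
    (φ : E ⟶ E) :
    ∃ c : k, ∀ (V : X.Opens) (s : E.val.obj (Opposite.op V)),
      (φ.val.app (Opposite.op V)) s = (X.ringCatSheaf.obj.map (homOfLE (le_top : V ≤ ⊤)).op (Coh.toGlobal (X ↘ Spec (CommRingCat.of k)) c : X.ringCatSheaf.obj.obj (Opposite.op ⊤))) • s := by
  haveI := isNoetherian_of_proper (X := X) k
  let L := (Scheme.Modules.pullback ι).obj (Twist.twistProjSpace N k 1)
  have hL : CohB1.IsAmple L :=
    AmpleLib.isAmple_pullback_of_isAffineHom ι (SerreDual.isAmple_projSpace_one N k)
  obtain ⟨r, hr⟩ := exists_dim_le k (Set.univ : Set X)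
  have hr' : topologicalKrullDim X ≤ r :=
    ((IsHomeomorph.topologicalKrullDim_eq _ (Homeomorph.Set.univ X).isHomeomorph).symm.trans_le hr)
  let a : ℤ → InvCl X := fun e => InvCl.mk _ (PicTau27.isInvertible_twist k ι e)
  obtain ⟨a₀, h00, h0add, ha₀⟩ := PicTau27.exists_twist_class k N
  have ha : ∀ e, a e = VarietyLib.pullHom ι (a₀ e) := fun e => by rw [ha₀, VarietyLib.pullHom_mk]
  have hadd : ∀ b c, a (b + c) = a b * a c := fun b c => by rw [ha, ha, ha, h0add, map_mul]
  have hzero : a 0 = 1 := by rw [ha, h00, map_one]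
  have hpow : ∀ m : ℕ, a (m : ℤ) = InvCl.mk L hL.1 ^ m := fun m => by
    induction m with
    | zero => simpa using hzero
    | succ m ih => rw [Nat.cast_succ, hadd, ih, pow_succ]
  have conv : ∀ (F : X.Modules) (R : ℚ[X]),
      (∀ m : ℤ, (Curv2.euler k X (Pic13.twistOn k ι F m) : ℚ) = R.eval (m : ℚ)) →
        ShStab.IsHilbPoly k X L F R := fun F R h m => by
    rw [euler_twist_eq k hL.1, ← hpow, ← Int.cast_natCast (R := ℚ) m, ← h (m : ℤ)]
    rfl
  have hex : ∀ F : X.Modules, Coh.IsCoh F → ∃ R : ℚ[X],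
      (∀ m : ℤ, (Curv2.euler k X (Pic13.twistOn k ι F m) : ℚ) = R.eval (m : ℚ)) := fun F hF => by
    obtain ⟨R, -, hR⟩ := exists_poly_int k hF hr' a hzero hadd
    exact ⟨R, hR⟩
  have hE' := conv E P hP
  have hE0 : ¬ IsZero E := fun h => hP0 (hilb_zero k hL h hE')
  have hpE : ShStab.IsPure X E d := hpure
  have key : ∀ ψ : E ⟶ E, ψ ≠ 0 → IsIso ψ := fun ψ hψ => by
    have hI := isCoh_image ψ hE hE
    have hI0 := image_ne_zero hψ
    have hK := isCoh_kernel ψ hE hE.1
    obtain ⟨QI, hQI⟩ := hex _ hI
    obtain ⟨QK, hQK⟩ := hex _ hK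
    have hQIp : ShStab.IsHilbPoly k X L (Abelian.image ψ) QI := conv _ _ hQI
    have hQKp : ShStab.IsHilbPoly k X L (kernel ψ) QK := conv _ _ hQK
    have hseq := shortExact_kernel (Abelian.factorThruImage ψ)
    have hK' : Coh.IsCoh (kernel (Abelian.factorThruImage ψ)) := isCoh_kernel _ hE hI.1
    let ek : kernel (Abelian.factorThruImage ψ) ≅ kernel ψ :=
      (kernelCompMono (Abelian.factorThruImage ψ) (Abelian.image.ι ψ)).symm ≪≫
        kernelIsoOfEq (Abelian.image.fac ψ)
    have hsum : P = QK + QI := hilb_ses k hL hseq hK' hE hI (isHilbPoly_iso k ek.symm hQKp) hE' hQIp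
    by_cases hK0 : IsZero (kernel ψ)
    · haveI : Mono ψ := Preadditive.mono_of_isZero_kernel ψ hK0
      rw [hilb_zero k hL hK0 hQKp, zero_add] at hsum
      have hC := Groth.Agent.Coherent.isCoh_cokernel (Abelian.image.ι ψ) hI.1 hE
      obtain ⟨QC, hQC⟩ := hex _ hC
      have h2 : P = QI + QC := hilb_ses k hL (shortExact_cokernel _) hI hE hC hQIp hE' (conv _ _ hQC)
      have hC0 : IsZero (cokernel (Abelian.image.ι ψ)) :=
        (hilb_eq_zero_iff k hL hC (conv _ _ hQC)).1 (by linear_combination hsum - h2)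
      haveI : Epi (Abelian.image.ι ψ) := Preadditive.epi_of_isZero_cokernel _ hC0
      haveI : Epi ψ := by rw [← Abelian.image.fac ψ]; exact epi_comp _ _
      exact isIso_of_mono_of_epi ψ
    · exfalso
      have hd : (0 : ℚ) < d.factorial := by exact_mod_cast d.factorial_pos
      have p1 : 0 < QK.coeff d :=
        pos_of_mul_pos_right (alpha_pos_of_sub k hL hpE (kernel.ι ψ) hK hK0 hQKp) hd.le
      have p2 : 0 < QI.coeff d :=
        pos_of_mul_pos_right (alpha_pos_of_sub k hL hpE (Abelian.image.ι ψ) hI hI0 hQIp) hd.le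
      have hc : ∀ i, P.coeff i = QK.coeff i + QI.coeff i := fun i => by rw [hsum, coeff_add]
      have h1 := hst _ (kernel.ι ψ) inferInstance hK QK hQK p1 (by rw [hc]; linarith)
      have h2 := hst _ (Abelian.image.ι ψ) inferInstance hI QI hQI p2 (by rw [hc]; linarith)
      obtain ⟨i, hi, hi'⟩ := h1
      obtain ⟨j, hj, hj'⟩ := h2
      simp only [Pi.toLex_apply, ofLex_toLex] at hi hi' hj hj'
      have ident : ∀ x : ℕ, ((P.coeff x * (x.factorial : ℚ)) / (P.coeff d * (d.factorial : ℚ))) * P.coeff d =
          ((QK.coeff x * (x.factorial : ℚ)) / (QK.coeff d * (d.factorial : ℚ))) * QK.coeff d +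
          ((QI.coeff x * (x.factorial : ℚ)) / (QI.coeff d * (d.factorial : ℚ))) * QI.coeff d := fun x => by
        have : P.coeff d ≠ 0 := by rw [hc]; positivity
        field_simp
        rw [hc x]
      rcases lt_trichotomy i j with h | h | h
      · have e := ident (d - 1 - (i : ℕ))
        rw [hj i h, hc d] at e
        have := mul_lt_mul_of_pos_right hi' p1
        rw [hc d] at this
        linarith
      · subst h
        have e := ident (d - 1 - (i : ℕ))
        rw [hc d] at e
        have := mul_lt_mul_of_pos_right hi' p1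
        have := mul_lt_mul_of_pos_right hj' p2
        rw [hc d] at *
        linarith
      · have e := ident (d - 1 - (j : ℕ))
        rw [hi j h, hc d] at e
        have := mul_lt_mul_of_pos_right hj' p2
        rw [hc d] at this
        linarith
  obtain ⟨c, hc⟩ := exists_scalar_not_iso k hE hE0 φ
  refine ⟨c, fun V s => ?_⟩
  have h0 : φ = smulMod _ (Coh.toGlobal (X ↘ Spec (CommRingCat.of k)) c) :=
    sub_eq_zero.1 (not_not.1 fun h => hc (key _ h))
  subst h0
  exact EulerLib.smulMod_app _ _ V s

end Groth.Agent.S15002
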