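import Groth.Statements.S15004
import Mathlib
import Groth.Prelude

set_option linter.all false

set_option autoImplicit false
universe u v
open Harb

open scoped BigOperators

namespace Groth.Agent.S15004

section
open Classical
variable {P : Type u} {ι : Type v} [Fintype ι] (inc : P → ι → Prop) (h : ℕ)

noncomputable def deg (p : P) : ℕ := (Finset.univ.filter fun j => inc p j).card

theorem natCard_eq_deg (p : P) : Nat.card {j : ι // inc p j} = deg inc p := by
  rw [Nat.card_eq_fintype_card, Fintype.card_subtype, deg]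

theorem multi_finite (hfin : ∀ i j : ι, i ≠ j → {p : P | inc p i ∧ inc p j}.Finite) :
    {p : P | 2 ≤ deg inc p}.Finite := by
  refine (Set.finite_iUnion fun x : {x : ι × ι // x.1 ≠ x.2} => hfin x.1.1 x.1.2 x.2).subset fun p hp => ?_
  obtain ⟨a, ha, b, hb, hab⟩ := Finset.one_lt_card.1 (show 1 < deg inc p from hp)
  simp only [Finset.mem_filter] at ha hb
  exact Set.mem_iUnion.2 ⟨⟨(a, b), hab⟩, ha.2, hb.2⟩

theorem two_le_deg {p : P} {i j : ι} (hij : i ≠ j) (hi : inc p i) (hj : inc p j) : 2 ≤ deg inc p :=
  Finset.one_lt_card.2 ⟨i, by simp [hi], j, by simp [hj], hij⟩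

theorem card_pair (M : Finset P) (hM : ∀ p, p ∈ M ↔ 2 ≤ deg inc p)
    (hcount : ∀ i j : ι, i ≠ j → {p : P | inc p i ∧ inc p j}.ncard = h) {i j : ι} (hij : i ≠ j) :
    (M.filter fun p => inc p i ∧ inc p j).card = h := by
  rw [← hcount i j hij, ← Set.ncard_coe_finset]
  congr 1
  ext p
  simp only [Finset.coe_filter, Set.mem_setOf_eq, hM]
  exact ⟨fun h => h.2, fun h => ⟨two_le_deg inc hij h.1 h.2, h⟩⟩

theorem sum_deg_sub_one (M : Finset P) (hM : ∀ p, p ∈ M ↔ 2 ≤ deg inc p)
    (hcount : ∀ i j : ι, i ≠ j → {p : P | inc p i ∧ inc p j}.ncard = h) (i : ι) :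
    ∑ p ∈ M.filter (fun p => inc p i), (deg inc p - 1) = h * (Fintype.card ι - 1) := by
  have e : ∀ p ∈ M.filter (fun p => inc p i), deg inc p - 1 = ((Finset.univ.erase i).filter fun j => inc p j).card := by
    intro p hp
    rw [Finset.filter_erase, Finset.card_erase_of_mem (by simp [(Finset.mem_filter.1 hp).2]), deg]
  rw [Finset.sum_congr rfl e]
  simp only [Finset.card_filter]
  rw [Finset.sum_comm]
  rw [Finset.sum_congr rfl fun j (hj : j ∈ Finset.univ.erase i) => show _ = h by
    rw [← card_pair inc h M hM hcount (Finset.ne_of_mem_erase hj).symm, ← Finset.card_filter, Finset.filter_filter]]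
  rw [Finset.sum_const, Finset.card_erase_of_mem (Finset.mem_univ i), Finset.card_univ, smul_eq_mul, mul_comm]

theorem exists_extra_point (M : Finset P) (hM : ∀ p, p ∈ M ↔ 2 ≤ deg inc p) (hh : 0 < h) (hd : 2 ≤ Fintype.card ι)
    (hcount : ∀ i j : ι, i ≠ j → {p : P | inc p i ∧ inc p j}.ncard = h) (hnone : ∀ p : P, ∃ i : ι, ¬ inc p i) (i : ι) :
    h < (M.filter fun p => inc p i).card := by
  obtain ⟨j, hji⟩ := Fintype.exists_ne_of_one_lt_card hd i
  have hle : h ≤ (M.filter fun p => inc p i).card := by
    rw [← card_pair inc h M hM hcount hji.symm]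
    exact Finset.card_le_card fun p hp => by simp at hp ⊢; exact ⟨hp.1, hp.2.1⟩
  refine lt_of_le_of_ne hle fun he => ?_
  obtain ⟨p, hp⟩ : (M.filter fun p => inc p i).Nonempty := Finset.card_pos.1 (he ▸ hh)
  obtain ⟨k, hk⟩ := hnone p
  have hik : i ≠ k := fun e => hk (e ▸ (Finset.mem_filter.1 hp).2)
  have : (M.filter fun p => inc p i ∧ inc p k) = M.filter fun p => inc p i :=
    Finset.eq_of_subset_of_card_le (fun x hx => by simp at hx ⊢; exact ⟨hx.1, hx.2.1⟩)
      (by rw [card_pair inc h M hM hcount hik, he])
  exact hk (Finset.mem_filter.1 (this ▸ hp)).2.2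

theorem natCard_multi (M : Finset P) (hM : ∀ p, p ∈ M ↔ 2 ≤ deg inc p) :
    Nat.card {p : P // 2 ≤ Nat.card {j : ι // inc p j}} = M.card := by
  rw [← Nat.card_eq_finsetCard M]
  exact Nat.card_congr (Equiv.subtypeEquivRight fun p => by rw [natCard_eq_deg, hM])

end

/-- Let C be a finite family of d curves, recorded as an incidence relation between a type of points and
a finite index type, such that any two distinct curves of the family meet in exactly h points; for a
point p write r_p for the number of curves of the family through p. Then for every curve C_i of the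
family, Σ_{p ∈ C_i} (r_p − 1) = h (d − 1), the sum being finitely supported. (The published
statement is for a transversal arrangement of curves on a geometrically ruled surface with invariant
e, all numerically equivalent to a C₀ + b f, where any two of the curves meet transversally in h =
2ab − a²e points; only this common pairwise intersection count enters the proof, and this row states
the identity for an abstract incidence relation.) -/
theorem result (P : Type u) (ι : Type v) [Fintype ι]
    (inc : P → ι → Prop) (h : ℕ)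
    (hfin : ∀ i j : ι, i ≠ j → {p : P | inc p i ∧ inc p j}.Finite)
    (hcount : ∀ i j : ι, i ≠ j → {p : P | inc p i ∧ inc p j}.ncard = h) (i : ι) :
    ∑ᶠ p ∈ {p : P | inc p i}, (Nat.card {j : ι // inc p j} - 1) = h * (Fintype.card ι - 1) := by
  classical
  simp only [natCard_eq_deg]
  set M := (multi_finite inc hfin).toFinset
  have hM : ∀ p, p ∈ M ↔ 2 ≤ deg inc p := fun p => by simp [M]
  rw [← sum_deg_sub_one inc h M hM hcount i]
  refine finsum_mem_eq_sum_of_inter_support_eq _ ?_
  ext p
  simp only [Set.mem_inter_iff, Set.mem_setOf_eq, Function.mem_support, Finset.coe_filter, hM]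
  constructor
  · rintro ⟨h1, h2⟩; exact ⟨⟨by omega, h1⟩, h2⟩
  · rintro ⟨⟨-, h1⟩, h2⟩; exact ⟨h1, h2⟩

end Groth.Agent.S15004
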