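import Groth.Statements.S15006
import Mathlib
import Groth.Prelude

set_option linter.all false

set_option autoImplicit false
universe u v
open Harb

open scoped BigOperators

namespace Groth.Agent.S15006

section
open Classical
variable {P : Type u} {ι : Type v} [Fintype ι] (inc : P → ι → Prop) (h : ℕ)

noncomputable def deg (p : P) : ℕ := (Finset.univ.filter fun j => inc p j).card

theorem natCard_eq_deg (p : P) : Nat.card {j : ι // inc p j} = deg inc p := by
  rw [Nat.card_eq_fintype_card, Fintype.card_subtype, deg]

theorem multi_finite (hfin : ∀ i j : ι, i ≠ j → {p : P | inc p i ∧ inc p j}.Finite) :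
    {p : P | 2 ≤ deg inc p}.Finite := by
  refine (Set.finite_iUnion fun x : {x : ι × ι // x.1 ≠ x.2} => hfin x.1.1 x.1.2 x.2).subset fun p hp => ?_
  obtain ⟨a, ha, b, hb, hab⟩ := Finset.one_lt_card.1 (show 1 < deg inc p from hp)
  simp only [Finset.mem_filter] at ha hb
  exact Set.mem_iUnion.2 ⟨⟨(a, b), hab⟩, ha.2, hb.2⟩

theorem two_le_deg {p : P} {i j : ι} (hij : i ≠ j) (hi : inc p i) (hj : inc p j) : 2 ≤ deg inc p :=
  Finset.one_lt_card.2 ⟨i, by simp [hi], j, by simp [hj], hij⟩

theorem card_pair (M : Finset P) (hM : ∀ p, p ∈ M ↔ 2 ≤ deg inc p)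
    (hcount : ∀ i j : ι, i ≠ j → {p : P | inc p i ∧ inc p j}.ncard = h) {i j : ι} (hij : i ≠ j) :
    (M.filter fun p => inc p i ∧ inc p j).card = h := by
  rw [← hcount i j hij, ← Set.ncard_coe_finset]
  congr 1
  ext p
  simp only [Finset.coe_filter, Set.mem_setOf_eq, hM]
  exact ⟨fun h => h.2, fun h => ⟨two_le_deg inc hij h.1 h.2, h⟩⟩

theorem sum_deg_sub_one (M : Finset P) (hM : ∀ p, p ∈ M ↔ 2 ≤ deg inc p)
    (hcount : ∀ i j : ι, i ≠ j → {p : P | inc p i ∧ inc p j}.ncard = h) (i : ι) :
    ∑ p ∈ M.filter (fun p => inc p i), (deg inc p - 1) = h * (Fintype.card ι - 1) := by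
  have e : ∀ p ∈ M.filter (fun p => inc p i), deg inc p - 1 = ((Finset.univ.erase i).filter fun j => inc p j).card := by
    intro p hp
    rw [Finset.filter_erase, Finset.card_erase_of_mem (by simp [(Finset.mem_filter.1 hp).2]), deg]
  rw [Finset.sum_congr rfl e]
  simp only [Finset.card_filter]
  rw [Finset.sum_comm]
  rw [Finset.sum_congr rfl fun j (hj : j ∈ Finset.univ.erase i) => show _ = h by
    rw [← card_pair inc h M hM hcount (Finset.ne_of_mem_erase hj).symm, ← Finset.card_filter, Finset.filter_filter]]
  rw [Finset.sum_const, Finset.card_erase_of_mem (Finset.mem_univ i), Finset.card_univ, smul_eq_mul, mul_comm]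

theorem exists_extra_point (M : Finset P) (hM : ∀ p, p ∈ M ↔ 2 ≤ deg inc p) (hh : 0 < h) (hd : 2 ≤ Fintype.card ι)
    (hcount : ∀ i j : ι, i ≠ j → {p : P | inc p i ∧ inc p j}.ncard = h) (hnone : ∀ p : P, ∃ i : ι, ¬ inc p i) (i : ι) :
    h < (M.filter fun p => inc p i).card := by
  obtain ⟨j, hji⟩ := Fintype.exists_ne_of_one_lt_card hd i
  have hle : h ≤ (M.filter fun p => inc p i).card := by
    rw [← card_pair inc h M hM hcount hji.symm]
    exact Finset.card_le_card fun p hp => by simp at hp ⊢; exact ⟨hp.1, hp.2.1⟩
  refine lt_of_le_of_ne hle fun he => ?_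
  obtain ⟨p, hp⟩ : (M.filter fun p => inc p i).Nonempty := Finset.card_pos.1 (he ▸ hh)
  obtain ⟨k, hk⟩ := hnone p
  have hik : i ≠ k := fun e => hk (e ▸ (Finset.mem_filter.1 hp).2)
  have : (M.filter fun p => inc p i ∧ inc p k) = M.filter fun p => inc p i :=
    Finset.eq_of_subset_of_card_le (fun x hx => by simp at hx ⊢; exact ⟨hx.1, hx.2.1⟩)
      (by rw [card_pair inc h M hM hcount hik, he])
  exact hk (Finset.mem_filter.1 (this ▸ hp)).2.2

theorem natCard_multi (M : Finset P) (hM : ∀ p, p ∈ M ↔ 2 ≤ deg inc p) :
    Nat.card {p : P // 2 ≤ Nat.card {j : ι // inc p j}} = M.card := by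
  rw [← Nat.card_eq_finsetCard M]
  exact Nat.card_congr (Equiv.subtypeEquivRight fun p => by rw [natCard_eq_deg, hM])

end

/-- Let C be a finite family of d ≥ 2 curves, recorded as an incidence relation between a type of points
and a finite index type, such that any two distinct curves of the family meet in exactly h ≥ 1
points and no point lies on every curve of the family. Then f₀ ≥ d: the number of multiple points
(points lying on at least two of the curves) is at least the number of curves. (The published
statement is for a transversal arrangement of d ≥ 4 curves on a geometrically ruled surface with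
invariant e ≥ 4, all numerically equivalent to a C₀ + b f with a ≥ 1 and b ≥ ae and with no point
common to all of them, satisfying in addition either a ≥ 2, or a = 1 with some four of the curves
having no point in common, where any two of the curves meet transversally in h = 2ab − a²e ≥ 1
points; only d ≥ 2, h ≥ 1 and the absence of a common point enter the proof, and this row states the
bound for an abstract incidence relation.) -/
theorem result (P : Type u) (ι : Type v) [Fintype ι]
    (inc : P → ι → Prop) (h : ℕ) (hh : 0 < h) (hd : 2 ≤ Fintype.card ι)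
    (hfin : ∀ i j : ι, i ≠ j → {p : P | inc p i ∧ inc p j}.Finite)
    (hcount : ∀ i j : ι, i ≠ j → {p : P | inc p i ∧ inc p j}.ncard = h)
    (hnone : ∀ p : P, ∃ i : ι, ¬ inc p i) :
    Fintype.card ι ≤ Nat.card {p : P // 2 ≤ Nat.card {j : ι // inc p j}} := by
  classical
  set M := (multi_finite inc hfin).toFinset
  have hM : ∀ p, p ∈ M ↔ 2 ≤ deg inc p := fun p => by simp [M]
  rw [natCard_multi inc M hM]
  let N : ι → M → ℝ := fun i p => if inc p.1 i then 1 else 0
  have hN : LinearIndependent ℝ N := by
    rw [Fintype.linearIndependent_iff]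
    intro a ha
    have hsq : ∑ p : M, (∑ i, a i * N i p) ^ 2 = 0 := Finset.sum_eq_zero fun p _ => by
      have := congrFun ha p
      simp only [Finset.sum_apply, Pi.smul_apply, smul_eq_mul, Pi.zero_apply] at this
      rw [this]; ring
    have hG : ∀ i j, ∑ p : M, N i p * N j p = ((M.filter fun p => inc p i ∧ inc p j).card : ℝ) := fun i j => by
      rw [Finset.card_filter, Nat.cast_sum, ← Finset.sum_coe_sort M]
      refine Finset.sum_congr rfl fun p _ => ?_
      by_cases h1 : inc p.1 i <;> by_cases h2 : inc p.1 j <;> simp [N, h1, h2]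
    set R : ι → ℝ := fun i => ((M.filter fun p => inc p i).card : ℝ) - h
    have hR : ∀ i, 0 < R i := fun i => by
      have := exists_extra_point inc h M hM hh hd hcount hnone i
      simp only [R, sub_pos, Nat.cast_lt]; exact this
    have hexp : ∑ p : M, (∑ i, a i * N i p) ^ 2 = ∑ i, R i * a i ^ 2 + h * (∑ i, a i) ^ 2 := by
      simp only [sq, Finset.sum_mul_sum]
      rw [Finset.sum_comm, Finset.mul_sum, ← Finset.sum_add_distrib]
      refine Finset.sum_congr rfl fun i _ => ?_
      rw [Finset.sum_comm, Finset.mul_sum]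
      have e : ∀ j, ∑ p : M, a i * N i p * (a j * N j p) = (if i = j then R i * (a i * a i) else 0) + h * (a i * a j) := by
        intro j
        rw [Finset.sum_congr rfl fun p _ => show a i * N i p * (a j * N j p) = a i * a j * (N i p * N j p) by ring,
          ← Finset.mul_sum, hG]
        by_cases hij : i = j
        · subst hij; simp only [and_self, if_true, R]; ring
        · rw [card_pair inc h M hM hcount hij, if_neg hij]; ring
      rw [Finset.sum_congr rfl fun j _ => e j, Finset.sum_add_distrib, Finset.sum_ite_eq, if_pos (Finset.mem_univ _)]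
    rw [hexp] at hsq
    have h2 : 0 ≤ (h : ℝ) * (∑ i, a i) ^ 2 := by positivity
    have h3 : ∀ i ∈ Finset.univ, 0 ≤ R i * a i ^ 2 := fun i _ => mul_nonneg (hR i).le (sq_nonneg _)
    intro i
    have := (Finset.sum_eq_zero_iff_of_nonneg h3).1 (le_antisymm (by linarith) (Finset.sum_nonneg h3)) i (Finset.mem_univ i)
    simpa [(hR i).ne'] using this
  have := hN.fintype_card_le_finrank
  simpa using this

end Groth.Agent.S15006
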