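import Groth.Statements.S15008
import Groth.Agent.TFDual15.Lattice
import Groth.Agent.S15013
-- import your own Groth.Agent.* helpers here

set_option autoImplicit false
universe u
open CategoryTheory
open TFCurv

namespace Groth.Agent.S15008

open Groth.Agent.TFDual15

/-- Let O be a one-dimensional Noetherian local domain with algebraically closed residue field whose
integral closure O~ in its fraction field K is a finite O-module, and suppose O is not Gorenstein.
If w is an O-submodule of K with O ⊆ w ⊆ O~ whose injective dimension as an O-module is at most one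
(a canonical ideal placed between O and O~), then length(w/O) + length(O~/C) = 2 · length(O~/O),
where C is the conductor of O in O~. -/
theorem result (O : Type u) [CommRing O] [IsDomain O] [IsNoetherianRing O] [IsLocalRing O] (hdim : ringKrullDim O = 1) [IsAlgClosed (IsLocalRing.ResidueField O)] (K : Type u) [Field K] [Algebra O K] [IsFractionRing O K] (hfin : Module.Finite O ↥(integralClosure O K)) (hG : ¬ LocCoh.IsGorensteinLocalRing O) (ω : Submodule O K) (hω1 : (1 : Submodule O K) ≤ ω) (hω2 : ω ≤ (Subalgebra.toSubmodule (integralClosure O K))) (hωinj : HasInjectiveDimensionLT (ModuleCat.of O ↥ω) 2) : Module.length O (↥ω ⧸ Submodule.comap ω.subtype (1 : Submodule O K)) + Module.length O (↥(integralClosure O K) ⧸ ((1 : Submodule O K).colon (Subalgebra.toSubmodule (integralClosure O K))) • (⊤ : Submodule O ↥(integralClosure O K))) = 2 * Module.length O (↥(integralClosure O K) ⧸ Submodule.comap (Subalgebra.toSubmodule (integralClosure O K)).subtype (1 : Submodule O K)) := by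
  classical
  haveI : Module.Finite O ↥(integralClosure O K) := hfin
  set B : Submodule O K := Subalgebra.toSubmodule (integralClosure O K)
  haveI : Module.Finite O ↥B := hfin
  have hB1 : (1 : Submodule O K) ≤ B := hω1.trans hω2
  have h1 : (1 : K) ∈ (1 : Submodule O K) := Submodule.one_le.1 le_rfl
  have hω0 : ω ≠ ⊥ := fun h => one_ne_zero ((Submodule.mem_bot O).1 (h ▸ hω1 h1))
  have hωfg : ω.FG := Module.Finite.iff_fg.1 (Module.Finite.of_injective (Submodule.inclusion hω2)
    (Submodule.inclusion_injective hω2))
  have hc : Canon ω := ⟨hω0, hωfg, hdim, fun N _ _ _ _ j hj =>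
    Groth.Agent.S15013.result O hdim K hfin ω hω0 hωfg hωinj N j hj⟩
  have hq1 : ω / (1 : Submodule O K) = ω := by
    refine le_antisymm (fun x hx => by simpa using mem_quot_iff.1 hx 1 h1)
      fun x hx => mem_quot_iff.2 fun y hy => ?_
    obtain ⟨r, rfl⟩ := Submodule.mem_one.1 hy
    rw [mul_comm, ← Algebra.smul_def]; exact ω.smul_mem r hx
  have h10 : (1 : Submodule O K) ≠ ⊥ := fun h => one_ne_zero ((Submodule.mem_bot O).1 (h ▸ h1))
  have h1fg : (1 : Submodule O K).FG := by
    rw [Submodule.one_eq_span]; exact Submodule.fg_span_singleton 1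
  have hqω : ω / ω = 1 := by
    have := quot_quot hc h10 h1fg
    rwa [hq1] at this
  set J : Submodule O K := ω / B
  have hJω : J ≤ ω := fun x hx => by simpa using mem_quot_iff.1 hx 1 (hB1 h1)
  have hJ1 : ∀ x ∈ J, x ∈ (1 : Submodule O K) := fun x hx => hqω.le
    (mem_quot_iff.2 fun y hy => mem_quot_iff.1 hx y (hω2 hy))
  have hJB : ∀ x ∈ J, ∀ y ∈ B, x * y ∈ J := fun x hx y hy => mem_quot_iff.2 fun z hz => by
    rw [mul_assoc]; exact mem_quot_iff.1 hx _ ((integralClosure O K).mul_mem hy hz)
  set C := (1 : Submodule O K).colon (B : Submodule O K)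
  have hC : ∀ r : O, r ∈ C ↔ ∀ y ∈ B, r • y ∈ (1 : Submodule O K) := fun r => Submodule.mem_colon
  have hCeq : (C • (⊤ : Submodule O ↥(integralClosure O K))) = J.comap B.subtype := by
    refine le_antisymm (Submodule.smul_le.2 fun r hr y _ => ?_) fun y hy => ?_
    · show r • (y : K) ∈ J
      refine mem_quot_iff.2 fun z hz => ?_
      rw [smul_mul_assoc]
      exact hω1 ((hC r).1 hr _ ((integralClosure O K).mul_mem y.2 hz))
    · obtain ⟨r, hr⟩ := Submodule.mem_one.1 (hJ1 _ hy)
      have hrC : r ∈ C := (hC r).2 fun z hz => by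
        rw [Algebra.smul_def, hr]; exact hJ1 _ (hJB _ hy z hz)
      have hy' : y = r • (1 : ↥(integralClosure O K)) := Subtype.ext (by
        show (y : K) = r • (1 : K)
        rw [Algebra.smul_def, hr, mul_one]; rfl)
      rw [hy']
      exact Submodule.smul_mem_smul hrC trivial
  rw [hCeq]
  have hadd : ∀ {P Q : Submodule O K} (hPQ : P ≤ Q) (hQB : Q ≤ B),
      Module.length O (↥B ⧸ P.comap B.subtype) =
        Module.length O (↥Q ⧸ P.comap Q.subtype) + Module.length O (↥B ⧸ Q.comap B.subtype) := by
    intro P Q hPQ hQB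
    refine Module.length_eq_add_of_exact
      (Submodule.mapQ (P.comap Q.subtype) (P.comap B.subtype) (Submodule.inclusion hQB) fun x hx => hx)
      (Submodule.mapQ (P.comap B.subtype) (Q.comap B.subtype) LinearMap.id fun x hx => hPQ hx) ?_ ?_ ?_
    · rw [← LinearMap.ker_eq_bot, Submodule.eq_bot_iff]
      intro x hx
      obtain ⟨x, rfl⟩ := Submodule.Quotient.mk_surjective _ x
      have hx' : (Submodule.Quotient.mk (Submodule.inclusion hQB x) : ↥B ⧸ P.comap B.subtype) = 0 := hx
      exact (Submodule.Quotient.mk_eq_zero _).2 ((Submodule.Quotient.mk_eq_zero (P.comap B.subtype)).1 hx' :)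
    · intro y
      obtain ⟨y, rfl⟩ := Submodule.Quotient.mk_surjective _ y
      exact ⟨Submodule.Quotient.mk y, rfl⟩
    · intro x
      obtain ⟨x, rfl⟩ := Submodule.Quotient.mk_surjective _ x
      constructor
      · intro h
        rw [Submodule.mapQ_apply, Submodule.Quotient.mk_eq_zero] at h
        exact ⟨Submodule.Quotient.mk ⟨(x : K), h⟩, rfl⟩
      · rintro ⟨y, hy⟩
        obtain ⟨y, rfl⟩ := Submodule.Quotient.mk_surjective _ y
        rw [← hy]
        show (Submodule.Quotient.mk (Submodule.inclusion hQB y) : ↥B ⧸ Q.comap B.subtype) = 0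
        exact (Submodule.Quotient.mk_eq_zero (Q.comap B.subtype)).2 y.2
  have hδ : Module.length O (↥ω ⧸ J.comap ω.subtype) =
      Module.length O (↥B ⧸ (1 : Submodule O K).comap B.subtype) := by
    have := length_quot_dual hc h10 (Module.Finite.iff_fg.1 inferInstance) hB1
    rwa [hq1] at this
  have e1 := hadd hω1 hω2
  have e2 := hadd hJω hω2
  change Module.length O (↥ω ⧸ _) + Module.length O (↥B ⧸ J.comap B.subtype) =
    2 * Module.length O (↥B ⧸ (1 : Submodule O K).comap B.subtype)
  rw [e2, hδ, add_left_comm, ← e1, two_mul]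

end Groth.Agent.S15008
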