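import Groth.Statements.S15009
import Groth.Agent.Lattice7.SemilocalBasis
import Mathlib.RingTheory.IsTensorProduct
import Mathlib.RingTheory.Localization.BaseChange
import Mathlib.RingTheory.IntegralClosure.IsIntegralClosure.Basic
import Mathlib.LinearAlgebra.Dimension.OrzechProperty
-- import your own Groth.Agent.* helpers here

set_option autoImplicit false
set_option backward.isDefEq.respectTransparency false
universe u
open TFCurv

namespace Groth.Agent.S15009

/-- Let O be a one-dimensional Noetherian local domain with algebraically closed residue field whose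
integral closure O~ in its fraction field K is a finite O-module. A finitely generated torsion-free
O-module M of rank n (that is, K ⊗ M has K-dimension n) is isomorphic to an O-submodule M' of K^n
with O^n ⊆ M' ⊆ O~^n. -/
theorem result (O : Type u) [CommRing O] [IsDomain O] [IsNoetherianRing O] [IsLocalRing O] (hdim : ringKrullDim O = 1) [IsAlgClosed (IsLocalRing.ResidueField O)] (K : Type u) [Field K] [Algebra O K] [IsFractionRing O K] (hfin : Module.Finite O ↥(integralClosure O K)) (M : Type u) [AddCommGroup M] [Module O M] [Module.Finite O M] [NoZeroSMulDivisors O M] (n : ℕ) (hn : Module.finrank K (TensorProduct O K M) = n) : ∃ M' : Submodule O (Fin n → K), Submodule.pi Set.univ (fun _ : Fin n => (1 : Submodule O K)) ≤ M' ∧ M' ≤ Submodule.pi Set.univ (fun _ : Fin n => (Subalgebra.toSubmodule (integralClosure O K))) ∧ Nonempty (M ≃ₗ[O] ↥M') := by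
  classical
  let B := integralClosure O K
  haveI : Module.Finite O B := hfin
  haveI : Infinite (IsLocalRing.ResidueField O) := inferInstance
  haveI : Ring.KrullDimLE 1 O := Ring.krullDimLE_iff.2 hdim.le
  haveI : Ring.DimensionLEOne O := ⟨fun {_} h0 hp => hp.isMaximal_of_ne_bot h0⟩
  haveI : Ring.DimensionLEOne B := inferInstance
  haveI : IsNoetherianRing B :=
    isNoetherian_of_tower O (isNoetherian_of_isNoetherianRing_of_finite O B)
  haveI : IsFractionRing B K := IsIntegralClosure.isFractionRing_of_finite_extension O K K B
  haveI : IsIntegrallyClosed B := integralClosure.isIntegrallyClosedOfFiniteExtension K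
  haveI : IsDedekindDomain B := {}
  haveI := Lattice7.finite_maximalSpectrum_of_finite (O := O) (B := B)
  haveI : IsPrincipalIdealRing B := IsPrincipalIdealRing.of_finite_primes (by
    refine Set.Finite.subset ((Set.toFinite (Set.range fun m : {m : Ideal B // m.IsMaximal} => m.1)).union
      (Set.finite_singleton ⊥)) fun P hP => ?_
    rcases eq_or_ne P ⊥ with rfl | h
    · exact Or.inr rfl
    · exact Or.inl ⟨⟨P, (hP : P.IsPrime).isMaximal h⟩, rfl⟩)
  -- the module inside a vector space
  haveI : Module.Finite K (TensorProduct O K M) := inferInstance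
  let e : TensorProduct O K M ≃ₗ[K] (Fin n → K) := (Module.finBasisOfFinrankEq K _ hn).equivFun
  let f : M →ₗ[O] (Fin n → K) := (e.toLinearMap.restrictScalars O).comp (TensorProduct.mk O K M 1)
  have hfinj : Function.Injective f := by
    refine e.injective.comp ?_
    haveI : IsLocalizedModule (nonZeroDivisors O) (TensorProduct.mk O K M 1) :=
      (isLocalizedModule_iff_isBaseChange (nonZeroDivisors O) K _).2 (TensorProduct.isBaseChange O M K)
    intro a b hab
    obtain ⟨s, hs⟩ := (IsLocalizedModule.eq_iff_exists (nonZeroDivisors O) (TensorProduct.mk O K M 1)).1 hab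
    exact (smul_right_injective M (nonZeroDivisors.coe_ne_zero s)) hs
  have hspan : Submodule.span K (Set.range f) = ⊤ := by
    refine eq_top_iff.2 fun y hy0 => ?_
    clear hy0
    obtain ⟨t, rfl⟩ := e.surjective y
    induction t using TensorProduct.induction_on with
    | zero => rw [map_zero]; exact zero_mem _
    | add a b ha hb => rw [map_add]; exact add_mem ha hb
    | tmul a m =>
      rw [show a ⊗ₜ[O] m = a • ((1 : K) ⊗ₜ[O] m) from by rw [TensorProduct.smul_tmul', smul_eq_mul, mul_one], map_smul]
      exact Submodule.smul_mem _ _ (Submodule.subset_span ⟨m, rfl⟩)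
  let N : Submodule B (Fin n → K) := Submodule.span B (Set.range f)
  haveI : Module.Finite B N := by
    obtain ⟨s, hs⟩ := (Module.Finite.fg_top : (⊤ : Submodule O M).FG)
    refine Module.Finite.iff_fg.2 ⟨s.image f, le_antisymm (Submodule.span_mono (by simp [Set.range])) ?_⟩
    refine Submodule.span_le.2 ?_
    rintro _ ⟨m, rfl⟩
    have hm : f m ∈ (Submodule.span O (s : Set M)).map f := ⟨m, hs.ge trivial, rfl⟩
    rw [Submodule.map_span, ← Finset.coe_image] at hm
    exact Submodule.span_le_restrictScalars O B _ hm
  let b₀ := Module.Free.chooseBasis B N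
  have hr : Fintype.card (Module.Free.ChooseBasisIndex B N) = n := by
    have hli : LinearIndependent K (fun i => (b₀ i : Fin n → K)) :=
      (LinearIndependent.iff_fractionRing B K).1 (b₀.linearIndependent.map' N.subtype N.ker_subtype)
    have hsp : ⊤ ≤ Submodule.span K (Set.range fun i => (b₀ i : Fin n → K)) := by
      rw [← hspan, Submodule.span_le]
      rintro _ ⟨m, rfl⟩
      have hm : (⟨f m, Submodule.subset_span ⟨m, rfl⟩⟩ : N) ∈ Submodule.span B (Set.range b₀) := b₀.span_eq.ge trivial
      have := Submodule.mem_map_of_mem (f := N.subtype) hm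
      rw [Submodule.map_span, ← Set.range_comp] at this
      exact Submodule.span_le_restrictScalars B K _ this
    rw [← Module.finrank_eq_card_basis (Module.Basis.mk hli hsp), Module.finrank_fin_fun]
  let b : Module.Basis (Fin n) B N := b₀.reindex (Fintype.equivFinOfCardEq hr)
  let fN : M →ₗ[O] N := f.codRestrict (N.restrictScalars O) fun m => Submodule.subset_span ⟨m, rfl⟩
  let c : M →ₗ[O] (Fin n → B) := (b.equivFun.toLinearMap.restrictScalars O).comp fN
  have hc : Submodule.span B (Set.range c) = ⊤ := by
    have h1 : Submodule.span B (Set.range fN) = ⊤ := by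
      apply Submodule.map_injective_of_injective N.injective_subtype
      rw [Submodule.map_span, ← Set.range_comp, Submodule.map_top, Submodule.range_subtype]
      rfl
    have h2 := congrArg (Submodule.map b.equivFun.toLinearMap) h1
    rw [Submodule.map_span, ← Set.range_comp, Submodule.map_top, LinearEquiv.range] at h2
    exact h2
  obtain ⟨v, hv⟩ := Lattice7.exists_isUnit_det n c hc
  let A : Matrix (Fin n) (Fin n) B := Matrix.of fun i j => c (v j) i
  have hA : ∀ y : N, ∃ β : Fin n → B, (y : Fin n → K) = ∑ j, β j • f (v j) := by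
    intro y
    obtain ⟨β, hβ⟩ := (Matrix.mulVec_surjective_iff_isUnit.2 ((Matrix.isUnit_iff_isUnit_det A).2 hv)) (b.equivFun y)
    refine ⟨β, ?_⟩
    have hy : y = ∑ j, β j • fN (v j) := b.equivFun.injective (by
      rw [← hβ, map_sum]
      funext i
      simp [A, c, Matrix.mulVec, dotProduct, mul_comm])
    rw [hy, Submodule.coe_sum]
    rfl
  have hw : ⊤ ≤ Submodule.span K (Set.range fun j => f (v j)) := by
    rw [← hspan, Submodule.span_le]
    rintro _ ⟨m, rfl⟩
    obtain ⟨β, hβ⟩ := hA (fN m)
    rw [show f m = _ from hβ]
    exact sum_mem fun j _ => Submodule.smul_mem _ (algebraMap B K (β j)) (Submodule.subset_span ⟨j, rfl⟩)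
  let w : Module.Basis (Fin n) K (Fin n → K) :=
    basisOfTopLeSpanOfCardEqFinrank _ hw (by rw [Module.finrank_fin_fun, Fintype.card_fin])
  have hwi : ∀ j, w j = f (v j) := fun j => by simp [w]
  let g : M →ₗ[O] (Fin n → K) := (w.equivFun.toLinearMap.restrictScalars O).comp f
  refine ⟨LinearMap.range g, ?_, ?_, ⟨LinearEquiv.ofInjective g (w.equivFun.injective.comp hfinj)⟩⟩
  · intro x hx
    choose a ha using fun i => Submodule.mem_one.1 (hx i trivial)
    refine ⟨∑ j, a j • v j, ?_⟩
    funext i
    simp only [g, LinearMap.comp_apply, map_sum, map_smul, ← hwi]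
    rw [Finset.sum_apply]
    simp only [LinearMap.coe_restrictScalars, LinearEquiv.coe_coe, Module.Basis.equivFun_self, Pi.smul_apply,
      smul_ite, smul_zero, Finset.sum_ite_eq', Finset.mem_univ, if_true, Algebra.smul_def, mul_ite, mul_zero, mul_one, ha]
  · rintro _ ⟨m, rfl⟩ i -
    obtain ⟨β, hβ⟩ := hA (fN m)
    have e1 : g m i = (β i : K) := by
      show w.equivFun (f m) i = _
      have h2 : f m = ∑ j, (β j : K) • w j := by
        simp only [hwi]; exact hβ
      rw [h2, ← w.equivFun_symm_apply, LinearEquiv.apply_symm_apply]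
    rw [e1]
    exact (β i).2

end Groth.Agent.S15009
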