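import Groth.Statements.S1501
import Groth.Agent.H8Lim.ThickeningAmple
import Groth.Agent.AmpleLib.Local
-- import your own Groth.Agent.* helpers here

set_option autoImplicit false
set_option backward.isDefEq.respectTransparency.types false
universe u
open FlatMor

namespace Groth.Agent.S1501

open AlgebraicGeometry CategoryTheory Limits in
/-- Let (f, f') : (X ⊂ X') → (S ⊂ S') be a morphism of thickenings (iX : X → X' and iS : S → S'
thickenings with f ≫ iS = iX ≫ f') and L' an invertible O_{X'}-module with pullback L to X. Then L'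
is ample relative to f' if and only if L is ample relative to f. -/
theorem result {X X' S S' : Scheme.{u}} (iX : X ⟶ X') (iS : S ⟶ S') (f : X ⟶ S) (f' : X' ⟶ S')
    (hX : MoreMor.IsThickening iX) (hS : MoreMor.IsThickening iS) (w : iX ≫ f' = f ≫ iS)
    (L' : X'.Modules) (hL' : PicF.IsInvertible L') :
    RelAmple.IsRelAmple f' L' ↔ RelAmple.IsRelAmple f ((Scheme.Modules.pullback iX).obj L') := by
  haveI := hX.1
  haveI := hX.2
  haveI := hS.1
  haveI := hS.2
  have hiX : IsHomeomorph iX.base :=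
    (isHomeomorph_iff_isEmbedding_surjective).mpr ⟨iX.isClosedEmbedding.isEmbedding, iX.surjective⟩
  rw [Groth.Agent.AmpleLib.isRelAmple_iff, Groth.Agent.AmpleLib.isRelAmple_iff]
  -- opens upstairs and downstairs
  have hopen : ∀ (V : S.Opens) (V' : S'.Opens), V = iS ⁻¹ᵁ V' → f ⁻¹ᵁ V = iX ⁻¹ᵁ (f' ⁻¹ᵁ V') := fun V V' e => by
    rw [e, ← Scheme.Hom.comp_preimage, ← w, Scheme.Hom.comp_preimage]
  have key : ∀ (V : S.Opens) (V' : S'.Opens) (e : V = iS ⁻¹ᵁ V'),
      CohB1.IsAmple ((Scheme.Modules.pullback (f ⁻¹ᵁ V).ι).obj ((Scheme.Modules.pullback iX).obj L')) ↔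
        CohB1.IsAmple ((Scheme.Modules.pullback (f' ⁻¹ᵁ V').ι).obj L') := by
    intro V V' e
    rw [hopen V V' e]
    let U' := f' ⁻¹ᵁ V'
    have hh : IsHomeomorph (iX ∣_ U').base := by
      refine isHomeomorph_iff_isEmbedding_surjective.mpr ⟨(iX ∣_ U').isClosedEmbedding.isEmbedding, fun p => ?_⟩
      obtain ⟨z, hz⟩ := iX.surjective p.1
      refine ⟨⟨z, show iX z ∈ U' from hz ▸ p.2⟩, Subtype.ext ?_⟩
      exact (congrArg (fun m => m ⟨z, show iX z ∈ U' from hz ▸ p.2⟩) (morphismRestrict_ι iX U')).trans hz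
    rw [← Groth.Agent.H8Lim.isAmple_iff_of_isHomeomorph (iX ∣_ U') hh (PicLoc.isInvertible_pullback _ hL')]
    let α : (Scheme.Modules.pullback (iX ⁻¹ᵁ U').ι).obj ((Scheme.Modules.pullback iX).obj L') ≅
        (Scheme.Modules.pullback (iX ∣_ U')).obj ((Scheme.Modules.pullback U'.ι).obj L') :=
      (Scheme.Modules.pullbackComp (iX ⁻¹ᵁ U').ι iX).app L' ≪≫
        (Scheme.Modules.pullbackCongr (morphismRestrict_ι iX U').symm).app L' ≪≫
        ((Scheme.Modules.pullbackComp (iX ∣_ U') U'.ι).app L').symm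
    exact ⟨Groth.Agent.AmpleLib.isAmple_of_iso α, Groth.Agent.AmpleLib.isAmple_of_iso α.symm⟩
  constructor
  · rintro ⟨hqc, h⟩
    refine ⟨?_, fun V => ?_⟩
    · haveI : QuasiCompact (f ≫ iS) := w ▸ inferInstance
      exact QuasiCompact.of_comp f iS
    · let V' : S'.Opens := ⟨iS '' (V.1 : Set S),
        (isHomeomorph_iff_isEmbedding_surjective.mpr ⟨iS.isClosedEmbedding.isEmbedding, iS.surjective⟩).isOpenMap _ V.1.2⟩
      have e : V.1 = iS ⁻¹ᵁ V' :=
        SetLike.coe_injective (Set.preimage_image_eq _ iS.isClosedEmbedding.injective).symm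
      have hV' : IsAffineOpen V' := by
        haveI : IsAffine (iS ⁻¹ᵁ V').toScheme := e ▸ V.2
        refine Groth.Agent.S0440.result (iS ∣_ V') fun p => ?_
        obtain ⟨z, hz⟩ := iS.surjective p.1
        exact ⟨⟨z, show iS z ∈ V' from hz ▸ p.2⟩, Subtype.ext
          ((congrArg (fun m => m ⟨z, show iS z ∈ V' from hz ▸ p.2⟩) (morphismRestrict_ι iS V')).trans hz)⟩
      exact (key V.1 V' e).mpr (h ⟨V', hV'⟩)
  · rintro ⟨hqc, h⟩
    refine ⟨?_, fun V' => (key _ V'.1 rfl).mp (h ⟨iS ⁻¹ᵁ V'.1, V'.2.preimage iS⟩)⟩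
    rw [quasiCompact_iff_forall_isAffineOpen]
    intro V' hV'
    have := (QuasiCompact.isCompact_preimage (f := f) _ (iS ⁻¹ᵁ V').2 (hV'.preimage iS).isCompact).image iX.continuous
    convert this using 1
    show f' ⁻¹' (V' : Set S') = iX '' (f ⁻¹' (iS ⁻¹' (V' : Set S')))
    have e2 : f ⁻¹' (iS ⁻¹' (V' : Set S')) = iX ⁻¹' (f' ⁻¹' (V' : Set S')) := by
      rw [← Set.preimage_comp, ← Set.preimage_comp, ← TopCat.coe_comp, ← Scheme.Hom.comp_base, ← w]
      rfl
    rw [e2, Set.image_preimage_eq _ iX.surjective]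

end Groth.Agent.S1501
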