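import Groth.Statements.S15010
import Mathlib.LinearAlgebra.Matrix.ToLin
-- import your own Groth.Agent.* helpers here

set_option autoImplicit false
set_option backward.isDefEq.respectTransparency false
universe u
open TFCurv

namespace Groth.Agent.S15010

/-- Let O be a one-dimensional Noetherian local domain with algebraically closed residue field whose
integral closure O~ in its fraction field K is a finite O-module. If M and N are O-submodules of K^n
with O^n ⊆ M ⊆ O~^n and O^n ⊆ N ⊆ O~^n, then every O-linear isomorphism M → N is the restriction of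
x ↦ A·x for an invertible n × n matrix A with entries in O~. -/
theorem result (O : Type u) [CommRing O] [IsDomain O] [IsNoetherianRing O] [IsLocalRing O] (hdim : ringKrullDim O = 1) [IsAlgClosed (IsLocalRing.ResidueField O)] (K : Type u) [Field K] [Algebra O K] [IsFractionRing O K] (hfin : Module.Finite O ↥(integralClosure O K)) (n : ℕ) (M N : Submodule O (Fin n → K)) (hM1 : Submodule.pi Set.univ (fun _ : Fin n => (1 : Submodule O K)) ≤ M) (hM2 : M ≤ Submodule.pi Set.univ (fun _ : Fin n => (Subalgebra.toSubmodule (integralClosure O K)))) (hN1 : Submodule.pi Set.univ (fun _ : Fin n => (1 : Submodule O K)) ≤ N) (hN2 : N ≤ Submodule.pi Set.univ (fun _ : Fin n => (Subalgebra.toSubmodule (integralClosure O K)))) (φ : ↥M ≃ₗ[O] ↥N) : ∃ A : Matrix (Fin n) (Fin n) ↥(integralClosure O K), IsUnit A ∧ ∀ x : ↥M, ((φ x : ↥N) : Fin n → K) = (A.map (algebraMap ↥(integralClosure O K) K)).mulVec (x : Fin n → K) := by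
  have key : ∀ (M N : Submodule O (Fin n → K)),
      Submodule.pi Set.univ (fun _ : Fin n => (1 : Submodule O K)) ≤ M →
      N ≤ Submodule.pi Set.univ (fun _ : Fin n => (Subalgebra.toSubmodule (integralClosure O K))) →
      ∀ ψ : M →ₗ[O] N, ∃ A : Matrix (Fin n) (Fin n) ↥(integralClosure O K),
        ∀ x : ↥M, ((ψ x : ↥N) : Fin n → K) = (A.map (algebraMap ↥(integralClosure O K) K)).mulVec (x : Fin n → K) := by
    intro M N hM hN ψ
    have he : ∀ j, (Pi.single j (1 : K) : Fin n → K) ∈ M := fun j => hM (by
      intro i _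
      rcases eq_or_ne i j with rfl | h
      · simp only [Pi.single_eq_same]; exact Submodule.mem_one.2 ⟨1, map_one _⟩
      · simp only [Pi.single_eq_of_ne h]; exact zero_mem _)
    let A : Matrix (Fin n) (Fin n) ↥(integralClosure O K) := fun i j =>
      ⟨((ψ ⟨_, he j⟩ : N) : Fin n → K) i, hN (ψ ⟨_, he j⟩).2 i trivial⟩
    refine ⟨A, fun x => ?_⟩
    obtain ⟨d, hd⟩ := IsLocalization.exist_integer_multiples_of_finite (nonZeroDivisors O) (fun i => (x : Fin n → K) i)
    choose c hc using hd
    have hx : (d : O) • x = ∑ j, c j • (⟨_, he j⟩ : M) := by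
      apply Subtype.ext
      funext i
      simp only [Submodule.coe_sum, Submodule.coe_smul, Finset.sum_apply, Pi.smul_apply]
      rw [Finset.sum_eq_single i (fun j _ h => by rw [Pi.single_eq_of_ne' h, smul_zero]) (by simp)]
      rw [Pi.single_eq_same, ← Algebra.algebraMap_eq_smul_one]
      exact (hc i).symm
    have hd0 : algebraMap O K d ≠ 0 :=
      IsFractionRing.to_map_ne_zero_of_mem_nonZeroDivisors d.2
    funext i
    apply mul_left_cancel₀ hd0
    have h1 := congrArg (fun y : N => (y : Fin n → K) i) (congrArg ψ hx)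
    simp only [map_smul, map_sum, Submodule.coe_sum, Submodule.coe_smul, Finset.sum_apply, Pi.smul_apply] at h1
    simp only [Algebra.smul_def] at h1
    rw [h1]
    simp only [Matrix.mulVec, dotProduct, Matrix.map_apply, Finset.mul_sum]
    refine Finset.sum_congr rfl fun j _ => ?_
    rw [hc j, Algebra.smul_def]
    simp only [A]
    show _ = algebraMap O K d * (((ψ ⟨_, he j⟩ : N) : Fin n → K) i * (x : Fin n → K) j)
    ring
  obtain ⟨A, hA⟩ := key M N hM1 hN2 φ.toLinearMap
  obtain ⟨B, hB⟩ := key N M hN1 hM2 φ.symm.toLinearMap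
  refine ⟨A, IsUnit.of_mul_eq_one B ?_, hA⟩
  have hinj : Function.Injective (fun C : Matrix (Fin n) (Fin n) ↥(integralClosure O K) =>
      C.map (algebraMap ↥(integralClosure O K) K)) :=
    Matrix.map_injective (fun a b h => Subtype.ext h)
  apply hinj
  show (A * B).map _ = (1 : Matrix (Fin n) (Fin n) ↥(integralClosure O K)).map _
  rw [Matrix.map_mul, Matrix.map_one _ (map_zero _) (map_one _)]
  apply Matrix.ext_of_mulVec_single
  intro j
  have hj : (Pi.single j (1 : K) : Fin n → K) ∈ N := hN1 (by
    intro i _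
    rcases eq_or_ne i j with rfl | h
    · simp only [Pi.single_eq_same]; exact Submodule.mem_one.2 ⟨1, map_one _⟩
    · simp only [Pi.single_eq_of_ne h]; exact zero_mem _)
  rw [← Matrix.mulVec_mulVec, Matrix.one_mulVec]
  have h1 := hB ⟨_, hj⟩
  have h2 := hA (φ.symm ⟨_, hj⟩)
  simp only [LinearEquiv.coe_coe, LinearEquiv.apply_symm_apply] at h1 h2
  rw [← h1, ← h2]

end Groth.Agent.S15010
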