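import Groth.Statements.S15011
import Mathlib
-- import your own Groth.Agent.* helpers here

set_option autoImplicit false
universe u
open TFCurv

namespace Groth.Agent.S15011

open Pointwise

/-- Let O be a one-dimensional Noetherian local domain with maximal ideal m and algebraically closed
residue field, whose integral closure O~ in its fraction field K is a finite O-module; put e =
length(O~/m O~), the multiplicity of O. Then a finitely generated torsion-free O-module of rank n
can be generated by at most n·e elements. -/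
theorem result (O : Type u) [CommRing O] [IsDomain O] [IsNoetherianRing O] [IsLocalRing O] (hdim : ringKrullDim O = 1) [IsAlgClosed (IsLocalRing.ResidueField O)] (K : Type u) [Field K] [Algebra O K] [IsFractionRing O K] (hfin : Module.Finite O ↥(integralClosure O K)) (M : Type u) [AddCommGroup M] [Module O M] [Module.Finite O M] [NoZeroSMulDivisors O M] (n : ℕ) (hn : Module.finrank K (TensorProduct O K M) = n) : ((⊤ : Submodule O M).spanFinrank : ℕ∞) ≤ (n : ℕ∞) * Module.length O (↥(integralClosure O K) ⧸ (IsLocalRing.maximalIdeal O) • (⊤ : Submodule O ↥(integralClosure O K))) := by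
  classical
  open IsLocalRing in
  set B := integralClosure O K
  haveI : Ring.DimensionLEOne O :=
    Ring.krullDimLE_one_iff_of_noZeroDivisors.1 (Ring.krullDimLE_iff.2 hdim.le) |> fun h => ⟨fun {p} hp hpr => h p hp hpr⟩
  haveI : IsFractionRing B K := integralClosure.isFractionRing_of_finite_extension K K
  haveI : Ring.DimensionLEOne B := inferInstance
  haveI : IsIntegrallyClosed B := integralClosure.isIntegrallyClosedOfFiniteExtension K
  haveI : IsNoetherianRing B := isNoetherianRing_iff.2 (isNoetherian_of_tower O inferInstance)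
  haveI : IsDedekindDomain B := { }
  haveI : Module.IsTorsionFree O B := inferInstance
  -- finite length of torsion modules
  have hfl : ∀ (T : Type u) [AddCommGroup T] [Module O T] [Module.Finite O T], Module.finrank O T = 0 →
      Module.length O T ≠ ⊤ := by
    intro T _ _ _ h0
    have htor : ∀ z : T, ∃ a : O, a ≠ 0 ∧ a • z = 0 := by
      have : Module.rank O T = 0 := by rw [← Module.finrank_eq_rank, h0, Nat.cast_zero]
      exact rank_eq_zero_iff.1 this
    obtain ⟨s, hs⟩ := Module.Finite.fg_top (R := O) (M := T)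
    choose a ha0 ha using htor
    let A := ∏ z ∈ s, a z
    have hA0 : A ≠ 0 := Finset.prod_ne_zero_iff.2 fun z _ => ha0 z
    have hA : ∀ z : T, A • z = 0 := by
      intro z
      have hz : z ∈ Submodule.span O (s : Set T) := hs ▸ Submodule.mem_top
      induction hz using Submodule.span_induction with
      | mem y hy =>
        obtain ⟨c, hc⟩ := Finset.dvd_prod_of_mem a hy
        show (∏ z ∈ s, a z) • y = 0
        rw [hc, mul_comm, mul_smul, ha, smul_zero]
      | zero => exact smul_zero _
      | add y y' _ _ hy hy' => rw [smul_add, hy, hy', add_zero]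
      | smul c y _ hy => rw [smul_comm, hy, smul_zero]
    haveI : IsArtinianRing (O ⧸ Ideal.span {A}) := by
      refine isArtinianRing_iff_isNoetherianRing_krullDimLE_zero.2 ⟨inferInstance, ?_⟩
      rw [Ring.krullDimLE_zero_iff]
      intro P hP
      have hc : (P.comap (Ideal.Quotient.mk _)).IsMaximal := by
        refine Ring.DimensionLEOne.maximalOfPrime (fun h => hA0 ?_) (Ideal.comap_isPrime _ _)
        have : A ∈ P.comap (Ideal.Quotient.mk (Ideal.span {A})) := by
          rw [Ideal.mem_comap, Ideal.Quotient.eq_zero_iff_mem.2 (Ideal.mem_span_singleton_self A)]; exact P.zero_mem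
        rw [h] at this; exact this
      rw [← Ideal.map_comap_of_surjective _ Ideal.Quotient.mk_surjective P]
      exact Ideal.IsMaximal.map_of_surjective_of_ker_le Ideal.Quotient.mk_surjective (fun z hz => by
        rw [Ideal.mem_comap]; rw [RingHom.mem_ker] at hz; rw [hz]; exact P.zero_mem)
    have htors : Module.IsTorsionBySet O T (Ideal.span {A} : Ideal O) := by
      rintro z ⟨c, hc⟩
      obtain ⟨d, rfl⟩ := Ideal.mem_span_singleton'.1 hc
      show (d * A) • z = 0
      rw [mul_smul, hA, smul_zero]
    letI := htors.module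
    haveI : Module.Finite (O ⧸ Ideal.span {A}) T := Module.Finite.of_restrictScalars_finite O _ T
    haveI : IsArtinian (O ⧸ Ideal.span {A}) T := inferInstance
    haveI : IsArtinian O T := isArtinian_of_surjective_algebraMap (R := O ⧸ Ideal.span {A}) Ideal.Quotient.mk_surjective
    exact Module.length_ne_top
  -- comparison of two lattices
  have hlat : ∀ (x : O), x ≠ 0 → ∀ (N N' : Type u) [AddCommGroup N] [Module O N] [AddCommGroup N'] [Module O N']
      [Module.Finite O N'] [Module.IsTorsionFree O N'] (f : N →ₗ[O] N'), Function.Injective f →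
      Module.finrank O (N' ⧸ LinearMap.range f) = 0 →
      Module.length O (N' ⧸ x • (⊤ : Submodule O N')) = Module.length O (N ⧸ x • (⊤ : Submodule O N)) := by
    intro x hx N N' _ _ _ _ _ _ f hf h0
    let U : Submodule O N' := LinearMap.range f
    let V : Submodule O N' := (x • (⊤ : Submodule O N)).map f
    let W : Submodule O N' := x • ⊤
    have hQ := hfl (N' ⧸ U) h0
    have hVU : V ≤ U := LinearMap.map_le_range
    have hVW : V ≤ W := by
      rintro _ ⟨z, hz, rfl⟩
      obtain ⟨w, -, rfl⟩ := (Submodule.mem_smul_pointwise_iff_exists _ _ _).1 hz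
      rw [map_smul]
      exact Submodule.smul_mem_pointwise_smul _ _ _ Submodule.mem_top
    -- filtration by `U`
    let i1 : (N ⧸ x • (⊤ : Submodule O N)) →ₗ[O] N' ⧸ V := Submodule.mapQ _ V f (Submodule.le_comap_map f _)
    have hi1 : Function.Injective i1 := by
      rw [← LinearMap.ker_eq_bot, Submodule.ker_mapQ, Submodule.comap_map_eq_of_injective hf, Submodule.mkQ_map_self]
    have h1 := Module.length_eq_add_of_exact i1 (Submodule.factor hVU) hi1 (Submodule.factor_surjective hVU) (by
      rw [LinearMap.exact_iff, Submodule.factor, Submodule.ker_mapQ, Submodule.comap_id, Submodule.range_mapQ])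
    -- filtration by `x N'`
    let μ : (N' ⧸ U) →ₗ[O] N' ⧸ V := Submodule.mapQ U V (x • LinearMap.id) (by
      rintro _ ⟨z, rfl⟩
      exact ⟨x • z, Submodule.smul_mem_pointwise_smul _ _ _ Submodule.mem_top, by simp⟩)
    have hμ : Function.Injective μ := by
      rw [← LinearMap.ker_eq_bot, Submodule.ker_mapQ, eq_bot_iff]
      rintro _ ⟨z, hz, rfl⟩
      obtain ⟨w, hw, hwz⟩ := hz
      obtain ⟨w', -, rfl⟩ := (Submodule.mem_smul_pointwise_iff_exists _ _ _).1 hw
      rw [Submodule.mem_bot, Submodule.mkQ_apply, Submodule.Quotient.mk_eq_zero]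
      simp only [map_smul, LinearMap.smul_apply, LinearMap.id_apply] at hwz
      exact ⟨w', smul_right_injective N' hx hwz⟩
    have h2 := Module.length_eq_add_of_exact μ (Submodule.factor hVW) hμ (Submodule.factor_surjective hVW) (by
      rw [LinearMap.exact_iff, Submodule.factor, Submodule.ker_mapQ, Submodule.comap_id, Submodule.range_mapQ]
      congr 1
      ext z
      simp [W, Submodule.mem_smul_pointwise_iff_exists])
    rw [h1, add_comm] at h2
    exact ((WithTop.add_left_inj hQ).1 h2).symm
  -- the element
  set m := maximalIdeal O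
  haveI : Nontrivial B := inferInstance
  let P : Ideal B := m.map (algebraMap O B)
  have hm0 : m ≠ ⊥ := by
    intro h
    have hf : IsField O := IsLocalRing.isField_iff_maximalIdeal_eq.2 h
    rw [ringKrullDim_eq_zero_of_isField hf] at hdim
    exact zero_ne_one hdim
  have hP0 : P ≠ ⊥ := by
    rw [Ne, Ideal.map_eq_bot_iff_le_ker, (RingHom.injective_iff_ker_eq_bot _).1 (FaithfulSMul.algebraMap_injective O B), le_bot_iff]
    exact hm0
  let ι := {v : IsDedekindDomain.HeightOneSpectrum B // v.asIdeal ∣ P}
  haveI : Finite ι := (Ideal.finite_factors hP0).to_subtype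
  have hmem : ∀ (v : ι) (a : O), a ∈ m → ∀ c : O, c ∈ m → algebraMap O B (a * c) ∈ v.1.asIdeal * P := fun v a ha c hc => by
    rw [map_mul]
    exact Ideal.mul_mem_mul (Ideal.le_of_dvd v.2 (Ideal.mem_map_of_mem _ ha)) (Ideal.mem_map_of_mem _ hc)
  let W : ι → Submodule O m := fun v => ((v.1.asIdeal * P).restrictScalars O).comap ((Algebra.linearMap O B).comp m.subtype)
  let p : ι → Submodule (ResidueField O) (CotangentSpace O) := fun v =>
    { carrier := m.toCotangent '' (W v : Set m)
      add_mem' := by
        rintro _ _ ⟨a, ha, rfl⟩ ⟨b, hb, rfl⟩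
        exact ⟨a + b, (W v).add_mem ha hb, map_add _ _ _⟩
      zero_mem' := ⟨0, (W v).zero_mem, map_zero _⟩
      smul_mem' := by
        rintro c _ ⟨a, ha, rfl⟩
        obtain ⟨c, rfl⟩ := residue_surjective c
        exact ⟨c • a, (W v).smul_mem c ha, map_smul m.toCotangent c a⟩ }
  have hker : ∀ v, ∀ d : m, (d : O) ∈ m ^ 2 → d ∈ W v := by
    intro v d hd
    show algebraMap O B (d : O) ∈ v.1.asIdeal * P
    rw [pow_two] at hd
    refine Submodule.mul_induction_on hd (fun a ha c hc => hmem v a ha c hc) fun a c ha hc => ?_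
    rw [map_add]; exact add_mem ha hc
  have hback : ∀ v a, m.toCotangent a ∈ p v → a ∈ W v := by
    rintro v a ⟨b, hb, hab⟩
    have := (W v).add_mem hb (hker v (a - b) ((Ideal.toCotangent_eq m).1 hab.symm))
    rwa [add_sub_cancel] at this
  have hp : ∀ v, p v ≠ ⊤ := by
    intro v hv
    have hle : P ≤ v.1.asIdeal * P := by
      rw [Ideal.map_le_iff_le_comap]
      intro a ha
      exact hback v ⟨a, ha⟩ (hv ▸ Submodule.mem_top)
    have : v.1.asIdeal * P = 1 * P := by rw [one_mul]; exact le_antisymm Ideal.mul_le_right hle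
    exact v.1.isPrime.ne_top ((mul_right_cancel₀ hP0 this).trans Ideal.one_eq_top)
  haveI : Infinite (ResidueField O) := inferInstance
  obtain ⟨xbar, hxbar⟩ := Submodule.exists_forall_notMem_of_forall_ne_top (K := ResidueField O) p hp
  obtain ⟨⟨x, hxm⟩, rfl⟩ := m.toCotangent_surjective xbar
  have hdvd : P ∣ Ideal.span {algebraMap O B x} :=
    Ideal.dvd_iff_le.2 ((Ideal.span_singleton_le_iff_mem _).2 (Ideal.mem_map_of_mem _ hxm))
  have hxP : Ideal.span {algebraMap O B x} = P := by
    obtain ⟨J, hJ⟩ := hdvd
    by_cases hJ1 : J = ⊤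
    · rw [hJ, hJ1, Ideal.mul_top]
    exfalso
    obtain ⟨Q, hQ, hJQ⟩ := J.exists_le_maximal hJ1
    have hQ0 : Q ≠ ⊥ := by
      intro h
      rw [h, le_bot_iff] at hJQ
      rw [hJQ, Ideal.mul_bot] at hJ
      rw [Ideal.span_singleton_eq_bot] at hJ
      have hx0 : x = 0 := FaithfulSMul.algebraMap_injective O B (hJ.trans (map_zero _).symm)
      -- a zero element lies in every `W v`, and some `v` exists
      haveI : Algebra.IsIntegral O B := Algebra.IsIntegral.of_finite O B
      obtain ⟨Q', hQ', hPQ'⟩ := P.exists_le_maximal (fun hP => by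
        obtain ⟨Q'', hQ''⟩ := Ideal.exists_maximal B
        haveI := hQ''
        have := IsLocalRing.eq_maximalIdeal (Ideal.isMaximal_comap_of_isIntegral_of_isMaximal (R := O) Q'')
        exact hQ''.ne_top (top_le_iff.1 (hP ▸ Ideal.map_le_iff_le_comap.2 this.ge)))
      have hQ'0 : Q' ≠ ⊥ := fun h => hP0 (le_bot_iff.1 (h ▸ hPQ'))
      exact hxbar ⟨⟨Q', hQ'.isPrime, hQ'0⟩, Ideal.dvd_iff_le.2 hPQ'⟩
        ⟨⟨x, hxm⟩, (show algebraMap O B x ∈ Q' * P by rw [hx0, map_zero]; exact zero_mem _), rfl⟩
    have hxQ : algebraMap O B x ∈ Q * P := by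
      have : Ideal.span {algebraMap O B x} ≤ Q * P := by
        rw [hJ, mul_comm Q P]; exact Ideal.mul_mono_right hJQ
      exact this (Ideal.mem_span_singleton_self _)
    haveI : Algebra.IsIntegral O B := Algebra.IsIntegral.of_finite O B
    have hPQ : P ≤ Q := by
      haveI := hQ
      exact Ideal.map_le_iff_le_comap.2 (IsLocalRing.eq_maximalIdeal (Ideal.isMaximal_comap_of_isIntegral_of_isMaximal (R := O) Q)).ge
    exact hxbar ⟨⟨Q, hQ.isPrime, hQ0⟩, Ideal.dvd_iff_le.2 hPQ⟩ ⟨⟨x, hxm⟩, hxQ, rfl⟩
  have hx0 : x ≠ 0 := by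
    rintro rfl
    rw [map_zero, Ideal.span_singleton_eq_bot.2 rfl] at hxP
    exact hP0 hxP.symm
  have hsub : m • (⊤ : Submodule O B) = x • (⊤ : Submodule O B) := by
    rw [Ideal.smul_top_eq_map]
    ext z
    rw [Submodule.restrictScalars_mem, show Ideal.map (algebraMap O B) m = P from rfl, ← hxP,
      Ideal.mem_span_singleton', Submodule.mem_smul_pointwise_iff_exists]
    constructor
    · rintro ⟨c, rfl⟩; exact ⟨c, Submodule.mem_top, by rw [Algebra.smul_def, mul_comm]⟩
    · rintro ⟨c, -, rfl⟩; exact ⟨c, by rw [Algebra.smul_def, mul_comm]⟩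
  -- ranks
  have hrkM : Module.finrank O M = n := by
    rw [← hn, IsFractionRing.finrank_right_eq O K]
    haveI : IsLocalizedModule (nonZeroDivisors O) (TensorProduct.mk O K M 1) :=
      (isLocalizedModule_iff_isBaseChange (nonZeroDivisors O) K _).2 (TensorProduct.isBaseChange O M K)
    exact congrArg Cardinal.toNat (IsLocalizedModule.rank_eq (nonZeroDivisors O) le_rfl (TensorProduct.mk O K M 1)).symm
  have hrkB : Module.finrank O B = 1 := by
    refine le_antisymm ?_ ?_
    · have h1 := LinearMap.rank_le_of_injective (IsScalarTower.toAlgHom O B K).toLinearMap (IsFractionRing.injective B K)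
      rw [← IsFractionRing.rank_right_eq O K (S := K), CommSemiring.rank_self] at h1
      exact Module.finrank_le_of_rank_le (n := 1) (by exact_mod_cast h1)
    · exact Module.finrank_pos (R := O) (M := B)
  have hpi : ∀ r : ℕ, Module.length O ((Fin r → O) ⧸ x • (⊤ : Submodule O (Fin r → O))) =
      r * Module.length O (O ⧸ x • (⊤ : Submodule O O)) := by
    intro r
    let π : (Fin r → O) →ₗ[O] (Fin r → O ⧸ x • (⊤ : Submodule O O)) := (Submodule.mkQ _).compLeft (Fin r)
    have hπ : Function.Surjective π := fun w => by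
      choose v hv using fun i => Submodule.mkQ_surjective _ (w i)
      exact ⟨v, funext hv⟩
    have hk : LinearMap.ker π = x • (⊤ : Submodule O (Fin r → O)) := by
      ext v
      simp only [LinearMap.mem_ker, π, funext_iff, LinearMap.compLeft_apply, Function.comp_apply, Submodule.mkQ_apply,
        Pi.zero_apply, Submodule.Quotient.mk_eq_zero, Submodule.mem_smul_pointwise_iff_exists, Submodule.mem_top, true_and]
      exact ⟨fun h => ⟨fun i => (h i).choose, fun i => (h i).choose_spec⟩, fun ⟨w, hw⟩ i => ⟨w i, hw i⟩⟩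
    rw [← ((Submodule.quotEquivOfEq _ _ hk.symm).trans (π.quotKerEquivOfSurjective hπ)).symm.length_eq,
      Module.length_pi_of_fintype, Finset.sum_const, Finset.card_univ, Fintype.card_fin, nsmul_eq_mul]
  have hcmp : ∀ (N' : Type u) [AddCommGroup N'] [Module O N'] [Module.Finite O N'] [Module.IsTorsionFree O N'] (r : ℕ),
      Module.finrank O N' = r → Module.length O (N' ⧸ x • (⊤ : Submodule O N')) = r * Module.length O (O ⧸ x • (⊤ : Submodule O O)) := by
    intro N' _ _ _ _ r hr
    obtain ⟨v, hv⟩ := exists_linearIndependent_of_le_finrank hr.ge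
    rw [← hpi r]
    refine hlat x hx0 _ N' (Fintype.linearCombination O v) hv.fintypeLinearCombination_injective ?_
    have h := Submodule.finrank_quotient_add_finrank (LinearMap.range (Fintype.linearCombination O v))
    rw [LinearMap.finrank_range_of_inj hv.fintypeLinearCombination_injective,
      Module.finrank_fin_fun] at h
    omega
  rw [hsub, hcmp B 1 hrkB, Nat.cast_one, one_mul, ← hcmp M n hrkM]
  -- Nakayama
  have hgen := IsLocalRing.spanFinrank_eq_finrank_quotient (⊤ : Submodule O M) Module.Finite.fg_top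
  let Q := (⊤ : Submodule O M) ⧸ maximalIdeal O • (⊤ : Submodule O (⊤ : Submodule O M))
  letI : Field (O ⧸ maximalIdeal O) := Ideal.Quotient.field _
  haveI : Module.Finite (O ⧸ maximalIdeal O) Q := Module.Finite.of_restrictScalars_finite O _ Q
  have hlenQ : Module.length O Q = Module.finrank (O ⧸ maximalIdeal O) Q := by
    rw [Module.length_eq_of_surjective (R := O ⧸ maximalIdeal O) (S := O) Ideal.Quotient.mk_surjective, Module.length_eq_finrank]
  rw [hgen]
  refine (le_of_eq hlenQ.symm).trans (Module.length_le_of_surjective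
    (Submodule.mapQ (x • (⊤ : Submodule O M)) _ Submodule.topEquiv.symm.toLinearMap ?_) ?_)
  · intro z hz
    obtain ⟨w, -, rfl⟩ := (Submodule.mem_smul_pointwise_iff_exists _ _ _).1 hz
    rw [Submodule.mem_comap, map_smul]
    exact Submodule.smul_mem_smul hxm Submodule.mem_top
  · intro w
    obtain ⟨z, rfl⟩ := Submodule.Quotient.mk_surjective _ w
    exact ⟨Submodule.Quotient.mk (z : M), rfl⟩

end Groth.Agent.S15011
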