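import Groth.Statements.S15035
import Groth.Agent.TFLat15.Basic
import Groth.Agent.S15009
-- import your own Groth.Agent.* helpers here

set_option autoImplicit false
set_option backward.isDefEq.respectTransparency false
universe u
open TFCurv

namespace Groth.Agent.S15035

/-- Let O be a one-dimensional Gorenstein local domain with algebraically closed residue field whose
integral closure O~ in its fraction field K is a finite O-module, and C ⊆ O the conductor of O in
O~. Then every finitely generated torsion-free O-module of rank n is isomorphic to an O-submodule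
M'' of K^n with C^n ⊆ M'' ⊆ O^n. (For a general O the published statement places M'' between (O~*)^n
and ω^n for the canonical ideal ω; only the Gorenstein case ω = O, O~* = C is stated.) -/
theorem result (O : Type u) [CommRing O] [IsDomain O] [LocCoh.IsGorensteinLocalRing O] (hdim : ringKrullDim O = 1) [IsAlgClosed (IsLocalRing.ResidueField O)] (K : Type u) [Field K] [Algebra O K] [IsFractionRing O K] (hfin : Module.Finite O ↥(integralClosure O K)) (M : Type u) [AddCommGroup M] [Module O M] [Module.Finite O M] [NoZeroSMulDivisors O M] (n : ℕ) (hn : Module.finrank K (TensorProduct O K M) = n) : ∃ M'' : Submodule O (Fin n → K), Submodule.pi Set.univ (fun _ : Fin n => (((1 : Submodule O K).colon (Subalgebra.toSubmodule (integralClosure O K))) • (1 : Submodule O K))) ≤ M'' ∧ M'' ≤ Submodule.pi Set.univ (fun _ : Fin n => (1 : Submodule O K)) ∧ Nonempty (M ≃ₗ[O] ↥M'') := by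
  classical
  haveI : IsNoetherianRing O := inferInstance
  haveI : IsLocalRing O := inferInstance
  have hc := TFLat15.canon_one O hdim K hfin
  haveI : NoZeroSMulDivisors O K := TFDual15.nzsd_field
  obtain ⟨M1, h1, h2, ⟨e1⟩⟩ := S15009.result O hdim K hfin M n hn
  obtain ⟨hN1, hN2, ⟨eN⟩⟩ := TFLat15.orth_spec M1 h1 h2
  haveI : Module.Finite O M1 := Module.Finite.equiv e1
  haveI : NoZeroSMulDivisors O M1 := ⟨fun {c x} h =>
    (eq_zero_or_eq_zero_of_smul_eq_zero (show c • e1.symm x = 0 by rw [← map_smul, h, map_zero])).imp id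
      fun h' => e1.symm.injective (by rw [h', map_zero])⟩
  haveI : Module.Finite O ↥(1 : Submodule O K) := Module.Finite.iff_fg.2 hc.fg
  haveI : Module.Finite O (TFLat15.orth M1) := by
    haveI := TFDual15.finite_dual hc M1
    exact Module.Finite.equiv eN.symm
  haveI : NoZeroSMulDivisors O (TFLat15.orth M1) := ⟨fun {c x} h =>
    (eq_zero_or_eq_zero_of_smul_eq_zero (show c • (x : Fin n → K) = 0 from congrArg Subtype.val h)).imp id
      fun h' => Subtype.ext h'⟩
  haveI : Module.Finite O ↥(integralClosure O K) := hfin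
  have hr : Module.finrank K (TensorProduct O K (TFLat15.orth M1)) = n :=
    TFLat15.finrank_tensor_of_lattice fun v => by
      obtain ⟨r, hr, hrv⟩ := TFLat15.exists_ne_zero_smul_mem_cnd (O := O) v
      exact ⟨r, hr, hN1 hrv⟩
  obtain ⟨N2, k1, k2, ⟨e2⟩⟩ := S15009.result O hdim K hfin (TFLat15.orth M1) n hr
  obtain ⟨hL1, hL2, ⟨eL⟩⟩ := TFLat15.orth_spec N2 k1 k2
  refine ⟨TFLat15.orth N2, hL1, hL2, ⟨?_⟩⟩
  let eA : ((M1 →ₗ[O] ↥(1 : Submodule O K)) →ₗ[O] ↥(1 : Submodule O K)) ≃ₗ[O] (↥N2 →ₗ[O] ↥(1 : Submodule O K)) :=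
    LinearEquiv.arrowCongr (eN.symm.trans e2) (LinearEquiv.refl O _)
  let eev : ↥M1 ≃ₗ[O] ((M1 →ₗ[O] ↥(1 : Submodule O K)) →ₗ[O] ↥(1 : Submodule O K)) :=
    LinearEquiv.ofBijective (TFDual15.ev (1 : Submodule O K) M1) (TFDual15.ev_bijective hc M1)
  exact e1.trans (eev.trans (eA.trans eL.symm))

end Groth.Agent.S15035
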