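import Groth.Statements.S15012
import Groth.Agent.TFLat15.Basic
import Groth.Agent.S15009
import Groth.Agent.S15035
import Groth.Agent.Lattice7.SemilocalBasis
-- import your own Groth.Agent.* helpers here

set_option autoImplicit false
set_option backward.isDefEq.respectTransparency false
universe u
open TFCurv

namespace Groth.Agent.S15012
open TFLat15 in
/-- The `K`-linear extension of a `B`-linear endomorphism of `Bⁿ`. -/
noncomputable def extB {O : Type u} [CommRing O] {K : Type u} [Field K] [Algebra O K] {n : ℕ}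
    (v : (Fin n → ↥(integralClosure O K)) →ₗ[↥(integralClosure O K)] (Fin n → ↥(integralClosure O K))) :
    (Fin n → K) →ₗ[K] (Fin n → K) :=
  Fintype.linearCombination K fun i j => ((v (Pi.single i 1) j : ↥(integralClosure O K)) : K)

lemma extB_coe {O : Type u} [CommRing O] {K : Type u} [Field K] [Algebra O K] {n : ℕ}
    (v : (Fin n → ↥(integralClosure O K)) →ₗ[↥(integralClosure O K)] (Fin n → ↥(integralClosure O K)))
    (x : Fin n → ↥(integralClosure O K)) (j : Fin n) :
    extB v (fun i => (x i : K)) j = (v x j : K) := by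
  classical
  conv_rhs => rw [pi_eq_sum_univ' x, map_sum]
  simp only [extB, Fintype.linearCombination_apply, map_smul, Finset.sum_apply, Pi.smul_apply, smul_eq_mul]
  push_cast
  rfl

lemma extB_comp {O : Type u} [CommRing O] {K : Type u} [Field K] [Algebra O K] {n : ℕ}
    (v : (Fin n → ↥(integralClosure O K)) ≃ₗ[↥(integralClosure O K)] (Fin n → ↥(integralClosure O K)))
    (x : Fin n → K) : extB v.toLinearMap (extB v.symm.toLinearMap x) = x := by
  classical
  suffices h : (extB v.toLinearMap).comp (extB v.symm.toLinearMap) = LinearMap.id from LinearMap.congr_fun h x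
  refine (Pi.basisFun K (Fin n)).ext fun i => funext fun j => ?_
  have he : (Pi.basisFun K (Fin n) i) = fun l => ((Pi.single i 1 : Fin n → ↥(integralClosure O K)) l : K) := by
    funext l
    rw [Pi.basisFun_apply]
    by_cases h : l = i
    · subst h; simp
    · simp [h]
  rw [LinearMap.comp_apply, LinearMap.id_apply, he]
  have h1 : extB v.symm.toLinearMap (fun l => ((Pi.single i 1 : Fin n → ↥(integralClosure O K)) l : K)) =
      fun l => (v.symm (Pi.single i 1) l : K) := funext fun l => extB_coe _ _ l
  rw [h1, extB_coe]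
  simp

lemma extB_mem {O : Type u} [CommRing O] {K : Type u} [Field K] [Algebra O K] {n : ℕ}
    (v : (Fin n → ↥(integralClosure O K)) →ₗ[↥(integralClosure O K)] (Fin n → ↥(integralClosure O K)))
    {P : Submodule O K} (hP : ∀ x ∈ P, ∀ b ∈ integralClosure O K, x * b ∈ P)
    {x : Fin n → K} (hx : x ∈ TFLat15.pw n P) : extB v x ∈ TFLat15.pw n P := by
  intro j _
  simp only [extB, Fintype.linearCombination_apply, Finset.sum_apply, Pi.smul_apply, smul_eq_mul]
  exact Submodule.sum_mem _ fun i _ => hP _ (hx i trivial) _ (v (Pi.single i 1) j).2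

/-- Coordinatewise multiplication. -/
def diag {O : Type u} [CommRing O] {K : Type u} [Field K] [Algebra O K] {n : ℕ} (r : Fin n → K) :
    (Fin n → K) →ₗ[O] (Fin n → K) :=
  LinearMap.pi fun i => LinearMap.mulLeft O (r i) ∘ₗ LinearMap.proj i

lemma enat_between {a T : ℕ∞} {k : ℕ} (h1 : a ≤ T) (h2 : T ≤ a + k) : ∃ j ≤ k, T = a + (j : ℕ∞) := by
  induction a using ENat.recTopCoe with
  | top => exact ⟨0, Nat.zero_le _, by rw [Nat.cast_zero, add_zero]; exact top_le_iff.1 h1⟩
  | coe a =>
    induction T using ENat.recTopCoe with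
    | top => exact absurd h2 (by rw [top_le_iff, ← Nat.cast_add]; exact ENat.natCast_ne_top _)
    | coe T =>
      rw [← Nat.cast_add, Nat.cast_le] at h2
      rw [Nat.cast_le] at h1
      exact ⟨T - a, by omega, by rw [← Nat.cast_add, Nat.cast_inj]; omega⟩


set_option maxHeartbeats 2000000 in
/-- Let O be a one-dimensional Gorenstein local domain with algebraically closed residue field whose
integral closure O~ in its fraction field K is a finite O-module, and let C ⊆ O be the conductor of
O in O~. Every finitely generated torsion-free O-module of rank n is isomorphic to an O-submodule M'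
of K^n with C^n ⊆ M' ⊆ O~^n and length(M'/C^n) = n · length(O/C); that is, every isomorphism class
of rank-n torsion-free modules is represented by a submodule of (O~/C)^n of the same length as
(O/C)^n. -/
theorem result (O : Type u) [CommRing O] [IsDomain O] [LocCoh.IsGorensteinLocalRing O] (hdim : ringKrullDim O = 1) [IsAlgClosed (IsLocalRing.ResidueField O)] (K : Type u) [Field K] [Algebra O K] [IsFractionRing O K] (hfin : Module.Finite O ↥(integralClosure O K)) (M : Type u) [AddCommGroup M] [Module O M] [Module.Finite O M] [NoZeroSMulDivisors O M] (n : ℕ) (hn : Module.finrank K (TensorProduct O K M) = n) : ∃ M' : Submodule O (Fin n → K), Submodule.pi Set.univ (fun _ : Fin n => (((1 : Submodule O K).colon (Subalgebra.toSubmodule (integralClosure O K))) • (1 : Submodule O K))) ≤ M' ∧ M' ≤ Submodule.pi Set.univ (fun _ : Fin n => (Subalgebra.toSubmodule (integralClosure O K))) ∧ Nonempty (M ≃ₗ[O] ↥M') ∧ Module.length O (↥M' ⧸ Submodule.comap M'.subtype (Submodule.pi Set.univ (fun _ : Fin n => (((1 : Submodule O K).colon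 (Subalgebra.toSubmodule (integralClosure O K))) • (1 : Submodule O K))))) = (n : ℕ∞) * Module.length O (O ⧸ ((1 : Submodule O K).colon (Subalgebra.toSubmodule (integralClosure O K)))) := by
  classical
  haveI : IsNoetherianRing O := inferInstance
  haveI : IsLocalRing O := inferInstance
  haveI : NoZeroSMulDivisors O K := TFDual15.nzsd_field
  let B := integralClosure O K
  haveI : Module.Finite O B := hfin
  haveI : Ring.KrullDimLE 1 O := Ring.krullDimLE_iff.2 hdim.le
  haveI : Ring.DimensionLEOne O := ⟨fun {_} h0 hp => hp.isMaximal_of_ne_bot h0⟩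
  haveI : Ring.DimensionLEOne B := inferInstance
  haveI : IsNoetherianRing B :=
    isNoetherian_of_tower O (isNoetherian_of_isNoetherianRing_of_finite O B)
  haveI : IsFractionRing B K := IsIntegralClosure.isFractionRing_of_finite_extension O K K B
  haveI : IsIntegrallyClosed B := integralClosure.isIntegrallyClosedOfFiniteExtension K
  haveI : IsDedekindDomain B := {}
  haveI := Lattice7.finite_maximalSpectrum_of_finite (O := O) (B := B)
  haveI : IsPrincipalIdealRing B := IsPrincipalIdealRing.of_finite_primes (by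
    refine Set.Finite.subset ((Set.toFinite (Set.range fun m : {m : Ideal B // m.IsMaximal} => m.1)).union
      (Set.finite_singleton ⊥)) fun P hP => ?_
    rcases eq_or_ne P ⊥ with rfl | h
    · exact Or.inr rfl
    · exact Or.inl ⟨⟨P, (hP : P.IsPrime).isMaximal h⟩, rfl⟩)
  -- two representatives
  obtain ⟨M1, hA1, hA2, ⟨e1⟩⟩ := S15009.result O hdim K hfin M n hn
  obtain ⟨M2, hB1, hB2, ⟨e2⟩⟩ := S15035.result O hdim K hfin M n hn
  let φ : M1 ≃ₗ[O] M2 := e1.symm.trans e2
  obtain ⟨g, hg⟩ := TFLat15.exists_extend hA1 (M2.subtype ∘ₗ φ.toLinearMap)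
  simp only [LinearMap.comp_apply, LinearEquiv.coe_coe, Submodule.subtype_apply] at hg
  have hginj : Function.Injective g := by
    rw [injective_iff_map_eq_zero]
    intro v hv
    obtain ⟨r, hr, hrv⟩ := TFLat15.exists_ne_zero_smul_mem (O := O) v
    have h := hg ⟨r • v, hA1 hrv⟩
    rw [show g (r • v) = r • g v from LinearMap.map_smul_of_tower g r v, hv, smul_zero] at h
    have h' : (⟨r • v, hA1 hrv⟩ : M1) = 0 := φ.injective (by rw [map_zero]; exact Subtype.ext h.symm)
    exact (eq_zero_or_eq_zero_of_smul_eq_zero (congrArg Subtype.val h')).resolve_left hr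
  have hgM : M1.map (g.restrictScalars O) = M2 := by
    refine le_antisymm ?_ fun y hy => ⟨(φ.symm ⟨y, hy⟩ : M1), (φ.symm ⟨y, hy⟩).2, ?_⟩
    · rintro _ ⟨x, hx, rfl⟩
      show g x ∈ M2
      rw [hg ⟨x, hx⟩]; exact (φ _).2
    · show g _ = y
      rw [hg, φ.apply_symm_apply]
  have hsingle : ∀ i, (Pi.single i 1 : Fin n → K) ∈ M1 := fun i => hA1 fun j _ => by
    by_cases h : j = i
    · subst h; rw [Pi.single_eq_same]; exact Submodule.one_le.1 le_rfl
    · rw [Pi.single_eq_of_ne h]; exact zero_mem _
  -- the integral matrix of `g`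
  have hcol : ∀ i j, g (Pi.single i 1) j ∈ B := fun i j => by
    rw [hg ⟨_, hsingle i⟩]; exact TFLat15.one_le_closure (hB2 (φ _).2 j trivial)
  let G : (Fin n → B) →ₗ[B] (Fin n → B) := Fintype.linearCombination B fun i j => ⟨_, hcol i j⟩
  have hG : ∀ (x : Fin n → B) j, g (fun i => (x i : K)) j = (G x j : K) := by
    intro x j
    conv_lhs => rw [pi_eq_sum_univ' (fun i => (x i : K)), map_sum, Finset.sum_apply]
    simp only [G, Fintype.linearCombination_apply, Finset.sum_apply, Pi.smul_apply, smul_eq_mul, map_smul]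
    push_cast
    rfl
  have hGinj : Function.Injective G := by
    intro x y h
    have : (fun i => (x i : K)) = fun i => (y i : K) := hginj (funext fun j => by rw [hG, hG, h])
    exact funext fun i => Subtype.ext (congrFun this i)
  obtain ⟨b', t, ab', hab⟩ := Submodule.exists_smith_normal_form_of_rank_eq (Pi.basisFun B (Fin n))
    (N := LinearMap.range G) (LinearEquiv.ofInjective G hGinj).finrank_eq.symm
  have ht : ∀ i, t i ≠ 0 := fun i h => ab'.ne_zero i (Subtype.ext (by rw [hab, h, zero_smul]; rfl))
  let u : (Fin n → B) ≃ₗ[B] (Fin n → B) := (LinearEquiv.ofInjective G hGinj).trans ab'.equivFun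
  let q : (Fin n → B) ≃ₗ[B] (Fin n → B) := b'.equivFun
  have hqG : ∀ x i, q (G x) i = t i * u x i := by
    intro x i
    have h1 : (G x : Fin n → B) = ∑ l, (u x l * t l) • b' l := by
      have h2 := congrArg Subtype.val (ab'.sum_equivFun (LinearEquiv.ofInjective G hGinj x))
      rw [Submodule.coe_sum] at h2
      refine (h2.trans rfl).symm.trans (Finset.sum_congr rfl fun l _ => ?_)
      rw [Submodule.coe_smul, hab, smul_smul]
      rfl
    rw [h1, map_sum, Finset.sum_apply, Finset.sum_eq_single i]
    · rw [map_smul]; simp [q, mul_comm]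
    · intro l _ hl; rw [map_smul]; simp [q, Ne.symm hl]
    · simp
  let U := extB u.toLinearMap
  let Q := extB q.toLinearMap
  have hQg : ∀ x, Q (g x) = diag (O := O) (fun i => (t i : K)) (U x) := by
    suffices h : (Q.comp g) = (LinearMap.pi fun i => (t i : K) • (LinearMap.proj i).comp U) by
      intro x; exact LinearMap.congr_fun h x
    refine (Pi.basisFun K (Fin n)).ext fun i => funext fun j => ?_
    have he : (Pi.basisFun K (Fin n) i) = fun l => ((Pi.single i 1 : Fin n → B) l : K) := by
      funext l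
      rw [Pi.basisFun_apply]
      by_cases h : l = i
      · subst h; simp
      · simp [h]
    rw [he, LinearMap.comp_apply, show g (fun l => ((Pi.single i 1 : Fin n → B) l : K)) =
      fun l => (G (Pi.single i 1) l : K) from funext (hG _)]
    show Q _ j = (t j : K) * U _ j
    rw [extB_coe, extB_coe]
    exact congrArg Subtype.val (hqG _ j)
  -- stable lattices
  let C := TFLat15.cnd O K
  have hCB : ∀ x ∈ C, ∀ b ∈ B, x * b ∈ C := fun x hx b hb => TFLat15.mem_cnd.2 fun y hy => by
    rw [mul_assoc]; exact TFLat15.mem_cnd.1 hx _ (mul_mem hb hy)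
  have hBB : ∀ x ∈ Subalgebra.toSubmodule B, ∀ b ∈ B, x * b ∈ Subalgebra.toSubmodule B := fun x hx b hb =>
    mul_mem (S := Subalgebra O K) (s := B) hx hb
  have hmapC : ∀ v : (Fin n → B) ≃ₗ[B] (Fin n → B),
      (TFLat15.pw n C).map ((extB v.toLinearMap).restrictScalars O) = TFLat15.pw n C := fun v => by
    refine le_antisymm ?_ fun y hy => ⟨extB v.symm.toLinearMap y, extB_mem _ hCB hy, extB_comp v y⟩
    rintro _ ⟨x, hx, rfl⟩
    exact extB_mem _ hCB hx
  have hinjE : ∀ v : (Fin n → B) ≃ₗ[B] (Fin n → B), Function.Injective ((extB v.toLinearMap).restrictScalars O) := fun v =>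
    Function.LeftInverse.injective (g := extB v.symm.toLinearMap) fun x => by
      simpa using extB_comp v.symm x
  have hCM1 : TFLat15.pw n C ≤ M1 := (TFLat15.pw_mono TFLat15.cnd_le_one).trans hA1
  -- colengths of the conductor
  let T : ℕ∞ := (n : ℕ∞) * Module.length O (O ⧸ (1 : Submodule O K).colon (Subalgebra.toSubmodule B))
  have hT : TFLat15.len (TFLat15.pw n C) (TFLat15.pw n (1 : Submodule O K)) = T := by
    rw [TFLat15.len_pi, Finset.sum_const, Finset.card_univ, Fintype.card_fin, nsmul_eq_mul]
    congr 1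
    let e : O ≃ₗ[O] ↥(1 : Submodule O K) :=
      (LinearEquiv.ofInjective (Algebra.linearMap O K) (IsFractionRing.injective O K)).trans
        (LinearEquiv.ofEq _ _ Submodule.one_eq_range.symm)
    refine TFLat15.len_of_surjective
      (Submodule.mkQ ((1 : Submodule O K).colon (Subalgebra.toSubmodule B)) ∘ₗ e.symm.toLinearMap)
      ((Submodule.mkQ_surjective _).comp e.symm.surjective) fun x => ?_
    obtain ⟨r, rfl⟩ := e.surjective x
    simp only [LinearMap.comp_apply, LinearEquiv.coe_coe, LinearEquiv.symm_apply_apply, Submodule.mkQ_apply,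
      Submodule.Quotient.mk_eq_zero]
    rw [show ((e r : ↥(1 : Submodule O K)) : K) = algebraMap O K r from rfl, Submodule.mem_colon, TFLat15.mem_cnd]
    simp only [Algebra.smul_def]
    exact Iff.rfl
  have hlow : TFLat15.len (TFLat15.pw n C) M2 ≤ T := hT ▸ TFLat15.len_mono hB1 hB2
  have hhigh : T ≤ TFLat15.len (TFLat15.pw n C) M1 :=
    hT ▸ TFLat15.len_mono (TFLat15.pw_mono TFLat15.cnd_le_one) hA1
  -- the conductor is principal in `B`
  let J : Ideal B :=
    { carrier := {y | (y : K) ∈ C}
      add_mem' := fun {a b} ha hb => by show ((a + b : B) : K) ∈ C; rw [Subalgebra.coe_add]; exact add_mem ha hb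
      zero_mem' := by show ((0 : B) : K) ∈ C; rw [Subalgebra.coe_zero]; exact zero_mem _
      smul_mem' := fun c x hx => by
        show ((c * x : B) : K) ∈ C
        rw [Subalgebra.coe_mul, mul_comm]; exact hCB _ hx _ c.2 }
  let γ : B := Submodule.IsPrincipal.generator J
  have hγ : γ ≠ 0 := by
    intro h0
    obtain ⟨r, hr, hr'⟩ := TFLat15.exists_ne_zero_mem_cnd (O := O) (K := K)
    have : algebraMap O B r ∈ J := hr'
    rw [show J = ⊥ from (Submodule.IsPrincipal.eq_bot_iff_generator_eq_zero J).2 h0, Ideal.mem_bot] at this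
    exact hr ((map_eq_zero_iff _ (IsFractionRing.injective O K)).1 (congrArg Subtype.val this))
  let mγ : B →ₗ[O] K := LinearMap.mulLeft O (γ : K) ∘ₗ B.val.toLinearMap
  have hmγ : Function.Injective mγ := fun a b h =>
    Subtype.ext (mul_left_cancel₀ (fun h' => hγ (Subtype.ext h')) h)
  have hCγ : C = (⊤ : Submodule O B).map mγ := by
    refine le_antisymm (fun x hx => ?_) ?_
    · have hx1 : x ∈ B := TFLat15.one_le_closure (TFLat15.cnd_le_one hx)
      obtain ⟨c, hc⟩ := (Submodule.IsPrincipal.mem_iff_generator_dvd J (x := ⟨x, hx1⟩)).1 hx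
      exact ⟨c, trivial, (congrArg Subtype.val hc).symm⟩
    · rintro _ ⟨c, -, rfl⟩
      exact hCB _ (Submodule.IsPrincipal.generator_mem J : γ ∈ J) _ c.2
  have hdiag : ∀ s : Fin n → B, (∀ i, s i ≠ 0) →
      TFLat15.len ((TFLat15.pw n C).map (diag (O := O) fun i => (s i : K))) (TFLat15.pw n C) =
        ∑ i, TFLat15.len (LinearMap.range (LinearMap.mulLeft O (s i))) ⊤ := by
    intro s hs
    have h1 : (TFLat15.pw n C).map (diag (O := O) fun i => (s i : K)) =
        Submodule.pi Set.univ fun i => (LinearMap.range (LinearMap.mulLeft O (s i))).map mγ := by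
      refine le_antisymm ?_ fun y hy => ?_
      · rintro _ ⟨x, hx, rfl⟩ i -
        obtain ⟨c, -, hc⟩ := hCγ.le (hx i trivial)
        refine ⟨s i * c, ⟨c, rfl⟩, ?_⟩
        show (γ : K) * ((s i * c : B) : K) = (s i : K) * x i
        rw [← hc, Subalgebra.coe_mul, mul_left_comm]
        rfl
      · have h2 : ∀ i, ∃ c : B, (s i : K) * mγ c = y i := fun i => by
          obtain ⟨_, ⟨c, rfl⟩, hc⟩ := hy i trivial
          exact ⟨c, by rw [← hc]; exact mul_left_comm _ _ _⟩
        choose c hc using h2
        exact ⟨fun i => mγ (c i), fun i _ => hCγ.ge ⟨c i, trivial, rfl⟩, funext hc⟩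
    rw [h1, hCγ]
    exact (TFLat15.len_pi _ _).trans (Finset.sum_congr rfl fun i _ => TFLat15.len_map mγ hmγ _ _)
  obtain ⟨k, hk, hk'⟩ := TFLat15.exists_dvd_len_sum (O := O) (Finset.univ : Finset (Fin n)) ht
  -- the family of lattices
  have hmain : ∀ s r : Fin n → B, (∀ i, t i = s i * r i) →
      TFLat15.pw n C ≤ M1.map (diag (O := O) (fun i => (r i : K)) ∘ₗ U.restrictScalars O) ∧
      TFLat15.len (TFLat15.pw n C) (M1.map (diag (O := O) (fun i => (r i : K)) ∘ₗ U.restrictScalars O)) =
        TFLat15.len (TFLat15.pw n C) M2 + ∑ i, TFLat15.len (LinearMap.range (LinearMap.mulLeft O (s i))) ⊤ := by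
    intro s r hsr
    have hs : ∀ i, s i ≠ 0 := fun i h => ht i (by rw [hsr i, h, zero_mul])
    set L := M1.map (diag (O := O) (fun i => (r i : K)) ∘ₗ U.restrictScalars O)
    set D := diag (O := O) fun i => (s i : K)
    have hDinj : Function.Injective D := fun a b h => funext fun i =>
      mul_left_cancel₀ (fun h' => hs i (Subtype.ext h')) (congrFun h i)
    have hDL : L.map D = M2.map (Q.restrictScalars O) := by
      rw [← hgM, ← Submodule.map_comp, ← Submodule.map_comp]
      refine congrArg (fun f => Submodule.map f M1) (LinearMap.ext fun x => funext fun i => ?_)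
      show (s i : K) * ((r i : K) * U x i) = Q (g x) i
      rw [hQg, ← mul_assoc, ← Subalgebra.coe_mul, ← hsr]
      rfl
    have hC2 : TFLat15.pw n C ≤ L.map D := by
      rw [hDL]
      exact (hmapC q).ge.trans (Submodule.map_mono hB1)
    have hDC : (TFLat15.pw n C).map D ≤ TFLat15.pw n C := by
      rintro _ ⟨x, hx, rfl⟩ i -
      show (s i : K) * x i ∈ C
      rw [mul_comm]; exact hCB _ (hx i trivial) _ (s i).2
    have hCL : TFLat15.pw n C ≤ L := fun c hc => by
      obtain ⟨l, hl, hlc⟩ := hC2 (hDC ⟨c, hc, rfl⟩)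
      exact hDinj hlc ▸ hl
    refine ⟨hCL, ?_⟩
    rw [← TFLat15.len_map D hDinj (TFLat15.pw n C) L, TFLat15.len_add hDC hC2, hdiag s hs, hDL, add_comm]
    congr 1
    conv_lhs => rw [← hmapC q]
    exact TFLat15.len_map _ (hinjE q) _ _
  have hup : T ≤ TFLat15.len (TFLat15.pw n C) M2 + (k : ℕ∞) := by
    refine hhigh.trans ?_
    obtain ⟨-, h2⟩ := hmain t (fun _ => 1) fun i => (mul_one (t i)).symm
    rw [show diag (O := O) (fun _ : Fin n => ((1 : B) : K)) ∘ₗ U.restrictScalars O = U.restrictScalars O from
      LinearMap.ext fun x => funext fun i => one_mul _, ← hmapC u] at h2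
    rw [TFLat15.len_map _ (hinjE u), hmapC u] at h2
    rw [h2, hk]
  obtain ⟨j, hj, hTj⟩ := enat_between hlow hup
  obtain ⟨s, hs, hsj⟩ := hk' j hj
  choose r hr using hs
  obtain ⟨hCL, hlen⟩ := hmain s r hr
  refine ⟨M1.map (diag (O := O) (fun i => (r i : K)) ∘ₗ U.restrictScalars O), hCL, ?_, ⟨?_⟩, ?_⟩
  · rintro _ ⟨x, hx, rfl⟩ i -
    exact mul_mem (S := Subalgebra O K) (s := B) (r i).2 (extB_mem u.toLinearMap hBB (hA2 hx) i trivial)
  · refine e1.trans (Submodule.equivMapOfInjective _ ?_ M1)
    intro a b h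
    apply hinjE u
    funext i
    exact mul_left_cancel₀ (fun h' => ht i (by rw [hr i, show r i = 0 from Subtype.ext h', mul_zero])) (congrFun h i)
  · show TFLat15.len _ _ = T
    rw [hlen, hsj, hTj]

end Groth.Agent.S15012
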