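import Groth.Statements.S15015
import Mathlib
-- import your own Groth.Agent.* helpers here

set_option autoImplicit false
universe u
open TFCurv

namespace Groth.Agent.S15015

/-- Let k be an algebraically closed field and A ≠ k[[t]] a k-subalgebra of k[[t]] that is closed in the
t-adic topology, over which k[[t]] is a finite module, and such that every power series is carried
into A by multiplication with some nonzero element of A (so k[[t]] lies in the fraction field of A
and is its normalisation, as for the complete local ring of a unibranch curve singularity), and let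
Γ ⊆ ℕ be the set of t-orders of the nonzero elements of A (its value semigroup). Then ℕ ∖ Γ is
finite and the k-dimension of k[[t]]/A equals the number of gaps of Γ. -/
theorem result (k : Type u) [Field k] [IsAlgClosed k] (A : Subalgebra k (PowerSeries k)) (hA : Module.Finite ↥A (PowerSeries k)) (hcl : ∀ f : PowerSeries k, (∀ n : ℕ, ∃ g ∈ A, (n : ℕ∞) ≤ PowerSeries.order (f - g)) → f ∈ A) (hsing : A ≠ ⊤) (hbir : ∀ f : PowerSeries k, ∃ a ∈ A, a ≠ 0 ∧ a * f ∈ A) (Γ : Set ℕ) (hΓ : ∀ n : ℕ, n ∈ Γ ↔ ∃ f ∈ A, PowerSeries.order f = n) : Γᶜ.Finite ∧ Module.finrank k (PowerSeries k ⧸ Subalgebra.toSubmodule A) = Γᶜ.ncard := by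
  classical
  obtain ⟨s, hs⟩ := hA
  choose a ha ha0 hmul using hbir
  let c : PowerSeries k := ∏ g ∈ s, a g
  have hc0 : c ≠ 0 := Finset.prod_ne_zero_iff.2 fun g _ => ha0 g
  have hcA : ∀ f, c * f ∈ A := fun f => by
    have hf : f ∈ Submodule.span ↥A (s : Set (PowerSeries k)) := hs ▸ Submodule.mem_top
    induction hf using Submodule.span_induction with
    | mem g hg =>
      show (∏ g ∈ s, a g) * g ∈ A
      rw [← Finset.prod_erase_mul s a hg, mul_assoc]
      exact A.mul_mem (prod_mem fun i _ => ha i) (hmul g)
    | zero => rw [mul_zero]; exact A.zero_mem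
    | add x y _ _ hx hy => rw [mul_add]; exact A.add_mem hx hy
    | smul r x _ hx =>
      rw [Subalgebra.smul_def, smul_eq_mul, mul_left_comm]
      exact A.mul_mem r.2 hx
  obtain ⟨N, hN⟩ : ∃ N : ℕ, c.order = N := ENat.ne_top_iff_exists.1 (fun h => hc0 (PowerSeries.order_eq_top.1 h)) |>.imp fun _ h => h.symm
  have hbig : ∀ f : PowerSeries k, (N : ℕ∞) ≤ f.order → f ∈ A := fun f hf => by
    obtain ⟨u, hu⟩ : c ∣ f := by
      have h1 : PowerSeries.X ^ N ∣ f :=
        PowerSeries.X_pow_dvd_iff.2 fun m hm => PowerSeries.coeff_of_lt_order m (lt_of_lt_of_le (by exact_mod_cast hm) hf)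
      obtain ⟨v, hv⟩ := PowerSeries.X_pow_dvd_iff.2 (fun m (hm : m < N) => PowerSeries.coeff_of_lt_order (φ := c) m (by rw [hN]; exact_mod_cast hm))
      have hu : IsUnit v := by
        rw [PowerSeries.isUnit_iff_constantCoeff, isUnit_iff_ne_zero, ← PowerSeries.coeff_zero_eq_constantCoeff_apply]
        have h2 := PowerSeries.coeff_order (φ := c) hc0
        have h3 : c.order.toNat = N := by rw [hN]; rfl
        rw [h3, hv] at h2
        have h4 : PowerSeries.coeff N (PowerSeries.X ^ N * v) = PowerSeries.coeff 0 v := by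
          simpa using PowerSeries.coeff_X_pow_mul v N 0
        rwa [h4] at h2
      rw [hv]
      exact (hu.mul_right_dvd).2 h1
    rw [hu]
    exact hcA u
  have hG : ∀ n, N ≤ n → n ∈ Γ := fun n hn => (hΓ n).2 ⟨PowerSeries.X ^ n,
    hbig _ (by rw [PowerSeries.order_X_pow]; exact_mod_cast hn), PowerSeries.order_X_pow n⟩
  have hfin : Γᶜ.Finite := (Set.finite_lt_nat N).subset fun n hn => Nat.lt_of_not_le fun h => hn (hG n h)
  refine ⟨hfin, ?_⟩
  let V : Submodule k (PowerSeries k) := Submodule.span k ((fun n => PowerSeries.monomial n (1 : k)) '' Γᶜ)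
  have hV : ∀ f ∈ V, ∀ n ∈ Γ, PowerSeries.coeff n f = 0 := fun f hf => by
    induction hf using Submodule.span_induction with
    | mem g hg =>
      obtain ⟨i, hi, rfl⟩ := hg
      intro n hn
      rw [PowerSeries.coeff_monomial, if_neg]
      exact fun h => hi (h ▸ hn)
    | zero => simp
    | add x y _ _ hx hy => intro n hn; rw [map_add, hx n hn, hy n hn, add_zero]
    | smul r x _ hx => intro n hn; rw [map_smul, hx n hn, smul_zero]
  have hcompl : IsCompl (Subalgebra.toSubmodule A) V := by
    constructor
    · rw [Submodule.disjoint_def]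
      intro f hfA hfV
      by_contra hne
      obtain ⟨n, hn⟩ := ENat.ne_top_iff_exists.1 (fun h => hne (PowerSeries.order_eq_top.1 h) : f.order ≠ ⊤)
      have h1 := hV f hfV n ((hΓ n).2 ⟨f, hfA, hn.symm⟩)
      exact ((PowerSeries.order_eq_nat.1 hn.symm).1 h1)
    · rw [codisjoint_iff, eq_top_iff]
      have key : ∀ j n : ℕ, N ≤ n + j → ∀ f : PowerSeries k, (n : ℕ∞) ≤ f.order →
          f ∈ Subalgebra.toSubmodule A ⊔ V := by
        intro j
        induction j with
        | zero =>
          intro n hn f hf
          exact Submodule.mem_sup_left (hbig f (le_trans (by exact_mod_cast (by omega : N ≤ n)) hf))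
        | succ j ih =>
          intro n hn f hf
          obtain ⟨g, hg, hgl, hgn⟩ : ∃ g ∈ Subalgebra.toSubmodule A ⊔ V,
              (∀ i < n, PowerSeries.coeff i g = 0) ∧ PowerSeries.coeff n g = PowerSeries.coeff n f := by
            by_cases hnΓ : n ∈ Γ
            · obtain ⟨a, haA, han⟩ := (hΓ n).1 hnΓ
              obtain ⟨h1, h2⟩ := PowerSeries.order_eq_nat.1 han
              refine ⟨(PowerSeries.coeff n f / PowerSeries.coeff n a) • a,
                Submodule.mem_sup_left (Submodule.smul_mem _ _ haA), fun i hi => ?_, ?_⟩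
              · rw [map_smul, h2 i hi, smul_zero]
              · rw [map_smul, smul_eq_mul, div_mul_cancel₀ _ h1]
            · refine ⟨PowerSeries.coeff n f • PowerSeries.monomial n (1 : k),
                Submodule.mem_sup_right (Submodule.smul_mem _ _ (Submodule.subset_span ⟨n, hnΓ, rfl⟩)),
                fun i hi => ?_, ?_⟩
              · rw [map_smul, PowerSeries.coeff_monomial, if_neg hi.ne, smul_zero]
              · rw [map_smul, PowerSeries.coeff_monomial, if_pos rfl, smul_eq_mul, mul_one]
          have h : f - g ∈ Subalgebra.toSubmodule A ⊔ V := ih (n + 1) (by omega) (f - g)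
            (PowerSeries.nat_le_order _ _ fun i hi => by
              rcases Nat.lt_succ_iff_lt_or_eq.1 hi with h | rfl
              · rw [map_sub, hgl i h, PowerSeries.coeff_of_lt_order i (lt_of_lt_of_le (by exact_mod_cast h) hf), sub_zero]
              · rw [map_sub, hgn, sub_self])
          simpa using add_mem h hg
      exact fun f _ => key N 0 (by omega) f (by simp)
  rw [(Submodule.quotientEquivOfIsCompl _ _ hcompl).finrank_eq]
  have : Fintype ↥(Γᶜ : Set ℕ) := hfin.fintype
  have hli : LinearIndependent k (fun n : ↥(Γᶜ : Set ℕ) => PowerSeries.monomial (n : ℕ) (1 : k)) := by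
    refine linearIndependent_iff'.2 fun t w h i hi => ?_
    have h1 := congrArg (PowerSeries.coeff (i : ℕ)) h
    rw [map_sum, map_zero, Finset.sum_eq_single i] at h1
    · simpa [PowerSeries.coeff_monomial] using h1
    · intro b _ hb
      rw [map_smul, PowerSeries.coeff_monomial, if_neg (fun e => hb (Subtype.ext e.symm)), smul_zero]
    · exact fun h => absurd hi h
  have e : Set.range (fun n : ↥(Γᶜ : Set ℕ) => PowerSeries.monomial (n : ℕ) (1 : k)) =
      (fun n => PowerSeries.monomial n (1 : k)) '' Γᶜ := by ext; simp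
  have := finrank_span_eq_card hli
  rw [e] at this
  exact this.trans (by rw [Set.ncard_eq_toFinset_card', Set.toFinset_card])

end Groth.Agent.S15015
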