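import Groth.Statements.S15016
import Mathlib
-- import your own Groth.Agent.* helpers here

set_option autoImplicit false
universe u
open TFCurv

namespace Groth.Agent.S15016

/-- Let k be an algebraically closed field and A ≠ k[[t]] a k-subalgebra of k[[t]] that is closed in the
t-adic topology and over which k[[t]] is a finite module (as for the complete local ring of a
unibranch curve singularity inside its normalisation), and let Γ ⊆ ℕ be the set of t-orders of the
nonzero elements of A (its value semigroup); let c be the conductor of Γ, so that every n ≥ c lies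
in Γ and c − 1 does not. Then for a power series f, f · k[[t]] ⊆ A holds exactly when the order of f
is at least c: the conductor of A in k[[t]] is t^c · k[[t]], of codimension c. -/
theorem result (k : Type u) [Field k] [IsAlgClosed k] (A : Subalgebra k (PowerSeries k)) (hA : Module.Finite ↥A (PowerSeries k)) (hcl : ∀ f : PowerSeries k, (∀ n : ℕ, ∃ g ∈ A, (n : ℕ∞) ≤ PowerSeries.order (f - g)) → f ∈ A) (hsing : A ≠ ⊤) (Γ : Set ℕ) (hΓ : ∀ n : ℕ, n ∈ Γ ↔ ∃ f ∈ A, PowerSeries.order f = n) (c : ℕ) (hc : ∀ n : ℕ, c ≤ n → n ∈ Γ) (hc0 : c ≠ 0) (hc1 : c - 1 ∉ Γ) (f : PowerSeries k) : (∀ g : PowerSeries k, g * f ∈ A) ↔ (c : ℕ∞) ≤ PowerSeries.order f := by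
  classical
  -- everything of order at least `c` lies in `A`
  have hcond : ∀ f : PowerSeries k, (c : ℕ∞) ≤ f.order → f ∈ A := by
    intro f hf
    refine hcl f fun n => ?_
    induction n with
    | zero => exact ⟨0, A.zero_mem, by simp⟩
    | succ n ih =>
      obtain ⟨g, hg, hgn⟩ := ih
      by_cases hlt : n < c
      · refine ⟨0, A.zero_mem, ?_⟩
        rw [sub_zero]
        exact le_trans (by exact_mod_cast hlt) hf
      · obtain ⟨q, hqA, hqo⟩ := (hΓ n).mp (hc n (not_lt.mp hlt))
        have hq0 : q ≠ 0 := fun h => by rw [h, PowerSeries.order_zero] at hqo; exact ENat.top_ne_coe n hqo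
        have hqn : PowerSeries.coeff n q ≠ 0 := by
          have := PowerSeries.coeff_order hq0
          rwa [hqo, ENat.toNat_coe] at this
        refine ⟨g + (PowerSeries.coeff n (f - g) / PowerSeries.coeff n q) • q,
          A.add_mem hg (A.smul_mem hqA _), ?_⟩
        refine PowerSeries.nat_le_order _ _ fun i hi => ?_
        rcases lt_or_eq_of_le (Nat.lt_succ_iff.mp hi) with h | h
        · have e1 : PowerSeries.coeff i (f - g) = 0 :=
            PowerSeries.coeff_of_lt_order i (lt_of_lt_of_le (by exact_mod_cast h) hgn)
          have e2 : PowerSeries.coeff i q = 0 :=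
            PowerSeries.coeff_of_lt_order i (by rw [hqo]; exact_mod_cast h)
          rw [map_sub] at e1
          rw [map_sub, map_add, map_smul, e2, smul_zero, add_zero, e1]
        · subst h
          rw [map_sub, map_add, map_smul, smul_eq_mul, div_mul_cancel₀ _ hqn, map_sub]
          ring
  constructor
  · intro h
    by_contra hlt
    rw [not_le] at hlt
    have hne : f.order ≠ ⊤ := ne_top_of_lt hlt
    obtain ⟨m, hm⟩ := ENat.ne_top_iff_exists.mp hne
    rw [← hm] at hlt
    have hmc : m < c := by exact_mod_cast hlt
    refine hc1 ((hΓ (c - 1)).mpr ⟨PowerSeries.X ^ (c - 1 - m) * f, h _, ?_⟩)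
    rw [PowerSeries.order_mul, PowerSeries.order_X_pow, ← hm, ← Nat.cast_add]
    congr 1
    omega
  · intro hf g
    refine hcond _ (le_trans ?_ (PowerSeries.le_order_mul g f))
    exact le_add_left hf

end Groth.Agent.S15016
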