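import Groth.Statements.S15018
import Groth.Agent.TFCurv.Semigroup

set_option autoImplicit false
open TFCurv

namespace Groth.Agent.S15018

/-- Let Γ be a numerical semigroup (a submonoid of (ℕ, +) with finite complement), Γ ≠ ℕ, with conductor
c (every n ≥ c lies in Γ, c − 1 does not). Then Γ is symmetric (for x < c, x is a gap exactly when c
− 1 − x ∈ Γ) if and only if there is exactly one gap n of Γ such that Γ ∪ {n} is again stable under
adding elements of Γ, i.e. n + γ ∈ Γ for every nonzero γ ∈ Γ. -/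
theorem result (Γ : AddSubmonoid ℕ) (c : ℕ) (hc : ∀ n : ℕ, c ≤ n → n ∈ Γ) (hc0 : c ≠ 0) (hc1 : c - 1 ∉ Γ) : (∀ x : ℕ, x < c → (x ∉ Γ ↔ c - 1 - x ∈ Γ)) ↔ ∃! n : ℕ, n ∉ Γ ∧ ∀ γ : ℕ, γ ∈ Γ → γ ≠ 0 → n + γ ∈ Γ := by
  constructor
  · intro hs
    refine ⟨c - 1, ⟨hc1, fun γ _ hγ0 => hc _ (by omega)⟩, fun n ⟨hn, hpf⟩ => ?_⟩
    by_contra hne
    have hnc : n < c := by
      by_contra h
      exact hn (hc n (by omega))
    have hmem := (hs n hnc).1 hn
    have := hpf _ hmem (by omega)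
    rw [show n + (c - 1 - n) = c - 1 by omega] at this
    exact hc1 this
  · rintro ⟨p, -, huniq⟩ x hx
    have hp : c - 1 = p := huniq _ ⟨hc1, fun γ _ hγ0 => hc _ (by omega)⟩
    refine ⟨fun hxg => ?_, fun h hxm => hc1 (by
      rw [show c - 1 = x + (c - 1 - x) by omega]; exact add_mem hxm h)⟩
    classical
    obtain ⟨M, hM, hMmax⟩ : ∃ M, (M < c ∧ M ∉ Γ ∧ x ≤ M ∧ M - x ∈ Γ) ∧
        ∀ n, n < c → n ∉ Γ → x ≤ n → n - x ∈ Γ → n ≤ M := by
      let D : Finset ℕ := (Finset.range c).filter fun n => n ∉ Γ ∧ x ≤ n ∧ n - x ∈ Γ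
      have hDne : D.Nonempty := ⟨x, by simp [D, hx, hxg, zero_mem]⟩
      refine ⟨D.max' hDne, ?_, fun n h1 h2 h3 h4 => D.le_max' n (by simp [D, h1, h2, h3, h4])⟩
      have := Finset.mem_filter.1 (D.max'_mem hDne)
      exact ⟨Finset.mem_range.1 this.1, this.2⟩
    have hp' : M = p := by
      refine huniq _ ⟨hM.2.1, fun γ hγ hγ0 => ?_⟩
      by_contra hg
      have hlt : M + γ < c := by
        by_contra h
        exact hg (hc _ (by omega))
      have h4 : M + γ - x ∈ Γ := by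
        rw [show M + γ - x = (M - x) + γ by omega]
        exact add_mem hM.2.2.2 hγ
      have := hMmax _ hlt hg (by omega) h4
      omega
    rw [← hp] at hp'
    rw [hp'] at hM
    exact hM.2.2.2

end Groth.Agent.S15018
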