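import Groth.Statements.S15019
import Groth.Agent.TFCurv.Semigroup

set_option autoImplicit false
open TFCurv

namespace Groth.Agent.S15019

/-- Let Γ be a numerical semigroup (a submonoid of (ℕ, +) with finite complement), Γ ≠ ℕ, with conductor
c (every n ≥ c lies in Γ, c − 1 does not), let e be its multiplicity (the least nonzero element of
Γ), and let S ⊆ ℕ be a Γ-module in normal form: 0 ∈ S and γ + s ∈ S for all γ ∈ Γ, s ∈ S. Then the
set of gaps n of S with S ∪ {n} again a Γ-module (n + γ ∈ S for every nonzero γ ∈ Γ) has at most e −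
1 elements, and so does the set of nonzero s ∈ S with S ∖ {s} again a Γ-module (s − γ ∉ S for every
nonzero γ ∈ Γ with γ ≤ s). -/
theorem result (Γ : AddSubmonoid ℕ) (c : ℕ) (hc : ∀ n : ℕ, c ≤ n → n ∈ Γ) (hc0 : c ≠ 0) (hc1 : c - 1 ∉ Γ) (e : ℕ) (he : e ∈ Γ) (he0 : e ≠ 0) (hemin : ∀ γ : ℕ, γ ∈ Γ → γ ≠ 0 → e ≤ γ) (S : Set ℕ) (hS0 : (0 : ℕ) ∈ S) (hS : ∀ γ : ℕ, γ ∈ Γ → ∀ s : ℕ, s ∈ S → γ + s ∈ S) : {n : ℕ | n ∉ S ∧ ∀ γ : ℕ, γ ∈ Γ → γ ≠ 0 → n + γ ∈ S}.encard ≤ ((e - 1 : ℕ) : ℕ∞) ∧ {s : ℕ | s ∈ S ∧ s ≠ 0 ∧ ∀ γ : ℕ, γ ∈ Γ → γ ≠ 0 → γ ≤ s → s - γ ∉ S}.encard ≤ ((e - 1 : ℕ) : ℕ∞) := by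
  have hmul : ∀ k : ℕ, ∀ s ∈ S, k * e + s ∈ S := fun k s hs =>
    hS _ (by simpa using Γ.nsmul_mem he k) s hs
  have hcard : (Finset.Icc 1 (e - 1) : Set ℕ).encard = ((e - 1 : ℕ) : ℕ∞) := by
    rw [Set.encard_coe_eq_coe_finsetCard]
    simp
  refine ⟨?_, ?_⟩
  · rw [← hcard]
    refine Set.encard_le_encard_of_injOn (f := fun n => n % e) ?_ ?_
    · rintro n ⟨hn, -⟩
      have : n % e ≠ 0 := fun h => hn (by
        obtain ⟨k, hk⟩ := Nat.dvd_of_mod_eq_zero h
        rw [hk, mul_comm, ← add_zero (k * e)]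
        exact hmul k 0 hS0)
      have := Nat.mod_lt n (show 0 < e by omega)
      simp; omega
    · intro a ha b hb hab
      by_contra hne
      wlog hlt : a < b generalizing a b
      · exact this hb ha hab.symm (Ne.symm hne) (by omega)
      obtain ⟨k, hk⟩ := (Nat.modEq_iff_dvd' hlt.le).1 hab
      have hk0 : k ≠ 0 := by rintro rfl; simp at hk; omega
      apply hb.1
      have : e ≤ e * k := Nat.le_mul_of_pos_right e (by omega)
      rw [show b = (k - 1) * e + (a + e) by rw [mul_comm, Nat.mul_sub_one]; omega]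
      exact hmul _ _ (ha.2 e he he0)
  · rw [← hcard]
    refine Set.encard_le_encard_of_injOn (f := fun n => n % e) ?_ ?_
    · rintro n ⟨hn, hn0, hn'⟩
      have : n % e ≠ 0 := fun h => by
        obtain ⟨k, hk⟩ := Nat.dvd_of_mod_eq_zero h
        have hk0 : k ≠ 0 := by rintro rfl; simp at hk; omega
        have : e ≤ e * k := Nat.le_mul_of_pos_right e (by omega)
        refine hn' e he he0 (by omega) ?_
        rw [show n - e = (k - 1) * e + 0 by rw [mul_comm, Nat.mul_sub_one]; omega]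
        exact hmul _ 0 hS0
      have := Nat.mod_lt n (show 0 < e by omega)
      simp; omega
    · intro a ha b hb hab
      by_contra hne
      wlog hlt : a < b generalizing a b
      · exact this hb ha hab.symm (Ne.symm hne) (by omega)
      obtain ⟨k, hk⟩ := (Nat.modEq_iff_dvd' hlt.le).1 hab
      have hk0 : k ≠ 0 := by rintro rfl; simp at hk; omega
      have : e ≤ e * k := Nat.le_mul_of_pos_right e (by omega)
      refine hb.2.2 e he he0 (by omega) ?_
      rw [show b - e = (k - 1) * e + a by rw [mul_comm, Nat.mul_sub_one]; omega]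
      exact hmul _ _ ha.1

end Groth.Agent.S15019
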