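import Groth.Statements.S6484
import Mathlib

set_option autoImplicit false
universe u
open CategoryTheory AlgebraicGeometry
open CategoryTheory.Limits
open Cyc

namespace Groth.Agent.S6484

/-- If f : Y → X is completely decomposed (this prelude's Cyc.IsCompletelyDecomposed: over every point
of X lies a point of Y with trivial residue field extension) and g : X' → X is any morphism of
schemes, then the base change Y ×_X X' → X' is completely decomposed. Consequently the base change
of an envelope (a proper completely decomposed morphism) is an envelope, properness being preserved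
by base change. (The published envelope statement takes X′ → X between schemes locally of finite
type over a base; this row allows any g.) -/
theorem result (X X' Y : Scheme.{u}) (f : Y ⟶ X) (g : X' ⟶ X) (hcd : Cyc.IsCompletelyDecomposed f) : Cyc.IsCompletelyDecomposed (pullback.snd f g) := by
  intro x'
  obtain ⟨y, hy, hsurj⟩ := hcd (g x')
  have hb : Function.Bijective (f.residueFieldMap y).hom := ⟨RingHom.injective _, hsurj⟩
  haveI : IsIso (f.residueFieldMap y) := (ConcreteCategory.isIso_iff_bijective _).mpr hb
  let a : Spec (X'.residueField x') ⟶ Y :=
    Spec.map (inv (f.residueFieldMap y) ≫ (X.residueFieldCongr hy).hom ≫ g.residueFieldMap x') ≫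
      Y.fromSpecResidueField y
  have ha : a ≫ f = X'.fromSpecResidueField x' ≫ g := by
    simp only [a, Category.assoc]
    rw [← Scheme.Hom.SpecMap_residueFieldMap_fromSpecResidueField f y, ← Spec.map_comp_assoc,
      ← Category.assoc (f.residueFieldMap y), IsIso.hom_inv_id, Category.id_comp,
      Spec.map_comp, Category.assoc, Scheme.residueFieldCongr_fromSpecResidueField,
      Scheme.Hom.SpecMap_residueFieldMap_fromSpecResidueField]
  let l : Spec (X'.residueField x') ⟶ pullback f g := pullback.lift a (X'.fromSpecResidueField x') ha
  obtain ⟨pt, u, hu⟩ : ∃ (pt : ↥(pullback f g)) (u : (pullback f g).residueField pt ⟶ X'.residueField x'),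
      Spec.map u ≫ (pullback f g).fromSpecResidueField pt = l := by
    obtain ⟨⟨pt, u⟩, hpu⟩ := ⟨(Scheme.SpecToEquivOfField (X'.residueField x') (pullback f g)) l,
      (Scheme.SpecToEquivOfField (X'.residueField x') (pullback f g)).symm_apply_apply l⟩
      |> fun p : {q // (Scheme.SpecToEquivOfField (X'.residueField x') (pullback f g)).symm q = l} => p
    exact ⟨pt, u, hpu⟩
  have hsnd : l ≫ pullback.snd f g = X'.fromSpecResidueField x' := pullback.lift_snd _ _ _
  have hpt : pullback.snd f g pt = x' := by
    have h1 : (pullback.snd f g) (l (IsLocalRing.closedPoint (X'.residueField x'))) =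
        X'.fromSpecResidueField x' (IsLocalRing.closedPoint (X'.residueField x')) := by
      rw [← Scheme.Hom.comp_apply, hsnd]
    rw [← hu, Scheme.Hom.comp_apply, Scheme.fromSpecResidueField_apply,
      Scheme.fromSpecResidueField_apply] at h1
    exact h1
  refine ⟨pt, hpt, ?_⟩
  have key : (X'.residueFieldCongr hpt.symm).hom ≫ (pullback.snd f g).residueFieldMap pt ≫ u = 𝟙 _ := by
    apply Spec.map_injective
    rw [← cancel_mono (X'.fromSpecResidueField x'), Spec.map_comp, Spec.map_comp, Category.assoc,
      Category.assoc, Scheme.residueFieldCongr_fromSpecResidueField,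
      Scheme.Hom.SpecMap_residueFieldMap_fromSpecResidueField, reassoc_of% hu, hsnd, Spec.map_id,
      Category.id_comp]
  intro b
  refine ⟨(X'.residueFieldCongr hpt.symm).hom (u b), u.hom.injective ?_⟩
  exact congrArg (fun m => m (u b)) key
end Groth.Agent.S6484
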