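import Groth.Statements.S1502
import Groth.Agent.FlatMorAdm.CdCover
import Groth.Agent.H8Lim.Approximation
import Groth.Agent.H8Lim.ApproxFP
import Groth.Agent.S6484
import Groth.Agent.S7184

set_option autoImplicit false
universe u
open FlatMor
set_option backward.isDefEq.respectTransparency.types false

namespace Groth.Agent.S1502

open AlgebraicGeometry CategoryTheory Limits in
/-- Let X be quasi-compact and quasi-separated. Then there is a morphism f : Y → X which is proper, of
finite presentation and completely decomposed (every point of X is the image of a point with trivial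
residue field extension) such that Y has an ample family of invertible modules. -/
theorem result (X : Scheme.{u}) [CompactSpace ↑X] [QuasiSeparatedSpace ↑X] :
    ∃ (Y : Scheme.{u}) (f : Y ⟶ X), IsProper f ∧ LocallyOfFinitePresentation f ∧
      (∀ x : X, ∃ y : Y, f y = x ∧ Function.Bijective (f.residueFieldMap y)) ∧ MoreMor.HasAmpleFamily Y := by
  let R := Spec (CommRingCat.of (ULift.{u} ℤ))
  haveI : IsNoetherianRing (ULift.{u} ℤ) := isNoetherianRing_of_ringEquiv ℤ ULift.ringEquiv.symm
  haveI : IsLocallyNoetherian R := inferInstance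
  obtain ⟨X₀, a, f₁, ha, hc, hq, hlft, -⟩ :=
    H8Lim.exists_isAffineHom_locallyOfFiniteType (S := X) (R := R) (specULiftZIsTerminal.from X)
  haveI : IsLocallyNoetherian X₀ := LocallyOfFiniteType.isLocallyNoetherian f₁
  haveI : IsNoetherian X₀ := {}
  obtain ⟨Y₀, f₀, hf₀, hY₀, hcd⟩ := FlatMorAdm.exists_cd_cover X₀ ⊤
  haveI : LocallyOfFinitePresentation f₀ := inferInstance
  have hcd' : Cyc.IsCompletelyDecomposed f₀ := fun x => by
    obtain ⟨y, hy, hb⟩ := hcd x trivial
    exact ⟨y, hy, hb.2⟩
  refine ⟨pullback f₀ a, pullback.snd f₀ a, inferInstance, inferInstance, fun x => ?_,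
    Groth.Agent.S7184.result (pullback.fst f₀ a) (Or.inl (MorphismProperty.pullback_fst _ _ ha)) hY₀⟩
  obtain ⟨y, hy, hs⟩ := Groth.Agent.S6484.result X₀ X Y₀ f₀ a hcd' x
  exact ⟨y, hy, RingHom.injective _, hs⟩

end Groth.Agent.S1502
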