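import Groth.Statements.S15023
import Mathlib
-- import your own Groth.Agent.* helpers here

set_option autoImplicit false
set_option maxHeartbeats 1000000
set_option synthInstance.maxHeartbeats 200000
universe u
open TFCurv

namespace Groth.Agent.S15023

/-- Let k be an algebraically closed field and A ≠ k[[t]] a k-subalgebra of k[[t]] that is closed in the
t-adic topology, over which k[[t]] is a finite module, and such that every power series is carried
into A by multiplication with some nonzero element of A (so k[[t]] lies in the fraction field of A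
and is its normalisation, as for the complete local ring of a unibranch curve singularity), and let
Γ ⊆ ℕ be the set of t-orders of the nonzero elements of A (its value semigroup); assume moreover
that A is the monomial ring of Γ (a power series lies in A exactly when all its exponents lie in Γ),
and let δ be the number of gaps of Γ. Then every finitely generated torsion-free A-module of rank
one is isomorphic to an A-submodule M' of k[[t]] with t^{2δ} k[[t]] ⊆ M' and dim_k(k[[t]]/M') = δ,
equivalently dim_k(M'/t^{2δ}k[[t]]) = δ: every isomorphism class of rank-one torsion-free modules is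
represented by a δ-dimensional A-stable subspace of k[[t]]/t^{2δ}k[[t]]. -/
theorem result (k : Type u) [Field k] [IsAlgClosed k] (A : Subalgebra k (PowerSeries k)) (hA : Module.Finite ↥A (PowerSeries k)) (hcl : ∀ f : PowerSeries k, (∀ n : ℕ, ∃ g ∈ A, (n : ℕ∞) ≤ PowerSeries.order (f - g)) → f ∈ A) (hsing : A ≠ ⊤) (hbir : ∀ f : PowerSeries k, ∃ a ∈ A, a ≠ 0 ∧ a * f ∈ A) (Γ : Set ℕ) (hΓ : ∀ n : ℕ, n ∈ Γ ↔ ∃ f ∈ A, PowerSeries.order f = n) (hmono : ∀ f : PowerSeries k, f ∈ A ↔ ∀ n : ℕ, PowerSeries.coeff n f ≠ 0 → n ∈ Γ) (M : Type u) [AddCommGroup M] [Module ↥A M] [Module.Finite ↥A M] [NoZeroSMulDivisors ↥A M] (hrk : Module.finrank (FractionRing ↥A) (TensorProduct ↥A (FractionRing ↥A) M) = 1) : ∃ M' : Submodule ↥A (PowerSeries k), (Ideal.span {(PowerSeries.X : PowerSeries k) ^ (2 * Γᶜ.ncard)}).restrictScalars ↥A ≤ M' ∧ Nonempty (M ≃ₗ[↥A] ↥M') ∧ Module.finrank k (PowerSeries k ⧸ M'.restrictScalars k) = Γᶜ.ncard := by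
  classical
  -- a conductor
  obtain ⟨e, he⟩ : ∃ e : ℕ, ∀ g : PowerSeries k, PowerSeries.X ^ e * g ∈ A := by
    obtain ⟨s, hs⟩ := hA.fg_top
    choose a haA ha0 haf using hbir
    let c : A := ∏ f ∈ s, ⟨a f, haA f⟩
    have hc0 : (c : PowerSeries k) ≠ 0 := by
      simp only [c, SubmonoidClass.coe_finsetProd]
      exact Finset.prod_ne_zero_iff.2 fun f _ => ha0 f
    have hc : ∀ f : PowerSeries k, (c : PowerSeries k) * f ∈ A := by
      intro f
      have hf : f ∈ Submodule.span A (s : Set (PowerSeries k)) := hs ▸ Submodule.mem_top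
      induction hf using Submodule.span_induction with
      | mem y hy =>
        obtain ⟨d, hd⟩ := Finset.dvd_prod_of_mem (fun f => (⟨a f, haA f⟩ : A)) hy
        show ((∏ f ∈ s, (⟨a f, haA f⟩ : A) : A) : PowerSeries k) * y ∈ A
        rw [hd, MulMemClass.coe_mul, mul_right_comm]
        exact A.mul_mem (haf y) d.2
      | zero => rw [mul_zero]; exact A.zero_mem
      | add y y' _ _ h h' => rw [mul_add]; exact A.add_mem h h'
      | smul r y _ h => rw [Algebra.smul_def, mul_left_comm]; exact A.mul_mem r.2 h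
    obtain ⟨e, w, hw⟩ : ∃ (e : ℕ) (w : (PowerSeries k)ˣ), (c : PowerSeries k) = PowerSeries.X ^ e * (w : PowerSeries k) :=
      ⟨(c : PowerSeries k).order.toNat, (PowerSeries.isUnit_divided_by_X_pow_order hc0).unit,
        by rw [IsUnit.unit_spec]; exact PowerSeries.X_pow_order_mul_divXPowOrder.symm⟩
    refine ⟨e, fun g => ?_⟩
    have := hc ((w⁻¹ : (PowerSeries k)ˣ) * g)
    rwa [hw, mul_assoc, Units.mul_inv_cancel_left] at this
  have hord : ∀ (f : PowerSeries k), f ≠ 0 → ∃ n : ℕ, PowerSeries.order f = n := fun f hf =>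
    ⟨f.order.toNat, (ENat.coe_toNat (by rw [Ne, PowerSeries.order_eq_top]; exact hf)).symm⟩
  have hΓe : ∀ n, e ≤ n → n ∈ Γ := fun n hn => (hΓ n).2
    ⟨PowerSeries.X ^ n, by rw [show n = e + (n - e) by omega, pow_add]; exact he _, PowerSeries.order_X_pow n⟩
  have hΓfin : Γᶜ.Finite := (Set.finite_Iio e).subset fun n hn => by
    by_contra h; exact hn (hΓe n (by simpa using h))
  -- the module as an ideal of `A`
  obtain ⟨j, hj, m₀, hm₀⟩ : ∃ j : M →ₗ[A] PowerSeries k, Function.Injective j ∧ ∃ m₀, j m₀ ≠ 0 := by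
    haveI : IsLocalizedModule (nonZeroDivisors A) (TensorProduct.mk A (FractionRing A) M 1) :=
      (isLocalizedModule_iff_isBaseChange (nonZeroDivisors A) (FractionRing A) _).2 (TensorProduct.isBaseChange A M (FractionRing A))
    have hr : Module.finrank A M = 1 := by
      rw [← hrk, IsFractionRing.finrank_right_eq A (FractionRing A)]
      exact congrArg Cardinal.toNat (IsLocalizedModule.rank_eq (nonZeroDivisors A) le_rfl (TensorProduct.mk A (FractionRing A) M 1)).symm
    obtain ⟨v, hv⟩ := exists_linearIndependent_of_le_finrank (n := 1) hr.ge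
    have hdep : ∀ x : M, ∃ a : A, a ≠ 0 ∧ a • x ∈ Submodule.span A {v 0} := by
      intro x
      by_contra h
      push Not at h
      have hli : LinearIndependent A ![v 0, x] := by
        rw [LinearIndependent.pair_iff]
        intro s t hst
        have ht : t = 0 := by
          by_contra ht
          exact h t ht (Submodule.mem_span_singleton.2 ⟨-s, by rw [neg_smul, ← add_eq_zero_iff_neg_eq']; rwa [add_comm]⟩)
        subst ht
        rw [zero_smul, add_zero] at hst
        exact ⟨(smul_eq_zero.1 hst).resolve_right (hv.ne_zero 0), rfl⟩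
      have := hli.fintype_card_le_finrank
      rw [Fintype.card_fin, hr] at this
      omega
    choose a ha0 ha using hdep
    obtain ⟨s, hs⟩ := Module.Finite.fg_top (R := A) (M := M)
    let c : A := ∏ x ∈ s, a x
    have hc0 : c ≠ 0 := Finset.prod_ne_zero_iff.2 fun x _ => ha0 x
    have hc : ∀ x : M, c • x ∈ Submodule.span A {v 0} := by
      intro x
      have hx : x ∈ Submodule.span A (s : Set M) := hs ▸ Submodule.mem_top
      induction hx using Submodule.span_induction with
      | mem y hy =>
        obtain ⟨d, hd⟩ := Finset.dvd_prod_of_mem a hy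
        show (∏ x ∈ s, a x) • y ∈ _
        rw [hd, mul_comm, mul_smul]
        exact Submodule.smul_mem _ _ (ha y)
      | zero => rw [smul_zero]; exact Submodule.zero_mem _
      | add y y' _ _ h h' => rw [smul_add]; exact Submodule.add_mem _ h h'
      | smul r y _ h => rw [smul_comm]; exact Submodule.smul_mem _ _ h
    let cr : M →ₗ[A] Submodule.span A {v 0} := LinearMap.codRestrict _ (c • LinearMap.id) hc
    let eq := (LinearEquiv.toSpanNonzeroSingleton A M (v 0) (hv.ne_zero 0)).symm
    let j₀ : M →ₗ[A] A := eq.toLinearMap ∘ₗ cr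
    have hj₀ : Function.Injective j₀ := fun x y hxy =>
      smul_right_injective M hc0 (congrArg Subtype.val (eq.injective hxy) : c • x = c • y)
    refine ⟨(Algebra.linearMap A (PowerSeries k)) ∘ₗ j₀, Subtype.val_injective.comp hj₀, v 0, fun h => hv.ne_zero 0 ?_⟩
    exact hj₀ (Subtype.val_injective (h.trans (by simp)))
  -- normalise to a submodule containing a unit
  obtain ⟨e₀, he₀⟩ : ∃ e₀ : ℕ, (∀ x, PowerSeries.X ^ e₀ ∣ j x) ∧ ∃ x, PowerSeries.order (j x) = e₀ := by
    have hex : ∃ n : ℕ, ∃ x, PowerSeries.order (j x) = n := by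
      obtain ⟨n, hn⟩ := hord _ hm₀; exact ⟨n, m₀, hn⟩
    refine ⟨Nat.find hex, fun x => PowerSeries.X_pow_dvd_iff.2 fun i hi => ?_, Nat.find_spec hex⟩
    by_cases hx : j x = 0
    · rw [hx, map_zero]
    obtain ⟨n, hn⟩ := hord _ hx
    refine PowerSeries.coeff_of_lt_order _ (lt_of_lt_of_le (Nat.cast_lt.2 hi) ?_)
    rw [hn, Nat.cast_le]
    exact Nat.find_min' hex ⟨x, hn⟩
  let N : Submodule A (PowerSeries k) := (LinearMap.range j).comap (LinearMap.mulLeft A (PowerSeries.X ^ e₀))
  obtain ⟨u, huN, huu⟩ : ∃ u ∈ N, IsUnit u := by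
    obtain ⟨x, hx⟩ := he₀.2
    obtain ⟨q, hq⟩ := he₀.1 x
    refine ⟨q, ⟨x, hq⟩, PowerSeries.isUnit_iff_constantCoeff.2 (isUnit_iff_ne_zero.2 ?_)⟩
    have h2 : PowerSeries.coeff e₀ (j x) ≠ 0 := (PowerSeries.order_eq_nat.1 hx).1
    rw [hq] at h2
    simpa [PowerSeries.coeff_X_pow_mul'] using h2
  have hNe : ∀ g, PowerSeries.X ^ e * g ∈ N := by
    intro g
    obtain ⟨u, rfl⟩ := huu
    have h := N.smul_mem ⟨_, he (((u⁻¹ : (PowerSeries k)ˣ) : PowerSeries k) * g)⟩ huN
    rw [Algebra.smul_def] at h
    convert h using 1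
    show _ = PowerSeries.X ^ e * (((u⁻¹ : (PowerSeries k)ˣ) : PowerSeries k) * g) * (u : PowerSeries k)
    rw [mul_assoc, mul_right_comm (↑u⁻¹ : PowerSeries k), Units.inv_mul, one_mul]
  let Δ : Set ℕ := {n | ∃ f ∈ N, PowerSeries.order f = n}
  have hΔe : ∀ n, e ≤ n → n ∈ Δ := fun n hn =>
    ⟨PowerSeries.X ^ n, by rw [show n = e + (n - e) by omega, pow_add]; exact hNe _, PowerSeries.order_X_pow n⟩
  have hΔfin : Δᶜ.Finite := (Set.finite_Iio e).subset fun n hn => by
    by_contra h; exact hn (hΔe n (by simpa using h))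
  let G := hΔfin.toFinset
  have hG : ∀ n, n ∈ G ↔ n ∉ Δ := fun n => Set.Finite.mem_toFinset _
  -- gaps of `Δ` give a basis of the quotient
  let Φ : (G → k) →ₗ[k] PowerSeries k ⧸ N.restrictScalars k :=
    (N.restrictScalars k).mkQ ∘ₗ Fintype.linearCombination k (fun g : G => (PowerSeries.X : PowerSeries k) ^ (g : ℕ))
  have hcoef : ∀ (w : G → k) (n : ℕ), PowerSeries.coeff n (Fintype.linearCombination k (fun g : G => (PowerSeries.X : PowerSeries k) ^ (g : ℕ)) w) =
      if h : n ∈ G then w ⟨n, h⟩ else 0 := by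
    intro w n
    rw [Fintype.linearCombination_apply, map_sum]
    simp only [map_smul, PowerSeries.coeff_X_pow, smul_eq_mul, mul_ite, mul_one, mul_zero]
    split_ifs with h
    · rw [Finset.sum_eq_single ⟨n, h⟩]
      · simp
      · intro g _ hg; rw [if_neg]; exact fun e => hg (Subtype.ext e.symm)
      · simp
    · exact Finset.sum_eq_zero fun g _ => if_neg fun e => h (by rw [e]; exact g.2)
  have hΦi : Function.Injective Φ := (injective_iff_map_eq_zero _).2 fun w hw => by
    by_contra hne
    set f := Fintype.linearCombination k (fun g : G => (PowerSeries.X : PowerSeries k) ^ (g : ℕ)) w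
    have hf : f ∈ N := (Submodule.Quotient.mk_eq_zero _).1 hw
    have hf0 : f ≠ 0 := fun h => hne (funext fun g => by
      have := hcoef w g
      rw [dif_pos g.2] at this
      rw [Pi.zero_apply, ← this]
      show PowerSeries.coeff (g : ℕ) f = 0
      rw [h, map_zero])
    obtain ⟨n, hn⟩ := hord f hf0
    have h1 := (PowerSeries.order_eq_nat.1 hn).1
    rw [hcoef] at h1
    split_ifs at h1 with h
    · exact (hG n).1 h ⟨f, hf, hn⟩
    · exact h1 rfl
  have hΦs : Function.Surjective Φ := by
    have key : ∀ d j' : ℕ, e ≤ j' + d → ∀ f : PowerSeries k, PowerSeries.X ^ j' ∣ f →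
        (N.restrictScalars k).mkQ f ∈ LinearMap.range Φ := by
      intro d
      induction d with
      | zero =>
        intro j' hj' f hf
        obtain ⟨q, rfl⟩ := hf
        rw [show (N.restrictScalars k).mkQ (PowerSeries.X ^ j' * q) = 0 from (Submodule.Quotient.mk_eq_zero _).2 (by
          rw [show j' = e + (j' - e) by omega, pow_add, mul_assoc]; exact hNe _)]
        exact Submodule.zero_mem _
      | succ d ih =>
        intro j' hj' f hf
        obtain ⟨p, hp, hpd, hpc⟩ : ∃ p, (N.restrictScalars k).mkQ p ∈ LinearMap.range Φ ∧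
            PowerSeries.X ^ j' ∣ p ∧ PowerSeries.coeff j' p = 1 := by
          by_cases hjΔ : j' ∈ Δ
          · obtain ⟨p, hp, hpo⟩ := hjΔ
            have h := PowerSeries.order_eq_nat.1 hpo
            refine ⟨(PowerSeries.coeff j' p)⁻¹ • p, ?_, PowerSeries.X_pow_dvd_iff.2 fun i hi => by rw [map_smul, h.2 i hi, smul_zero],
              by rw [map_smul, smul_eq_mul, inv_mul_cancel₀ h.1]⟩
            rw [map_smul, show (N.restrictScalars k).mkQ p = 0 from (Submodule.Quotient.mk_eq_zero _).2 hp, smul_zero]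
            exact Submodule.zero_mem _
          · refine ⟨PowerSeries.X ^ j', ⟨Pi.single ⟨j', (hG j').2 hjΔ⟩ 1, ?_⟩, dvd_rfl, by simp⟩
            simp only [Φ, LinearMap.comp_apply, Fintype.linearCombination_apply_single, one_smul]
        rw [← sub_add_cancel f (PowerSeries.coeff j' f • p), map_add]
        refine Submodule.add_mem _ (ih (j' + 1) (by omega) _ (PowerSeries.X_pow_dvd_iff.2 fun i hi => ?_))
          (by rw [map_smul]; exact Submodule.smul_mem _ _ hp)
        rw [map_sub, map_smul, smul_eq_mul]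
        rcases Nat.lt_succ_iff_lt_or_eq.1 hi with h | rfl
        · rw [PowerSeries.X_pow_dvd_iff.1 hf i h, PowerSeries.X_pow_dvd_iff.1 hpd i h, mul_zero, sub_zero]
        · rw [hpc, mul_one, sub_self]
    intro y
    obtain ⟨f, rfl⟩ := Submodule.Quotient.mk_surjective _ y
    exact key e 0 (by omega) f (by rw [pow_zero]; exact one_dvd _)
  -- bounds
  have hsub : Δᶜ ⊆ Γᶜ := by
    intro n hn hnΓ
    obtain ⟨f, hf, hfo⟩ := (hΓ n).1 hnΓ
    refine hn ⟨f * u, ?_, ?_⟩
    · have := N.smul_mem ⟨f, hf⟩ huN
      rwa [Algebra.smul_def] at this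
    · rw [PowerSeries.order_mul, hfo, PowerSeries.order_zero_of_unit huu, add_zero]
  have hcard : G.card ≤ hΓfin.toFinset.card := Finset.card_le_card fun n hn => by
    rw [Set.Finite.mem_toFinset] at hn ⊢; exact hsub hn
  set δ := Γᶜ.ncard with hδdef
  have hδ : hΓfin.toFinset.card = δ := (Set.ncard_eq_toFinset_card _ hΓfin).symm
  obtain ⟨c, hcN, hcb⟩ : ∃ c : ℕ, (∀ g, PowerSeries.X ^ c * g ∈ N) ∧ c ≤ G.card + δ := by
    have hconv : ∀ c, (∀ n, c ≤ n → n ∈ Δ) → ∀ g, PowerSeries.X ^ c * g ∈ N := by
      intro c hc g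
      obtain ⟨w, hw⟩ := hΦs ((N.restrictScalars k).mkQ (PowerSeries.X ^ c * g))
      have hw' : Fintype.linearCombination k (fun g : G => (PowerSeries.X : PowerSeries k) ^ (g : ℕ)) w - PowerSeries.X ^ c * g ∈ N :=
        (Submodule.Quotient.eq _).1 hw
      have hw0 : w = 0 := by
        by_contra hne
        set f := Fintype.linearCombination k (fun g : G => (PowerSeries.X : PowerSeries k) ^ (g : ℕ)) w
        have hf0 : f - PowerSeries.X ^ c * g ≠ 0 := fun h => hne (funext fun i => by
          have h2 := congrArg (PowerSeries.coeff (i : ℕ)) h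
          rw [map_sub, map_zero, hcoef, dif_pos i.2, PowerSeries.coeff_X_pow_mul',
            if_neg (fun hci => (hG i).1 i.2 (hc _ hci)), sub_zero] at h2
          exact h2)
        obtain ⟨n, hn⟩ := hord _ hf0
        have h1 := (PowerSeries.order_eq_nat.1 hn).1
        by_cases hnG : n ∈ G
        · exact (hG n).1 hnG ⟨_, hw', hn⟩
        · -- then `n ≥ c`, and a smaller gap has a nonzero coefficient
          obtain ⟨i, hi⟩ := Function.ne_iff.1 hne
          have hic : ¬ c ≤ (i : ℕ) := fun hci => (hG i).1 i.2 (hc _ hci)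
          have h2 := (PowerSeries.order_eq_nat.1 hn).2
          rw [map_sub, hcoef, dif_neg hnG, PowerSeries.coeff_X_pow_mul'] at h1
          split_ifs at h1 with hcn
          · have h3 := h2 i (by omega)
            rw [map_sub, hcoef, dif_pos i.2, PowerSeries.coeff_X_pow_mul', if_neg hic, sub_zero] at h3
            exact hi h3
          · exact h1 (sub_zero 0)
      rw [hw0, map_zero, zero_sub, neg_mem_iff] at hw'
      exact hw'
    by_cases hGe : G = ∅
    · exact ⟨0, hconv 0 (fun n _ => by
        by_contra h; have := (hG n).2 h; rw [hGe] at this; simp at this), Nat.zero_le _⟩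
    have hGne := Finset.nonempty_iff_ne_empty.2 hGe
    set g₀ := G.max' hGne
    refine ⟨g₀ + 1, hconv _ (fun n hn => ?_), ?_⟩
    · by_contra h
      have := G.le_max' n ((hG n).2 h)
      omega
    · have hinj : ((Finset.range (g₀ + 1)).filter (· ∈ Γ)).card ≤ G.card := by
        refine Finset.card_le_card_of_injOn (fun s => g₀ - s) (fun s hs => ?_) (fun s hs s' hs' h => ?_)
        · simp only [Finset.coe_filter, Finset.mem_range, Set.mem_setOf_eq] at hs
          refine (hG _).2 fun hd => (hG g₀).1 (G.max'_mem hGne) ?_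
          obtain ⟨f, hf, hfo⟩ := hd
          obtain ⟨a, haA, hao⟩ := (hΓ s).1 hs.2
          refine ⟨a * f, ?_, ?_⟩
          · have := N.smul_mem ⟨a, haA⟩ hf
            rwa [Algebra.smul_def] at this
          · rw [PowerSeries.order_mul, hao, hfo, ← Nat.cast_add]
            congr 1
            dsimp only
            omega
        · simp only [Finset.coe_filter, Finset.mem_range, Set.mem_setOf_eq] at hs hs'
          simp only at h
          omega
      have hcompl : ((Finset.range (g₀ + 1)).filter (fun s => ¬ s ∈ Γ)).card ≤ δ := by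
        rw [← hδ]
        exact Finset.card_le_card fun s hs => by
          rw [Set.Finite.mem_toFinset]; exact (Finset.mem_filter.1 hs).2
      have := Finset.card_filter_add_card_filter_not (s := Finset.range (g₀ + 1)) (fun s => s ∈ Γ)
      rw [Finset.card_range] at this
      omega
  -- shift
  set m := δ - G.card
  have hm : m + G.card = δ := by omega
  let N' : Submodule A (PowerSeries k) := N.map (LinearMap.mulLeft A (PowerSeries.X ^ m))
  refine ⟨N', ?_, ?_, ?_⟩
  · intro f hf
    obtain ⟨g, rfl⟩ := Ideal.mem_span_singleton'.1 hf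
    refine ⟨PowerSeries.X ^ c * (PowerSeries.X ^ (2 * δ - m - c) * g), hcN _, ?_⟩
    rw [LinearMap.mulLeft_apply, ← mul_assoc, ← mul_assoc, ← pow_add, ← pow_add,
      show m + c + (2 * δ - m - c) = 2 * δ by omega, mul_comm]
  · have h1 : Function.Injective (LinearMap.mulLeft A (PowerSeries.X ^ e₀ : PowerSeries k)) :=
      fun x y h => mul_left_cancel₀ (pow_ne_zero _ PowerSeries.X_ne_zero) h
    have h2 : Function.Injective (LinearMap.mulLeft A (PowerSeries.X ^ m : PowerSeries k)) :=
      fun x y h => mul_left_cancel₀ (pow_ne_zero _ PowerSeries.X_ne_zero) h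
    have hr : N.map (LinearMap.mulLeft A (PowerSeries.X ^ e₀)) = LinearMap.range j := by
      refine Submodule.map_comap_eq_self ?_
      rintro _ ⟨x, rfl⟩
      obtain ⟨q, hq⟩ := he₀.1 x
      exact ⟨q, hq.symm⟩
    exact ⟨(LinearEquiv.ofInjective j hj).trans ((LinearEquiv.ofEq _ _ hr.symm).trans
      ((Submodule.equivMapOfInjective _ h1 N).symm.trans (Submodule.equivMapOfInjective _ h2 N)))⟩
  · -- `k[[t]]/X^m N`
    have hΦfin : Module.Finite k (PowerSeries k ⧸ N.restrictScalars k) := Module.Finite.of_surjective Φ hΦs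
    let U : Submodule k (PowerSeries k) := (Ideal.span {(PowerSeries.X : PowerSeries k) ^ m}).restrictScalars k
    let μ : (PowerSeries k ⧸ N.restrictScalars k) →ₗ[k] PowerSeries k ⧸ N'.restrictScalars k :=
      Submodule.mapQ _ _ (LinearMap.mulLeft k (PowerSeries.X ^ m)) (fun f hf => ⟨f, hf, rfl⟩)
    let ν : (PowerSeries k ⧸ N'.restrictScalars k) →ₗ[k] (Fin m → k) :=
      Submodule.liftQ _ (LinearMap.pi fun i : Fin m => PowerSeries.coeff (i : ℕ)) (by
        rintro _ ⟨f, -, rfl⟩
        rw [LinearMap.mem_ker]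
        funext i
        simp [PowerSeries.coeff_X_pow_mul', not_le.2 i.2])
    have hμ : Function.Injective μ := (injective_iff_map_eq_zero μ).2 fun y hy => by
      obtain ⟨f, rfl⟩ := Submodule.Quotient.mk_surjective _ y
      obtain ⟨f', hf', hff⟩ := (Submodule.Quotient.mk_eq_zero _).1
        (show (Submodule.Quotient.mk (PowerSeries.X ^ m * f) : PowerSeries k ⧸ N'.restrictScalars k) = 0 from hy)
      have : f' = f := mul_left_cancel₀ (pow_ne_zero _ PowerSeries.X_ne_zero) hff
      exact (Submodule.Quotient.mk_eq_zero _).2 (this ▸ hf')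
    have hex : Function.Exact μ ν := by
      rw [LinearMap.exact_iff]
      refine le_antisymm (fun y hy => ?_) ?_
      · obtain ⟨f, rfl⟩ := Submodule.Quotient.mk_surjective _ y
        have hf : ∀ i < m, PowerSeries.coeff i f = 0 := fun i hi => congrFun (LinearMap.mem_ker.1 hy) ⟨i, hi⟩
        obtain ⟨q, rfl⟩ := PowerSeries.X_pow_dvd_iff.2 hf
        exact ⟨Submodule.Quotient.mk q, rfl⟩
      · rintro _ ⟨x, rfl⟩
        obtain ⟨f, rfl⟩ := Submodule.Quotient.mk_surjective _ x
        rw [LinearMap.mem_ker]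
        funext i
        show PowerSeries.coeff (i : ℕ) (PowerSeries.X ^ m * f) = 0
        simp [PowerSeries.coeff_X_pow_mul', not_le.2 i.2]
    have hν : Function.Surjective ν := fun w => ⟨Submodule.Quotient.mk (∑ i : Fin m, w i • PowerSeries.X ^ (i : ℕ)), by
      funext i
      simp only [ν, Submodule.liftQ_apply, LinearMap.pi_apply, map_sum, map_smul, PowerSeries.coeff_X_pow, smul_eq_mul]
      simp [← Fin.ext_iff]⟩
    haveI : Module.Finite k (PowerSeries k ⧸ N'.restrictScalars k) := Module.Finite.of_exact (f := μ) (g := ν) hex hν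
    have h := LinearMap.finrank_range_add_finrank_ker ν
    rw [LinearMap.range_eq_top.2 hν, finrank_top, Module.finrank_fin_fun, LinearMap.exact_iff.1 hex,
      LinearMap.finrank_range_of_inj hμ, ← (LinearEquiv.ofBijective Φ ⟨hΦi, hΦs⟩).finrank_eq,
      Module.finrank_fintype_fun_eq_card, Fintype.card_coe] at h
    omega

end Groth.Agent.S15023
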