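import Groth.Statements.S15024
import Groth.Agent.CommAlg4.DerivedLES
-- import your own Groth.Agent.* helpers here

set_option autoImplicit false
universe u
open CategoryTheory
open TFCurv

namespace Groth.Agent.S15024

/-- Let O be a one-dimensional Noetherian local domain with algebraically closed residue field whose
integral closure O~ in its fraction field K is a finite O-module, M a finitely generated
torsion-free O-module and f : O^n → M an injective O-linear map whose cokernel T has finite length.
Then Tor_1^O(O~, M) and Tor_1^O(O~, T) are isomorphic (existence of an isomorphism only), and O~ ⊗_O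
f : O~ ⊗ O^n → O~ ⊗ M is injective, so that 0 → O~^n → O~ ⊗ M → O~ ⊗ T → 0 is exact. -/
theorem result (O : Type u) [CommRing O] [IsDomain O] [IsNoetherianRing O] [IsLocalRing O] (hdim : ringKrullDim O = 1) [IsAlgClosed (IsLocalRing.ResidueField O)] (K : Type u) [Field K] [Algebra O K] [IsFractionRing O K] (hfin : Module.Finite O ↥(integralClosure O K)) (M : Type u) [AddCommGroup M] [Module O M] [Module.Finite O M] [NoZeroSMulDivisors O M] (n : ℕ) (f : (Fin n → O) →ₗ[O] M) (hf : Function.Injective f) (hT : IsFiniteLength O (M ⧸ LinearMap.range f)) : Nonempty (((Tor (ModuleCat.{u} O) 1).obj (ModuleCat.of O ↥(integralClosure O K))).obj (ModuleCat.of O M) ≅ ((Tor (ModuleCat.{u} O) 1).obj (ModuleCat.of O ↥(integralClosure O K))).obj (ModuleCat.of O (M ⧸ LinearMap.range f))) ∧ Function.Injective (LinearMap.lTensor ↥(integralClosure O K) f) := by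
  classical
  set Ot := integralClosure O K
  have hinj : Function.Injective (LinearMap.lTensor ↥Ot f) := by
    have h1 : Function.Injective (LinearMap.rTensor (Fin n → O) Ot.val.toLinearMap) :=
      Module.Flat.rTensor_preserves_injective_linearMap _ Subtype.val_injective
    haveI : Module.Flat O K := IsLocalization.flat K (nonZeroDivisors O)
    have h2 : Function.Injective (LinearMap.lTensor K f) :=
      Module.Flat.lTensor_preserves_injective_linearMap _ hf
    have h3 : (LinearMap.rTensor M Ot.val.toLinearMap) ∘ₗ LinearMap.lTensor ↥Ot f =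
        LinearMap.lTensor K f ∘ₗ LinearMap.rTensor (Fin n → O) Ot.val.toLinearMap := by
      rw [LinearMap.rTensor_comp_lTensor, LinearMap.lTensor_comp_rTensor]
    refine Function.Injective.of_comp (f := LinearMap.rTensor M Ot.val.toLinearMap) ?_
    rw [← LinearMap.coe_comp, h3, LinearMap.coe_comp]
    exact h2.comp h1
  refine ⟨?_, hinj⟩
  let g : M →ₗ[O] M ⧸ LinearMap.range f := (LinearMap.range f).mkQ
  let S : ShortComplex (ModuleCat.{u} O) := ShortComplex.mk (ModuleCat.ofHom f) (ModuleCat.ofHom g)
    (ModuleCat.hom_ext (LinearMap.ext fun x => (Submodule.Quotient.mk_eq_zero _).2 ⟨x, rfl⟩))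
  have hS : S.ShortExact := by
    refine ShortComplex.ShortExact.mk' ?_ ((ModuleCat.mono_iff_injective _).2 hf)
      ((ModuleCat.epi_iff_surjective _).2 (Submodule.mkQ_surjective _))
    rw [ShortComplex.moduleCat_exact_iff]
    intro x hx
    exact (Submodule.Quotient.mk_eq_zero _).1 hx
  let F := (MonoidalCategory.tensoringLeft (ModuleCat.{u} O)).obj (ModuleCat.of O ↥Ot)
  haveI : F.Additive := inferInstanceAs (MonoidalCategory.tensorLeft _).Additive
  haveI : Limits.PreservesFiniteColimits F :=
    inferInstanceAs (Limits.PreservesFiniteColimits (MonoidalCategory.tensorLeft _))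
  obtain ⟨⟨w₀, e₀⟩, -⟩ := Groth.Agent.CommAlg4.DerivedLES.les hS F 1
  obtain ⟨-, δ, w₁, w₂, e₁, e₂⟩ := Groth.Agent.CommAlg4.DerivedLES.les hS F 0
  haveI : Mono ((F.leftDerived 0).map S.f) := by
    have h := F.leftDerivedZeroIsoSelf.hom.naturality S.f
    have hm : Mono (F.map S.f) := (ModuleCat.mono_iff_injective (F.map S.f : F.obj S.X₁ ⟶ F.obj S.X₂)).2 hinj
    have e : (F.leftDerived 0).map S.f = F.leftDerivedZeroIsoSelf.hom.app S.X₁ ≫ F.map S.f ≫ F.leftDerivedZeroIsoSelf.inv.app S.X₂ := by
      rw [← Category.assoc, ← h, Category.assoc, Iso.hom_inv_id_app, Category.comp_id]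
    rw [e]
    haveI hi1 : IsIso (F.leftDerivedZeroIsoSelf.hom.app S.X₁) := NatIso.hom_app_isIso _ _
    haveI hi2 : IsIso (F.leftDerivedZeroIsoSelf.inv.app S.X₂) := NatIso.inv_app_isIso _ _
    have i1 := IsIso.mono_of_iso (F.leftDerivedZeroIsoSelf.hom.app S.X₁)
    have i2 := IsIso.mono_of_iso (F.leftDerivedZeroIsoSelf.inv.app S.X₂)
    exact mono_comp' i1 (mono_comp' hm i2)
  have hδ : δ = 0 := by rw [← cancel_mono ((F.leftDerived 0).map S.f), w₂, Limits.zero_comp]
  haveI : Epi ((F.leftDerived 1).map S.g) := e₁.epi_f hδ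
  haveI : Mono ((F.leftDerived 1).map S.g) := by
    haveI : Projective S.X₁ := inferInstanceAs (Projective (ModuleCat.of O (Fin n → O)))
    exact e₀.mono_g ((F.isZero_leftDerived_obj_projective_succ 0 S.X₁).eq_of_src _ _)
  have hI : IsIso ((F.leftDerived 1).map S.g) := isIso_of_mono_of_epi _
  exact ⟨@asIso _ _ _ _ ((F.leftDerived 1).map S.g) hI⟩

end Groth.Agent.S15024
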