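import Groth.Statements.S15025
import Groth.Agent.FlatCx11.UCT
import Groth.Agent.CycLib28.SerreTor
import Mathlib
-- import your own Groth.Agent.* helpers here

set_option autoImplicit false
universe u
open CategoryTheory
open TFCurv

namespace Groth.Agent.S15025

/-- Let O be a one-dimensional Noetherian local domain with algebraically closed residue field whose
integral closure O~ in its fraction field K is a finite O-module, M a finitely generated
torsion-free O-module and g : M → O^n an injective O-linear map whose cokernel T' has finite length.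
Then the torsion submodule of O~ ⊗_O M is O-linearly isomorphic to Tor_1^O(O~, T') (existence of an
isomorphism only). -/
theorem result (O : Type u) [CommRing O] [IsDomain O] [IsNoetherianRing O] [IsLocalRing O] (hdim : ringKrullDim O = 1) [IsAlgClosed (IsLocalRing.ResidueField O)] (K : Type u) [Field K] [Algebra O K] [IsFractionRing O K] (hfin : Module.Finite O ↥(integralClosure O K)) (M : Type u) [AddCommGroup M] [Module O M] [Module.Finite O M] [NoZeroSMulDivisors O M] (n : ℕ) (g : M →ₗ[O] (Fin n → O)) (hg : Function.Injective g) (hT : IsFiniteLength O ((Fin n → O) ⧸ LinearMap.range g)) : Nonempty (↥(Submodule.torsion O (TensorProduct O ↥(integralClosure O K) M)) ≃ₗ[O] ↑(((Tor (ModuleCat.{u} O) 1).obj (ModuleCat.of O ↥(integralClosure O K))).obj (ModuleCat.of O ((Fin n → O) ⧸ LinearMap.range g)))) := by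
  haveI := isFiniteLength_iff_isNoetherian_isArtinian.1 hT |>.2
  haveI := isFiniteLength_iff_isNoetherian_isArtinian.1 hT |>.1
  -- a nonzero element killing the cokernel
  obtain ⟨c, hc0, hc⟩ : ∃ c : O, c ≠ 0 ∧ ∀ v : Fin n → O, c • v ∈ LinearMap.range g := by
    obtain ⟨x, hx, hx0⟩ : ∃ x ∈ IsLocalRing.maximalIdeal O, x ≠ 0 := by
      refine Submodule.exists_mem_ne_zero_of_ne_bot fun h => ?_
      have := ringKrullDim_eq_zero_of_isField (IsLocalRing.isField_iff_maximalIdeal_eq.2 h)
      rw [hdim] at this
      exact one_ne_zero this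
    let T := (Fin n → O) ⧸ LinearMap.range g
    let F : ℕ →o (Submodule O T)ᵒᵈ := ⟨fun k => OrderDual.toDual ((Ideal.span {x ^ k}) • (⊤ : Submodule O T)),
      fun a b hab => Submodule.smul_mono_left (Ideal.span_singleton_le_span_singleton.2 (pow_dvd_pow x hab))⟩
    obtain ⟨N, hN⟩ := IsArtinian.monotone_stabilizes F
    have hN' : (Ideal.span {x ^ N}) • (⊤ : Submodule O T) = Ideal.span {x} • (Ideal.span {x ^ N} • (⊤ : Submodule O T)) := by
      have h1 : (Ideal.span {x ^ N}) • (⊤ : Submodule O T) = Ideal.span {x ^ (N + 1)} • ⊤ := hN (N + 1) N.le_succ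
      rw [← mul_smul, Ideal.span_singleton_mul_span_singleton, ← pow_succ', ← h1]
    have h0 : (Ideal.span {x ^ N}) • (⊤ : Submodule O T) = ⊥ :=
      Submodule.eq_bot_of_le_smul_of_le_jacobson_bot (Ideal.span {x}) _ (IsNoetherian.noetherian _) hN'.le
        ((Ideal.span_singleton_le_iff_mem _).2 hx |>.trans (IsLocalRing.maximalIdeal_le_jacobson _))
    refine ⟨x ^ N, pow_ne_zero _ hx0, fun v => (Submodule.Quotient.mk_eq_zero _).1 ?_⟩
    rw [Submodule.Quotient.mk_smul, ← Submodule.mem_bot O, ← h0]
    exact Submodule.smul_mem_smul (Ideal.mem_span_singleton_self _) Submodule.mem_top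
  choose h hh using hc
  let hlin : (Fin n → O) →ₗ[O] M :=
    { toFun := h
      map_add' := fun a b => hg (by rw [hh, map_add, hh, hh, smul_add])
      map_smul' := fun r a => hg (by rw [hh, map_smul, hh, RingHom.id_apply, smul_comm]) }
  have hhg : hlin ∘ₗ g = c • LinearMap.id := LinearMap.ext fun m => hg (by
    show g (h (g m)) = g (c • m)
    rw [hh, map_smul])
  let B := ↥(integralClosure O K)
  haveI : NoZeroSMulDivisors O B := ⟨fun {r b} hrb => by
    rw [Algebra.smul_def, mul_eq_zero] at hrb
    refine hrb.imp_left fun h => ?_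
    exact IsFractionRing.injective O K (by rw [map_zero]; exact congrArg Subtype.val h)⟩
  obtain ⟨e₁⟩ := Groth.Agent.FlatCx11.nonempty_tor_one_equiv (M := B)
    (LinearMap.exact_iff.2 (Submodule.ker_mkQ (LinearMap.range g))) (Submodule.mkQ_surjective _) hg
  obtain ⟨e₂⟩ := Groth.Agent.CycLib28.nonempty_tor_comm 1 (ModuleCat.of O B) (ModuleCat.of O ((Fin n → O) ⧸ LinearMap.range g))
  have hker : (Submodule.torsion O (TensorProduct O B M)) =
      (LinearMap.ker (g.rTensor B)).map (TensorProduct.comm O M B).toLinearMap := by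
    ext z
    constructor
    · intro hz
      obtain ⟨⟨a, ha⟩, haz⟩ := (Submodule.mem_torsion_iff _).1 hz
      refine ⟨(TensorProduct.comm O M B).symm z, ?_, (TensorProduct.comm O M B).apply_symm_apply z⟩
      rw [SetLike.mem_coe, LinearMap.mem_ker]
      have h1 : a • g.rTensor B ((TensorProduct.comm O M B).symm z) = 0 := by
        rw [← map_smul, ← map_smul]
        exact (congrArg _ (congrArg _ haz)).trans (by simp)
      let e := (TensorProduct.piScalarRight O O B (Fin n)).toLinearMap ∘ₗ (TensorProduct.comm O (Fin n → O) B).toLinearMap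
      have he : Function.Injective e := (TensorProduct.piScalarRight O O B (Fin n)).injective.comp
        (TensorProduct.comm O (Fin n → O) B).injective
      refine he (funext fun i => ?_)
      have h2 := congrArg (fun w => e w i) h1
      simp only [map_smul, map_zero, Pi.smul_apply, Pi.zero_apply] at h2 ⊢
      exact (eq_zero_or_eq_zero_of_smul_eq_zero h2).resolve_left (nonZeroDivisors.ne_zero ha)
    · rintro ⟨w, hw, rfl⟩
      refine (Submodule.mem_torsion_iff _).2 ⟨⟨c, mem_nonZeroDivisors_of_ne_zero hc0⟩, ?_⟩
      show c • (TensorProduct.comm O M B).toLinearMap w = 0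
      rw [← map_smul]
      have : c • w = hlin.rTensor B (g.rTensor B w) := by
        rw [← LinearMap.comp_apply, ← LinearMap.rTensor_comp, hhg, LinearMap.rTensor_smul, LinearMap.rTensor_id]
        rfl
      rw [this, LinearMap.mem_ker.1 hw, map_zero, map_zero]
  exact ⟨(LinearEquiv.ofEq _ _ hker).trans <| ((TensorProduct.comm O M B).submoduleMap _).symm.trans <|
    e₁.symm.trans e₂.symm⟩

end Groth.Agent.S15025
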