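import Groth.Statements.S15026
import Groth.Agent.Models7.PicBirational
import Groth.Agent.S1585
import Groth.Agent.S7688
import Groth.Agent.VarietyLib.ProperCurveAmple
import Groth.Agent.PicLib.FiniteSetTriv
-- import your own Groth.Agent.* helpers here

set_option autoImplicit false
set_option linter.style.haveILetI false
universe u
open CategoryTheory CategoryTheory.Limits AlgebraicGeometry
open TFCurv

namespace Groth.Agent.S15026

theorem eq_genericPoint {X : Scheme.{u}} [IsIntegral X] {y : X} (h : y ∈ genericPoints X) : y = genericPoint X := by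
  have h1 := irreducibleComponents_eq_singleton (X := X)
  have h2 : closure ({y} : Set X) ∈ irreducibleComponents X := h
  rw [h1, Set.mem_singleton_iff] at h2
  exact (IsGenericPoint.eq (S := Set.univ) h2 (genericPoint_spec X))

/-- Let X be an integral proper curve (integral, proper, of dimension one) over an algebraically closed
field k, with normalisation ν : X~ → X. Then every invertible module N on X~ is isomorphic to ν^*L
for some invertible module L on X: the pullback map Pic(X) → Pic(X~) is surjective. (The published
statement is the short exact sequence 0 → ⊕_x O~_x^×/O_x^× → Pic(X) → Pic(X~) → 0; only its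
surjectivity is stated here.) -/
theorem result (k : Type u) [Field k] [IsAlgClosed k] (X : Scheme.{u}) [X.Over (Spec (CommRingCat.of k))] [IsIntegral X] [IsProper (X ↘ Spec (CommRingCat.of k))] (hdim : topologicalKrullDim X = 1) [QuasiCompact (X.fromSpecStalk (genericPoint X))] [QuasiSeparated (X.fromSpecStalk (genericPoint X))] (N : (Curv2.normalization X).Modules) (hN : PicF.IsInvertible N) : ∃ L : X.Modules, PicF.IsInvertible L ∧ Nonempty ((Scheme.Modules.pullback (Curv2.normalizationι X)).obj L ≅ N) := by
  have hN' := hN
  obtain ⟨hfin, -, ⟨U, hUne, hiso⟩, -, -⟩ := Groth.Agent.S1585.result k X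
  haveI := hfin
  haveI := hiso
  haveI := QuasiCompact.compactSpace_of_compactSpace (X ↘ Spec (CommRingCat.of k))
  haveI : IsLocallyNoetherian X := LocallyOfFiniteType.isLocallyNoetherian (X ↘ Spec (CommRingCat.of k))
  haveI : IsNoetherian X := {}
  let S : Set X := (U : Set X)ᶜ
  have hS := Groth.Agent.S7688.finite_of_isClosed_no_generic (le_of_eq hdim) U.isOpen.isClosed_compl (by
    intro y hy hgen
    refine hy ?_
    have : y = genericPoint X := (Groth.Agent.S15026.eq_genericPoint hgen)
    rw [this]
    obtain ⟨u, hu⟩ := hUne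
    exact ((genericPoint_spec X).mem_open_set_iff U.isOpen).2 ⟨u, trivial, hu⟩)
  obtain ⟨A, hA, hamp⟩ := Groth.Agent.VarietyLib.exists_ample_of_dim_le_one k (X := X) (le_of_eq hdim)
  replace hS : S.Finite := hS.1
  obtain ⟨m, -, b, hb, -, haff⟩ := Groth.Agent.AmpleLib.exists_affine_glocus_finite (U := ⊤) hamp S hS fun _ _ => trivial
  have haff' := haff.preimage (Curv2.normalizationι X)
  obtain ⟨V, hSV, -, -, ⟨e⟩⟩ := Groth.Agent.PicLib.exists_triv_of_finite hN haff'
    ((Curv2.normalizationι X) ⁻¹' S) (hS.preimage' fun x _ => (Curv2.normalizationι X).finite_preimage_singleton x) (fun y hy => hb hy)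
  obtain ⟨g, hg⟩ := Groth.Agent.PicLib.exists_isGen_of_iso e
  have hcl : IsClosedMap (Curv2.normalizationι X) := Scheme.Hom.isClosedMap _
  let W : X.Opens := ⟨((Curv2.normalizationι X) '' (V : Set (Curv2.normalization X))ᶜ)ᶜ,
    (hcl _ V.isOpen.isClosed_compl).isOpen_compl⟩
  refine Groth.Agent.Models7.exists_pullback_iso_of_isIso_over (Curv2.normalizationι X) U hcl W ?_ hN
    (hg.restrict (show (Curv2.normalizationι X) ⁻¹ᵁ W ≤ V from fun y hy => not_not.1 fun h => (show (Curv2.normalizationι X) y ∉ _ from hy) ⟨y, h, rfl⟩))
  refine top_le_iff.1 fun x _ => or_iff_not_imp_left.2 fun hx => ?_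
  rintro ⟨y, hy, rfl⟩
  exact hy (hSV hx)

end Groth.Agent.S15026
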