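import Groth.Statements.S15027
import Groth.Agent.TFPush7.StalkSub
import Groth.Agent.TFNodal7.Main
import Groth.Agent.VarietyLib.DegBasic
import Groth.Agent.RefHullLib.LowDim
import Groth.Agent.KModel28.Basic
import Groth.Agent.S1585
import Groth.Agent.CommAlg6.DimMaps
import Groth.Agent.CAlgH3.Serre
import Groth.Agent.CurveRR24.Vanish
import Groth.Agent.DimLib.Tensor
-- import your own Groth.Agent.* helpers here

set_option autoImplicit false
set_option linter.style.haveILetI false
set_option backward.isDefEq.respectTransparency.types false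
universe u
open CategoryTheory CategoryTheory.Limits AlgebraicGeometry
open TFCurv

namespace Groth.Agent.S15027

open Groth.Agent IsLocalRing

/-- A free submodule of finite colength. -/
theorem exists_lattice (O : Type u) [CommRing O] [IsDomain O] [IsNoetherianRing O] [IsLocalRing O]
    (hdim : ringKrullDim O ≤ 1) (M : Type u) [AddCommGroup M] [Module O M] [Module.Finite O M]
    [Module.IsTorsionFree O M] :
    ∃ L : Submodule O M, Module.Free O L ∧ (∃ k : ℕ, (maximalIdeal O) ^ k • (⊤ : Submodule O M) ≤ L) ∧
      ∃ c : O, c ≠ 0 ∧ ∀ v, c • v ∈ L := by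
  classical
  obtain ⟨m, s, hs⟩ := Module.Finite.exists_fin (R := O) (M := M)
  obtain ⟨I, hI, hmax⟩ := exists_maximal_linearIndepOn O s
  let L := Submodule.span O (s '' I)
  have hI' : LinearIndependent O (fun i : I => s i) := hI
  haveI : Module.Free O L := by
    have e : L = Submodule.span O (Set.range fun i : I => s i) := by
      rw [show Set.range (fun i : I => s i) = s '' I from Set.ext fun v => by simp]
    rw [e]
    exact Module.Free.of_basis (Module.Basis.span hI')
  have hc : ∀ i, ∃ a : O, a ≠ 0 ∧ a • s i ∈ L := fun i => if hi : i ∈ I then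
    ⟨1, one_ne_zero, by rw [one_smul]; exact Submodule.subset_span ⟨i, hi, rfl⟩⟩ else hmax i hi
  choose a ha0 haL using hc
  let c := ∏ i, a i
  have hc0 : c ≠ 0 := Finset.prod_ne_zero_iff.2 fun i _ => ha0 i
  have hcL : ∀ v, c • v ∈ L := fun v => by
    have hv : v ∈ Submodule.span O (Set.range s) := hs ▸ Submodule.mem_top
    induction hv using Submodule.span_induction with
    | mem v hv =>
      obtain ⟨i, rfl⟩ := hv
      rw [show c = (∏ j ∈ Finset.univ.erase i, a j) * a i from
        (Finset.prod_erase_mul _ _ (Finset.mem_univ i)).symm, mul_smul]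
      exact L.smul_mem _ (haL i)
    | zero => rw [smul_zero]; exact L.zero_mem
    | add v w _ _ hv hw => rw [smul_add]; exact L.add_mem hv hw
    | smul r v _ hv => rw [smul_comm]; exact L.smul_mem r hv
  have hrad : maximalIdeal O ≤ (Ideal.span {c}).radical := by
    rw [Ideal.radical_eq_sInf]
    refine le_sInf fun P ⟨hP, hPp⟩ => ?_
    have hPne : P ≠ ⊥ := fun h => hc0 (by
      have := hP (Ideal.mem_span_singleton_self c)
      rw [h] at this
      exact this)
    haveI : Ring.DimensionLEOne O :=
      Ring.krullDimLE_one_iff_of_noZeroDivisors.1 (Ring.krullDimLE_iff.2 hdim) |> fun h => ⟨fun {p} hp hpr => h p hp hpr⟩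
    haveI := hPp.isMaximal hPne
    exact (eq_maximalIdeal this).ge
  obtain ⟨k, hk⟩ := Ideal.exists_pow_le_of_le_radical_of_fg hrad (IsNoetherian.noetherian _)
  refine ⟨L, inferInstance, ⟨k, (Submodule.smul_mono_left hk).trans (Submodule.smul_le.2 fun r hr v _ => ?_)⟩, c, hc0, hcL⟩
  obtain ⟨t, rfl⟩ := Ideal.mem_span_singleton'.1 hr
  rw [mul_smul]
  exact L.smul_mem t (hcL v)

/-- Bijectivity on stalks kills the stalk of the cokernel. -/
theorem subsingleton_cokernel {X : Scheme.{u}} {A B : X.Modules} (f : A ⟶ B) (x : X)
    (h : Function.Surjective (RefHull.stalkMapₗ f x)) : Subsingleton ((cokernel f).presheaf.stalk x) := by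
  obtain ⟨e, -⟩ := TFNodal7.exists_cokernel_stalk f x
  refine @Equiv.subsingleton _ _ e.symm.toEquiv ?_
  exact Submodule.Quotient.subsingleton_iff.2 (LinearMap.range_eq_top.2 h)

/-- Let X be an integral proper curve (integral, proper, of dimension one) over an algebraically closed
field k, and let F be a coherent torsion-free O_X-module of rank n (its stalk at the generic point
has dimension n over the function field). Then there are finite locally free modules E, E' of rank
n, a monomorphism E → F and a monomorphism F → E', whose cokernels have zero stalk at every point of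
X with regular local ring (they are torsion modules supported at the singular points). (The
published statement identifies the two cokernels with sums of the local torsion modules of minimal
length attached to the stalks at the singular points; this row asserts only that the cokernels are
supported at the singular points.) -/
theorem result (k : Type u) [Field k] [IsAlgClosed k] (X : Scheme.{u}) [X.Over (Spec (CommRingCat.of k))] [IsIntegral X] [IsProper (X ↘ Spec (CommRingCat.of k))] (hdim : topologicalKrullDim X = 1) (F : X.Modules) (hFc : Coh.IsCoh F) (hFt : TorSh.IsTorsionFree F) (n : ℕ) (hn : Module.finrank (X.presheaf.stalk (genericPoint X)) (F.presheaf.stalk (genericPoint X)) = n) : (∃ (E : X.Modules) (i : E ⟶ F), FlatMod.IsFinLocFreeOfRank n E ∧ Mono i ∧ ∀ x : X, IsRegularLocalRing (X.presheaf.stalk x) → Subsingleton ((cokernel i).presheaf.stalk x)) ∧ (∃ (E' : X.Modules) (j : F ⟶ E'), FlatMod.IsFinLocFreeOfRank n E' ∧ Mono j ∧ ∀ x : X, IsRegularLocalRing (X.presheaf.stalk x) → Subsingleton ((cokernel j).presheaf.stalk x)) := by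
  classical
  haveI := EulerLib.isNoetherian_of_proper (X := X) k
  haveI : X.IsSeparated := ⟨by
    rw [← terminal.comp_from (X ↘ Spec (CommRingCat.of k))]
    infer_instance⟩
  haveI : QuasiCompact (X.fromSpecStalk (genericPoint X)) := inferInstance
  haveI : QuasiSeparated (X.fromSpecStalk (genericPoint X)) := inferInstance
  obtain ⟨hfin, hdom, ⟨V, hVne, hiso⟩, hint, hnorm⟩ := Groth.Agent.S1585.result k X
  haveI := hfin
  haveI := hiso
  have hY : topologicalKrullDim (Curv2.normalization X) ≤ 1 :=
    (CommAlg6.topologicalKrullDim_le_of_fibres (Curv2.normalizationι X).continuous fun x x' hs hx =>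
      CommAlg6.eq_of_specializes_of_locallyQuasiFinite (Curv2.normalizationι X) hs hx).trans hdim.le
  haveI : IsLocallyNoetherian (Curv2.normalization X) :=
    LocallyOfFiniteType.isLocallyNoetherian (Curv2.normalizationι X)
  have hηV : genericPoint X ∈ V := ((genericPoint_spec X).mem_open_set_iff V.isOpen).2 (by simpa using hVne)
  have hVreg : ∀ x ∈ V, IsRegularLocalRing (X.presheaf.stalk x) := fun x hx => by
    obtain ⟨z, hz⟩ := (Curv2.normalizationι X ∣_ V).homeomorph.surjective ⟨x, hx⟩
    haveI := (hnorm z.1).1
    haveI := (hnorm z.1).2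
    haveI : IsRegularLocalRing ((Curv2.normalization X).presheaf.stalk z.1) :=
      CAlgH3.isRegularLocalRing_of_normal_dim_le_one
        ((CurvesLib24.stalk_dim_le_topologicalKrullDim z.1).trans hY)
    haveI : IsIso ((Curv2.normalizationι X).stalkMap z.1) := by
      rw [← Arrow.isIso_iff_isIso_of_isIso (morphismRestrictStalkMap (Curv2.normalizationι X) V z).hom]
      infer_instance
    have hx' : Curv2.normalizationι X z.1 = x :=
      ((morphismRestrict_base_coe (Curv2.normalizationι X) V z).symm.trans (congrArg Subtype.val hz))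
    rw [← hx']
    exact IsRegularLocalRing.of_ringEquiv (asIso ((Curv2.normalizationι X).stalkMap z.1)).commRingCatIsoToRingEquiv.symm
  obtain ⟨hVfin, hVcl, -⟩ := CurveRR24.closed_small k hdim.le V.isOpen.isClosed_compl fun h => h hηV
  let S : Finset X := hVfin.toFinset.filter fun x => ¬ IsRegularLocalRing (X.presheaf.stalk x)
  have hmem : ∀ x, x ∈ S ↔ ¬ IsRegularLocalRing (X.presheaf.stalk x) := fun x => by
    simp only [S, Finset.mem_filter, Set.Finite.mem_toFinset, Set.mem_compl_iff, and_iff_right_iff_imp]
    exact fun h hx => h (hVreg x hx)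
  have hScl : ∀ x ∈ S, IsClosed ({x} : Set X) := fun x hx => hVcl x fun h => (hmem x).1 hx (hVreg x h)
  have hd1 : ∀ x : X, ringKrullDim (X.presheaf.stalk x) ≤ 1 := fun x =>
    (CurvesLib24.stalk_dim_le_topologicalKrullDim x).trans hdim.le
  have hfree : ∀ x, x ∉ S → Module.Free (X.presheaf.stalk x) (F.presheaf.stalk x) := fun x hx => by
    haveI := not_not.1 fun h => hx ((hmem x).2 h)
    haveI := AssSch12.finite_stalk hFc x
    haveI := hFt x
    exact RefHullLib.free_of_torsionFree_of_dim_le_one (hd1 x) inferInstance
  have hη : genericPoint X ∉ S := fun h => (hmem _).1 h (hVreg _ hηV)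
  have hrank : ∀ E : X.Modules, Coh.IsCoh E → (∀ x, Module.Free (X.presheaf.stalk x) (E.presheaf.stalk x)) →
      Module.finrank (X.presheaf.stalk (genericPoint X)) (E.presheaf.stalk (genericPoint X)) = n →
      FlatMod.IsFinLocFreeOfRank n E := fun E hE hf hn' => by
    obtain ⟨r, hr⟩ := KModel28.exists_rank ((RefHullLib.isFinLocFree_iff_free_stalks hE).2 hf)
    rwa [← (VarietyLib.finrank_stalk_of_rank hr (genericPoint X)).symm.trans hn']
  constructor
  · have hL : ∀ x : X, ∃ L : Submodule (X.presheaf.stalk x) (F.presheaf.stalk x),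
        x ∈ S → Module.Free (X.presheaf.stalk x) L ∧ ∃ k : ℕ, (maximalIdeal (X.presheaf.stalk x)) ^ k • (⊤ : Submodule (X.presheaf.stalk x) (F.presheaf.stalk x)) ≤ L := fun x => by
      haveI := AssSch12.finite_stalk hFc x
      haveI := hFt x
      obtain ⟨L, h1, h2, -⟩ := exists_lattice (X.presheaf.stalk x) (hd1 x) (F.presheaf.stalk x)
      exact ⟨L, fun _ => ⟨h1, h2⟩⟩
    choose L hL using hL
    obtain ⟨E, i, hE, hm, hr, hb⟩ := TFPush7.exists_sub hFc S hScl L fun x hx => (hL x hx).2
    refine ⟨E, i, hrank E hE (fun x => ?_) ?_, hm, fun x hx =>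
      subsingleton_cokernel i x (hb x fun h => (hmem x).1 h hx).2⟩
    · by_cases hx : x ∈ S
      · haveI := (hL x hx).1
        exact Module.Free.of_equiv ((LinearEquiv.ofInjective _ (TFPush7.stalkMap_injective_of_mono i x)).trans
          (LinearEquiv.ofEq _ _ (hr x hx))).symm
      · haveI := hfree x hx
        exact Module.Free.of_equiv (LinearEquiv.ofBijective _ (hb x hx)).symm
    · exact (LinearEquiv.ofBijective _ (hb _ hη)).finrank_eq.trans hn
  · have hL : ∀ x : X, ∃ L : Submodule (X.presheaf.stalk x) (Module.Dual (X.presheaf.stalk x) (F.presheaf.stalk x)),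
        x ∈ S → Module.Free (X.presheaf.stalk x) L ∧ (∃ k : ℕ, (maximalIdeal (X.presheaf.stalk x)) ^ k • (⊤ : Submodule (X.presheaf.stalk x) (Module.Dual (X.presheaf.stalk x) (F.presheaf.stalk x))) ≤ L) ∧
          ∀ v, (∀ θ : L, θ.1 v = 0) → v = 0 := fun x => by
      haveI := AssSch12.finite_stalk hFc x
      haveI := hFt x
      obtain ⟨L, h1, h2, c, hc, hcL⟩ := exists_lattice (X.presheaf.stalk x) (hd1 x)
        (Module.Dual (X.presheaf.stalk x) (F.presheaf.stalk x))
      obtain ⟨r, ι, hι⟩ := DimLib.exists_injective_pi (X.presheaf.stalk x) (F.presheaf.stalk x)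
      refine ⟨L, fun _ => ⟨h1, h2, fun v hv => hι ?_⟩⟩
      rw [map_zero]
      funext i
      have h := hv ⟨_, hcL (LinearMap.proj i ∘ₗ ι)⟩
      simp only [LinearMap.smul_apply, LinearMap.comp_apply, LinearMap.proj_apply, smul_eq_mul] at h
      exact (mul_eq_zero.1 h).resolve_left hc
    choose L hL using hL
    obtain ⟨G, j, hG, he, hb⟩ := TFPush7.exists_dual_over hFc S hScl hfree L fun x hx => (hL x hx).2.1
    refine ⟨G, j, hrank G hG (fun x => ?_) ?_, TFNodal7.mono_of_stk_injective j fun x => ?_, fun x hx =>
      subsingleton_cokernel j x (hb x fun h => (hmem x).1 h hx).2⟩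
    · by_cases hx : x ∈ S
      · obtain ⟨e, -⟩ := he x hx
        haveI := AssSch12.finite_stalk hFc x
        haveI := (hL x hx).1
        exact Module.Free.of_equiv e.symm
      · haveI := hfree x hx
        exact Module.Free.of_equiv (LinearEquiv.ofBijective _ (hb x hx))
    · exact (LinearEquiv.ofBijective _ (hb _ hη)).finrank_eq.symm.trans hn
    · by_cases hx : x ∈ S
      · obtain ⟨e, he⟩ := he x hx
        refine (injective_iff_map_eq_zero _).2 fun v hv => (hL x hx).2.2 v fun θ => ?_
        rw [← he v θ, show RefHull.stalkMapₗ j x v = 0 from hv, map_zero]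
        rfl
      · exact (hb x hx).1

end Groth.Agent.S15027
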