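import Groth.Statements.S15029
import Groth.Agent.TFCurv.Semigroup

set_option autoImplicit false
open TFCurv

namespace Groth.Agent.S15029

/-- Let Γ be a numerical semigroup (a submonoid of (ℕ, +) with finite complement), Γ ≠ ℕ, with conductor
c (every n ≥ c lies in Γ, c − 1 does not), and let S ⊆ ℕ be a Γ-module in normal form (0 ∈ S and γ +
s ∈ S for γ ∈ Γ, s ∈ S). If S ≠ ℕ then some gap n of S can be added (n + γ ∈ S for every nonzero γ ∈
Γ, so S ∪ {n} is a Γ-module), and if S ≠ Γ then some s ∈ S outside Γ can be removed (s − γ ∉ S for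
every nonzero γ ∈ Γ with γ ≤ s, so S ∖ {s} is a Γ-module containing Γ); iterating, S is joined to ℕ
and to Γ by chains in the diagram of Γ-modules, which is therefore connected. -/
theorem result (Γ : AddSubmonoid ℕ) (c : ℕ) (hc : ∀ n : ℕ, c ≤ n → n ∈ Γ) (hc0 : c ≠ 0) (hc1 : c - 1 ∉ Γ) (S : Set ℕ) (hS0 : (0 : ℕ) ∈ S) (hS : ∀ γ : ℕ, γ ∈ Γ → ∀ s : ℕ, s ∈ S → γ + s ∈ S) : (S ≠ Set.univ → ∃ n : ℕ, n ∉ S ∧ ∀ γ : ℕ, γ ∈ Γ → γ ≠ 0 → n + γ ∈ S) ∧ ((↑Γ : Set ℕ) ≠ S → ∃ s : ℕ, s ∈ S ∧ s ∉ Γ ∧ ∀ γ : ℕ, γ ∈ Γ → γ ≠ 0 → γ ≤ s → s - γ ∉ S) := by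
  classical
  have hΓS : ∀ γ, γ ∈ Γ → γ ∈ S := fun γ hγ => by simpa using hS γ hγ 0 hS0
  refine ⟨fun hne => ?_, fun hne => ?_⟩
  · obtain ⟨m, hm⟩ := (Set.ne_univ_iff_exists_notMem S).1 hne
    have hbd : ∀ n, n ∉ S → n < c := fun n hn => by
      by_contra h
      exact hn (hΓS n (hc n (by omega)))
    let D := (Finset.range c).filter fun n => n ∉ S
    have hD : D.Nonempty := ⟨m, by simp [D, hm, hbd m hm]⟩
    have hmax := D.max'_mem hD
    simp only [D, Finset.mem_filter, Finset.mem_range] at hmax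
    refine ⟨D.max' hD, hmax.2, fun γ hγ hγ0 => ?_⟩
    by_contra hg
    have := D.le_max' (D.max' hD + γ) (by simp [D, hg, hbd _ hg])
    omega
  · have hex : ∃ s, s ∈ S ∧ s ∉ Γ := by
      by_contra h
      push Not at h
      exact hne (Set.Subset.antisymm hΓS h)
    obtain ⟨h1, h2⟩ := Nat.find_spec hex
    refine ⟨_, h1, h2, fun γ hγ hγ0 hle hmem => ?_⟩
    have : Nat.find hex - γ ∈ Γ := by
      by_contra h
      exact Nat.find_min hex (show Nat.find hex - γ < Nat.find hex by omega) ⟨hmem, h⟩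
    have h3 := add_mem this hγ
    rw [show Nat.find hex - γ + γ = Nat.find hex by omega] at h3
    exact h2 h3

end Groth.Agent.S15029
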