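import Groth.Statements.S15034
import Mathlib
-- import your own Groth.Agent.* helpers here

set_option autoImplicit false
set_option linter.style.haveILetI false
set_option backward.isDefEq.respectTransparency false
universe u
open TFCurv

namespace Groth.Agent.S15034

/-- Let k be an algebraically closed field and A ≠ k[[t]] a k-subalgebra of k[[t]] that is closed in the
t-adic topology and over which k[[t]] is a finite module (as for the complete local ring of a
unibranch curve singularity inside its normalisation), and let Γ ⊆ ℕ be the set of t-orders of the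
nonzero elements of A (its value semigroup). Let M, N be finitely generated A-submodules of k[[t]]
containing 1 (rank-one torsion-free modules in normal form), with value sets Γ(M), Γ(N) (orders of
their nonzero elements); the A-linear maps M → N are the multiplications by power series u with uM ⊆
N. Then the order of every such nonzero u satisfies n + Γ(M) ⊆ Γ(N), and although the set of these
orders can be smaller than S = {n | n + Γ(M) ⊆ Γ(N)}, the two sets have the same conductor: for
every c', all integers n ≥ c' are orders of multipliers exactly when all n ≥ c' lie in S. -/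
theorem result (k : Type u) [Field k] [IsAlgClosed k] (A : Subalgebra k (PowerSeries k)) (hA : Module.Finite ↥A (PowerSeries k)) (hcl : ∀ f : PowerSeries k, (∀ n : ℕ, ∃ g ∈ A, (n : ℕ∞) ≤ PowerSeries.order (f - g)) → f ∈ A) (hsing : A ≠ ⊤) (Γ : Set ℕ) (hΓ : ∀ n : ℕ, n ∈ Γ ↔ ∃ f ∈ A, PowerSeries.order f = n) (M N : Submodule ↥A (PowerSeries k)) (hMfg : M.FG) (hNfg : N.FG) (hM1 : (1 : PowerSeries k) ∈ M) (hN1 : (1 : PowerSeries k) ∈ N) (ΓM ΓN : Set ℕ) (hΓM : ∀ n : ℕ, n ∈ ΓM ↔ ∃ f ∈ M, PowerSeries.order f = n) (hΓN : ∀ n : ℕ, n ∈ ΓN ↔ ∃ f ∈ N, PowerSeries.order f = n) : (∀ n : ℕ, (∃ u : PowerSeries k, PowerSeries.order u = n ∧ ∀ m ∈ M, u * m ∈ N) → ∀ a ∈ ΓM, n + a ∈ ΓN) ∧ ∀ c' : ℕ, (∀ n : ℕ, c' ≤ n → ∃ u : PowerSeries k, PowerSeries.order u = n ∧ ∀ m ∈ M, u * m ∈ N) ↔ (∀ n : ℕ, c' ≤ n → ∀ a ∈ ΓM, n + a ∈ ΓN) := by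
  classical
  refine ⟨fun n ⟨u, hu, huM⟩ a ha => ?_, fun c' => ⟨fun h n hn a ha => ?_, fun h n hn => ?_⟩⟩
  · obtain ⟨m, hm, hma⟩ := (hΓM a).1 ha
    exact (hΓN _).2 ⟨u * m, huM m hm, by rw [PowerSeries.order_mul, hu, hma, Nat.cast_add]⟩
  · obtain ⟨u, hu, huM⟩ := h n hn
    obtain ⟨m, hm, hma⟩ := (hΓM a).1 ha
    exact (hΓN _).2 ⟨u * m, huM m hm, by rw [PowerSeries.order_mul, hu, hma, Nat.cast_add]⟩
  -- all series of order at least `c'` lie in `N`
  have h0 : ∀ j, c' ≤ j → ∃ f ∈ N, PowerSeries.order f = j := fun j hj => by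
    have := h j hj 0 ((hΓM 0).2 ⟨1, hM1, by simp⟩)
    exact (hΓN j).1 (by simpa using this)
  haveI hint : Algebra.IsIntegral A (PowerSeries k) := Algebra.IsIntegral.of_finite A (PowerSeries k)
  obtain ⟨a, ha0, hac⟩ : ∃ a : A, (a : PowerSeries k) ≠ 0 ∧ PowerSeries.constantCoeff (a : PowerSeries k) = 0 := by
    obtain ⟨p, hp, hpX⟩ := hint.isIntegral (PowerSeries.X : PowerSeries k)
    by_contra hno
    push Not at hno
    have hconst : ∀ b : A, ∃ c : k, (b : PowerSeries k) = PowerSeries.C c := fun b => by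
      refine ⟨PowerSeries.constantCoeff (b : PowerSeries k), ?_⟩
      by_contra hne
      refine hno (b - algebraMap k A (PowerSeries.constantCoeff (b : PowerSeries k))) ?_ ?_
      · simpa [sub_eq_zero, PowerSeries.algebraMap_apply] using hne
      · simp [PowerSeries.algebraMap_apply]
    choose c hc using hconst
    let φ : A →+* k := PowerSeries.constantCoeff.comp A.val.toRingHom
    have hφ : (algebraMap A (PowerSeries k) : A →+* PowerSeries k) = PowerSeries.C.comp φ := RingHom.ext fun b => by
      show (b : PowerSeries k) = PowerSeries.C (PowerSeries.constantCoeff (b : PowerSeries k))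
      rw [hc b, PowerSeries.constantCoeff_C]
    rw [hφ, ← Polynomial.eval₂_map] at hpX
    have hmon := hp.map φ
    have h1 : ((p.map φ : Polynomial k) : PowerSeries k) = 0 := by
      rw [← hpX]
      exact (Polynomial.eval₂_C_X_eq_coe (φ := p.map φ)).symm
    exact hmon.ne_zero (Polynomial.coe_eq_zero_iff.1 h1)
  have hd := (PowerSeries.X_dvd_iff).2 hac
  obtain ⟨d, w, hw⟩ : ∃ (d : ℕ) (w : (PowerSeries k)ˣ), (a : PowerSeries k) = PowerSeries.X ^ d * (w : PowerSeries k) :=
    ⟨(a : PowerSeries k).order.toNat, (PowerSeries.isUnit_divided_by_X_pow_order ha0).unit,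
      by rw [IsUnit.unit_spec]; exact PowerSeries.X_pow_order_mul_divXPowOrder.symm⟩
  let μ : PowerSeries k →ₗ[A] PowerSeries k := LinearMap.mulLeft A (PowerSeries.X ^ c')
  let I : Submodule A (PowerSeries k) := LinearMap.range μ
  have hIfg : I.FG := by
    rw [show I = Submodule.map μ ⊤ from (Submodule.map_top μ).symm]
    exact hA.fg_top.map μ
  have happ : ∀ (e : ℕ) (q : PowerSeries k), ∃ g ∈ N, ∃ q', PowerSeries.X ^ c' * q = g + PowerSeries.X ^ (c' + e) * q' := by
    intro e
    induction e with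
    | zero => exact fun q => ⟨0, N.zero_mem, q, by rw [Nat.add_zero, zero_add]⟩
    | succ e ih =>
      intro q
      obtain ⟨g, hg, q', hq'⟩ := ih q
      obtain ⟨f, hf, hfo⟩ := h0 (c' + e) (Nat.le_add_right _ _)
      obtain ⟨s, rfl⟩ : PowerSeries.X ^ (c' + e) ∣ f :=
        PowerSeries.X_pow_dvd_iff.2 (PowerSeries.order_eq_nat.1 hfo).2
      have hs : PowerSeries.constantCoeff s ≠ 0 := by
        have := (PowerSeries.order_eq_nat.1 hfo).1
        simpa [PowerSeries.coeff_X_pow_mul'] using this
      let r := PowerSeries.constantCoeff q' * (PowerSeries.constantCoeff s)⁻¹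
      obtain ⟨t, ht⟩ : PowerSeries.X ∣ q' - PowerSeries.C r * s := PowerSeries.X_dvd_iff.2 (by
        rw [map_sub, map_mul, PowerSeries.constantCoeff_C, inv_mul_cancel_right₀ hs, sub_self])
      refine ⟨g + algebraMap k A r • (PowerSeries.X ^ (c' + e) * s), N.add_mem hg (N.smul_mem _ hf), t, ?_⟩
      rw [Algebra.smul_def, hq']
      show _ = g + PowerSeries.C r * _ + _
      rw [show c' + (e + 1) = (c' + e) + 1 by omega, pow_succ]
      linear_combination (PowerSeries.X ^ (c' + e)) * ht
  have hIN : I ≤ N := by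
    refine Submodule.le_of_le_smul_of_le_jacobson_bot (I := Ideal.span {a}) hIfg ?_ ?_
    · rw [Ideal.span_singleton_le_iff_mem, Ideal.mem_jacobson_bot]
      intro y
      have hu : IsUnit (algebraMap A (PowerSeries k) (a * y + 1)) := by
        rw [PowerSeries.isUnit_iff_constantCoeff, isUnit_iff_ne_zero]
        show PowerSeries.constantCoeff ((a : PowerSeries k) * (y : PowerSeries k) + 1) ≠ 0
        rw [map_add, map_mul, hac, zero_mul, zero_add, map_one]
        exact one_ne_zero
      haveI : IsLocalHom (algebraMap A (PowerSeries k)) :=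
        RingHom.IsIntegral.isLocalHom (algebraMap_isIntegral_iff.2 hint) Subtype.val_injective
      exact isUnit_of_map_unit (algebraMap A (PowerSeries k)) _ hu
    · rintro _ ⟨q, rfl⟩
      obtain ⟨g, hg, q', hq'⟩ := happ d q
      rw [show μ q = g + a • μ ((w⁻¹ : (PowerSeries k)ˣ) * q') from ?_]
      · exact Submodule.add_mem_sup hg
          (Submodule.smul_mem_smul (Ideal.mem_span_singleton_self a) ⟨_, rfl⟩)
      · show PowerSeries.X ^ c' * q = g + (a : PowerSeries k) * (PowerSeries.X ^ c' * _)
        rw [hq', hw, pow_add]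
        linear_combination -(PowerSeries.X ^ c' * PowerSeries.X ^ d * q') * (Units.mul_inv w)
  refine ⟨PowerSeries.X ^ n, PowerSeries.order_X_pow n, fun m _ => hIN ⟨PowerSeries.X ^ (n - c') * m, ?_⟩⟩
  simp only [μ, LinearMap.mulLeft_apply]
  rw [← mul_assoc, ← pow_add, Nat.add_sub_cancel' hn]

end Groth.Agent.S15034
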