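import Groth.Statements.S15036
import Groth.Agent.TFCurv.Semigroup

set_option autoImplicit false
open TFCurv

namespace Groth.Agent.S15036

/-- Let Γ be a numerical semigroup (a submonoid of (ℕ, +) with finite complement), Γ ≠ ℕ, with conductor
c (every n ≥ c lies in Γ, c − 1 does not); let S ⊆ ℕ be a Γ-module in normal form (0 ∈ S, γ + s ∈ S
for γ ∈ Γ, s ∈ S) with conductor c(S) (all n ≥ c(S) in S, c(S) − 1 ∉ S), and let s be a gap of S
such that S ∪ {s} is again a Γ-module. Enumerate S increasingly as s_0 < s_1 < ⋯ and put τ_i(S) =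
s_i + ℓ(S), where ℓ counts the gaps of Γ filled; since ℓ(S ∪ {s}) = ℓ(S) + 1, the termwise
comparison τ(S) ≤ τ(S ∪ {s}) says that the i-th element of S is at most one more than the i-th
element of S ∪ {s} for every i. This holds if and only if s = c(S) − 1, the largest gap of S. -/
theorem result (Γ : AddSubmonoid ℕ) (c : ℕ) (hc : ∀ n : ℕ, c ≤ n → n ∈ Γ) (hc0 : c ≠ 0) (hc1 : c - 1 ∉ Γ) (S : Set ℕ) (hS0 : (0 : ℕ) ∈ S) (hS : ∀ γ : ℕ, γ ∈ Γ → ∀ s : ℕ, s ∈ S → γ + s ∈ S) (cS : ℕ) (hcS : ∀ n : ℕ, cS ≤ n → n ∈ S) (hcS0 : cS ≠ 0) (hcS1 : cS - 1 ∉ S) (s : ℕ) (hs : s ∉ S) (hs' : ∀ γ : ℕ, γ ∈ Γ → γ ≠ 0 → s + γ ∈ S) : (∀ i : ℕ, Nat.nth (fun m => m ∈ S) i ≤ Nat.nth (fun m => m ∈ insert s S) i + 1) ↔ s + 1 = cS := by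
  classical
  have hinfS : (Set.ofPred fun m => m ∈ S).Infinite := (Set.Ici_infinite cS).mono hcS
  have hinfT : (Set.ofPred fun m => m ∈ insert s S).Infinite :=
    (Set.Ici_infinite cS).mono fun n hn => Or.inr (hcS n hn)
  have hcount : ∀ m, Nat.count (fun m => m ∈ insert s S) m =
      Nat.count (fun m => m ∈ S) m + if s < m then 1 else 0 := by
    intro m
    induction m with
    | zero => simp
    | succ m ih =>
      rw [Nat.count_succ, Nat.count_succ, ih]
      by_cases hm : m = s
      · subst hm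
        simp [hs]
      · simp only [Set.mem_insert_iff, hm, false_or]
        split_ifs <;> omega
  constructor
  · intro h
    by_contra hne
    have hsc : s < cS := by
      by_contra hh
      exact hs (hcS s (by omega))
    have hmem := Nat.nth_mem_of_infinite (p := fun m => m ∈ S) hinfS (Nat.count (fun m => m ∈ S) (cS - 1))
    have h1 : cS - 1 ≤ Nat.nth (fun m => m ∈ S) (Nat.count (fun m => m ∈ S) (cS - 1)) :=
      (Nat.count_le_iff_le_nth (p := fun m => m ∈ S) hinfS).1 le_rfl
    have h2 : Nat.nth (fun m => m ∈ S) (Nat.count (fun m => m ∈ S) (cS - 1)) ≠ cS - 1 :=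
      fun e => hcS1 (e ▸ hmem)
    have h3 : Nat.nth (fun m => m ∈ insert s S) (Nat.count (fun m => m ∈ S) (cS - 1)) < cS - 1 :=
      Nat.nth_lt_of_lt_count (by rw [hcount, if_pos (by omega)]; omega)
    have := h (Nat.count (fun m => m ∈ S) (cS - 1))
    omega
  · intro hsc i
    have hj := Nat.count_nth_succ_of_infinite (p := fun m => m ∈ insert s S) hinfT i
    rw [hcount] at hj
    have : i < Nat.count (fun m => m ∈ S) (Nat.nth (fun m => m ∈ insert s S) i + 1 + 1) := by
      rw [Nat.count_succ]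
      by_cases hle : s < Nat.nth (fun m => m ∈ insert s S) i + 1
      · rw [if_pos hle] at hj
        rw [if_pos (hcS _ (by omega))]
        omega
      · rw [if_neg hle] at hj
        omega
    have := Nat.nth_lt_of_lt_count this
    omega

end Groth.Agent.S15036
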