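import Groth.Statements.S15039
import Groth.Agent.TFPush7.NormEquiv
import Groth.Agent.VarietyLib.NormStalk
import Groth.Agent.VarietyLib.DegBasic
import Groth.Agent.RefHullLib.LowDim
import Groth.Agent.KModel28.Basic
import Groth.Agent.S1585
import Groth.Agent.CommAlg6.DimMaps
import Groth.Agent.CAlgH3.Serre
-- import your own Groth.Agent.* helpers here

set_option autoImplicit false
set_option linter.style.haveILetI false
set_option backward.isDefEq.respectTransparency.types false
universe u
open CategoryTheory CategoryTheory.Limits AlgebraicGeometry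
open TFCurv

namespace Groth.Agent.S15039

open Groth.Agent Groth.Agent.VarietyLib

variable (X : Scheme.{u}) [IsIntegral X] [QuasiCompact (X.fromSpecStalk (genericPoint X))]
  [QuasiSeparated (X.fromSpecStalk (genericPoint X))] {n : ℕ} {F : X.Modules}

/-- Fractions in the normalization act on a module with stalks powers of the integral closure. -/
theorem exists_div (hF : Coh.IsCoh F) (hst : ∀ x : X, Nonempty (↑(F.presheaf.stalk x) ≃ₗ[↑(X.presheaf.stalk x)]
    (Fin n → ↥(integralClosure ↑(X.presheaf.stalk x) X.functionField)))) (W : X.Opens) (hW : IsAffineOpen W)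
    (b : Γ(Curv2.normalization X, Curv2.normalizationι X ⁻¹ᵁ W)) (a a' : Γ(X, W)) (_ha : a ≠ 0)
    (hab : (Curv2.normalizationι X).app W a * b = (Curv2.normalizationι X).app W a') (m : Γ(F, W)) :
    ∃ m' : Γ(F, W), a • m' = a' • m := by
  haveI := hF.1
  let I : Ideal Γ(X, W) :=
    (LinearMap.range (LinearMap.lsmul Γ(X, W) Γ(F, W) a)).comap (LinearMap.toSpanSingleton Γ(X, W) Γ(F, W) (a' • m))
  suffices h1 : (1 : Γ(X, W)) ∈ I by
    obtain ⟨m', hm'⟩ := h1
    exact ⟨m', by simpa using hm'⟩
  rw [← Ideal.eq_top_iff_one, eq_top_iff, ← Ideal.span_eq I, top_le_iff, ← hW.self_le_iSup_basicOpen_iff]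
  intro x hx
  haveI : Nonempty W := ⟨⟨x, hx⟩⟩
  obtain ⟨e⟩ := hst x
  let c : ↥(integralClosure ↑(X.presheaf.stalk x) X.functionField) :=
    ⟨NormStalk.sec X W b, NormStalk.sec_mem_clo x hW hx b⟩
  have hc : algebraMap (X.presheaf.stalk x) ↥(integralClosure ↑(X.presheaf.stalk x) X.functionField)
        (X.presheaf.germ W x hx a) * c =
      algebraMap (X.presheaf.stalk x) ↥(integralClosure ↑(X.presheaf.stalk x) X.functionField)
        (X.presheaf.germ W x hx a') := by
    refine Subtype.ext ?_
    show algebraMap (X.presheaf.stalk x) X.functionField (X.presheaf.germ W x hx a) * NormStalk.sec X W b =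
      algebraMap (X.presheaf.stalk x) X.functionField (X.presheaf.germ W x hx a')
    rw [NormStalk.algebraMap_germ, NormStalk.algebraMap_germ, ← NormStalk.sec_app, ← NormStalk.sec_app,
      ← map_mul, hab]
  obtain ⟨f, m₁, hf, hm₁⟩ := QCohLoc.exists_smul_stalk_eq_germ F hW hx
    (e.symm fun i => c * e (F.presheaf.germ W x hx m) i)
  have hg : F.presheaf.germ W x hx (f • a' • m - a • m₁) = 0 := by
    rw [map_sub, QCohLoc.germ_smul', QCohLoc.germ_smul', QCohLoc.germ_smul', ← hm₁,
      smul_comm (X.presheaf.germ W x hx a), ← smul_sub]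
    refine (congrArg _ (sub_eq_zero.2 ?_)).trans (smul_zero _)
    refine e.injective ?_
    rw [map_smul, map_smul, e.apply_symm_apply]
    funext i
    simp only [Pi.smul_apply, Algebra.smul_def]
    rw [← mul_assoc, hc]
  obtain ⟨g, hg', hgz⟩ := QCohLoc.exists_smul_eq_zero_of_germ F hW hx _ hg
  refine TopologicalSpace.Opens.mem_iSup.2 ⟨⟨g * f, ⟨g • m₁, ?_⟩⟩, ?_⟩
  · show a • g • m₁ = (g * f) • a' • m
    rw [smul_sub, sub_eq_zero] at hgz
    rw [smul_comm, ← hgz, mul_smul]
  · rw [X.basicOpen_mul]
    exact ⟨hg', hf⟩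

omit [QuasiCompact (X.fromSpecStalk (genericPoint X))] [QuasiSeparated (X.fromSpecStalk (genericPoint X))] in
/-- Powers of the integral closure are torsion-free. -/
theorem isTorsionFree_of_stalks (hst : ∀ x : X, Nonempty (↑(F.presheaf.stalk x) ≃ₗ[↑(X.presheaf.stalk x)]
    (Fin n → ↥(integralClosure ↑(X.presheaf.stalk x) X.functionField)))) : TorSh.IsTorsionFree F := fun x => by
  obtain ⟨e⟩ := hst x
  refine Module.IsTorsionFree.of_smul_eq_zero fun r v h => or_iff_not_imp_left.2 fun hr => e.injective ?_
  funext i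
  rw [map_zero]
  have h' := congrArg (fun t => ((t i : ↥(integralClosure ↑(X.presheaf.stalk x) X.functionField)) : X.functionField))
    ((e.map_smul r v).symm.trans (congrArg e h))
  simp only [Pi.smul_apply, map_zero, Pi.zero_apply, ZeroMemClass.coe_zero, Algebra.smul_def] at h'
  refine Subtype.ext ((mul_eq_zero.1 h').resolve_left fun h0 => hr ?_)
  exact IsFractionRing.injective (X.presheaf.stalk x) X.functionField (h0.trans (map_zero _).symm)

omit [QuasiCompact (X.fromSpecStalk (genericPoint X))] [QuasiSeparated (X.fromSpecStalk (genericPoint X))] in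
/-- The generic rank. -/
theorem finrank_generic (hst : ∀ x : X, Nonempty (↑(F.presheaf.stalk x) ≃ₗ[↑(X.presheaf.stalk x)]
    (Fin n → ↥(integralClosure ↑(X.presheaf.stalk x) X.functionField)))) (x : X) (hx : x = genericPoint X) :
    Module.finrank (X.presheaf.stalk x) (F.presheaf.stalk x) = n := by
  obtain ⟨e⟩ := hst x
  rw [e.finrank_eq]
  have hb : Function.Bijective (Algebra.linearMap (X.presheaf.stalk x)
      ↥(integralClosure (X.presheaf.stalk x) X.functionField)) := by
    refine ⟨fun p q h => IsFractionRing.injective (X.presheaf.stalk x) X.functionField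
      (congrArg Subtype.val h), fun y => ?_⟩
    obtain ⟨W, hW, t, ht⟩ := X.presheaf.exists_germ_eq (x := genericPoint X) y.1
    haveI : Nonempty W := ⟨⟨_, hW⟩⟩
    refine ⟨X.presheaf.germ W x (hx ▸ hW) t, Subtype.ext ?_⟩
    rw [Algebra.linearMap_apply, Subalgebra.coe_algebraMap, NormStalk.algebraMap_germ]
    exact ht
  exact (LinearEquiv.finrank_eq (LinearEquiv.piCongrRight fun _ : Fin n => (LinearEquiv.ofBijective _ hb).symm)).trans
    (Module.finrank_fin_fun _)

theorem finrank_restrict {Y Z : Scheme.{u}} (f : Z ⟶ Y) [IsOpenImmersion f] (G : Y.Modules) (z : Z) :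
    Module.finrank (Z.presheaf.stalk z) ((G.restrict f).presheaf.stalk z) =
      Module.finrank (Y.presheaf.stalk (f z)) (G.presheaf.stalk (f z)) := by
  obtain ⟨φ, e, he, -, -⟩ := RefHullLib.exists_semilinear_restrict f G z
  exact congrArg Cardinal.toNat (rank_eq_of_equiv_equiv φ e φ.bijective he).symm

/-- Let X be an integral proper curve (integral, proper, of dimension one) over an algebraically closed
field k, with normalisation ν : X~ → X, and write Õ_x for the integral closure of the local ring
O_{X,x} in the function field of X. Then ν_* induces a bijection from isomorphism classes of locally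
free modules of rank n on X~ to isomorphism classes of coherent O_X-modules all of whose stalks F_x
are isomorphic to Õ_x^n as O_{X,x}-modules: every such module is isomorphic to ν_*E for some locally
free E of rank n on X~, and two locally free modules of rank n on X~ with isomorphic direct images
are isomorphic. -/
theorem result (k : Type u) [Field k] [IsAlgClosed k] (X : Scheme.{u}) [X.Over (Spec (CommRingCat.of k))] [IsIntegral X] [IsProper (X ↘ Spec (CommRingCat.of k))] (hdim : topologicalKrullDim X = 1) [QuasiCompact (X.fromSpecStalk (genericPoint X))] [QuasiSeparated (X.fromSpecStalk (genericPoint X))] (n : ℕ) : (∀ F : X.Modules, Coh.IsCoh F → (∀ x : X, Nonempty (↑(F.presheaf.stalk x) ≃ₗ[↑(X.presheaf.stalk x)] (Fin n → ↥(integralClosure ↑(X.presheaf.stalk x) X.functionField)))) → ∃ E : (Curv2.normalization X).Modules, FlatMod.IsFinLocFreeOfRank n E ∧ Nonempty ((Coh.push (Curv2.normalizationι X)).obj E ≅ F)) ∧ (∀ E E' : (Curv2.normalization X).Modules, FlatMod.IsFinLocFreeOfRank n E → FlatMod.IsFinLocFreeOfRank n E' → Nonempty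 ((Coh.push (Curv2.normalizationι X)).obj E ≅ (Coh.push (Curv2.normalizationι X)).obj E') → Nonempty (E ≅ E')) := by
  obtain ⟨hfin, hdom, ⟨U, hUne, hiso⟩, hint, hnorm⟩ := Groth.Agent.S1585.result k X
  haveI := hfin
  haveI := hdom
  haveI := hiso
  haveI := hint
  haveI := EulerLib.isNoetherian_of_proper (X := X) k
  haveI : IsLocallyNoetherian (Curv2.normalization X) :=
    LocallyOfFiniteType.isLocallyNoetherian (Curv2.normalizationι X)
  have hY : topologicalKrullDim (Curv2.normalization X) ≤ 1 :=
    (CommAlg6.topologicalKrullDim_le_of_fibres (Curv2.normalizationι X).continuous fun x x' hs hx =>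
      CommAlg6.eq_of_specializes_of_locallyQuasiFinite (Curv2.normalizationι X) hs hx).trans hdim.le
  have hreg : ∀ y : Curv2.normalization X, IsRegularLocalRing ((Curv2.normalization X).presheaf.stalk y) :=
    fun y => by
      haveI := (hnorm y).1
      haveI := (hnorm y).2
      exact CAlgH3.isRegularLocalRing_of_normal_dim_le_one
        ((CurvesLib24.stalk_dim_le_topologicalKrullDim y).trans hY)
  have hU : genericPoint X ∈ U := ((genericPoint_spec X).mem_open_set_iff U.isOpen).2 (by simpa using hUne)
  refine ⟨fun F hF hst => ?_, fun E E' hE hE' hiso' => ?_⟩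
  · obtain ⟨E, _, hEc, hEtf, hiso', ⟨e⟩⟩ := TFPush7.exists_push_iso (Curv2.normalizationι X) U hU hF
      (isTorsionFree_of_stalks X hst) (exists_div X hF hst)
    have hlf : FlatMod.IsFinLocFree E :=
      (RefHullLib.isTorsionFree_iff_isFinLocFree_of_dim_le_one hreg hY hEc).1 fun y => by
        haveI := hEtf y
        exact ⟨fun {c m} hc => smul_eq_zero.1 hc⟩
    obtain ⟨r, hr⟩ := KModel28.exists_rank hlf
    refine ⟨E, ?_, hiso'⟩
    suffices r = n by rwa [this] at hr
    let z : (Curv2.normalizationι X ⁻¹ᵁ U).toScheme :=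
      ⟨genericPoint (Curv2.normalization X), TFPush7.genericPoint_mem_good _ U hU⟩
    rw [← VarietyLib.finrank_stalk_of_rank hr ((Curv2.normalizationι X ⁻¹ᵁ U).ι z), ← finrank_restrict,
      ← finrank_generic X hst (TFPush7.good (Curv2.normalizationι X) U z)
        (TorShLib.map_genericPoint (Curv2.normalizationι X)), ← finrank_restrict]
    exact ((DerSch.stalkFunctor _ z).mapIso e).toLinearEquiv.finrank_eq
  · have hlf' : FlatMod.IsFinLocFree E' := fun x => let ⟨V, hx, e⟩ := hE' x; ⟨V, n, hx, e⟩
    haveI := LocFreeLib.isQCoh_of_isFinLocFreeOfRank hE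
    haveI := LocFreeLib.isQCoh_of_isFinLocFreeOfRank hE'
    obtain ⟨α⟩ := hiso'
    refine TFPush7.nonempty_iso_of_push (Curv2.normalizationι X) U hU (fun y => ?_) α
    haveI := Props12.free_stalk_of_isFinLocFree E' hlf' y
    infer_instance

end Groth.Agent.S15039
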