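import Groth.Statements.S15040
import Groth.Agent.TFDual15.Basic
import Groth.Agent.S15013
import Groth.Agent.LocCoh.Gorenstein
-- import your own Groth.Agent.* helpers here

set_option autoImplicit false
universe u
open CategoryTheory
open TFCurv

namespace Groth.Agent.S15040

open Groth.Agent.TFDual15

/-- Let O be a one-dimensional Gorenstein local domain with algebraically closed residue field whose
integral closure O~ in its fraction field K is a finite O-module, and let M be an intermediate ring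
O ⊆ M ⊆ O~ (an overring of O), viewed as an O-module. Put M⁻¹ = {x ∈ K | x·M ⊆ O}, which lies in O
and is identified with an ideal of O. Then Ext¹_O(M, M) and Hom_O(M⁻¹, O/M⁻¹) are isomorphic abelian
groups (existence of an additive isomorphism only). -/
theorem result (O : Type u) [CommRing O] [IsDomain O] [LocCoh.IsGorensteinLocalRing O] (hdim : ringKrullDim O = 1) [IsAlgClosed (IsLocalRing.ResidueField O)] (K : Type u) [Field K] [Algebra O K] [IsFractionRing O K] (hfin : Module.Finite O ↥(integralClosure O K)) (M : Subalgebra O K) (hM : M ≤ integralClosure O K) : Nonempty (Abelian.Ext (ModuleCat.of O ↥M) (ModuleCat.of O ↥M) 1 ≃+ (↥((1 : Submodule O K) / Subalgebra.toSubmodule M) →ₗ[O] (O ⧸ Submodule.comap (Algebra.linearMap O K) ((1 : Submodule O K) / Subalgebra.toSubmodule M)))) := by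
  classical
  haveI : IsNoetherianRing O := inferInstance
  haveI : IsLocalRing O := inferInstance
  have hid : HasInjectiveDimensionLT (ModuleCat.of O O) 2 :=
    Groth.Agent.LocCoh.hasInjectiveDimensionLT_gorenstein (R := O) (n := 1) hdim
  have hinjK := IsFractionRing.injective O K
  let e : O ≃ₗ[O] ↥(1 : Submodule O K) :=
    (LinearEquiv.ofInjective (Algebra.linearMap O K) hinjK).trans
      (LinearEquiv.ofEq _ _ Submodule.one_eq_range.symm)
  have he : ∀ r, (e r : K) = algebraMap O K r := fun r => rfl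
  have hid1 : HasInjectiveDimensionLT (ModuleCat.of O ↥(1 : Submodule O K)) 2 := by
    haveI := hid
    exact hasInjectiveDimensionLT_of_iso e.toModuleIso 2
  have h10 : (1 : Submodule O K) ≠ ⊥ := fun h => by
    have h1 : (1 : K) ∈ (1 : Submodule O K) := Submodule.one_le.1 le_rfl
    rw [h, Submodule.mem_bot] at h1
    exact one_ne_zero h1
  have h1fg : (1 : Submodule O K).FG := by
    rw [Submodule.one_eq_span]; exact Submodule.fg_span_singleton 1
  have hc : Canon (1 : Submodule O K) := ⟨h10, h1fg, hdim, fun N _ _ _ _ j hj =>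
    Groth.Agent.S15013.result O hdim K hfin 1 h10 h1fg hid1 N j hj⟩
  haveI : NoZeroSMulDivisors O K := nzsd_field
  haveI : Module.Finite O ↥(integralClosure O K) := hfin
  haveI : Module.Finite O ↥M := Module.Finite.of_injective (Subalgebra.inclusion hM).toLinearMap
    (Subalgebra.inclusion_injective hM)
  haveI : NoZeroSMulDivisors O ↥M := ⟨fun {c x} h =>
    (eq_zero_or_eq_zero_of_smul_eq_zero (congrArg Subtype.val h)).imp id (fun h => Subtype.ext h)⟩
  let D : Submodule O K := (1 : Submodule O K) / Subalgebra.toSubmodule M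
  let I : Ideal O := Submodule.comap (Algebra.linearMap O K) D
  have hD : ∀ x, x ∈ D → ∀ y ∈ M, x * y ∈ (1 : Submodule O K) := fun x hx y hy =>
    Submodule.mem_div_iff_forall_mul_mem.1 hx y hy
  have hD1 : ∀ x ∈ D, x ∈ (1 : Submodule O K) := fun x hx => by simpa using hD x hx 1 M.one_mem
  have hDI : ∀ x : D, (e.symm ⟨x, hD1 x x.2⟩ : O) ∈ I := fun x => by
    show algebraMap O K _ ∈ D
    rw [← he, e.apply_symm_apply]; exact x.2
  let eDI : ↥D ≃ₗ[O] ↥I :=
    LinearEquiv.ofBijective
      ((e.symm.toLinearMap ∘ₗ Submodule.inclusion (show D ≤ 1 from hD1)).codRestrict I hDI)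
      ⟨fun x y h => Subtype.ext (congrArg (fun z : ↥(1 : Submodule O K) => (z : K))
          (e.symm.injective (congrArg Subtype.val h))),
        fun r => ⟨⟨algebraMap O K r, r.2⟩, Subtype.ext ((e.symm_apply_eq).2 (Subtype.ext rfl))⟩⟩
  -- the dual of `M` is `D`
  let w₀ : ↥(Subalgebra.toSubmodule M) := ⟨1, M.one_mem⟩
  have hmul : ∀ (φ : ↥M →ₗ[O] ↥(1 : Submodule O K)) (y : ↥M),
      (φ y : K) = (y : K) * (φ 1 : K) := fun φ y => by
    have := hom_eq_mul (Subalgebra.toSubmodule M) ((Submodule.subtype _) ∘ₗ φ) (w₀ := w₀) one_ne_zero y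
    simp only [w₀, div_one] at this
    exact this
  let L : (↥M →ₗ[O] ↥(1 : Submodule O K)) →ₗ[O] ↥D :=
      { toFun := fun φ => ⟨(φ 1 : K), Submodule.mem_div_iff_forall_mul_mem.2 fun y hy => by
          rw [mul_comm, ← hmul φ ⟨y, hy⟩]; exact (φ _).2⟩
        map_add' := fun φ ψ => rfl
        map_smul' := fun r φ => rfl }
  let eH : (↥M →ₗ[O] ↥(1 : Submodule O K)) ≃ₗ[O] ↥D :=
    LinearEquiv.ofBijective L
      ⟨fun φ ψ h => LinearMap.ext fun y => Subtype.ext (by
          rw [hmul φ, hmul ψ]; exact congrArg (fun z : ↥D => (y : K) * (z : K)) h),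
        fun x => ⟨(LinearMap.mulLeft O (x : K) ∘ₗ (Subalgebra.toSubmodule M).subtype).codRestrict _
            (fun y => hD x x.2 y y.2), Subtype.ext (mul_one (x : K))⟩⟩
  obtain ⟨E₁⟩ := nonempty_ext_equiv hc 1 ↥M ↥M
  let E₂ := extCongr (X := ↥M →ₗ[O] ↥(1 : Submodule O K)) (X' := ↥I)
    (Y := ↥M →ₗ[O] ↥(1 : Submodule O K)) (Y' := ↥I) (eH.trans eDI) (eH.trans eDI) 1
  haveI : NoZeroSMulDivisors O ↥I := nzsd_submodule I
  have hI1 : Subsingleton (Abelian.Ext (ModuleCat.of O ↥I) (ModuleCat.of O O) 1) :=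
    (extCongr (LinearEquiv.refl O ↥I) e.symm 1).symm.toEquiv.subsingleton_congr.2
      (hc.ext_zero ↥I 1 le_rfl)
  obtain ⟨p, hp, hker⟩ := exists_covariant_presentation (A := ↥I) (B := O) (C := O ⧸ I) ↥I
    (ι := I.subtype) (π := I.mkQ) (Submodule.injective_subtype _) (Submodule.mkQ_surjective _)
    (LinearMap.exact_subtype_mkQ I) hI1
  have hzero : ∀ g : ↥I →ₗ[O] O, I.mkQ ∘ₗ g = 0 := by
    intro g
    refine LinearMap.ext fun y => (Submodule.Quotient.mk_eq_zero I).2 ?_
    show algebraMap O K (g y) ∈ D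
    refine Submodule.mem_div_iff_forall_mul_mem.2 fun m hm => ?_
    have hym : algebraMap O K y * m ∈ D := Submodule.mem_div_iff_forall_mul_mem.2 fun m' hm' => by
      rw [mul_assoc]; exact hD _ y.2 _ (M.mul_mem hm hm')
    obtain ⟨z, hz⟩ : ∃ z : ↥I, algebraMap O K z = algebraMap O K y * m :=
      ⟨eDI ⟨_, hym⟩, by
        show algebraMap O K (e.symm ⟨_, hD1 _ hym⟩) = _
        rw [← he, e.apply_symm_apply]⟩
    have hyz : algebraMap O K (g y) * m = algebraMap O K (g z) := by
      by_cases hy : (y : O) = 0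
      · have hy' : y = 0 := Subtype.ext hy
        subst hy'
        rw [map_zero g, map_zero, zero_mul]
        have hz' : z = 0 := Subtype.ext (hinjK (by rw [hz]; simp))
        rw [hz', map_zero g, map_zero]
      · have hyK : algebraMap O K (y : O) ≠ 0 := fun h => hy (hinjK (by rw [h, map_zero]))
        refine mul_left_cancel₀ hyK ?_
        have h2 := congrArg g (show (z : O) • y = (y : O) • z from Subtype.ext (mul_comm _ _))
        rw [map_smul, map_smul, smul_eq_mul, smul_eq_mul] at h2
        rw [← map_mul, ← h2, map_mul, hz]; ring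
    rw [hyz]
    exact Submodule.mem_one.2 ⟨_, rfl⟩
  have hpinj : Function.Injective p := (injective_iff_map_eq_zero p).2 fun φ hφ => by
    obtain ⟨g, rfl⟩ := (hker φ).1 hφ
    exact hzero g
  let E₃ := (AddEquiv.ofBijective p ⟨hpinj, hp⟩).symm
  exact ⟨E₁.trans (E₂.trans (E₃.trans (LinearEquiv.congrLeft (O ⧸ I) O eDI.symm).toAddEquiv))⟩

end Groth.Agent.S15040
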