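import Groth.Statements.S15042
import Groth.Agent.Quiet5.SchemeOps

set_option autoImplicit false
open CategoryTheory CategoryTheory.Limits AlgebraicGeometry
universe u
open Quiet

namespace Groth.Agent.S15042

/-- Over a scheme `X` of prime characteristic `p`, if `f : Y ⟶ X` is quasi-etale (locally on the source
an extraction of `p`-th roots followed by an etale morphism) and `Y'` with its projections `g' : Y'
⟶ Y`, `f' : Y' ⟶ X'` is the fibre product of `f` and a morphism `g : X' ⟶ X`, then `f'` is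
quasi-etale. -/
theorem result (p : ℕ) [Fact p.Prime] {X Y X' Y' : Scheme.{u}} [FrobSch.IsCharP X p]
    (f : Y ⟶ X) (g : X' ⟶ X) (f' : Y' ⟶ X') (g' : Y' ⟶ Y) (H : IsPullback g' f' f g)
    (hf : Quiet.IsQuiet p f) : Quiet.IsQuiet p f' := by
  intro y'
  obtain ⟨V, Z, r, e, hy, hr, he, hfac⟩ := hf (g' y')
  have := he
  let Z' := pullback e g
  have h1 : IsPullback (g' ∣_ V) ((g' ⁻¹ᵁ V).ι ≫ f') (V.ι ≫ f) g :=
    (isPullback_morphismRestrict g' V).paste_vert H
  rw [← hfac] at h1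
  let r' : (g' ⁻¹ᵁ V).toScheme ⟶ Z' :=
    pullback.lift ((g' ∣_ V) ≫ r) ((g' ⁻¹ᵁ V).ι ≫ f') (by rw [Category.assoc]; exact h1.w)
  have hr1 : r' ≫ pullback.fst e g = (g' ∣_ V) ≫ r := pullback.lift_fst _ _ _
  have hr2 : r' ≫ pullback.snd e g = (g' ⁻¹ᵁ V).ι ≫ f' := pullback.lift_snd _ _ _
  have h2 : IsPullback (g' ∣_ V) r' r (pullback.fst e g) :=
    IsPullback.of_bot (by rw [hr2]; exact h1) hr1.symm (IsPullback.of_hasPullback e g)
  exact ⟨g' ⁻¹ᵁ V, Z', r', pullback.snd e g, hy, Quiet5.isPthRoot_baseChange h2 hr, inferInstance, hr2⟩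

end Groth.Agent.S15042
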