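import Groth.Statements.S15043
import Groth.Agent.Quiet5.EtaleSwap

set_option autoImplicit false
set_option linter.style.haveILetI false
open CategoryTheory CategoryTheory.Limits AlgebraicGeometry
universe u
open Quiet

namespace Groth.Agent.S15043

/-- Over a scheme `X` of prime characteristic `p`, the composite of quasi-etale morphisms `g : Z ⟶ Y`
and `f : Y ⟶ X` (each locally on its source an extraction of `p`-th roots followed by an etale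
morphism) is quasi-etale. -/
theorem result (p : ℕ) [Fact p.Prime] {X Y Z : Scheme.{u}} [FrobSch.IsCharP X p]
    (f : Y ⟶ X) (g : Z ⟶ Y) (hf : Quiet.IsQuiet p f) (hg : Quiet.IsQuiet p g) :
    Quiet.IsQuiet p (g ≫ f) := by
  intro z
  obtain ⟨W, Z', r₂, e₂, hzW, hr₂, he₂, hfac₂⟩ := hg z
  obtain ⟨V, Y₁, r₁, e₁, hyV, hr₁, he₁, hfac₁⟩ := hf (g z)
  haveI := he₁
  haveI := he₂
  haveI : FrobSch.IsCharP Y₁ p := FrobSch.IsCharP.of_hom e₁ p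
  haveI : FrobSch.IsCharP Y p := FrobSch.IsCharP.of_hom f p
  haveI : FrobSch.IsCharP Z' p := FrobSch.IsCharP.of_hom e₂ p
  obtain ⟨⟨U, hU⟩, hyU, hP', hn⟩ := hr₁ (r₁ ⟨g z, hyV⟩)
  have hP : IsAffineOpen (r₁ ⁻¹ᵁ U) := hP'
  let P : Scheme := (r₁ ⁻¹ᵁ U).toScheme
  haveI : IsAffine P := hP
  haveI : IsAffine U.toScheme := hU
  haveI : FrobSch.IsCharP U.toScheme p := FrobSch.IsCharP.of_hom U.ι p
  have hh : Quiet5.HasTower p (r₁ ∣_ U) ⊤ :=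
    Quiet5.hasTower_baseChange (isPullback_morphismRestrict r₁ U).flip hU ⟨hP', hn⟩
      (isAffineOpen_top U.toScheme) (fun u _ => u.2)
  let j : P ⟶ Y := (r₁ ⁻¹ᵁ U).ι ≫ V.ι
  have hz' : e₂ (r₂ ⟨z, hzW⟩) = g z := congrArg (fun m => m (⟨z, hzW⟩ : W)) hfac₂
  obtain ⟨Q', hQ', hzQ, hQle⟩ := exists_isAffineOpen_mem_and_subset (x := r₂ ⟨z, hzW⟩)
    (U := e₂ ⁻¹ᵁ j.opensRange) (by
      show e₂ (r₂ ⟨z, hzW⟩) ∈ j.opensRange
      rw [hz']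
      exact ⟨(⟨⟨g z, hyV⟩, hyU⟩ : P), rfl⟩)
  haveI : IsAffine Q'.toScheme := hQ'
  let q : Q'.toScheme ⟶ P := IsOpenImmersion.lift j (Q'.ι ≫ e₂) (by
    rintro _ ⟨w, rfl⟩
    exact hQle w.2)
  have hq : q ≫ j = Q'.ι ≫ e₂ := IsOpenImmersion.lift_fac _ _ _
  haveI : Etale q := by
    haveI : Etale (q ≫ j) := by rw [hq]; infer_instance
    exact Etale.of_comp q j
  obtain ⟨Q₀, c, s, hc, hsq⟩ := Quiet5.exists_swap (r₁ ∣_ U) hh q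
  haveI := hc
  have hs : Quiet.IsPthRoot p s := Quiet5.isPthRoot_baseChange hsq (Quiet5.isPthRoot_restrict hr₁ U)
  let O := r₂ ⁻¹ᵁ Q'
  haveI : FrobSch.IsCharP Q'.toScheme p := FrobSch.IsCharP.of_hom Q'.ι p
  haveI : FrobSch.IsCharP Q₀ p := FrobSch.IsCharP.of_hom (c ≫ U.ι) p
  haveI : FrobSch.IsCharP O.toScheme p := FrobSch.IsCharP.of_hom (r₂ ∣_ Q') p
  refine ⟨W.ι ''ᵁ O, Q₀, (W.ι.isoImage O).inv ≫ (r₂ ∣_ Q') ≫ s, c ≫ U.ι ≫ e₁,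
    ⟨⟨z, hzW⟩, hzQ, rfl⟩,
    Quiet5.isPthRoot_comp (Quiet5.isPthRoot_comp hs (Quiet5.isPthRoot_restrict hr₂ Q'))
      (Quiet5.isPthRoot_of_isIso _),
    inferInstance, ?_⟩
  calc ((W.ι.isoImage O).inv ≫ (r₂ ∣_ Q') ≫ s) ≫ c ≫ U.ι ≫ e₁
      = (W.ι.isoImage O).inv ≫ (r₂ ∣_ Q') ≫ q ≫ (r₁ ∣_ U) ≫ U.ι ≫ e₁ := by
        simp only [Category.assoc]
        rw [← reassoc_of% hsq.w]
    _ = (W.ι.isoImage O).inv ≫ (r₂ ∣_ Q') ≫ (q ≫ j) ≫ f := by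
        simp only [j, Category.assoc, morphismRestrict_ι_assoc, hfac₁]
    _ = (W.ι.isoImage O).inv ≫ O.ι ≫ W.ι ≫ g ≫ f := by
        rw [hq, Category.assoc, morphismRestrict_ι_assoc, reassoc_of% hfac₂]
    _ = (W.ι ''ᵁ O).ι ≫ g ≫ f := by rw [Scheme.Hom.isoImage_inv_ι_assoc]

end Groth.Agent.S15043
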