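import Groth.Statements.S15045
import Groth.Agent.Quiet5.Lift
import Groth.Agent.FlatMor12.EtaleFibreLift
import Mathlib.RingTheory.Unramified.LocalStructure
import Mathlib.AlgebraicGeometry.Morphisms.Etale
import Mathlib.Algebra.Category.Ring.Constructions

set_option autoImplicit false
set_option linter.style.haveILetI false
open CategoryTheory CategoryTheory.Limits AlgebraicGeometry
universe u
open Quiet

namespace Groth.Agent.S15045

/-- Let `T` be a scheme of prime characteristic `p`, `i : U ⟶ T` a closed immersion which is surjective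
on points, and `f' : U' ⟶ U` quasi-etale (locally on `U'` an extraction of `p`-th roots followed by
an etale morphism). Then every point of `U'` has an open neighbourhood `V` which is the base change
along `i` of a quasi-etale `T`-scheme: there are a quasi-etale `q : T' ⟶ T` and `j : V ⟶ T'` making
`V`, with `j` and `V ⟶ U' ⟶ U`, the fibre product of `q` and `i`. (The published statement asks `U ⟶
T` to be a closed nil-immersion, a term it does not define; this row takes any closed immersion that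
is surjective on points, which is all the printed argument uses.) -/
theorem result (p : ℕ) [Fact p.Prime] {T U U' : Scheme.{u}}
    [FrobSch.IsCharP T p] (i : U ⟶ T) [IsClosedImmersion i] [Surjective i] (f' : U' ⟶ U)
    (hf' : Quiet.IsQuiet p f') (u : U') :
    ∃ (V : U'.Opens) (T' : Scheme.{u}) (q : T' ⟶ T) (j : (V : Scheme.{u}) ⟶ T'),
      u ∈ V ∧ Quiet.IsQuiet p q ∧ IsPullback j (V.ι ≫ f') q i := by
  obtain ⟨V, U₁, r, e, huV, hr, he, hfac⟩ := hf' u
  haveI := he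
  let y : U₁ := r ⟨u, huV⟩
  obtain ⟨W, hW, hyW, -⟩ := exists_isAffineOpen_mem_and_subset (x := i (e y)) (U := ⊤) trivial
  have hUW : IsAffineOpen (i ⁻¹ᵁ W) := hW.preimage i
  obtain ⟨⟨U₀, hU₀⟩, hyU₀, htow₀⟩ := hr y
  obtain ⟨Q₁, hQ₁, hyQ₁, hQ₁le⟩ := exists_isAffineOpen_mem_and_subset (x := y) (U := U₀ ⊓ e ⁻¹ᵁ (i ⁻¹ᵁ W)) ⟨hyU₀, hyW⟩
  have htow₁ : Quiet5.HasTower p r Q₁ := Quiet5.hasTower_of_le hU₀ htow₀ hQ₁ (hQ₁le.trans inf_le_left)
  let B := Γ(U, i ⁻¹ᵁ W)
  let A := Γ(T, W)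
  letI : Algebra B Γ(U₁, Q₁) := (e.appLE (i ⁻¹ᵁ W) Q₁ (hQ₁le.trans inf_le_right)).hom.toAlgebra
  haveI hBQ₁ : Algebra.Etale B Γ(U₁, Q₁) := RingHom.etale_algebraMap.1
    (HasRingHomProperty.appLE @Etale e ‹_› ⟨_, hUW⟩ ⟨Q₁, hQ₁⟩ (hQ₁le.trans inf_le_right))
  obtain ⟨c, hcy, hstd⟩ := Algebra.IsEtaleAt.exists_isStandardEtale (R := B) (hQ₁.primeIdealOf ⟨y, hyQ₁⟩).asIdeal
  let Q := U₁.basicOpen c
  have hQ : IsAffineOpen Q := hQ₁.basicOpen c
  have hyQ : y ∈ Q := by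
    have h1 := hQ₁.fromSpec_preimage_basicOpen c
    have h2 : hQ₁.primeIdealOf ⟨y, hyQ₁⟩ ∈ hQ₁.fromSpec ⁻¹ᵁ Q := by rw [h1]; exact hcy
    have h3 : hQ₁.fromSpec (hQ₁.primeIdealOf ⟨y, hyQ₁⟩) ∈ Q := h2
    rwa [hQ₁.fromSpec_primeIdealOf] at h3
  have hQQ₁ : Q ≤ Q₁ := U₁.basicOpen_le c
  have hQW : Q ≤ e ⁻¹ᵁ (i ⁻¹ᵁ W) := hQQ₁.trans (hQ₁le.trans inf_le_right)
  obtain ⟨hO', n, hn⟩ := Quiet5.hasTower_of_le hQ₁ htow₁ hQ hQQ₁
  let O := r ⁻¹ᵁ Q
  have hO : IsAffineOpen O := hO'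
  let C := Γ(U₁, Q)
  let D := Γ((V : Scheme.{u}), O)
  haveI : IsLocalization.Away c C := hQ₁.isLocalization_basicOpen c
  letI : Algebra B C := (e.appLE (i ⁻¹ᵁ W) Q hQW).hom.toAlgebra
  haveI : IsScalarTower B Γ(U₁, Q₁) C := IsScalarTower.of_algebraMap_eq fun b => by
    show (e.appLE (i ⁻¹ᵁ W) Q hQW).hom b = (e.appLE _ Q₁ _ ≫ U₁.presheaf.map (homOfLE hQQ₁).op).hom b
    rw [Scheme.Hom.appLE_map]
  haveI : Algebra.IsStandardEtale B C :=
    haveI := hstd
    Algebra.IsStandardEtale.of_equiv ((IsLocalization.algEquiv (Submonoid.powers c) (Localization.Away c) C).restrictScalars B)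
  letI : Algebra A B := (i.app W).hom.toAlgebra
  letI : Algebra A C := (i.app W ≫ e.appLE (i ⁻¹ᵁ W) Q hQW).hom.toAlgebra
  haveI : IsScalarTower A B C := IsScalarTower.of_algebraMap_eq fun _ => rfl
  have hsurj : Function.Surjective (algebraMap A B) := i.app_surjective W hW
  obtain ⟨L, _, _, _, _, hL, hP₁⟩ := Groth.Agent.FlatMor12.exists_etale_lift_standard (B := A) (T := B) ⊥
    (fun m hm => by rw [Submonoid.mem_bot.1 hm, map_one]; exact isUnit_one)
    (fun z => ⟨1, Submonoid.one_mem _, (hsurj z).choose, by rw [map_one, one_mul]; exact (hsurj z).choose_spec.symm⟩) C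
  letI : Algebra C D := (r.app Q).hom.toAlgebra
  letI : Algebra L D := ((algebraMap C D).comp (algebraMap L C)).toAlgebra
  haveI : IsScalarTower L C D := IsScalarTower.of_algebraMap_eq fun _ => rfl
  have hLC : Function.Surjective (algebraMap L C) := Quiet5.surjective_of_isPushout hP₁.symm hsurj
  obtain ⟨D', _, _, _, _, hD', hP₂⟩ := Quiet5.exists_tower_lift n L C D hLC hn
  let a₁ : A ⟶ CommRingCat.of L := CommRingCat.ofHom (algebraMap A L)
  let a₂ : CommRingCat.of L ⟶ CommRingCat.of D' := CommRingCat.ofHom (algebraMap L D')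
  let b₁ : CommRingCat.of L ⟶ C := CommRingCat.ofHom (algebraMap L C)
  let b₂ : CommRingCat.of D' ⟶ D := CommRingCat.ofHom (algebraMap D' D)
  have e1 : IsPushout a₁ (i.app W) b₁ (e.appLE (i ⁻¹ᵁ W) Q hQW) :=
    (CommRingCat.isPushout_iff_isPushout (R := A) (S := B) (R' := L) (S' := C)).2 hP₁.symm
  have e2 : IsPushout a₂ b₁ b₂ (r.app Q) :=
    (CommRingCat.isPushout_iff_isPushout (R := L) (S := C) (R' := D') (S' := D)).2 hP₂.symm
  have hS1 := isPullback_SpecMap_of_isPushout _ _ _ _ e1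
  have hS2 := isPullback_SpecMap_of_isPushout _ _ _ _ e2
  have hfs : Spec.map (i.app W) ≫ hW.fromSpec = hUW.fromSpec ≫ i := by
    rw [Scheme.Hom.app_eq_appLE]
    exact hW.SpecMap_appLE_fromSpec i hUW le_rfl
  have hS3 : IsPullback (Spec.map (i.app W)) hUW.fromSpec hW.fromSpec i :=
    IsOpenImmersion.isPullback _ _ _ _ hfs.symm (by rw [hW.opensRange_fromSpec, hUW.opensRange_fromSpec])
  -- the lift
  have hS : IsPullback (Spec.map b₂) (Spec.map (r.app Q) ≫ Spec.map (e.appLE (i ⁻¹ᵁ W) Q hQW) ≫ hUW.fromSpec)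
      (Spec.map a₂ ≫ Spec.map a₁ ≫ hW.fromSpec) i :=
    hS2.paste_vert (hS1.paste_vert hS3)
  haveI : Etale (Spec.map a₁) :=
    (HasRingHomProperty.Spec_iff (P := @Etale)).2 (RingHom.etale_algebraMap.2 hL)
  haveI : FrobSch.IsCharP (Spec (CommRingCat.of L)) p := FrobSch.IsCharP.of_hom (Spec.map a₁ ≫ hW.fromSpec) p
  let φ : (V.ι ''ᵁ O).toScheme ≅ Spec D := (V.ι.isoImage O).symm ≪≫ hO.isoSpec
  refine ⟨V.ι ''ᵁ O, Spec (CommRingCat.of D'), Spec.map a₂ ≫ Spec.map a₁ ≫ hW.fromSpec,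
    φ.hom ≫ Spec.map b₂, ⟨⟨u, huV⟩, hyQ, rfl⟩, fun t => ?_, ?_⟩
  · haveI : IsIso (⊤ : (Spec (CommRingCat.of D')).Opens).ι :=
      inferInstanceAs (IsIso (Spec (CommRingCat.of D')).topIso.hom)
    exact ⟨⊤, Spec (CommRingCat.of L), (⊤ : (Spec (CommRingCat.of D')).Opens).ι ≫ Spec.map a₂,
      Spec.map a₁ ≫ hW.fromSpec, trivial,
      Quiet5.isPthRoot_comp (Quiet5.isPthRoot_SpecMap n L D' hD') (Quiet5.isPthRoot_of_isIso _),
      inferInstance, Category.assoc _ _ _⟩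
  · refine IsPullback.of_iso hS φ.symm (Iso.refl _) (Iso.refl _) (Iso.refl _) ?_ ?_ (by simp) (by simp)
    · simp
    · simp only [Iso.symm_hom, Iso.refl_hom, Category.comp_id]
      rw [Iso.eq_inv_comp]
      have h1 : Spec.map (r.app Q) ≫ hQ.fromSpec = hO.fromSpec ≫ r := by
        rw [Scheme.Hom.app_eq_appLE]
        exact hQ.SpecMap_appLE_fromSpec r hO le_rfl
      rw [hUW.SpecMap_appLE_fromSpec e hQ hQW, reassoc_of% h1, hfac]
      simp only [φ, Iso.trans_hom, Iso.symm_hom, Category.assoc]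
      rw [IsAffineOpen.isoSpec_hom_fromSpec_assoc, Scheme.Hom.isoImage_inv_ι_assoc]

end Groth.Agent.S15045
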