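import Groth.Statements.S15046
import Groth.Agent.Quiet5.Tower
import Groth.Agent.Quiet5.FrobBasis
import Groth.Agent.Frob15b.SmoothFlat
import Mathlib.RingTheory.RingHom.FaithfullyFlat
import Mathlib.AlgebraicGeometry.AffineScheme

set_option autoImplicit false
set_option linter.style.haveILetI false
open CategoryTheory AlgebraicGeometry
universe u
open Quiet

namespace Groth.Agent.S15046

theorem isLocalization_away_basicOpen (R : CommRingCat.{u}) (f : R) :
    letI : Algebra R Γ(Spec R, PrimeSpectrum.basicOpen f) :=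
      ((Scheme.ΓSpecIso R).inv ≫ (Spec R).presheaf.map (homOfLE le_top).op).hom.toAlgebra
    IsLocalization.Away f Γ(Spec R, PrimeSpectrum.basicOpen f) := by
  convert! (inferInstance : IsLocalization.Away f Γ(Spec R, PrimeSpectrum.basicOpen f)) using 1
  exact Algebra.algebra_ext _ _ fun a => by rw [IsAffineOpen.algebraMap_Spec_obj]; rfl

/-- Let `k` be a perfect field of prime characteristic `p` and `A` a smooth `k`-algebra of
characteristic `p`. Then the Frobenius endomorphism `a ↦ a ^ p` of `A` is faithfully flat, and the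
endomorphism of `Spec A` it induces is an extraction of `p`-th roots: every point has an affine open
neighbourhood with affine preimage over which the induced ring map is a tower of finitely many
elementary extractions `B → B[x]/(x^p - b)`. -/
theorem result (p : ℕ) [Fact p.Prime]
    (k : Type u) [Field k] [CharP k p] [PerfectRing k p] (A : Type u) [CommRing A] [Algebra k A]
    [CharP A p] [Algebra.Smooth k A] :
    (frobenius A p).FaithfullyFlat ∧
      Quiet.IsPthRoot p (Spec.map (CommRingCat.ofHom (frobenius A p))) := by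
  classical
  let F : CommRingCat.of A ⟶ CommRingCat.of A := CommRingCat.ofHom (frobenius A p)
  have hcomap : ∀ q : PrimeSpectrum A, PrimeSpectrum.comap (frobenius A p) q = q := fun q =>
    PrimeSpectrum.ext (Ideal.ext fun a => ⟨fun h => q.2.mem_of_pow_mem p h,
      fun h => Ideal.pow_mem_of_mem _ h p (Fact.out : p.Prime).pos⟩)
  refine ⟨RingHom.FaithfullyFlat.iff_flat_and_comap_surjective.2 ⟨?_, fun q => ⟨q, hcomap q⟩⟩, fun x => ?_⟩
  · have h1 : frobenius A p =
        (FrobAlg.relFrob p k A).comp (algebraMap A (FrobAlg.BaseChange p k A)) := RingHom.ext fun b => by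
      show b ^ p = FrobAlg.relFrob p k A (b ⊗ₜ[k] (1 : FrobAlg.Twist p k))
      rw [Groth.Agent.Frob15.relFrob_tmul, show ((FrobAlg.toTwist p k).symm 1 : k) = 1 from rfl, map_one, mul_one]
    rw [h1]
    exact RingHom.Flat.comp (RingHom.Flat.of_bijective (Quiet5.bijective_tmul_one p k A))
      (Groth.Agent.Frob15b.flat_relFrob p k A)
  let q : PrimeSpectrum A := x
  obtain ⟨g, hg, hstd⟩ := Algebra.IsSmoothAt.exists_notMem_isStandardSmooth k q.asIdeal
  let Ag := Localization.Away g
  haveI : Nontrivial Ag := by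
    rw [← not_subsingleton_iff_nontrivial, IsLocalization.subsingleton_iff (M := Submonoid.powers g) (S := Ag)]
    rintro ⟨n, hn⟩
    exact hg (q.2.mem_of_pow_mem n (by rw [show g ^ n = 0 from hn]; exact zero_mem _))
  haveI : CharP Ag p := ringChar.of_eq (CharP.ringChar_of_prime_eq_zero Fact.out
    (Groth.Agent.Frob15.natCast_eq_zero p k))
  obtain ⟨ι, σ, _, _, ⟨P⟩⟩ := hstd
  haveI : Algebra.IsStandardSmoothOfRelativeDimension P.dimension k Ag := ⟨ι, σ, ‹_›, ‹_›, P, rfl⟩
  obtain ⟨φ, hφ⟩ := Algebra.IsStandardSmoothOfRelativeDimension.exists_etale_mvPolynomial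
    (R := k) (S := Ag) (n := P.dimension)
  have hb := Quiet5.bijective_pBasis p k Ag P.dimension φ hφ
  let X₀ : Scheme.{u} := Spec (CommRingCat.of A)
  let g' : (CommRingCat.of A : Type u) := g
  let U : X₀.Opens := PrimeSpectrum.basicOpen g'
  have hUU : (Spec.map F) ⁻¹ᵁ U = U := TopologicalSpace.Opens.ext (Set.ext fun y => by
    show PrimeSpectrum.comap (frobenius A p) y ∈ PrimeSpectrum.basicOpen g ↔ _
    exact Iff.of_eq (congrArg (· ∈ PrimeSpectrum.basicOpen g) (hcomap y)))
  have hU : IsAffineOpen U := by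
    rw [show U = X₀.basicOpen ((Scheme.ΓSpecIso (CommRingCat.of A)).inv g') from (basicOpen_eq_of_affine g').symm]
    exact (isAffineOpen_top X₀).basicOpen _
  refine ⟨⟨U, hU⟩, hg, by rw [hUU]; exact hU, P.dimension, ?_⟩
  letI := ((Spec.map F).app U).hom.toAlgebra
  let R := Γ(X₀, U)
  let B := Γ(X₀, (Spec.map F) ⁻¹ᵁ U)
  let res : ∀ V : X₀.Opens, A →+* Γ(X₀, V) := fun V =>
    ((Scheme.ΓSpecIso (CommRingCat.of A)).inv ≫ X₀.presheaf.map (homOfLE le_top).op).hom
  have happ : ∀ a : A, (Spec.map F).app U (res U a) = res _ (frobenius A p a) := fun a => by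
    show ((Scheme.ΓSpecIso _).inv ≫ X₀.presheaf.map (homOfLE le_top).op ≫ (Spec.map F).app U).hom a =
      (F ≫ (Scheme.ΓSpecIso _).inv ≫ X₀.presheaf.map (homOfLE le_top).op).hom a
    congr 2
    rw [(Spec.map F).naturality, ← Category.assoc, ← Category.assoc, Scheme.ΓSpecIso_inv_naturality]
    rfl
  letI : Algebra A R := (res U).toAlgebra
  haveI : IsLocalization.Away g R := isLocalization_away_basicOpen (CommRingCat.of A) g
  let ψ : Ag ≃ₐ[A] R := IsLocalization.algEquiv (Submonoid.powers g) Ag R
  let ρ : R ≃+* B := ((asIso (X₀.presheaf.map (eqToHom hUU).op)).commRingCatIsoToRingEquiv)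
  have hρres : ∀ a : A, ρ (res U a) = res _ a := fun a => by
    show ((Scheme.ΓSpecIso _).inv ≫ X₀.presheaf.map (homOfLE le_top).op ≫ X₀.presheaf.map (eqToHom hUU).op).hom a = _
    rw [← Functor.map_comp]
    rfl
  let e : Ag ≃+* B := ψ.toRingEquiv.trans ρ
  have he : ((Spec.map F).app U).hom.comp ψ.toRingHom = e.toRingHom.comp (frobenius Ag p) := by
    refine IsLocalization.ringHom_ext (Submonoid.powers g) (RingHom.ext fun a => ?_)
    show (Spec.map F).app U (ψ (algebraMap A Ag a)) = ρ (ψ (algebraMap A Ag a ^ p))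
    rw [← map_pow, ψ.commutes, ψ.commutes]
    exact (happ a).trans (hρres _).symm
  refine Quiet5.isRootTower_of_monomial_basis p (Fact.out : p.Prime).ne_zero P.dimension R B
    (fun i => ψ (φ (MvPolynomial.X i))) (fun i => e (φ (MvPolynomial.X i)))
    (fun i => ?_) ?_
  · rw [← map_pow]
    exact (RingHom.congr_fun he _).symm
  · have hψ : Function.Bijective fun (c : (Fin P.dimension → Fin p) → Ag) i => ψ (c i) :=
      Function.Bijective.piMap fun _ => ψ.bijective
    refine (Function.Bijective.of_comp_iff _ hψ).1 ?_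
    refine (iff_of_eq (congrArg Function.Bijective ?_)).2 (e.bijective.comp hb)
    funext c
    simp only [Function.comp_apply, map_sum, map_mul, map_prod, map_pow]
    refine Finset.sum_congr rfl fun j _ => ?_
    refine congrArg (· * _) ((RingHom.congr_fun he (c j)).trans ?_)
    show e (c j ^ p) = e (c j) ^ p
    exact map_pow e _ p

end Groth.Agent.S15046
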