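import Groth.Statements.S15049
import Mathlib
import Groth.Agent.CommAlg4.LubinTateLib

set_option linter.all false

set_option autoImplicit false
universe u
open LubinTate

open Groth.Agent.CommAlg4

namespace Groth.Agent.S15049

/-- Let O be a discrete valuation ring with finite residue field of cardinality q, π a uniformizer of O,
and f = πT + T^q ∈ O[[T]]. Then there is a one-dimensional commutative formal group law F(X,Y) over
O for which f is an endomorphism, f(F(X,Y)) = F(f(X), f(Y)); and F is the unique power series in
O[[X,Y]] with zero constant term and linear part X + Y satisfying this identity. (The published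
statement is for the ring of integers of a finite extension of ℚ_p or of 𝔽_q((X)); completeness is
not used and any discrete valuation ring with finite residue field is allowed here.) -/
theorem result (O : Type u) [CommRing O] [IsDomain O] [IsDiscreteValuationRing O]
    [Finite (IsLocalRing.ResidueField O)] (π : O) (hπ : Irreducible π) (f : PowerSeries O)
    (hf : f = π • PowerSeries.X + PowerSeries.X ^ Nat.card (IsLocalRing.ResidueField O)) :
    ∃ F : FormalGroup O, F.IsComm ∧
      PowerSeries.subst F.toPowerSeries f =
        MvPowerSeries.subst (fun i : Fin 2 => PowerSeries.subst (MvPowerSeries.X i : MvPowerSeries (Fin 2) O) f) F.toPowerSeries ∧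
      ∀ G : MvPowerSeries (Fin 2) O, G.constantCoeff = 0 → G.coeff (Finsupp.single 0 1) = 1 →
        G.coeff (Finsupp.single 1 1) = 1 →
        PowerSeries.subst G f =
        MvPowerSeries.subst (fun i : Fin 2 => PowerSeries.subst (MvPowerSeries.X i : MvPowerSeries (Fin 2) O) f) G →
        G = F.toPowerSeries := by
  classical
  set q := Nat.card (IsLocalRing.ResidueField O) with hqdef
  have hq : 2 ≤ q := LT.two_le_card
  have hne : ∀ m, 2 ≤ m → π - π ^ m ≠ 0 := fun m hm => LT.pow_ne_self hπ hm
  obtain ⟨φ, hφ, hlin⟩ := LT.exists_sol (σ := Fin 2) hq (LT.dvd_defect hπ) (fun _ => (1 : O))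
  have hcomp : ∀ {τ : Type} [Finite τ] {a b : MvPowerSeries τ O}, LT.Sol π 1 q a → LT.Sol π 1 q b →
      LT.Sol π 1 q (MvPowerSeries.subst ![a, b] φ) := by
    intro τ _ a b ha hb
    refine hφ.comp (by omega) fun s => ?_
    fin_cases s <;> assumption
  have hco : ∀ {τ : Type} {a b : MvPowerSeries τ O} (ha : a.constantCoeff = 0) (hb : b.constantCoeff = 0) (j : τ),
      (MvPowerSeries.subst ![a, b] φ).coeff (Finsupp.single j 1) =
        a.coeff (Finsupp.single j 1) + b.coeff (Finsupp.single j 1) := by
    intro τ a b ha hb j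
    rw [LT.coeff_single_subst (fun s => by fin_cases s <;> assumption) hφ.constant, Fin.sum_univ_two]
    simp [hlin]
  have hX : ∀ {τ : Type} [Finite τ] (i : τ), LT.Sol π 1 q (MvPowerSeries.X i : MvPowerSeries τ O) :=
    fun i => LT.sol_X (by omega) i
  refine ⟨⟨φ, hφ.constant, hlin 0, hlin 1, ?_⟩, ⟨?_⟩, ((LT.sol_iff hf).mp hφ).2, fun G h0 h1 h2 hG => ?_⟩
  · refine LT.ext_of_defect hq hne (hcomp (hcomp (hX _) (hX _)) (hX _)) (hcomp (hX _) (hcomp (hX _) (hX _))) fun j => ?_
    rw [hco (hcomp (hX _) (hX _)).constant (MvPowerSeries.constantCoeff_X _), hco (MvPowerSeries.constantCoeff_X _) (MvPowerSeries.constantCoeff_X _),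
      hco (MvPowerSeries.constantCoeff_X _) (hcomp (hX _) (hX _)).constant, hco (MvPowerSeries.constantCoeff_X _) (MvPowerSeries.constantCoeff_X _)]
    abel
  · refine LT.ext_of_defect hq hne hφ (hcomp (hX _) (hX _)) fun j => ?_
    rw [hco (MvPowerSeries.constantCoeff_X _) (MvPowerSeries.constantCoeff_X _), hlin, MvPowerSeries.coeff_index_single_X, MvPowerSeries.coeff_index_single_X]
    fin_cases j <;> simp
  · refine LT.ext_of_defect hq hne ((LT.sol_iff hf).mpr ⟨h0, hG⟩) hφ fun j => ?_
    rw [hlin]
    fin_cases j
    · exact h1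
    · exact h2

end Groth.Agent.S15049
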