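import Groth.Statements.S15051
import Mathlib
import Groth.Agent.CommAlg4.LubinTateLib

set_option linter.all false

set_option autoImplicit false
universe u
open LubinTate

open Groth.Agent.CommAlg4

namespace Groth.Agent.S15051

/-- Let O be a discrete valuation ring with finite residue field of cardinality q, π a uniformizer of O,
and f = πT + T^q ∈ O[[T]]; let F be a one-dimensional formal group law over O for which f is an
endomorphism, f(F(X,Y)) = F(f(X), f(Y)), and g ∈ O[[T]] a power series with zero constant term which
commutes with f, g(f(T)) = f(g(T)). Then g is an endomorphism of F, that is g(F(X,Y)) = F(g(X),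
g(Y)); so α ↦ [α] maps O into the endomorphisms of the Lubin–Tate formal group. (The published
statement is for the ring of integers of a finite extension of ℚ_p or of 𝔽_q((X)); completeness is
not used and any discrete valuation ring with finite residue field is allowed here.) -/
theorem result (O : Type u) [CommRing O] [IsDomain O] [IsDiscreteValuationRing O]
    [Finite (IsLocalRing.ResidueField O)] (π : O) (hπ : Irreducible π) (f : PowerSeries O)
    (hf : f = π • PowerSeries.X + PowerSeries.X ^ Nat.card (IsLocalRing.ResidueField O))
    (F : FormalGroup O)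
    (hF : PowerSeries.subst F.toPowerSeries f =
        MvPowerSeries.subst (fun i : Fin 2 => PowerSeries.subst (MvPowerSeries.X i : MvPowerSeries (Fin 2) O) f) F.toPowerSeries)
    (g : PowerSeries O) (hg0 : g.constantCoeff = 0)
    (hgf : PowerSeries.subst g f = PowerSeries.subst f g) :
    PowerSeries.subst F.toPowerSeries g =
      MvPowerSeries.subst (fun i : Fin 2 => PowerSeries.subst (MvPowerSeries.X i : MvPowerSeries (Fin 2) O) g)
        F.toPowerSeries := by
  classical
  set q := Nat.card (IsLocalRing.ResidueField O) with hqdef
  have hq : 2 ≤ q := LT.two_le_card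
  have hφ : LT.Sol π 1 q F.toPowerSeries := (LT.sol_iff hf).mpr ⟨F.zero_constantCoeff, hF⟩
  have hg : LT.Sol π 1 q g := (LT.sol_iff_unit hf).mpr ⟨hg0, hgf⟩
  have hgX : ∀ i : Fin 2, LT.Sol π 1 q (PowerSeries.subst (MvPowerSeries.X i : MvPowerSeries (Fin 2) O) g) :=
    fun i => hg.comp (by omega) (b := fun _ => MvPowerSeries.X i) fun _ => LT.sol_X (by omega) i
  refine LT.ext_of_defect hq (fun m hm => LT.pow_ne_self hπ hm)
    (hg.comp (by omega) (b := fun _ => F.toPowerSeries) fun _ => hφ) (hφ.comp (by omega) hgX) fun j => ?_
  rw [show PowerSeries.subst F.toPowerSeries g = MvPowerSeries.subst (fun _ : Unit => F.toPowerSeries) g from rfl,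
    LT.coeff_single_subst (fun _ => F.zero_constantCoeff) hg0, LT.coeff_single_subst (fun i => (hgX i).constant) F.zero_constantCoeff,
    Fintype.sum_unique, Fin.sum_univ_two, F.lin_coeff_X, F.lin_coeff_Y]
  simp only [PowerSeries.subst]
  rw [LT.coeff_single_subst (fun _ => MvPowerSeries.constantCoeff_X _) hg0, LT.coeff_single_subst (fun _ => MvPowerSeries.constantCoeff_X _) hg0]
  simp only [Fintype.sum_unique, MvPowerSeries.coeff_index_single_X]
  fin_cases j <;> simp [F.lin_coeff_X, F.lin_coeff_Y]

end Groth.Agent.S15051
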