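import Groth.Statements.S15052
import Mathlib
import Groth.Agent.CommAlg4.LubinTateLib

set_option linter.all false

set_option autoImplicit false
universe u
open LubinTate

open Groth.Agent.CommAlg4

namespace Groth.Agent.S15052

/-- Let O be a discrete valuation ring with finite residue field of cardinality q, π a uniformizer of O,
and f = πT + T^q ∈ O[[T]]; let K be the fraction field of O and F a one-dimensional formal group law
over O for which f is an endomorphism, f(F(X,Y)) = F(f(X), f(Y)). Then there is a unique power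
series ℓ ∈ K[[T]] with zero constant term and linear coefficient 1 such that ℓ(f(T)) = π·ℓ(T); this
logarithm is a homomorphism to the additive formal group, ℓ(F(T,S)) = ℓ(T) + ℓ(S), and it is
O-linear in the sense that ℓ(g(T)) = α·ℓ(T) for every α ∈ O and every series g ∈ O[[T]] with zero
constant term and linear coefficient α commuting with f. (The published statement is for the ring of
integers of a finite extension of ℚ_p; completeness is not used and any discrete valuation ring with
finite residue field is allowed here.) -/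
theorem result (O : Type u) [CommRing O] [IsDomain O] [IsDiscreteValuationRing O]
    [Finite (IsLocalRing.ResidueField O)] (K : Type u) [Field K] [Algebra O K] [IsFractionRing O K]
    (π : O) (hπ : Irreducible π) (f : PowerSeries O)
    (hf : f = π • PowerSeries.X + PowerSeries.X ^ Nat.card (IsLocalRing.ResidueField O))
    (F : FormalGroup O)
    (hF : PowerSeries.subst F.toPowerSeries f =
        MvPowerSeries.subst (fun i : Fin 2 => PowerSeries.subst (MvPowerSeries.X i : MvPowerSeries (Fin 2) O) f) F.toPowerSeries) :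
    ∃ ℓ : PowerSeries K, (ℓ.constantCoeff = 0 ∧ ℓ.coeff 1 = 1 ∧
      PowerSeries.subst (PowerSeries.map (algebraMap O K) f) ℓ = algebraMap O K π • ℓ) ∧
      (∀ ℓ' : PowerSeries K, ℓ'.constantCoeff = 0 → ℓ'.coeff 1 = 1 →
        PowerSeries.subst (PowerSeries.map (algebraMap O K) f) ℓ' = algebraMap O K π • ℓ' → ℓ' = ℓ) ∧
      PowerSeries.subst ((F.toPowerSeries).map (algebraMap O K)) ℓ =
        PowerSeries.subst (MvPowerSeries.X (0 : Fin 2) : MvPowerSeries (Fin 2) K) ℓ +
          PowerSeries.subst (MvPowerSeries.X (1 : Fin 2) : MvPowerSeries (Fin 2) K) ℓ ∧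
      (∀ (α : O) (g : PowerSeries O), g.constantCoeff = 0 → g.coeff 1 = α →
        PowerSeries.subst g f = PowerSeries.subst f g →
        PowerSeries.subst (PowerSeries.map (algebraMap O K) g) ℓ = algebraMap O K α • ℓ) := by
  classical
  set q := Nat.card (IsLocalRing.ResidueField O) with hqdef
  have hq : 2 ≤ q := LT.two_le_card
  set c := algebraMap O K π with hc
  have hne : ∀ m, 2 ≤ m → c - c ^ m ≠ 0 := fun m hm h => LT.pow_ne_self hπ hm
    (IsFractionRing.injective O K (by rw [map_sub, map_pow, map_zero]; exact h))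
  have hfK : PowerSeries.map (algebraMap O K) f = c • PowerSeries.X + PowerSeries.X ^ q := by
    rw [hf, map_add, PowerSeries.smul_eq_C_mul, PowerSeries.smul_eq_C_mul, map_mul, map_pow, PowerSeries.map_C, PowerSeries.map_X]
  rw [hfK]
  obtain ⟨ℓ, hℓ, hlin⟩ := LT.exists_sol (σ := Unit) (π := c) (ε := (0 : K)) hq
    (fun ψ _ d hd => (IsUnit.mk0 _ (hne _ hd)).dvd) (fun _ => 1)
  have h1 : PowerSeries.coeff 1 ℓ = 1 := hlin ()
  have h1' : ∀ s : Unit, MvPowerSeries.coeff (Finsupp.single s 1) ℓ = 1 := hlin
  refine ⟨ℓ, ⟨hℓ.constant, h1, (LT.sol_zero_iff_unit.mp hℓ).2⟩, fun ℓ' a b e => ?_, ?_, fun α g g0 g1 gf => ?_⟩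
  · exact LT.ext_of_defect hq hne (LT.sol_zero_iff_unit.mpr ⟨a, e⟩) hℓ fun i => b.trans (hlin i).symm
  · have hφ : LT.Sol c 1 q ((F.toPowerSeries).map (algebraMap O K)) := by
      have := ((LT.sol_iff hf).mpr ⟨F.zero_constantCoeff, hF⟩).map (by omega) (algebraMap O K)
      rwa [map_one] at this
    refine LT.ext_of_defect hq hne (hℓ.comp (by omega) (b := fun _ => _) fun _ => hφ)
      (LT.Sol.add (by omega) (hℓ.comp (by omega) (b := fun _ => MvPowerSeries.X (0 : Fin 2)) fun _ => LT.sol_X (by omega) _)
        (hℓ.comp (by omega) (b := fun _ => MvPowerSeries.X (1 : Fin 2)) fun _ => LT.sol_X (by omega) _)) fun j => ?_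
    simp only [PowerSeries.subst, map_add]
    rw [LT.coeff_single_subst (fun _ => hφ.constant) hℓ.constant,
      LT.coeff_single_subst (fun _ => MvPowerSeries.constantCoeff_X _) hℓ.constant,
      LT.coeff_single_subst (fun _ => MvPowerSeries.constantCoeff_X _) hℓ.constant]
    simp only [Fintype.sum_unique, h1', one_mul, MvPowerSeries.coeff_map, MvPowerSeries.coeff_index_single_X]
    fin_cases j <;> simp [F.lin_coeff_X, F.lin_coeff_Y]
  · have hg : LT.Sol c 1 q (PowerSeries.map (algebraMap O K) g) := by
      have := ((LT.sol_iff_unit hf).mpr ⟨g0, gf⟩).map (by omega) (algebraMap O K)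
      rwa [map_one] at this
    refine LT.ext_of_defect hq hne (hℓ.comp (by omega) (b := fun _ => _) fun _ => hg) (LT.Sol.smul (by omega) _ hℓ) fun j => ?_
    rw [show PowerSeries.subst (PowerSeries.map (algebraMap O K) g) ℓ =
        MvPowerSeries.subst (fun _ : Unit => PowerSeries.map (algebraMap O K) g) ℓ from rfl,
      LT.coeff_single_subst (fun _ => hg.constant) hℓ.constant, Fintype.sum_unique, h1', one_mul]
    show MvPowerSeries.coeff (Finsupp.single j 1) (PowerSeries.map (algebraMap O K) g) = MvPowerSeries.coeff (Finsupp.single j 1) (algebraMap O K α • ℓ)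
    rw [MvPowerSeries.coeff_smul, h1' j, mul_one, ← g1]
    exact PowerSeries.coeff_map _ 1 g

end Groth.Agent.S15052
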