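import Groth.Statements.S15054
open CategoryTheory CategoryTheory.Limits AlgebraicGeometry

set_option autoImplicit false
universe u
open CategoryTheory CategoryTheory.Limits MonoidalCategory CartesianMonoidalCategory MonObj GrpObj AlgebraicGeometry
open BTGrp

namespace Groth.Agent.S15054

open MonoidalCategory CartesianMonoidalCategory in
lemma isKernel_of {S : Scheme.{u}} {N G Q : Over S} [GrpObj Q] (i : N ⟶ G) (q : G ⟶ Q) (hiq : i ≫ q = 1)
    (H : ∀ (T : Over S) (x : T ⟶ G), x ≫ q = 1 → ∃! y : T ⟶ N, y ≫ i = x) : AlgGrp.IsKernel i q := by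
  have hc : ∀ s : PullbackCone q η[Q], s.fst ≫ q = 1 := fun s =>
    s.condition.trans (by rw [toUnit_unique s.snd (toUnit _)]; rfl)
  refine ⟨⟨hiq⟩, ⟨PullbackCone.IsLimit.mk _ (fun s => (H s.pt s.fst (hc s)).choose) (fun s => ?_) (fun s => toUnit_unique _ _) ?_⟩⟩
  · exact (H s.pt s.fst (hc s)).choose_spec.1
  · intro s m h1 _
    exact (H s.pt s.fst (hc s)).choose_spec.2 m h1

open MonoidalCategory CartesianMonoidalCategory in
lemma kernel_univ {S : Scheme.{u}} {N G Q : Over S} [GrpObj Q] (i : N ⟶ G) (q : G ⟶ Q) (h : AlgGrp.IsKernel i q) :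
    i ≫ q = 1 ∧ ∀ (T : Over S) (x : T ⟶ G), x ≫ q = 1 → ∃! y : T ⟶ N, y ≫ i = x := by
  refine ⟨h.w, fun T x hx => ⟨h.lift x (toUnit T) hx, h.lift_fst _ _ _, fun y hy => ?_⟩⟩
  exact h.hom_ext (hy.trans (h.lift_fst _ _ _).symm) (toUnit_unique _ _)


/-- Let ℓ be a prime and G = (G_ν)_ν an ℓ-divisible (Barsotti–Tate) group of height h over a scheme S,
given as the system of its finite locally free layers G_ν of order ℓ^{νh} with inclusions G_ν →
G_{ν+1} exhibiting G_ν as the ℓ^ν-torsion of G_{ν+1} and projections G_{ν+1} → G_ν (multiplication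
by ℓ). Let i_t : G_1 → G_{t+1} denote the iterated inclusions, pinned by i_0 = id and i_{t+1} = i_t
followed by G_{t+1} → G_{t+2}. Then for every t, i_t identifies G_1 with the kernel of
multiplication by ℓ on G_{t+1}: the ℓ-torsion of every layer is the first layer. (The published
statement identifies G_v with the ℓ^v-torsion of G_{v+t} for all v; this row is its case v = 1. The
published base is the spectrum of a Noetherian ring; the argument is formal and any base scheme is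
allowed here.) -/
theorem result {S : Scheme.{u}} (ℓ h : ℕ) [Fact ℓ.Prime] (G : BTGrp.ProBT ℓ S h)
    (i : (t : ℕ) → (G.G 1 ⟶ G.G (t + 1))) (hi0 : i 0 = 𝟙 (G.G 1))
    (hi : ∀ t : ℕ, i (t + 1) = i t ≫ G.incl (t + 1)) (t : ℕ) :
    AlgGrp.IsKernel (i t) ((𝟙 (G.G (t + 1))) ^ ℓ) := by
  have hk : ∀ ν, G.incl ν ≫ (𝟙 (G.G (ν + 1))) ^ (ℓ ^ ν) = 1 ∧ ∀ (T : Over S) (x : T ⟶ G.G (ν + 1)),
      x ≫ (𝟙 (G.G (ν + 1))) ^ (ℓ ^ ν) = 1 → ∃! y : T ⟶ G.G ν, y ≫ G.incl ν = x :=
    fun ν => kernel_univ _ _ (G.isKernel ν)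
  have hcomp : ∀ {T : Over S} (ν : ℕ) (x : T ⟶ G.G ν) (m : ℕ), x ≫ (𝟙 (G.G ν)) ^ m = x ^ m := fun ν x m => by
    rw [MonObj.comp_pow, Category.comp_id]
  -- multiplication by `ℓ` kills `G 1`
  have h1 : (𝟙 (G.G 1)) ^ ℓ = (1 : G.G 1 ⟶ G.G 1) := by
    have h0 := (hk 0).1
    rw [pow_zero, pow_one, Category.comp_id] at h0
    rw [← G.proj_incl 0, h0, MonObj.comp_one]
  induction t with
  | zero =>
    rw [hi0]
    refine isKernel_of _ _ (by rw [Category.id_comp]; exact h1) fun T x _ => ⟨x, Category.comp_id x, fun y hy => ?_⟩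
    exact (Category.comp_id y).symm.trans hy
  | succ t IH =>
    obtain ⟨ih0, ih⟩ := kernel_univ _ _ IH
    rw [hi t]
    refine isKernel_of _ _ ?_ fun T x hx => ?_
    · rw [hcomp, ← MonObj.pow_comp, ← hcomp, ih0, MonObj.one_comp]
    · have hx' : x ≫ (𝟙 (G.G (t + 1 + 1))) ^ (ℓ ^ (t + 1)) = 1 := by
        rw [hcomp] at hx ⊢
        rw [pow_succ', pow_mul, hx, one_pow]
      obtain ⟨y, hy, hyu⟩ := (hk (t + 1)).2 T x hx'
      have hyl : y ≫ (𝟙 (G.G (t + 1))) ^ ℓ = 1 := by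
        rw [hcomp]
        refine ((hk (t + 1)).2 T 1 (by rw [hcomp, one_pow])).unique ?_ (MonObj.one_comp _)
        rw [MonObj.pow_comp, hy, ← hcomp, hx]
      obtain ⟨z, hz, hzu⟩ := ih T y hyl
      refine ⟨z, (Category.assoc _ _ _).symm.trans ((congrArg (· ≫ G.incl (t + 1)) hz).trans hy), fun w hw => hzu w (hyu _ ?_)⟩
      exact (Category.assoc _ _ _).trans hw

end Groth.Agent.S15054
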