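import Groth.Statements.S15055
import Groth.Agent.BTH3.Main
import Groth.Agent.S15054

set_option autoImplicit false
universe u
open CategoryTheory CategoryTheory.Limits MonoidalCategory CartesianMonoidalCategory MonObj GrpObj AlgebraicGeometry
open BTGrp

namespace Groth.Agent.S15055

/-- Let R be a Noetherian ring, ℓ a prime and G = (G_ν)_ν an ℓ-divisible (Barsotti–Tate) group of height
h over Spec R, given as the system of its finite locally free layers G_ν of order ℓ^{νh} with
inclusions exhibiting G_ν as the ℓ^ν-torsion of G_{ν+1} and projections j_t : G_{t+1} → G_t through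
which multiplication by ℓ on G_{t+1} factors. Let i_t : G_1 → G_{t+1} be the iterated inclusions
(i_0 = id, i_{t+1} = i_t followed by G_{t+1} → G_{t+2}). Then for every t the sequence 1 → G_1 →
G_{t+1} → G_t → 1 is exact: i_t is the kernel of j_t, and j_t is finite locally free of degree ℓ^h
and surjective; in particular multiplication by ℓ is an epimorphism of fppf sheaves on the
ℓ-divisible group, with kernel of order ℓ^h. (The published statement treats the sequence 0 → G_v →
G_{v+t} → G_t → 0 for every v; this row is its case v = 1, combined with the consequence, stated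
separately in the text, that multiplication by ℓ on the ℓ-divisible group is finite locally free of
degree ℓ^h and surjective.) -/
theorem result (R : Type u) [CommRing R] [IsNoetherianRing R] (ℓ h : ℕ)
    [Fact ℓ.Prime] (G : BTGrp.ProBT ℓ (Spec (CommRingCat.of R)) h)
    (i : (t : ℕ) → (G.G 1 ⟶ G.G (t + 1))) (hi0 : i 0 = 𝟙 (G.G 1))
    (hi : ∀ t : ℕ, i (t + 1) = i t ≫ G.incl (t + 1)) (t : ℕ) :
    AlgGrp.IsKernel (i t) (G.proj t) ∧ Mor2.IsFinLocFreeOfDeg (ℓ ^ h) (G.proj t).left ∧
      Surjective (G.proj t).left := by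
  have hl : ℓ ≠ 0 := (Fact.out : ℓ.Prime).ne_zero
  obtain ⟨hiso⟩ : Nonempty (IsIso (G.G 0).hom) := by
    obtain ⟨⟨h1, h2, h3⟩, hd⟩ := G.finLocFree 0
    exact ⟨(Scheme.Hom.isIso_iff_finrank_eq (G.G 0).hom).2 (funext fun s => by rw [hd]; simp)⟩
  have htriv : ∀ {T : Over (Spec (CommRingCat.of R))} (x : T ⟶ G.G 0), x = 1 := fun x => by
    haveI := hiso
    exact Over.OverMorphism.ext ((cancel_mono (G.G 0).hom).1 (by rw [Over.w, Over.w]))
  have hk : AlgGrp.IsKernel (i t) (G.proj t) := by
    have hℓ := Groth.Agent.S15054.result ℓ h G i hi0 hi t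
    haveI : Mono (i t) := Groth.Agent.AlgGrpLib.kernel_mono hℓ
    have h0 : i t ≫ (𝟙 (G.G (t + 1))) ^ ℓ = 1 := hℓ.w.trans (by rw [MonObj.one_eq_one, MonObj.comp_one])
    haveI : Mono (G.incl t) := Groth.Agent.AlgGrpLib.kernel_mono (G.isKernel t)
    refine Groth.Agent.AlgGrpLib.isKernel_of_points _ _ ?_ fun T g hg => ?_
    · rw [← cancel_mono (G.incl t), Category.assoc, G.proj_incl, h0, MonObj.one_comp]
    · refine Groth.Agent.AlgGrpLib.exists_lift_kernel hℓ ?_
      rw [← G.proj_incl, reassoc_of% hg, MonObj.one_comp]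
  refine ⟨hk, Groth.Agent.BTH3.isFinLocFreeOfDeg_of_kernel (G.proj t) (i t) hk (a := ℓ ^ h)
    (by simpa using G.finLocFree 1) (G.finLocFree (t + 1)) (G.finLocFree t) ?_ (pow_pos (Nat.pos_of_ne_zero hl) _)⟩
  rw [← pow_add]
  congr 1
  ring

end Groth.Agent.S15055
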