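import Groth.Statements.S15058
import Mathlib
import Groth.Prelude

set_option linter.all false

set_option autoImplicit false
universe u
open FmlGrp

open MvPowerSeries Finsupp

set_option backward.isDefEq.respectTransparency.types false

namespace Groth.Agent.S15058

section
variable {R : Type u} [CommRing R] (F : FormalGroup R)

noncomputable def sX (h : PowerSeries R) : PowerSeries R := F.toPowerSeries.subst ![PowerSeries.X, h]

theorem hasSubst_pair {h : PowerSeries R} (hh : h.constantCoeff = 0) :
    MvPowerSeries.HasSubst (![PowerSeries.X, h] : Fin 2 → PowerSeries R) := by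
  refine hasSubst_of_constantCoeff_zero fun s => ?_
  fin_cases s
  · exact PowerSeries.constantCoeff_X
  · exact hh

theorem hs {h : PowerSeries R} (hh : h.constantCoeff = 0) : PowerSeries.HasSubst h :=
  PowerSeries.HasSubst.of_constantCoeff_zero' hh

theorem sX_const {h : PowerSeries R} (hh : h.constantCoeff = 0) : (sX F h).constantCoeff = 0 := by
  exact MvPowerSeries.constantCoeff_subst_eq_zero (hasSubst_pair hh)
    (fun s => by fin_cases s; exacts [PowerSeries.constantCoeff_X, hh]) F.zero_constantCoeff

theorem sX_congr {h h' : PowerSeries R} (hh : h.constantCoeff = 0) (hh' : h'.constantCoeff = 0) (n : ℕ)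
    (hn : (PowerSeries.X : PowerSeries R) ^ n ∣ h - h') :
    (PowerSeries.X : PowerSeries R) ^ (n + 1) ∣ (sX F h - sX F h') - (h - h') := by
  rw [PowerSeries.X_pow_dvd_iff]
  intro m hm
  have e : ∀ k : PowerSeries R, k.constantCoeff = 0 → PowerSeries.coeff m (sX F k) =
      ∑ᶠ d : Fin 2 →₀ ℕ, MvPowerSeries.coeff d F.toPowerSeries • PowerSeries.coeff m (PowerSeries.X ^ (d 0) * k ^ (d 1)) := by
    intro k hk
    rw [sX, PowerSeries.coeff, MvPowerSeries.coeff_subst (hasSubst_pair hk)]
    refine finsum_congr fun d => ?_
    rw [Finsupp.prod_fintype _ _ (fun i => pow_zero _), Fin.prod_univ_two]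
    rfl
  have fin : ∀ k : PowerSeries R, k.constantCoeff = 0 → (Function.support fun d : Fin 2 →₀ ℕ =>
      MvPowerSeries.coeff d F.toPowerSeries • PowerSeries.coeff m (PowerSeries.X ^ (d 0) * k ^ (d 1))).Finite := by
    intro k hk
    have := MvPowerSeries.coeff_subst_finite (hasSubst_pair hk) F.toPowerSeries (Finsupp.single () m)
    refine this.subset fun d hd => ?_
    simpa [Finsupp.prod_fintype, Fin.prod_univ_two, PowerSeries.coeff] using hd
  rw [map_sub, map_sub, map_sub, e h hh, e h' hh', ← finsum_sub_distrib (fin h hh) (fin h' hh'),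
    finsum_eq_single _ (Finsupp.single 1 1)]
  · simp [F.lin_coeff_Y]
  · intro d hd
    rw [← smul_sub, ← map_sub, ← mul_sub]
    rcases Nat.eq_zero_or_pos (d 1) with h1 | h1
    · simp [h1]
    rcases Nat.eq_zero_or_pos (d 0 + (d 1 - 1)) with h0 | h0
    · exfalso; apply hd; ext i; fin_cases i <;> simp <;> omega
    have hdvd : (PowerSeries.X : PowerSeries R) ^ (n + 1) ∣ PowerSeries.X ^ (d 0) * (h ^ (d 1) - h' ^ (d 1)) := by
      obtain ⟨c, hc⟩ := hn
      rw [← geom_sum₂_mul h h' (d 1), hc]
      have hge : (PowerSeries.X : PowerSeries R) ^ (d 1 - 1) ∣ ∑ i ∈ Finset.range (d 1), h ^ i * h' ^ (d 1 - 1 - i) := by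
        refine Finset.dvd_sum fun i hi => ?_
        rw [Finset.mem_range] at hi
        rw [show d 1 - 1 = i + (d 1 - 1 - i) by omega, pow_add]
        rw [show i + (d 1 - 1 - i) - i = d 1 - 1 - i by omega]
        exact mul_dvd_mul (pow_dvd_pow_of_dvd (PowerSeries.X_dvd_iff.2 hh) _) (pow_dvd_pow_of_dvd (PowerSeries.X_dvd_iff.2 hh') _)
      obtain ⟨c', hc'⟩ := hge
      rw [hc']
      refine (pow_dvd_pow PowerSeries.X (show n + 1 ≤ d 0 + (n + (d 1 - 1)) by omega)).trans ⟨c * c', ?_⟩
      rw [pow_add, pow_add]
      ring
    rw [PowerSeries.X_pow_dvd_iff.1 hdvd m hm, smul_zero]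

noncomputable def approx : ℕ → PowerSeries R
  | 0 => 0
  | n + 1 => approx n - sX F (approx n)

theorem approx_const : ∀ n, (approx F n).constantCoeff = 0
  | 0 => by simp [approx]
  | n + 1 => by simp [approx, approx_const n, sX_const F (approx_const n)]

theorem approx_dvd : ∀ n, (PowerSeries.X : PowerSeries R) ^ (n + 1) ∣ sX F (approx F n)
  | 0 => by rw [pow_one, PowerSeries.X_dvd_iff]; exact sX_const F (approx_const F 0)
  | n + 1 => by
    have h := sX_congr F (approx_const F n) (approx_const F (n + 1)) (n + 1)
      (by rw [show approx F n - approx F (n + 1) = sX F (approx F n) by rw [approx]; ring]; exact approx_dvd n)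
    rw [show approx F n - approx F (n + 1) = sX F (approx F n) by rw [approx]; ring, sub_sub_cancel_left, dvd_neg] at h
    exact h

theorem exists_right_inv : ∃ g : PowerSeries R, g.constantCoeff = 0 ∧ sX F g = 0 := by
  have stab : ∀ n k, (PowerSeries.X : PowerSeries R) ^ (n + 1) ∣ approx F n - approx F (n + k) := by
    intro n k
    induction k with
    | zero => simp
    | succ k ih =>
      have : approx F n - approx F (n + (k + 1)) = (approx F n - approx F (n + k)) + sX F (approx F (n + k)) := by
        rw [← add_assoc n k 1, approx]; ring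
      rw [this]
      exact dvd_add ih ((pow_dvd_pow _ (by omega)).trans (approx_dvd F (n + k)))
  set g : PowerSeries R := PowerSeries.mk fun n => PowerSeries.coeff n (approx F n) with hg
  have hg0 : g.constantCoeff = 0 := by
    rw [← PowerSeries.coeff_zero_eq_constantCoeff_apply, hg, PowerSeries.coeff_mk, PowerSeries.coeff_zero_eq_constantCoeff_apply, approx_const]
  have hclose : ∀ n, (PowerSeries.X : PowerSeries R) ^ (n + 1) ∣ g - approx F n := by
    intro n
    rw [PowerSeries.X_pow_dvd_iff]
    intro m hm
    rw [map_sub, hg, PowerSeries.coeff_mk, sub_eq_zero]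
    have := PowerSeries.X_pow_dvd_iff.1 (stab m (n - m)) m (by omega)
    rw [map_sub, sub_eq_zero, Nat.add_sub_cancel' (by omega : m ≤ n)] at this
    exact this
  refine ⟨g, hg0, PowerSeries.ext fun n => ?_⟩
  have h1 := sX_congr F hg0 (approx_const F n) (n + 1) (hclose n)
  have h2 := dvd_add (dvd_add ((pow_dvd_pow _ (by omega : n + 1 ≤ n + 1 + 1)).trans h1) (hclose n)) (approx_dvd F n)
  rw [sub_add_cancel, sub_add_cancel] at h2
  rw [PowerSeries.X_pow_dvd_iff.1 h2 n (by omega), map_zero]

end

/-- Let R be a commutative ring and F(X,Y) ∈ R[[X,Y]] a one-dimensional formal group law (zero constant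
term, linear part X + Y, associative). Then there is a power series g(X) ∈ R[[X]] with zero constant
term which is a two-sided inverse for F, F(X, g(X)) = 0 = F(g(X), X), and it is unique: every power
series with zero constant term which is a right inverse or a left inverse equals g. (The published
text proves this for formal group laws of any finite dimension with coefficients in a complete
Noetherian local ring; the argument is a formal degree-by-degree construction, and this row states
the one-dimensional case over an arbitrary commutative ring.) -/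
theorem result (R : Type u) [CommRing R] (F : FormalGroup R) :
    ∃ g : PowerSeries R, g.constantCoeff = 0 ∧
      F.toPowerSeries.subst ![PowerSeries.X, g] = (0 : PowerSeries R) ∧
      F.toPowerSeries.subst ![g, PowerSeries.X] = (0 : PowerSeries R) ∧
      ∀ k : PowerSeries R, k.constantCoeff = 0 →
        (F.toPowerSeries.subst ![PowerSeries.X, k] = (0 : PowerSeries R) ∨
          F.toPowerSeries.subst ![k, PowerSeries.X] = (0 : PowerSeries R)) → k = g := by
  obtain ⟨g, hg0, hg⟩ := exists_right_inv F
  let pt : ∀ f : PowerSeries R, f.constantCoeff = 0 → F.Point Unit := fun f hf => ⟨f, hs hf⟩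
  let P := pt PowerSeries.X PowerSeries.constantCoeff_X
  let G := pt g hg0
  have hPG : P + G = 0 := Subtype.ext hg
  -- substitute `g` into the right inverse identity
  have hsub : F.toPowerSeries.subst ![g, PowerSeries.subst g g] = (0 : PowerSeries R) := by
    have h := congrArg (PowerSeries.subst g) hg
    rw [← PowerSeries.coe_substAlgHom (hs hg0), map_zero, PowerSeries.coe_substAlgHom (hs hg0)] at h
    rw [← h, sX]
    show _ = MvPowerSeries.subst (fun _ : Unit => g) (MvPowerSeries.subst ![PowerSeries.X, g] F.toPowerSeries)
    rw [MvPowerSeries.subst_comp_subst_apply (hasSubst_pair hg0) (hs hg0).const]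
    congr 1
    funext i
    fin_cases i
    · exact (PowerSeries.subst_X (hs hg0)).symm
    · rfl
  have hgg : (PowerSeries.subst g g).constantCoeff = 0 :=
    PowerSeries.constantCoeff_subst_eq_zero hg0 g hg0
  let H := pt _ hgg
  have hGH : G + H = 0 := Subtype.ext hsub
  have hHP : H = P := by
    calc H = (P + G) + H := by rw [hPG, zero_add]
      _ = P + (G + H) := add_assoc _ _ _
      _ = P := by rw [hGH, add_zero]
  have hGP : G + P = 0 := hHP ▸ hGH
  refine ⟨g, hg0, hg, congrArg Subtype.val hGP, fun k hk h => ?_⟩
  let K := pt k hk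
  have : K = G := by
    rcases h with h | h
    · have hPK : P + K = 0 := Subtype.ext h
      calc K = (G + P) + K := by rw [hGP, zero_add]
        _ = G + (P + K) := add_assoc _ _ _
        _ = G := by rw [hPK, add_zero]
    · have hKP : K + P = 0 := Subtype.ext h
      calc K = K + (P + G) := by rw [hPG, add_zero]
        _ = (K + P) + G := (add_assoc _ _ _).symm
        _ = G := by rw [hKP, zero_add]
  exact congrArg Subtype.val this

end Groth.Agent.S15058
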