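import Groth.Statements.S15059
import Groth.Agent.HopfQuot.FiniteQuotRank
import Mathlib.RingTheory.Artinian.Module

set_option autoImplicit false
universe u v
open scoped TensorProduct
open Hopf

namespace Groth.Agent.S15059
open Groth.Agent.HopfQuot TensorProduct

/-- Let R be a Noetherian ring, A a commutative Hopf algebra over R which is finitely generated and
projective as an R-module (a finite flat R-group G = Spec A) and I a Hopf ideal of A such that A/I
is projective over R (a finite flat closed subgroup G' = Spec (A/I) of G). Let B ⊆ A be the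
R-subalgebra of functions invariant under right translation by G', namely the equaliser of the two
algebra maps A → A ⊗_R (A/I) given by a ↦ (id ⊗ π)(Δ a) and a ↦ a ⊗ 1, so that the quotient G/G' is
Spec B and its rank is the index (G : G'). Then for every prime q of R the rank of A at q is the
rank of A/I at q times the rank of B at q: the order of G is the order of G' times the index. -/
theorem result (R : Type u) [CommRing R] [IsNoetherianRing R] (A : Type v) [CommRing A]
    [HopfAlgebra R A] [Module.Finite R A] [Module.Projective R A] (I : Ideal A) [I.IsHopfIdeal R]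
    [Module.Projective R (A ⧸ I)] (q : PrimeSpectrum R) :
    Module.rankAtStalk A q =
      Module.rankAtStalk (A ⧸ I) q *
        Module.rankAtStalk
          (↥(AlgHom.equalizer
            ((Algebra.TensorProduct.map (AlgHom.id R A) (Ideal.Quotient.mkₐ R I)).comp (Bialgebra.comulAlgHom R A))
            (Algebra.TensorProduct.includeLeft : A →ₐ[R] A ⊗[R] (A ⧸ I)))) q := by
  show Module.rankAtStalk A q = Module.rankAtStalk (A ⧸ I) q * Module.rankAtStalk ↥(FinQuot.inv R I) q
  haveI : Module.Finite R (A ⧸ I) :=
    Module.Finite.of_surjective (Ideal.Quotient.mkₐ R I).toLinearMap Ideal.Quotient.mk_surjective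
  haveI := FinQuot.faithfullyFlat (R := R) I
  haveI := FinQuot.finite (R := R) I
  haveI := FinQuot.finitePresentation_inv (R := R) I
  set B := FinQuot.inv R I
  haveI : Module.Finite R ↥B := Module.Finite.of_injective B.val.toLinearMap Subtype.val_injective
  haveI : Module.Flat R ↥B := by
    rw [Module.Flat.iff_lTensor_preserves_injective_linearMap]
    intro M N _ _ _ _ i hi
    let f : ↥B ⊗[R] M →ₗ[↥B] ↥B ⊗[R] N := AlgebraTensorModule.lTensor ↥B ↥B i
    suffices Function.Injective f from this
    apply (Module.FaithfullyFlat.lTensor_injective_iff_injective ↥B A f).mp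
    let eM := AlgebraTensorModule.cancelBaseChange R ↥B ↥B A M
    let eN := AlgebraTensorModule.cancelBaseChange R ↥B ↥B A N
    have key : ∀ z, eN (f.lTensor A z) = i.lTensor A (eM z) := fun z => by
      induction z using TensorProduct.induction_on with
      | zero => simp
      | add x y hx hy => simp only [map_add, hx, hy]
      | tmul a w =>
        induction w using TensorProduct.induction_on with
        | zero => simp
        | add x y hx hy => simp only [map_add, tmul_add, hx, hy]
        | tmul b m => simp [f, eM, eN]
    intro x y hxy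
    apply eM.injective
    apply Module.Flat.lTensor_preserves_injective_linearMap (M := A) i hi
    rw [← key, ← key, hxy]
  let K := q.asIdeal.ResidueField
  letI : Algebra K (↥B ⊗[R] K) := Algebra.TensorProduct.rightAlgebra
  let e0 : (↥B ⊗[R] K) ≃ₗ[K] (K ⊗[R] ↥B) :=
    (TensorProduct.comm R ↥B K).toAddEquiv.toLinearEquiv fun c z => by
      induction z using TensorProduct.induction_on with
      | zero => simp
      | add x y hx hy => rw [smul_add, map_add, map_add, hx, hy, smul_add]
      | tmul x y =>
        rw [Algebra.smul_def, Algebra.TensorProduct.right_algebraMap_apply, Algebra.TensorProduct.tmul_mul_tmul, one_mul]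
        simp [smul_tmul']
  haveI : Module.Finite K (↥B ⊗[R] K) := Module.Finite.equiv e0.symm
  haveI : IsArtinianRing (↥B ⊗[R] K) := IsArtinianRing.of_finite K _
  have hn : ∀ P : MaximalSpectrum (↥B ⊗[R] K),
      Module.finrank ((↥B ⊗[R] K) ⧸ P.1) (((↥B ⊗[R] K) ⧸ P.1) ⊗[↥B ⊗[R] K] ((↥B ⊗[R] K) ⊗[↥B] A)) =
        Module.rankAtStalk (A ⧸ I) q := fun P => by
    haveI := P.isMaximal
    refine (FinQuot.finrank_quot_tensor (M := (↥B ⊗[R] K) ⊗[↥B] A) P.1).trans ?_
    rw [ Module.rankAtStalk_baseChange, FinQuot.rankAtStalk_inv]
    congr 1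
    refine PrimeSpectrum.ext ?_
    have h1 : ((algebraMap ↥B (↥B ⊗[R] K)).comp (algebraMap R ↥B)) =
        (algebraMap K (↥B ⊗[R] K)).comp (algebraMap R K) := by
      rw [← IsScalarTower.algebraMap_eq, ← IsScalarTower.algebraMap_eq]
    show (P.1.comap (algebraMap ↥B (↥B ⊗[R] K))).comap (algebraMap R ↥B) = q.asIdeal
    rw [Ideal.comap_comap, h1, ← Ideal.comap_comap,
      (P.1.comap (algebraMap K (↥B ⊗[R] K))).eq_bot_or_top.resolve_right (Ideal.IsPrime.comap _).ne_top,
      ← RingHom.ker_eq_comap_bot, Ideal.ker_algebraMap_residueField]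
  obtain ⟨b⟩ := Module.nonempty_basis_of_flat_of_finrank_eq (↥B ⊗[R] K) ((↥B ⊗[R] K) ⊗[↥B] A) _ hn
  haveI : SMulCommClass ↥B K (↥B ⊗[R] K) :=
    ⟨fun b c z => by rw [Algebra.smul_def c, Algebra.smul_def c, mul_smul_comm]⟩
  haveI : IsScalarTower K (↥B ⊗[R] K) ((↥B ⊗[R] K) ⊗[↥B] A) := TensorProduct.isScalarTower_left
  haveI := Module.Free.of_basis b
  let E : ((↥B ⊗[R] K) ⊗[↥B] A) ≃+ (K ⊗[R] A) :=
    (TensorProduct.comm ↥B (↥B ⊗[R] K) A).toAddEquiv.trans
      ((AlgebraTensorModule.cancelBaseChange R ↥B ↥B A K).toAddEquiv.trans (TensorProduct.comm R A K).toAddEquiv)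
  let E' : ((↥B ⊗[R] K) ⊗[↥B] A) ≃ₗ[K] (K ⊗[R] A) :=
    { E with
      map_smul' := fun c z => by
        induction z using TensorProduct.induction_on with
        | zero => simp
        | add x y hx hy =>
          simp only [RingHom.id_apply] at hx hy ⊢
          simp only [smul_add, AddEquiv.toFun_eq_coe, map_add] at hx hy ⊢
          rw [hx, hy]
        | tmul w a =>
          induction w using TensorProduct.induction_on with
          | zero => simp
          | add x y hx hy =>
            simp only [RingHom.id_apply] at hx hy ⊢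
            simp only [add_tmul, smul_add, AddEquiv.toFun_eq_coe, map_add] at hx hy ⊢
            rw [hx, hy]
          | tmul b m =>
            simp [E, smul_tmul', Algebra.smul_def, Algebra.TensorProduct.right_algebraMap_apply,
              Algebra.TensorProduct.tmul_mul_tmul] }
  have e1 : Module.finrank K (↥B ⊗[R] K) = Module.rankAtStalk ↥B q := by
    rw [Module.rankAtStalk_eq]
    exact e0.finrank_eq
  rw [Module.rankAtStalk_eq (M := A)]
  refine (E'.finrank_eq.symm.trans ?_)
  rcases subsingleton_or_nontrivial (↥B ⊗[R] K) with hs | hs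
  · have h0 : Module.finrank K (↥B ⊗[R] K) = 0 := Module.finrank_zero_of_subsingleton
    rw [e1] at h0
    rw [h0, mul_zero]
    haveI : Subsingleton ((↥B ⊗[R] K) ⊗[↥B] A) := Module.subsingleton (↥B ⊗[R] K) _
    exact Module.finrank_zero_of_subsingleton
  · rw [← Module.finrank_mul_finrank K (↥B ⊗[R] K), e1, mul_comm, Module.finrank_eq_card_basis b, Fintype.card_fin]

end Groth.Agent.S15059
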