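import Groth.Statements.S15060
import Mathlib
import Groth.Agent.CommAlg4.LubinTateLib

set_option linter.all false

set_option autoImplicit false
universe u
open LubinTate

open Groth.Agent.CommAlg4

namespace Groth.Agent.S15060

/-- Let O be a discrete valuation ring with finite residue field of cardinality q, π a uniformizer of O,
f = πT + T^q ∈ O[[T]], and F a one-dimensional formal group law over O for which f is an
endomorphism, f(F(X,Y)) = F(f(X), f(Y)). For α ∈ O write [α] for a power series with zero constant
term and linear coefficient α commuting with f (it is unique). Then for all α, β ∈ O and all such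
series [α], [β], [αβ], [α+β] one has [α]([β](T)) = [αβ](T) and F([α](T), [β](T)) = [α+β](T): the map
α ↦ [α] is a ring homomorphism from O to the endomorphisms of F with their formal-group addition and
composition. (The published statement is for the ring of integers of a finite extension of ℚ_p or of
𝔽_q((X)); completeness is not used and any discrete valuation ring with finite residue field is
allowed here.) -/
theorem result (O : Type u) [CommRing O] [IsDomain O] [IsDiscreteValuationRing O]
    [Finite (IsLocalRing.ResidueField O)] (π : O) (hπ : Irreducible π) (f : PowerSeries O)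
    (hf : f = π • PowerSeries.X + PowerSeries.X ^ Nat.card (IsLocalRing.ResidueField O))
    (F : FormalGroup O)
    (hF : PowerSeries.subst F.toPowerSeries f =
        MvPowerSeries.subst (fun i : Fin 2 => PowerSeries.subst (MvPowerSeries.X i : MvPowerSeries (Fin 2) O) f)
          F.toPowerSeries)
    (α β : O) (gα gβ gαβ gs : PowerSeries O)
    (hα0 : gα.constantCoeff = 0) (hα1 : gα.coeff 1 = α) (hαf : PowerSeries.subst gα f = PowerSeries.subst f gα)
    (hβ0 : gβ.constantCoeff = 0) (hβ1 : gβ.coeff 1 = β) (hβf : PowerSeries.subst gβ f = PowerSeries.subst f gβ)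
    (hαβ0 : gαβ.constantCoeff = 0) (hαβ1 : gαβ.coeff 1 = α * β)
    (hαβf : PowerSeries.subst gαβ f = PowerSeries.subst f gαβ)
    (hs0 : gs.constantCoeff = 0) (hs1 : gs.coeff 1 = α + β) (hsf : PowerSeries.subst gs f = PowerSeries.subst f gs) :
    PowerSeries.subst gβ gα = gαβ ∧ F.toPowerSeries.subst ![gα, gβ] = gs := by
  classical
  set q := Nat.card (IsLocalRing.ResidueField O) with hqdef
  have hq : 2 ≤ q := LT.two_le_card
  have hne : ∀ m, 2 ≤ m → π - π ^ m ≠ 0 := fun m hm => LT.pow_ne_self hπ hm
  have hφ : LT.Sol π 1 q F.toPowerSeries := (LT.sol_iff hf).mpr ⟨F.zero_constantCoeff, hF⟩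
  have hA : LT.Sol π 1 q gα := (LT.sol_iff_unit hf).mpr ⟨hα0, hαf⟩
  have hB : LT.Sol π 1 q gβ := (LT.sol_iff_unit hf).mpr ⟨hβ0, hβf⟩
  constructor
  · refine LT.ext_of_defect hq hne (hA.comp (by omega) (b := fun _ => gβ) fun _ => hB)
      ((LT.sol_iff_unit hf).mpr ⟨hαβ0, hαβf⟩) fun j => ?_
    rw [show PowerSeries.subst gβ gα = MvPowerSeries.subst (fun _ : Unit => gβ) gα from rfl,
      LT.coeff_single_subst (fun _ => hβ0) hα0, Fintype.sum_unique]
    show gα.coeff 1 * gβ.coeff 1 = gαβ.coeff 1
    rw [hα1, hβ1, hαβ1]
  · have hb : ∀ s : Fin 2, LT.Sol π 1 q (![gα, gβ] s) := fun s => by fin_cases s <;> assumption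
    refine LT.ext_of_defect hq hne (hφ.comp (by omega) hb) ((LT.sol_iff_unit hf).mpr ⟨hs0, hsf⟩) fun j => ?_
    rw [LT.coeff_single_subst (fun s => (hb s).constant) F.zero_constantCoeff, Fin.sum_univ_two, F.lin_coeff_X, F.lin_coeff_Y,
      one_mul, one_mul]
    show gα.coeff 1 + gβ.coeff 1 = gs.coeff 1
    rw [hα1, hβ1, hs1]

end Groth.Agent.S15060
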