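import Groth.Statements.S15063
import Groth.Agent.HopfQuot.UnitComponent

set_option autoImplicit false
universe u
open Hopf

namespace Groth.Agent.S15063
open Groth.Agent.HopfQuot WithConv TensorProduct

/-- Let R be a henselian Noetherian local ring and A a commutative Hopf algebra over R which is finite
and flat as an R-module (a finite flat R-group G = Spec A, not assumed commutative); let e ∈ A be an
idempotent with ε(e) = 1 such that A/(1 − e) is a local ring, so that Spec A/(1 − e) is the
connected component G⁰ of G containing the unit section. Then G⁰ is normal in G: for every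
commutative R-algebra T, every T-valued point g of G and every T-valued point h of G killing the
ideal (1 − e), the conjugate g·h·g⁻¹ again kills (1 − e). (The published statement is for a flat
affine algebraic R-group and also asserts that G⁰ is an open and closed flat subgroup; this row
states the normality clause for finite flat G.) -/
theorem result (R : Type u) [CommRing R] [HenselianLocalRing R] [IsNoetherianRing R]
    (A : Type u) [CommRing A] [HopfAlgebra R A] [Module.Finite R A] [Module.Flat R A]
    (e : A) (he : IsIdempotentElem e) (hε : Bialgebra.counitAlgHom R A e = 1)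
    [IsLocalRing (A ⧸ Ideal.span ({1 - e} : Set A))] :
    SGA3.IsNormalHopfIdeal R A (Ideal.span ({1 - e} : Set A)) := by
  intro T _ _ g h hh a ha
  have conv3_eq : ∀ {C : Type u} [CommRing C] [Algebra R C] (f g h : A →ₐ[R] C),
      toConv (Dyn.conv3 R A f g h) = toConv f * toConv g * toConv h := by
    intro C _ _ f g h
    simp only [AlgHom.convMul_def, Dyn.conv3, WithConv.ofConv_toConv]
    congr 2
    rw [← AlgHom.comp_assoc, ← Algebra.TensorProduct.map_comp]
    rfl
  have nat : ∀ {C D : Type u} [CommRing C] [Algebra R C] [CommRing D] [Algebra R D] (φ : C →ₐ[R] D)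
      (f g h : A →ₐ[R] C),
      φ.comp (Dyn.conv3 R A f g h) = Dyn.conv3 R A (φ.comp f) (φ.comp g) (φ.comp h) := by
    intro C D _ _ _ _ φ f g h
    have e1 := conv3_eq (φ.comp f) (φ.comp g) (φ.comp h)
    have e2 := congrArg WithConv.ofConv (conv3_eq f g h)
    refine toConv_injective ?_
    rw [e1, show Dyn.conv3 R A f g h = _ from e2]
    refine ofConv_injective ?_
    simp [AlgHom.comp_convMul_distrib]
  let I := Ideal.span ({1 - e} : Set A)
  let h' : (A ⧸ I) →ₐ[R] T := Ideal.Quotient.liftₐ I h hh
  let G : A →ₐ[R] A ⊗[R] (A ⧸ I) := Algebra.TensorProduct.includeLeft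
  let H : A →ₐ[R] A ⊗[R] (A ⧸ I) := Algebra.TensorProduct.includeRight.comp (Ideal.Quotient.mkₐ R I)
  have hone : Dyn.conv3 R A G H (G.comp (HopfAlgebra.antipodeAlgHom R A)) e = 1 := by
    refine UnitComp.eq_one_right (UnitComp.counitQuot hε) (he.map _) ?_
    let φ := Algebra.TensorProduct.lift (AlgHom.id R A) ((Algebra.ofId R A).comp (UnitComp.counitQuot hε))
      (fun _ _ => .all ..)
    show (φ.comp (Dyn.conv3 R A G H (G.comp (HopfAlgebra.antipodeAlgHom R A)))) e = 1
    rw [nat]
    have eG : φ.comp G = AlgHom.id R A := AlgHom.ext fun x => by simp [φ, G]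
    have eH : φ.comp H = (Algebra.ofId R A).comp (Bialgebra.counitAlgHom R A) :=
      AlgHom.ext fun x => by simp [φ, H, I]
    rw [eH, ← AlgHom.comp_assoc, eG]
    have := congrArg WithConv.ofConv (conv3_eq (AlgHom.id R A) ((Algebra.ofId R A).comp (Bialgebra.counitAlgHom R A))
      ((AlgHom.id R A).comp (HopfAlgebra.antipodeAlgHom R A)))
    rw [show Dyn.conv3 R A (AlgHom.id R A) _ _ = _ from this]
    rw [← AlgHom.convOne_def, mul_one]
    have h1 : toConv (AlgHom.id R A) * toConv ((AlgHom.id R A).comp (HopfAlgebra.antipodeAlgHom R A)) = 1 :=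
      mul_inv_cancel (toConv (AlgHom.id R A))
    rw [h1, AlgHom.convOne_apply]
    show algebraMap R A (Bialgebra.counitAlgHom R A e) = 1
    rw [hε, map_one]
  let ψ : A ⊗[R] (A ⧸ I) →ₐ[R] T := Algebra.TensorProduct.lift g h' (fun _ _ => .all ..)
  have hψ : ψ.comp (Dyn.conv3 R A G H (G.comp (HopfAlgebra.antipodeAlgHom R A))) =
      Dyn.conv3 R A g h (g.comp (HopfAlgebra.antipodeAlgHom R A)) := by
    rw [nat]
    congr 1
    · exact AlgHom.ext fun x => by simp [ψ, G]
    · refine AlgHom.ext fun x => ?_
      show ψ ((1 : A) ⊗ₜ[R] Ideal.Quotient.mk I x) = h x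
      rw [Algebra.TensorProduct.lift_tmul, map_one, one_mul]
      exact Ideal.Quotient.lift_mk I _ _
    · exact AlgHom.ext fun x => by simp [ψ, G]
  obtain ⟨c, rfl⟩ := Ideal.mem_span_singleton'.1 ha
  rw [← hψ, AlgHom.comp_apply, map_mul, map_sub, map_one, hone, sub_self, mul_zero, map_zero]

end Groth.Agent.S15063
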