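import Groth.Statements.S15061
import Groth.Agent.HopfQuot.FiniteQuotNormal
import Groth.Agent.HopfQuot.SubHopfRing
import Groth.Agent.HopfQuot.UnitComponent
import Groth.Agent.FlatCrit.Inj
import Groth.Agent.S15063
import Mathlib.RingTheory.Finiteness.ModuleFinitePresentation

set_option autoImplicit false
universe u
open scoped TensorProduct
open Hopf

namespace Groth.Agent.S15061
open Groth.Agent Groth.Agent.HopfQuot

/-- Let R be a henselian Noetherian local ring and A a commutative Hopf algebra over R which is finite
and flat as an R-module (a finite flat R-group G = Spec A, not assumed commutative); let e ∈ A be an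
idempotent with ε(e) = 1 such that A/(1 − e) is a local ring, so that G⁰ = Spec A/(1 − e) is the
connected component of the unit section, and let B ⊆ A be the subalgebra of functions invariant
under right translation by G⁰: the equaliser of a ↦ (id ⊗ π)(Δ a) and a ↦ a ⊗ 1 into A ⊗_R A/(1 −
e). Then B is a sub-Hopf-algebra of A (comultiplication and antipode preserve it), B is finite étale
over R, A is faithfully flat over B, and the ideal of A generated by the elements of B killed by the
counit is exactly (1 − e). In other words G^ét := Spec B is a finite étale R-group, G → G^ét is a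
faithfully flat homomorphism, and its kernel is G⁰: the sequence 1 → G⁰ → G → G^ét → 1 is exact. -/
theorem result (R : Type u) [CommRing R] [HenselianLocalRing R] [IsNoetherianRing R]
    (A : Type u) [CommRing A] [HopfAlgebra R A] [Module.Finite R A] [Module.Flat R A]
    (e : A) (he : IsIdempotentElem e) (hε : Bialgebra.counitAlgHom R A e = 1)
    [IsLocalRing (A ⧸ Ideal.span ({1 - e} : Set A))] :
    SGA3.IsHopfSubalgebra R A
        (AlgHom.equalizer
          ((Algebra.TensorProduct.map (AlgHom.id R A) (Ideal.Quotient.mkₐ R (Ideal.span ({1 - e} : Set A)))).comp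
            (Bialgebra.comulAlgHom R A))
          (Algebra.TensorProduct.includeLeft : A →ₐ[R] A ⊗[R] (A ⧸ Ideal.span ({1 - e} : Set A)))) ∧
      Algebra.Etale R ↥(AlgHom.equalizer
          ((Algebra.TensorProduct.map (AlgHom.id R A) (Ideal.Quotient.mkₐ R (Ideal.span ({1 - e} : Set A)))).comp
            (Bialgebra.comulAlgHom R A))
          (Algebra.TensorProduct.includeLeft : A →ₐ[R] A ⊗[R] (A ⧸ Ideal.span ({1 - e} : Set A)))) ∧
      Module.FaithfullyFlat ↥(AlgHom.equalizer
          ((Algebra.TensorProduct.map (AlgHom.id R A) (Ideal.Quotient.mkₐ R (Ideal.span ({1 - e} : Set A)))).comp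
            (Bialgebra.comulAlgHom R A))
          (Algebra.TensorProduct.includeLeft : A →ₐ[R] A ⊗[R] (A ⧸ Ideal.span ({1 - e} : Set A)))) A ∧
      SGA3.augIdealSpan R A
        (AlgHom.equalizer
          ((Algebra.TensorProduct.map (AlgHom.id R A) (Ideal.Quotient.mkₐ R (Ideal.span ({1 - e} : Set A)))).comp
            (Bialgebra.comulAlgHom R A))
          (Algebra.TensorProduct.includeLeft : A →ₐ[R] A ⊗[R] (A ⧸ Ideal.span ({1 - e} : Set A)))) =
        Ideal.span ({1 - e} : Set A) := by
  haveI := UnitComp.isHopfIdeal_span he hε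
  haveI := UnitComp.flat_quot (R := R) (A := A) he
  haveI : Module.Finite R (A ⧸ Ideal.span ({1 - e} : Set A)) :=
    Module.Finite.of_surjective (Ideal.Quotient.mkₐ R _).toLinearMap Ideal.Quotient.mk_surjective
  haveI : Module.FinitePresentation R (A ⧸ Ideal.span ({1 - e} : Set A)) := Module.finitePresentation_of_finite R _
  haveI : Module.Projective R (A ⧸ Ideal.span ({1 - e} : Set A)) := Module.Flat.projective_of_finitePresentation
  show SGA3.IsHopfSubalgebra R A (FinQuot.inv R (Ideal.span ({1 - e} : Set A))) ∧
    Algebra.Etale R ↥(FinQuot.inv R (Ideal.span ({1 - e} : Set A))) ∧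
    Module.FaithfullyFlat ↥(FinQuot.inv R (Ideal.span ({1 - e} : Set A))) A ∧
    SGA3.augIdealSpan R A (FinQuot.inv R (Ideal.span ({1 - e} : Set A))) = Ideal.span ({1 - e} : Set A)
  set B := FinQuot.inv R (Ideal.span ({1 - e} : Set A)) with hB
  haveI hff : Module.FaithfullyFlat ↥B A := FinQuot.faithfullyFlat _
  haveI : Module.Flat R ↥B := FlatCrit.flat_of_flat_of_faithfullyFlat (R := R) (S := ↥B) (M := A)
  haveI : Module.Finite R ↥B := Module.Finite.of_injective B.val.toLinearMap Subtype.val_injective
  have hH : SGA3.IsHopfSubalgebra R A B := FinQuot.isHopfSubalgebra (S15063.result R A e he hε)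
  have haug : SGA3.augIdealSpan R A B = Ideal.span ({1 - e} : Set A) := FinQuot.span_aug _
  refine ⟨hH, ?_, hff, haug⟩
  letI := SubHopfRing.subHopf hH
  have hmap : (RingHom.ker (Bialgebra.counitAlgHom R ↥B)).map (algebraMap ↥B A) = Ideal.span ({1 - e} : Set A) := by
    rw [← haug]
    refine le_antisymm (Ideal.map_le_iff_le_comap.2 fun x hx => Ideal.subset_span ⟨x.2, hx⟩) (Ideal.span_le.2 ?_)
    rintro a ⟨ha, h0⟩
    exact Ideal.mem_map_of_mem (algebraMap ↥B A) (x := (⟨a, ha⟩ : ↥B)) (show (⟨a, ha⟩ : ↥B) ∈ RingHom.ker (Bialgebra.counitAlgHom R ↥B) from h0)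
  have hsq : RingHom.ker (Bialgebra.counitAlgHom R ↥B) ^ 2 = RingHom.ker (Bialgebra.counitAlgHom R ↥B) := by
    rw [← Ideal.comap_map_eq_self_of_faithfullyFlat (B := A) (RingHom.ker (Bialgebra.counitAlgHom R ↥B) ^ 2),
      Ideal.map_pow, hmap, Ideal.span_singleton_pow, he.one_sub.pow_succ_eq 1, ← hmap,
      Ideal.comap_map_eq_self_of_faithfullyFlat]
  haveI := UnitComp.formallyUnramified_of_sq_eq (R := R) (A := ↥B) hsq
  haveI : Module.FinitePresentation R ↥B := Module.finitePresentation_of_finite R _
  haveI : Algebra.FinitePresentation R ↥B := Algebra.FinitePresentation.of_finitePresentation R _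
  exact Algebra.Etale.of_formallyUnramified_of_flat

end Groth.Agent.S15061
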