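import Groth.Statements.S15062
import Groth.Agent.HopfQuot.UnitComponent

set_option autoImplicit false
universe u
open scoped TensorProduct
open Hopf

namespace Groth.Agent.S15062
open Groth.Agent.HopfQuot TensorProduct

/-- Let R be a henselian Noetherian local ring and A a commutative Hopf algebra over R which is finite
and flat as an R-module (a finite flat R-group G = Spec A, not assumed commutative); let e ∈ A be an
idempotent with ε(e) = 1 such that A/(1 − e) is a local ring, so that G⁰ = Spec A/(1 − e) is the
connected component of the unit section, and let B ⊆ A be the subalgebra of functions invariant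
under right translation by G⁰: the equaliser of a ↦ (id ⊗ π)(Δ a) and a ↦ a ⊗ 1 into A ⊗_R A/(1 − e)
(so Spec B = G^ét). Then: (2) for every commutative Hopf algebra C over R which is finite étale over
R (a finite étale R-group H) and every bialgebra homomorphism φ : C → A (a homomorphism G → H), the
image of φ lies in B — the homomorphism factors (necessarily uniquely, A being faithfully flat over
B) through G → G^ét; (3) for every commutative Hopf algebra D over R which is finite and flat over R
and a local ring (a connected finite flat R-group H) and every bialgebra homomorphism ψ : A → D (a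
homomorphism H → G), ψ(e) = 1, i.e. ψ kills the ideal (1 − e) and the homomorphism factors
(uniquely) through G⁰ → G. -/
theorem result (R : Type u) [CommRing R] [HenselianLocalRing R] [IsNoetherianRing R]
    (A : Type u) [CommRing A] [HopfAlgebra R A] [Module.Finite R A] [Module.Flat R A]
    (e : A) (he : IsIdempotentElem e) (hε : Bialgebra.counitAlgHom R A e = 1)
    [IsLocalRing (A ⧸ Ideal.span ({1 - e} : Set A))] :
    (∀ (C : Type u) [CommRing C] [HopfAlgebra R C] [Module.Finite R C] [Algebra.Etale R C] (φ : C →ₐc[R] A) (c : C),
        φ c ∈ (AlgHom.equalizer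
          ((Algebra.TensorProduct.map (AlgHom.id R A) (Ideal.Quotient.mkₐ R (Ideal.span ({1 - e} : Set A)))).comp
            (Bialgebra.comulAlgHom R A))
          (Algebra.TensorProduct.includeLeft : A →ₐ[R] A ⊗[R] (A ⧸ Ideal.span ({1 - e} : Set A))))) ∧
      ∀ (D : Type u) [CommRing D] [HopfAlgebra R D] [Module.Finite R D] [Module.Flat R D] [IsLocalRing D]
        (ψ : A →ₐc[R] D), ψ e = 1 := by
  refine ⟨fun C _ _ _ _ φ c => ?_, fun D _ _ _ _ _ ψ => ?_⟩
  · let u : C →ₐ[R] A ⧸ Ideal.span ({1 - e} : Set A) := (Ideal.Quotient.mkₐ R _).comp (φ : C →ₐ[R] A)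
    have hu : u = (Algebra.ofId R _).comp (Bialgebra.counitAlgHom R C) := by
      refine UnitComp.ext_of_formallyUnramified (UnitComp.counitQuot hε) (AlgHom.ext fun x => ?_)
      simp [u]
    rw [AlgHom.mem_equalizer, AlgHom.comp_apply, Algebra.TensorProduct.includeLeft_apply]
    have e1 : Bialgebra.comulAlgHom R A (φ c) =
        Algebra.TensorProduct.map (φ : C →ₐ[R] A) (φ : C →ₐ[R] A) (Bialgebra.comulAlgHom R C c) :=
      (CoalgHomClass.map_comp_comul_apply φ c).symm
    rw [e1]
    have e2 : ∀ t : C ⊗[R] C, Algebra.TensorProduct.map (AlgHom.id R A)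
        (Ideal.Quotient.mkₐ R (Ideal.span ({1 - e} : Set A)))
        (Algebra.TensorProduct.map (φ : C →ₐ[R] A) (φ : C →ₐ[R] A) t) =
        φ ((TensorProduct.rid R C) ((Coalgebra.counit (R := R) (A := C)).lTensor C t)) ⊗ₜ[R] 1 := fun t => by
      induction t using TensorProduct.induction_on with
      | zero => simp
      | add p q hp hq => simp only [map_add, hp, hq, add_tmul]
      | tmul p q =>
        have := DFunLike.congr_fun hu q
        simp only [Algebra.TensorProduct.map_tmul, AlgHom.id_apply, LinearMap.lTensor_tmul,
          TensorProduct.rid_tmul, map_smul]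
        rw [show (Ideal.Quotient.mkₐ R (Ideal.span ({1 - e} : Set A))) ((φ : C →ₐ[R] A) q) = u q from rfl, this]
        simp [Algebra.algebraMap_eq_smul_one, TensorProduct.smul_tmul]
    rw [e2, show (Bialgebra.comulAlgHom R C c) = Coalgebra.comul (R := R) c from rfl,
      Coalgebra.lTensor_counit_comul, TensorProduct.rid_tmul, one_smul]
  · refine UnitComp.eq_one_of_apply (Bialgebra.counitAlgHom R D) (he.map _) ?_
    exact (CoalgHomClass.counit_comp_apply ψ e).trans hε

end Groth.Agent.S15062
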