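import Groth.Statements.S15065
import Groth.Agent.HopfQuot.PointsSep
import Mathlib.GroupTheory.Perm.Cycle.Type

set_option autoImplicit false
universe u
open Hopf

namespace Groth.Agent.S15065
open Groth.Agent.HopfQuot WithConv

/-- Let k be an algebraically closed field and A a finite-dimensional commutative and cocommutative Hopf
algebra over k which is reduced (a finite étale commutative k-group G = Spec A), with dim_k A > 1,
and assume G is simple: every Hopf ideal of A is either zero or the augmentation ideal (no closed
subgroup schemes other than G and 1). Then the order dim_k A is a prime number ℓ, so that G is the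
constant group ℤ/ℓℤ. (The published statement lists the simple finite commutative groups over an
algebraically closed field of characteristic p > 0; the étale case does not use the characteristic
and is stated here for any algebraically closed field.) -/
theorem result (k : Type u) [Field k] [IsAlgClosed k] (A : Type u) [CommRing A] [HopfAlgebra k A]
    [Coalgebra.IsCocomm k A] [FiniteDimensional k A] [IsReduced A] (hA : 1 < Module.finrank k A)
    (hsimple : ∀ I : Ideal A, I.IsHopfIdeal k → I = ⊥ ∨ I = RingHom.ker (Bialgebra.counitAlgHom k A)) :
    (Module.finrank k A).Prime := by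
  classical
  haveI : Finite (A →ₐ[k] k) := finite_algHom
  haveI : Fintype (A →ₐ[k] k) := Fintype.ofFinite _
  let G := WithConv (A →ₐ[k] k)
  haveI : Finite G := Finite.of_injective WithConv.ofConv WithConv.ofConv_injective
  have hcard : Nat.card G = Module.finrank k A := by
    rw [(AlgEquiv.ofBijective _ (bijective_evalPoints (k := k) (E := A))).toLinearEquiv.finrank_eq,
      Module.finrank_fintype_fun_eq_card, ← Nat.card_eq_fintype_card]
    exact Nat.card_congr ⟨WithConv.ofConv, WithConv.toConv, fun _ => rfl, fun _ => rfl⟩
  have hsub : ∀ H : Subgroup G, H = ⊥ ∨ H = ⊤ := by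
    intro H
    rcases hsimple _ (isHopfIdeal_iInf_ker H) with h | h
    · right
      rw [eq_top_iff]
      rintro g -
      by_contra hg
      obtain ⟨x, hx⟩ := (bijective_evalPoints (k := k) (E := A)).2 (fun χ => if χ = g.ofConv then 1 else 0)
      have hval : ∀ χ : A →ₐ[k] k, χ x = if χ = g.ofConv then 1 else 0 := fun χ => congrFun hx χ
      have hmem : x ∈ (⨅ y ∈ H, RingHom.ker (WithConv.ofConv y : A →ₐ[k] k) : Ideal A) := by
        simp only [Submodule.mem_iInf]
        intro y hy
        rw [RingHom.mem_ker, hval, if_neg]
        intro e
        exact hg (WithConv.ofConv_injective e ▸ hy)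
      rw [h, Ideal.mem_bot] at hmem
      have := hval g.ofConv
      rw [hmem, map_zero, if_pos rfl] at this
      exact zero_ne_one this
    · left
      rw [Subgroup.eq_bot_iff_forall]
      intro g hg
      refine WithConv.ofConv_injective (AlgHom.ext fun a => ?_)
      have hle : RingHom.ker (Bialgebra.counitAlgHom k A) ≤ RingHom.ker (WithConv.ofConv g : A →ₐ[k] k) :=
        h ▸ iInf₂_le g hg
      have := hle (show a - algebraMap k A (Bialgebra.counitAlgHom k A a) ∈ RingHom.ker (Bialgebra.counitAlgHom k A) by
        rw [RingHom.mem_ker, map_sub, AlgHom.commutes, Algebra.algebraMap_self, RingHom.id_apply, sub_self])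
      rw [RingHom.mem_ker, map_sub, AlgHom.commutes, Algebra.algebraMap_self, RingHom.id_apply, sub_eq_zero] at this
      rw [this, AlgHom.convOne_apply]
      simp
  rw [← hcard]
  obtain ⟨p, hp, hdvd⟩ := Nat.exists_prime_and_dvd (show Nat.card G ≠ 1 by omega)
  haveI : Fact p.Prime := ⟨hp⟩
  obtain ⟨g, hg⟩ := exists_prime_orderOf_dvd_card' p hdvd
  rcases hsub (Subgroup.zpowers g) with h | h
  · rw [Subgroup.zpowers_eq_bot.1 h, orderOf_one] at hg
    exact absurd hg.symm hp.ne_one
  · rwa [show Nat.card G = p by rw [← hg, ← Nat.card_zpowers, h, Subgroup.card_top]]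

end Groth.Agent.S15065
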