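import Groth.Statements.S15066
import Groth.Agent.HopfQuot.SimpleInfinitesimal
import Mathlib.FieldTheory.IsAlgClosed.Basic

set_option autoImplicit false
universe u
open Hopf

namespace Groth.Agent.S15066
open HopfRep Groth.Agent.HopfQuot Groth.Agent.HopfLib WithConv

/-- Let k be an algebraically closed field of characteristic p > 0 and A a finite-dimensional
commutative and cocommutative Hopf algebra over k (a finite commutative k-group G = Spec A) which is
a local ring (G connected) and whose dual algebra Hom_k(A, k) with the convolution product is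
reduced (the Cartier dual of G is étale, i.e. G is multiplicative), with dim_k A > 1, and assume G
is simple: every Hopf ideal of A is either zero or the augmentation ideal (no closed subgroup
schemes other than G and 1). Then G is isomorphic to μ_p: A has a group-like element g (Δ(g) = g ⊗
g, ε(g) = 1) with g^p = 1 whose powers 1, g, …, g^(p−1) are linearly independent over k, and dim_k A
= p (so A = k[g]/(g^p − 1)). -/
theorem result (k : Type u) [Field k] [IsAlgClosed k] (p : ℕ) [Fact p.Prime]
    [CharP k p] (A : Type u) [CommRing A] [HopfAlgebra k A] [Coalgebra.IsCocomm k A] [FiniteDimensional k A]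
    [IsLocalRing A] (hdual : IsReduced (WithConv (A →ₗ[k] k))) (hA : 1 < Module.finrank k A)
    (hsimple : ∀ I : Ideal A, I.IsHopfIdeal k → I = ⊥ ∨ I = RingHom.ker (Bialgebra.counitAlgHom k A)) :
    ∃ g : A, IsGroupLikeElem k g ∧ g ^ p = 1 ∧ LinearIndependent k (fun i : Fin p => g ^ (i : ℕ)) ∧
      Module.finrank k A = p := by
  classical
  have hno : ∀ f : A, CoalgebraStruct.comul (R := k) f = f ⊗ₜ[k] (1 : A) + (1 : A) ⊗ₜ[k] f → f = 0 := by
    intro f hf
    by_contra hf0
    obtain ⟨g, hg⟩ := Module.Projective.exists_dual_ne_zero k hf0
    -- normalise the form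
    let d : A →ₗ[k] k := (g f)⁻¹ • (g - g 1 • CoalgebraStruct.counit)
    have hεf := counit_eq_zero_of_primitive hf
    have hd1 : d 1 = 0 := by simp [d, Bialgebra.counit_one]
    have hdf : d f = 1 := by simp [d, hεf, inv_mul_cancel₀ hg]
    -- powers of `d` acting by hit
    have hpow : ∀ (m : ℕ) (v : A), ((hit (V := A) d : Module.End k A) ^ m) v = hit (V := A) (toConv d ^ m).ofConv v := by
      intro m
      induction m with
      | zero => intro v; rw [pow_zero, pow_zero]; exact (hit_counit v).symm
      | succ m ih =>
        intro v
        rw [pow_succ, pow_succ, Module.End.mul_apply, ih, hit_hit]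
        rfl
    have h1 : hit (V := A) d (1 : A) = 0 := by rw [hit_one, hd1, zero_smul]
    have hf1 : hit (V := A) d f = 1 := by
      rw [hit_regular, hf, map_add, sliceR_tmul, sliceR_tmul, hd1, hdf, zero_smul, one_smul, zero_add]
    -- a polynomial annihilating `d` in the dual algebra
    let L : Module.End k (A →ₗ[k] k) :=
      { toFun := fun φ => formMul d φ
        map_add' := fun φ ψ => by simp [formMul, TensorProduct.map_add_right, LinearMap.add_comp, LinearMap.comp_add]
        map_smul' := fun c φ => by simp [formMul, TensorProduct.map_smul_right, LinearMap.smul_comp, LinearMap.comp_smul] }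
    have hL : ∀ (n : ℕ) (φ : A →ₗ[k] k), WithConv.toConv ((L ^ n) φ) = toConv d ^ n * toConv φ := by
      intro n
      induction n with
      | zero => intro φ; simp
      | succ n ih => intro φ; rw [pow_succ, pow_succ, Module.End.mul_apply, ih, _root_.mul_assoc]; rfl
    let P := minpoly k L
    have hP : ∀ v : A, Polynomial.aeval (hit (V := A) d : Module.End k A) P v = 0 := by
      intro v
      have h := LinearMap.congr_fun (minpoly.aeval k L) (CoalgebraStruct.counit (R := k) (A := A))
      rw [Polynomial.aeval_eq_sum_range, LinearMap.sum_apply, LinearMap.zero_apply] at h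
      rw [Polynomial.aeval_eq_sum_range, LinearMap.sum_apply]
      have he : ∀ n, hit (V := A) ((L ^ n) CoalgebraStruct.counit) v =
          ((hit (V := A) d : Module.End k A) ^ n) v := fun n => by
        rw [hpow, show (L ^ n) CoalgebraStruct.counit = (toConv d ^ n).ofConv from
          WithConv.toConv_injective (by rw [hL, toConv_ofConv]; exact mul_one _)]
      let E : (A →ₗ[k] k) →ₗ[k] A :=
        { toFun := fun φ => hit (V := A) φ v, map_add' := fun φ ψ => hit_add φ ψ v, map_smul' := fun c φ => hit_smul c φ v }
      have h2 := congrArg E h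
      rw [map_sum, map_zero] at h2
      rw [← h2]
      refine Finset.sum_congr rfl fun n _ => ?_
      rw [LinearMap.smul_apply, LinearMap.smul_apply, map_smul]
      exact congrArg (P.coeff n • ·) (he n).symm
    -- low coefficients vanish
    have hco : P.coeff 0 = 0 ∧ P.coeff 1 = 0 := by
      have key : ∀ v : A, hit (V := A) d (hit (V := A) d v) = 0 →
          Polynomial.aeval (hit (V := A) d : Module.End k A) P v = P.coeff 0 • v + P.coeff 1 • hit (V := A) d v := by
        intro v hv
        obtain ⟨Q, hQ⟩ : ∃ Q, P = Polynomial.C (P.coeff 0) + Polynomial.X * (Polynomial.C (P.coeff 1) + Polynomial.X * Q) := by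
          refine ⟨P.divX.divX, ?_⟩
          conv_lhs => rw [← Polynomial.X_mul_divX_add P, ← Polynomial.X_mul_divX_add P.divX]
          rw [Polynomial.coeff_divX]
          ring
        conv_lhs => rw [hQ]
        have hcm : ∀ R : Polynomial k, Polynomial.aeval (hit (V := A) d : Module.End k A) (Polynomial.X * (Polynomial.X * R)) v = 0 := fun R => by
          rw [show Polynomial.X * (Polynomial.X * R) = R * (Polynomial.X * Polynomial.X) by ring, map_mul, map_mul,
            Polynomial.aeval_X, Module.End.mul_apply, Module.End.mul_apply, hv, map_zero]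
        rw [mul_add, map_add, map_add, LinearMap.add_apply, LinearMap.add_apply, hcm, add_zero, map_mul,
          Polynomial.aeval_C, Polynomial.aeval_C, Polynomial.aeval_X, Module.End.mul_apply,
          Module.algebraMap_end_apply, Module.algebraMap_end_apply, map_smul]
      have k0 := (key 1 (by rw [h1, map_zero])).symm.trans (hP 1)
      rw [h1, smul_zero, add_zero] at k0
      have k1 := (key f (by rw [hf1, h1])).symm.trans (hP f)
      have hone : (1 : A) ≠ 0 := fun h => by simpa [h] using (Bialgebra.counit_one (R := k) (A := A)).symm
      have e0 : P.coeff 0 = 0 := (smul_eq_zero.1 k0).resolve_right hone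
      rw [e0, zero_smul, zero_add, hf1, smul_eq_zero] at k1
      exact ⟨e0, k1.resolve_right hone⟩
    -- so `X ^ 2` divides the minimal polynomial, against reducedness
    obtain ⟨Q, hQ⟩ : Polynomial.X ^ 2 ∣ P := Polynomial.X_pow_dvd_iff.2 fun i hi => by
      interval_cases i
      · exact hco.1
      · exact hco.2
    have hQL : Polynomial.aeval L (Polynomial.X * Q) = 0 := by
      refine LinearMap.ext fun φ => ?_
      have hz : ∀ ψ, Polynomial.aeval L (Polynomial.X * Q) ψ = L (Polynomial.aeval L Q ψ) := fun ψ => by
        rw [map_mul, Polynomial.aeval_X, Module.End.mul_apply]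
      rw [hz, LinearMap.zero_apply]
      have hcommQ : ∀ ψ, Polynomial.aeval L Q (L ψ) = L (Polynomial.aeval L Q ψ) := fun ψ => by
        have := LinearMap.congr_fun (congrArg (Polynomial.aeval L) (mul_comm Q Polynomial.X)) ψ
        simpa [map_mul] using this
      have hLL : L (L (Polynomial.aeval L Q φ)) = 0 := by
        have := LinearMap.congr_fun (minpoly.aeval k L) φ
        rw [show minpoly k L = P from rfl, hQ, map_mul, map_pow, Polynomial.aeval_X, pow_two, Module.End.mul_apply,
          Module.End.mul_apply, LinearMap.zero_apply] at this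
        exact this
      set ψ := Polynomial.aeval L Q φ with hψ
      have e1 : WithConv.toConv (L ψ) = toConv d * toConv ψ := rfl
      have e2 : toConv d * (toConv d * toConv ψ) = 0 := by
        have := congrArg WithConv.toConv hLL
        exact this
      have hcm : ∀ a b : WithConv (A →ₗ[k] k), a * b = b * a := fun a b => WithConv.ofConv_injective (formMul_comm a.ofConv b.ofConv)
      have e3 : (toConv d * toConv ψ) ^ 2 = 0 := by
        rw [pow_two, _root_.mul_assoc, hcm (toConv ψ), ← _root_.mul_assoc, e2, zero_mul]
      exact WithConv.toConv_injective (e1.trans (IsReduced.eq_zero _ ⟨2, e3⟩))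
    have hdvd := minpoly.dvd k L hQL
    rw [show minpoly k L = P from rfl, hQ, pow_two, mul_assoc] at hdvd
    have hQ0 : Polynomial.X * Q ≠ 0 := fun h => by
      apply minpoly.ne_zero (Algebra.IsIntegral.isIntegral (R := k) L)
      rw [show minpoly k L = P from rfl, hQ, pow_two, mul_assoc, h, mul_zero]
    exact Polynomial.not_isUnit_X (isUnit_of_dvd_one ((mul_dvd_mul_iff_right hQ0).1 (by rwa [one_mul])))
  have hdiag := isDiagonalizable_of_isCocomm hno
  obtain ⟨g, hg, hg1⟩ : ∃ g : A, IsGroupLikeElem k g ∧ g ≠ 1 := by
    by_contra h
    push Not at h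
    have hle : (⊤ : Submodule k A) ≤ Submodule.span k {(1 : A)} := hdiag.ge.trans (Submodule.span_mono fun a ha => h a ha)
    have := (Submodule.finrank_mono hle).trans (finrank_span_le_card ({(1 : A)} : Set A))
    rw [finrank_top] at this
    simp at this
    omega
  exact ⟨g, hg, exists_mu_generator hsimple hg1 hg⟩

end Groth.Agent.S15066
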