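import Groth.Statements.S15067
import Groth.Agent.HopfQuot.UnitComponent
import Mathlib.RingTheory.Finiteness.ModuleFinitePresentation

set_option autoImplicit false
universe u
open scoped TensorProduct
open Hopf

namespace Groth.Agent.S15067
open Groth.Agent.HopfQuot

/-- Let R be a henselian Noetherian local ring, A and A'' commutative Hopf algebras over R which are
finite and flat as R-modules (finite flat R-groups G = Spec A, G'' = Spec A''), and A'' → A an
R-algebra homomorphism compatible with the comultiplications and counits (a homomorphism π : G →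
G'') making A a faithfully flat A''-module (π faithfully flat). Let J ⊆ A be the ideal generated by
the image of the augmentation ideal of A'', so that G' = Spec A/J is the kernel of π and 1 → G' → G
→ G'' → 1 is an exact sequence of finite flat R-groups. Then: (2) if A'' and A/J are local rings
(G'' and G' connected), A is a local ring (G is connected); (3) if A'' and A/J are étale over R (G''
and G' finite étale), A is étale over R (G is finite étale). -/
theorem result (R : Type u) [CommRing R] [HenselianLocalRing R] [IsNoetherianRing R]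
    (A A'' : Type u) [CommRing A] [HopfAlgebra R A] [Module.Finite R A] [Module.Flat R A]
    [CommRing A''] [HopfAlgebra R A''] [Module.Finite R A''] [Module.Flat R A'']
    [Algebra A'' A] [IsScalarTower R A'' A] [Module.FaithfullyFlat A'' A]
    (hΔ : (Bialgebra.comulAlgHom R A).comp (IsScalarTower.toAlgHom R A'' A) =
      (Algebra.TensorProduct.map (IsScalarTower.toAlgHom R A'' A) (IsScalarTower.toAlgHom R A'' A)).comp
        (Bialgebra.comulAlgHom R A''))
    (hε : (Bialgebra.counitAlgHom R A).comp (IsScalarTower.toAlgHom R A'' A) = Bialgebra.counitAlgHom R A'') :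
    ((IsLocalRing A'' ∧
        IsLocalRing (A ⧸ (RingHom.ker (Bialgebra.counitAlgHom R A'')).map (algebraMap A'' A))) → IsLocalRing A) ∧
      ((Algebra.Etale R A'' ∧
        Algebra.Etale R (A ⧸ (RingHom.ker (Bialgebra.counitAlgHom R A'')).map (algebraMap A'' A))) →
        Algebra.Etale R A) := by
  haveI : Module.Finite A'' A := Module.Finite.of_restrictScalars_finite R A'' A
  set J := (RingHom.ker (Bialgebra.counitAlgHom R A'')).map (algebraMap A'' A) with hJ
  refine ⟨fun ⟨h1, h2⟩ => ?_, fun ⟨h1, h2⟩ => ?_⟩
  · haveI := h1
    haveI := h2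
    haveI : Nontrivial A := (Ideal.Quotient.mk J).domain_nontrivial
    haveI : Nontrivial R := (algebraMap R A).domain_nontrivial
    have hsub : ∀ M : Ideal A, M.IsMaximal → J ≤ M := by
      intro M hM
      rw [hJ, Ideal.map_le_iff_le_comap, IsLocalRing.eq_maximalIdeal (Ideal.isMaximal_comap_of_isIntegral_of_isMaximal M)]
      exact IsLocalRing.le_maximalIdeal (RingHom.ker_ne_top (Bialgebra.counitAlgHom R A'').toRingHom)
    refine IsLocalRing.of_unique_max_ideal
      ⟨(IsLocalRing.maximalIdeal (A ⧸ J)).comap (Ideal.Quotient.mk J),
        Ideal.comap_isMaximal_of_surjective _ Ideal.Quotient.mk_surjective, fun M hM => ?_⟩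
    have hker : RingHom.ker (Ideal.Quotient.mk J) ≤ M := by
      rw [Ideal.mk_ker]
      exact hsub M hM
    have hcm : (M.map (Ideal.Quotient.mk J)).comap (Ideal.Quotient.mk J) = M := by
      rw [Ideal.comap_map_of_surjective' _ Ideal.Quotient.mk_surjective, sup_eq_left.2 hker]
    rcases Ideal.map_eq_top_or_isMaximal_of_surjective (Ideal.Quotient.mk J) Ideal.Quotient.mk_surjective hM with h | h
    · rw [h, Ideal.comap_top] at hcm
      exact absurd hcm.symm hM.ne_top
    · rw [← hcm, IsLocalRing.eq_maximalIdeal h]
  · haveI := h1
    haveI := h2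
    have key : ∀ {C : Type u} [CommRing C] [Algebra R C] [Algebra.FormallyUnramified R C] (ε : C →ₐ[R] R),
        RingHom.ker ε ≤ RingHom.ker ε ^ 2 := by
      intro C _ _ _ ε x hx
      have hnil : IsNilpotent ((RingHom.ker ε).map (Ideal.Quotient.mk (RingHom.ker ε ^ 2))) :=
        ⟨2, by rw [← Ideal.map_pow, Ideal.map_quotient_self, Ideal.zero_eq_bot]⟩
      have e := Algebra.FormallyUnramified.ext (R := R) _ hnil
        (g₁ := Ideal.Quotient.mkₐ R (RingHom.ker ε ^ 2))
        (g₂ := (Algebra.ofId R _).comp ε) (fun a => by
          have : Ideal.Quotient.mkₐ R (RingHom.ker ε ^ 2) a - ((Algebra.ofId R _).comp ε) a ∈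
              (RingHom.ker ε).map (Ideal.Quotient.mk (RingHom.ker ε ^ 2)) := by
            show Ideal.Quotient.mk _ a - Ideal.Quotient.mk _ (algebraMap R C (ε a)) ∈ _
            rw [← map_sub]
            exact Ideal.mem_map_of_mem _ (by simp)
          exact Ideal.Quotient.eq.2 this)
      have := DFunLike.congr_fun e x
      rw [AlgHom.comp_apply, (RingHom.mem_ker).1 hx, map_zero] at this
      exact Ideal.Quotient.eq_zero_iff_mem.1 this
    have hI'' := key (Bialgebra.counitAlgHom R A'')
    have hJI : J ≤ RingHom.ker (Bialgebra.counitAlgHom R A) := by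
      rw [hJ, Ideal.map_le_iff_le_comap]
      intro x hx
      exact (DFunLike.congr_fun hε x).trans hx
    have hJ2 : J ≤ RingHom.ker (Bialgebra.counitAlgHom R A) ^ 2 := by
      refine le_trans ?_ (Ideal.pow_right_mono hJI 2)
      rw [hJ, ← Ideal.map_pow]
      exact Ideal.map_mono hI''
    have hbar := key (Ideal.Quotient.liftₐ J (Bialgebra.counitAlgHom R A) fun a ha => hJI ha)
    have hI : RingHom.ker (Bialgebra.counitAlgHom R A) ≤ RingHom.ker (Bialgebra.counitAlgHom R A) ^ 2 := by
      intro x hx
      have hker : RingHom.ker (Ideal.Quotient.liftₐ J (Bialgebra.counitAlgHom R A) fun a ha => hJI ha) =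
          (RingHom.ker (Bialgebra.counitAlgHom R A)).map (Ideal.Quotient.mk J) := by
        exact Ideal.ker_quotient_lift _ _
      have := hbar (show Ideal.Quotient.mk J x ∈ _ from (RingHom.mem_ker).2 hx)
      rw [hker, ← Ideal.map_pow, Ideal.mem_quotient_iff_mem (hJ2)] at this
      exact this
    haveI := UnitComp.formallyUnramified_of_sq_eq (R := R) (A := A)
      (le_antisymm (Ideal.pow_le_self two_ne_zero) hI)
    haveI : Module.FinitePresentation R A := Module.finitePresentation_of_finite R A
    haveI : Algebra.FinitePresentation R A := Algebra.FinitePresentation.of_finitePresentation R A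
    exact Algebra.Etale.of_formallyUnramified_of_flat

end Groth.Agent.S15067
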