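import Groth.Statements.S15068
import Groth.Agent.HopfQuot.UnitComponent

set_option autoImplicit false
universe u
open scoped TensorProduct
open Hopf

namespace Groth.Agent.S15068
open Groth.Agent.HopfQuot

/-- Let R be a henselian Noetherian local ring, A and A'' commutative Hopf algebras over R which are
finite and flat as R-modules, and A'' → A an R-algebra homomorphism compatible with
comultiplications and counits making A faithfully flat over A'' (a faithfully flat homomorphism π :
G → G'' of finite flat R-groups); let J ⊆ A be the ideal generated by the image of the augmentation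
ideal of A'' (G' = Spec A/J = ker π, so 1 → G' → G → G'' → 1 is exact). Assume A'' is a local ring
(G'' connected) and A/J is étale over R (G' finite étale), and let e ∈ A be an idempotent with ε(e)
= 1 such that A/(1 − e) is local (G⁰ = Spec A/(1 − e), the unit component of G). Then the composite
A'' → A → A/(1 − e) is bijective: the restriction G⁰ → G'' of π is an isomorphism, whose inverse
splits the extension, G ≅ G' × G''. -/
theorem result (R : Type u) [CommRing R] [HenselianLocalRing R]
    [IsNoetherianRing R] (A A'' : Type u) [CommRing A] [HopfAlgebra R A] [Module.Finite R A] [Module.Flat R A]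
    [CommRing A''] [HopfAlgebra R A''] [Module.Finite R A''] [Module.Flat R A'']
    [Algebra A'' A] [IsScalarTower R A'' A] [Module.FaithfullyFlat A'' A]
    (hΔ : (Bialgebra.comulAlgHom R A).comp (IsScalarTower.toAlgHom R A'' A) =
      (Algebra.TensorProduct.map (IsScalarTower.toAlgHom R A'' A) (IsScalarTower.toAlgHom R A'' A)).comp
        (Bialgebra.comulAlgHom R A''))
    (hε : (Bialgebra.counitAlgHom R A).comp (IsScalarTower.toAlgHom R A'' A) = Bialgebra.counitAlgHom R A'')
    [IsLocalRing A''] [Algebra.Etale R (A ⧸ (RingHom.ker (Bialgebra.counitAlgHom R A'')).map (algebraMap A'' A))]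
    (e : A) (he : IsIdempotentElem e) (heε : Bialgebra.counitAlgHom R A e = 1)
    [IsLocalRing (A ⧸ Ideal.span ({1 - e} : Set A))] :
    Function.Bijective ((Ideal.Quotient.mkₐ R (Ideal.span ({1 - e} : Set A))).comp (IsScalarTower.toAlgHom R A'' A)) := by
  haveI : Module.Finite A'' A := Module.Finite.of_restrictScalars_finite R A'' A
  set J := (RingHom.ker (Bialgebra.counitAlgHom R A'')).map (algebraMap A'' A) with hJ
  set K := Ideal.span ({1 - e} : Set A) with hK
  haveI : Module.Finite A'' (A ⧸ K) := Module.Finite.of_surjective (Ideal.Quotient.mkₐ A'' K).toLinearMap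
    Ideal.Quotient.mk_surjective
  haveI : Module.Flat A'' (A ⧸ K) := UnitComp.flat_quot_idem he
  haveI : Module.FaithfullyFlat A'' (A ⧸ K) := UnitComp.faithfullyFlat_of_finite (A ⧸ K)
  show Function.Bijective (algebraMap A'' (A ⧸ K))
  refine ⟨FaithfulSMul.algebraMap_injective _ _, ?_⟩
  haveI : Nontrivial A'' := inferInstance
  haveI : Nontrivial R := (algebraMap R A'').domain_nontrivial
  have hJI : J ≤ RingHom.ker (Bialgebra.counitAlgHom R A) := by
    rw [hJ, Ideal.map_le_iff_le_comap]
    intro x hx
    exact (DFunLike.congr_fun hε x).trans hx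
  have hKI : K ≤ RingHom.ker (Bialgebra.counitAlgHom R A) := by
    rw [hK, Ideal.span_singleton_le_iff_mem, RingHom.mem_ker, map_sub, map_one, heε, sub_self]
  let ε' : (A ⧸ J ⊔ K) →ₐ[R] R := Ideal.Quotient.liftₐ _ (Bialgebra.counitAlgHom R A) fun a ha => sup_le hJI hKI ha
  haveI : Nontrivial (A ⧸ J ⊔ K) := ε'.toRingHom.domain_nontrivial
  haveI : IsLocalRing (A ⧸ J ⊔ K) := IsLocalRing.of_surjective' (Ideal.Quotient.factor (le_sup_right : K ≤ J ⊔ K))
    (Ideal.Quotient.factor_surjective _)
  let u : (A ⧸ J) →ₐ[R] A ⧸ J ⊔ K := Ideal.Quotient.factorₐ R le_sup_left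
  let v : (A ⧸ J) →ₐ[R] A ⧸ J ⊔ K := (Algebra.ofId R _).comp (ε'.comp u)
  have huv : u = v := UnitComp.ext_of_formallyUnramified ε' (AlgHom.ext fun x => by simp [v])
  have htop : (⊤ : Submodule A'' (A ⧸ K)) ≤ LinearMap.range (Algebra.linearMap A'' (A ⧸ K)) := by
    refine Submodule.le_of_le_smul_of_le_jacobson_bot (I := IsLocalRing.maximalIdeal A'') Module.Finite.fg_top
      (le_of_eq (IsLocalRing.jacobson_eq_maximalIdeal _ bot_ne_top).symm) fun x _ => ?_
    obtain ⟨a, rfl⟩ := Ideal.Quotient.mk_surjective x
    have h := DFunLike.congr_fun huv (Ideal.Quotient.mk J a)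
    have h' : Ideal.Quotient.mk (J ⊔ K) a =
        Ideal.Quotient.mk (J ⊔ K) (algebraMap R A (Bialgebra.counitAlgHom R A a)) := h
    rw [Ideal.Quotient.eq, Submodule.mem_sup] at h'
    obtain ⟨j, hj, k, hk, hjk⟩ := h'
    have e1 : Ideal.Quotient.mk K a =
        algebraMap A'' (A ⧸ K) (algebraMap R A'' (Bialgebra.counitAlgHom R A a)) + Ideal.Quotient.mk K j := by
      rw [IsScalarTower.algebraMap_apply A'' A (A ⧸ K), ← IsScalarTower.algebraMap_apply R A'' A,
        Ideal.Quotient.algebraMap_eq, ← map_add, Ideal.Quotient.eq]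
      have e2 : a - (algebraMap R A (Bialgebra.counitAlgHom R A a) + j) = k := by linear_combination -hjk
      rw [e2]
      exact hk
    rw [e1]
    refine Submodule.add_mem_sup ⟨_, rfl⟩ ?_
    have hj' : Ideal.Quotient.mk K j ∈
        (RingHom.ker (Bialgebra.counitAlgHom R A'')).map (algebraMap A'' (A ⧸ K)) := by
      rw [IsScalarTower.algebraMap_eq A'' A (A ⧸ K), ← Ideal.map_map, ← hJ]
      exact Ideal.mem_map_of_mem _ hj
    rw [← Submodule.restrictScalars_mem A'', ← Ideal.smul_top_eq_map] at hj'
    exact Submodule.smul_mono_left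
      (IsLocalRing.le_maximalIdeal (RingHom.ker_ne_top (Bialgebra.counitAlgHom R A'').toRingHom)) hj'
  exact fun x => htop Submodule.mem_top

end Groth.Agent.S15068
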