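import Groth.Statements.S15069
import Groth.Agent.DerCompLib.ExtZero
import Mathlib
-- import your own Groth.Agent.* helpers here

set_option autoImplicit false
universe u
open CategoryTheory TopologicalSpace
open OrdSurf

namespace Groth.Agent.S15069

/-- Let X be a topological space, A a sheaf of rings on X (not necessarily commutative), I a sheaf of
A-modules which is an injective object of the category of sheaves of A-modules, and U an open subset
of X. Then the restriction of I to the site of opens contained in U is an injective object of the
category of sheaves of modules over the restriction of A. (The published statement is for an order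
on a smooth projective surface; this row is stated for any sheaf of rings on any topological space.) -/
theorem result (X : TopCat.{u})
    (A : Sheaf (Opens.grothendieckTopology X) RingCat.{u}) (I : SheafOfModules.{u} A)
    [Injective I] (U : Opens X) : Injective (I.over U) := by
  let φ : (A.over U) ⟶ (A.over U) := 𝟙 _
  let ψ : A.over U ⟶ ((Over.forget U).sheafPushforwardContinuous RingCat.{u}
      ((Opens.grothendieckTopology X).over U) (Opens.grothendieckTopology X)).obj A := 𝟙 _
  haveI : (PresheafOfModules.pushforward.{u} (F := Over.forget U) ψ.hom).IsRightAdjoint :=
    (Groth.Agent.DerCompLib.sumAdj A.obj U).isRightAdjoint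
  have h : (SheafOfModules.pullback.{u} (F := Over.forget U) ψ).PreservesMonomorphisms := by
    haveI h1 : (SheafOfModules.forget.{u} (A.over U)).PreservesMonomorphisms := by
      have : (SheafOfModules.forget.{u} (A.over U)).IsRightAdjoint :=
        (PresheafOfModules.sheafificationAdjunction (𝟙 (A.over U).obj)).isRightAdjoint
      exact Functor.preservesMonomorphisms_of_isRightAdjoint _
    haveI h3 : (PresheafOfModules.pullback.{u} (F := Over.forget U) ψ.hom).PreservesMonomorphisms :=
      @Functor.PreservesMonomorphisms.of_iso _ _ _ _
        (Groth.Agent.DerCompLib.sumFunctor (R := A.obj) (U := U)) _ inferInstance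
        ((Groth.Agent.DerCompLib.sumAdj A.obj U).leftAdjointUniq
          (PresheafOfModules.pullbackPushforwardAdjunction ψ.hom))
    haveI h2 : (PresheafOfModules.sheafification.{u} (J := Opens.grothendieckTopology X) (𝟙 A.obj)).PreservesMonomorphisms :=
      inferInstance
    exact @Functor.PreservesMonomorphisms.of_iso _ _ _ _ _ _ inferInstance
      (SheafOfModules.pullbackIso.{u} (F := Over.forget U) ψ).symm
  exact @Functor.PreservesInjectiveObjects.injective_obj _ _ _ _ _
    (@Functor.preservesInjectiveObjects_of_adjunction_of_preservesMonomorphisms _ _ _ _ _ _
      (SheafOfModules.pullbackPushforwardAdjunction.{u} (F := Over.forget U) ψ) h) I ‹_›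

end Groth.Agent.S15069
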