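import Groth.Statements.S1507
import Groth.Agent.FlatMorPerfect.Hom

set_option autoImplicit false
universe u
attribute [local instance] HasDerivedCategory.standard
open FlatMor

namespace Groth.Agent.S1507

/-- Let A → B be flat and of finite presentation and I an ideal of B. Then A → B/I is a pseudo-coherent
ring map if and only if I is a pseudo-coherent B-module. -/
theorem result {A B : Type u} [CommRing A] [CommRing B] [Algebra A B] [Module.Flat A B] [Algebra.FinitePresentation A B] (I : Ideal B) :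
    MoreMor.IsPseudoCoherentHom A (B ⧸ I) ↔ DRing.IsPseudoCoherentModule' B ↥I := by
  open Groth.Agent.FlatMorPerfect in
  obtain ⟨n, φ, hφ, h1⟩ := pcHom_iff.1 (Groth.Agent.FlatCx12.PerfectHom.pcHom_of_flat A B)
  have hπ : Function.Surjective (Ideal.Quotient.mk I) := Ideal.Quotient.mk_surjective
  let ψ : MvPolynomial (Fin n) A →ₐ[A] B ⧸ I := (Ideal.Quotient.mkₐ A I).comp φ
  have hψ : Function.Surjective ψ := hπ.comp hφ
  have hψe : ψ.toRingHom = (Ideal.Quotient.mk I).comp φ.toRingHom := rfl
  have key : MoreMor.IsPseudoCoherentHom A (B ⧸ I) ↔ ∀ k, Groth.Agent.FlatMorPerfect.PC B k (B ⧸ I) := by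
    rw [← Groth.Agent.FlatMorPerfect.pcs_iff (φ := Ideal.Quotient.mk I) rfl,
      ← h1.comp_iff (Ideal.Quotient.mk I), ← hψe]
    exact ⟨fun h => Groth.Agent.FlatMorPerfect.pcHom_pcs h ψ hψ,
      fun h => Groth.Agent.FlatMorPerfect.pcHom_iff.2 ⟨n, ψ, hψ, h⟩⟩
  rw [key, Groth.Agent.FlatMorPerfect.pc'_iff_forall]
  have hex : Function.Exact (Submodule.subtype I) (Submodule.mkQ I) := LinearMap.exact_subtype_mkQ I
  exact ⟨fun h k => Groth.Agent.FlatMorPerfect.pc_ker hex (Submodule.mkQ_surjective I) Subtype.val_injective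
      (Groth.Agent.FlatMorPerfect.pc_free k) (h (k + 1)),
    fun h k => Groth.Agent.FlatMorPerfect.pc_pred (Groth.Agent.FlatMorPerfect.pc_coker hex
      (Submodule.mkQ_surjective I) Subtype.val_injective (h k) (Groth.Agent.FlatMorPerfect.pc_free (k + 1)))⟩

end Groth.Agent.S1507
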