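import Groth.Statements.S15070
import Groth.Agent.Surf15.TorsFreePush
-- import your own Groth.Agent.* helpers here

set_option autoImplicit false
universe u
open CategoryTheory CategoryTheory.Limits AlgebraicGeometry
open OrdSurf

open TopologicalSpace
open Groth.Agent.Coherent Groth.Agent.PicLib Groth.Agent.AmpleLib Groth.Agent.EulerLib Groth.Agent.CurveRR24 Groth.Agent.DimLib Groth.Agent.Surf15
set_option linter.style.haveILetI false
set_option backward.isDefEq.respectTransparency.types false

namespace Groth.Agent.S15070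

/-- Let k be an algebraically closed field of characteristic zero and X a smooth projective surface over
k (an integral k-scheme, smooth over k, of dimension two, admitting a closed immersion over k into
some projective space P^n_k). Let N be a coherent O_X-module all of whose stalks are torsion-free
modules over the local rings, M a finite locally free O_X-module and φ : M → N an epimorphism of
O_X-modules. Then the kernel of φ is a finite locally free O_X-module. -/
theorem result (k : Type u) [Field k] [IsAlgClosed k] [CharZero k]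
    (X : Scheme.{u}) [X.Over (Spec (CommRingCat.of k))] [IsIntegral X]
    [Smooth (X ↘ Spec (CommRingCat.of k))] (hdim : topologicalKrullDim X = 2)
    (hproj : ∃ (n : ℕ) (ι : X ⟶ CohB1.ProjSpace n k), IsClosedImmersion ι ∧
      ι ≫ CohB1.ProjSpace.toSpec n k = X ↘ Spec (CommRingCat.of k))
    (N : X.Modules) (hN : Coh.IsCoh N) (hNtf : TorSh.IsTorsionFree N)
    (M : X.Modules) (hM : FlatMod.IsFinLocFree M) (φ : M ⟶ N) [Epi φ] :
    FlatMod.IsFinLocFree (kernel φ) := by
  classical
  let p := X ↘ Spec (CommRingCat.of k)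
  haveI : IsLocallyNoetherian X := LocallyOfFiniteType.isLocallyNoetherian p
  have hX : topologicalKrullDim X = ((2 : ℕ) : WithBot ℕ∞) := hdim
  have hη : DimLib.ptDim p (genericPoint X) = 2 := by
    have h := DimLib.topologicalKrullDim_eq_ptDim_genericPoint p
    rw [hX] at h
    exact_mod_cast h.symm
  have hM' := CohBC.isCoh_of_isFinLocFree hM
  haveI := hM'.1
  haveI := hN.1
  have hK : Coh.IsCoh (kernel φ) := isCoh_kernel φ hM' hN.1
  refine (RefHullLib.isFinLocFree_iff_free_stalks hK).2 fun x => ?_
  have hS : (ShortComplex.mk (kernel.ι φ) φ (kernel.condition φ)).ShortExact :=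
    { exact := ShortComplex.exact_kernel φ }
  have hSt := hS.map_of_exact (DerSch.stalkFunctor X x)
  let g : M.presheaf.stalk x →ₗ[X.presheaf.stalk x] N.presheaf.stalk x :=
    ((DerSch.stalkFunctor X x).map φ).hom
  let ι : (kernel φ).presheaf.stalk x →ₗ[X.presheaf.stalk x] M.presheaf.stalk x :=
    ((DerSch.stalkFunctor X x).map (kernel.ι φ)).hom
  have hι : Function.Injective ι := (ModuleCat.mono_iff_injective _).1 hSt.mono_f
  have hg : Function.Surjective g := (ModuleCat.epi_iff_surjective _).1 hSt.epi_g
  have hex : Function.Exact ι g := LinearMap.exact_iff.2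
    (ShortComplex.Exact.moduleCat_range_eq_ker hSt.exact).symm
  haveI := Props12.free_stalk_of_isFinLocFree M hM x
  haveI := AssSch12.finite_stalk hM' x
  haveI := AssSch12.finite_stalk hK x
  haveI := AssSch12.finite_stalk hN x
  haveI : IsRegularLocalRing (X.presheaf.stalk x) :=
    VarietyLib.isRegularLocalRing_stalk_of_smooth k _ p x
  refine CAlgH3.free_of_le_depth _ _ rfl _ ?_
  have hdR := Surf15.spanFinrank_le_two hη x
  rcases subsingleton_or_nontrivial (M.presheaf.stalk x) with hP | hP
  · haveI : Subsingleton ((kernel φ).presheaf.stalk x) := hι.subsingleton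
    rw [CAlgH3.depth_eq_top_of_subsingleton]; exact le_top
  have h3 := (LocCoh.idealDepth_shortExact (IsLocalRing.maximalIdeal (X.presheaf.stalk x)) ((kernel φ).presheaf.stalk x)
    (M.presheaf.stalk x) (N.presheaf.stalk x) ι g hι hg hex).2.2
  change min (LocCoh.depth (X.presheaf.stalk x) (M.presheaf.stalk x))
    (LocCoh.depth (X.presheaf.stalk x) (N.presheaf.stalk x) + 1) ≤ _ at h3
  refine le_trans ?_ h3
  rw [(CAlgH3.depth_free _).trans CAlgH3.depth_eq_spanFinrank]
  refine le_min le_rfl ?_
  rcases Nat.lt_or_ge (IsLocalRing.maximalIdeal (X.presheaf.stalk x)).spanFinrank 2 with h1 | h1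
  · exact le_trans (by exact_mod_cast Nat.lt_succ_iff.1 h1) le_add_self
  rw [le_antisymm hdR.1 h1]
  show ((1 + 1 : ℕ) : ℕ∞) ≤ _
  rw [CAlgH3.natCast_add_one_le_iff, Nat.cast_one]
  rcases subsingleton_or_nontrivial (N.presheaf.stalk x) with hM0 | hM0
  · rw [CAlgH3.depth_eq_top_of_subsingleton]; exact le_top
  refine (CommAlg6.one_le_depth_iff _).2 fun hm => ?_
  obtain ⟨-, z, hz⟩ := (isAssociatedPrime_iff (R := X.presheaf.stalk x)).1 hm
  have hz0 : z ≠ 0 := fun h => (IsLocalRing.maximalIdeal.isMaximal (X.presheaf.stalk x)).ne_top <| by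
    rw [hz, h]; exact eq_top_iff.2 fun r _ => by simp [Submodule.mem_colon_singleton]
  haveI := hNtf x
  obtain ⟨r, hr, hr0⟩ : ∃ r ∈ IsLocalRing.maximalIdeal (X.presheaf.stalk x), r ≠ 0 := by
    by_contra h
    push_neg at h
    have : IsLocalRing.maximalIdeal (X.presheaf.stalk x) = ⊥ := (Submodule.eq_bot_iff _).2 h
    rw [this, show Submodule.spanFinrank (⊥ : Ideal (X.presheaf.stalk x)) = 0 from Submodule.spanFinrank_bot] at h1
    omega
  rw [hz, Submodule.mem_colon_singleton, Submodule.mem_bot] at hr
  exact hz0 ((smul_eq_zero.1 hr).resolve_left hr0)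

end Groth.Agent.S15070
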