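import Groth.Statements.S15071
import Groth.Agent.Surf15.TorsFreePush
-- import your own Groth.Agent.* helpers here

set_option autoImplicit false
universe u
open CategoryTheory CategoryTheory.Limits AlgebraicGeometry
open OrdSurf

open TopologicalSpace
open Groth.Agent.Coherent Groth.Agent.PicLib Groth.Agent.AmpleLib Groth.Agent.EulerLib Groth.Agent.CurveRR24 Groth.Agent.DimLib Groth.Agent.Surf15
set_option linter.style.haveILetI false
set_option backward.isDefEq.respectTransparency.types false

namespace Groth.Agent.S15071

/-- Let k be an algebraically closed field of characteristic zero and X a smooth projective surface over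
k (an integral k-scheme, smooth over k, of dimension two, admitting a closed immersion over k into
some projective space P^n_k). Let φ : M → N be a monomorphism between finite locally free
O_X-modules. Then either φ is an isomorphism, or the support of the cokernel of φ contains a point
of X whose local ring has Krull dimension at most one, i.e. the support has codimension at most one
in X. (The published statement phrases the first alternative as M and N being isomorphic; the
argument shows that the given monomorphism is an isomorphism, which is the form stated here.) -/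
theorem result (k : Type u) [Field k] [IsAlgClosed k] [CharZero k]
    (X : Scheme.{u}) [X.Over (Spec (CommRingCat.of k))] [IsIntegral X]
    [Smooth (X ↘ Spec (CommRingCat.of k))] (hdim : topologicalKrullDim X = 2)
    (hproj : ∃ (n : ℕ) (ι : X ⟶ CohB1.ProjSpace n k), IsClosedImmersion ι ∧
      ι ≫ CohB1.ProjSpace.toSpec n k = X ↘ Spec (CommRingCat.of k))
    (M N : X.Modules) (hM : FlatMod.IsFinLocFree M) (hN : FlatMod.IsFinLocFree N)
    (φ : M ⟶ N) [Mono φ] :
    IsIso φ ∨ ∃ x : X, x ∈ CohB1.support (cokernel φ) ∧ ringKrullDim (X.presheaf.stalk x) ≤ 1 := by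
  classical
  let p := X ↘ Spec (CommRingCat.of k)
  haveI : IsLocallyNoetherian X := LocallyOfFiniteType.isLocallyNoetherian p
  have hX : topologicalKrullDim X = ((2 : ℕ) : WithBot ℕ∞) := hdim
  have hη : DimLib.ptDim p (genericPoint X) = 2 := by
    have h := DimLib.topologicalKrullDim_eq_ptDim_genericPoint p
    rw [hX] at h
    exact_mod_cast h.symm
  have hM' := CohBC.isCoh_of_isFinLocFree hM
  have hN' := CohBC.isCoh_of_isFinLocFree hN
  haveI := hM'.1
  haveI := hN'.1
  by_cases hiso : IsIso φ
  · exact Or.inl hiso
  right
  have hQ : Coh.IsCoh (cokernel φ) := isCoh_cokernel φ hM'.1 hN'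
  have hS : (ShortComplex.mk φ (cokernel.π φ) (cokernel.condition φ)).ShortExact :=
    { exact := ShortComplex.exact_cokernel φ }
  -- the cokernel is nonzero, so it has an associated point
  obtain ⟨y, hy⟩ : (CohB1.support (cokernel φ)).Nonempty := by
    by_contra h
    apply hiso
    have hz : IsZero (cokernel φ) := EulerLib.isZero_of_support_eq_empty (Set.not_nonempty_iff_eq_empty.1 h)
    haveI : Epi φ := Preadditive.epi_of_isZero_cokernel φ hz
    exact isIso_of_mono_of_epi φ
  obtain ⟨x, hx, -⟩ := AssSch12.exists_ass_generalization _ hQ.1 hy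
  refine ⟨x, AssSch12.mem_support_of_ass _ hx, ?_⟩
  haveI : IsRegularLocalRing (X.presheaf.stalk x) :=
    VarietyLib.isRegularLocalRing_stalk_of_smooth k _ p x
  have hdR := Surf15.spanFinrank_le_two hη x
  have hd := IsRegularLocalRing.spanFinrank_maximalIdeal (R := X.presheaf.stalk x)
  rcases Nat.lt_or_ge (IsLocalRing.maximalIdeal (X.presheaf.stalk x)).spanFinrank 2 with h1 | h1
  · rw [← hd]
    exact_mod_cast Nat.lt_succ_iff.1 h1
  exfalso
  have hSt := hS.map_of_exact (DerSch.stalkFunctor X x)
  let f : M.presheaf.stalk x →ₗ[X.presheaf.stalk x] N.presheaf.stalk x :=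
    ((DerSch.stalkFunctor X x).map φ).hom
  let g : N.presheaf.stalk x →ₗ[X.presheaf.stalk x] (cokernel φ).presheaf.stalk x :=
    ((DerSch.stalkFunctor X x).map (cokernel.π φ)).hom
  have hf : Function.Injective f := (ModuleCat.mono_iff_injective _).1 hSt.mono_f
  have hg : Function.Surjective g := (ModuleCat.epi_iff_surjective _).1 hSt.epi_g
  have hex : Function.Exact f g := LinearMap.exact_iff.2
    (ShortComplex.Exact.moduleCat_range_eq_ker hSt.exact).symm
  haveI := Props12.free_stalk_of_isFinLocFree M hM x
  haveI := Props12.free_stalk_of_isFinLocFree N hN x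
  haveI := AssSch12.finite_stalk hM' x
  haveI := AssSch12.finite_stalk hN' x
  haveI := AssSch12.finite_stalk hQ x
  haveI : Nontrivial ((cokernel φ).presheaf.stalk x) :=
    (AssSch12.mem_support_iff _).1 (AssSch12.mem_support_of_ass _ hx)
  have hdep : ∀ (P : Type u) [AddCommGroup P] [Module (X.presheaf.stalk x) P] [Module.Finite (X.presheaf.stalk x) P]
      [Module.Free (X.presheaf.stalk x) P], (2 : ℕ∞) ≤ LocCoh.depth (X.presheaf.stalk x) P := by
    intro P _ _ _ _
    rcases subsingleton_or_nontrivial P with hP | hP
    · rw [CAlgH3.depth_eq_top_of_subsingleton]; exact le_top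
    · rw [(CAlgH3.depth_free _).trans CAlgH3.depth_eq_spanFinrank]
      exact_mod_cast h1
  have h2 := (LocCoh.idealDepth_shortExact (IsLocalRing.maximalIdeal (X.presheaf.stalk x)) (M.presheaf.stalk x)
    (N.presheaf.stalk x) ((cokernel φ).presheaf.stalk x) f g hf hg hex).2.1
  change min (LocCoh.depth (X.presheaf.stalk x) (N.presheaf.stalk x))
    (LocCoh.depth (X.presheaf.stalk x) (M.presheaf.stalk x) - 1) ≤ _ at h2
  have h3 : (1 : ℕ∞) ≤ LocCoh.depth (X.presheaf.stalk x) ((cokernel φ).presheaf.stalk x) := by
    refine le_trans (le_min (le_trans (by decide) (hdep (N.presheaf.stalk x))) ?_) h2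
    exact le_trans (by decide) (tsub_le_tsub_right (hdep (M.presheaf.stalk x)) 1)
  exact (CommAlg6.one_le_depth_iff _).1 h3 hx

end Groth.Agent.S15071
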