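import Groth.Statements.S15073
import Groth.Agent.OrdSurf29.Free
-- import your own Groth.Agent.* helpers here

set_option autoImplicit false
universe u
open CategoryTheory AlgebraicGeometry TopologicalSpace Opposite
open OrdSurf

namespace Groth.Agent.S15073

/-- Let X be a scheme, A a sheaf of rings on X (not necessarily commutative) and φ : O_X → A a morphism
of sheaves of rings with central image, such that A regarded as an O_X-module through φ is flat (all
stalks flat over the local rings). Then for every sheaf of A-modules M there exist a sheaf of
A-modules F, flat as an O_X-module through φ, and an epimorphism of A-modules F → M. (The published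
statement is for a maximal order on a smooth projective surface, which is locally free over O_X; the
argument uses only that A is flat over O_X, and the row is stated for any scheme and any such sheaf
of algebras.) -/
theorem result (X : Scheme.{u})
    (A : Sheaf (Opens.grothendieckTopology X) RingCat.{u}) (φ : X.ringCatSheaf ⟶ A)
    (hcen : ∀ (U : (Opens X)ᵒᵖ) (s : X.ringCatSheaf.obj.obj U) (a : A.obj.obj U),
      φ.hom.app U s * a = a * φ.hom.app U s)
    (hA : FlatMod.IsFlat (X := X) ((SheafOfModules.restrictScalars φ).obj (SheafOfModules.unit A)))
    (M : SheafOfModules.{u} A) :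
    ∃ (F : SheafOfModules.{u} A) (π : F ⟶ M), Epi π ∧
      FlatMod.IsFlat (X := X) ((SheafOfModules.restrictScalars φ).obj F) := by
  exact ⟨Groth.Agent.OrdSurf29.flatCover M, Groth.Agent.OrdSurf29.flatCoverπ M,
    Groth.Agent.OrdSurf29.epi_flatCoverπ M, Groth.Agent.OrdSurf29.isFlat_flatCover M φ hcen hA⟩

end Groth.Agent.S15073
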