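import Groth.Statements.S15075
import Groth.Agent.TF7.Basic
import Groth.Agent.TorShLib.Basic

set_option autoImplicit false
universe u
open CategoryTheory CategoryTheory.Limits AlgebraicGeometry TopologicalSpace Opposite
open OrdSurf

set_option backward.isDefEq.respectTransparency false
set_option backward.isDefEq.respectTransparency.types false
open Groth.Agent TopologicalSpace Opposite

namespace Groth.Agent.S15075

/-- Let k be an algebraically closed field of characteristic zero and X a smooth projective surface over
k (an integral k-scheme, smooth over k, of dimension two, admitting a closed immersion over k into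
some projective space P^n_k), with generic point η. Let A be a sheaf of rings on X with a morphism φ
: O_X → A of sheaves of rings with central image (a sheaf of O_X-algebras) whose generic stalk A_η
is a division ring, i.e. simple as a left module over itself. Let M and N be sheaves of A-modules
whose underlying O_X-modules (through φ) are coherent with torsion-free stalks, and whose generic
stalks M_η and N_η are simple A_η-modules (one-dimensional over the division ring A_η). Then every
nonzero morphism of sheaves of A-modules M → N is a monomorphism. (The published statement takes A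
to be an order on X — coherent and torsion-free over O_X with A_η a central division algebra over
k(X) — and M, N torsion-free A-modules of rank one; of these hypotheses only the ones listed are
assumed here, the others playing no role in the argument.) -/
theorem result (k : Type u) [Field k] [IsAlgClosed k] [CharZero k]
    (X : Scheme.{u}) [X.Over (Spec (CommRingCat.of k))] [IsIntegral X]
    [Smooth (X ↘ Spec (CommRingCat.of k))] (hdim : topologicalKrullDim X = 2)
    (hproj : ∃ (n : ℕ) (ι : X ⟶ CohB1.ProjSpace n k), IsClosedImmersion ι ∧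
      ι ≫ CohB1.ProjSpace.toSpec n k = X ↘ Spec (CommRingCat.of k))
    (A : Sheaf (Opens.grothendieckTopology X) RingCat.{u}) (φ : X.ringCatSheaf ⟶ A)
    (hcen : ∀ (U : (Opens X)ᵒᵖ) (s : X.ringCatSheaf.obj.obj U) (a : A.obj.obj U),
      φ.hom.app U s * a = a * φ.hom.app U s)
    (hAη : IsSimpleModule (↑(TopCat.Presheaf.stalk (C := RingCat.{u}) (X := X.carrier) A.obj (genericPoint X))) (↑(TopCat.Presheaf.stalk (C := RingCat.{u}) (X := X.carrier) A.obj (genericPoint X))))
    (M N : SheafOfModules.{u} A)
    (hMc : Coh.IsCoh (X := X) ((SheafOfModules.restrictScalars φ).obj M))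
    (hNc : Coh.IsCoh (X := X) ((SheafOfModules.restrictScalars φ).obj N))
    (hMt : TorSh.IsTorsionFree (X := X) ((SheafOfModules.restrictScalars φ).obj M))
    (hNt : TorSh.IsTorsionFree (X := X) ((SheafOfModules.restrictScalars φ).obj N))
    (hMη : IsSimpleModule (↑(TopCat.Presheaf.stalk (C := RingCat.{u}) (X := X.carrier) A.obj (genericPoint X))) (↑(TopCat.Presheaf.stalk (C := Ab.{u}) (X := X.carrier) M.val.presheaf (genericPoint X))))
    (hNη : IsSimpleModule (↑(TopCat.Presheaf.stalk (C := RingCat.{u}) (X := X.carrier) A.obj (genericPoint X))) (↑(TopCat.Presheaf.stalk (C := Ab.{u}) (X := X.carrier) N.val.presheaf (genericPoint X))))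
    (ψ : M ⟶ N) (hψ : ψ ≠ 0) : Mono ψ := by
  haveI : IsLocallyNoetherian X := LocallyOfFiniteType.isLocallyNoetherian (X ↘ Spec (CommRingCat.of k))
  let η := genericPoint X
  -- generic germs detect sections
  have key : ∀ (F : SheafOfModules.{u} A), Coh.IsQCoh (X := X) ((SheafOfModules.restrictScalars φ).obj F) →
      TorSh.IsTorsionFree (X := X) ((SheafOfModules.restrictScalars φ).obj F) →
      ∀ (U : X.Opens) (s : F.val.obj (op U)),
        (∀ hU : η ∈ U, TopCat.Presheaf.germ F.val.presheaf U η hU s = 0) → s = 0 := by
    intro F hq ht U s hs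
    let F₀ : X.Modules := (SheafOfModules.restrictScalars φ).obj F
    refine TorShLib.sec_ext F₀ (V := U) s fun x hx => ?_
    refine TF7.eq_zero_of_generic (G := F₀) hq ht _ fun ξ hξ hξx => ?_
    rw [genericPoints_eq_singleton, Set.mem_singleton_iff] at hξ
    obtain rfl : ξ = η := hξ
    show (TopCat.Presheaf.stalkSpecializes F.val.presheaf hξx) (TopCat.Presheaf.germ F.val.presheaf U x hx s) = 0
    rw [TopCat.Presheaf.germ_stalkSpecializes_apply]
    exact hs _
  let Aη := TopCat.Presheaf.stalk (C := RingCat.{u}) (X := X.carrier) A.obj η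
  let ψp := (PresheafOfModules.toPresheaf A.obj).map ψ.val
  let ψη := (TopCat.Presheaf.stalkFunctor Ab.{u} η).map ψp
  have hψη : ∀ (U : X.Opens) (hU : η ∈ U) (m : M.val.obj (op U)),
      ψη (TopCat.Presheaf.germ M.val.presheaf U η hU m) =
        TopCat.Presheaf.germ N.val.presheaf U η hU ((ψ.val.app (op U)).hom m) :=
    fun U hU m => TopCat.Presheaf.stalkFunctor_map_germ_apply U η hU ψp m
  have hlin : ∀ (r : Aη) (z : TopCat.Presheaf.stalk (C := Ab.{u}) (X := X.carrier) M.val.presheaf η),
      ψη z = 0 → ψη (r • z) = 0 := by
    intro r z hz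
    obtain ⟨U, hU, m, rfl⟩ := TopCat.Presheaf.exists_germ_eq M.val.presheaf z
    obtain ⟨V, hV, a, rfl⟩ := TopCat.Presheaf.exists_germ_eq A.obj r
    let W : X.Opens := U ⊓ V
    have hW : η ∈ W := ⟨hU, hV⟩
    rw [← TopCat.Presheaf.germ_res_apply M.val.presheaf (homOfLE inf_le_left : W ⟶ U) η hW m] at hz ⊢
    rw [← TopCat.Presheaf.germ_res_apply A.obj (homOfLE inf_le_right : W ⟶ V) η hW a]
    erw [hψη] at hz
    erw [← PresheafOfModules.germ_ringCat_smul, hψη, map_smul, PresheafOfModules.germ_ringCat_smul, hz, smul_zero]
  let K : Submodule Aη (TopCat.Presheaf.stalk (C := Ab.{u}) (X := X.carrier) M.val.presheaf η) :=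
    { carrier := {z | ψη z = 0}
      add_mem' := fun {a b} ha hb => by simp only [Set.mem_setOf_eq, map_add] at *; rw [ha, hb, add_zero]
      zero_mem' := map_zero ψη.hom
      smul_mem' := fun r z hz => hlin r z hz }
  haveI := hMη
  have hK : K = ⊥ := by
    refine (IsSimpleOrder.eq_bot_or_eq_top K).resolve_right fun htop => hψ ?_
    refine SheafOfModules.Hom.ext (PresheafOfModules.hom_ext fun U => ?_)
    ext m
    refine key N hNc.1 hNt U.unop _ fun hU => ?_
    erw [← hψη U.unop hU m]
    exact (htop ▸ Submodule.mem_top : TopCat.Presheaf.germ M.val.presheaf U.unop η hU m ∈ K)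
  haveI : Mono ψ.val := by
    rw [PresheafOfModules.mono_iff_surjective]
    intro U
    refine (injective_iff_map_eq_zero _).2 fun m hm => key M hMc.1 hMt U.unop m fun hU => ?_
    have h1 : TopCat.Presheaf.germ M.val.presheaf U.unop η hU m ∈ K := by
      show ψη _ = 0
      erw [hψη, hm, map_zero]
    rwa [hK, Submodule.mem_bot] at h1
  exact Functor.mono_of_mono_map (SheafOfModules.forget A) ‹Mono ψ.val›

end Groth.Agent.S15075
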