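import Groth.Statements.S15076
import Groth.Agent.RefHullLib.LowDim
import Groth.Agent.AssSch12.Primary
import Groth.Agent.Coherent.CohBC.HomSheaf

set_option autoImplicit false
universe u
open CategoryTheory CategoryTheory.Limits AlgebraicGeometry TopologicalSpace Opposite
open OrdSurf

set_option backward.isDefEq.respectTransparency false
set_option backward.isDefEq.respectTransparency.types false
open Groth.Agent TopologicalSpace Opposite

namespace Groth.Agent.S15076

section
set_option maxHeartbeats 800000
variable {X : Scheme.{u}} {A : Sheaf (Opens.grothendieckTopology X) RingCat.{u}} (φ : X.ringCatSheaf ⟶ A) (x : X)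

variable (A) in
/-- the stalk ring -/
noncomputable abbrev Ax := TopCat.Presheaf.stalk (C := RingCat.{u}) (X := X.carrier) A.obj x

/-- the stalk module -/
noncomputable abbrev Stk (F : SheafOfModules.{u} A) := TopCat.Presheaf.stalk (C := Ab.{u}) (X := X.carrier) F.val.presheaf x

/-- the restricted module -/
noncomputable abbrev res (F : SheafOfModules.{u} A) : X.Modules := (SheafOfModules.restrictScalars φ).obj F

theorem germ_smul_eq (F : SheafOfModules.{u} A) {U : X.Opens} (hU : x ∈ U) (s : Γ(X, U)) (z : Stk x F) :
    (X.presheaf.germ U x hU s • (show (res φ F).presheaf.stalk x from z) : (res φ F).presheaf.stalk x) =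
      (show (Ax A x) from TopCat.Presheaf.germ A.obj U x hU (φ.hom.app (op U) s)) • z := by
  obtain ⟨V, hV, m, rfl⟩ := TopCat.Presheaf.exists_germ_eq F.val.presheaf z
  let W : X.Opens := U ⊓ V
  have hW : x ∈ W := ⟨hU, hV⟩
  have hs' := TopCat.Presheaf.germ_res_apply X.presheaf (homOfLE inf_le_left : W ⟶ U) x hW s
  have ha' := TopCat.Presheaf.germ_res_apply A.obj (homOfLE inf_le_left : W ⟶ U) x hW (φ.hom.app (op U) s)
  have hm' := TopCat.Presheaf.germ_res_apply F.val.presheaf (homOfLE inf_le_right : W ⟶ V) x hW m
  let s' : Γ(X, W) := X.presheaf.map (homOfLE inf_le_left : W ⟶ U).op s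
  let m' : F.val.obj (op W) := F.val.map (homOfLE inf_le_right : W ⟶ V).op m
  have hφ : A.obj.map (homOfLE inf_le_left : W ⟶ U).op (φ.hom.app (op U) s) = φ.hom.app (op W) s' :=
    (NatTrans.naturality_apply φ.hom _ s).symm
  have h1 := QCohLoc.germ_smul' (M := res φ F) hW s' m'
  have h2 := PresheafOfModules.germ_ringCat_smul F.val x W hW (φ.hom.app (op W) s') m'
  rw [← hs', ← ha', hφ, ← hm']
  exact h1.symm.trans h2

/-- linear maps over the stalk algebra are linear over the local ring -/
noncomputable def resLin (F G : SheafOfModules.{u} A) (f : (Stk x F) →ₗ[(Ax A x)] (Stk x G)) :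
    (res φ F).presheaf.stalk x →ₗ[X.presheaf.stalk x] (res φ G).presheaf.stalk x where
  toFun z := f z
  map_add' a b := f.map_add a b
  map_smul' r z := by
    obtain ⟨U, hU, s, rfl⟩ := X.presheaf.exists_germ_eq r
    rw [RingHom.id_apply]
    erw [germ_smul_eq φ x F hU s z, f.map_smul, ← germ_smul_eq φ x G hU s (f z)]

/-- the stalk of the unit is free of rank one -/
theorem exists_linearEquiv_unit :
    ∃ e : (Ax A x) ≃ₗ[(Ax A x)] (Stk x (SheafOfModules.unit A)), True := by
  let one : Stk x (SheafOfModules.unit A) := TopCat.Presheaf.germ (SheafOfModules.unit A).val.presheaf ⊤ x trivial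
    (show A.obj.obj (op ⊤) from 1)
  refine ⟨LinearEquiv.ofBijective (LinearMap.toSpanSingleton (Ax A x) _ one) ⟨?_, ?_⟩, trivial⟩
  · refine (injective_iff_map_eq_zero _).2 fun a ha => ?_
    obtain ⟨U, hU, u, rfl⟩ := TopCat.Presheaf.exists_germ_eq A.obj a
    have h1 : TopCat.Presheaf.germ (SheafOfModules.unit A).val.presheaf U x hU u = 0 := by
      rw [← ha, LinearMap.toSpanSingleton_apply]
      simp only [one]
      rw [← TopCat.Presheaf.germ_res_apply (SheafOfModules.unit A).val.presheaf (homOfLE le_top : U ⟶ ⊤) x hU]
      erw [← PresheafOfModules.germ_ringCat_smul]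
      congr 1
      show u = u * A.obj.map _ 1
      rw [map_one, mul_one]
    obtain ⟨W, hW, i, j, e⟩ := TopCat.Presheaf.germ_eq (SheafOfModules.unit A).val.presheaf x hU hU u 0
      (h1.trans (map_zero _).symm)
    rw [← TopCat.Presheaf.germ_res_apply A.obj i x hW u]
    have e' : A.obj.map i.op u = 0 := e.trans (map_zero _)
    rw [e', map_zero]
  · intro z
    obtain ⟨U, hU, u, rfl⟩ := TopCat.Presheaf.exists_germ_eq (SheafOfModules.unit A).val.presheaf z
    refine ⟨TopCat.Presheaf.germ A.obj U x hU u, ?_⟩
    rw [LinearMap.toSpanSingleton_apply]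
    simp only [one]
    rw [← TopCat.Presheaf.germ_res_apply (SheafOfModules.unit A).val.presheaf (homOfLE le_top : U ⟶ ⊤) x hU]
    erw [← PresheafOfModules.germ_ringCat_smul]
    congr 1
    show (show A.obj.obj (op U) from u) * A.obj.map (homOfLE le_top : U ⟶ ⊤).op (1 : A.obj.obj (op ⊤)) = u
    rw [map_one, mul_one]

end

/-- Let k be an algebraically closed field of characteristic zero and X a smooth projective surface over
k (an integral k-scheme, smooth over k, of dimension two, admitting a closed immersion over k into
some projective space P^n_k). Let A be a sheaf of rings on X with a morphism φ : O_X → A of sheaves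
of rings with central image (a sheaf of O_X-algebras) such that A is finite locally free as an
O_X-module through φ. Let M be a sheaf of A-modules whose underlying O_X-module is coherent and
which is locally projective over A in the sense that every stalk M_x is a projective module over the
stalk A_x. Then the underlying O_X-module of M is finite locally free. (The published statement
takes A to be a maximal order on X, which is locally free of finite rank; only that consequence is
assumed here, together with the stalkwise reading of local projectivity.) -/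
theorem result (k : Type u) [Field k] [IsAlgClosed k] [CharZero k]
    (X : Scheme.{u}) [X.Over (Spec (CommRingCat.of k))] [IsIntegral X]
    [Smooth (X ↘ Spec (CommRingCat.of k))] (hdim : topologicalKrullDim X = 2)
    (hproj : ∃ (n : ℕ) (ι : X ⟶ CohB1.ProjSpace n k), IsClosedImmersion ι ∧
      ι ≫ CohB1.ProjSpace.toSpec n k = X ↘ Spec (CommRingCat.of k))
    (A : Sheaf (Opens.grothendieckTopology X) RingCat.{u}) (φ : X.ringCatSheaf ⟶ A)
    (hcen : ∀ (U : (Opens X)ᵒᵖ) (s : X.ringCatSheaf.obj.obj U) (a : A.obj.obj U),
      φ.hom.app U s * a = a * φ.hom.app U s)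
    (hA : FlatMod.IsFinLocFree (X := X) ((SheafOfModules.restrictScalars φ).obj (SheafOfModules.unit A)))
    (M : SheafOfModules.{u} A)
    (hMc : Coh.IsCoh (X := X) ((SheafOfModules.restrictScalars φ).obj M))
    (hMp : ∀ x : X, Module.Projective ↑(TopCat.Presheaf.stalk (C := RingCat.{u}) (X := X.carrier) A.obj x)
      ↑(TopCat.Presheaf.stalk (C := Ab.{u}) (X := X.carrier) M.val.presheaf x)) :
    FlatMod.IsFinLocFree (X := X) ((SheafOfModules.restrictScalars φ).obj M) := by
  haveI : IsLocallyNoetherian X := LocallyOfFiniteType.isLocallyNoetherian (X ↘ Spec (CommRingCat.of k))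
  haveI : Coh.IsQCoh (res φ M) := hMc.1
  haveI := (Groth.Agent.Coherent.CohBC.isCoh_of_isFinLocFree hA).1
  refine (RefHullLib.isFinLocFree_iff_free_stalks hMc).2 fun x => ?_
  let O := X.presheaf.stalk x
  let U := SheafOfModules.unit A
  let PA := TopCat.Presheaf.stalk (C := Ab.{u}) (X := X.carrier) M.val.presheaf x
  let P := (res φ M).presheaf.stalk x
  let Q := (res φ U).presheaf.stalk x
  haveI : Module.Free O Q := Props12.free_stalk_of_isFinLocFree _ hA x
  haveI : Module.Finite O P := AssSch12.finite_stalk hMc x
  obtain ⟨e, -⟩ := exists_linearEquiv_unit (A := A) x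
  haveI := hMp x
  obtain ⟨s, hs⟩ := (Module.projective_def (R := TopCat.Presheaf.stalk (C := RingCat.{u}) (X := X.carrier) A.obj x)
    (P := PA)).1 inferInstance
  -- coordinates and evaluation, over the local ring
  let c : PA → (P →ₗ[O] Q) := fun p =>
    resLin φ x M U (e.toLinearMap.comp ((Finsupp.lapply p).comp s))
  let ev : PA → (Q →ₗ[O] P) := fun p =>
    resLin φ x U M ((LinearMap.toSpanSingleton _ PA p).comp e.symm.toLinearMap)
  have hfin : ∀ z : P, (Function.support fun p => c p z).Finite := fun z =>
    ((s z).support.finite_toSet).subset fun p hp => Finsupp.mem_support_iff.2 fun h0 => hp (by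
      show e ((s z) p) = 0
      rw [h0, map_zero])
  let i : P →ₗ[O] (PA →₀ Q) :=
    { toFun := fun z => Finsupp.ofSupportFinite (fun p => c p z) (hfin z)
      map_add' := fun a b => Finsupp.ext fun p => (c p).map_add a b
      map_smul' := fun r a => Finsupp.ext fun p => (c p).map_smul r a }
  let π : (PA →₀ Q) →ₗ[O] P := Finsupp.lsum ℕ ev
  haveI : Module.Projective O P := by
    refine Module.Projective.of_split i π ?_
    ext z
    rw [LinearMap.comp_apply, LinearMap.id_apply]
    have h1 : π (i z) = ∑ p ∈ (s z).support, ev p (c p z) := by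
      rw [Finsupp.lsum_apply, Finsupp.sum_of_support_subset (i z) (s := (s z).support)]
      · rfl
      · intro p hp
        rw [Finsupp.mem_support_iff] at hp ⊢
        intro h0
        apply hp
        show e ((s z) p) = 0
        rw [h0, map_zero]
      · intro p _
        exact map_zero _
    rw [h1]
    have h2 : ∀ p, ev p (c p z) = (s z p) • p := fun p => by
      show (e.symm (e (s z p))) • p = _
      rw [LinearEquiv.symm_apply_apply]
    calc ∑ p ∈ (s z).support, ev p (c p z) = ∑ p ∈ (s z).support, (show P from (s z p) • p) :=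
          Finset.sum_congr rfl fun p _ => h2 p
      _ = z := hs z
  exact Module.free_of_flat_of_isLocalRing

end Groth.Agent.S15076
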