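import Groth.Statements.S15077
import Groth.Agent.EulerLib.InvClass
import Groth.Agent.CycLib28.PB.ChernLine
import Groth.Agent.ASBun8.Simple
import Groth.Agent.KNil8.Basic
import Groth.Agent.Clifford24.RankTwoSub
import Groth.Agent.Coherent.ProjSpaceFinite
-- import your own Groth.Agent.* helpers here

set_option autoImplicit false
set_option backward.isDefEq.respectTransparency false
set_option backward.isDefEq.respectTransparency.types false
set_option linter.style.haveILetI false
universe u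
open CategoryTheory CategoryTheory.Limits AlgebraicGeometry
open OrdSurf

namespace Groth.Agent.S15077

open Groth.Agent Groth.Agent.AmpleLib Groth.Agent.EulerLib Groth.Agent.PicLib

/-- Exchange of the first two summands. -/
noncomputable def swap {X : Scheme.{u}} (a b c : X.Modules) : a ⊞ b ⊞ c ≅ b ⊞ a ⊞ c :=
  (biprod.associator a b c).symm ≪≫ biprod.mapIso (biprod.braiding a b) (Iso.refl c) ≪≫ biprod.associator b a c

/-- Distributivity of a tensor product over a sum. -/
noncomputable def distrib {X : Scheme.{u}} (L a b : X.Modules) :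
    CohB1.tensorMod (a ⊞ b) L ≅ CohB1.tensorMod a L ⊞ CohB1.tensorMod b L :=
  haveI : PreservesBinaryBiproducts ((DCoh.tensorBi (X := X)).flip.obj L) := preservesBinaryBiproducts_of_preservesBiproducts _
  ((DCoh.tensorBi (X := X)).flip.obj L).mapBiprod a b

/-- Let k be an algebraically closed field of characteristic zero and X a smooth projective surface over
k (an integral k-scheme, smooth over k, of dimension two, admitting a closed immersion over k into
some projective space P^n_k). Let I and J be invertible O_X-modules that are two-torsion, I ⊗ I ≅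
O_X and J ⊗ J ≅ O_X, let K = I ⊗ J, and let F = O_X ⊕ I ⊕ J ⊕ K (so that O_X, I, J, K form a Klein
four-group of classes in Pic X when I, J, K are nontrivial and distinct). Then for every invertible
O_X-module L, the O_X-modules F ⊗ L and F are isomorphic if and only if L is isomorphic to one of
O_X, I, J, K. (The published statement is for the abelian surface E_1 × E_2, with I and J pulled
back from two-torsion line bundles on the two elliptic curves and F the underlying module of the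
quaternion algebra built from them; this row is stated on any smooth projective surface for any
two-torsion invertible I and J.) -/
theorem result (k : Type u) [Field k] [IsAlgClosed k] [CharZero k]
    (X : Scheme.{u}) [X.Over (Spec (CommRingCat.of k))] [IsIntegral X]
    [Smooth (X ↘ Spec (CommRingCat.of k))] (hdim : topologicalKrullDim X = 2)
    (hproj : ∃ (n : ℕ) (ι : X ⟶ CohB1.ProjSpace n k), IsClosedImmersion ι ∧
      ι ≫ CohB1.ProjSpace.toSpec n k = X ↘ Spec (CommRingCat.of k))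
    (I J : X.Modules) (hI : PicF.IsInvertible I) (hJ : PicF.IsInvertible J)
    (hI2 : Nonempty (CohB1.tensorMod I I ≅ Coh.structureModule X))
    (hJ2 : Nonempty (CohB1.tensorMod J J ≅ Coh.structureModule X))
    (L : X.Modules) (hL : PicF.IsInvertible L) :
    Nonempty (CohB1.tensorMod (Coh.structureModule X ⊞ I ⊞ J ⊞ CohB1.tensorMod I J) L ≅
        Coh.structureModule X ⊞ I ⊞ J ⊞ CohB1.tensorMod I J) ↔
      (Nonempty (L ≅ Coh.structureModule X) ∨ Nonempty (L ≅ I) ∨ Nonempty (L ≅ J) ∨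
        Nonempty (L ≅ CohB1.tensorMod I J)) := by
  let O := Coh.structureModule X
  let K := CohB1.tensorMod I J
  have hO : PicF.IsInvertible O := isInvertible_structureModule
  have hK : PicF.IsInvertible K := isInvertible_tensorMod hI hJ
  obtain ⟨eI⟩ := hI2
  obtain ⟨eJ⟩ := hJ2
  constructor
  · rintro ⟨e⟩
    obtain ⟨n, ι, _, hι⟩ := hproj
    haveI : IsProper (CohB1.ProjSpace.toSpec n k) := Coherent.isProper_projSpace_toSpec n k
    haveI : IsProper (X ↘ Spec (CommRingCat.of k)) := by rw [← hι]; infer_instance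
    let u := AmpleLib.unitTensorIso L
    let a : L ⟶ O ⊞ I ⊞ J ⊞ K :=
      u.inv ≫ biprod.inl ≫ (distrib L O (I ⊞ J ⊞ K)).inv ≫ e.hom
    let b : (O ⊞ I ⊞ J ⊞ K) ⟶ L :=
      e.inv ≫ (distrib L O (I ⊞ J ⊞ K)).hom ≫ biprod.fst ≫ u.hom
    have hab : a ≫ b = 𝟙 L := by
      simp only [a, b, Category.assoc, Iso.hom_inv_id_assoc, Iso.inv_hom_id_assoc]
      rw [biprod.inl_fst_assoc, Iso.inv_hom_id]
    have key : ∀ (M : X.Modules), PicF.IsInvertible M → ∀ (x : L ⟶ M) (y : M ⟶ L), x ≫ y ≠ 0 → Nonempty (L ≅ M) := by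
      intro M hM x y hxy
      obtain ⟨c, hc⟩ := ASBun8.exists_smul_id k hL (x ≫ y)
      have hc0 : c ≠ 0 := fun h => hxy (by rw [hc, h, zero_smul])
      haveI : Epi y := by
        haveI : IsSplitEpi y := ⟨⟨c⁻¹ • x, by rw [Linear.smul_comp, hc, smul_smul, inv_mul_cancel₀ hc0, one_smul]⟩⟩
        infer_instance
      haveI := CycLib28.PB.isIso_of_epi_invertible hM hL y
      exact ⟨(asIso y).symm⟩
    have h0 : 𝟙 L ≠ 0 := fun h => by
      exact Clifford24.not_isZero_of_isInvertible hL ((IsZero.iff_id_eq_zero _).2 h)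
    by_contra hn
    simp only [not_or] at hn
    have hz : ∀ (M : X.Modules), PicF.IsInvertible M → ¬ Nonempty (L ≅ M) → ∀ (x : L ⟶ M) (y : M ⟶ L), x ≫ y = 0 :=
      fun M hM hno x y => by
        by_contra h
        exact hno (key M hM x y h)
    have h1 := hz O hO hn.1 (a ≫ biprod.fst) (biprod.inl ≫ b)
    have h2 := hz I hI hn.2.1 (a ≫ biprod.snd ≫ biprod.fst) (biprod.inl ≫ biprod.inr ≫ b)
    have h3 := hz J hJ hn.2.2.1 (a ≫ biprod.snd ≫ biprod.snd ≫ biprod.fst) (biprod.inl ≫ biprod.inr ≫ biprod.inr ≫ b)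
    have h4 := hz K hK hn.2.2.2 (a ≫ biprod.snd ≫ biprod.snd ≫ biprod.snd) (biprod.inr ≫ biprod.inr ≫ biprod.inr ≫ b)
    refine h0 ?_
    have ht1 : ∀ (P Q : X.Modules) {T : X.Modules} (φ : P ⊞ Q ⟶ T),
        φ = biprod.fst ≫ biprod.inl ≫ φ + biprod.snd ≫ biprod.inr ≫ φ := fun P Q T φ => by
      rw [← Category.assoc, ← Category.assoc, ← Preadditive.add_comp, biprod.total, Category.id_comp]
    rw [← hab, ht1 _ _ b, ht1 _ _ (biprod.inr ≫ b), ht1 _ _ (biprod.inr ≫ biprod.inr ≫ b)]
    simp only [Category.assoc] at h1 h2 h3 h4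
    simp only [Preadditive.comp_add, h1, h2, h3, h4, add_zero]
  · intro h
    let c := fun (M : X.Modules) (hM : PicF.IsInvertible M) => InvCl.mk M hM
    have iso : ∀ {M N : X.Modules} (hM : PicF.IsInvertible M) (hN : PicF.IsInvertible N),
        c M hM = c N hN → Nonempty (M ≅ N) := fun _ _ h => Quotient.exact h
    have cII : c I hI * c I hI = 1 := InvCl.mk_eq (isInvertible_tensorMod hI hI) hO eI
    have cJJ : c J hJ * c J hJ = 1 := InvCl.mk_eq (isInvertible_tensorMod hJ hJ) hO eJ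
    have cK : c K hK = c I hI * c J hJ := rfl
    have mk : ∀ {M P : X.Modules} (hM : PicF.IsInvertible M) (hP : PicF.IsInvertible P),
        c M hM * c L hL = c P hP → Nonempty (CohB1.tensorMod M L ≅ P) := fun hM hP h =>
      iso (isInvertible_tensorMod hM hL) hP h
    let D : CohB1.tensorMod (O ⊞ I ⊞ J ⊞ K) L ≅
        CohB1.tensorMod O L ⊞ CohB1.tensorMod I L ⊞ CohB1.tensorMod J L ⊞ CohB1.tensorMod K L :=
      distrib L O _ ≪≫ biprod.mapIso (Iso.refl _) (distrib L I _ ≪≫ biprod.mapIso (Iso.refl _) (distrib L J K))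
    rcases h with ⟨⟨eL⟩⟩ | ⟨⟨eL⟩⟩ | ⟨⟨eL⟩⟩ | ⟨⟨eL⟩⟩
    · have hc : c L hL = 1 := InvCl.mk_eq hL hO eL
      obtain ⟨e1⟩ := mk hO hO (by rw [hc, mul_one])
      obtain ⟨e2⟩ := mk hI hI (by rw [hc, mul_one])
      obtain ⟨e3⟩ := mk hJ hJ (by rw [hc, mul_one])
      obtain ⟨e4⟩ := mk hK hK (by rw [hc, mul_one])
      exact ⟨D ≪≫ biprod.mapIso e1 (biprod.mapIso e2 (biprod.mapIso e3 e4))⟩
    · have hc : c L hL = c I hI := InvCl.mk_eq hL hI eL
      obtain ⟨e1⟩ := mk hO hI (by rw [hc]; exact one_mul _)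
      obtain ⟨e2⟩ := mk hI hO (by rw [hc, cII]; rfl)
      obtain ⟨e3⟩ := mk hJ hK (by rw [hc, cK, mul_comm])
      obtain ⟨e4⟩ := mk hK hJ (by rw [hc, cK, mul_comm, ← mul_assoc, cII, one_mul])
      exact ⟨D ≪≫ biprod.mapIso e1 (biprod.mapIso e2 (biprod.mapIso e3 e4 ≪≫ biprod.braiding _ _)) ≪≫ swap _ _ _⟩
    · have hc : c L hL = c J hJ := InvCl.mk_eq hL hJ eL
      obtain ⟨e1⟩ := mk hO hJ (by rw [hc]; exact one_mul _)
      obtain ⟨e2⟩ := mk hI hK (by rw [hc, cK])
      obtain ⟨e3⟩ := mk hJ hO (by rw [hc, cJJ]; rfl)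
      obtain ⟨e4⟩ := mk hK hI (by rw [hc, cK, mul_assoc, cJJ, mul_one])
      -- J, K, O, I
      exact ⟨D ≪≫ biprod.mapIso e1 (biprod.mapIso e2 (biprod.mapIso e3 e4)) ≪≫
        biprod.mapIso (Iso.refl _) (swap _ _ _) ≪≫ swap _ _ _ ≪≫
          biprod.mapIso (Iso.refl _) (biprod.mapIso (Iso.refl _) (biprod.braiding _ _) ≪≫ swap _ _ _)⟩
    · have hc : c L hL = c I hI * c J hJ := InvCl.mk_eq hL hK eL
      obtain ⟨e1⟩ := mk hO hK (by rw [hc, cK]; exact one_mul _)
      obtain ⟨e2⟩ := mk hI hJ (by rw [hc, ← mul_assoc, cII, one_mul])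
      obtain ⟨e3⟩ := mk hJ hI (by rw [hc, mul_comm, mul_assoc, cJJ, mul_one])
      obtain ⟨e4⟩ := mk hK hO (by rw [hc, cK, mul_mul_mul_comm, cII, cJJ, one_mul]; rfl)
      -- K, J, I, O
      exact ⟨D ≪≫ biprod.mapIso e1 (biprod.mapIso e2 (biprod.mapIso e3 e4 ≪≫ biprod.braiding _ _) ≪≫ swap _ _ _) ≪≫
        swap _ _ _ ≪≫ biprod.mapIso (Iso.refl _) (biprod.mapIso (Iso.refl _) (biprod.braiding _ _) ≪≫ swap _ _ _ ≪≫
          biprod.mapIso (Iso.refl _) (biprod.braiding _ _))⟩

end Groth.Agent.S15077
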