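import Groth.Statements.S15078
import Mathlib
-- import your own Groth.Agent.* helpers here

set_option autoImplicit false
universe u v
open MovLem

namespace Groth.Agent.S15078

open Polynomial in
theorem mon {r : ℕ} {K : Type v} [Field K] (g : Fin r → K) (N : ℕ)
    (d : Fin r →₀ ℕ) :
    (∏ i, (Polynomial.C (MvPolynomial.X i : MvPolynomial (Fin r) K) + Polynomial.C (MvPolynomial.C (g i)) * X ^ N) ^ d i).natDegree ≤ N * (∑ i, d i) ∧
    (∏ i, (Polynomial.C (MvPolynomial.X i : MvPolynomial (Fin r) K) + Polynomial.C (MvPolynomial.C (g i)) * X ^ N) ^ d i).coeff (N * (∑ i, d i)) =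
      if N = 0 then (∏ i, (MvPolynomial.X i + MvPolynomial.C (g i)) ^ d i) else MvPolynomial.C (∏ i, g i ^ d i) := by
  suffices ∀ s : Finset (Fin r), (∏ i ∈ s, (Polynomial.C (MvPolynomial.X i : MvPolynomial (Fin r) K) + Polynomial.C (MvPolynomial.C (g i)) * X ^ N) ^ d i).natDegree ≤ N * (∑ i ∈ s, d i) ∧
    (∏ i ∈ s, (Polynomial.C (MvPolynomial.X i : MvPolynomial (Fin r) K) + Polynomial.C (MvPolynomial.C (g i)) * X ^ N) ^ d i).coeff (N * (∑ i ∈ s, d i)) =
      if N = 0 then (∏ i ∈ s, (MvPolynomial.X i + MvPolynomial.C (g i)) ^ d i) else MvPolynomial.C (∏ i ∈ s, g i ^ d i) from this _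
  intro s
  induction s using Finset.induction_on with
  | empty => simp
  | insert a s ha ih =>
    have h1 : (Polynomial.C (MvPolynomial.X a : MvPolynomial (Fin r) K) + Polynomial.C (MvPolynomial.C (g a)) * X ^ N).natDegree ≤ N :=
      (natDegree_add_le _ _).trans (max_le (by simp) (natDegree_C_mul_X_pow_le _ _))
    have h2 : ((Polynomial.C (MvPolynomial.X a : MvPolynomial (Fin r) K) + Polynomial.C (MvPolynomial.C (g a)) * X ^ N) ^ d a).natDegree ≤ N * d a := by
      rw [mul_comm N]; exact natDegree_pow_le.trans (Nat.mul_le_mul_left _ h1)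
    rw [Finset.prod_insert ha, Finset.sum_insert ha, mul_add]
    refine ⟨natDegree_mul_le.trans (add_le_add h2 ih.1), ?_⟩
    rw [coeff_mul_add_eq_of_natDegree_le h2 ih.1, ih.2, mul_comm N (d a), coeff_pow_of_natDegree_le h1,
      Finset.prod_insert ha, Finset.prod_insert ha]
    by_cases hN : N = 0
    · simp [hN, coeff_C]
    · simp [hN, coeff_C]

open Polynomial in
theorem key {k : Type u} [Field k] {r : ℕ} {K : Type v} [Field K] [Algebra k K] (g : Fin r → K) (N : ℕ) (hN : N ≠ 0)
    (c : MvPolynomial (Fin r) k) (e : ℕ) (he : c.totalDegree ≤ e) :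
    (MvPolynomial.aeval (fun i : Fin r => Polynomial.C (MvPolynomial.X i : MvPolynomial (Fin r) K) + Polynomial.C (MvPolynomial.C (g i)) * X ^ N) c).natDegree ≤ N * e ∧
    (MvPolynomial.aeval (fun i : Fin r => Polynomial.C (MvPolynomial.X i : MvPolynomial (Fin r) K) + Polynomial.C (MvPolynomial.C (g i)) * X ^ N) c).coeff (N * e) =
      MvPolynomial.C (MvPolynomial.aeval g (MvPolynomial.homogeneousComponent e c)) := by
  classical
  have hdle : ∀ d ∈ c.support, ∑ i, d i ≤ e := fun d hd => by
    refine le_trans ?_ he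
    have := MvPolynomial.le_totalDegree hd
    rwa [Finsupp.sum_fintype _ _ (fun _ => rfl)] at this
  have hval : ∀ d : Fin r →₀ ℕ, MvPolynomial.aeval (fun i : Fin r => Polynomial.C (MvPolynomial.X i : MvPolynomial (Fin r) K) + Polynomial.C (MvPolynomial.C (g i)) * X ^ N) (MvPolynomial.monomial d (c.coeff d)) =
      Polynomial.C (MvPolynomial.C (algebraMap k K (c.coeff d))) * ∏ i, (Polynomial.C (MvPolynomial.X i : MvPolynomial (Fin r) K) + Polynomial.C (MvPolynomial.C (g i)) * X ^ N) ^ d i := fun d => by
    rw [MvPolynomial.aeval_monomial, Finsupp.prod_fintype _ _ (fun i => pow_zero _)]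
    rfl
  conv_lhs => rw [c.as_sum, map_sum]
  constructor
  · refine natDegree_sum_le_of_forall_le _ _ fun d hd => ?_
    rw [hval]
    exact (natDegree_C_mul_le _ _).trans ((mon g N d).1.trans (Nat.mul_le_mul_left _ (hdle d hd)))
  · conv_lhs => rw [c.as_sum, map_sum]
    rw [finset_sum_coeff, MvPolynomial.homogeneousComponent_apply, map_sum, map_sum, Finset.sum_filter]
    refine Finset.sum_congr rfl fun d hd => ?_
    rw [hval, coeff_C_mul]
    split_ifs with h
    · have hde : ∑ i, d i = e := by rw [← h, Finsupp.degree_eq_sum]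
      rw [← hde, (mon g N d).2, if_neg hN, ← map_mul, MvPolynomial.aeval_monomial, Finsupp.prod_fintype _ _ (fun i => pow_zero _)]
    · have hlt : ∑ i, d i < e := lt_of_le_of_ne (hdle d hd) (fun h' => h (by rw [Finsupp.degree_eq_sum, h']))
      rw [coeff_eq_zero_of_natDegree_lt ((mon g N d).1.trans_lt (Nat.mul_lt_mul_of_pos_left hlt (Nat.pos_of_ne_zero hN))), mul_zero]


/-- Let k be an infinite perfect field, r, m ≥ 1, and let f be a nonzero polynomial in the variable t
with coefficients in the polynomial ring k[x_1, …, x_r]. Then there are a nonzero polynomial h in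
k[x_1, …, x_r] and an integer s₀ such that for every s ≥ s₀, every field K over k and every point g
of K^r with h(g) ≠ 0, the polynomial obtained from f by the substitution x_i ↦ x_i + t^{s(m+1)} g_i,
t ↦ t has as leading coefficient in t a nonzero constant of K; in particular, after dividing by that
constant it is monic in t over K[x_1, …, x_r]. (The published statement asks for a nonempty open
subset of affine r-space over k, independent of s, such that this holds at each of its points g with
residue field K = k(g); the locus h ≠ 0 used here is such an open subset, and every nonempty open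
subset contains one of this form.) -/
theorem result
    {k : Type u} [Field k] [Infinite k] [PerfectField k] (r m : ℕ) (hr : 1 ≤ r) (hm : 1 ≤ m)
    (f : Polynomial (MvPolynomial (Fin r) k)) (hf : f ≠ 0) :
    ∃ h : MvPolynomial (Fin r) k, h ≠ 0 ∧ ∃ s₀ : ℕ, ∀ s : ℕ, s₀ ≤ s →
      ∀ (K : Type v) [Field K] [Algebra k K] (g : Fin r → K), MvPolynomial.aeval g h ≠ 0 →
        ∃ c : K, c ≠ 0 ∧
          (Polynomial.eval₂ (MvPolynomial.aeval (fun i : Fin r => Polynomial.C (MvPolynomial.X i) + Polynomial.C (MvPolynomial.C (g i)) * Polynomial.X ^ (s * (m + 1))) : MvPolynomial (Fin r) k →ₐ[k] Polynomial (MvPolynomial (Fin r) K)).toRingHom Polynomial.X f).leadingCoeff = MvPolynomial.C c := by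
  classical
  obtain ⟨e0, he0, hmax⟩ := Finset.exists_max_image f.support (fun j => ((f.coeff j).totalDegree, j).1) (Polynomial.nonempty_support_iff.2 hf)
  set e := (f.coeff e0).totalDegree with he
  let S := f.support.filter (fun j => (f.coeff j).totalDegree = e)
  have hS : S.Nonempty := ⟨e0, Finset.mem_filter.2 ⟨he0, rfl⟩⟩
  let J := S.max' hS
  have hJ := Finset.mem_filter.1 (S.max'_mem hS)
  refine ⟨MvPolynomial.homogeneousComponent e (f.coeff J), ?_, f.natDegree + 1, fun s hs K _ _ g hg => ?_⟩
  · have hne : f.coeff J ≠ 0 := Polynomial.mem_support_iff.1 hJ.1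
    obtain ⟨d, hd, hde⟩ := Finset.exists_mem_eq_sup _ (MvPolynomial.support_nonempty.2 hne) (fun d : Fin r →₀ ℕ => d.sum fun _ n => n)
    intro h0
    have h1 := congrArg (MvPolynomial.coeff d) h0
    rw [MvPolynomial.coeff_homogeneousComponent, if_pos, MvPolynomial.coeff_zero] at h1
    · exact MvPolynomial.mem_support_iff.1 hd h1
    · rw [← hJ.2, MvPolynomial.totalDegree, hde, Finsupp.degree_eq_sum, Finsupp.sum_fintype _ _ (fun _ => rfl)]
  set N := s * (m + 1) with hN
  have hN' : f.natDegree < N := by
    have : s * 1 ≤ s * (m + 1) := Nat.mul_le_mul_left s (by omega)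
    omega
  refine ⟨_, hg, ?_⟩
  set φ := (MvPolynomial.aeval (fun i : Fin r => Polynomial.C (MvPolynomial.X i : MvPolynomial (Fin r) K) + Polynomial.C (MvPolynomial.C (g i)) * Polynomial.X ^ N) : MvPolynomial (Fin r) k →ₐ[k] Polynomial (MvPolynomial (Fin r) K))
  show (Polynomial.eval₂ φ.toRingHom Polynomial.X f).leadingCoeff = _
  rw [Polynomial.eval₂_eq_sum, Polynomial.sum_def]
  have hterm : ∀ j, (φ.toRingHom (f.coeff j) * Polynomial.X ^ j).natDegree ≤ N * (f.coeff j).totalDegree + j := fun j =>
    Polynomial.natDegree_mul_le.trans (add_le_add (key g N (by omega) _ _ le_rfl).1 (Polynomial.natDegree_X_pow_le _))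
  have hcoeff : (∑ j ∈ f.support, φ.toRingHom (f.coeff j) * Polynomial.X ^ j).coeff (N * e + J) =
      MvPolynomial.C (MvPolynomial.aeval g (MvPolynomial.homogeneousComponent e (f.coeff J))) := by
    rw [Polynomial.finset_sum_coeff, Finset.sum_eq_single J]
    · rw [Polynomial.coeff_mul_X_pow]; exact (key g N (by omega) _ e hJ.2.le).2
    · intro j hj hjJ
      apply Polynomial.coeff_eq_zero_of_natDegree_lt
      refine (hterm j).trans_lt ?_
      rcases (hmax j hj).lt_or_eq with hlt | heq
      · have hlt' : (f.coeff j).totalDegree + 1 ≤ e := hlt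
        have h2 := Nat.mul_le_mul_left N hlt'
        have := Polynomial.le_natDegree_of_mem_supp j hj
        rw [Nat.mul_add, Nat.mul_one] at h2
        omega
      · have heq' : (f.coeff j).totalDegree = e := heq
        have := S.le_max' j (Finset.mem_filter.2 ⟨hj, heq'⟩)
        rw [heq']
        exact Nat.add_lt_add_left (lt_of_le_of_ne this hjJ) _
    · exact fun h => absurd hJ.1 h
  have hne : (∑ j ∈ f.support, φ.toRingHom (f.coeff j) * Polynomial.X ^ j).coeff (N * e + J) ≠ 0 := by
    rw [hcoeff]; exact fun h => hg (MvPolynomial.C_eq_zero.1 h)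
  suffices hle : (∑ j ∈ f.support, φ.toRingHom (f.coeff j) * Polynomial.X ^ j).natDegree ≤ N * e + J by
    rw [Polynomial.leadingCoeff, le_antisymm hle (Polynomial.le_natDegree_of_ne_zero hne), hcoeff]
  refine Polynomial.natDegree_sum_le_of_forall_le _ _ fun j hj => (hterm j).trans ?_
  rcases (hmax j hj).lt_or_eq with hlt | heq
  · have hlt' : (f.coeff j).totalDegree + 1 ≤ e := hlt
    have h2 := Nat.mul_le_mul_left N hlt'
    have := Polynomial.le_natDegree_of_mem_supp j hj
    rw [Nat.mul_add, Nat.mul_one] at h2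
    omega
  · have heq' : (f.coeff j).totalDegree = e := heq
    rw [heq']
    exact Nat.add_le_add_left (S.le_max' j (Finset.mem_filter.2 ⟨hj, heq'⟩)) _

end Groth.Agent.S15078
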