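import Groth.Statements.S15079
import Groth.Agent.S15078
-- import your own Groth.Agent.* helpers here

set_option autoImplicit false
universe u v
open MovLem

namespace Groth.Agent.S15079

/-- Let k be an infinite perfect field, r, m ≥ 1, and let f be an irreducible polynomial in t over
k[x_1, …, x_r] whose constant term in t is a unit of k[x_1, …, x_r], so that the hypersurface Z : f
= 0 in affine (r+1)-space with coordinates x_1, …, x_r, t is integral and does not meet the divisor
t = 0 (the modulus condition in cubical degree one). Then there are a nonzero polynomial h in k[x_1,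
…, x_r] and an integer s₀ such that for every s ≥ s₀, every field K over k and every point g of K^r
with h(g) ≠ 0, the translate of Z_K by the automorphism x_i ↦ x_i + t^{s(m+1)} g_i, t ↦ t is finite
and surjective over affine r-space over K: the quotient of K[x_1, …, x_r][t] by the translated
equation is a finitely generated K[x_1, …, x_r]-module and K[x_1, …, x_r] maps injectively into it.
(The published statement allows every nonzero point g of affine r-space; for r = 2 and f = x_1 t − 1
the point g = (0, 1) translates Z to itself, which is not finite over the affine plane, so the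
conclusion is stated here for g in a nonempty open subset h ≠ 0, which is what the published proof
establishes.) -/
theorem result
    {k : Type u} [Field k] [Infinite k] [PerfectField k] (r m : ℕ) (hr : 1 ≤ r) (hm : 1 ≤ m)
    (f : Polynomial (MvPolynomial (Fin r) k)) (hirr : Irreducible f) (h0 : IsUnit (f.coeff 0)) :
    ∃ h : MvPolynomial (Fin r) k, h ≠ 0 ∧ ∃ s₀ : ℕ, ∀ s : ℕ, s₀ ≤ s →
      ∀ (K : Type v) [Field K] [Algebra k K] (g : Fin r → K), MvPolynomial.aeval g h ≠ 0 →
        ∀ F : Polynomial (MvPolynomial (Fin r) K),
          F = Polynomial.eval₂ (MvPolynomial.aeval (fun i : Fin r => Polynomial.C (MvPolynomial.X i) + Polynomial.C (MvPolynomial.C (g i)) * Polynomial.X ^ (s * (m + 1))) : MvPolynomial (Fin r) k →ₐ[k] Polynomial (MvPolynomial (Fin r) K)).toRingHom Polynomial.X f →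
          Module.Finite (MvPolynomial (Fin r) K) (Polynomial (MvPolynomial (Fin r) K) ⧸ Ideal.span {F}) ∧
          Function.Injective ((Ideal.Quotient.mk (Ideal.span {F})).comp (algebraMap (MvPolynomial (Fin r) K) (Polynomial (MvPolynomial (Fin r) K)))) := by
  have hf0 : f ≠ 0 := hirr.ne_zero
  have hdeg : 0 < f.natDegree := by
    refine Nat.pos_of_ne_zero fun h => hirr.not_isUnit ?_
    rw [Polynomial.eq_C_of_natDegree_eq_zero h]
    exact h0.map _
  obtain ⟨h, hh, s₀, H⟩ := Groth.Agent.S15078.result.{u, v} r m hr hm f hf0
  refine ⟨h, hh, s₀, fun s hs K _ _ g hg F hF => ?_⟩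
  obtain ⟨c, hc, hlc⟩ := H s hs K g hg
  rw [← hF] at hlc
  set N := s * (m + 1)
  let ψ : Polynomial (MvPolynomial (Fin r) K) →+* Polynomial (MvPolynomial (Fin r) K) :=
    Polynomial.eval₂RingHom (MvPolynomial.aeval (fun i : Fin r => Polynomial.C (MvPolynomial.X i) - Polynomial.C (MvPolynomial.C (g i)) * Polynomial.X ^ N) : MvPolynomial (Fin r) K →ₐ[K] Polynomial (MvPolynomial (Fin r) K)).toRingHom Polynomial.X
  have hψC : ∀ a : K, ψ (Polynomial.C (MvPolynomial.C a)) = Polynomial.C (MvPolynomial.C a) := fun a => by
    simp [ψ]
  have hψX : ψ Polynomial.X = Polynomial.X := by simp [ψ]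
  have hψF : ψ F = f.map (MvPolynomial.map (algebraMap k K)) := by
    rw [hF, Polynomial.hom_eval₂, hψX]
    show Polynomial.eval₂ _ _ f = Polynomial.eval₂ (Polynomial.C.comp (MvPolynomial.map (algebraMap k K))) Polynomial.X f
    congr 1
    refine MvPolynomial.ringHom_ext (fun a => ?_) (fun i => ?_)
    · simp [ψ]
    · simp [ψ]
  have hFdeg : 0 < F.natDegree := by
    refine Nat.pos_of_ne_zero fun h => hdeg.ne' ?_
    have hFC : F = Polynomial.C (MvPolynomial.C c) := by
      rw [Polynomial.eq_C_of_natDegree_eq_zero h] at hlc ⊢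
      rw [Polynomial.leadingCoeff_C] at hlc
      rw [hlc]
    rw [hFC, hψC] at hψF
    have := congrArg Polynomial.natDegree hψF
    rwa [Polynomial.natDegree_C, Polynomial.natDegree_map_eq_of_injective (MvPolynomial.map_injective _ (algebraMap k K).injective), eq_comm] at this
  let u : (MvPolynomial (Fin r) K)ˣ := ((Units.mk0 c hc).map MvPolynomial.C.toMonoidHom)
  have hmonic : (Polynomial.C (↑u⁻¹ : MvPolynomial (Fin r) K) * F).Monic := by
    refine Polynomial.monic_C_mul_of_mul_leadingCoeff_eq_one ?_
    rw [hlc]; exact u.inv_mul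
  have hspan : Ideal.span {Polynomial.C (↑u⁻¹ : MvPolynomial (Fin r) K) * F} = Ideal.span {F} :=
    Ideal.span_singleton_mul_left_unit (u⁻¹.isUnit.map _) F
  refine ⟨?_, ?_⟩
  · rw [← hspan]
    exact hmonic.finite_quotient
  · rw [injective_iff_map_eq_zero]
    intro a ha
    rw [RingHom.comp_apply, Ideal.Quotient.eq_zero_iff_mem, Ideal.mem_span_singleton] at ha
    by_contra hne
    have := Polynomial.natDegree_le_of_dvd ha (by simpa using hne)
    simp at this
    omega

end Groth.Agent.S15079
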