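import Groth.Statements.S15083
import Groth.Agent.CommAlg4.SLPath
-- import your own Groth.Agent.* helpers here

set_option autoImplicit false
universe u
open MovLem

namespace Groth.Agent.S15083

/-- Let K be a field and r ≥ 1. For every element A of the special linear group SL_{r+1}(K) there is an
algebraic path in SL_{r+1} from the identity to A defined over K: a matrix M of determinant 1 with
entries in the polynomial ring K[y] such that M(0) is the identity matrix and M(1) = A. (The
published statement takes K to be the function field of SL_{r+1} over the ground field, A its
generic point viewed as a K-rational point, and the parameter space to be the projective line minus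
the point 1, with endpoints 0 and ∞; this row gives the path for an arbitrary K-point A on the
affine line with endpoints 0 and 1, which is what the published construction provides before
composing with the coordinate change y ↦ y/(y − 1).) -/
theorem result
    (K : Type u) [Field K] (r : ℕ) (hr : 1 ≤ r)
    (A : Matrix.SpecialLinearGroup (Fin (r + 1)) K) :
    ∃ M : Matrix.SpecialLinearGroup (Fin (r + 1)) (Polynomial K),
      Matrix.SpecialLinearGroup.map (Polynomial.evalRingHom (0 : K)) M = 1 ∧
      Matrix.SpecialLinearGroup.map (Polynomial.evalRingHom (1 : K)) M = A := by
  obtain ⟨M, h1, h2, h3⟩ := Groth.Agent.CommAlg4.hasPath_of_det_eq_one A.1 A.2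
  exact ⟨⟨M, h1⟩, Subtype.ext h2, Subtype.ext h3⟩

end Groth.Agent.S15083
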