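import Groth.Statements.S15084
import Mathlib
import Groth.Prelude
import Groth.Agent.CAlgMisc2.Normal

set_option linter.all false

set_option autoImplicit false
universe u
open MovLem

open AlgebraicGeometry CategoryTheory DirectSum

namespace Groth.Agent.S15084

/-- Let A be a Noetherian integrally closed domain with fraction field K, let B be a domain with
fraction field L, and let A → B be an injective ring homomorphism, with K → L the induced map of
fraction fields, such that Spec B → Spec A is surjective (every prime ideal of A is the contraction
of a prime ideal of B). If a ∈ K is such that its image in L lies in B, then a ∈ A. (The published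
statement: for a surjective morphism f : Y → X of normal integral separated schemes of finite type
over a perfect field and a Cartier divisor D on X, if f^*D is effective then D is effective; a
Cartier divisor is locally the divisor of a nonzero rational function a, effectivity of div(a) on a
normal scheme means that a is a regular function, and this row is that local statement, which is
what the published proof establishes.) -/
theorem result
    (A B K L : Type u) [CommRing A] [IsDomain A] [IsNoetherianRing A] [IsIntegrallyClosed A]
    [CommRing B] [IsDomain B] [Field K] [Field L]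
    [Algebra A B] [Algebra A K] [IsFractionRing A K] [Algebra B L] [IsFractionRing B L]
    [Algebra K L] [Algebra A L] [IsScalarTower A K L] [IsScalarTower A B L]
    (hinj : Function.Injective (algebraMap A B))
    (hsurj : ∀ p : Ideal A, p.IsPrime → ∃ q : Ideal B, q.IsPrime ∧ q.comap (algebraMap A B) = p)
    (a : K) (ha : algebraMap K L a ∈ (algebraMap B L).range) :
    a ∈ (algebraMap A K).range := by
  classical
  obtain ⟨a0, b0, hb0, rfl⟩ := IsFractionRing.div_surjective A a
  obtain ⟨β, hβ⟩ := ha
  have hb : b0 ≠ 0 := nonZeroDivisors.ne_zero hb0
  have hβ' : algebraMap A B b0 * β = algebraMap A B a0 := by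
    apply IsFractionRing.injective B L
    rw [map_mul, hβ, map_div₀, ← IsScalarTower.algebraMap_apply A B L, ← IsScalarTower.algebraMap_apply A B L,
      ← IsScalarTower.algebraMap_apply A K L, ← IsScalarTower.algebraMap_apply A K L, mul_div_cancel₀]
    rw [IsScalarTower.algebraMap_apply A B L]
    exact fun h => hb (hinj (IsFractionRing.injective B L (by simpa using h)))
  let F := FractionRing A
  have key := Groth.Agent.CAlgMisc2.mem_range_of_forall_height_one (R := A) (algebraMap A F a0 / algebraMap A F b0) (by
    intro p _ hp
    let Ap := Localization.AtPrime p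
    haveI : IsDomain Ap := IsLocalization.isDomain_localization p.primeCompl_le_nonZeroDivisors
    haveI : IsIntegrallyClosed Ap := isIntegrallyClosed_of_isLocalization Ap p.primeCompl p.primeCompl_le_nonZeroDivisors
    haveI : IsNoetherianRing Ap := IsLocalization.isNoetherianRing p.primeCompl Ap inferInstance
    have hdim : ringKrullDim Ap = 1 := by
      rw [IsLocalization.AtPrime.ringKrullDim_eq_height p Ap, hp]; rfl
    haveI : Ring.KrullDimLE 1 Ap := (Ring.krullDimLE_iff (n := 1)).2 hdim.le
    have hval : ValuationRing Ap := by
      rcases Classical.em (IsField Ap) with hF | hF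
      · rw [ringKrullDim_eq_zero_of_isField hF] at hdim
        exact absurd hdim (by norm_num)
      · have htfae := IsDiscreteValuationRing.TFAE Ap hF
        have hprime : ∃! P : Ideal Ap, P ≠ ⊥ ∧ P.IsPrime := by
          refine ⟨IsLocalRing.maximalIdeal Ap, ⟨fun h => hF (IsLocalRing.isField_iff_maximalIdeal_eq.2 h), inferInstance⟩, fun P hP => ?_⟩
          exact IsLocalRing.eq_maximalIdeal ((Ring.krullDimLE_one_iff_of_noZeroDivisors).1 inferInstance P hP.1 hP.2)
        have h30 : (IsIntegrallyClosed Ap ∧ ∃! P : Ideal Ap, P ≠ ⊥ ∧ P.IsPrime) ↔ IsDiscreteValuationRing Ap := htfae.out 3 0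
        haveI : IsDiscreteValuationRing Ap := h30.1 ⟨inferInstance, hprime⟩
        infer_instance
    rcases ValuationRing.dvd_total (algebraMap A Ap a0) (algebraMap A Ap b0) with h | h
    · obtain ⟨c, hc⟩ := h
      obtain ⟨⟨c0, s⟩, hs⟩ := IsLocalization.surj p.primeCompl c
      have h1 : b0 * s.1 = a0 * c0 := by
        apply IsLocalization.injective Ap p.primeCompl_le_nonZeroDivisors
        rw [map_mul, map_mul, hc, mul_assoc, hs]
      by_cases hc0 : c0 ∈ p
      · exfalso
        obtain ⟨q, hq, hqp⟩ := hsurj p inferInstance
        have h2 : algebraMap A B s.1 = β * algebraMap A B c0 := by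
          have h3 := congrArg (algebraMap A B) h1
          rw [map_mul, map_mul, ← hβ', mul_assoc] at h3
          exact mul_left_cancel₀ (fun h => hb (hinj (by simpa using h))) h3
        suffices algebraMap A B s.1 ∈ q from s.2 (hqp.le this)
        rw [h2]
        exact q.mul_mem_left _ (by rw [← Ideal.mem_comap, hqp]; exact hc0)
      · refine ⟨s.1, c0, hc0, ?_⟩
        rw [div_mul_eq_mul_div, div_eq_iff (IsFractionRing.to_map_ne_zero_of_mem_nonZeroDivisors hb0), ← map_mul, ← map_mul,
          ← h1, mul_comm]
    · obtain ⟨c, hc⟩ := h
      obtain ⟨⟨c0, s⟩, hs⟩ := IsLocalization.surj p.primeCompl c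
      refine ⟨c0, s.1, s.2, ?_⟩
      have h1 : a0 * s.1 = b0 * c0 := by
        apply IsLocalization.injective Ap p.primeCompl_le_nonZeroDivisors
        rw [map_mul, map_mul, hc, mul_assoc, hs]
      rw [div_mul_eq_mul_div, div_eq_iff (IsFractionRing.to_map_ne_zero_of_mem_nonZeroDivisors hb0), ← map_mul, ← map_mul, h1, mul_comm])
  obtain ⟨c, hc⟩ := key
  have h1 : c * b0 = a0 := by
    apply IsFractionRing.injective A F
    rw [map_mul, hc, div_mul_cancel₀]
    exact IsFractionRing.to_map_ne_zero_of_mem_nonZeroDivisors hb0
  refine ⟨c, ?_⟩
  rw [eq_div_iff (IsFractionRing.to_map_ne_zero_of_mem_nonZeroDivisors hb0), ← map_mul, h1]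

end Groth.Agent.S15084
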