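import Groth.Statements.S15085
import Mathlib
import Groth.Agent.DimLib.Components
import Groth.Agent.CommAlg6.DimMaps
-- import your own Groth.Agent.* helpers here

set_option autoImplicit false
universe u
open CategoryTheory CategoryTheory.Limits AlgebraicGeometry
open MovLem

namespace Groth.Agent.S15085

set_option linter.unusedVariables false

/-- Let k be a field, X an affine scheme of finite type over k which is equidimensional (all irreducible
components have the same dimension), B̂ a proper smooth geometrically integral k-scheme and B ⊆ B̂ a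
nonempty affine open subscheme. Let Z be an integral closed subscheme of X ×_k B of dimension dim X
(that is, of codimension dim B, the product X ×_k B being equidimensional of dimension dim X + dim
B). Then the projection Z → X is finite and maps Z onto an irreducible component of X if and only if
Z is closed in X ×_k B̂. (The published statement allows X to be essentially of finite type, i.e.
also a localization of such a scheme at finitely many points, takes B̂ projective of positive
dimension, and phrases the dimension condition as codimension dim B; this row is the finite-type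
case with properness in place of projectivity.) -/
theorem result
    {k : Type u} [Field k] {X Bhat Z : Scheme.{u}}
    (sX : X ⟶ Spec (CommRingCat.of k)) (sB : Bhat ⟶ Spec (CommRingCat.of k))
    [IsAffine X] [LocallyOfFiniteType sX]
    (hXeq : ∀ T ∈ irreducibleComponents (X : Type u), topologicalKrullDim T = topologicalKrullDim X)
    [IsProper sB] [Smooth sB] [GeometricallyIntegral sB]
    (B : Bhat.Opens) (hB : IsAffineOpen B) (hBne : (B : Set Bhat).Nonempty)
    [IsIntegral Z] (ι : Z ⟶ ((pullback.snd sX sB) ⁻¹ᵁ B).toScheme) [IsClosedImmersion ι]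
    (hZ : topologicalKrullDim Z = topologicalKrullDim X)
    (j : Z ⟶ pullback sX sB) (hj : j = ι ≫ ((pullback.snd sX sB) ⁻¹ᵁ B).ι) :
    (IsFinite (j ≫ pullback.fst sX sB) ∧
        Set.range (j ≫ pullback.fst sX sB).base ∈ irreducibleComponents (X : Type u)) ↔
      IsClosed (Set.range j.base) := by
  subst hj
  haveI : IsProper (pullback.fst sX sB) := inferInstance
  constructor
  · rintro ⟨hfin, -⟩
    haveI := hfin
    haveI : IsProper ((ι ≫ ((pullback.snd sX sB) ⁻¹ᵁ B).ι) ≫ pullback.fst sX sB) := inferInstance
    haveI : IsProper (ι ≫ ((pullback.snd sX sB) ⁻¹ᵁ B).ι) :=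
      IsProper.of_comp _ (pullback.fst sX sB)
    exact (ι ≫ ((pullback.snd sX sB) ⁻¹ᵁ B).ι).isClosedMap.isClosed_range
  · intro hcl
    haveI : IsClosedImmersion (ι ≫ ((pullback.snd sX sB) ⁻¹ᵁ B).ι) :=
      IsClosedImmersion.of_isPreimmersion _ hcl
    haveI : IsAffine (((pullback.snd sX sB) ⁻¹ᵁ B).toScheme) := by
      haveI : IsAffineHom sX := isAffineHom_of_isAffine sX
      haveI : MorphismProperty.IsStableUnderBaseChange (@IsAffineHom.{u}) := isAffineHom_isStableUnderBaseChange
      haveI : IsAffineHom (pullback.snd sX sB) :=
        MorphismProperty.of_isPullback (P := @IsAffineHom.{u}) (IsPullback.of_hasPullback sX sB) ‹IsAffineHom sX›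
      exact hB.preimage (pullback.snd sX sB)
    haveI : IsAffine Z := isAffine_of_isAffineHom ι
    haveI : IsAffineHom ((ι ≫ ((pullback.snd sX sB) ⁻¹ᵁ B).ι) ≫ pullback.fst sX sB) := inferInstance
    haveI : IsProper ((ι ≫ ((pullback.snd sX sB) ⁻¹ᵁ B).ι) ≫ pullback.fst sX sB) := inferInstance
    haveI hfin : IsFinite ((ι ≫ ((pullback.snd sX sB) ⁻¹ᵁ B).ι) ≫ pullback.fst sX sB) :=
      IsFinite.iff_isProper_and_isAffineHom.2 ⟨inferInstance, inferInstance⟩
    refine ⟨hfin, ?_⟩
    generalize hg : (ι ≫ ((pullback.snd sX sB) ⁻¹ᵁ B).ι) ≫ pullback.fst sX sB = g at hfin ⊢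
    haveI := hfin
    set η := g (genericPoint Z) with hη
    have hgen : IsGenericPoint η (Set.range g) := by
      have := (genericPoint_spec Z).image g.continuous
      rwa [Set.image_univ, g.isClosedMap.isClosed_range.closure_eq] at this
    obtain ⟨T, hT, hηT⟩ := exists_mem_irreducibleComponents_subset_of_isIrreducible (Set.range g)
      hgen.isIrreducible
    obtain ⟨ξ, hξ⟩ := QuasiSober.sober hT.1 (isClosed_of_mem_irreducibleComponents T hT)
    suffices ξ = η by
      have e : T = Set.range g := by
        rw [← hgen.def, ← this, hξ.def]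
      rwa [← e]
    by_contra hne
    have hlt := Groth.Agent.DimLib.ptDim_lt_of_specializes sX (hξ.specializes (hηT hgen.mem)) hne
    haveI : QuasiSober (Set.range g) := g.isClosedMap.isClosed_range.isClosedEmbedding_subtypeVal.quasiSober
    have hle : topologicalKrullDim Z ≤ topologicalKrullDim (Set.range g) :=
      Groth.Agent.CommAlg6.topologicalKrullDim_le_of_fibres
        (f := Set.rangeFactorization g) (g.continuous.subtype_mk _) fun x x' h e =>
          Groth.Agent.CommAlg6.eq_of_specializes_of_locallyQuasiFinite g h (congr_arg Subtype.val e)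
    rw [Groth.Agent.DimLib.topologicalKrullDim_eq_ptDim_of_isGenericPoint sX hgen, hZ, ← hXeq T hT,
      Groth.Agent.DimLib.topologicalKrullDim_eq_ptDim_of_isGenericPoint sX hξ] at hle
    have hle' : Groth.Agent.DimLib.ptDim sX ξ ≤ Groth.Agent.DimLib.ptDim sX η := by exact_mod_cast hle
    omega

end Groth.Agent.S15085
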