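import Groth.Statements.S15086
import Mathlib
import Groth.Agent.Clifford24.FrobFibre
-- import your own Groth.Agent.* helpers here

set_option autoImplicit false
universe u
open CategoryTheory CategoryTheory.Limits AlgebraicGeometry
open MovLem

namespace Groth.Agent.S15086

set_option linter.unusedVariables false

section Points

open Groth.Agent.Clifford24

variable {k : Type u} [Field k] [PerfectField k] {X : Scheme.{u}} (sX : X ⟶ Spec (CommRingCat.of k))
  [LocallyOfFiniteType sX]

/-- The structure map of a residue field. -/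
noncomputable def resBase (x : X) : k →+* X.residueField x :=
  (Spec.preimage (X.fromSpecResidueField x ≫ sX)).hom

theorem spec_resBase (x : X) :
    Spec.map (CommRingCat.ofHom (resBase sX x)) = X.fromSpecResidueField x ≫ sX :=
  Spec.map_preimage _

theorem finite_resBase {x : X} (hx : IsClosed ({x} : Set X)) : (resBase sX x).Finite := by
  haveI : JacobsonSpace X := LocallyOfFiniteType.jacobsonSpace sX
  rw [isClosed_singleton_iff_isClosedImmersion] at hx
  have : IsFinite (X.fromSpecResidueField x ≫ sX) := by
    rw [isFinite_iff_locallyOfFiniteType_of_jacobsonSpace]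
    infer_instance
  rw [← spec_resBase sX x] at this
  exact (IsFinite.SpecMap_iff _).1 this

omit [PerfectField k] [LocallyOfFiniteType sX] in
theorem comp_fromSpec_apply {K : CommRingCat.{u}} {x : X} (θ : X.residueField x ⟶ K) (a : Spec K) :
    (Spec.map θ ≫ X.fromSpecResidueField x) a = x :=
  Scheme.fromSpecResidueField_apply x _

/-- The geometric points over a closed point. -/
def Pts (x : X) : Type u :=
  { g : Spec (CommRingCat.of (AlgebraicClosure k)) ⟶ X //
    g ≫ sX = FinFr.specι k (AlgebraicClosure k) ∧ g (IsLocalRing.closedPoint (AlgebraicClosure k)) = x }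

theorem natCard_pts {x : X} (hx : IsClosed ({x} : Set X)) :
    letI := (resBase sX x).toAlgebra
    Nat.card (Pts sX x) = Module.finrank k (X.residueField x) ∧ Finite (Pts sX x) := by
  letI := (resBase sX x).toAlgebra
  haveI : Module.Finite k (X.residueField x) := finite_resBase sX hx
  haveI : Algebra.IsSeparable k (X.residueField x) := inferInstance
  let toPt : (X.residueField x →ₐ[k] AlgebraicClosure k) → Pts sX x := fun σ =>
    ⟨Spec.map (CommRingCat.ofHom σ.toRingHom) ≫ X.fromSpecResidueField x, by
      rw [Category.assoc, ← spec_resBase sX x, ← Spec.map_comp]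
      refine congrArg Spec.map (CommRingCat.hom_ext (RingHom.ext fun r => σ.commutes r)), by
      exact comp_fromSpec_apply _ _⟩
  have hb : Function.Bijective toPt := by
    refine ⟨fun σ τ h => ?_, fun g => ?_⟩
    · have h1 := congrArg Subtype.val h
      simp only [toPt, cancel_mono] at h1
      exact AlgHom.ext fun r => RingHom.congr_fun (congrArg CommRingCat.Hom.hom (Spec.map_injective h1)) r
    · obtain ⟨g, hg, hgx⟩ := g
      obtain ⟨⟨y, θ⟩, rfl⟩ := (Scheme.SpecToEquivOfField (AlgebraicClosure k) X).symm.surjective g
      simp only [Scheme.SpecToEquivOfField, Equiv.coe_fn_symm_mk] at hg hgx ⊢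
      obtain rfl : y = x := (comp_fromSpec_apply θ _).symm.trans hgx
      have hθ : CommRingCat.ofHom (resBase sX y) ≫ θ = CommRingCat.ofHom (algebraMap k (AlgebraicClosure k)) := by
        apply Spec.map_injective
        rw [Spec.map_comp, spec_resBase, ← Category.assoc]
        exact hg
      exact ⟨{ θ.hom with commutes' := fun r => RingHom.congr_fun (congrArg CommRingCat.Hom.hom hθ) r },
        Subtype.ext rfl⟩
  let e := Equiv.ofBijective toPt hb
  haveI : Finite (Pts sX x) := Finite.of_equiv _ e
  exact ⟨by rw [← Nat.card_congr e, Nat.card_eq_fintype_card]; exact AlgHom.card k _ _, inferInstance⟩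

/-- The point of the base change given by a geometric point. -/
noncomputable def liftPt {x : X} (g : Pts sX x) :
    Spec (CommRingCat.of (AlgebraicClosure k)) ⟶ FinFr.ext (AlgebraicClosure k) sX :=
  pullback.lift g.1 (𝟙 _) (by rw [g.2.1, Category.id_comp])

/-- Its image. -/
noncomputable def fibPt {x : X} (g : Pts sX x) :
    ((pullback.fst sX (FinFr.specι k (AlgebraicClosure k))).base ⁻¹' {x}) :=
  ⟨liftPt sX g (IsLocalRing.closedPoint (AlgebraicClosure k)), by
    simp only [Set.mem_preimage, Set.mem_singleton_iff]
    change (liftPt sX g ≫ pullback.fst _ _) (IsLocalRing.closedPoint (AlgebraicClosure k)) = x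
    rw [liftPt, pullback.lift_fst]
    exact g.2.2⟩

theorem fibPt_bijective {x : X} (hx : IsClosed ({x} : Set X)) : Function.Bijective (fibPt sX (x := x)) := by
  haveI : LocallyOfFiniteType (pullback.snd sX (FinFr.specι k (AlgebraicClosure k))) := inferInstance
  refine ⟨fun g g' h => ?_, fun z => ?_⟩
  · have h1 : liftPt sX g = liftPt sX g' :=
      ext_of_apply_closedPoint_eq (pullback.snd sX (FinFr.specι k (AlgebraicClosure k)))
        (pullback.lift_snd _ _ _) (pullback.lift_snd _ _ _) (congrArg Subtype.val h)
    have h2 := congrArg (· ≫ pullback.fst sX (FinFr.specι k (AlgebraicClosure k))) h1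
    simp only [liftPt, pullback.lift_fst] at h2
    exact Subtype.ext h2
  · obtain ⟨z, hz⟩ := z
    letI := (resBase sX x).toAlgebra
    haveI : Module.Finite k (X.residueField x) := finite_resBase sX hx
    let σ₀ : X.residueField x →ₐ[k] AlgebraicClosure k := IsAlgClosed.lift
    let g₀ : Pts sX x := ⟨Spec.map (CommRingCat.ofHom σ₀.toRingHom) ≫ X.fromSpecResidueField x, by
      rw [Category.assoc, ← spec_resBase sX x, ← Spec.map_comp]
      refine congrArg Spec.map (CommRingCat.hom_ext (RingHom.ext fun r => σ₀.commutes r)), by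
      exact comp_fromSpec_apply _ _⟩
    obtain ⟨σ, hσ⟩ := FrobFibre.exists_galAct_eq sX (fibPt sX g₀).1 z
      (((fibPt sX g₀).2).trans hz.symm)
    let s := Spec.map (CommRingCat.ofHom ((σ.symm : AlgebraicClosure k ≃ₐ[k] AlgebraicClosure k) : AlgebraicClosure k →+* AlgebraicClosure k))
    have hs : s ≫ Spec.map (CommRingCat.ofHom (σ : AlgebraicClosure k →+* AlgebraicClosure k)) = 𝟙 _ := by
      rw [← Spec.map_comp, ← Spec.map_id]
      congr 1
      ext a
      simp
    let g : Pts sX x := ⟨s ≫ g₀.1, by
      rw [Category.assoc, g₀.2.1, FinFr.specι, ← Spec.map_comp]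
      refine congrArg Spec.map (CommRingCat.hom_ext (RingHom.ext fun r => σ.symm.commutes r)), by
      exact (congrArg g₀.1.base (Subsingleton.elim (α := PrimeSpectrum (AlgebraicClosure k)) _ _)).trans g₀.2.2⟩
    refine ⟨g, Subtype.ext ?_⟩
    have h1 : s ≫ (liftPt sX g₀ ≫ FinFr.galAct sX σ) = liftPt sX g := by
      apply pullback.hom_ext
      · rw [Category.assoc, Category.assoc, FinFr.galAct_fst]
        show s ≫ liftPt sX g₀ ≫ pullback.fst _ _ = _
        rw [liftPt, pullback.lift_fst, liftPt, pullback.lift_fst]
      · rw [Category.assoc, Category.assoc, FinFr.galAct, pullback.lift_snd]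
        rw [liftPt, pullback.lift_snd_assoc, Category.id_comp, liftPt, pullback.lift_snd]
        exact hs
    show liftPt sX g _ = z
    rw [← h1]
    exact (congrArg (fun t => FinFr.galAct sX σ (liftPt sX g₀ t))
      (Subsingleton.elim (α := PrimeSpectrum (AlgebraicClosure k)) _ _)).trans hσ

theorem encard_fibre {x : X} (hx : IsClosed ({x} : Set X)) :
    letI := (resBase sX x).toAlgebra
    ((pullback.fst sX (FinFr.specι k (AlgebraicClosure k))).base ⁻¹' {x}).encard =
      (Module.finrank k (X.residueField x) : ℕ∞) := by
  letI := (resBase sX x).toAlgebra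
  obtain ⟨h1, h2⟩ := natCard_pts sX hx
  let e := Equiv.ofBijective _ (fibPt_bijective sX hx)
  rw [← h1, Set.encard, ← ENat.card_congr e, ENat.card_eq_coe_natCard]

end Points

/-- Let k be an infinite perfect field with algebraic closure k̄, let φ : X → Y be a finite morphism of
k-schemes locally of finite type, let x be a closed point of X and y = φ(x). Let π_X : X_{k̄} → X
and π_Y : Y_{k̄} → Y be the base-change projections and φ_{k̄} : X_{k̄} → Y_{k̄} the induced
morphism. Then the number of points of π_Y⁻¹(y) is at most the number of points of π_X⁻¹(x);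
equality holds if and only if the residue field extension k(y) → k(x) is an isomorphism; and
equality holds whenever φ_{k̄} is injective on π_X⁻¹(x). (Cardinalities are taken in ℕ ∪ {∞}; both
fibres are in fact finite.) -/
theorem result
    {k : Type u} [Field k] [Infinite k] [PerfectField k] {X Y : Scheme.{u}}
    (sX : X ⟶ Spec (CommRingCat.of k)) (sY : Y ⟶ Spec (CommRingCat.of k))
    [LocallyOfFiniteType sX] [LocallyOfFiniteType sY]
    (φ : X ⟶ Y) (hφ : φ ≫ sY = sX) [IsFinite φ]
    (i : Spec (CommRingCat.of (AlgebraicClosure k)) ⟶ Spec (CommRingCat.of k))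
    (hi : i = Spec.map (CommRingCat.ofHom (algebraMap k (AlgebraicClosure k))))
    (φbar : pullback sX i ⟶ pullback sY i)
    (h1 : φbar ≫ pullback.fst sY i = pullback.fst sX i ≫ φ)
    (h2 : φbar ≫ pullback.snd sY i = pullback.snd sX i)
    (x : X) (hx : IsClosed ({x} : Set X)) :
    ((pullback.fst sY i).base ⁻¹' {φ.base x}).encard ≤ ((pullback.fst sX i).base ⁻¹' {x}).encard ∧
      (((pullback.fst sY i).base ⁻¹' {φ.base x}).encard = ((pullback.fst sX i).base ⁻¹' {x}).encard ↔
          Function.Bijective (φ.residueFieldMap x).hom) ∧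
      (Set.InjOn φbar.base ((pullback.fst sX i).base ⁻¹' {x}) →
        ((pullback.fst sY i).base ⁻¹' {φ.base x}).encard = ((pullback.fst sX i).base ⁻¹' {x}).encard) := by
  subst hi
  subst hφ
  change (((pullback.fst sY (FinFr.specι k (AlgebraicClosure k))).base ⁻¹' {φ.base x}).encard ≤
      ((pullback.fst (φ ≫ sY) (FinFr.specι k (AlgebraicClosure k))).base ⁻¹' {x}).encard) ∧ _
  have hy : IsClosed ({φ.base x} : Set Y) := by
    rw [← Set.image_singleton]
    exact φ.isClosedMap _ hx
  letI algX := (resBase (φ ≫ sY) x).toAlgebra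
  letI algY := (resBase sY (φ.base x)).toAlgebra
  haveI : Module.Finite k (X.residueField x) := finite_resBase (φ ≫ sY) hx
  haveI : Module.Finite k (Y.residueField (φ.base x)) := finite_resBase sY hy
  have hres : CommRingCat.ofHom (resBase sY (φ.base x)) ≫ φ.residueFieldMap x =
      CommRingCat.ofHom (resBase (φ ≫ sY) x) := by
    apply Spec.map_injective
    rw [Spec.map_comp, spec_resBase, spec_resBase]
    exact Scheme.Hom.SpecMap_residueFieldMap_fromSpecResidueField_assoc φ x sY
  let r : Y.residueField (φ.base x) →ₐ[k] X.residueField x :=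
    { (φ.residueFieldMap x).hom with
      commutes' := fun c => RingHom.congr_fun (congrArg CommRingCat.Hom.hom hres) c }
  have hX := encard_fibre (φ ≫ sY) hx
  have hY := encard_fibre sY hy
  have hle : Module.finrank k (Y.residueField (φ.base x)) ≤ Module.finrank k (X.residueField x) :=
    LinearMap.finrank_le_finrank_of_injective (f := r.toLinearMap) (RingHom.injective r.toRingHom)
  refine ⟨?_, ?_, fun hinj => ?_⟩
  · rw [hX, hY]; exact_mod_cast hle
  · show ((pullback.fst sY (FinFr.specι k (AlgebraicClosure k))).base ⁻¹' {φ.base x}).encard =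
      ((pullback.fst (φ ≫ sY) (FinFr.specι k (AlgebraicClosure k))).base ⁻¹' {x}).encard ↔ _
    rw [hX, hY, Nat.cast_inj]
    refine ⟨fun h => ?_, fun h => (LinearEquiv.ofBijective r.toLinearMap h).finrank_eq⟩
    exact ⟨RingHom.injective r.toRingHom,
      (LinearMap.injective_iff_surjective_of_finrank_eq_finrank (f := r.toLinearMap) h).1
        (RingHom.injective r.toRingHom)⟩
  · show ((pullback.fst sY (FinFr.specι k (AlgebraicClosure k))).base ⁻¹' {φ.base x}).encard =
      ((pullback.fst (φ ≫ sY) (FinFr.specι k (AlgebraicClosure k))).base ⁻¹' {x}).encard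
    rw [← hinj.encard_image]
    congr 1
    apply Set.Subset.antisymm
    · intro w hw
      obtain ⟨g, hg⟩ := (fibPt_bijective sY hy).2 ⟨w, hw⟩
      obtain ⟨g, hgs, hgp⟩ := g
      obtain ⟨⟨y, θ⟩, rfl⟩ := (Scheme.SpecToEquivOfField (AlgebraicClosure k) Y).symm.surjective g
      simp only [Scheme.SpecToEquivOfField, Equiv.coe_fn_symm_mk] at hgp hgs hg
      obtain rfl : y = φ.base x := (comp_fromSpec_apply θ _).symm.trans hgp
      have hθ : CommRingCat.ofHom (resBase sY (φ.base x)) ≫ θ =
          CommRingCat.ofHom (algebraMap k (AlgebraicClosure k)) := by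
        apply Spec.map_injective
        rw [Spec.map_comp, spec_resBase, ← Category.assoc]
        exact hgs
      letI : Algebra (Y.residueField (φ.base x)) (X.residueField x) := r.toRingHom.toAlgebra
      letI : Algebra (Y.residueField (φ.base x)) (AlgebraicClosure k) := θ.hom.toAlgebra
      haveI : IsScalarTower k (Y.residueField (φ.base x)) (X.residueField x) :=
        IsScalarTower.of_algebraMap_eq fun c => (r.commutes c).symm
      haveI : Module.Finite (Y.residueField (φ.base x)) (X.residueField x) := Module.Finite.of_restrictScalars_finite k _ _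
      let σ : X.residueField x →ₐ[Y.residueField (φ.base x)] AlgebraicClosure k := IsAlgClosed.lift
      have hσ : φ.residueFieldMap x ≫ CommRingCat.ofHom σ.toRingHom = θ :=
        CommRingCat.hom_ext (RingHom.ext fun c => σ.commutes c)
      let g' : Pts (φ ≫ sY) x := ⟨Spec.map (CommRingCat.ofHom σ.toRingHom) ≫ X.fromSpecResidueField x, by
        rw [Category.assoc, ← spec_resBase (φ ≫ sY) x, ← Spec.map_comp, ← hres, Category.assoc]
        erw [hσ, hθ], by
        exact comp_fromSpec_apply _ _⟩
      refine ⟨(fibPt (φ ≫ sY) g').1, (fibPt (φ ≫ sY) g').2, ?_⟩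
      have h := congrArg Subtype.val hg
      refine Eq.trans ?_ h
      have e : liftPt (φ ≫ sY) g' ≫ φbar = liftPt sY ⟨Spec.map θ ≫ Y.fromSpecResidueField (φ.base x), hgs, by
          exact comp_fromSpec_apply _ _⟩ := by
        apply pullback.hom_ext
        · rw [Category.assoc]
          refine (congrArg (liftPt (φ ≫ sY) g' ≫ ·) h1).trans ?_
          simp only [liftPt, pullback.lift_fst_assoc, pullback.lift_fst]
          show (Spec.map _ ≫ _) ≫ φ = _
          rw [Category.assoc, ← Scheme.Hom.SpecMap_residueFieldMap_fromSpecResidueField, ← Spec.map_comp_assoc]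
          erw [hσ]
        · rw [Category.assoc]
          refine (congrArg (liftPt (φ ≫ sY) g' ≫ ·) h2).trans ?_
          simp only [liftPt, pullback.lift_snd]
      exact congrArg (fun q => (q : Spec (CommRingCat.of (AlgebraicClosure k)) ⟶ _) (IsLocalRing.closedPoint _)) e
    · rintro _ ⟨z, hz, rfl⟩
      simp only [Set.mem_preimage, Set.mem_singleton_iff] at hz ⊢
      change (φbar ≫ pullback.fst sY _) z = _
      rw [h1]
      simp [hz]

end Groth.Agent.S15086
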