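import Groth.Statements.S15087
import Mathlib
import Groth.Agent.DimLib.Algebra
-- import your own Groth.Agent.* helpers here

set_option autoImplicit false
universe u v w
open MovLem

namespace Groth.Agent.S15087

set_option linter.unusedVariables false

section Ker

variable {k : Type u} [Field k]

theorem exists_ker {r : ℕ} {R : Type u} [CommRing R] [Algebra k R] [Algebra.FiniteType k R]
    (hdim : ringKrullDim R < (r : WithBot ℕ∞)) (φ : MvPolynomial (Fin r) k →ₐ[k] R) :
    ∃ h, h ≠ 0 ∧ φ h = 0 := by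
  by_contra hc
  push_neg at hc
  have hinj : Function.Injective φ := (injective_iff_map_eq_zero φ).2 fun h hh => by
    by_contra h0; exact hc h h0 hh
  obtain ⟨p, hp, hpe⟩ := Ideal.exists_comap_eq_of_mem_minimalPrimes φ.toRingHom ⊥ (by
    rw [show Ideal.comap φ.toRingHom ⊥ = ⊥ from (RingHom.injective_iff_ker_eq_bot φ.toRingHom).1 hinj]
    exact ⟨⟨Ideal.isPrime_bot, le_rfl⟩, fun q _ _ => bot_le⟩)
  obtain ⟨-, hpc⟩ := hpe
  haveI := hp
  have hinj' : Function.Injective ((Ideal.Quotient.mkₐ k p).comp φ) :=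
    (injective_iff_map_eq_zero _).2 fun h hh => by
      have : h ∈ Ideal.comap φ.toRingHom p := (Ideal.Quotient.eq_zero_iff_mem (I := p)).1 hh
      rw [hpc] at this
      exact (Submodule.mem_bot (R := MvPolynomial (Fin r) k)).1 this
  have h1 := trdeg_le_of_injective _ hinj'
  rw [MvPolynomial.trdeg_of_isDomain] at h1
  obtain ⟨s, -, -, -, h2, h3⟩ := Groth.Agent.DimLib.exists_normalization (k := k) (A := R ⧸ p)
  rw [h3] at h1
  have h1' : r ≤ s := by simpa using h1
  have h4 := ringKrullDim_quotient_le p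
  rw [h2] at h4
  have : (s : WithBot ℕ∞) < r := lt_of_le_of_lt h4 hdim
  exact absurd h1' (not_le.2 (by exact_mod_cast this))

end Ker

/-- Let k be an infinite perfect field, r, m, s ≥ 1 and d ≥ 0, and put N = s(m+1). In affine space with
coordinates x_1, …, x_r, t, y_1, …, y_d (the cube of dimension d taken as affine d-space with faces
given by setting some coordinates equal to 0 or 1), let Z = V(I) be an integral closed subscheme of
dimension r which does not meet the hyperplane t = 0 and which meets every face {y_i = ε_i for i ∈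
S} (S nonempty, ε_i ∈ {0, 1}) in dimension at most r − |S|. Let Σ be a finite set of closed points
of affine r-space over k. Then there is a nonzero polynomial h in k[g_1, …, g_r] such that for every
field K over k and every g ∈ K^r with h(g) ≠ 0, the translate of Z_K by x ↦ x + t^N g meets no set
{x ∈ Σ} × A^1 × F with F a proper face: for every field L over K, every point ξ of affine r-space
over L lying on a point of Σ, every t ∈ L and every y ∈ L^d lying on a proper face, the point (ξ +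
t^N g, t, y) is not a zero of I. (The published statement assumes that Z is an irreducible
admissible additive cycle meeting the faces through Σ properly; the two consequences of
admissibility that its proof uses — Z misses t = 0, and Z meets all faces properly — are the
hypotheses here, and the dense open subset of affine r-space is given as the locus h ≠ 0.) -/
theorem result
    {k : Type u} [Field k] [Infinite k] [PerfectField k] (r m s d : ℕ) (hr : 1 ≤ r) (hm : 1 ≤ m) (hs : 1 ≤ s)
    (I : Ideal (MvPolynomial (Fin r ⊕ (Unit ⊕ Fin d)) k)) (hI : I.IsPrime)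
    (hdim : ringKrullDim (MvPolynomial (Fin r ⊕ (Unit ⊕ Fin d)) k ⧸ I) = r)
    (ht0 : I ⊔ Ideal.span {MvPolynomial.X (Sum.inr (Sum.inl ()))} = ⊤)
    (hface : ∀ (S : Finset (Fin d)), S.Nonempty → ∀ (ε : Fin d → k), (∀ i, ε i = 0 ∨ ε i = 1) →
      ringKrullDim (MvPolynomial (Fin r ⊕ (Unit ⊕ Fin d)) k ⧸
        (I ⊔ Ideal.span ((fun i => MvPolynomial.X (Sum.inr (Sum.inr i)) - MvPolynomial.C (ε i)) '' (S : Set (Fin d))))) ≤ (r - S.card : ℕ))
    (Sigma : Finset (Ideal (MvPolynomial (Fin r) k))) (hSigma : ∀ P ∈ Sigma, P.IsMaximal) :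
    ∃ h : MvPolynomial (Fin r) k, h ≠ 0 ∧
      ∀ (K : Type v) [Field K] [Algebra k K] (g : Fin r → K), MvPolynomial.aeval g h ≠ 0 →
        ∀ (L : Type w) [Field L] [Algebra k L] [Algebra K L] [IsScalarTower k K L]
          (ξ : Fin r → L) (t : L) (y : Fin d → L),
          ∀ P ∈ Sigma, (∀ p ∈ P, MvPolynomial.aeval ξ p = 0) →
            ∀ (S : Finset (Fin d)), S.Nonempty → ∀ (ε : Fin d → k), (∀ i, ε i = 0 ∨ ε i = 1) →
              (∀ i ∈ S, y i = algebraMap k L (ε i)) →
                ¬ (∀ q ∈ I, MvPolynomial.aeval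
                    (Sum.elim (fun i => ξ i + t ^ (s * (m + 1)) * algebraMap K L (g i))
                      (Sum.elim (fun _ : Unit => t) y)) q = 0) := by
  classical
  set tv := MvPolynomial.X (R := k) (Sum.inr (Sum.inl ()) : Fin r ⊕ (Unit ⊕ Fin d)) with htv
  obtain ⟨a, ha⟩ : ∃ a, 1 - a * tv ∈ I := by
    have h1 : (1 : MvPolynomial (Fin r ⊕ (Unit ⊕ Fin d)) k) ∈ I ⊔ Ideal.span {tv} := by rw [ht0]; trivial
    obtain ⟨i, hi, b, hb, e⟩ := Submodule.mem_sup.1 h1
    obtain ⟨a, rfl⟩ := Ideal.mem_span_singleton'.1 hb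
    exact ⟨a, by rwa [← e, add_sub_cancel_right]⟩
  let N := s * (m + 1)
  let ε₀ : (Fin d → Bool) → Fin d → k := fun b i => if b i then 1 else 0
  let J : Finset (Fin d) × (Fin d → Bool) → Ideal (MvPolynomial (Fin r ⊕ (Unit ⊕ Fin d)) k) := fun c =>
    I ⊔ Ideal.span ((fun i => MvPolynomial.X (Sum.inr (Sum.inr i)) - MvPolynomial.C (ε₀ c.2 i)) '' (c.1 : Set (Fin d)))
  have hker : ∀ P ∈ Sigma, ∀ c : Finset (Fin d) × (Fin d → Bool), c.1.Nonempty →
      ∃ h : MvPolynomial (Fin r) k, h ≠ 0 ∧ MvPolynomial.aeval (fun i =>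
        (Ideal.Quotient.mk (J c) (a ^ N * MvPolynomial.X (Sum.inl i))) ⊗ₜ[k] (1 : MvPolynomial (Fin r) k ⧸ P) -
          (Ideal.Quotient.mk (J c) (a ^ N)) ⊗ₜ[k] Ideal.Quotient.mk P (MvPolynomial.X i)) h = 0 := by
    intro P hP c hc
    haveI := hSigma P hP
    haveI : Algebra.FiniteType k (MvPolynomial (Fin r) k ⧸ P) :=
      Algebra.FiniteType.of_surjective (Ideal.Quotient.mkₐ k P) Ideal.Quotient.mk_surjective
    haveI : Module.Finite k (MvPolynomial (Fin r) k ⧸ P) :=
      @finite_of_finite_type_of_isJacobsonRing k (MvPolynomial (Fin r) k ⧸ P) _ (Ideal.Quotient.field P) _ _ _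
    haveI : Algebra.FiniteType k (MvPolynomial (Fin r ⊕ (Unit ⊕ Fin d)) k ⧸ J c) :=
      Algebra.FiniteType.of_surjective (Ideal.Quotient.mkₐ k (J c)) Ideal.Quotient.mk_surjective
    haveI : Algebra.FiniteType k (TensorProduct k (MvPolynomial (Fin r ⊕ (Unit ⊕ Fin d)) k ⧸ J c) (MvPolynomial (Fin r) k ⧸ P)) :=
      Algebra.FiniteType.trans (S := MvPolynomial (Fin r ⊕ (Unit ⊕ Fin d)) k ⧸ J c) inferInstance inferInstance
    refine exists_ker (R := TensorProduct k (MvPolynomial (Fin r ⊕ (Unit ⊕ Fin d)) k ⧸ J c) (MvPolynomial (Fin r) k ⧸ P)) ?_ _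
    have h1 : ringKrullDim (TensorProduct k (MvPolynomial (Fin r ⊕ (Unit ⊕ Fin d)) k ⧸ J c) (MvPolynomial (Fin r) k ⧸ P))
        ≤ ringKrullDim (MvPolynomial (Fin r ⊕ (Unit ⊕ Fin d)) k ⧸ J c) :=
      Order.krullDim_le_of_strictMono _ (Groth.Agent.DimLib.strictMono_comap_of_isIntegral
        (R := MvPolynomial (Fin r ⊕ (Unit ⊕ Fin d)) k ⧸ J c)
        (S := TensorProduct k (MvPolynomial (Fin r ⊕ (Unit ⊕ Fin d)) k ⧸ J c) (MvPolynomial (Fin r) k ⧸ P)))
    refine lt_of_le_of_lt (h1.trans (hface c.1 hc (ε₀ c.2) fun i => by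
      cases c.2 i <;> simp [ε₀, *])) ?_
    have : r - c.1.card < r := by
      have := Finset.card_pos.2 hc
      omega
    exact_mod_cast this
  choose h hh0 hh using hker
  let hf : Ideal (MvPolynomial (Fin r) k) × (Finset (Fin d) × (Fin d → Bool)) → MvPolynomial (Fin r) k :=
    fun c => if hc : c.1 ∈ Sigma ∧ c.2.1.Nonempty then h c.1 hc.1 c.2 hc.2 else 1
  refine ⟨∏ c ∈ Sigma ×ˢ Finset.univ, hf c, Finset.prod_ne_zero_iff.2 fun c hc => ?_, ?_⟩
  · simp only [hf]
    split
    · exact hh0 _ _ _ _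
    · exact one_ne_zero
  intro K _ _ g hg L _ _ _ _ ξ t y P hP hξ S hS ε hε hy hI0
  let b : Fin d → Bool := fun i => decide (ε i = 1)
  have hb : ε₀ b = ε := funext fun i => by
    rcases hε i with e | e <;> simp [ε₀, b, e]
  refine hg ?_
  rw [map_prod]
  refine Finset.prod_eq_zero (i := (P, (S, b))) (by simp [hP]) ?_
  simp only [hf, hP, hS, and_self, dif_pos]
  let pt := Sum.elim (fun i => ξ i + t ^ N * algebraMap K L (g i)) (Sum.elim (fun _ : Unit => t) y)
  have hJ : ∀ q ∈ J (S, b), MvPolynomial.aeval pt q = 0 := by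
    intro q hq
    have : J (S, b) ≤ RingHom.ker (MvPolynomial.aeval (R := k) pt).toRingHom := by
      refine sup_le (fun q hq => hI0 q hq) (Ideal.span_le.2 ?_)
      rintro _ ⟨i, hi, rfl⟩
      show (MvPolynomial.aeval pt) (_ - _) = 0
      simp [pt, hb, hy i hi]
    exact this hq
  let e1 : (MvPolynomial (Fin r ⊕ (Unit ⊕ Fin d)) k ⧸ J (S, b)) →ₐ[k] L :=
    Ideal.Quotient.liftₐ (J (S, b)) (MvPolynomial.aeval pt) hJ
  let e2 : (MvPolynomial (Fin r) k ⧸ P) →ₐ[k] L := Ideal.Quotient.liftₐ P (MvPolynomial.aeval ξ) hξ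
  let e : TensorProduct k (MvPolynomial (Fin r ⊕ (Unit ⊕ Fin d)) k ⧸ J (S, b)) (MvPolynomial (Fin r) k ⧸ P) →ₐ[k] L := Algebra.TensorProduct.lift e1 e2 fun _ _ => Commute.all _ _
  have key := congr_arg e (hh P hP (S, b) hS)
  rw [map_zero] at key
  replace key := (MvPolynomial.comp_aeval_apply (R := k) (S₁ := TensorProduct k (MvPolynomial (Fin r ⊕ (Unit ⊕ Fin d)) k ⧸ J (S, b)) (MvPolynomial (Fin r) k ⧸ P)) _ e (h P hP (S, b) hS)).symm.trans key
  have ha1 : MvPolynomial.aeval pt a * t = 1 := by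
    have := hI0 _ ha
    change MvPolynomial.aeval pt (1 - a * tv) = 0 at this
    rw [map_sub, map_one, map_mul, sub_eq_zero, htv, MvPolynomial.aeval_X] at this
    exact this.symm
  have hgen : (fun i => e ((Ideal.Quotient.mk (J (S, b)) (a ^ N * MvPolynomial.X (Sum.inl i))) ⊗ₜ[k] (1 : MvPolynomial (Fin r) k ⧸ P) -
          (Ideal.Quotient.mk (J (S, b)) (a ^ N)) ⊗ₜ[k] Ideal.Quotient.mk P (MvPolynomial.X i))) =
      fun i => algebraMap K L (g i) := by
    funext i
    have hp : (MvPolynomial.aeval pt a) ^ N * t ^ N = 1 := by rw [← mul_pow, ha1, one_pow]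
    rw [map_sub, Algebra.TensorProduct.lift_tmul, Algebra.TensorProduct.lift_tmul, map_one, mul_one]
    show MvPolynomial.aeval pt (a ^ N * MvPolynomial.X (Sum.inl i)) -
      MvPolynomial.aeval pt (a ^ N) * MvPolynomial.aeval ξ (MvPolynomial.X i) = _
    rw [map_mul, map_pow, MvPolynomial.aeval_X, MvPolynomial.aeval_X]
    show _ * (ξ i + t ^ N * algebraMap K L (g i)) - _ = _
    linear_combination (algebraMap K L (g i)) * hp
  rw [hgen, show MvPolynomial.aeval (fun i => algebraMap K L (g i)) (h P hP (S, b) hS) =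
    algebraMap K L (MvPolynomial.aeval g (h P hP (S, b) hS)) from
    (MvPolynomial.aeval_algebraMap_apply (B := L) g (h P hP (S, b) hS))] at key
  exact (map_eq_zero _).1 key

end Groth.Agent.S15087
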