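import Groth.Statements.S15088
import Mathlib
-- import your own Groth.Agent.* helpers here

set_option autoImplicit false
universe u v
open MovLem

namespace Groth.Agent.S15088

set_option linter.unusedVariables false

section Lemmas

open MvPolynomial

variable {k : Type u} [Field k]

theorem exists_elim {L : Type u} [Field L] [Algebra k L] [Module.Finite k L] {r : ℕ}
    (f : MvPolynomial (Fin r) k) (hf : f ≠ 0) (ξ : Fin r → L) (τ : L) (hτ : τ ≠ 0) :
    ∃ h : MvPolynomial (Fin r) k, h ≠ 0 ∧ ∀ (Ω : Type v) [Field Ω] [Algebra k Ω] (σ : L →ₐ[k] Ω)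
      (g : Fin r → Ω), aeval (fun i => σ (ξ i) + σ τ * g i) f = 0 → aeval g h = 0 := by
  letI := MvPolynomial.algebraMvPolynomial (R := k) (S := L) (σ := Fin r)
  let F : MvPolynomial (Fin r) L := aeval (fun i => C (ξ i) + C τ * X i) f
  have hF : F ≠ 0 := by
    intro h0
    let back : MvPolynomial (Fin r) L →ₐ[L] MvPolynomial (Fin r) L :=
      aeval fun i => C τ⁻¹ * (X i - C (ξ i))
    have h1 : (back.restrictScalars k).comp (aeval fun i => C (ξ i) + C τ * X i) =
        (aeval fun i => (X i : MvPolynomial (Fin r) L)) := by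
      refine MvPolynomial.algHom_ext fun i => ?_
      simp only [AlgHom.comp_apply, aeval_X, AlgHom.restrictScalars_apply, back, map_add, map_mul,
        aeval_C, MvPolynomial.algebraMap_eq]
      rw [← mul_assoc, ← map_mul C, mul_inv_cancel₀ hτ, C_1, one_mul, add_sub_cancel]
    have h2 := AlgHom.congr_fun h1 f
    change back F = _ at h2
    rw [h0, map_zero] at h2
    have h3 : (aeval fun i => (X i : MvPolynomial (Fin r) L)) f = MvPolynomial.map (algebraMap k L) f := by
      change ((aeval fun i => (X i : MvPolynomial (Fin r) L)).toRingHom) f = _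
      congr 1
      exact MvPolynomial.ringHom_ext (fun c => by simp [IsScalarTower.algebraMap_apply k L (MvPolynomial (Fin r) L)])
        fun i => by simp
    rw [h3] at h2
    exact hf (MvPolynomial.map_injective _ (algebraMap k L).injective (by rw [← h2, map_zero]))
  have hint : ∀ q : MvPolynomial (Fin r) L, IsIntegral (MvPolynomial (Fin r) k) q := by
    intro q
    induction q using MvPolynomial.induction_on with
    | C c =>
      have hc : IsIntegral k c := IsIntegral.of_finite k c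
      obtain ⟨p, hp, hp0⟩ := hc
      refine ⟨p.map C, hp.map C, ?_⟩
      rw [Polynomial.eval₂_map, show (algebraMap (MvPolynomial (Fin r) k) (MvPolynomial (Fin r) L)).comp C =
        C.comp (algebraMap k L) from RingHom.ext fun a => MvPolynomial.map_C _ a,
        ← Polynomial.hom_eval₂, hp0, map_zero]
    | add p q hp hq => exact hp.add hq
    | mul_X p i hp =>
      refine hp.mul ?_
      rw [show (X i : MvPolynomial (Fin r) L) = algebraMap (MvPolynomial (Fin r) k) (MvPolynomial (Fin r) L) (X i) from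
        (MvPolynomial.map_X _ i).symm]
      exact isIntegral_algebraMap
  obtain ⟨h, hh, hh0⟩ := (Submodule.ne_bot_iff _).1 (Ideal.comap_ne_bot_of_algebraic_mem
    (R := MvPolynomial (Fin r) k) hF (Ideal.mem_span_singleton_self F) (hint F).isAlgebraic)
  refine ⟨h, hh0, fun Ω _ _ σ g hg => ?_⟩
  obtain ⟨c, hc⟩ := Ideal.mem_span_singleton'.1 (Ideal.mem_comap.1 hh)
  let ev : MvPolynomial (Fin r) L →+* Ω := eval₂Hom σ.toRingHom g
  have e1 : ∀ a, ev (algebraMap (MvPolynomial (Fin r) k) (MvPolynomial (Fin r) L) a) = aeval g a := by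
    intro a
    change (ev.comp (MvPolynomial.map (algebraMap k L))) a = (aeval g).toRingHom a
    congr 1
    exact MvPolynomial.ringHom_ext (fun c => by simp [ev]) fun i => by simp [ev]
  have e2 : ev F = aeval (fun i => σ (ξ i) + σ τ * g i) f := by
    change (ev.comp (aeval fun i => C (ξ i) + C τ * X i).toRingHom) f =
      (aeval fun i => σ (ξ i) + σ τ * g i).toRingHom f
    congr 1
    exact MvPolynomial.ringHom_ext (fun c => by
      simp [ev, IsScalarTower.algebraMap_apply k L (MvPolynomial (Fin r) L)]) fun i => by simp [ev]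
  rw [← e1, ← hc, map_mul, e2, hg, mul_zero]

theorem exists_q {R : Type u} [CommRing R] [Algebra k R] [Module.Finite k R] {r : ℕ} (N : ℕ)
    (f : MvPolynomial (Fin r) k) (hf : f ≠ 0) (p : Polynomial k) (hp0 : p.eval 0 ≠ 0)
    (x : Fin r → R) (t : R) (ht : Polynomial.aeval t p = 0) :
    ∃ h : MvPolynomial (Fin r) k, h ≠ 0 ∧ ∀ (Ω : Type v) [Field Ω] [Algebra k Ω] (ψ : R →ₐ[k] Ω)
      (g : Fin r → Ω), aeval (fun i => ψ (x i) + ψ t ^ N * g i) f = 0 → aeval g h = 0 := by
  classical
  haveI : IsArtinianRing R := IsArtinianRing.of_finite k R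
  have hq : ∀ q : MaximalSpectrum R, ∃ h : MvPolynomial (Fin r) k, h ≠ 0 ∧
      ∀ (Ω : Type v) [Field Ω] [Algebra k Ω] (ψ : R →ₐ[k] Ω) (g : Fin r → Ω),
        RingHom.ker ψ.toRingHom = q.asIdeal →
        aeval (fun i => ψ (x i) + ψ t ^ N * g i) f = 0 → aeval g h = 0 := by
    intro q
    haveI := q.isMaximal
    letI := Ideal.Quotient.field q.asIdeal
    let π := Ideal.Quotient.mkₐ k q.asIdeal
    haveI : Module.Finite k (R ⧸ q.asIdeal) :=
      Module.Finite.of_surjective π.toLinearMap Ideal.Quotient.mk_surjective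
    have hτp : Polynomial.aeval (π t) p = 0 := by rw [Polynomial.aeval_algHom_apply, ht, map_zero]
    have hτ : π t ≠ 0 := fun e => by
      rw [e, ← map_zero (algebraMap k (R ⧸ q.asIdeal)), Polynomial.aeval_algebraMap_apply_eq_algebraMap_eval] at hτp
      exact hp0 ((algebraMap k (R ⧸ q.asIdeal)).injective hτp)
    obtain ⟨h, h0, hh⟩ := exists_elim.{u, v} f hf (fun i => π (x i)) (π t ^ N) (pow_ne_zero N hτ)
    refine ⟨h, h0, fun Ω _ _ ψ g hk hg => ?_⟩
    let σ : (R ⧸ q.asIdeal) →ₐ[k] Ω := Ideal.Quotient.liftₐ q.asIdeal ψ fun a ha => by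
      rw [← hk] at ha; exact ha
    refine hh Ω σ g ?_
    rw [map_pow]
    exact hg
  choose h h0 hh using hq
  letI := Fintype.ofFinite (MaximalSpectrum R)
  refine ⟨∏ q, h q, Finset.prod_ne_zero_iff.2 fun q _ => h0 q, fun Ω _ _ ψ g hf' => ?_⟩
  haveI h1 : (RingHom.ker ψ.toRingHom).IsPrime := RingHom.ker_isPrime _
  have h2 : (RingHom.ker ψ.toRingHom).IsMaximal := IsArtinianRing.isMaximal_of_isPrime _
  rw [map_prod]
  exact Finset.prod_eq_zero (i := ⟨RingHom.ker ψ.toRingHom, h2⟩) (Finset.mem_univ _) (hh _ Ω ψ g rfl hf')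

theorem exists_h {r : ℕ} (N : ℕ) (f : MvPolynomial (Fin r) k) (hf : f ≠ 0) (p : Polynomial k)
    (hp : p.Monic) (hp0 : p.eval 0 ≠ 0) (P : Ideal (MvPolynomial (Fin r) k)) (hP : P.IsMaximal) :
    ∃ h : MvPolynomial (Fin r) k, h ≠ 0 ∧ ∀ (Ω : Type v) [Field Ω] [Algebra k Ω]
      (ξ : Fin r → Ω) (τ : Ω) (g : Fin r → Ω), (∀ q ∈ P, aeval ξ q = 0) → Polynomial.aeval τ p = 0 →
        aeval (fun i => ξ i + τ ^ N * g i) f = 0 → aeval g h = 0 := by
  classical
  haveI : Algebra.FiniteType k (MvPolynomial (Fin r) k ⧸ P) :=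
    Algebra.FiniteType.of_surjective (Ideal.Quotient.mkₐ k P) Ideal.Quotient.mk_surjective
  haveI : Module.Finite k (MvPolynomial (Fin r) k ⧸ P) :=
    @finite_of_finite_type_of_isJacobsonRing k (MvPolynomial (Fin r) k ⧸ P) _ (Ideal.Quotient.field P) _ _ _
  haveI : Module.Finite k (Polynomial k ⧸ Ideal.span {p}) := hp.finite_quotient
  obtain ⟨h, h0, hh⟩ := exists_q.{u, v}
    (R := TensorProduct k (MvPolynomial (Fin r) k ⧸ P) (Polynomial k ⧸ Ideal.span {p})) N f hf p hp0
    (fun i => (Ideal.Quotient.mk P (X i)) ⊗ₜ[k] 1) (1 ⊗ₜ[k] Ideal.Quotient.mk _ Polynomial.X) (by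
      let j : Polynomial k →ₐ[k] TensorProduct k (MvPolynomial (Fin r) k ⧸ P) (Polynomial k ⧸ Ideal.span {p}) :=
        (Algebra.TensorProduct.includeRight).comp (Ideal.Quotient.mkₐ k _)
      have : Polynomial.aeval ((1 : MvPolynomial (Fin r) k ⧸ P) ⊗ₜ[k] Ideal.Quotient.mk (Ideal.span {p}) Polynomial.X) = j :=
        Polynomial.algHom_ext (by simp [j])
      rw [this]
      show (1 : MvPolynomial (Fin r) k ⧸ P) ⊗ₜ[k] Ideal.Quotient.mk _ p = 0
      rw [Ideal.Quotient.eq_zero_iff_mem.2 (Ideal.mem_span_singleton_self p), TensorProduct.tmul_zero])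
  refine ⟨h, h0, fun Ω _ _ ξ τ g hξ hτ hf' => ?_⟩
  let e1 : (MvPolynomial (Fin r) k ⧸ P) →ₐ[k] Ω := Ideal.Quotient.liftₐ P (aeval ξ) hξ
  let e2 : (Polynomial k ⧸ Ideal.span {p}) →ₐ[k] Ω :=
    Ideal.Quotient.liftₐ (Ideal.span {p}) (Polynomial.aeval τ) fun a ha => by
      obtain ⟨c, rfl⟩ := Ideal.mem_span_singleton'.1 ha
      rw [map_mul, hτ, mul_zero]
  let ψ := Algebra.TensorProduct.lift e1 e2 fun _ _ => Commute.all _ _
  refine hh Ω ψ g ?_
  have a1 : ∀ i, ψ ((Ideal.Quotient.mk P (X i)) ⊗ₜ[k] 1) = ξ i := fun i => by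
    rw [Algebra.TensorProduct.lift_tmul, map_one, mul_one]
    exact aeval_X ξ i
  have a2 : ψ (1 ⊗ₜ[k] Ideal.Quotient.mk _ Polynomial.X) = τ := by
    rw [Algebra.TensorProduct.lift_tmul, map_one, one_mul]
    exact Polynomial.aeval_X τ
  simp only [a1, a2]
  exact hf'

end Lemmas

/-- Let k be an infinite perfect field, r, m, s ≥ 1 and d ≥ 0, and put N = s(m+1). In affine space with
coordinates x_1, …, x_r, t, y_1, …, y_d let Z = V(I) be an integral closed subscheme of dimension r
which does not meet t = 0 and such that neither the projection of Z to the x-coordinates nor its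
projection to the t-line is dominant (I contains a nonzero polynomial in the x's alone and a nonzero
polynomial in t alone). Let Σ be a finite set of closed points of affine r-space over k. Then there
is a nonzero polynomial h in k[g_1, …, g_r] such that for every field K over k and every g ∈ K^r
with h(g) ≠ 0 the translate Z_g = {(x, t, y) : (x + t^N g, t, y) ∈ Z_K} of Z_K is empty over an open
neighbourhood of the points of affine r-space over K lying over Σ: the closure of the image of Z_g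
in affine r-space over K (the zero set of the contraction to K[x_1, …, x_r] of the ideal of Z_g)
contains no point lying over a point of Σ. (The published statement assumes that Z is an irreducible
admissible additive cycle meeting the faces through Σ properly; of this its proof uses only that Z
misses t = 0, which is a hypothesis here, and the dense open subset of affine r-space is given as
the locus h ≠ 0.) -/
theorem result
    {k : Type u} [Field k] [Infinite k] [PerfectField k] (r m s d : ℕ) (hr : 1 ≤ r) (hm : 1 ≤ m) (hs : 1 ≤ s)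
    (I : Ideal (MvPolynomial (Fin r ⊕ (Unit ⊕ Fin d)) k)) (hI : I.IsPrime)
    (hdim : ringKrullDim (MvPolynomial (Fin r ⊕ (Unit ⊕ Fin d)) k ⧸ I) = r)
    (ht0 : I ⊔ Ideal.span {MvPolynomial.X (Sum.inr (Sum.inl ()))} = ⊤)
    (hx : Ideal.comap (MvPolynomial.rename (Sum.inl : Fin r → Fin r ⊕ (Unit ⊕ Fin d)) :
        MvPolynomial (Fin r) k →ₐ[k] MvPolynomial (Fin r ⊕ (Unit ⊕ Fin d)) k) I ≠ ⊥)
    (ht : Ideal.comap (MvPolynomial.rename (fun _ : Unit => (Sum.inr (Sum.inl ()) : Fin r ⊕ (Unit ⊕ Fin d))) :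
        MvPolynomial Unit k →ₐ[k] MvPolynomial (Fin r ⊕ (Unit ⊕ Fin d)) k) I ≠ ⊥)
    (Sigma : Finset (Ideal (MvPolynomial (Fin r) k))) (hSigma : ∀ P ∈ Sigma, P.IsMaximal) :
    ∃ h : MvPolynomial (Fin r) k, h ≠ 0 ∧
      ∀ (K : Type v) [Field K] [Algebra k K] (g : Fin r → K), MvPolynomial.aeval g h ≠ 0 →
        ∀ P ∈ Sigma,
          Ideal.comap (MvPolynomial.rename (Sum.inl : Fin r → Fin r ⊕ (Unit ⊕ Fin d)) :
              MvPolynomial (Fin r) K →ₐ[K] MvPolynomial (Fin r ⊕ (Unit ⊕ Fin d)) K)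
            (Ideal.map (MvPolynomial.aeval
                (Sum.elim (fun i : Fin r => MvPolynomial.X (Sum.inl i) +
                    MvPolynomial.X (Sum.inr (Sum.inl ())) ^ (s * (m + 1)) * MvPolynomial.C (g i))
                  (fun j : Unit ⊕ Fin d => MvPolynomial.X (Sum.inr j))) :
                MvPolynomial (Fin r ⊕ (Unit ⊕ Fin d)) k →ₐ[k] MvPolynomial (Fin r ⊕ (Unit ⊕ Fin d)) K) I) ⊔
            Ideal.map (MvPolynomial.map (algebraMap k K) : MvPolynomial (Fin r) k →+* MvPolynomial (Fin r) K) P = ⊤ := by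
  classical
  set tv := MvPolynomial.X (R := k) (Sum.inr (Sum.inl ()) : Fin r ⊕ (Unit ⊕ Fin d)) with htv
  have htI : tv ∉ I := fun h => hI.ne_top (by
    rw [← ht0, sup_eq_left.2 ((Ideal.span_singleton_le_iff_mem _).2 h)])
  obtain ⟨f, hfI, hf0⟩ := (Submodule.ne_bot_iff _).1 hx
  let pe : MvPolynomial Unit k ≃ₐ[k] Polynomial k := MvPolynomial.uniqueAlgEquiv k Unit
  let jt : Polynomial k →ₐ[k] MvPolynomial (Fin r ⊕ (Unit ⊕ Fin d)) k := Polynomial.aeval tv
  obtain ⟨p, hp, hp0, hpI⟩ : ∃ p : Polynomial k, p.Monic ∧ p.eval 0 ≠ 0 ∧ jt p ∈ I := by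
    obtain ⟨q, hqI, hq0⟩ := (Submodule.ne_bot_iff _).1 ht
    have hj : jt (pe q) = MvPolynomial.rename (fun _ : Unit => (Sum.inr (Sum.inl ()) : Fin r ⊕ (Unit ⊕ Fin d))) q := by
      have : jt.comp pe.toAlgHom = MvPolynomial.rename (fun _ : Unit => (Sum.inr (Sum.inl ()) : Fin r ⊕ (Unit ⊕ Fin d))) :=
        MvPolynomial.algHom_ext fun i => by simp [pe, jt, tv]
      exact AlgHom.congr_fun this q
    have hq : pe q ≠ 0 := by simpa using hq0
    obtain ⟨s', hs', hnd⟩ := (pe q).exists_eq_pow_rootMultiplicity_mul_and_not_dvd hq 0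
    have hqI' : jt (pe q) ∈ I := by rw [hj]; exact hqI
    rw [hs', map_mul, map_pow] at hqI'
    have hsI : jt s' ∈ I := (hI.mem_or_mem hqI').resolve_left fun h => htI (by
      have := hI.mem_of_pow_mem _ h
      simpa [jt] using this)
    have hs0 : s'.eval 0 ≠ 0 := fun e => hnd (Polynomial.dvd_iff_isRoot.2 e)
    have hsne : s' ≠ 0 := fun e => hs0 (by simp [e])
    refine ⟨s' * Polynomial.C s'.leadingCoeff⁻¹, Polynomial.monic_mul_leadingCoeff_inv hsne, ?_, ?_⟩
    · simp [hs0, hsne]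
    · rw [map_mul]; exact Ideal.mul_mem_right _ _ hsI
  let N := s * (m + 1)
  choose h h0 hh using fun P (hP : P ∈ Sigma) => exists_h.{u, v} N f hf0 p hp hp0 P (hSigma P hP)
  refine ⟨∏ P ∈ Sigma.attach, h P.1 P.2, Finset.prod_ne_zero_iff.2 fun P _ => h0 _ _, ?_⟩
  intro K _ _ g hg P hP
  set J := Ideal.map (MvPolynomial.aeval
      (Sum.elim (fun i : Fin r => MvPolynomial.X (Sum.inl i) +
          MvPolynomial.X (Sum.inr (Sum.inl ())) ^ (s * (m + 1)) * MvPolynomial.C (g i))
        (fun j : Unit ⊕ Fin d => MvPolynomial.X (Sum.inr j))) :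
      MvPolynomial (Fin r ⊕ (Unit ⊕ Fin d)) k →ₐ[k] MvPolynomial (Fin r ⊕ (Unit ⊕ Fin d)) K) I with hJ
  by_contra hne
  obtain ⟨M, hM, hle⟩ := Ideal.exists_le_maximal _ hne
  haveI := hM
  let P0 : Polynomial (MvPolynomial (Fin r) K) := p.map (algebraMap k (MvPolynomial (Fin r) K))
  have hP0 : P0.Monic := hp.map _
  haveI := hP0.finite_adjoinRoot
  haveI : Algebra.IsIntegral (MvPolynomial (Fin r) K) (AdjoinRoot P0) := Algebra.IsIntegral.of_finite _ _
  let E : Polynomial (MvPolynomial (Fin r) K) →+* MvPolynomial (Fin r ⊕ (Unit ⊕ Fin d)) K :=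
    Polynomial.eval₂RingHom (MvPolynomial.rename (R := K) (Sum.inl : Fin r → Fin r ⊕ (Unit ⊕ Fin d))).toRingHom
      (MvPolynomial.X (Sum.inr (Sum.inl ())))
  let J' := Ideal.comap E J
  have hP0J : P0 ∈ J' := by
    rw [Ideal.mem_comap]
    have := Ideal.mem_map_of_mem (MvPolynomial.aeval
      (Sum.elim (fun i : Fin r => MvPolynomial.X (Sum.inl i) +
          MvPolynomial.X (Sum.inr (Sum.inl ())) ^ (s * (m + 1)) * MvPolynomial.C (g i))
        (fun j : Unit ⊕ Fin d => MvPolynomial.X (Sum.inr j))) :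
      MvPolynomial (Fin r ⊕ (Unit ⊕ Fin d)) k →ₐ[k] MvPolynomial (Fin r ⊕ (Unit ⊕ Fin d)) K) hpI
    rw [← hJ] at this
    convert this using 1
    rw [← Polynomial.aeval_algHom_apply, htv, MvPolynomial.aeval_X, Sum.elim_inr, Polynomial.aeval_def]
    simp only [E, P0, Polynomial.coe_eval₂RingHom, Polynomial.eval₂_map]
    congr 1
    refine RingHom.ext fun c => ?_
    simp [IsScalarTower.algebraMap_apply k K (MvPolynomial (Fin r) K),
      IsScalarTower.algebraMap_apply k K (MvPolynomial (Fin r ⊕ (Unit ⊕ Fin d)) K)]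
  have hcomap : Ideal.comap (algebraMap (MvPolynomial (Fin r) K) (AdjoinRoot P0)) (J'.map (AdjoinRoot.mk P0)) ≤ M := by
    intro c hc
    rw [Ideal.mem_comap, AdjoinRoot.algebraMap_eq, ← AdjoinRoot.mk_C,
      Ideal.mem_map_iff_of_surjective _ AdjoinRoot.mk_surjective] at hc
    obtain ⟨a, ha, e⟩ := hc
    rw [AdjoinRoot.mk_eq_mk] at e
    obtain ⟨b, hb⟩ := e
    have hC : Polynomial.C c ∈ J' := by
      rw [show Polynomial.C c = a - P0 * b by rw [← hb]; ring]
      exact J'.sub_mem ha (J'.mul_mem_right _ hP0J)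
    refine hle (Submodule.mem_sup_left ?_)
    rw [Ideal.mem_comap]
    simpa [J', E] using hC
  obtain ⟨Q, hQge, hQ, hQc⟩ := Ideal.exists_ideal_over_prime_of_isIntegral M (J'.map (AdjoinRoot.mk P0)) hcomap
  haveI := hQ
  let Ω := FractionRing (AdjoinRoot P0 ⧸ Q)
  let π : AdjoinRoot P0 →+* Ω := (algebraMap (AdjoinRoot P0 ⧸ Q) Ω).comp (Ideal.Quotient.mk Q)
  have hπ : ∀ a ∈ Q, π a = 0 := fun a ha => by
    simp [π, Ideal.Quotient.eq_zero_iff_mem.2 ha]
  let ι : MvPolynomial (Fin r) K →+* Ω := π.comp (AdjoinRoot.of P0)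
  letI : Algebra k Ω := (ι.comp (algebraMap k (MvPolynomial (Fin r) K))).toAlgebra
  let ξ : Fin r → Ω := fun i => ι (MvPolynomial.X i)
  let τ : Ω := π (AdjoinRoot.root P0)
  let g' : Fin r → Ω := fun i => ι (MvPolynomial.C (g i))
  have hιM : ∀ a ∈ M, ι a = 0 := fun a ha => hπ _ (by rw [← hQc] at ha; exact ha)
  have hξ : ∀ q ∈ P, MvPolynomial.aeval ξ q = 0 := by
    intro q hq
    have h1 : MvPolynomial.aeval ξ q = ι (MvPolynomial.map (algebraMap k K) q) := by
      change (MvPolynomial.aeval ξ).toRingHom q = (ι.comp (MvPolynomial.map (algebraMap k K))) q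
      congr 1
      refine MvPolynomial.ringHom_ext (fun c => ?_) fun i => by simp [ξ]
      simp [RingHom.algebraMap_toAlgebra, IsScalarTower.algebraMap_apply k K (MvPolynomial (Fin r) K)]
      try rfl
    rw [h1]
    exact hιM _ (hle (Submodule.mem_sup_right (Ideal.mem_map_of_mem _ hq)))
  have hτ : Polynomial.aeval τ p = 0 := by
    have h1 : π (AdjoinRoot.mk P0 P0) = 0 := by rw [AdjoinRoot.mk_self, map_zero]
    rw [← h1, ← AdjoinRoot.aeval_eq, Polynomial.aeval_def, Polynomial.aeval_def, Polynomial.hom_eval₂,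
      Polynomial.eval₂_map]
    rfl
  have hfz : MvPolynomial.aeval (fun i => ξ i + τ ^ N * g' i) f = 0 := by
    let F0 : MvPolynomial (Fin r) k →+* Polynomial (MvPolynomial (Fin r) K) :=
      MvPolynomial.eval₂Hom (algebraMap k (Polynomial (MvPolynomial (Fin r) K)))
        fun i => Polynomial.C (MvPolynomial.X i) + Polynomial.X ^ N * Polynomial.C (MvPolynomial.C (g i))
    have h1 : F0 f ∈ J' := by
      rw [Ideal.mem_comap]
      have := Ideal.mem_map_of_mem (MvPolynomial.aeval
        (Sum.elim (fun i : Fin r => MvPolynomial.X (Sum.inl i) +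
            MvPolynomial.X (Sum.inr (Sum.inl ())) ^ (s * (m + 1)) * MvPolynomial.C (g i))
          (fun j : Unit ⊕ Fin d => MvPolynomial.X (Sum.inr j))) :
        MvPolynomial (Fin r ⊕ (Unit ⊕ Fin d)) k →ₐ[k] MvPolynomial (Fin r ⊕ (Unit ⊕ Fin d)) K) hfI
      rw [← hJ] at this
      convert this using 1
      rw [MvPolynomial.aeval_rename]
      change (E.comp F0) f = (MvPolynomial.aeval _).toRingHom f
      congr 1
      refine MvPolynomial.ringHom_ext (fun c => ?_) fun i => ?_
      · simp [E, F0, IsScalarTower.algebraMap_apply k (MvPolynomial (Fin r) K) (Polynomial (MvPolynomial (Fin r) K)),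
          IsScalarTower.algebraMap_apply k K (MvPolynomial (Fin r) K),
          IsScalarTower.algebraMap_apply k K (MvPolynomial (Fin r ⊕ (Unit ⊕ Fin d)) K)]
      · simp [E, F0, N]
        try ring
    have h2 : (π.comp (AdjoinRoot.mk P0)) (F0 f) = 0 := hπ _ (hQge (Ideal.mem_map_of_mem _ h1))
    rw [← h2]
    change (MvPolynomial.aeval fun i => ξ i + τ ^ N * g' i).toRingHom f = ((π.comp (AdjoinRoot.mk P0)).comp F0) f
    congr 1
    refine MvPolynomial.ringHom_ext (fun c => ?_) fun i => ?_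
    · simp [F0, ι, RingHom.algebraMap_toAlgebra,
        IsScalarTower.algebraMap_apply k (MvPolynomial (Fin r) K) (Polynomial (MvPolynomial (Fin r) K))]
      try rfl
    · simp [F0, ξ, τ, g', ι]
      try ring
  have hz := hh P hP Ω ξ τ g' hξ hτ hfz
  have h3 : MvPolynomial.aeval g' (h P hP) = (ι.comp MvPolynomial.C) (MvPolynomial.aeval g (h P hP)) := by
    change (MvPolynomial.aeval g').toRingHom (h P hP) = ((ι.comp MvPolynomial.C).comp (MvPolynomial.aeval g).toRingHom) (h P hP)
    congr 1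
    refine MvPolynomial.ringHom_ext (fun c => ?_) fun i => by simp [g']
    simp [RingHom.algebraMap_toAlgebra, IsScalarTower.algebraMap_apply k K (MvPolynomial (Fin r) K)]
    try rfl
  rw [h3, map_eq_zero] at hz
  refine hg ?_
  rw [map_prod]
  exact Finset.prod_eq_zero (i := ⟨P, hP⟩) (Finset.mem_attach _ _) hz

end Groth.Agent.S15088
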