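import Groth.Statements.S15092
import Groth.Agent.PBSurf14.Hirzebruch
import Groth.Agent.Surf15.RRCor
import Groth.Agent.Surf15.FibreDiv
import Groth.Agent.Surf15.Hodge
import Groth.Agent.Surf15.Inverse
import Groth.Agent.OmegaDual24.Main
-- import your own Groth.Agent.* helpers here

set_option autoImplicit false
set_option linter.style.haveILetI false
set_option backward.isDefEq.respectTransparency.types false
set_option maxHeartbeats 2000000
universe u
open CategoryTheory CategoryTheory.Limits AlgebraicGeometry TopologicalSpace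
open Surf

namespace Groth.Agent.S15092

open AlgebraicGeometry CategoryTheory CategoryTheory.Limits TopologicalSpace
open Groth.Agent.Coherent Groth.Agent.PicLib Groth.Agent.AmpleLib Groth.Agent.EulerLib Groth.Agent.Surf15

/-- Let k be an algebraically closed field, X a smooth projective surface over k (integral, proper and
smooth, of dimension 2), C a smooth projective curve over k (integral, proper and smooth, of
dimension 1) and f : X → C a semi-stable fibration: a surjective k-morphism with O_C → f_*O_X an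
isomorphism which is an at-worst-nodal family (flat, of finite presentation, all fibres
one-dimensional with at worst nodal singularities), whose fibre over some closed point q₀ is smooth
with χ(O) = 1 − g for some g ≥ 2 (computed on X through the direct image of the structure sheaf of
the fibre), and with no exceptional curve of the first kind in a fibre (no integral vertical curve E
with χ(O_E) = 1 and E² = −1). Let ω_{X/C} = ω_X ⊗ (f^*Ω_{C/k})^{-1} be the relative dualizing
module, ω_X a second exterior power of Ω_{X/k} and (f^*Ω_{C/k})^{-1} a tensor inverse of f^*Ω_{C/k}.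
Let D ⊆ X be an integral curve (integral closed subscheme of dimension 1) lying in a fibre of f, and
O_X(D) a tensor inverse of its ideal sheaf. Then (ω_{X/C}·O_X(D)) ≥ 0; and if (ω_{X/C}·O_X(D)) = 0
then χ(O_D) = 1 and (D·D) = −2, that is, D is a smooth rational curve of self-intersection −2. Here
(L·L') = χ(O_X) − χ(L) − χ(L') + χ(L ⊗ L') for invertible L, L'. -/
theorem result (k : Type u) [Field k] [IsAlgClosed k]
    (X : Scheme.{u}) [X.Over (Spec (CommRingCat.of k))] [IsProper (X ↘ (Spec (CommRingCat.of k)))]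
    [Smooth (X ↘ (Spec (CommRingCat.of k)))] [IsIntegral X] (hdim : topologicalKrullDim X = 2)
    (C : Scheme.{u}) [C.Over (Spec (CommRingCat.of k))] [IsProper (C ↘ (Spec (CommRingCat.of k)))]
    [Smooth (C ↘ (Spec (CommRingCat.of k)))] [IsIntegral C] (hdimC : topologicalKrullDim C = 1)
    (f : X ⟶ C) [f.IsOver (Spec (CommRingCat.of k))] [Surjective f] (hconn : IsIso (ClSub.unitToPush f))
    (hss : Curv2.IsNodalFamily f)
    (q₀ : C) (hq₀ : IsClosed ({q₀} : Set C)) (hsm : Smooth (f.fiberToSpecResidueField q₀))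
    (g : ℕ) (hg2 : 2 ≤ g) (hg : Curv2.euler k X (ClSub.quotMod (f.fiberι q₀).ker) = 1 - (g : ℤ))
    (hmin : ∀ E : X.IdealSheafData, IsIntegral E.subscheme → topologicalKrullDim (E.support : Set X) = 1 →
      (∃ c : C, ∀ x : X, x ∈ E.support → f.base x = c) → Curv2.euler k X (ClSub.quotMod E) = 1 →
      FGA.intNum k X 2 ![ClSub.idealMod E, ClSub.idealMod E] (Coh.structureModule X) ≠ -1)
    (WX : X.Modules) (hWX : ExtPow.IsExtPow 2 (Omega.sheaf (X ↘ (Spec (CommRingCat.of k)))) WX)
    (M : X.Modules) (hM : ClSub.IsInverseOf M ((Scheme.Modules.pullback f).obj (Omega.sheaf (C ↘ (Spec (CommRingCat.of k))))))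
    (D : X.IdealSheafData) (hD : IsIntegral D.subscheme) (hD1 : topologicalKrullDim (D.support : Set X) = 1)
    (hDv : ∃ c : C, ∀ x : X, x ∈ D.support → f.base x = c)
    (LD : X.Modules) (hLD : ClSub.IsInverseOf LD (ClSub.idealMod D)) :
    0 ≤ FGA.intNum k X 2 ![(CohB1.tensorMod WX M), LD] (Coh.structureModule X) ∧
      (FGA.intNum k X 2 ![(CohB1.tensorMod WX M), LD] (Coh.structureModule X) = 0 →
        Curv2.euler k X (ClSub.quotMod D) = 1 ∧ FGA.intNum k X 2 ![LD, LD] (Coh.structureModule X) = -2) := by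
  classical
  haveI := isNoetherian_of_proper (X := X) k
  have hX : topologicalKrullDim X = ((2 : ℕ) : WithBot ℕ∞) := by rw [hdim]; rfl
  have hreg : ∀ x : X, IsRegularLocalRing (X.presheaf.stalk x) := fun x =>
    VarietyLib.isRegularLocalRing_stalk_of_smooth k X (X ↘ Spec (CommRingCat.of k)) x
  obtain ⟨H, hH⟩ := exists_ample k hX hreg
  obtain ⟨c, hc⟩ := hDv
  have hDd : topologicalKrullDim (D.support : Set X) = ((1 : ℕ) : WithBot ℕ∞) := by rw [hD1]; rfl
  have hDc : IsCrv D := ⟨hD, hDd⟩
  have hDE := hDc.isEffCartier k hX hreg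
  have hsub : (D.support : Set X) ⊆ f ⁻¹' {c} := fun z hz => hc z hz
  have hWi := isInvertible_canonical k hX hWX
  set w := InvCl.mk WX hWi
  set d := clI' D hDE with hd
  -- the fibre
  obtain ⟨I, hI, he, hF, hs⟩ := exists_fibreDiv k hdimC f hq₀
  set φ := clI' (f.fiberι q₀).ker hF with hφ
  have hne : (f.fiberι q₀).ker ≠ ⊤ := fun e => by
    obtain ⟨x, hx⟩ := f.surjective q₀
    have : x ∈ ((f.fiberι q₀).ker.support : Set X) := by rw [hs]; exact hx
    rw [e, Scheme.IdealSheafData.support_top] at this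
    exact this
  have hφφ : B k φ φ = 0 := B_fibre_self k hX hreg hdimC f hq₀ hF
  have hdφ : B k d φ = 0 := by
    rw [hφ, clI'_congr he hF (he ▸ hF)]
    exact B_comap_eq_zero k hX f hI (he ▸ hF) hDE hsub
  have hφw : B k φ w < 0 := by
    have h := Surf15.two_euler_quotMod k hX hWX hWi hF
    rw [intNum_eq_B k hX.le (FlatMor12.IdealModGen.isInvertible_idealMod _ hF) hWi,
      intNum_eq_B k hX.le (FlatMor12.IdealModGen.isInvertible_idealMod _ hF)
        (FlatMor12.IdealModGen.isInvertible_idealMod _ hF), hg] at h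
    change _ = B k φ w - B k φ φ at h
    have : (2 : ℤ) ≤ g := by exact_mod_cast hg2
    linarith
  set h₀ := InvCl.mk H hH.1
  have hp : B k φ h₀ < 0 := B_clI'_ample_neg k hX hF hne hH
  have hq : B k d h₀ < 0 := B_clI'_ample_neg k hX hDE hDc.ne_top hH
  have hhh : 0 < B k h₀ h₀ := B_ample_pos k hX hH hH
  obtain ⟨z₁, hz₁⟩ := exists_zcomb k hX.le d (B k φ h₀)
  obtain ⟨z₂, hz₂⟩ := exists_zcomb k hX.le φ (-B k d h₀)
  set z := z₁ * z₂
  have hz : ∀ e, B k z e = B k φ h₀ * B k d e - B k d h₀ * B k φ e := fun e => by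
    rw [B_mul_left k hX.le, hz₁, hz₂]; ring
  have hzh : B k z h₀ = 0 := by rw [hz]; ring
  have hzd : B k z d = B k φ h₀ * B k d d := by rw [hz, B_comm k φ d, hdφ]; ring
  have hzφ : B k z φ = 0 := by rw [hz, hdφ, hφφ]; ring
  have hzz : B k z z = B k φ h₀ * (B k φ h₀ * B k d d) := by
    rw [hz z, B_comm k d z, B_comm k φ z, hzd, hzφ]; ring
  have hs0 : B k d d ≤ 0 := by
    have h := B_self_nonpos k hX hH z hzh
    rw [hzz] at h
    nlinarith [mul_pos_of_neg_of_neg hp hp]
  have hzero : B k d d = 0 → B k d w < 0 := by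
    intro h0
    obtain ⟨y₁, hy₁⟩ := exists_zcomb k hX.le w (B k h₀ h₀)
    obtain ⟨y₂, hy₂⟩ := exists_zcomb k hX.le h₀ (-B k w h₀)
    set y := y₁ * y₂
    have hy : ∀ e, B k y e = B k h₀ h₀ * B k w e - B k w h₀ * B k h₀ e := fun e => by
      rw [B_mul_left k hX.le, hy₁, hy₂]; ring
    have hyh : B k y h₀ = 0 := by rw [hy]; ring
    have hn : ∀ n : ℤ, 2 * n * B k z y + B k y y ≤ 0 := by
      intro n
      obtain ⟨v, hv⟩ := exists_zcomb k hX.le z n
      have hvy : ∀ e, B k (v * y) e = n * B k z e + B k y e := fun e => by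
        rw [B_mul_left k hX.le, hv]
      have h := B_self_nonpos k hX hH (v * y) (by rw [hvy, hzh, hyh]; ring)
      rw [hvy, B_comm k z (v * y), B_comm k y (v * y), hvy, hvy, hzz, h0, B_comm k y z] at h
      nlinarith
    have hzy : B k z y = 0 := by
      by_contra hne'
      have h1 := hn ((|B k y y| + 1) * B k z y)
      have h2 : 0 < B k z y * B k z y := mul_self_pos.2 hne'
      nlinarith [abs_nonneg (B k y y), neg_abs_le (B k y y)]
    have hzw : B k z w = 0 := by
      rw [B_comm k z y, hy, B_comm k h₀ z, hzh, B_comm k w z] at hzy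
      rcases mul_eq_zero.1 (by linarith : B k h₀ h₀ * B k z w = 0) with h | h
      · omega
      · exact h
    rw [hz] at hzw
    nlinarith [mul_pos_of_neg_of_neg hq hφw]
  -- adjunction
  have hadj := Surf15.two_euler_quotMod k hX hWX hWi hDE
  rw [intNum_eq_B k hX.le (FlatMor12.IdealModGen.isInvertible_idealMod D hDE) hWi,
    intNum_eq_B k hX.le (FlatMor12.IdealModGen.isInvertible_idealMod D hDE)
      (FlatMor12.IdealModGen.isInvertible_idealMod D hDE)] at hadj
  change _ = B k d w - B k d d at hadj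
  have hchi : Curv2.euler k X (ClSub.quotMod D) ≤ 1 := by
    letI : D.subscheme.Over (Spec (CommRingCat.of k)) := ⟨D.subschemeι ≫ (X ↘ Spec (CommRingCat.of k))⟩
    rw [(euler_quotMod_curve k hX hD hDd).1]
    have : (0 : ℤ) ≤ (Curv2.genus k D.subscheme : ℤ) := Int.natCast_nonneg _
    linarith
  have hmin' : Curv2.euler k X (ClSub.quotMod D) = 1 → B k d d ≠ -1 := fun h e =>
    hmin D hD hD1 ⟨c, hc⟩ h (by
      rw [intNum_eq_B k hX.le (FlatMor12.IdealModGen.isInvertible_idealMod D hDE)
        (FlatMor12.IdealModGen.isInvertible_idealMod D hDE)]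
      exact e)
  -- the inverses
  have hLi : PicF.IsInvertible LD := by
    obtain ⟨e⟩ := hLD
    exact isInvertible_inverse (FlatMor12.IdealModGen.isInvertible_idealMod D hDE)
      ⟨AmpleLib.tensorComm _ _ ≪≫ e⟩
  have hal : InvCl.mk LD hLi * d = 1 := by
    obtain ⟨e⟩ := hLD
    exact InvCl.mk_eq _ _ e
  have hΩ : PicF.IsInvertible (Omega.sheaf (C ↘ Spec (CommRingCat.of k))) :=
    OmegaDual24.isInvertible_omega hdimC
  have hpΩ := PicLoc.isInvertible_pullback f hΩ
  have hMi : PicF.IsInvertible M := by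
    obtain ⟨e⟩ := hM
    exact isInvertible_inverse hpΩ ⟨AmpleLib.tensorComm _ _ ≪≫ e⟩
  have hMl : InvCl.mk M hMi * InvCl.mk _ hpΩ = 1 := by
    obtain ⟨e⟩ := hM
    exact InvCl.mk_eq _ _ e
  have hdm : B k d (InvCl.mk M hMi) = 0 := by
    have h := B_inv_left k hX.le ((mul_comm _ _).trans hMl) d
    rw [B_comm k _ d, B_comm k _ d, PBSurf14.B_pull_eq_zero k hX.le f hΩ hDE hsub] at h
    linarith
  rw [intNum_eq_B k hX.le (isInvertible_tensorMod hWi hMi) hLi, intNum_eq_B k hX.le hLi hLi, ← InvCl.mk_mul hWi hMi]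
  have hL1 : ∀ e, B k (InvCl.mk LD hLi) e = - B k d e := fun e => by
    have := B_inv_left k hX.le ((mul_comm _ _).trans hal) e
    linarith
  have hT : B k (w * InvCl.mk M hMi) (InvCl.mk LD hLi) = - B k d w := by
    rw [B_comm k (w * _) (InvCl.mk LD hLi), hL1, B_mul_right k hX.le, hdm, add_zero]
  rw [hT, hL1, B_comm k d (InvCl.mk LD hLi), hL1]
  rcases eq_or_lt_of_le hs0 with h0 | h0
  · have := hzero h0
    exact ⟨by linarith, fun h => by linarith⟩
  · by_cases hc1 : Curv2.euler k X (ClSub.quotMod D) = 1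
    · have := hmin' hc1
      exact ⟨by omega, fun h => ⟨hc1, by omega⟩⟩
    · exact ⟨by omega, fun h => by omega⟩

end Groth.Agent.S15092
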