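import Groth.Statements.S15094
import Groth.Agent.KodV15.PthPower
import Groth.Agent.Lef23.Neg
import Groth.Agent.EulerLib.InvClass
import Groth.Agent.AlgGrpLib.PicProdTriv
-- import your own Groth.Agent.* helpers here

set_option autoImplicit false
set_option backward.isDefEq.respectTransparency.types false
set_option linter.style.haveILetI false
universe u
open CategoryTheory CategoryTheory.Limits AlgebraicGeometry TopologicalSpace
open KodV

namespace Groth.Agent.S15094

/-- Let k be an algebraically closed field of characteristic p > 0, X a smooth proper integral scheme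
over k, and L an invertible O_X-module with tensor inverse L⁻¹. If H⁰(X, (L⁻¹)^{⊗p^n} ⊗ Ω¹_{X/k}) =
0 for every n ≥ 1 and H¹(X, (L⁻¹)^{⊗p^{n₀}}) = 0 for some n₀, then H¹(X, L⁻¹) = 0. (The published
statement says smooth projective variety over a field of characteristic p; smooth, proper and
integral over an algebraically closed field is assumed here, the setting of the proposition it is
deduced from.) -/
theorem result (k : Type u) [Field k] [IsAlgClosed k] (p : ℕ) [Fact p.Prime] [CharP k p]
    (X : Scheme.{u}) [X.Over (Spec (CommRingCat.of k))] [IsProper (X ↘ (Spec (CommRingCat.of k)))] [Smooth (X ↘ (Spec (CommRingCat.of k)))] [IsIntegral X]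
    (L Linv : X.Modules) (hL : PicF.IsInvertible L) (hLinv : ClSub.IsInverseOf Linv L)
    (h0 : ∀ n : ℕ, 1 ≤ n → Subsingleton (Coh.HH X (CohB1.tensorMod (CohB1.tensorPow Linv (p ^ n)) (Omega.sheaf (X ↘ (Spec (CommRingCat.of k))))) 0))
    (h1 : ∃ n₀ : ℕ, Subsingleton (Coh.HH X (CohB1.tensorPow Linv (p ^ n₀)) 1)) :
    Subsingleton (Coh.HH X Linv 1) := by
  haveI : ExpChar k p := ExpChar.prime Fact.out
  haveI : PerfectRing k p := PerfectField.toPerfectRing p
  have hXn : Pi1.IsNormalScheme X :=
    NeronLib.isNormalScheme_of_smooth (X ↘ Spec (CommRingCat.of k)) AlgGrpLib.PicProdTriv.isNormal_spec_field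
  have hM : PicF.IsInvertible Linv :=
    Lef23.isInvertible_inverse hL (hLinv.map fun e => AmpleLib.tensorComm L Linv ≪≫ e)
  have hdown : ∀ n : ℕ, Subsingleton (Coh.HH X (CohB1.tensorPow Linv (p ^ n)) 1) →
      Subsingleton (Coh.HH X (CohB1.tensorPow Linv 1) 1) := by
    intro n
    induction n with
    | zero => intro h; rwa [pow_zero] at h
    | succ n ih =>
      intro h
      obtain ⟨θ, -⟩ := AmpleLib.exists_powPowIso hM (p ^ n) p
      refine ih (KodV15.subsingleton_H1 (k := k) (p := p) hXn (AmpleLib.isInvertible_tensorPow hM _) ?_ ?_)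
      · have h2 := h0 (n + 1) (Nat.le_add_left 1 n)
        rw [pow_succ] at h2
        exact Lef23.subsingleton_HH_iso (AmpleLib.tensorIso θ (Iso.refl _)).symm 0 h2
      · rw [pow_succ] at h
        exact Lef23.subsingleton_HH_iso θ.symm 1 h
  obtain ⟨n₀, hn₀⟩ := h1
  obtain ⟨θ⟩ : Nonempty (CohB1.tensorPow Linv 1 ≅ Linv) :=
    Quotient.exact (show EulerLib.InvCl.mk _ (AmpleLib.isInvertible_tensorPow hM 1) = EulerLib.InvCl.mk Linv hM by
      rw [EulerLib.InvCl.mk_tensorPow hM, pow_one])
  exact Lef23.subsingleton_HH_iso θ 1 (hdown n₀ hn₀)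

end Groth.Agent.S15094
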