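import Groth.Statements.S15098
import Groth.Agent.Surf15.NumConn
import Groth.Agent.VarietyLib.SmoothStalk
-- import your own Groth.Agent.* helpers here

set_option autoImplicit false
universe u
open CategoryTheory CategoryTheory.Limits AlgebraicGeometry TopologicalSpace
open Surf

namespace Groth.Agent.S15098

/-- Let k be an algebraically closed field, X a smooth projective surface over k (integral, proper and
smooth, of dimension 2) and D an effective Cartier divisor on X, given by its ideal sheaf I_D, which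
is numerically positive: (D·D) > 0 and (D·Γ) ≥ 0 for every integral curve Γ ⊆ X, that is χ(O_Γ ⊗
I_D) − χ(O_Γ) ≤ 0. Then D is numerically connected: whenever D = D₁ + D₂ with D₁, D₂ non-zero
effective Cartier divisors (I_D = I_{D₁}·I_{D₂} with both ideal sheaves different from O_X), (D₁·D₂)
> 0. Intersection numbers of divisors are computed on their ideal sheaves: (D₁·D₂) = χ(O_X) −
χ(I_{D₁}) − χ(I_{D₂}) + χ(I_{D₁} ⊗ I_{D₂}). (The published lemma sits in a positive-characteristic
setting; its argument does not use the characteristic, so none is assumed here.) -/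
theorem result (k : Type u) [Field k] [IsAlgClosed k]
    (X : Scheme.{u}) [X.Over (Spec (CommRingCat.of k))] [IsProper (X ↘ (Spec (CommRingCat.of k)))]
    [Smooth (X ↘ (Spec (CommRingCat.of k)))] [IsIntegral X] (hdim : topologicalKrullDim X = 2)
    (D : X.IdealSheafData) (hD : FGA.IsEffCartier D)
    (hpos : 0 < FGA.intNum k X 2 ![(ClSub.idealMod D), (ClSub.idealMod D)] (Coh.structureModule X))
    (hnef : ∀ Γ : X.IdealSheafData, IsIntegral Γ.subscheme → topologicalKrullDim (Γ.support : Set X) = 1 →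
      Curv2.euler k X (CohB1.tensorMod (ClSub.quotMod Γ) (ClSub.idealMod D)) - Curv2.euler k X (ClSub.quotMod Γ) ≤ 0)
    (D₁ D₂ : X.IdealSheafData) (hD₁ : FGA.IsEffCartier D₁) (hD₂ : FGA.IsEffCartier D₂)
    (hne₁ : D₁ ≠ ⊤) (hne₂ : D₂ ≠ ⊤) (hsum : D = D₁ * D₂) :
    0 < FGA.intNum k X 2 ![(ClSub.idealMod D₁), (ClSub.idealMod D₂)] (Coh.structureModule X) := by
  have hX : topologicalKrullDim X = ((2 : ℕ) : WithBot ℕ∞) := by exact_mod_cast hdim
  have hreg := fun x : X => Groth.Agent.VarietyLib.isRegularLocalRing_stalk_of_smooth k X (X ↘ Spec (CommRingCat.of k)) x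
  obtain ⟨H, hH⟩ := Surf15.exists_ample k hX hreg
  have hD1 := Surf15.blowUp_of_fga hD₁
  have hD2 := Surf15.blowUp_of_fga hD₂
  have hI := FlatMor12.IdealModGen.isInvertible_idealMod (X := X)
  subst hsum
  rw [Surf15.intNum_eq_B k hX.le (hI _ hD1) (hI _ hD2)]
  rw [Surf15.intNum_eq_B k hX.le (hI _ (ModPairLib.isEffCartier_mul hD1 hD2)) (hI _ (ModPairLib.isEffCartier_mul hD1 hD2))] at hpos
  let c1 := Surf15.clI' D₁ hD1
  let c2 := Surf15.clI' D₂ hD2
  change 0 < Surf15.B k c1 c2
  have hc : Surf15.clI' (D₁ * D₂) (ModPairLib.isEffCartier_mul hD1 hD2) = c1 * c2 := Surf15.clI'_mul D₁ D₂ hD1 hD2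
  change 0 < Surf15.B k (Surf15.clI' (D₁ * D₂) (ModPairLib.isEffCartier_mul hD1 hD2))
    (Surf15.clI' (D₁ * D₂) (ModPairLib.isEffCartier_mul hD1 hD2)) at hpos
  have hnef' : ∀ A (hA : BlowUp.IsEffCartierIdeal A), A ≠ ⊤ → 0 ≤ Surf15.B k (Surf15.clI' A hA) (c1 * c2) := by
    intro A hA hA0
    refine Surf15.cycle_rec k hX hreg (P := fun A hA => 0 ≤ Surf15.B k (Surf15.clI' A hA) (c1 * c2))
      (fun W C hW hC _ _ h1 h2 => by rw [Surf15.clI'_mul W C hW hC, Surf15.B_mul_left k hX.le]; omega)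
      hA hA0 fun C hC hCc _ => ?_
    have h := hnef C hCc.1 (by rw [hCc.2]; rfl)
    rw [← Surf15.deg_mk k (ClSub.quotMod C) (hI _ (ModPairLib.isEffCartier_mul hD1 hD2)),
      Surf15.deg_quotMod k hC] at h
    rw [← hc]
    change -Surf15.B k _ (Surf15.clI' (D₁ * D₂) (ModPairLib.isEffCartier_mul hD1 hD2)) ≤ 0 at h
    omega
  rw [hc] at hpos
  have h1 := hnef' D₁ hD1 hne₁
  have h2 := hnef' D₂ hD2 hne₂
  rw [Surf15.B_mul_right k hX.le] at h1 h2
  rw [Surf15.B_mul_left k hX.le, Surf15.B_mul_right k hX.le, Surf15.B_mul_right k hX.le] at hpos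
  rw [Surf15.B_comm k c2 c1] at h2 hpos
  by_contra hle
  push Not at hle
  have hA1 := Surf15.B_clI'_ample_neg k hX hD1 hne₁ hH
  have hA2 := Surf15.B_clI'_ample_neg k hX hD2 hne₂ hH
  rcases lt_or_ge (-Surf15.B k c1 c2) (Surf15.B k c1 c1) with ha | ha
  · have hs := Surf15.B_sq_ge k hX hH (a := c1) (by omega) c2
    rcases eq_or_lt_of_le hle with hb | hb
    · have hz := Surf15.B_eq_zero_of_null k hX hH (d := c1) (a := c2) (by omega) hb (by nlinarith)
        (EulerLib.InvCl.mk H hH.1)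
      change Surf15.B k c2 (EulerLib.InvCl.mk H hH.1) < 0 at hA2
      omega
    · nlinarith
  · have ha2 : -Surf15.B k c1 c2 < Surf15.B k c2 c2 := by omega
    have hs := Surf15.B_sq_ge k hX hH (a := c2) (by omega) c1
    rw [Surf15.B_comm k c2 c1] at hs
    rcases eq_or_lt_of_le hle with hb | hb
    · have hz := Surf15.B_eq_zero_of_null k hX hH (d := c2) (a := c1) (by omega)
        (by rw [Surf15.B_comm k]; exact hb) (by nlinarith) (EulerLib.InvCl.mk H hH.1)
      change Surf15.B k c1 (EulerLib.InvCl.mk H hH.1) < 0 at hA1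
      omega
    · nlinarith

end Groth.Agent.S15098
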