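import Groth.Statements.S15099
import Groth.Agent.Surf15.CycleSections
import Groth.Agent.VarietyLib.SmoothStalk
-- import your own Groth.Agent.* helpers here

set_option autoImplicit false
universe u
open CategoryTheory CategoryTheory.Limits AlgebraicGeometry TopologicalSpace
open Surf

namespace Groth.Agent.S15099

/-- Let k be an algebraically closed field, X a smooth projective surface over k (integral, proper and
smooth, of dimension 2) and D a non-zero effective Cartier divisor on X (ideal sheaf I_D ≠ O_X)
which is numerically connected: whenever D = D₁ + D₂ with D₁, D₂ non-zero effective Cartier divisors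
(I_D = I_{D₁}·I_{D₂}, both different from O_X), (D₁·D₂) = χ(O_X) − χ(I_{D₁}) − χ(I_{D₂}) + χ(I_{D₁}
⊗ I_{D₂}) > 0. Then H⁰(D, O_D) = k, i.e. it is one-dimensional over k (computed on X through the
direct image of O_D). (The published lemma sits in a positive-characteristic setting; the printed
argument does not use the characteristic, so none is assumed here.) -/
theorem result (k : Type u) [Field k] [IsAlgClosed k]
    (X : Scheme.{u}) [X.Over (Spec (CommRingCat.of k))] [IsProper (X ↘ (Spec (CommRingCat.of k)))]
    [Smooth (X ↘ (Spec (CommRingCat.of k)))] [IsIntegral X] (hdim : topologicalKrullDim X = 2)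
    (D : X.IdealSheafData) (hD : FGA.IsEffCartier D) (hD0 : D ≠ ⊤)
    (hnc : ∀ D₁ D₂ : X.IdealSheafData, FGA.IsEffCartier D₁ → FGA.IsEffCartier D₂ → D₁ ≠ ⊤ → D₂ ≠ ⊤ →
      D = D₁ * D₂ → 0 < FGA.intNum k X 2 ![(ClSub.idealMod D₁), (ClSub.idealMod D₂)] (Coh.structureModule X)) :
    Module.finrank k (Coh.HH X (ClSub.quotMod D) 0) = 1 := by
  have hX : topologicalKrullDim X = ((2 : ℕ) : WithBot ℕ∞) := by exact_mod_cast hdim
  have hreg := fun x : X => Groth.Agent.VarietyLib.isRegularLocalRing_stalk_of_smooth k X (X ↘ Spec (CommRingCat.of k)) x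
  have hO := AmpleLib.isInvertible_structureModule (X := X)
  have h := Surf15.h0_le_one_and_iso k hX hreg (Surf15.blowUp_of_fga hD) hD0 hO (fun A R hA hR hA0 hR0 e => by
    have h := hnc A R (Surf15.fga_of_blowUp hA) (Surf15.fga_of_blowUp hR) hA0 hR0 e
    refine Surf15.exists_crv_pos k hX hreg _ hR hR0 ?_
    rwa [Surf15.intNum_eq_B k hX.le (FlatMor12.IdealModGen.isInvertible_idealMod _ hA)
      (FlatMor12.IdealModGen.isInvertible_idealMod _ hR)] at h) fun C hC hle => by
    rw [Surf15.deg_mk k (ClSub.quotMod C) hO,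
      EulerLib.euler_congr k X (AmpleLib.tensorComm _ _ ≪≫ AmpleLib.unitTensorIso (ClSub.quotMod C))]
    omega
  have h1 := Surf15.one_le_h0_quotMod k hD0
  have h2 := h.1
  rw [CurveRR24.finrank_HH_congr k (AmpleLib.tensorComm _ _ ≪≫ AmpleLib.unitTensorIso (ClSub.quotMod D)) 0] at h2
  omega

end Groth.Agent.S15099
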