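import Groth.Statements.S15100
import Mathlib
-- import your own Groth.Agent.* helpers here

set_option autoImplicit false
universe u
open TensorProduct
open CAlg

namespace Groth.Agent.S15100

/-- Let V be a discrete valuation ring with uniformizer u and V → R → A commutative V-algebras with A an
R-algebra compatibly; assume A is a Noetherian local domain of Krull dimension 3 with u in its
maximal ideal, that Ω_{A/V} is a free A-module of rank 2 and that A ⊗_R Ω_{R/V} is a free A-module
of rank 1. Suppose that on the special fibre Ω_{A/R} is locally free exactly away from the closed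
point: for every prime P of A containing u other than the maximal ideal the localization (Ω_{A/R})_P
is free over A_P, while Ω_{A/R} is not free over A. Then Ω_{A/R} is not locally free on the generic
fibre: there is a prime Q of A not containing u with (Ω_{A/R})_Q not free over A_Q. (In the
published statement R is a regular local ring of dimension 2 and A a local ring of dimension 3, both
smooth over V, which yields the two freeness hypotheses used here, and the hypothesis is phrased as
local freeness of Ω of the special fibre of A over that of R away from the closed point.) -/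
theorem result
    (V R A : Type u) [CommRing V] [IsDomain V] [IsDiscreteValuationRing V] [CommRing R] [CommRing A]
    [IsDomain A] [IsNoetherianRing A] [IsLocalRing A]
    [Algebra V R] [Algebra V A] [Algebra R A] [IsScalarTower V R A]
    (u : V) (hu : Irreducible u) (huA : algebraMap V A u ∈ IsLocalRing.maximalIdeal A)
    (hdimA : ringKrullDim A = 3)
    (hΩA : Module.Free A (Ω[A⁄V])) (hrkA : Module.finrank A (Ω[A⁄V]) = 2)
    (hΩR : Module.Free A (A ⊗[R] Ω[R⁄V])) (hrkR : Module.finrank A (A ⊗[R] Ω[R⁄V]) = 1)
    (h0 : ∀ P : PrimeSpectrum A, algebraMap V A u ∈ P.asIdeal → P.asIdeal ≠ IsLocalRing.maximalIdeal A →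
      Module.Free (Localization.AtPrime P.asIdeal) (LocalizedModule P.asIdeal.primeCompl (Ω[A⁄R])))
    (hm : ¬ Module.Free A (Ω[A⁄R])) :
    ∃ Q : PrimeSpectrum A, algebraMap V A u ∉ Q.asIdeal ∧
      ¬ Module.Free (Localization.AtPrime Q.asIdeal) (LocalizedModule Q.asIdeal.primeCompl (Ω[A⁄R])) := by
  classical
  haveI := hΩA
  haveI := hΩR
  haveI : Module.Finite A (Ω[A⁄V]) := Module.finite_of_finrank_eq_succ hrkA
  haveI : Module.Finite A (A ⊗[R] Ω[R⁄V]) := Module.finite_of_finrank_eq_succ hrkR
  let b2 : Module.Basis (Fin 2) A (Ω[A⁄V]) := Module.finBasisOfFinrankEq A _ hrkA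
  let b1 : Module.Basis (Fin 1) A (A ⊗[R] Ω[R⁄V]) := Module.finBasisOfFinrankEq A _ hrkR
  let π : (Fin 2 → A) →ₗ[A] Ω[A⁄R] := (KaehlerDifferential.map V R A A) ∘ₗ b2.equivFun.symm.toLinearMap
  let v : Fin 2 → A := b2.equivFun (KaehlerDifferential.mapBaseChange V R A (b1 0))
  let f : A →ₗ[A] (Fin 2 → A) := LinearMap.toSpanSingleton A _ v
  have hπs : Function.Surjective π :=
    (KaehlerDifferential.map_surjective V R A).comp b2.equivFun.symm.surjective
  have hex : Function.Exact f π := by
    intro y
    have h := KaehlerDifferential.exact_mapBaseChange_map V R A (b2.equivFun.symm y)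
    refine ⟨fun hy => ?_, ?_⟩
    · obtain ⟨z, hz⟩ := h.1 hy
      refine ⟨b1.repr z 0, ?_⟩
      have hz' : z = b1.repr z 0 • b1 0 := by
        conv_lhs => rw [← b1.sum_repr z]
        rw [Fin.sum_univ_one]
      show b1.repr z 0 • v = y
      rw [← b2.equivFun.apply_symm_apply y, ← hz]
      conv_rhs => rw [hz', map_smul, map_smul]
    · rintro ⟨r, rfl⟩
      show KaehlerDifferential.map V R A A (b2.equivFun.symm (r • v)) = 0
      rw [map_smul, LinearEquiv.symm_apply_apply, map_smul, (KaehlerDifferential.exact_mapBaseChange_map V R A _).2 ⟨_, rfl⟩, smul_zero]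
  have hv : v ≠ 0 := by
    intro hv0
    refine hm (Module.Free.of_equiv (LinearEquiv.ofBijective π ⟨?_, hπs⟩))
    rw [injective_iff_map_eq_zero]
    intro y hy
    obtain ⟨r, rfl⟩ := (hex y).1 hy
    show r • v = 0
    rw [hv0, smul_zero]
  -- a prime containing both coordinates carries no free localisation
  have hnf : ∀ (Q : Ideal A) [Q.IsPrime], v 0 ∈ Q → v 1 ∈ Q →
      ¬ Module.Free (Localization.AtPrime Q) (LocalizedModule Q.primeCompl (Ω[A⁄R])) := by
    intro Q _ h0Q h1Q hfree
    let S := Q.primeCompl
    let π' := LocalizedModule.map S π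
    have hπ's : Function.Surjective π' := LocalizedModule.map_surjective S π hπs
    have hex' := LocalizedModule.map_exact S f π hex
    obtain ⟨σ, hσ⟩ := Module.projective_lifting_property π' LinearMap.id hπ's
    let j : (Fin 2 → A) →ₗ[A] LocalizedModule S (Fin 2 → A) := LocalizedModule.mkLinearMap S _
    have hker : ∀ y, π' y = 0 → ∃ c : Localization S, y = c • j v := by
      intro y hy
      obtain ⟨z, hz⟩ := (hex' y).1 hy
      induction z using LocalizedModule.induction_on with
      | h r s =>
        refine ⟨Localization.mk r s, ?_⟩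
        rw [← hz, IsLocalizedModule.mk_eq_mk', IsLocalizedModule.map_mk', ← IsLocalizedModule.mk_eq_mk']
        show LocalizedModule.mk (r • v) s = Localization.mk r s • LocalizedModule.mk v 1
        rw [LocalizedModule.mk_smul_mk, mul_one]
    have hc : ∀ i, ∃ c : Localization S, j (Pi.single i 1) - σ (π' (j (Pi.single i 1))) = c • j v := fun i =>
      hker _ (by rw [map_sub, ← LinearMap.comp_apply π' σ, hσ, LinearMap.id_apply, sub_self])
    choose c hc using hc
    have hjv : j v = ∑ i, v i • j (Pi.single i 1) := by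
      conv_lhs => rw [pi_eq_sum_univ' v, map_sum]
      simp only [map_smul]
    have hπv : π' (j v) = 0 := (hex' _).2 ⟨LocalizedModule.mk 1 1, by
      rw [IsLocalizedModule.mk_eq_mk', IsLocalizedModule.map_mk', ← IsLocalizedModule.mk_eq_mk']
      show LocalizedModule.mk ((1 : A) • v) 1 = LocalizedModule.mk v 1
      rw [one_smul]⟩
    have ht : j v = (∑ i, algebraMap A (Localization S) (v i) * c i) • j v := by
      calc j v = j v - σ (π' (j v)) := by rw [hπv, map_zero, sub_zero]
        _ = ∑ i, algebraMap A (Localization S) (v i) • (j (Pi.single i 1) - σ (π' (j (Pi.single i 1)))) := by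
            simp only [smul_sub, Finset.sum_sub_distrib, ← map_smul, ← map_sum]
            rw [hjv]
            simp only [algebraMap_smul]
        _ = _ := by simp only [hc, smul_smul, Finset.sum_smul]
    have hmem : (∑ i, algebraMap A (Localization S) (v i) * c i) ∈ IsLocalRing.maximalIdeal (Localization.AtPrime Q) := by
      refine Ideal.sum_mem _ fun i _ => Ideal.mul_mem_right _ _ ?_
      exact (IsLocalization.AtPrime.to_map_mem_maximal_iff _ Q (v i)).2 (by fin_cases i <;> assumption)
    have hu := IsLocalRing.isUnit_one_sub_self_of_mem_nonunits _ hmem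
    have h0 : j v = 0 := by
      refine (hu.smul_eq_zero).1 ?_
      rw [sub_smul, one_smul, ← ht, sub_self]
    obtain ⟨⟨s, hs⟩, hsv⟩ := LocalizedModule.mk_eq.1 (h0.trans (LocalizedModule.zero_mk 1).symm)
    refine hv (funext fun i => ?_)
    have h' := congrFun hsv i
    simp only [one_smul, smul_zero, Pi.zero_apply, Submonoid.smul_def, Pi.smul_apply, smul_eq_mul] at h'
    exact (mul_eq_zero.1 h').resolve_left fun hs0 => hs (by rw [hs0]; exact Q.zero_mem)
  -- the coordinates do not generate the unit ideal
  have hne : Ideal.span ({v 0, v 1} : Set A) ≠ ⊤ := by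
    intro htop
    obtain ⟨p, q, hpq⟩ := Ideal.mem_span_pair.1 ((Ideal.eq_top_iff_one _).1 htop)
    let lam : (Fin 2 → A) →ₗ[A] A := p • LinearMap.proj 0 + q • LinearMap.proj 1
    let ρ : (Fin 2 → A) →ₗ[A] (Fin 2 → A) := LinearMap.id - f ∘ₗ lam
    have hρ : LinearMap.ker π ≤ LinearMap.ker ρ := by
      intro y hy
      obtain ⟨r, rfl⟩ := (hex y).1 hy
      show r • v - lam (r • v) • v = 0
      rw [map_smul, show lam v = 1 from hpq, smul_eq_mul, mul_one, sub_self]
    let σ : Ω[A⁄R] →ₗ[A] (Fin 2 → A) := (LinearMap.ker π).liftQ ρ hρ ∘ₗ (π.quotKerEquivOfSurjective hπs).symm.toLinearMap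
    have hσ : π ∘ₗ σ = LinearMap.id := by
      refine LinearMap.ext fun w => ?_
      obtain ⟨y, rfl⟩ := hπs w
      have : (π.quotKerEquivOfSurjective hπs).symm (π y) = Submodule.Quotient.mk y := by
        rw [LinearEquiv.symm_apply_eq]; rfl
      simp only [σ, LinearMap.comp_apply, LinearEquiv.coe_coe, this, Submodule.liftQ_apply, LinearMap.id_apply]
      show π (y - lam y • v) = π y
      rw [map_sub, (hex (lam y • v)).2 ⟨lam y, rfl⟩, sub_zero]
    haveI : Module.Projective A (Ω[A⁄R]) := Module.Projective.of_split σ π hσ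
    haveI : Module.Finite A (Ω[A⁄R]) := Module.Finite.of_surjective π hπs
    exact hm Module.free_of_flat_of_isLocalRing
  obtain ⟨Q, hQ⟩ := Ideal.nonempty_minimalPrimes hne
  haveI : Q.IsPrime := hQ.1.1
  have hQ0 : v 0 ∈ Q := hQ.1.2 (Ideal.subset_span (by simp))
  have hQ1 : v 1 ∈ Q := hQ.1.2 (Ideal.subset_span (by simp))
  refine ⟨⟨Q, inferInstance⟩, fun huQ => hnf Q hQ0 hQ1 (h0 ⟨Q, inferInstance⟩ huQ fun hQm => ?_), hnf Q hQ0 hQ1⟩
  have h1 := Ideal.height_le_card_of_mem_minimalPrimes_span (Set.toFinite _) hQ
  have h2 : ({v 0, v 1} : Set A).ncard ≤ 2 := (Set.ncard_insert_le _ _).trans (by simp)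
  have h3 : ((Q.height : ℕ∞) : WithBot ℕ∞) = 3 := by
    rw [show Q = IsLocalRing.maximalIdeal A from hQm, IsLocalRing.maximalIdeal_height_eq_ringKrullDim, hdimA]
  have h4 : Q.height ≤ 2 := h1.trans (by exact_mod_cast h2)
  have h5 : ((Q.height : ℕ∞) : WithBot ℕ∞) ≤ ((2 : ℕ∞) : WithBot ℕ∞) := WithBot.coe_le_coe.2 h4
  rw [h3] at h5
  exact absurd h5 (by decide)

end Groth.Agent.S15100
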