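import Groth.Statements.S15104
import Groth.Agent.RedGenus7.Const
import Groth.Agent.Models7.GenusFormula
import Groth.Agent.Models7.RedFibre
import Groth.Agent.Inters29.ModelCurve
-- import your own Groth.Agent.* helpers here

set_option autoImplicit false
set_option linter.style.haveILetI false
set_option backward.isDefEq.respectTransparency.types false
set_option maxHeartbeats 1000000
universe u
open CategoryTheory CategoryTheory.Limits AlgebraicGeometry
open Models

namespace Groth.Agent.S15104

/-- Let R be a discrete valuation ring with algebraically closed residue field k and fraction field K, C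
a smooth proper curve over K with H⁰(C, O_C) = K and dim_K H¹(C, O_C) = g ≥ 2, and X → Spec R a
minimal regular model of C: a regular proper model none of whose vertical prime divisors is an
exceptional curve of the first kind. Let Γ₁, …, Γ_n enumerate the irreducible components of the
closed fibre, with multiplicities r_i having gcd 1, and suppose the closed fibre is not reduced
(some r_i ≥ 2). Then dim_k H¹((X_k)_red, O) < g, the left side computed as the R-length of H¹(X, O_X
/ I) for I the ideal sheaf of the reduced closed fibre. (The published lemma states this for any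
regular model with gcd(r_i) = 1; its proof uses, in the last step, that the component added last is
not an exceptional curve, the standing hypothesis of the result it serves, and the inequality fails
after blowing up a node of a reduced semi-stable fibre, so minimality is assumed here.) -/
theorem result
    (R : Type u) [CommRing R] [IsDomain R] [IsDiscreteValuationRing R]
    (hk : IsAlgClosed (IsLocalRing.ResidueField R))
    (C : Scheme.{u}) (fC : C ⟶ (Spec (CommRingCat.of (FractionRing R)))) [IsProper fC] [Smooth fC]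
    (hC0 : Models.hRank (FractionRing R) C fC (Coh.structureModule C) 0 = 1)
    (g : ℕ) (hg2 : 2 ≤ g) (hg : Models.curveGenus (FractionRing R) C fC = g)
    (X : Scheme.{u}) (p : X ⟶ (Spec (CommRingCat.of R))) (hX : Models.IsMinimalModel R X p C fC)
    {n : ℕ} (Γ : Fin n → ArSurf.VertComp R (Over.mk p)) (hΓ : Models.IsComponentList R (Over.mk p) Γ)
    (hgcd : Models.multGcd R (Over.mk p) Γ = 1) (hnr : ∃ i, 2 ≤ Models.mult R (Over.mk p) (Γ i)) :
    Models.lengthH R (Over.mk p) (ClSub.quotMod (Models.redFibreIdeal R (Over.mk p))) 1 < g := by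
  classical
  haveI := hk
  have hXr := hX.1
  have hH0 := Groth.Agent.Inters29.isIso_appTop_of_hRank (FractionRing R) fC hC0
  have hC := Groth.Agent.Inters29.isSmoothProperCurve_of_model R hC0 (by omega) hXr Γ hΓ
  have hP := Groth.Agent.Models7.PropCurve.of_smooth hC
  have hint : IsIntegral C := hC.2.2.1
  haveI := hint
  haveI := Groth.Agent.Inters29.isIntegral_model R hXr.1 hXr.2.2
  haveI := hXr.2.1
  haveI : IsLocallyNoetherian X := LocallyOfFiniteType.isLocallyNoetherian p
  haveI : IsIntegral (Over.mk p).left := inferInstanceAs (IsIntegral X)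
  haveI : IsLocallyNoetherian (Over.mk p).left := inferInstanceAs (IsLocallyNoetherian X)
  haveI : Flat (Over.mk p).hom := hXr.1.1
  haveI : IsProper (Over.mk p).hom := hXr.2.1
  haveI : ∀ i, IsProper (Γ i).curve.hom := fun i => Groth.Agent.Inters29.isProper_curve R (Γ i)
  have hreg := hXr.2.2
  obtain ⟨gX, hgX⟩ := hXr.1.2.2.2
  have hconn : _root_.IsConnected (Models.specialFibreSet R (Over.mk p)) :=
    Groth.Agent.Inters29.isConnected_specialFibreSet R hH0 gX hgX
  have hD := Groth.Agent.Inters29.isEffCartier_model hC hXr hΓ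
  choose L hL using fun i => Groth.Agent.Inters29.exists_inverse_ker R (X := Over.mk p) hreg (hD i)
  have hquad := Groth.Agent.Inters29.quad_nonpos_and_of_connected R (X := Over.mk p) hreg Γ hΓ L hL hconn
  have hmpos := fun i => Groth.Agent.Inters29.mult_pos' R (X := Over.mk p) Γ hΓ hreg i
  obtain ⟨i₀, hi₀⟩ := hnr
  have hne : ∀ i : Fin n, ∃ j, j ≠ i := fun i => by
    by_contra hc
    push Not at hc
    have hall : ∀ j, Models.mult R (Over.mk p) (Γ i₀) ∣ Models.mult R (Over.mk p) (Γ j) := fun j => by
      rw [hc j, hc i₀]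
    have hd : _ ∣ Models.multGcd R (Over.mk p) Γ := Finset.dvd_gcd fun j _ => hall j
    rw [hgcd] at hd
    have := Nat.le_of_dvd Nat.one_pos hd
    omega
  let I : Fin n → Fin n → ℤ := fun i j => ArSurf.inter R (Over.mk p) (L i) (Γ j)
  have hval : ∀ x : Fin n → ℤ, (fun i => (x i : ℚ)) ⬝ᵥ
      Matrix.mulVec (Groth.Agent.Inters29.interMat R Γ L ℚ) (fun i => (x i : ℚ)) =
      ((∑ i, x i * ∑ j, I j i * x j : ℤ) : ℚ) := by
    intro x
    push_cast
    rfl
  have hneg : ∀ x : Fin n → ℤ, (¬ ∃ q : ℚ, ∀ i, (x i : ℚ) = q * (Models.mult R (Over.mk p) (Γ i) : ℚ)) →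
      ∑ i, x i * ∑ j, I j i * x j < 0 := by
    intro x hx
    obtain ⟨h1, h2⟩ := hquad (fun i => (x i : ℚ))
    rw [hval] at h1 h2
    refine lt_of_le_of_ne (by exact_mod_cast h1) fun h0 => hx ?_
    obtain ⟨q, hq⟩ := h2.1 (by exact_mod_cast h0)
    exact ⟨q, fun i => congrFun hq i⟩
  have hQ : ∑ i, ∑ j, I i j < 0 := by
    have h := hneg (fun _ => 1) (by
      rintro ⟨q, hq⟩
      have hq' : ∀ i, (1 : ℚ) = q * (Models.mult R (Over.mk p) (Γ i) : ℚ) := fun i => by simpa using hq i
      have hall : ∀ j, Models.mult R (Over.mk p) (Γ i₀) ∣ Models.mult R (Over.mk p) (Γ j) := fun j => by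
        have hq0 : q ≠ 0 := fun h => by simpa [h] using hq' i₀
        have : (Models.mult R (Over.mk p) (Γ i₀) : ℚ) = Models.mult R (Over.mk p) (Γ j) :=
          mul_left_cancel₀ hq0 ((hq' i₀).symm.trans (hq' j))
        rw [Nat.cast_injective this]
      have hd : _ ∣ Models.multGcd R (Over.mk p) Γ := Finset.dvd_gcd fun j _ => hall j
      rw [hgcd] at hd
      have := Nat.le_of_dvd Nat.one_pos hd
      omega)
    simp only [one_mul, mul_one] at h
    rwa [Finset.sum_comm]
  have hself : ∀ i, I i i < 0 := fun i => by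
    obtain ⟨j, hj⟩ := hne i
    have h := hneg (fun l => if l = i then 1 else 0) (by
      rintro ⟨q, hq⟩
      have h1 := hq j
      have h2 := hq i
      rw [if_neg hj, Int.cast_zero, eq_comm, mul_eq_zero] at h1
      rw [if_pos rfl, Int.cast_one] at h2
      rcases h1 with h1 | h1
      · rw [h1, zero_mul] at h2; exact one_ne_zero h2
      · exact (hmpos j).ne' (Nat.cast_eq_zero.1 h1))
    simpa using h
  have hK : ∀ i, 0 ≤ 2 * ((Models.h1 R (Over.mk p) (Γ i) : ℤ) - Models.wdeg R (Over.mk p) (Γ i)) - I i i := by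
    intro i
    have hw := Groth.Agent.RedGenus7.wdeg_eq_one R (Γ i)
    have hs := hself i
    rw [hw]
    by_contra hlt
    have h0 : Models.h1 R (Over.mk p) (Γ i) = 0 := by omega
    refine hX.2 (Γ i) (Groth.Agent.Models7.isExcCurve_of R (Γ i) (hD i) (hL i) h0 ?_)
    show I i i = _
    rw [hw]
    omega
  have hchi := Groth.Agent.Models7.chi_prod hP hXr hΓ L hL (fun _ => 1)
  have hred : Models.redFibreIdeal R (Over.mk p) = ∏ i, (Γ i).ι.ker :=
    Groth.Agent.Models7.redFibreIdeal_eq_prod R (X := Over.mk p) Γ hreg hΓ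
  simp only [pow_one, Nat.cast_one, one_mul, ← hred,
    Groth.Agent.RedGenus7.lengthH_redFibre_zero R p hconn] at hchi
  have hgen := Groth.Agent.Models7.genus_formula hP hH0 hXr hΓ L hL
  rw [hg] at hgen
  have hle : ∑ i, (2 * ((Models.h1 R (Over.mk p) (Γ i) : ℤ) - Models.wdeg R (Over.mk p) (Γ i)) - I i i) ≤
      ∑ i, (Models.mult R (Over.mk p) (Γ i) : ℤ) *
        (2 * ((Models.h1 R (Over.mk p) (Γ i) : ℤ) - Models.wdeg R (Over.mk p) (Γ i)) - I i i) :=
    Finset.sum_le_sum fun i _ => le_mul_of_one_le_left (hK i) (by exact_mod_cast hmpos i)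
  have hsum : ∑ i, (2 * ((Models.wdeg R (Over.mk p) (Γ i) : ℤ) - Models.h1 R (Over.mk p) (Γ i)) + I i i) =
      -∑ i, (2 * ((Models.h1 R (Over.mk p) (Γ i) : ℤ) - Models.wdeg R (Over.mk p) (Γ i)) - I i i) := by
    rw [← Finset.sum_neg_distrib]
    exact Finset.sum_congr rfl fun i _ => by ring
  simp only [I] at hsum hle hQ
  rw [hsum] at hchi
  push_cast at hchi
  omega

end Groth.Agent.S15104
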