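import Groth.Statements.S15114
import Groth.Agent.Desc19b.AmpleFpqc
import Groth.Agent.Desc19b.AmpleFamily
import Groth.Agent.Desc19b.GGFpqc
import Groth.Agent.HodgeQ27.Restrict
import Groth.Agent.AssSch12.Uniq
import Groth.Agent.CycLib28.InterPull
import Groth.Agent.Coherent.FinitePres
-- import your own Groth.Agent.* helpers here

set_option autoImplicit false
universe u
open CategoryTheory CategoryTheory.Limits AlgebraicGeometry
open Coherent

namespace Groth.Agent.S15114

open CategoryTheory CategoryTheory.Limits Opposite TopologicalSpace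
open Groth.Agent.Coherent Groth.Agent.PicLib Groth.Agent.AmpleLib

/-- A vector avoiding finitely many proper submodules, over an infinite field of scalars. -/
theorem exists_avoid {k R M : Type*} [Field k] [Infinite k] [CommRing R] [AddCommGroup M] [Module R M]
    (κ : k →+* R) {ι : Type*} (N : ι → Submodule R M) (S : Finset ι) (h : ∀ i ∈ S, ∃ b, b ∉ N i) :
    ∃ a, ∀ i ∈ S, a ∉ N i := by
  classical
  induction S using Finset.induction with
  | empty => exact ⟨0, fun i hi => absurd hi (Finset.notMem_empty i)⟩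
  | insert i S hi ih =>
    obtain ⟨a, ha⟩ := ih fun j hj => h j (Finset.mem_insert_of_mem hj)
    obtain ⟨b, hb⟩ := h i (Finset.mem_insert_self i S)
    have hbad : ∀ j ∈ insert i S, {c : k | a + κ c • b ∈ N j}.Subsingleton := by
      intro j hj c hc c' hc'
      by_contra hne
      have hd := (N j).sub_mem hc hc'
      rw [add_sub_add_left_eq_sub, ← sub_smul, ← map_sub] at hd
      have hbj : b ∈ N j := by
        have h1 := (N j).smul_mem (κ (c - c')⁻¹) hd
        rwa [smul_smul, ← map_mul, inv_mul_cancel₀ (sub_ne_zero.2 hne), map_one, one_smul] at h1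
      rcases Finset.mem_insert.1 hj with rfl | hj'
      · exact hb hbj
      · exact ha j hj' (by simpa using (N j).sub_mem hc ((N j).smul_mem (κ c) hbj))
    obtain ⟨c, hc⟩ := ((insert i S).finite_toSet.biUnion fun j hj => (hbad j hj).finite).infinite_compl.nonempty
    exact ⟨a + κ c • b, fun j hj hm => hc (Set.mem_iUnion₂.2 ⟨j, hj, hm⟩)⟩

/-- The sections of an invertible module not generating at a point. -/
theorem exists_nongen_submodule {X : Scheme.{u}} {L : X.Modules} (hL : PicF.IsInvertible L) (x : X) :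
    ∃ N : Submodule Γ(X, ⊤) Γ(L, ⊤), ∀ a, a ∈ N ↔ x ∉ glocus L a := by
  obtain ⟨W, hxW, g, hg⟩ := exists_isGen hL x
  let c : Γ(L, ⊤) → Γ(X, W) := fun a => hg.coef le_rfl (resM L le_top a)
  have hc : ∀ a, c a • g = resM L le_top a := fun a => by
    simpa only [resM_self] using hg.coef_spec le_rfl (resM L le_top a)
  have hinj : ∀ r r' : Γ(X, W), r • g = r' • g → r = r' := fun r r' h =>
    (hg W le_rfl).1 (by simpa only [resM_self] using h)
  have hmem : ∀ a, x ∉ glocus L a ↔
      X.presheaf.germ W x hxW (c a) ∈ IsLocalRing.maximalIdeal (X.presheaf.stalk x) := fun a => by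
    rw [IsLocalRing.mem_maximalIdeal, mem_nonunits_iff, ← Scheme.mem_basicOpen (hx := hxW)]
    refine not_congr ⟨fun h => ?_, fun h => ?_⟩
    · exact (glocus_inf a hg).le ⟨h, hxW⟩
    · exact ((glocus_inf a hg).ge h).1
  refine ⟨{ carrier := {a | x ∉ glocus L a}, add_mem' := ?_, zero_mem' := ?_, smul_mem' := ?_ }, fun a => Iff.rfl⟩
  · intro a b ha hb
    have h : c (a + b) = c a + c b := hinj _ _ (by rw [hc, add_smul, hc, hc, map_add])
    show x ∉ glocus L (a + b)
    rw [hmem, h, map_add]
    exact Ideal.add_mem _ ((hmem a).1 ha) ((hmem b).1 hb)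
  · show x ∉ glocus L 0
    have h : c 0 = 0 := hinj _ _ (by rw [hc, zero_smul, map_zero])
    rw [hmem, h, map_zero]
    exact Ideal.zero_mem _
  · intro r a ha
    have h : c (r • a) = X.presheaf.map (homOfLE (le_top : W ≤ ⊤)).op r * c a :=
      hinj _ _ (by rw [hc, mul_smul, hc, resM_smul])
    show x ∉ glocus L (r • a)
    rw [hmem, h, map_mul]
    exact Ideal.mul_mem_left _ _ ((hmem a).1 ha)

/-- Regular sequences of sections of a globally generated invertible module. -/
theorem exists_regular {k : Type u} [Field k] [Infinite k] {X : Scheme.{u}} [IsNoetherian X]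
    (κ : k →+* Γ(X, ⊤)) (L : X.Modules) (hL : PicF.IsInvertible L)
    (hgen : ∀ x : X, ∃ a : Γ(L, ⊤), x ∈ glocus L a) (F : X.Modules) (hF : Coh.IsCoh F) (r : ℕ) :
    ∃ σ : Fin r → (Coh.structureModule X ⟶ L),
      ∀ (j : Fin r) (x : X),
        Curv2.IsAssPoint ((Scheme.Modules.pushforward
            (⨆ (l : Fin r) (_ : l.val < j.val), PicF2.zeroScheme L (σ l)).subschemeι).obj
          ((Scheme.Modules.pullback
            (⨆ (l : Fin r) (_ : l.val < j.val), PicF2.zeroScheme L (σ l)).subschemeι).obj F)) x →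
        x ∉ (PicF2.zeroScheme L (σ j)).support := by
  classical
  induction r with
  | zero => exact ⟨Fin.elim0, fun j => j.elim0⟩
  | succ r ih =>
    obtain ⟨σ, hσ⟩ := ih
    let Z : X.IdealSheafData := ⨆ l : Fin r, PicF2.zeroScheme L (σ l)
    let G := (Scheme.Modules.pushforward Z.subschemeι).obj ((Scheme.Modules.pullback Z.subschemeι).obj F)
    have hG : Coh.IsCoh G := by
      haveI : IsLocallyNoetherian Z.subscheme := LocallyOfFiniteType.isLocallyNoetherian Z.subschemeι
      exact Coherent.isCoh_push_finite Z.subschemeι (CycLib28.InterSheaf.isCoh_pullback Z.subschemeι hF)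
    choose N hN using fun x => exists_nongen_submodule hL x
    obtain ⟨a, ha⟩ := exists_avoid κ N (AssSch12.finite_ass G hG).toFinset fun x _ =>
      (hgen x).imp fun b hb hb' => (hN x b).1 hb' hb
    refine ⟨Fin.snoc σ (unitDesc L a), fun j x hx => ?_⟩
    induction j using Fin.lastCases with
    | last =>
      have hI : (⨆ (l : Fin (r + 1)) (_ : l.val < (Fin.last r).val),
          PicF2.zeroScheme L (Fin.snoc (α := fun _ => Coh.structureModule X ⟶ L) σ (unitDesc L a) l)) = Z := by
        refine le_antisymm (iSup₂_le fun l hl => ?_) (iSup_le fun l => ?_)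
        · obtain ⟨l, rfl⟩ : ∃ l' : Fin r, l = l'.castSucc := ⟨⟨l.val, hl⟩, rfl⟩
          rw [Fin.snoc_castSucc]
          exact le_iSup (fun l => PicF2.zeroScheme L (σ l)) l
        · refine le_trans ?_ (le_iSup₂ l.castSucc (show l.castSucc.val < (Fin.last r).val from l.isLt))
          rw [Fin.snoc_castSucc]
      rw [hI] at hx
      have h1 : x ∈ glocus L a := by
        by_contra h
        exact ha x ((AssSch12.finite_ass G hG).mem_toFinset.2 hx) ((hN x a).2 h)
      rw [Fin.snoc_last, HodgeQ27.mem_support_zeroScheme_iff hL, not_not,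
        show unitVal (unitDesc L a) ⊤ = a from by rw [unitVal_unitDesc, resM_self]]
      exact h1
    | cast j =>
      have hI : (⨆ (l : Fin (r + 1)) (_ : l.val < j.castSucc.val),
          PicF2.zeroScheme L (Fin.snoc (α := fun _ => Coh.structureModule X ⟶ L) σ (unitDesc L a) l)) =
            ⨆ (l : Fin r) (_ : l.val < j.val), PicF2.zeroScheme L (σ l) := by
        refine le_antisymm (iSup₂_le fun l hl => ?_) (iSup₂_le fun l hl => ?_)
        · obtain ⟨l, rfl⟩ : ∃ l' : Fin r, l = l'.castSucc := ⟨⟨l.val, lt_trans hl j.isLt⟩, rfl⟩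
          rw [Fin.snoc_castSucc]
          exact le_iSup₂ (f := fun (l : Fin r) (_ : l.val < j.val) => PicF2.zeroScheme L (σ l)) l hl
        · refine le_trans ?_ (le_iSup₂ l.castSucc (show l.castSucc.val < j.castSucc.val from hl))
          rw [Fin.snoc_castSucc]
      rw [hI] at hx
      rw [Fin.snoc_castSucc]
      exact hσ j x hx

/-- Near the generic point of an integral affine base, fibrewise generation gives generation. -/
theorem exists_gen_open {X S : Scheme.{u}} (f : X ⟶ S) [IsProper f] (L : X.Modules) (hL : PicF.IsInvertible L)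
    (hgen : ∀ s : S, Curv2.IsGloballyGenerated
      ((Scheme.Modules.pullback (pullback.fst f (S.fromSpecResidueField s))).obj L))
    (A : Type u) [CommRing A] [IsDomain A] (g : Spec (CommRingCat.of A) ⟶ S) :
    ∃ a : A, a ≠ 0 ∧ ∀ x : ↑(pullback f (Spec.map (CommRingCat.ofHom (algebraMap A (Localization.Away a))) ≫ g)),
      ∃ s : Γ((Scheme.Modules.pullback (pullback.fst f
        (Spec.map (CommRingCat.ofHom (algebraMap A (Localization.Away a))) ≫ g))).obj L, ⊤),
        x ∈ glocus _ s := by
  let p₁ := pullback.fst f g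
  let p₂ := pullback.snd f g
  let L' := (Scheme.Modules.pullback p₁).obj L
  have hL' : PicF.IsInvertible L' := PicLoc.isInvertible_pullback p₁ hL
  haveI : Coh.IsQCoh L' := AmpleLib.isQCoh_of_isInvertible hL'
  let K := FractionRing A
  let b := Spec.map (CommRingCat.ofHom (algebraMap A K))
  haveI : CompactSpace ↥(pullback f g) := QuasiCompact.compactSpace_of_compactSpace p₂
  haveI : QuasiSeparatedSpace ↥(pullback f g) := quasiSeparatedSpace_of_quasiSeparated p₂
  let π := pullback.fst p₂ b
  haveI : IsAffineHom π := MorphismProperty.of_isPullback (P := @IsAffineHom.{u}) (IsPullback.of_hasPullback p₂ b).flip inferInstance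
  let e := Scheme.SpecToEquivOfField K S (b ≫ g)
  have he : Spec.map e.2 ≫ S.fromSpecResidueField e.1 = b ≫ g :=
    (Scheme.SpecToEquivOfField K S).symm_apply_apply (b ≫ g)
  let m : pullback p₂ b ⟶ pullback f (S.fromSpecResidueField e.1) :=
    pullback.lift (π ≫ p₁) (pullback.snd p₂ b ≫ Spec.map e.2) (by
      rw [Category.assoc, Category.assoc, he, ← pullback.condition_assoc, pullback.condition (f := f) (g := g)])
  have hgg : Curv2.IsGloballyGenerated ((Scheme.Modules.pullback π).obj L') := by
    obtain ⟨ι, q, hq⟩ := Desc19b.isGloballyGenerated_pullback m (hgen e.1)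
    let i : (Scheme.Modules.pullback m).obj ((Scheme.Modules.pullback
        (pullback.fst f (S.fromSpecResidueField e.1))).obj L) ≅ (Scheme.Modules.pullback π).obj L' :=
      (Scheme.Modules.pullbackComp m (pullback.fst f (S.fromSpecResidueField e.1))).app L ≪≫
        (Scheme.Modules.pullbackCongr (pullback.lift_fst _ _ _)).app L ≪≫
        ((Scheme.Modules.pullbackComp π p₁).app L).symm
    let q' : freeMod (pullback p₂ b) ι ⟶ _ := q
    have hq' : Epi q' := hq
    exact ⟨ι, q' ≫ i.hom, @epi_comp _ _ _ _ _ q' hq' i.hom inferInstance⟩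
  let η : ↥(Spec (CommRingCat.of A)) := (⊥ : PrimeSpectrum A)
  have hη : ∀ x : ↑(pullback f g), p₂ x = η → ∃ s : Γ(L', ⊤), x ∈ glocus L' s := by
    intro x hx
    obtain ⟨x', hx'⟩ : x ∈ Set.range π := by
      rw [Scheme.Pullback.range_fst]
      refine ⟨(⊥ : PrimeSpectrum K), PrimeSpectrum.ext ?_⟩
      rw [hx]
      exact Ideal.comap_bot_of_injective _ (IsFractionRing.injective A K)
    obtain ⟨W, hxW, g', hg'⟩ := exists_isGen hL' (π x')
    obtain ⟨z, hz⟩ := Desc19b.exists_mem_glocus_of_pullback (A := CommRingCat.of A) (B := CommRingCat.of K) π p₂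
      (pullback.snd p₂ b) (IsPullback.of_hasPullback p₂ b) hL' (𝟙 L') hgg x' ⟨W, g', hxW, hg'⟩
    exact ⟨z, hx' ▸ hz⟩
  let B : Set ↑(pullback f g) := (⋃ s : Γ(L', ⊤), (glocus L' s : Set ↑(pullback f g)))ᶜ
  have hB : IsClosed B := (isOpen_iUnion fun s => (glocus L' s).2).isClosed_compl
  have hC : IsOpen (p₂ '' B)ᶜ := (p₂.isClosedMap B hB).isOpen_compl
  have hηC : η ∈ (p₂ '' B)ᶜ := by
    rintro ⟨x, hxB, hx⟩
    obtain ⟨s, hs⟩ := hη x hx
    exact hxB (Set.mem_iUnion.2 ⟨s, hs⟩)
  obtain ⟨_, ⟨a, rfl⟩, ha, hsub⟩ :=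
    PrimeSpectrum.isTopologicalBasis_basic_opens.exists_subset_of_mem_open hηC hC
  refine ⟨a, fun h => ha (h ▸ Submodule.zero_mem _), fun x => ?_⟩
  let b' := Spec.map (CommRingCat.ofHom (algebraMap A (Localization.Away a)))
  let m' : pullback f (b' ≫ g) ⟶ pullback f g :=
    pullback.lift (pullback.fst f (b' ≫ g)) (pullback.snd f (b' ≫ g) ≫ b') (by
      rw [Category.assoc, pullback.condition])
  have hmem : p₂ (m' x) ∈ (p₂ '' B)ᶜ := by
    refine hsub ?_
    rw [← Scheme.Hom.comp_apply, pullback.lift_snd, Scheme.Hom.comp_apply]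
    exact (PrimeSpectrum.localization_away_comap_range (Localization.Away a) a).le ⟨_, rfl⟩
  have hnB : m' x ∉ B := fun h => hmem ⟨_, h, rfl⟩
  obtain ⟨s, hs⟩ := Set.mem_iUnion.1 (Set.notMem_compl_iff.1 hnB)
  let i : (Scheme.Modules.pullback m').obj L' ≅
      (Scheme.Modules.pullback (pullback.fst f (b' ≫ g))).obj L :=
    (Scheme.Modules.pullbackComp m' p₁).app L ≪≫ (Scheme.Modules.pullbackCongr (pullback.lift_fst _ _ _)).app L
  refine ⟨i.hom.app ⊤ (pullSec m' s), ?_⟩
  exact (glocus_map_iso i _).symm.le ((glocus_pullSec m' hL' s).symm.le hs)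

/-- A nonempty closed set of a Noetherian scheme contains an integral affine piece, open in it. -/
theorem exists_piece {S : Scheme.{u}} [IsNoetherian S] (Z : Set S) (hZ : IsClosed Z) (hne : Z.Nonempty) :
    ∃ (A : Type u) (_ : CommRing A) (_ : IsDomain A) (j : Spec (CommRingCat.of A) ⟶ S) (O : Set S),
      AlgebraicGeometry.IsImmersion j ∧ IsOpen O ∧ Set.range j = Z ∩ O := by
  haveI : TopologicalSpace.NoetherianSpace ↥Z := inferInstance
  obtain ⟨z, hz⟩ := hne
  let C : Set ↥Z := irreducibleComponent ⟨z, hz⟩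
  have hC : C ∈ irreducibleComponents ↥Z := irreducibleComponent_mem_irreducibleComponents _
  let R : Set ↥Z := ⋃ D ∈ irreducibleComponents ↥Z \ {C}, D
  have hR : IsClosed R :=
    (NoetherianSpace.finite_irreducibleComponents.sdiff).isClosed_biUnion fun D hD => isClosed_of_mem_irreducibleComponents D hD.1
  have hCi : IsIrreducible (Subtype.val '' C) := hC.1.image _ continuous_subtype_val.continuousOn
  have hCc : IsClosed (Subtype.val '' C) :=
    hZ.isClosedEmbedding_subtypeVal.isClosedMap _ (isClosed_of_mem_irreducibleComponents C hC)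
  obtain ⟨η, hη⟩ := QuasiSober.sober hCi hCc
  have hηR : η ∉ Subtype.val '' R := by
    rintro ⟨y, hy, rfl⟩
    obtain ⟨D, hD, hyD⟩ := Set.mem_iUnion₂.1 hy
    have h1 : Subtype.val '' C ⊆ Subtype.val '' D := by
      rw [← hη.def]
      exact closure_minimal (Set.singleton_subset_iff.2 ⟨y, hyD, rfl⟩)
        (hZ.isClosedEmbedding_subtypeVal.isClosedMap _ (isClosed_of_mem_irreducibleComponents D hD.1))
    have h2 : C ⊆ D := (Set.image_subset_image_iff Subtype.val_injective).1 h1
    exact hD.2 (le_antisymm (hC.2 hD.1.1 h2) h2)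
  obtain ⟨_, ⟨V, hV, rfl⟩, hηV, hVR⟩ := S.isBasis_affineOpens.exists_subset_of_mem_open hηR
    (hZ.isClosedEmbedding_subtypeVal.isClosedMap _ hR).isOpen_compl
  replace hV : IsAffineOpen V := hV
  let q := (hV.primeIdealOf ⟨η, hηV⟩).asIdeal
  let j : Spec (CommRingCat.of (Γ(S, V) ⧸ q)) ⟶ S :=
    Spec.map (CommRingCat.ofHom (Ideal.Quotient.mk q)) ≫ hV.fromSpec
  haveI : IsClosedImmersion (Spec.map (CommRingCat.ofHom (Ideal.Quotient.mk q))) :=
    IsClosedImmersion.spec_of_surjective _ Ideal.Quotient.mk_surjective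
  refine ⟨Γ(S, V) ⧸ q, inferInstance, inferInstance, j, V, inferInstance, V.2, ?_⟩
  have hr : Set.range (Spec.map (CommRingCat.ofHom (Ideal.Quotient.mk q))) = PrimeSpectrum.zeroLocus (q : Set Γ(S, V)) := by
    rw [show (q : Set Γ(S, V)) = (RingHom.ker (Ideal.Quotient.mk q) : Set Γ(S, V)) by rw [Ideal.mk_ker]]
    exact range_comap_of_surjective _ _ Ideal.Quotient.mk_surjective
  rw [show Set.range j = hV.fromSpec '' Set.range (Spec.map (CommRingCat.ofHom (Ideal.Quotient.mk q))) by
    rw [← Set.range_comp]; rfl, hr]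
  have hemb : Topology.IsInducing hV.fromSpec := hV.fromSpec.isOpenEmbedding.isInducing
  ext y
  constructor
  · rintro ⟨Q, hQ, rfl⟩
    have hs : hV.fromSpec (hV.primeIdealOf ⟨η, hηV⟩) ⤳ hV.fromSpec Q :=
      ((PrimeSpectrum.le_iff_specializes _ _).1 hQ).map hV.fromSpec.continuous
    rw [hV.fromSpec_primeIdealOf ⟨η, hηV⟩] at hs
    refine ⟨?_, hV.range_fromSpec.le ⟨Q, rfl⟩⟩
    obtain ⟨w, -, rfl⟩ : η ∈ Subtype.val '' C := hη.mem
    exact hs.mem_closed hZ w.2
  · rintro ⟨hyZ, hyV⟩
    obtain ⟨Q, rfl⟩ := hV.range_fromSpec.ge hyV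
    refine ⟨Q, ?_, rfl⟩
    have hyC : hV.fromSpec Q ∈ Subtype.val '' C := by
      by_contra h
      refine hVR hyV ⟨⟨_, hyZ⟩, ?_, rfl⟩
      refine Set.mem_iUnion₂.2 ⟨irreducibleComponent ⟨_, hyZ⟩,
        ⟨irreducibleComponent_mem_irreducibleComponents _, fun e => h ⟨⟨_, hyZ⟩, ?_, rfl⟩⟩, mem_irreducibleComponent⟩
      rw [← show irreducibleComponent (⟨_, hyZ⟩ : ↥Z) = C from e]
      exact mem_irreducibleComponent
    have hs : η ⤳ hV.fromSpec Q := hη.specializes hyC
    have hs' : hV.fromSpec (hV.primeIdealOf ⟨η, hηV⟩) ⤳ hV.fromSpec Q := (hV.fromSpec_primeIdealOf ⟨η, hηV⟩).symm ▸ hs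
    have hs'' := hemb.specializes_iff.1 hs'
    exact (PrimeSpectrum.le_iff_specializes _ _).2 hs''

/-- Let k be an algebraically closed field, S a k-scheme of finite type, f : X → S a proper morphism, L
an invertible O_X-module whose restriction to every fibre X_s is generated by global sections, F a
coherent O_X-module flat over S, and r a natural number. Then S is covered, bijectively on points,
by finitely many locally closed subschemes S_i → S such that over each S_i, writing X_i, L_i, F_i
for the base changes, there are r global sections σ_1, …, σ_r of L_i forming an F_i-regular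
sequence: for each j, no associated point of the restriction of F_i to the closed subscheme Z(σ_1) ∩
… ∩ Z(σ_{j-1}) of X_i (viewed on X_i) lies in the zero scheme of σ_j. (The published statement takes
f projective, the twisting sheaf O_X(1) of the projective structure in place of L, and r equal to
the degree of the Hilbert polynomial of F; this row takes f proper, L any invertible module with
globally generated fibres, and r arbitrary.) -/
theorem result (k : Type u) [Field k] [IsAlgClosed k]
    (S : Scheme.{u}) [S.Over (Spec (CommRingCat.of k))]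
    [LocallyOfFiniteType (S ↘ Spec (CommRingCat.of k))] [CompactSpace ↑S]
    {X : Scheme.{u}} (f : X ⟶ S) [IsProper f]
    (L : X.Modules) (hL : PicF.IsInvertible L)
    (hgen : ∀ s : S, Curv2.IsGloballyGenerated
      ((Scheme.Modules.pullback (pullback.fst f (S.fromSpecResidueField s))).obj L))
    (F : X.Modules) (hF : Coh.IsCoh F) (hflat : FlatMod.IsFlatOver f F) (r : ℕ) :
    ∃ (n : ℕ) (T : Fin n → Scheme.{u}) (g : (i : Fin n) → (T i ⟶ S)),
      (∀ i, AlgebraicGeometry.IsImmersion (g i)) ∧
      (∀ s : S, ∃! p : (i : Fin n) × ↑(T i), (g p.1).base p.2 = s) ∧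
      ∀ i : Fin n,
        letI Li : (pullback f (g i)).Modules := (Scheme.Modules.pullback (pullback.fst f (g i))).obj L
        letI Fi : (pullback f (g i)).Modules := (Scheme.Modules.pullback (pullback.fst f (g i))).obj F
        ∃ σ : Fin r → (Coh.structureModule (pullback f (g i)) ⟶ Li),
          ∀ (j : Fin r) (x : ↑(pullback f (g i))),
            letI Zj : (pullback f (g i)).IdealSheafData :=
              ⨆ (l : Fin r) (_ : l.val < j.val), PicF2.zeroScheme Li (σ l)
            Curv2.IsAssPoint ((Scheme.Modules.pushforward Zj.subschemeι).obj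
                ((Scheme.Modules.pullback Zj.subschemeι).obj Fi)) x →
              x ∉ (PicF2.zeroScheme Li (σ j)).support := by
  classical
  haveI : IsLocallyNoetherian S := LocallyOfFiniteType.isLocallyNoetherian (S ↘ Spec (CommRingCat.of k))
  haveI : IsNoetherian S := {}
  haveI : Infinite k := inferInstance
  let P : Set S → Prop := fun Z => ∃ (n : ℕ) (T : Fin n → Scheme.{u}) (g : (i : Fin n) → (T i ⟶ S)),
      (∀ i, AlgebraicGeometry.IsImmersion (g i)) ∧
      (∀ p : (i : Fin n) × ↑(T i), (g p.1).base p.2 ∈ Z) ∧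
      (∀ s ∈ Z, ∃! p : (i : Fin n) × ↑(T i), (g p.1).base p.2 = s) ∧
      ∀ i : Fin n,
        letI Li : (pullback f (g i)).Modules := (Scheme.Modules.pullback (pullback.fst f (g i))).obj L
        letI Fi : (pullback f (g i)).Modules := (Scheme.Modules.pullback (pullback.fst f (g i))).obj F
        ∃ σ : Fin r → (Coh.structureModule (pullback f (g i)) ⟶ Li),
          ∀ (j : Fin r) (x : ↑(pullback f (g i))),
            letI Zj : (pullback f (g i)).IdealSheafData :=
              ⨆ (l : Fin r) (_ : l.val < j.val), PicF2.zeroScheme Li (σ l)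
            Curv2.IsAssPoint ((Scheme.Modules.pushforward Zj.subschemeι).obj
                ((Scheme.Modules.pullback Zj.subschemeι).obj Fi)) x →
              x ∉ (PicF2.zeroScheme Li (σ j)).support
  suffices h : ∀ Z : TopologicalSpace.Closeds S, P (Z : Set S) by
    obtain ⟨n, T, g, h1, -, h3, h4⟩ := h ⊤
    exact ⟨n, T, g, h1, fun s => h3 s trivial, h4⟩
  intro Z
  induction Z using WellFoundedLT.induction with
  | ind Z ih =>
  rcases (Z : Set S).eq_empty_or_nonempty with he | hne
  · exact ⟨0, Fin.elim0, fun i => i.elim0, fun i => i.elim0, fun p => p.1.elim0,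
      fun s hs => by rw [he] at hs; exact absurd hs (Set.notMem_empty s), fun i => i.elim0⟩
  obtain ⟨A, _, _, j, O, hj, hO, hrange⟩ := exists_piece (Z : Set S) Z.isClosed hne
  obtain ⟨a, ha0, hga⟩ := exists_gen_open f L hL hgen A j
  let b := Spec.map (CommRingCat.ofHom (algebraMap A (Localization.Away a)))
  haveI : IsOpenImmersion b := IsOpenImmersion.of_isLocalization a
  haveI := hj
  let t : Spec (CommRingCat.of (Localization.Away a)) ⟶ S := b ≫ j
  haveI : AlgebraicGeometry.IsImmersion t := inferInstance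
  haveI : Nonempty ↥(Spec (CommRingCat.of (Localization.Away a))) := by
    haveI : IsDomain (Localization.Away a) :=
      IsLocalization.isDomain_localization (powers_le_nonZeroDivisors_of_noZeroDivisors ha0)
    exact ⟨(⊥ : PrimeSpectrum (Localization.Away a))⟩
  obtain ⟨O', hO', hO'eq⟩ := hj.isEmbedding.isInducing.isOpen_iff.1 (b.isOpenEmbedding.isOpen_range)
  have hrt : Set.range t = (Z : Set S) ∩ (O ∩ O') := by
    rw [show Set.range t = j '' Set.range b by rw [← Set.range_comp]; rfl, ← hO'eq,
      Set.image_preimage_eq_inter_range, hrange]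
    ac_rfl
  let Z' : TopologicalSpace.Closeds S := ⟨(Z : Set S) ∩ (O ∩ O')ᶜ, Z.isClosed.inter (hO.inter hO').isClosed_compl⟩
  have hlt : Z' < Z := by
    refine lt_of_le_of_ne (fun x hx => hx.1) fun e => ?_
    obtain ⟨y⟩ := (inferInstance : Nonempty ↥(Spec (CommRingCat.of (Localization.Away a))))
    have h1 : t y ∈ (Z : Set S) ∩ (O ∩ O') := hrt ▸ ⟨y, rfl⟩
    exact ((congrArg (fun W : TopologicalSpace.Closeds S => (W : Set S)) e).ge h1.1).2 h1.2
  obtain ⟨n, T, g, h1, h2, h3, h4⟩ := ih Z' hlt
  have hgood : ∃ σ : Fin r → (Coh.structureModule (pullback f t) ⟶ (Scheme.Modules.pullback (pullback.fst f t)).obj L),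
      ∀ (j : Fin r) (x : ↑(pullback f t)),
        Curv2.IsAssPoint ((Scheme.Modules.pushforward
            (⨆ (l : Fin r) (_ : l.val < j.val), PicF2.zeroScheme _ (σ l)).subschemeι).obj
          ((Scheme.Modules.pullback (⨆ (l : Fin r) (_ : l.val < j.val), PicF2.zeroScheme _ (σ l)).subschemeι).obj
            ((Scheme.Modules.pullback (pullback.fst f t)).obj F))) x →
        x ∉ (PicF2.zeroScheme _ (σ j)).support := by
    haveI : IsLocallyNoetherian (Spec (CommRingCat.of (Localization.Away a))) :=
      LocallyOfFiniteType.isLocallyNoetherian t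
    haveI : IsLocallyNoetherian (pullback f t) := LocallyOfFiniteType.isLocallyNoetherian (pullback.snd f t)
    haveI : CompactSpace ↥(pullback f t) := QuasiCompact.compactSpace_of_compactSpace (pullback.snd f t)
    haveI : IsNoetherian (pullback f t) := {}
    exact exists_regular (Coh.toGlobal (pullback.snd f t ≫ t ≫ (S ↘ Spec (CommRingCat.of k)))) _
      (PicLoc.isInvertible_pullback _ hL) hga _ (CycLib28.InterSheaf.isCoh_pullback _ hF) r
  refine ⟨n + 1, Fin.cons (Spec (CommRingCat.of (Localization.Away a))) T,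
    Fin.cases t g, Fin.cases ‹AlgebraicGeometry.IsImmersion t› h1, ?_, ?_, Fin.cases hgood h4⟩
  · rintro ⟨i, y⟩
    induction i using Fin.cases with
    | zero => exact ((hrt ▸ ⟨y, rfl⟩ : t y ∈ (Z : Set S) ∩ (O ∩ O'))).1
    | succ i => exact (h2 ⟨i, y⟩).1
  · intro s hs
    by_cases hsO : s ∈ O ∩ O'
    · obtain ⟨y, hy⟩ := hrt.ge ⟨hs, hsO⟩
      refine ⟨⟨0, y⟩, hy, ?_⟩
      rintro ⟨i, y'⟩ hy'
      induction i using Fin.cases with
      | zero =>
        obtain rfl : y' = y := (Scheme.Hom.isEmbedding t).injective (hy'.trans hy.symm)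
        rfl
      | succ i => exact absurd hsO ((show (g i).base y' = s from hy') ▸ (h2 ⟨i, y'⟩).2)
    · obtain ⟨⟨i, y⟩, hy, huniq⟩ := h3 s ⟨hs, hsO⟩
      refine ⟨⟨i.succ, y⟩, hy, ?_⟩
      rintro ⟨i', y'⟩ hy'
      induction i' using Fin.cases with
      | zero => exact absurd ((show t y' = s from hy') ▸ (hrt ▸ ⟨y', rfl⟩ : t y' ∈ (Z : Set S) ∩ (O ∩ O'))).2 hsO
      | succ i' =>
        obtain ⟨rfl, h⟩ := Sigma.mk.inj_iff.1 (huniq ⟨i', y'⟩ hy')
        cases h
        rfl
end Groth.Agent.S15114
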