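import Groth.Statements.S15115
import Groth.Agent.HopfLib.ModuleInvariants

set_option autoImplicit false
universe u
open HopfRep

namespace Groth.Agent.S15115

open TensorProduct in
/-- Let k be an algebraically closed field, H a finite-dimensional commutative Hopf algebra over k all
of whose finite-dimensional comodules are semisimple (a finite linearly reductive group scheme G
over k), A a commutative k-algebra, and M an A-module with an H-coaction that is A-linear (G acts on
M by A-module maps, A carrying the trivial action). Let A' be a commutative A-algebra and N = A' ⊗_A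
M its base change, exhibited by an A-linear map φ : M → N, with the induced coaction: A'-linear and
compatible with φ. Then invariants commute with this base change: writing M^G for the A-submodule of
coinvariant elements of M, the natural map A' ⊗_A M^G → N, a' ⊗ m ↦ a' φ(m), is injective and its
image is exactly the set of coinvariant elements of N. (The published statement is the isomorphism
ρ^* π_* F → π'_* σ^* F for a tame Deligne–Mumford stack with coarse moduli space π and any base
change ρ of the coarse space; this row is the statement about invariants to which its proof reduces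
it, for modules that need not be finitely generated.) -/
theorem result (k : Type u) [Field k] [IsAlgClosed k]
    (H : Type u) [CommRing H] [HopfAlgebra k H] [Module.Finite k H] (hred : HopfRep.IsLinearlyReductive k H)
    (A : Type u) [CommRing A] [Algebra k A]
    (M : Type u) [AddCommGroup M] [Module k M] [Module A M] [IsScalarTower k A M] [HopfRep.Comod k H M]
    (hlin : ∀ (a : A) (m : M), HopfRep.Comod.coact (k := k) (A := H) (a • m) = a • HopfRep.Comod.coact (k := k) (A := H) m)
    (A' : Type u) [CommRing A'] [Algebra k A'] [Algebra A A'] [IsScalarTower k A A']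
    (N : Type u) [AddCommGroup N] [Module k N] [Module A N] [Module A' N]
    [IsScalarTower k A N] [IsScalarTower A A' N] [IsScalarTower k A' N] [HopfRep.Comod k H N]
    (φ : M →ₗ[A] N) (hφ : IsBaseChange A' φ)
    (hcomp : ∀ m : M, HopfRep.Comod.coact (k := k) (A := H) (φ m) =
      LinearMap.rTensor H (φ.restrictScalars k) (HopfRep.Comod.coact (k := k) (A := H) m))
    (hlinN : ∀ (a' : A') (n : N), HopfRep.Comod.coact (k := k) (A := H) (a' • n) = a' • HopfRep.Comod.coact (k := k) (A := H) n)
    (P : Submodule A M) (hP : (P : Set M) = (HopfRep.fixedPts k H M : Set M)) :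
    Function.Injective (TensorProduct.lift (((Algebra.lsmul A A N : A' →ₐ[A] Module.End A N).toLinearMap).compl₂ (φ ∘ₗ P.subtype))) ∧
      Set.range (TensorProduct.lift (((Algebra.lsmul A A N : A' →ₐ[A] Module.End A N).toLinearMap).compl₂ (φ ∘ₗ P.subtype))) =
        (HopfRep.fixedPts k H N : Set N) := by
  obtain ⟨α, hα, h1⟩ := Groth.Agent.HopfLib.exists_integral hred
  have hφc : Hoch.IsComodHom H (φ.restrictScalars k) := LinearMap.ext hcomp
  have hAM : ∀ (a : A) (m : M), Groth.Agent.HopfLib.hit (A := H) α (a • m) = a • Groth.Agent.HopfLib.hit α m := by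
    intro a m
    rw [Groth.Agent.HopfLib.hit_apply, Groth.Agent.HopfLib.hit_apply, hlin]
    generalize HopfRep.Comod.coact (k := k) (A := H) m = t
    induction t using TensorProduct.induction_on with
    | zero => simp
    | add p q hp hq => simp only [smul_add, map_add, hp, hq]
    | tmul p q => rw [TensorProduct.smul_tmul', Groth.Agent.HopfLib.sliceR_tmul, Groth.Agent.HopfLib.sliceR_tmul, smul_comm]
  have hAN : ∀ (a : A') (n : N), Groth.Agent.HopfLib.hit (A := H) α (a • n) = a • Groth.Agent.HopfLib.hit α n := by
    intro a m
    rw [Groth.Agent.HopfLib.hit_apply, Groth.Agent.HopfLib.hit_apply, hlinN]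
    generalize HopfRep.Comod.coact (k := k) (A := H) m = t
    induction t using TensorProduct.induction_on with
    | zero => simp
    | add p q hp hq => simp only [smul_add, map_add, hp, hq]
    | tmul p q => rw [TensorProduct.smul_tmul', Groth.Agent.HopfLib.sliceR_tmul, Groth.Agent.HopfLib.sliceR_tmul, smul_comm]
  let e : M →ₗ[A] P :=
    { toFun := fun m => ⟨Groth.Agent.HopfLib.hit (A := H) α m, by
        rw [← SetLike.mem_coe, hP]; exact Groth.Agent.HopfLib.reynolds_mem_fixedPts hα h1 m⟩
      map_add' := fun x y => Subtype.ext (map_add _ x y)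
      map_smul' := fun a x => Subtype.ext (hAM a x) }
  have he : e ∘ₗ P.subtype = LinearMap.id := LinearMap.ext fun x => Subtype.ext
    (Groth.Agent.HopfLib.hit_eq_self_of_mem_fixedPts h1 (show (x : M) ∈ (HopfRep.fixedPts k H M : Set M) from hP ▸ x.2))
  have key : ∀ z, TensorProduct.lift (((Algebra.lsmul A A N : A' →ₐ[A] Module.End A N).toLinearMap).compl₂ (φ ∘ₗ P.subtype)) z =
      hφ.equiv (P.subtype.lTensor A' z) := fun z => by
    induction z using TensorProduct.induction_on with
    | zero => simp
    | add p q hp hq => simp only [map_add, hp, hq]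
    | tmul a p => simp [IsBaseChange.equiv_tmul]
  have hsurj : ∀ z : A' ⊗[A] M, hφ.equiv (P.subtype.lTensor A' (e.lTensor A' z)) =
      Groth.Agent.HopfLib.hit (A := H) α (hφ.equiv z) := fun z => by
    induction z using TensorProduct.induction_on with
    | zero => simp
    | add p q hp hq => simp only [map_add, hp, hq]
    | tmul a m =>
      simp only [LinearMap.lTensor_tmul, IsBaseChange.equiv_tmul]
      rw [hAN]
      congr 1
      exact Groth.Agent.HopfLib.IsComodHom.hit_apply hφc α m
  refine ⟨fun a b h => ?_, Set.ext fun n => ⟨?_, fun hn => ?_⟩⟩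
  · rw [key, key] at h
    have h' := congrArg (e.lTensor A') (hφ.equiv.injective h)
    rwa [← LinearMap.comp_apply, ← LinearMap.comp_apply, ← LinearMap.lTensor_comp, he, LinearMap.lTensor_id,
      LinearMap.id_apply, LinearMap.id_apply] at h'
  · rintro ⟨z, rfl⟩
    rw [key]
    have : P.subtype.lTensor A' z = P.subtype.lTensor A' (e.lTensor A' (P.subtype.lTensor A' z)) := by
      rw [← LinearMap.comp_apply (e.lTensor A'), ← LinearMap.lTensor_comp, he, LinearMap.lTensor_id, LinearMap.id_apply]
    rw [this, hsurj]
    exact Groth.Agent.HopfLib.reynolds_mem_fixedPts hα h1 _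
  · refine ⟨e.lTensor A' (hφ.equiv.symm n), ?_⟩
    rw [key, hsurj, LinearEquiv.apply_symm_apply]
    exact Groth.Agent.HopfLib.hit_eq_self_of_mem_fixedPts h1 hn

end Groth.Agent.S15115
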