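import Groth.Statements.S15116
import Mathlib

set_option autoImplicit false
universe u v
open NRGIT

namespace Groth.Agent.S15116

/-- Let k be a characteristic-zero field and A a commutative k-algebra, graded by the integers with all
pieces of positive degree zero, and D a k-derivation of A that raises degrees by a fixed positive
integer l. If no maximal ideal of A contains both every piece of negative degree and the image of D,
then there is f with D f = 1. (The published statement is for an affine variety with an action of
the semidirect product of the additive and multiplicative groups, the multiplicative group acting on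
the coordinate ring with non-positive weights and on the Lie algebra of the additive group with
positive weight: the derivation is a generator of that Lie algebra, the maximal ideals containing
the pieces of negative degree are the limit points under the multiplicative group, and a limit point
has trivial additive stabiliser exactly when the image of D is not contained in its ideal; this row
keeps only this algebraic content, for any such graded algebra. The first assertion of the published
lemma, that every point has a limit in the variety under the multiplicative group as t → 0, is not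
part of this row.) -/
theorem result (k : Type u) [Field k] [CharZero k]
    (A : Type v) [CommRing A] [Algebra k A] (𝒜 : ℤ → Submodule k A) [GradedAlgebra 𝒜]
    (hpos : ∀ i : ℤ, 0 < i → 𝒜 i = ⊥)
    (D : Derivation k A A) (l : ℤ) (hl : 0 < l)
    (hD : ∀ (i : ℤ) (a : A), a ∈ 𝒜 i → D a ∈ 𝒜 (i + l))
    (hfree : ∀ m : Ideal A, m.IsMaximal → (∀ i : ℤ, i < 0 → (𝒜 i : Set A) ⊆ m) → ∃ a : A, D a ∉ m) :
    ∃ f : A, D f = 1 := by
  classical
  let π : A → A := fun a => (DirectSum.decompose 𝒜 a 0 : A)
  have hπadd : ∀ a b, π (a + b) = π a + π b := fun a b => by simp [π, DirectSum.decompose_add]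
  have hπ0 : π 0 = 0 := by simp [π]
  have hπmem : ∀ i, ∀ a ∈ 𝒜 i, π a = if i = 0 then a else 0 := fun i a ha => by
    simp only [π]
    split
    · subst i; exact DirectSum.decompose_of_mem_same 𝒜 ha
    · exact DirectSum.decompose_of_mem_ne 𝒜 ha (by assumption)
  have hπmul : ∀ a b, π (a * b) = π a * π b := by
    intro a b
    induction a using DirectSum.Decomposition.inductionOn 𝒜 with
    | zero => simp [hπ0]
    | add m m' hm hm' => rw [add_mul, hπadd, hπadd, hm, hm', add_mul]
    | @homogeneous i m =>
      induction b using DirectSum.Decomposition.inductionOn 𝒜 with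
      | zero => simp [hπ0]
      | add n n' hn hn' => rw [mul_add, hπadd, hπadd, hn, hn', mul_add]
      | @homogeneous j n =>
        rw [hπmem _ _ (SetLike.mul_mem_graded m.2 n.2), hπmem _ _ m.2, hπmem _ _ n.2]
        by_cases hi : 0 < i
        · rw [(Submodule.eq_bot_iff _).mp (hpos i hi) m m.2]; simp
        by_cases hj : 0 < j
        · rw [(Submodule.eq_bot_iff _).mp (hpos j hj) n n.2]; simp
        by_cases hi0 : i = 0 <;> by_cases hj0 : j = 0
        · subst hi0 hj0; simp
        all_goals rw [if_neg (show ¬ i + j = 0 by omega)]; simp [hi0, hj0]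
  have hA0 : ∀ a, π a ∈ 𝒜 0 := fun a => Submodule.coe_mem _
  have hscal : ∀ a ∈ 𝒜 0, ∀ f, D (a * f) = a * D f := fun a ha f => by
    have h0 := hD 0 a ha
    rw [zero_add, hpos l hl, Submodule.mem_bot] at h0
    rw [D.leibniz, h0]; simp
  let I : Ideal A :=
    { carrier := {x | ∃ f, D f = π x}
      add_mem' := fun ⟨f, hf⟩ ⟨g, hg⟩ => ⟨f + g, by rw [map_add, hf, hg, hπadd]⟩
      zero_mem' := ⟨0, by rw [map_zero, hπ0]⟩
      smul_mem' := fun c x ⟨f, hf⟩ => ⟨π c * f, by rw [hscal _ (hA0 c), hf, smul_eq_mul, hπmul]⟩ }
  have hneg : ∀ i : ℤ, i < 0 → (𝒜 i : Set A) ⊆ I := fun i hi a ha =>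
    ⟨0, by rw [map_zero, hπmem i a ha, if_neg hi.ne]⟩
  have him : ∀ a, D a ∈ I := by
    intro a
    induction a using DirectSum.Decomposition.inductionOn 𝒜 with
    | zero => rw [map_zero]; exact I.zero_mem
    | add m m' hm hm' => rw [map_add]; exact I.add_mem hm hm'
    | @homogeneous i m =>
      by_cases h : i + l = 0
      · exact ⟨m, by rw [hπmem _ _ (hD i m m.2), if_pos h]⟩
      · exact ⟨0, by rw [map_zero, hπmem _ _ (hD i m m.2), if_neg h]⟩
  have htop : I = ⊤ := by
    by_contra h
    obtain ⟨m, hm, hle⟩ := I.exists_le_maximal h
    obtain ⟨a, ha⟩ := hfree m hm fun i hi => (hneg i hi).trans hle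
    exact ha (hle (him a))
  obtain ⟨f, hf⟩ : (1 : A) ∈ I := htop ▸ Submodule.mem_top
  exact ⟨f, by rw [hf, hπmem 0 1 (SetLike.one_mem_graded 𝒜), if_pos rfl]⟩

end Groth.Agent.S15116
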