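import Groth.Statements.S15117
import Mathlib.RingTheory.Flat.Basic

set_option autoImplicit false
universe u v w
open TensorProduct
open NRGIT

namespace Groth.Agent.S15117

/-- Let k be a field, π : A → B a map of commutative bialgebras over k, W a right A-comodule and V ⊆ W a
subcomodule all of whose elements are coinvariant for the B-coaction induced through π. Then the
coaction of every v ∈ V lies in V ⊗ A' ⊆ W ⊗ A, where A' ⊆ A is the set of elements a with (π ⊗
id)(Δ a) = 1 ⊗ a, i.e. coinvariant for the coaction of B on A through π on the left factor; the row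
states membership in the span of the pure tensors w ⊗ a with w ∈ V and a ∈ A'. (The published
statement is for a linear algebraic group H over an algebraically closed field of characteristic
zero, a normal subgroup N and an H-stable space V of N-invariant sections of a linearised line
bundle, with the coaction landing in O(H)^N ⊗ V, where O(H)^N is the ring of functions on H
invariant under N acting by right multiplication; this row is the comodule form, for any bialgebra
map over a field, where normality of N is not needed.) -/
theorem result (k : Type u) [Field k]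
    (A B : Type v) [CommRing A] [CommRing B] [Bialgebra k A] [Bialgebra k B] (π : A →ₐc[k] B)
    (W : Type w) [AddCommGroup W] [Module k W] [HopfRep.Comod k A W]
    (V : Submodule k W) (hV : HopfRep.IsSubcomod (k := k) (A := A) V)
    (hfix : ∀ v ∈ V, (π.toLinearMap.lTensor W) (HopfRep.Comod.coact (k := k) (A := A) v) = v ⊗ₜ[k] (1 : B))
    (v : W) (hv : v ∈ V) :
    HopfRep.Comod.coact (k := k) (A := A) v ∈
      Submodule.span k {x : W ⊗[k] A | ∃ w ∈ V, ∃ a : A,
        (π.toLinearMap.rTensor A) (Coalgebra.comul (R := k) a) = (1 : B) ⊗ₜ[k] a ∧ x = w ⊗ₜ[k] a} := by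
  classical
  let j : V →ₗ[k] W := V.subtype
  obtain ⟨t, ht⟩ := hV v hv
  let L : A →ₗ[k] B ⊗[k] A :=
    π.toLinearMap.rTensor A ∘ₗ Coalgebra.comul - TensorProduct.mk k B A (1 : B)
  let P : A →ₗ[k] B := π.toLinearMap
  have hkey : LinearMap.lTensor W L (HopfRep.Comod.coact (k := k) (A := A) v) = 0 := by
    have e1 : LinearMap.lTensor W (P.rTensor A ∘ₗ Coalgebra.comul) (HopfRep.Comod.coact (k := k) (A := A) v) =
        TensorProduct.assoc k W B A (((P.lTensor W) ∘ₗ HopfRep.Comod.coact).rTensor A (HopfRep.Comod.coact (k := k) (A := A) v)) := by
      have hco := LinearMap.congr_fun (HopfRep.Comod.coassoc (k := k) (A := A) (V := W)) v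
      simp only [LinearMap.comp_apply, LinearEquiv.coe_coe] at hco
      rw [LinearMap.lTensor_comp_apply, ← hco, LinearMap.rTensor_comp_apply]
      generalize LinearMap.rTensor A (HopfRep.Comod.coact (k := k) (A := A)) (HopfRep.Comod.coact (k := k) (A := A) v) = z
      induction z using TensorProduct.induction_on with
      | zero => simp
      | add p q hp hq => simp only [map_add, hp, hq]
      | tmul p c =>
        induction p using TensorProduct.induction_on with
        | zero => simp
        | add p q hp hq => simp only [TensorProduct.add_tmul, map_add, hp, hq]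
        | tmul a b => simp
    rw [LinearMap.lTensor_sub, LinearMap.sub_apply, e1, sub_eq_zero, ← ht]
    generalize t = z
    induction z using TensorProduct.induction_on with
    | zero => simp
    | add p q hp hq => simp only [map_add, hp, hq]
    | tmul w a =>
      simp only [LinearMap.rTensor_tmul, LinearMap.comp_apply, Submodule.coe_subtype,
        LinearMap.lTensor_tmul, TensorProduct.mk_apply]
      rw [show (P.lTensor W) (HopfRep.Comod.coact (k := k) (A := A) (w : W)) = (w : W) ⊗ₜ[k] (1 : B) from hfix _ w.2]
      simp
  have ht0 : LinearMap.lTensor V L t = 0 := by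
    apply Module.Flat.rTensor_preserves_injective_linearMap (M := B ⊗[k] A) j Subtype.val_injective
    rw [map_zero, ← LinearMap.comp_apply, LinearMap.rTensor_comp_lTensor, ← LinearMap.lTensor_comp_rTensor,
      LinearMap.comp_apply, ht, hkey]
  have hex := Module.Flat.lTensor_exact (M := V) (LinearMap.exact_subtype_ker_map L)
  obtain ⟨s, hs⟩ := (hex t).mp ht0
  rw [← ht, ← hs]
  clear hex hs
  induction s using TensorProduct.induction_on with
  | zero => simp
  | add p q hp hq => simpa only [map_add] using Submodule.add_mem _ hp hq
  | tmul w a =>
    refine Submodule.subset_span ⟨(w : W), w.2, (a : A), ?_, rfl⟩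
    have : L (a : A) = 0 := a.2
    exact sub_eq_zero.mp this

end Groth.Agent.S15117
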