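import Groth.Statements.S15121
import Mathlib
-- import your own Groth.Agent.* helpers here

set_option autoImplicit false
universe u v w
open InvQ

namespace Groth.Agent.S15121

/-- Let k be a field of characteristic zero and A a commutative k-algebra graded by a finitely generated
free abelian group Λ (the character group of a torus acting on Spec A) whose grading monoid is
positive: if the pieces of degrees w and −w are both non-zero then w = 0. Let δ be a locally
nilpotent k-derivation of A (an action of the additive group) that is homogeneous of degree d, with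
the piece of degree d equal to zero (the graded condition on the Lie algebra weight). Suppose that
no maximal ideal of A contains both all graded pieces of non-zero degree and the image of δ (every
torus-fixed closed point has trivial stabiliser under the additive group). Then δ has a homogeneous
slice: some s of degree −d with δ s = 1. (The published statement is for the coordinate ring of an
affine variety over an algebraically closed field of characteristic zero and concludes moreover that
the quotient map by the additive group is a trivial principal bundle, which follows from the slice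
by a standard argument not restated here; this row keeps the algebraic content, for any such graded
algebra.) -/
theorem result
    (k : Type u) [Field k] [CharZero k]
    (A : Type v) [CommRing A] [Algebra k A]
    (Λ : Type w) [AddCommGroup Λ] [DecidableEq Λ] [Module.Free ℤ Λ] [Module.Finite ℤ Λ]
    (𝒜 : Λ → Submodule k A) [GradedAlgebra 𝒜]
    (hpos : ∀ w : Λ, 𝒜 w ≠ ⊥ → 𝒜 (-w) ≠ ⊥ → w = 0)
    (δ : Derivation k A A) (hnil : ∀ a : A, ∃ n : ℕ, ((δ : A →ₗ[k] A) ^ n) a = 0)
    (d : Λ) (hhom : ∀ (w : Λ) (a : A), a ∈ 𝒜 w → δ a ∈ 𝒜 (w + d)) (hd : 𝒜 d = ⊥)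
    (hfix : ∀ m : Ideal A, m.IsMaximal → (∀ w : Λ, w ≠ 0 → (𝒜 w : Set A) ⊆ m) → ¬ (Set.range δ ⊆ m)) :
    ∃ s ∈ 𝒜 (-d), δ s = 1 := by
  classical
  let T : Set A := {x | ∃ w : Λ, w ≠ 0 ∧ x ∈ 𝒜 w} ∪ δ '' (𝒜 (-d) : Set A)
  have h0 : ∀ c ∈ 𝒜 0, ∀ s : A, δ (c * s) = c * δ s := by
    intro c hc s
    have h := hhom 0 c hc
    rw [zero_add, hd, Submodule.mem_bot] at h
    simp [h]
  have key : ∀ x ∈ Ideal.span T, ∀ a : A, ∃ s ∈ 𝒜 (-d), δ s = (DirectSum.decompose 𝒜 (a * x) 0 : A) := by
    intro x hx
    induction hx using Submodule.span_induction with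
    | mem x hx =>
      intro a
      rcases hx with ⟨w, hw, hxw⟩ | ⟨s, hs, rfl⟩
      · refine ⟨0, Submodule.zero_mem _, ?_⟩
        have h := DirectSum.coe_decompose_mul_add_of_right_mem 𝒜 (a := a) (i := -w) hxw
        rw [neg_add_cancel] at h
        rw [map_zero, h]
        by_cases hx0 : x = 0
        · simp [hx0]
        · by_cases ha : (DirectSum.decompose 𝒜 a (-w) : A) = 0
          · simp [ha]
          · exact absurd (hpos w (Submodule.ne_bot_iff _ |>.2 ⟨x, hxw, hx0⟩)
              (Submodule.ne_bot_iff _ |>.2 ⟨_, Subtype.coe_prop _, ha⟩)) hw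
      · have hds : δ s ∈ 𝒜 0 := by simpa using hhom (-d) s hs
        refine ⟨(DirectSum.decompose 𝒜 a 0 : A) * s, ?_, ?_⟩
        · simpa using SetLike.mul_mem_graded (Subtype.coe_prop (DirectSum.decompose 𝒜 a 0)) hs
        · have h := DirectSum.coe_decompose_mul_add_of_right_mem 𝒜 (a := a) (i := 0) hds
          rw [add_zero] at h
          rw [h, h0 _ (Subtype.coe_prop _)]
    | zero => intro a; exact ⟨0, Submodule.zero_mem _, by simp⟩
    | add x y _ _ hx hy =>
      intro a
      obtain ⟨s, hs, hs'⟩ := hx a
      obtain ⟨t, ht, ht'⟩ := hy a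
      exact ⟨s + t, Submodule.add_mem _ hs ht, by simp [mul_add, hs', ht', DirectSum.decompose_add]⟩
    | smul b x _ hx =>
      intro a
      simpa [mul_assoc] using hx (a * b)
  by_contra hne
  have htop : Ideal.span T ≠ ⊤ := by
    intro h
    obtain ⟨s, hs, hs'⟩ := key 1 (h ▸ Submodule.mem_top) 1
    refine hne ⟨s, hs, ?_⟩
    rw [hs', one_mul, DirectSum.decompose_of_mem_same 𝒜 (SetLike.one_mem_graded 𝒜)]
  obtain ⟨m, hm, hle⟩ := Ideal.exists_le_maximal _ htop
  refine hfix m hm (fun w hw x hx => hle (Ideal.subset_span (Or.inl ⟨w, hw, hx⟩))) ?_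
  rintro _ ⟨a, rfl⟩
  induction a using DirectSum.Decomposition.inductionOn 𝒜 with
  | zero => simp
  | homogeneous x =>
    rename_i w
    by_cases hw : w + d = 0
    · exact hle (Ideal.subset_span (Or.inr ⟨x, by rw [← eq_neg_of_add_eq_zero_left hw]; exact x.2, rfl⟩))
    · exact hle (Ideal.subset_span (Or.inl ⟨w + d, hw, hhom w x x.2⟩))
  | add x y hx hy => rw [map_add]; exact m.add_mem hx hy

end Groth.Agent.S15121
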