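import Groth.Statements.S15122
import Mathlib.RingTheory.GradedAlgebra.Homogeneous.Ideal

set_option autoImplicit false
universe u v w
open GIT

namespace Groth.Agent.S15122

/-- Let R be a commutative ring, A a commutative R-algebra graded by the natural numbers, σ a
homogeneous element of degree zero, and B the localisation of A away from σ, equipped with a grading
by the natural numbers for which the localisation map ι : A → B is a graded ring homomorphism (such
a grading is necessarily the one induced from A). Then the homogeneous ideal of B generated by the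
image of the irrelevant ideal of A is the whole irrelevant ideal of B; in other words the induced
rational map from Proj B to Proj A is defined everywhere. (The published statement also assumes σ a
non-zero-divisor, which this step does not use, and goes on to conclude that Proj B → Proj A is an
open immersion onto the basic open set of σ.) -/
theorem result
    (R : Type u) (A : Type v) (B : Type w) [CommRing R] [CommRing A] [CommRing B] [Algebra R A] [Algebra R B]
    [Algebra A B] [IsScalarTower R A B]
    (𝒜 : ℕ → Submodule R A) [GradedAlgebra 𝒜] (ℬ : ℕ → Submodule R B) [GradedAlgebra ℬ]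
    (σ : A) (hσ0 : σ ∈ 𝒜 0) [IsLocalization.Away σ B]
    (ι : 𝒜 →+*ᵍ ℬ) (hι : ∀ a : A, ι a = algebraMap A B a) :
    (HomogeneousIdeal.irrelevant 𝒜).map ι = HomogeneousIdeal.irrelevant ℬ := by
  classical
  apply le_antisymm
  · rw [HomogeneousIdeal.map_le_iff_le_comap]
    intro a ha
    rw [HomogeneousIdeal.mem_irrelevant_iff, GradedRing.proj_apply] at ha
    change ι a ∈ HomogeneousIdeal.irrelevant ℬ
    rw [HomogeneousIdeal.mem_irrelevant_iff, GradedRing.proj_apply]
    have := GradedRingHom.map_directSumDecompose 𝒜 ℬ ι (x := a) (i := 0)
    rw [← this, ha, map_zero]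
  · intro b hb
    rw [HomogeneousIdeal.mem_irrelevant_iff, GradedRing.proj_apply] at hb
    rw [← DirectSum.sum_support_decompose ℬ b]
    refine sum_mem fun n hn => ?_
    by_cases hn0 : n = 0
    · subst hn0; rw [hb]; exact zero_mem _
    obtain ⟨⟨a, s, k, rfl⟩, h⟩ := IsLocalization.surj (Submonoid.powers σ) (DirectSum.decompose ℬ b n : B)
    dsimp only at h
    have hmem : (DirectSum.decompose ℬ b n : B) * algebraMap A B (σ ^ k) ∈ ℬ n := by
      have h0 : algebraMap A B (σ ^ k) ∈ ℬ 0 := by
        rw [← hι]
        exact ι.map_mem (by simpa using SetLike.pow_mem_graded k hσ0)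
      simpa using SetLike.mul_mem_graded (SetLike.coe_mem (DirectSum.decompose ℬ b n)) h0
    have heq : (DirectSum.decompose ℬ b n : B) * algebraMap A B (σ ^ k) = ι (DirectSum.decompose 𝒜 a n : A) := by
      rw [GradedRingHom.map_directSumDecompose 𝒜 ℬ ι, hι, ← h, DirectSum.decompose_of_mem_same ℬ hmem]
    have hin : (DirectSum.decompose ℬ b n : B) * algebraMap A B (σ ^ k) ∈ ((HomogeneousIdeal.irrelevant 𝒜).map ι).toIdeal := by
      rw [heq, HomogeneousIdeal.toIdeal_map]
      refine Ideal.mem_map_of_mem ι ?_
      rw [HomogeneousIdeal.mem_iff, HomogeneousIdeal.mem_irrelevant_iff, GradedRing.proj_apply,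
        DirectSum.decompose_of_mem_ne 𝒜 (SetLike.coe_mem _) hn0]
    exact (Ideal.mul_unit_mem_iff_mem _ (IsLocalization.map_units B (⟨σ ^ k, k, rfl⟩ : Submonoid.powers σ))).1 hin

end Groth.Agent.S15122
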