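import Groth.Statements.S15125
import Mathlib
import Groth.Prelude

set_option linter.all false

set_option autoImplicit false
universe u
open scoped TensorProduct
open Fields

open Filter Topology TensorProduct

namespace Groth.Agent.S15125

theorem tensor_restrict (K L : Type u) [Field K] [Field L] [Algebra K L] (L₁ : IntermediateField K L) (x : L₁)
    (φ ψ : L →ₗ[L₁] L₁) (w : L ⊗[K] L) :
    TensorProduct.map (φ.restrictScalars K) (ψ.restrictScalars K) ((((x : L) ⊗ₜ[K] (1 : L)) - (1 : L) ⊗ₜ[K] (x : L)) * w) =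
      ((x ⊗ₜ[K] (1 : L₁)) - (1 : L₁) ⊗ₜ[K] x) * TensorProduct.map (φ.restrictScalars K) (ψ.restrictScalars K) w := by
  induction w using TensorProduct.induction_on with
  | zero => simp
  | add a b ha hb => simp only [mul_add, map_add, ha, hb]
  | tmul a b =>
    have h1 : ∀ c : L, φ ((x : L) * c) = x * φ c := fun c => φ.map_smul x c
    have h2 : ∀ c : L, ψ ((x : L) * c) = x * ψ c := fun c => ψ.map_smul x c
    simp only [sub_mul, Algebra.TensorProduct.tmul_mul_tmul, map_sub, TensorProduct.map_tmul,
      LinearMap.coe_restrictScalars, one_mul, h1, h2]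

noncomputable def toL₁ (K L : Type u) [Field K] [Field L] [Algebra K L] (L₁ : IntermediateField K L) :
    L ⊗[K] L →ₗ[K] L ⊗[L₁] L :=
  TensorProduct.lift (LinearMap.mk₂ K (fun a b => a ⊗ₜ[L₁] b) (fun a a' b => TensorProduct.add_tmul a a' b)
    (fun c a b => by rw [← TensorProduct.smul_tmul'])
    (fun a b b' => TensorProduct.tmul_add a b b')
    (fun c a b => by rw [← TensorProduct.tmul_smul]))

theorem separable_of_mem (K L : Type u) [Field K] [Field L] [Algebra K L]
    (hfg : (⊤ : IntermediateField K L).FG) (x : L)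
    (h : ∀ n : ℕ, (x ⊗ₜ[K] (1 : L)) - (1 : L) ⊗ₜ[K] x ∈ KaehlerDifferential.ideal K L ^ n) :
    x ∈ separableClosure K L := by
  classical
  haveI : Algebra.EssFiniteType K (⊤ : IntermediateField K L) := IntermediateField.essFiniteType_iff.2 hfg
  haveI : Algebra.EssFiniteType K L :=
    Algebra.EssFiniteType.of_surjective (IntermediateField.topEquiv (F := K) (E := L)).toAlgHom
      (IntermediateField.topEquiv (F := K) (E := L)).surjective
  haveI : IsNoetherianRing (L ⊗[K] L) := Algebra.EssFiniteType.isNoetherianRing L (L ⊗[K] L)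
  set I := KaehlerDifferential.ideal K L
  set z := (x ⊗ₜ[K] (1 : L)) - (1 : L) ⊗ₜ[K] x with hz
  obtain ⟨⟨r, hr⟩, hrz⟩ := (Ideal.mem_iInf_smul_pow_eq_bot_iff (M := L ⊗[K] L) I z).1 (by
    rw [Submodule.mem_iInf]
    intro n
    rw [smul_eq_mul, Ideal.mul_top]
    exact h n)
  change r * z = z at hrz
  let L₁ : IntermediateField K L := IntermediateField.adjoin K {x}
  let x₁ : L₁ := ⟨x, IntermediateField.mem_adjoin_simple_self K x⟩
  let z₁ : L₁ ⊗[K] L₁ := x₁ ⊗ₜ[K] (1 : L₁) - (1 : L₁) ⊗ₜ[K] x₁
  obtain ⟨j, hjz, hj⟩ : ∃ j : L₁ ⊗[K] L₁, z₁ * j = 0 ∧ Algebra.TensorProduct.lmul' K j ≠ 0 := by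
    by_contra hcon
    push Not at hcon
    have hw : (1 - r) * z = 0 := by rw [sub_mul, one_mul, hrz, sub_self]
    have hmul : Algebra.TensorProduct.lmul' K (1 - r) = (1 : L) := by
      rw [map_sub, map_one, sub_eq_self]
      exact hr
    let b := Module.Free.chooseBasis L₁ L
    have hzero : toL₁ K L L₁ (1 - r) = 0 := by
      apply (b.tensorProduct b).repr.injective
      ext ⟨i, i'⟩
      rw [map_zero, Finsupp.zero_apply]
      have hT := hcon (TensorProduct.map ((b.coord i).restrictScalars K) ((b.coord i').restrictScalars K) (1 - r)) (by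
        rw [← tensor_restrict K L L₁ x₁, mul_comm]
        rw [show ((x₁ : L) ⊗ₜ[K] (1 : L) - (1 : L) ⊗ₜ[K] (x₁ : L)) = z from rfl, hw, map_zero])
      rw [← hT]
      generalize (1 - r) = w
      induction w using TensorProduct.induction_on with
      | zero => simp
      | add a a' ha ha' =>
        simp only [map_add, Finsupp.add_apply]
        push_cast
        rw [ha, ha']
      | tmul a a' => simp [toL₁, Module.Basis.tensorProduct_repr_tmul_apply, mul_comm]
    have hfac : ∀ w : L ⊗[K] L, LinearMap.mul' L₁ L (toL₁ K L L₁ w) = Algebra.TensorProduct.lmul' K w := by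
      intro w
      induction w using TensorProduct.induction_on with
      | zero => simp
      | add a a' ha ha' => simp only [map_add, ha, ha']
      | tmul a a' => simp [toL₁]
    have := hfac (1 - r)
    rw [hzero, map_zero, hmul] at this
    exact zero_ne_one this
  let Θ : L₁ ⊗[K] L₁ →ₗ[K] Ω[L₁⁄K] :=
    TensorProduct.lift (((LinearMap.lsmul L₁ (Ω[L₁⁄K])).restrictScalars₁₂ K K).compl₂
      (KaehlerDifferential.D K L₁ : L₁ →ₗ[K] Ω[L₁⁄K]))
  have hΘ : ∀ w, Θ (z₁ * w) = -(Algebra.TensorProduct.lmul' K w) • KaehlerDifferential.D K L₁ x₁ := by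
    intro w
    induction w using TensorProduct.induction_on with
    | zero => simp
    | add a a' ha ha' => simp only [mul_add, map_add, ha, ha', neg_add, add_smul]
    | tmul a a' =>
      simp only [z₁, sub_mul, Algebra.TensorProduct.tmul_mul_tmul, map_sub, Θ, TensorProduct.lift.tmul,
        LinearMap.compl₂_apply, LinearMap.restrictScalars₁₂_apply_apply, LinearMap.lsmul_apply, Derivation.coeFn_coe,
        one_mul, Derivation.leibniz, Algebra.TensorProduct.lmul'_apply_tmul, smul_add, smul_smul, neg_smul]
      rw [mul_comm a x₁]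
      abel
  have hdx : KaehlerDifferential.D K L₁ x₁ = 0 := by
    have := hΘ j
    rw [hjz, map_zero, eq_comm, neg_smul, neg_eq_zero] at this
    exact (smul_eq_zero.1 this).resolve_left hj
  haveI : Algebra.EssFiniteType K L₁ := IntermediateField.essFiniteType_iff.2 (IntermediateField.fg_adjoin_of_finite (Set.finite_singleton x))
  haveI : Algebra.FormallyUnramified K L₁ := by
    refine ⟨?_⟩
    refine subsingleton_of_forall_eq 0 fun ω => ?_
    have hω : ω ∈ Submodule.span L₁ (Set.range (KaehlerDifferential.D K L₁)) := by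
      rw [KaehlerDifferential.span_range_derivation]; trivial
    have hall : ∀ y : L₁, KaehlerDifferential.D K L₁ y = 0 := by
      rintro ⟨y, hy⟩
      induction hy using IntermediateField.adjoin_induction with
      | mem y hy => cases hy; exact hdx
      | algebraMap c => exact (KaehlerDifferential.D K L₁).map_algebraMap c
      | add y y' hy hy' h1 h2 =>
        rw [show (⟨y + y', _⟩ : L₁) = ⟨y, hy⟩ + ⟨y', hy'⟩ from rfl, map_add, h1, h2, add_zero]
      | inv y hy h1 =>
        rw [show (⟨y⁻¹, _⟩ : L₁) = (⟨y, hy⟩ : L₁)⁻¹ from rfl, Derivation.leibniz_inv, h1, smul_zero]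
      | mul y y' hy hy' h1 h2 =>
        rw [show (⟨y * y', _⟩ : L₁) = ⟨y, hy⟩ * ⟨y', hy'⟩ from rfl, Derivation.leibniz, h1, h2, smul_zero, smul_zero, add_zero]
    have : Submodule.span L₁ (Set.range (KaehlerDifferential.D K L₁)) ≤ ⊥ := Submodule.span_le.2 (by rintro _ ⟨y, rfl⟩; exact hall y)
    exact (Submodule.mem_bot _).1 (this hω)
  haveI : Algebra.IsSeparable K L₁ := Algebra.FormallyUnramified.isSeparable K L₁
  have h1 : IsSeparable K x₁ := Algebra.IsSeparable.isSeparable K x₁
  rw [mem_separableClosure_iff]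
  exact (isSeparable_map_iff (x := x₁) L₁.val L₁.val.injective).2 h1

theorem mem_of_separable (K L : Type u) [Field K] [Field L] [Algebra K L] (x : L) (hx : x ∈ separableClosure K L) (n : ℕ) :
    (x ⊗ₜ[K] (1 : L)) - (1 : L) ⊗ₜ[K] x ∈ KaehlerDifferential.ideal K L ^ n := by
  rw [mem_separableClosure_iff] at hx
  set a := (x ⊗ₜ[K] (1 : L)) with ha
  set b := ((1 : L) ⊗ₜ[K] x) with hb
  set f := (minpoly K x).map (algebraMap K (L ⊗[K] L)) with hf
  have hfa : f.eval a = 0 := by
    rw [hf, Polynomial.eval_map, ← Polynomial.aeval_def,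
      show a = (Algebra.TensorProduct.includeLeft : L →ₐ[K] L ⊗[K] L) x from rfl, Polynomial.aeval_algHom_apply,
      minpoly.aeval, map_zero]
  have hfb : f.eval b = 0 := by
    rw [hf, Polynomial.eval_map, ← Polynomial.aeval_def,
      show b = (Algebra.TensorProduct.includeRight : L →ₐ[K] L ⊗[K] L) x from rfl, Polynomial.aeval_algHom_apply,
      minpoly.aeval, map_zero]
  have hu : IsUnit (f.derivative.eval b) := by
    rw [hf, Polynomial.derivative_map, Polynomial.eval_map, ← Polynomial.aeval_def,
      show b = (Algebra.TensorProduct.includeRight : L →ₐ[K] L ⊗[K] L) x from rfl, Polynomial.aeval_algHom_apply]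
    exact (hx.aeval_derivative_ne_zero (minpoly.aeval _ _)).isUnit.map _
  obtain ⟨k, hk⟩ := Polynomial.binomExpansion f b (a - b)
  rw [add_sub_cancel, hfa, hfb, zero_add] at hk
  obtain ⟨v, hv⟩ := hu
  have key : a - b = (-(↑v⁻¹ : L ⊗[K] L) * k) * (a - b) * (a - b) := by
    rw [← hv] at hk
    linear_combination (-(↑v⁻¹ : L ⊗[K] L)) * hk - (a - b) * v.inv_mul
  induction n with
  | zero => simp
  | succ n ih =>
    rw [key, pow_succ]
    refine Ideal.mul_mem_mul (Ideal.mul_mem_left _ _ ih) ?_
    show Algebra.TensorProduct.lmul' K (a - b) = 0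
    rw [map_sub, ha, hb, Algebra.TensorProduct.lmul'_apply_tmul, Algebra.TensorProduct.lmul'_apply_tmul, one_mul, mul_one, sub_self]

/-- Let L be a finitely generated field extension of K, and I ⊆ L ⊗_K L the kernel of multiplication L
⊗_K L → L. An element x of L has the property that x ⊗ 1 and 1 ⊗ x have the same image in the I-adic
completion of L ⊗_K L if and only if x is separable algebraic over K. Equivalently, the equaliser of
the two natural maps from L to that completion is the separable algebraic closure of K in L. -/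
theorem result
    (K L : Type u) [Field K] [Field L] [Algebra K L]
    (hfg : (⊤ : IntermediateField K L).FG) (x : L) :
    AdicCompletion.of (KaehlerDifferential.ideal K L) (L ⊗[K] L) (x ⊗ₜ[K] (1 : L)) =
        AdicCompletion.of (KaehlerDifferential.ideal K L) (L ⊗[K] L) ((1 : L) ⊗ₜ[K] x) ↔
      x ∈ separableClosure K L := by
  constructor
  · intro h
    refine separable_of_mem K L hfg x fun n => ?_
    have h1 := congrArg (fun c => c.val n) h
    simp only [AdicCompletion.of_apply, Submodule.mkQ_apply] at h1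
    have h2 := (Submodule.Quotient.eq _).1 h1
    rwa [smul_eq_mul, Ideal.mul_top] at h2
  · intro h
    refine AdicCompletion.ext fun n => ?_
    simp only [AdicCompletion.of_apply, Submodule.mkQ_apply]
    refine (Submodule.Quotient.eq _).2 ?_
    rw [smul_eq_mul, Ideal.mul_top]
    exact mem_of_separable K L x h n

end Groth.Agent.S15125
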