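import Groth.Statements.S15126
import Mathlib.RingTheory.MvPowerSeries.Basic
import Mathlib.RingTheory.Adjoin.Basic
import Mathlib.RingTheory.Ideal.Quotient.Operations
import Mathlib.Algebra.MvPolynomial.CommRing
import Mathlib.Data.Set.Countable
import Mathlib.Data.Finsupp.Encodable

set_option autoImplicit false
universe u
open Formal

namespace Groth.Agent.S15126

open MvPowerSeries in
theorem exists_corep (k : Type u) [Field k] (n : ℕ)
    (R : Type u) [CommRing R] [Algebra (MvPowerSeries (Fin n) k) R] :
    ∃ (P : Type u) (_ : CommRing P) (_ : Algebra k P)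
      (u : R →ₐ[MvPowerSeries (Fin n) k] MvPowerSeries (Fin n) P),
      (∀ (Q : Type u) [CommRing Q] [Algebra k Q]
          (f : R →ₐ[MvPowerSeries (Fin n) k] MvPowerSeries (Fin n) Q),
          ∃! g : P →ₐ[k] Q,
            (MvPowerSeries.map (σ := Fin n) (g : P →+* Q)).comp (u : R →+* MvPowerSeries (Fin n) P) =
              (f : R →+* MvPowerSeries (Fin n) Q)) ∧
      ((∃ s : Set R, s.Countable ∧ Algebra.adjoin (MvPowerSeries (Fin n) k) s = ⊤) →
        ∃ t : Set P, t.Countable ∧ Algebra.adjoin k t = ⊤) := by
  classical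
  let B := MvPolynomial (R × (Fin n →₀ ℕ)) k
  let F : R → MvPowerSeries (Fin n) B := fun r e => MvPolynomial.X (r, e)
  let Λ : MvPowerSeries (Fin n) k →+* MvPowerSeries (Fin n) B := MvPowerSeries.map (algebraMap k B)
  let E : Set (MvPowerSeries (Fin n) B) :=
    {F 1 - 1} ∪ Set.range (fun p : R × R => F (p.1 + p.2) - (F p.1 + F p.2)) ∪
      Set.range (fun p : R × R => F (p.1 * p.2) - F p.1 * F p.2) ∪
      Set.range (fun s => F (algebraMap _ R s) - Λ s)
  let J : Ideal B := Ideal.span {b | ∃ x ∈ E, ∃ e, coeff e x = b}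
  let P := B ⧸ J
  let q : B →+* P := Ideal.Quotient.mk J
  have hq : ∀ x ∈ E, MvPowerSeries.map q x = 0 := fun x hx => MvPowerSeries.ext fun e => by
    rw [coeff_map, map_zero]
    exact Ideal.Quotient.eq_zero_iff_mem.2 (Ideal.subset_span ⟨x, hx, e, rfl⟩)
  let u₀ : R → MvPowerSeries (Fin n) P := fun r => MvPowerSeries.map q (F r)
  have h1 : u₀ 1 = 1 := by
    have := hq _ (Or.inl (Or.inl (Or.inl rfl)))
    rwa [map_sub, map_one, sub_eq_zero] at this
  have ha : ∀ a b, u₀ (a + b) = u₀ a + u₀ b := fun a b => by
    have := hq _ (Or.inl (Or.inl (Or.inr ⟨(a, b), rfl⟩)))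
    rwa [map_sub, map_add, sub_eq_zero] at this
  have hm : ∀ a b, u₀ (a * b) = u₀ a * u₀ b := fun a b => by
    have := hq _ (Or.inl (Or.inr ⟨(a, b), rfl⟩))
    rwa [map_sub, map_mul, sub_eq_zero] at this
  have hs : ∀ s, u₀ (algebraMap _ R s) = MvPowerSeries.map (algebraMap k P) s := fun s => by
    have := hq _ (Or.inr ⟨s, rfl⟩)
    rw [map_sub, sub_eq_zero] at this
    exact this.trans (MvPowerSeries.ext fun e => rfl)
  let u : R →ₐ[MvPowerSeries (Fin n) k] MvPowerSeries (Fin n) P :=
    { toFun := u₀
      map_one' := h1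
      map_mul' := hm
      map_zero' := by
        have := ha 0 0
        rwa [add_zero, left_eq_add] at this
      map_add' := ha
      commutes' := fun s => hs s }
  refine ⟨P, inferInstance, inferInstance, u, fun Q _ _ f => ?_, fun ⟨s, hsc, hst⟩ => ?_⟩
  · let g₀ : B →ₐ[k] Q := MvPolynomial.aeval fun x => coeff x.2 (f x.1)
    have hF : ∀ r, MvPowerSeries.map (g₀ : B →+* Q) (F r) = f r := fun r => MvPowerSeries.ext fun e => by
      rw [coeff_map]
      exact MvPolynomial.aeval_X _ (r, e)
    have hg : ∀ a ∈ J, g₀ a = 0 := by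
      have hker : J ≤ RingHom.ker (g₀ : B →+* Q) := Ideal.span_le.2 fun b ⟨x, hx, e, hb⟩ => by
        have hx0 : MvPowerSeries.map (g₀ : B →+* Q) x = 0 := by
          rcases hx with ((hx | ⟨p, rfl⟩) | ⟨p, rfl⟩) | ⟨t, rfl⟩
          · rw [Set.mem_singleton_iff.1 hx, map_sub, map_one, hF, map_one, sub_self]
          · rw [map_sub, map_add, hF, hF, hF, map_add, sub_self]
          · rw [map_sub, map_mul, hF, hF, hF, map_mul, sub_self]
          · rw [map_sub, hF, AlgHom.commutes, sub_eq_zero]
            exact MvPowerSeries.ext fun e => by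
              simp only [Λ, coeff_map]
              exact (g₀.commutes _).symm
        rw [SetLike.mem_coe, RingHom.mem_ker, ← hb, ← coeff_map, hx0, map_zero]
      exact fun a ha => hker ha
    refine ⟨Ideal.Quotient.liftₐ J g₀ hg, RingHom.ext fun r => MvPowerSeries.ext fun e => ?_, fun g hg' => ?_⟩
    · exact MvPolynomial.aeval_X _ (r, e)
    · refine Ideal.Quotient.algHom_ext k (MvPolynomial.algHom_ext fun x => ?_)
      show g (q (MvPolynomial.X x)) = g₀ (MvPolynomial.X x)
      rw [MvPolynomial.aeval_X]
      exact congrArg (coeff x.2) (RingHom.congr_fun hg' x.1)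
  · refine ⟨(fun x : R × (Fin n →₀ ℕ) => coeff x.2 (u x.1)) '' (s ×ˢ Set.univ),
      (hsc.prod Set.countable_univ).image _, ?_⟩
    set t := (fun x : R × (Fin n →₀ ℕ) => coeff x.2 (u x.1)) '' (s ×ˢ Set.univ)
    let S : Subalgebra (MvPowerSeries (Fin n) k) R :=
      { carrier := {r | ∀ e, coeff e (u r) ∈ Algebra.adjoin k t}
        mul_mem' := fun {a b} ha hb e => by
          rw [map_mul, coeff_mul]
          exact sum_mem fun p _ => mul_mem (ha _) (hb _)
        add_mem' := fun {a b} ha hb e => by rw [map_add, map_add]; exact add_mem (ha e) (hb e)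
        algebraMap_mem' := fun x e => by
          rw [AlgHom.commutes]
          exact Subalgebra.algebraMap_mem _ (coeff e x) }
    have hall : ∀ r, r ∈ S := fun r =>
      Algebra.adjoin_le (S := S) (fun a ha e => (Algebra.subset_adjoin
        ⟨(a, e), Set.mk_mem_prod ha (Set.mem_univ e), rfl⟩ : coeff e (u a) ∈ Algebra.adjoin k t))
        (hst.ge (Algebra.mem_top : r ∈ ⊤))
    refine eq_top_iff.2 fun p _ => ?_
    obtain ⟨b, rfl⟩ := Ideal.Quotient.mk_surjective p
    induction b using MvPolynomial.induction_on with
    | C a => exact Subalgebra.algebraMap_mem _ a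
    | add a b ha hb => rw [map_add]; exact add_mem (ha trivial) (hb trivial)
    | mul_X a x ha => rw [map_mul]; exact mul_mem (ha trivial) (hall x.1 x.2)


/-- Affine case. Let k be a field, n > 0, and R a commutative algebra over the power series ring
k[[z_1,…,z_n]]; for a commutative k-algebra Q regard Q[[z_1,…,z_n]] as a k[[z]]-algebra
coefficientwise. Then the functor Q ↦ Hom_{k[[z]]-alg}(R, Q[[z]]) on commutative k-algebras is
corepresentable: there exist a commutative k-algebra P and a k[[z]]-algebra homomorphism u : R →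
P[[z]] such that every k[[z]]-algebra homomorphism R → Q[[z]] arises from u by applying a unique
k-algebra homomorphism P → Q coefficientwise. If moreover R is countably generated as a
k[[z]]-algebra, P may be taken countably generated over k. (The published statement is for an adic
formal scheme Y over the formal disc Spf k[[z]], asserting that the sheaf of sections of Y over the
disc is a scheme, affine over the fibre of Y at the origin, and of pro-finite type when Y is; this
row is the case Y = Spf R, to which the published argument reduces, stated for the underlying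
algebra R; k is algebraically closed there, which is not used.) -/
theorem result
    (k : Type u) [Field k] (n : ℕ) (hn : 0 < n)
    (R : Type u) [CommRing R] [Algebra (MvPowerSeries (Fin n) k) R] :
    ∃ (P : Type u) (_ : CommRing P) (_ : Algebra k P)
      (u : R →ₐ[MvPowerSeries (Fin n) k] MvPowerSeries (Fin n) P),
      (∀ (Q : Type u) [CommRing Q] [Algebra k Q]
          (f : R →ₐ[MvPowerSeries (Fin n) k] MvPowerSeries (Fin n) Q),
          ∃! g : P →ₐ[k] Q,
            (MvPowerSeries.map (σ := Fin n) (g : P →+* Q)).comp (u : R →+* MvPowerSeries (Fin n) P) =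
              (f : R →+* MvPowerSeries (Fin n) Q)) ∧
      ((∃ s : Set R, s.Countable ∧ Algebra.adjoin (MvPowerSeries (Fin n) k) s = ⊤) →
        ∃ t : Set P, t.Countable ∧ Algebra.adjoin k t = ⊤) := by
  exact exists_corep k n R

end Groth.Agent.S15126
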