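import Groth.Statements.S15127
import Groth.Agent.GLinLib.UnipotentOrbit

set_option autoImplicit false
universe u
open scoped TensorProduct
open GLin

namespace Groth.Agent.S15127

/-- Let k be an algebraically closed field, H a commutative Hopf k-algebra such that every nonzero
finite-dimensional H-comodule has a nonzero fixed vector (the affine group U = Spec H is unipotent),
which is the increasing union of a sequence of finitely generated subalgebras B_0 ⊆ B_1 ⊆ ⋯ each
stable under comultiplication and antipode, with H free as a module over each B_i (so U is the limit
of the unipotent algebraic quotients Spec B_i). Let A be a countably generated commutative k-algebra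
with a multiplicative H-coaction (an action of U on the affine scheme Spec A) and x : A → k a
k-point. Then the orbit of x under U is closed: the image of the orbit morphism Spec H → Spec A is a
closed subset. (The published statement is for a pro-unipotent group — a countable successive
extension of copies of the additive group — acting on an affine scheme that is a countable limit of
affine schemes of finite type; such a group has coordinate ring a polynomial ring in countably many
variables filtered by the finitely generated Hopf subalgebras of its algebraic quotients, hence
satisfies the hypotheses here, which are the ones the argument uses.) -/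
theorem result
    (k : Type u) [Field k] [IsAlgClosed k]
    (H : Type u) [CommRing H] [HopfAlgebra k H]
    (hU : HopfRep.IsUnipotent k H)
    (B : ℕ → Subalgebra k H) (hmono : Monotone B) (hcov : ∀ h : H, ∃ i, h ∈ B i)
    (hfg : ∀ i, (B i).FG)
    (hcomul : ∀ i, ∀ b ∈ B i, CoalgebraStruct.comul (R := k) (A := H) b ∈
      LinearMap.range (TensorProduct.map (B i).val.toLinearMap (B i).val.toLinearMap))
    (hanti : ∀ i, ∀ b ∈ B i, HopfAlgebraStruct.antipode (R := k) (A := H) b ∈ B i)
    (hfree : ∀ i, Module.Free (B i) H)
    (A : Type u) [CommRing A] [Algebra k A] [HopfRep.Comod k H A] [GLin.IsCoactAlg k H A]
    (hA : ∃ s : Set A, s.Countable ∧ Algebra.adjoin k s = ⊤)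
    (x : A →ₐ[k] k) :
    GLin.IsClosedOrbit k H x := by
  exact GLinLib.isClosedOrbit_of_isUnipotent hU hmono hcov hfg hfree x

end Groth.Agent.S15127
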