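import Groth.Statements.S15128
import Mathlib.RingTheory.Etale.Weakly
import Mathlib.RingTheory.HopkinsLevitzki
import Mathlib.RingTheory.LocalRing.Pullback
import Mathlib.RingTheory.PicardGroup
import Mathlib.RingTheory.TotallySplit
import Mathlib.RingTheory.WittVector.Basic
import Mathlib.Tactic
import Groth.Agent.CommAlg4.Nilpotent

set_option linter.all false

set_option autoImplicit false
universe u v
open CAlg

open Groth.Agent.CommAlg4

open TensorProduct
namespace Groth.Agent.S15128

/-- Over an Artinian local ring A with residue field k, a linear map h between flat A-modules (of any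
size) is injective, resp. surjective, as soon as its reduction k ⊗_A h is. (The published statement
is for local Artinian algebras over an algebraically closed field of characteristic zero having that
field as residue field; this row allows any Artinian local ring.) -/
theorem result
    (A : Type u) [CommRing A] [IsLocalRing A] [IsArtinianRing A]
    (P L : Type v) [AddCommGroup P] [Module A P] [AddCommGroup L] [Module A L]
    [Module.Flat A P] [Module.Flat A L] (h : P →ₗ[A] L) :
    (Function.Injective (h.lTensor (IsLocalRing.ResidueField A)) → Function.Injective h) ∧
    (Function.Surjective (h.lTensor (IsLocalRing.ResidueField A)) → Function.Surjective h) := by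
  have hnil := (isArtinianRing_iff_isNilpotent_maximalIdeal A).mp inferInstance
  refine ⟨fun hinj => ?_, fun hsurj => ?_⟩
  · rw [← LinearMap.ker_eq_bot, LinearMap.ker_eq_bot']
    intro x hx
    classical
    let k := IsLocalRing.ResidueField A
    have hsur : Function.Surjective (TensorProduct.mk A k P 1) := TensorProduct.mk_surjective A P k Ideal.Quotient.mk_surjective
    by_contra hx0
    -- find the first power
    obtain ⟨N, hN⟩ := hnil
    -- express x through a finite subfamily of a residue basis
    let b := Module.Basis.ofVectorSpace k (k ⊗[A] P)
    choose v hv using fun i => hsur (b i)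
    have hspan : Submodule.span A (Set.range v) = ⊤ := by
      have : Subsingleton (TensorProduct A (A ⧸ IsLocalRing.maximalIdeal A) (P ⧸ Submodule.span A (Set.range v))) := by
        have hs := LinearMap.lTensor_surjective k (Submodule.mkQ_surjective (Submodule.span A (Set.range v)))
        refine subsingleton_of_forall_eq 0 fun y => ?_
        obtain ⟨y, rfl⟩ := hs y
        have hy : y ∈ Submodule.span k (Set.range b) := by rw [b.span_eq]; trivial
        let φ : k ⊗[A] P →ₗ[k] k ⊗[A] (P ⧸ Submodule.span A (Set.range v)) := (Submodule.span A (Set.range v)).mkQ.baseChange k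
        have hφ : Submodule.span k (Set.range b) ≤ LinearMap.ker φ := by
          rw [Submodule.span_le]
          rintro _ ⟨i, rfl⟩
          rw [← hv i, SetLike.mem_coe, LinearMap.mem_ker]
          simp [φ, (Submodule.Quotient.mk_eq_zero _).mpr (Submodule.subset_span (Set.mem_range_self i))]
        exact hφ hy
      have := subsingleton_of_tensor_quotient _ ⟨N, hN⟩ _ this
      exact Submodule.Quotient.subsingleton_iff.mp this
    have hx1 : x ∈ Submodule.span A (Set.range v) := hspan ▸ trivial
    obtain ⟨c, rfl⟩ := (Finsupp.mem_span_range_iff_exists_finsupp).mp hx1
    let s := c.support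
    let e : ULift.{u} (Fin s.card) ≃ s := Equiv.ulift.trans s.equivFin.symm
    have hli : LinearIndependent A (h ∘ v ∘ (fun j => (e j : _))) := by
      apply Module.IsLocalRing.linearIndependent_of_flat
      have h2 : LinearIndependent k (fun j => (h.baseChange k) (b (e j))) :=
        (b.linearIndependent.comp _ (Subtype.val_injective.comp e.injective)).map' (h.baseChange k) (LinearMap.ker_eq_bot.mpr (by rwa [LinearMap.baseChange_eq_ltensor]))
      convert h2 using 1
      funext j
      simp only [Function.comp_apply, ← hv]; rfl
    have h3 : ∑ j, c (e j) • (h ∘ v ∘ (fun j => (e j : _))) j = 0 := by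
      simp only [Function.comp_apply]; rw [Equiv.sum_comp e (fun i : s => c i • h (v i)), Finset.sum_coe_sort s (fun i => c i • h (v i))]
      rw [map_finsuppSum] at hx
      simpa [Finsupp.sum] using hx
    have h4 := Fintype.linearIndependent_iff.mp hli _ h3
    apply hx0
    refine Finset.sum_eq_zero fun i hi => ?_
    have := h4 (e.symm ⟨i, hi⟩)
    simp only [Equiv.apply_symm_apply] at this
    simp [this]
  · have := subsingleton_of_tensor_quotient _ hnil (L ⧸ LinearMap.range h) (by
      have hex := lTensor_exact (IsLocalRing.ResidueField A) (LinearMap.exact_map_mkQ_range h) (Submodule.mkQ_surjective _)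
      refine subsingleton_of_forall_eq 0 fun y => ?_
      obtain ⟨y', hy'⟩ := LinearMap.lTensor_surjective (R := A) (A ⧸ IsLocalRing.maximalIdeal A) (Submodule.mkQ_surjective (LinearMap.range h)) y
      subst hy'
      exact (hex y').mpr (hsurj y'))
    rw [← LinearMap.range_eq_top]
    exact Submodule.Quotient.subsingleton_iff.mp this

end Groth.Agent.S15128
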