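import Groth.Statements.S15129
import Mathlib
import Groth.Agent.FlatCrit.TorUniv

set_option linter.all false

set_option autoImplicit false
universe u v
open CAlg

open TensorProduct

namespace Groth.Agent.S15129

/-- Over an Artinian local ring A with residue field k, for an exact sequence 0 → M → N → P → 0 of
A-modules with N flat: if k ⊗_A M → k ⊗_A N is injective then P is flat; if P is flat then M is flat
and k ⊗_A M → k ⊗_A N is injective. (The published statement is for local Artinian algebras over an
algebraically closed field of characteristic zero having that field as residue field; this row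
allows any Artinian local ring.) -/
theorem result
    (A : Type u) [CommRing A] [IsLocalRing A] [IsArtinianRing A]
    (M N P : Type v) [AddCommGroup M] [Module A M] [AddCommGroup N] [Module A N]
    [AddCommGroup P] [Module A P] [Module.Flat A N] (f : M →ₗ[A] N) (g : N →ₗ[A] P)
    (hf : Function.Injective f) (hg : Function.Surjective g) (hfg : Function.Exact f g) :
    (Function.Injective (f.lTensor (IsLocalRing.ResidueField A)) → Module.Flat A P) ∧
    (Module.Flat A P → Module.Flat A M ∧ Function.Injective (f.lTensor (IsLocalRing.ResidueField A))) := by
  let m := IsLocalRing.maximalIdeal A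
  refine ⟨fun hk => ?_, fun hP => ?_⟩
  · have hnil : IsNilpotent m := by
      have := IsArtinianRing.isNilpotent_jacobson_bot (R := A)
      rwa [IsLocalRing.jacobson_eq_maximalIdeal ⊥ bot_ne_top] at this
    have h1 : Function.Injective (m.subtype.rTensor P) := by
      rw [← LinearMap.lTensor_inj_iff_rTensor_inj]
      refine lTensor_injective_of_exact_of_exact_of_rTensor_injective hfg hg
        (LinearMap.exact_subtype_mkQ m) (Submodule.mkQ_surjective _) ?_
        (Module.Flat.lTensor_preserves_injective_linearMap _ m.subtype_injective)
      rw [← LinearMap.lTensor_inj_iff_rTensor_inj]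
      exact hk
    exact Groth.Agent.FlatCritUniv.flat_of_isNilpotent h1
      (Groth.Agent.FlatCritUniv.quotFlat_of_field m) hnil
  · refine ⟨?_, LinearMap.lTensor_injective_of_exact_of_flat g hg f hf hfg _⟩
    rw [Module.Flat.iff_rTensor_injective]
    intro I hI
    have h := (Module.Flat.rTensor_preserves_injective_linearMap (M := N) I.subtype I.subtype_injective).comp
      (LinearMap.lTensor_injective_of_exact_of_flat g hg f hf hfg I)
    rw [← LinearMap.coe_comp, LinearMap.rTensor_comp_lTensor, ← LinearMap.lTensor_comp_rTensor,
      LinearMap.coe_comp] at h
    exact h.of_comp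

end Groth.Agent.S15129
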