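import Groth.Statements.S15131
import Groth.Agent.ArtFunLib.Tangent
-- import your own Groth.Agent.* helpers here

set_option autoImplicit false
universe u v
open CategoryTheory
open ArtFun

namespace Groth.Agent.S15131

/-- Let k be a field and F a functor on local Artinian k-algebras with residue field k with F(k) a
single point, satisfying (H1) (the comparison map of A₁ ×_A A₂ is surjective when A₂ → A is a small
extension) and (H2) (it is bijective when A = k and A₂ = k[ε]). If the tangent space F(k[ε]) is a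
single point then F is the one-point functor: every F(A) has exactly one element. (The converse is
clear.) -/
theorem result
    {k : Type u} [Field k] (F : ArtFun.Art k k ⥤ Type v)
    (h0 : ArtFun.H0 F) (h1 : ArtFun.Hbar F) (h2 : ArtFun.Heps F)
    (ht : Subsingleton (ArtFun.TangentSpace F)) (A : ArtFun.Art k k) :
    Nonempty (F.obj A) ∧ Subsingleton (F.obj A) := by
  refine ⟨h0.1.map (F.map (X := ArtFun.Art.base k k) (⟨Algebra.ofId k A, AlgHom.ext fun c => A.res.commutes c⟩ : ArtFun.Art.base k k ⟶ A)), ?_⟩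
  have htsub := ht
  suffices h : Subsingleton (F.obj (ArtFun.Art.base k k)) → Subsingleton (F.obj A) from h h0.2
  refine ArtFunLib.surj_induction (fun A B (_ : B ⟶ A) => Subsingleton (F.obj A) → Subsingleton (F.obj B))
    ?_ ?_ ?_ (ArtFun.Art.toBase A) A.res_surjective
  · intro A B e he hA
    exact ⟨fun x y => (ArtFunLib.map_bijective F e).1 (Subsingleton.elim _ _)⟩
  · intro A B p hp hA
    refine ⟨fun y y' => ?_⟩
    obtain ⟨t, ht⟩ := hp.2.2.1
    obtain ⟨P, p₁, p₂, hP⟩ := ArtFunLib.exists_fibreProd p p hp.1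
    obtain ⟨g, -, hg⟩ := ArtFunLib.exists_diff hp ht hP
    obtain ⟨d, hd₁, hd₂⟩ := ArtFunLib.IsFibreProd.exists_lift hP (𝟙 B) (𝟙 B) rfl
    obtain ⟨z, hz, hz'⟩ := (ArtFunLib.cmp_surjective_iff hP).1 (h1 _ _ _ _ hP hp) y y'
      (Subsingleton.elim _ _)
    have : z = F.map d y := (ArtFunLib.cmp_injective_iff hg).1 (h2 _ _ hg).1 _ _
      (by rw [hz, ArtFunLib.map_map, hd₁, ArtFunLib.map_id']) (@Subsingleton.elim _ htsub _ _)
    rw [← hz', this, ArtFunLib.map_map, hd₂, ArtFunLib.map_id']
  · exact fun A B C p q _ _ hp hq h => hp (hq h)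

end Groth.Agent.S15131
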