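import Groth.Statements.S15133
import Groth.Agent.CommAlg4.FlatArtin
-- import your own Groth.Agent.* helpers here

set_option autoImplicit false
universe u
open CategoryTheory
open CAlg

namespace Groth.Agent.S15133

/-- Let A be an Artinian local ring with residue field k, n ≥ 1, and 0 → I → P₀ → P₁ → ⋯ → Pₙ a complex
of A-modules with P₀, …, Pₙ flat whose reduction 0 → k ⊗ I → k ⊗ P₀ → ⋯ → k ⊗ Pₙ is exact. Then I
and coker(Pₙ₋₁ → Pₙ) are flat. The complex is written as a cochain complex C indexed by ℕ with C⁰ =
I and Cⁱ⁺¹ = Pᵢ; its terms in degrees above n + 1 play no role. (The published statement adds that I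
maps onto the kernel of k ⊗ P₀ → k ⊗ P₁, which is already part of the exactness hypothesis, and is
for local Artinian algebras over an algebraically closed field of characteristic zero having that
field as residue field; this row allows any Artinian local ring.) -/
theorem result
    (A : Type u) [CommRing A] [IsLocalRing A] [IsArtinianRing A] (n : ℕ) (hn : 0 < n)
    (C : CochainComplex (ModuleCat.{u} A) ℕ)
    (hflat : ∀ i, i ≤ n → Module.Flat A (C.X (i + 1)))
    (hred : ∀ j, j ≤ n →
      (((MonoidalCategory.tensorLeft (ModuleCat.of A (IsLocalRing.ResidueField A))).mapHomologicalComplex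
        (ComplexShape.up ℕ)).obj C).ExactAt j) :
    Module.Flat A (C.X 0) ∧ Module.Flat A (C.X (n + 1) ⧸ LinearMap.range (C.d n (n + 1)).hom) := by
  let T := ((MonoidalCategory.tensorLeft (ModuleCat.of A (IsLocalRing.ResidueField A))).mapHomologicalComplex
    (ComplexShape.up ℕ)).obj C
  have key : ∀ i j : ℕ, j ≤ n → (ComplexShape.up ℕ).prev j = i →
      Function.Exact ((C.d i j).hom.lTensor (IsLocalRing.ResidueField A))
        ((C.d j (j + 1)).hom.lTensor (IsLocalRing.ResidueField A)) := by
    intro i j hj hi
    have h1 := (HomologicalComplex.exactAt_iff' T i j (j + 1) hi ((ComplexShape.up ℕ).next_eq' (show (ComplexShape.up ℕ).Rel j (j + 1) from rfl))).1 (hred j hj)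
    rw [ShortComplex.ShortExact.moduleCat_exact_iff_function_exact] at h1
    exact h1
  have hcomp : ∀ i j k : ℕ, (C.d j k).hom ∘ₗ (C.d i j).hom = 0 := fun i j k => by
    rw [← ModuleCat.hom_comp, C.d_comp_d]; rfl
  have main : ∀ i j : ℕ, j ≤ n → (ComplexShape.up ℕ).prev j = i →
      Module.Flat A (C.X (j + 1) ⧸ LinearMap.range (C.d j (j + 1)).hom) ∧
        Function.Exact (C.d i j).hom (C.d j (j + 1)).hom := by
    intro i j hj hi
    haveI := hflat j hj
    exact Groth.Agent.CommAlg4.flat_and_exact_of_exact_residue (C.d i j).hom (C.d j (j + 1)).hom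
      (LinearMap.range (C.d j (j + 1)).hom).mkQ (hcomp i j (j + 1))
      (LinearMap.exact_map_mkQ_range _) (Submodule.mkQ_surjective _) (key i j hj hi)
  refine ⟨?_, (main _ n le_rfl rfl).1⟩
  obtain ⟨hq, hex⟩ := main 0 0 (Nat.zero_le n) CochainComplex.prev_nat_zero
  haveI := hq
  haveI := hflat 0 (Nat.zero_le n)
  set d := (C.d 0 1).hom
  have hinj : Function.Injective d := by
    rw [injective_iff_map_eq_zero]
    intro x hx
    obtain ⟨y, rfl⟩ := (hex x).1 hx
    rw [C.shape 0 0 (by simp)]
    rfl
  haveI hker : Module.Flat A (LinearMap.ker (LinearMap.range d).mkQ) := by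
    rw [Module.Flat.iff_lTensor_preserves_injective_linearMap]
    intro X Y _ _ _ _ i hi
    have hf : Function.Surjective (LinearMap.range d).mkQ := Submodule.mkQ_surjective _
    have hX := LinearMap.lTensor_injective_of_exact_of_flat (LinearMap.range d).mkQ hf
      (LinearMap.ker (LinearMap.range d).mkQ).subtype Subtype.val_injective
      (LinearMap.exact_subtype_ker_map _) X
    have hX' : Function.Injective ((LinearMap.ker (LinearMap.range d).mkQ).subtype.rTensor X) :=
      (LinearMap.lTensor_inj_iff_rTensor_inj (M := X)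
        (f := (LinearMap.ker (LinearMap.range d).mkQ).subtype)).1 hX
    refine Function.Injective.of_comp (f := (LinearMap.ker (LinearMap.range d).mkQ).subtype.rTensor Y) ?_
    rw [← LinearMap.coe_comp, LinearMap.rTensor_comp_lTensor, ← LinearMap.lTensor_comp_rTensor,
      LinearMap.coe_comp]
    exact (Module.Flat.lTensor_preserves_injective_linearMap i hi).comp hX'
  exact Module.Flat.of_linearEquiv ((LinearEquiv.ofInjective d hinj).trans
    (LinearEquiv.ofEq _ _ (Submodule.ker_mkQ _).symm))

end Groth.Agent.S15133
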