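import Groth.Statements.S15134
import Groth.Agent.ArtFunLib.Functor
-- import your own Groth.Agent.* helpers here

set_option autoImplicit false
universe u v
open CategoryTheory
open ArtFun

namespace Groth.Agent.S15134

/-- Let k be a field and F a functor on local Artinian k-algebras with residue field k with F(k) a
point. If F satisfies (H2') — the comparison map F(A₁ ×_k A₂) → F(A₁) × F(A₂) is bijective for every
pair of objects — then F satisfies condition (L): for every small extension f : B → A with kernel J,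
writing P = B ×_k B, Q = A ×_k A, r : P → Q for the map induced by f, and C = P/K with K the ideal
of P consisting of the pairs (b, b) with b ∈ J, every element of F(Q) whose two images in F(A) agree
lifts along F(C) → F(Q). Here P and Q are pinned as fibre products over k, K is described through
the two projections, and the two inequalities on K (it lies in the maximal ideal of P and is killed
by r), which always hold, are taken as hypotheses so that the quotient object and the factored map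
can be named. -/
theorem result
    {k : Type u} [Field k] (F : ArtFun.Art k k ⥤ Type v) (h0 : ArtFun.H0 F)
    (h2' : ∀ ⦃P A' A'' : ArtFun.Art k k⦄ (p' : P ⟶ A') (p'' : P ⟶ A'')
      (h : ArtFun.Art.IsFibreProd p' p'' (ArtFun.Art.toBase A') (ArtFun.Art.toBase A'')),
      Function.Bijective (ArtFun.cmp F h))
    ⦃B A : ArtFun.Art k k⦄ (f : B ⟶ A) (hf : ArtFun.Art.IsSmallExt f)
    ⦃P : ArtFun.Art k k⦄ (p₁ p₂ : P ⟶ B)
    (hP : ArtFun.Art.IsFibreProd p₁ p₂ (ArtFun.Art.toBase B) (ArtFun.Art.toBase B))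
    ⦃Q : ArtFun.Art k k⦄ (q₁ q₂ : Q ⟶ A)
    (hQ : ArtFun.Art.IsFibreProd q₁ q₂ (ArtFun.Art.toBase A) (ArtFun.Art.toBase A))
    (r : P ⟶ Q) (hr₁ : r ≫ q₁ = p₁ ≫ f) (hr₂ : r ≫ q₂ = p₂ ≫ f)
    (hK : Ideal.span {z : P | p₁ z = p₂ z ∧ f (p₁ z) = 0} ≤ IsLocalRing.maximalIdeal P)
    (hKr : Ideal.span {z : P | p₁ z = p₂ z ∧ f (p₁ z) = 0} ≤ RingHom.ker r.toAlgHom)
    (y : F.obj Q) (hy : F.map q₁ y = F.map q₂ y) :
    ∃ z : F.obj (ArtFun.Art.quot P (Ideal.span {z : P | p₁ z = p₂ z ∧ f (p₁ z) = 0}) hK),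
      F.map (ArtFun.Art.quotFactor hK r hKr) z = y := by
  obtain ⟨d, hd₁, hd₂⟩ := Groth.Agent.ArtFunLib.IsFibreProd.exists_lift hP (𝟙 B) (𝟙 B) rfl
  have e₁ : ∀ b, p₁ (d b) = b := fun b => congrArg (fun g : B ⟶ B => g b) hd₁
  have e₂ : ∀ b, p₂ (d b) = b := fun b => congrArg (fun g : B ⟶ B => g b) hd₂
  let m := d ≫ ArtFun.Art.quotMk P _ hK
  have hle : RingHom.ker f.toAlgHom ≤ RingHom.ker m.toAlgHom := fun b hb => by
    refine Ideal.Quotient.eq_zero_iff_mem.2 (Ideal.subset_span ⟨?_, ?_⟩)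
    · exact (e₁ b).trans (e₂ b).symm
    · exact (congrArg f.toAlgHom (e₁ b)).trans hb
  obtain ⟨χ, hχ⟩ : ∃ χ : A →ₐ[k] (ArtFun.Art.quot P _ hK), ∀ b, χ (f b) = m b :=
    ⟨AlgHom.liftOfSurjective f.toAlgHom hf.1 m.toAlgHom hle,
      fun b => AlgHom.liftOfSurjective_apply f.toAlgHom hf.1 m.toAlgHom hle b⟩
  let δ : A ⟶ ArtFun.Art.quot P _ hK := ⟨χ, AlgHom.ext fun a => by
    obtain ⟨b, rfl⟩ := hf.1 a
    exact ((congrArg _ (hχ b)).trans (ArtFun.Art.res_app m b)).trans (ArtFun.Art.res_app f b).symm⟩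
  have h₁ : (δ ≫ ArtFun.Art.quotFactor hK r hKr) ≫ q₁ = 𝟙 A := by
    refine Groth.Agent.ArtFunLib.hom_ext_apply fun a => ?_
    obtain ⟨b, rfl⟩ := hf.1 a
    exact ((congrArg (fun z => q₁ (ArtFun.Art.quotFactor hK r hKr z)) (hχ b)).trans
      (congrArg (fun g : P ⟶ A => g (d b)) hr₁)).trans (congrArg f.toAlgHom (e₁ b))
  have h₂ : (δ ≫ ArtFun.Art.quotFactor hK r hKr) ≫ q₂ = 𝟙 A := by
    refine Groth.Agent.ArtFunLib.hom_ext_apply fun a => ?_
    obtain ⟨b, rfl⟩ := hf.1 a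
    exact ((congrArg (fun z => q₂ (ArtFun.Art.quotFactor hK r hKr z)) (hχ b)).trans
      (congrArg (fun g : P ⟶ A => g (d b)) hr₂)).trans (congrArg f.toAlgHom (e₂ b))
  refine ⟨F.map δ (F.map q₁ y), ?_⟩
  refine (Groth.Agent.ArtFunLib.cmp_injective_iff hQ).1 (h2' q₁ q₂ hQ).1 _ _ ?_ ?_
  · rw [Groth.Agent.ArtFunLib.map_map, Groth.Agent.ArtFunLib.map_map, ← Category.assoc, h₁,
      Groth.Agent.ArtFunLib.map_id']
  · rw [Groth.Agent.ArtFunLib.map_map, Groth.Agent.ArtFunLib.map_map, ← Category.assoc, h₂,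
      Groth.Agent.ArtFunLib.map_id', hy]

end Groth.Agent.S15134
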