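import Groth.Statements.S15135


set_option autoImplicit false
universe u v
open Deform

namespace Groth.Agent.S15135

/-- For R-modules M ⊆ N, the first-order embedded deformations of M in N are in canonical bijection with
Hom_R(M, N/M). Writing N ⊗ k[ε] = N ⊕ εN as N × N (the pair (x, y) standing for x + εy), such a
deformation is an R-submodule L of N × N which is stable under multiplication by ε (if (x, y) ∈ L
then (0, x) ∈ L), reduces to M (x ∈ M exactly when (x, y) ∈ L for some y) and is flat over the dual
numbers, flatness being stated elementwise as: (0, y) ∈ L only if y ∈ M (for a submodule reducing to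
M this is the equality of the kernel and the image of ε on L, i.e. flatness over k[ε] when R is an
algebra over a field k). To φ : M → N/M corresponds the submodule of all (x, y) with x ∈ M and y ≡
φ(x) mod M. The first clause says this rule defines exactly one submodule for each φ; the second
says that a submodule has the three properties precisely when its membership is given by this rule
for some φ. (The published statement is a linear isomorphism t_G ≅ Hom_R(M, N/M) for the functor G
of flat deformations of M inside N ⊗ A over local Artinian algebras A; this row states only the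
underlying bijection, and the obstruction half is not stated here.) -/
theorem result
    (R : Type u) [CommRing R] (N : Type v) [AddCommGroup N] [Module R N] (M : Submodule R N) :
    (∀ φ : M →ₗ[R] (N ⧸ M), ∃! L : Submodule R (N × N),
        ∀ x y : N, (x, y) ∈ L ↔ ∃ h : x ∈ M, Submodule.Quotient.mk y = φ ⟨x, h⟩) ∧
    (∀ L : Submodule R (N × N),
      ((∀ x y : N, (x, y) ∈ L → ((0 : N), x) ∈ L) ∧
        (∀ x : N, x ∈ M ↔ ∃ y : N, (x, y) ∈ L) ∧
        (∀ y : N, ((0 : N), y) ∈ L → y ∈ M)) ↔
      ∃ φ : M →ₗ[R] (N ⧸ M), ∀ x y : N, (x, y) ∈ L ↔ ∃ h : x ∈ M, Submodule.Quotient.mk y = φ ⟨x, h⟩) := by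
  constructor
  · intro φ
    refine ⟨{ carrier := {p | ∃ h : p.1 ∈ M, Submodule.Quotient.mk p.2 = φ ⟨p.1, h⟩}
              add_mem' := ?_, zero_mem' := ?_, smul_mem' := ?_ }, fun x y => Iff.rfl, ?_⟩
    · rintro ⟨a, b⟩ ⟨c, d⟩ ⟨h, hh⟩ ⟨h', hh'⟩
      refine ⟨M.add_mem h h', ?_⟩
      change Submodule.Quotient.mk (b + d) = φ (⟨a, h⟩ + ⟨c, h'⟩)
      rw [map_add, ← hh, ← hh', Submodule.Quotient.mk_add]
    · exact ⟨M.zero_mem, (map_zero φ).symm⟩
    · rintro r ⟨a, b⟩ ⟨h, hh⟩
      refine ⟨M.smul_mem r h, ?_⟩
      change Submodule.Quotient.mk (r • b) = φ (r • ⟨a, h⟩)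
      rw [map_smul, ← hh, Submodule.Quotient.mk_smul]
    · intro L hL
      ext ⟨x, y⟩
      exact hL x y
  · intro L
    constructor
    · rintro ⟨h1, h2, h3⟩
      choose g hg using fun x : M => (h2 x).1 x.2
      have key : ∀ (x : M) (y : N), ((x : N), y) ∈ L → Submodule.Quotient.mk (p := M) y = Submodule.Quotient.mk (g x) := by
        intro x y hy
        refine (Submodule.Quotient.eq M).2 (h3 _ ?_)
        simpa using L.sub_mem hy (hg x)
      refine ⟨{ toFun := fun x => Submodule.Quotient.mk (g x), map_add' := ?_, map_smul' := ?_ }, ?_⟩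
      · intro x x'
        exact (key (x + x') _ (L.add_mem (hg x) (hg x'))).symm
      · intro r x
        exact (key (r • x) _ (L.smul_mem r (hg x))).symm
      · intro x y
        constructor
        · intro hy
          exact ⟨(h2 x).2 ⟨y, hy⟩, key ⟨x, (h2 x).2 ⟨y, hy⟩⟩ y hy⟩
        · rintro ⟨h, hh⟩
          have hd : y - g ⟨x, h⟩ ∈ M := (Submodule.Quotient.eq M).1 hh
          obtain ⟨z, hz⟩ := (h2 _).1 hd
          simpa using L.add_mem (hg ⟨x, h⟩) (h1 _ _ hz)
    · rintro ⟨φ, hφ⟩
      refine ⟨?_, ?_, ?_⟩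
      · intro x y hxy
        obtain ⟨h, -⟩ := (hφ x y).1 hxy
        refine (hφ _ _).2 ⟨M.zero_mem, ?_⟩
        rw [(Submodule.Quotient.mk_eq_zero M).2 h]
        exact (map_zero φ).symm
      · intro x
        refine ⟨fun h => ?_, fun ⟨y, hy⟩ => ((hφ x y).1 hy).1⟩
        obtain ⟨y, hy⟩ := Submodule.Quotient.mk_surjective M (φ ⟨x, h⟩)
        exact ⟨y, (hφ x y).2 ⟨h, hy⟩⟩
      · intro y hy
        obtain ⟨h, hh⟩ := (hφ 0 y).1 hy
        exact (Submodule.Quotient.mk_eq_zero M).1 (hh.trans (map_zero φ))

end Groth.Agent.S15135
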