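import Groth.Statements.S15140
import Groth.Agent.EGA43.FlatDescent.SchemeOpen
import Groth.Agent.Models7.FiniteNormal
import Groth.Agent.CAlgH3.Serre
import Groth.Agent.CurvesLib24.Basic
import Groth.Agent.Inters29.FibreDim
-- import your own Groth.Agent.* helpers here

set_option autoImplicit false
set_option linter.style.haveILetI false
set_option backward.isDefEq.respectTransparency false
universe u
open CategoryTheory CategoryTheory.Limits AlgebraicGeometry
open Models

namespace Groth.Agent.S15140

/-- Let R be a discrete valuation ring whose fraction field has characteristic zero and let X and Y be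
relative curves over R: flat, of finite type and separated over Spec R, normal and integral, of
dimension two (pure relative dimension one; properness is not assumed). Let f : X → Y be a finite
surjective morphism over R. Then there is an open subset V ⊆ Y such that the complement of V in Y
and the complement of f⁻¹(V) in X are finite sets of points at which the local rings have Krull
dimension two (closed points of the closed fibres), and f is flat over V. -/
theorem result (R : Type u) [CommRing R] [IsDomain R]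
    [IsDiscreteValuationRing R] [CharZero (FractionRing R)]
    (X Y : Scheme.{u}) (pX : X ⟶ Spec (CommRingCat.of R)) (pY : Y ⟶ Spec (CommRingCat.of R))
    [Flat pX] [LocallyOfFiniteType pX] [QuasiCompact pX] [IsSeparated pX]
    [Flat pY] [LocallyOfFiniteType pY] [QuasiCompact pY] [IsSeparated pY]
    [IsIntegral X] [IsIntegral Y] (hnX : Pi1.IsNormalScheme X) (hnY : Pi1.IsNormalScheme Y)
    (hdX : topologicalKrullDim X = 2) (hdY : topologicalKrullDim Y = 2)
    (f : X ⟶ Y) [IsFinite f] [Surjective f] (hf : f ≫ pY = pX) :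
    ∃ V : Y.Opens, ((V : Set Y)ᶜ).Finite ∧ (∀ y : Y, y ∉ V → ringKrullDim (Y.presheaf.stalk y) = 2) ∧
      (((f ⁻¹ᵁ V : X.Opens) : Set X)ᶜ).Finite ∧ (∀ x : X, x ∉ f ⁻¹ᵁ V → ringKrullDim (X.presheaf.stalk x) = 2) ∧
      Flat (f ∣_ V) := by
  classical
  haveI : IsLocallyNoetherian X := LocallyOfFiniteType.isLocallyNoetherian pX
  haveI : IsLocallyNoetherian Y := LocallyOfFiniteType.isLocallyNoetherian pY
  haveI : CompactSpace Y := QuasiCompact.compactSpace_of_compactSpace pY
  haveI : IsNoetherian Y := {}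
  haveI : LocallyOfFinitePresentation f := LocallyOfFinitePresentation.iff_locallyOfFiniteType.2 inferInstance
  let B : Set X := {x : X | (f.stalkMap x).hom.Flat}ᶜ
  have hB : IsClosed B := (Groth.Agent.EGA43.FlatDescent.isOpen_flat_stalkMap f).isClosed_compl
  let Z : Set Y := f.base '' B
  have hZ : IsClosed Z := f.isClosedMap _ hB
  have hle : ∀ y : Y, ringKrullDim (Y.presheaf.stalk y) ≤ 2 := fun y =>
    (Groth.Agent.CurvesLib24.stalk_dim_le_topologicalKrullDim y).trans hdY.le
  have hdim : ∀ y ∈ Z, ringKrullDim (Y.presheaf.stalk y) = 2 := by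
    rintro _ ⟨x, hx, rfl⟩
    by_contra hne
    apply hx
    show (f.stalkMap x).hom.Flat
    set A := Y.presheaf.stalk (f x)
    have h1 : ringKrullDim A ≤ 1 := by
      have h2 := hle (f x)
      rw [Groth.Agent.EGA43.DimFormula.dimAt_eq] at h2 hne ⊢
      norm_cast at h2 hne ⊢
      omega
    haveI := (hnY (f x)).1
    haveI := (hnY (f x)).2
    haveI := (hnX x).1
    haveI := Groth.Agent.CAlgH3.isRegularLocalRing_of_normal_dim_le_one (R := A) h1
    have : Ring.KrullDimLE 1 A := Ring.krullDimLE_iff.2 h1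
    haveI : IsPrincipalIdealRing A := by
      refine ((tfae_of_isNoetherianRing_of_isLocalRing_of_isDomain A).out 3 0 rfl rfl).1
        ⟨inferInstance, fun P hP hP' => ?_⟩
      by_contra hne
      have e1 := Groth.Agent.CAlgH3.ringKrullDim_quotient_add_one_le (lt_of_le_of_ne (IsLocalRing.le_maximalIdeal hP'.ne_top) hne)
      have e2 := Groth.Agent.CAlgH3.ringKrullDim_quotient_add_one_le (p := (⊥ : Ideal A)) (q := P) (bot_lt_iff_ne_bot.2 hP)
      rw [ringKrullDim_eq_of_ringEquiv (RingEquiv.quotientBot A)] at e2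
      have e3 := ((add_le_add e1 le_rfl).trans e2).trans h1
      rw [ringKrullDim_eq_zero_of_isField ((Ideal.Quotient.maximal_ideal_iff_isField_quotient _).1
        (IsLocalRing.maximalIdeal.isMaximal A))] at e3
      exact absurd e3 (by decide)
    have hinj := Groth.Agent.CurvesLib24.stalkMap_injective f x
    letI : Algebra A (X.presheaf.stalk x) := (f.stalkMap x).hom.toAlgebra
    show Module.Flat A (X.presheaf.stalk x)
    haveI : FaithfulSMul A (X.presheaf.stalk x) := (faithfulSMul_iff_algebraMap_injective _ _).2 hinj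
    rw [Module.Flat.flat_iff_torsion_eq_bot_of_isBezout, eq_bot_iff]
    rintro m ⟨⟨a, ha⟩, ham⟩
    have ham' : algebraMap A (X.presheaf.stalk x) a * m = 0 := by rw [← Algebra.smul_def]; exact ham
    exact (mul_eq_zero.1 ham').resolve_left fun h0 =>
      nonZeroDivisors.ne_zero ha (hinj (h0.trans (map_zero _).symm))
  let V : Y.Opens := ⟨Zᶜ, hZ.isOpen_compl⟩
  have hmem : ∀ y : Y, y ∉ V ↔ y ∈ Z := fun y => not_not
  have hfin : Z.Finite := by
    obtain ⟨S, hSf, hSc, hSi, hS⟩ := TopologicalSpace.NoetherianSpace.exists_finite_set_isClosed_irreducible hZ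
    refine (hSf.biUnion (t := fun T => T) fun T hT => Set.Subsingleton.finite ?_).subset fun z hz => ?_
    · obtain ⟨c, hc⟩ := QuasiSober.sober (hSi T hT) (hSc T hT)
      have hTZ : T ⊆ Z := fun t ht => hS.ge ⟨T, hT, ht⟩
      suffices ∀ t ∈ T, t = c from fun a ha b hb => (this a ha).trans (this b hb).symm
      intro t ht
      by_contra hne
      have h1 := Groth.Agent.SDiv28.CartierPart.dim_add_one_le (hc.specializes ht) (Ne.symm hne)
      have h2 := hdim c (hTZ hc.mem)
      have h3 := hdim t (hTZ ht)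
      rw [ringKrullDim_stalk_eq_coheight] at h2 h3
      have h2' : Order.coheight c = 2 := WithBot.coe_eq_coe.1 h2
      have h3' : Order.coheight t = 2 := WithBot.coe_eq_coe.1 h3
      rw [h2', h3'] at h1
      exact absurd h1 (by decide)
    · obtain ⟨T, hT, hzT⟩ := hS.le hz
      exact Set.mem_biUnion hT hzT
  refine ⟨V, hfin.subset fun y hy => (hmem y).1 hy, fun y hy => hdim y ((hmem y).1 hy), ?_, fun x hx => ?_, ?_⟩
  · refine (hfin.preimage' fun y _ => f.finite_preimage_singleton y).subset fun x hx => ?_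
    exact (hmem (f x)).1 hx
  · refine le_antisymm ((Groth.Agent.CurvesLib24.stalk_dim_le_topologicalKrullDim x).trans hdX.le) ?_
    have hgen := Groth.Agent.Models7.generalizingMap_of_finite_normal hnY f
    have hsp : SpecializingMap f.base := f.isClosedMap.specializingMap
    have h2 : (2 : ℕ∞) ≤ Order.coheight (f x) := by
      have := hdim (f x) ((hmem (f x)).1 hx)
      rw [ringKrullDim_stalk_eq_coheight] at this
      exact (WithBot.coe_eq_coe.1 this).ge
    obtain ⟨s, hs, hlen⟩ := Order.exists_series_of_le_coheight (f x) (n := 2) h2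
    have step : ∀ {w : X} {z : Y}, z ⤳ f w → z ≠ f w → ∃ v : X, f v = z ∧ v ⤳ w ∧ v ≠ w := fun hz hne => by
      obtain ⟨v, hv, rfl⟩ := hgen hz
      exact ⟨v, rfl, hv, fun h => hne (congrArg f.base h)⟩
    obtain ⟨c, hc, hcne⟩ : ∃ c : Y, c ⤳ f x ∧ c ≠ f x ∧ ∃ d : Y, d ⤳ c ∧ d ≠ c := by
      have a0 : s ⟨0, by omega⟩ < s ⟨1, by omega⟩ := s.strictMono (Fin.mk_lt_mk.2 Nat.zero_lt_one)
      have a1 : s ⟨1, by omega⟩ < s ⟨2, by omega⟩ := s.strictMono (Fin.mk_lt_mk.2 Nat.one_lt_two)
      have hh : s ⟨0, by omega⟩ = f x := hs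
      exact ⟨s ⟨1, by omega⟩, hh ▸ a0.le, hh ▸ a0.ne', s ⟨2, by omega⟩, a1.le, a1.ne'⟩
    obtain ⟨v, rfl, hvx, hvne⟩ := step hc hcne.1
    obtain ⟨d, hd, hdne⟩ := hcne.2
    obtain ⟨w, rfl, hwv, hwne⟩ := step hd hdne
    have e1 := Groth.Agent.SDiv28.CartierPart.dim_add_one_le hwv hwne
    have e2 := Groth.Agent.SDiv28.CartierPart.dim_add_one_le hvx hvne
    rw [ringKrullDim_stalk_eq_coheight]
    have h12 : (2 : ℕ∞) ≤ Order.coheight x := by
      refine le_trans ?_ e2
      calc (2 : ℕ∞) = 0 + 1 + 1 := by norm_num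
        _ ≤ Order.coheight v + 1 := add_le_add (le_trans (add_le_add bot_le le_rfl) e1) le_rfl
    exact WithBot.coe_le_coe.2 h12
  · rw [Flat.iff_flat_stalkMap]
    intro x
    refine (RingHom.Flat.respectsIso.arrow_mk_iso_iff (morphismRestrictStalkMap f V x)).2 ?_
    by_contra hns
    exact x.2 ⟨x.1, hns, rfl⟩

end Groth.Agent.S15140
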