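import Groth.Statements.S15142
import Groth.Agent.S2654
import Groth.Agent.Resolve13.RatDegree
import Groth.Agent.CommAlg4.RatSingRegular
import Groth.Agent.CommAlg4.InvRing

set_option autoImplicit false
set_option backward.isDefEq.respectTransparency.types false
universe u
open CategoryTheory CategoryTheory.Limits AlgebraicGeometry
open Resolve

namespace Groth.Agent.S15142

open Groth.Agent.Resolve13

/-- The order of a group bounds multiplicatively the degree over the fixed field. -/
theorem finrank_dvd_card (G L : Type u) [Group G] [Finite G] [Field L] [MulSemiringAction G L] :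
    Module.finrank (FixedPoints.subfield G L) L ∣ Nat.card G := by
  haveI : IsGalois (FixedPoints.subfield G L) L := ⟨⟩
  rw [← IsGalois.card_aut_eq_finrank]
  exact Subgroup.card_dvd_of_surjective _ (FixedPoints.toAlgAut_surjective G L)

/-- Let R be a Noetherian domain, let A be an excellent Noetherian regular domain of Krull dimension two
(all localizations at primes are regular local rings) which is essentially of finite type over R,
and suppose a finite group G acts on A through ring automorphisms that commute with the R-action. If
the order of G is a unit in A, then the ring of invariants A^G has rational singularities: its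
localization at every maximal ideal of height two defines a rational singularity (every proper
morphism onto the spectrum from an integral normal scheme which is an isomorphism over a nonempty
open has H^1 of the structure sheaf zero). (The published statement does not assume the ring of
invariants excellent; its argument passes through the finite extension A^G ⊆ A of two-dimensional
excellent normal domains of degree dividing the order of G, and this row carries the excellence of
A^G as a hypothesis.) -/
theorem result (R A : Type u) [CommRing R] [IsDomain R]
    [IsNoetherianRing R] [CommRing A] [IsDomain A] [IsNoetherianRing A] [Algebra R A] [Algebra.EssFiniteType R A]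
    (hAe : EGA4.IsExcellent A) (hA2 : ringKrullDim A = 2)
    (hreg : ∀ (p : Ideal A) [p.IsPrime], IsRegularLocalRing (Localization.AtPrime p))
    (G : Type u) [Group G] [Finite G] [MulSemiringAction G A] [SMulCommClass G R A]
    (hG : IsUnit ((Nat.card G : ℕ) : A))
    (hGe : EGA4.IsExcellent (FixedPoints.subring A G))
    (m : Ideal (FixedPoints.subring A G)) [m.IsMaximal] (hm : ringKrullDim (Localization.AtPrime m) = 2) :
    Curv2.IsRationalSing (Localization.AtPrime m) := by
  let B := FixedPoints.subring A G
  haveI : IsNoetherianRing B := hGe.1
  haveI : IsIntegrallyClosed A := IsIntegrallyClosed.of_localization_maximal fun p _ _ =>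
    haveI := hreg p
    CAlgH3.isIntegrallyClosed_of_regular (Localization.AtPrime p)
  haveI : IsIntegrallyClosed B := CommAlg4.InvRing.isIntegrallyClosed
  let L := FractionRing A
  letI : MulSemiringAction G L := IsFractionRing.mulSemiringAction G A L
  haveI : SMulDistribClass G A L := IsFractionRing.smulDistribClass G A L
  let F := FixedPoints.subfield G L
  have hsm : ∀ (g : G) (x : A), g • algebraMap A L x = algebraMap A L (g • x) :=
    fun g x => IsFractionRing.ringEquivOfRingEquiv_algebraMap _ x
  let ι : B →+* F := ((algebraMap A L).comp B.subtype).codRestrict F fun b g => by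
    show g • algebraMap A L (b : A) = algebraMap A L (b : A)
    rw [hsm, b.2 g]
  letI : Algebra B F := ι.toAlgebra
  haveI : IsScalarTower B F L := IsScalarTower.of_algebraMap_eq fun _ => rfl
  haveI : IsScalarTower B A L := IsScalarTower.of_algebraMap_eq fun _ => rfl
  have hinj : Function.Injective (algebraMap B A) := Subtype.val_injective
  haveI : FaithfulSMul B F := (faithfulSMul_iff_algebraMap_injective _ _).mpr fun a b h =>
    hinj (IsFractionRing.injective A L (congrArg Subtype.val h))
  haveI : IsFractionRing B F := by
    classical
    refine IsFractionRing.of_field B F fun z => ?_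
    obtain ⟨a, b, hb, hab⟩ := IsFractionRing.div_surjective A (z : L)
    letI : Fintype G := Fintype.ofFinite G
    let c : A := ∏ g : G, g • b
    have hc : c ∈ B := fun g => by
      show g • c = c
      rw [Finset.smul_prod']
      exact Fintype.prod_equiv (Equiv.mulLeft g) _ _ fun h => by simp [mul_smul]
    have hc0 : c ≠ 0 := Finset.prod_ne_zero_iff.2 fun g _ => (smul_ne_zero_iff_ne g).2 (nonZeroDivisors.ne_zero hb)
    obtain ⟨e, he⟩ : b ∣ c := by
      have : (1 : G) • b ∣ c := Finset.dvd_prod_of_mem (fun g : G => g • b) (Finset.mem_univ 1)
      rwa [one_smul] at this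
    have hz : (z : L) * algebraMap A L c = algebraMap A L (a * e) := by
      rw [← hab, he, map_mul, map_mul, ← mul_assoc,
        div_mul_cancel₀ _ ((map_ne_zero_iff _ (IsFractionRing.injective A L)).2 (nonZeroDivisors.ne_zero hb))]
    have hae : a * e ∈ B := fun g => IsFractionRing.injective A L (by
      rw [← hsm, ← hz, smul_mul', hsm, hc g, z.2 g])
    refine ⟨⟨a * e, hae⟩, ⟨c, hc⟩, Subtype.ext ?_⟩
    show (z : L) = algebraMap A L (a * e) / algebraMap A L c
    rw [← hz, mul_div_assoc, div_self ((map_ne_zero_iff _ (IsFractionRing.injective A L)).2 hc0), mul_one]
  haveI : Algebra.IsInvariant B A G := ⟨fun a ha => ⟨⟨a, ha⟩, rfl⟩⟩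
  haveI : Algebra.IsIntegral B A := Algebra.IsInvariant.isIntegral B A G
  haveI : IsIntegralClosure A B L := IsIntegralClosure.of_isIntegrallyClosed A B L
  haveI : Module.Finite B A := IsIntegralClosure.finite B F L A
  refine FiniteExtRat.isRationalSing_of_finite (A := B) (B := A)
    (S2654.result B ⟨hGe.1, hGe.2.2.1, hGe.2.2.2⟩) hA2.le hinj F L ?_ (fun n _ hn => ?_) m
  · obtain ⟨k, hk⟩ := finrank_dvd_card G L
    have h1 : IsUnit ((Module.finrank F L : ℕ) : A) := isUnit_of_mul_isUnit_left (y := (k : A)) (by
      rw [← Nat.cast_mul, ← hk]; exact hG)
    refine (CommAlg4.InvRing.isUnit_iff _).2 ?_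
    simpa using h1
  · haveI := hreg n
    exact CommAlg4.isRationalSing_of_regular (Localization.AtPrime n) hn

end Groth.Agent.S15142
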