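import Groth.Statements.S15145
import Groth.Agent.Models7.CohFlatNormal.Main
import Groth.Agent.Models7.ModelTrace
import Groth.Agent.Models7.CohFlatTorsion
-- import your own Groth.Agent.* helpers here

set_option autoImplicit false
set_option linter.style.haveILetI false
set_option backward.isDefEq.respectTransparency false
universe u
open CategoryTheory CategoryTheory.Limits AlgebraicGeometry Opposite
open Models

namespace Groth.Agent.S15145

/-- Let R be a discrete valuation ring whose fraction field K has characteristic zero, with residue
field k; let C be a proper K-curve, smooth of relative dimension 1 and geometrically connected, and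
let X be a model of C over R (flat and of finite type with generic fibre C) which is proper over R
and normal, with rational singularities: the local ring at every closed point defines a rational
singularity (every proper morphism onto its spectrum from an integral normal scheme which is an
isomorphism over a nonempty open has H^1 of the structure sheaf zero). If k has characteristic zero,
or if the structure morphism X → Spec R has a section, then X is cohomologically flat over R in
dimension 0: the restriction H^0(X, O_X) → H^0(X_s, O_{X_s}) to the closed fibre X_s, cut out by 𝔪_R
· O_X, is surjective; so X is admissible. (The published statement in residue characteristic p > 0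
allows, instead of a section, an étale quasi-section, i.e. a section over a strict henselization of
R, or that the components of the closed fibre have geometric multiplicities whose greatest common
divisor is prime to p; this row keeps the case of a section over R and the
residue-characteristic-zero case.) -/
theorem result (R : Type u) [CommRing R]
    [IsDomain R] [IsDiscreteValuationRing R] [CharZero (FractionRing R)]
    (X C : Scheme.{u}) [X.Over (Spec (CommRingCat.of R))]
    (f : C ⟶ Spec (CommRingCat.of (FractionRing R)))
    [SmoothOfRelativeDimension 1 f] [IsProper f] [GeometricallyConnected f]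
    (hX : Models.IsModel R X (X ↘ Spec (CommRingCat.of R)) C f)
    [IsProper (X ↘ Spec (CommRingCat.of R))] (hn : Pi1.IsNormalScheme X)
    (hrat : ∀ x : X, IsClosed ({x} : Set X) → Curv2.IsRationalSing (X.presheaf.stalk x))
    (h : CharZero (IsLocalRing.ResidueField R) ∨
      ∃ σ : Spec (CommRingCat.of R) ⟶ X, σ ≫ (X ↘ Spec (CommRingCat.of R)) = 𝟙 (Spec (CommRingCat.of R))) :
    Function.Surjective (Sheaf.H.map ((SheafOfModules.toSheaf X.ringCatSheaf).map
      (ClSub.toSubscheme (Models.specialFibreIdeal R (Over.mk (X ↘ Spec (CommRingCat.of R)))))) 0) := by
  let q := X ↘ Spec (CommRingCat.of R)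
  obtain ⟨hflat, -, -, g, H⟩ := hX
  haveI := hflat
  haveI : Smooth f := SmoothOfRelativeDimension.smooth 1 f
  haveI : IsProper (Over.mk q).hom := inferInstanceAs (IsProper q)
  haveI : Flat (Over.mk q).hom := hflat
  haveI : Nonempty C := (GeometricallyConnected.connectedSpace_of_subsingleton f).toNonempty
  haveI : Nonempty (Over.mk q).left := ⟨g (Classical.arbitrary C)⟩
  have hG := Groth.Agent.Models7.bijective_baseHom R H
  have hs := Groth.Agent.Models7.CohFlatNormal.surjective_appTop_specialFibre R (X := Over.mk q) hn hG h
  let φ := Groth.Agent.Coherent.baseHom R X
  let I := Models.specialFibreIdeal R (Over.mk q)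
  intro y
  let e := Groth.Agent.EulerLib.HHBaseEquiv R (ClSub.quotMod (X := X) I) 0
  let S := Groth.Agent.Coherent.secA φ (ClSub.quotMod (X := X) I)
  obtain ⟨a, ha⟩ := hs (S (e y))
  refine ⟨(Groth.Agent.EulerLib.HHBaseEquiv R (Coh.structureModule X) 0).symm
    ((Groth.Agent.Coherent.secA φ (Coh.structureModule X)).symm a), e.injective (S.injective ?_)⟩
  let c := (Groth.Agent.Coherent.secA φ (Coh.structureModule X)).symm a
  refine (congrArg S (Groth.Agent.Models7.hhBaseEquiv_natural_ring (X := X) (ClSub.toSubscheme I) 0 _)).trans ?_
  refine (congrArg (fun z => S (Groth.Agent.Coherent.postA φ (ClSub.toSubscheme (X := X) I) ⊤ 0 z))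
    ((Groth.Agent.EulerLib.HHBaseEquiv R (Coh.structureModule X) 0).apply_symm_apply c)).trans ?_
  refine (Groth.Agent.Coherent.secA_natural φ (ClSub.toSubscheme (X := X) I) c).trans ?_
  refine (congrArg (Groth.Agent.Coherent.mapGA φ (ClSub.toSubscheme (X := X) I))
    ((Groth.Agent.Coherent.secA φ (Coh.structureModule X)).apply_symm_apply a)).trans ?_
  exact ha

end Groth.Agent.S15145
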