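import Groth.Statements.S1515
import Groth.Agent.FlatMorPerfect.Smooth
import Groth.Agent.CAlgH.DiagonalSmooth
import Mathlib.AlgebraicGeometry.Morphisms.Separated

set_option autoImplicit false
universe u
attribute [local instance] HasDerivedCategory.standard
open FlatMor

namespace Groth.Agent.S1515

open AlgebraicGeometry CategoryTheory Limits in
/-- (1) ⇔ (2) ⇔ (4): let f : X → Y be separated and of finite type between locally Noetherian schemes,
with diagonal Δ (a closed immersion). Then f is smooth iff f is flat and Δ is a regular closed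
immersion, iff f is flat and Δ is a perfect morphism. -/
theorem result {X Y : Scheme.{u}} (f : X ⟶ Y) [IsSeparated f] [LocallyOfFiniteType f] [QuasiCompact f] [IsLocallyNoetherian X] [IsLocallyNoetherian Y] :
    (Smooth f ↔ Flat f ∧ Mor2.IsRegularClosedImmersion (pullback.diagonal f)) ∧
    (Smooth f ↔ Flat f ∧ MoreMor.IsPerfectMor (pullback.diagonal f)) := by
  have fwd : Smooth f → Flat f ∧ Mor2.IsRegularClosedImmersion (pullback.diagonal f) := fun hf =>
    ⟨inferInstance, Groth.Agent.S1676.result (pullback.fst f f) (pullback.diagonal f) (pullback.diagonal_fst f)⟩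
  have bwd : Flat f → MoreMor.IsPerfectMor (pullback.diagonal f) → Smooth f := by
    intro hflat hperf
    haveI : LocallyOfFinitePresentation f := inferInstance
    rw [HasRingHomProperty.iff_appLE (P := @Smooth)]
    intro V U e
    let p := V.2.fromSpec
    let q := U.2.fromSpec
    let φ := f.appLE V.1 U.1 e
    have w : Spec.map φ ≫ p = q ≫ f := V.2.SpecMap_appLE_fromSpec f U.2 e
    letI := φ.hom.toAlgebra
    haveI : Algebra.FinitePresentation Γ(Y, V.1) Γ(X, U.1) :=
      HasRingHomProperty.appLE @LocallyOfFinitePresentation f inferInstance V U e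
    haveI : Module.Flat Γ(Y, V.1) Γ(X, U.1) := HasRingHomProperty.appLE @Flat f hflat V U e
    let R : Type u := Γ(Y, V.1)
    let A : Type u := Γ(X, U.1)
    let φ' : CommRingCat.of R ⟶ CommRingCat.of A := CommRingCat.ofHom (algebraMap R A)
    have w' : Spec.map φ' ≫ p = q ≫ f := w
    let m := (pullbackSpecIso R A A).inv ≫
      pullback.map (Spec.map φ') (Spec.map φ') f f q q p w' w'
    let mul : TensorProduct R A A →+* A := (Algebra.TensorProduct.lmul' R (S := A)).toRingHom
    have hm : Spec.map (CommRingCat.ofHom mul) ≫ m = q ≫ pullback.diagonal f := by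
      apply pullback.hom_ext
      · simp only [Category.assoc, pullback.diagonal_fst, Category.comp_id, m, pullback.lift_fst]
        rw [pullbackSpecIso_inv_fst_assoc, ← Spec.map_comp_assoc]
        have : CommRingCat.ofHom Algebra.TensorProduct.includeLeftRingHom ≫ CommRingCat.ofHom mul =
            𝟙 (CommRingCat.of A) := by
          ext a
          show mul (a ⊗ₜ[R] (1 : A)) = a
          simp [mul]
        rw [this, Spec.map_id]; exact Category.id_comp _
      · simp only [Category.assoc, pullback.diagonal_snd, Category.comp_id, m, pullback.lift_snd]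
        rw [pullbackSpecIso_inv_snd_assoc, ← Spec.map_comp_assoc]
        have : CommRingCat.ofHom ((Algebra.TensorProduct.includeRight (R := R) (A := A) (B := A)) : A →+* TensorProduct R A A) ≫
            CommRingCat.ofHom mul = 𝟙 (CommRingCat.of A) := by
          ext a
          show mul ((1 : A) ⊗ₜ[R] a) = a
          simp [mul]
        rw [this, Spec.map_id]; exact Category.id_comp _
    haveI : IsOpenImmersion p := V.2.isOpenImmersion_fromSpec
    haveI : IsOpenImmersion q := U.2.isOpenImmersion_fromSpec
    haveI : IsOpenImmersion m := by dsimp only [m]; infer_instance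
    haveI : Smooth m := inferInstance
    have h1 : MoreMor.IsPerfectMor (Spec.map (CommRingCat.ofHom mul)) := by
      refine Groth.Agent.FlatMorPerfect.perfectMor_of_comp_smooth _ m ?_
      rw [hm]
      exact Groth.Agent.FlatMorPerfect.perfectMor_comp _ _ (Groth.Agent.FlatMorPerfect.perfectMor_of_flat q) hperf
    have h2 : Groth.Agent.FlatMorPerfect.RingPerf mul :=
      (HasRingHomProperty.Spec_iff (P := @MoreMor.IsPerfectMor)).1 h1
    letI := mul.toAlgebra
    have h3 : DRing.HasFiniteTorDim (TensorProduct R A A) A := h2.2
    exact Groth.Agent.CAlgH.DiagonalSmooth.smooth_of_diagonal R A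
      (fun x y => by simp [RingHom.algebraMap_toAlgebra, mul]) h3
  refine ⟨⟨fwd, fun h => bwd h.1 (Groth.Agent.FlatMorPerfect.perfectMor_of_regularClosedImmersion _ h.2)⟩,
    ⟨fun h => ⟨(fwd h).1, Groth.Agent.FlatMorPerfect.perfectMor_of_regularClosedImmersion _ (fwd h).2⟩,
      fun h => bwd h.1 h.2⟩⟩

end Groth.Agent.S1515
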