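import Groth.Statements.S15150
import Groth.Agent.HZLib29.NilPow

set_option autoImplicit false
universe u
open HilbZeta

namespace Groth.Agent.S15150

/-- Let A be a reduced commutative ring, S an A-algebra together with an A-algebra homomorphism π : S →
A (a section of Spec S → Spec A), with kernel m, and I an ideal of S such that S/I is a finite
projective A-module of constant rank d and m is contained in the radical of I (the finite flat
subscheme Spec S/I of degree d lies, as a set, on the section). Then m^d ⊆ I: the subscheme lies in
the (d−1)-st infinitesimal neighbourhood of the section. (The published statement is for a closed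
subscheme, flat and proper of degree d over a Noetherian base, of a family of reduced curve
singularities with a section, with no reducedness assumption on the base; over the dual numbers k[ε]
the ideal (x − ε) of k[ε][x] has quotient free of rank one and radical containing x but does not
contain x, so the base is taken reduced here, and the statement is given in its affine form, to
which the argument reduces at once; the curve hypotheses play no role and are dropped; the condition
that Spec S/I lies set-theoretically on the section, which the published argument deduces from
properness of Z inside the germ, is a hypothesis here.) -/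
theorem result (A : Type u) [CommRing A] [IsReduced A]
    (S : Type u) [CommRing S] [Algebra A S] (π : S →ₐ[A] A) (I : Ideal S) (d : ℕ)
    [Module.Finite A (S ⧸ I)] [Module.Projective A (S ⧸ I)]
    (hrank : ∀ p : PrimeSpectrum A, Module.rankAtStalk (R := A) (S ⧸ I) p = d)
    (hsupp : RingHom.ker π ≤ I.radical) :
    RingHom.ker π ^ d ≤ I := by
  have hn := Groth.Agent.HZLib29.nilradical_pow_eq_bot_of_rank A (S ⧸ I) d hrank
  rw [← Ideal.mk_ker (I := I), ← Ideal.map_eq_bot_iff_le_ker, Ideal.map_pow, eq_bot_iff, ← hn]
  refine Ideal.pow_right_mono (Ideal.map_le_iff_le_comap.2 fun x hx => ?_) d
  rw [Ideal.mem_comap, mem_nilradical]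
  obtain ⟨n, hn⟩ := hsupp hx
  exact ⟨n, by rw [← map_pow]; exact Ideal.Quotient.eq_zero_iff_mem.2 hn⟩

end Groth.Agent.S15150
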