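import Groth.Statements.S15151
import Mathlib.AlgebraicGeometry.Morphisms.SchemeTheoreticallyDominant
import Mathlib.RingTheory.Flat.TorsionFree


set_option autoImplicit false
universe u
open CategoryTheory AlgebraicGeometry
open HilbZeta

namespace Groth.Agent.S15151

/-- Let k be a field, and let f : X → Y and g : Y → Spec k[t] be morphisms of schemes with f
quasi-compact and with zero kernel ideal sheaf (Y is the scheme-theoretic image of f), such that the
composite X → Spec k[t] is flat. Then g is flat; in particular a k[t]-subalgebra of a flat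
k[t]-algebra is flat. (The published statement has no quasi-compactness hypothesis on f and is over
an algebraically closed field; this row assumes f quasi-compact and allows any field.) -/
theorem result (k : Type u) [Field k]
    (X Y : Scheme.{u}) (f : X ⟶ Y) (g : Y ⟶ Spec (CommRingCat.of (Polynomial k)))
    [QuasiCompact f] (hker : f.ker = ⊥) [Flat (f ≫ g)] : Flat g := by
  haveI : IsSchemeTheoreticallyDominant f := (isSchemeTheoreticallyDominant_iff f).2 hker
  let S := Spec (CommRingCat.of (Polynomial k))
  have key : ∀ (U : Y.Opens) (q : Γ(S, ⊤)) (r : Γ(Y, U)), IsRegular q → g.appLE ⊤ U le_top q * r = 0 → r = 0 := by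
    intro U q r hq hr
    refine Scheme.Hom.app_injective f U ?_
    rw [map_zero]
    refine X.IsSheaf.section_ext fun x hx ↦ ?_
    obtain ⟨_, ⟨W, hW, rfl⟩, hxW, hWU : W ≤ f ⁻¹ᵁ U⟩ :=
      X.isBasis_affineOpens.exists_subset_of_mem_open hx (f ⁻¹ᵁ U).isOpen
    refine ⟨W, hWU, hxW, ?_⟩
    rw [map_zero]
    show (f.appLE U W hWU) r = 0
    have hflat := (f ≫ g).flat_appLE (isAffineOpen_top S) hW le_top
    have he : (f ≫ g).appLE ⊤ W le_top q = f.appLE U W hWU (g.appLE ⊤ U le_top q) := by
      rw [← Scheme.Hom.appLE_comp_appLE f g ⊤ U W le_top hWU]; rfl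
    algebraize [((f ≫ g).appLE ⊤ W le_top).hom]
    have hreg := Module.Flat.isSMulRegular_of_isRegular (M := Γ(X, W)) hq
    apply hreg
    show q • _ = q • _
    rw [smul_zero, Algebra.smul_def, RingHom.algebraMap_toAlgebra]
    erw [he]
    rw [← map_mul, hr, map_zero]
  refine HasRingHomProperty.of_source_openCover (P := @Flat) Y.affineCover fun i => ?_
  rw [← RingHom.Flat.respectsIso.cancel_left_isIso (Scheme.ΓSpecIso (CommRingCat.of (Polynomial k))).inv,
    ← CommRingCat.hom_comp]
  set j := Y.affineCover.f i
  set M := Γ(Y.affineCover.X i, ⊤)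
  set ψ := ((Scheme.ΓSpecIso (CommRingCat.of (Polynomial k))).inv ≫ (j ≫ g).appTop).hom with hψ
  algebraize [ψ]
  haveI : Module.IsTorsionFree (Polynomial k) M := by
    refine ⟨fun p hp => ?_⟩
    intro a b hab
    dsimp only at hab
    rw [← sub_eq_zero, ← smul_sub, Algebra.smul_def, RingHom.algebraMap_toAlgebra, hψ] at hab
    rw [← sub_eq_zero]
    generalize a - b = r at hab ⊢
    obtain ⟨r, rfl⟩ := (j.appIso ⊤).commRingCatIsoToRingEquiv.surjective r
    change (j.appIso ⊤).hom r = 0
    suffices r = 0 by rw [this, map_zero]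
    refine key _ ((Scheme.ΓSpecIso (CommRingCat.of (Polynomial k))).inv p) r
      (IsRegular.of_ne_zero ?_ |> id) ((j.appIso ⊤).commRingCatIsoToRingEquiv.injective ?_)
    · exact fun h => hp.ne_zero ((Scheme.ΓSpecIso (CommRingCat.of (Polynomial k))).symm.commRingCatIsoToRingEquiv.injective (h.trans (map_zero _).symm))
    · rw [map_mul, map_zero]
      convert hab using 2
      show (g.appLE ⊤ _ le_top ≫ (j.appIso ⊤).hom) _ = (j ≫ g).appTop _
      rw [Scheme.Hom.appIso_hom', Scheme.Hom.appLE_comp_appLE, Scheme.Hom.appTop, Scheme.Hom.app_eq_appLE]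
      rfl
  show Module.Flat (Polynomial k) M
  infer_instance

end Groth.Agent.S15151
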