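import Groth.Statements.S15152
import Groth.Agent.HZLib29.Branch
import Mathlib.RingTheory.Adjoin.Tower
import Mathlib.RingTheory.IntegralClosure.IsIntegralClosure.Basic
import Mathlib.RingTheory.FiniteType
import Mathlib.RingTheory.PowerSeries.Trunc
import Mathlib.Tactic.ComputeDegree

set_option autoImplicit false
universe u
open HilbZeta

namespace Groth.Agent.S15152

/-- Let k be a field, s a natural number and R a k-subalgebra of the product of s copies of the power
series ring k[[x]], of finite codimension δ over k and local with residue field k (all components of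
an element of R have the same constant term); write v_i for the x-adic order of the i-th component
of an s-tuple, and let c = (c_1, …, c_s) be the conductor exponents, so that an s-tuple f satisfies
f·g ∈ R for every s-tuple g exactly when v_i(f) ≥ c_i for all i (over an algebraically closed field
such an R is precisely the completed local ring of a reduced curve singularity having s branches
sitting inside its normalisation, δ is its delta invariant and the conductor ideal is generated by
the x_i^{c_i}). Let A be the k-subalgebra of the product of s polynomial rings k[x] consisting of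
the tuples whose image in the power series product lies in R, and m₀ its ideal of tuples with zero
constant terms. Then: A is of finite type over k and has no idempotents besides 0 and 1; the product
of polynomial rings is a finite A-module, and for some N every product of N elements of m₀
multiplies all of it into A; every element of R is approximated to any x-adic order by elements of
A; and for every N there is an M such that every element of A whose components are all divisible by
x^M lies in m₀^N. In words: Y = Spec A is a connected affine curve whose normalisation is the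
disjoint union of s affine lines and is an isomorphism away from the origin, and the completed local
ring of Y at the origin is R, compatibly with the inclusion of the polynomial product in the power
series product. (The published statement asserts the existence of such a curve Y and is over an
algebraically closed field; this row names Y and allows any field.) -/
theorem result (k : Type u) [Field k] (s : ℕ)
    (R : Subalgebra k (Fin s → PowerSeries k))
    (hfin : Module.Finite k ((Fin s → PowerSeries k) ⧸ Subalgebra.toSubmodule R))
    (hloc : ∀ f ∈ R, ∀ i j : Fin s, PowerSeries.constantCoeff (f i) = PowerSeries.constantCoeff (f j))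
    (c : Fin s → ℕ)
    (hc : ∀ f : Fin s → PowerSeries k,
      (∀ g : Fin s → PowerSeries k, g * f ∈ R) ↔ ∀ i, ((c i : ℕ) : ℕ∞) ≤ (f i).order)
    (A : Subalgebra k (Fin s → Polynomial k))
    (hA : ∀ g : Fin s → Polynomial k, g ∈ A ↔ (fun i => ((g i : Polynomial k) : PowerSeries k)) ∈ R) :
    Algebra.FiniteType k ↥A ∧
    (∀ e ∈ A, e * e = e → e = 0 ∨ e = 1) ∧
    Module.Finite ↥A (Fin s → Polynomial k) ∧
    (∃ N : ℕ, ∀ g : Fin N → (Fin s → Polynomial k),
      (∀ n, g n ∈ A ∧ ∀ i, (g n i).coeff 0 = 0) → ∀ p : Fin s → Polynomial k, p * ∏ n, g n ∈ A) ∧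
    (∀ f ∈ R, ∀ N : ℕ, ∃ g ∈ A, ∀ i : Fin s, (N : ℕ∞) ≤ (f i - ((g i : Polynomial k) : PowerSeries k)).order) ∧
    (∀ N : ℕ, ∃ M : ℕ, ∀ g : ↥A, (∀ i : Fin s, Polynomial.X ^ M ∣ (g : Fin s → Polynomial k) i) →
      g ∈ (Ideal.span {h : ↥A | ∀ i : Fin s, ((h : Fin s → Polynomial k) i).coeff 0 = 0}) ^ N) := by
  classical
  set C := ∑ i, c i + 1 with hC
  have hci : ∀ i, c i ≤ C := fun i => (Finset.single_le_sum (fun _ _ => Nat.zero_le _) (Finset.mem_univ i)).trans (Nat.le_succ _)
  have hmem : ∀ p : Fin s → Polynomial k, (∀ i, Polynomial.X ^ C ∣ p i) → p ∈ A := by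
    intro p hp
    rw [hA]
    refine (Groth.Agent.HZLib29.mem_of_le_order R c hc) fun i => ?_
    rw [Groth.Agent.HZLib29.le_order_iff_dvd]
    have := map_dvd (Polynomial.coeToPowerSeries.ringHom (R := k)) (hp i)
    simp only [Polynomial.coeToPowerSeries.ringHom_apply, Polynomial.coe_pow, Polynomial.coe_X] at this
    exact (pow_dvd_pow _ (hci i)).trans this
  have hu : (fun _ => Polynomial.X ^ C : Fin s → Polynomial k) ∈ A := hmem _ fun _ => dvd_rfl
  have hint : ∀ p : Fin s → Polynomial k, IsIntegral ↥A p := by
    intro p
    have hA' : ∀ q ∈ A, IsIntegral ↥A q := fun q hq => by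
      exact (isIntegral_algebraMap (R := ↥A) (x := ⟨q, hq⟩))
    have he : ∀ i, IsIntegral ↥A (Pi.single i 1 : Fin s → Polynomial k) := by
      intro i
      refine ⟨Polynomial.X ^ 2 - Polynomial.X, by monicity!, ?_⟩
      simp [← Pi.single_mul, sq]
    have hx : ∀ i, IsIntegral ↥A (Pi.single i Polynomial.X : Fin s → Polynomial k) := by
      intro i
      refine IsIntegral.of_pow (n := C) (Nat.succ_pos _) (hA' _ (hmem _ fun l => ?_))
      rw [Pi.pow_apply]
      rcases eq_or_ne l i with rfl | hne
      · rw [Pi.single_eq_same]
      · rw [Pi.single_eq_of_ne hne, zero_pow (Nat.succ_ne_zero _)]; exact dvd_zero _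
    have hsingle : ∀ i q, IsIntegral ↥A (Pi.single i q : Fin s → Polynomial k) := by
      intro i q
      induction q using Polynomial.induction_on with
      | C a =>
        have : (Pi.single i (Polynomial.C a) : Fin s → Polynomial k) = algebraMap k _ a * Pi.single i 1 := by
          funext l
          rcases eq_or_ne l i with rfl | hne
          · simp
          · simp [Pi.single_eq_of_ne hne]
        rw [this]
        exact (hA' _ (A.algebraMap_mem a)).mul (he i)
      | add a b ha hb => rw [Pi.single_add]; exact ha.add hb
      | monomial n a ih =>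
        rw [pow_succ, ← mul_assoc, Pi.single_mul]
        exact ih.mul (hx i)
    rw [← Finset.univ_sum_single p]
    exact IsIntegral.sum _ fun i _ => hsingle i (p i)
  have hfg : Algebra.FiniteType k (Fin s → Polynomial k) := by
    refine ⟨⟨(Finset.univ.image fun i : Fin s => (Pi.single i Polynomial.X : Fin s → Polynomial k)) ∪
      (Finset.univ.image fun i : Fin s => (Pi.single i 1 : Fin s → Polynomial k)), ?_⟩⟩
    rw [eq_top_iff]
    rintro p -
    rw [← Finset.univ_sum_single p]
    refine sum_mem fun i _ => ?_
    induction p i using Polynomial.induction_on with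
    | C a =>
      have : (Pi.single i (Polynomial.C a) : Fin s → Polynomial k) = algebraMap k _ a * Pi.single i 1 := by
        funext l
        rcases eq_or_ne l i with rfl | hne
        · simp
        · simp [Pi.single_eq_of_ne hne]
      rw [this]
      exact mul_mem (Subalgebra.algebraMap_mem _ a) (Algebra.subset_adjoin (by simp))
    | add a b ha hb => rw [Pi.single_add]; exact add_mem ha hb
    | monomial n a ih =>
      rw [pow_succ, ← mul_assoc, Pi.single_mul]
      exact mul_mem ih (Algebra.subset_adjoin (by simp))
  haveI : Algebra.IsIntegral ↥A (Fin s → Polynomial k) := ⟨hint⟩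
  haveI : Algebra.FiniteType ↥A (Fin s → Polynomial k) := Algebra.FiniteType.of_restrictScalars_finiteType k ↥A _
  have hfin' : Module.Finite ↥A (Fin s → Polynomial k) := Algebra.IsIntegral.finite
  refine ⟨⟨fg_of_fg_of_fg k ↥A (Fin s → Polynomial k) hfg.out hfin'.fg_top Subtype.val_injective⟩, ?_, hfin',
    ⟨C, ?_⟩, ?_, fun N => ⟨C * (N + 1), ?_⟩⟩
  · intro e he hee
    have h01 : ∀ i, e i = 0 ∨ e i = 1 := fun i =>
      (IsIdempotentElem.iff_eq_zero_or_one).1 (congrFun hee i)
    have hsame : ∀ i j, e i = e j := by
      intro i j
      have := hloc _ ((hA e).1 he) i j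
      simp only [Polynomial.constantCoeff_coe] at this
      rcases h01 i with h | h <;> rcases h01 j with h' | h' <;> simp [h, h'] at this ⊢
    by_cases h0 : e = 0
    · exact Or.inl h0
    · obtain ⟨i, hi⟩ := Function.ne_iff.1 h0
      exact Or.inr (funext fun j => (hsame j i).trans ((h01 i).resolve_left hi))
  · intro g hg p
    refine hmem _ fun i => ?_
    rw [Pi.mul_apply, Finset.prod_apply]
    refine dvd_mul_of_dvd_right ?_ _
    have := Finset.prod_dvd_prod_of_dvd (fun _ : Fin C => (Polynomial.X : Polynomial k)) (fun n => g n i)
      (s := Finset.univ) fun n _ => Polynomial.X_dvd_iff.2 ((hg n).2 i)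
    simpa using this
  · intro f hf N
    set M := max N C with hM
    have hd : ∀ i, PowerSeries.X ^ M ∣ f i - ((PowerSeries.trunc M (f i) : Polynomial k) : PowerSeries k) := by
      intro i
      rw [PowerSeries.X_pow_dvd_iff]
      intro m hm
      simp [PowerSeries.coeff_trunc, hm]
    refine ⟨fun i => PowerSeries.trunc M (f i), ?_, fun i =>
      Groth.Agent.HZLib29.le_order_iff_dvd.2 ((pow_dvd_pow _ (le_max_left N C)).trans (hd i))⟩
    rw [hA]
    have := sub_mem hf (show f - (fun i => ((PowerSeries.trunc M (f i) : Polynomial k) : PowerSeries k)) ∈ R from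
      Groth.Agent.HZLib29.mem_of_le_order R c hc fun i => Groth.Agent.HZLib29.le_order_iff_dvd.2 ((pow_dvd_pow _ ((hci i).trans (le_max_right N C))).trans (hd i)))
    simpa using this
  · intro g hg
    choose q hq using hg
    have hq' : (fun i => Polynomial.X ^ C * q i : Fin s → Polynomial k) ∈ A := hmem _ fun i => dvd_mul_right _ _
    have e : g = (⟨_, hu⟩ : ↥A) ^ N * ⟨_, hq'⟩ := by
      apply Subtype.ext
      funext i
      simp only [Subalgebra.coe_mul, Subalgebra.coe_pow, Pi.mul_apply, Pi.pow_apply, hq i]
      rw [← pow_mul, ← mul_assoc, ← pow_add, ← Nat.mul_succ]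
    rw [e]
    refine Ideal.mul_mem_right _ _ (Ideal.pow_mem_pow (Ideal.subset_span ?_) N)
    intro i
    simp [Polynomial.coeff_X_pow, hC]

end Groth.Agent.S15152
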