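import Groth.Statements.S15153
import Groth.Agent.HZLib29.RankLocus
import Mathlib.RingTheory.Flat.EquationalCriterion

set_option autoImplicit false
universe u
open TensorProduct
open HilbZeta

namespace Groth.Agent.S15153

/-- Let A be a Noetherian commutative ring, S a commutative A-algebra and Q an S-module which is finite
and flat as an A-module. For a prime p of A with residue field κ(p), multiplication by an element of
S induces a κ(p)-linear endomorphism of the fibre κ(p) ⊗_A Q; let φ(p) be the κ(p)-dimension of the
span of these endomorphisms, which is the colength of the annihilator of the fibre module κ(p) ⊗_A Q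
in the fibre algebra κ(p) ⊗_A S (the length of the smallest subscheme of the fibre carrying it).
Then p ↦ φ(p) is a constructible function: for every n the primes with φ(p) = n form a constructible
subset of Spec A. (The published statement is for a coherent sheaf, flat and finite over a
Noetherian base, on a family of reduced curve singularities with a section, and its function of the
base point is this colength; the curve hypotheses play no role and the row is the affine form over
any Noetherian ring.) -/
theorem result (A : Type u) [CommRing A] [IsNoetherianRing A]
    (S : Type u) [CommRing S] [Algebra A S]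
    (Q : Type u) [AddCommGroup Q] [Module A Q] [Module S Q] [IsScalarTower A S Q]
    [Module.Finite A Q] [Module.Flat A Q] (n : ℕ) :
    Topology.IsConstructible {p : PrimeSpectrum A |
      Module.finrank p.asIdeal.ResidueField
        (Submodule.span p.asIdeal.ResidueField
          (Set.range fun s : S =>
            LinearMap.baseChange p.asIdeal.ResidueField (DistribSMul.toLinearMap A Q s))) = n} := by
  classical
  haveI : Module.FinitePresentation A Q := Module.finitePresentation_of_finite A Q
  haveI : Module.Projective A Q := Module.Flat.projective_of_finitePresentation
  obtain ⟨N, pr, hpr⟩ := Module.Finite.exists_fin' A Q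
  obtain ⟨inc, hinc⟩ := Module.projective_lifting_property pr LinearMap.id hpr
  let I := ULift.{u} (Fin N × Fin N)
  let v : S → (I → A) := fun s a => inc (s • pr (Pi.single a.down.2 1)) a.down.1
  set C := (I → A) ⧸ Submodule.span A (Set.range v)
  haveI : Module.Finite A C := Module.Finite.quotient A _
  have key : ∀ p : PrimeSpectrum A,
      Module.finrank p.asIdeal.ResidueField
        (Submodule.span p.asIdeal.ResidueField
          (Set.range fun s : S =>
            LinearMap.baseChange p.asIdeal.ResidueField (DistribSMul.toLinearMap A Q s))) +
        Module.finrank p.asIdeal.ResidueField (p.asIdeal.ResidueField ⊗[A] C) = Fintype.card I := by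
    intro p
    let K := p.asIdeal.ResidueField
    let e := TensorProduct.piScalarRight A K K (Fin N)
    let iK := inc.baseChange K
    let pK := pr.baseChange K
    have hip : pK.comp iK = LinearMap.id := by
      rw [← LinearMap.baseChange_comp, hinc, LinearMap.baseChange_id]
    have hp : ∀ z, pK (iK z) = z := fun z => LinearMap.congr_fun hip z
    let Ψ : Module.End K (K ⊗[A] Q) →ₗ[K] (I → K) :=
      LinearMap.pi fun a => ((LinearMap.proj a.down.1).comp (e.toLinearMap.comp iK)).comp
        (LinearMap.applyₗ (pK ((1 : K) ⊗ₜ[A] (Pi.single a.down.2 (1 : A)))))
    have hΨ : Function.Injective Ψ := by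
      rw [injective_iff_map_eq_zero]
      intro g hg
      have h0 : iK.comp (g.comp pK) = 0 := by
        refine LinearMap.ext_on_range (v := fun j : Fin N => (1 : K) ⊗ₜ[A] (Pi.single j (1 : A) : Fin N → A)) ?_ fun j => ?_
        · have := Groth.Agent.HZLib29.span_one_tmul (A := A) K (Fin N → A) (Set.range fun j => (Pi.single j (1 : A) : Fin N → A))
            (by
              refine eq_top_iff.2 fun x _ => ?_
              rw [← Finset.univ_sum_single x]
              refine sum_mem fun i _ => ?_
              rw [show (Pi.single i (x i) : Fin N → A) = x i • Pi.single i 1 by rw [← Pi.single_smul, smul_eq_mul, mul_one]]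
              exact Submodule.smul_mem _ _ (Submodule.subset_span ⟨i, rfl⟩))
          rwa [← Set.range_comp] at this
        · refine e.injective (funext fun i => ?_)
          simpa [Ψ] using congrFun hg ⟨(i, j)⟩
      ext z
      have h1 := LinearMap.congr_fun h0 (iK ((1 : K) ⊗ₜ[A] z))
      simp only [LinearMap.comp_apply, hp, LinearMap.zero_apply] at h1
      have h2 := congrArg pK h1
      simp only [hp, map_zero] at h2
      simpa using h2
    rw [(Submodule.equivMapOfInjective Ψ hΨ _).finrank_eq, Submodule.map_span, ← Set.range_comp,
      ← Groth.Agent.HZLib29.finrank_span_add_finrank_fibre_quot (A := A) K (Set.range v), ← Set.range_comp]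
    rw [show ((Ψ : _ → (I → K)) ∘ fun s : S => LinearMap.baseChange K (DistribSMul.toLinearMap A Q s)) =
        ((fun w : I → A => (algebraMap A K) ∘ w) ∘ v) by
      funext s
      funext a
      simp [Ψ, v, e, iK, pK, Algebra.smul_def]]
  by_cases hn : n ≤ Fintype.card I
  · haveI hCfin : Module.Finite A ((I → A) ⧸ Submodule.span A (Set.range v)) := Module.Finite.quotient A _
    have hcons := Groth.Agent.HZLib29.isConstructible_setOf_finrank_fibre_eq (A := A) ((I → A) ⧸ Submodule.span A (Set.range v)) (Fintype.card I - n)
    convert hcons using 1
    ext p
    have := key p
    simp only [C] at this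
    simp only [Set.mem_setOf_eq]
    omega
  · convert Topology.IsConstructible.empty
    ext p
    have := key p
    simp only [Set.mem_setOf_eq, Set.mem_empty_iff_false, iff_false]
    omega

end Groth.Agent.S15153
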