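import Groth.Statements.S15155
import Mathlib
import Groth.Prelude

set_option linter.all false

set_option autoImplicit false
open CAlg

open Matrix

namespace Groth.Agent.S15155

theorem isSquare_det_skew {F : Type*} [Field F] : ∀ (n : ℕ) {ι : Type} [Fintype ι] [DecidableEq ι],
    Fintype.card ι = n → ∀ (M : Matrix ι ι F), Mᵀ = -M → (∀ i, M i i = 0) → IsSquare M.det := by
  intro n
  induction n using Nat.strong_induction_on with
  | _ n ih =>
    intro ι _ _ hn M hM hd
    by_cases h0 : M = 0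
    · subst h0
      rcases isEmpty_or_nonempty ι with h | h
      · exact ⟨1, by simp⟩
      · exact ⟨0, by simp⟩
    obtain ⟨i, j, hij⟩ : ∃ i j, M i j ≠ 0 := by
      by_contra hcon
      push Not at hcon
      exact h0 (Matrix.ext hcon)
    have hne : i ≠ j := fun h => hij (h ▸ hd i)
    have hT : ∀ a b, M b a = -M a b := fun a b => congrFun (congrFun hM a) b
    let p : ι → Prop := fun x => x = i ∨ x = j
    let e : {x // p x} ⊕ {x // ¬ p x} ≃ ι := Equiv.sumCompl p
    let N := M.submatrix e e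
    have hdet : N.det = M.det := Matrix.det_submatrix_equiv_self e M
    have hsk : ∀ a b, N b a = -N a b := fun a b => hT _ _
    let e2 : Fin 2 ≃ {x // p x} := Equiv.ofBijective ![⟨i, Or.inl rfl⟩, ⟨j, Or.inr rfl⟩] (by
      constructor
      · intro a b; fin_cases a <;> fin_cases b <;> simp [hne, hne.symm]
      · rintro ⟨x, rfl | rfl⟩
        · exact ⟨0, rfl⟩
        · exact ⟨1, rfl⟩)
    have h11 : N.toBlocks₁₁.det = M i j * M i j := by
      rw [← Matrix.det_submatrix_equiv_self e2, Matrix.det_fin_two]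
      show M i i * M j j - M i j * M j i = _
      rw [hd i, hd j, hT i j]; ring
    have hu : IsUnit N.toBlocks₁₁.det := by rw [h11]; exact (isUnit_iff_ne_zero.2 (mul_ne_zero hij hij))
    haveI := N.toBlocks₁₁.invertibleOfIsUnitDet hu
    have key : N.det = N.toBlocks₁₁.det * (N.toBlocks₂₂ - N.toBlocks₂₁ * ⅟N.toBlocks₁₁ * N.toBlocks₁₂).det := by
      rw [← Matrix.det_fromBlocks₁₁, Matrix.fromBlocks_toBlocks]
    have b11 : N.toBlocks₁₁ᵀ = -N.toBlocks₁₁ := Matrix.ext fun a b => hsk _ _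
    have b12 : N.toBlocks₁₂ᵀ = -N.toBlocks₂₁ := Matrix.ext fun a b => hsk _ _
    have b21 : N.toBlocks₂₁ᵀ = -N.toBlocks₁₂ := Matrix.ext fun a b => hsk _ _
    let B := (⅟N.toBlocks₁₁ : Matrix {x // p x} {x // p x} F)
    have hB : Bᵀ = -B := by
      show (⅟N.toBlocks₁₁)ᵀ = _
      rw [Matrix.invOf_eq_nonsing_inv, Matrix.transpose_nonsing_inv, b11]
      show (-N.toBlocks₁₁)⁻¹ = -(⅟N.toBlocks₁₁)
      rw [Matrix.invOf_eq_nonsing_inv]
      exact Matrix.inv_eq_right_inv (by rw [neg_mul_neg, Matrix.mul_nonsing_inv _ hu])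
    have hB0 : ∀ a, B a a = 0 := fun a => by
      obtain ⟨a, rfl⟩ := e2.surjective a
      have hc : B.submatrix e2 e2 = (N.toBlocks₁₁.submatrix e2 e2)⁻¹ := by
        rw [Matrix.inv_submatrix_equiv, ← Matrix.invOf_eq_nonsing_inv]
      show B.submatrix e2 e2 a a = 0
      rw [hc, Matrix.inv_def, Matrix.adjugate_fin_two]
      fin_cases a
      · show _ * (M j j) = (0 : F)
        rw [hd, mul_zero]
      · show _ * (M i i) = (0 : F)
        rw [hd, mul_zero]
    have hS : (N.toBlocks₂₂ - N.toBlocks₂₁ * B * N.toBlocks₁₂)ᵀ = -(N.toBlocks₂₂ - N.toBlocks₂₁ * B * N.toBlocks₁₂) := by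
      have b22 : N.toBlocks₂₂ᵀ = -N.toBlocks₂₂ := Matrix.ext fun a b => hsk _ _
      rw [Matrix.transpose_sub, Matrix.transpose_mul, Matrix.transpose_mul, hB, b12, b21, b22]
      simp [Matrix.mul_assoc, add_comm, sub_eq_add_neg]
    have hS0 : ∀ a, (N.toBlocks₂₂ - N.toBlocks₂₁ * B * N.toBlocks₁₂) a a = 0 := fun a => by
      rw [Matrix.sub_apply, Matrix.mul_apply, show N.toBlocks₂₂ a a = 0 from hd _, zero_sub, neg_eq_zero]
      simp only [Matrix.mul_apply, Finset.sum_mul]
      -- the sum of an alternating form on a vector with itself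
      let x : Fin 2 → F := fun b => N.toBlocks₂₁ a (e2 b)
      rw [← e2.sum_comp]
      simp only [← e2.sum_comp (fun b => N.toBlocks₂₁ a b * _ * _), Fin.sum_univ_two]
      have q : ∀ b, N.toBlocks₁₂ b a = - N.toBlocks₂₁ a b := fun b => hsk _ _
      have hB01 : B (e2 1) (e2 0) = - B (e2 0) (e2 1) := congrFun (congrFun hB (e2 0)) (e2 1)
      rw [q, q, hB0, hB0, hB01]; ring
    have hlt : Fintype.card {x // ¬ p x} < n := hn ▸ Fintype.card_subtype_lt (x := i) (by simp [p])
    rw [← hdet, key, h11]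
    exact (IsSquare.mul_self (M i j)).mul (ih _ hlt rfl _ hS hS0)

theorem exists_pfaffian (ι : Type) [Fintype ι] [DecidableEq ι] :
    ∃ Q : MvPolynomial (ι × ι) ℂ, ∀ (R : Type) [CommRing R] [Algebra ℂ R] (S : Matrix ι ι R), Sᵀ = -S →
      S.det = (MvPolynomial.aeval (fun p : ι × ι => (2⁻¹ : ℂ) • S p.1 p.2) Q) ^ 2 := by
  classical
  let R0 := MvPolynomial (ι × ι) ℂ
  let G : Matrix ι ι R0 := Matrix.of fun a b => MvPolynomial.X (a, b) - MvPolynomial.X (b, a)
  let F := FractionRing R0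
  obtain ⟨r, hr⟩ := isSquare_det_skew _ rfl (G.map (algebraMap R0 F))
    (Matrix.ext fun a b => by simp [G]) (fun a => by simp [G])
  rw [← RingHom.mapMatrix_apply, ← RingHom.map_det, ← sq] at hr
  obtain ⟨Q, hQ⟩ := IsIntegrallyClosed.exists_algebraMap_eq_of_isIntegral_pow (x := r) (n := 2) (by norm_num) (by
    rw [← hr]; exact isIntegral_algebraMap (R := R0) (A := F))
  refine ⟨Q, fun R _ _ S hS => ?_⟩
  have hGQ : G.det = Q ^ 2 := IsFractionRing.injective R0 F (by rw [map_pow, hQ, hr])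
  let φ : R0 →ₐ[ℂ] R := MvPolynomial.aeval fun p : ι × ι => (2⁻¹ : ℂ) • S p.1 p.2
  have hφ : G.map φ = S := by
    ext a b
    have : S b a = - S a b := congrFun (congrFun hS a) b
    show φ (MvPolynomial.X (a, b) - MvPolynomial.X (b, a)) = _
    rw [map_sub, show φ (MvPolynomial.X (a, b)) = (2⁻¹ : ℂ) • S a b from MvPolynomial.aeval_X _ _,
      show φ (MvPolynomial.X (b, a)) = (2⁻¹ : ℂ) • S b a from MvPolynomial.aeval_X _ _, this, smul_neg, sub_neg_eq_add, ← add_smul]
    norm_num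
  have h1 := congrArg φ hGQ
  rw [map_pow, AlgHom.map_det, AlgHom.mapMatrix_apply, hφ] at h1
  exact h1

/-- Let J be the 2m × 2m block matrix with blocks 0, I_m in the first row and −I_m, 0 in the second,
over the complex numbers. On the set of complex 2m × 2m matrices A with ᵗA · J = J · A (equivalently
ᵗA = J A J⁻¹, J being invertible), the characteristic polynomial is the square of a single
polynomial in the entries of A with coefficients in ℂ[X], and the determinant is the square of a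
single polynomial in the entries of A. -/
theorem result (m : ℕ) :
    (∃ P : MvPolynomial ((Fin m ⊕ Fin m) × (Fin m ⊕ Fin m)) (Polynomial ℂ),
      ∀ A : Matrix (Fin m ⊕ Fin m) (Fin m ⊕ Fin m) ℂ,
        A.transpose * Matrix.fromBlocks 0 1 (-1) 0 = Matrix.fromBlocks 0 1 (-1) 0 * A →
        A.charpoly = (MvPolynomial.eval (fun ij => Polynomial.C (A ij.1 ij.2)) P) ^ 2) ∧
    (∃ Q : MvPolynomial ((Fin m ⊕ Fin m) × (Fin m ⊕ Fin m)) ℂ,
      ∀ A : Matrix (Fin m ⊕ Fin m) (Fin m ⊕ Fin m) ℂ,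
        A.transpose * Matrix.fromBlocks 0 1 (-1) 0 = Matrix.fromBlocks 0 1 (-1) 0 * A →
        A.det = (MvPolynomial.eval (fun ij => A ij.1 ij.2) Q) ^ 2) := by
  classical
  let J : Matrix (Fin m ⊕ Fin m) (Fin m ⊕ Fin m) ℂ := Matrix.fromBlocks 0 1 (-1) 0
  obtain ⟨Q, hQ⟩ := exists_pfaffian (Fin m ⊕ Fin m)
  have hJT : Jᵀ = -J := by simp [J, Matrix.fromBlocks_transpose, Matrix.fromBlocks_neg]
  have hJJ : J * J = -1 := by simp [J, Matrix.fromBlocks_multiply, ← Matrix.fromBlocks_one, Matrix.fromBlocks_neg]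
  have hJdet : J.det ≠ 0 := by
    intro h
    have := congrArg Matrix.det hJJ
    rw [Matrix.det_mul, h, zero_mul, Matrix.det_neg, Matrix.det_one, mul_one] at this
    exact pow_ne_zero _ (neg_ne_zero.2 one_ne_zero) this.symm
  obtain ⟨s, hs⟩ := IsAlgClosed.exists_pow_nat_eq J.det⁻¹ (n := 2) (by norm_num)
  have hsk : ∀ A : Matrix (Fin m ⊕ Fin m) (Fin m ⊕ Fin m) ℂ, Aᵀ * J = J * A → (J * A)ᵀ = -(J * A) := fun A hA => by
    rw [Matrix.transpose_mul, hJT, Matrix.mul_neg, hA]
  constructor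
  · let J' := J.map (Polynomial.C : ℂ →+* Polynomial ℂ)
    let T : Matrix (Fin m ⊕ Fin m) (Fin m ⊕ Fin m) (MvPolynomial ((Fin m ⊕ Fin m) × (Fin m ⊕ Fin m)) (Polynomial ℂ)) :=
      Matrix.of fun a b => MvPolynomial.X (a, b)
    let M : Matrix (Fin m ⊕ Fin m) (Fin m ⊕ Fin m) (MvPolynomial ((Fin m ⊕ Fin m) × (Fin m ⊕ Fin m)) (Polynomial ℂ)) :=
      J'.map (MvPolynomial.C : Polynomial ℂ →+* MvPolynomial ((Fin m ⊕ Fin m) × (Fin m ⊕ Fin m)) (Polynomial ℂ)) * ((MvPolynomial.C (Polynomial.X : Polynomial ℂ) : MvPolynomial ((Fin m ⊕ Fin m) × (Fin m ⊕ Fin m)) (Polynomial ℂ)) • (1 : Matrix (Fin m ⊕ Fin m) (Fin m ⊕ Fin m) (MvPolynomial ((Fin m ⊕ Fin m) × (Fin m ⊕ Fin m)) (Polynomial ℂ))) - T)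
    refine ⟨MvPolynomial.C (Polynomial.C s) * MvPolynomial.aeval (fun p => (2⁻¹ : ℂ) • M p.1 p.2) Q, fun A hA => ?_⟩
    let S : Matrix (Fin m ⊕ Fin m) (Fin m ⊕ Fin m) (Polynomial ℂ) := J' * A.charmatrix
    have hch : A.charmatrix = Matrix.scalar _ Polynomial.X - A.map Polynomial.C := rfl
    have hS : Sᵀ = -S := by
      show (J' * A.charmatrix)ᵀ = _
      rw [Matrix.transpose_mul, show J'ᵀ = -J' by rw [← Matrix.transpose_map, hJT]; ext; simp [J']]
      rw [Matrix.mul_neg, neg_inj]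
      show _ = J' * A.charmatrix
      rw [hch, Matrix.transpose_sub, Matrix.sub_mul, Matrix.mul_sub, ← Matrix.transpose_map]
      congr 1
      · simp [Matrix.scalar_apply, Matrix.diagonal_transpose]
        exact Matrix.ext fun a b => by simp [mul_comm]
      · rw [← Matrix.map_mul, ← Matrix.map_mul]; exact congrArg (fun Z => Matrix.map Z Polynomial.C) hA
    let ev : MvPolynomial ((Fin m ⊕ Fin m) × (Fin m ⊕ Fin m)) (Polynomial ℂ) →+* Polynomial ℂ := MvPolynomial.eval fun ij => Polynomial.C (A ij.1 ij.2)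
    have hM : M.map ev = S := by
      simp only [M, Matrix.map_mul]
      congr 1
      · ext a b; simp [ev]
      · rw [hch]; ext a b; by_cases hab : a = b <;> simp [ev, T, hab, Matrix.one_apply, Matrix.scalar_apply]
    have hev : ev (MvPolynomial.aeval (fun p => (2⁻¹ : ℂ) • M p.1 p.2) Q) = MvPolynomial.aeval (fun p => (2⁻¹ : ℂ) • S p.1 p.2) Q := by
      rw [← hM, MvPolynomial.aeval_def, MvPolynomial.aeval_def, MvPolynomial.eval₂_comp_left]
      congr 1
      · refine RingHom.ext fun x => ?_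
        show ev (MvPolynomial.C (Polynomial.C x)) = Polynomial.C x
        exact MvPolynomial.eval_C _
      · funext p; simp [ev, Algebra.smul_def]
    show A.charpoly = (ev _) ^ 2
    rw [map_mul, hev, mul_pow, ← hQ _ S hS, show ev (MvPolynomial.C (Polynomial.C s)) = Polynomial.C s from MvPolynomial.eval_C _]
    show A.charpoly = _ * (J' * A.charmatrix).det
    rw [Matrix.det_mul, ← Polynomial.C_pow, hs, show J'.det = Polynomial.C J.det from (RingHom.map_det _ _).symm, ← mul_assoc, ← map_mul,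
      inv_mul_cancel₀ hJdet, map_one, one_mul]
    rfl
  · refine ⟨MvPolynomial.C s * MvPolynomial.aeval (fun p => (2⁻¹ : ℂ) • ∑ l, MvPolynomial.C (J p.1 l) * MvPolynomial.X (l, p.2)) Q, fun A hA => ?_⟩
    rw [map_mul, MvPolynomial.eval_C, mul_pow, hs]
    have : MvPolynomial.eval (fun ij => A ij.1 ij.2) (MvPolynomial.aeval (fun p => (2⁻¹ : ℂ) • ∑ l, MvPolynomial.C (J p.1 l) * MvPolynomial.X (l, p.2)) Q) = MvPolynomial.aeval (fun p => (2⁻¹ : ℂ) • (J * A) p.1 p.2) Q := by
      rw [MvPolynomial.aeval_def, MvPolynomial.aeval_def, MvPolynomial.eval₂_comp_left]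
      congr 1
      · ext x; simp
      · funext p; simp [Matrix.mul_apply, MvPolynomial.smul_eval, mul_add]
    rw [this, ← hQ _ _ (hsk A hA), Matrix.det_mul, inv_mul_cancel_left₀ hJdet]

end Groth.Agent.S15155
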