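import Groth.Statements.S15156
import Groth.Agent.VB5.Higgs
import Groth.Agent.AbVarLib.AlgClosedIntegral
import Groth.Agent.VB5.MaxDestab
import Groth.Agent.AbCubeLib.FiniteDegree
import Groth.Agent.VarietyLib.CurveDegree

set_option autoImplicit false
open CategoryTheory CategoryTheory.Limits AlgebraicGeometry
open VBCurve

namespace Groth.Agent.S15156


namespace S15156aux

open Groth.Agent Groth.Agent.VB5 Opposite

universe u

variable {X : Scheme.{u}} [IsIntegral X] [IsLocallyNoetherian X]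
  (k : Type u) [Field k] [X.Over (Spec (CommRingCat.of k))] [IsProper (X ↘ Spec (CommRingCat.of k))]
  (hdim : topologicalKrullDim X = 1) (hn : ∀ x : X, IsIntegrallyClosed (X.presheaf.stalk x))
include k hdim hn

/-- A second submodule with the rank and degree of the maximal destabilising one lies inside it. -/
theorem comp_cokernel_eq_zero {r : ℕ} {E E₁ H : X.Modules} (hE : FlatMod.IsFinLocFreeOfRank r E) (i : E₁ ⟶ E)
    [Mono i] (hE₁c : Coh.IsCoh E₁) (hpos : 0 < grk E₁)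
    (hmax : ∀ (G : X.Modules) (j : G ⟶ E), Mono j → Coh.IsCoh G →
        gdeg k G * (grk E₁ : ℤ) ≤ gdeg k E₁ * (grk G : ℤ) ∧
        (0 < grk G → gdeg k G * (grk E₁ : ℤ) = gdeg k E₁ * (grk G : ℤ) → grk G ≤ grk E₁))
    (i' : H ⟶ E) [Mono i'] (hH : Coh.IsCoh H) (hr' : grk H = grk E₁) (hd' : gdeg k H = gdeg k E₁) :
    i' ≫ cokernel.π i = 0 := by
  haveI := EulerLib.isNoetherian_of_proper k (X := X)
  have hEc : Coh.IsCoh E := SplitP1.isCoh_of_rank hE
  have hr1 : (0 : ℤ) < (grk E₁ : ℤ) := by exact_mod_cast hpos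
  by_contra hne
  have hQf := bundle_cokernel_of_max k hdim hn hE i hE₁c fun P jP hjP hP hPr => by
    have := (hmax P jP hjP hP).1
    rw [hPr] at this
    exact le_of_mul_le_mul_right this hr1
  have hQ := SplitP1.isCoh_of_rank hQf
  have hHss : SS k H := by
    intro K jK hjK hK
    haveI := hjK
    rw [hr', hd']
    exact (hmax K (jK ≫ i') (mono_comp _ _) hK).1
  have hHf := (sub_bundle hdim.le hn hE i' hH).2
  obtain ⟨I, p, jI, hp, hjI, -, hI, hI0⟩ := exists_image k hdim hn hHf hQf (i' ≫ cokernel.π i)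
  haveI := hjI
  haveI := hp
  have hc := hI0 hne
  have hq := hHss.quot k hH p hI
  obtain ⟨P, jP, hjP, hP, hPr, hPd⟩ := exists_preimage_sub k (EulerLib.shortExact_cokernel i) hE₁c hEc hQ jI hI
  change grk P = grk E₁ + grk I at hPr
  change gdeg k P = gdeg k E₁ + gdeg k I at hPd
  obtain ⟨h1, h2⟩ := hmax P jP hjP hP
  rw [hPr, hPd] at h1 h2
  rw [hr', hd'] at hq
  push_cast at h1 h2
  have := h2 (by omega) (by nlinarith)
  omega

omit hdim hn

theorem euler_pullback_involution [X.IsSeparated] (σ : X ⟶ X) [IsIso σ]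
    (hσS : σ ≫ (X ↘ Spec (CommRingCat.of k)) = X ↘ Spec (CommRingCat.of k)) (hσ : σ ≫ σ = 𝟙 X)
    (F : X.Modules) (hF : Coh.IsQCoh F) :
    Curv2.euler k X ((Scheme.Modules.pullback σ).obj F) = Curv2.euler k X F := by
  haveI := hF
  let P := Scheme.Modules.pullback σ
  let push := Scheme.Modules.pushforward σ
  have e1 : P.obj (P.obj (push.obj F)) ≅ push.obj F :=
    (Scheme.Modules.pullbackComp σ σ).app _ ≪≫ (Scheme.Modules.pullbackCongr hσ).app _ ≪≫
      (Scheme.Modules.pullbackId X).app _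
  have e2 : P.obj (push.obj F) ≅ F := (Scheme.Modules.restrictFunctorIsoPullback σ).symm.app _ ≪≫
      (asIso (Scheme.Modules.restrictAdjunction σ).counit).app F
  have e3 : push.obj F ≅ P.obj F := e1.symm ≪≫ P.mapIso e2
  rw [AbCubeLib.euler_push k σ hσS F]
  exact (EulerLib.euler_congr k X e3).symm

end S15156aux

/-- Let X be a smooth proper integral curve of genus at least 2 over the complex numbers with an
involution σ ≠ id over the complex numbers, and (E, φ) a σ-linearized finite locally free module of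
rank r ≥ 1: φ : σ^*E ≅ E with φ ∘ σ^*φ equal to the canonical identification σ^*σ^*E ≅ E. A
submodule F ⊂ E is σ-invariant when the composite σ^*F → σ^*E → E factors through F. Then (E, φ) is
semistable with respect to σ-invariant finite locally free submodules (deg F · r ≤ deg E · rk F for
each such F of positive rank) if and only if E is slope-semistable (the same inequality for every
finite locally free submodule of positive rank); degrees are χ − rank · χ(O). -/
theorem result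
    (X : Scheme.{0}) [X.Over (Spec (CommRingCat.of ℂ))] [IsIntegral X] [IsProper (X ↘ Spec (CommRingCat.of ℂ))] [Smooth (X ↘ Spec (CommRingCat.of ℂ))]
    (hdim : topologicalKrullDim X = 1) (hg : 2 ≤ Curv2.genus ℂ X)
    (σ : X ⟶ X) (hσS : σ ≫ (X ↘ Spec (CommRingCat.of ℂ)) = X ↘ Spec (CommRingCat.of ℂ)) (hσ : σ ≫ σ = 𝟙 X) (hσ1 : σ ≠ 𝟙 X)
    (r : ℕ) (hr : 0 < r) (E : X.Modules) (hE : FlatMod.IsFinLocFreeOfRank r E)
    (φ : (Scheme.Modules.pullback σ).obj E ≅ E)
    (hφ : (Scheme.Modules.pullback σ).map φ.hom ≫ φ.hom =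
      (Scheme.Modules.pullbackComp σ σ).hom.app E ≫ (Scheme.Modules.pullbackCongr hσ).hom.app E ≫
        (Scheme.Modules.pullbackId X).hom.app E) :
    (∀ (F : X.Modules) (r' : ℕ) (i : F ⟶ E), Mono i → 0 < r' → FlatMod.IsFinLocFreeOfRank r' F →
      (∃ j : (Scheme.Modules.pullback σ).obj F ⟶ F, j ≫ i = (Scheme.Modules.pullback σ).map i ≫ φ.hom) →
      Curv2.deg ℂ X F r' * (r : ℤ) ≤ Curv2.deg ℂ X E r * (r' : ℤ)) ↔
    (∀ (F : X.Modules) (r' : ℕ) (i : F ⟶ E), Mono i → 0 < r' → FlatMod.IsFinLocFreeOfRank r' F →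
      Curv2.deg ℂ X F r' * (r : ℤ) ≤ Curv2.deg ℂ X E r * (r' : ℤ)) := by
  refine ⟨fun h => ?_, fun h F r' i hi hr' hF _ => h F r' i hi hr' hF⟩
  haveI : IsIso σ := ⟨σ, hσ, hσ⟩
  haveI : IsLocallyNoetherian X := LocallyOfFiniteType.isLocallyNoetherian (X ↘ Spec (CommRingCat.of ℂ))
  have hn : ∀ x : X, IsIntegrallyClosed (X.presheaf.stalk x) := fun x => VB5.isIntegrallyClosed_stalk ℂ x
  haveI := AbVarLib.geometricallyIntegral_of_isAlgClosed (X ↘ Spec (CommRingCat.of ℂ))
  haveI : X.IsSeparated := EulerLib.isSeparated_of_proper (X := X) ℂ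
  let P := Scheme.Modules.pullback σ
  let η : P ⋙ P ≅ 𝟭 X.Modules := Scheme.Modules.pullbackComp σ σ ≪≫ Scheme.Modules.pullbackCongr hσ ≪≫
    Scheme.Modules.pullbackId X
  haveI : P.IsEquivalence := (CategoryTheory.Equivalence.mk P P η.symm η).isEquivalence_functor
  obtain ⟨E₁, i, hi, hE₁c, hpos, hE₁, hmax⟩ := VB5.exists_max_destab ℂ hdim hn hr hE
  haveI := hi
  haveI : Mono (P.map i ≫ φ.hom) := mono_comp _ _
  have hH := VarietyLib.isFinLocFreeOfRank_pullback σ hE₁
  have hHc := SplitP1.isCoh_of_rank hH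
  have hHr : VB5.grk (P.obj E₁) = VB5.grk E₁ := VB5.grk_eq hH
  have hHd : VB5.gdeg ℂ (P.obj E₁) = VB5.gdeg ℂ E₁ := by
    rw [VB5.gdeg, VB5.gdeg, hHr, S15156aux.euler_pullback_involution ℂ σ hσS hσ E₁ hE₁c.1]
  have hz := S15156aux.comp_cokernel_eq_zero ℂ hdim hn hE i hE₁c hpos hmax (P.map i ≫ φ.hom) hHc hHr hHd
  have hinv : ∃ j : P.obj E₁ ⟶ E₁, j ≫ i = P.map i ≫ φ.hom :=
    ⟨Abelian.monoLift i (P.map i ≫ φ.hom) hz, Abelian.monoLift_comp i _ hz⟩
  have h1 := h E₁ (VB5.grk E₁) i hi hpos hE₁ hinv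
  rw [VB5.deg_eq_gdeg ℂ hE₁, VB5.deg_eq_gdeg ℂ hE] at h1
  intro F r' j hj hr' hF
  have h2 := (hmax F j hj (SplitP1.isCoh_of_rank hF)).1
  rw [VB5.grk_eq hF] at h2
  rw [VB5.deg_eq_gdeg ℂ hF, VB5.deg_eq_gdeg ℂ hE]
  refine le_of_mul_le_mul_right ?_ (show (0 : ℤ) < (VB5.grk E₁ : ℤ) by exact_mod_cast hpos)
  nlinarith [mul_le_mul_of_nonneg_right h2 (Int.natCast_nonneg r),
    mul_le_mul_of_nonneg_right h1 (Int.natCast_nonneg r')]

end Groth.Agent.S15156
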