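import Groth.Statements.S15159
import Mathlib

set_option linter.all false

set_option autoImplicit false
open CAlg


namespace Groth.Agent.S15159

section
open Module
variable {H W : Type} [AddCommGroup H] [Module ℂ H] [FiniteDimensional ℂ H] [AddCommGroup W] [Module ℂ W]

theorem finrank_biSup {ι : Type} [DecidableEq ι] {Hs : ι → Submodule ℂ H} (h : iSupIndep Hs) (S : Finset ι) :
    finrank ℂ ↥(⨆ i ∈ S, Hs i) = ∑ i ∈ S, finrank ℂ (Hs i) := by
  induction S using Finset.induction_on with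
  | empty => simp
  | insert a S ha ih =>
    rw [Finset.iSup_insert, Finset.sum_insert ha, ← ih]
    have hd : Disjoint (Hs a) (⨆ i ∈ S, Hs i) := (h a).mono_right
      (iSup₂_le fun i hi => le_iSup₂_of_le i (by rintro rfl; exact ha hi) le_rfl)
    have := Submodule.finrank_sup_add_finrank_inf_eq (Hs a) (⨆ i ∈ S, Hs i)
    rw [hd.eq_bot, finrank_bot, add_zero] at this
    exact this

theorem orth_of_biSup {ι : Type} {Hs : ι → Submodule ℂ H} (q : H →ₗ[ℂ] H →ₗ[ℂ] W) (S T : Finset ι)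
    (h : ∀ i ∈ S, ∀ j ∈ T, ∀ x ∈ Hs i, ∀ y ∈ Hs j, q x y = 0) :
    ∀ x ∈ (⨆ i ∈ S, Hs i : Submodule ℂ H), ∀ y ∈ (⨆ j ∈ T, Hs j : Submodule ℂ H), q x y = 0 := by
  intro x hx y hy
  have h1 : (⨆ i ∈ S, Hs i) ≤ LinearMap.ker (q.flip y) := iSup₂_le fun i hi x' hx' => by
    have h2 : (⨆ j ∈ T, Hs j) ≤ LinearMap.ker (q x') := iSup₂_le fun j hj y' hy' =>
      LinearMap.mem_ker.2 (h i hi j hj x' hx' y' hy')
    rw [LinearMap.mem_ker, LinearMap.flip_apply]
    exact LinearMap.mem_ker.1 (h2 hy)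
  exact LinearMap.mem_ker.1 (h1 hx)

/-- `m = ∑_{t<T} (1 - [m ≤ t] - [m ≤ -t-1])` for `|m| ≤ T`. -/
theorem count_eq (m : ℤ) : ∀ T : ℕ, m.natAbs ≤ T →
    (∑ t ∈ Finset.range T, (1 - (if m ≤ (t : ℤ) then (1 : ℤ) else 0) - (if m ≤ -(t : ℤ) - 1 then 1 else 0))) = m := by
  have gen : ∀ T : ℕ, (∑ t ∈ Finset.range T, (1 - (if m ≤ (t : ℤ) then (1 : ℤ) else 0) - (if m ≤ -(t : ℤ) - 1 then 1 else 0))) =
      max (-(T : ℤ)) (min m T) := by
    intro T
    induction T with
    | zero => simp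
    | succ T ih =>
      rw [Finset.sum_range_succ, ih]
      push_cast
      split_ifs <;> omega
  intro T hT
  rw [gen]
  omega

theorem iInf_ker_flip_mem (q : H →ₗ[ℂ] H →ₗ[ℂ] W) (V : Submodule ℂ H) (x : H) :
    x ∈ (⨅ (y : H) (_ : y ∈ V), LinearMap.ker (q.flip y) : Submodule ℂ H) ↔ ∀ y ∈ V, q x y = 0 := by
  simp [Submodule.mem_iInf]

/-- From subspaces to weights. -/
theorem of_subspaces (q : H →ₗ[ℂ] H →ₗ[ℂ] W) (P : ℤ → Prop) (Q : ℕ → ℕ → Prop)
    (hP : ∀ a b, a ≤ b → P b → P a)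
    (hss : ∀ V : Submodule ℂ H, V ≠ ⊥ → (∀ x ∈ V, ∀ y ∈ V, q x y = 0) →
      Q (finrank ℂ V) (finrank ℂ ↥(⨅ (y : H) (_ : y ∈ V), LinearMap.ker (q.flip y) : Submodule ℂ H)))
    (ι : Type) [Fintype ι] [DecidableEq ι] (Hs : ι → Submodule ℂ H) (m : ι → ℤ)
    (hint : DirectSum.IsInternal Hs) (hsum : (∑ i, m i * (finrank ℂ (Hs i) : ℤ)) = 0)
    (hne : ∃ i, m i ≠ 0 ∧ Hs i ≠ ⊥)
    (hno : ∀ i j, P (m i + m j) → ∀ x ∈ Hs i, ∀ y ∈ Hs j, q x y = 0) :
    ∃ (N : ℤ → ℕ), Monotone N ∧ (∀ t : ℤ, N t ≤ finrank ℂ H) ∧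
      (∃ m₀ : ℤ, m₀ < 0 ∧ 0 < N m₀ ∧ (∀ t, t < m₀ → N t = 0)) ∧
      (∀ s t : ℤ, s ≤ t → P (s + t) → 0 < N s → ∃ v k, Q v k ∧ N s ≤ v ∧ N t ≤ k) ∧
      (∃ T : ℕ, (∀ t : ℤ, (T : ℤ) ≤ t → N t = finrank ℂ H) ∧ (∀ t : ℤ, t < -(T : ℤ) → N t = 0) ∧
        ∑ t ∈ Finset.range T, ((finrank ℂ H : ℤ) - N t - N (-(t : ℤ) - 1)) = 0) := by
  classical
  have hind := hint.submodule_iSupIndep
  let F : ℤ → Submodule ℂ H := fun t => ⨆ i ∈ Finset.univ.filter (fun i => m i ≤ t), Hs i
  let N : ℤ → ℕ := fun t => ∑ i ∈ Finset.univ.filter (fun i => m i ≤ t), finrank ℂ (Hs i)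
  have hN : ∀ t, finrank ℂ (F t) = N t := fun t => finrank_biSup hind _
  have hh : finrank ℂ H = ∑ i, finrank ℂ (Hs i) := by
    rw [← finrank_biSup hind Finset.univ]
    have : (⨆ i ∈ (Finset.univ : Finset ι), Hs i) = ⊤ := by simpa using hint.submodule_iSup_eq_top
    rw [this, finrank_top]
  have hmono : Monotone N := fun s t hst => Finset.sum_le_sum_of_subset (fun i hi => by
    simp only [Finset.mem_filter, Finset.mem_univ, true_and] at hi ⊢; omega)
  have hle : ∀ t, N t ≤ finrank ℂ H := fun t => hh ▸ Finset.sum_le_sum_of_subset (Finset.subset_univ _)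
  -- some negative weight
  have hneg : ∃ i, m i < 0 ∧ Hs i ≠ ⊥ := by
    by_contra hcon
    push Not at hcon
    obtain ⟨i₀, hi₀, hi₀'⟩ := hne
    have hnn : ∀ i ∈ (Finset.univ : Finset ι), 0 ≤ m i * (finrank ℂ (Hs i) : ℤ) := fun i _ => by
      by_cases hi : Hs i = ⊥
      · rw [Submodule.finrank_eq_zero.2 hi]; simp
      · exact mul_nonneg (by by_contra h'; exact hi (hcon i (by omega))) (Int.natCast_nonneg _)
    have := (Finset.sum_eq_zero_iff_of_nonneg hnn).1 hsum i₀ (Finset.mem_univ _)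
    rcases mul_eq_zero.1 this with h | h
    · exact hi₀ h
    · exact hi₀' (Submodule.finrank_eq_zero.1 (by exact_mod_cast h))
  obtain ⟨i₁, hi₁⟩ := hneg
  obtain ⟨i₂, hi₂, hi₂min⟩ := Finset.exists_min_image (Finset.univ.filter (fun i => Hs i ≠ ⊥)) m
    ⟨i₁, by simp [hi₁.2]⟩
  simp only [Finset.mem_filter, Finset.mem_univ, true_and] at hi₂ hi₂min
  let T : ℕ := ∑ i, (m i).natAbs
  have hT : ∀ i, (m i).natAbs ≤ T := fun i => Finset.single_le_sum (f := fun i => (m i).natAbs) (fun _ _ => Nat.zero_le _) (Finset.mem_univ i)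
  refine ⟨N, hmono, hle, ⟨m i₂, (hi₂min i₁ hi₁.2).trans_lt hi₁.1, ?_, ?_⟩, ?_, ⟨T, ?_, ?_, ?_⟩⟩
  · refine (Nat.pos_of_ne_zero fun h => hi₂ ?_).trans_le le_rfl
    exact Submodule.finrank_eq_zero.1 ((Finset.sum_eq_zero_iff).1 h i₂ (by simp))
  · intro t ht
    refine Finset.sum_eq_zero fun i hi => ?_
    by_cases hb : Hs i = ⊥
    · exact Submodule.finrank_eq_zero.2 hb
    · simp only [Finset.mem_filter, Finset.mem_univ, true_and] at hi
      have := hi₂min i hb
      omega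
  · intro s t hst hPst hs
    have horth : ∀ a b : ℤ, P (a + b) → ∀ x ∈ F a, ∀ y ∈ F b, q x y = 0 := fun a b hab =>
      orth_of_biSup q _ _ fun i hi j hj => hno i j (hP _ _ (by
        simp only [Finset.mem_filter, Finset.mem_univ, true_and] at hi hj; omega) hab)
    refine ⟨_, _, hss (F s) ?_ (horth s s (hP _ _ (by omega) hPst)), (hN s).ge, ?_⟩
    · intro hbot
      rw [← hN, hbot, finrank_bot] at hs
      exact lt_irrefl _ hs
    · rw [← hN t]
      refine Submodule.finrank_mono fun x hx => (iInf_ker_flip_mem q _ x).2 fun y hy => horth t s ?_ x hx y hy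
      rwa [add_comm]
  · intro t ht
    show ∑ i ∈ _, _ = _
    rw [hh, Finset.filter_true_of_mem]
    intro i _
    have := hT i; omega
  · intro t ht
    show ∑ i ∈ _, _ = _
    rw [Finset.filter_false_of_mem, Finset.sum_empty]
    intro i _
    have := hT i; omega
  · refine Eq.trans ?_ hsum
    rw [Finset.sum_congr rfl (fun i (_ : i ∈ Finset.univ) =>
      show m i * (finrank ℂ (Hs i) : ℤ) = ∑ t ∈ Finset.range T, (1 - (if m i ≤ (t : ℤ) then (1 : ℤ) else 0) - (if m i ≤ -(t : ℤ) - 1 then 1 else 0)) * (finrank ℂ (Hs i) : ℤ) by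
        rw [← Finset.sum_mul, count_eq (m i) T (hT i)]), Finset.sum_comm]
    refine Finset.sum_congr rfl fun t _ => ?_
    simp only [N, hh, sub_mul, one_mul, Finset.sum_sub_distrib, Finset.sum_filter, Nat.cast_sum, Nat.cast_ite, Nat.cast_zero, ite_mul, zero_mul]

theorem internal3 (V U Q : Submodule ℂ H) (h1 : Disjoint V U) (h2 : Disjoint (V ⊔ U) Q) (h3 : V ⊔ U ⊔ Q = ⊤) :
    DirectSum.IsInternal ![V, U, Q] := by
  rw [DirectSum.isInternal_submodule_iff_iSupIndep_and_iSup_eq_top]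
  constructor
  · intro i
    match i with
    | 0 =>
      refine Disjoint.mono_right (iSup₂_le (a := U ⊔ Q) fun j hj => ?_) (h1.disjoint_sup_right_of_disjoint_sup_left h2)
      match j, hj with
      | 0, hj => exact absurd rfl hj
      | 1, _ => exact le_sup_left
      | 2, _ => exact le_sup_right
    | 1 =>
      refine Disjoint.mono_right (iSup₂_le (a := V ⊔ Q) fun j hj => ?_)
        (h1.symm.disjoint_sup_right_of_disjoint_sup_left (sup_comm V U ▸ h2))
      match j, hj with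
      | 1, hj => exact absurd rfl hj
      | 0, _ => exact le_sup_left
      | 2, _ => exact le_sup_right
    | 2 =>
      refine Disjoint.mono_right (iSup₂_le (a := V ⊔ U) fun j hj => ?_) h2.symm
      match j, hj with
      | 2, hj => exact absurd rfl hj
      | 0, _ => exact le_sup_left
      | 1, _ => exact le_sup_right
  · refine eq_top_iff.2 (h3 ▸ sup_le (sup_le ?_ ?_) ?_)
    · exact le_iSup ![V, U, Q] 0
    · exact le_iSup ![V, U, Q] 1
    · exact le_iSup ![V, U, Q] 2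

/-- Three-step weights from an isotropic subspace. -/
theorem to_weights (q : H →ₗ[ℂ] H →ₗ[ℂ] W) (s : W →ₗ[ℂ] W) (hq : ∀ x y : H, q x y = s (q y x)) (hq0 : q ≠ 0)
    (V : Submodule ℂ H) (hV : V ≠ ⊥) (hiso : ∀ x ∈ V, ∀ y ∈ V, q x y = 0) :
    ∃ (Hs : Fin 3 → Submodule ℂ H) (m : Fin 3 → ℤ), DirectSum.IsInternal Hs ∧
      (∑ i, m i * (finrank ℂ (Hs i) : ℤ)) = 0 ∧ (∃ i, m i ≠ 0 ∧ Hs i ≠ ⊥) ∧
      ∀ i j, (∃ x ∈ Hs i, ∃ y ∈ Hs j, q x y ≠ 0) →
        2 * ((finrank ℂ V : ℤ) + (finrank ℂ ↥(⨅ (y : H) (_ : y ∈ V), LinearMap.ker (q.flip y) : Submodule ℂ H) : ℤ) - finrank ℂ H) ≤ m i + m j := by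
  classical
  set K : Submodule ℂ H := ⨅ (y : H) (_ : y ∈ V), LinearMap.ker (q.flip y) with hK
  have hVK : V ≤ K := fun x hx => (iInf_ker_flip_mem q V x).2 fun y hy => hiso x hx y hy
  obtain ⟨U₀, hU₀⟩ := Submodule.exists_isCompl V
  obtain ⟨Q, hQ⟩ := Submodule.exists_isCompl K
  set U : Submodule ℂ H := K ⊓ U₀ with hU
  have hsupK : V ⊔ U = K := by
    rw [hU, inf_comm, ← sup_inf_assoc_of_le _ hVK, hU₀.sup_eq_top, top_inf_eq]
  have htop : V ⊔ U ⊔ Q = ⊤ := by rw [hsupK, hQ.sup_eq_top]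
  have hdVU : Disjoint V U := hU₀.disjoint.mono_right inf_le_right
  have hrK : finrank ℂ K = finrank ℂ V + finrank ℂ U := by
    have := Submodule.finrank_sup_add_finrank_inf_eq V U
    rwa [hdVU.eq_bot, finrank_bot, add_zero, hsupK] at this
  have hrH : finrank ℂ H = finrank ℂ K + finrank ℂ Q := by
    have := Submodule.finrank_sup_add_finrank_inf_eq K Q
    rwa [hQ.inf_eq_bot, finrank_bot, add_zero, hQ.sup_eq_top, finrank_top] at this
  have hKmem : ∀ x, x ∈ K → ∀ y ∈ V, q x y = 0 := fun x hx y hy => (iInf_ker_flip_mem q V x).1 (hK ▸ hx) y hy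
  have hUK : U ≤ K := inf_le_left
  clear_value U K
  clear hK hU
  have hVpos : 0 < finrank ℂ V := Nat.pos_of_ne_zero fun h => hV (Submodule.finrank_eq_zero.1 h)
  have hne : (-(finrank ℂ H : ℤ) + ((finrank ℂ V : ℤ) + finrank ℂ K - finrank ℂ H)) ≠ 0 := by
    intro h
    have hVH : finrank ℂ V = finrank ℂ H := by
      have h1 := Submodule.finrank_le K; have h2 := Submodule.finrank_le V; omega
    have hVtop : V = ⊤ := Submodule.eq_top_of_finrank_eq hVH
    exact hq0 (LinearMap.ext fun x => LinearMap.ext fun y => hiso x (hVtop ▸ Submodule.mem_top) y (hVtop ▸ Submodule.mem_top))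
  have hsym : ∀ x y, q x y = 0 → q y x = 0 := fun x y h => by rw [hq y x, h, map_zero]
  refine ⟨![V, U, Q], ![-(finrank ℂ H : ℤ) + ((finrank ℂ V : ℤ) + finrank ℂ K - finrank ℂ H),
    ((finrank ℂ V : ℤ) + finrank ℂ K - finrank ℂ H), (finrank ℂ H : ℤ) + ((finrank ℂ V : ℤ) + finrank ℂ K - finrank ℂ H)],
    internal3 V U Q hdVU (hsupK.symm ▸ hQ.disjoint) htop, ?_, ⟨0, hne, hV⟩, ?_⟩
  · rw [Fin.sum_univ_three]
    show (-(finrank ℂ H : ℤ) + ((finrank ℂ V : ℤ) + finrank ℂ K - finrank ℂ H)) * (finrank ℂ V : ℤ) +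
      ((finrank ℂ V : ℤ) + finrank ℂ K - finrank ℂ H) * (finrank ℂ U : ℤ) +
      ((finrank ℂ H : ℤ) + ((finrank ℂ V : ℤ) + finrank ℂ K - finrank ℂ H)) * (finrank ℂ Q : ℤ) = 0
    rw [hrH, hrK]; push_cast; ring
  · rintro i j ⟨x, hx, y, hy, hne'⟩
    match i, j, hx, hy with
    | 0, 0, hx, hy => exact absurd (hiso x hx y hy) hne'
    | 0, 1, hx, hy => exact absurd (hsym _ _ (hKmem y (hUK hy) x hx)) hne'
    | 1, 0, hx, hy => exact absurd (hKmem x (hUK hx) y hy) hne'
    | 0, 2, _, _ => simp only [Matrix.cons_val_zero, Matrix.cons_val]; omega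
    | 2, 0, _, _ => simp only [Matrix.cons_val_zero, Matrix.cons_val]; omega
    | 1, 1, _, _ => simp only [Matrix.cons_val_one, Matrix.cons_val_zero]; omega
    | 1, 2, _, _ => simp only [Matrix.cons_val_one, Matrix.cons_val_zero, Matrix.cons_val]; omega
    | 2, 1, _, _ => simp only [Matrix.cons_val_one, Matrix.cons_val_zero, Matrix.cons_val]; omega
    | 2, 2, _, _ => simp only [Matrix.cons_val]; omega

end

/-- Let W be a finite-dimensional complex vector space with an involution s, H a finite-dimensional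
complex vector space and q : H → H → W a nonzero bilinear map with q(x)(y) = s(q(y)(x)). Write V^⊥ =
{x | q(x)(y) = 0 for all y ∈ V} and call V totally isotropic when q vanishes on V × V. The pair (H,
q) is semistable (dim V + dim V^⊥ ≤ dim H for every nonzero totally isotropic subspace V),
respectively stable (strict inequality), if and only if the line of q is semistable, respectively
stable, for the action of SL(H), the latter being expressed through one-parameter subgroups: for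
every decomposition H = ⊕_i H_i into subspaces with integer weights m_i such that Σ_i m_i dim H_i =
0 and some nonzero H_i has nonzero weight, there are indices i, j with q(H_i, H_j) ≠ 0 and m_i + m_j
≤ 0, respectively m_i + m_j < 0. (The published statement speaks of semistability and stability of
the point of the projective space of such forms under SL(H); this row states the numerical condition
on one-parameter subgroups to which that is equivalent and which the published argument verifies.) -/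
theorem result
    (W : Type) [AddCommGroup W] [Module ℂ W] [FiniteDimensional ℂ W]
    (s : W →ₗ[ℂ] W) (hs : s ∘ₗ s = LinearMap.id)
    (H : Type) [AddCommGroup H] [Module ℂ H] [FiniteDimensional ℂ H]
    (q : H →ₗ[ℂ] H →ₗ[ℂ] W) (hq : ∀ x y : H, q x y = s (q y x)) (hq0 : q ≠ 0) :
    ((∀ V : Submodule ℂ H, V ≠ ⊥ → (∀ x ∈ V, ∀ y ∈ V, q x y = 0) →
        Module.finrank ℂ V + Module.finrank ℂ ↥(⨅ (y : H) (_ : y ∈ V), LinearMap.ker (q.flip y) : Submodule ℂ H) ≤ Module.finrank ℂ H) ↔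
      (∀ (ι : Type) [Fintype ι] [DecidableEq ι] (Hs : ι → Submodule ℂ H) (m : ι → ℤ),
        DirectSum.IsInternal Hs → (∑ i, m i * (Module.finrank ℂ (Hs i) : ℤ)) = 0 →
        (∃ i, m i ≠ 0 ∧ Hs i ≠ ⊥) →
        ∃ i j, (∃ x ∈ Hs i, ∃ y ∈ Hs j, q x y ≠ 0) ∧ m i + m j ≤ 0)) ∧
    ((∀ V : Submodule ℂ H, V ≠ ⊥ → (∀ x ∈ V, ∀ y ∈ V, q x y = 0) →
        Module.finrank ℂ V + Module.finrank ℂ ↥(⨅ (y : H) (_ : y ∈ V), LinearMap.ker (q.flip y) : Submodule ℂ H) < Module.finrank ℂ H) ↔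
      (∀ (ι : Type) [Fintype ι] [DecidableEq ι] (Hs : ι → Submodule ℂ H) (m : ι → ℤ),
        DirectSum.IsInternal Hs → (∑ i, m i * (Module.finrank ℂ (Hs i) : ℤ)) = 0 →
        (∃ i, m i ≠ 0 ∧ Hs i ≠ ⊥) →
        ∃ i j, (∃ x ∈ Hs i, ∃ y ∈ Hs j, q x y ≠ 0) ∧ m i + m j < 0)) := by
  classical
  constructor
  · constructor
    · intro hss ι _ _ Hs m hint hsum hne
      by_contra hcon
      push Not at hcon
      obtain ⟨N, hmono, hle, ⟨m₀, hm₀, hpos, hzero⟩, hQ, T, hhi, hlo, hsum0⟩ :=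
        of_subspaces q (fun a => a ≤ 0) (fun v k => v + k ≤ Module.finrank ℂ H) (fun a b hab hb => hab.trans hb)
          hss ι Hs m hint hsum hne (fun i j hij x hx y hy => by
            by_contra h0; exact absurd (hcon i j ⟨x, hx, y, hy, h0⟩) (by omega))
      have key : ∀ s t : ℤ, s ≤ t → s + t ≤ 0 → 0 < N s → N s + N t ≤ Module.finrank ℂ H := fun s t h1 h2 h3 => by
        obtain ⟨v, k, hvk, hv, hk⟩ := hQ s t h1 h2 h3; omega
      have hterm : ∀ t ∈ Finset.range T, (0 : ℤ) ≤ (Module.finrank ℂ H : ℤ) - N t - N (-(t : ℤ) - 1) := fun t _ => by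
        have := hle t
        rcases Nat.eq_zero_or_pos (N (-(t : ℤ) - 1)) with h | h
        · omega
        · have := key (-(t : ℤ) - 1) t (by omega) (by omega) h; omega
      have heq := fun (t : ℕ) (ht : t < T) => (Finset.sum_eq_zero_iff_of_nonneg hterm).1 hsum0 t (Finset.mem_range.2 ht)
      have hmT : -(T : ℤ) ≤ m₀ := by
        by_contra h'; have := hlo m₀ (by omega); omega
      set t₀ : ℕ := (-m₀ - 1).toNat with ht₀
      have ht₀' : (t₀ : ℤ) = -m₀ - 1 := by omega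
      have e1 := heq t₀ (by omega)
      rw [show (-(t₀ : ℤ) - 1) = m₀ by omega, ht₀'] at e1
      have e2 := key m₀ (-m₀) (by omega) (by omega) hpos
      have e3 : N (-m₀) = Module.finrank ℂ H := by
        by_cases hlt : t₀ + 1 < T
        · have := heq (t₀ + 1) hlt
          rw [show (-((t₀ + 1 : ℕ) : ℤ) - 1) = m₀ - 1 by push_cast; omega, hzero (m₀ - 1) (by omega),
            show ((t₀ + 1 : ℕ) : ℤ) = -m₀ by push_cast; omega] at this
          omega
        · exact hhi _ (by omega)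
      omega
    · intro hw V hV hiso
      by_contra hcon
      obtain ⟨Hs, m, hint, hsum, hne, hpairs⟩ := to_weights q s hq hq0 V hV hiso
      obtain ⟨i, j, hij, hle⟩ := hw (Fin 3) Hs m hint hsum hne
      have := hpairs i j hij
      omega
  · constructor
    · intro hss ι _ _ Hs m hint hsum hne
      by_contra hcon
      push Not at hcon
      obtain ⟨N, hmono, hle, ⟨m₀, hm₀, hpos, hzero⟩, hQ, T, hhi, hlo, hsum0⟩ :=
        of_subspaces q (fun a => a < 0) (fun v k => v + k < Module.finrank ℂ H) (fun a b hab hb => hab.trans_lt hb)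
          hss ι Hs m hint hsum hne (fun i j hij x hx y hy => by
            by_contra h0; exact absurd (hcon i j ⟨x, hx, y, hy, h0⟩) (by omega))
      have hterm : ∀ t : ℕ, (0 : ℤ) ≤ (Module.finrank ℂ H : ℤ) - N t - N (-(t : ℤ) - 1) ∧
          (0 < N (-(t : ℤ) - 1) → (0 : ℤ) < (Module.finrank ℂ H : ℤ) - N t - N (-(t : ℤ) - 1)) := fun t => by
        have := hle t
        rcases Nat.eq_zero_or_pos (N (-(t : ℤ) - 1)) with h | h
        · exact ⟨by omega, fun h' => by omega⟩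
        · obtain ⟨v, k, hvk, hv, hk⟩ := hQ (-(t : ℤ) - 1) t (by omega) (by omega) h
          exact ⟨by omega, fun _ => by omega⟩
      have hmT : -(T : ℤ) ≤ m₀ := by
        by_contra h'; have := hlo m₀ (by omega); omega
      have : (0 : ℤ) < ∑ t ∈ Finset.range T, ((Module.finrank ℂ H : ℤ) - N t - N (-(t : ℤ) - 1)) :=
        Finset.sum_pos' (fun t _ => (hterm t).1) ⟨(-m₀ - 1).toNat, Finset.mem_range.2 (by omega),
          (hterm _).2 (by rwa [show (-(((-m₀ - 1).toNat : ℕ) : ℤ) - 1) = m₀ by omega])⟩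
      omega
    · intro hw V hV hiso
      by_contra hcon
      obtain ⟨Hs, m, hint, hsum, hne, hpairs⟩ := to_weights q s hq hq0 V hV hiso
      obtain ⟨i, j, hij, hle⟩ := hw (Fin 3) Hs m hint hsum hne
      have := hpairs i j hij
      omega

end Groth.Agent.S15159
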