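import Groth.Statements.S15160
import Groth.Agent.SubDesc5.Main
import Groth.Agent.FlatMorAdm.LocFreeApps
import Groth.Agent.EGA43.Limit.Basic


set_option autoImplicit false
set_option linter.all false
set_option backward.isDefEq.respectTransparency.types false
set_option maxHeartbeats 1000000
open Groth.Agent Groth.Agent.Coherent Groth.Agent.PicLib
open CategoryTheory CategoryTheory.Limits AlgebraicGeometry
open VBCurve

namespace Groth.Agent.S15160

/-- Let π : X → Y be a ramified double cover of smooth proper integral curves over the complex numbers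
(π finite flat of constant rank 2 over the complex numbers and not étale) with covering involution σ
(σ ∘ σ = id, σ ≠ id, π ∘ σ = π), E a finite locally free module of rank r ≥ 1 on Y and i : F → π^*E
a subbundle (a monomorphism whose cokernel is finite locally free). Then F descends to Y as a
subbundle of E — there are a monomorphism i' : F' → E and an isomorphism π^*F' ≅ F carrying π^*i' to
i — if and only if the canonical linearization σ^*π^*E ≅ π^*E, induced by π ∘ σ = π, restricts to a
morphism σ^*F → F. -/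
theorem result
    (X Y : Scheme.{0}) [X.Over (Spec (CommRingCat.of ℂ))] [Y.Over (Spec (CommRingCat.of ℂ))]
    [IsIntegral X] [IsProper (X ↘ Spec (CommRingCat.of ℂ))] [Smooth (X ↘ Spec (CommRingCat.of ℂ))] (hdimX : topologicalKrullDim X = 1)
    [IsIntegral Y] [IsProper (Y ↘ Spec (CommRingCat.of ℂ))] [Smooth (Y ↘ Spec (CommRingCat.of ℂ))] (hdimY : topologicalKrullDim Y = 1)
    (π : X ⟶ Y) [IsFinite π] [Flat π] (hπ : π ≫ (Y ↘ Spec (CommRingCat.of ℂ)) = X ↘ Spec (CommRingCat.of ℂ))
    (hrk : ∀ y : ↥Y, Scheme.Hom.finrank π y = 2) (hram : ¬ Etale π)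
    (σ : X ⟶ X) (hσS : σ ≫ (X ↘ Spec (CommRingCat.of ℂ)) = X ↘ Spec (CommRingCat.of ℂ)) (hσ : σ ≫ σ = 𝟙 X) (hσ1 : σ ≠ 𝟙 X) (hσπ : σ ≫ π = π)
    (r : ℕ) (hr : 0 < r) (E : Y.Modules) (hE : FlatMod.IsFinLocFreeOfRank r E)
    (F : X.Modules) (i : F ⟶ (Scheme.Modules.pullback π).obj E) [Mono i]
    (hsub : FlatMod.IsFinLocFree (cokernel i)) :
    (∃ (F' : Y.Modules) (i' : F' ⟶ E) (e : (Scheme.Modules.pullback π).obj F' ≅ F),
        Mono i' ∧ e.hom ≫ i = (Scheme.Modules.pullback π).map i') ↔
    ∃ j : (Scheme.Modules.pullback σ).obj F ⟶ F,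
      j ≫ i = (Scheme.Modules.pullback σ).map i ≫ (Scheme.Modules.pullbackComp σ π).hom.app E ≫
        (Scheme.Modules.pullbackCongr hσπ).hom.app E := by
  constructor
  · rintro ⟨F', i', e, hi', he⟩
    refine ⟨(Scheme.Modules.pullback σ).map e.inv ≫ SubDesc5.lin π σ hσπ F' ≫ e.hom, ?_⟩
    have h1 : i = e.inv ≫ (Scheme.Modules.pullback π).map i' := by rw [← he, Iso.inv_hom_id_assoc]
    rw [Category.assoc, Category.assoc, he, h1, Functor.map_comp, Category.assoc]
    congr 1
    simp only [SubDesc5.lin, Category.assoc]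
    have n1 := (Scheme.Modules.pullbackComp σ π).hom.naturality i'
    have n2 := (Scheme.Modules.pullbackCongr hσπ).hom.naturality i'
    rw [← n2, ← Category.assoc, ← n1, Category.assoc]
    rfl
  · rintro ⟨j, hj⟩
    haveI : X.IsSeparated := ⟨by
      rw [show terminal.from X = (X ↘ Spec (CommRingCat.of ℂ)) ≫ terminal.from _ from terminal.hom_ext _ _]
      infer_instance⟩
    haveI : LocallyOfFinitePresentation π := by
      haveI : LocallyOfFinitePresentation (π ≫ (Y ↘ Spec (CommRingCat.of ℂ))) := by rw [hπ]; infer_instance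
      exact EGA43.Limit.locallyOfFinitePresentation_of_comp π (Y ↘ Spec (CommRingCat.of ℂ))
    let q : (Scheme.Modules.pullback π).obj E ⟶ cokernel i := cokernel.π i
    have hEq : Coh.IsQCoh ((Scheme.Modules.pullback π).obj E) :=
      CAlgH3.LocFreeFactor.isQCoh_of_finLocFree (FlatMorAdm.isFinLocFree_pullback π (LocFreeLib.isFinLocFree_of_rank hE))
    have hQq : Coh.IsQCoh (cokernel i) := CAlgH3.LocFreeFactor.isQCoh_of_finLocFree hsub
    have hP := DQCoh.isFinLocFree_push π ⟨inferInstance, inferInstance, inferInstance⟩ hsub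
    let φ := ((Scheme.Modules.pullbackPushforwardAdjunction π).homEquiv _ _) q
    let ψ := (Scheme.Modules.pullback π).map φ
    let t : kernel q ≅ F :=
      { hom := Abelian.monoLift i (kernel.ι q) (kernel.condition q)
        inv := kernel.lift q i (cokernel.condition i)
        hom_inv_id := by rw [← cancel_mono (kernel.ι q), Category.assoc, kernel.lift_ι, Category.id_comp, Abelian.monoLift_comp]
        inv_hom_id := by rw [← cancel_mono i, Category.assoc, Abelian.monoLift_comp, kernel.lift_ι, Category.id_comp] }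
    haveI : Coh.IsQCoh (kernel q) := isQCoh_kernel q
    have hz : kernel.ι q ≫ ψ = 0 := RelVALib.hom_eq_zero_of_affine_cover _ fun x => by
      obtain ⟨V, hxV, hV⟩ := DblCov8.exists_good π hrk (π x)
      obtain ⟨U₁, n₁, e₁, hx₁, he₁⟩ := exists_isBasisOn (LocFreeLib.isFinLocFree_of_rank hE) (π x)
      obtain ⟨U₂, n₂, e₂, hx₂, he₂⟩ := exists_isBasisOn hP (π x)
      obtain ⟨a, ha, hxa⟩ := hV.affine.exists_basicOpen_le (V := U₁ ⊓ U₂) ⟨π x, hx₁, hx₂⟩ hxV
      haveI hne : Nonempty (Y.basicOpen a).toScheme := ⟨⟨π x, hxa⟩⟩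
      haveI : IsDomain Γ(Y, Y.basicOpen a) := IsIntegral.component_integral _
      obtain ⟨hU, -⟩ := DblCov8.loc_data π hV a inferInstance
      refine ⟨π ⁻¹ᵁ Y.basicOpen a, hxa, hU.affine.preimage π, fun m => ?_⟩
      have hne' : Nonempty ↥(π ⁻¹ᵁ Y.basicOpen a) := ⟨⟨x, hxa⟩⟩
      haveI : Nonempty (π ⁻¹ᵁ Y.basicOpen a).toScheme := hne'
      have h2 : (2 : Γ(X, π ⁻¹ᵁ Y.basicOpen a)) ≠ 0 := by
        let g : ℂ →+* Γ(X, π ⁻¹ᵁ Y.basicOpen a) :=
          ((Scheme.ΓSpecIso (CommRingCat.of ℂ)).inv ≫ (X ↘ Spec (CommRingCat.of ℂ)).appLE ⊤ _ le_top).hom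
        rw [← map_ofNat g 2]
        exact (((two_ne_zero : (2 : ℂ) ≠ 0).isUnit).map g).ne_zero
      have hti : t.hom ≫ i = kernel.ι q := Abelian.monoLift_comp i _ _
      refine SubDesc5.app_eq_zero π σ hσπ hσ1 hσ (kernel.ι q)
        ((Scheme.Modules.pullback σ).map t.hom ≫ j ≫ t.inv) ?_ q (kernel.condition q) hU ⟨⟨π x, hxa⟩⟩ hne' h2
        (CAlgH3.LocFreeFactor.IsBasisOn.mono he₁ (ha.trans inf_le_left))
        (CAlgH3.LocFreeFactor.IsBasisOn.mono he₂ (ha.trans inf_le_right)) m
      have : (t.inv ≫ kernel.ι q) = i := by rw [← hti, Iso.inv_hom_id_assoc]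
      rw [Category.assoc, Category.assoc, this, hj, ← hti, Functor.map_comp, Category.assoc]
      rfl
    haveI : PreservesFiniteLimits (Scheme.Modules.pullback π) := DCat.FlatPull.preservesFiniteLimits_pullback π
    let i' := kernel.ι φ
    have h0 : (Scheme.Modules.pullback π).map i' ≫ q = 0 := by
      have : q = ψ ≫ (Scheme.Modules.pullbackPushforwardAdjunction π).counit.app _ :=
        (((Scheme.Modules.pullbackPushforwardAdjunction π).homEquiv _ _).symm_apply_apply q).symm.trans
          (Adjunction.homEquiv_counit _ _ _ _)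
      rw [this, ← Category.assoc, ← Functor.map_comp, kernel.condition, Functor.map_zero, zero_comp]
    have hi0 : i ≫ ψ = 0 := by
      have hti : t.hom ≫ i = kernel.ι q := Abelian.monoLift_comp i _ _
      refine (congrArg (· ≫ ψ) ((t.inv_hom_id_assoc i).symm.trans (congrArg (t.inv ≫ ·) hti))).trans ?_
      rw [Category.assoc, hz, comp_zero]
    have hlim := isLimitOfHasKernelOfPreservesLimit (Scheme.Modules.pullback π) φ
    let back : F ⟶ (Scheme.Modules.pullback π).obj (kernel φ) := hlim.lift (KernelFork.ofι i hi0)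
    have hback : back ≫ (Scheme.Modules.pullback π).map i' = i := hlim.fac _ WalkingParallelPair.zero
    haveI : Mono ((Scheme.Modules.pullback π).map i') := inferInstance
    refine ⟨kernel φ, i', ⟨Abelian.monoLift i ((Scheme.Modules.pullback π).map i') h0, back, ?_, ?_⟩,
      inferInstance, Abelian.monoLift_comp i _ _⟩
    · rw [← cancel_mono ((Scheme.Modules.pullback π).map i'), Category.assoc, hback, Category.id_comp,
        Abelian.monoLift_comp]
    · rw [← cancel_mono i, Category.assoc, Abelian.monoLift_comp, hback, Category.id_comp]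

end Groth.Agent.S15160
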