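import Groth.Statements.S15161
import Groth.Agent.DblStab5.Canonical
import Groth.Agent.EGA43.Limit.Basic
import Groth.Agent.SGA3cLib.CentralDescent
import Groth.Agent.AbVarLib.GeomIntegralSmooth


set_option autoImplicit false
set_option linter.all false
set_option backward.isDefEq.respectTransparency.types false
open Groth.Agent
open CategoryTheory CategoryTheory.Limits AlgebraicGeometry
open Curves

namespace Groth.Agent.S15161

/-- Let X be a smooth proper integral curve of genus at least 2 over the complex numbers with an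
involution σ ≠ id over the complex numbers, and π : X → Y its quotient double cover (Y a smooth
proper integral curve, π finite flat of constant rank 2 over the complex numbers, π ∘ σ = π;
ramified or étale). If D is an O_Y-module with π_*O_X ≅ O_Y ⊕ D, then there is an invertible
O_Y-module Δ with Δ ⊗ D ≅ O_Y such that π^*(Ω_Y ⊗ Δ) ≅ Ω_X, where Ω denotes differentials over the
complex numbers (existence of isomorphisms only). -/
theorem result
    (X Y : Scheme.{0}) [X.Over (Spec (CommRingCat.of ℂ))] [Y.Over (Spec (CommRingCat.of ℂ))]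
    [IsIntegral X] [IsProper (X ↘ Spec (CommRingCat.of ℂ))] [Smooth (X ↘ Spec (CommRingCat.of ℂ))] (hdimX : topologicalKrullDim X = 1)
    (hg : 2 ≤ Curv2.genus ℂ X)
    [IsIntegral Y] [IsProper (Y ↘ Spec (CommRingCat.of ℂ))] [Smooth (Y ↘ Spec (CommRingCat.of ℂ))] (hdimY : topologicalKrullDim Y = 1)
    (σ : X ⟶ X) (hσS : σ ≫ (X ↘ Spec (CommRingCat.of ℂ)) = X ↘ Spec (CommRingCat.of ℂ)) (hσ : σ ≫ σ = 𝟙 X) (hσ1 : σ ≠ 𝟙 X)
    (π : X ⟶ Y) [IsFinite π] [Flat π] (hπ : π ≫ (Y ↘ Spec (CommRingCat.of ℂ)) = X ↘ Spec (CommRingCat.of ℂ))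
    (hrk : ∀ y : ↥Y, Scheme.Hom.finrank π y = 2) (hσπ : σ ≫ π = π)
    (D : Y.Modules)
    (hD : Nonempty ((Scheme.Modules.pushforward π).obj (Coh.structureModule X) ≅ Coh.structureModule Y ⊞ D)) :
    ∃ Δ : Y.Modules, PicF.IsInvertible Δ ∧ Nonempty (CohB1.tensorMod Δ D ≅ Coh.structureModule Y) ∧
      Nonempty ((Scheme.Modules.pullback π).obj (CohB1.tensorMod (Omega.sheaf (Y ↘ Spec (CommRingCat.of ℂ))) Δ) ≅
        Omega.sheaf (X ↘ Spec (CommRingCat.of ℂ))) := by
  haveI : GeometricallyConnected (X ↘ Spec (CommRingCat.of ℂ)) :=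
    SGA3cLib.CentralDescent.geometricallyConnected_of_isAlgClosed _
  haveI : GeometricallyIntegral (X ↘ Spec (CommRingCat.of ℂ)) := AbVarLib.geometricallyIntegral_of_smooth _
  haveI : GeometricallyConnected (Y ↘ Spec (CommRingCat.of ℂ)) :=
    SGA3cLib.CentralDescent.geometricallyConnected_of_isAlgClosed _
  haveI : GeometricallyIntegral (Y ↘ Spec (CommRingCat.of ℂ)) := AbVarLib.geometricallyIntegral_of_smooth _
  haveI := CurveRR24.isLocallyNoetherian_of_proper ℂ (X := X)
  haveI := CurveRR24.isLocallyNoetherian_of_proper ℂ (X := Y)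
  haveI : LocallyOfFinitePresentation π := by
    haveI : LocallyOfFinitePresentation (π ≫ (Y ↘ Spec (CommRingCat.of ℂ))) := by rw [hπ]; infer_instance
    exact EGA43.Limit.locallyOfFinitePresentation_of_comp π (Y ↘ Spec (CommRingCat.of ℂ))
  obtain ⟨e⟩ := hD
  exact DblStab5.exists_descent_omega_biprod π hrk ℂ hdimX hdimY hπ e

end Groth.Agent.S15161
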