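import Groth.Statements.S15164
import Groth.Agent.BddFinLib.Isometry
import Mathlib.Algebra.CharP.Lemmas
import Mathlib.Algebra.CharP.Algebra
import Mathlib.Tactic

set_option autoImplicit false
universe u v
open BddFin

namespace Groth.Agent.S15164

/-- Let K be a field of characteristic p > 2, V a finite-dimensional K-vector space and q a quadratic
form on V that does not represent zero (q x = 0 only for x = 0). Then the group of K-linear
automorphisms of V preserving q has no element of order p: if g preserves q and g ^ p = 1 then g =
1. (Non-degeneracy of q, also assumed in the published statement, follows from anisotropy since 2 is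
invertible, so it is not repeated here.) -/
theorem result
    (K : Type u) [Field K] (p : ℕ) [Fact p.Prime] [CharP K p] (hp : p ≠ 2)
    (V : Type v) [AddCommGroup V] [Module K V] [FiniteDimensional K V]
    (q : QuadraticForm K V) (hq : q.Anisotropic)
    (g : V ≃ₗ[K] V) (hg : ∀ x : V, q (g x) = q x) (hgp : g ^ p = 1) : g = 1 := by
  have h2 : (2 : K) ≠ 0 := fun h => by
    rw [show (2 : K) = ((2 : ℕ) : K) by norm_num, CharP.cast_eq_zero_iff K p] at h
    exact hp ((Nat.prime_dvd_prime_iff_eq Fact.out Nat.prime_two).1 h)
  have hf : (g.toLinearMap : Module.End K V) = 1 := by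
    refine Groth.Agent.BddFinLib.eq_one_of_isNilpotent_sub_one h2 hq _ hg ⟨p, ?_⟩
    rcases subsingleton_or_nontrivial V with h | h
    · exact LinearMap.ext fun x => Subsingleton.elim _ _
    haveI : CharP (Module.End K V) p := charP_of_injective_algebraMap (algebraMap K (Module.End K V)).injective p
    rw [sub_pow_char_of_commute _ (Commute.one_right _), one_pow, sub_eq_zero]
    exact (map_pow (LinearEquiv.automorphismGroup.toLinearMapMonoidHom) g p).symm.trans (by rw [hgp, map_one])
  exact LinearEquiv.toLinearMap_injective hf

end Groth.Agent.S15164
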