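import Groth.Statements.S15165
import Groth.Agent.BddFinLib.Isometry
import Mathlib.LinearAlgebra.Eigenspace.Minpoly
import Mathlib.FieldTheory.Minpoly.Field
import Mathlib.Tactic

set_option autoImplicit false
universe u v
open Polynomial
open BddFin

namespace Groth.Agent.S15165

/-- Let K be a field of characteristic different from 2 such that K contains all roots of unity (for
every n ≥ 1 the polynomial X^n − 1 splits into linear factors over K), V a finite-dimensional
K-vector space and q a quadratic form on V that does not represent zero. If a K-linear automorphism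
g of V preserves q and has finite order (g ^ d = 1 for some d ≥ 1), then g ^ 2 = 1. (The published
statement also covers perfect fields of characteristic 2; this row is the case of characteristic ≠
2.) -/
theorem result
    (K : Type u) [Field K] (hK : ∀ n : ℕ, 0 < n → (X ^ n - 1 : K[X]).Splits) (h2 : (2 : K) ≠ 0)
    (V : Type v) [AddCommGroup V] [Module K V] [FiniteDimensional K V]
    (q : QuadraticForm K V) (hq : q.Anisotropic)
    (g : V ≃ₗ[K] V) (hg : ∀ x : V, q (g x) = q x) (d : ℕ) (hd : 0 < d) (hgd : g ^ d = 1) :
    g ^ 2 = 1 := by
  classical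
  let f : Module.End K V := g.toLinearMap
  have hfd : f ^ d = 1 :=
    (map_pow (LinearEquiv.automorphismGroup.toLinearMapMonoidHom) g d).symm.trans (by rw [hgd, map_one])
  have hann : aeval f (X ^ d - 1 : K[X]) = 0 := by simp [hfd]
  have hsplit : (minpoly K f).Splits :=
    (hK d hd).of_dvd (by simpa using X_pow_sub_C_ne_zero hd (1 : K)) (minpoly.dvd K f hann)
  have hnil : IsNilpotent (f ^ 2 - 1) := by
    refine ⟨(minpoly K f).roots.card, ?_⟩
    have hdvd : minpoly K f ∣ (X ^ 2 - 1 : K[X]) ^ (minpoly K f).roots.card := by
      refine (dvd_of_eq (hsplit.eq_prod_roots_of_monic (minpoly.monic (Algebra.IsIntegral.isIntegral f)))).trans ?_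
      have key : ∀ (s : Multiset K) (Q : K[X]), (∀ a ∈ s, X - C a ∣ Q) → (s.map fun a => X - C a).prod ∣ Q ^ s.card := by
        intro s Q
        induction s using Multiset.induction_on with
        | empty => intro; simp
        | cons a s ih =>
          intro h
          rw [Multiset.map_cons, Multiset.prod_cons, Multiset.card_cons, pow_succ']
          exact mul_dvd_mul (h a (Multiset.mem_cons_self a s)) (ih fun b hb => h b (Multiset.mem_cons_of_mem hb))
      refine key _ _ fun a ha => ?_
      · obtain ⟨v, hv⟩ := (Module.End.hasEigenvalue_of_isRoot (isRoot_of_mem_roots ha)).exists_hasEigenvector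
        have hfv : f v = a • v := hv.apply_eq_smul
        have h1 := hg v
        rw [show g v = a • v from hfv, QuadraticMap.map_smul, smul_eq_mul] at h1
        have hqv : q v ≠ 0 := fun h => hv.2 (hq v h)
        have ha2 : a * a = 1 := mul_right_cancel₀ hqv (h1.trans (one_mul _).symm)
        refine ⟨X + C a, ?_⟩
        rw [show (X - C a) * (X + C a) = X ^ 2 - C (a * a) by rw [map_mul]; ring, ha2, map_one]
    obtain ⟨c, hc⟩ := hdvd
    have := congrArg (aeval f) hc
    rw [map_mul, minpoly.aeval, zero_mul] at this
    simpa using this
  have hsq : f ^ 2 = 1 := Groth.Agent.BddFinLib.eq_one_of_isNilpotent_sub_one h2 hq _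
    (fun x => by
      rw [pow_two, Module.End.mul_apply]
      exact (hg _).trans (hg x)) hnil
  exact LinearEquiv.toLinearMap_injective ((map_pow (LinearEquiv.automorphismGroup.toLinearMapMonoidHom) g 2).trans hsq)

end Groth.Agent.S15165
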