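import Groth.Statements.S15166
import Groth.Agent.S15165
import Groth.Agent.BddFinLib.Involutions

set_option autoImplicit false
universe u v
open Polynomial
open BddFin

namespace Groth.Agent.S15166

/-- Let K be a field of characteristic different from 2 such that K contains all roots of unity (for
every n ≥ 1 the polynomial X^n − 1 splits into linear factors over K), V a finite-dimensional
K-vector space and q a quadratic form on V that does not represent zero. Then every finite subgroup
of the group of K-linear automorphisms of V preserving q is abelian and has order at most 2 ^ (dim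
V). (The published statement also covers perfect fields of characteristic 2; this row is the case of
characteristic ≠ 2.) -/
theorem result
    (K : Type u) [Field K] (hK : ∀ n : ℕ, 0 < n → (X ^ n - 1 : K[X]).Splits) (h2 : (2 : K) ≠ 0)
    (V : Type v) [AddCommGroup V] [Module K V] [FiniteDimensional K V]
    (q : QuadraticForm K V) (hq : q.Anisotropic)
    (G : Subgroup (V ≃ₗ[K] V)) [Finite G] (hG : ∀ g ∈ G, ∀ x : V, q (g x) = q x) :
    (∀ g ∈ G, ∀ h ∈ G, g * h = h * g) ∧ Nat.card G ≤ 2 ^ Module.finrank K V := by
  have hsq : ∀ g ∈ G, g * g = 1 := by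
    intro g hg
    obtain ⟨d, hd, hgd⟩ := isOfFinOrder_iff_pow_eq_one.1
      (Submonoid.isOfFinOrder_coe.2 (isOfFinOrder_of_finite (⟨g, hg⟩ : G)))
    rw [← pow_two]
    exact Groth.Agent.S15165.result K hK h2 V q hq g (hG g hg) d hd hgd
  have hcomm : ∀ g ∈ G, ∀ h ∈ G, g * h = h * g := by
    intro g hg h hh
    have hi : ∀ a ∈ G, a⁻¹ = a := fun a ha => inv_eq_of_mul_eq_one_left (hsq a ha)
    rw [← hi _ (G.mul_mem hg hh), mul_inv_rev, hi g hg, hi h hh]
  refine ⟨hcomm, ?_⟩
  let φ := LinearEquiv.automorphismGroup.toLinearMapMonoidHom (R := K) (M := V)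
  let S : Set (Module.End K V) := φ '' (G : Set (V ≃ₗ[K] V))
  have hinj : Function.Injective φ := LinearEquiv.toLinearMap_injective
  have hS : Nat.card S = Nat.card G := Nat.card_image_of_injective hinj _
  rw [← hS]
  refine Groth.Agent.BddFinLib.card_le_two_pow h2 _ rfl S ?_ ?_ ?_
  · exact Set.Finite.to_subtype (Set.Finite.image _ (Set.toFinite _))
  · rintro _ ⟨g, hg, rfl⟩
    rw [← map_mul, hsq g hg, map_one]
  · rintro _ ⟨g, hg, rfl⟩ _ ⟨h, hh, rfl⟩
    rw [← map_mul, ← map_mul, hcomm g hg h hh]

end Groth.Agent.S15166
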