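import Groth.Statements.S15167
import Groth.Agent.BddFinLib.Kummer

set_option autoImplicit false
universe u v
open Polynomial
open BddFin

namespace Groth.Agent.S15167

/-- Let K be a field such that K contains all roots of unity (for every n ≥ 1 the polynomial X^n − 1
splits into linear factors over K), A a central simple K-algebra of dimension n ^ 2, and x an
invertible element of A some power x ^ m (m ≥ 1) of which lies in K. Then there are a positive
integer r dividing n and elements a_i of K such that the minimal polynomial of x over K is the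
product of the polynomials X ^ r − a_i. -/
theorem result
    (K : Type u) [Field K] (hK : ∀ n : ℕ, 0 < n → (X ^ n - 1 : K[X]).Splits)
    (A : Type v) [Ring A] [Algebra K A] [Algebra.IsCentral K A] [IsSimpleRing A] [FiniteDimensional K A]
    (n : ℕ) (hn : Module.finrank K A = n ^ 2)
    (x : A) (hx : IsUnit x) (hxm : ∃ m : ℕ, 0 < m ∧ x ^ m ∈ (algebraMap K A).range) :
    ∃ r : ℕ, 0 < r ∧ r ∣ n ∧ ∃ s : Multiset K, minpoly K x = (s.map fun a : K => X ^ r - C a).prod := by
  haveI : Groth.Agent.CSA.IsCSA K A := {}
  obtain ⟨m, hm, c, hc⟩ := hxm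
  have hc0 : c ≠ 0 := by rintro rfl; rw [map_zero] at hc; exact not_isUnit_zero (hc ▸ hx.pow m)
  obtain ⟨r, hr, hdvd, hs, -⟩ := Groth.Agent.BddFinLib.exists_degree hK x hm hc0 hc.symm
  exact ⟨r, hr, Groth.Agent.CSA.deg_unique (k := K) (A := A) hn.symm ▸ hdvd, hs⟩

end Groth.Agent.S15167
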