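import Groth.Statements.S15168
import Groth.Agent.BddFinLib.Kummer

set_option autoImplicit false
universe u v
open Polynomial
open BddFin

namespace Groth.Agent.S15168

/-- Let K be a field such that K contains all roots of unity (for every n ≥ 1 the polynomial X^n − 1
splits into linear factors over K), A a central division algebra of dimension n ^ 2 over K, and x an
element of A some power x ^ m (m ≥ 1) of which lies in K. Then x ^ n lies in K; that is, the order
of the class of x in the quotient of the unit group of A by that of K divides n. -/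
theorem result
    (K : Type u) [Field K] (hK : ∀ n : ℕ, 0 < n → (X ^ n - 1 : K[X]).Splits)
    (A : Type v) [DivisionRing A] [Algebra K A] [Algebra.IsCentral K A] [FiniteDimensional K A]
    (n : ℕ) (hn : Module.finrank K A = n ^ 2)
    (x : A) (hxm : ∃ m : ℕ, 0 < m ∧ x ^ m ∈ (algebraMap K A).range) :
    x ^ n ∈ (algebraMap K A).range := by
  haveI : Groth.Agent.CSA.IsCSA K A := {}
  have hn0 : 0 < n := Nat.pos_of_ne_zero fun h => (Module.finrank_pos (R := K) (M := A)).ne' (by simp [hn, h])
  rcases eq_or_ne x 0 with rfl | hx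
  · exact ⟨0, by rw [map_zero, zero_pow hn0.ne']⟩
  obtain ⟨m, hm, c, hc⟩ := hxm
  have hc0 : c ≠ 0 := by rintro rfl; rw [map_zero] at hc; exact pow_ne_zero m hx hc.symm
  obtain ⟨r, hr, hdvd, ⟨s, hs⟩, -⟩ := Groth.Agent.BddFinLib.exists_degree hK x hm hc0 hc.symm
  obtain ⟨j, rfl⟩ := Groth.Agent.CSA.deg_unique (k := K) (A := A) hn.symm ▸ hdvd
  have h0 : (Polynomial.aeval x) (s.map fun a : K => X ^ r - C a).prod = 0 := hs ▸ minpoly.aeval K x
  obtain ⟨a, -, ha⟩ : ∃ a ∈ s, x ^ r - algebraMap K A a = 0 := by
    clear hs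
    induction s using Multiset.induction_on with
    | empty => simp at h0
    | cons a s ih =>
      rw [Multiset.map_cons, Multiset.prod_cons, map_mul, mul_eq_zero] at h0
      rcases h0 with h0 | h0
      · exact ⟨a, Multiset.mem_cons_self a s, by simpa using h0⟩
      · obtain ⟨b, hb, hb'⟩ := ih h0
        exact ⟨b, Multiset.mem_cons_of_mem hb, hb'⟩
  exact ⟨a ^ j, by rw [map_pow, ← sub_eq_zero.1 ha, pow_mul]⟩

end Groth.Agent.S15168
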