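import Groth.Statements.S1517
import Mathlib.RingTheory.SimpleRing.Basic
import Mathlib.RingTheory.TwoSidedIdeal.Operations

set_option autoImplicit false
universe u
open Brauer

namespace Groth.Agent.S1517

/-- Let A be a ring with no nontrivial two-sided ideals and M a nonzero right ideal, viewed as a right
A-module with endomorphism ring A'. Then every A'-linear endomorphism of M is right multiplication
by exactly one element of A; that is, the natural map from A to the bicommutant of M is a bijection. -/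
theorem result (A : Type u) [Ring A] [IsSimpleRing A]
    (M : Submodule Aᵐᵒᵖ A) (hM : M ≠ ⊥)
    (g : Module.End (Module.End Aᵐᵒᵖ M) M) :
    ∃! a : A, ∀ m : M, (g m : A) = (m : A) * a := by
  have hmul : ∀ (m : A), m ∈ M → ∀ x : A, m * x ∈ M := fun m hm x =>
    M.smul_mem (MulOpposite.op x) hm
  let S : Set A := {z | ∀ x r : A, ∃ w : A, ∀ y : M, (y : A) * w =
    (g ⟨(y : A) * (x * z * r), hmul _ y.2 _⟩ : A)}
  let J : TwoSidedIdeal A := TwoSidedIdeal.mk' S
    (fun x r => ⟨0, fun y => by
      have : (⟨(y : A) * (x * 0 * r), hmul _ y.2 _⟩ : M) = 0 := Subtype.ext (by simp)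
      rw [this, map_zero, mul_zero, ZeroMemClass.coe_zero]⟩)
    (fun {a b} ha hb x r => by
      obtain ⟨u, hu⟩ := ha x r
      obtain ⟨v, hv⟩ := hb x r
      refine ⟨u + v, fun y => ?_⟩
      rw [mul_add, hu, hv, ← Submodule.coe_add, ← map_add]
      exact congrArg (fun t => (g t : A)) (Subtype.ext (by simp [mul_add, add_mul])))
    (fun {a} ha x r => by
      obtain ⟨u, hu⟩ := ha x r
      refine ⟨-u, fun y => ?_⟩
      rw [mul_neg, hu, ← Submodule.coe_neg, ← map_neg]
      exact congrArg (fun t => (g t : A)) (Subtype.ext (by simp)))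
    (fun {c a} ha x r => by
      obtain ⟨u, hu⟩ := ha (x * c) r
      exact ⟨u, fun y => (hu y).trans (congrArg (fun t => (g t : A)) (Subtype.ext (by simp [mul_assoc])))⟩)
    (fun {a c} ha x r => by
      obtain ⟨u, hu⟩ := ha x (c * r)
      exact ⟨u, fun y => (hu y).trans (congrArg (fun t => (g t : A)) (Subtype.ext (by simp [mul_assoc])))⟩)
  have hMJ : ∀ m ∈ M, m ∈ J := by
    intro m hm
    rw [TwoSidedIdeal.mem_mk']
    intro x r
    refine ⟨x * (g ⟨m * r, hmul m hm r⟩ : A), fun y => ?_⟩
    let f : Module.End Aᵐᵒᵖ M :=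
      { toFun := fun z => ⟨(y : A) * x * (z : A), hmul _ (hmul _ y.2 _) _⟩
        map_add' := fun a b => Subtype.ext (mul_add _ _ _)
        map_smul' := fun a b => Subtype.ext (mul_assoc _ _ _).symm }
    rw [← mul_assoc]
    refine (congrArg Subtype.val (g.map_smul f ⟨m * r, hmul m hm r⟩)).symm.trans ?_
    exact congrArg (fun t => (g t : A)) (Subtype.ext (show (y : A) * x * (m * r) = _ by simp [mul_assoc]))
  have h1 : (1 : A) ∈ J := by
    obtain ⟨m, hm, hm0⟩ := (Submodule.ne_bot_iff M).1 hM
    exact IsSimpleRing.one_mem_of_ne_zero_mem _ hm0 (hMJ m hm)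
  rw [TwoSidedIdeal.mem_mk'] at h1
  obtain ⟨w, hw⟩ := h1 1 1
  have hw' : ∀ y : M, (g y : A) = (y : A) * w := fun y => by
    rw [hw y]; exact congrArg (fun t => (g t : A)) (Subtype.ext (by simp))
  refine ⟨w, hw', fun b hb => ?_⟩
  -- the right annihilator of `M` vanishes
  have hann : ∀ d : A, (∀ m ∈ M, m * d = 0) → d = 0 := by
    intro d hd
    let L : TwoSidedIdeal A := TwoSidedIdeal.mk' {z | ∀ x : A, ∀ m ∈ M, m * (x * z) = 0}
      (by simp) (fun {a b} ha hb x m hm => by rw [mul_add, mul_add, ha x m hm, hb x m hm, add_zero])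
      (fun {a} ha x m hm => by rw [mul_neg, mul_neg, ha x m hm, neg_zero])
      (fun {c a} ha x m hm => by rw [← mul_assoc x, ha (x * c) m hm])
      (fun {a c} ha x m hm => by rw [← mul_assoc x, ← mul_assoc, ha x m hm, zero_mul])
    have hdL : d ∈ L := by
      rw [TwoSidedIdeal.mem_mk']
      exact fun x m hm => by rw [← mul_assoc]; exact hd _ (hmul m hm x)
    by_contra hd0
    have := IsSimpleRing.one_mem_of_ne_zero_mem L hd0 hdL
    rw [TwoSidedIdeal.mem_mk'] at this
    exact hM ((Submodule.eq_bot_iff M).2 fun m hm => by simpa using this 1 m hm)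
  refine sub_eq_zero.1 (hann _ fun m hm => ?_)
  rw [mul_sub, ← hb ⟨m, hm⟩, ← hw' ⟨m, hm⟩, sub_self]
end Groth.Agent.S1517
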