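import Groth.Statements.S15172
import Mathlib.Tactic

set_option autoImplicit false
universe u v
open Polynomial
open BddFin

namespace Groth.Agent.S15172

/-- Let L be a field of characteristic p > 0 and s a finite subset of L containing 0 and closed under
addition (a finite additive subgroup). Then the polynomial f = ∏_{a ∈ s} (X - a) is additive: f (x +
y) = f x + f y for all x, y in any commutative L-algebra (equivalently, as an identity of
polynomials in two variables). -/
theorem result
    (L : Type u) [Field L] (p : ℕ) [Fact p.Prime] [CharP L p] (s : Finset L) (h0 : (0 : L) ∈ s)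
    (hadd : ∀ a ∈ s, ∀ b ∈ s, a + b ∈ s) (R : Type v) [CommRing R] [Algebra L R] (x y : R) :
    aeval (x + y) (∏ a ∈ s, (X - C a)) = aeval x (∏ a ∈ s, (X - C a)) + aeval y (∏ a ∈ s, (X - C a)) := by
  classical
  set f : L[X] := ∏ a ∈ s, (X - C a) with hf
  have hneg : ∀ a ∈ s, -a ∈ s := by
    intro a ha
    have hk : ∀ k : ℕ, (k : L) * a ∈ s := fun k => by
      induction k with
      | zero => simpa using h0
      | succ k ih => rw [Nat.cast_succ, add_mul, one_mul]; exact hadd _ ih _ ha
    have := hk (p - 1)
    rwa [Nat.cast_sub (Fact.out : p.Prime).one_le, CharP.cast_eq_zero, Nat.cast_one, zero_sub, neg_one_mul] at this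
  have hmonic : f.Monic := monic_prod_of_monic _ _ fun a _ => monic_X_sub_C a
  have hdeg : f.natDegree = s.card := natDegree_finset_prod_X_sub_C_eq_card s _ |>.trans rfl
  let Y : L[X] := X
  let F : L[X][X] := f.map (C : L →+* L[X])
  let g : L[X][X] := F.comp (X + C Y) - F - C f
  have hg : g = 0 := by
    refine Polynomial.eq_zero_of_natDegree_lt_card_of_eval_eq_zero' g (s.map ⟨C, C_injective⟩) (fun a ha => ?_) ?_
    · obtain ⟨a, has, rfl⟩ := Finset.mem_map.1 ha
      simp only [g, F, Function.Embedding.coeFn_mk, eval_sub, eval_comp, eval_add, eval_X, eval_C]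
      rw [eval_map, eval_map, eval₂_at_apply, show f.eval a = 0 by
        rw [hf, eval_prod]; exact Finset.prod_eq_zero has (by simp), map_zero, sub_zero, sub_eq_zero]
      rw [hf, eval₂_finset_prod]
      refine Finset.prod_nbij' (fun b => b + -a) (fun b => b + a) (fun b hb => hadd _ hb _ (hneg a has))
        (fun b hb => hadd _ hb _ has) (fun b _ => by ring) (fun b _ => by ring) fun b _ => ?_
      simp only [eval₂_sub, eval₂_X, eval₂_C, Y, map_add, map_neg]
      ring
    · rw [Finset.card_map, ← hdeg]
      have hF : F.natDegree = f.natDegree := natDegree_map_eq_of_injective C_injective f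
      have hFm : F.Monic := hmonic.map _
      have h1 : (F.comp (X + C Y)).Monic := hFm.comp_X_add_C Y
      have h2 : (F.comp (X + C Y)).natDegree = F.natDegree := by rw [natDegree_comp, natDegree_X_add_C, mul_one]
      have hpos : 0 < f.natDegree := by rw [hdeg]; exact Finset.card_pos.2 ⟨0, h0⟩
      rw [← hF] at hpos ⊢
      have hlt : (F.comp (X + C Y) - F).degree < F.degree := by
        refine (degree_sub_lt ?_ h1.ne_zero (by rw [h1.leadingCoeff, hFm.leadingCoeff])).trans_eq ?_
        · rw [degree_eq_natDegree h1.ne_zero, degree_eq_natDegree hFm.ne_zero, h2]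
        · rw [degree_eq_natDegree h1.ne_zero, degree_eq_natDegree hFm.ne_zero, h2]
      have : g.degree < F.degree := (degree_sub_le _ _).trans_lt (max_lt hlt
        (degree_C_le.trans_lt (by rw [degree_eq_natDegree hFm.ne_zero]; exact_mod_cast hpos)))
      rcases eq_or_ne g 0 with h | h
      · simpa [h] using hpos
      · rw [degree_eq_natDegree h, degree_eq_natDegree hFm.ne_zero] at this
        exact_mod_cast this
  let φ : L[X] →+* R := (aeval y).toRingHom
  have hφ : φ.comp (C : L →+* L[X]) = algebraMap L R := RingHom.ext fun a => aeval_C y a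
  have := congrArg (fun P : L[X][X] => P.eval₂ φ x) hg
  simp only [g, F, eval₂_sub, eval₂_comp, eval₂_add, eval₂_X, eval₂_C, eval₂_map, hφ, eval₂_zero] at this
  rw [show φ Y = y from aeval_X y, sub_sub, sub_eq_zero] at this
  exact this

end Groth.Agent.S15172
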