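import Groth.Statements.S15173
import Mathlib.RingTheory.LittleWedderburn
import Mathlib.GroupTheory.QuotientGroup.Basic
import Mathlib.GroupTheory.Finiteness
import Mathlib.GroupTheory.Torsion
import Mathlib.GroupTheory.Index
import Mathlib.Algebra.CharP.Lemmas
import Mathlib.Algebra.Central.Basic
import Mathlib.GroupTheory.FiniteAbelian.Basic
import Mathlib.Tactic

set_option autoImplicit false
universe u v
open Polynomial
open BddFin

namespace Groth.Agent.S15173

/-- Let K be a field of characteristic p > 0 such that K contains all roots of unity (for every n ≥ 1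
the polynomial X^n − 1 splits into linear factors over K), and A a finite-dimensional central
division algebra over K. If A contains an element w not in K with w ^ p in K, then the quotient of
the unit group of A by that of K has unbounded finite subgroups: for every N there is a subgroup H
of the units of A containing the units of K as a subgroup of finite index greater than N. (The
published statement assumes only that some element of A is inseparable over K and passes at once to
a purely inseparable subfield of degree p; this row assumes an element generating such a subfield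
directly, which is what the rest of the printed argument uses.) -/
theorem result
    (K : Type u) [Field K] (p : ℕ) [Fact p.Prime] [CharP K p] (hK : ∀ n : ℕ, 0 < n → (X ^ n - 1 : K[X]).Splits)
    (A : Type v) [DivisionRing A] [Algebra K A] [Algebra.IsCentral K A] [FiniteDimensional K A]
    (w : A) (hw : w ^ p ∈ (algebraMap K A).range) (hwK : w ∉ (algebraMap K A).range) (N : ℕ) :
    ∃ H : Subgroup Aˣ, (Units.map (algebraMap K A : K →* A)).range ≤ H ∧
      N < ((Units.map (algebraMap K A : K →* A)).range).relIndex H := by
  classical
  set R : Subgroup Aˣ := (Units.map (algebraMap K A : K →* A)).range with hR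
  have hcen : ∀ z ∈ R, ∀ y : Aˣ, y * z = z * y := by
    rintro z ⟨c, rfl⟩ y
    exact Units.ext (Algebra.commutes (c : K) (y : A)).symm
  haveI : R.Normal := ⟨fun z hz y => by rwa [hcen z hz y, mul_inv_cancel_right]⟩
  haveI : Infinite K := by
    by_contra hfin
    rw [not_infinite_iff_finite] at hfin
    haveI : Finite A := Module.finite_of_finite K
    have hc : w ∈ Subalgebra.center K A := Subalgebra.mem_center_iff.2 fun z => by
      letI := littleWedderburn A
      exact mul_comm z w
    rw [Algebra.IsCentral.center_eq_bot] at hc
    exact hwK (Algebra.mem_bot.1 hc)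
  have hind : ∀ a b : K, algebraMap K A a + algebraMap K A b * w = 0 → b = 0 := by
    intro a b h
    by_contra hb
    refine hwK ⟨-a / b, ?_⟩
    rw [div_eq_inv_mul, map_mul, map_neg, ← eq_neg_of_add_eq_zero_right h, ← mul_assoc, ← map_mul,
      inv_mul_cancel₀ hb, map_one, one_mul]
  haveI : CharP A p := charP_of_injective_algebraMap (algebraMap K A).injective p
  have hne : ∀ c : K, (1 + algebraMap K A c * w) ≠ 0 := fun c h => by
    have hc := hind 1 c (by rwa [map_one])
    subst hc
    simp at h
  let u : K → Aˣ := fun c => Units.mk0 _ (hne c)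
  have hucomm : ∀ a b, u a * u b = u b * u a := fun a b => Units.ext <| by
    have h1 : ∀ c : K, Commute w (algebraMap K A c * w) := fun c =>
      (Algebra.commute_algebraMap_right c w).mul_right (Commute.refl w)
    exact (((Commute.one_left _).add_left ((Commute.one_right _).add_right
      ((Algebra.commute_algebraMap_left a _).mul_left (h1 b)))).eq)
  have hup : ∀ c, u c ^ p ∈ R := by
    intro c
    obtain ⟨b, hb⟩ := hw
    have hval : ((u c ^ p : Aˣ) : A) = algebraMap K A (1 + c ^ p * b) := by
      rw [Units.val_pow_eq_pow_val, Units.val_mk0, add_pow_char_of_commute _ (Commute.one_left _), one_pow,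
        (Algebra.commute_algebraMap_left c w).mul_pow, ← hb, map_add, map_one, map_mul, map_pow]
    have h0 : 1 + c ^ p * b ≠ 0 := fun h => (u c ^ p).ne_zero (by rw [hval, h, map_zero])
    exact ⟨Units.mk0 _ h0, Units.ext hval.symm⟩
  let π := QuotientGroup.mk' R
  obtain ⟨S, hS⟩ := Infinite.exists_subset_card_eq K (N + 1)
  have hinj : Set.InjOn (fun c => π (u c)) (S : Set K) := by
    intro a _ b _ h
    obtain ⟨z, ⟨l, rfl⟩, hz⟩ := (QuotientGroup.mk'_eq_mk' R).1 h
    have h1 : (1 + algebraMap K A a * w) * algebraMap K A (l : K) = 1 + algebraMap K A b * w := congrArg Units.val hz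
    have h2 : algebraMap K A ((l : K) - 1) + algebraMap K A ((l : K) * a - b) * w = 0 := by
      rw [map_sub, map_sub, map_one, map_mul, sub_mul, mul_assoc]
      have h3 : algebraMap K A (l : K) * (1 + algebraMap K A a * w) = 1 + algebraMap K A b * w :=
        (Algebra.commutes (l : K) _).trans h1
      linear_combination (norm := noncomm_ring) h3
    have h3 := hind _ _ h2
    have h4 : (l : K) - 1 = 0 := by
      rw [h3, map_zero, zero_mul, add_zero] at h2
      exact (algebraMap K A).injective (h2.trans (map_zero _).symm)
    rw [sub_eq_zero.1 h4, one_mul] at h3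
    exact sub_eq_zero.1 h3
  let T : Set (Aˣ ⧸ R) := (fun c => π (u c)) '' (S : Set K)
  let C := Subgroup.closure T
  have hmc : ∀ x ∈ T, ∀ y ∈ T, x * y = y * x := by
    rintro _ ⟨a, _, rfl⟩ _ ⟨b, _, rfl⟩
    rw [← map_mul, ← map_mul, hucomm]
  letI : CommGroup C :=
    { (inferInstance : Group C) with
      mul_comm := fun x y => Subtype.ext (Subgroup.closure_induction₂
        (p := fun x y _ _ => x * y = y * x) (fun x y hx hy => hmc x hx y hy)
        (fun x _ => by simp) (fun x _ => by simp)
        (fun x y z _ _ _ h1 h2 => (Commute.mul_left h1 h2 : Commute (x * y) z))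
        (fun x y z _ _ _ h1 h2 => (Commute.mul_right h1 h2 : Commute z (x * y)))
        (fun x y _ _ h => (Commute.inv_left h : Commute x⁻¹ y))
        (fun x y _ _ h => (Commute.inv_right h : Commute x y⁻¹)) x.2 y.2) }
  haveI : Group.FG C := (Group.fg_iff_subgroup_fg C).2
    ((Subgroup.fg_iff C).2 ⟨T, rfl, S.finite_toSet.image _⟩)
  have htor : IsMulTorsion C := by
    intro x
    rw [← Submonoid.isOfFinOrder_coe]
    have hx := x.2
    have key : ∀ g ∈ T, g ^ p = 1 := by
      rintro _ ⟨a, _, rfl⟩
      rw [← map_pow]
      exact (QuotientGroup.eq_one_iff _).2 (hup a)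
    have hp1 : (⟨x.1, hx⟩ : C) ^ p = 1 := by
      refine Subgroup.closure_induction (p := fun g hg => (⟨g, hg⟩ : C) ^ p = 1) (fun g hg => Subtype.ext (key g hg))
        (one_pow p) (fun g h hg hh h1 h2 => ?_) (fun g hg h1 => ?_) hx
      · rw [show (⟨g * h, mul_mem hg hh⟩ : C) = ⟨g, hg⟩ * ⟨h, hh⟩ from rfl, mul_pow, h1, h2, one_mul]
      · rw [show (⟨g⁻¹, inv_mem hg⟩ : C) = (⟨g, hg⟩)⁻¹ from rfl, inv_pow, h1, inv_one]
    exact isOfFinOrder_iff_pow_eq_one.2 ⟨p, (Fact.out : p.Prime).pos, congrArg Subtype.val hp1⟩
  haveI : Finite C := CommGroup.finite_of_fg_isMulTorsion C htor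
  refine ⟨C.comap π, fun z hz => ?_, ?_⟩
  · rw [Subgroup.mem_comap, show π z = 1 from (QuotientGroup.eq_one_iff z).2 hz]
    exact one_mem C
  · have hrel : R.relIndex (C.comap π) = Nat.card C := by
      have hk : π.ker = R := QuotientGroup.ker_mk' R
      calc R.relIndex (C.comap π) = π.ker.relIndex (C.comap π) := congrArg (fun H : Subgroup Aˣ => H.relIndex _) hk.symm
        _ = Nat.card C := by rw [Subgroup.relIndex_ker, Subgroup.map_comap_eq_self_of_surjective (QuotientGroup.mk'_surjective R)]
    rw [hrel]
    have h1 : Nat.card T = N + 1 := by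
      rw [Nat.card_coe_set_eq, hinj.ncard_image, Set.ncard_coe_finset, hS]
    have h2 : Nat.card T ≤ Nat.card C :=
      Nat.card_le_card_of_injective (fun t => ⟨t.1, Subgroup.subset_closure t.2⟩)
        (fun a b h => Subtype.ext (congrArg Subtype.val h :))
    omega

end Groth.Agent.S15173
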