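import Groth.Statements.S15176
import Groth.Agent.TorusGal29.Main
import Groth.Agent.S15162

set_option autoImplicit false
universe u
open CategoryTheory MonoidalCategory CartesianMonoidalCategory MonObj GrpObj AlgebraicGeometry
open Polynomial
open BddFin

namespace Groth.Agent.S15176

/-- Let K be a field such that K contains all roots of unity (for every n ≥ 1 the polynomial X^n − 1
splits into linear factors over K), and T a K-group scheme that is a 2-dimensional torus (it becomes
isomorphic, as a group scheme, to the split torus D(ℤ^2) = 𝔾_m^2 after some field extension L of K)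
and is anisotropic (no homomorphism 𝔾_m → T of K-group schemes is a monomorphism, i.e. T contains no
subtorus isomorphic to 𝔾_m); T(K) is the group of sections Spec K → T. Then torsion elements of T(K)
have order ≤ 6, and finite subgroups of T(K) have at most 36 elements. -/
theorem result
    (K : Type u) [Field K] (hK : ∀ n : ℕ, 0 < n → (X ^ n - 1 : K[X]).Splits)
    (T : Over (Spec (CommRingCat.of K))) [GrpObj T]
    (hT : ∃ (L : Type u) (_ : Field L) (_ : Algebra K L),
      Red.IsSplitTorusWith (Fin 2 → ℤ) (Red.bc (Spec.map (CommRingCat.ofHom (algebraMap K L))) T))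
    (haniso : ∀ i : Red.Gm (Spec (CommRingCat.of K)) ⟶ T, IsMonHom i → Mono i → False) :
    (∀ x : 𝟙_ (Over (Spec (CommRingCat.of K))) ⟶ T, IsOfFinOrder x → orderOf x ≤ 6) ∧
    (∀ G : Subgroup (𝟙_ (Over (Spec (CommRingCat.of K))) ⟶ T), Finite G → Nat.card G ≤ 36) := by

  obtain ⟨L, _, _, H, hH, Ψ, hinj, hinv, hfix⟩ := Groth.Agent.TorusGal29.exists_data K T hT haniso
  haveI := hH
  obtain ⟨h, hh, hdet⟩ : ∃ h ∈ H, ((h : Matrix (Fin 2) (Fin 2) ℤ) - 1).det ≠ 0 := by
    by_contra hc
    push Not at hc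
    obtain ⟨v, hv0, hv⟩ := Groth.Agent.S15162.result H fun γ hγ => by
      obtain ⟨v, hv0, hv⟩ := Matrix.exists_mulVec_eq_zero_iff.mpr (hc γ hγ)
      exact ⟨v, hv0, sub_eq_zero.mp (by rw [← hv, Matrix.sub_mulVec, Matrix.one_mulVec])⟩
    exact hv0 (hfix v hv)
  obtain ⟨k, hk, hk'⟩ := isOfFinOrder_iff_pow_eq_one.mp (isOfFinOrder_of_finite (⟨h, hh⟩ : H))
  have hle := Groth.Agent.TorusGal29.det_sub_one_natAbs_le (h : Matrix (Fin 2) (Fin 2) ℤ) hk
    (congrArg (fun g : H => ((g : Matrix.GeneralLinearGroup (Fin 2) ℤ) : Matrix (Fin 2) (Fin 2) ℤ)) hk')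
  obtain ⟨h1, h2⟩ := Groth.Agent.TorusGal29.bound_of_exponent Ψ hinj (Int.natAbs_pos.mpr hdet)
    fun x hx v => Groth.Agent.TorusGal29.pow_det_eq_one H (Ψ x) (hinv x fun w => Groth.Agent.TorusGal29.mem_range_of_isOfFinOrder hK Ψ hx w) hh v
  refine ⟨fun x hx => (h1 x hx).trans (by omega), fun G hG => (h2 G hG).trans ?_⟩
  exact (Nat.pow_le_pow_left hle 2).trans (by norm_num)

end Groth.Agent.S15176
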