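import Groth.Statements.S15177
import Groth.Agent.HopfLib.UnipotentPoints

set_option autoImplicit false
universe u v
open BddFin

namespace Groth.Agent.S15177

/-- Let K be a field and Γ a unipotent linear algebraic group over K, given here by its coordinate Hopf
algebra A (a finitely generated, formally smooth commutative Hopf algebra over K all of whose
non-zero finite-dimensional comodules have a non-zero fixed vector). Then the group Γ(K) of K-points
(K-algebra maps A → K under convolution) has no non-trivial element of finite order coprime to the
characteristic of K: an element of finite order whose order is non-zero in K is the identity. -/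
theorem result
    (K : Type u) [Field K] (A : Type v) [CommRing A] [HopfAlgebra K A] [Algebra.FiniteType K A]
    [Algebra.FormallySmooth K A] (hU : HopfRep.IsUnipotent K A)
    (g : WithConv (A →ₐ[K] K)) (hg : IsOfFinOrder g) (hcop : ((orderOf g : ℕ) : K) ≠ 0) : g = 1 := by
  have h := Groth.Agent.HopfLib.pow_bijective_points (B := K) hU (orderOf g) (fun hd => hcop ?_)
  · exact h.1 (show g ^ orderOf g = 1 ^ orderOf g by rw [pow_orderOf_eq_one, one_pow])
  · obtain ⟨c, hc⟩ := hd
    rw [hc, Nat.cast_mul, ringChar.Nat.cast_ringChar, zero_mul]

end Groth.Agent.S15177
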