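import Groth.Statements.S15178
import Groth.Agent.GenSmooth29.InvRational
import Groth.Agent.GenSmooth29.Homogeneous
-- import your own Groth.Agent.* helpers here

set_option autoImplicit false
universe u
open CategoryTheory MonoidalCategory CartesianMonoidalCategory MonObj GrpObj AlgebraicGeometry
open BddFin

namespace Groth.Agent.S15178

open AlgebraicGeometry CategoryTheory CategoryTheory.Limits in
theorem formallySmooth_congr_hom {P Q : Scheme.{u}} {f g : P ⟶ Q} (e : f = g) {x : P}
    (h : (f.stalkMap x).hom.FormallySmooth) : (g.stalkMap x).hom.FormallySmooth := e ▸ h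

open AlgebraicGeometry CategoryTheory CategoryTheory.Limits in
theorem formallySmooth_congr_point {P Q : Scheme.{u}} (f : P ⟶ Q) {x x' : P} (e : x = x')
    (h : (f.stalkMap x).hom.FormallySmooth) : (f.stalkMap x').hom.FormallySmooth := e ▸ h

open AlgebraicGeometry CategoryTheory CategoryTheory.Limits in
theorem isField_stalk_of_eq_genericPoint {P : Scheme.{u}} [IsIntegral P] {x : P} (e : x = genericPoint P) :
    IsField (P.presheaf.stalk x) := e ▸ Field.toIsField P.functionField

open AlgebraicGeometry CategoryTheory CategoryTheory.Limits in
theorem isIso_stalkMap_of_isField {P Q : Scheme.{u}} (f : P ⟶ Q) [IsPreimmersion f] (x : P)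
    (h : IsField (Q.presheaf.stalk (f x))) : IsIso (f.stalkMap x) := by
  letI := h.toField
  exact (ConcreteCategory.isIso_iff_bijective _).2
    ⟨(f.stalkMap x).hom.injective, f.stalkMap_surjective x⟩

/-- Let K be a field, Γ a smooth algebraic group over K (a smooth K-group scheme of finite type), X an
integral separated K-scheme of finite type with an action of Γ, and π : X → Y a geometric quotient
of X by Γ over K (π is Γ-invariant and surjective, Γ × X → X ×_Y X is surjective, π is universally
submersive, and the functions on Y are the invariant functions on X). Then π is generically smooth: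
the fibre of π over the generic point η of Y is smooth over the residue field κ(η). (The quotient
notion used here asks for universal submersiveness, where the published definition asks only for
submersiveness; the row is the corresponding case.) -/
theorem result
    (K : Type u) [Field K]
    (Γ X Y : Over (Spec (CommRingCat.of K))) [GrpObj Γ]
    [Smooth Γ.hom] [LocallyOfFiniteType Γ.hom] [QuasiCompact Γ.hom]
    [IsIntegral X.left] [LocallyOfFiniteType X.hom] [QuasiCompact X.hom] [IsSeparated X.hom]
    (a : AlgGrp.Action Γ X) (π : X ⟶ Y) (hπ : GIT.IsGeomQuot a π) [IrreducibleSpace Y.left] :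
    Smooth (π.left.fiberToSpecResidueField (genericPoint Y.left)) := by
  haveI : LocallyOfFiniteType π.left := by
    haveI : LocallyOfFiniteType (π.left ≫ Y.hom) := by rw [Over.w π]; infer_instance
    exact locallyOfFiniteType_of_comp π.left Y.hom
  haveI : Surjective (GIT.PsiY a π hπ.inv) := ⟨hπ.orbit⟩
  haveI : LocallyOfFiniteType (GIT.PsiY a π hπ.inv) := by
    haveI : LocallyOfFiniteType (GIT.PsiY a π hπ.inv ≫ Limits.pullback.fst π.left π.left ≫ X.hom) := by
      rw [GIT.PsiY, Limits.pullback.lift_fst_assoc, Over.w]
      exact inferInstanceAs (LocallyOfFiniteType (Limits.pullback.fst Γ.hom X.hom ≫ Γ.hom))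
    exact locallyOfFiniteType_of_comp _ (Limits.pullback.fst π.left π.left ≫ X.hom)
  haveI : IsReduced Y.left := ⟨fun U => isReduced_of_injective (π.left.app U).hom (hπ.sections U).1⟩
  haveI : IsIntegral Y.left := isIntegral_of_irreducibleSpace_of_isReduced _
  have hgen : π.left (genericPoint X.left) = genericPoint Y.left := by
    refine (IsGenericPoint.eq ?_ (genericPoint_spec Y.left))
    have h := (genericPoint_spec X.left).image π.left.continuous
    rwa [Set.image_univ, Set.range_eq_univ.2 hπ.surj, closure_univ] at h
  have hπs := GenSmooth29.formallySmooth_stalkMap_genericPoint hπ (isField_stalk_of_eq_genericPoint hgen)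
  let y := genericPoint Y.left
  let g := π.left.fiberToSpecResidueField y
  haveI : LocallyOfFiniteType g := inferInstanceAs (LocallyOfFiniteType (Limits.pullback.snd _ _))
  haveI : LocallyOfFinitePresentation g := inferInstance
  refine GenSmooth29.smooth_fibre hπ.inv y ?_
  obtain ⟨ζ, hζ⟩ : genericPoint X.left ∈ Set.range (π.left.fiberι y) := by
    rw [Scheme.Hom.range_fiberι]; exact hgen
  have h1 : ((π.left.fiberι y ≫ π.left).stalkMap ζ).hom.FormallySmooth := by
    haveI : IsIso ((π.left.fiberι y).stalkMap ζ) := isIso_stalkMap_of_isField _ ζ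
      (isField_stalk_of_eq_genericPoint hζ)
    rw [Scheme.Hom.stalkMap_comp]
    exact (RingHom.FormallySmooth.respectsIso.cancel_right_isIso _ _).2
      (formallySmooth_congr_point π.left hζ.symm hπs)
  have h2 := formallySmooth_congr_hom (show π.left.fiberι y ≫ π.left = g ≫ Y.left.fromSpecResidueField y from Limits.pullback.condition) h1
  haveI : IsIso ((Y.left.fromSpecResidueField y).stalkMap (g ζ)) := isIso_stalkMap_of_isField _ (g ζ)
    (isField_stalk_of_eq_genericPoint (Scheme.fromSpecResidueField_apply y (g ζ)))
  rw [Scheme.Hom.stalkMap_comp] at h2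
  exact ⟨ζ, Scheme.Hom.mem_smoothLocus.2 ((RingHom.FormallySmooth.respectsIso.cancel_left_isIso _ _).1 h2)⟩

end Groth.Agent.S15178
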