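import Groth.Statements.S15179
import Groth.Agent.BddFin.Laurent
import Mathlib.Tactic.IntervalCases
import Mathlib.Algebra.Polynomial.SpecificDegree
import Mathlib.GroupTheory.OrderOfElement

set_option autoImplicit false
universe u
attribute [local instance] MvPolynomial.gradedAlgebra
open BddFin

namespace Groth.Agent.S15179

open LaurentPolynomial in
theorem laurent_unit_zpow {L : Type u} [Field L] (x : L[T;T⁻¹]ˣ) {c : L} {m : ℤ} (hc : c ≠ 0)
    (hx : (x : L[T;T⁻¹]) = C c * T m) (n : ℤ) :
    ((x ^ n : L[T;T⁻¹]ˣ) : L[T;T⁻¹]) = C (c ^ n) * T (m * n) := by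
  have hinv : ((x⁻¹ : L[T;T⁻¹]ˣ) : L[T;T⁻¹]) = C c⁻¹ * T (-m) := by
    refine Units.inv_eq_of_mul_eq_one_right ?_
    rw [hx, mul_mul_mul_comm, ← map_mul, mul_inv_cancel₀ hc, map_one, one_mul, ← T_add,
      add_neg_cancel, T_zero]
  induction n using Int.induction_on with
  | zero => simp
  | succ i hi =>
    rw [zpow_add_one, Units.val_mul, hi, hx, mul_mul_mul_comm, ← map_mul, ← T_add,
      zpow_add_one₀ hc, mul_add, mul_one]
  | pred i hi =>
    rw [zpow_sub_one, Units.val_mul, hi, hinv, mul_mul_mul_comm, ← map_mul, ← T_add,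
      zpow_sub_one₀ hc, mul_sub, mul_one, sub_eq_add_neg]

open MvPolynomial in
/-- Two ring maps out of the degree zero part of `K[X,Y][1/q]` agreeing on scalars and on the three
quadratic fractions are equal. -/
theorem gen_ext {K : Type u} [Field K] {q : MvPolynomial (Fin 2) K}
    (hq : q ∈ homogeneousSubmodule (Fin 2) K 2) {M : Type u} [CommRing M]
    (φ ψ : HomogeneousLocalization.Away (homogeneousSubmodule (Fin 2) K) q →+* M)
    (hs : ∀ c : K, φ (c • 1) = ψ (c • 1))
    (h : ∀ (i j : ℕ) (hm : X 0 ^ i * X 1 ^ j ∈ homogeneousSubmodule (Fin 2) K (1 • 2)), i + j = 2 →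
      φ (HomogeneousLocalization.Away.mk _ hq 1 _ hm) = ψ (HomogeneousLocalization.Away.mk _ hq 1 _ hm)) :
    φ = ψ := by
  classical
  let ι := algebraMap (MvPolynomial (Fin 2) K) (Localization.Away q)
  have hι : IsUnit (ι q) := IsLocalization.Away.algebraMap_isUnit q
  have hval : ∀ n f hf, (HomogeneousLocalization.Away.mk _ hq n f hf).val * ι q ^ n = ι f := by
    intro n f hf
    rw [HomogeneousLocalization.Away.val_mk, Localization.mk_eq_mk', ← map_pow]
    exact IsLocalization.mk'_spec (Localization.Away q) f (⟨q ^ n, n, rfl⟩ : Submonoid.powers q)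
  have hext : ∀ n f (hf : f ∈ homogeneousSubmodule (Fin 2) K (n • 2))
      (z : HomogeneousLocalization.Away (homogeneousSubmodule (Fin 2) K) q),
      z.val * ι q ^ n = ι f → HomogeneousLocalization.Away.mk _ hq n f hf = z := fun n f hf z hz =>
    HomogeneousLocalization.val_injective _ ((hι.pow n).mul_right_cancel ((hval n f hf).trans hz.symm))
  have hmem : ∀ i j : ℕ, i + j = 2 →
      X 0 ^ i * X 1 ^ j ∈ homogeneousSubmodule (Fin 2) K (1 • 2) := by
    intro i j hij
    have := (isHomogeneous_X_pow (R := K) (0 : Fin 2) i).mul (isHomogeneous_X_pow (R := K) (1 : Fin 2) j)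
    rw [hij] at this
    simpa [mem_homogeneousSubmodule] using this
  let gen (i j : ℕ) (hij : i + j = 2) := HomogeneousLocalization.Away.mk _ hq 1 _ (hmem i j hij)
  let S := φ.eqLocus ψ
  have hgen : ∀ i j hij, gen i j hij ∈ S := fun i j hij => h i j _ hij
  have hmon : ∀ (i j n : ℕ), i + j = 2 * n →
      ∃ z ∈ S, z.val * ι q ^ n = ι (X 0 ^ i * X 1 ^ j) := by
    intro i j n hij
    induction n generalizing i j with
    | zero =>
      refine ⟨1, S.one_mem, ?_⟩
      rw [show i = 0 by omega, show j = 0 by omega]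
      simp
    | succ n ih =>
      obtain ⟨i₁, j₁, i₂, j₂, h2, hi, hj, hn⟩ : ∃ i₁ j₁ i₂ j₂ : ℕ,
          i₁ + j₁ = 2 ∧ i = i₁ + i₂ ∧ j = j₁ + j₂ ∧ i₂ + j₂ = 2 * n := by
        refine ⟨min i 2, 2 - min i 2, i - min i 2, j - (2 - min i 2), ?_, ?_, ?_, ?_⟩ <;> omega
      obtain ⟨z, hz, hzv⟩ := ih i₂ j₂ hn
      refine ⟨gen i₁ j₁ h2 * z, S.mul_mem (hgen _ _ h2) hz, ?_⟩
      rw [HomogeneousLocalization.val_mul, pow_succ', mul_mul_mul_comm, hzv]
      have h1 := hval 1 _ (hmem i₁ j₁ h2)
      rw [pow_one] at h1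
      rw [h1, ← map_mul, hi, hj, pow_add, pow_add, mul_mul_mul_comm]
  ext z
  obtain ⟨n, f, hf, rfl⟩ := HomogeneousLocalization.Away.mk_surjective _ hq z
  have hmonS : ∀ d : Fin 2 →₀ ℕ, ∃ z ∈ S, d ∈ f.support → z.val * ι q ^ n = ι (monomial d 1) := by
    intro d
    by_cases hd : d ∈ f.support
    · have hdeg := (mem_homogeneousSubmodule _ _).1 hf (mem_support_iff.1 hd)
      obtain ⟨z, hz, hzv⟩ := hmon (d 0) (d 1) n (by
        simp [Finsupp.weight_apply, Finsupp.sum_fintype, Fin.sum_univ_two] at hdeg; omega)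
      refine ⟨z, hz, fun _ => ?_⟩
      rw [hzv, monomial_eq, C_1, one_mul, Finsupp.prod_fintype _ _ (fun _ => pow_zero _),
        Fin.prod_univ_two]
    · exact ⟨1, S.one_mem, fun h => absurd h hd⟩
  choose zd hzd hzdv using hmonS
  have hz : HomogeneousLocalization.Away.mk _ hq n f hf = ∑ d ∈ f.support, f.coeff d • zd d := by
    refine hext n f hf _ ?_
    rw [← HomogeneousLocalization.algebraMap_apply, map_sum, Finset.sum_mul]
    conv_rhs => rw [f.as_sum, map_sum]
    refine Finset.sum_congr rfl fun d hd => ?_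
    rw [HomogeneousLocalization.algebraMap_apply, HomogeneousLocalization.val_smul, smul_mul_assoc,
      hzdv d hd]
    show f.coeff d • algebraMap _ _ (monomial d 1) = algebraMap _ _ (monomial d (f.coeff d))
    rw [← IsScalarTower.toAlgHom_apply K, ← map_smul, IsScalarTower.toAlgHom_apply,
      MvPolynomial.smul_monomial, smul_eq_mul, mul_one]
  have hsmul : ∀ (c : K) (z : HomogeneousLocalization.Away (homogeneousSubmodule (Fin 2) K) q),
      c • z = (c • 1) * z := fun c z => HomogeneousLocalization.val_injective _ (by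
    simp [HomogeneousLocalization.val_mul, HomogeneousLocalization.val_smul])
  rw [hz]
  refine S.sum_mem fun d _ => ?_
  rw [hsmul]
  exact S.mul_mem (hs _) (hzd d)

/-- Let K be a field such that K contains all roots of unity (for every n ≥ 1 the polynomial X^n − 1
splits into linear factors over K). Let q be an irreducible binary quadratic form over K with
non-zero discriminant, so that its zero locus in the projective line over K is a single closed point
with separable quadratic residue field over K (a pair of distinct conjugate geometric points), and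
let U be the complement of that point: the affine curve whose coordinate ring is the ring of
degree-0 fractions f / q ^ k (f a binary form of degree 2k). Then for every finite group G of
K-automorphisms of U (K-linear ring automorphisms of its coordinate ring), every g ∈ G satisfies g ^
2 = 1 and G has at most 4 elements. -/
theorem result
    (K : Type u) [Field K] (hK : ∀ n : ℕ, 0 < n → (Polynomial.X ^ n - 1 : Polynomial K).Splits)
    (q : MvPolynomial (Fin 2) K) (hq : q.IsHomogeneous 2) (hirr : Irreducible q)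
    (hdisc : (q.coeff (Finsupp.single 0 1 + Finsupp.single 1 1)) ^ 2 -
      4 * q.coeff (Finsupp.single 0 2) * q.coeff (Finsupp.single 1 2) ≠ 0)
    (G : Subgroup (HomogeneousLocalization.Away (MvPolynomial.homogeneousSubmodule (Fin 2) K) q ≃+* HomogeneousLocalization.Away (MvPolynomial.homogeneousSubmodule (Fin 2) K) q)) [Finite G]
    (hG : ∀ g ∈ G, ∀ (k : K) (z : HomogeneousLocalization.Away (MvPolynomial.homogeneousSubmodule (Fin 2) K) q), g (k • z) = k • g z) :
    (∀ g ∈ G, g ^ 2 = 1) ∧ Nat.card G ≤ 4 := by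
  classical
  obtain ⟨ha, hroot⟩ := BddFin.quad_form_root q hq hirr
  have heq := BddFin.quad_form_eq q hq
  set a := q.coeff (Finsupp.single 0 2) with haDef
  set b := q.coeff (Finsupp.single 0 1 + Finsupp.single 1 1) with hbDef
  set c := q.coeff (Finsupp.single 1 2) with hcDef
  obtain ⟨L, _, _, _, _⟩ : ∃ (L : Type u) (_ : Field L) (_ : Algebra K L) (_ : IsAlgClosed L),
      Normal K L :=
    ⟨AlgebraicClosure K, inferInstance, inferInstance, inferInstance, inferInstance⟩
  obtain ⟨aL, haL'⟩ : ∃ x, algebraMap K L a = x := ⟨_, rfl⟩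
  obtain ⟨bL, hbL'⟩ : ∃ x, algebraMap K L b = x := ⟨_, rfl⟩
  obtain ⟨cL, hcL'⟩ : ∃ x, algebraMap K L c = x := ⟨_, rfl⟩
  have haL : aL ≠ 0 := by rw [← haL']; exact (map_ne_zero _).2 ha
  -- the two roots and an automorphism exchanging them
  obtain ⟨A, hA⟩ := IsAlgClosed.exists_root
    (Polynomial.C aL * Polynomial.X ^ 2 + Polynomial.C bL * Polynomial.X + Polynomial.C cL)
    (by rw [Polynomial.degree_quadratic haL]; decide)
  simp only [Polynomial.IsRoot.def, Polynomial.eval_add, Polynomial.eval_mul, Polynomial.eval_C,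
    Polynomial.eval_pow, Polynomial.eval_X] at hA
  set B : L := -bL / aL - A with hB
  have hbAB : bL = -(aL * (A + B)) := by rw [hB]; field_simp; ring
  have hcAB : cL = aL * A * B := by rw [hB]; field_simp; linear_combination hA
  have hAB : A - B ≠ 0 := by
    intro h
    apply hdisc
    apply (algebraMap K L).injective
    simp only [map_sub, map_mul, map_pow, map_ofNat, map_zero]
    rw [haL', hbL', hcL', hbAB, hcAB]
    linear_combination aL ^ 2 * (A - B) * h
  obtain ⟨σ, hσA, hσB⟩ : ∃ σ : L ≃ₐ[K] L, σ A = B ∧ σ B = A := by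
    set p : Polynomial K := Polynomial.X ^ 2 + Polynomial.C (b / a) * Polynomial.X + Polynomial.C (c / a)
      with hp
    have hpA : ∀ z : L, aL * z ^ 2 + bL * z + cL = 0 → Polynomial.aeval z p = 0 := by
      intro z hz
      simp only [hp, map_add, map_mul, map_pow, Polynomial.aeval_X, Polynomial.aeval_C, map_div₀]
      rw [haL', hbL', hcL']
      field_simp
      linear_combination hz
    have hpm : p.Monic := by
      rw [hp, add_assoc]
      exact Polynomial.monic_X_pow_add (lt_of_le_of_lt Polynomial.degree_linear_le (by decide))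
    have hpd : p.natDegree = 2 := by
      have h1 := Polynomial.natDegree_quadratic (a := (1 : K)) (b := b / a) (c := c / a) one_ne_zero
      simpa [hp] using h1
    have hpirr : Irreducible p := by
      rw [Polynomial.irreducible_iff_roots_eq_zero_of_degree_le_three hpd.ge (by omega),
        Multiset.eq_zero_iff_forall_notMem]
      intro r hr
      rw [Polynomial.mem_roots hpm.ne_zero] at hr
      simp [hp] at hr
      refine hroot r ?_
      field_simp at hr
      linear_combination hr
    have h1 := minpoly.eq_of_irreducible_of_monic hpirr (hpA A hA) hpm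
    have h2 := minpoly.eq_of_irreducible_of_monic hpirr
      (hpA B (by rw [hbAB, hcAB]; ring)) hpm
    obtain ⟨σ, hσ⟩ := (Normal.minpoly_eq_iff_mem_orbit (F := K) L).1 (h2.symm.trans h1)
    have hσ' : σ A = B := hσ
    refine ⟨σ, hσ', ?_⟩
    have hsum : σ (A + B) = A + B := by
      have : A + B = algebraMap K L (-b / a) := by
        rw [map_div₀, map_neg, haL', hbL', hB]; ring
      rw [this, AlgEquiv.commutes]
    rw [map_add, hσ'] at hsum
    linear_combination hsum
  -- the comparison map
  let t : LaurentPolynomial L := LaurentPolynomial.T 1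
  let t' : LaurentPolynomial L := LaurentPolynomial.T (-1)
  have htt : t * t' = 1 := by rw [← LaurentPolynomial.T_add, add_neg_cancel, LaurentPolynomial.T_zero]
  let Φ : MvPolynomial (Fin 2) K →+* LaurentPolynomial L :=
    MvPolynomial.eval₂Hom ((LaurentPolynomial.C).comp (algebraMap K L)) ![LaurentPolynomial.C A - t * LaurentPolynomial.C B, 1 - t]
  have hΦX : Φ (MvPolynomial.X 0) = LaurentPolynomial.C A - t * LaurentPolynomial.C B ∧ Φ (MvPolynomial.X 1) = 1 - t := by simp [Φ]
  have hΦC : ∀ x, Φ (MvPolynomial.C x) = LaurentPolynomial.C (algebraMap K L x) := fun x => by simp [Φ]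
  set δ : LaurentPolynomial L := LaurentPolynomial.C (A - B) with hδ
  have hΦq : Φ q = LaurentPolynomial.C aL * t * δ ^ 2 := by
    rw [heq]
    simp only [map_add, map_mul, map_pow, hΦC, hΦX, hδ, map_sub]
    rw [haL', hbL', hcL', hbAB, hcAB]
    simp only [map_neg, map_mul, map_add]
    ring
  have hΦqu : IsUnit (Φ q) := by
    rw [hΦq]
    exact (((IsUnit.mk0 aL haL).map LaurentPolynomial.C).mul (LaurentPolynomial.isUnit_T 1)).mul
      (((IsUnit.mk0 _ hAB).map LaurentPolynomial.C).pow 2)
  have hq' : q ∈ (MvPolynomial.homogeneousSubmodule (Fin 2) K) 2 := (MvPolynomial.mem_homogeneousSubmodule _ _).2 hq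
  obtain ⟨ψ, hψ, hψk⟩ : ∃ ψ : (HomogeneousLocalization.Away (MvPolynomial.homogeneousSubmodule (Fin 2) K) q) →+* (LaurentPolynomial L),
      (∀ n f hf, ψ (HomogeneousLocalization.Away.mk (MvPolynomial.homogeneousSubmodule (Fin 2) K) hq' n f hf) * Φ q ^ n = Φ f) ∧
      ∀ x : K, ψ (x • 1) = LaurentPolynomial.C (algebraMap K L x) := by
    refine ⟨(IsLocalization.Away.lift q hΦqu).comp (algebraMap (HomogeneousLocalization.Away (MvPolynomial.homogeneousSubmodule (Fin 2) K) q) (Localization.Away q)), ?_, ?_⟩
    · intro n f hf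
      have h : (HomogeneousLocalization.Away.mk (MvPolynomial.homogeneousSubmodule (Fin 2) K) hq' n f hf).val *
          algebraMap _ (Localization.Away q) (q ^ n) = algebraMap _ _ f := by
        rw [HomogeneousLocalization.Away.val_mk, Localization.mk_eq_mk']
        exact IsLocalization.mk'_spec (Localization.Away q) f (⟨q ^ n, n, rfl⟩ : Submonoid.powers q)
      have h2 := congrArg (IsLocalization.Away.lift q hΦqu) h
      rwa [map_mul, IsLocalization.Away.lift_eq, IsLocalization.Away.lift_eq, map_pow] at h2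
    · intro x
      show IsLocalization.Away.lift q hΦqu ((x • (1 : (HomogeneousLocalization.Away (MvPolynomial.homogeneousSubmodule (Fin 2) K) q))).val) = _
      rw [HomogeneousLocalization.val_smul, HomogeneousLocalization.val_one, ← map_one
        (algebraMap (MvPolynomial (Fin 2) K) (Localization.Away q)),
        ← IsScalarTower.toAlgHom_apply K, ← map_smul, IsScalarTower.toAlgHom_apply,
        IsLocalization.Away.lift_eq, MvPolynomial.smul_eq_C_mul, mul_one, hΦC]
  -- injectivity
  have hψinj : Function.Injective ψ := by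
    refine (injective_iff_map_eq_zero _).2 fun z hz => ?_
    obtain ⟨n, f, hf, rfl⟩ := HomogeneousLocalization.Away.mk_surjective (MvPolynomial.homogeneousSubmodule (Fin 2) K) hq' z
    have hfz : Φ f = 0 := by rw [← hψ n f hf, hz, zero_mul]
    have hhom := (MvPolynomial.mem_homogeneousSubmodule _ _).1 hf
    have hev : ∀ x y : L, x - B * y ≠ 0 → MvPolynomial.aeval ![x, y] f = 0 := by
      intro x y hxy
      rcases eq_or_ne (x - A * y) 0 with hy | hy
      · -- the root `A`
        have hy0 : y ≠ 0 := by rintro rfl; simp at hy; simp [hy] at hxy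
        let e : (LaurentPolynomial L) →+* L := LaurentPolynomial.eval₂ (RingHom.id L) 1
        have h1 : ![x, y] = ![y * A, y * 1] := by
          rw [show x = y * A by linear_combination hy, mul_one]
        rw [h1, BddFin.eval_smul_homogeneous hhom]
        suffices MvPolynomial.aeval ![A, 1] f = 0 by rw [this, mul_zero]
        -- polynomial identity at `t = 0`
        obtain ⟨P, hP⟩ : ∃ P : Polynomial L, Φ f = Polynomial.toLaurent P ∧
            P.eval 0 = MvPolynomial.aeval ![A, 1] f := by
          let Q := MvPolynomial.eval₂Hom (Polynomial.C.comp (algebraMap K L))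
            ![Polynomial.C A - Polynomial.X * Polynomial.C B, 1 - Polynomial.X]
          refine ⟨Q f, ?_, ?_⟩
          · exact (RingHom.congr_fun (MvPolynomial.ringHom_ext (f := Φ)
              (g := Polynomial.toLaurent.comp Q) (fun x => by simp [Φ, Q])
              (fun i => by fin_cases i <;> simp [Φ, Q, t])) f :)
          · rw [MvPolynomial.aeval_def, ← MvPolynomial.coe_eval₂Hom]
            exact (RingHom.congr_fun (MvPolynomial.ringHom_ext
              (f := (Polynomial.evalRingHom 0).comp Q) (g := MvPolynomial.eval₂Hom (algebraMap K L) ![A, 1])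
              (fun x => by simp [Q]) (fun i => by fin_cases i <;> simp [Q])) f :)
        rw [← hP.2, show P = 0 from Polynomial.toLaurent_injective (by rw [← hP.1, hfz, map_zero]),
          Polynomial.eval_zero]
      · obtain ⟨s, hs⟩ : ∃ s : L, (A - B) / (x - B * y) * (x - A * y) = s * (A - B) :=
          ⟨(x - A * y) / (x - B * y), by field_simp⟩
        have hs0 : s ≠ 0 := by
          rintro rfl
          rw [zero_mul] at hs
          exact mul_ne_zero (div_ne_zero hAB hxy) hy hs
        have hh : ∀ r : Φ f = 0, MvPolynomial.aeval ![A - s * B, 1 - s] f = 0 := fun _ => by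
          have h := congrArg (LaurentPolynomial.eval₂ (RingHom.id L) (Units.mk0 s hs0)) hfz
          rw [map_zero] at h
          rw [← h, MvPolynomial.aeval_def, ← MvPolynomial.coe_eval₂Hom]
          exact (RingHom.congr_fun (MvPolynomial.ringHom_ext
              (f := MvPolynomial.eval₂Hom (algebraMap K L) ![A - s * B, 1 - s])
              (g := (LaurentPolynomial.eval₂ (RingHom.id L) (Units.mk0 s hs0)).comp Φ)
              (fun x => by simp [Φ]) (fun i => by fin_cases i <;> simp [Φ, t] <;> ring)) f :)
        have h1 : ![x, y] = ![(x - B * y) / (A - B) * (A - s * B),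
            (x - B * y) / (A - B) * (1 - s)] := by
          have hs' : s = (x - A * y) / (x - B * y) :=
            mul_right_cancel₀ hAB (hs.symm.trans (by field_simp))
          have hs'' : s * (x - B * y) = x - A * y := by rw [hs', div_mul_cancel₀ _ hxy]
          have e1 : x = (x - B * y) / (A - B) * (A - s * B) := by
            rw [div_mul_eq_mul_div, eq_div_iff hAB]; linear_combination B * hs''
          have e2 : y = (x - B * y) / (A - B) * (1 - s) := by
            rw [div_mul_eq_mul_div, eq_div_iff hAB]; linear_combination hs''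
          rw [← e1, ← e2]
        rw [h1, BddFin.eval_smul_homogeneous hhom, hh hfz, mul_zero]
    have hfL : (MvPolynomial.X 0 - MvPolynomial.C B * MvPolynomial.X 1) *
        MvPolynomial.map (algebraMap K L) f = 0 := by
      apply MvPolynomial.funext
      intro p
      have hp : p = ![p 0, p 1] := by ext i; fin_cases i <;> rfl
      rcases eq_or_ne (p 0 - B * p 1) 0 with h | h
      · simp [h]
      · have h2 := hev _ _ h
        rw [← hp] at h2
        simp [MvPolynomial.eval_map, ← MvPolynomial.aeval_def, h2]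
    have hne : (MvPolynomial.X 0 - MvPolynomial.C B * MvPolynomial.X 1 : MvPolynomial (Fin 2) L) ≠ 0 :=
      fun h => by simpa using congrArg (MvPolynomial.eval ![1, 0]) h
    have hf0 : f = 0 := MvPolynomial.map_injective _ (algebraMap K L).injective
      (((mul_eq_zero.1 hfL).resolve_left hne).trans (map_zero _).symm)
    subst hf0
    exact HomogeneousLocalization.val_injective _ (by
      rw [HomogeneousLocalization.Away.val_mk, HomogeneousLocalization.val_zero, Localization.mk_zero])
  -- the three generators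
  have hmem : ∀ i j : ℕ, i + j = 2 →
      MvPolynomial.X 0 ^ i * MvPolynomial.X 1 ^ j ∈ (MvPolynomial.homogeneousSubmodule (Fin 2) K) (1 • 2) := by
    intro i j hij
    have := (MvPolynomial.isHomogeneous_X_pow (R := K) (0 : Fin 2) i).mul
      (MvPolynomial.isHomogeneous_X_pow (R := K) (1 : Fin 2) j)
    rw [hij] at this
    simpa [MvPolynomial.mem_homogeneousSubmodule] using this
  let gu : (HomogeneousLocalization.Away (MvPolynomial.homogeneousSubmodule (Fin 2) K) q) := HomogeneousLocalization.Away.mk (MvPolynomial.homogeneousSubmodule (Fin 2) K) hq' 1 _ (hmem 2 0 rfl)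
  let gv : (HomogeneousLocalization.Away (MvPolynomial.homogeneousSubmodule (Fin 2) K) q) := HomogeneousLocalization.Away.mk (MvPolynomial.homogeneousSubmodule (Fin 2) K) hq' 1 _ (hmem 1 1 rfl)
  let gw : (HomogeneousLocalization.Away (MvPolynomial.homogeneousSubmodule (Fin 2) K) q) := HomogeneousLocalization.Away.mk (MvPolynomial.homogeneousSubmodule (Fin 2) K) hq' 1 _ (hmem 0 2 rfl)
  have hU : ψ gu * Φ q = (LaurentPolynomial.C A - t * LaurentPolynomial.C B) ^ 2 := by
    rw [← pow_one (Φ q)]; refine (hψ 1 _ _).trans ?_; simp [hΦX]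
  have hV : ψ gv * Φ q = (LaurentPolynomial.C A - t * LaurentPolynomial.C B) * (1 - t) := by
    rw [← pow_one (Φ q)]; refine (hψ 1 _ _).trans ?_; simp [hΦX]
  have hW : ψ gw * Φ q = (1 - t) ^ 2 := by
    rw [← pow_one (Φ q)]; refine (hψ 1 _ _).trans ?_; simp [hΦX]
  let TW (x : L) (φ : (HomogeneousLocalization.Away (MvPolynomial.homogeneousSubmodule (Fin 2) K) q) →+* (LaurentPolynomial L)) : LaurentPolynomial L := BddFin.tw (LaurentPolynomial.C aL) (LaurentPolynomial.C x) (φ gu) (φ gv) (φ gw)
  have hrel : gu * gw = gv * gv := hψinj <| (hΦqu.mul hΦqu).mul_right_cancel <| by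
    rw [map_mul, map_mul, mul_mul_mul_comm, hU, hW, mul_mul_mul_comm, hV]
    ring
  have hone : (a • 1) * gu + (b • 1) * gv + (c • 1) * gw = (1 : (HomogeneousLocalization.Away (MvPolynomial.homogeneousSubmodule (Fin 2) K) q)) := hψinj <| hΦqu.mul_right_cancel <| by
    simp only [map_add, map_mul, map_one, hψk, one_mul, add_mul, mul_assoc, hU, hV, hW]
    rw [haL', hbL', hcL', hbAB, hcAB, hΦq, hδ]
    simp only [map_neg, map_mul, map_add, map_sub]
    ring
  have hψT : TW A ψ = t ∧ TW B ψ = t' := by
    constructor <;> refine hΦqu.mul_right_cancel ?_ <;>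
      simp only [TW, BddFin.tw, mul_assoc, add_mul, sub_mul, mul_add, mul_sub, hU, hV, hW] <;>
      simp only [hΦq, hδ, map_sub]
    · ring
    · linear_combination -(LaurentPolynomial.C aL * (LaurentPolynomial.C A - LaurentPolynomial.C B) ^ 2) * htt
  -- maps agreeing with `ψ` on scalars
  have hφ₀ : ∀ φ : (HomogeneousLocalization.Away (MvPolynomial.homogeneousSubmodule (Fin 2) K) q) →+* (LaurentPolynomial L), (∀ x : K, φ (x • 1) = LaurentPolynomial.C (algebraMap K L x)) →
      TW A φ * TW B φ = 1 ∧
      LaurentPolynomial.C aL * φ gu - LaurentPolynomial.C aL * (LaurentPolynomial.C A + LaurentPolynomial.C B) * φ gv + LaurentPolynomial.C aL * LaurentPolynomial.C A * LaurentPolynomial.C B * φ gw = 1 := by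
    intro φ hφ
    have h1 : LaurentPolynomial.C aL * φ gu - LaurentPolynomial.C aL * (LaurentPolynomial.C A + LaurentPolynomial.C B) * φ gv + LaurentPolynomial.C aL * LaurentPolynomial.C A * LaurentPolynomial.C B * φ gw = 1 := by
      have h := congrArg φ hone
      simp only [map_add, map_mul, map_one, hφ] at h
      rw [haL', hbL', hcL', hbAB, hcAB, map_neg, map_mul, map_add, map_mul, map_mul] at h
      linear_combination h
    exact ⟨BddFin.tw_mul_tw _ _ _ _ _ _ (by rw [← map_mul, hrel, map_mul]) h1, h1⟩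
  have huniq : ∀ φ φ' : (HomogeneousLocalization.Away (MvPolynomial.homogeneousSubmodule (Fin 2) K) q) →+* (LaurentPolynomial L), (∀ x : K, φ (x • 1) = LaurentPolynomial.C (algebraMap K L x)) →
      (∀ x : K, φ' (x • 1) = LaurentPolynomial.C (algebraMap K L x)) → TW A φ = TW A φ' → TW B φ = TW B φ' →
      φ = φ' := by
    intro φ φ' hφ hφ' hA' hB'
    have hC : ∀ x : L, algebraMap L (LaurentPolynomial L) x = LaurentPolynomial.C x := fun x => rfl
    obtain ⟨e1, e2, e3⟩ := BddFin.tw_unique (L := L) (M := LaurentPolynomial L) (a := aL) (A := A) (B := B) haL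
      (sub_ne_zero.1 hAB) (u := φ gu) (v := φ gv) (w := φ gw) (u' := φ' gu) (v' := φ' gv)
      (w' := φ' gw) (by simp only [hC]; exact hA') (by simp only [hC]; exact hB')
      (by simp only [hC]; exact ((hφ₀ φ hφ).2).trans ((hφ₀ φ' hφ').2).symm)
    refine gen_ext hq' φ φ' (fun x => (hφ x).trans (hφ' x).symm) fun i j hm hij => ?_
    obtain rfl : j = 2 - i := by omega
    have hi : i < 3 := by omega
    interval_cases i
    exacts [e3, e2, e1]
  -- the involution fixing the image
  let tu : (LaurentPolynomial L)ˣ := ⟨t, t', htt, by rw [mul_comm]; exact htt⟩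
  let J : (LaurentPolynomial L) →+* LaurentPolynomial L := LaurentPolynomial.eval₂ ((LaurentPolynomial.C).comp (σ : L →+* L)) tu⁻¹
  have hJC : ∀ x, J (LaurentPolynomial.C x) = LaurentPolynomial.C (σ x) := fun x => by simp [J]
  have hJt : J t = t' ∧ J t' = t := by simp [J, t, t', tu]
  have hJT : ∀ (φ : (HomogeneousLocalization.Away (MvPolynomial.homogeneousSubmodule (Fin 2) K) q) →+* (LaurentPolynomial L)) (x : L), TW (σ x) (J.comp φ) = J (TW x φ) := by
    intro φ x
    simp only [TW, BddFin.tw_map, hJC, RingHom.comp_apply]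
    rw [show σ aL = aL by rw [← haL']; exact σ.commutes a]
  have hJψ : J.comp ψ = ψ := by
    refine huniq _ _ (fun x => by rw [RingHom.comp_apply, hψk, hJC, AlgEquiv.commutes]) hψk ?_ ?_
    · rw [hψT.1, ← hσB, hJT, hψT.2, hJt.2]
    · rw [hψT.2, ← hσA, hJT, hψT.1, hJt.1]
  -- parameters of a group element
  have hparam : ∀ g : G, ∃ (l : L) (m : ℤ), l ≠ 0 ∧
      TW A (ψ.comp (g : (HomogeneousLocalization.Away (MvPolynomial.homogeneousSubmodule (Fin 2) K) q) ≃+* (HomogeneousLocalization.Away (MvPolynomial.homogeneousSubmodule (Fin 2) K) q)).toRingHom) = LaurentPolynomial.C l * LaurentPolynomial.T m ∧ σ l * l = 1 := by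
    intro g
    set φ := ψ.comp (g : (HomogeneousLocalization.Away (MvPolynomial.homogeneousSubmodule (Fin 2) K) q) ≃+* (HomogeneousLocalization.Away (MvPolynomial.homogeneousSubmodule (Fin 2) K) q)).toRingHom with hφdef
    have hφ : ∀ x : K, φ (x • 1) = LaurentPolynomial.C (algebraMap K L x) := fun x => by
      show ψ ((g : (HomogeneousLocalization.Away (MvPolynomial.homogeneousSubmodule (Fin 2) K) q) ≃+* (HomogeneousLocalization.Away (MvPolynomial.homogeneousSubmodule (Fin 2) K) q)) (x • 1)) = _
      rw [hG g g.2, map_one, hψk]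
    obtain ⟨hTT, -⟩ := hφ₀ φ hφ
    obtain ⟨l, m, hl, hlm⟩ := BddFin.laurent_isUnit_iff hTT
    refine ⟨l, m, hl, hlm, ?_⟩
    have hJφ : J.comp φ = φ := by rw [hφdef, ← RingHom.comp_assoc, hJψ]
    have h1 : J (TW A φ) = TW B φ := by rw [← hJT, hσA, hJφ]
    have hJm : J (LaurentPolynomial.C l * LaurentPolynomial.T m) = LaurentPolynomial.C (σ l) * LaurentPolynomial.T (-m) := by
      rw [map_mul, hJC]
      congr 1
      rw [show J (LaurentPolynomial.T m) = ((tu⁻¹ ^ m : (LaurentPolynomial L)ˣ) : (LaurentPolynomial L)) from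
        LaurentPolynomial.eval₂_T _ _ _, laurent_unit_zpow tu⁻¹ (c := 1) (m := -1) one_ne_zero
        (by simp [tu, t']) m]
      simp
    rw [hlm, hJm] at h1
    rw [hlm, ← h1, mul_mul_mul_comm, ← map_mul, ← LaurentPolynomial.T_add, add_neg_cancel,
      LaurentPolynomial.T_zero, mul_one, ← map_one LaurentPolynomial.C] at hTT
    rw [mul_comm]
    exact (BddFin.C_mul_T_inj (m := 0) (m' := 0) (mul_ne_zero hl ((map_ne_zero σ).2 hl))
      (by rw [hTT])).2
  choose lam mm hlam hTg hσlam using hparam
  have hscal : ∀ (g : G) (x : K), (ψ.comp (g : (HomogeneousLocalization.Away (MvPolynomial.homogeneousSubmodule (Fin 2) K) q) ≃+* (HomogeneousLocalization.Away (MvPolynomial.homogeneousSubmodule (Fin 2) K) q)).toRingHom) (x • 1) = LaurentPolynomial.C (algebraMap K L x) :=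
    fun g x => by
      show ψ ((g : (HomogeneousLocalization.Away (MvPolynomial.homogeneousSubmodule (Fin 2) K) q) ≃+* (HomogeneousLocalization.Away (MvPolynomial.homogeneousSubmodule (Fin 2) K) q)) (x • 1)) = _
      rw [hG g g.2, map_one, hψk]
  -- composition law
  have hcomp : ∀ g h : G, mm (g * h) = mm g * mm h ∧ lam (g * h) = lam h * lam g ^ mm h := by
    intro g h
    let φg := ψ.comp (g : (HomogeneousLocalization.Away (MvPolynomial.homogeneousSubmodule (Fin 2) K) q) ≃+* (HomogeneousLocalization.Away (MvPolynomial.homogeneousSubmodule (Fin 2) K) q)).toRingHom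
    let ug : (LaurentPolynomial L)ˣ := ⟨TW A φg, TW B φg, (hφ₀ φg (hscal g)).1, by
      rw [mul_comm]; exact (hφ₀ φg (hscal g)).1⟩
    let E : (LaurentPolynomial L) →+* LaurentPolynomial L := LaurentPolynomial.eval₂ LaurentPolynomial.C ug
    have hEC : ∀ x, E (LaurentPolynomial.C x) = LaurentPolynomial.C x := fun x => by simp [E]
    have hET : ∀ (φ : (HomogeneousLocalization.Away (MvPolynomial.homogeneousSubmodule (Fin 2) K) q) →+* (LaurentPolynomial L)) (x : L), TW x (E.comp φ) = E (TW x φ) := fun φ x => by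
      simp [TW, BddFin.tw_map, hEC]
    have hEψ : E.comp ψ = φg := by
      refine huniq _ _ (fun x => by rw [RingHom.comp_apply, hψk, hEC]) (hscal g) ?_ ?_
      · rw [hET, hψT.1]; simp [E, t, ug]
      · rw [hET, hψT.2]; simp [E, t', ug]
    have hgh : ψ.comp ((g * h : G) : (HomogeneousLocalization.Away (MvPolynomial.homogeneousSubmodule (Fin 2) K) q) ≃+* (HomogeneousLocalization.Away (MvPolynomial.homogeneousSubmodule (Fin 2) K) q)).toRingHom = E.comp (ψ.comp (h : (HomogeneousLocalization.Away (MvPolynomial.homogeneousSubmodule (Fin 2) K) q) ≃+* (HomogeneousLocalization.Away (MvPolynomial.homogeneousSubmodule (Fin 2) K) q)).toRingHom) := by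
      rw [← RingHom.comp_assoc, hEψ]
      rfl
    have h1 := hTg (g * h)
    rw [hgh, hET, hTg h, map_mul, hEC,
      show E (LaurentPolynomial.T (mm h)) = ((ug ^ mm h : (LaurentPolynomial L)ˣ) : (LaurentPolynomial L)) from
        LaurentPolynomial.eval₂_T _ _ _, laurent_unit_zpow ug (hlam g) (hTg g), ← mul_assoc,
      ← map_mul] at h1
    exact ⟨(BddFin.C_mul_T_inj (mul_ne_zero (hlam h) (zpow_ne_zero _ (hlam g))) h1).1.symm,
      (BddFin.C_mul_T_inj (mul_ne_zero (hlam h) (zpow_ne_zero _ (hlam g))) h1).2.symm⟩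
  have hone' : mm 1 = 1 ∧ lam 1 = 1 := by
    have h1 := hTg 1
    have h0 : ψ.comp ((1 : G) : (HomogeneousLocalization.Away (MvPolynomial.homogeneousSubmodule (Fin 2) K) q) ≃+* (HomogeneousLocalization.Away (MvPolynomial.homogeneousSubmodule (Fin 2) K) q)).toRingHom = ψ := rfl
    rw [h0, hψT.1] at h1
    have h2 := BddFin.C_mul_T_inj (L := L) (c := 1) (c' := lam 1) (m := 1) (m' := mm 1) one_ne_zero
      (by rw [map_one, one_mul]; exact h1)
    exact ⟨h2.1.symm, h2.2.symm⟩
  have hm : ∀ g : G, mm g = 1 ∨ mm g = -1 := by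
    intro g
    have h := (hcomp g g⁻¹).1
    rw [mul_inv_cancel, hone'.1] at h
    exact Int.eq_one_or_neg_one_of_mul_eq_one h.symm
  have hrot : ∀ g : G, mm g = 1 → lam g ^ 2 = 1 := by
    intro g hg
    have hpow : ∀ n : ℕ, mm (g ^ n) = 1 ∧ lam (g ^ n) = lam g ^ n := by
      intro n
      induction n with
      | zero => simpa using hone'
      | succ n ih =>
        obtain ⟨e1, e2⟩ := hcomp (g ^ n) g
        rw [pow_succ]
        refine ⟨by rw [e1, ih.1, hg, one_mul], ?_⟩
        rw [e2, hg, zpow_one, ih.2, pow_succ, mul_comm]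
    have hN : lam g ^ Nat.card G = 1 := by rw [← (hpow _).2, pow_card_eq_one', hone'.2]
    obtain ⟨x, hx⟩ : ∃ x : K, algebraMap K L x = lam g := by
      have hpos : 0 < Nat.card G := Nat.card_pos
      have hmem' : lam g ∈ ((Polynomial.X ^ Nat.card G - 1 : Polynomial K).map (algebraMap K L)).roots := by
        have hmon : (Polynomial.X ^ Nat.card G - 1 : Polynomial K).Monic := by
          simpa using Polynomial.monic_X_pow_sub_C (1 : K) hpos.ne'
        rw [Polynomial.mem_roots ((hmon.map _).ne_zero)]
        simp [hN]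
      rw [(hK _ hpos).roots_map] at hmem'
      obtain ⟨x, -, hx⟩ := Multiset.mem_map.1 hmem'
      exact ⟨x, hx⟩
    have h := hσlam g
    rw [← hx, AlgEquiv.commutes] at h
    rw [← hx, sq, h]
  have hsq : ∀ g : G, g ^ 2 = 1 := by
    intro g
    obtain ⟨e1, e2⟩ := hcomp g g
    have hl : lam (g * g) = 1 ∧ mm (g * g) = 1 := by
      rcases hm g with h | h
      · exact ⟨by rw [e2, h, zpow_one, ← sq, hrot g h], by rw [e1, h, one_mul]⟩
      · exact ⟨by rw [e2, h, zpow_neg_one, mul_inv_cancel₀ (hlam g)], by rw [e1, h]; norm_num⟩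
    have heq2 : ψ.comp ((g * g : G) : (HomogeneousLocalization.Away (MvPolynomial.homogeneousSubmodule (Fin 2) K) q) ≃+* (HomogeneousLocalization.Away (MvPolynomial.homogeneousSubmodule (Fin 2) K) q)).toRingHom = ψ := by
      refine huniq _ _ (hscal _) hψk ?_ ?_
      · rw [hTg, hl.1, hl.2, map_one, one_mul, hψT.1]
      · have hJg : J.comp (ψ.comp ((g * g : G) : (HomogeneousLocalization.Away (MvPolynomial.homogeneousSubmodule (Fin 2) K) q) ≃+* (HomogeneousLocalization.Away (MvPolynomial.homogeneousSubmodule (Fin 2) K) q)).toRingHom) = ψ.comp ((g * g : G) : (HomogeneousLocalization.Away (MvPolynomial.homogeneousSubmodule (Fin 2) K) q) ≃+* (HomogeneousLocalization.Away (MvPolynomial.homogeneousSubmodule (Fin 2) K) q)).toRingHom := by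
          rw [← RingHom.comp_assoc, hJψ]
        rw [← hσA, ← hJg, hJT, hTg, hl.1, hl.2, map_one, one_mul, hσA, hψT.2]
        exact hJt.1
    rw [pow_two]
    refine Subtype.ext (RingEquiv.ext fun z => hψinj ?_)
    exact RingHom.congr_fun heq2 z
  refine ⟨fun g hg => congrArg Subtype.val (hsq ⟨g, hg⟩), ?_⟩
  -- the count
  have hkey : ∀ g h : G, mm g = mm h → lam g = lam h → g = h := by
    intro g h e1 e2
    refine Subtype.ext (RingEquiv.ext fun z => hψinj ?_)
    refine RingHom.congr_fun (f := ψ.comp (g : (HomogeneousLocalization.Away (MvPolynomial.homogeneousSubmodule (Fin 2) K) q) ≃+* (HomogeneousLocalization.Away (MvPolynomial.homogeneousSubmodule (Fin 2) K) q)).toRingHom)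
      (g := ψ.comp (h : (HomogeneousLocalization.Away (MvPolynomial.homogeneousSubmodule (Fin 2) K) q) ≃+* (HomogeneousLocalization.Away (MvPolynomial.homogeneousSubmodule (Fin 2) K) q)).toRingHom) ?_ z
    have eA : TW A (ψ.comp (g : (HomogeneousLocalization.Away (MvPolynomial.homogeneousSubmodule (Fin 2) K) q) ≃+* (HomogeneousLocalization.Away (MvPolynomial.homogeneousSubmodule (Fin 2) K) q)).toRingHom) = TW A (ψ.comp (h : (HomogeneousLocalization.Away (MvPolynomial.homogeneousSubmodule (Fin 2) K) q) ≃+* (HomogeneousLocalization.Away (MvPolynomial.homogeneousSubmodule (Fin 2) K) q)).toRingHom) := by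
      rw [hTg g, hTg h, e1, e2]
    refine huniq _ _ (hscal g) (hscal h) eA ?_
    have hJf : ∀ f : G, J.comp (ψ.comp (f : (HomogeneousLocalization.Away (MvPolynomial.homogeneousSubmodule (Fin 2) K) q) ≃+* (HomogeneousLocalization.Away (MvPolynomial.homogeneousSubmodule (Fin 2) K) q)).toRingHom) = ψ.comp (f : (HomogeneousLocalization.Away (MvPolynomial.homogeneousSubmodule (Fin 2) K) q) ≃+* (HomogeneousLocalization.Away (MvPolynomial.homogeneousSubmodule (Fin 2) K) q)).toRingHom :=
      fun f => by rw [← RingHom.comp_assoc, hJψ]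
    rw [← hσA, ← hJf g, ← hJf h, hJT, hJT, eA]
  let base : Bool → L := fun r => if hr : ∃ g : G, decide (mm g = 1) = r then lam hr.choose else 0
  let code : G → Bool × Bool := fun g =>
    (decide (mm g = 1), decide (lam g = base (decide (mm g = 1))))
  have hsplit : ∀ g h : G, decide (mm g = 1) = decide (mm h = 1) →
      mm g = mm h ∧ (lam g = lam h ∨ lam g = -lam h) := by
    intro g h hgh
    rw [decide_eq_decide] at hgh
    have emm : mm g = mm h := by
      rcases hm g with e | e <;> rcases hm h with e' | e' <;> first | omega | simp [e, e'] at hgh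
    refine ⟨emm, ?_⟩
    obtain ⟨e1, e2⟩ := hcomp g h
    rw [← emm] at e1 e2
    have hrot' := hrot (g * h) (by rw [e1]; rcases hm g with e | e <;> simp [e])
    rw [e2] at hrot'
    rcases hm g with e | e
    · rw [← sq_eq_sq_iff_eq_or_eq_neg, hrot g e, hrot h (emm ▸ e)]
    · rw [e, zpow_neg_one, mul_pow, inv_pow, mul_inv_eq_one₀ (pow_ne_zero _ (hlam g))] at hrot'
      rw [← sq_eq_sq_iff_eq_or_eq_neg, hrot']
  have hinj : Function.Injective code := by
    intro g h hgh
    obtain ⟨h1, h2⟩ := Prod.mk.inj hgh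
    obtain ⟨emm, -⟩ := hsplit g h h1
    refine hkey g h emm ?_
    have hex : ∃ f : G, decide (mm f = 1) = decide (mm g = 1) := ⟨g, rfl⟩
    have hb0 : base (decide (mm g = 1)) = lam hex.choose := dif_pos hex
    rw [← h1, decide_eq_decide, hb0] at h2
    obtain ⟨-, hg'⟩ := hsplit g hex.choose hex.choose_spec.symm
    obtain ⟨-, hh'⟩ := hsplit h hex.choose (h1.symm.trans hex.choose_spec.symm)
    rcases hg' with e | e <;> rcases hh' with e' | e'
    · rw [e, e']
    · rw [e, h2.1 e]
    · rw [e', h2.2 e']
    · rw [e, e']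
  calc Nat.card G ≤ Nat.card (Bool × Bool) := Nat.card_le_card_of_injective code hinj
    _ = 4 := by simp

end Groth.Agent.S15179
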