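import Groth.Statements.S15180
import Groth.Agent.GaGmQuot.Main

set_option autoImplicit false
universe u
open CategoryTheory MonoidalCategory CartesianMonoidalCategory MonObj GrpObj AlgebraicGeometry
open BddFin

namespace Groth.Agent.S15180

/-- Let K be an arbitrary field, G a K-group scheme isomorphic (as a group scheme) to 𝔾_a (additive) or
to 𝔾_m (multiplicative), and H a finite subgroup scheme of G (a monomorphic homomorphism H → G with
H finite over K). Then the quotient G/H is isomorphic to G; equivalently, there is a homomorphism of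
K-group schemes G → G which is flat and surjective and whose kernel is H. -/
theorem result
    (K : Type u) [Field K] (G H : Over (Spec (CommRingCat.of K))) [GrpObj G] [GrpObj H]
    (hG : Nonempty (Grp.mk G ≅ Grp.mk (Red.Ga (Spec (CommRingCat.of K)))) ∨
      Nonempty (Grp.mk G ≅ Grp.mk (Red.Gm (Spec (CommRingCat.of K)))))
    (i : H ⟶ G) [IsMonHom i] [Mono i] [IsFinite H.hom] :
    ∃ φ : G ⟶ G, IsMonHom φ ∧ AlgGrp.IsKernel i φ ∧ Flat φ.left ∧ Surjective φ.left := by
  suffices key : ∀ (A : Over (Spec (CommRingCat.of K))) [GrpObj A],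
      (∀ (j : H ⟶ A) [IsMonHom j] [Mono j], ∃ φ : A ⟶ A,
        IsMonHom φ ∧ AlgGrp.IsKernel j φ ∧ Flat φ.left ∧ Surjective φ.left) →
      Nonempty (Grp.mk G ≅ Grp.mk A) →
      ∃ φ : G ⟶ G, IsMonHom φ ∧ AlgGrp.IsKernel i φ ∧ Flat φ.left ∧ Surjective φ.left by
    rcases hG with h | h
    · exact key _ (fun j _ _ => Groth.Agent.GaGmQuot.ga_case j) h
    · exact key _ (fun j _ _ => Groth.Agent.GaGmQuot.gm_case j) h
  intro A _ hA ⟨e⟩
  let e' : G ≅ A := (Grp.forget _).mapIso e
  haveI : IsMonHom e'.hom := e.hom.hom.isMonHom_hom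
  haveI : IsMonHom e'.inv := e.inv.hom.isMonHom_hom
  obtain ⟨φ, hφ, hker, hflat, hsurj⟩ := hA (i ≫ e'.hom)
  refine ⟨e'.hom ≫ φ ≫ e'.inv, inferInstance, ?_, ?_, ?_⟩
  · refine Groth.Agent.AlgGrpLib.isKernel_of_points i _ ?_ fun T g hg => ?_
    · rw [← Category.assoc e'.hom φ, ← Category.assoc, ← Category.assoc, Groth.Agent.AlgGrpLib.kernel_comp hker,
        MonObj.one_comp]
    · have h1 : (g ≫ e'.hom) ≫ φ = 1 := by
        rw [← cancel_mono e'.inv, MonObj.one_comp, Category.assoc, Category.assoc]
        exact hg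
      obtain ⟨n, hn⟩ := Groth.Agent.AlgGrpLib.exists_lift_kernel hker h1
      exact ⟨n, by rw [← cancel_mono e'.hom, Category.assoc, hn]⟩
  · haveI := hflat
    haveI : IsIso e'.hom.left := inferInstanceAs (IsIso ((Over.forget _).map e'.hom))
    haveI : IsIso e'.inv.left := inferInstanceAs (IsIso ((Over.forget _).map e'.inv))
    rw [Over.comp_left, Over.comp_left]
    infer_instance
  · haveI := hsurj
    haveI : IsIso e'.hom.left := inferInstanceAs (IsIso ((Over.forget _).map e'.hom))
    haveI : IsIso e'.inv.left := inferInstanceAs (IsIso ((Over.forget _).map e'.inv))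
    rw [Over.comp_left, Over.comp_left]
    infer_instance

end Groth.Agent.S15180
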