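import Groth.Statements.S15181
import Groth.Agent.GaGm29.Law
import Groth.Agent.GaGm29.Model
import Groth.Agent.SGA3cLib.DiagPoints
import Groth.Agent.CurveLib.Completion
-- import your own Groth.Agent.* helpers here

set_option autoImplicit false
set_option linter.style.haveILetI false
set_option backward.isDefEq.respectTransparency.types false
universe u
open CategoryTheory MonoidalCategory CartesianMonoidalCategory MonObj GrpObj AlgebraicGeometry
open BddFin

namespace Groth.Agent.S15181
open Groth.Agent.GaGm29 Groth.Agent.SGA3cLib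

section
variable {K : Type u} [Field K] {G : Over (Spec (CommRingCat.of K))} [GrpObj G]

/-- the coordinate of a group isomorphic to `𝔾_a` -/
noncomputable def coordGa (e : G ≅ Red.Ga (Spec (CommRingCat.of K))) : Coord G where
  q := 1
  hq R _ := by rw [Polynomial.map_one]; exact one_ne_zero
  val B _ _ g := (Scheme.ΓSpecIso (CommRingCat.of B)).hom (Red.gaFn (g ≫ e.hom))
  inj B _ _ g g' h := (cancel_mono e.hom).1 (gaFn_injective
    ((ConcreteCategory.bijective_of_isIso (Scheme.ΓSpecIso (CommRingCat.of B)).hom).1 h))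
  surj B _ _ b _ := by
    obtain ⟨g, hg⟩ := exists_gaFn (X := pt K B) ((Scheme.ΓSpecIso (CommRingCat.of B)).inv b)
    refine ⟨g ≫ e.inv, ?_⟩
    rw [Category.assoc, Iso.inv_hom_id, Category.comp_id, hg]
    exact congr($((Scheme.ΓSpecIso (CommRingCat.of B)).inv_hom_id) b)
  unit B _ _ g := by rw [Polynomial.eval₂_one]; exact isUnit_one
  comp {B C} _ _ _ _ f g := by
    rw [Category.assoc, gaFn_comp]
    exact congr($(Scheme.ΓSpecIso_naturality (CommRingCat.ofHom f.toRingHom)) (Red.gaFn (g ≫ e.hom)))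

/-- the coordinate of a group isomorphic to `𝔾_m` -/
noncomputable def coordGm (e : G ≅ Red.Gm (Spec (CommRingCat.of K))) : Coord G where
  q := Polynomial.X
  hq R _ := by rw [Polynomial.map_X]; exact Polynomial.X_ne_zero
  val B _ _ g := (Scheme.ΓSpecIso (CommRingCat.of B)).hom (Red.gmFn (g ≫ e.hom))
  inj B _ _ g g' h := (cancel_mono e.hom).1 (gmFn_injective
    ((ConcreteCategory.bijective_of_isIso (Scheme.ΓSpecIso (CommRingCat.of B)).hom).1 h))
  surj B _ _ b hb := by
    rw [Polynomial.eval₂_X] at hb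
    obtain ⟨g, hg⟩ := exists_gmFn (X := pt K B) (r := (Scheme.ΓSpecIso (CommRingCat.of B)).inv b)
      (hb.map (Scheme.ΓSpecIso (CommRingCat.of B)).inv.hom)
    refine ⟨g ≫ e.inv, ?_⟩
    rw [Category.assoc, Iso.inv_hom_id, Category.comp_id, hg]
    exact congr($((Scheme.ΓSpecIso (CommRingCat.of B)).inv_hom_id) b)
  unit B _ _ g := by
    rw [Polynomial.eval₂_X]
    exact IsUnit.map (Scheme.ΓSpecIso (CommRingCat.of B)).hom.hom (isUnit_gmFn (g ≫ e.hom) : IsUnit (M := Γ(Spec (CommRingCat.of B), ⊤)) (Red.gmFn (g ≫ e.hom)))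
  comp {B C} _ _ _ _ f g := by
    rw [Category.assoc, gmFn_comp]
    exact congr($(Scheme.ΓSpecIso_naturality (CommRingCat.ofHom f.toRingHom)) (Red.gmFn (g ≫ e.hom)))

end


/-- Let K be a field, G a K-group scheme isomorphic (as a group scheme) to 𝔾_a or to 𝔾_m, and X an
integral separated K-scheme of finite type with an action of G that is not the trivial action. Then
X is birational over K to ℙ¹ × Y for some K-variety Y: there are an integral K-scheme Y locally of
finite type, a non-empty open subscheme U of X and an open subscheme V of the affine line over Y,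
with U and V isomorphic over K. -/
theorem result
    (K : Type u) [Field K] (G X : Over (Spec (CommRingCat.of K))) [GrpObj G]
    (hG : Nonempty (Grp.mk G ≅ Grp.mk (Red.Ga (Spec (CommRingCat.of K)))) ∨
      Nonempty (Grp.mk G ≅ Grp.mk (Red.Gm (Spec (CommRingCat.of K)))))
    [IsIntegral X.left] [LocallyOfFiniteType X.hom] [QuasiCompact X.hom] [IsSeparated X.hom]
    (a : AlgGrp.Action G X) (ha : a.act ≠ snd G X) :
    ∃ (Y : Over (Spec (CommRingCat.of K))) (_ : IsIntegral Y.left) (_ : LocallyOfFiniteType Y.hom)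
      (U : X.left.Opens) (V : (𝔸(ULift.{u} (Fin 1); Y.left)).Opens), (U : Set X.left).Nonempty ∧
      Nonempty (Over.mk (U.ι ≫ X.hom) ≅
        Over.mk (V.ι ≫ (𝔸(ULift.{u} (Fin 1); Y.left) ↘ Y.left) ≫ Y.hom)) := by
  obtain ⟨s₀, hs₀⟩ : ∃ s : X.left ⟶ Spec (CommRingCat.of K), s = X.hom := ⟨_, rfl⟩
  letI : X.left.Over (Spec (CommRingCat.of K)) := ⟨X.hom⟩
  haveI : LocallyOfFiniteType (X.left ↘ Spec (CommRingCat.of K)) := inferInstanceAs (LocallyOfFiniteType X.hom)
  let cK : K →+* X.left.functionField :=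
    (Spec.preimage (X.left.fromSpecStalk (genericPoint X.left) ≫ X.hom)).hom
  letI := cK.toAlgebra
  have hc : X.left.fromSpecStalk (genericPoint X.left) ≫ X.hom =
      Spec.map (CommRingCat.ofHom (algebraMap K X.left.functionField)) := (Spec.map_preimage _).symm
  have hfg : (⊤ : IntermediateField K X.left.functionField).FG := by
    have h := Groth.Agent.CurveLib.functionField_fg (k := K) X.left
    have he : (inferInstance : Algebra K X.left.functionField) =
        Curv2.stalkAlgebra K X.left (genericPoint X.left) := by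
      refine Algebra.algebra_ext _ _ fun c => ?_
      have h' : CommRingCat.ofHom (algebraMap K X.left.functionField) =
          CommRingCat.ofHom (Curv2.stalkMap K X.left (genericPoint X.left)) := by
        apply Spec.map_injective
        rw [← hc, Groth.Agent.CurveLib.specMap_stalkMap]
        rfl
      exact congr($h' c)
    rwa [← he] at h
  suffices h : ∃ σ : X.left.functionField →+* RatFunc X.left.functionField,
      (∀ c : K, σ (algebraMap K X.left.functionField c) = RatFunc.C (algebraMap K X.left.functionField c)) ∧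
      ∃ u : X.left.functionField, Transcendental (fixedField σ) u ∧
        ∀ T : Subfield X.left.functionField, fixedField σ ≤ T → u ∈ T → T = ⊤ by
    obtain ⟨σ, hK, u, hu, hgen⟩ := h
    let F : IntermediateField K X.left.functionField := (fixedField σ).toIntermediateField hK
    exact exists_affineLine_birational X hc F (fg_of_generated F u hu hgen hfg) u hu hgen
  have hne : ∀ σ : X.left.functionField →ₐ[K] RatFunc X.left.functionField, σ ≠ cst _ →
      fixedField σ.toRingHom ≠ ⊤ := fun σ hσ h => hσ (AlgHom.ext fun f =>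
        ((show f ∈ fixedField σ.toRingHom from h ▸ Subfield.mem_top f)).trans (cst_apply f).symm)
  have hK : ∀ (σ : X.left.functionField →ₐ[K] RatFunc X.left.functionField) (c : K),
      σ.toRingHom (algebraMap K X.left.functionField c) = RatFunc.C (algebraMap K X.left.functionField c) :=
    fun σ c => ((σ.commutes c).trans ((cst X.left.functionField).commutes c).symm).trans (cst_apply _)
  rcases hG with ⟨⟨e⟩⟩ | ⟨⟨e⟩⟩
  · obtain ⟨e', he'⟩ : ∃ e' : G ≅ Red.Ga (Spec (CommRingCat.of K)), IsMonHom e'.hom :=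
      ⟨(Grp.forget _).mapIso e, e.hom.hom.isMonHom_hom⟩
    haveI := he'
    obtain ⟨gt, σ, hgt, hne', hσ⟩ := exists_coaction_of_coord a hc ha (coordGa e')
    refine ⟨σ.toRingHom, hK σ, exists_generator_add σ.toRingHom (fun f => ?_) (hne σ hne')⟩
    refine coassoc a hc (coordGa e') hgt hσ addSub ?_ (fun g => ?_) (fun g₁ g₂ h₁ h₂ => ?_) f
    · exact (injective_iff_map_eq_zero _).2 fun p hp => by_contra fun h0 => addSub_ne_zero h0 hp
    · simp [addSub]
    · change (Scheme.ΓSpecIso _).hom (Red.gaFn ((g₁ * g₂) ≫ e'.hom)) = _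
      change (Scheme.ΓSpecIso _).hom (Red.gaFn (g₁ ≫ e'.hom)) = _ at h₁
      change (Scheme.ΓSpecIso _).hom (Red.gaFn (g₂ ≫ e'.hom)) = _ at h₂
      rw [show (g₁ * g₂) ≫ e'.hom = (g₁ ≫ e'.hom) * (g₂ ≫ e'.hom) from @MonObj.mul_comp _ _ _ _ _ _ _ _ g₁ g₂ e'.hom he', gaFn_mul, map_add, h₁, h₂]
      simp [addSub, RatFunc.algebraMap_X, RatFunc.algebraMap_C]
  · obtain ⟨e', he'⟩ : ∃ e' : G ≅ Red.Gm (Spec (CommRingCat.of K)), IsMonHom e'.hom :=
      ⟨(Grp.forget _).mapIso e, e.hom.hom.isMonHom_hom⟩
    haveI := he'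
    obtain ⟨gt, σ, hgt, hne', hσ⟩ := exists_coaction_of_coord a hc ha (coordGm e')
    refine ⟨σ.toRingHom, hK σ, exists_generator_mul σ.toRingHom (fun f => ?_) (hne σ hne')⟩
    refine coassoc a hc (coordGm e') hgt hσ mulSub ?_ (fun g => ?_) (fun g₁ g₂ h₁ h₂ => ?_) f
    · exact (injective_iff_map_eq_zero _).2 fun p hp => by_contra fun h0 => mulSub_ne_zero h0 hp
    · simp [mulSub]
    · change (Scheme.ΓSpecIso _).hom (Red.gmFn ((g₁ * g₂) ≫ e'.hom)) = _
      change (Scheme.ΓSpecIso _).hom (Red.gmFn (g₁ ≫ e'.hom)) = _ at h₁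
      change (Scheme.ΓSpecIso _).hom (Red.gmFn (g₂ ≫ e'.hom)) = _ at h₂
      rw [show (g₁ * g₂) ≫ e'.hom = (g₁ ≫ e'.hom) * (g₂ ≫ e'.hom) from @MonObj.mul_comp _ _ _ _ _ _ _ _ g₁ g₂ e'.hom he', gmFn_mul, map_mul, h₁, h₂]
      simp [mulSub, RatFunc.algebraMap_X, RatFunc.algebraMap_C]
      exact _root_.mul_comm _ _

end Groth.Agent.S15181
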