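import Groth.Statements.S15183
import Groth.Agent.CSA.Split
import Mathlib.LinearAlgebra.Matrix.Unique
import Mathlib.RingTheory.Polynomial.Cyclotomic.Roots
import Mathlib.Tactic

set_option autoImplicit false
universe u v
open Polynomial
open BddFin

namespace Groth.Agent.S15183

/-- Let K be a field such that K contains all roots of unity (for every n ≥ 1 the polynomial X^n − 1
splits into linear factors over K), and A a finite-dimensional central simple K-algebra which is not
a division algebra (some non-zero element is not a unit). Then the quotient of the unit group of A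
by that of K has elements of every finite order invertible in K: for every d ≥ 1 with d ≠ 0 in K
there is a unit x of A with x ^ d in K and x ^ k not in K for 0 < k < d. (The published assertion is
phrased for the automorphism group of the Severi–Brauer variety of A, which is isomorphic to the
units of A modulo those of K; this row is the algebra-side statement its proof establishes.) -/
theorem result
    (K : Type u) [Field K] (hK : ∀ n : ℕ, 0 < n → (X ^ n - 1 : K[X]).Splits)
    (A : Type v) [Ring A] [Algebra K A] [Algebra.IsCentral K A] [IsSimpleRing A] [FiniteDimensional K A]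
    (hA : ∃ y : A, y ≠ 0 ∧ ¬ IsUnit y) (d : ℕ) (hd : 0 < d) (hdK : (d : K) ≠ 0) :
    ∃ x : A, IsUnit x ∧ x ^ d ∈ (algebraMap K A).range ∧
      ∀ k : ℕ, 0 < k → k < d → x ^ k ∉ (algebraMap K A).range := by
  classical
  obtain ⟨n, hn, D, _, _, hc, _, ⟨e⟩⟩ := Groth.Agent.CSA.exists_algEquiv_matrix_division K (A := A)
  obtain ⟨y, hy, hyu⟩ := hA
  have hn2 : ∃ i j : Fin n, i ≠ j := by
    by_contra h
    push Not at h
    refine hyu ?_
    have hn1 : n = 1 := by
      by_contra hne
      have h0 := hn.ne
      exact absurd (congrArg Fin.val (h ⟨0, by omega⟩ ⟨1, by omega⟩)) (by simp)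
    subst hn1
    haveI : Unique (Fin 1) := inferInstance
    refine (isUnit_map_iff e y).1 ?_
    have h1 : e y = Matrix.scalar (Fin 1) (e y 0 0) := by
      ext i j
      fin_cases i; fin_cases j
      simp
    rw [h1]
    refine (isUnit_iff_ne_zero.2 fun h0 => hy (e.injective ?_)).map _
    rw [h1, h0, map_zero, map_zero]
  obtain ⟨i, j, hij⟩ := hn2
  haveI : NeZero (d : K) := ⟨hdK⟩
  obtain ⟨ζ, hζ⟩ : ∃ ζ : K, IsPrimitiveRoot ζ d := by
    have hs : (cyclotomic d K).Splits :=
      (hK d hd).of_dvd (by simpa using X_pow_sub_C_ne_zero hd (1 : K)) (cyclotomic.dvd_X_pow_sub_one d K)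
    obtain ⟨ζ, hζ⟩ := hs.exists_eval_eq_zero (degree_cyclotomic_pos d K hd).ne'
    exact ⟨ζ, isRoot_cyclotomic_iff.1 hζ⟩
  let w : Fin n → D := fun l => if l = i then algebraMap K D ζ else 1
  have hwd : w ^ d = 1 := by
    funext l
    by_cases hl : l = i <;> simp [w, hl, ← map_pow, hζ.pow_eq_one]
  have hxd : (e.symm (Matrix.diagonal w)) ^ d = 1 := by rw [← map_pow, Matrix.diagonal_pow, hwd, Matrix.diagonal_one', map_one]
  refine ⟨e.symm (Matrix.diagonal w), IsUnit.of_pow_eq_one hxd hd.ne', ⟨1, by rw [map_one, hxd]⟩, fun k hk hkd => ?_⟩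
  rintro ⟨z, hz⟩
  rw [← map_pow, Matrix.diagonal_pow] at hz
  have h1 := congrArg e hz
  rw [e.commutes, e.apply_symm_apply, Matrix.algebraMap_eq_diagonal, Matrix.diagonal_eq_diagonal_iff] at h1
  have hi := h1 i
  have hj := h1 j
  simp only [Pi.pow_apply, w, if_pos, if_neg hij.symm, one_pow, Pi.algebraMap_apply] at hi hj
  rw [hj, ← map_pow] at hi
  exact hζ.pow_ne_one_of_pos_of_lt hk.ne' hkd ((algebraMap K D).injective (hi.symm.trans (map_one _).symm))

end Groth.Agent.S15183
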