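import Groth.Statements.S15185
import Groth.Agent.BddFinLib.Kummer
import Mathlib.Algebra.CharP.Frobenius
import Mathlib.RingTheory.Polynomial.UniqueFactorization

set_option autoImplicit false
universe u v
open Polynomial
open BddFin

namespace Groth.Agent.S15185

/-- Let K be a field of characteristic p > 0 such that K contains all roots of unity (for every n ≥ 1
the polynomial X^n − 1 splits into linear factors over K), A a central division algebra of dimension
n ^ 2 over K, and write n = n' · p ^ m with n' prime to p; let N be the reduced norm of A. Consider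
the kernel of the homomorphism from the units of A modulo those of K to Kˣ/(Kˣ)^(p^m) induced by N.
Every element of finite order of that kernel has order dividing n': if x ≠ 0 in A has x ^ r in K for
some r ≥ 1 and N x is a (p ^ m)-th power of a non-zero element of K, then x ^ n' lies in K. -/
theorem result
    (K : Type u) [Field K] (p : ℕ) [Fact p.Prime] [CharP K p] (hK : ∀ n : ℕ, 0 < n → (X ^ n - 1 : K[X]).Splits)
    (A : Type v) [DivisionRing A] [Algebra K A] [Algebra.IsCentral K A] [FiniteDimensional K A]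
    (n n' m : ℕ) (hA : Module.finrank K A = n ^ 2) (hn : n = n' * p ^ m) (hn' : ¬ p ∣ n')
    (N : A →* K) (hN : CSAGal.IsRedNorm K A N)
    (x : A) (hx : x ≠ 0) (hxr : ∃ r : ℕ, 0 < r ∧ x ^ r ∈ (algebraMap K A).range)
    (hNx : ∃ b : K, b ≠ 0 ∧ N x = b ^ (p ^ m)) :
    x ^ n' ∈ (algebraMap K A).range := by
  haveI : Groth.Agent.CSA.IsCSA K A := {}
  have hp : p.Prime := Fact.out
  obtain ⟨R, hR, c, hc⟩ := hxr
  have hc0 : c ≠ 0 := by rintro rfl; rw [map_zero] at hc; exact pow_ne_zero R hx hc.symm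
  obtain ⟨r, hr, hdvd, ⟨s, hs⟩, hP⟩ := Groth.Agent.BddFinLib.exists_degree hK x hR hc0 hc.symm
  have hdeg : n = Groth.Agent.CSA.deg K A := Groth.Agent.CSA.deg_unique hA.symm
  rw [← hdeg] at hdvd
  have hint : IsIntegral K x := Algebra.IsIntegral.isIntegral x
  obtain ⟨a, ha⟩ : ∃ a, minpoly K x = X ^ r - C a :=
    hP _ (minpoly.monic hint) (minpoly.irreducible hint) (minpoly.dvd K x (Groth.Agent.CSA.aeval_rcharpoly x))
  have hxa : x ^ r = algebraMap K A a := by
    have h := minpoly.aeval K x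
    rwa [ha, map_sub, map_pow, aeval_X, aeval_C, sub_eq_zero] at h
  suffices hpr : ¬ p ∣ r by
    obtain ⟨j, rfl⟩ : r ∣ n' := ((hp.coprime_iff_not_dvd.2 hpr).symm.pow_right m).dvd_of_dvd_mul_right (hn ▸ hdvd)
    exact ⟨a ^ j, by rw [map_pow, ← hxa, pow_mul]⟩
  intro hpr
  have hP' : ∀ g : K[X], g.Monic → Irreducible g → g ∣ Groth.Agent.CSA.rcharpoly K x → g = X ^ r - C a := by
    intro g hg hgi hgd
    have hcp : g ∣ (LinearMap.mulLeft K x).charpoly := by
      rw [Groth.Agent.CSA.charpoly_mulLeft]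
      exact hgd.trans (dvd_pow_self _ (Groth.Agent.CSA.deg_pos K A).ne')
    let L := AlgebraicClosure K
    obtain ⟨β, hβ⟩ := IsAlgClosed.exists_aeval_eq_zero L g (degree_pos_of_irreducible hgi).ne'
    have hev : Module.End.HasEigenvalue ((LinearMap.mulLeft K x).baseChange L) β := by
      rw [Module.End.hasEigenvalue_iff_isRoot_charpoly, LinearMap.charpoly_baseChange, IsRoot, eval_map_algebraMap]
      exact aeval_eq_zero_of_dvd_aeval_eq_zero hcp hβ
    obtain ⟨v, hv⟩ := hev.exists_hasEigenvector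
    have hpow : ((LinearMap.mulLeft K x).baseChange L) ^ r = algebraMap L (Module.End L _) (algebraMap K L a) := by
      have h3 : (LinearMap.mulLeft K x) ^ r = algebraMap K (Module.End K A) a := by
        rw [LinearMap.pow_mulLeft, hxa]
        exact LinearMap.ext fun y => (Algebra.smul_def a y).symm
      rw [← LinearMap.baseChange_pow, h3]
      refine TensorProduct.AlgebraTensorModule.ext fun l y => ?_
      rw [LinearMap.baseChange_tmul, Module.algebraMap_end_apply, Module.algebraMap_end_apply, TensorProduct.smul_tmul',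
        TensorProduct.tmul_smul, TensorProduct.smul_tmul', smul_eq_mul, Algebra.smul_def]
    have h2 := Module.End.aeval_apply_of_hasEigenvector (p := X ^ r - C (algebraMap K L a)) hv
    rw [map_sub, map_pow, aeval_X, aeval_C, hpow, sub_self, LinearMap.zero_apply, eval_sub, eval_pow, eval_X,
      eval_C] at h2
    have h4 : β ^ r = algebraMap K L a := sub_eq_zero.1 ((smul_eq_zero.1 h2.symm).resolve_right hv.2)
    refine (minpoly.eq_of_irreducible_of_monic hgi hβ hg).trans (minpoly.eq_of_irreducible_of_monic ?_ ?_ ?_).symm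
    · rw [← ha]; exact minpoly.irreducible hint
    · simp [h4, L]
    · exact monic_X_pow_sub_C a hr.ne'
  obtain ⟨q, hq⟩ := hdvd
  have hPeq : Groth.Agent.CSA.rcharpoly K x = (X ^ r - C a) ^ q := by
    classical
    set P := Groth.Agent.CSA.rcharpoly K x
    have hPm : P.Monic := Groth.Agent.CSA.rcharpoly_monic x
    have hall : ∀ g ∈ UniqueFactorizationMonoid.normalizedFactors P, g = X ^ r - C a := by
      intro g hg
      have hi := UniqueFactorizationMonoid.irreducible_of_normalized_factor g hg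
      have h1 := monic_normalize hi.ne_zero
      rw [UniqueFactorizationMonoid.normalize_normalized_factor g hg] at h1
      exact hP' g h1 hi (UniqueFactorizationMonoid.dvd_of_mem_normalizedFactors hg)
    have hasc := UniqueFactorizationMonoid.prod_normalizedFactors hPm.ne_zero
    rw [Multiset.eq_replicate_card.2 hall, Multiset.prod_replicate] at hasc
    have heq := eq_of_monic_of_associated ((monic_X_pow_sub_C a hr.ne').pow _) hPm hasc
    have hd := congrArg natDegree heq
    rw [natDegree_pow, natDegree_X_pow_sub_C, Groth.Agent.CSA.rcharpoly_natDegree, ← hdeg, hq, mul_comm r] at hd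
    rw [← heq, Nat.eq_of_mul_eq_mul_right hr hd]
  obtain ⟨b, hb0, hb⟩ := hNx
  rw [Groth.Agent.CSA.isRedNorm_eq hN, Groth.Agent.CSA.rnorm, hPeq, coeff_zero_eq_eval_zero, ← hdeg] at hb
  simp only [eval_pow, eval_sub, eval_X, eval_C, zero_pow hr.ne', zero_sub] at hb
  -- split off the power of `p`
  obtain ⟨e, r', hr', hre⟩ := Nat.exists_eq_pow_mul_and_not_dvd hr.ne' p hp.ne_one
  have he : 0 < e := Nat.pos_of_ne_zero (by rintro rfl; simp at hre; subst hre; exact hr' hpr)
  have hqp : q * r' * p ^ e = n' * p ^ m := by rw [← hn, hq, hre]; ring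
  have hem : e ≤ m := by
    have hd : p ^ e ∣ n' * p ^ m := hqp ▸ dvd_mul_left _ _
    exact (Nat.pow_dvd_pow_iff_le_right hp.one_lt).1
      (((hp.coprime_iff_not_dvd.2 hn').pow_left e).dvd_of_dvd_mul_left hd)
  obtain ⟨q', hq', hqeq⟩ : ∃ q', ¬ p ∣ q' ∧ q = q' * p ^ (m - e) := by
    have h5 : q * r' = n' * p ^ (m - e) :=
      Nat.eq_of_mul_eq_mul_right (pow_pos hp.pos e) (by rw [hqp, mul_assoc, ← pow_add, Nat.sub_add_cancel hem])
    obtain ⟨q', hq'⟩ : p ^ (m - e) ∣ q :=
      ((hp.coprime_iff_not_dvd.2 hr').pow_left (m - e)).dvd_of_dvd_mul_right (h5 ▸ dvd_mul_left _ _)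
    refine ⟨q', fun hd => hn' ?_, by rw [hq']; ring⟩
    have h6 : q' * r' = n' := Nat.eq_of_mul_eq_mul_right (pow_pos hp.pos (m - e)) (by rw [← h5, hq']; ring)
    exact h6 ▸ hd.mul_right _
  -- signs are `p`-th powers of themselves
  have hsgn : ∀ (j i : ℕ), ((-1 : K) ^ j) ^ p ^ i = (-1) ^ j := by
    intro j i
    rw [← pow_mul, mul_comm, pow_mul, neg_one_pow_char_pow K p i]
  have hb' : (((-1 : K) ^ (n + q)) * a ^ q') ^ p ^ (m - e) = (b ^ p ^ e) ^ p ^ (m - e) := by
    rw [mul_pow, hsgn, ← pow_mul a, ← hqeq, ← pow_mul, ← pow_add, Nat.add_sub_cancel' hem, ← hb, neg_pow, pow_add]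
    ring
  have hb'' : a ^ q' = (((-1 : K) ^ (n + q)) * b) ^ p ^ e := by
    have h7 : (-1 : K) ^ (n + q) * a ^ q' = b ^ p ^ e :=
      iterateFrobenius_inj K p (m - e) (by simpa [iterateFrobenius_def] using hb')
    rw [mul_pow, hsgn, ← h7, ← mul_assoc, ← mul_pow]
    simp
  obtain ⟨u, w, huw⟩ := Nat.Coprime.isCoprime (Nat.Coprime.symm (hp.coprime_iff_not_dvd.2 hq'))
  set B := ((-1 : K) ^ (n + q)) * b
  have hB : B ≠ 0 := mul_ne_zero (pow_ne_zero _ (neg_ne_zero.2 one_ne_zero)) hb0
  have ha0 : a ≠ 0 := by rintro rfl; rw [map_zero] at hxa; exact pow_ne_zero r hx hxa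
  obtain ⟨a', ha'⟩ : ∃ a', a = a' ^ p := by
    refine ⟨(B ^ p ^ (e - 1)) ^ u * a ^ w, ?_⟩
    rw [mul_pow, ← zpow_natCast _ p, ← zpow_natCast _ p, ← zpow_mul, ← zpow_mul, mul_comm u, zpow_mul,
      zpow_natCast, ← pow_mul, ← pow_succ, Nat.sub_add_cancel he, ← hb'', ← zpow_natCast a q', ← zpow_mul,
      ← zpow_add₀ ha0, show (q' : ℤ) * u + w * p = 1 by linarith, zpow_one]
  obtain ⟨r₁, hr₁⟩ := hpr
  haveI : CharP A p := charP_of_injective_algebraMap (algebraMap K A).injective p
  have hzero : (x ^ r₁ - algebraMap K A a') ^ p = 0 := by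
    rw [sub_pow_char_of_commute _ (Algebra.commute_algebraMap_right a' _), ← pow_mul, mul_comm, ← hr₁, hxa, ha',
      map_pow, sub_self]
  have hr1 : 0 < r₁ := Nat.pos_of_ne_zero (by rintro rfl; omega)
  have hd : minpoly K x ∣ X ^ r₁ - C a' := minpoly.dvd K x (by simpa using eq_zero_of_pow_eq_zero hzero)
  have hle := natDegree_le_of_dvd hd (X_pow_sub_C_ne_zero hr1 _)
  rw [ha, natDegree_X_pow_sub_C, natDegree_X_pow_sub_C, hr₁] at hle
  nlinarith [hp.two_le]

end Groth.Agent.S15185
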