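import Groth.Statements.S15187
import Groth.Agent.BrSev29.AutSurj
import Groth.Agent.CSA.Splitting

set_option autoImplicit false
universe u
open CategoryTheory CategoryTheory.Limits AlgebraicGeometry
open BddFin

open Groth.Agent

namespace Groth.Agent.S15187

/-- Let k be a field, A a central simple k-algebra of dimension n², and X → Spec k the Severi–Brauer
variety of A (X represents the functor of left ideals of A with projective quotient of corank n² −
n). Then the group of automorphisms of X over k is isomorphic to the quotient of the unit group of A
by that of k: there is a surjective group homomorphism from the units of A onto Aut_k(X) whose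
kernel is the image of the units of k. (Existence of such a homomorphism only; in the published
lemma the map comes from the conjugation action of units on ideals.) -/
theorem result
    (k : Type u) [Field k] (A : Type u) [Ring A] [Algebra k A] [Algebra.IsCentral k A] [IsSimpleRing A]
    (n : ℕ) (hn : 0 < n) (hA : Module.finrank k A = n * n)
    {X : Scheme.{u}} (f : X ⟶ Spec (CommRingCat.of k)) (hX : BrSev.IsSBOf k A (n * n - n) f) :
    ∃ ξ : Aˣ →* Aut (Over.mk f), Function.Surjective ξ ∧
      ξ.ker = (Units.map (algebraMap k A : k →* A)).range := by
  have : FiniteDimensional k A := FiniteDimensional.of_finrank_pos (by rw [hA]; positivity)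
  obtain ⟨m, rfl⟩ := Nat.exists_eq_add_one.2 hn
  obtain ⟨L, _, _, _, _, r, _, hr, ⟨e⟩⟩ := CSA.exists_finite_separable_splitting (k := k) A
  have hr' : r = m + 1 := Nat.mul_self_inj.1 (by rw [← hA, ← hr, sq])
  subst hr'
  have : IsGalois k (SeparableClosure L) :=
    haveI := Algebra.IsSeparable.trans k L (SeparableClosure L)
    haveI : IsSepClosure k (SeparableClosure L) := ⟨inferInstance, inferInstance⟩
    IsSepClosure.isGalois
  let K := IntermediateField.normalClosure k L (SeparableClosure L)
  let ψ : (TensorProduct k K A) ≃ₐ[K] Matrix (Fin (m + 1)) (Fin (m + 1)) K :=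
    AlgEquiv.ofBijective (BrSev28.splitMap e K) (BrSev28.splitMap_bijective e K)
  obtain ⟨σ⟩ := hX
  exact ⟨BrSev29.autHom σ, BrSev29.autHom_surjective ψ σ,
    Subgroup.ext fun a => (MonoidHom.mem_ker).trans (BrSev29.autHom_eq_one_iff ψ σ a)⟩

end Groth.Agent.S15187
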