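import Groth.Statements.S15189
import Groth.Agent.S15187
import Groth.Agent.S15169
import Groth.Agent.S15184
import Mathlib.GroupTheory.FiniteAbelian.Basic

set_option autoImplicit false
universe u
open CategoryTheory CategoryTheory.Limits AlgebraicGeometry
open BddFin

open Groth.Agent

namespace Groth.Agent.S15189

/-- Let p be 2 or 3, k an infinite field of characteristic p, A a central simple k-algebra of dimension
p², and X → Spec k the Severi–Brauer variety of A (X represents the functor of left ideals of A with
projective quotient of corank p² − p; X has dimension p − 1). Then the group of automorphisms of X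
over k has unbounded finite subgroups: for every N it has a finite subgroup of order greater than N. -/
theorem result
    (k : Type u) [Field k] [Infinite k] (p : ℕ) [Fact p.Prime] [CharP k p] (hp : p = 2 ∨ p = 3)
    (A : Type u) [Ring A] [Algebra k A] [Algebra.IsCentral k A] [IsSimpleRing A]
    (hA : Module.finrank k A = p * p)
    {X : Scheme.{u}} (f : X ⟶ Spec (CommRingCat.of k)) (hX : BrSev.IsSBOf k A (p * p - p) f) (N : ℕ) :
    ∃ G : Subgroup (Aut (Over.mk f)), Finite G ∧ N < Nat.card G := by
  classical
  have hp0 : p ≠ 0 := (Fact.out : p.Prime).ne_zero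
  have : FiniteDimensional k A := FiniteDimensional.of_finrank_pos (by rw [hA]; positivity)
  haveI : Nontrivial A := IsSimpleRing.instNontrivial
  have hinjA : Function.Injective (algebraMap k A) := (algebraMap k A).injective
  -- a purely inseparable element
  obtain ⟨w, hwk, a, hwa⟩ : ∃ w : A, w ∉ (algebraMap k A).range ∧ ∃ a : k, w ^ p = algebraMap k A a := by
    by_cases hdiv : ∀ y : A, IsUnit y ∨ y = 0
    · letI : DivisionRing A := DivisionRing.ofIsUnitOrEqZero hdiv
      have hA' : Module.finrank k A = p ^ 2 := by rw [hA, sq]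
      obtain ⟨v, u, hv, -, hvu, -⟩ := S15169.result k p A hA' (S15184.result k p A hA' hp)
      obtain ⟨a, ha⟩ := hv
      refine ⟨v, fun ⟨b, hb⟩ => one_ne_zero (α := A) ?_, a, ha.symm⟩
      rw [← hvu, ← hb, Algebra.commutes, sub_self]
    · push_neg at hdiv
      obtain ⟨y, hyu, hy0⟩ := hdiv
      obtain ⟨z, hz0, hzy⟩ : ∃ z : A, z ≠ 0 ∧ z * y = 0 := by
        by_contra! h
        have hinj : Function.Injective (LinearMap.mulRight k y) :=
          (injective_iff_map_eq_zero _).2 fun z hz => by_contra fun hz0 => h z hz0 hz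
        obtain ⟨x, hx⟩ := LinearMap.injective_iff_surjective.1 hinj 1
        have hxy : x * y = 1 := hx
        exact hyu ⟨⟨y, x, hinj (show y * x * y = 1 * y by rw [mul_assoc, hxy, mul_one, one_mul]), hxy⟩, rfl⟩
      obtain ⟨b, hb⟩ : ∃ b : A, y * b * z ≠ 0 := by
        by_contra! h
        let I : TwoSidedIdeal A := TwoSidedIdeal.mk' {x | ∀ b, y * b * x = 0} (fun b => mul_zero _)
          (fun hx hx' b => by rw [mul_add, hx b, hx' b, add_zero]) (fun hx b => by rw [mul_neg, hx b, neg_zero])
          (fun {c x} hx b => by rw [← mul_assoc, mul_assoc y b c]; exact hx _)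
          (fun {x c} hx b => by rw [← mul_assoc, hx b, zero_mul])
        have hzI : z ∈ I := (TwoSidedIdeal.mem_mk' ..).2 h
        have h1 : (1 : A) ∈ I := IsSimpleRing.one_mem_of_ne_zero_mem I hz0 hzI
        exact hy0 (by simpa using (TwoSidedIdeal.mem_mk' ..).1 h1 1)
      have hu2 : (y * b * z) * (y * b * z) = 0 := by
        rw [show y * b * z * (y * b * z) = y * b * (z * y) * (b * z) by simp only [mul_assoc], hzy, mul_zero, zero_mul]
      refine ⟨y * b * z, fun ⟨c, hc⟩ => hb ?_, 0, ?_⟩
      · rw [← hc, ← map_mul] at hu2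
        have hc0 : c = 0 := mul_self_eq_zero.1 (hinjA (hu2.trans (map_zero _).symm))
        rw [← hc, hc0, map_zero]
      · rw [map_zero, show p = 2 + (p - 2) by have := (Fact.out : p.Prime).two_le; omega, pow_add, sq, hu2, zero_mul]
  haveI : CharP A p := charP_of_injective_algebraMap hinjA p
  have hpow : ∀ c : k, (w + algebraMap k A c) ^ p = algebraMap k A (a + c ^ p) := fun c => by
    rw [add_pow_char_of_commute p (Algebra.commute_algebraMap_right c w), hwa, map_add, map_pow]
  -- the translates of `w`
  have hfin : {c : k | a + c ^ p = 0}.Finite :=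
    Set.Subsingleton.finite fun c hc d hd => by
      refine frobenius_inj k p ?_
      have hc' : a + c ^ p = 0 := hc
      have hd' : a + d ^ p = 0 := hd
      rw [frobenius_def, frobenius_def]
      linear_combination hc' - hd' 
  obtain ⟨T, hT, hTcard⟩ := hfin.infinite_compl.exists_subset_card_eq (N + 1)
  have hunit : ∀ c : T, IsUnit (w + algebraMap k A (c : k)) := fun c =>
    (isUnit_pow_iff hp0).1 (by
      rw [hpow]
      exact (IsUnit.mk0 _ (hT c.2)).map _)
  have hp' : 0 < p := Nat.pos_of_ne_zero hp0
  obtain ⟨ξ, -, hker⟩ := S15187.result k A p hp' hA f hX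
  let g : T → Aut (Over.mk f) := fun c => ξ (hunit c).unit
  have hginj : Function.Injective g := fun c d hcd => by
    have h : (hunit c).unit⁻¹ * (hunit d).unit ∈ ξ.ker := by
      rw [MonoidHom.mem_ker, map_mul, map_inv, inv_mul_eq_one]
      exact hcd
    rw [hker] at h
    obtain ⟨r, hr⟩ := h
    have h2 : w + algebraMap k A (d : k) = (w + algebraMap k A (c : k)) * algebraMap k A (r : k) := by
      have h3 : (hunit d).unit = (hunit c).unit * Units.map (algebraMap k A : k →* A) r := by rw [hr, mul_inv_cancel_left]
      exact congrArg Units.val h3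
    by_contra hne
    have hr1 : (r : k) ≠ 1 := fun hr1 => hne (Subtype.ext (hinjA (add_left_cancel (a := w) (by
      rw [h2, hr1, map_one, mul_one]))))
    refine hwk ⟨((d : k) - c * r) / (r - 1), ?_⟩
    have h4 : algebraMap k A ((r : k) - 1) * w = algebraMap k A ((d : k) - c * r) := by
      rw [map_sub, map_sub, map_mul, map_one, sub_mul, one_mul, Algebra.commutes (r : k) w]
      rw [add_mul] at h2
      linear_combination (norm := abel) -h2
    rw [show ((d : k) - c * r) / (r - 1) = ((r : k) - 1)⁻¹ * ((d : k) - c * r) by ring, map_mul, ← h4, ← mul_assoc,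
      ← map_mul, inv_mul_cancel₀ (sub_ne_zero.2 hr1), map_one, one_mul]
  let G : Subgroup (Aut (Over.mk f)) := Subgroup.closure (Set.range g)
  have hcomm : ∀ x ∈ Set.range g, ∀ y ∈ Set.range g, x * y = y * x := by
    rintro _ ⟨c, rfl⟩ _ ⟨d, rfl⟩
    show ξ _ * ξ _ = ξ _ * ξ _
    rw [← map_mul, ← map_mul]
    refine congrArg ξ (Units.ext ?_)
    simp only [Units.val_mul, IsUnit.unit_spec]
    exact ((Commute.refl w).add_left (Algebra.commute_algebraMap_left _ _)).add_right
      (Algebra.commute_algebraMap_right _ _)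
  letI : CommGroup G := Subgroup.closureCommGroupOfComm hcomm
  haveI : Group.FG G := (Group.fg_iff_subgroup_fg G).2 ((Subgroup.fg_iff G).2 ⟨_, rfl, Set.finite_range g⟩)
  have htor : Monoid.IsTorsion G := fun x => by
    refine isOfFinOrder_iff_pow_eq_one.2 ⟨p, hp', Subtype.ext ?_⟩
    obtain ⟨x, hx⟩ := x
    show x ^ p = 1
    induction hx using Subgroup.closure_induction with
    | mem x hx =>
      obtain ⟨c, rfl⟩ := hx
      show ξ _ ^ p = 1
      rw [← map_pow, ← MonoidHom.mem_ker, hker]
      refine ⟨Units.mk0 (a + (c : k) ^ p) (hT c.2), Units.ext ?_⟩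
      simpa [IsUnit.unit_spec] using (hpow c).symm
    | one => exact one_pow p
    | mul x y hx hy ihx ihy =>
      have h : Commute x y := congrArg Subtype.val (mul_comm (⟨x, hx⟩ : G) ⟨y, hy⟩)
      rw [h.mul_pow, ihx, ihy, one_mul]
    | inv x _ ih => rw [inv_pow, ih, inv_one]
  haveI := CommGroup.finite_of_fg_torsion G htor
  refine ⟨G, inferInstance, ?_⟩
  refine Nat.lt_of_lt_of_le (m := Nat.card T) ?_
    (Nat.card_le_card_of_injective (fun c => (⟨g c, Subgroup.subset_closure ⟨c, rfl⟩⟩ : G))
      fun c d h => hginj (congrArg Subtype.val h))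
  rw [Nat.card_eq_fintype_card, Fintype.card_coe, hTcard]
  exact Nat.lt_succ_self N

end Groth.Agent.S15189
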