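import Groth.Statements.S1519
import Groth.Agent.VarietyLib.CurveHom
import Groth.Agent.PicLib.PicMonoid

set_option autoImplicit false
universe u
open CategoryTheory CategoryTheory.Limits AlgebraicGeometry
open Variety
open Groth.Agent

namespace Groth.Agent.S1519



/-- On a proper curve over a field, if an invertible module has a nonzero global section which vanishes
at some point (the section does not generate the module near that point), then the degree is
positive. -/
theorem result (k : Type u) [Field k] (X : Scheme.{u}) [X.Over (Spec (CommRingCat.of k))]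
    [IsIntegral X] [IsProper (X ↘ (Spec (CommRingCat.of k)))] (hdim : topologicalKrullDim X = 1)
    (L : X.Modules) (hL : PicF.IsInvertible L) (s : Coh.structureModule X ⟶ L) (hs : s ≠ 0)
    (x : X) (hx : x ∉ CohB1.genLocus L s) :
    0 < Curv2.deg k X L 1 := by
  obtain ⟨h, hiso⟩ := VarietyLib.deg_hom k hdim.le AmpleLib.isInvertible_structureModule hL s hs
  rw [VarietyLib.deg_structureModule k] at h hiso
  refine lt_of_le_of_ne h fun heq => hx ?_
  haveI := hiso heq
  rw [AmpleLib.genLocus_eq_glocus]
  have : AmpleLib.glocus L (s.app ⊤ (1 : Γ(X, ⊤))) = ⊤ := by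
    have h1 := AmpleLib.glocus_map_iso (asIso s) (show Γ(Coh.structureModule X, ⊤) from (1 : Γ(X, ⊤)))
    rw [asIso_hom] at h1
    rw [h1, AmpleLib.glocus_structureModule]
    exact X.basicOpen_of_isUnit isUnit_one
  have e : Coherent.unitVal s ⊤ = s.app ⊤ (1 : Γ(X, ⊤)) := rfl
  rw [e, this]
  trivial

end Groth.Agent.S1519
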