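import Groth.Statements.S15190
import Groth.Agent.S15187
import Groth.Agent.S15185
import Groth.Agent.CSA.ReducedNorm
import Groth.Agent.CSA.Splitting
import Mathlib.GroupTheory.SchurZassenhaus
import Mathlib.GroupTheory.Perm.Cycle.Type

set_option autoImplicit false
universe u
open CategoryTheory CategoryTheory.Limits AlgebraicGeometry Polynomial
open BddFin

open Groth.Agent

namespace Groth.Agent.S15190

/-- Let k be a field of characteristic p > 0 such that k contains all roots of unity (for every r ≥ 1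
the polynomial X^r − 1 splits into linear factors over k), A a central division algebra of dimension
n² over k with n = n' · p ^ m and n' prime to p, and X → Spec k the Severi–Brauer variety of A (X
represents the functor of left ideals of A with projective quotient of corank n² − n). Then every
finite subgroup G of the group of automorphisms of X over k is a semidirect product: there are
subgroups H and S of G with H normal in G, H ∩ S trivial and H S = G, such that every element of H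
has order prime to p and S is abelian with s ^ (p ^ m) = 1 for all s in S. (The published statement
also bounds the order of H; that bound is not part of this row.) -/
theorem result
    (k : Type u) [Field k] (p : ℕ) [Fact p.Prime] [CharP k p]
    (hk : ∀ r : ℕ, 0 < r → (X ^ r - 1 : k[X]).Splits)
    (A : Type u) [DivisionRing A] [Algebra k A] [Algebra.IsCentral k A]
    (n n' m : ℕ) (hn0 : 0 < n) (hA : Module.finrank k A = n * n) (hn : n = n' * p ^ m) (hn' : ¬ p ∣ n')
    {X : Scheme.{u}} (f : X ⟶ Spec (CommRingCat.of k)) (hX : BrSev.IsSBOf k A (n * n - n) f)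
    (G : Subgroup (Aut (Over.mk f))) [Finite G] :
    ∃ H S : Subgroup (Aut (Over.mk f)), H ≤ G ∧ S ≤ G ∧
      (∀ g ∈ G, ∀ h ∈ H, g * h * g⁻¹ ∈ H) ∧ H ⊓ S = ⊥ ∧ H ⊔ S = G ∧
      (∀ h ∈ H, ((orderOf h : ℕ) : k) ≠ 0) ∧
      (∀ s ∈ S, ∀ t ∈ S, s * t = t * s) ∧ (∀ s ∈ S, s ^ (p ^ m) = 1) := by
  classical
  haveI : FiniteDimensional k A := FiniteDimensional.of_finrank_pos (by rw [hA]; positivity)
  haveI : CSA.IsCSA k A := {}
  obtain ⟨ξ, hξ, hker⟩ := S15187.result k A n hn0 hA f hX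
  have hA2 : Module.finrank k A = n ^ 2 := by rw [hA, sq]
  -- the reduced norm
  obtain ⟨L, _, _, _, _, r, _, hr, ⟨e⟩⟩ := CSA.exists_finite_separable_splitting (k := k) A
  let fA : A →ₐ[k] Matrix (Fin r) (Fin r) L := (e.toAlgHom.restrictScalars k).comp Algebra.TensorProduct.includeRight
  let N : A →* k := CSA.rnormHom k A
  have hNdet : ∀ a, algebraMap k L (N a) = Matrix.det (e (1 ⊗ₜ[k] a)) := fun a => (CSA.rep_det' fA (by simpa using hr) a).symm
  have hN : CSAGal.IsRedNorm k A N := ⟨L, inferInstance, inferInstance, inferInstance, r, e, hNdet⟩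
  have hNc : ∀ c : k, N (algebraMap k A c) = c ^ n := fun c => (algebraMap k L).injective (by
    have hrn : r = n := Nat.pow_left_injective two_ne_zero (hr.trans hA2)
    rw [hNdet, show e (1 ⊗ₜ[k] algebraMap k A c) = algebraMap k (Matrix (Fin r) (Fin r) L) c from
      fA.commutes c, Matrix.algebraMap_eq_diagonal, Matrix.det_diagonal, map_pow, ← hrn]
    simp)
  -- the homomorphism to `kˣ` modulo `p ^ m`-th powers
  let P : Subgroup kˣ := (powMonoidHom (p ^ m) : kˣ →* kˣ).range
  let Φ : Aˣ →* kˣ ⧸ P := (QuotientGroup.mk' P).comp (Units.map N)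
  have hle : ξ.ker ≤ Φ.ker := by
    rw [hker]
    rintro _ ⟨c, rfl⟩
    rw [MonoidHom.mem_ker]
    refine (QuotientGroup.eq_one_iff _).2 ⟨c ^ n', Units.ext ?_⟩
    show ((c ^ n') ^ p ^ m : kˣ).1 = N (algebraMap k A (c : k))
    rw [hNc, hn, pow_mul, Units.val_pow_eq_pow_val, Units.val_pow_eq_pow_val]
  let Ψ : Aut (Over.mk f) →* kˣ ⧸ P := ξ.liftOfSurjective hξ ⟨Φ, hle⟩
  have hΨ : ∀ a, Ψ (ξ a) = Φ a := fun a => ξ.liftOfRightInverse_comp_apply _ (Function.rightInverse_surjInv hξ) ⟨Φ, hle⟩ a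
  let N₀ : Subgroup G := (Ψ.comp G.subtype).ker
  have hH : ∀ h ∈ N₀, (h : Aut (Over.mk f)) ^ n' = 1 := by
    intro h hh
    obtain ⟨a, ha⟩ := hξ h.1
    have hh' : Ψ h.1 = 1 := hh
    rw [← ha, hΨ] at hh'
    obtain ⟨b, hb⟩ := (QuotientGroup.eq_one_iff _).1 hh'
    obtain ⟨r, hr0, hr⟩ := (isOfFinOrder_of_finite h).exists_pow_eq_one
    have hr' : ξ (a ^ r) = 1 := by rw [map_pow, ha, ← Subgroup.coe_pow, hr]; rfl
    rw [← MonoidHom.mem_ker, hker] at hr'
    obtain ⟨c, hc⟩ := hr'
    obtain ⟨c', hc'⟩ := S15185.result k p hk A n n' m hA2 hn hn' N hN (a : A) a.ne_zero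
      ⟨r, hr0, (c : k), by simpa using congrArg Units.val hc⟩
      ⟨(b : k), b.ne_zero, by simpa using (congrArg Units.val hb).symm⟩
    rw [← ha, ← map_pow, ← MonoidHom.mem_ker, hker]
    refine ⟨Units.mk0 c' fun h0 => pow_ne_zero n' a.ne_zero (by rw [← hc', h0, map_zero]), Units.ext ?_⟩
    simpa using hc'
  have hord : ∀ h ∈ N₀, ¬ p ∣ orderOf h := fun h hh hd => hn' (hd.trans (orderOf_dvd_of_pow_eq_one
    (Subtype.ext (by rw [Subgroup.coe_pow]; exact hH h hh))))
  have hcard : ¬ p ∣ Nat.card N₀ := fun hd => by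
    obtain ⟨x, hx⟩ := exists_prime_orderOf_dvd_card' p hd
    exact hord x.1 x.2 (by rw [Subgroup.orderOf_coe, hx])
  have hpm : ∀ q : kˣ ⧸ P, q ^ p ^ m = 1 := by
    intro q
    induction q using QuotientGroup.induction_on with
    | H u => exact (QuotientGroup.eq_one_iff _).2 ⟨u, rfl⟩
  have hpG : ∀ g : G, g ^ p ^ m ∈ N₀ := fun g => by
    rw [MonoidHom.mem_ker, map_pow]
    exact hpm _
  have hcop : Nat.Coprime (Nat.card N₀) N₀.index := by
    haveI : Fact p.Prime := ‹_›
    have hq : IsPGroup p (G ⧸ N₀) := fun q => ⟨m, by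
      induction q using QuotientGroup.induction_on with
      | H g => exact (QuotientGroup.eq_one_iff _).2 (hpG g)⟩
    obtain ⟨t, ht⟩ := IsPGroup.iff_card.1 hq
    rw [Subgroup.index_eq_card, ht]
    exact Nat.Coprime.pow_right t ((Nat.Prime.coprime_iff_not_dvd (Fact.out : p.Prime)).2 hcard).symm
  obtain ⟨S₀, hS₀⟩ := Subgroup.exists_right_complement'_of_coprime hcop
  have hbot : ∀ s ∈ S₀, s ∈ N₀ → s = 1 := fun s hs hs' => by
    have := hS₀.disjoint.le_bot ⟨hs', hs⟩
    exact this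
  refine ⟨N₀.map G.subtype, S₀.map G.subtype, Subgroup.map_subtype_le _, Subgroup.map_subtype_le _, ?_, ?_, ?_, ?_, ?_, ?_⟩
  · rintro g hg _ ⟨h, hh, rfl⟩
    refine Subgroup.mem_map.2 ⟨(⟨g, hg⟩ : ↥G) * h * (⟨g, hg⟩ : ↥G)⁻¹, ?_, ?_⟩
    · exact Subgroup.Normal.conj_mem inferInstance h hh ⟨g, hg⟩
    · simp only [map_mul, map_inv, Subgroup.coe_subtype, Subgroup.coe_mul, Subgroup.coe_inv]
  · rw [← Subgroup.map_inf _ _ _ Subtype.val_injective, hS₀.disjoint.eq_bot, Subgroup.map_bot]
  · rw [← Subgroup.map_sup, hS₀.sup_eq_top, ← MonoidHom.range_eq_map, Subgroup.range_subtype]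
  · rintro _ ⟨h, hh, rfl⟩
    rw [Subgroup.coe_subtype, Subgroup.orderOf_coe, Ne, CharP.cast_eq_zero_iff k p]
    exact hord h hh
  · rintro _ ⟨s, hs, rfl⟩ _ ⟨t, ht, rfl⟩
    rw [← map_mul, ← map_mul]
    refine congrArg _ (mul_inv_eq_one.1 (hbot _ (mul_mem (mul_mem hs ht) (inv_mem (mul_mem ht hs))) ?_))
    rw [MonoidHom.mem_ker, map_mul, map_inv, map_mul, map_mul, mul_comm (Ψ.comp G.subtype s), mul_inv_cancel]
  · rintro _ ⟨s, hs, rfl⟩
    rw [← map_pow, hbot _ (pow_mem hs _) (hpG s), map_one]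

end Groth.Agent.S15190
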