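import Groth.Statements.S15217
import Groth.Agent.EulerLib.StabBasic
import Groth.Agent.EulerLib.PolyTop

set_option autoImplicit false
open CategoryTheory CategoryTheory.Limits AlgebraicGeometry Polynomial
universe u
open ShStab

namespace Groth.Agent.S15217

/-- Let X be a scheme proper over a field k with an ample invertible sheaf L, all Hilbert polynomials
being taken with respect to L, and let d ≥ 1. For an O_X-module E the following are equivalent: (i)
E is semistable of dimension d in the sense of Gieseker, i.e. coherent, nonzero, pure of dimension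
d, with reduced Hilbert polynomial p(F) ≤ p(E) for every nonzero proper coherent submodule F; (ii) E
is ℓ-semistable of dimension d for ℓ = d, i.e. coherent, nonzero, pure of dimension d, and for every
coherent submodule F whose multiplicity satisfies 0 < α_d(F) < α_d(E) the reduced d-truncated
Hilbert polynomials (all coefficients α_{d-1}/α_d, …, α_0/α_d, compared lexicographically) satisfy
p_d(F) ≤ p_d(E). (The published remark is made for coherent sheaves on a connected smooth projective
variety with a very ample polarisation and records no argument; this row states the equivalence for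
X proper over any field with L ample.) -/
theorem result (k : Type u) [Field k] (X : Scheme.{u})
    [X.Over (Spec (CommRingCat.of k))] [IsProper (X ↘ Spec (CommRingCat.of k))]
    (L : X.Modules) (hL : CohB1.IsAmple L) (d : ℕ) (hd : 1 ≤ d) (E : X.Modules) :
    ShStab.IsSemistable k X L E d ↔ ShStab.IsEllSemistable k X L E d d := by
  constructor
  · rintro ⟨hEc, hE0, hp, hss⟩
    refine ⟨hEc, hE0, hp, fun F ι hm hF pF pE hpF hpE h1 h2 => ?_⟩
    haveI := hm
    have hF0 : ¬ IsZero F := fun h => by
      rw [Groth.Agent.EulerLib.hilb_zero k hL h hpF] at h1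
      simp [StabCat.alpha] at h1
    have hni : ¬ IsIso ι := fun h => by
      rw [Groth.Agent.EulerLib.isHilbPoly_unique k (Groth.Agent.EulerLib.isHilbPoly_iso k (asIso ι) hpF) hpE] at h2
      exact lt_irrefl _ h2
    rw [Groth.Agent.EulerLib.topPart_self
        (Groth.Agent.EulerLib.natDegree_le_of_pure k hL hF (Groth.Agent.EulerLib.isPure_of_mono hp ι) hpF),
      Groth.Agent.EulerLib.topPart_self (Groth.Agent.EulerLib.natDegree_le_of_pure k hL hEc hp hpE)]
    exact hss F ι hm hF hF0 hni pF pE hpF hpE
  · rintro ⟨hEc, hE0, hp, hss⟩
    refine ⟨hEc, hE0, hp, fun F ι hm hF hF0 hni pF pE hpF hpE => ?_⟩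
    haveI := hm
    haveI := Groth.Agent.EulerLib.isNoetherian_of_proper (X := X) k
    have h1 := Groth.Agent.EulerLib.alpha_pos_of_sub k hL hp ι hF hF0 hpF
    rcases (Groth.Agent.EulerLib.alpha_le_of_mono k hL ι hF hEc
      (Groth.Agent.EulerLib.dim_le_of_pure k hEc hp) hpF hpE).lt_or_eq with h2 | h2
    · have h := hss F ι hm hF pF pE hpF hpE h1 h2
      rwa [Groth.Agent.EulerLib.topPart_self
          (Groth.Agent.EulerLib.natDegree_le_of_pure k hL hF (Groth.Agent.EulerLib.isPure_of_mono hp ι) hpF),
        Groth.Agent.EulerLib.topPart_self (Groth.Agent.EulerLib.natDegree_le_of_pure k hL hEc hp hpE)] at h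
    · obtain ⟨R, hR, hsum⟩ := Groth.Agent.EulerLib.hilb_mono k hL ι hF hEc hpF hpE
      have hc := Groth.Agent.Coherent.isCoh_cokernel ι hF.1 hEc
      have hR0 : ¬ IsZero (cokernel ι) := fun h => hni <|
        haveI : Epi ι := Preadditive.epi_of_isZero_cokernel ι h
        isIso_of_mono_of_epi ι
      have hlc := Groth.Agent.EulerLib.hilb_leadingCoeff_pos k hL hc hR0 hR
      rw [StabCat.RedLE, ← h2, Groth.Agent.EulerLib.polyLE_smul h1, Groth.Agent.EulerLib.polyLE_iff, hsum,
        add_sub_cancel_left]
      exact hlc.le

end Groth.Agent.S15217
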