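import Groth.Statements.S15221
import Groth.Agent.Mod22.RankOneSlope
import Groth.Agent.CurveRR24.AlgClosed
import Groth.Agent.CurveRR24.Point
import Groth.Agent.Et18.ExtRealize
import Groth.Agent.DQCoh.Local
import Groth.Agent.Coherent.ModExt
import Groth.Agent.EulerLib.StabBasic
import Groth.Agent.EulerLib.SlopeBasic
import Groth.Agent.SerreDual.Trace
-- import your own Groth.Agent.* helpers here

set_option autoImplicit false
open CategoryTheory CategoryTheory.Limits AlgebraicGeometry Polynomial
universe u
open ShStab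

namespace Groth.Agent.S15221

open CategoryTheory CategoryTheory.Limits AlgebraicGeometry Polynomial TopologicalSpace StabCat
open CategoryTheory.Abelian
open Groth.Agent.Coherent Groth.Agent.EulerLib Groth.Agent.DimLib Groth.Agent.AmpleLib Groth.Agent.AssSch12
open Groth.Agent.Mod22 Groth.Agent.CurveRR24

set_option linter.style.haveILetI false
set_option backward.isDefEq.respectTransparency.types false
set_option maxHeartbeats 1000000

section

variable (k : Type u) [Field k] {X : Scheme.{u}} [X.Over (Spec (CommRingCat.of k))]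
  [IsProper (X ↘ Spec (CommRingCat.of k))] [IsIntegral X] {L : X.Modules} (hL : CohB1.IsAmple L)
  {n : ℕ} (hn : topologicalKrullDim ↥X = (n : WithBot ℕ∞))

include k in
/-- A nonzero submodule of the structure module has full support. -/
theorem dim_of_mono {W : X.Modules} (j : W ⟶ Coh.structureModule X) [Mono j] (hW : Coh.IsCoh W)
    (h0 : ¬ IsZero W) (hn : topologicalKrullDim ↥X = (n : WithBot ℕ∞)) :
    topologicalKrullDim (CohB1.support W) = (n : WithBot ℕ∞) := by
  haveI := isNoetherian_of_proper (k := k) (X := X)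
  rw [RankOneSlope.support_eq_univ hW
    (Surf15.isTorsionFree_of_mono j (RankOneSlope.isTorsionFree_of_invertible isInvertible_structureModule)) h0,
    (Homeomorph.Set.univ X).isHomeomorph.topologicalKrullDim_eq, hn]

include hL hn in
/-- A nonzero submodule of the structure module has the same multiplicity. -/
theorem alpha_of_mono {W : X.Modules} (j : W ⟶ Coh.structureModule X) [Mono j] (hW : Coh.IsCoh W)
    (h0 : ¬ IsZero W) {P PO : ℚ[X]} (hP : ShStab.IsHilbPoly k X L W P)
    (hPO : ShStab.IsHilbPoly k X L (Coh.structureModule X) PO) : alpha n P = alpha n PO := by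
  haveI := isNoetherian_of_proper (k := k) (X := X)
  have hO : Coh.IsCoh (Coh.structureModule X) := Coherent.isCoh_structureModule X
  have hη := RankOneSlope.generic_notMem_cokernel isInvertible_structureModule j hW h0
  have hC := isCoh_cokernel j hW.1 hO
  have hlt : topologicalKrullDim (CohB1.support (cokernel j)) < (n : WithBot ℕ∞) :=
    dim_lt_of_notMem (isClosed_support _ (locallyFinGen_of_isFT _ hC.2)) (Set.subset_univ _)
      isClosed_univ (genericPoint_spec X : closure ({genericPoint X} : Set X) = Set.univ) hη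
      ((Homeomorph.Set.univ X).isHomeomorph.topologicalKrullDim_eq.le.trans hn.le)
  obtain ⟨R, hR, rfl⟩ : ∃ R, ShStab.IsHilbPoly k X L (cokernel j) R ∧ PO = P + R :=
    hilb_mono k hL j hW hO hP hPO
  rw [alpha_add, alpha_eq_zero_of_dim_lt k hL.1 hC hR hlt, add_zero]

include hL in
/-- A proper submodule has Hilbert polynomial at least one below, eventually. -/
theorem eventually_one_le {F E : X.Modules} (j : F ⟶ E) [Mono j] (hF : Coh.IsCoh F) (hE : Coh.IsCoh E)
    (hj : ¬ IsIso j) {P Q : ℚ[X]} (hP : ShStab.IsHilbPoly k X L F P) (hQ : ShStab.IsHilbPoly k X L E Q) :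
    ∃ N : ℕ, ∀ m : ℕ, N ≤ m → P.eval (m : ℚ) + 1 ≤ Q.eval (m : ℚ) := by
  haveI := isNoetherian_of_proper (k := k) (X := X)
  obtain ⟨R, hR, rfl⟩ := hilb_mono k hL j hF hE hP hQ
  have hR0 : ¬ IsZero (cokernel j) := fun h => hj <| by
    haveI : Epi j := Preadditive.epi_of_isZero_cokernel j h
    exact isIso_of_mono_of_epi j
  obtain ⟨N, hN⟩ := eventually_pos_of_leadingCoeff_pos
    (hilb_leadingCoeff_pos k hL (isCoh_cokernel j hF.1 hE) hR0 hR)
  refine ⟨N, fun m hm => ?_⟩
  have h1 := hN m hm
  rw [← hR m] at h1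
  have h2 : (1 : ℤ) ≤ Curv2.euler k X (ShStab.twist X L (cokernel j) m) := by
    have : (0 : ℤ) < Curv2.euler k X (ShStab.twist X L (cokernel j) m) := by exact_mod_cast h1
    omega
  rw [eval_add, ← hR m]
  have h3 : (1 : ℚ) ≤ (Curv2.euler k X (ShStab.twist X L (cokernel j) m) : ℚ) := by exact_mod_cast h2
  linarith

end

/-- Let k be an algebraically closed field and X an integral scheme, smooth and proper over k, of
dimension n ≥ 2, with a closed immersion ι into projective N-space over k compatible with the
structure maps, polarised by the ample O_X(1) = ι^*O(1), and suppose H^1(X, O_X) ≠ 0. Then there is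
an O_X-module E which is stable of dimension n in the sense of Gieseker (coherent, nonzero,
torsion-free, with reduced Hilbert polynomial p(F) < p(E) for every nonzero proper coherent
submodule F), of rank 2 in the sense that α_n(E) = 2 α_n(O_X) for the multiplicities of the Hilbert
polynomials, and which is not slope-stable: E has a nonzero proper coherent submodule F with 0 <
α_n(F) < α_n(E) whose ratio α_{n-1}(F)/α_n(F) equals α_{n-1}(E)/α_n(E). Here a Hilbert polynomial is
written Σ_i α_i m^i/i!. (The published example is stated over an arbitrary field and without a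
dimension bound; it uses a closed point with residue field k, so k is taken algebraically closed
here, and for n = 1 the sheaf it constructs, a non-split extension of O_X by the ideal of a point on
a curve of positive genus, is slope-stable, so n ≥ 2 is assumed.) -/
theorem result (k : Type u) [Field k] [IsAlgClosed k]
    (X : Scheme.{u}) [X.Over (Spec (CommRingCat.of k))] [IsIntegral X]
    [Smooth (X ↘ Spec (CommRingCat.of k))] [IsProper (X ↘ Spec (CommRingCat.of k))]
    (N : ℕ) (ι : X ⟶ CohB1.ProjSpace N k) [IsClosedImmersion ι]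
    (hι : ι ≫ CohB1.ProjSpace.toSpec N k = X ↘ Spec (CommRingCat.of k))
    (hL : CohB1.IsAmple ((Scheme.Modules.pullback ι).obj (Twist.twistProjSpace N k 1)))
    (n : ℕ) (hn : topologicalKrullDim ↥X = (n : WithBot ℕ∞)) (h2 : 2 ≤ n)
    (h1 : Nontrivial (Coh.HH X (Coh.structureModule X) 1)) :
    ∃ E : X.Modules, ShStab.IsStable k X ((Scheme.Modules.pullback ι).obj (Twist.twistProjSpace N k 1)) E n ∧
      (∀ pO pE : Polynomial ℚ, ShStab.IsHilbPoly k X ((Scheme.Modules.pullback ι).obj (Twist.twistProjSpace N k 1)) (Coh.structureModule X) pO →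
        ShStab.IsHilbPoly k X ((Scheme.Modules.pullback ι).obj (Twist.twistProjSpace N k 1)) E pE → StabCat.alpha n pE = 2 * StabCat.alpha n pO) ∧
      ∃ (F : X.Modules) (j : F ⟶ E), Mono j ∧ Coh.IsCoh F ∧ ¬ IsZero F ∧ ¬ IsIso j ∧
        ∀ pF pE : Polynomial ℚ, ShStab.IsHilbPoly k X ((Scheme.Modules.pullback ι).obj (Twist.twistProjSpace N k 1)) F pF → ShStab.IsHilbPoly k X ((Scheme.Modules.pullback ι).obj (Twist.twistProjSpace N k 1)) E pE →
          0 < StabCat.alpha n pF ∧ StabCat.alpha n pF < StabCat.alpha n pE ∧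
            StabCat.hatSlope n pF = StabCat.hatSlope n pE := by
  haveI := isNoetherian_of_proper (k := k) (X := X)
  haveI := isSeparated_of_proper (X := X) k
  set L := (Scheme.Modules.pullback ι).obj (Twist.twistProjSpace N k 1) with hLdef
  have hO : Coh.IsCoh (Coh.structureModule X) := Coherent.isCoh_structureModule X
  obtain ⟨p, -, hp⟩ := DimLib.exists_isClosed_singleton_mem (X ↘ Spec (CommRingCat.of k))
    (S := (Set.univ : Set X)) Set.univ_nonempty isClosed_univ.isLocallyClosed
  let D := ptIdeal p hp
  let I := ClSub.idealMod D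
  let Q := ClSub.quotMod D
  have hI : Coh.IsCoh I := isCoh_idealMod' D
  have hQ : Coh.IsCoh Q := isCoh_quotMod D
  haveI := hQ.1
  have hD := shortExact_ideal D
  haveI : Mono (ClSub.idealModι D) := hD.mono_f
  let pO := EulerLib.hp k hL (Coh.structureModule X) hO
  have hpO : ShStab.IsHilbPoly k X L (Coh.structureModule X) pO := isHilbPoly_hp k hL _ hO
  let pI := EulerLib.hp k hL I hI
  have hpI : ShStab.IsHilbPoly k X L I pI := isHilbPoly_hp k hL _ hI
  have hpQ : ShStab.IsHilbPoly k X L Q 1 := fun m => by
    rw [eval_one]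
    show ((Curv2.euler k X (CohB1.tensorMod Q (CohB1.tensorPow L m)) : ℤ) : ℚ) = 1
    rw [euler_twist_ptQuot hp k (isInvertible_tensorPow hL.1 m), finrank_resField k hp]
    norm_num
  have hsum : pO = pI + 1 := hilb_ses k hL hD hI hO hQ hpI hpO hpQ
  have hcn : alpha n (1 : ℚ[X]) = 0 := by simp [alpha, coeff_one, show n ≠ 0 by omega]
  have hcn1 : alpha (n - 1) (1 : ℚ[X]) = 0 := by simp [alpha, coeff_one, show n - 1 ≠ 0 by omega]
  have hαI : alpha n pI = alpha n pO := by rw [hsum, alpha_add, hcn, add_zero]
  -- a nontrivial class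
  have hI1 : Nontrivial (Coh.HH X I 1) := by
    haveI : Subsingleton (Coh.HH X Q 1) := subsingleton_HH_of_support_point k Q (support_ptQuot hp) hp one_pos
    have hs : Function.Surjective (SerreDual.hmap k (ClSub.idealModι D) 1) := fun z =>
      (SerreDual.exact_hmap k hD 1 z).1 (@Subsingleton.elim (Coh.HH X Q 1) _ _ _)
    exact hs.nontrivial
  obtain ⟨e, he⟩ : ∃ e : Ext (Coh.structureModule X) I 1, e ≠ 0 := by
    by_contra h
    push Not at h
    haveI : Subsingleton (Ext ((freeModOn X).obj ⊤) I 1) := by
      refine subsingleton_of_forall_eq 0 fun x => ?_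
      let j := DQCoh.topStructIso X
      have h1 : (Ext.mk₀ j.hom).comp ((Ext.mk₀ j.inv).comp x (zero_add 1)) (zero_add 1) = x := by
        rw [Ext.mk₀_comp_mk₀_assoc, Iso.hom_inv_id, Ext.mk₀_id_comp]
      rw [← h1, h ((Ext.mk₀ j.inv).comp x (zero_add 1)), Ext.comp_zero]
    haveI : Subsingleton (Ext (freeSh (X := X.toTopCat) (⊤ : X.Opens)) (Coh.toAb I) 1) :=
      (bijective_extToH ⊤ 1 I).2.subsingleton
    haveI : Subsingleton (Sheaf.H' (Coh.toAb I) 1 (⊤ : X.Opens)) :=
      ‹Subsingleton (Ext (freeSh (X := X.toTopCat) (⊤ : X.Opens)) (Coh.toAb I) 1)›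
    exact not_subsingleton (Coh.HH X I 1) (HHTopEquiv I 1).toEquiv.subsingleton
  obtain ⟨E, a, b, w, hE, hcl⟩ := Et18.ExtRealize.exists_extClass_eq e
  haveI : Mono a := hE.mono_f
  haveI : Epi b := hE.epi_g
  have hEc : Coh.IsCoh E := isCoh_X₂ hE hI hO
  let pE := pI + pO
  have hpE : ShStab.IsHilbPoly k X L E pE := isHilbPoly_add k hL.1 hE hI hEc hO hpI hpO
  have hαE : alpha n pE = 2 * alpha n pO := by rw [alpha_add, hαI]; ring
  have hO0 : ¬ IsZero (Coh.structureModule X) := fun h => by
    have := h.eq_of_src (𝟙 _) 0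
    exact one_ne_zero (α := Γ(X, ⊤)) (congrArg (fun φ : Coh.structureModule X ⟶ Coh.structureModule X =>
      φ.app ⊤ (1 : Γ(X, ⊤))) this)
  have ha : 0 < alpha n pO := alpha_pos k hL hO hpO (dim_of_mono k (𝟙 _) hO hO0 hn)
  have hI0 : ¬ IsZero I := fun h => by
    have := hilb_zero k hL h hpI
    rw [← hαI, this] at ha
    simp [alpha] at ha
  have hpureO : ShStab.IsPure X (Coh.structureModule X) n := fun W j hj hW hW0 =>
    haveI := hj
    dim_of_mono k j hW hW0 hn
  have hpureI : ShStab.IsPure X I n := isPure_of_mono hpureO (ClSub.idealModι D)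
  have hdimE : topologicalKrullDim (CohB1.support E) ≤ (n : WithBot ℕ∞) :=
    (dim_mono (Set.subset_univ _)).trans ((Homeomorph.Set.univ X).isHomeomorph.topologicalKrullDim_eq.le.trans hn.le)
  have hE0 : ¬ IsZero E := fun h => hI0 (IsZero.of_mono a h)
  have hst : ShStab.IsStable k X L E n := by
    refine ⟨hEc, hE0, isPure_of_shortExact hE hdimE hO hpureI hpureO, ?_⟩
    intro F j hj hF hF0 hji pF pE' hpF hpE'
    obtain rfl : pE' = pE := isHilbPoly_unique k hpE' hpE
    haveI := hj
    let φ : F ⟶ Coh.structureModule X := j ≫ b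
    have hK : Coh.IsCoh (kernel φ) := isCoh_kernel φ hF hO.1
    let l := hE.exact.lift (kernel.ι φ ≫ j) (by rw [Category.assoc]; exact kernel.condition φ)
    haveI : Mono l := by
      haveI : Mono (l ≫ a) := by rw [show l ≫ a = kernel.ι φ ≫ j from hE.exact.lift_f _ _]; infer_instance
      exact mono_of_mono l a
    suffices h : ∃ M : ℕ, ∀ m : ℕ, M ≤ m → alpha n pE * pF.eval (m : ℚ) < alpha n pF * pE.eval (m : ℚ) by
      obtain ⟨M, hM⟩ := h
      exact ⟨M, fun m hm => by rw [eval_smul, eval_smul, smul_eq_mul, smul_eq_mul]; exact hM m hm⟩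
    have hev : ∀ m : ℕ, pE.eval (m : ℚ) = 2 * pO.eval (m : ℚ) - 1 := fun m => by
      simp only [pE, hsum, eval_add, eval_one]; ring
    by_cases hφ : φ = 0
    · -- inside the ideal
      let j' := hE.exact.lift j hφ
      haveI : Mono j' := by
        haveI : Mono (j' ≫ a) := by rw [show j' ≫ a = j from hE.exact.lift_f _ _]; infer_instance
        exact mono_of_mono j' a
      have hαF : alpha n pF = alpha n pO :=
        alpha_of_mono k hL hn (j' ≫ ClSub.idealModι D) hF hF0 hpF hpO
      obtain ⟨R, hR, hPI⟩ := hilb_mono k hL j' hF hI hpF hpI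
      obtain ⟨M, hM⟩ := nonneg_leadingCoeff_iff.2 (show 0 ≤ R.leadingCoeff by
        by_cases hR0 : IsZero (cokernel j')
        · rw [hilb_zero k hL hR0 hR, leadingCoeff_zero]
        · exact (hilb_leadingCoeff_pos k hL (isCoh_cokernel j' hF.1 hI) hR0 hR).le)
      refine ⟨M, fun m hm => ?_⟩
      have h1 := hM m hm
      have h2 : pI.eval (m : ℚ) = pF.eval (m : ℚ) + R.eval (m : ℚ) := by rw [hPI, eval_add]
      have h3 : pO.eval (m : ℚ) = pI.eval (m : ℚ) + 1 := by rw [hsum, eval_add, eval_one]
      rw [hαE, hαF, hev]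
      nlinarith
    · by_cases hK0 : IsZero (kernel φ)
      · haveI : Mono φ := Preadditive.mono_of_isZero_kernel _ hK0
        have hαF : alpha n pF = alpha n pO := alpha_of_mono k hL hn φ hF hF0 hpF hpO
        have hφi : ¬ IsIso φ := fun h => he (by
          have := hE.comp_extClass
          have h' := congrArg (fun x => (Ext.mk₀ (inv φ ≫ j)).comp x (zero_add 1)) this
          simp only [Ext.mk₀_comp_mk₀_assoc, Category.assoc, Ext.comp_zero] at h'
          rw [show inv φ ≫ j ≫ b = 𝟙 _ from IsIso.inv_hom_id φ, Ext.mk₀_id_comp] at h'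
          exact hcl.symm.trans h')
        obtain ⟨M, hM⟩ := eventually_one_le k hL φ hF hO hφi hpF hpO
        refine ⟨M, fun m hm => ?_⟩
        have h1 := hM m hm
        rw [hαE, hαF, hev]
        nlinarith
      · -- full rank
        have hαF : alpha n pF = alpha n pE := by
          refine le_antisymm (alpha_le_of_mono k hL j hF hEc hdimE hpF hpE) ?_
          have hJ := isCoh_image φ hF hO
          have e1 := alpha_of_mono k hL hn (l ≫ ClSub.idealModι D) hK hK0 (isHilbPoly_hp k hL _ hK) hpO
          have e2 := alpha_of_mono k hL hn (Abelian.image.ι φ) hJ (image_ne_zero hφ) (isHilbPoly_hp k hL _ hJ) hpO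
          have hker : kernel.ι φ ≫ Abelian.factorThruImage φ = 0 := by
            rw [← cancel_mono (Abelian.image.ι φ), Category.assoc, Abelian.image.fac, kernel.condition,
              Limits.zero_comp]
          have hses : (ShortComplex.mk (kernel.ι φ) (Abelian.factorThruImage φ) hker).ShortExact :=
            { exact := ShortComplex.exact_of_f_is_kernel _ (KernelFork.IsLimit.ofι _ hker
                (fun g hg => kernel.lift φ g (by
                  rw [← Abelian.image.fac φ, ← Category.assoc, hg, Limits.zero_comp]))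
                (fun g hg => kernel.lift_ι _ _ _)
                (fun g hg m hm => by rw [← cancel_mono (kernel.ι φ), hm, kernel.lift_ι])) }
          have := hilb_ses k hL hses hK hF hJ (isHilbPoly_hp k hL _ hK) hpF (isHilbPoly_hp k hL _ hJ)
          rw [hαE, this, alpha_add, e1, e2]
          linarith
        obtain ⟨M, hM⟩ := eventually_one_le k hL j hF hEc hji hpF hpE
        refine ⟨M, fun m hm => ?_⟩
        have h1 := hM m hm
        rw [hαF, hαE]
        nlinarith
  refine ⟨E, hst, ?_, I, a, inferInstance, hI, hI0, ?_, ?_⟩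
  · intro qO qE hqO hqE
    rw [isHilbPoly_unique k hqO hpO, isHilbPoly_unique k hqE hpE, hαE]
  · intro h
    have hb : b = 0 := by rw [← cancel_epi a, w, Limits.comp_zero]
    exact hO0 ((IsZero.iff_id_eq_zero _).2 (by rw [← cancel_epi b, hb, Limits.zero_comp, Limits.zero_comp]))
  · intro qF qE hqF hqE
    rw [isHilbPoly_unique k hqF hpI, isHilbPoly_unique k hqE hpE]
    refine ⟨hαI ▸ ha, by rw [hαE, hαI]; linarith, ?_⟩
    unfold hatSlope
    rw [hαE, hαI]
    have e2 : alpha (n - 1) pO = alpha (n - 1) pI := by rw [hsum, alpha_add, hcn1, add_zero]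
    rw [show alpha (n - 1) pE = 2 * alpha (n - 1) pI by rw [alpha_add, e2]; ring]
    rw [mul_div_mul_left _ _ (two_ne_zero)]
end Groth.Agent.S15221
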