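import Groth.Statements.S15222
import Groth.Agent.EulerLib.StabBasic
import Groth.Agent.EulerLib.PolyTop

set_option autoImplicit false
open CategoryTheory CategoryTheory.Limits AlgebraicGeometry Polynomial
universe u
open ShStab

namespace Groth.Agent.S15222

/-- Let X be a scheme proper over a field k with an ample invertible sheaf L, all Hilbert polynomials
being taken with respect to L, and let 1 ≤ ℓ ≤ d. If an O_X-module E is semistable of dimension d in
the sense of Gieseker (coherent, nonzero, pure of dimension d, with reduced Hilbert polynomial p(F)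
≤ p(E) for every nonzero proper coherent submodule F), then E is ℓ-semistable of dimension d: for
every coherent submodule F whose multiplicity satisfies 0 < α_d(F) < α_d(E), the reduced ℓ-truncated
Hilbert polynomials (the coefficients α_{d-1}/α_d, …, α_{d-ℓ}/α_d, compared lexicographically)
satisfy p_ℓ(F) ≤ p_ℓ(E). (The published text records the case ℓ = d − 1, for sheaves on a connected
smooth projective variety with a very ample polarisation; this row states the implication for every
1 ≤ ℓ ≤ d, for X proper over any field with L ample.) -/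
theorem result (k : Type u) [Field k] (X : Scheme.{u})
    [X.Over (Spec (CommRingCat.of k))] [IsProper (X ↘ Spec (CommRingCat.of k))]
    (L : X.Modules) (hL : CohB1.IsAmple L) (d ℓ : ℕ) (hℓ : 1 ≤ ℓ) (hℓd : ℓ ≤ d) (E : X.Modules)
    (hE : ShStab.IsSemistable k X L E d) : ShStab.IsEllSemistable k X L E d ℓ := by
  obtain ⟨hEc, hE0, hp, hss⟩ := hE
  refine ⟨hEc, hE0, hp, fun F ι hm hF pF pE hpF hpE h1 h2 => ?_⟩
  haveI := hm
  have hF0 : ¬ IsZero F := fun h => by
    rw [Groth.Agent.EulerLib.hilb_zero k hL h hpF] at h1
    simp [StabCat.alpha] at h1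
  have hni : ¬ IsIso ι := fun h => by
    rw [Groth.Agent.EulerLib.isHilbPoly_unique k (Groth.Agent.EulerLib.isHilbPoly_iso k (asIso ι) hpF) hpE] at h2
    exact lt_irrefl _ h2
  exact Groth.Agent.EulerLib.redLE_topPart
    (Groth.Agent.EulerLib.natDegree_le_of_pure k hL hF (Groth.Agent.EulerLib.isPure_of_mono hp ι) hpF)
    (Groth.Agent.EulerLib.natDegree_le_of_pure k hL hEc hp hpE) (hss F ι hm hF hF0 hni pF pE hpF hpE) ℓ

end Groth.Agent.S15222
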