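import Groth.Statements.S15224
import Mathlib

set_option linter.all false

set_option autoImplicit false
open Finset
open W4c2rk2extmaps

open TensorProduct

namespace Groth.Agent.S15224

theorem c_identity (R : Type*) [CommRing R] [Algebra ℚ R] (y : R)
    (c : ℕ → R) (hc : ∀ k : ℕ, c k = ((Nat.factorial k : ℚ)⁻¹) • y ^ k) (k : ℕ) (hk : 1 ≤ k) :
    ∑ i ∈ Finset.Ico 1 (k + 1), (-1 : R) ^ (i - 1) * c i * c (k - i) = c k := by
  have hcc : ∀ i, i ≤ k → c i * c (k - i) = (k.choose i : R) * c k := by
    intro i hi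
    rw [hc, hc, hc, smul_mul_smul_comm, ← pow_add, Nat.add_sub_cancel' hi, mul_smul_comm,
      ← map_natCast (algebraMap ℚ R), ← Algebra.smul_def, smul_smul]
    congr 1
    rw [Nat.cast_choose ℚ hi]
    field_simp
  have h0 : ∑ i ∈ Finset.range (k + 1), (-1 : R) ^ i * (k.choose i : R) = 0 := by
    have := congrArg (fun z : ℤ => (z : R)) (Int.alternating_sum_range_choose_of_ne (n := k) (by omega))
    simpa using this
  rw [Finset.range_eq_Ico, Finset.sum_eq_sum_Ico_succ_bot (by omega)] at h0
  calc ∑ i ∈ Finset.Ico 1 (k + 1), (-1 : R) ^ (i - 1) * c i * c (k - i)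
      = -(∑ i ∈ Finset.Ico 1 (k + 1), (-1 : R) ^ i * (k.choose i : R)) * c k := by
        rw [← Finset.sum_neg_distrib, Finset.sum_mul]
        refine Finset.sum_congr rfl fun i hi => ?_
        rw [Finset.mem_Ico] at hi
        obtain ⟨j, rfl⟩ : ∃ j, i = j + 1 := ⟨i - 1, by omega⟩
        rw [mul_assoc, hcc _ (by omega), Nat.add_sub_cancel, pow_succ]
        ring
    _ = c k := by
        simp only [pow_zero, Nat.choose_zero_right, Nat.cast_one, one_mul] at h0
        rw [eq_neg_of_add_eq_zero_right h0, neg_neg, one_mul]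

/-- In a commutative ℚ-algebra R let y be an element and put c_k = y^k / k! for every k. Then for k ≥ 2,
Σ_{i=1}^{k-1} (-1)^(i-1) c_i c_(k-i) + (-1)^(k-1) c_k = c_k. (The published statement concerns the
Chern classes of a specific vector bundle on a Jacobian, which are of the form c_k = (4θ)^k / k!;
the printed argument establishes the identity for every sequence of this form in a commutative
ℚ-algebra, which is the form stated here.) -/
theorem result (R : Type*) [CommRing R] [Algebra ℚ R] (y : R)
    (c : ℕ → R) (hc : ∀ k : ℕ, c k = ((Nat.factorial k : ℚ)⁻¹) • y ^ k)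
    (k : ℕ) (hk : 2 ≤ k) :
    (∑ i ∈ Finset.Ico 1 k, (-1 : R) ^ (i - 1) * c i * c (k - i)) + (-1 : R) ^ (k - 1) * c k = c k := by
  have h := c_identity R y c hc k (by omega)
  rw [Finset.sum_Ico_succ_top (by omega), Nat.sub_self] at h
  have : c 0 = 1 := by simp [hc 0]
  rwa [this, mul_one] at h

end Groth.Agent.S15224
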