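import Groth.Statements.S15228
import Groth.Agent.VB5.VeryStable

set_option autoImplicit false
open CategoryTheory CategoryTheory.Limits AlgebraicGeometry MonoidalCategory
open VBCurve

namespace Groth.Agent.S15228

/-- Let X be a smooth proper integral curve over ℂ of genus g ≥ 3 which is non-hyperelliptic, K a module
isomorphic to its sheaf of differentials, and N an invertible module of degree g with h^0(N) ≤ 1, so
that the complete linear system of K ⊗ N maps X to a projective space of dimension 2g − 2 as a curve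
of degree 3g − 2. An effective divisor D of degree d, recorded through its invertible ideal sheaf I
⊂ O_X (of degree −d), is a d-secant when its linear span has dimension d − 2, i.e. h^0(I ⊗ K ⊗ N) =
h^0(K ⊗ N) − d + 1. Then X has exactly one g-secant: some invertible ideal I ⊂ O_X of degree −g
satisfies h^0(I ⊗ K ⊗ N) + (g − 1) = h^0(K ⊗ N), and any two such ideals are equal as subobjects of
O_X (an isomorphism between them commutes with the inclusions). -/
theorem result
    (X : Scheme.{0}) [X.Over (Spec (CommRingCat.of ℂ))] [IsIntegral X]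
    [IsProper (X ↘ Spec (CommRingCat.of ℂ))] [Smooth (X ↘ Spec (CommRingCat.of ℂ))]
    (hdim : topologicalKrullDim X = 1) (hg : 2 ≤ Curv2.genus ℂ X)
    (hnh : ∀ M : X.Modules, PicF.IsInvertible M → Curv2.deg ℂ X M 1 = 2 →
      Module.finrank ℂ (Coh.HH X M 0) ≤ 1)
    (K : X.Modules) (eK : K ≅ Omega.sheaf (X ↘ Spec (CommRingCat.of ℂ)))
    (g : ℕ) (hg3 : 3 ≤ g) (hgen : Curv2.genus ℂ X = g)
    (N : X.Modules) (hN : PicF.IsInvertible N) (hdN : Curv2.deg ℂ X N 1 = (g : ℤ))
    (h0 : Module.finrank ℂ (Coh.HH X N 0) ≤ 1) :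
    (∃ (I : X.Modules) (ι : I ⟶ Coh.structureModule X),
        PicF.IsInvertible I ∧ Mono ι ∧ Curv2.deg ℂ X I 1 = -((g : ℤ)) ∧
        Module.finrank ℂ (Coh.HH X (CohB1.tensorMod I (CohB1.tensorMod K N)) 0) + (g - 1) =
          Module.finrank ℂ (Coh.HH X (CohB1.tensorMod K N) 0)) ∧
      ∀ (I I' : X.Modules) (ι : I ⟶ Coh.structureModule X) (ι' : I' ⟶ Coh.structureModule X),
        (PicF.IsInvertible I ∧ Mono ι ∧ Curv2.deg ℂ X I 1 = -((g : ℤ)) ∧
        Module.finrank ℂ (Coh.HH X (CohB1.tensorMod I (CohB1.tensorMod K N)) 0) + (g - 1) =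
          Module.finrank ℂ (Coh.HH X (CohB1.tensorMod K N) 0)) →
        (PicF.IsInvertible I' ∧ Mono ι' ∧ Curv2.deg ℂ X I' 1 = -((g : ℤ)) ∧
        Module.finrank ℂ (Coh.HH X (CohB1.tensorMod I' (CohB1.tensorMod K N)) 0) + (g - 1) =
          Module.finrank ℂ (Coh.HH X (CohB1.tensorMod K N) 0)) →
        ∃ φ : I' ≅ I, φ.hom ≫ ι = ι' := by
  haveI : IsLocallyNoetherian X := LocallyOfFiniteType.isLocallyNoetherian (X ↘ Spec (CommRingCat.of ℂ))
  haveI := Groth.Agent.AbVarLib.geometricallyIntegral_of_isAlgClosed (X ↘ Spec (CommRingCat.of ℂ))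
  have hn : ∀ x : X, IsIntegrallyClosed (X.presheaf.stalk x) := fun x => Groth.Agent.VB5.isIntegrallyClosed_stalk ℂ x
  rw [Groth.Agent.VB5.deg_line ℂ hN] at hdN
  have hKN := Groth.Agent.VB5.h0_omega_tensor ℂ hdim eK hN (by omega)
  have hne : Module.finrank ℂ (Coh.HH X N 0) ≠ 0 := by
    have := Groth.Agent.VB5.gdeg_le_h0_add ℂ hdim (Groth.Agent.VB5.isCoh_of_line hN)
    rw [Groth.Agent.VB5.rank_one hN] at this
    omega
  refine ⟨?_, ?_⟩
  · obtain ⟨I, ι, hI, hι, hd, h⟩ := Groth.Agent.VB5.exists_secant ℂ hdim eK hN hne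
    exact ⟨I, ι, hI, hι, by rw [Groth.Agent.VB5.deg_line ℂ hI]; omega, by omega⟩
  · rintro I I' ι ι' ⟨hI, hι, hd, h⟩ ⟨hI', hι', hd', h'⟩
    haveI := hι
    haveI := hι'
    rw [Groth.Agent.VB5.deg_line ℂ hI] at hd
    rw [Groth.Agent.VB5.deg_line ℂ hI'] at hd'
    obtain ⟨a⟩ := Groth.Agent.VB5.nonempty_tensor_iso_of_secant ℂ hdim eK hN hI (by omega) (by omega)
    obtain ⟨a'⟩ := Groth.Agent.VB5.nonempty_tensor_iso_of_secant ℂ hdim eK hN hI' (by omega) (by omega)
    exact Groth.Agent.VB5.exists_iso_over ℂ hdim hN hI hI' h0 ι ι' a a'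

end Groth.Agent.S15228
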