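import Groth.Statements.S15229
import Mathlib

set_option linter.all false

set_option autoImplicit false
open Finset
open W4c2rk2extmaps

open TensorProduct

namespace Groth.Agent.S15229

theorem c_identity (R : Type*) [CommRing R] [Algebra ℚ R] (y : R)
    (c : ℕ → R) (hc : ∀ k : ℕ, c k = ((Nat.factorial k : ℚ)⁻¹) • y ^ k) (k : ℕ) (hk : 1 ≤ k) :
    ∑ i ∈ Finset.Ico 1 (k + 1), (-1 : R) ^ (i - 1) * c i * c (k - i) = c k := by
  have hcc : ∀ i, i ≤ k → c i * c (k - i) = (k.choose i : R) * c k := by
    intro i hi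
    rw [hc, hc, hc, smul_mul_smul_comm, ← pow_add, Nat.add_sub_cancel' hi, mul_smul_comm,
      ← map_natCast (algebraMap ℚ R), ← Algebra.smul_def, smul_smul]
    congr 1
    rw [Nat.cast_choose ℚ hi]
    field_simp
  have h0 : ∑ i ∈ Finset.range (k + 1), (-1 : R) ^ i * (k.choose i : R) = 0 := by
    have := congrArg (fun z : ℤ => (z : R)) (Int.alternating_sum_range_choose_of_ne (n := k) (by omega))
    simpa using this
  rw [Finset.range_eq_Ico, Finset.sum_eq_sum_Ico_succ_bot (by omega)] at h0
  calc ∑ i ∈ Finset.Ico 1 (k + 1), (-1 : R) ^ (i - 1) * c i * c (k - i)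
      = -(∑ i ∈ Finset.Ico 1 (k + 1), (-1 : R) ^ i * (k.choose i : R)) * c k := by
        rw [← Finset.sum_neg_distrib, Finset.sum_mul]
        refine Finset.sum_congr rfl fun i hi => ?_
        rw [Finset.mem_Ico] at hi
        obtain ⟨j, rfl⟩ : ∃ j, i = j + 1 := ⟨i - 1, by omega⟩
        rw [mul_assoc, hcc _ (by omega), Nat.add_sub_cancel, pow_succ]
        ring
    _ = c k := by
        simp only [pow_zero, Nat.choose_zero_right, Nat.cast_one, one_mul] at h0
        rw [eq_neg_of_add_eq_zero_right h0, neg_neg, one_mul]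

/-- In a commutative ℚ-algebra R let θ, η be elements and g a natural number, and put c_k = (4θ)^k / k!.
Suppose θ^(g+1) = 0 and that η satisfies the relation η^(g+1) = Σ_{i=1}^{g+1} (-1)^(i-1) c_i
η^(g+1-i). Then η^(g+k) θ^(g-k) = c_k η^g θ^(g-k) for every 1 ≤ k ≤ g. (The published statement
concerns the first Chern class η of the tautological line bundle on a projective bundle P(U) over a
g-dimensional Jacobian, with c_k the Chern classes of U, which are (4θ)^k / k!; there θ^(g+1)
vanishes for dimension reasons and the displayed relation is the projective-bundle relation, and the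
printed argument derives the identity from exactly these three inputs, which is the form stated
here.) -/
theorem result (R : Type*) [CommRing R] [Algebra ℚ R]
    (θ η : R) (g : ℕ) (c : ℕ → R) (hc : ∀ k : ℕ, c k = ((Nat.factorial k : ℚ)⁻¹) • ((4 : R) * θ) ^ k)
    (hθ : θ ^ (g + 1) = 0)
    (hrel : η ^ (g + 1) = ∑ i ∈ Finset.Ico 1 (g + 2), (-1 : R) ^ (i - 1) * c i * η ^ (g + 1 - i))
    (k : ℕ) (hk1 : 1 ≤ k) (hkg : k ≤ g) :
    η ^ (g + k) * θ ^ (g - k) = c k * η ^ g * θ ^ (g - k) := by
  clear hk1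
  have hc0 : c 0 = 1 := by simp [hc 0]
  induction k using Nat.strong_induction_on with
  | _ k ih =>
    rcases Nat.eq_zero_or_pos k with rfl | hk1
    · simp [hc0]
    have hdiv : ∀ i, ∃ r : R, c i = θ ^ i * r := fun i =>
      ⟨((Nat.factorial i : ℚ)⁻¹) • (4 : R) ^ i, by rw [hc, mul_pow, mul_smul_comm, mul_comm]⟩
    have hzero : ∀ i, k < i → c i * θ ^ (g - k) = 0 := by
      intro i hi
      obtain ⟨r, hr⟩ := hdiv i
      rw [hr, mul_right_comm, ← pow_add, show i + (g - k) = (g + 1) + (i + (g - k) - (g + 1)) by omega,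
        pow_add, hθ, zero_mul, zero_mul]
    have step : ∀ i ∈ Finset.Ico 1 (g + 2), η ^ (k - 1) * ((-1 : R) ^ (i - 1) * c i * η ^ (g + 1 - i)) * θ ^ (g - k) =
        if i < k + 1 then (-1 : R) ^ (i - 1) * c i * c (k - i) * (η ^ g * θ ^ (g - k)) else 0 := by
      intro i hi
      rw [Finset.mem_Ico] at hi
      split_ifs with hik
      · have h := ih (k - i) (by omega) (by omega)
        obtain ⟨r, hr⟩ := hdiv i
        have e2 : θ ^ (g - k) * θ ^ i = θ ^ (g - (k - i)) := by rw [← pow_add]; congr 1; omega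
        calc η ^ (k - 1) * ((-1 : R) ^ (i - 1) * c i * η ^ (g + 1 - i)) * θ ^ (g - k)
            = (-1 : R) ^ (i - 1) * r * (η ^ (k - 1) * η ^ (g + 1 - i) * (θ ^ (g - k) * θ ^ i)) := by rw [hr]; ring
          _ = (-1 : R) ^ (i - 1) * r * (η ^ (g + (k - i)) * θ ^ (g - (k - i))) := by
              rw [← pow_add, e2, show k - 1 + (g + 1 - i) = g + (k - i) by omega]
          _ = _ := by rw [h, ← e2, hr]; ring
      · calc _ = η ^ (k - 1) * η ^ (g + 1 - i) * (-1 : R) ^ (i - 1) * (c i * θ ^ (g - k)) := by ring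
          _ = 0 := by rw [hzero i (by omega), mul_zero]
    rw [show g + k = (k - 1) + (g + 1) by omega, pow_add, hrel, Finset.mul_sum, Finset.sum_mul,
      Finset.sum_congr rfl step, ← Finset.sum_filter]
    rw [show (Finset.Ico 1 (g + 2)).filter (fun i => i < k + 1) = Finset.Ico 1 (k + 1) by
      ext i; simp only [Finset.mem_filter, Finset.mem_Ico]; omega]
    rw [← Finset.sum_mul, c_identity R ((4 : R) * θ) c hc k hk1]
    ring

end Groth.Agent.S15229
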