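import Groth.Statements.S15231
import Groth.Agent.DRingLib.FibreExact
import Mathlib.RingTheory.FiniteLength

set_option autoImplicit false
set_option backward.isDefEq.respectTransparency false
set_option backward.defeqAttrib.useBackward true
universe u
open CategoryTheory CategoryTheory.Limits
attribute [local instance] HasDerivedCategory.standard
open DRing

namespace Groth.Agent.S15231

/-- Let R be a Noetherian local commutative ring with residue field κ, let P be any object of D(R) and
a, b integers. Suppose that H^i(P ⊗^L_R κ) = 0 for every i outside [a, b] (over the field κ this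
says exactly that P ⊗^L_R κ has tor amplitude in [a, b] as an object of D(κ)). Then for every
R-module N of finite length, H^i(P ⊗^L_R N) = 0 for every i outside [a, b]. The derived base change
to κ and the derived tensor products with R-modules are the total left derived functors on D(R),
assumed to exist for every R-module (as they do). -/
theorem result (R : Type u) [CommRing R] [IsNoetherianRing R]
    [IsLocalRing R] [DRing.HasLBaseChange (IsLocalRing.residue R)] [∀ M : ModuleCat.{u} R, DRing.HasLTensor R M]
    (P : Dual.D R) (a b : ℤ)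
    (h : ∀ i : ℤ, (i < a ∨ b < i) →
      Subsingleton (Dual.HD (IsLocalRing.ResidueField R) ((DRing.LBaseChange (IsLocalRing.residue R)).obj P) i))
    (N : Type u) [AddCommGroup N] [Module R N] (hN : IsFiniteLength R N) (i : ℤ) (hi : i < a ∨ b < i) :
    Subsingleton (Dual.HD R ((DRing.LTensor R (ModuleCat.of R N)).obj P) i) := by
  haveI : ∀ A : ModuleCat.{u} (IsLocalRing.ResidueField R), DRing.HasLTensor (IsLocalRing.ResidueField R) A :=
    fun A => DCat.hasLTensor A
  obtain ⟨Q, c, hQ, hQf, hc, -⟩ := DCat.exists_kflat (DerivedCategory.Q.objPreimage P)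
  haveI := hc
  let e : DRing.toD Q ≅ P := asIso (DerivedCategory.Q.map c) ≪≫ DerivedCategory.Q.objObjPreimageIso P
  rw [DCat.subsingleton_HD_iff, DCat.isZero_ltensor_iff _ hQ e i]
  obtain ⟨hnoeth, hart⟩ := isFiniteLength_iff_isNoetherian_isArtinian.1 hN
  obtain ⟨n, hn⟩ := IsArtinian.monotone_stabilizes (R := R) (M := N)
    ⟨fun k => OrderDual.toDual ((IsLocalRing.maximalIdeal R) ^ k • (⊤ : Submodule R N)),
      fun k l hkl => Submodule.smul_mono_left (Ideal.pow_le_pow_right hkl)⟩
  refine DCat.exactAt_of_pow_killed (IsLocalRing.maximalIdeal R) Q hQf i (fun M hM => ?_) n _ ?_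
  · obtain ⟨M₀, ⟨eM⟩⟩ := DCat.exists_restrict_of_killed (IsLocalRing.residue R) IsLocalRing.residue_surjective M
      (by rw [IsLocalRing.ker_residue]; exact hM)
    refine ((DCat.isZero_ltensor_base_iff _ hQ e M₀ i).1 ?_).of_iso
      ((NatIso.mapHomologicalComplex ((MonoidalCategory.tensoringRight (ModuleCat.{u} R)).mapIso eM) _).app Q)
    rw [DCat.isZero_ltensor_iff M₀ (DCat.isKFlatFor_ext (IsLocalRing.residue R) hQ)
      ((DCat.lbaseChangeIso _ hQ).symm ≪≫ (DRing.LBaseChange _).mapIso e) i]
    haveI : Limits.PreservesFiniteLimits (MonoidalCategory.tensorRight M₀) :=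
      DCat.preservesFiniteLimits_flip_of_flat M₀
    haveI : Limits.PreservesFiniteColimits (MonoidalCategory.tensorRight M₀) :=
      DCat.preservesFiniteColimits_modT_flip M₀
    exact (DRingLib.exactAt_ext_of_subsingleton (IsLocalRing.residue R) hQ e i (h i hi)).map
      (MonoidalCategory.tensorRight M₀)
  · have h1 := hn (n + 1) (Nat.le_succ n)
    replace h1 := congrArg OrderDual.ofDual h1
    refine Submodule.eq_bot_of_le_smul_of_le_jacobson_bot (IsLocalRing.maximalIdeal R) _
      (IsNoetherian.noetherian _) ?_ (IsLocalRing.maximalIdeal_le_jacobson _)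
    rw [← Submodule.mul_smul, ← pow_succ']
    exact h1.le


end Groth.Agent.S15231
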