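import Groth.Statements.S15232
import Groth.Agent.DRingLib.FibreExact

set_option autoImplicit false
set_option backward.isDefEq.respectTransparency false
set_option backward.defeqAttrib.useBackward true
universe u
open CategoryTheory CategoryTheory.Limits
attribute [local instance] HasDerivedCategory.standard
open DRing

namespace Groth.Agent.S15232

/-- Let R be a Noetherian commutative ring and I an ideal contained in the Jacobson radical of R, and
assume the derived base change D(R) → D(R/I) exists. Let P be a pseudo-coherent object of D(R) and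
a, b integers. If P ⊗^L_R R/I has tor amplitude in [a, b] as an object of D(R/I), then P has tor
amplitude in [a, b] as an object of D(R). Tor amplitude is taken in the flat-representative form
(isomorphic in the derived category to a complex of flat modules vanishing outside [a, b]). -/
theorem result (R : Type u) [CommRing R] [IsNoetherianRing R]
    (I : Ideal R) (hI : I ≤ Ideal.jacobson (⊥ : Ideal R)) [DRing.HasLBaseChange (Ideal.Quotient.mk I)]
    (P : Dual.D R) (hP : DRing.IsPseudoCoherent' R P) (a b : ℤ)
    (h : DRing.HasTorAmplitudeIn (R ⧸ I) a b ((DRing.LBaseChange (Ideal.Quotient.mk I)).obj P)) :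
    DRing.HasTorAmplitudeIn R a b P := by
  haveI : ∀ A : ModuleCat.{u} (R ⧸ I), DRing.HasLTensor (R ⧸ I) A := fun A => DCat.hasLTensor A
  obtain ⟨Q, b₀, hQb, hQf, ⟨e⟩⟩ := hP
  refine (DRingLib.torAmp_of_fibres P Q b₀ hQb hQf e a b fun m hm i hi => ?_).1
  have hIm : I ≤ m := hI.trans (sInf_le ⟨bot_le, hm⟩)
  obtain ⟨M₀, ⟨eN⟩⟩ := DCat.exists_restrict_of_killed (Ideal.Quotient.mk I) Ideal.Quotient.mk_surjective
    (ModuleCat.of R (R ⧸ m)) (le_bot_iff.1 (Submodule.smul_le.2 fun r hr x _ => by
      rw [Ideal.mk_ker] at hr
      obtain ⟨y, hy⟩ := Ideal.Quotient.mk_surjective (x : R ⧸ m)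
      rw [Submodule.mem_bot]
      show r • (x : R ⧸ m) = 0
      rw [← hy]
      exact Ideal.Quotient.eq_zero_iff_mem.2 (m.mul_mem_right y (hIm hr))))
  rw [DRingLib.exactAt_ext_quot_iff]
  exact ((DCat.isZero_ltensor_base_iff _ (DRingLib.kflat_of_finiteFree hQb hQf) e M₀ i).1
      (DCat.vanish_of_flatAmp h M₀ hi)).of_iso
    ((NatIso.mapHomologicalComplex ((MonoidalCategory.tensoringRight (ModuleCat.{u} R)).mapIso eN) _).app Q)


end Groth.Agent.S15232
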