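import Mathlib.CategoryTheory.Sites.Sheafification
import Mathlib.Algebra.Category.Grp.Abelian
import Mathlib.CategoryTheory.Sites.Abelian
import Mathlib.CategoryTheory.Sites.Limits
import Mathlib.Algebra.Category.Grp.Limits
import Mathlib.Algebra.Category.Grp.FilteredColimits
import Mathlib.CategoryTheory.Sites.LeftExact
import Groth.Agent.SiteCoh.RpushColim

set_option autoImplicit false
universe u
open CategoryTheory CategoryTheory.Limits Opposite
open CohSite

namespace Groth.Agent.S15233

/-- Let C be a small category with a Grothendieck topology J, and let B be a class of objects forming a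
prebasis: for every object V and every covering sieve S of V, the arrows of S whose domain lies in B
generate a covering sieve of V. If F is a presheaf of abelian groups on C such that F(U) = 0 for
every object U in B, then the sheafification of F is zero. -/
theorem result {C : Type u} [SmallCategory C] (J : GrothendieckTopology C)
    (B : ObjectProperty C)
    (hB : ∀ (V : C) (S : Sieve V), S ∈ J V →
      Sieve.generate (fun (U : C) => {g : U ⟶ V | S.arrows g ∧ B U}) ∈ J V)
    (F : Cᵒᵖ ⥤ AddCommGrpCat.{u}) (hF : ∀ U : C, B U → IsZero (F.obj (op U))) :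
    IsZero ((presheafToSheaf J AddCommGrpCat.{u}).obj F) := by
  let Z : Cᵒᵖ ⥤ AddCommGrpCat.{u} :=
    (Functor.const Cᵒᵖ).obj (AddCommGrpCat.of PUnit.{u + 1})
  have hZ : Limits.IsZero Z := Functor.isZero _ fun X =>
    @AddCommGrpCat.isZero_of_subsingleton _ (inferInstanceAs (Subsingleton PUnit.{u + 1}))
  have hiso : IsIso ((presheafToSheaf J AddCommGrpCat.{u}).map (0 : F ⟶ Z)) :=
    Groth.Agent.SiteCoh.isIso_sheafify_map_of_bijective J _ fun V => by
      refine ⟨(W : C) × {g : W ⟶ V // B W}, fun W => W.1, fun W => W.2.1, ?_, fun W => ?_⟩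
      · refine J.superset_covering ((Sieve.generate_le_iff _ _).2 ?_) (hB V ⊤ (J.top_mem V))
        intro W g hg
        exact Sieve.ofArrows_mk (fun W : (W : C) × {g : W ⟶ V // B W} => W.1) _ ⟨W, g, hg.2⟩
      · exact ⟨⟨0, (hF W.1 W.2.2).eq_of_src _ _, (hZ.obj _).eq_of_src _ _⟩⟩
  exact ((presheafToSheaf J AddCommGrpCat.{u}).map_isZero hZ).of_iso
    (asIso ((presheafToSheaf J AddCommGrpCat.{u}).map (0 : F ⟶ Z)))

end Groth.Agent.S15233
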