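import Groth.Statements.S15235
import Groth.Agent.DCat.MLSeq

set_option autoImplicit false
set_option backward.isDefEq.respectTransparency false
set_option backward.defeqAttrib.useBackward true
universe u
open CategoryTheory Opposite
open HomAlg3

namespace Groth.Agent.S15235

open CategoryTheory Opposite Groth.Agent.DCat.MLSeq in
lemma key (G : ℕᵒᵖ ⥤ AddCommGrpCat.{u}) (j₀ : ℕ)
    (hs : ∀ j : ℕ, j₀ ≤ j → Function.Surjective (G.map (homOfLE (Nat.le_succ j)).op).hom) :
    ∀ j k, j₀ ≤ j → ∀ h : j ≤ k, Function.Surjective (trg G h) := by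
  intro j k hj h
  induction h with
  | refl => exact fun x => ⟨x, tr_refl (G ⋙ forget AddCommGrpCat) _ x⟩
  | @step n h ih =>
    intro x
    obtain ⟨y, rfl⟩ := ih x
    obtain ⟨z, rfl⟩ := hs n (le_trans hj h) y
    exact ⟨z, (trg_trg (A := G) h n.le_succ z).symm⟩

open CategoryTheory Opposite Groth.Agent.DCat.MLSeq in
lemma keyInj (G : ℕᵒᵖ ⥤ AddCommGrpCat.{u}) (j₀ : ℕ)
    (hs : ∀ j : ℕ, j₀ ≤ j → Function.Injective (G.map (homOfLE (Nat.le_succ j)).op).hom) :
    ∀ j k, j₀ ≤ j → ∀ h : j ≤ k, Function.Injective (trg G h) := by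
  intro j k hj h
  induction h with
  | refl =>
    intro x y hxy
    simpa [trg] using (tr_refl (G ⋙ forget AddCommGrpCat) le_rfl x).symm.trans
      (hxy.trans (tr_refl (G ⋙ forget AddCommGrpCat) le_rfl y))
  | @step n h ih =>
    intro x y hxy
    refine hs n (le_trans hj h) (ih ?_)
    show trg G h (trg G n.le_succ x) = trg G h (trg G n.le_succ y)
    rw [trg_trg, trg_trg]
    exact hxy

/-- Let (G_j) be an inverse system of abelian groups indexed by the natural numbers, with transition
maps G_{j+1} → G_j, and let j₀ be a natural number such that the transition map G_{j+1} → G_j is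
surjective for every j ≥ j₀. Then: (a) the system satisfies the Mittag-Leffler condition; (b) the
evaluation map from the inverse limit (realised as the set of compatible families) to G_{j₀} is
surjective; (c) if in addition the transition maps G_{j+1} → G_j are injective for every j ≥ j₀,
that evaluation map is bijective. (The published statement indexes the system by the negative
integers and assumes j₀ ≥ 1; this row indexes it by the natural numbers and allows j₀ = 0, which
changes nothing.) -/
theorem result (G : ℕᵒᵖ ⥤ AddCommGrpCat.{u})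
    (j₀ : ℕ) (hs : ∀ j : ℕ, j₀ ≤ j → Function.Surjective (G.map (homOfLE (Nat.le_succ j)).op).hom) :
    (G ⋙ forget AddCommGrpCat.{u}).IsMittagLeffler ∧
      Function.Surjective (fun s : (G ⋙ forget AddCommGrpCat.{u}).sections => s.1 (op j₀)) ∧
      ((∀ j : ℕ, j₀ ≤ j → Function.Injective (G.map (homOfLE (Nat.le_succ j)).op).hom) →
        Function.Bijective (fun s : (G ⋙ forget AddCommGrpCat.{u}).sections => s.1 (op j₀))) := by
  open Groth.Agent.DCat.MLSeq in
  have hML : (G ⋙ forget AddCommGrpCat.{u}).IsMittagLeffler := by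
    rw [ml_iff_g]
    intro i
    refine ⟨max i j₀, le_max_left _ _, fun k hk x => ?_⟩
    obtain ⟨y, rfl⟩ := key G j₀ hs (max i j₀) k (le_max_right _ _) hk x
    exact ⟨y, (trg_trg _ _ _).symm⟩
  open Groth.Agent.DCat.MLSeq in
  have hsurj : Function.Surjective (fun s : (G ⋙ forget AddCommGrpCat.{u}).sections => s.1 (op j₀)) := by
    intro x
    exact exists_section_through _ hML nat_cofinal
      ((mem_eventualRange_iff _ x).2 fun k h => key G j₀ hs j₀ k le_rfl h x)
  open Groth.Agent.DCat.MLSeq in
  refine ⟨hML, hsurj, fun hi => ⟨?_, hsurj⟩⟩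
  intro s t h
  refine Subtype.ext (funext fun ⟨i⟩ => ?_)
  have hm : s.1 (op (max i j₀)) = t.1 (op (max i j₀)) := by
    apply keyInj G j₀ hi j₀ _ le_rfl (le_max_right i j₀)
    exact (s.2 _).trans (h.trans (t.2 _).symm)
  rw [← s.2 (homOfLE (le_max_left i j₀)).op, ← t.2 (homOfLE (le_max_left i j₀)).op, hm]


end Groth.Agent.S15235
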