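import Groth.Statements.S15236
import Groth.Agent.H8Lim.NoetherianModel
import Groth.Agent.SGA1Quot.ResidueField
import Mathlib.AlgebraicGeometry.AlgClosed.Basic
import Mathlib.FieldTheory.IsAlgClosed.Classification
import Mathlib.RingTheory.Algebraic.Cardinality

set_option linter.style.haveILetI false
set_option backward.isDefEq.respectTransparency false
set_option backward.isDefEq.respectTransparency.types false
set_option maxHeartbeats 800000

set_option autoImplicit false
open CategoryTheory CategoryTheory.Limits AlgebraicGeometry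
universe u
open Variety

open Cardinal

namespace Groth.Agent.S15236

/-- Algebraically closed fields of equal uncountable cardinality are isomorphic over a countable domain. -/
theorem exists_ringEquiv {R : Type u} [CommRing R] [Countable R] {K L : Type u} [Field K] [Field L] [IsAlgClosed K]
    [IsAlgClosed L] (a : R →+* K) (b : R →+* L) (hker : RingHom.ker a = RingHom.ker b) (hK : ℵ₀ < #K)
    (hKL : #K = #L) : ∃ E : K ≃+* L, ∀ r, E (a r) = b r := by
  classical
  let I := RingHom.ker a
  let R' := R ⧸ I
  haveI : Countable R' := Function.Surjective.countable (Ideal.Quotient.mk_surjective (I := I))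
  let a' : R' →+* K := Ideal.Quotient.lift I a fun _ h => h
  let b' : R' →+* L := Ideal.Quotient.lift I b fun x h => RingHom.mem_ker.1 (hker ▸ h)
  letI := a'.toAlgebra
  letI := b'.toAlgebra
  haveI : FaithfulSMul R' K := (faithfulSMul_iff_algebraMap_injective R' K).2 (RingHom.kerLift_injective a)
  haveI : FaithfulSMul R' L := (faithfulSMul_iff_algebraMap_injective R' L).2 (by
    refine (injective_iff_map_eq_zero _).2 fun x hx => ?_
    obtain ⟨r, rfl⟩ := Ideal.Quotient.mk_surjective x
    refine Ideal.Quotient.eq_zero_iff_mem.2 ?_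
    show r ∈ RingHom.ker a
    rw [hker]
    exact hx)
  haveI : Nontrivial R' := (algebraMap R' K).domain_nontrivial
  obtain ⟨s, hs⟩ := exists_isTranscendenceBasis R' K
  obtain ⟨t, ht⟩ := exists_isTranscendenceBasis R' L
  have hR : #R' ≤ ℵ₀ := Cardinal.mk_le_aleph0
  have h1 := IsAlgClosed.cardinal_eq_cardinal_transcendence_basis_of_aleph0_lt' _ hs hR hK
  have h2 := IsAlgClosed.cardinal_eq_cardinal_transcendence_basis_of_aleph0_lt' _ ht hR (hKL ▸ hK)
  obtain ⟨e₀⟩ := Cardinal.eq.1 (h1.symm.trans (hKL.trans h2))
  let e : Algebra.adjoin R' (Set.range ((↑) : s → K)) ≃ₐ[R'] Algebra.adjoin R' (Set.range ((↑) : t → L)) :=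
    hs.1.aevalEquiv.symm.trans ((MvPolynomial.renameEquiv R' e₀).trans ht.1.aevalEquiv)
  letI := IsAlgClosed.isAlgClosure_of_transcendence_basis _ hs
  letI := IsAlgClosed.isAlgClosure_of_transcendence_basis _ ht
  refine ⟨IsAlgClosure.equivOfEquiv K L e.toRingEquiv, fun r => ?_⟩
  have h3 := IsAlgClosure.equivOfEquiv_algebraMap K L e.toRingEquiv
    (algebraMap R' (Algebra.adjoin R' (Set.range ((↑) : s → K))) (Ideal.Quotient.mk I r))
  refine h3.trans ?_
  show algebraMap (Algebra.adjoin R' (Set.range ((↑) : t → L))) L (e (algebraMap R' _ _)) = _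
  rw [e.commutes]
  rfl


/-- Let k be an uncountable algebraically closed field of characteristic zero, T an integral k-scheme of
finite type and f : X → T a flat morphism of finite type. Then there are countably many closed
subsets Z₀, Z₁, … of T, none of them equal to T, such that for every closed point t of T lying in no
Zₙ the fibre X_t = X ×_T Spec κ(t) is isomorphic, as a scheme, to the geometric generic fibre X ×_T
Spec L, where L is an algebraic closure of the residue field of T at its generic point (existence of
an isomorphism of schemes only; that such an isomorphism preserves rational equivalence of algebraic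
cycles, as the published statement adds, is automatic and is not restated). (The published statement
fixes the countable family of closed subsets before the family X → T and allows any flat T-scheme X
over any integral k-scheme T. Both fail: for T the affine line and X the spectrum of its function
field every closed fibre is empty while the geometric generic fibre is a point, and for any fixed
countable family of proper closed subsets of the affine line, X the complement of a closed point
outside all of them has an empty fibre there. This row takes T and f of finite type and lets the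
closed subsets depend on f.) -/
theorem result (k : Type u) [Field k] [IsAlgClosed k]
    [CharZero k] [Uncountable k] (T X : Scheme.{u}) (sT : T ⟶ Spec (CommRingCat.of k)) [IsIntegral T]
    [LocallyOfFiniteType sT] [QuasiCompact sT] (f : X ⟶ T) [Flat f] [LocallyOfFiniteType f]
    [QuasiCompact f] :
    ∃ Z : ℕ → TopologicalSpace.Closeds T, (∀ n, (Z n : Set T) ≠ Set.univ) ∧
      ∀ t : T, IsClosed ({t} : Set T) → (∀ n, t ∉ Z n) →
        Nonempty (f.fiber t ≅ pullback f (Spec.map (CommRingCat.ofHom (algebraMap
          (T.residueField (genericPoint T)) (AlgebraicClosure (T.residueField (genericPoint T))))) ≫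
            T.fromSpecResidueField (genericPoint T))) := by
  classical
  haveI : IsLocallyNoetherian T := LocallyOfFiniteType.isLocallyNoetherian sT
  obtain ⟨U, hU, hηU, -⟩ := exists_isAffineOpen_mem_and_subset (x := genericPoint T) (U := (⊤ : T.Opens)) trivial
  let η := genericPoint T
  haveI : IsNoetherianRing Γ(T, U) := IsLocallyNoetherian.component_noetherian ⟨U, hU⟩
  let prB := pullback.snd f hU.fromSpec
  haveI : LocallyOfFiniteType prB := inferInstance
  haveI : IsLocallyNoetherian (pullback f hU.fromSpec) := LocallyOfFiniteType.isLocallyNoetherian prB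
  haveI : LocallyOfFinitePresentation prB := inferInstance
  haveI : QuasiSeparated prB := inferInstance
  obtain ⟨s, X₀, f₀, g0, -, -, -, sq⟩ := H8Lim.exists_noetherian_model_fp prB
  let A₁ := H8Lim.fgSub Γ(T, U) s
  haveI : Algebra.FiniteType ℤ A₁ := .adjoin_of_finite s.finite_toSet
  haveI : Countable A₁ := by
    obtain ⟨n, F, hF⟩ := Algebra.FiniteType.iff_quotient_mvPolynomial''.1 (inferInstance : Algebra.FiniteType ℤ A₁)
    haveI : Countable (MvPolynomial (Fin n) ℤ) :=
      Cardinal.mk_le_aleph0_iff.1 (MvPolynomial.cardinalMk_le_max_lift.trans (by simp))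
    exact hF.countable
  let φ : A₁ →+* Γ(T, U) := A₁.val.toRingHom
  obtain ⟨en, hen⟩ := exists_surjective_nat (Option A₁)
  let Zs : Option A₁ → TopologicalSpace.Closeds T := fun o => o.elim
    (TopologicalSpace.Closeds.mk (U : Set T)ᶜ U.isOpen.isClosed_compl)
    fun a => if η ∈ T.basicOpen (φ a) then
      TopologicalSpace.Closeds.mk (T.basicOpen (φ a) : Set T)ᶜ (T.basicOpen (φ a)).isOpen.isClosed_compl else ⊥
  refine ⟨fun n => Zs (en n), fun n hn => ?_, fun t ht hZ => ?_⟩
  · have h1 : η ∈ (Zs (en n) : Set T) := hn ▸ trivial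
    cases h : en n with
    | none => rw [h] at h1; exact h1 hηU
    | some a =>
      rw [h] at h1
      change η ∈ ((if η ∈ T.basicOpen (φ a) then _ else ⊥ : TopologicalSpace.Closeds T) : Set T) at h1
      split_ifs at h1 with h2
      · exact h1 h2
      · exact h1
  have hZ' : ∀ o, t ∉ Zs o := fun o => by obtain ⟨n, rfl⟩ := hen o; exact hZ n
  have htU : t ∈ U := by_contra fun h => hZ' none h
  -- evaluation maps
  have hfac : ∀ (x : T) (hx : x ∈ U), T.fromSpecResidueField x = Spec.map (T.evaluation U x hx) ≫ hU.fromSpec := by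
    intro x hx
    rw [Scheme.fromSpecResidueField, ← hU.fromSpecStalk_eq_fromSpecStalk hx, IsAffineOpen.fromSpecStalk,
      ← Spec.map_comp_assoc]
    rfl
  have hiso : ∀ {L : Type u} [CommRing L] (e : Γ(T, U) ⟶ CommRingCat.of L),
      Nonempty (pullback f (Spec.map e ≫ hU.fromSpec) ≅
        pullback f₀ (Spec.map (CommRingCat.ofHom φ ≫ e))) := by
    intro L _ e
    have hB := IsPullback.of_hasPullback prB (Spec.map e)
    have h1 := hB.paste_horiz (IsPullback.of_hasPullback f hU.fromSpec)
    have h2 := hB.paste_horiz sq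
    rw [← Spec.map_comp] at h2
    exact ⟨h1.isoPullback.symm ≪≫ h2.isoPullback⟩
  let F := T.residueField η
  let eL : Γ(T, U) ⟶ CommRingCat.of (AlgebraicClosure F) :=
    T.evaluation U η hηU ≫ CommRingCat.ofHom (algebraMap F (AlgebraicClosure F))
  let et : Γ(T, U) ⟶ T.residueField t := T.evaluation U t htU
  -- the two kernels agree
  have hker : RingHom.ker (et.hom.comp φ) = RingHom.ker (eL.hom.comp φ) := by
    ext a
    have hL : eL (φ a) = 0 ↔ η ∉ T.basicOpen (φ a) := by
      rw [← Scheme.evaluation_eq_zero_iff_notMem_basicOpen _ η hηU]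
      exact map_eq_zero_iff _ (algebraMap F (AlgebraicClosure F)).injective
    have hT' : et (φ a) = 0 ↔ t ∉ T.basicOpen (φ a) := Scheme.evaluation_eq_zero_iff_notMem_basicOpen _ t htU _
    refine hT'.trans (Iff.trans ?_ hL.symm)
    refine ⟨fun h hη => ?_, fun h ht' => h ?_⟩
    · refine hZ' (some a) ?_
      show t ∈ ((if η ∈ T.basicOpen (φ a) then _ else ⊥ : TopologicalSpace.Closeds T) : Set T)
      rw [if_pos hη]
      exact h
    · exact ((genericPoint_spec T).mem_open_set_iff (T.basicOpen (φ a)).isOpen).2 ⟨t, trivial, ht'⟩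
  -- cardinalities
  have hk : ℵ₀ < #k := Cardinal.aleph0_lt_mk
  let ι₀ := (AlgebraicGeometry.residueFieldIsoBase sT t ht).commRingCatIsoToRingEquiv
  haveI : IsAlgClosed (T.residueField t) := IsAlgClosed.of_ringEquiv k _ ι₀.symm
  have hKt : #(T.residueField t) = #k := Cardinal.mk_congr ι₀.toEquiv
  have hB : #Γ(T, U) ≤ #k := by
    let a0 : CommRingCat.of k ⟶ Γ(T, U) := (Scheme.ΓSpecIso (CommRingCat.of k)).inv ≫ sT.appLE ⊤ U le_top
    letI := a0.hom.toAlgebra
    have hft : (a0.hom).FiniteType :=
      RingHom.FiniteType.comp (sT.finiteType_appLE (isAffineOpen_top _) hU le_top)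
        (RingHom.FiniteType.of_surjective _
          (ConcreteCategory.bijective_of_isIso (Scheme.ΓSpecIso (CommRingCat.of k)).inv).2)
    obtain ⟨n, G, hG⟩ := Algebra.FiniteType.iff_quotient_mvPolynomial''.1 (hft : Algebra.FiniteType k Γ(T, U))
    have h1 := Cardinal.mk_le_of_surjective (f := (G ∘ MvPolynomial.rename (R := k) ULift.down.{u}))
      (hG.comp (MvPolynomial.rename_surjective _ ULift.down_surjective))
    refine h1.trans (MvPolynomial.cardinalMk_le_max.trans ?_)
    exact max_le (max_le le_rfl ((Cardinal.mk_le_aleph0).trans hk.le)) hk.le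
  have hF : #F ≤ #k := by
    have hsurj : Function.Surjective (fun p : Γ(T, U) × Γ(T, U) => T.evaluation U η hηU p.1 / T.evaluation U η hηU p.2) :=
      fun z => by
        obtain ⟨b, c, hc, h⟩ := SGA1Quot.exists_evaluation_div hU hηU z
        exact ⟨(b, c), (eq_div_iff hc).2 h |>.symm⟩
    refine (Cardinal.mk_le_of_surjective hsurj).trans ?_
    rw [Cardinal.mk_prod, Cardinal.lift_id]
    exact (mul_le_mul' hB hB).trans (Cardinal.mul_eq_self hk.le).le
  have hLk : #(T.residueField t) = #(AlgebraicClosure F) := by
    rw [hKt]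
    refine le_antisymm ?_ ((Algebra.IsAlgebraic.cardinalMk_le_max F (AlgebraicClosure F)).trans (max_le hF hk.le))
    exact Cardinal.mk_le_of_injective
      (RingHom.injective (((Scheme.ΓSpecIso (CommRingCat.of k)).inv ≫ sT.appLE ⊤ U le_top ≫ eL).hom))
  obtain ⟨E, hE⟩ := exists_ringEquiv (et.hom.comp φ) (eL.hom.comp φ) hker (hKt ▸ hk) hLk
  let σ : T.residueField t ≅ CommRingCat.of (AlgebraicClosure F) := E.toCommRingCatIso
  have hσ : CommRingCat.ofHom φ ≫ eL = (CommRingCat.ofHom φ ≫ et) ≫ σ.hom :=
    CommRingCat.hom_ext (RingHom.ext fun a => (hE a).symm)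
  obtain ⟨i1⟩ := hiso (L := T.residueField t) et
  obtain ⟨i2⟩ := hiso eL
  have hft' : f.fiber t = pullback f (Spec.map et ≫ hU.fromSpec) := by
    show pullback f (T.fromSpecResidueField t) = _
    rw [hfac t htU]
  have hηeq : Spec.map (CommRingCat.ofHom (algebraMap F (AlgebraicClosure F))) ≫ T.fromSpecResidueField η =
      Spec.map eL ≫ hU.fromSpec := by
    rw [hfac η hηU, ← Spec.map_comp_assoc]
  refine ⟨eqToIso hft' ≪≫ i1 ≪≫ ?_ ≪≫ i2.symm ≪≫ eqToIso (by rw [← hηeq])⟩
  refine (asIso (pullback.map f₀ (Spec.map (CommRingCat.ofHom φ ≫ eL)) f₀ (Spec.map (CommRingCat.ofHom φ ≫ et))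
    (𝟙 _) (Spec.map σ.hom) (𝟙 _) (by simp) ?_)).symm
  rw [Category.comp_id, hσ, Spec.map_comp]

end Groth.Agent.S15236
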