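import Groth.Statements.S15240
import Groth.Agent.AGFQuot23.Flag
-- import your own Groth.Agent.* helpers here

set_option autoImplicit false
universe u
open CategoryTheory CategoryTheory.Limits MonoidalCategory CartesianMonoidalCategory MonObj GrpObj AlgebraicGeometry
open AGF

namespace Groth.Agent.S15240
open Groth.Agent.AGFQuot23
open Groth.Agent.AlgGrpLib (ptOf)

/-- Let k be an algebraically closed field, B a connected solvable affine algebraic group over k
(affine, smooth, connected, solvable k-group scheme) acting on a complete k-scheme X (separated, of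
finite type and proper over k) with finitely many orbits (finitely many subsets of X arise as images
of orbit maps of k-points), and Y a separated k-scheme of finite type on which B acts trivially.
Then every closed irreducible subset Z of X ×_k Y which is stable under the translations by all
k-points of B (acting on the first factor) is of the form V × W: there are a B-stable closed
irreducible subset V of X and a closed irreducible subset W of Y with Z equal to the set of points
whose two projections lie in V and in W. -/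
theorem result (k : Type u) [Field k] [IsAlgClosed k]
    (B X Y : Over (Spec (CommRingCat.of k))) [GrpObj B] [IsAffine B.left] [Smooth B.hom] [ConnectedSpace ↥B.left]
    (hsolv : Red.IsSolvableGrp B)
    [IsProper X.hom]
    [IsSeparated Y.hom] [LocallyOfFiniteType Y.hom] [QuasiCompact Y.hom]
    (a : AlgGrp.Action B X)
    (hfin : Set.Finite {S : Set ↥X.left | ∃ x : 𝟙_ (Over (Spec (CommRingCat.of k))) ⟶ X, S = Set.range ⇑(a.orbitMap x).left.base})
    (Z : Set ↥(X ⊗ Y).left) (hZc : IsClosed Z) (hZi : IsIrreducible Z)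
    (hZs : ∀ b : 𝟙_ (Over (Spec (CommRingCat.of k))) ⟶ B,
      ⇑(CartesianMonoidalCategory.lift (CartesianMonoidalCategory.toUnit (X ⊗ Y) ≫ b) (𝟙 (X ⊗ Y)) ≫
          (α_ B X Y).inv ≫ (a.act ▷ Y)).left.base '' Z ⊆ Z) :
    ∃ (V : Set ↥X.left) (W : Set ↥Y.left), IsClosed V ∧ IsIrreducible V ∧ IsClosed W ∧ IsIrreducible W ∧
      (∀ b : 𝟙_ (Over (Spec (CommRingCat.of k))) ⟶ B,
        ⇑(CartesianMonoidalCategory.lift (CartesianMonoidalCategory.toUnit X ≫ b) (𝟙 X) ≫ a.act).left.base '' V ⊆ V) ∧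
      Z = ⇑(CartesianMonoidalCategory.fst X Y).left.base ⁻¹' V ∩ ⇑(CartesianMonoidalCategory.snd X Y).left.base ⁻¹' W := by
  classical
  haveI : QuasiCompact B.hom := (quasiCompact_iff_compactSpace B.hom).2 inferInstance
  haveI : LocallyOfFiniteType (X ⊗ Y).hom := by
    change LocallyOfFiniteType (pullback.fst X.hom Y.hom ≫ X.hom)
    infer_instance
  let τ : (𝟙_ (Over (Spec (CommRingCat.of k))) ⟶ B) → (X ⊗ Y ⟶ X ⊗ Y) := fun b =>
    CartesianMonoidalCategory.lift (toUnit (X ⊗ Y) ≫ b) (𝟙 (X ⊗ Y)) ≫ (α_ B X Y).inv ≫ (a.act ▷ Y)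
  have hτ : ∀ (b : 𝟙_ (Over (Spec (CommRingCat.of k))) ⟶ B) (x : 𝟙_ (Over (Spec (CommRingCat.of k))) ⟶ X)
      (y : 𝟙_ (Over (Spec (CommRingCat.of k))) ⟶ Y),
      CartesianMonoidalCategory.lift x y ≫ τ b =
        CartesianMonoidalCategory.lift (CartesianMonoidalCategory.lift b x ≫ a.act) y := by
    intro b x y
    have e : CartesianMonoidalCategory.lift x y ≫ CartesianMonoidalCategory.lift (toUnit (X ⊗ Y) ≫ b) (𝟙 (X ⊗ Y)) =
        CartesianMonoidalCategory.lift b (CartesianMonoidalCategory.lift x y) := by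
      rw [comp_lift, Category.comp_id, ← Category.assoc, comp_toUnit, toUnit_unique (toUnit _) (𝟙 _),
        Category.id_comp]
    simp only [τ]
    rw [← Category.assoc, e, lift_lift_associator_inv_assoc, lift_whiskerRight]
  have hmove : ∀ (b : 𝟙_ (Over (Spec (CommRingCat.of k))) ⟶ B) (x : 𝟙_ (Over (Spec (CommRingCat.of k))) ⟶ X)
      (y : 𝟙_ (Over (Spec (CommRingCat.of k))) ⟶ Y), ptOf (CartesianMonoidalCategory.lift x y) ∈ Z →
      ptOf (CartesianMonoidalCategory.lift (CartesianMonoidalCategory.lift b x ≫ a.act) y) ∈ Z := fun b x y h => by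
    rw [← hτ]
    exact hZs b ⟨_, h, rfl⟩
  haveI : Finite {S : Set ↥X.left | ∃ x : 𝟙_ (Over (Spec (CommRingCat.of k))) ⟶ X,
      S = Set.range ⇑(a.orbitMap x).left.base} := hfin.to_subtype
  choose rep hrep using fun S : {S : Set ↥X.left | ∃ x : 𝟙_ (Over (Spec (CommRingCat.of k))) ⟶ X,
      S = Set.range ⇑(a.orbitMap x).left.base} => S.2
  let sl : (𝟙_ (Over (Spec (CommRingCat.of k))) ⟶ X) → (Y ⟶ X ⊗ Y) := fun x =>
    CartesianMonoidalCategory.lift (toUnit Y ≫ x) (𝟙 Y)
  have hsl : ∀ (x : 𝟙_ (Over (Spec (CommRingCat.of k))) ⟶ X) (y : 𝟙_ (Over (Spec (CommRingCat.of k))) ⟶ Y),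
      y ≫ sl x = CartesianMonoidalCategory.lift x y := fun x y => by
    simp only [sl]
    rw [comp_lift, Category.comp_id, ← Category.assoc, toUnit_unique (y ≫ toUnit Y) (𝟙 _), Category.id_comp]
  let P : {S : Set ↥X.left | ∃ x : 𝟙_ (Over (Spec (CommRingCat.of k))) ⟶ X,
      S = Set.range ⇑(a.orbitMap x).left.base} → Set ↥(X ⊗ Y).left := fun S =>
    (fst X Y).left ⁻¹' closure S.1 ∩ (snd X Y).left ⁻¹' ((sl (rep S)).left ⁻¹' Z)
  have hPc : ∀ S, IsClosed (P S) := fun S =>
    (isClosed_closure.preimage (fst X Y).left.continuous).inter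
      ((hZc.preimage (sl (rep S)).left.continuous).preimage (snd X Y).left.continuous)
  have hPZ : ∀ S, P S ⊆ Z := by
    intro S
    refine subset_of_forall_point (Z := X ⊗ Y) (hPc S).isLocallyClosed hZc fun z hz => ?_
    have hy : ptOf (CartesianMonoidalCategory.lift (rep S) (z ≫ snd X Y)) ∈ Z := by
      rw [← hsl]; exact hz.2
    have hrange : Set.range ⇑(a.orbitMap (rep S)).left.base ⊆
        (CartesianMonoidalCategory.lift (𝟙 X) (toUnit X ≫ z ≫ snd X Y)).left ⁻¹' Z := by
      rintro _ ⟨q, rfl⟩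
      refine subset_of_forall_point (Z := B) isClosed_univ.isLocallyClosed
        (hZc.preimage (a.orbitMap (rep S) ≫
          CartesianMonoidalCategory.lift (𝟙 X) (toUnit X ≫ z ≫ snd X Y)).left.continuous) (fun b _ => ?_)
        (Set.mem_univ q)
      show ptOf (b ≫ a.orbitMap (rep S) ≫ CartesianMonoidalCategory.lift (𝟙 X) (toUnit X ≫ z ≫ snd X Y)) ∈ Z
      rw [comp_lift, comp_lift, Category.comp_id, ← Category.assoc _ (toUnit X), comp_toUnit,
        ← Category.assoc b (toUnit B), comp_toUnit, toUnit_unique (toUnit _) (𝟙 _), Category.id_comp,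
        point_comp_orbitMap]
      exact hmove b _ _ hy
    have hcl := closure_minimal hrange (hZc.preimage
      (CartesianMonoidalCategory.lift (𝟙 X) (toUnit X ≫ z ≫ snd X Y)).left.continuous)
    have h1 : ptOf (z ≫ fst X Y) ∈ closure (Set.range ⇑(a.orbitMap (rep S)).left.base) := by
      rw [← hrep S]; exact hz.1
    have h2 : ptOf ((z ≫ fst X Y) ≫ CartesianMonoidalCategory.lift (𝟙 X) (toUnit X ≫ z ≫ snd X Y)) ∈ Z := hcl h1
    have e : (z ≫ fst X Y) ≫ CartesianMonoidalCategory.lift (𝟙 X) (toUnit X ≫ z ≫ snd X Y) = z := by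
      rw [comp_lift, Category.comp_id, ← Category.assoc _ (toUnit X), comp_toUnit,
        toUnit_unique (toUnit _) (𝟙 _), Category.id_comp]
      exact CartesianMonoidalCategory.hom_ext _ _ (by rw [lift_fst]) (by rw [lift_snd])
    rwa [e] at h2
  have hcov : Z ⊆ ⋃ S, P S := by
    refine subset_of_forall_point (Z := X ⊗ Y) hZc.isLocallyClosed (isClosed_iUnion_of_finite hPc) fun z hz => ?_
    let S : {S : Set ↥X.left | ∃ x : 𝟙_ (Over (Spec (CommRingCat.of k))) ⟶ X,
      S = Set.range ⇑(a.orbitMap x).left.base} := ⟨Set.range ⇑(a.orbitMap (z ≫ fst X Y)).left.base, _, rfl⟩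
    have hx : ptOf (z ≫ fst X Y) ∈ S.1 := by
      refine ⟨ptOf (1 : 𝟙_ _ ⟶ B), ?_⟩
      show ptOf ((1 : 𝟙_ _ ⟶ B) ≫ a.orbitMap (z ≫ fst X Y)) = _
      rw [one_comp_orbitMap, toUnit_unique (toUnit _) (𝟙 _), Category.id_comp]
    refine Set.mem_iUnion.2 ⟨S, subset_closure hx, ?_⟩
    obtain ⟨b, hb⟩ := exists_point_of_mem (a.orbitMap (rep S)) (z ≫ fst X Y) (hrep S ▸ hx)
    show ptOf ((z ≫ snd X Y) ≫ sl (rep S)) ∈ Z
    rw [hsl]
    have e : rep S = CartesianMonoidalCategory.lift b⁻¹ (z ≫ fst X Y) ≫ a.act := by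
      rw [← hb, ← mul_comp_orbitMap, inv_mul_cancel, one_comp_orbitMap, toUnit_unique (toUnit _) (𝟙 _),
        Category.id_comp]
    rw [e]
    refine hmove _ _ _ ?_
    rwa [← comp_lift, lift_fst_snd, Category.comp_id]
  obtain ⟨S, hS⟩ : ∃ S, Z ⊆ P S := by
    obtain ⟨t, ht, hZt⟩ := isIrreducible_iff_sUnion_isClosed.1 hZi (Set.toFinite (Set.range P)).toFinset
      (fun t ht => by
        obtain ⟨S, rfl⟩ := (Set.toFinite (Set.range P)).mem_toFinset.1 ht
        exact hPc S)
      (hcov.trans fun q hq => by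
        obtain ⟨S, hS⟩ := Set.mem_iUnion.1 hq
        exact ⟨P S, (Set.toFinite (Set.range P)).mem_toFinset.2 ⟨S, rfl⟩, hS⟩)
    obtain ⟨S, rfl⟩ := (Set.toFinite (Set.range P)).mem_toFinset.1 ht
    exact ⟨S, hZt⟩
  have hZP : Z = P S := Set.Subset.antisymm hS (hPZ S)
  obtain ⟨q, hq⟩ := hZi.nonempty
  have hq' := hZP ▸ hq
  have hprod : ∀ (v : ↥X.left) (w : ↥Y.left), ∃ r : ↥(X ⊗ Y).left, (fst X Y).left r = v ∧ (snd X Y).left r = w :=
    fun v w => Scheme.Pullback.exists_preimage_pullback v w (Subsingleton.elim (α := PrimeSpectrum k) _ _)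
  have hV : (fst X Y).left '' Z = closure S.1 := by
    refine Set.Subset.antisymm (Set.image_subset_iff.2 fun r hr => (hS hr).1) fun v hv => ?_
    obtain ⟨r, h1, h2⟩ := hprod v ((snd X Y).left q)
    refine ⟨r, hPZ S ⟨?_, ?_⟩, h1⟩
    · show (fst X Y).left r ∈ closure S.1
      rw [h1]; exact hv
    · show (snd X Y).left r ∈ (sl (rep S)).left ⁻¹' Z
      rw [h2]; exact hq'.2
  have hW : (snd X Y).left '' Z = (sl (rep S)).left ⁻¹' Z := by
    refine Set.Subset.antisymm (Set.image_subset_iff.2 fun r hr => (hS hr).2) fun w hw => ?_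
    obtain ⟨r, h1, h2⟩ := hprod ((fst X Y).left q) w
    refine ⟨r, hPZ S ⟨?_, ?_⟩, h2⟩
    · show (fst X Y).left r ∈ closure S.1
      rw [h1]; exact hq'.1
    · show (snd X Y).left r ∈ (sl (rep S)).left ⁻¹' Z
      rw [h2]; exact hw
  refine ⟨closure S.1, (sl (rep S)).left ⁻¹' Z, isClosed_closure,
    hV ▸ hZi.image _ (fst X Y).left.continuous.continuousOn, hZc.preimage (sl (rep S)).left.continuous,
    hW ▸ hZi.image _ (snd X Y).left.continuous.continuousOn, fun b => ?_, hZP⟩
  rw [← hV]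
  rintro _ ⟨_, ⟨r, hr, rfl⟩, rfl⟩
  refine ⟨(τ b).left r, hZs b ⟨r, hr, rfl⟩, ?_⟩
  have e : τ b ≫ fst X Y =
      fst X Y ≫ CartesianMonoidalCategory.lift (CartesianMonoidalCategory.toUnit X ≫ b) (𝟙 X) ≫ a.act := by
    simp only [τ, Category.assoc, whiskerRight_fst]
    simp only [← Category.assoc]
    congr 1
    refine CartesianMonoidalCategory.hom_ext _ _ ?_ ?_
    · simp only [Category.assoc, associator_inv_fst_fst, lift_fst]
      rw [← Category.assoc, comp_toUnit]
    · simp only [Category.assoc, associator_inv_fst_snd, lift_snd_assoc, Category.id_comp, lift_snd, Category.comp_id]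
  exact congrArg (fun f : X ⊗ Y ⟶ X => f.left r) e

end Groth.Agent.S15240
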