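import Groth.Statements.S15245
import Groth.Agent.RootDat.Weyl

set_option autoImplicit false
universe u
open CategoryTheory AlgebraicGeometry
open RedSub

namespace Groth.Agent.S15245

open Groth.Agent.RootDat RootD

theorem wordPerm_apply {I M N : Type} [AddCommGroup M] [AddCommGroup N] (P : RootPairing I ℤ M N) (l : List I) (a : I) :
    RedSub.wordPerm P l a = wprod P l • a := by
  induction l generalizing a with
  | nil => simp [RedSub.wordPerm]
  | cons b l ih =>
    have : RedSub.wordPerm P (b :: l) a = P.reflectionPerm b (RedSub.wordPerm P l a) := by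
      simp [RedSub.wordPerm]
    rw [this, ih, wprod_cons, mul_smul, refl_smul_idx]

theorem inv_lt {I M N : Type} [Finite I] [AddCommGroup M] [AddCommGroup N] (P : RootPairing I ℤ M N) {D : Set I}
    (hD : IsSimpleSys P D) (g : P.Aut) {β : I} (hβ : β ∈ posOf P D) (hgβ : g • β ∈ posOf P D) :
    Set.ncard {a | a ∈ posOf P D ∧ g • a ∉ posOf P D} <
      Set.ncard {a | a ∈ posOf P D ∧ (g * RootPairing.Equiv.reflection P β) • a ∉ posOf P D} := by
  classical
  obtain ⟨f, hne, hf⟩ := Simple.exists_fun hD
  let s : I → I := P.reflectionPerm β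
  let φ : I → I := fun a => if s a ∈ posOf P D then s a else a
  have hmul : ∀ a, (g * RootPairing.Equiv.reflection P β) • a = g • s a := fun a => by rw [mul_smul, refl_smul_idx]
  have hβneg : g • s β ∉ posOf P D := by
    show g • neg P β ∉ _
    rw [smul_neg_idx]
    exact Simple.pos_disjoint hD hgβ
  refine lt_of_eq_of_lt (Set.ncard_image_of_injOn (f := φ) ?_).symm (Set.ncard_lt_ncard ?_ (Set.toFinite _))
  · rintro a ⟨ha, ha'⟩ b ⟨hb, hb'⟩ h
    simp only [φ] at h
    split_ifs at h with h1 h2 h2
    · exact (P.reflectionPerm β).injective h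
    · exact absurd (by rw [← h]; show s (s a) ∈ _; simpa [s] using ha) h2
    · exact absurd (by rw [h]; show s (s b) ∈ _; simpa [s] using hb) h1
    · exact h
  rw [Set.ssubset_iff_of_subset]
  · refine ⟨β, ⟨hβ, by rw [hmul]; exact hβneg⟩, ?_⟩
    rintro ⟨a, ⟨ha, ha'⟩, h⟩
    simp only [φ] at h
    split_ifs at h with h1
    · have : a = s β := by rw [← h]; simp [s]
      exact Simple.pos_disjoint hD hβ (by show s β ∈ _; rw [← this]; exact ha)
    · exact ha' (h ▸ hgβ)
  rintro _ ⟨a, ⟨ha, ha'⟩, rfl⟩
  simp only [φ]
  split_ifs with h1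
  · refine ⟨h1, ?_⟩
    rw [hmul]
    simpa [s] using ha'
  · refine ⟨ha, ?_⟩
    rw [hmul, hf]
    have hr : P.root (s a) = P.root a - P.pairing a β • P.root β := by
      show P.root (P.reflectionPerm β a) = _
      rw [← P.reflectionPerm_root]
      rfl
    have h1' := h1
    rw [hf, hr] at h1'
    rw [hf] at ha hβ hgβ ha'
    rw [smul_root] at ha' hgβ
    rw [smul_root, hr, smul_sub, smul_comm]
    simp only [map_sub, map_zsmul, smul_eq_mul] at h1' ⊢
    have hn : 0 < P.pairing a β := by nlinarith
    nlinarith

/-- Let Φ be a finite reduced root system (a reduced root pairing over ℤ on a finite index set) with a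
base b, w an element of its Weyl group, given as the product of the reflections along a word l and
acting on the roots, and γ a positive root. Writing ℓ(u) for the number of positive roots a with
u(a) negative, one has ℓ(w) < ℓ(σ_γ w) if and only if w⁻¹(γ) is positive. (Here the length is taken
as the number of inverted positive roots.) -/
theorem result {idx M N : Type}
    [AddCommGroup M] [AddCommGroup N] [Finite idx]
    (P : RootPairing idx ℤ M N) [P.IsReduced] (b : P.Base) (l : List idx) (c : idx)
    (hc : c ∈ RedSub.posRoots P b) :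
    Set.ncard {a : idx | a ∈ RedSub.posRoots P b ∧ RedSub.wordPerm P l a ∈ RedSub.negRoots P b} <
        Set.ncard {a : idx | a ∈ RedSub.posRoots P b ∧
          (P.reflectionPerm c * RedSub.wordPerm P l) a ∈ RedSub.negRoots P b} ↔
      (RedSub.wordPerm P l)⁻¹ c ∈ RedSub.posRoots P b := by
  classical
  have hD : IsSimpleSys P (b.support : Set idx) := ⟨b.linearIndepOn_root, b.root_mem_or_neg_mem⟩
  let g := wprod P l
  have hpn : ∀ a, a ∈ RedSub.negRoots P b ↔ a ∉ posOf P (b.support : Set idx) := fun a => by
    rw [← Simple.neg_iff hD a]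
    show -P.root a ∈ AddSubmonoid.closure (P.root '' (b.support : Set idx)) ↔ P.root (neg P a) ∈ AddSubmonoid.closure (P.root '' (b.support : Set idx))
    rw [root_neg]
  have e1 : {a : idx | a ∈ RedSub.posRoots P b ∧ RedSub.wordPerm P l a ∈ RedSub.negRoots P b} =
      {a | a ∈ posOf P (b.support : Set idx) ∧ g • a ∉ posOf P (b.support : Set idx)} := by
    ext a; simp only [Set.mem_setOf_eq, wordPerm_apply, hpn]; rfl
  have e2 : {a : idx | a ∈ RedSub.posRoots P b ∧ (P.reflectionPerm c * RedSub.wordPerm P l) a ∈ RedSub.negRoots P b} =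
      {a | a ∈ posOf P (b.support : Set idx) ∧ (RootPairing.Equiv.reflection P c * g) • a ∉ posOf P (b.support : Set idx)} := by
    ext a; simp only [Set.mem_setOf_eq, Equiv.Perm.mul_apply, wordPerm_apply, hpn, mul_smul, refl_smul_idx]; rfl
  have hβ : (RedSub.wordPerm P l)⁻¹ c = g⁻¹ • c := by
    rw [Equiv.Perm.inv_eq_iff_eq, wordPerm_apply, smul_inv_smul]
  rw [e1, e2, hβ]
  have hkey : RootPairing.Equiv.reflection P c * g = g * RootPairing.Equiv.reflection P (g⁻¹ • c) := by
    rw [reflection_conj_smul, smul_inv_smul]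
  refine ⟨fun h => by_contra fun hn => ?_, fun h => ?_⟩
  · let g' := RootPairing.Equiv.reflection P c * g
    have h1 : neg P (g⁻¹ • c) ∈ posOf P (b.support : Set idx) := (Simple.neg_iff hD _).mpr hn
    have h2 : g' • neg P (g⁻¹ • c) = c := by
      rw [smul_neg_idx]
      show neg P ((RootPairing.Equiv.reflection P c * g) • g⁻¹ • c) = c
      rw [mul_smul, smul_inv_smul, refl_smul_idx]
      exact RootDat.neg_neg P c
    have h3 := inv_lt P hD g' h1 (h2.symm ▸ hc)
    rw [reflection_neg, show g' * RootPairing.Equiv.reflection P (g⁻¹ • c) = g by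
      rw [show g' = g * RootPairing.Equiv.reflection P (g⁻¹ • c) from hkey, _root_.mul_assoc, reflection_mul_self,
        _root_.mul_one]] at h3
    exact absurd h (not_lt.mpr h3.le)
  · rw [hkey]
    exact inv_lt P hD g h (by rw [smul_inv_smul]; exact hc)

end Groth.Agent.S15245
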