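import Groth.Statements.S15247
import Groth.Agent.CommAlg4.HilbertLower
-- import your own Groth.Agent.* helpers here

set_option autoImplicit false
open Fano

namespace Groth.Agent.S15247

/-- Over ℂ, let Y be an irreducible closed subscheme of projective m-space of dimension m − d, where 1 ≤
d and d + 1 ≤ m. Then the hypersurfaces of degree d + 1 containing Y form a linear family of
codimension at least m + 1 (that is, greater than m) in the projective space of all hypersurfaces of
degree d + 1. Here Y is given by a homogeneous ideal I of ℂ[x_0, …, x_m] whose radical is prime and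
with dim ℂ[x_0, …, x_m]/I = m + 1 − d, a hypersurface contains Y when its form lies in I, and the
conclusion reads: the forms of degree d + 1 in I span a subspace of codimension at least m + 1 in
the space of all forms of degree d + 1. -/
theorem result (m d : ℕ) (hd : 1 ≤ d) (hdm : d + 1 ≤ m)
    (I : Ideal (MvPolynomial (Fin (m + 1)) ℂ))
    (hI : I.IsHomogeneous (CohB1.polyGrading m ℂ))
    (hirr : I.radical.IsPrime)
    (hdim : ringKrullDim (MvPolynomial (Fin (m + 1)) ℂ ⧸ I) = ((m + 1 - d : ℕ) : WithBot ℕ∞)) :
    m + 1 + Module.finrank ℂ ↥(CohB1.polyGrading m ℂ (d + 1) ⊓ Submodule.restrictScalars ℂ I)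
      ≤ Module.finrank ℂ (LefPen.Form m ℂ (d + 1)) := by
  have key : ∀ N k : ℕ, 1 ≤ k → k < N → N ≤ N.choose k := by
    intro N
    induction N with
    | zero => intros; omega
    | succ N ih =>
      intro k h1 h2
      obtain ⟨k, rfl⟩ : ∃ k', k = k' + 1 := ⟨k - 1, by omega⟩
      rw [Nat.choose_succ_succ']
      rcases Nat.lt_or_ge (k + 1) N with h | h
      · have := ih (k + 1) (by omega) h
        have := Nat.choose_pos (n := N) (k := k) (by omega)
        omega
      · obtain rfl : N = k + 1 := by omega
        simp
  have h := Groth.Agent.CommAlg4.hilbert_lower_bound m (m + 1 - d) (d + 1) I hirr hdim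
  have h2 := key (m + 1) (d + 1) (by omega) (by omega)
  rw [show m + 1 - d + (d + 1) - 1 = m + 1 by omega] at h
  exact le_trans (Nat.add_le_add_right h2 _) h

end Groth.Agent.S15247
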