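import Groth.Statements.S15248
import Groth.Agent.Gen15.BadForms
import Groth.Agent.Gen15.BadDim
-- import your own Groth.Agent.* helpers here

set_option autoImplicit false
open Fano Groth.Agent.Gen15

namespace Groth.Agent.S15248

/-- Over ℂ, let m and d be integers with 1 ≤ d ≤ m − 2, and consider sequences (X_1, …, X_d) of
hypersurfaces of projective m-space with X_j of degree j. The sequences whose intersection X_1 ∩ ⋯ ∩
X_d has dimension greater than m − d form a locus of codimension greater than m in the product of
the projective spaces of hypersurfaces of degrees 1, …, d. Here a sequence is a point G of the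
affine space of tuples of forms in the m + 1 homogeneous coordinates with G_j of degree j (zero
forms allowed), the dimension condition reads dim ℂ[x_0, …, x_m]/(G_1, …, G_d) ≥ m + 2 − d, and the
conclusion is that this locus has codimension at least m + 1 in that affine space (the ideal of
polynomial functions vanishing on it has height at least m + 1). The tuples with some G_j = 0 belong
to the locus and form a closed subset of codimension exactly m + 1, and away from them the locus is
the inverse image of the projective one, so this affine form carries the same content as the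
projective one. -/
theorem result (m d : ℕ) (hd : 1 ≤ d) (hdm : d + 2 ≤ m) :
    LefPen.CodimGE ℂ
      {G : (j : Fin d) → LefPen.Form m ℂ (j.1 + 1) |
        ((m + 2 - d : ℕ) : WithBot ℕ∞) ≤
          ringKrullDim (MvPolynomial (Fin (m + 1)) ℂ ⧸
            Ideal.span (Set.range fun j : Fin d => (G j).1))}
      (m + 1) := by
  classical
  have hdM : d ≤ m := by omega
  let b : Module.Basis (IdxE ℂ m d) ℂ ((j : Fin d) → LefPen.Form m ℂ (j.1 + 1)) :=
    Pi.basis fun j : Fin d => bB ℂ m (j.1 + 1)
  refine codimGE_of_forall_prime b _ _ fun P hP hPD => ?_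
  have hdep := depSet_not_regular (k := ℂ) (M := m) (d := d) (π := Empty) hdM
  have hm1 : m + 1 ≤ Fintype.card (IdxE ℂ m d) := by
    let X1 : Fin (m + 1) → LefPen.Form m ℂ 1 := fun i => ⟨MvPolynomial.X i, MvPolynomial.isHomogeneous_X ℂ i⟩
    have hli : LinearIndependent ℂ X1 := Fintype.linearIndependent_iff.2 fun g hg i => by
      have h1 := congrArg (fun f : LefPen.Form m ℂ 1 => MvPolynomial.eval (Pi.single i 1) f.1) hg
      simpa [X1, Pi.single_apply, MvPolynomial.smul_eval] using h1
    have h2 := hli.fintype_card_le_finrank
    rw [Fintype.card_fin] at h2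
    refine h2.trans (le_trans (le_of_eq ?_) (Fintype.card_le_of_injective
      (fun a => (⟨⟨0, hd⟩, a⟩ : IdxE ℂ m d)) (fun a b h => eq_of_heq (Sigma.mk.inj h).2)))
    rw [Fintype.card_fin]
  refine le_height_of_trdeg P (m := Fintype.card (IdxE ℂ m d) - (m + 1))
    (trdeg_quotient_le_of_dep P fun κ _ hκ y => ?_) (by omega)
  obtain ⟨Φ, h0, hΦ⟩ := hdep κ (by simp only [Fintype.card_empty]; omega)
    (fun a => MvPolynomial.rename Sum.inr (y a))
  refine ⟨Φ, h0, hPD _ fun G hG => ?_⟩
  have hform : ∀ j, formAt (π := Empty) (Sum.elim Empty.elim fun x => b.repr G x) j = G j := fun j => by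
    conv_rhs => rw [← (bB ℂ m (j.1 + 1)).sum_repr (G j)]
    exact Finset.sum_congr rfl fun a _ => rfl
  have h := hΦ (Sum.elim Empty.elim fun x => b.repr G x) fun hreg => ?_
  · rw [eval_aeval_pt]
    simpa only [MvPolynomial.eval_rename, Sum.elim_comp_inr] using h
  obtain ⟨Y, -, hY⟩ := hreg
  simp only [hform] at hY
  have hdim : ringKrullDim (MvPolynomial (Fin (m + 1)) ℂ ⧸ Ideal.span (Set.range fun j : Fin d => (G j).1)) ≤
      ((m + 1 - d : ℕ) : WithBot ℕ∞) := by
    refine ringKrullDim_quotient_le_of_trdeg _ fun Q _ hQ => ?_
    refine le_of_le_of_eq (trdeg_quotient_le_of_finite_proj (fun j : Fin d => (G j).1) (fun j => j.1 + 1)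
      (fun j => (G j).2) (linForms Y) (fun l => MvPolynomial.IsHomogeneous.sum _ _ _ fun x _ =>
        (MvPolynomial.isHomogeneous_X ℂ x).C_mul _)
      (fun w h1 h2 => hY w (fun j _ => h1 j) (funext fun l => by rw [← eval_linForms]; exact h2 l)) Q
      fun j => hQ (Ideal.subset_span ⟨j, rfl⟩)) (by simp)
  have h3 := hG.out.trans hdim
  have h4 : m + 2 - d ≤ m + 1 - d := by exact_mod_cast h3
  omega

end Groth.Agent.S15248
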