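import Groth.Statements.S1525
import Groth.Agent.VarietyLib.LerayEuler
import Groth.Agent.EulerLib.CohSub

set_option autoImplicit false
universe u
open CategoryTheory CategoryTheory.Limits AlgebraicGeometry
open Variety
open Groth.Agent

namespace Groth.Agent.S1525

/-- For a morphism f : Y → X of proper schemes over a field and a coherent module G on Y, χ(Y, G) equals
the alternating sum over i of χ(X, R^i f_* G) (a finite sum, written here as a finitary sum). -/
theorem result (k : Type u) [Field k] (X Y : Scheme.{u})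
    [X.Over (Spec (CommRingCat.of k))] [Y.Over (Spec (CommRingCat.of k))] [IsProper (X ↘ (Spec (CommRingCat.of k)))] [IsProper (Y ↘ (Spec (CommRingCat.of k)))]
    (f : Y ⟶ X) (hf : f ≫ (X ↘ (Spec (CommRingCat.of k))) = Y ↘ (Spec (CommRingCat.of k))) [HasInjectiveResolutions Y.Modules]
    (G : Y.Modules) (hG : Coh.IsCoh G) :
    Curv2.euler k Y G = ∑ᶠ i : ℕ, (-1 : ℤ) ^ i * Curv2.euler k X ((Coh.Rpush f i).obj G) := by
  haveI : IsProper f := by
    haveI : IsProper (f ≫ (X ↘ Spec (CommRingCat.of k))) := by rw [hf]; infer_instance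
    exact IsProper.of_comp f (X ↘ Spec (CommRingCat.of k))
  haveI := EulerLib.isNoetherian_of_proper (X := X) k
  obtain ⟨N, hN⟩ := VarietyLib.exists_bound_isZero_rpush f
  obtain ⟨n, hn⟩ := EulerLib.exists_dim_le k (CohB1.support G)
  have h : topologicalKrullDim (CohB1.support G) < ((n + 1 : ℕ) : WithBot ℕ∞) := by
    refine lt_of_le_of_lt ?_ (by exact_mod_cast Nat.lt_succ_self n : ((n : ℕ) : WithBot ℕ∞) < ((n + 1 : ℕ) : WithBot ℕ∞))
    exact hn
  rw [VarietyLib.euler_eq_rhoEuler k f hf N.succ_pos (fun M hM => hN M hM _ N.le_succ) (n + 1) G hG h]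
  rw [VarietyLib.rhoEuler, finsum_eq_sum_of_support_subset _ (s := Finset.range (N + 1)) fun i hi => ?_]
  rw [Finset.coe_range, Set.mem_Iio]
  by_contra hge
  exact hi (by beta_reduce; rw [EulerLib.euler_of_isZero k X (hN G hG.1 i (by omega)), mul_zero])

end Groth.Agent.S1525
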