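import Groth.Statements.S15251
import Groth.Agent.Stk19b.AlgOfFp

set_option autoImplicit false
open CategoryTheory AlgebraicGeometry
universe u
open AlgSt

set_option backward.isDefEq.respectTransparency.types false
set_option backward.isDefEq.respectTransparency false

open FibCat Groth.Agent Groth.Agent.Stk19 Groth.Agent.Stk19b
namespace Groth.Agent.S15251


/-- Let S be a scheme and f : 𝒳 → 𝒴 a 1-morphism of stacks in groupoids over the category of schemes
over S. If 𝒴 is a Deligne–Mumford stack and for every scheme U over S and every 1-morphism g : U → 𝒴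
the 2-fibre product U ×_𝒴 𝒳 is a Deligne–Mumford stack, then 𝒳 is a Deligne–Mumford stack. All
stacks here are for the étale topology on schemes over S; an algebraic stack is a stack in groupoids
whose diagonal is representable by algebraic spaces and which has a smooth surjective atlas from a
scheme, and a Deligne–Mumford stack is an algebraic stack with an étale surjective atlas from a
scheme. (The published statement asks the fibre-product condition only for affine schemes U and uses
Deligne–Mumford stacks whose diagonal is moreover separated and quasi-compact; this row asks the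
condition for every scheme U over S and uses Deligne–Mumford stacks with no condition on the
diagonal beyond representability by algebraic spaces.) -/
theorem result {S : Scheme.{u}} {𝒳 𝒴 : AlgSt.Cat S}
    (h𝒳 : Stk.IsStack (QuotSh.J Scheme.etalePrecoverage S) 𝒳)
    (h𝒴 : AlgSt.IsDM Scheme.etalePrecoverage 𝒴) (f : 𝒳 ⥤ᵇ 𝒴)
    (hf : ∀ (U : Over S) (g : FibCat.overCat U ⥤ᵇ 𝒴),
      AlgSt.IsDM Scheme.etalePrecoverage (FibCat.fp g f)) :
    AlgSt.IsDM Scheme.etalePrecoverage 𝒳 := by
  exact ⟨⟨h𝒳, diag_rep_of_fp h𝒳.1 h𝒴.1.isStack.1 h𝒴.1.diag f fun U g => ⟨(hf U g).1.isStack.1, (hf U g).1.diag⟩,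
      hasAtlas_of_fp AlgSpLib.etLocal_smooth f h𝒴.1.atlas fun U g => ⟨(hf U g).1.isStack.1, (hf U g).1.atlas⟩⟩,
    hasAtlas_etale_iff.2 (hasAtlas_of_fp AlgSpLib.etLocal_etale f (hasAtlas_etale_iff.1 h𝒴.2)
      fun U g => ⟨(hf U g).1.isStack.1, hasAtlas_etale_iff.1 (hf U g).2⟩)⟩

end Groth.Agent.S15251
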