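import Groth.Statements.S15252
import Groth.Agent.CubicSurface.ThreefoldLines
-- import your own Groth.Agent.* helpers here

set_option autoImplicit false
open Fano

namespace Groth.Agent.S15252

open Groth.Agent.CubicSurface

/-- Let X be a smooth cubic hypersurface in projective 4-space over ℂ and let L₁, L₂ be two distinct
lines on X which meet. Then there is a finite set G of points of L₁ such that every line on X
meeting both L₁ and L₂ passes through a point of G. Here X is given by a cubic form f in five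
variables satisfying the Jacobian smoothness condition at every nonzero zero, a line on X is a
2-dimensional subspace of ℂ^5 on which f vanishes, two lines meet when the subspaces intersect
non-trivially, and a point of L₁ is a 1-dimensional subspace of it. (The published statement also
covers two disjoint lines; this row assumes that L₁ and L₂ meet.) -/
theorem result
    (f : MvPolynomial (Fin 5) ℂ) (hf : f.IsHomogeneous 3)
    (hsm : ∀ u : Fin 5 → ℂ, u ≠ 0 → MvPolynomial.eval u f = 0 →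
      ∃ i : Fin 5, MvPolynomial.eval u (MvPolynomial.pderiv i f) ≠ 0)
    (L₁ L₂ : Submodule ℂ (Fin 5 → ℂ)) (h₁ : Module.finrank ℂ ↥L₁ = 2) (h₂ : Module.finrank ℂ ↥L₂ = 2)
    (hf₁ : ∀ u ∈ L₁, MvPolynomial.eval u f = 0) (hf₂ : ∀ u ∈ L₂, MvPolynomial.eval u f = 0)
    (hne : L₁ ≠ L₂) (hmeet : L₁ ⊓ L₂ ≠ ⊥) :
    ∃ G : Set (Submodule ℂ (Fin 5 → ℂ)), G.Finite ∧ (∀ g ∈ G, Module.finrank ℂ ↥g = 1 ∧ g ≤ L₁) ∧
      ∀ L : Submodule ℂ (Fin 5 → ℂ), Module.finrank ℂ ↥L = 2 → (∀ u ∈ L, MvPolynomial.eval u f = 0) →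
        L ⊓ L₁ ≠ ⊥ → L ⊓ L₂ ≠ ⊥ → ∃ g ∈ G, g ≤ L := by
  classical
  obtain ⟨p, hp, hp0⟩ := Submodule.exists_mem_ne_zero_of_ne_bot hmeet
  obtain ⟨hp1, hp2⟩ := Submodule.mem_inf.1 hp
  obtain ⟨L₃, hL₃⟩ := two_lines_meeting hf hsm L₁ L₂ h₁ h₂ hf₁ hf₂ hne p hp0 hp1 hp2
  have hI : L₁ ⊓ L₂ = Submodule.span ℂ {p} := by
    refine (Submodule.eq_of_le_of_finrank_le ((Submodule.span_singleton_le_iff_mem _ _).2 hp) ?_).symm
    rw [finrank_span_singleton hp0]
    have h4 : L₁ ⊓ L₂ < L₁ := lt_of_le_of_ne inf_le_left fun e =>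
      hne (Submodule.eq_of_le_of_finrank_le (inf_eq_left.1 e) (by rw [h₁, h₂]))
    have := Submodule.finrank_lt_finrank_of_lt h4
    omega
  obtain ⟨q, hq0, hq1, hq3⟩ : ∃ q : Fin 5 → ℂ, q ≠ 0 ∧ q ∈ L₁ ∧ (L₁ ⊓ L₃ ≠ ⊥ → q ∈ L₃) := by
    by_cases h : L₁ ⊓ L₃ = ⊥
    · exact ⟨p, hp0, hp1, fun h' => absurd h h'⟩
    · obtain ⟨q, hq, hq0⟩ := Submodule.exists_mem_ne_zero_of_ne_bot h
      exact ⟨q, hq0, hq.1, fun _ => hq.2⟩
  refine ⟨{Submodule.span ℂ {p}, Submodule.span ℂ {q}}, Set.toFinite _, ?_, fun L hL hLf hm1 hm2 => ?_⟩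
  · rintro g (rfl | rfl)
    exacts [⟨finrank_span_singleton hp0, (Submodule.span_singleton_le_iff_mem _ _).2 hp1⟩,
      ⟨finrank_span_singleton hq0, (Submodule.span_singleton_le_iff_mem _ _).2 hq1⟩]
  by_cases hpL : p ∈ L
  · exact ⟨_, Or.inl rfl, (Submodule.span_singleton_le_iff_mem _ _).2 hpL⟩
  obtain ⟨x, hx, hx0⟩ := Submodule.exists_mem_ne_zero_of_ne_bot hm1
  obtain ⟨y, hy, hy0⟩ := Submodule.exists_mem_ne_zero_of_ne_bot hm2
  have hxn : x ∉ L₂ := fun h => by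
    have hxI : x ∈ L₁ ⊓ L₂ := ⟨hx.2, h⟩
    rw [hI, Submodule.mem_span_singleton] at hxI
    obtain ⟨c, rfl⟩ := hxI
    apply hpL
    have := L.smul_mem c⁻¹ hx.1
    rwa [smul_smul, inv_mul_cancel₀ (fun h0 => hx0 (by rw [h0, zero_smul])), one_smul] at this
  have hle : L ≤ L₁ ⊔ L₂ := by
    have hli : LinearIndependent ℂ ![x, y] := (LinearIndependent.pair_iff' hx0).2 fun c hc => by
      rcases eq_or_ne c 0 with h0 | h0
      · exact hy0 (by rw [← hc, h0, zero_smul])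
      · apply hxn
        have := L₂.smul_mem c⁻¹ hy.2
        rwa [← hc, smul_smul, inv_mul_cancel₀ h0, one_smul] at this
    have hsp : Submodule.span ℂ (Set.range ![x, y]) = L := Submodule.eq_of_le_of_finrank_le
      (Submodule.span_le.2 (by rintro _ ⟨i, rfl⟩; fin_cases i; exacts [hx.1, hy.1]))
      (by rw [finrank_span_eq_card hli, Fintype.card_fin, hL])
    rw [← hsp, Submodule.span_le]
    rintro _ ⟨i, rfl⟩
    fin_cases i
    exacts [Submodule.mem_sup_left hx.2, Submodule.mem_sup_right hy.2]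
  rcases hL₃ L hL hLf hle with h | h
  · exact absurd h hpL
  · exact ⟨_, Or.inr rfl, (Submodule.span_singleton_le_iff_mem _ _).2
      (h ▸ hq3 ((Submodule.ne_bot_iff _).2 ⟨x, ⟨hx.2, h ▸ hx.1⟩, hx0⟩))⟩

end Groth.Agent.S15252
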