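import Groth.Statements.S15254
import Groth.Agent.Coherent.Serre.Vanishing
import Groth.Agent.CurveRR24.Point
import Groth.Agent.EulerLib.FGABridge

set_option autoImplicit false
universe u
open CategoryTheory CategoryTheory.Limits AlgebraicGeometry TopologicalSpace
open W4c2seshadripos

open Groth.Agent Groth.Agent.Coherent Groth.Agent.EulerLib Groth.Agent.AmpleLib Groth.Agent.PicLib

namespace Groth.Agent.S15254

/-- Let X be an integral scheme proper over a field k (the published statement: a projective variety), x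
a closed point of X with ideal sheaf m_x, and L an ample invertible O_X-module. Then there is m₀
such that for every m ≥ m₀, every i > 1 and every a ≥ 0 the cohomology group H^i(X, m_x^a ⊗ L^{⊗m})
vanishes (here m_x^a ⊗ L^{⊗m} = m_x^a · L^{⊗m}, the ideal sheaf m_x^a being taken as an O_X-module). -/
theorem result (k : Type u) [Field k] (X : Scheme.{u})
    [X.Over (Spec (CommRingCat.of k))] [IsProper (X ↘ (Spec (CommRingCat.of k)))] [IsIntegral X]
    (x : X) (hx : IsClosed ({x} : Set X)) (L : X.Modules) (hL : CohB1.IsAmple L) :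
    ∃ m₀ : ℕ, ∀ m : ℕ, m₀ ≤ m → ∀ i : ℕ, 1 < i → ∀ a : ℕ,
      Subsingleton (Coh.HH X (CohB1.tensorMod (ClSub.idealMod ((W4c2seshadripos.pointIdeal x hx) ^ a))
        (CohB1.tensorPow L m)) i) := by
  haveI := isNoetherian_of_proper k (X := X)
  haveI : X.IsSeparated := isSeparated_of_proper (X := X) k
  obtain ⟨N, hN⟩ := Serre.exists_subsingleton_HH_twist (A := k) hL (Coh.structureModule X) (isCoh_structureModule X)
  refine ⟨N, fun m hm i hi a => ?_⟩
  let Z := (W4c2seshadripos.pointIdeal x hx) ^ a
  have hM := isInvertible_tensorPow hL.1 m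
  obtain ⟨q, rfl, hq⟩ : ∃ q, i = q + 1 ∧ 0 < q := ⟨i - 1, by omega, by omega⟩
  let S := ShortComplex.mk (ClSub.idealModι Z) (ClSub.toSubscheme Z) (kernel.condition (ClSub.toSubscheme Z))
  refine subsingleton_HH_X₁ (twistSeq_shortExact hM (CurveRR24.shortExact_ideal Z : S.ShortExact)) q ?_
    (hN m hm _ (by omega))
  haveI : Coh.IsQCoh (ClSub.quotMod Z) := (CurveRR24.isCoh_quotMod Z).1
  haveI : Coh.IsQCoh (CohB1.tensorPow L m) := isQCoh_of_isInvertible hM
  refine subsingleton_HH_of_support ⟨{x}, hx⟩ _ (isQCoh_tensor_invertible _ hM) ?_ q ?_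
  · show CohB1.support (CohB1.tensorMod (ClSub.quotMod Z) (CohB1.tensorPow L m)) ⊆ _
    rw [support_twist hM]
    refine (CurveRR24.support_quotMod_subset Z).trans ?_
    have key : ∀ n : ℕ, ((((W4c2seshadripos.pointIdeal x hx) ^ n).support : Set X)) ⊆ {x} := fun n => by
      induction n with
      | zero => simp
      | succ n ih =>
        rw [pow_succ, Scheme.IdealSheafData.support_mul]
        exact Set.union_subset ih (CurveRR24.support_ptIdeal hx).le
    exact key a
  · refine lt_of_le_of_lt (b := (0 : WithBot ℕ∞)) ?_ (by exact_mod_cast hq)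
    haveI : DiscreteTopology ({x} : Set X) := inferInstance
    exact topologicalKrullDim_zero_of_discreteTopology _

end Groth.Agent.S15254
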