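import Groth.Statements.S15255
import Groth.Agent.CurveRR24.Point
import Groth.Agent.EulerLib.FGABridge
import Groth.Agent.InjMod14.Kosz.TwistedChart
import Groth.Agent.SubAvoid14.IdealMul
-- import your own Groth.Agent.* helpers here

set_option autoImplicit false
universe u
open CategoryTheory CategoryTheory.Limits AlgebraicGeometry TopologicalSpace
open W4c2seshadripos

open Groth.Agent Groth.Agent.Coherent Groth.Agent.EulerLib Groth.Agent.AmpleLib Groth.Agent.PicLib

namespace Groth.Agent.S15255

/-- Let X be an integral scheme proper over a field k (the published statement: a projective variety), x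
a closed point of X with ideal sheaf m_x, L an invertible O_X-module and a, m > 0 integers. If
H^1(X, m_x^a ⊗ L^{⊗m}) is nonzero then so is H^1(X, m_x^(a+1) ⊗ L^{⊗m}) (the ideal sheaves m_x^a
being taken as O_X-modules, so that m_x^a ⊗ L^{⊗m} = m_x^a · L^{⊗m}). -/
theorem result (k : Type u) [Field k]
    (X : Scheme.{u}) [X.Over (Spec (CommRingCat.of k))] [IsProper (X ↘ (Spec (CommRingCat.of k)))]
    [IsIntegral X] (x : X) (hx : IsClosed ({x} : Set X)) (L : X.Modules) (hL : PicF.IsInvertible L)
    (a m : ℕ) (ha : 0 < a) (hm : 0 < m)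
    (h : Nontrivial (Coh.HH X (CohB1.tensorMod (ClSub.idealMod ((W4c2seshadripos.pointIdeal x hx) ^ a))
      (CohB1.tensorPow L m)) 1)) :
    Nontrivial (Coh.HH X (CohB1.tensorMod (ClSub.idealMod ((W4c2seshadripos.pointIdeal x hx) ^ (a + 1)))
      (CohB1.tensorPow L m)) 1) := by
  haveI := isNoetherian_of_proper k (X := X)
  haveI : X.IsSeparated := isSeparated_of_proper (X := X) k
  let P := W4c2seshadripos.pointIdeal x hx
  have hM := isInvertible_tensorPow hL m
  haveI : Coh.IsQCoh (CohB1.tensorPow L m) := isQCoh_of_isInvertible hM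
  rw [pow_succ]
  change Nontrivial (Coh.HH X (CohB1.tensorMod (ClSub.idealMod (P ^ a * P)) (CohB1.tensorPow L m)) 1)
  by_contra hcon
  rw [not_nontrivial_iff_subsingleton] at hcon
  apply not_subsingleton_iff_nontrivial.2 h
  obtain ⟨φ, hφ⟩ : ∃ φ : ClSub.idealMod (P ^ a * P) ⟶ ClSub.idealMod (P ^ a),
      φ ≫ ClSub.idealModι (P ^ a) = ClSub.idealModι (P ^ a * P) :=
    ⟨_, InjMod14.Kosz.mulIncl_ι P (P ^ a)⟩
  haveI : Mono φ := by
    haveI := mono_idealModι (P ^ a * P)
    exact mono_of_mono_fac hφ
  let S := ShortComplex.mk φ (cokernel.π φ) (cokernel.condition φ)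
  have hS : S.ShortExact := { exact := ShortComplex.exact_cokernel φ }
  refine subsingleton_HH_X₂ (twistSeq_shortExact hM hS) 1 hcon ?_
  haveI : Coh.IsQCoh (ClSub.idealMod (P ^ a * P)) := (CurveRR24.isCoh_idealMod' _).1
  haveI : Coh.IsQCoh (ClSub.idealMod (P ^ a)) := (CurveRR24.isCoh_idealMod' _).1
  haveI : Coh.IsQCoh (cokernel φ) := isQCoh_cokernel φ
  refine subsingleton_HH_of_support ⟨{x}, hx⟩ _ (isQCoh_tensor_invertible _ hM) ?_ 1 ?_
  · show CohB1.support (CohB1.tensorMod (cokernel φ) (CohB1.tensorPow L m)) ⊆ _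
    rw [support_twist hM]
    refine SubAvoid14.support_cokernel_subset φ fun z hz v => ?_
    let J := P ^ a * P
    have key : ∀ n : ℕ, (((P ^ n).support : Set X)) ⊆ {x} := fun n => by
      induction n with
      | zero => simp
      | succ n ih =>
        rw [pow_succ, Scheme.IdealSheafData.support_mul]
        exact Set.union_subset ih (CurveRR24.support_ptIdeal hx).le
    have h0 : Subsingleton ((DerSch.stalkFunctor X z).obj (ClSub.quotMod J)) :=
      not_not.1 fun hne => hz (key (a + 1) (by rw [pow_succ]; exact CurveRR24.support_quotMod_subset J hne))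
    obtain ⟨w, hw⟩ := ((ShortComplex.ShortExact.moduleCat_exact_iff_function_exact _).1
      ((ShortComplex.exact_kernel (ClSub.toSubscheme J)).map (DerSch.stalkFunctor X z))
      ((DerSch.stalkFunctor X z).map (ClSub.idealModι (P ^ a)) v)).1 (h0.elim _ _)
    refine ⟨(show ↥((DerSch.stalkFunctor X z).obj (ClSub.idealMod (P ^ a * P))) from w), ?_⟩
    haveI := mono_idealModι (P ^ a)
    refine (ModuleCat.mono_iff_injective ((DerSch.stalkFunctor X z).map (ClSub.idealModι (P ^ a)))).1 inferInstance ?_
    refine Eq.trans ?_ hw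
    refine (stalk_comp_apply _ _ _).trans ?_
    rw [hφ]
    rfl
  · refine lt_of_le_of_lt (b := (0 : WithBot ℕ∞)) ?_ (by exact_mod_cast Nat.one_pos)
    haveI : DiscreteTopology ({x} : Set X) := inferInstance
    exact topologicalKrullDim_zero_of_discreteTopology _

end Groth.Agent.S15255
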