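import Groth.Statements.S15256
import Groth.Agent.JetsBC29.Main
-- import your own Groth.Agent.* helpers here

set_option autoImplicit false
universe u
open CategoryTheory CategoryTheory.Limits AlgebraicGeometry TopologicalSpace
open W4c2seshadripos

namespace Groth.Agent.S15256

/-- For a field k, let X be a projective k-variety (an integral scheme, proper over k, carrying an ample
invertible module), F a quasi-coherent O_X-module of finite type, and x a closed point of X that is
k-rational. Let k'/k be a field extension for which X_{k'} = X ×_k k' is still integral, write π :
X_{k'} → X for the projection, and let x' be a closed point of X_{k'} mapping to x (over a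
k-rational point the fibre of π is one k'-rational point, so x' is determined by x). Then, for each
l ≥ 0, F separates l-jets at x exactly when π^* F separates l-jets at x'; here a module M separates
l-jets at a closed point y when H^0(M) → H^0(M / m_y^(l+1) M) is surjective. -/
theorem result (k : Type u) [Field k] (X : Scheme.{u})
    [X.Over (Spec (CommRingCat.of k))] [IsProper (X ↘ (Spec (CommRingCat.of k)))] [IsIntegral X]
    (hproj : ∃ A : X.Modules, CohB1.IsAmple A)
    (F : X.Modules) (hF : Coh.IsCoh F) (x : X) (hx : IsClosed ({x} : Set X))
    (hrat : Function.Surjective (Curv2.resMap k X x))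
    (k' : Type u) [Field k'] [Algebra k k'] [IsIntegral (Curv2.bc k X k')]
    (x' : ↥(Curv2.bc k X k')) (hx' : Curv2.bcFst k X k' x' = x) (hx'c : IsClosed ({x'} : Set ↥(Curv2.bc k X k')))
    (l : ℕ) :
    W4c2seshadripos.SeparatesJets F x hx l ↔
      W4c2seshadripos.SeparatesJets ((Scheme.Modules.pullback (Curv2.bcFst k X k')).obj F) x' hx'c l := by
  haveI := hF.1
  exact Groth.Agent.JetsBC29.main k X F x hx hrat k' x' hx' hx'c l

end Groth.Agent.S15256
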