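import Groth.Statements.S15259
import Mathlib
import Groth.Agent.CommAlg4.EssFT

set_option linter.all false

set_option autoImplicit false
universe u
open CategoryTheory CategoryTheory.Limits AlgebraicGeometry TopologicalSpace
open W4c2seshadripos

open AlgebraicGeometry CategoryTheory Limits Groth.Agent.CommAlg4.EssFT

namespace Groth.Agent.S15259

/-- Call f : X → Y locally essentially of finite type when Y has a cover by affine opens U = Spec A such
that each f⁻¹(U) has a cover by affine opens Spec B with A → B essentially of finite type (a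
localization of a finite-type A-algebra; Mathlib's RingHom.EssFiniteType), and essentially of finite
type when moreover f is quasi-compact. Then f is essentially of finite type exactly when every
affine open U = Spec A of Y has f⁻¹(U) covered by finitely many affine opens V = Spec B of X with A
→ B essentially of finite type. -/
theorem result {X Y : Scheme.{u}} (f : X ⟶ Y) :
    ((∃ S : Set Y.affineOpens, (⋃ U ∈ S, ((U : Y.Opens) : Set ↥Y)) = Set.univ ∧
      ∀ U ∈ S, ∃ T : Set X.affineOpens, (⋃ V ∈ T, ((V : X.Opens) : Set ↥X)) = ((f ⁻¹ᵁ (U : Y.Opens)) : Set ↥X) ∧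
        ∀ V ∈ T, ∃ e : (V : X.Opens) ≤ f ⁻¹ᵁ (U : Y.Opens), (f.appLE (U : Y.Opens) (V : X.Opens) e).hom.EssFiniteType) ∧ QuasiCompact f) ↔
    ∀ U : Y.affineOpens, ∃ T : Set X.affineOpens, T.Finite ∧ (⋃ V ∈ T, ((V : X.Opens) : Set ↥X)) = ((f ⁻¹ᵁ (U : Y.Opens)) : Set ↥X) ∧
        ∀ V ∈ T, ∃ e : (V : X.Opens) ≤ f ⁻¹ᵁ (U : Y.Opens), (f.appLE (U : Y.Opens) (V : X.Opens) e).hom.EssFiniteType := by
  constructor
  · rintro ⟨⟨S, hS, hloc⟩, hqc⟩ U
    have hc := QuasiCompact.isCompact_preimage (f := f) _ U.1.2 U.2.isCompact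
    have hcov : ∀ x : ↥X, f x ∈ U.1 → ∃ V : X.affineOpens, x ∈ V.1 ∧ Good f U.1 V.1 := by
      intro x hx
      obtain ⟨U₀, hU₀, hxU₀⟩ := Set.mem_iUnion₂.1 (hS.symm ▸ Set.mem_univ (f x))
      obtain ⟨T, hT, hgood⟩ := hloc U₀ hU₀
      obtain ⟨V₀, hxV₀, hV₀⟩ := exists_good_of_cover f hT hgood hxU₀
      obtain ⟨V, hV, hxV, -, hVgood⟩ := good_cover f U₀.2 V₀.2 hV₀ U.2 hxV₀ hx
      exact ⟨⟨V, hV⟩, hxV, hVgood⟩
    obtain ⟨T', hT'⟩ := hc.elim_finite_subcover (fun V : {V : X.affineOpens // Good f U.1 V.1} => (V.1.1 : Set ↥X))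
      (fun V => V.1.1.2) fun x hx => by
        obtain ⟨V, hxV, hV⟩ := hcov x hx
        exact Set.mem_iUnion.2 ⟨⟨V, hV⟩, hxV⟩
    refine ⟨Subtype.val '' (T' : Set {V : X.affineOpens // Good f U.1 V.1}), T'.finite_toSet.image _,
      Set.Subset.antisymm (Set.iUnion₂_subset ?_) fun x hx => ?_, ?_⟩
    · rintro _ ⟨V, -, rfl⟩; exact V.2.1
    · obtain ⟨V, hV, hxV⟩ := Set.mem_iUnion₂.1 (hT' hx)
      exact Set.mem_iUnion₂.2 ⟨V.1, ⟨V, hV, rfl⟩, hxV⟩
    · rintro _ ⟨V, -, rfl⟩; exact V.2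
  · intro h
    refine ⟨⟨Set.univ, Set.eq_univ_of_forall fun y => ?_, fun U _ => ?_⟩, ?_⟩
    · obtain ⟨_, ⟨U, hU, rfl⟩, hy, -⟩ := Y.isBasis_affineOpens.exists_subset_of_mem_open (Set.mem_univ y) isOpen_univ
      exact Set.mem_iUnion₂.2 ⟨⟨U, hU⟩, trivial, hy⟩
    · obtain ⟨T, -, h1, h2⟩ := h U
      exact ⟨T, h1, h2⟩
    · refine quasiCompact_iff_forall_isAffineOpen.2 fun U hU => ?_
      obtain ⟨T, hfin, h1, -⟩ := h ⟨U, hU⟩
      show IsCompact ((f ⁻¹ᵁ U : X.Opens) : Set ↥X)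
      rw [← h1]
      exact hfin.isCompact_biUnion fun V _ => V.2.isCompact

end Groth.Agent.S15259
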