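import Groth.Statements.S15261
import Mathlib
import Groth.Agent.CommAlg4.EssFT

set_option linter.all false

set_option autoImplicit false
universe u
open CategoryTheory CategoryTheory.Limits AlgebraicGeometry TopologicalSpace
open W4c2seshadripos

open AlgebraicGeometry CategoryTheory Limits Groth.Agent.CommAlg4.EssFT

namespace Groth.Agent.S15261

/-- Say a morphism of schemes h : S → T is locally essentially of finite type when for every affine open
U = Spec A of T the preimage h⁻¹(U) is covered by affine opens V = Spec B of S with A → B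
essentially of finite type (the every-affine-open form of the notion). If f : X → Y is locally
essentially of finite type and g : Y' → Y is any morphism of schemes, then the base change X ×_Y Y'
→ Y' is locally essentially of finite type. (The quasi-compact variant, essentially of finite type,
follows since quasi-compactness is stable under base change.) -/
theorem result {X Y Y' : Scheme.{u}} (f : X ⟶ Y) (g : Y' ⟶ Y)
    (hf : ∀ U : Y.affineOpens, ∃ T : Set X.affineOpens, (⋃ V ∈ T, ((V : X.Opens) : Set ↥X)) = ((f ⁻¹ᵁ (U : Y.Opens)) : Set ↥X) ∧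
        ∀ V ∈ T, ∃ e : (V : X.Opens) ≤ f ⁻¹ᵁ (U : Y.Opens), (f.appLE (U : Y.Opens) (V : X.Opens) e).hom.EssFiniteType)
    (U : Y'.affineOpens) :
    ∃ T : Set (pullback f g).affineOpens, (⋃ V ∈ T, ((V : (pullback f g).Opens) : Set ↥(pullback f g))) = (((pullback.snd f g) ⁻¹ᵁ (U : Y'.Opens)) : Set ↥(pullback f g)) ∧
        ∀ V ∈ T, ∃ e : (V : (pullback f g).Opens) ≤ (pullback.snd f g) ⁻¹ᵁ (U : Y'.Opens), ((pullback.snd f g).appLE (U : Y'.Opens) (V : (pullback f g).Opens) e).hom.EssFiniteType := by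
  refine cover_iff (pullback.snd f g) U.2 fun p hp => ?_
  set y := pullback.snd f g p with hy
  obtain ⟨_, ⟨U₀, hU₀, rfl⟩, hgy, -⟩ := Y.isBasis_affineOpens.exists_subset_of_mem_open (Set.mem_univ (g y)) isOpen_univ
  obtain ⟨D', hD', hyD', hDle⟩ : ∃ D : Y'.Opens, IsAffineOpen D ∧ y ∈ D ∧ D ≤ U.1 ⊓ g ⁻¹ᵁ U₀ := by
    obtain ⟨_, ⟨D, hD, rfl⟩, hyD, hDle⟩ := Y'.isBasis_affineOpens.exists_subset_of_mem_open
      (show y ∈ ((U.1 ⊓ g ⁻¹ᵁ U₀ : Y'.Opens) : Set ↥Y') from ⟨hp, hgy⟩) (U.1 ⊓ g ⁻¹ᵁ U₀).2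
    exact ⟨D, hD, hyD, hDle⟩
  obtain ⟨T, hT, hgood⟩ := hf ⟨U₀, hU₀⟩
  have hfp : f (pullback.fst f g p) ∈ U₀ := by
    rw [← Scheme.Hom.comp_apply, pullback.condition, Scheme.Hom.comp_apply]; exact hgy
  obtain ⟨V, hpV, hV⟩ := exists_good_of_cover f hT hgood hfp
  obtain ⟨hW, hWgood⟩ := good_baseChange (IsPullback.of_hasPullback f g) hU₀ V.2 hD' hV (hDle.trans inf_le_right)
  obtain ⟨W, hWa, hxW, -, hgoodW⟩ := good_cover (pullback.snd f g) hD' hW hWgood U.2 (x := p) ⟨hpV, hyD'⟩ hp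
  exact ⟨⟨W, hWa⟩, hxW, hgoodW⟩

end Groth.Agent.S15261
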