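import Groth.Statements.S15267
import Groth.Agent.EulerLib.JHLocFree
import Groth.Agent.Coherent.SupportPullback

set_option autoImplicit false
open CategoryTheory CategoryTheory.Limits AlgebraicGeometry
open Coherent

namespace Groth.Agent.S15267

open Groth.Agent Groth.Agent.EulerLib Groth.Agent.Coherent StabCat

theorem fs_of_series {X : Scheme.{0}} [AlgebraicGeometry.IsNoetherian X] {x : X} {E : X.Modules}
    (s : LTSeries (Subobject E)) (h0 : s.head = ⊥) (hl : s.last = ⊤) (hf : ∀ i, JHLocFree.FS x (factor s i))
    (hc : ∀ i, Coh.IsCoh (factor s i)) (hE : Coh.IsCoh E) : JHLocFree.FS x E := by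
  have hall := cohSub_series_coh s h0 hc
  have key : ∀ m, JHLocFree.FS x ((s m : Subobject E) : X.Modules) := by
    intro m
    induction m using Fin.induction with
    | zero =>
      rw [show s 0 = ⊥ from h0]
      exact JHLocFree.FS.of_isZero ((isZero_zero X.Modules).of_iso Subobject.botCoeIsoZero) x
    | succ m ih =>
      exact JHLocFree.FS.extension
        (shortExact_cokernel (Subobject.ofLE (s m.castSucc) (s m.succ) (le_of_lt (s.step m)))) ih (hf m)
  have := key (Fin.last s.length)
  rw [show s (Fin.last s.length) = ⊤ from hl] at this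
  exact this.of_iso hE (asIso (⊤ : Subobject E).arrow).symm


/-- Over the complex numbers, let X be an irreducible proper scheme of dimension d with an ample
invertible sheaf L, and let ξ be a complex point of X. Let E and F be coherent sheaves on X which
are semistable of dimension d with respect to L (nonzero, pure of dimension d, and the reduced
Hilbert polynomial of every nonzero proper coherent subsheaf is at most that of the sheaf for large
arguments), with the same reduced Hilbert polynomial (r(F)·p_E = r(E)·p_F for Hilbert polynomials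
p_E, p_F, r denoting d! times the degree-d coefficient), and suppose that each of E and F has a
filtration by coherent subsheaves with stable d-dimensional successive quotients of the same reduced
Hilbert polynomial whose associated graded sheaf (the direct sum of the quotients) is finite locally
free on some open neighbourhood of ξ. Then every morphism f from E to F whose pull-back along ξ is
the zero map is zero. (The published statement is for modules over a sheaf of rings of differential
operators on a projective flat family X over S with irreducible fibres of dimension d and a section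
ξ, the conditions being imposed on all closed fibres; this row is the case of the structure sheaf
over a single complex fibre, to which the published proof reduces.) -/
theorem result
    (X : Scheme.{0}) [X.Over (Spec (CommRingCat.of ℂ))] [IsProper (X ↘ Spec (CommRingCat.of ℂ))]
    [IrreducibleSpace X] (d : ℕ) (hX : topologicalKrullDim X = (d : WithBot ℕ∞))
    (L : X.Modules) (hL : CohB1.IsAmple L)
    (E F : X.Modules) (hE : ShStab.IsSemistable ℂ X L E d) (hF : ShStab.IsSemistable ℂ X L F d)
    (pE pF : Polynomial ℚ) (hpE : ShStab.IsHilbPoly ℂ X L E pE) (hpF : ShStab.IsHilbPoly ℂ X L F pF)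
    (hred : StabCat.RedEq d pE pF)
    (ξ : Spec (CommRingCat.of ℂ) ⟶ X) (hξ : ξ ≫ (X ↘ Spec (CommRingCat.of ℂ)) = 𝟙 (Spec (CommRingCat.of ℂ)))
    (sE : LTSeries (Subobject E)) (hsE : ShStab.IsJHFiltration ℂ X L E d sE)
    (hgrE : ∀ x ∈ Set.range ξ.base, ∃ U : X.Opens, x ∈ U ∧ FlatMod.IsFinLocFree ((StabCat.grObj sE).restrict U.ι))
    (sF : LTSeries (Subobject F)) (hsF : ShStab.IsJHFiltration ℂ X L F d sF)
    (hgrF : ∀ x ∈ Set.range ξ.base, ∃ U : X.Opens, x ∈ U ∧ FlatMod.IsFinLocFree ((StabCat.grObj sF).restrict U.ι))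
    (f : E ⟶ F) (hf : (Scheme.Modules.pullback ξ).map f = 0) : f = 0 := by
  haveI := isNoetherian_of_proper (X := X) ℂ
  by_contra hne
  have hIc := isCoh_image f hE.1 hF.1
  have hI0 : ¬ IsZero (Abelian.image f) := fun hz => hne (by
    rw [← Abelian.image.fac f, hz.eq_of_tgt (Abelian.factorThruImage f) 0, Limits.zero_comp])
  let ι := Abelian.image.ι f
  let π := Abelian.factorThruImage f
  have hKc := isCoh_kernel π hE.1 hIc.1
  -- reduced polynomials
  have hpI := isHilbPoly_hp ℂ hL (Abelian.image f) hIc
  set pI := hp ℂ hL (Abelian.image f) hIc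
  have hEsum : pE = hp ℂ hL (kernel π) hKc + pI := by
    rw [isHilbPoly_unique ℂ hpE (isHilbPoly_hp ℂ hL E hE.1)]
    exact hp_ses ℂ hL (shortExact_kernel π) hKc hE.1 hIc
  have hαI := alpha_pos_of_sub ℂ hL hF.2.2.1 ι hIc hI0 hpI
  have hαE := alpha_pos_of_sub ℂ hL hE.2.2.1 (𝟙 E) hE.1 hE.2.1 hpE
  have hαF := alpha_pos_of_sub ℂ hL hF.2.2.1 (𝟙 F) hF.1 hF.2.1 hpF
  have hIF : RedLE d pI pF := by
    by_cases hi : IsIso ι
    · have hpI' := hp_congr ℂ hL (@asIso _ _ _ _ _ hi) hIc hF.1
      rw [show pI = _ from hpI', ← isHilbPoly_unique ℂ hpF (isHilbPoly_hp ℂ hL F hF.1)]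
      exact redLE_refl _
    · exact hF.2.2.2 _ ι inferInstance hIc hI0 hi _ _ hpI hpF
  have hEI : RedLE d pE pI := by
    by_cases hz : IsZero (kernel π)
    · rw [hEsum, hilb_zero ℂ hL hz (isHilbPoly_hp ℂ hL _ hKc), zero_add]
      exact redLE_refl _
    · have hni : ¬ IsIso (kernel.ι π) := fun hi => hI0 (by
        have h0 : π = 0 := by rw [← cancel_epi (kernel.ι π), kernel.condition, Limits.comp_zero]
        exact IsZero.of_epi_eq_zero π h0)
      have h1 := hE.2.2.2 _ (kernel.ι π) inferInstance hKc hz hni _ _ (isHilbPoly_hp ℂ hL _ hKc) hpE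
      rw [hEsum] at h1 ⊢
      exact (redLE_seesaw _ _).1 h1
  have hredI : RedEq d pI pF :=
    redLE_antisymm hIF (redLE_trans hαF hαE hαI (redLE_of_eq (redEq_symm hred)) hEI)
  obtain ⟨x₀⟩ : Nonempty ↥(Spec (CommRingCat.of ℂ)) := inferInstance
  let x := ξ.base x₀
  have hgF := (JHLocFree.FS.iff_locFree (JHLocFree.isCoh_grObj sF fun i => (hsF.2.2 i).1.1) x).2 (hgrF x ⟨x₀, rfl⟩)
  obtain ⟨-, sQ, hsQ, hQf, -, -⟩ := JHLocFree.exists_jh_free ℂ hL hF sF hsF hgF ι hIc hpI hpF hredI
  have hQc := isCoh_cokernel ι hIc.1 hF.1
  have hQfree : JHLocFree.FS x (cokernel ι) :=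
    fs_of_series sQ hsQ.1 hsQ.2.1 hQf (fun i => (hsQ.2.2 i).1.1) hQc
  -- the stalk sequence splits
  let St := DerSch.stalkFunctor X x
  have hst := (shortExact_cokernel ι).map_of_exact St
  haveI : Module.Free (X.presheaf.stalk x) (St.obj (cokernel ι) : Type 0) := hQfree
  haveI hproj : Projective ((ShortComplex.mk ι (cokernel.π ι) (cokernel.condition ι)).map St).X₃ :=
    ModuleCat.projective_of_free (Module.Free.chooseBasis (X.presheaf.stalk x) (St.obj (cokernel ι) : Type 0))
  let spl := hst.splittingOfProjective
  let Pb := Scheme.Modules.pullback ξ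
  haveI : Epi (Pb.map π) := inferInstance
  have hι0 : Pb.map ι = 0 := by
    rw [← cancel_epi (Pb.map π), ← Pb.map_comp, Limits.comp_zero]
    rw [show π ≫ ι = f from Abelian.image.fac f]
    exact hf
  let Ex := ModuleCat.extendScalars (ξ.stalkMap x₀).hom
  have hex : Ex.map (St.map ι) = 0 := by
    have hnat := (ModStalk.pullbackStalkIso ξ x₀).hom.naturality ι
    rw [Functor.comp_map, hι0, Functor.map_zero, Limits.zero_comp] at hnat
    rw [← cancel_epi ((ModStalk.pullbackStalkIso ξ x₀).hom.app (Abelian.image f)), Limits.comp_zero]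
    exact hnat.symm
  have hzero : IsZero (Ex.obj (St.obj (Abelian.image f))) := by
    rw [IsZero.iff_id_eq_zero, ← Ex.map_id]
    have h1 : St.map ι ≫ spl.r = 𝟙 _ := spl.f_r
    let r : St.obj F ⟶ St.obj (Abelian.image f) := spl.r
    have h2 : Ex.map (St.map ι ≫ r) = 0 := by rw [Ex.map_comp, hex, Limits.zero_comp]
    exact (congrArg Ex.map h1.symm).trans h2
  have hsupp : CohB1.support (Abelian.image f) = Set.univ := by
    by_contra hne'
    have hcl := isClosed_support _ (locallyFinGen_of_isFT _ hIc.2)
    have hgen : genericPoint X ∉ CohB1.support (Abelian.image f) := fun h => hne'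
      (Set.eq_univ_of_univ_subset (by
        rw [← (genericPoint_spec X).def]
        exact hcl.closure_subset_iff.2 (Set.singleton_subset_iff.2 h)))
    exact (dim_lt_of_notMem hcl (Set.subset_univ _) isClosed_univ (genericPoint_spec X) hgen
      ((Topology.IsInducing.subtypeVal.topologicalKrullDim_le).trans hX.le)).ne
      (hF.2.2.1 _ ι inferInstance hIc hI0)
  have hmem : x₀ ∈ CohB1.support (Pb.obj (Abelian.image f)) := by
    rw [Coherent.support_pullback_qcoh (f := ξ) hIc.1 hIc.2, hsupp]
    exact Set.mem_univ _
  refine hmem ?_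
  have hz : IsZero ((DerSch.stalkFunctor _ x₀).obj (Pb.obj (Abelian.image f))) :=
    hzero.of_iso ((ModStalk.pullbackStalkIso ξ x₀).app _)
  exact ModuleCat.subsingleton_of_isZero hz

end Groth.Agent.S15267
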