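import Groth.Statements.S15270
import Groth.Agent.S15267
import Groth.Agent.FlatMor12.FreeLocusBC
import Groth.Agent.EGA43.FPKernel
import Groth.Agent.RelVALib.ChowPn

set_option autoImplicit false
set_option linter.style.haveILetI false
open CategoryTheory CategoryTheory.Limits AlgebraicGeometry
open Coherent

namespace Groth.Agent.S15270

open Groth.Agent Groth.Agent.EulerLib StabCat

theorem isFP_of_isCoh {X : Scheme.{0}} [IsLocallyNoetherian X] {M : X.Modules} (hM : Coh.IsCoh M) :
    CohB1.IsFP M := by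
  haveI := hM.1
  refine EGA43.FPKernel.isFP_of_forall_exists_affine M fun x => ?_
  obtain ⟨U, hU, hx, -⟩ := exists_isAffineOpen_mem_and_subset (x := x) (U := ⊤) trivial
  haveI := ((Groth.Agent.Coherent.isCoh_iff_finite_sections _).1 hM).2 U hU
  haveI : IsNoetherianRing Γ(X, U) := IsLocallyNoetherian.component_noetherian ⟨U, hU⟩
  exact ⟨U, hU, hx, Module.finitePresentation_of_finite _ _⟩

/-- Over the complex numbers, let S be a separated scheme of finite type, X a closed subscheme of
projective n-space over S which is flat over S, and ξ a section of X over S. Let F be a coherent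
sheaf on X, flat over S, such that for every complex point t of S the restriction F_t to the fibre
X_t, polarised by the pull-back of O(1), is semistable of dimension d (nonzero, pure of dimension d,
reduced Hilbert polynomials of nonzero proper coherent subsheaves at most that of F_t for large
arguments) and has a filtration by coherent subsheaves with stable d-dimensional successive
quotients of the reduced Hilbert polynomial of F_t whose associated graded sheaf is finite locally
free on an open neighbourhood of the point ξ(t). Then F is locally free along ξ: for every complex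
point t of S, F is finite locally free on an open neighbourhood of the point ξ(t) of X. (The
published statement is for modules over a sheaf of rings of differential operators, on a projective
flat family with irreducible fibres of dimension d, and uses closed points; this row is the case of
the structure sheaf with complex points, which are the closed points here, and does not assume the
fibres irreducible.) -/
theorem result
    (S : Scheme.{0}) (sS : S ⟶ Spec (CommRingCat.of ℂ)) [LocallyOfFiniteType sS] [QuasiCompact sS] [IsSeparated sS]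
    (n : ℕ) (X : Scheme.{0}) (i : X ⟶ CohB1.ProjSpaceOver n S) [IsClosedImmersion i] [Flat (i ≫ (CohB1.ProjSpaceOver n S ↘ S))] (d : ℕ)
    (ξ : S ⟶ X) (hξ : ξ ≫ (i ≫ (CohB1.ProjSpaceOver n S ↘ S)) = 𝟙 S)
    (F : X.Modules) (hF : Coh.IsCoh F) (hFfl : FlatMod.IsFlatOver (i ≫ (CohB1.ProjSpaceOver n S ↘ S)) F)
    (hss : ∀ (t : Spec (CommRingCat.of ℂ) ⟶ S), t ≫ sS = 𝟙 (Spec (CommRingCat.of ℂ)) →
      @ShStab.IsSemistable ℂ _ (PicF.XT (i ≫ (CohB1.ProjSpaceOver n S ↘ S)) (Over.mk t)) ⟨PicF.XTproj (i ≫ (CohB1.ProjSpaceOver n S ↘ S)) (Over.mk t)⟩ ((Scheme.Modules.pullback (pullback.fst (i ≫ (CohB1.ProjSpaceOver n S ↘ S)) (Over.mk t).hom ≫ i)).obj (Twist.twistOver n S 1)) ((Scheme.Modules.pullback (pullback.fst (i ≫ (CohB1.ProjSpaceOver n S ↘ S)) (Over.mk t).hom)).obj F) d)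
    (hLF : ∀ (t : Spec (CommRingCat.of ℂ) ⟶ S), t ≫ sS = 𝟙 (Spec (CommRingCat.of ℂ)) →
      ∃ sF : LTSeries (Subobject ((Scheme.Modules.pullback (pullback.fst (i ≫ (CohB1.ProjSpaceOver n S ↘ S)) (Over.mk t).hom)).obj F)), @ShStab.IsJHFiltration ℂ _ (PicF.XT (i ≫ (CohB1.ProjSpaceOver n S ↘ S)) (Over.mk t)) ⟨PicF.XTproj (i ≫ (CohB1.ProjSpaceOver n S ↘ S)) (Over.mk t)⟩ ((Scheme.Modules.pullback (pullback.fst (i ≫ (CohB1.ProjSpaceOver n S ↘ S)) (Over.mk t).hom ≫ i)).obj (Twist.twistOver n S 1)) ((Scheme.Modules.pullback (pullback.fst (i ≫ (CohB1.ProjSpaceOver n S ↘ S)) (Over.mk t).hom)).obj F) d sF ∧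
        ∀ x ∈ Set.range (PicF.secT (i ≫ (CohB1.ProjSpaceOver n S ↘ S)) ξ hξ (Over.mk t)).base, ∃ V : (PicF.XT (i ≫ (CohB1.ProjSpaceOver n S ↘ S)) (Over.mk t)).Opens, x ∈ V ∧ FlatMod.IsFinLocFree ((StabCat.grObj sF).restrict V.ι))
    (t : Spec (CommRingCat.of ℂ) ⟶ S) (ht : t ≫ sS = 𝟙 (Spec (CommRingCat.of ℂ))) :
    ∀ x ∈ Set.range (t ≫ ξ).base, ∃ U : X.Opens, x ∈ U ∧ FlatMod.IsFinLocFree (F.restrict U.ι) := by
  rintro _ ⟨x₀, rfl⟩
  set f := i ≫ (CohB1.ProjSpaceOver n S ↘ S) with hfdef
  haveI hP : IsProper (CohB1.ProjSpaceOver.toBase n S) := RelVALib.isProper_toBase n S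
  haveI hfp : IsProper f := by
    haveI : IsProper (CohB1.ProjSpaceOver n S ↘ S) := hP
    exact inferInstanceAs (IsProper (i ≫ _))
  haveI : IsLocallyNoetherian S := LocallyOfFiniteType.isLocallyNoetherian sS
  haveI : IsLocallyNoetherian X := LocallyOfFiniteType.isLocallyNoetherian f
  haveI : CompactSpace S := QuasiCompact.compactSpace_of_compactSpace sS
  haveI : CompactSpace X := QuasiCompact.compactSpace_of_compactSpace f
  haveI : AlgebraicGeometry.IsNoetherian X := ⟨⟩
  let T : Over S := Over.mk t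
  obtain ⟨sF, hJH, hgr⟩ := hLF t ht
  let Xt := PicF.XT f T
  let g' : Xt ⟶ X := pullback.fst f T.hom
  letI : Xt.Over (Spec (CommRingCat.of ℂ)) := ⟨PicF.XTproj f T⟩
  haveI : IsProper (Xt ↘ Spec (CommRingCat.of ℂ)) :=
    inferInstanceAs (IsProper (pullback.snd f T.hom))
  haveI := isNoetherian_of_proper (X := Xt) ℂ
  let x' : Xt := (PicF.secT f ξ hξ T).base x₀
  have hFt : Coh.IsCoh ((Scheme.Modules.pullback g').obj F) := (hss t ht).1
  have hgc : ∀ j, Coh.IsCoh (factor sF j) := fun j => (hJH.2.2 j).1.1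
  have hg := (JHLocFree.FS.iff_locFree (JHLocFree.isCoh_grObj sF hgc) x').2 (hgr x' ⟨x₀, rfl⟩)
  have hfac : ∀ j, JHLocFree.FS x' (factor sF j) := fun j => by
    classical
    refine hg.retract (hgc j) (Sigma.ι (fun j => factor sF j) j)
      (Sigma.desc fun b => if h : b = j then eqToHom (congrArg _ h) else 0) ?_
    erw [colimit.ι_desc]
    simp
  have hfree : JHLocFree.FS x' ((Scheme.Modules.pullback g').obj F) :=
    S15267.fs_of_series sF hJH.1 hJH.2.1 hfac hgc hFt
  haveI := hF.1
  have h2 := (FlatMor12.FreeLocusBC.free_stalk_iff f F (isFP_of_isCoh hF) hFfl T.hom (pullback.snd f T.hom) g'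
    (IsPullback.of_hasPullback f T.hom) x').1 hfree
  have hpt : g' x' = (t ≫ ξ).base x₀ := by
    show (PicF.secT f ξ hξ T ≫ g').base x₀ = _
    rw [show PicF.secT f ξ hξ T ≫ g' = t ≫ ξ from pullback.lift_fst _ _ _]
  rw [← hpt]
  exact (JHLocFree.FS.iff_locFree hF (g' x')).1 h2

end Groth.Agent.S15270
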