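import Groth.Statements.S15268
import Groth.Agent.S15267
import Groth.Agent.S15270
import Groth.Agent.EulerLib.ThickenVanish
import Groth.Agent.CycLib28.InterPull
import Mathlib.RingTheory.Jacobson.Ring
import Groth.Agent.H8Coh.ProjFamily
import Groth.Agent.FlatMor12.HilbOpen
import Groth.Agent.DQCoh.RelTor
import Groth.Agent.BCFlat16.Local
import Groth.Agent.SphLib.Faithful

set_option autoImplicit false
set_option linter.style.haveILetI false
set_option backward.isDefEq.respectTransparency false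
set_option maxHeartbeats 1000000
open CategoryTheory CategoryTheory.Limits AlgebraicGeometry
open Coherent

namespace Groth.Agent.S15268

open Groth.Agent Groth.Agent.ArtFunLib.QuotLift

/-- A closed point of a scheme of finite type over `ℂ` lies under a point of an affine chart. -/
theorem exists_chart_point (S : Scheme.{0}) (sS : S ⟶ Spec (CommRingCat.of ℂ)) [LocallyOfFiniteType sS] (s : S)
    (hs : IsClosed ({s} : Set S)) :
    ∃ (V : S.Opens) (hV : IsAffineOpen V) (c : Γ(S, V) →+* ℂ) (s' : ↥(Spec Γ(S, V))),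
      Function.Surjective c ∧ (RingHom.ker c).IsMaximal ∧ s'.asIdeal = RingHom.ker c ∧ hV.fromSpec s' = s ∧
        (Spec.map (CommRingCat.ofHom c) ≫ hV.fromSpec) ≫ sS = 𝟙 _ := by
  obtain ⟨V, hV, hsV, -⟩ := exists_isAffineOpen_mem_and_subset (x := s) (U := ⊤) trivial
  let α : CommRingCat.of ℂ ⟶ Γ(S, V) := Spec.preimage (hV.fromSpec ≫ sS)
  have hα : Spec.map α = hV.fromSpec ≫ sS := Spec.map_preimage _
  have hlft : LocallyOfFiniteType (Spec.map α) := hα ▸ inferInstance
  rw [HasRingHomProperty.Spec_iff (P := @LocallyOfFiniteType)] at hlft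
  letI := α.hom.toAlgebra
  haveI : Algebra.FiniteType ℂ Γ(S, V) := hlft
  let s' := hV.primeIdealOf ⟨s, hsV⟩
  have hs' : hV.fromSpec s' = s := hV.fromSpec_primeIdealOf ⟨s, hsV⟩
  have hcl : IsClosed ({s'} : Set ↥(Spec Γ(S, V))) := by
    rw [show ({s'} : Set ↥(Spec Γ(S, V))) = hV.fromSpec ⁻¹' {s} from Set.ext fun y =>
      ⟨fun h => (congrArg _ h).trans hs', fun h => hV.fromSpec.isOpenEmbedding.injective (h.trans hs'.symm)⟩]
    exact hs.preimage hV.fromSpec.base.hom.continuous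
  haveI : s'.asIdeal.IsMaximal := (PrimeSpectrum.isClosed_singleton_iff_isMaximal _).1 hcl
  obtain ⟨g, hg⟩ : ∃ g : Γ(S, V) →ₐ[ℂ] ℂ, RingHom.ker g = s'.asIdeal := by
    letI := Ideal.Quotient.field s'.asIdeal
    haveI : Module.Finite ℂ (Γ(S, V) ⧸ s'.asIdeal) := finite_of_finite_type_of_isJacobsonRing ℂ _
    let e : ℂ ≃ₐ[ℂ] Γ(S, V) ⧸ s'.asIdeal := AlgEquiv.ofBijective (Algebra.ofId ℂ _)
      (IsAlgClosed.algebraMap_bijective_of_isIntegral (k := ℂ) (K := Γ(S, V) ⧸ s'.asIdeal))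
    refine ⟨e.symm.toAlgHom.comp (Ideal.Quotient.mkₐ ℂ s'.asIdeal), Ideal.ext fun y => ?_⟩
    refine ⟨fun h => ?_, fun h => ?_⟩
    · exact Ideal.Quotient.eq_zero_iff_mem.1 (e.symm.injective ((RingHom.mem_ker.1 h).trans (map_zero e.symm).symm))
    · exact RingHom.mem_ker.2 ((congrArg e.symm (Ideal.Quotient.eq_zero_iff_mem.2 h)).trans (map_zero e.symm))
  refine ⟨V, hV, g.toRingHom, s', fun z => ⟨algebraMap ℂ Γ(S, V) z, g.commutes z⟩, hg.symm ▸ ‹_›, hg.symm, hs', ?_⟩
  rw [Category.assoc, ← hα, ← Spec.map_comp, ← Spec.map_id]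
  exact congrArg Spec.map (CommRingCat.hom_ext (RingHom.ext fun z => g.commutes z))

theorem stk_eq_zero_of_open {U X : Scheme.{0}} (j : U ⟶ X) [IsOpenImmersion j] {E F : X.Modules} (φ : E ⟶ F) (z : U)
    (h : ∀ e, stk ((Scheme.Modules.pullback j).map φ) z e = 0) (e : St E (j z)) : stk φ (j z) e = 0 := by
  have h0 := h (unitSt j z E e)
  rw [unitSt_natural] at h0
  letI := (j.stalkMap z).hom.toAlgebra
  have hb := ConcreteCategory.bijective_of_isIso (j.stalkMap z)
  have h1 := (Groth.Agent.Coherent.CohBC.tmul_one_eq_zero_iff (C := U.presheaf.stalk z) hb.2 (stk φ (j z) e)).1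
    ((ConcreteCategory.bijective_of_isIso ((ModStalk.pullbackStalkIso j z).inv.app F)).1 (h0.trans (map_zero _).symm))
  rwa [(RingHom.injective_iff_ker_eq_bot (algebraMap (X.presheaf.stalk (j z)) (U.presheaf.stalk z))).1 hb.1,
    Submodule.bot_smul, Submodule.mem_bot] at h1

/-- Over the complex numbers, let S be a separated scheme of finite type, X a closed subscheme of
projective n-space over S which is flat over S and whose fibre X_t over every complex point t of S
is irreducible of dimension d, and ξ a section of X over S. Let E and F be coherent sheaves on X,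
flat over S, such that for every complex point t of S, on the fibre X_t polarised by the pull-back
of O(1): the restrictions E_t and F_t are semistable of dimension d (nonzero, pure of dimension d,
reduced Hilbert polynomials of nonzero proper coherent subsheaves at most that of the sheaf for
large arguments) with the same reduced Hilbert polynomial (r(F_t)·p_{E_t} = r(E_t)·p_{F_t}, r
denoting d! times the degree-d coefficient), and each of E_t, F_t has a filtration by coherent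
subsheaves with stable d-dimensional successive quotients of that reduced Hilbert polynomial whose
associated graded sheaf is finite locally free on an open neighbourhood of the point ξ(t). Then
every morphism φ from E to F whose pull-back along ξ is the zero map is zero. (The published
statement is for modules over a sheaf of rings of differential operators and imposes the fibre
conditions at the closed points of the base; this row is the case of the structure sheaf, with the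
conditions at complex points, which are the closed points here.) -/
theorem result
    (S : Scheme.{0}) (sS : S ⟶ Spec (CommRingCat.of ℂ)) [LocallyOfFiniteType sS] [QuasiCompact sS] [IsSeparated sS]
    (n : ℕ) (X : Scheme.{0}) (i : X ⟶ CohB1.ProjSpaceOver n S) [IsClosedImmersion i] [Flat (i ≫ (CohB1.ProjSpaceOver n S ↘ S))] (d : ℕ)
    (ξ : S ⟶ X) (hξ : ξ ≫ (i ≫ (CohB1.ProjSpaceOver n S ↘ S)) = 𝟙 S)
    (hfib : ∀ (t : Spec (CommRingCat.of ℂ) ⟶ S), t ≫ sS = 𝟙 (Spec (CommRingCat.of ℂ)) →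
      IrreducibleSpace (PicF.XT (i ≫ (CohB1.ProjSpaceOver n S ↘ S)) (Over.mk t)) ∧ topologicalKrullDim (PicF.XT (i ≫ (CohB1.ProjSpaceOver n S ↘ S)) (Over.mk t)) = (d : WithBot ℕ∞))
    (E F : X.Modules) (hE : Coh.IsCoh E) (hF : Coh.IsCoh F)
    (hEfl : FlatMod.IsFlatOver (i ≫ (CohB1.ProjSpaceOver n S ↘ S)) E) (hFfl : FlatMod.IsFlatOver (i ≫ (CohB1.ProjSpaceOver n S ↘ S)) F)
    (hss : ∀ (t : Spec (CommRingCat.of ℂ) ⟶ S), t ≫ sS = 𝟙 (Spec (CommRingCat.of ℂ)) →
      @ShStab.IsSemistable ℂ _ (PicF.XT (i ≫ (CohB1.ProjSpaceOver n S ↘ S)) (Over.mk t)) ⟨PicF.XTproj (i ≫ (CohB1.ProjSpaceOver n S ↘ S)) (Over.mk t)⟩ ((Scheme.Modules.pullback (pullback.fst (i ≫ (CohB1.ProjSpaceOver n S ↘ S)) (Over.mk t).hom ≫ i)).obj (Twist.twistOver n S 1)) ((Scheme.Modules.pullback (pullback.fst (i ≫ (CohB1.ProjSpaceOver n S ↘ S)) (Over.mk t).hom)).obj E) d ∧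
      @ShStab.IsSemistable ℂ _ (PicF.XT (i ≫ (CohB1.ProjSpaceOver n S ↘ S)) (Over.mk t)) ⟨PicF.XTproj (i ≫ (CohB1.ProjSpaceOver n S ↘ S)) (Over.mk t)⟩ ((Scheme.Modules.pullback (pullback.fst (i ≫ (CohB1.ProjSpaceOver n S ↘ S)) (Over.mk t).hom ≫ i)).obj (Twist.twistOver n S 1)) ((Scheme.Modules.pullback (pullback.fst (i ≫ (CohB1.ProjSpaceOver n S ↘ S)) (Over.mk t).hom)).obj F) d ∧
      ∀ pE pF : Polynomial ℚ, @ShStab.IsHilbPoly ℂ _ (PicF.XT (i ≫ (CohB1.ProjSpaceOver n S ↘ S)) (Over.mk t)) ⟨PicF.XTproj (i ≫ (CohB1.ProjSpaceOver n S ↘ S)) (Over.mk t)⟩ ((Scheme.Modules.pullback (pullback.fst (i ≫ (CohB1.ProjSpaceOver n S ↘ S)) (Over.mk t).hom ≫ i)).obj (Twist.twistOver n S 1)) ((Scheme.Modules.pullback (pullback.fst (i ≫ (CohB1.ProjSpaceOver n S ↘ S)) (Over.mk t).hom)).obj E) pE →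
        @ShStab.IsHilbPoly ℂ _ (PicF.XT (i ≫ (CohB1.ProjSpaceOver n S ↘ S)) (Over.mk t)) ⟨PicF.XTproj (i ≫ (CohB1.ProjSpaceOver n S ↘ S)) (Over.mk t)⟩ ((Scheme.Modules.pullback (pullback.fst (i ≫ (CohB1.ProjSpaceOver n S ↘ S)) (Over.mk t).hom ≫ i)).obj (Twist.twistOver n S 1)) ((Scheme.Modules.pullback (pullback.fst (i ≫ (CohB1.ProjSpaceOver n S ↘ S)) (Over.mk t).hom)).obj F) pF → StabCat.RedEq d pE pF)
    (hLF : ∀ (t : Spec (CommRingCat.of ℂ) ⟶ S), t ≫ sS = 𝟙 (Spec (CommRingCat.of ℂ)) →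
      (∃ sE : LTSeries (Subobject ((Scheme.Modules.pullback (pullback.fst (i ≫ (CohB1.ProjSpaceOver n S ↘ S)) (Over.mk t).hom)).obj E)), @ShStab.IsJHFiltration ℂ _ (PicF.XT (i ≫ (CohB1.ProjSpaceOver n S ↘ S)) (Over.mk t)) ⟨PicF.XTproj (i ≫ (CohB1.ProjSpaceOver n S ↘ S)) (Over.mk t)⟩ ((Scheme.Modules.pullback (pullback.fst (i ≫ (CohB1.ProjSpaceOver n S ↘ S)) (Over.mk t).hom ≫ i)).obj (Twist.twistOver n S 1)) ((Scheme.Modules.pullback (pullback.fst (i ≫ (CohB1.ProjSpaceOver n S ↘ S)) (Over.mk t).hom)).obj E) d sE ∧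
          ∀ x ∈ Set.range (PicF.secT (i ≫ (CohB1.ProjSpaceOver n S ↘ S)) ξ hξ (Over.mk t)).base, ∃ U : (PicF.XT (i ≫ (CohB1.ProjSpaceOver n S ↘ S)) (Over.mk t)).Opens, x ∈ U ∧ FlatMod.IsFinLocFree ((StabCat.grObj sE).restrict U.ι)) ∧
      (∃ sF : LTSeries (Subobject ((Scheme.Modules.pullback (pullback.fst (i ≫ (CohB1.ProjSpaceOver n S ↘ S)) (Over.mk t).hom)).obj F)), @ShStab.IsJHFiltration ℂ _ (PicF.XT (i ≫ (CohB1.ProjSpaceOver n S ↘ S)) (Over.mk t)) ⟨PicF.XTproj (i ≫ (CohB1.ProjSpaceOver n S ↘ S)) (Over.mk t)⟩ ((Scheme.Modules.pullback (pullback.fst (i ≫ (CohB1.ProjSpaceOver n S ↘ S)) (Over.mk t).hom ≫ i)).obj (Twist.twistOver n S 1)) ((Scheme.Modules.pullback (pullback.fst (i ≫ (CohB1.ProjSpaceOver n S ↘ S)) (Over.mk t).hom)).obj F) d sF ∧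
          ∀ x ∈ Set.range (PicF.secT (i ≫ (CohB1.ProjSpaceOver n S ↘ S)) ξ hξ (Over.mk t)).base, ∃ U : (PicF.XT (i ≫ (CohB1.ProjSpaceOver n S ↘ S)) (Over.mk t)).Opens, x ∈ U ∧ FlatMod.IsFinLocFree ((StabCat.grObj sF).restrict U.ι)))
    (φ : E ⟶ F) (hφ : (Scheme.Modules.pullback ξ).map φ = 0) : φ = 0 := by
  set f := i ≫ (CohB1.ProjSpaceOver n S ↘ S) with hfdef
  haveI hP : IsProper (CohB1.ProjSpaceOver n S ↘ S) := RelVALib.isProper_toBase n S
  haveI hfp : IsProper f := inferInstanceAs (IsProper (i ≫ _))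
  haveI : IsLocallyNoetherian S := LocallyOfFiniteType.isLocallyNoetherian sS
  haveI : IsLocallyNoetherian X := LocallyOfFiniteType.isLocallyNoetherian f
  haveI : CompactSpace S := QuasiCompact.compactSpace_of_compactSpace sS
  haveI : CompactSpace X := QuasiCompact.compactSpace_of_compactSpace f
  haveI : AlgebraicGeometry.IsNoetherian X := ⟨⟩
  haveI := hE.1
  haveI := hF.1
  refine SphLib.hom_eq_zero_of_closed φ fun x hx => ?_
  obtain ⟨V, hV, c, s', hcs, hMm, hs'k, hs's, hct⟩ := exists_chart_point S sS (f x) (by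
    have := f.isClosedMap _ hx
    rwa [Set.image_singleton] at this)
  let t := Spec.map (CommRingCat.ofHom c) ≫ hV.fromSpec
  let T₀ : Over S := Over.mk t
  let TA : Over S := Over.mk hV.fromSpec
  let g : T₀ ⟶ TA := Over.homMk (Spec.map (CommRingCat.ofHom c)) rfl
  let XA := PicF.XT f TA
  let j : XA ⟶ X := pullback.fst f TA.hom
  let p : XA ⟶ Spec Γ(S, V) := PicF.XTproj f TA
  let u : PicF.XT f T₀ ⟶ XA := PicF.XTmap f g
  have hu : IsPullback u (PicF.XTproj f T₀) p (Spec.map (CommRingCat.ofHom c)) :=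
    FlatMor12.HilbOpen.isPullback_XTmap f g
  haveI hcc : IsClosedImmersion (Spec.map (CommRingCat.ofHom c)) := IsClosedImmersion.spec_of_surjective _ hcs
  haveI : IsClosedImmersion u := MorphismProperty.of_isPullback (P := @IsClosedImmersion) hu.flip hcc
  haveI : IsOpenImmersion TA.hom := inferInstanceAs (IsOpenImmersion hV.fromSpec)
  haveI : IsOpenImmersion j := inferInstanceAs (IsOpenImmersion (pullback.fst f TA.hom))
  haveI : IsProper p := inferInstanceAs (IsProper (pullback.snd f TA.hom))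
  let ξA : Spec Γ(S, V) ⟶ XA := PicF.secT f ξ hξ TA
  have hξA : ξA ≫ p = 𝟙 _ := pullback.lift_snd _ _ _
  haveI : IsClosedImmersion (ξA ≫ p) := hξA ▸ inferInstance
  haveI : IsClosedImmersion ξA := IsClosedImmersion.of_comp ξA p
  let ξ₀ : Spec (CommRingCat.of ℂ) ⟶ PicF.XT f T₀ := PicF.secT f ξ hξ T₀
  have hξ₀ : ξ₀ ≫ u = Spec.map (CommRingCat.ofHom c) ≫ ξA := by
    apply pullback.hom_ext <;> simp [ξ₀, u, ξA, g, T₀, TA, t, PicF.secT, PicF.XTmap]
    all_goals erw [Category.id_comp]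
  let P := Scheme.Modules.pullback j
  have hflA : FlatMod.IsFlatOver p (P.obj F) := fun z =>
    (DQCoh.isFlatOverAt_comp_iff p hV.fromSpec _ z).1 (by
      have h := BCFlat16.flatOver_pullback_open j f F hFfl z
      rwa [show j ≫ f = p ≫ hV.fromSpec from pullback.condition] at h)
  obtain ⟨sF, hsF, hgrF⟩ := (hLF t hct).2
  obtain ⟨sE, hsE, hgrE⟩ := (hLF t hct).1
  have hFx : Module.Free (XA.presheaf.stalk (ξA s')) ((P.obj F).presheaf.stalk (ξA s')) := by
    refine FlatMor12.FreeLocusBC.free_stalk_pullback j F (ξA s') ?_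
    obtain ⟨x₀⟩ : Nonempty ↥(Spec (CommRingCat.of ℂ)) := inferInstance
    have hxx : j (ξA s') = (t ≫ ξ) x₀ := by
      rw [← Scheme.Hom.comp_apply, show ξA ≫ j = hV.fromSpec ≫ ξ from pullback.lift_fst _ _ _,
        Scheme.Hom.comp_apply, Scheme.Hom.comp_apply, Scheme.Hom.comp_apply]
      congr 2
      refine PrimeSpectrum.ext (hs'k.trans (hMm.eq_of_le (Spec.map (CommRingCat.ofHom c) x₀).isPrime.ne_top ?_))
      exact Ideal.comap_mono bot_le
    rw [hxx]
    exact (EulerLib.JHLocFree.FS.iff_locFree hF ((t ≫ ξ) x₀)).2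
      (S15270.result S sS n X i d ξ hξ F hF hFfl (fun t ht => (hss t ht).2.1) (fun t ht => (hLF t ht).2) t hct _ ⟨x₀, rfl⟩)
  -- the closed fibre
  let σ := pullback.fst f T₀.hom
  have hσ : u ≫ j = σ := by simp [u, j, σ, PicF.XTmap]
  letI : (PicF.XT f T₀).Over (Spec (CommRingCat.of ℂ)) := ⟨PicF.XTproj f T₀⟩
  haveI : IsProper (PicF.XT f T₀ ↘ Spec (CommRingCat.of ℂ)) := inferInstanceAs (IsProper (pullback.snd f T₀.hom))
  haveI := (hfib t hct).1
  have hamp : CohB1.IsAmple ((Scheme.Modules.pullback (σ ≫ i)).obj (Twist.twistOver n S 1)) := by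
    haveI : IsClosedImmersion (t ≫ sS) := hct.symm ▸ inferInstance
    haveI : IsClosedImmersion t := IsClosedImmersion.of_comp t sS
    haveI : IsClosedImmersion σ := MorphismProperty.pullback_fst _ _ ‹_›
    haveI : CompactSpace ↥(PicF.XT f T₀) :=
      QuasiCompact.compactSpace_of_compactSpace (PicF.XT f T₀ ↘ Spec (CommRingCat.of ℂ))
    refine AmpleLib.isAmple_of_iso ((Scheme.Modules.pullbackComp σ i).app _) ?_
    refine AmpleLib.isAmple_pullback_of_range_subset σ σ.isClosedEmbedding.isEmbedding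
      ((i ≫ CohB1.ProjSpaceOver.toBase n S) ⁻¹ᵁ V) ?_ (H8Coh.isAmple_restrict_twist i hV)
    rintro _ ⟨z, rfl⟩
    show f (σ z) ∈ V
    have hz : f (σ z) = T₀.hom (PicF.XTproj f T₀ z) := by
      rw [← Scheme.Hom.comp_apply, ← Scheme.Hom.comp_apply, pullback.condition]
    rw [hz]
    exact (hV.range_fromSpec.le ⟨_, rfl⟩ : hV.fromSpec (Spec.map (CommRingCat.ofHom c) _) ∈ (V : Set S))
  have hfibre : ∀ ψ : (Scheme.Modules.pullback u).obj (P.obj E) ⟶ (Scheme.Modules.pullback u).obj (P.obj F),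
      (Scheme.Modules.pullback ξ₀).map ψ = 0 → ψ = 0 := by
    intro ψ hψ
    let e : ∀ G : X.Modules, (Scheme.Modules.pullback u).obj (P.obj G) ≅ (Scheme.Modules.pullback σ).obj G :=
      fun G => (Scheme.Modules.pullbackComp u j).app G ≪≫ (Scheme.Modules.pullbackCongr hσ).app G
    obtain ⟨hsE', hsF', hred⟩ := hss t hct
    have hpE := EulerLib.isHilbPoly_hp ℂ hamp _ hsE'.1
    have hpF := EulerLib.isHilbPoly_hp ℂ hamp _ hsF'.1
    have h0 : (e E).inv ≫ ψ ≫ (e F).hom = 0 :=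
      S15267.result (PicF.XT f T₀) d (hfib t hct).2 _ hamp _ _ hsE' hsF' _ _ hpE hpF (hred _ _ hpE hpF) ξ₀
        (pullback.lift_snd _ _ _) sE hsE hgrE sF hsF hgrF _ (by rw [Functor.map_comp, Functor.map_comp, hψ, zero_comp, comp_zero])
    rwa [Preadditive.IsIso.comp_left_eq_zero, Preadditive.IsIso.comp_right_eq_zero] at h0
  have hφA : (Scheme.Modules.pullback ξA).map (P.map φ) = 0 := by
    have e : P ⋙ Scheme.Modules.pullback ξA ≅ Scheme.Modules.pullback ξ ⋙ Scheme.Modules.pullback TA.hom :=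
      Scheme.Modules.pullbackComp ξA j ≪≫ Scheme.Modules.pullbackCongr (pullback.lift_fst _ _ _) ≪≫
        (Scheme.Modules.pullbackComp TA.hom ξ).symm
    have hn := e.hom.naturality φ
    rw [Functor.comp_map, Functor.comp_map, hφ, Functor.map_zero, comp_zero] at hn
    rwa [Preadditive.IsIso.comp_right_eq_zero] at hn
  obtain ⟨z, rfl⟩ : x ∈ Set.range j := by
    rw [show Set.range j = f ⁻¹' Set.range TA.hom from Scheme.Pullback.range_fst f TA.hom]
    exact ⟨s', hs's⟩
  have hpz : (p z).asIdeal = RingHom.ker c := by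
    have h1 : hV.fromSpec (p z) = f (j z) := by
      rw [← Scheme.Hom.comp_apply, ← Scheme.Hom.comp_apply, show j ≫ f = p ≫ hV.fromSpec from pullback.condition]
    rw [hV.fromSpec.isOpenEmbedding.injective (h1.trans hs's.symm), hs'k]
  haveI : IsLocallyNoetherian XA := LocallyOfFiniteType.isLocallyNoetherian j
  haveI := EGA43.InjFibre.isQCoh_pullback j F
  haveI : IsNoetherianRing Γ(S, V) := IsLocallyNoetherian.component_noetherian ⟨V, hV⟩
  have hFA : Coh.IsCoh (P.obj F) := CycLib28.InterSheaf.isCoh_pullback j hF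
  haveI : Module.Finite (XA.presheaf.stalk z) (St (P.obj F) z) := FlatMor12.IsoLocusMod.finite_stalk hFA.2 z
  haveI := hMm
  refine ModuleCat.hom_ext (LinearMap.ext fun e => ?_)
  exact stk_eq_zero_of_open j φ z (fun e' => EulerLib.ThickenVanish.stk_eq_zero p (RingHom.ker c) hcs rfl hu s' hs'k
    ξA hξA ξ₀ hξ₀ (P.map φ) hflA hFx hfibre hφA z hpz e') e

end Groth.Agent.S15268
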