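import Groth.Statements.S1527
import Groth.Agent.CommAlg4.SupportZero
-- import your own Groth.Agent.* helpers here

set_option autoImplicit false
universe u
open CategoryTheory CategoryTheory.Limits AlgebraicGeometry
open Variety

namespace Groth.Agent.S1527

/-- On a proper scheme over a field, a coherent module whose support has dimension at most zero is
globally generated (a quotient of a free module). -/
theorem result (k : Type u) [Field k] (X : Scheme.{u}) [X.Over (Spec (CommRingCat.of k))] [IsProper (X ↘ (Spec (CommRingCat.of k)))]
    (F : X.Modules) (hF : Coh.IsCoh F) (hsupp : topologicalKrullDim (CohB1.support F) ≤ 0) :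
    Curv2.IsGloballyGenerated F := by
  have : AlgebraicGeometry.IsNoetherian X := Groth.Agent.CommAlg4.isNoetherian_of_over k X
  have hgen := Groth.Agent.Coherent.locallyFinGen_of_isFT F hF.2
  obtain ⟨hfin, hc⟩ := Groth.Agent.CommAlg4.finite_and_isClosed_singleton_of_dim_le_zero
    (Groth.Agent.Coherent.isClosed_support F hgen) hsupp
  exact Groth.Agent.CommAlg4.isGloballyGenerated_of_support_finite F hgen _ hfin hc subset_rfl

end Groth.Agent.S1527
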