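import Groth.Statements.S15272
import Groth.Agent.EulerLib.StabBasic
-- import your own Groth.Agent.* helpers here

set_option autoImplicit false
set_option linter.style.haveILetI false
open CategoryTheory CategoryTheory.Limits AlgebraicGeometry
open Coherent

namespace Groth.Agent.S15272

open Groth.Agent.Coherent Groth.Agent.EulerLib Polynomial StabCat

section
universe v
variable (k : Type v) [Field k] {X : Scheme.{v}} [X.Over (Spec (CommRingCat.of k))]
  [IsProper (X ↘ Spec (CommRingCat.of k))] {L : X.Modules} (hL : CohB1.IsAmple L) {d : ℕ}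
  {E F : X.Modules} (hE : ShStab.IsSemistable k X L E d) (hF : ShStab.IsSemistable k X L F d)
  {pE pF : ℚ[X]} (hpE : ShStab.IsHilbPoly k X L E pE) (hpF : ShStab.IsHilbPoly k X L F pF)
  (hred : RedEq d pE pF) (f : E ⟶ F)

include hL hE hF hpE hpF hred

theorem image_eq : RedEq d (hp k hL _ (haveI := isNoetherian_of_proper (X := X) k; EulerLib.isCoh_image f hE.1 hF.1)) pE := by
  haveI := isNoetherian_of_proper (X := X) k
  have hI := EulerLib.isCoh_image f hE.1 hF.1
  by_cases hf : f = 0
  · rw [hilb_zero k hL (IsZero.of_mono_eq_zero (Abelian.image.ι f)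
      (by rw [← cancel_epi (Abelian.factorThruImage f), Abelian.image.fac, hf, Limits.comp_zero]))
      (isHilbPoly_hp k hL _ hI)]
    simp [RedEq, alpha]
  · obtain ⟨h1, h2, hP, hR, hQ⟩ := redLE_image k hL hE hF hf hpE hpF (isHilbPoly_hp k hL _ hI)
    exact redLE_antisymm (redLE_trans hR hQ hP h2 (redLE_of_eq (redEq_symm hred))) h1

theorem kernel_ss : IsZero (kernel f) ∨ (ShStab.IsSemistable k X L (kernel f) d ∧
    ∀ pK : ℚ[X], ShStab.IsHilbPoly k X L (kernel f) pK → RedEq d pK pE) := by
  haveI := isNoetherian_of_proper (X := X) k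
  refine or_iff_not_imp_left.2 fun h0 => ?_
  have hI := EulerLib.isCoh_image f hE.1 hF.1
  have hK : Coh.IsCoh (kernel f) := isCoh_kernel f hE.1 hF.1.1
  have hK' := isCoh_kernel (Abelian.factorThruImage f) hE.1 hI.1
  have hpos := alpha_pos_self k hL hE.1 hE.2.1 hE.2.2.1 hpE
  have key : ∀ pK : ℚ[X], ShStab.IsHilbPoly k X L (kernel f) pK → RedEq d pK pE := fun pK hpK => by
    have e : kernel f ≅ kernel (Abelian.factorThruImage f) :=
      kernelIsoOfEq (Abelian.image.fac _).symm ≪≫ kernelCompMono _ (Abelian.image.ι f)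
    have hsum := hilb_ses k hL (shortExact_kernel (Abelian.factorThruImage f)) hK' hE.1 hI
      (isHilbPoly_iso k e hpK) hpE (isHilbPoly_hp k hL _ hI)
    have hi : alpha d pE • hp k hL _ hI = alpha d (hp k hL _ hI) • pE := image_eq k hL hE hF hpE hpF hred f
    show alpha d pE • pK = alpha d pK • pE
    rw [show pK = pE - hp k hL _ hI by rw [hsum, add_sub_cancel_right], smul_sub, hi]
    simp [alpha, mul_sub, sub_smul]
  refine ⟨⟨hK, h0, isPure_of_mono hE.2.2.1 (kernel.ι f), fun G κ hκ hG hG0 hni pG pK hpG hpK => ?_⟩, key⟩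
  haveI := hκ
  have hposK := alpha_pos_of_sub k hL hE.2.2.1 (kernel.ι f) hK h0 hpK
  have hposG := alpha_pos_of_sub k hL hE.2.2.1 (κ ≫ kernel.ι f) hG hG0 hpG
  have hle : RedLE d pG pE := by
    refine hE.2.2.2 G (κ ≫ kernel.ι f) inferInstance hG hG0 (fun h => hni ?_) _ _ hpG hpE
    haveI : IsSplitEpi (kernel.ι f) := IsSplitEpi.mk' ⟨inv (κ ≫ kernel.ι f) ≫ κ, by rw [Category.assoc, IsIso.inv_hom_id]⟩
    haveI : IsIso (kernel.ι f) := isIso_of_mono_of_epi _
    exact IsIso.of_isIso_comp_right κ (kernel.ι f)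
  exact redLE_trans hposG hpos hposK hle (redLE_of_eq (redEq_symm (key pK hpK)))

theorem cokernel_ss : IsZero (cokernel f) ∨ (ShStab.IsSemistable k X L (cokernel f) d ∧
    ∀ pQ : ℚ[X], ShStab.IsHilbPoly k X L (cokernel f) pQ → RedEq d pQ pE) := by
  haveI := isNoetherian_of_proper (X := X) k
  refine or_iff_not_imp_left.2 fun h0 => ?_
  have hI := EulerLib.isCoh_image f hE.1 hF.1
  have hQ : Coh.IsCoh (cokernel f) := isCoh_cokernel f hE.1.1 hF.1
  have hposE := alpha_pos_self k hL hE.1 hE.2.1 hE.2.2.1 hpE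
  have hposF := alpha_pos_self k hL hF.1 hF.2.1 hF.2.2.1 hpF
  have hi : alpha d pE • hp k hL _ hI = alpha d (hp k hL _ hI) • pE := image_eq k hL hE hF hpE hpF hred f
  have hdim : topologicalKrullDim (CohB1.support (cokernel f)) ≤ d :=
    (dim_mono (support_subset_of_epi (cokernel.π f))).trans (dim_le_of_pure k hF.1 hF.2.2.1)
  have key : ∀ pQ : ℚ[X], ShStab.IsHilbPoly k X L (cokernel f) pQ → RedEq d pQ pE := fun pQ hpQ => by
    have hsum := hilb_ses k hL (shortExact_kernel (cokernel.π f)) hI hF.1 hQ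
      (isHilbPoly_hp k hL _ hI) hpF hpQ
    have h : alpha d pE • pF = alpha d pF • pE := hred.symm
    show alpha d pE • pQ = alpha d pQ • pE
    rw [show pQ = pF - hp k hL _ hI by rw [hsum, add_sub_cancel_left], smul_sub, h, hi]
    simp [alpha, mul_sub, sub_smul]
  have sub : ∀ (G : X.Modules) (κ : G ⟶ cokernel f), Mono κ → Coh.IsCoh G → ¬ IsZero G →
      ∀ pG, ShStab.IsHilbPoly k X L G pG → 0 < alpha d pG ∧ RedLE d pG pE := by
    intro G κ hκ hG hG0 pG hpG
    haveI := hκ
    have hC := isCoh_cokernel κ hG.1 hQ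
    let g := cokernel.π f ≫ cokernel.π κ
    have hH : Coh.IsCoh (kernel g) := isCoh_kernel g hF.1 hC.1
    have hpH := isHilbPoly_hp k hL _ hH
    have h1 := hilb_ses k hL (shortExact_kernel g) hH hF.1 hC hpH hpF (isHilbPoly_hp k hL _ hC)
    have h2 := hilb_ses k hL (shortExact_cokernel κ) hG hQ hC hpG (isHilbPoly_hp k hL _ hQ) (isHilbPoly_hp k hL _ hC)
    have h3 := hilb_ses k hL (shortExact_kernel (cokernel.π f)) hI hF.1 hQ
      (isHilbPoly_hp k hL _ hI) hpF (isHilbPoly_hp k hL _ hQ)
    have eH : hp k hL _ hH = hp k hL _ hI + pG := by linear_combination h3 + h2 - h1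
    have hG' := polyLE_zero k hL hG hpG
    have hGne : pG ≠ 0 := fun h => hG0 ((hilb_eq_zero_iff k hL hG hpG).1 h)
    have hle : RedLE d (hp k hL _ hH) pF := by
      by_cases hiso : IsIso (kernel.ι g)
      · rw [isHilbPoly_unique k (isHilbPoly_iso k (asIso (kernel.ι g)) hpH) hpF]
        exact redLE_refl _
      · refine hF.2.2.2 _ (kernel.ι g) inferInstance hH (fun hz => hGne ?_) hiso _ _ hpH hpF
        rw [hilb_zero k hL hz hpH] at eH
        refine polyLE_antisymm ?_ hG'
        have h4 := (polyLE_add_right (R := pG)).2 (polyLE_zero k hL hI (isHilbPoly_hp k hL _ hI))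
        rwa [zero_add, ← eH] at h4
    have hle2 : PolyLE (alpha d pE • hp k hL _ hH) (alpha d (hp k hL _ hH) • pE) := by
      rw [← polyLE_smul hposF, smul_comm (alpha d pF) (alpha d pE), smul_comm (alpha d pF) (alpha d _),
        show alpha d pF • pE = alpha d pE • pF from hred, smul_comm (alpha d (hp k hL _ hH)), polyLE_smul hposE]
      exact hle
    have hle3 : RedLE d pG pE := by
      refine (polyLE_add_right (R := alpha d pE • hp k hL _ hI)).1 ?_
      rw [eH, alpha_add, add_smul, smul_add, ← hi, add_comm, add_comm (alpha d pE • hp k hL _ hI)] at hle2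
      convert hle2 using 1
    refine ⟨(alpha_nonneg k hL hG hpG ((dim_mono (support_subset_of_mono κ)).trans hdim)).lt_or_eq.resolve_right
      fun h => hGne ?_, hle3⟩
    have h5 : PolyLE (alpha d pE • pG) (alpha d pE • 0) := by
      have := hle3
      unfold RedLE at this
      rwa [← h, zero_smul, ← smul_zero (alpha d pE)] at this
    exact polyLE_antisymm ((polyLE_smul hposE).1 h5) hG'
  refine ⟨⟨hQ, h0, fun G κ hκ hG hG0 => ?_, fun G κ hκ hG hG0 _ pG pQ hpG hpQ => ?_⟩, key⟩
  · haveI := hκ
    refine ((dim_mono (support_subset_of_mono κ)).trans hdim).lt_or_eq.resolve_left fun hlt => ?_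
    obtain ⟨hpos, -⟩ := sub G κ hκ hG hG0 _ (isHilbPoly_hp k hL G hG)
    rw [alpha_eq_zero_of_dim_lt k hL.1 hG (isHilbPoly_hp k hL G hG) hlt] at hpos
    exact lt_irrefl _ hpos
  · haveI := hκ
    obtain ⟨hpos, hle⟩ := sub G κ hκ hG hG0 pG hpG
    obtain ⟨hposQ, -⟩ := sub (cokernel f) (𝟙 _) inferInstance hQ h0 pQ hpQ
    exact redLE_trans hpos hposE hposQ hle (redLE_of_eq (redEq_symm (key pQ hpQ)))

end

/-- Over the complex numbers, let X be a proper scheme with an ample invertible sheaf L, and let E and F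
be coherent sheaves on X which are semistable of dimension d with respect to L (nonzero, pure of
dimension d, and the reduced Hilbert polynomial of every nonzero proper coherent subsheaf is at most
that of the sheaf for large arguments), with the same reduced Hilbert polynomial (r(F)·p_E =
r(E)·p_F for Hilbert polynomials p_E of E and p_F of F with respect to L, r denoting d! times the
degree-d coefficient). Then for every morphism f from E to F: the kernel of f is either zero or
semistable of dimension d with every Hilbert polynomial p_K of it satisfying r(E)·p_K = r(K)·p_E;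
and the cokernel of f is either zero or semistable of dimension d with every Hilbert polynomial p_Q
of it satisfying r(E)·p_Q = r(Q)·p_E. In other words the semistable sheaves of dimension d with a
fixed reduced Hilbert polynomial form an abelian subcategory. (The published statement is for
modules over a sheaf of rings of differential operators; this row is the case of the structure
sheaf.) -/
theorem result
    (X : Scheme.{0}) [X.Over (Spec (CommRingCat.of ℂ))] [IsProper (X ↘ Spec (CommRingCat.of ℂ))]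
    (L : X.Modules) (hL : CohB1.IsAmple L) (d : ℕ)
    (E F : X.Modules) (hE : ShStab.IsSemistable ℂ X L E d) (hF : ShStab.IsSemistable ℂ X L F d)
    (pE pF : Polynomial ℚ) (hpE : ShStab.IsHilbPoly ℂ X L E pE) (hpF : ShStab.IsHilbPoly ℂ X L F pF)
    (hred : StabCat.RedEq d pE pF) (f : E ⟶ F) :
    (IsZero (kernel f) ∨ (ShStab.IsSemistable ℂ X L (kernel f) d ∧
        ∀ pK : Polynomial ℚ, ShStab.IsHilbPoly ℂ X L (kernel f) pK → StabCat.RedEq d pK pE)) ∧
    (IsZero (cokernel f) ∨ (ShStab.IsSemistable ℂ X L (cokernel f) d ∧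
        ∀ pQ : Polynomial ℚ, ShStab.IsHilbPoly ℂ X L (cokernel f) pQ → StabCat.RedEq d pQ pE)) := by
  exact ⟨kernel_ss ℂ hL hE hF hpE hpF hred f, cokernel_ss ℂ hL hE hF hpE hpF hred f⟩

end Groth.Agent.S15272
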