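import Groth.Statements.S1528
import Groth.Agent.EulerLib.InvClass

set_option autoImplicit false
universe u
open CategoryTheory CategoryTheory.Limits AlgebraicGeometry
open Variety

namespace Groth.Agent.S1528

/-- For a coherent module F on a proper scheme over a field and invertible modules L_1, …, L_r, the
function sending exponents (n_1, …, n_r) to χ(X, F ⊗ L_1^{n_1} ⊗ ⋯ ⊗ L_r^{n_r}) is given by a
polynomial with rational coefficients whose total degree is bounded by dim Supp F. Stated for
nonnegative exponents (the source allows all integers; applying this form to the family enlarged by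
inverse modules recovers that). -/
theorem result (k : Type u) [Field k] (X : Scheme.{u}) [X.Over (Spec (CommRingCat.of k))] [IsProper (X ↘ (Spec (CommRingCat.of k)))]
    (F : X.Modules) (hF : Coh.IsCoh F) (d : ℕ) (hsupp : topologicalKrullDim (CohB1.support F) ≤ d)
    (r : ℕ) (L : Fin r → X.Modules) (hL : ∀ i, PicF.IsInvertible (L i)) :
    ∃ P : MvPolynomial (Fin r) ℚ, P.totalDegree ≤ d ∧
      ∀ n : Fin r → ℕ, (Curv2.euler k X (Curv2.tensorPows F r L n) : ℚ) = MvPolynomial.eval (fun i => (n i : ℚ)) P := by
  open Groth.Agent.EulerLib in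
  obtain ⟨P, hP, hP'⟩ := snapper k hF hsupp (fun i => InvCl.mk (L i) (hL i))
  refine ⟨P, hP, fun n => ?_⟩
  obtain ⟨N, hN, hc, ⟨e⟩⟩ := Groth.Agent.EulerLib.exists_tensorPows_rep F r L hL n
  rw [← hP', ← hc, Groth.Agent.EulerLib.chiCl_mk, Groth.Agent.EulerLib.euler_congr k X e]

end Groth.Agent.S1528
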