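import Groth.Statements.S15283
import Groth.Agent.CommAlg4.ValEtaleGlue
-- import your own Groth.Agent.* helpers here

set_option autoImplicit false
universe u
open CAlg

namespace Groth.Agent.S15283

/-- Let L/K be a finite extension of valued fields, v_L extending v_K up to equivalence, such that the
valuation rings K° and L° both have finitely many prime ideals, and let P be a prime ideal of L°
lying over the prime p of K°. Then v_K is composed from the valuation of K with ring the
localization (K°)_p and the valuation of the residue field of (K°)_p with ring K°/p, and similarly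
for v_L with (L°)_P and L°/P. If the induced homomorphisms (K°)_p → (L°)_P and K°/p → L°/P are both
étale, then K° → L° is étale. (For finite extensions of valued fields of finite height, being
unramified is the same as the map of valuation rings being étale, so this is the statement that an
extension composed from two unramified extensions is unramified.) -/
theorem result
    {K L Γ₀ Γ₁ : Type u} [Field K] [Field L] [Algebra K L] [FiniteDimensional K L]
    [LinearOrderedCommGroupWithZero Γ₀] [LinearOrderedCommGroupWithZero Γ₁]
    (vK : Valuation K Γ₀) (vL : Valuation L Γ₁) [vK.HasExtension vL]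
    [Finite (PrimeSpectrum vK.valuationSubring)] [Finite (PrimeSpectrum vL.valuationSubring)]
    (P : Ideal vL.valuationSubring) [P.IsPrime]
    (hA : (Localization.localRingHom (Ideal.comap (algebraMap vK.valuationSubring vL.valuationSubring) P) P
      (algebraMap vK.valuationSubring vL.valuationSubring) rfl).Etale)
    (hB : (Ideal.quotientMap P (algebraMap vK.valuationSubring vL.valuationSubring)
      (le_refl (Ideal.comap (algebraMap vK.valuationSubring vL.valuationSubring) P))).Etale) :
    Algebra.Etale vK.valuationSubring vL.valuationSubring := by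
  classical
  haveI : ValuationRing vK.valuationSubring := inferInstance
  refine Groth.Agent.CommAlg4.ValEtaleGlue.etale_of_localization_of_quotient vK.valuationSubring vL.valuationSubring
    ?_ ?_ P hA hB
  · intro a b h
    have := congrArg (fun x : vL.valuationSubring => (x : L)) h
    exact Subtype.ext ((algebraMap K L).injective this)
  · intro s hs
    have hs0 : (s : L) ≠ 0 := fun h => hs (Subtype.ext h)
    have hint : IsIntegral K (s : L) := Algebra.IsIntegral.isIntegral _
    set f : ℕ → L := fun i => algebraMap K L ((minpoly K (s : L)).coeff i) * (s : L) ^ i with hf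
    have hsum : ∑ i ∈ (minpoly K (s : L)).support, f i = 0 := by
      rw [← minpoly.aeval K (s : L), Polynomial.aeval_def, Polynomial.eval₂_eq_sum, Polynomial.sum_def]
    obtain ⟨i, hi, j, hj, hij, heq⟩ : ∃ i ∈ (minpoly K (s : L)).support, ∃ j ∈ (minpoly K (s : L)).support,
        i ≠ j ∧ vL (f i) = vL (f j) := by
      by_contra! h
      obtain ⟨j, hj, hmax⟩ := Finset.exists_max_image (minpoly K (s : L)).support (fun i => vL (f i))
        ⟨_, Polynomial.mem_support_iff.2 (minpoly.coeff_zero_ne_zero hint hs0)⟩
      have hfj : vL (f j) ≠ 0 := by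
        rw [vL.ne_zero_iff]
        exact mul_ne_zero ((map_ne_zero _).2 (Polynomial.mem_support_iff.1 hj)) (pow_ne_zero _ hs0)
      have := vL.map_sum_eq_of_lt hj (f := f) (fun i hi => by
        rw [Finset.mem_sdiff, Finset.mem_singleton] at hi
        exact lt_of_le_of_ne (hmax i hi.1) (h i hi.1 j hj hi.2))
      rw [hsum, map_zero] at this
      exact hfj this.symm
    wlog hlt : i < j generalizing i j
    · exact this j hj i hi hij.symm heq.symm (lt_of_le_of_ne (not_lt.1 hlt) hij.symm)
    set c : K := (minpoly K (s : L)).coeff i / (minpoly K (s : L)).coeff j with hc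
    have hai : algebraMap K L ((minpoly K (s : L)).coeff i) ≠ 0 := (map_ne_zero _).2 (Polynomial.mem_support_iff.1 hi)
    have haj : algebraMap K L ((minpoly K (s : L)).coeff j) ≠ 0 := (map_ne_zero _).2 (Polynomial.mem_support_iff.1 hj)
    have hval : vL ((s : L) ^ (j - i)) = vL (algebraMap K L c) := by
      have h1 : f j = algebraMap K L ((minpoly K (s : L)).coeff j) * (s : L) ^ (j - i) * (s : L) ^ i := by
        rw [hf, mul_assoc, ← pow_add, Nat.sub_add_cancel hlt.le]
      rw [h1, hf] at heq
      simp only [map_mul] at heq
      have h2 := mul_right_cancel₀ (vL.ne_zero_iff.2 (pow_ne_zero _ hs0)) heq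
      rw [hc, map_div₀, map_div₀, eq_div_iff (vL.ne_zero_iff.2 haj), mul_comm, h2]
    have hs1 : vL (s : L) ≤ 1 := s.2
    have hcmem : c ∈ vK.valuationSubring := by
      rw [Valuation.mem_valuationSubring_iff, ← Valuation.HasExtension.val_map_le_one_iff vK vL, ← hval, map_pow]
      exact pow_le_one₀ zero_le hs1
    have hc0 : algebraMap K L c ≠ 0 := by
      rw [hc, map_div₀]
      exact div_ne_zero hai haj
    let u : L := (s : L) ^ (j - i) / algebraMap K L c
    have hu : vL u = 1 := by
      rw [map_div₀, hval, div_self (vL.ne_zero_iff.2 hc0)]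
    have hum : u ∈ vL.valuationSubring := by
      rw [Valuation.mem_valuationSubring_iff, hu]
    have hum' : u⁻¹ ∈ vL.valuationSubring := by
      rw [Valuation.mem_valuationSubring_iff, map_inv₀, hu, inv_one]
    have hu0 : u ≠ 0 := div_ne_zero (pow_ne_zero _ hs0) hc0
    refine ⟨j - i, ⟨c, hcmem⟩, ⟨⟨u, hum⟩, ⟨u⁻¹, hum'⟩, Subtype.ext (mul_inv_cancel₀ hu0),
      Subtype.ext (inv_mul_cancel₀ hu0)⟩, Nat.sub_pos_of_lt hlt, Subtype.ext ?_⟩
    show (s : L) ^ (j - i) = u * algebraMap K L c
    rw [div_mul_cancel₀ _ hc0]

end Groth.Agent.S15283
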