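import Groth.Statements.S15285
import Mathlib
import Groth.Prelude

set_option linter.all false

set_option autoImplicit false
universe v v' u u'
open PicCat

open CategoryTheory MonoidalCategory

namespace Groth.Agent.S15285

open CategoryTheory MonoidalCategory in
/-- Let C and D be Picard categories (monoidal groupoids in which tensoring on either side with any
object is an equivalence of categories) and F : C ⥤ D a lax monoidal functor. If F induces a
bijection on isomorphism classes of objects (it is essentially surjective, and F X ≅ F Y only when X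
≅ Y) and a bijection on endomorphisms of the unit object, then F is an equivalence of categories. -/
theorem result
    {C : Type u} [Category.{v} C] [MonoidalCategory C] [IsGroupoid C]
    {D : Type u'} [Category.{v'} D] [MonoidalCategory D] [IsGroupoid D]
    (hC : ∀ X : C, (tensorLeft X).IsEquivalence ∧ (tensorRight X).IsEquivalence)
    (hD : ∀ X : D, (tensorLeft X).IsEquivalence ∧ (tensorRight X).IsEquivalence)
    (F : C ⥤ D) [F.LaxMonoidal] [F.EssSurj]
    (h0 : ∀ X Y : C, Nonempty (F.obj X ≅ F.obj Y) → Nonempty (X ≅ Y))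
    (h1 : Function.Bijective (fun φ : 𝟙_ C ⟶ 𝟙_ C => F.map φ)) :
    F.IsEquivalence := by
  have hend : ∀ X : C, Function.Bijective (fun ψ : 𝟙_ C ⊗ X ⟶ 𝟙_ C ⊗ X => F.map ψ) := by
    intro X
    haveI := (hC X).2
    haveI := (hD (F.obj X)).2
    have ba : Function.Bijective (fun φ : 𝟙_ C ⟶ 𝟙_ C => φ ▷ X) :=
      ⟨(tensorRight X).map_injective, (tensorRight X).map_surjective⟩
    have bb : Function.Bijective (fun φ : F.obj (𝟙_ C) ⟶ F.obj (𝟙_ C) => φ ▷ F.obj X) :=
      ⟨(tensorRight (F.obj X)).map_injective, (tensorRight (F.obj X)).map_surjective⟩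
    let μ := asIso (Functor.LaxMonoidal.μ F (𝟙_ C) X)
    have hcomp : (fun φ : 𝟙_ C ⟶ 𝟙_ C => F.map (φ ▷ X)) =
        (fun χ => μ.inv ≫ χ ≫ μ.hom) ∘ (fun φ : F.obj (𝟙_ C) ⟶ F.obj (𝟙_ C) => φ ▷ F.obj X) ∘ (fun φ : 𝟙_ C ⟶ 𝟙_ C => F.map φ) := by
      funext φ
      simp only [Function.comp_apply]
      have hnat : F.map φ ▷ F.obj X ≫ μ.hom = μ.hom ≫ F.map (φ ▷ X) := Functor.LaxMonoidal.μ_natural_left F φ X
      rw [hnat, Iso.inv_hom_id_assoc]
    have hbij : Function.Bijective (fun φ : 𝟙_ C ⟶ 𝟙_ C => F.map (φ ▷ X)) := by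
      rw [hcomp]
      refine Function.Bijective.comp ?_ (bb.comp h1)
      exact ⟨fun χ χ' h => by simpa using h, fun ψ => ⟨μ.hom ≫ ψ ≫ μ.inv, by simp⟩⟩
    refine ⟨fun ψ ψ' h => ?_, fun χ => ?_⟩
    · obtain ⟨φ, rfl⟩ := ba.2 ψ; obtain ⟨φ', rfl⟩ := ba.2 ψ'
      exact congrArg (fun φ : 𝟙_ C ⟶ 𝟙_ C => φ ▷ X) (hbij.1 h)
    · obtain ⟨φ, hφ⟩ := hbij.2 χ
      exact ⟨φ ▷ X, hφ⟩
  have hhom : ∀ X Y : C, Function.Bijective (fun ψ : X ⟶ Y => F.map ψ) := by
    intro X Y
    by_cases hne : Nonempty (X ≅ Y)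
    · obtain ⟨i⟩ := hne
      let l := λ_ X
      have he : (fun ψ : X ⟶ Y => F.map ψ) = (fun χ => F.map l.inv ≫ χ ≫ F.map (l.hom ≫ i.hom)) ∘ (fun ψ => F.map ψ) ∘ (fun ψ : X ⟶ Y => l.hom ≫ ψ ≫ i.inv ≫ l.inv) := by
        funext ψ
        simp only [Function.comp_apply, ← F.map_comp]
        congr 1
        simp
      rw [he]
      refine Function.Bijective.comp ?_ ((hend X).comp ?_)
      · refine ⟨fun χ χ' h => ?_, fun χ => ⟨F.map l.hom ≫ χ ≫ F.map (i.inv ≫ l.inv), by simp only [Category.assoc, ← F.map_comp, ← F.map_comp_assoc]; simp⟩⟩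
        simpa [cancel_epi, cancel_mono] using h
      · exact ⟨fun χ χ' h => by simpa using h, fun ψ => ⟨l.inv ≫ ψ ≫ l.hom ≫ i.hom, by simp⟩⟩
    · refine ⟨fun ψ => absurd ⟨asIso ψ⟩ hne, fun χ => absurd (h0 X Y ⟨asIso χ⟩) hne⟩
  haveI : F.Faithful := ⟨fun {X Y} => (hhom X Y).1⟩
  haveI : F.Full := ⟨fun {X Y} => (hhom X Y).2⟩
  exact {}

end Groth.Agent.S15285
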