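import Groth.Statements.S15286
import Groth.Agent.CommAlg4.UnitAction
-- import your own Groth.Agent.* helpers here

set_option autoImplicit false
universe v v' u u'
open PicCat

namespace Groth.Agent.S15286

open CategoryTheory MonoidalCategory in
/-- Let C be a Picard category, D a commutative (braided) Picard category, F, G : C ⥤ D lax monoidal
functors and θ₀ : F ⟶ G a monoidal natural transformation. Identify an endomorphism φ of the unit of
D with the automorphism λ⁻¹ ≫ (φ ▷ Z) ≫ λ of any object Z. Then the monoidal natural transformations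
F ⟶ G form a torsor under the monoid homomorphisms χ from the monoid of isomorphism classes of C to
End(𝟙_D): every monoidal θ : F ⟶ G is X ↦ θ₀_X ≫ (action of χ[X] on G X) for a unique such χ, and
for every χ this formula defines a monoidal natural transformation. (The published statement allows
D non-commutative; for a non-braided monoidal groupoid the classes so obtained are crossed rather
than plain homomorphisms, so D is taken braided here.) -/
theorem result
    {C : Type u} [Category.{v} C] [MonoidalCategory C] [IsGroupoid C]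
    {D : Type u'} [Category.{v'} D] [MonoidalCategory D] [BraidedCategory D] [IsGroupoid D]
    (hC : ∀ X : C, (tensorLeft X).IsEquivalence ∧ (tensorRight X).IsEquivalence)
    (hD : ∀ X : D, (tensorLeft X).IsEquivalence ∧ (tensorRight X).IsEquivalence)
    (F G : C ⥤ D) [F.LaxMonoidal] [G.LaxMonoidal] (θ₀ : F ⟶ G) [NatTrans.IsMonoidal θ₀] :
    (∀ θ : F ⟶ G, NatTrans.IsMonoidal θ →
      ∃! χ : Skeleton C →* End (𝟙_ D), ∀ X : C,
        θ.app X = θ₀.app X ≫ (λ_ (G.obj X)).inv ≫
          ((χ (toSkeleton X) : 𝟙_ D ⟶ 𝟙_ D) ▷ G.obj X) ≫ (λ_ (G.obj X)).hom) ∧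
    (∀ χ : Skeleton C →* End (𝟙_ D), ∃ θ : F ⟶ G, NatTrans.IsMonoidal θ ∧ ∀ X : C,
        θ.app X = θ₀.app X ≫ (λ_ (G.obj X)).inv ≫
          ((χ (toSkeleton X) : 𝟙_ D ⟶ 𝟙_ D) ▷ G.obj X) ≫ (λ_ (G.obj X)).hom) := by
  classical
  have hR : ∀ A : D, (tensorRight A).IsEquivalence := fun A => (hD A).2
  constructor
  · intro θ hθ
    haveI := hθ
    -- the unique scalar at each object
    have key : ∀ X : C, ∃! s : 𝟙_ D ⟶ 𝟙_ D, θ.app X = θ₀.app X ≫ Groth.Agent.CommAlg4.uact s (G.obj X) := by
      intro X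
      obtain ⟨s, hs⟩ := (Groth.Agent.CommAlg4.uact_bijective hR (G.obj X)).2 (inv (θ₀.app X) ≫ θ.app X)
      refine ⟨s, by simp only at hs; simp [hs], fun t ht => ?_⟩
      refine (Groth.Agent.CommAlg4.uact_bijective hR (G.obj X)).1 ?_
      simp only at hs ⊢
      rw [hs, ht, IsIso.inv_hom_id_assoc]
    choose σ hσ hσu using key
    have hiso : ∀ {X Y : C} (f : X ≅ Y), σ X = σ Y := by
      intro X Y f
      refine (hσu X (σ Y) ?_).symm
      beta_reduce
      rw [← cancel_mono (G.map f.hom), ← θ.naturality f.hom, hσ Y, ← Category.assoc (F.map f.hom),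
        θ₀.naturality, Category.assoc, Groth.Agent.CommAlg4.uact_natural, Category.assoc]
    have hone : σ (𝟙_ C) = 𝟙 _ := by
      refine (hσu (𝟙_ C) _ ?_).symm
      beta_reduce
      rw [Groth.Agent.CommAlg4.uact_id, Category.comp_id,
        ← cancel_epi (Functor.LaxMonoidal.ε F), NatTrans.IsMonoidal.unit, NatTrans.IsMonoidal.unit]
    have hmul : ∀ X Y : C, σ (X ⊗ Y) = σ X ≫ σ Y := by
      intro X Y
      refine (hσu (X ⊗ Y) _ ?_).symm
      beta_reduce
      rw [← cancel_epi (Functor.LaxMonoidal.μ F X Y), NatTrans.IsMonoidal.tensor,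
        NatTrans.IsMonoidal.tensor_assoc, hσ X, hσ Y, ← MonoidalCategory.tensorHom_comp_tensorHom,
        Category.assoc, Groth.Agent.CommAlg4.tensor_uact, Groth.Agent.CommAlg4.uact_natural]
    have hto : ∀ X : C, σ ((fromSkeleton C).obj (toSkeleton X)) = σ X := fun X =>
      hiso (fromSkeletonToSkeletonIso X)
    let χ : Skeleton C →* End (𝟙_ D) :=
      { toFun := fun x => σ ((fromSkeleton C).obj x)
        map_one' := (hiso (X := (fromSkeleton C).obj (1 : Skeleton C)) (Y := 𝟙_ C)
          (fromSkeletonToSkeletonIso (𝟙_ C))).trans hone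
        map_mul' := fun a b => by
          refine ((hiso (X := (fromSkeleton C).obj (a * b))
            (Y := (fromSkeleton C).obj a ⊗ (fromSkeleton C).obj b) (fromSkeletonToSkeletonIso _)).trans
              ((hmul _ _).trans ?_))
          exact (Groth.Agent.CommAlg4.unit_comm hR _ _) }
    refine ⟨χ, fun X => ?_, fun χ' hχ' => MonoidHom.ext fun x => ?_⟩
    · show θ.app X = θ₀.app X ≫ Groth.Agent.CommAlg4.uact (σ ((fromSkeleton C).obj (toSkeleton X))) _
      rw [hto X]; exact hσ X
    · refine hσu ((fromSkeleton C).obj x) _ ?_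
      have h := hχ' ((fromSkeleton C).obj x)
      have hx : toSkeleton ((fromSkeleton C).obj x) = x := toSkeleton_fromSkeleton_obj x
      rw [hx] at h
      exact h
  · intro χ
    let φ : ∀ X : C, 𝟙_ D ⟶ 𝟙_ D := fun X => χ (toSkeleton X)
    let θ : F ⟶ G :=
      { app := fun X => θ₀.app X ≫ Groth.Agent.CommAlg4.uact (φ X) (G.obj X)
        naturality := fun X Y f => by
          have hXY : toSkeleton X = toSkeleton Y :=
            congr_toSkeleton_of_iso (@asIso _ _ _ _ f (IsGroupoid.all_isIso f))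
          show F.map f ≫ θ₀.app Y ≫ _ = (θ₀.app X ≫ _) ≫ G.map f
          rw [← Category.assoc, θ₀.naturality, Category.assoc, Category.assoc,
            Groth.Agent.CommAlg4.uact_natural]
          simp only [φ, hXY] }
    refine ⟨θ, ⟨?_, fun X Y => ?_⟩, fun X => rfl⟩
    · show _ ≫ θ₀.app _ ≫ _ = _
      have h1 : φ (𝟙_ C) = 𝟙 (𝟙_ D) := map_one χ
      rw [h1, Groth.Agent.CommAlg4.uact_id, Category.comp_id, NatTrans.IsMonoidal.unit]
    · show _ ≫ θ₀.app _ ≫ _ = ((θ₀.app X ≫ _) ⊗ₘ (θ₀.app Y ≫ _)) ≫ _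
      have h2 : φ (X ⊗ Y) = φ X ≫ φ Y := by
        show χ (toSkeleton (X ⊗ Y)) = _
        rw [Skeleton.toSkeleton_tensorObj, map_mul]
        exact (Groth.Agent.CommAlg4.unit_comm hR _ _)
      rw [← MonoidalCategory.tensorHom_comp_tensorHom, Category.assoc, Groth.Agent.CommAlg4.tensor_uact,
        NatTrans.IsMonoidal.tensor_assoc, Groth.Agent.CommAlg4.uact_natural, h2]

end Groth.Agent.S15286
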