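import Groth.Statements.S15288
import Groth.Agent.Dual22Lib.PerfAmpPush
import Groth.Agent.Dual22Lib.TenLocal
import Groth.Agent.Dual6Lib.ShriekRelAmp
import Groth.Agent.H8Lim.FibreDimVanish
import Groth.Agent.H8Lim.FibreDimModel
import Groth.Agent.H8Lim.TopDegreeApps
import Groth.Agent.Canon15.LocProj
import Groth.Agent.Stk19b.FieldDim
import Groth.Agent.DCat.OpenDerived
import Groth.Agent.DCat.SuppOpen
import Groth.Agent.FlatMorDim.Generic

set_option autoImplicit false
set_option backward.isDefEq.respectTransparency false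
set_option backward.defeqAttrib.useBackward true
set_option linter.style.haveILetI false
set_option synthInstance.maxHeartbeats 100000
universe u
open CategoryTheory CategoryTheory.Limits AlgebraicGeometry
attribute [local instance] HasDerivedCategory.standard
attribute [-instance] Int.instConditionallyCompleteLinearOrder
open Perf

namespace Groth.Agent.S15288

open Groth.Agent Groth.Agent.DCat HomologicalComplex in
/-- Modules: vanishing above the fibre dimension. -/
theorem isZero_push {X Y : Scheme.{u}} (f : X ⟶ Y) [IsProper f] (n : ℕ)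
    (hd : ∀ y, topologicalKrullDim ↥(f.fiber y) ≤ n) [DCoh.HasRpush f] (M : X.Modules) (hM : Coh.IsQCoh M) (i : ℤ)
    (hi : (n : ℤ) < i) : IsZero (DCoh.HD ((DCoh.Rpush f).obj (DCoh.inD X M)) i) := by
  obtain ⟨p, rfl⟩ := Int.eq_ofNat_of_zero_le (show 0 ≤ i by omega)
  haveI := hM
  haveI := Coherent.hasInjectiveResolutions_modules X
  obtain ⟨b⟩ := FlatBC14.nonempty_homology_Rpush f M p
  refine IsZero.of_iso ?_ b
  refine ModStalk.isZero_of_stalks fun y => ?_
  have hs : IsZero (TopCat.Presheaf.stalk ((Coh.RpushAb f p).obj (Coh.toAb M)).obj y) := by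
    obtain ⟨V, hy, hV, hm⟩ := H8Lim.exists_model_nhd f y n (hd y)
    haveI : IsAffine V.toScheme := hV
    exact H8Lim.isZero_stalk_rpushAb_of_restrict f V M p y hy (hm.isZero_rpushAb _ p (by omega))
  exact SuppOpen.isZero_stalkFunctor (h := AddCommGrpCat.subsingleton_of_isZero
    (hs.of_iso ((TopCat.Presheaf.stalkFunctor AddCommGrpCat.{u} y).mapIso
      ((sheafToPresheaf _ _).mapIso ((Coherent.toAbRpushNatIso f p).app M))))) _ _

/-- Let f : X ⟶ Y be locally projective (locally on Y, X is a closed subscheme of some projective space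
ℙ^N_Y), flat, surjective and locally of finite presentation, with every fibre of local dimension n
at each of its points, and assume the derived direct image Rf_* exists on D(O_X). If E ∈ D(O_X) is
perfect and is represented by a complex of flat O_X-modules concentrated in degrees [a, b], then
Rf_*E has tor amplitude in [a, b + n]: for every O_Y-module F the cohomology sheaves of Rf_*E ⊗^L F
vanish outside [a, b + n]. (Rf_*E is moreover perfect; that part is the flat proper finitely
presented case stated separately.) -/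
theorem result
    {X Y : Scheme.{u}} (f : X ⟶ Y) (n : ℕ)
    (hproj : RedSub.IsLocallyProjective (Over.mk f))
    [Flat f] [Surjective f] [LocallyOfFinitePresentation f]
    (hdim : ∀ x : ↥X, FlatMor.fibreDimAt f x = n)
    [DCoh.HasRpush f] (E : DCoh.D X) (hE : DCoh.IsPerfect E) (a b : ℤ)
    (hab : DCoh.HasFlatAmplitudeIn a b E) :
    DCoh.HasTorAmplitudeIn a (b + n) ((DCoh.Rpush f).obj E) := by
  open Groth.Agent Groth.Agent.DCat in
  haveI : IsProper f := Canon15.isProper_of_isLocallyProjective f hproj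
  have hd : ∀ y, topologicalKrullDim ↥(f.fiber y) ≤ n := fun y => by
    rw [Stk19b.FieldDim.topologicalKrullDim_eq_iSup_localDim]
    refine iSup_le fun z => ?_
    obtain ⟨x, hx⟩ : ∃ x, f.fiberι y z = x := ⟨_, rfl⟩
    have hy : f x = y := by
      rw [← hx]
      have h : f.fiberι y z ∈ Set.range (f.fiberι y) := ⟨z, rfl⟩
      rwa [Scheme.Hom.range_fiberι] at h
    subst hy
    have hz : z = f.asFiber x :=
      (f.fiberι (f x)).isEmbedding.injective (hx.trans (f.fiberι_asFiber x).symm)
    rw [hz]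
    exact (hdim x).le
  obtain ⟨C, hC, hCf, ⟨eC⟩⟩ := hab
  intro G _ i hi
  by_cases hba : b < a
  · have hz : IsZero E := by
      refine IsZero.of_iso (DerivedCategory.Q.map_isZero ?_) eC.symm
      exact (IsZero.iff_id_eq_zero C).2 (HomologicalComplex.hom_ext _ _ fun j => (hC j (by omega)).eq_of_src _ _)
    haveI : (DCoh.Rpush f).PreservesZeroMorphisms := inferInstance
    obtain ⟨P, c, hP, hc⟩ := Dual22Lib.RelTorDim.exists_resolution G
    haveI := hc
    haveI := LTensorSheaf.hasLTensorCx P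
    obtain ⟨T⟩ := Dual22Lib.RelTorDim.nonempty_LTensorMod_iso G hP c ((DCoh.Rpush f).obj E)
    exact (DerivedCategory.homologyFunctor Y.Modules i).map_isZero
      (IsZero.of_iso ((Dual22Lib.TenLocal.triExact_LTensor P).map_isZero
        ((Dual22Lib.TenLocal.triExact_Rpush f).map_isZero hz)) T)
  let K := DCoh.HD ((DCoh.LTensorMod G).obj ((DCoh.Rpush f).obj E)) i
  choose V hV hxV _ using fun y : ↥Y => exists_isAffineOpen_mem_and_subset (show y ∈ (⊤ : Y.Opens) from trivial)
  refine DQCoh.isZero_of_restrict_cover _ V (fun y => ⟨y, hxV y⟩) fun y => ?_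
  let j := (V y).ι
  let U := f ⁻¹ᵁ V y
  haveI : IsAffine (V y : Scheme.{u}) := hV y
  haveI := PullPerf.preservesFiniteLimits_restrict j
  haveI := PullPerf.preservesFiniteLimits_restrict U.ι
  haveI := hasRpush (f ∣_ V y)
  haveI : IsProper (f ∣_ V y) :=
    MorphismProperty.of_isPullback (P := @IsProper) (isPullback_morphismRestrict f (V y)).flip inferInstance
  haveI : Flat (f ∣_ V y) :=
    MorphismProperty.of_isPullback (P := @Flat) (isPullback_morphismRestrict f (V y)).flip inferInstance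
  refine IsZero.of_iso ?_ (SuppOpen.hdMapIso (Scheme.Modules.restrictFunctor j) _ i).symm
  -- the two sides over `V y`
  let CU := (DCoh.restrictCx U).obj C
  have hCU : DCoh.VanishesOutside CU a b := fun k hk => (Scheme.Modules.restrictFunctor U.ι).map_isZero (hC k hk)
  have eU : DCoh.toD _ CU ≅ (PerfLocal.rd U.ι).obj E :=
    ((Scheme.Modules.restrictFunctor U.ι).mapDerivedCategoryFactors.app C).symm ≪≫ (PerfLocal.rd U.ι).mapIso eC
  have hEU : DCoh.HasFlatAmplitudeIn a b ((PerfLocal.rd U.ι).obj E) := DQCoh.flatAmp_rd U.ι ⟨C, hC, hCf, ⟨eC⟩⟩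
  obtain ⟨C', hC', hC'f, ⟨eC'⟩⟩ := hEU
  have hT : DerSch.HasTorAmplitude (f ∣_ V y) a b C' := fun x =>
    ⟨(DerSch.stalkCxOver (f ∣_ V y) x).obj C', fun k hk => (DerSch.stalkOver (f ∣_ V y) x).map_isZero (hC' k hk),
      fun k => Dual6Lib.ShriekRelAmp.isFlatOver_of_isFlat (f ∣_ V y) (hC'f k) x, ⟨Iso.refl _⟩⟩
  haveI : CompactSpace (U : Scheme.{u}) := QuasiCompact.compactSpace_of_compactSpace (f ∣_ V y)
  have hdimV : ∀ v, topologicalKrullDim ↥((f ∣_ V y).fiber v) ≤ n := fun v =>
    (FlatMorDim.fiber_dim_eq_of_pullback (isPullback_morphismRestrict f (V y)).flip v).trans_le (hd _)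
  have hqU : DCoh.IsQCohD (DCoh.toD _ C') :=
    DQCoh.isQCohD_of_iso eC'.symm (DQCoh.isQCohD_rd U.ι (Dual22Lib.PerfLift.isQCohD_perfect hE))
  have h := Dual22Lib.PerfAmpPush.torAmplitude_Rpush_bound (f ∣_ V y) n
    (fun M hM k hk => isZero_push (f ∣_ V y) n hdimV M hM k hk) C' hqU a b (by omega) hT
  let G' := (Scheme.Modules.restrictFunctor j).obj G
  obtain ⟨P, c, hP, hc⟩ := Dual22Lib.RelTorDim.exists_resolution G
  haveI := hc
  haveI := LTensorSheaf.hasLTensorCx P
  obtain ⟨T⟩ := Dual22Lib.RelTorDim.nonempty_LTensorMod_iso G hP c ((DCoh.Rpush f).obj E)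
  obtain ⟨P', hP', ⟨eP'⟩, hcomm⟩ := Dual22Lib.TenLocal.nonempty_rd_LTensor j P
  obtain ⟨T'⟩ := hcomm ((DCoh.Rpush f).obj E)
  obtain ⟨Q', c', hQ', hc'⟩ := Dual22Lib.RelTorDim.exists_resolution G'
  haveI := hc'
  haveI := LTensorSheaf.hasLTensorCx Q'
  haveI := hasLTensorMod G'
  haveI : IsIso (DerivedCategory.Q.map c) := (DerivedCategory.isIso_Q_map_iff_quasiIso _ c).2 hc
  haveI : IsIso (DerivedCategory.Q.map c') := (DerivedCategory.isIso_Q_map_iff_quasiIso _ c').2 hc'
  haveI := hP'
  obtain ⟨cg⟩ := TensorCongr.nonempty_congr (E := P') (E' := Q')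
    (eP' ≪≫ (PerfLocal.rd j).mapIso (asIso (DerivedCategory.Q.map c)) ≪≫
      (Scheme.Modules.restrictFunctor j).mapDerivedCategoryFactors.app _ ≪≫
      DerivedCategory.Q.mapIso ((HomologicalComplex.singleMapHomologicalComplex (Scheme.Modules.restrictFunctor j)
        (ComplexShape.up ℤ) 0).app G) ≪≫ (asIso (DerivedCategory.Q.map c')).symm)
  obtain ⟨T''⟩ := Dual22Lib.RelTorDim.nonempty_LTensorMod_iso G' hQ' c' ((DCoh.Rpush (f ∣_ V y)).obj (DCoh.toD _ C'))
  refine (h G' i hi).of_iso ((DerivedCategory.homologyFunctor _ i).mapIso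
    ((PerfLocal.rd j).mapIso T ≪≫ T' ≪≫ cg.app _ ≪≫
      (DCoh.LTensorCx Q').mapIso ((OpenDerived.rpushRestrictIso f (V y)).app E ≪≫
        (DCoh.Rpush (f ∣_ V y)).mapIso eC'.symm) ≪≫ T''.symm))

end Groth.Agent.S15288
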