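import Groth.Statements.S15297
import Groth.Agent.DR15.CxMap
-- import your own Groth.Agent.* helpers here

set_option autoImplicit false
universe u
open DeRham

open Groth.Agent
namespace Groth.Agent.S15297

open exteriorPower in
/-- Let R → A be a ring map and d a de Rham differential of the Kähler differentials of A over R. Then
each d from p-forms to (p+1)-forms, an R-linear map between A-modules, is a differential operator of
order at most 1 relative to R → A: every commutator of d with multiplication by an element of A is
A-linear. -/
theorem result (R A : Type u) [CommRing R] [CommRing A] [Algebra R A]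
    (d : ∀ p : ℕ, ↥(⋀[A]^p (Ω[A⁄R])) →ₗ[R] ↥(⋀[A]^(p + 1) (Ω[A⁄R])))
    (hd : DeRham.IsDiff (KaehlerDifferential.D R A) d) (p : ℕ) :
    Diff16.IsDiffOpLE R A ↥(⋀[A]^p (Ω[A⁄R])) ↥(⋀[A]^(p + 1) (Ω[A⁄R])) 1 (d p) := by
  intro a b m
  show d p (a • b • m) - a • d p (b • m) = b • (d p (a • m) - a • d p m)
  refine Subtype.ext ?_
  rw [DR15.commutator_smul hd.1 p a (b • m), SetLike.val_smul, SetLike.val_smul, mul_smul_comm,
    DR15.commutator_smul hd.1 p a m]

end Groth.Agent.S15297
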