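import Groth.Statements.S15298
import Groth.Agent.CAlgH.AdicSmooth
import Groth.Agent.CAlgH.PowerSeriesEval

set_option autoImplicit false
universe u
open CAlg

namespace Groth.Agent.S15298

/-- Let k be a field, A a Noetherian k-algebra and x a non-zero-divisor of A such that A is separated
and complete for the (x)-adic topology, and assume that B = A/xA is formally smooth over k. Then A
is a power series ring over B in the variable x: there is a k-algebra isomorphism e : B[[T]] ≅ A
with e(T) = x whose reduction modulo x is the constant-coefficient map, i.e. e(f) ≡ f(0) mod x for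
every power series f. -/
theorem result (k A : Type u) [Field k]
    [CommRing A] [Algebra k A] [IsNoetherianRing A] (x : A) (hx : x ∈ nonZeroDivisors A)
    [IsAdicComplete (Ideal.span {x}) A] [Algebra.FormallySmooth k (A ⧸ Ideal.span {x})] :
    ∃ e : PowerSeries (A ⧸ Ideal.span {x}) ≃ₐ[k] A,
      e PowerSeries.X = x ∧
      ∀ f : PowerSeries (A ⧸ Ideal.span {x}),
        Ideal.Quotient.mk (Ideal.span {x}) (e f) = PowerSeries.constantCoeff f := by
  obtain ⟨σ, hσk, hσ⟩ := _root_.Groth.Agent.CAlgH.AdicSmooth.exists_lift_complete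
    (_root_.Groth.Agent.CAlgH.AdicSmooth.of_formallySmooth (R := k) (S := A ⧸ Ideal.span {x}) (𝔫 := ⊥))
    (algebraMap k A) (Ideal.span {x}) (RingHom.id _) rfl ⟨1, fun y hy => by simpa using hy⟩
  obtain ⟨f, hfC, hfX⟩ := _root_.Groth.Agent.CAlgH.exists_mvPowerSeries_eval σ (Ideal.span {x})
    (fun _ : Unit => x) (fun _ => Ideal.mem_span_singleton_self x)
  let F : PowerSeries (A ⧸ Ideal.span {x}) →+* A := f
  have hX : F PowerSeries.X = x := hfX ()
  have hC : ∀ b, F (PowerSeries.C b) = σ b := fun b => RingHom.congr_fun hfC b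
  have hdec : ∀ g : PowerSeries (A ⧸ Ideal.span {x}), ∃ h : PowerSeries (A ⧸ Ideal.span {x}), g = PowerSeries.X * h + PowerSeries.C (PowerSeries.constantCoeff g) :=
    fun g => ⟨PowerSeries.mk fun p => PowerSeries.coeff (p + 1) g, PowerSeries.eq_X_mul_shift_add_const g⟩
  have hred : ∀ g, Ideal.Quotient.mk (Ideal.span {x}) (F g) = PowerSeries.constantCoeff g := fun g => by
    obtain ⟨h, hg⟩ := hdec g
    conv_lhs => rw [hg, map_add, map_mul, hX, hC]
    rw [map_add, map_mul, Ideal.Quotient.eq_zero_iff_mem.2 (Ideal.mem_span_singleton_self x), zero_mul, zero_add]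
    exact RingHom.congr_fun hσ _
  have hinj : Function.Injective F := by
    refine (injective_iff_map_eq_zero F).2 fun g hg => PowerSeries.ext fun n => ?_
    rw [map_zero]
    induction n generalizing g with
    | zero =>
      rw [PowerSeries.coeff_zero_eq_constantCoeff_apply, ← hred, hg, map_zero]
    | succ n ih =>
      obtain ⟨h, hh⟩ := hdec g
      have h0 : PowerSeries.constantCoeff g = 0 := by rw [← hred, hg, map_zero]
      rw [h0, map_zero, add_zero] at hh
      rw [hh, map_mul, hX] at hg
      rw [hh, PowerSeries.coeff_succ_X_mul]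
      exact ih h ((mem_nonZeroDivisors_iff_left.1 hx) _ hg)
  have hsurj : Function.Surjective F := by
    have hnx : ∀ a : A, ∃ a', a = σ (Ideal.Quotient.mk _ a) + x * a' := fun a => by
      have h : a - σ (Ideal.Quotient.mk _ a) ∈ Ideal.span {x} :=
        Ideal.Quotient.eq.1 (RingHom.congr_fun hσ _).symm
      obtain ⟨a', ha'⟩ := Ideal.mem_span_singleton.1 h
      exact ⟨a', by rw [← ha']; ring⟩
    choose nx hnx using hnx
    let S : A → PowerSeries (A ⧸ Ideal.span {x}) := fun a => PowerSeries.mk fun i => Ideal.Quotient.mk _ (nx^[i] a)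
    have hS : ∀ a, S a = PowerSeries.X * S (nx a) + PowerSeries.C (Ideal.Quotient.mk _ a) := fun a => by
      ext i
      cases i with
      | zero => simp [S]
      | succ i => simp [S, PowerSeries.coeff_succ_X_mul, PowerSeries.coeff_C, Function.iterate_succ_apply]
    intro a
    refine ⟨S a, sub_eq_zero.1 (IsHausdorff.haus (I := Ideal.span {x}) (M := A) inferInstance _ fun n => ?_)⟩
    rw [SModEq.zero, smul_eq_mul, Ideal.mul_top, Ideal.span_singleton_pow, Ideal.mem_span_singleton]
    induction n generalizing a with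
    | zero => simp
    | succ n ih =>
      rw [hS a, map_add, map_mul, hX, hC]
      conv_rhs => arg 2; rw [hnx a]
      rw [show x * F (S (nx a)) + σ (Ideal.Quotient.mk _ a) - (σ (Ideal.Quotient.mk _ a) + x * nx a) = x * (F (S (nx a)) - nx a) by ring,
        pow_succ']
      exact mul_dvd_mul_left x (ih (nx a))
  refine ⟨AlgEquiv.ofBijective { F with commutes' := fun c => ?_ } ⟨hinj, hsurj⟩, hX, hred⟩
  show F (algebraMap k (PowerSeries (A ⧸ Ideal.span {x})) c) = algebraMap k A c
  rw [PowerSeries.algebraMap_apply, ← RingHom.congr_fun hσk c]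
  exact hC _

end Groth.Agent.S15298
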