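import Groth.Statements.S15301
import Groth.Agent.LimCohLib.LimOne
-- import your own Groth.Agent.* helpers here

set_option autoImplicit false
universe u
open HomAlg3

namespace Groth.Agent.S15301

open CategoryTheory CategoryTheory.Limits TopologicalSpace Opposite in
/-- For the functor of sections over an open U, let (F_n)_n be a tower of sheaves of abelian groups on a
topological space X, indexed by the natural numbers, with limit sheaf lim F_n, and let B be a basis
of opens of X such that for every V in B (a) every transition map F_{n+1}(V) → F_n(V) is surjective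
and (b) every H^i(V, F_n) with i > 0 vanishes. Then for every open U and every i = j + 1 ≥ 1 there
is a short exact sequence 0 → lim¹_n H^j(U, F_n) → H^i(U, lim F_n) → lim_n H^i(U, F_n) → 0: every
family of classes in the H^i(U, F_n) compatible under the transition maps comes from a class on lim
F_n, and the kernel of H^i(U, lim F_n) → ∏_n H^i(U, F_n) is isomorphic to lim¹ of the tower (H^j(U,
F_n))_n (existence of an isomorphism only). In particular the comparison map is injective as soon as
that lim¹ vanishes. (The published statement is for any functor T on abelian sheaves commuting with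
products, such as Γ, Γ_Y, f_*; this row is the case T = Γ(U, −).) -/
theorem result {X : TopCat.{u}} (F : ℕᵒᵖ ⥤ CohTop.Ab X)
    (B : Set (Opens X)) (hB : Opens.IsBasis B)
    (hsurj : ∀ V ∈ B, ∀ n : ℕ,
      Function.Surjective ((F.map (homOfLE (Nat.le_succ n)).op).hom.app (op V)).hom)
    (hvan : ∀ V ∈ B, ∀ (n i : ℕ), 0 < i → Subsingleton (CohTop.HU (F.obj (op n)) i V))
    (U : Opens X) (i j : ℕ) (hij : j + 1 = i) :
    (∀ ξ : ∀ n : ℕ, CohTop.HU (F.obj (op n)) i U,
      (∀ n, CohTop.HUmap (F.map (homOfLE (Nat.le_succ n)).op) i U (ξ (n + 1)) = ξ n) →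
        ∃ η : CohTop.HU (limit F) i U, ∀ n, CohTop.HUmap (limit.π F (op n)) i U η = ξ n) ∧
    Nonempty ((AddMonoidHom.pi fun n : ℕ => CohTop.HUmap (limit.π F (op n)) i U).ker ≃+
      Formal2.limOne (fun n : ℕ => CohTop.HU (F.obj (op n)) j U)
        (fun n : ℕ => CohTop.HUmap (F.map (homOfLE (Nat.le_succ n)).op) j U)) := by
  subst hij
  refine ⟨fun ξ hξ => Groth.Agent.LimCohLib.exists_of_compatible F (Groth.Agent.LimCohLib.detects_freeTests hB)
    (fun k => Groth.Agent.LimCohLib.acy_freeTests _ fun V hV => hvan V hV k)
    (Groth.Agent.LimCohLib.lifts F B hsurj) (CohCx.freeSheaf (Opens.grothendieckTopology X) U) (j + 1) ξ hξ, ?_⟩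
  obtain ⟨α, hα, hrange⟩ := Groth.Agent.LimCohLib.exists_limOne_hom F (Groth.Agent.LimCohLib.detects_freeTests hB)
    (fun k => Groth.Agent.LimCohLib.acy_freeTests _ fun V hV => hvan V hV k)
    (Groth.Agent.LimCohLib.lifts F B hsurj) (CohCx.freeSheaf (Opens.grothendieckTopology X) U) j
  exact ⟨(AddEquiv.ofBijective (α.codRestrict _ fun c => funext ((hrange (α c)).1 ⟨c, rfl⟩))
    ⟨fun a b h => hα (congrArg Subtype.val h), fun η => by
      obtain ⟨c, hc⟩ := (hrange η.1).2 (congrFun η.2)
      exact ⟨c, Subtype.ext hc⟩⟩).symm⟩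

end Groth.Agent.S15301
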