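import Groth.Statements.S15302
import Groth.Agent.HomAlg17.SplitResolution
-- import your own Groth.Agent.* helpers here

set_option autoImplicit false
universe v u
open HomAlg3

namespace Groth.Agent.S15302

open CategoryTheory CategoryTheory.Limits in
/-- In an abelian category with enough injectives, let α : G ⟶ F be a morphism and I an injective
resolution of F. Then G has an injective resolution J together with a morphism of cochain complexes
β : J ⟶ I lying over α (the augmentations commute with α and β) such that for every p there are an
object K^p and an isomorphism J^p ≅ I^p ⊕ K^p identifying β^p with the projection onto the first
factor (so K^p is injective as well). (The published statement is for abelian sheaves on a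
topological space; its proof uses only an embedding of G into an injective object and cokernels, so
the row is stated in any abelian category with enough injectives.) -/
theorem result {C : Type u} [Category.{v} C] [Abelian C]
    [EnoughInjectives C] {G F : C} (α : G ⟶ F) (I : InjectiveResolution F) :
    ∃ (J : InjectiveResolution G) (β : J.cocomplex ⟶ I.cocomplex),
      J.ι ≫ β = (CochainComplex.single₀ C).map α ≫ I.ι ∧
      ∀ p : ℕ, ∃ (K : C) (e : J.cocomplex.X p ≅ I.cocomplex.X p ⊞ K), β.f p = e.hom ≫ biprod.fst := by
  exact Groth.Agent.HomAlg17.SplitRes.exists_split α I

end Groth.Agent.S15302

#print axioms Groth.Agent.S15302.result
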