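import Groth.Statements.S15303
import Groth.Agent.CAlgH.SmoothQuotient
-- import your own Groth.Agent.* helpers here

set_option autoImplicit false
universe u
open EtBase

namespace Groth.Agent.EtTopInv

open AlgebraicGeometry CategoryTheory

/-- An ideal with quotient generated by the base contains, near any prime, an étale slice. -/
theorem exists_etale_quotient {A B : Type u} [CommRing A] [CommRing B] [Algebra A B]
    [Algebra.IsStandardSmooth A B] (I : Ideal B)
    (hgen : ∀ b : B, ∃ a a₀ : A, IsUnit (algebraMap A B a) ∧ algebraMap A B a * b - algebraMap A B a₀ ∈ I)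
    (q : Ideal B) [q.IsPrime] :
    ∃ h : B, h ∉ q ∧ ∃ K : Ideal (Localization.Away h),
      K ≤ I.map (algebraMap B (Localization.Away h)) ∧ Algebra.Etale A (Localization.Away h ⧸ K) := by
  classical
  haveI : Nontrivial B := ⟨0, 1, fun e => ‹q.IsPrime›.ne_top ((Ideal.eq_top_iff_one q).2 (e ▸ q.zero_mem))⟩
  haveI := Algebra.IsStandardSmooth.free_kaehlerDifferential (R := A) (S := B)
  let ι := Module.Free.ChooseBasisIndex B Ω[B⁄A]
  let b := Module.Free.chooseBasis B Ω[B⁄A]
  let D := KaehlerDifferential.D A B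
  have hspan : Submodule.span B (D '' (I : Set B)) = ⊤ := by
    rw [eq_top_iff, ← KaehlerDifferential.span_range_derivation A B, Submodule.span_le]
    rintro _ ⟨x, rfl⟩
    obtain ⟨a, a₀, ha, hx⟩ := hgen x
    obtain ⟨v, hv⟩ := ha
    have e : D (algebraMap A B a * x - algebraMap A B a₀) = (v : B) • D x := by
      rw [map_sub, Derivation.leibniz, D.map_algebraMap, D.map_algebraMap, hv]
      simp
    have : D x = (↑v⁻¹ : B) • D (algebraMap A B a * x - algebraMap A B a₀) := by
      rw [e, smul_smul, Units.inv_mul, one_smul]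
    rw [this]
    exact Submodule.smul_mem _ _ (Submodule.subset_span ⟨_, hx, rfl⟩)
  -- the coordinates modulo `q`
  let k := FractionRing (B ⧸ q)
  let φ : B → (ι → k) := fun x i => algebraMap B k (b.repr (D x) i)
  have hφ : Submodule.span k (φ '' (I : Set B)) = ⊤ := by
    rw [eq_top_iff, ← (Pi.basisFun k ι).span_eq, Submodule.span_le]
    rintro _ ⟨i, rfl⟩
    have key : ∀ w ∈ Submodule.span B (D '' (I : Set B)),
        (fun j => algebraMap B k (b.repr w j)) ∈ Submodule.span k (φ '' (I : Set B)) := by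
      intro w hw
      induction hw using Submodule.span_induction with
      | mem w hw => obtain ⟨x, hx, rfl⟩ := hw; exact Submodule.subset_span ⟨x, hx, rfl⟩
      | zero => simp only [map_zero, Finsupp.coe_zero, Pi.zero_apply]; exact Submodule.zero_mem _
      | add w w' _ _ h h' =>
        simp only [map_add, Finsupp.coe_add, Pi.add_apply]; exact Submodule.add_mem _ h h'
      | smul c w _ h =>
        simp only [map_smul, Finsupp.coe_smul, Pi.smul_apply, smul_eq_mul, map_mul]
        exact Submodule.smul_mem _ (algebraMap B k c) h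
    have := key (b i) (hspan ▸ Submodule.mem_top)
    refine (congrArg (fun z => z ∈ Submodule.span k (φ '' (I : Set B))) ?_).mpr this
    ext j
    simp only [Pi.basisFun_apply, Module.Basis.repr_self, Pi.single_apply, Finsupp.single_apply, apply_ite (algebraMap B k), map_one, map_zero, eq_comm]
  obtain ⟨t, ht, hts, hli⟩ := exists_linearIndependent k (φ '' (I : Set B))
  let bt : Module.Basis t k (ι → k) :=
    Module.Basis.mk hli (by rw [Subtype.range_coe, hts, hφ])
  let n := Fintype.card ι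
  let eι : Fin n ≃ ι := (Fintype.equivFin ι).symm
  let et : Fin n ≃ t := eι.trans ((Pi.basisFun k ι).indexEquiv bt)
  choose g₀ hg₀ hgφ using fun j : Fin n => ht (et j).2
  let M : Matrix (Fin n) (Fin n) B := Matrix.of fun j i => b.repr (D (g₀ j)) (eι i)
  have hM : IsUnit ((algebraMap B k).mapMatrix M).det := by
    rw [← Matrix.isUnit_iff_isUnit_det, ← Matrix.linearIndependent_rows_iff_isUnit]
    have hl := (hli.comp et et.injective).map' (LinearEquiv.funCongrLeft k k eι).toLinearMap (LinearEquiv.ker _)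
    have e : (fun j => (LinearEquiv.funCongrLeft k k eι).toLinearMap ((et j : ι → k))) =
        ((algebraMap B k).mapMatrix M).row := by
      funext j i
      change (et j : ι → k) (eι i) = algebraMap B k (b.repr (D (g₀ j)) (eι i))
      rw [← hgφ j]
    exact e ▸ hl
  refine ⟨M.det, fun hq => hM.ne_zero ?_, ?_⟩
  · rw [← RingHom.map_det, IsScalarTower.algebraMap_apply B (B ⧸ q) k, Ideal.Quotient.algebraMap_eq,
      Ideal.Quotient.eq_zero_iff_mem.mpr hq, map_zero]
  let B' := Localization.Away M.det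
  haveI : Algebra.IsStandardSmooth B B' := Algebra.IsStandardSmooth.localization_away M.det
  haveI : Algebra.IsStandardSmooth A B' := Algebra.IsStandardSmooth.trans A B B'
  haveI : Algebra.FormallyEtale B B' := Algebra.FormallyEtale.of_isLocalization (Submonoid.powers M.det)
  let e := KaehlerDifferential.tensorKaehlerEquivOfFormallyEtale A B B'
  let b' : Module.Basis ι B' Ω[B'⁄A] := (b.baseChange B').map e
  let M' : Matrix (Fin n) (Fin n) B' := (algebraMap B B').mapMatrix M
  have hM' : IsUnit M'.det := by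
    rw [show M'.det = algebraMap B B' M.det from (RingHom.map_det _ _).symm]
    exact IsLocalization.Away.algebraMap_isUnit M.det
  let g : Fin n → B' := fun j => algebraMap B B' (g₀ j)
  let L : Ω[B'⁄A] →ₗ[B'] (Fin n → B') :=
    (Matrix.vecMulLinear M'⁻¹).comp ((LinearEquiv.funCongrLeft B' B' eι).toLinearMap.comp
      (b'.equivFun.toLinearMap))
  have hLD : ∀ j, L (KaehlerDifferential.D A B' (g j)) = Pi.single j 1 := fun j => by
    have e1 : (fun i => b'.repr (KaehlerDifferential.D A B' (g j)) (eι i)) = M' j := by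
      funext i
      have : e.symm (KaehlerDifferential.D A B' (g j)) = 1 ⊗ₜ KaehlerDifferential.D A B (g₀ j) :=
        KaehlerDifferential.tensorKaehlerEquivOfFormallyEtale_symm_D_algebraMap A B B' (g₀ j)
      change (b.baseChange B').repr (e.symm (KaehlerDifferential.D A B' (g j))) (eι i) = _
      rw [this, Module.Basis.baseChange_repr_tmul, Algebra.smul_def, mul_one]
      rfl
    change Matrix.vecMul (fun i => b'.repr (KaehlerDifferential.D A B' (g j)) (eι i)) M'⁻¹ = _
    rw [e1, show M' j = Matrix.vecMul (Pi.single j 1) M' from (Matrix.single_one_vecMul j M').symm,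
      Matrix.vecMul_vecMul, Matrix.mul_nonsing_inv _ hM', Matrix.vecMul_one]
  let K : Ideal B' := Ideal.span (Set.range g)
  refine ⟨K, Ideal.span_le.2 ?_, ?_⟩
  · rintro _ ⟨j, rfl⟩
    exact Ideal.mem_map_of_mem _ (hg₀ j)
  haveI : Algebra.FormallySmooth A (B' ⧸ K) := CAlgH.SmoothQuotient.formallySmooth_quotient g L fun j => by
    rw [hLD, Finset.sum_eq_single j (fun k _ hk => by rw [Pi.single_eq_of_ne hk, zero_mul])
      (fun h => absurd (Finset.mem_univ j) h), Pi.single_eq_same, one_mul, sub_self]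
    exact Submodule.zero_mem _
  haveI : Algebra.FormallyUnramified A (B' ⧸ K) := by
    rw [Algebra.formallyUnramified_iff]
    refine subsingleton_of_forall_eq 0 fun z => ?_
    obtain ⟨z, rfl⟩ := KaehlerDifferential.map_surjective_of_surjective A A B' (B' ⧸ K) Ideal.Quotient.mk_surjective z
    have hzero : ∀ i, KaehlerDifferential.map A A B' (B' ⧸ K) (b' i) = 0 := by
      have hg : ∀ j, KaehlerDifferential.map A A B' (B' ⧸ K) (KaehlerDifferential.D A B' (g j)) = 0 := fun j => by
        rw [KaehlerDifferential.map_D, Ideal.Quotient.algebraMap_eq,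
          Ideal.Quotient.eq_zero_iff_mem.mpr (show g j ∈ K from Ideal.subset_span ⟨j, rfl⟩), map_zero]
      intro i
      have hb : b' i = ∑ j, (M'⁻¹ (eι.symm i) j) • KaehlerDifferential.D A B' (g j) := by
        apply b'.ext_elem
        intro l
        obtain ⟨m, rfl⟩ := eι.surjective l
        simp only [map_sum, map_smul, Finsupp.coe_finsetSum, Finset.sum_apply, Finsupp.smul_apply,
          smul_eq_mul, Module.Basis.repr_self, Finsupp.single_apply]
        have e1 : ∀ j, b'.repr (KaehlerDifferential.D A B' (g j)) (eι m) = M' j m := fun j => by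
          have : e.symm (KaehlerDifferential.D A B' (g j)) = 1 ⊗ₜ KaehlerDifferential.D A B (g₀ j) :=
            KaehlerDifferential.tensorKaehlerEquivOfFormallyEtale_symm_D_algebraMap A B B' (g₀ j)
          change (b.baseChange B').repr (e.symm (KaehlerDifferential.D A B' (g j))) (eι m) = _
          rw [this, Module.Basis.baseChange_repr_tmul, Algebra.smul_def, mul_one]
          rfl
        simp only [e1]
        rw [← Matrix.mul_apply, Matrix.nonsing_inv_mul _ hM', Matrix.one_apply]
        simp [Equiv.eq_symm_apply, Equiv.symm_apply_eq]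
      rw [hb, map_sum]
      exact Finset.sum_eq_zero fun j _ => by rw [map_smul, hg, smul_zero]
    have hmap : (KaehlerDifferential.map A A B' (B' ⧸ K)) = 0 := b'.ext fun i => by rw [hzero i]; rfl
    rw [hmap]; rfl
  haveI : Algebra.FinitePresentation A (B' ⧸ K) :=
    Algebra.FinitePresentation.quotient (Submodule.fg_span (Set.finite_range g))
  haveI : Algebra.FormallyEtale A (B' ⧸ K) := .of_formallyUnramified_and_formallySmooth
  exact { }

end Groth.Agent.EtTopInv

namespace Groth.Agent.S15303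

open CategoryTheory AlgebraicGeometry in
/-- Let k be a field of characteristic zero, X and Y smooth k-schemes, f : X ⟶ Y a smooth k-morphism and
i : Z ⟶ X a closed immersion such that the composite Z ⟶ Y is again a closed immersion. Then for
every point z of Z there are an open neighbourhood U of i(z) in X and a closed subscheme j : W ⟶ U
of U which is étale over Y (through U ⊆ X ⟶ Y) and contains Z ∩ U, i.e. the restriction of i over U
factors through j. -/
theorem result (k : Type u) [Field k] [CharZero k]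
    {X Y Z : Scheme.{u}} [X.Over (Spec (CommRingCat.of k))] [Y.Over (Spec (CommRingCat.of k))]
    [Smooth (X ↘ Spec (CommRingCat.of k))] [Smooth (Y ↘ Spec (CommRingCat.of k))]
    (f : X ⟶ Y) [f.IsOver (Spec (CommRingCat.of k))] [Smooth f]
    (i : Z ⟶ X) [IsClosedImmersion i] [IsClosedImmersion (i ≫ f)] (z : Z) :
    ∃ (U : X.Opens) (_ : i.base z ∈ U) (W : Scheme.{u}) (j : W ⟶ (U : Scheme.{u})) (_ : IsClosedImmersion j)
      (_ : Etale (j ≫ U.ι ≫ f)) (g : ((i ⁻¹ᵁ U : Z.Opens) : Scheme.{u}) ⟶ W), g ≫ j = i ∣_ U := by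
  classical
  obtain ⟨V₀, hV₀, U₀, hU₀, hxU, e₀, hstd⟩ := Smooth.exists_isStandardSmooth f (i.base z)
  let W : Z.Opens := i ⁻¹ᵁ U₀
  obtain ⟨O, hO, hW⟩ := (i ≫ f).isClosedEmbedding.isInducing.isOpen_iff.mp W.isOpen
  have hzO : (i ≫ f) z ∈ O ∩ (V₀ : Set Y) :=
    ⟨show z ∈ (i ≫ f) ⁻¹' O from hW ▸ (hxU : z ∈ W), e₀ hxU⟩
  obtain ⟨a, ha, hza⟩ := hV₀.exists_basicOpen_le (V := ⟨O ∩ (V₀ : Set Y), hO.inter V₀.isOpen⟩)
    ⟨_, hzO⟩ (show (i ≫ f) z ∈ V₀ from hzO.2)
  let U₁ : X.Opens := X.basicOpen (f.appLE V₀ U₀ e₀ a)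
  have hU₁ : U₁ = U₀ ⊓ f ⁻¹ᵁ Y.basicOpen a := Scheme.basicOpen_appLE f U₀ V₀ e₀ a
  have hU₁a : IsAffineOpen U₁ := hU₀.basicOpen _
  have e₁ : U₁ ≤ f ⁻¹ᵁ V₀ := (X.basicOpen_le _).trans e₀
  have hzU₁ : i.base z ∈ U₁ := hU₁.ge ⟨hxU, hza⟩
  have hZ₁ : i ⁻¹ᵁ U₁ = (i ≫ f) ⁻¹ᵁ Y.basicOpen a := by
    apply le_antisymm
    · intro t ht; exact (hU₁.le ht).2
    · intro t ht
      exact hU₁.ge ⟨hW.le (show t ∈ (i ≫ f) ⁻¹' O from (ha ht).1), ht⟩
  let A : Type u := Γ(Y, V₀)
  let B : Type u := Γ(X, U₁)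
  letI algAB : Algebra A B := (f.appLE V₀ U₁ e₁).hom.toAlgebra
  haveI : Algebra.IsStandardSmooth A B := by
    letI a1 : Algebra A Γ(X, U₀) := (f.appLE V₀ U₀ e₀).hom.toAlgebra
    letI a2 : Algebra Γ(X, U₀) B := (X.presheaf.map (homOfLE (X.basicOpen_le (f.appLE V₀ U₀ e₀ a))).op).hom.toAlgebra
    haveI : IsScalarTower A Γ(X, U₀) B := IsScalarTower.of_algebraMap_eq' (by
      change (f.appLE V₀ U₁ e₁).hom = (X.presheaf.map _).hom.comp (f.appLE V₀ U₀ e₀).hom
      rw [← CommRingCat.hom_comp, Scheme.Hom.appLE_map])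
    haveI : Algebra.IsStandardSmooth A Γ(X, U₀) := hstd
    haveI : IsLocalization.Away (f.appLE V₀ U₀ e₀ a) B := hU₀.isLocalization_basicOpen _
    haveI : Algebra.IsStandardSmooth Γ(X, U₀) B := Algebra.IsStandardSmooth.localization_away (f.appLE V₀ U₀ e₀ a)
    exact Algebra.IsStandardSmooth.trans A Γ(X, U₀) B
  let I : Ideal B := RingHom.ker (i.app U₁).hom
  -- generation by the base
  have hgen : ∀ b : B, ∃ c c₀ : A, IsUnit (algebraMap A B c) ∧ algebraMap A B c * b - algebraMap A B c₀ ∈ I := by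
    intro b
    have hsurj : Function.Surjective ((i ≫ f).app (Y.basicOpen a)) :=
      Scheme.Hom.app_surjective (i ≫ f) _ (hV₀.basicOpen a)
    obtain ⟨w, hw⟩ := hsurj (Z.presheaf.map (eqToHom hZ₁.symm).op (i.app U₁ b))
    haveI := hV₀.isLocalization_basicOpen a
    obtain ⟨⟨w₀, ⟨_, m, rfl⟩⟩, hw₀⟩ := IsLocalization.surj (Submonoid.powers a) w
    refine ⟨a ^ m, w₀, ?_, ?_⟩
    · rw [map_pow]
      refine IsUnit.pow _ ?_
      have := RingedSpace.isUnit_res_basicOpen X.toRingedSpace (f.appLE V₀ U₀ e₀ a)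
      change IsUnit (f.appLE V₀ U₁ e₁ a)
      rw [← Scheme.Hom.appLE_map f e₀ (homOfLE (X.basicOpen_le (f.appLE V₀ U₀ e₀ a))).op]
      exact this
    · rw [RingHom.mem_ker, map_sub, map_mul, sub_eq_zero]
      have hc : ∀ c : A, (i.app U₁).hom (algebraMap A B c) =
          Z.presheaf.map (eqToHom hZ₁).op ((i ≫ f).app (Y.basicOpen a) (algebraMap A Γ(Y, Y.basicOpen a) c)) := by
        intro c
        change (f.appLE V₀ U₁ e₁ ≫ i.app U₁) c =
          (Y.presheaf.map (homOfLE (Y.basicOpen_le a)).op ≫ (i ≫ f).app (Y.basicOpen a) ≫ Z.presheaf.map (eqToHom hZ₁).op) c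
        simp only [Scheme.Hom.app_eq_appLE, Scheme.Hom.appLE_comp_appLE, Scheme.Hom.appLE_map, Scheme.Hom.map_appLE]
      rw [hc, hc, ← hw₀, map_mul, map_mul, hw, mul_comm]
      congr 1
      change _ = (Z.presheaf.map (eqToHom hZ₁.symm).op ≫ Z.presheaf.map (eqToHom hZ₁).op) (i.app U₁ b)
      rw [← Functor.map_comp, ← op_comp, eqToHom_trans, eqToHom_refl, op_id, CategoryTheory.Functor.map_id]
      rfl
  let q := (hU₁a.primeIdealOf ⟨i.base z, hzU₁⟩).asIdeal
  obtain ⟨h, hh, K, hK, hKe⟩ := EtTopInv.exists_etale_quotient I hgen q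
  let U : X.Opens := X.basicOpen h
  have hUa : IsAffineOpen U := hU₁a.basicOpen h
  have hzU : i.base z ∈ U := by
    rw [X.mem_basicOpen h _ hzU₁]
    letI : Algebra B (X.presheaf.stalk (i.base z)) := (X.presheaf.germ U₁ _ hzU₁).hom.toAlgebra
    haveI : IsLocalization.AtPrime (X.presheaf.stalk (i.base z)) q := hU₁a.isLocalization_stalk ⟨i.base z, hzU₁⟩
    exact (IsLocalization.AtPrime.isUnit_to_map_iff (X.presheaf.stalk (i.base z)) q h).mpr hh
  letI algBU : Algebra B Γ(X, U) := (X.presheaf.map (homOfLE (X.basicOpen_le h)).op).hom.toAlgebra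
  haveI : IsLocalization.Away h Γ(X, U) := hU₁a.isLocalization_basicOpen h
  let ε : Localization.Away h ≃ₐ[B] Γ(X, U) := IsLocalization.algEquiv (Submonoid.powers h) _ _
  let π : Γ(X, U) →+* Localization.Away h ⧸ K := (Ideal.Quotient.mk K).comp ε.symm.toRingEquiv.toRingHom
  have hπ : Function.Surjective π := Ideal.Quotient.mk_surjective.comp ε.symm.surjective
  let jW : Spec (CommRingCat.of (Localization.Away h ⧸ K)) ⟶ U.toScheme :=
    Spec.map (CommRingCat.ofHom π) ≫ hUa.isoSpec.inv
  haveI : IsClosedImmersion (Spec.map (CommRingCat.ofHom π)) := IsClosedImmersion.spec_of_surjective _ hπ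
  haveI hj : IsClosedImmersion jW := inferInstanceAs (IsClosedImmersion (Spec.map (CommRingCat.ofHom π) ≫ hUa.isoSpec.inv))
  have e₂ : U ≤ f ⁻¹ᵁ V₀ := (X.basicOpen_le h).trans e₁
  have het : Etale (jW ≫ U.ι ≫ f) := by
    have e : jW ≫ U.ι ≫ f = Spec.map (CommRingCat.ofHom (algebraMap A (Localization.Away h ⧸ K))) ≫ hV₀.fromSpec := by
      have : hUa.isoSpec.inv ≫ U.ι = hUa.fromSpec := hUa.isoSpec_inv_ι
      simp only [jW, Category.assoc, reassoc_of% this]
      rw [← IsAffineOpen.SpecMap_appLE_fromSpec f hV₀ hUa e₂, ← Spec.map_comp_assoc]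
      congr 2
      ext c
      change Ideal.Quotient.mk K (ε.symm (f.appLE V₀ U e₂ c)) = algebraMap A (Localization.Away h ⧸ K) c
      have : f.appLE V₀ U e₂ c = algebraMap B Γ(X, U) (algebraMap A B c) := by
        change _ = (f.appLE V₀ U₁ e₁ ≫ X.presheaf.map (homOfLE (X.basicOpen_le h)).op) c
        rw [Scheme.Hom.appLE_map]
      rw [this, ε.symm.commutes, ← IsScalarTower.algebraMap_apply]
      rfl
    rw [e]
    haveI : Etale (Spec.map (CommRingCat.ofHom (algebraMap A (Localization.Away h ⧸ K)))) :=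
      (HasRingHomProperty.Spec_iff (P := @Etale)).mpr (RingHom.etale_algebraMap.mpr hKe)
    infer_instance
  refine ⟨U, hzU, _, jW, hj, het, ?_⟩
  -- factorisation
  let T := (i ⁻¹ᵁ U).toScheme
  let ρ : Γ(X, U) →+* Γ(T, ⊤) := (U.topIso.inv ≫ (i ∣_ U).appTop).hom
  have hρ : RingHom.ker π ≤ RingHom.ker ρ := by
    intro r hr
    rw [RingHom.mem_ker, RingHom.comp_apply, Ideal.Quotient.eq_zero_iff_mem] at hr
    have h2 : ε (ε.symm r) ∈ RingHom.ker ρ := by
      have hle : (I.map (algebraMap B (Localization.Away h))).map ε.toRingEquiv.toRingHom ≤ RingHom.ker ρ := by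
        rw [Ideal.map_map, Ideal.map_le_iff_le_comap]
        intro b hb
        rw [Ideal.mem_comap, RingHom.mem_ker, RingHom.comp_apply]
        change ρ (ε (algebraMap B (Localization.Away h) b)) = 0
        rw [ε.commutes]
        change (i ∣_ U).appTop (U.topIso.inv (X.presheaf.map (homOfLE (X.basicOpen_le h)).op b)) = 0
        have hb' : i.app U₁ b = 0 := hb
        have key : X.presheaf.map (homOfLE (X.basicOpen_le h)).op ≫ U.topIso.inv ≫ (i ∣_ U).appTop =
            i.app U₁ ≫ Z.presheaf.map (homOfLE (show (i ⁻¹ᵁ U).ι ''ᵁ ⊤ ≤ i ⁻¹ᵁ U₁ by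
              rw [Scheme.Opens.ι_image_top]; exact i.preimage_mono (X.basicOpen_le h))).op := by
          rw [Scheme.Hom.appTop, morphismRestrict_app, Scheme.Opens.topIso_inv]
          simp [Scheme.Hom.app_eq_appLE]
          erw [Scheme.Hom.map_appLE, Scheme.Hom.map_appLE]
        have := congrArg (fun φ => φ b) key
        simp only [CommRingCat.comp_apply, hb', map_zero] at this
        exact this.trans ((CommRingCat.comp_apply _ _ b).trans ((congrArg _ hb').trans (map_zero _)))
      exact hle (Ideal.mem_map_of_mem _ (hK hr))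
    rwa [AlgEquiv.apply_symm_apply] at h2
  let g₀ := RingHom.liftOfRightInverse π (Function.surjInv hπ) (Function.rightInverse_surjInv hπ) ⟨ρ, hρ⟩
  refine ⟨T.toSpecΓ ≫ Spec.map (CommRingCat.ofHom g₀), ?_⟩
  have hg : CommRingCat.ofHom π ≫ CommRingCat.ofHom g₀ = U.topIso.inv ≫ (i ∣_ U).appTop := by
    ext r
    exact RingHom.liftOfRightInverse_comp_apply π (Function.surjInv hπ) (Function.rightInverse_surjInv hπ) ⟨ρ, hρ⟩ r
  change (T.toSpecΓ ≫ Spec.map (CommRingCat.ofHom g₀)) ≫ Spec.map (CommRingCat.ofHom π) ≫ hUa.isoSpec.inv = _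
  rw [Category.assoc]
  erw [← Spec.map_comp_assoc]
  erw [hg]
  rw [← Category.assoc, Iso.comp_inv_eq, hUa.isoSpec_hom, Scheme.Opens.toSpecΓ, Spec.map_comp, ← Category.assoc,
    ← Category.assoc]
  congr 1
  exact (Scheme.toSpecΓ_naturality (i ∣_ U)).symm

end Groth.Agent.S15303
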