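import Groth.Statements.S15309
import Groth.Agent.Hyper5.DeRhamVanish

set_option autoImplicit false
universe u
open DeRhamSh

namespace Groth.Agent.S15309

open CategoryTheory AlgebraicGeometry TopologicalSpace in
/-- Let k be a field of characteristic zero and X a smooth affine k-scheme of finite type of dimension
at most n. Then the algebraic de Rham cohomology H^i_dR(X/k), the hypercohomology of the de Rham
complex of X over k, vanishes for every i > n. (The published statement gives vanishing above n + 1
for an arbitrary affine scheme of dimension n of finite type over k, possibly singular, whose de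
Rham cohomology is defined through a smooth embedding; for smooth X the sharper bound n holds, and
that case is stated here, for any de Rham complex of X over k.) -/
theorem result (k : Type u) [Field k] [CharZero k] (X : Scheme.{u})
    (f : X ⟶ Spec (CommRingCat.of k)) [IsAffine X] [QuasiSeparated f] [Smooth f]
    (n : ℕ) (hn : topologicalKrullDim ↥X ≤ n)
    (D : DeRhamSh.OmegaCx f)
    [HasDerivedCategory.{u} (Sheaf (Opens.grothendieckTopology ↥X) AddCommGrpCat.{u})]
    (i : ℤ) (hi : (n : ℤ) < i) :
    Subsingleton (DeRhamSh.HdR D i) := by
  refine Groth.Agent.Hyper5.subsingleton_HdR_smooth f n hn D 1 (fun F hF q hq => ?_) i (by omega)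
  haveI := hF
  exact Groth.Agent.Coherent.subsingleton_HH_of_isAffine F q (by omega)

end Groth.Agent.S15309
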