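import Groth.Statements.S15311
import Groth.Agent.Hyper5.AffineSpace

set_option autoImplicit false
universe u
open DeRhamSh

namespace Groth.Agent.S15311

open CategoryTheory AlgebraicGeometry TopologicalSpace in
/-- Let k be a field of characteristic zero and n ≥ 0. Then the algebraic de Rham cohomology of affine
n-space Spec k[x_1, …, x_n] over k, the hypercohomology of its de Rham complex, vanishes in every
degree i ≠ 0, and in degree 0 it is additively isomorphic to k (existence of an additive
isomorphism; the identification of H^0 with the constants is canonical). (The published computation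
also gives the de Rham homology of affine space; this row is the cohomology statement, for any de
Rham complex of affine n-space over k.) -/
theorem result (k : Type u) [Field k] [CharZero k] (n : ℕ)
    [QuasiSeparated (Spec.map (CommRingCat.ofHom (algebraMap k (MvPolynomial (Fin n) k))))]
    (D : DeRhamSh.OmegaCx (Spec.map (CommRingCat.ofHom (algebraMap k (MvPolynomial (Fin n) k)))))
    [HasDerivedCategory.{u} (Sheaf (Opens.grothendieckTopology ↥(Spec (CommRingCat.of (MvPolynomial (Fin n) k)))) AddCommGrpCat.{u})] :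
    (∀ i : ℤ, i ≠ 0 → Subsingleton (DeRhamSh.HdR D i)) ∧ Nonempty (DeRhamSh.HdR D 0 ≃+ k) := by
  open Groth.Agent in
  open exteriorPower in
  obtain ⟨d, hd⟩ : ∃ d, DeRham.IsDiff (KaehlerDifferential.D k (MvPolynomial (Fin n) k)) d := ⟨_, DR15.kaehler_isDiff⟩
  obtain ⟨h1, h2⟩ := Hyper5.isAcyclicForms_mvPolynomial k n d hd
  refine ⟨fun i hi => ?_, ?_⟩
  · rcases lt_or_gt_of_ne hi with hneg | hpos
    · haveI : (D.KZ).IsStrictlyGE 0 := by
        rw [CochainComplex.isStrictlyGE_iff]
        intro m hm
        exact D.K.isZero_extend_X ComplexShape.embeddingUpNat m fun p hp => by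
          simp only [ComplexShape.embeddingUpNat_f] at hp
          omega
      refine ⟨fun f g => ?_⟩
      haveI h2' : (DerivedCategory.Q.obj D.KZ).IsGE 0 := inferInstance
      haveI : ((CategoryTheory.shiftFunctor _ i).obj (DerivedCategory.Q.obj D.KZ)).IsGE (0 - i) :=
        DerivedCategory.TStructure.t.isGE_shift _ 0 i (0 - i) (by omega)
      exact (DerivedCategory.TStructure.t.zero f 0 (0 - i) (by omega)).trans
        (DerivedCategory.TStructure.t.zero g 0 (0 - i) (by omega)).symm
    · obtain ⟨m, rfl⟩ : ∃ m : ℕ, i = ((m + 1 : ℕ) : ℤ) := ⟨(i - 1).toNat, by omega⟩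
      obtain ⟨e⟩ := Hyper5.nonempty_HdR_equiv D hd (m + 1)
      obtain ⟨e'⟩ := Hyper5.nonempty_H_equiv hd (m + 1) (H := PUnit.{u+1}) (0 : _ →+ PUnit.{u+1})
        (fun y => ⟨0, Subsingleton.elim _ _⟩) (fun x => ⟨fun _ => h1 m x.2, fun _ => rfl⟩)
      exact (e.trans e'.symm).toEquiv.subsingleton
  · obtain ⟨e⟩ := Hyper5.nonempty_HdR_equiv D hd 0
    let φ : DeRham.cocycles d 0 →+ k :=
      (MvPolynomial.constantCoeff.toAddMonoidHom).comp ((exteriorPower.zeroEquiv (MvPolynomial (Fin n) k)
        (Ω[MvPolynomial (Fin n) k⁄k])).toAddMonoidHom.comp (DeRham.cocycles d 0).subtype.toAddMonoidHom)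
    have hval : ∀ c : k, MvPolynomial.constantCoeff (exteriorPower.zeroEquiv (MvPolynomial (Fin n) k) (Ω[MvPolynomial (Fin n) k⁄k])
        (DeRham.gen (KaehlerDifferential.D k (MvPolynomial (Fin n) k)) 0 (algebraMap k (MvPolynomial (Fin n) k) c) ![])) = c :=
      fun c => by simp [DeRham.gen, exteriorPower.zeroEquiv_ιMulti]
    have hcl : ∀ c : k, DeRham.gen (KaehlerDifferential.D k (MvPolynomial (Fin n) k)) 0
        (algebraMap k (MvPolynomial (Fin n) k) c) ![] ∈ DeRham.cocycles d 0 := fun c => by
      show d 0 _ = 0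
      rw [hd.1]
      exact (exteriorPower.ιMulti _ 1).map_coord_zero 0 ((Fin.cons_zero _ _).trans (Derivation.map_algebraMap _ c))
    obtain ⟨e'⟩ := Hyper5.nonempty_H_equiv hd 0 φ (fun c => ⟨⟨_, hcl c⟩, hval c⟩) (fun x => by
      show φ x = 0 ↔ (x : ↥(⋀[MvPolynomial (Fin n) k]^0 (Ω[MvPolynomial (Fin n) k⁄k]))) ∈ (⊥ : Submodule k _)
      rw [Submodule.mem_bot]
      obtain ⟨c, hc⟩ := h2 x.1 x.2
      refine ⟨fun h => ?_, fun h => ?_⟩
      · have : c = 0 := by
          have h' : MvPolynomial.constantCoeff (exteriorPower.zeroEquiv _ _ x.1) = 0 := h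
          rwa [hc, hval] at h'
        rw [hc, this, map_zero, DeRham.gen, zero_smul]
      · show MvPolynomial.constantCoeff (exteriorPower.zeroEquiv _ _ x.1) = 0
        rw [h, map_zero, map_zero])
    exact ⟨e.trans e'.symm⟩

end Groth.Agent.S15311
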