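import Groth.Statements.S15315
import Groth.Agent.ArNode.General
-- import your own Groth.Agent.* helpers here

set_option autoImplicit false
universe u
open ArLef

open Groth.Agent
namespace Groth.Agent.S15315

/-- For a Noetherian commutative ring A, elements a, b with a a non-zero-divisor on A/(b), and an ideal
I, one has length(A/(aI + bA)) = length(A/(a, b)) + length(A/(I + bA)) as extended natural numbers;
in particular when two of the three quotients have finite length so does the third. -/
theorem result (A : Type u) [CommRing A] [IsNoetherianRing A] (a b : A) (I : Ideal A)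
    (ha : IsSMulRegular (A ⧸ Ideal.span ({b} : Set A)) a) :
    Module.length A (A ⧸ (Ideal.span {a} * I ⊔ Ideal.span {b})) =
      Module.length A (A ⧸ Ideal.span ({a, b} : Set A)) + Module.length A (A ⧸ (I ⊔ Ideal.span {b})) := by
  refine ArNode.len_ideal_mul a b I fun r hr => ?_
  rw [← Ideal.mem_span_singleton, ← Ideal.Quotient.eq_zero_iff_mem] at hr ⊢
  refine ha ?_
  change a • (Ideal.Quotient.mk _ r) = a • (0 : A ⧸ Ideal.span ({b} : Set A))
  rw [smul_zero, ← hr, map_mul, Algebra.smul_def]
  rfl

end Groth.Agent.S15315
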