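import Groth.Statements.S15326
import Groth.Agent.ArNode.General
-- import your own Groth.Agent.* helpers here

set_option autoImplicit false
universe u
open ArLef

open Groth.Agent
namespace Groth.Agent.S15326

/-- Let A be a commutative ring, t an element generating a prime ideal (a local equation of an
irreducible component C of the closed fibre), v an element outside (t) with π = vt the uniformizer,
and σ a ring automorphism of A with σ(vt) = vt whose fixed-point ideal is contained in (t^i) for
some i ≥ 1 (C has multiplicity at least i in the fixed locus). Then σ(t) - t lies in t^(i+1) A_(t),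
the localization at the prime (t): σ - 1 vanishes on (t)/(t^(i+1)) at the generic point of C. -/
theorem result (A : Type u) [CommRing A] (t v : A)
    [ht : (Ideal.span ({t} : Set A)).IsPrime] (hv : v ∉ Ideal.span ({t} : Set A))
    (σ : A ≃+* A) (hσ : σ (v * t) = v * t) (i : ℕ) (hi : 1 ≤ i)
    (hI : ArLef.fixIdeal σ ≤ Ideal.span ({t ^ i} : Set A)) :
    algebraMap A (Localization.AtPrime (Ideal.span ({t} : Set A))) (σ t - t) ∈
      Ideal.span ({algebraMap A (Localization.AtPrime (Ideal.span ({t} : Set A))) (t ^ (i + 1))} :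
        Set (Localization.AtPrime (Ideal.span ({t} : Set A)))) := by
  set φ := algebraMap A (Localization.AtPrime (Ideal.span ({t} : Set A))) with hφ
  obtain ⟨a, ha⟩ := Ideal.mem_span_singleton'.1 (hI (ArNode.fix_mem σ t))
  obtain ⟨b, hb⟩ := Ideal.mem_span_singleton'.1 (hI (ArNode.fix_mem σ v))
  have hu : IsUnit (φ (v + b * t ^ i)) := by
    refine IsLocalization.map_units _ (⟨_, fun hm => hv ?_⟩ : (Ideal.span ({t} : Set A)).primeCompl)
    obtain ⟨k, rfl⟩ : ∃ k, i = k + 1 := ⟨i - 1, by omega⟩
    rw [show v = v + b * t ^ (k + 1) - b * t ^ k * t by ring]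
    exact Ideal.sub_mem _ hm (Ideal.mem_span_singleton'.2 ⟨_, rfl⟩)
  have hrel : (v + b * t ^ i) * (a * t ^ i) = -b * t ^ (i + 1) := by
    rw [map_mul, show σ v = v + b * t ^ i by linear_combination -hb,
      show σ t = t + a * t ^ i by linear_combination -ha] at hσ
    linear_combination hσ
  obtain ⟨w, hw⟩ := hu
  refine Ideal.mem_span_singleton'.2 ⟨↑w⁻¹ * φ (-b), ?_⟩
  rw [← ha, mul_assoc, ← map_mul, ← hrel, map_mul φ (v + b * t ^ i), ← hw, ← mul_assoc, Units.inv_mul, one_mul]

end Groth.Agent.S15326
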