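import Groth.Statements.S15328
import Groth.Agent.VB5.Higgs
import Groth.Agent.SGA3cLib.CentralDescent
import Groth.Agent.AbVarLib.GeomIntegralSmooth

set_option autoImplicit false
set_option linter.all false
open CategoryTheory AlgebraicGeometry CategoryTheory.Limits
open VBCurve

namespace Groth.Agent.S15328

/-- Let X be a smooth proper integral curve over the complex numbers, L an invertible module on X and
(E, φ) an L-valued Higgs bundle on X: E finite locally free of rank r ≥ 1 and φ : E → E ⊗ L. A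
submodule j : G → E (a monomorphism) is a Higgs submodule when φ restricts to it, that is, some ψ :
G → G ⊗ L followed by j ⊗ L equals j followed by φ; (E, φ) is semistable when deg G · r ≤ deg E · r'
for every finite locally free Higgs submodule G of rank r' ≥ 1, degrees being χ − rank · χ(O).
Suppose (E, φ) is semistable and F is a finite locally free Higgs submodule of rank r' ≥ 1 with the
same slope, deg F · r = deg E · r'. Then the quotient E/F is finite locally free of rank r − r' and
is semistable of the same slope for its induced Higgs field: for every φ' : E/F → (E/F) ⊗ L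
compatible with φ along the projection and every finite locally free submodule G of E/F of rank s ≥
1 to which φ' restricts, deg G · (r − r') ≤ deg(E/F) · s. (The published statement also assumes F
semistable, which the published argument does not use; this row omits it.) -/
theorem result
    (X : Scheme.{0}) [X.Over (Spec (CommRingCat.of ℂ))] [IsIntegral X]
    [IsProper (X ↘ Spec (CommRingCat.of ℂ))] [Smooth (X ↘ Spec (CommRingCat.of ℂ))]
    (hdim : topologicalKrullDim X = 1)
    (L : X.Modules) (hL : PicF.IsInvertible L)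
    (r : ℕ) (hr : 0 < r) (E : X.Modules) (hE : FlatMod.IsFinLocFreeOfRank r E)
    (φ : E ⟶ CohB1.tensorMod E L)
    (hss : ∀ (G : X.Modules) (s : ℕ) (j : G ⟶ E) (ψ : G ⟶ CohB1.tensorMod G L), Mono j → 0 < s →
      FlatMod.IsFinLocFreeOfRank s G →
      ψ ≫ (CohB1.sheafifyMod X).map (MonoidalCategoryStruct.whiskerRight (C := CohB1.PMod X) j.val (CohB1.toPMod L)) = j ≫ φ →
      Curv2.deg ℂ X G s * (r : ℤ) ≤ Curv2.deg ℂ X E r * (s : ℤ))
    (F : X.Modules) (r' : ℕ) (hr' : 0 < r') (hF : FlatMod.IsFinLocFreeOfRank r' F)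
    (i : F ⟶ E) [Mono i] (ψF : F ⟶ CohB1.tensorMod F L)
    (hψF : ψF ≫ (CohB1.sheafifyMod X).map (MonoidalCategoryStruct.whiskerRight (C := CohB1.PMod X) i.val (CohB1.toPMod L)) = i ≫ φ)
    (hslope : Curv2.deg ℂ X F r' * (r : ℤ) = Curv2.deg ℂ X E r * (r' : ℤ)) :
    FlatMod.IsFinLocFreeOfRank (r - r') (cokernel i) ∧
    ∀ (φ' : cokernel i ⟶ CohB1.tensorMod (cokernel i) L),
      cokernel.π i ≫ φ' = φ ≫ (CohB1.sheafifyMod X).map (MonoidalCategoryStruct.whiskerRight (C := CohB1.PMod X) (cokernel.π i).val (CohB1.toPMod L)) →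
      ∀ (G : X.Modules) (s : ℕ) (j : G ⟶ cokernel i) (ψ : G ⟶ CohB1.tensorMod G L), Mono j → 0 < s →
        FlatMod.IsFinLocFreeOfRank s G →
        ψ ≫ (CohB1.sheafifyMod X).map (MonoidalCategoryStruct.whiskerRight (C := CohB1.PMod X) j.val (CohB1.toPMod L)) = j ≫ φ' →
        Curv2.deg ℂ X G s * ((r - r' : ℕ) : ℤ) ≤ Curv2.deg ℂ X (cokernel i) (r - r') * (s : ℤ) := by
  haveI : GeometricallyConnected (X ↘ Spec (CommRingCat.of ℂ)) :=
    SGA3cLib.CentralDescent.geometricallyConnected_of_isAlgClosed _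
  haveI : GeometricallyIntegral (X ↘ Spec (CommRingCat.of ℂ)) := AbVarLib.geometricallyIntegral_of_smooth _
  haveI := CurveRR24.isLocallyNoetherian_of_proper ℂ (X := X)
  have hn := VB5.isIntegrallyClosed_stalk ℂ (X := X)
  have hFc := SplitP1.isCoh_of_rank hF
  have hss' : VB5.SSH ℂ φ := (VB5.ssh_iff ℂ hdim hn hE φ).2 fun G n j hj hn' hG hinv => by
    obtain ⟨χ, hχ⟩ := hinv
    exact hss G n j χ hj hn' hG (VB5.of_tens hχ)
  rw [VB5.deg_eq_gdeg ℂ hF, VB5.deg_eq_gdeg ℂ hE] at hslope
  obtain ⟨hC, -, hCss⟩ := VB5.quot_ssh hL ℂ hdim hn (EulerLib.shortExact_cokernel i) hr hE hFc φ ⟨ψF, VB5.to_tens hψF⟩ hss'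
    (by rw [VB5.grk_eq hF]; exact hslope)
  change FlatMod.IsFinLocFreeOfRank (r - VB5.grk F) (cokernel i) at hC
  rw [VB5.grk_eq hF] at hC
  exact ⟨hC, fun φ' hφ' G s j ψ hj hs hG hψ =>
    (VB5.ssh_iff ℂ hdim hn hC φ').1 (hCss φ' (VB5.to_tens' hφ')) G s j hj hs hG ⟨ψ, VB5.to_tens hψ⟩⟩

end Groth.Agent.S15328
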