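import Groth.Statements.S15330
import Groth.Agent.VB5.Higgs
import Groth.Agent.SGA3cLib.CentralDescent
import Groth.Agent.AbVarLib.GeomIntegralSmooth

set_option autoImplicit false
set_option linter.all false
open CategoryTheory AlgebraicGeometry CategoryTheory.Limits
open VBCurve

namespace Groth.Agent.S15330

/-- Let X be a smooth proper integral curve over the complex numbers, L an invertible module on X, and
(E, φ_E), (F, φ_F) two L-valued Higgs bundles on X of the same rank r ≥ 1 and the same degree d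
(degree = χ − rank · χ(O)), each semistable: deg G · r ≤ d · s for every finite locally free
submodule G of rank s ≥ 1 to which the Higgs field restricts. Let E_0 ⊂ E_1 ⊂ … ⊂ E_n = E with E_0 =
0 and F = F_0 ⊃ F_1 ⊃ … ⊃ F_n = 0 be chains of finite locally free submodules to which the Higgs
fields restrict, of ranks with rk E_i + rk F_i = r, which are opposite: E_{i+1}/E_i ≅ F_i/F_{i+1} as
O-modules for i < n. Then every E_i of positive rank and every F_i of positive rank has slope d/r,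
that is deg · r = d · rank, and is semistable for its restricted Higgs field; and each graded piece
E_{i+1}/E_i of positive rank is finite locally free of rank rk E_{i+1} − rk E_i, of slope d/r, and
semistable for every Higgs field on it compatible with that of E_{i+1} along the projection. (The
published statement indexes the second chain so that F_i/F_{i+1} matches E_i/E_{i−1} and takes the
isomorphisms of graded pieces as Higgs bundles; here they are assumed as O-modules only, together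
with the rank bookkeeping rk E_i + rk F_i = r that they imply.) -/
theorem result
    (X : Scheme.{0}) [X.Over (Spec (CommRingCat.of ℂ))] [IsIntegral X]
    [IsProper (X ↘ Spec (CommRingCat.of ℂ))] [Smooth (X ↘ Spec (CommRingCat.of ℂ))]
    (hdim : topologicalKrullDim X = 1)
    (L : X.Modules) (hL : PicF.IsInvertible L) (r : ℕ) (hr : 0 < r) (d : ℤ)
    (E : X.Modules) (hE : FlatMod.IsFinLocFreeOfRank r E) (φE : E ⟶ CohB1.tensorMod E L)
    (hEd : Curv2.deg ℂ X E r = d)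
    (hEss : (∀ (G : X.Modules) (s : ℕ) (j : G ⟶ E) (χ : G ⟶ CohB1.tensorMod G L), Mono j → 0 < s →
        FlatMod.IsFinLocFreeOfRank s G →
        χ ≫ (CohB1.sheafifyMod X).map (MonoidalCategoryStruct.whiskerRight (C := CohB1.PMod X) j.val (CohB1.toPMod L)) = j ≫ φE →
        Curv2.deg ℂ X G s * (r : ℤ) ≤ Curv2.deg ℂ X E r * (s : ℤ)))
    (F : X.Modules) (hF : FlatMod.IsFinLocFreeOfRank r F) (φF : F ⟶ CohB1.tensorMod F L)
    (hFd : Curv2.deg ℂ X F r = d)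
    (hFss : (∀ (G : X.Modules) (s : ℕ) (j : G ⟶ F) (χ : G ⟶ CohB1.tensorMod G L), Mono j → 0 < s →
        FlatMod.IsFinLocFreeOfRank s G →
        χ ≫ (CohB1.sheafifyMod X).map (MonoidalCategoryStruct.whiskerRight (C := CohB1.PMod X) j.val (CohB1.toPMod L)) = j ≫ φF →
        Curv2.deg ℂ X G s * (r : ℤ) ≤ Curv2.deg ℂ X F r * (s : ℤ)))
    (n : ℕ)
    (Es : ℕ → X.Modules) (rE : ℕ → ℕ) (hEs : ∀ i, FlatMod.IsFinLocFreeOfRank (rE i) (Es i))
    (ιE : ∀ i, Es i ⟶ E) (hιE : ∀ i, Mono (ιE i))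
    (ψE : ∀ i, Es i ⟶ CohB1.tensorMod (Es i) L)
    (hψE : ∀ i, ψE i ≫ (CohB1.sheafifyMod X).map (MonoidalCategoryStruct.whiskerRight (C := CohB1.PMod X) (ιE i).val (CohB1.toPMod L)) = ιE i ≫ φE)
    (a : ∀ i, Es i ⟶ Es (i + 1)) (ha : ∀ i, a i ≫ ιE (i + 1) = ιE i)
    (hE0 : IsZero (Es 0)) (hEn : IsIso (ιE n))
    (Fs : ℕ → X.Modules) (rF : ℕ → ℕ) (hFs : ∀ i, FlatMod.IsFinLocFreeOfRank (rF i) (Fs i))
    (ιF : ∀ i, Fs i ⟶ F) (hιF : ∀ i, Mono (ιF i))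
    (ψF : ∀ i, Fs i ⟶ CohB1.tensorMod (Fs i) L)
    (hψF : ∀ i, ψF i ≫ (CohB1.sheafifyMod X).map (MonoidalCategoryStruct.whiskerRight (C := CohB1.PMod X) (ιF i).val (CohB1.toPMod L)) = ιF i ≫ φF)
    (b : ∀ i, Fs (i + 1) ⟶ Fs i) (hb : ∀ i, b i ≫ ιF i = ιF (i + 1))
    (hF0 : IsIso (ιF 0)) (hFn : IsZero (Fs n))
    (hrk : ∀ i, i ≤ n → rE i + rF i = r)
    (hopp : ∀ i, i < n → Nonempty (cokernel (a i) ≅ cokernel (b i))) :
    (∀ i, i ≤ n → 0 < rE i →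
      Curv2.deg ℂ X (Es i) (rE i) * (r : ℤ) = d * (rE i : ℤ) ∧
      (∀ (G : X.Modules) (s : ℕ) (j : G ⟶ (Es i)) (χ : G ⟶ CohB1.tensorMod G L), Mono j → 0 < s →
        FlatMod.IsFinLocFreeOfRank s G →
        χ ≫ (CohB1.sheafifyMod X).map (MonoidalCategoryStruct.whiskerRight (C := CohB1.PMod X) j.val (CohB1.toPMod L)) = j ≫ ψE i →
        Curv2.deg ℂ X G s * (rE i : ℤ) ≤ Curv2.deg ℂ X (Es i) (rE i) * (s : ℤ))) ∧
    (∀ i, i ≤ n → 0 < rF i →
      Curv2.deg ℂ X (Fs i) (rF i) * (r : ℤ) = d * (rF i : ℤ) ∧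
      (∀ (G : X.Modules) (s : ℕ) (j : G ⟶ (Fs i)) (χ : G ⟶ CohB1.tensorMod G L), Mono j → 0 < s →
        FlatMod.IsFinLocFreeOfRank s G →
        χ ≫ (CohB1.sheafifyMod X).map (MonoidalCategoryStruct.whiskerRight (C := CohB1.PMod X) j.val (CohB1.toPMod L)) = j ≫ ψF i →
        Curv2.deg ℂ X G s * (rF i : ℤ) ≤ Curv2.deg ℂ X (Fs i) (rF i) * (s : ℤ))) ∧
    (∀ i, i < n → rE i < rE (i + 1) →
      FlatMod.IsFinLocFreeOfRank (rE (i + 1) - rE i) (cokernel (a i)) ∧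
      Curv2.deg ℂ X (cokernel (a i)) (rE (i + 1) - rE i) * (r : ℤ) = d * ((rE (i + 1) - rE i : ℕ) : ℤ) ∧
      ∀ (φ' : cokernel (a i) ⟶ CohB1.tensorMod (cokernel (a i)) L),
        cokernel.π (a i) ≫ φ' = ψE (i + 1) ≫ (CohB1.sheafifyMod X).map (MonoidalCategoryStruct.whiskerRight (C := CohB1.PMod X) (cokernel.π (a i)).val (CohB1.toPMod L)) →
        (∀ (G : X.Modules) (s : ℕ) (j : G ⟶ cokernel (a i)) (χ : G ⟶ CohB1.tensorMod G L), Mono j → 0 < s →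
        FlatMod.IsFinLocFreeOfRank s G →
        χ ≫ (CohB1.sheafifyMod X).map (MonoidalCategoryStruct.whiskerRight (C := CohB1.PMod X) j.val (CohB1.toPMod L)) = j ≫ φ' →
        Curv2.deg ℂ X G s * ((rE (i + 1) - rE i : ℕ) : ℤ) ≤ Curv2.deg ℂ X (cokernel (a i)) (rE (i + 1) - rE i) * (s : ℤ))) := by
  haveI : GeometricallyConnected (X ↘ Spec (CommRingCat.of ℂ)) :=
    SGA3cLib.CentralDescent.geometricallyConnected_of_isAlgClosed _
  haveI : GeometricallyIntegral (X ↘ Spec (CommRingCat.of ℂ)) := AbVarLib.geometricallyIntegral_of_smooth _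
  haveI := CurveRR24.isLocallyNoetherian_of_proper ℂ (X := X)
  have hn := VB5.isIntegrallyClosed_stalk ℂ (X := X)
  have hE' : VB5.SSH ℂ φE := (VB5.ssh_iff ℂ hdim hn hE φE).2 fun G m j hj hm hG hinv => by
    obtain ⟨χ, hχ⟩ := hinv
    exact hEss G m j χ hj hm hG (VB5.of_tens hχ)
  have hF' : VB5.SSH ℂ φF := (VB5.ssh_iff ℂ hdim hn hF φF).2 fun G m j hj hm hG hinv => by
    obtain ⟨χ, hχ⟩ := hinv
    exact hFss G m j χ hj hm hG (VB5.of_tens hχ)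
  rw [VB5.deg_eq_gdeg ℂ hE] at hEd
  rw [VB5.deg_eq_gdeg ℂ hF] at hFd
  haveI := hιE; haveI := hιF
  have cE := fun i => SplitP1.isCoh_of_rank (hEs i)
  have cF := fun i => SplitP1.isCoh_of_rank (hFs i)
  haveI : ∀ i, Mono (a i) := fun i => mono_of_mono_fac (ha i)
  haveI : ∀ i, Mono (b i) := fun i => mono_of_mono_fac (hb i)
  have leE : ∀ i, VB5.gdeg ℂ (Es i) * (r : ℤ) ≤ d * (rE i : ℤ) := fun i => by
    have := hE' (Es i) (ιE i) (hιE i) (cE i) ⟨ψE i, VB5.to_tens (hψE i)⟩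
    rwa [VB5.grk_eq hE, VB5.grk_eq (hEs i), hEd] at this
  have leF : ∀ i, VB5.gdeg ℂ (Fs i) * (r : ℤ) ≤ d * (rF i : ℤ) := fun i => by
    have := hF' (Fs i) (ιF i) (hιF i) (cF i) ⟨ψF i, VB5.to_tens (hψF i)⟩
    rwa [VB5.grk_eq hF, VB5.grk_eq (hFs i), hFd] at this
  have step : ∀ i, i < n → VB5.gdeg ℂ (Es (i + 1)) + VB5.gdeg ℂ (Fs (i + 1)) = VB5.gdeg ℂ (Es i) + VB5.gdeg ℂ (Fs i) := by
    intro i hi
    obtain ⟨e⟩ := hopp i hi
    have h1 := VB5.gdeg_additive ℂ (EulerLib.shortExact_cokernel (a i)) (cE i) (cE (i + 1))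
      (Coherent.isCoh_cokernel (a i) (cE i).1 (cE (i + 1)))
    have h2 := VB5.gdeg_additive ℂ (EulerLib.shortExact_cokernel (b i)) (cF (i + 1)) (cF i)
      (Coherent.isCoh_cokernel (b i) (cF (i + 1)).1 (cF i))
    change VB5.gdeg ℂ (Es (i + 1)) = VB5.gdeg ℂ (Es i) + VB5.gdeg ℂ (cokernel (a i)) at h1
    change VB5.gdeg ℂ (Fs i) = VB5.gdeg ℂ (Fs (i + 1)) + VB5.gdeg ℂ (cokernel (b i)) at h2
    rw [VB5.gdeg_congr ℂ e] at h1
    linarith
  have tot : ∀ i, i ≤ n → VB5.gdeg ℂ (Es i) + VB5.gdeg ℂ (Fs i) = d := by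
    intro i
    induction i with
    | zero =>
      intro _
      haveI := hF0
      rw [VB5.gdeg_of_isZero ℂ (cE 0) hE0, VB5.gdeg_congr ℂ (asIso (ιF 0)), hFd, zero_add]
    | succ i ih => intro h; rw [step i (by omega)]; exact ih (by omega)
  have eE : ∀ i, i ≤ n → VB5.gdeg ℂ (Es i) * (r : ℤ) = d * (rE i : ℤ) := fun i hi => by
    have h : (rE i : ℤ) + (rF i : ℤ) = (r : ℤ) := by exact_mod_cast hrk i hi
    have h1 : (VB5.gdeg ℂ (Es i) + VB5.gdeg ℂ (Fs i)) * (r : ℤ) = d * ((rE i : ℤ) + (rF i : ℤ)) := by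
      rw [tot i hi, h]
    linarith [leE i, leF i]
  have eF : ∀ i, i ≤ n → VB5.gdeg ℂ (Fs i) * (r : ℤ) = d * (rF i : ℤ) := fun i hi => by
    have h : (rE i : ℤ) + (rF i : ℤ) = (r : ℤ) := by exact_mod_cast hrk i hi
    have h1 : (VB5.gdeg ℂ (Es i) + VB5.gdeg ℂ (Fs i)) * (r : ℤ) = d * ((rE i : ℤ) + (rF i : ℤ)) := by
      rw [tot i hi, h]
    linarith [leE i, leF i]
  have hr0 : (0 : ℤ) < r := by exact_mod_cast hr
  have subss : ∀ {A B : X.Modules} (m : ℕ) (hA : FlatMod.IsFinLocFreeOfRank m A) (φB : B ⟶ CohB1.tensorMod B L)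
      (ι : A ⟶ B) [Mono ι] (ψA : A ⟶ CohB1.tensorMod A L), ψA ≫ VB5.tens ι L = ι ≫ φB → VB5.SSH ℂ φB →
      VB5.grk B = r → VB5.gdeg ℂ B = d → VB5.gdeg ℂ A * (r : ℤ) = d * (m : ℤ) → VB5.SSH ℂ ψA := by
    intro A B m hA φB ι _ ψA hψ hss hrB hdB heq G j hj hG hinv
    haveI := hj
    have := hss G (j ≫ ι) (mono_comp _ _) hG (VB5.inv_comp hL ι hψ j hinv)
    rw [hrB, hdB] at this
    rw [VB5.grk_eq hA]
    refine le_of_mul_le_mul_right ?_ hr0
    calc _ = VB5.gdeg ℂ G * (r : ℤ) * (m : ℤ) := by ring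
      _ ≤ d * (VB5.grk G : ℤ) * (m : ℤ) := mul_le_mul_of_nonneg_right this (Int.natCast_nonneg _)
      _ = d * (m : ℤ) * (VB5.grk G : ℤ) := by ring
      _ = _ := by rw [← heq]; ring
  refine ⟨fun i hi _ => ⟨by rw [VB5.deg_eq_gdeg ℂ (hEs i)]; exact eE i hi, fun G s j χ hj hs hG hχ =>
      (VB5.ssh_iff ℂ hdim hn (hEs i) (ψE i)).1 (subss _ (hEs i) φE (ιE i) (ψE i) (VB5.to_tens (hψE i)) hE' (VB5.grk_eq hE) hEd (eE i hi))
        G s j hj hs hG ⟨χ, VB5.to_tens hχ⟩⟩,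
    fun i hi _ => ⟨by rw [VB5.deg_eq_gdeg ℂ (hFs i)]; exact eF i hi, fun G s j χ hj hs hG hχ =>
      (VB5.ssh_iff ℂ hdim hn (hFs i) (ψF i)).1 (subss _ (hFs i) φF (ιF i) (ψF i) (VB5.to_tens (hψF i)) hF' (VB5.grk_eq hF) hFd (eF i hi))
        G s j hj hs hG ⟨χ, VB5.to_tens hχ⟩⟩,
    fun i hi hlt => ?_⟩
  have hs1 := subss _ (hEs (i + 1)) φE (ιE (i + 1)) (ψE (i + 1)) (VB5.to_tens (hψE (i + 1))) hE' (VB5.grk_eq hE) hEd (eE (i + 1) hi)
  have hinv : VB5.Inv (ψE (i + 1)) (a i) := ⟨ψE i, by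
    haveI : Mono (VB5.tens (ιE (i + 1)) L) := EulerLib.mono_tensorMap hL _
    rw [← cancel_mono (VB5.tens (ιE (i + 1)) L), Category.assoc, ← VB5.tens_comp, ha i, VB5.to_tens (hψE i), Category.assoc,
      VB5.to_tens (hψE (i + 1)), ← Category.assoc, ha i]⟩
  have hslope : VB5.gdeg ℂ (Es i) * (rE (i + 1) : ℤ) = VB5.gdeg ℂ (Es (i + 1)) * (rE i : ℤ) := by
    refine mul_left_cancel₀ hr0.ne' ?_
    linear_combination (rE (i + 1) : ℤ) * eE i hi.le - (rE i : ℤ) * eE (i + 1) hi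
  obtain ⟨hC, hCd, hCss⟩ := VB5.quot_ssh hL ℂ hdim hn (EulerLib.shortExact_cokernel (a i)) (show 0 < rE (i + 1) by omega)
    (hEs (i + 1)) (cE i) (ψE (i + 1)) hinv hs1 (by rw [VB5.grk_eq (hEs i)]; exact hslope)
  change FlatMod.IsFinLocFreeOfRank (rE (i + 1) - VB5.grk (Es i)) (cokernel (a i)) at hC
  rw [VB5.grk_eq (hEs i)] at hC
  refine ⟨hC, ?_, fun φ' hφ' G s j χ hj hs hG hχ => (VB5.ssh_iff ℂ hdim hn hC φ').1 (hCss φ' (VB5.to_tens' hφ')) G s j hj hs hG ⟨χ, VB5.to_tens hχ⟩⟩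
  rw [VB5.deg_eq_gdeg ℂ hC]
  change VB5.gdeg ℂ (cokernel (a i)) * (rE (i + 1) : ℤ) = VB5.gdeg ℂ (Es (i + 1)) * (VB5.grk (cokernel (a i)) : ℤ) at hCd
  rw [VB5.grk_eq hC] at hCd
  refine mul_left_cancel₀ (show (rE (i + 1) : ℤ) ≠ 0 by exact_mod_cast (show rE (i + 1) ≠ 0 by omega)) ?_
  linear_combination (r : ℤ) * hCd + ((rE (i + 1) - rE i : ℕ) : ℤ) * eE (i + 1) hi

end Groth.Agent.S15330
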