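import Groth.Statements.S15331
import Groth.Agent.VB5.Bound
import Groth.Agent.SGA3cLib.CentralDescent
import Groth.Agent.AbVarLib.GeomIntegralSmooth
import Groth.Agent.EulerLib.Scalar

set_option autoImplicit false
set_option linter.all false
universe u
open CategoryTheory CategoryTheory.Limits AlgebraicGeometry
open VBCurve

namespace Groth.Agent.S15331

/-- Let X be a smooth proper integral curve (integral, smooth and proper of dimension one) over an
algebraically closed field k and E a finite locally free O_X-module of rank r ≥ 1. Then the degrees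
of the finite locally free submodules F of E, of any rank r' (degree meaning χ(F) − r'·χ(O_X)), are
bounded above. -/
theorem result (k : Type u) [Field k] [IsAlgClosed k] (X : Scheme.{u}) [X.Over (Spec (CommRingCat.of k))]
    [IsIntegral X] [IsProper (X ↘ Spec (CommRingCat.of k))] [Smooth (X ↘ Spec (CommRingCat.of k))]
    (hdim : topologicalKrullDim X = 1)
    (r : ℕ) (hr : 0 < r) (E : X.Modules) (hE : FlatMod.IsFinLocFreeOfRank r E) :
    ∃ N : ℤ, ∀ (F : X.Modules) (r' : ℕ) (i : F ⟶ E), Mono i → FlatMod.IsFinLocFreeOfRank r' F →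
      Curv2.deg k X F r' ≤ N := by
  haveI : GeometricallyConnected (X ↘ Spec (CommRingCat.of k)) :=
    SGA3cLib.CentralDescent.geometricallyConnected_of_isAlgClosed _
  haveI : GeometricallyIntegral (X ↘ Spec (CommRingCat.of k)) := AbVarLib.geometricallyIntegral_of_smooth _
  haveI := CurveRR24.isLocallyNoetherian_of_proper k (X := X)
  have hn := VB5.isIntegrallyClosed_stalk k (X := X)
  refine ⟨(Module.finrank k (Coh.HH X E 0) : ℤ) + (r : ℤ) * (Curv2.genus k X : ℤ), fun F r' i hi hF => ?_⟩
  haveI := hi
  have h := VB5.deg_le_h0_add k hdim hF i (SplitP1.isCoh_of_rank hE)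
  have hle := (VB5.sub_bundle hdim.le hn hE i (SplitP1.isCoh_of_rank hF)).1
  rw [VB5.grk_eq hF] at hle
  have h1 : (r' : ℤ) * (Curv2.genus k X : ℤ) ≤ (r : ℤ) * (Curv2.genus k X : ℤ) :=
    mul_le_mul_of_nonneg_right (by exact_mod_cast hle) (Int.natCast_nonneg _)
  rw [mul_sub, mul_one] at h
  omega

end Groth.Agent.S15331
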