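import Groth.Statements.S15335
import Groth.Agent.VB5.Bound
import Groth.Agent.VB5.Line
import Groth.Agent.VB5.Ext
import Groth.Agent.SGA3cLib.CentralDescent
import Groth.Agent.AbVarLib.GeomIntegralSmooth

set_option autoImplicit false
set_option linter.all false
universe u
open CategoryTheory CategoryTheory.Limits AlgebraicGeometry
open VBCurve

namespace Groth.Agent.S15335

/-- Let X be a smooth proper integral curve (integral, smooth and proper of dimension one) over an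
algebraically closed field k, and E₁, E₂ finite locally free O_X-modules of ranks r₁ ≥ 1, r₂ ≥ 1.
The maximal slope of E₁ ⊕ E₂ is at most the larger of the maximal slopes of E₁ and E₂: if m₁, m₂ are
rational numbers such that every finite locally free submodule of positive rank of E₁ (resp. E₂) has
slope deg/rank ≤ m₁ (resp. ≤ m₂), degree meaning χ − rank·χ(O_X), then every finite locally free
submodule F of the biproduct E₁ ⊞ E₂ of rank r' ≥ 1 has slope deg F / r' ≤ max(m₁, m₂). -/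
theorem result (k : Type u) [Field k] [IsAlgClosed k] (X : Scheme.{u}) [X.Over (Spec (CommRingCat.of k))]
    [IsIntegral X] [IsProper (X ↘ Spec (CommRingCat.of k))] [Smooth (X ↘ Spec (CommRingCat.of k))]
    (hdim : topologicalKrullDim X = 1)
    (r₁ r₂ : ℕ) (hr₁ : 0 < r₁) (hr₂ : 0 < r₂) (E₁ E₂ : X.Modules)
    (hE₁ : FlatMod.IsFinLocFreeOfRank r₁ E₁) (hE₂ : FlatMod.IsFinLocFreeOfRank r₂ E₂) (m₁ m₂ : ℚ)
    (h₁ : ∀ (G : X.Modules) (r' : ℕ) (i : G ⟶ E₁), Mono i → 0 < r' → FlatMod.IsFinLocFreeOfRank r' G →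
      (Curv2.deg k X G r' : ℚ) / r' ≤ m₁)
    (h₂ : ∀ (G : X.Modules) (r' : ℕ) (i : G ⟶ E₂), Mono i → 0 < r' → FlatMod.IsFinLocFreeOfRank r' G →
      (Curv2.deg k X G r' : ℚ) / r' ≤ m₂)
    (F : X.Modules) (r' : ℕ) (i : F ⟶ E₁ ⊞ E₂) (hi : Mono i) (hr' : 0 < r')
    (hF : FlatMod.IsFinLocFreeOfRank r' F) :
    (Curv2.deg k X F r' : ℚ) / r' ≤ max m₁ m₂ := by
  haveI : GeometricallyConnected (X ↘ Spec (CommRingCat.of k)) :=
    SGA3cLib.CentralDescent.geometricallyConnected_of_isAlgClosed _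
  haveI : GeometricallyIntegral (X ↘ Spec (CommRingCat.of k)) := AbVarLib.geometricallyIntegral_of_smooth _
  haveI := CurveRR24.isLocallyNoetherian_of_proper k (X := X)
  have hn := VB5.isIntegrallyClosed_stalk k (X := X)
  haveI := hi
  let T := ShortComplex.mk (biprod.inl : E₁ ⟶ E₁ ⊞ E₂) (biprod.snd : E₁ ⊞ E₂ ⟶ E₂) (by simp)
  have hT : T.ShortExact := (ShortComplex.Splitting.ofHasBinaryBiproduct E₁ E₂).shortExact
  obtain ⟨G₁, G₂, i₁, i₂, hi₁, hi₂, hG₁, hG₂, hGr, hGd⟩ :=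
    VB5.exists_split_sub k hT (SplitP1.isCoh_of_rank hE₂) i (SplitP1.isCoh_of_rank hF)
  have key : ∀ (E : X.Modules) (re : ℕ) (_ : FlatMod.IsFinLocFreeOfRank re E) (m : ℚ)
      (_ : ∀ (G : X.Modules) (r' : ℕ) (i : G ⟶ E), Mono i → 0 < r' → FlatMod.IsFinLocFreeOfRank r' G →
        (Curv2.deg k X G r' : ℚ) / r' ≤ m) (G : X.Modules) (j : G ⟶ E), Mono j → Coh.IsCoh G →
      (VB5.gdeg k G : ℚ) ≤ (VB5.grk G : ℚ) * max m₁ m₂ ∨ ¬ m ≤ max m₁ m₂ := by
    intro E re hE m hm G j hj hG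
    refine (em _).imp_left fun hmm : m ≤ max m₁ m₂ => ?_
    rcases Nat.eq_zero_or_pos (VB5.grk G) with h0 | hpos
    · rw [(VB5.zero_rank_sub k hdim hn hE j hG h0).2, h0]; simp
    · have hGf := (VB5.sub_bundle hdim.le hn hE j hG).2
      have h := (hm G _ j hj hpos hGf).trans hmm
      rw [VB5.deg_eq_gdeg k hGf, div_le_iff₀ (by exact_mod_cast hpos), mul_comm] at h
      exact h
  have a1 := (key E₁ r₁ hE₁ m₁ h₁ G₁ i₁ hi₁ hG₁).resolve_right (not_not.2 (le_max_left _ _))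
  have a2 := (key E₂ r₂ hE₂ m₂ h₂ G₂ i₂ hi₂ hG₂).resolve_right (not_not.2 (le_max_right _ _))
  rw [VB5.deg_eq_gdeg k hF, div_le_iff₀ (by exact_mod_cast hr'), hGd]
  rw [VB5.grk_eq hF] at hGr
  rw [hGr]
  push_cast
  linarith

end Groth.Agent.S15335
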