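import Groth.Statements.S15338
import Groth.Agent.WeilFin.EtaleTriv

set_option autoImplicit false
universe u
open CategoryTheory CategoryTheory.Limits AlgebraicGeometry
open VBCurve

namespace Groth.Agent.S15338

/-- Let X be a smooth proper integral curve (integral, smooth and proper of dimension one) over an
algebraically closed field k of characteristic zero, and E a finite locally free O_X-module of rank
r which is isotrivial: there is a finite étale surjective morphism f : Y → X with f^*E ≅ O_Y^{⊕ r}.
Then E is finite in the sense of Weil: there are two distinct polynomials P ≠ Q with natural-number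
coefficients such that P(E) ≅ Q(E), where P(E) denotes the direct sum over i of P_i copies of the
i-th tensor power E^{⊗ i} (E^{⊗ 0} = O_X). -/
theorem result (k : Type u) [Field k] [IsAlgClosed k] (X : Scheme.{u}) [X.Over (Spec (CommRingCat.of k))]
    [IsIntegral X] [IsProper (X ↘ Spec (CommRingCat.of k))] [Smooth (X ↘ Spec (CommRingCat.of k))]
    (hdim : topologicalKrullDim X = 1) [CharZero k]
    (r : ℕ) (E : X.Modules) (hE : FlatMod.IsFinLocFreeOfRank r E)
    (Y : Scheme.{u}) (f : Y ⟶ X) [IsFinite f] [Etale f] [Surjective f]
    (htriv : Nonempty ((Scheme.Modules.pullback f).obj E ≅ FlatMod.freeMod Y r)) :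
    ∃ P Q : Polynomial ℕ, P ≠ Q ∧ Nonempty ((∐ fun i : Fin (P.natDegree + 1) => ∐ fun _ : Fin (P.coeff ↑i) => CohB1.tensorPow E ↑i) ≅
      (∐ fun i : Fin (Q.natDegree + 1) => ∐ fun _ : Fin (Q.coeff ↑i) => CohB1.tensorPow E ↑i)) := by
  haveI := CurveRR24.isLocallyNoetherian_of_proper k (X := X)
  obtain ⟨e⟩ := htriv
  have hf : Mor2.IsFinLocFree f := ⟨inferInstance, inferInstance, inferInstance⟩
  exact (WeilFin.bdd_of_trivialised k f hf (VB5.exists_rank_free hE) e).wf k (VB5.exists_rank_free hE)

end Groth.Agent.S15338
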