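import Groth.Statements.S15339
import Groth.Agent.VB5.Powers
import Groth.Agent.SGA3cLib.CentralDescent
import Groth.Agent.AbVarLib.GeomIntegralSmooth

set_option autoImplicit false
set_option linter.all false
universe u
open CategoryTheory CategoryTheory.Limits AlgebraicGeometry
open VBCurve

namespace Groth.Agent.S15339

/-- Let X be a smooth proper integral curve (integral, smooth and proper of dimension one) over an
algebraically closed field k and L an invertible O_X-module. Then L is finite in the sense of Weil: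
there are two distinct polynomials P ≠ Q with natural-number coefficients such that P(L) ≅ Q(L),
where P(L) denotes the direct sum over i of P_i copies of the i-th tensor power L^{⊗ i} (L^{⊗ 0} =
O_X) if and only if L^{⊗ m} ≅ O_X for some m > 0. -/
theorem result (k : Type u) [Field k] [IsAlgClosed k] (X : Scheme.{u}) [X.Over (Spec (CommRingCat.of k))]
    [IsIntegral X] [IsProper (X ↘ Spec (CommRingCat.of k))] [Smooth (X ↘ Spec (CommRingCat.of k))]
    (hdim : topologicalKrullDim X = 1)
    (L : X.Modules) (hL : PicF.IsInvertible L) :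
    (∃ P Q : Polynomial ℕ, P ≠ Q ∧ Nonempty ((∐ fun i : Fin (P.natDegree + 1) => ∐ fun _ : Fin (P.coeff ↑i) => CohB1.tensorPow L ↑i) ≅
      (∐ fun i : Fin (Q.natDegree + 1) => ∐ fun _ : Fin (Q.coeff ↑i) => CohB1.tensorPow L ↑i))) ↔
    ∃ m : ℕ, 0 < m ∧ Nonempty (CohB1.tensorPow L m ≅ Coh.structureModule X) := by
  haveI : GeometricallyConnected (X ↘ Spec (CommRingCat.of k)) :=
    SGA3cLib.CentralDescent.geometricallyConnected_of_isAlgClosed _
  haveI : GeometricallyIntegral (X ↘ Spec (CommRingCat.of k)) := AbVarLib.geometricallyIntegral_of_smooth _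
  haveI := CurveRR24.isLocallyNoetherian_of_proper k (X := X)
  have hn := VB5.isIntegrallyClosed_stalk k (X := X)
  constructor
  · rintro ⟨P, Q, hne, ⟨e⟩⟩
    by_contra h
    push Not at h
    exact hne (VB5.eq_of_evalPoly_iso k hdim hL (fun m hm he => (h m hm).false he.some) P Q e)
  · rintro ⟨m, hm, ⟨e⟩⟩
    refine ⟨Polynomial.X ^ m, 1, fun h => ?_, ?_⟩
    · have := congrArg Polynomial.natDegree h
      simp at this
      omega
    · have key : ∀ (P : Polynomial ℕ) (i₀ : ℕ) (hi : i₀ < P.natDegree + 1), (∀ i, P.coeff i = if i = i₀ then 1 else 0) →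
          Nonempty (VB5.evalPoly L P ≅ CohB1.tensorPow L i₀) := fun P i₀ hi h =>
        VB5.nonempty_single (fun i : Fin (P.natDegree + 1) => CohB1.tensorPow L ↑i) (fun i => P.coeff ↑i) ⟨i₀, hi⟩
          (by simp [h]) (fun i hne => by
            have : (i : ℕ) ≠ i₀ := fun h' => hne (Fin.ext h')
            simp [h, this])
      obtain ⟨a⟩ := key (Polynomial.X ^ m) m (by simp) (fun i => Polynomial.coeff_X_pow m i)
      obtain ⟨b⟩ := key (1 : Polynomial ℕ) 0 (by omega) (fun i => by rw [Polynomial.coeff_one])
      exact ⟨a ≪≫ e ≪≫ b.symm⟩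

end Groth.Agent.S15339
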