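import Groth.Statements.S15343
import Groth.Agent.WeilFin.EtaleTriv
import Groth.Agent.NeronLib.TorsorProp
import Groth.Agent.TorsorInj.FiniteIsom

set_option autoImplicit false
universe u
open CategoryTheory CategoryTheory.Limits AlgebraicGeometry
open VBCurve

namespace Groth.Agent.S15343

/-- Let X be a smooth proper integral curve (integral, smooth and proper of dimension one) over an
algebraically closed field k of characteristic zero, G a finite group scheme over k and j : P → X a
torsor (fppf-locally trivial) under the X-group scheme G ×_k X. If E is a finite locally free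
O_X-module of rank r with j^*E ≅ O_P^{⊕ r}, then E is finite in the sense of Weil: there are
distinct polynomials P' ≠ Q' with natural-number coefficients and P'(E) ≅ Q'(E), P'(E) being the
direct sum over i of P'_i copies of E^{⊗ i}. (The published statement says that in characteristic
zero an essentially finite bundle is finite; this row takes as hypothesis the characterisation of
essentially finite bundles as those trivialised by a torsor under a finite group scheme.) -/
theorem result (k : Type u) [Field k] [IsAlgClosed k] (X : Scheme.{u}) [X.Over (Spec (CommRingCat.of k))]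
    [IsIntegral X] [IsProper (X ↘ Spec (CommRingCat.of k))] [Smooth (X ↘ Spec (CommRingCat.of k))]
    (hdim : topologicalKrullDim X = 1) [CharZero k]
    (G : Scheme.{u}) [G.Over (Spec (CommRingCat.of k))] [GrpObj (G.asOver (Spec (CommRingCat.of k)))]
    [IsFinite (G ↘ Spec (CommRingCat.of k))]
    (P : Over X) (a : AlgGrp.Action (Red.bc (X ↘ Spec (CommRingCat.of k)) (G.asOver (Spec (CommRingCat.of k)))) P)
    (hP : NonAbH1.IsTorsorFor Scheme.fppfPrecoverage a)
    (r : ℕ) (E : X.Modules) (hE : FlatMod.IsFinLocFreeOfRank r E)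
    (htriv : Nonempty ((Scheme.Modules.pullback P.hom).obj E ≅ FlatMod.freeMod P.left r)) :
    ∃ P' Q' : Polynomial ℕ, P' ≠ Q' ∧ Nonempty ((∐ fun i : Fin (P'.natDegree + 1) => ∐ fun _ : Fin (P'.coeff ↑i) => CohB1.tensorPow E ↑i) ≅
      (∐ fun i : Fin (Q'.natDegree + 1) => ∐ fun _ : Fin (Q'.coeff ↑i) => CohB1.tensorPow E ↑i)) := by
  haveI := CurveRR24.isLocallyNoetherian_of_proper k (X := X)
  haveI := Et18.descends_isFinite.{u}
  haveI : MorphismProperty.IsLocalAtTarget @IsFinite.{u} Scheme.fppfPrecoverage :=
    AlgSpLib.isLocalAtTarget_fppf _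
  haveI : Surjective (G ↘ Spec (CommRingCat.of k)) :=
    ⟨fun y => ⟨(MonObj.one (X := G.asOver (Spec (CommRingCat.of k)))).left y,
      congrArg (fun φ : Spec (CommRingCat.of k) ⟶ Spec (CommRingCat.of k) => φ y)
        (Over.w (MonObj.one (X := G.asOver (Spec (CommRingCat.of k)))))⟩⟩
  haveI : Flat (G ↘ Spec (CommRingCat.of k)) := inferInstance
  have h1 : IsFinite P.hom := NeronLib.Formal.prop_of_torsor hP @IsFinite
    (MorphismProperty.pullback_snd (P := @IsFinite) _ _ ‹IsFinite (G ↘ Spec (CommRingCat.of k))›)
  have h2 : Flat P.hom := NeronLib.Formal.prop_of_torsor hP @Flat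
    (MorphismProperty.pullback_snd (P := @Flat) _ _ ‹Flat (G ↘ Spec (CommRingCat.of k))›)
  have h3 : Surjective P.hom := NeronLib.Formal.prop_of_torsor hP @Surjective
    (MorphismProperty.pullback_snd (P := @Surjective) _ _ ‹Surjective (G ↘ Spec (CommRingCat.of k))›)
  obtain ⟨e⟩ := htriv
  have hf : Mor2.IsFinLocFree P.hom := ⟨h1, h2, TorsorInj.lfp_of_finite_flat P.hom⟩
  exact (WeilFin.bdd_of_trivialised k P.hom hf (VB5.exists_rank_free hE) e).wf k (VB5.exists_rank_free hE)

end Groth.Agent.S15343
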