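import Groth.Statements.S15344
import Mathlib
import Groth.Agent.Misc15.MonoLift
-- import your own Groth.Agent.* helpers here

set_option autoImplicit false
universe u
open CategoryTheory CategoryTheory.Limits AlgebraicGeometry
open Mor

namespace Groth.Agent.S15344
set_option backward.isDefEq.respectTransparency false

/-- Let f : Y ⟶ X be a monomorphism of schemes, X quasi-separated. Then the projection Y ×_X X' ⟶ X'
reflects specializations (if the image of y₁ specializes to the image of y₀ then y₁ specializes to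
y₀) after every base change X' ⟶ X if and only if, for every valuation ring A with fraction field K
and every commutative square Spec K ⟶ Y, Spec A ⟶ X over f such that, in addition, some morphism
from the spectrum of the residue field of A to Y lies over Spec A ⟶ X, the square admits a lift Spec
A ⟶ Y. -/
theorem result {X Y : Scheme.{u}} [QuasiSeparatedSpace ↥X]
    (f : Y ⟶ X) [Mono f] :
    (∀ (X' : Scheme.{u}) (g : X' ⟶ X) (y₀ y₁ : ↥(pullback f g)),
        (pullback.snd f g).base y₁ ⤳ (pullback.snd f g).base y₀ → y₁ ⤳ y₀) ↔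
      ∀ S : ValuativeCommSq f,
        (∃ l₀ : Spec (CommRingCat.of (IsLocalRing.ResidueField S.R)) ⟶ Y,
            l₀ ≫ f = Spec.map (CommRingCat.ofHom (IsLocalRing.residue S.R)) ≫ S.i₂) →
          S.commSq.HasLift := by
  constructor
  · intro H S ⟨l₀, hl₀⟩
    obtain ⟨R, K, i₁, i₂, ⟨w⟩⟩ := S
    have : IsDomain (CommRingCat.of R) := ‹_›
    have : ValuationRing (CommRingCat.of R) := ‹_›
    let : Field (CommRingCat.of K) := ‹_›
    dsimp only at l₀ hl₀
    let pt : ↥(Spec (CommRingCat.of (IsLocalRing.ResidueField R))) := IsLocalRing.closedPoint _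
    let lft := pullback.lift i₁ (Spec.map (CommRingCat.ofHom (algebraMap R K))) w
    have hclosed : Spec.map (CommRingCat.ofHom (IsLocalRing.residue R)) pt =
        IsLocalRing.closedPoint R := IsLocalRing.comap_closedPoint (IsLocalRing.residue R)
    let lft₀ := pullback.lift l₀ (Spec.map (CommRingCat.ofHom (IsLocalRing.residue R))) hl₀
    set x := lft₀ pt with hx
    have h₂ : pullback.snd f i₂ x = IsLocalRing.closedPoint R := by
      rw [hx, ← Scheme.Hom.comp_apply, pullback.lift_snd]; exact hclosed
    have h₁ : lft (IsLocalRing.closedPoint _) ⤳ x := by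
      refine H _ i₂ x _ ?_
      show pullback.snd f i₂ (lft (IsLocalRing.closedPoint _)) ⤳ pullback.snd f i₂ x
      rw [h₂]
      exact IsLocalRing.specializes_closedPoint (R := R) _
    let e : CommRingCat.of R ≅ (Spec <| .of R).presheaf.stalk (pullback.snd f i₂ x) :=
      (stalkClosedPointIso (.of R)).symm ≪≫
        (Spec <| .of R).presheaf.stalkCongr (.of_eq h₂.symm)
    let α := e.hom ≫ (pullback.snd f i₂).stalkMap x
    have : IsLocalHom e.hom.hom := isLocalHom_of_isIso e.hom
    have : IsLocalHom α.hom := inferInstanceAs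
      (IsLocalHom (((pullback.snd f i₂).stalkMap x).hom.comp e.hom.hom))
    let β := (pullback f i₂).presheaf.stalkSpecializes h₁ ≫ Scheme.stalkClosedPointTo lft
    have hαβ : α ≫ β = CommRingCat.ofHom (algebraMap R K) := by
      simp only [CommRingCat.coe_of, Iso.trans_hom, Iso.symm_hom, TopCat.Presheaf.stalkCongr_hom,
        Category.assoc, α, e, β, stalkClosedPointIso_inv, StructureSheaf.toStalk]
      change (Scheme.ΓSpecIso (.of R)).inv ≫ (Spec <| .of R).presheaf.germ _ _ _ ≫ _ = _
      simp only [TopCat.Presheaf.germ_stalkSpecializes_assoc, Scheme.Hom.germ_stalkMap_assoc]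
      simp only [TopologicalSpace.Opens.map_top]
      rw [Scheme.germ_stalkClosedPointTo lft ⊤ trivial]
      erw [← Scheme.Hom.comp_app_assoc lft (pullback.snd f i₂)]
      rw [pullback.lift_snd]
      simp
    have hbij := (bijective_rangeRestrict_comp_of_valuationRing (R := R) (K := K) α.hom β.hom
      (CommRingCat.hom_ext_iff.mp hαβ))
    let φ : (pullback f i₂).presheaf.stalk x ⟶ CommRingCat.of R := CommRingCat.ofHom <|
      (RingEquiv.ofBijective _ hbij).symm.toRingHom.comp β.hom.rangeRestrict
    have hαφ : α ≫ φ = 𝟙 _ := by ext x; exact (RingEquiv.ofBijective _ hbij).symm_apply_apply x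
    have hαφ' : (pullback.snd f i₂).stalkMap x ≫ φ = e.inv := by
      rw [← cancel_epi e.hom, ← Category.assoc, hαφ, e.hom_inv_id]
    have hl : (Spec.map φ ≫ (pullback f i₂).fromSpecStalk x) ≫ pullback.snd f i₂ = 𝟙 _ := by
      rw [Category.assoc, ← Scheme.SpecMap_stalkMap_fromSpecStalk, ← Spec.map_comp_assoc, hαφ']
      simp only [Iso.trans_inv, TopCat.Presheaf.stalkCongr_inv, Iso.symm_inv, Spec.map_comp,
        Category.assoc, Scheme.SpecMap_stalkSpecializes_fromSpecStalk, e]
      rw [← Spec_stalkClosedPointIso, ← Spec.map_comp, Iso.inv_hom_id, Spec.map_id]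
    set L := (Spec.map φ ≫ (pullback f i₂).fromSpecStalk x) ≫ pullback.fst f i₂ with hL
    have hL₂ : L ≫ f = i₂ := by
      rw [hL, Category.assoc, pullback.condition, ← Category.assoc, hl, Category.id_comp]
    refine ⟨⟨⟨L, ?_, hL₂⟩⟩⟩
    rw [← cancel_mono f, Category.assoc, hL₂]
    exact w.symm
  · intro H X' g y₀ y₁ h
    let P := pullback f g
    let s : P ⟶ X' := pullback.snd f g
    change s y₁ ⤳ s y₀ at h
    obtain ⟨l₀, hl₀⟩ := Misc15.exists_lift_fromSpecResidueField s y₀
    obtain ⟨l₁, hl₁⟩ := Misc15.exists_lift_fromSpecResidueField s y₁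
    let φ : X'.presheaf.stalk (s y₀) ⟶ X'.residueField (s y₁) :=
      X'.presheaf.stalkSpecializes h ≫ X'.residue (s y₁)
    obtain ⟨A, hA, hA_local⟩ := IsLocalRing.exists_factor_valuationRing φ.hom
    let ψ : X'.presheaf.stalk (s y₀) ⟶ .of A := CommRingCat.ofHom (φ.hom.codRestrict A.toSubring hA)
    let j : Spec (.of A) ⟶ X' := Spec.map ψ ≫ X'.fromSpecStalk (s y₀)
    have hj₁ : X'.fromSpecResidueField (s y₁) =
        Spec.map (CommRingCat.ofHom (algebraMap A (X'.residueField (s y₁)))) ≫ j := by
      rw [Scheme.fromSpecResidueField, ← Scheme.SpecMap_stalkSpecializes_fromSpecStalk h]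
      simp only [j, ← Spec.map_comp_assoc]
      rfl
    let ψκ : X'.residueField (s y₀) ⟶ .of (IsLocalRing.ResidueField A) :=
      CommRingCat.ofHom (@IsLocalRing.ResidueField.map (X'.presheaf.stalk (s y₀)) A _ _ _ _
        ψ.hom hA_local)
    have hj₀ : Spec.map ψκ ≫ X'.fromSpecResidueField (s y₀) =
        Spec.map (CommRingCat.ofHom (IsLocalRing.residue A)) ≫ j := by
      simp only [Scheme.fromSpecResidueField, j, ← Spec.map_comp_assoc]
      rfl
    let S : ValuativeCommSq f := { R := A, K := X'.residueField (s y₁), i₁ := l₁ ≫ pullback.fst f g, i₂ := j ≫ g, commSq := ⟨by rw [Category.assoc, pullback.condition, reassoc_of% hl₁, hj₁, Category.assoc]⟩ }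
    obtain ⟨⟨⟨L, -, hL⟩⟩⟩ := H S ⟨Spec.map ψκ ≫ l₀ ≫ pullback.fst f g, by
      rw [Category.assoc, Category.assoc, pullback.condition, reassoc_of% hl₀, reassoc_of% hj₀]⟩
    let L' : Spec (.of A) ⟶ P := pullback.lift L j hL
    have hs : L' ≫ s = j := pullback.lift_snd _ _ _
    have e₀ : L' (IsLocalRing.closedPoint A) = y₀ := by
      apply s.injective
      rw [← Scheme.Hom.comp_apply, hs]
      show X'.fromSpecStalk (s y₀) (Spec.map ψ (IsLocalRing.closedPoint A)) = _
      have : Spec.map ψ (IsLocalRing.closedPoint A) =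
          IsLocalRing.closedPoint (X'.presheaf.stalk (s y₀)) :=
        IsLocalRing.comap_closedPoint (S := A) (φ.hom.codRestrict A.toSubring hA)
      rw [this, Scheme.fromSpecStalk_closedPoint]
    let q : ↥(Spec (.of A)) := Spec.map (CommRingCat.ofHom (algebraMap A (X'.residueField (s y₁))))
      (IsLocalRing.closedPoint _)
    have e₁ : L' q = y₁ := by
      apply s.injective
      rw [← Scheme.Hom.comp_apply, hs, ← Scheme.Hom.comp_apply, ← hj₁]
      exact Scheme.fromSpecResidueField_apply _ _
    have hq := (IsLocalRing.specializes_closedPoint (R := A) q).map L'.continuous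
    rwa [e₀, e₁] at hq

end Groth.Agent.S15344
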