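import Groth.Statements.S15347
import Mathlib
-- import your own Groth.Agent.* helpers here

set_option autoImplicit false
universe u
open CategoryTheory CategoryTheory.Limits AlgebraicGeometry
open Mor

namespace Groth.Agent.S15347

/-- Let f : Y ⟶ X be an immersion of schemes. Then: for every valuation ring A with fraction field K and
every commutative square Spec K ⟶ Y, Spec A ⟶ X over f such that some morphism from the spectrum of
the residue field of A to Y lies over Spec A ⟶ X, the square admits a lift; and for every integral
domain A and every morphism s : Spec A ⟶ X such that the points of a dense subset of Spec A lift to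
Y (the residue field of each such point maps to Y over s), there is a nonempty open subscheme U of
Spec A with a morphism U ⟶ Y over s. (The published statement is for a representable, locally
finitely presented morphism of algebraic stacks with locally Noetherian target and a quasi-compact
immersion, and also lists that f is a monomorphism; this row is the case of schemes, for any
immersion and any target.) -/
theorem result {X Y : Scheme.{u}} (f : Y ⟶ X) [IsImmersion f] :
    (∀ S : ValuativeCommSq f,
        (∃ l₀ : Spec (CommRingCat.of (IsLocalRing.ResidueField S.R)) ⟶ Y,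
            l₀ ≫ f = Spec.map (CommRingCat.ofHom (IsLocalRing.residue S.R)) ≫ S.i₂) →
          S.commSq.HasLift) ∧
      ∀ (A : Type u) [CommRing A] [IsDomain A] (s : Spec (CommRingCat.of A) ⟶ X) (D : Set ↥(Spec (CommRingCat.of A))),
        Dense D →
        (∀ p ∈ D, ∃ l : Spec ((Spec (CommRingCat.of A)).residueField p) ⟶ Y,
            l ≫ f = (Spec (CommRingCat.of A)).fromSpecResidueField p ≫ s) →
          ∃ U : (Spec (CommRingCat.of A)).Opens, (U : Set ↥(Spec (CommRingCat.of A))).Nonempty ∧
            ∃ l : (U : Scheme.{u}) ⟶ Y, l ≫ f = U.ι ≫ s := by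
  constructor
  · intro S ⟨l₀, hl₀⟩
    have hrange : Set.range S.i₂ ⊆ Set.range f.coborderRange.ι := by
      have hc : S.i₂ (IsLocalRing.closedPoint S.R) ∈ f.coborderRange := by
        let pt : ↥(Spec (CommRingCat.of (IsLocalRing.ResidueField S.R))) :=
          IsLocalRing.closedPoint (IsLocalRing.ResidueField S.R)
        have h1 : f (l₀ pt) = S.i₂ (IsLocalRing.closedPoint S.R) := by
          rw [← Scheme.Hom.comp_apply, hl₀, Scheme.Hom.comp_apply]
          congr 1
          exact IsLocalRing.comap_closedPoint (IsLocalRing.residue S.R)
        rw [← h1]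
        exact (subset_coborder (s := Set.range f)) ⟨_, rfl⟩
      rintro _ ⟨q, rfl⟩
      rw [Scheme.Opens.range_ι]
      exact ((IsLocalRing.specializes_closedPoint (R := S.R) q).map S.i₂.continuous).mem_open
        f.coborderRange.isOpen hc
    let i' := IsOpenImmersion.lift f.coborderRange.ι S.i₂ hrange
    have hw : S.i₁ ≫ f.liftCoborder =
        Spec.map (CommRingCat.ofHom (algebraMap S.R S.K)) ≫ i' := by
      rw [← cancel_mono f.coborderRange.ι, Category.assoc, Category.assoc,
        f.liftCoborder_ι, IsOpenImmersion.lift_fac]
      exact S.commSq.w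
    have hex : ValuativeCriterion.Existence f.liftCoborder := by
      rw [ValuativeCriterion.Existence.eq]
      exact MorphismProperty.universally_mono
        (fun _ _ g (hg : topologically @IsClosedMap g) => IsClosedMap.specializingMap hg)
        _ (universallyClosed_iff _ |>.1 inferInstance)
    obtain ⟨⟨⟨l, h1, h2⟩⟩⟩ :=
      hex { R := S.R, K := S.K, i₁ := S.i₁, i₂ := i', commSq := ⟨hw⟩ }
    refine ⟨⟨⟨l, h1, ?_⟩⟩⟩
    calc l ≫ f = (l ≫ f.liftCoborder) ≫ f.coborderRange.ι := by
          rw [Category.assoc, f.liftCoborder_ι]
      _ = S.i₂ := by rw [h2]; exact IsOpenImmersion.lift_fac _ _ _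
  · intro A _ _ s D hD hl
    have hpts : ∀ p ∈ D, s p ∈ Set.range f := by
      intro p hp
      obtain ⟨l, hl⟩ := hl p hp
      refine ⟨l default, ?_⟩
      rw [← Scheme.Hom.comp_apply, hl, Scheme.Hom.comp_apply, Scheme.fromSpecResidueField_apply]
    obtain ⟨p₀, hp₀⟩ := hD.nonempty
    let U : (Spec (CommRingCat.of A)).Opens := s ⁻¹ᵁ f.coborderRange
    have hU : p₀ ∈ U := subset_coborder (hpts p₀ hp₀)
    refine ⟨U, ⟨p₀, hU⟩, ?_⟩
    let s' : (U : Scheme.{u}) ⟶ f.coborderRange := s.resLE f.coborderRange U le_rfl
    have hs' : s' ≫ f.coborderRange.ι = U.ι ≫ s := Scheme.Hom.resLE_comp_ι _ _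
    have hsurj : Surjective (pullback.snd f.liftCoborder s') := by
      constructor
      have hd : Dense (U.ι ⁻¹' D) := hD.preimage U.ι.isOpenEmbedding.isOpenMap
      intro q
      have hsub : U.ι ⁻¹' D ⊆ Set.range (pullback.snd f.liftCoborder s') := by
        intro r hr
        obtain ⟨y, hy⟩ := hpts _ hr
        have : f.liftCoborder y = s' r := by
          apply f.coborderRange.ι.isOpenEmbedding.injective
          rw [← Scheme.Hom.comp_apply, f.liftCoborder_ι, hy]
          exact (congr($hs' r)).symm
        obtain ⟨z, -, hz⟩ := Scheme.Pullback.exists_preimage_pullback y r this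
        exact ⟨z, hz⟩
      exact closure_minimal hsub (pullback.snd f.liftCoborder s').isClosedEmbedding.isClosed_range (hd q)
    have := isIso_of_isClosedImmersion_of_surjective (pullback.snd f.liftCoborder s')
    refine ⟨inv (pullback.snd f.liftCoborder s') ≫ pullback.fst _ _, ?_⟩
    calc (inv (pullback.snd f.liftCoborder s') ≫ pullback.fst _ _) ≫ f
        = inv (pullback.snd f.liftCoborder s') ≫
            (pullback.fst _ _ ≫ f.liftCoborder) ≫ f.coborderRange.ι := by
          simp only [Category.assoc, f.liftCoborder_ι]
      _ = U.ι ≫ s := by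
          rw [pullback.condition, Category.assoc, IsIso.inv_hom_id_assoc, hs']

end Groth.Agent.S15347
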