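import Groth.Statements.S15348
import Groth.Agent.Stk19b.MonoPoints
import Groth.Agent.Stk19b.DvrImmersion
import Groth.Agent.Stk19.AlgSt.LocQThm

set_option autoImplicit false
set_option linter.style.haveILetI false
universe u
open CategoryTheory CategoryTheory.Limits AlgebraicGeometry
open Mor

set_option backward.isDefEq.respectTransparency.types false
set_option backward.isDefEq.respectTransparency false

open CategoryTheory AlgebraicGeometry Groth.Agent

namespace Groth.Agent.S15348


/-- Let X be a locally Noetherian scheme and f : Y ⟶ X a monomorphism locally of finite presentation.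
Assume: for every discrete valuation ring A with fraction field K and every commutative square Spec
K ⟶ Y, Spec A ⟶ X over f such that some morphism from the spectrum of the residue field of A to Y
lies over Spec A ⟶ X, the square admits a lift; and for every integral domain A and every morphism s
: Spec A ⟶ X such that the points of a dense subset of Spec A lift to Y (the residue field of each
such point maps to Y over s), some nonempty open subscheme of Spec A maps to Y over s. Then f is an
immersion (f is then also quasi-compact; that is not part of this statement). (The published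
statement is for a representable morphism of algebraic stacks; this row is the case of schemes.) -/
theorem result {X Y : Scheme.{u}} [IsLocallyNoetherian X]
    (f : Y ⟶ X) [LocallyOfFinitePresentation f] [Mono f]
    (hb : ∀ S : ValuativeCommSq f, IsDiscreteValuationRing S.R →
        (∃ l₀ : Spec (CommRingCat.of (IsLocalRing.ResidueField S.R)) ⟶ Y,
            l₀ ≫ f = Spec.map (CommRingCat.ofHom (IsLocalRing.residue S.R)) ≫ S.i₂) →
          S.commSq.HasLift)
    (hc : ∀ (A : Type u) [CommRing A] [IsDomain A] (s : Spec (CommRingCat.of A) ⟶ X) (D : Set ↥(Spec (CommRingCat.of A))),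
        Dense D →
        (∀ p ∈ D, ∃ l : Spec ((Spec (CommRingCat.of A)).residueField p) ⟶ Y,
            l ≫ f = (Spec (CommRingCat.of A)).fromSpecResidueField p ≫ s) →
          ∃ U : (Spec (CommRingCat.of A)).Opens, (U : Set ↥(Spec (CommRingCat.of A))).Nonempty ∧
            ∃ l : (U : Scheme.{u}) ⟶ Y, l ≫ f = U.ι ≫ s) :
    IsImmersion f := by
  let U : Over X := Over.mk (𝟙 X)
  let Yo : Over X := Over.mk f
  let φ : Yo ⟶ U := Over.homMk f (Category.comp_id f)
  haveI : IsLocallyNoetherian U.left := inferInstanceAs (IsLocallyNoetherian X)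
  haveI : Mono φ := ⟨fun g g' e => Over.OverMorphism.ext ((cancel_mono f).1 (congrArg CommaMorphism.left e))⟩
  haveI : Mono ((AlgSp.yon X).map φ) := inferInstance
  have hqc : QuasiCompact f := by
    rw [quasiCompact_iff_forall_isAffineOpen]
    intro O hO
    have h := Stk19b.isCompact_preimage_of_mono (U := U) ((AlgSp.yon X).map φ) (fun A _ _ sA c hD => ?_) ⟨O, hO⟩
    · have h' := h.image (AlgSp.Points.schemeHomeo Yo).symm.continuous
      convert! h' using 1
      rw [Homeomorph.image_symm]
      ext (y : Y)
      show f y ∈ O ↔ (Stk19b.basePt ((AlgSp.yon X).map φ) (AlgSp.Points.ofScheme Yo y) : X) ∈ O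
      rw [Stk19b.basePt, AlgSpLib.map_yon_map_ofScheme, AlgSp.Points.toScheme_ofScheme]
      rfl
    · obtain ⟨V, hV, l, hl⟩ := hc A c.left (c.left ⁻¹' Set.range (Stk19b.basePt ((AlgSp.yon X).map φ))) hD
        fun p hp => by
          obtain ⟨z, hz⟩ := hp
          let i : Over.mk ((Spec (CommRingCat.of A)).fromSpecResidueField p ≫ sA) ⟶ U :=
            (Over.homMk ((Spec (CommRingCat.of A)).fromSpecResidueField p) rfl :
              Over.mk ((Spec (CommRingCat.of A)).fromSpecResidueField p ≫ sA) ⟶ Over.mk sA) ≫ c
          obtain ⟨s, hs⟩ := Stk19b.exists_section_residue (AlgSp.IsAlgSpace.yon_obj Yo) ((AlgSp.yon X).map φ)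
            ((Stk19.locP_yon_iff AlgSpLib.etLocal_lfp φ).2 ‹_›) z (k := (Spec (CommRingCat.of A)).residueField p) i
            (by rw [hz]; exact congrArg c.left (Scheme.fromSpecResidueField_apply _ _))
          obtain ⟨t, rfl⟩ := (AlgSp.yon X).map_surjective s
          rw [← Functor.map_comp] at hs
          exact ⟨t.left, congrArg CommaMorphism.left ((AlgSp.yon X).map_injective hs)⟩
      refine ⟨V, hV, (AlgSp.yon X).map (Over.homMk l ?_), ?_⟩
      · show l ≫ f = V.ι ≫ sA
        have hc' : c.left ≫ 𝟙 X = sA := Over.w c
        rw [hl]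
        exact congrArg (V.ι ≫ ·) ((Category.comp_id c.left).symm.trans hc')
      · rw [← Functor.map_comp]
        congr 1
        exact Over.OverMorphism.ext hl
  refine Stk19b.isImmersion_of_dvrLift f fun R _ _ _ ψ h1 h2 => ?_
  obtain ⟨l, hl⟩ := h1
  obtain ⟨l₀, hl₀⟩ := h2
  let Sq : ValuativeCommSq f :=
    { R := R, K := FractionRing R, i₁ := l, i₂ := ψ, commSq := ⟨hl⟩ }
  haveI := hb Sq ‹IsDiscreteValuationRing R› ⟨l₀, hl₀⟩
  exact ⟨Sq.commSq.lift, Sq.commSq.fac_right⟩

end Groth.Agent.S15348
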