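import Groth.Statements.S15351
import Groth.Agent.FlatMor12.SmoothSectionOpen

set_option autoImplicit false
universe u
open CategoryTheory CategoryTheory.Limits AlgebraicGeometry
open MoreMor

namespace Groth.Agent.S15351

/-- Let f : X ⟶ S be a smooth morphism of schemes, X quasi-separated, with a section e : S ⟶ X, and let
X⁰ ⊆ X be the union over the points s of S of the connected component of e(s) in the fibre f⁻¹(s)
with its subspace topology. Then X⁰ is open in X; no quasi-compactness is assumed. (The published
statement is for an algebraic space X smooth over S; this row is the case of a scheme.) -/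
theorem result {S X : Scheme.{u}} [QuasiSeparatedSpace ↥X] (f : X ⟶ S) [Smooth f]
    (e : S ⟶ X) (he : e ≫ f = 𝟙 S) :
    IsOpen (MoreMor.sectionComponents f e) := by
  exact FlatMor12.SmoothSectionOpen.isOpen_sectionComponents f e he

end Groth.Agent.S15351
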