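import Groth.Statements.S15352
import Groth.Agent.SGA3cLib.NeutralSmooth
import Mathlib
-- import your own Groth.Agent.* helpers here

set_option autoImplicit false
set_option backward.isDefEq.respectTransparency.types false
universe u
open CategoryTheory MonoidalCategory CartesianMonoidalCategory MonObj GrpObj
open CategoryTheory CategoryTheory.Limits MonoidalCategory CartesianMonoidalCategory MonObj GrpObj AlgebraicGeometry
open GrpSch

namespace Groth.Agent.S15352

open Groth.Agent.AlgGrpLib Groth.Agent.H8Grp TopologicalSpace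

variable {k : Type u} [Field k] (G : Over (Spec (CommRingCat.of k))) [GrpObj G]

/-- Points of the unit component are products of a point of `U` and one of `V`. -/
theorem mem_mul_open (U V : G.left.Opens) (hU : (U : Set G.left).Nonempty) (hV : (V : Set G.left).Nonempty)
    (hUC : (U : Set G.left) ⊆ connectedComponent (ConnComp.e₀ G))
    (hVC : (V : Set G.left) ⊆ connectedComponent (ConnComp.e₀ G)) (y : G.left)
    (hy : y ∈ connectedComponent (ConnComp.e₀ G)) :
    ∃ q : ↥(G ⊗ G).left, (fst G G).left.base q ∈ U ∧ (snd G G).left.base q ∈ V ∧ μ[G].left.base q = y := by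
  rw [ConnComp.connectedComponent_eq] at hy hUC hVC
  obtain ⟨θ, hθ, hθmax⟩ := DimLib.exists_genericPoint_of_mem_components
    (irreducibleComponent_mem_irreducibleComponents (ConnComp.e₀ G))
  have hθU : θ ∈ U := by
    obtain ⟨a, ha⟩ := hU
    exact (hθ.specializes (hUC ha)).mem_open U.isOpen ha
  have hθV : θ ∈ V := by
    obtain ⟨a, ha⟩ := hV
    exact (hθ.specializes (hVC ha)).mem_open V.isOpen ha
  obtain ⟨ω, hωmax, hωy, hωσ, hω⟩ := ConnComp.exists_generic_lift G y
  let P := DenseMul.ptObj y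
  let p := (fst G P).left
  let hh : ↥(G ⊗ P).left ≃ₜ ↥(G ⊗ P).left := ((Over.forget _).mapIso (DenseMul.sigma y)).hom.homeomorph
  haveI : Flat p := MorphismProperty.pullback_fst (P := @Flat) (f := G.hom) (g := P.hom)
    (show Flat P.hom from inferInstance)
  have hωθ : p ω = θ := ConnComp.uniqueMax G y _ _ hωmax hθmax hωy (hθ.specializes hy)
  obtain ⟨ω₁, hω₁, hmax₁⟩ := DimLib.exists_maximal_specializes (X := (G ⊗ P).left) ω
  have hp₁ : p ω₁ = θ := by
    have h := (hω₁.map p.continuous)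
    rw [hωθ] at h
    exact (hθmax _ h).symm
  have hσ₁ : p (hh ω₁) = θ := by
    have hm : ∀ z, z ⤳ hh ω₁ → hh ω₁ = z := fun z hz => by
      have := hz.map hh.symm.continuous
      rw [hh.symm_apply_apply] at this
      rw [hmax₁ _ this, hh.apply_symm_apply]
    exact ConnComp.uniqueMax G (p (hh ω)) _ _ (DimLib.isMax_apply_of_flat p hm) hθmax
      ((hω₁.map hh.continuous).map p.continuous) (hθ.specializes hωσ)
  obtain ⟨q, ⟨a1, b1⟩, hq⟩ : ∃ q, q ∈ DenseMul.prodSet (U : Set G.left) (V : Set G.left) ∧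
      μ[G].left.base q = y :=
    DenseMul.mem_mul_of_mem y ω₁ (hp₁.symm ▸ hθU) (show p (hh ω₁) ∈ _ from hσ₁.symm ▸ hθV)
  exact ⟨q, a1, b1, hq⟩


/-- Let k be an algebraically closed field, G a group scheme locally of finite type over k, G⁰ ⊆ G the
connected component of the unit point, and U a nonempty open subscheme of G contained in G⁰. Then
every point of G⁰ is in the image of the morphism U ×_k U ⟶ G, (g, h) ↦ g·h⁻¹. (The published
statement writes U as an open of G mapping to G⁰ × G⁰; this row makes the containment U ⊆ G⁰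
explicit.) -/
theorem result (k : Type u) [Field k] [IsAlgClosed k]
    (G : Over (Spec (CommRingCat.of k))) [GrpObj G] [LocallyOfFiniteType G.hom] (U : G.left.Opens)
    (hne : (U : Set ↥G.left).Nonempty)
    (hU : (U : Set ↥G.left) ⊆ connectedComponent (η[G].left.base (IsLocalRing.closedPoint k))) :
    connectedComponent (η[G].left.base (IsLocalRing.closedPoint k)) ⊆ Set.range
      ((((Over.homMk U.ι rfl : Over.mk (U.ι ≫ G.hom) ⟶ G) ⊗ₘ
          ((Over.homMk U.ι rfl : Over.mk (U.ι ≫ G.hom) ⟶ G) ≫ ι[G])) ≫ μ[G]).left.base) := by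
  intro y hy
  let i : Over.mk (U.ι ≫ G.hom) ⟶ G := Over.homMk U.ι rfl
  let e := ConnComp.e₀ G
  let inv := (ι[G]).left
  have hinv : ∀ z, inv (inv z) = z := fun z => by
    show ((ι[G] ≫ ι[G]).left) z = z
    rw [GrpObj.inv_comp_inv]
    rfl
  have he : inv e = e := by
    show ((η[G] ≫ ι[G]).left) (IsLocalRing.closedPoint k) = _
    rw [GrpObj.one_inv]
  let V : G.left.Opens := inv ⁻¹ᵁ U
  have hVC : (V : Set G.left) ⊆ connectedComponent e := fun z hz => by
    have := inv.continuous.image_connectedComponent_subset e (Set.mem_image_of_mem inv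
      (show inv z ∈ connectedComponent e from hU hz))
    rwa [hinv, he] at this
  obtain ⟨a, ha⟩ := hne
  obtain ⟨q, hq1, hq2, hqy⟩ := mem_mul_open G U V ⟨a, ha⟩ ⟨inv a, show inv (inv a) ∈ U by rw [hinv]; exact ha⟩ hU hVC y hy
  let q' := (G ◁ ι[G]).left q
  have h1 : (fst G G).left q' ∈ U := by
    show ((G ◁ ι[G]) ≫ fst G G).left q ∈ U
    rw [whiskerLeft_fst]
    exact hq1
  have h2 : (snd G G).left q' ∈ U := by
    show ((G ◁ ι[G]) ≫ snd G G).left q ∈ U
    rw [whiskerLeft_snd]
    exact hq2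
  obtain ⟨r, hr⟩ : q' ∈ Set.range (i ⊗ₘ i).left := by
    rw [Over.tensorHom_left, Scheme.Pullback.range_map]
    exact ⟨(Scheme.Opens.range_ι U).symm ▸ h1, (Scheme.Opens.range_ι U).symm ▸ h2⟩
  refine ⟨r, ?_⟩
  have h3 : (i ⊗ₘ (i ≫ ι[G])) ≫ μ[G] = (i ⊗ₘ i) ≫ (G ◁ ι[G]) ≫ μ[G] := by
    rw [← Category.assoc, ← id_tensorHom, tensorHom_comp_tensorHom, Category.comp_id]
  show ((i ⊗ₘ (i ≫ ι[G])) ≫ μ[G]).left r = y
  rw [h3]
  show μ[G].left ((G ◁ ι[G]).left ((i ⊗ₘ i).left r)) = y
  rw [hr]
  show μ[G].left (((G ◁ ι[G]) ≫ (G ◁ ι[G])).left q) = y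
  rw [← MonoidalCategory.whiskerLeft_comp, GrpObj.inv_comp_inv, MonoidalCategory.whiskerLeft_id]
  exact hqy

end Groth.Agent.S15352
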