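import Groth.Statements.S15353
import Mathlib.Algebra.Module.StablyFree.Basic
import Mathlib.RingTheory.PicardGroup
import Mathlib.RingTheory.TotallySplit
import Mathlib.Tactic

set_option linter.all false

set_option autoImplicit false
universe u
open CAlg

open scoped TensorProduct

namespace Groth.Agent.S15353

section
variable {R A : Type u} [CommRing R] [CommRing A] [Algebra R A]

theorem mk_eq_zero_iff (hsurj : Function.Surjective (algebraMap R A)) (P : Type u) [AddCommGroup P]
    [Module R P] (y : P) :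
    (1 : A) ⊗ₜ[R] y = 0 ↔ y ∈ (RingHom.ker (algebraMap R A) • ⊤ : Submodule R P) := by
  let e : (R ⧸ RingHom.ker (Algebra.ofId R A)) ≃ₐ[R] A := Ideal.quotientKerAlgEquivOfSurjective hsurj
  let E := (TensorProduct.congr e.toLinearEquiv (LinearEquiv.refl R P)).symm.trans
    (TensorProduct.quotTensorEquivQuotSMul P (RingHom.ker (Algebra.ofId R A)))
  have hE : E ((1 : A) ⊗ₜ[R] y) = Submodule.Quotient.mk y := by
    have h1 : e.toLinearEquiv.symm 1 = Ideal.Quotient.mk _ (1 : R) := map_one e.symm
    simp only [E, LinearEquiv.trans_apply, TensorProduct.congr_symm_tmul, h1, LinearEquiv.refl_symm, LinearEquiv.refl_apply, TensorProduct.quotTensorEquivQuotSMul_mk_tmul, one_smul]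
  rw [← E.map_eq_zero_iff, hE, Submodule.Quotient.mk_eq_zero]
  rfl

theorem linearEquiv_self_of_baseChange (hsurj : Function.Surjective (algebraMap R A))
    (hnil : IsNilpotent (RingHom.ker (algebraMap R A))) (P : Type u) [AddCommGroup P] [Module R P]
    [Module.Projective R P] (eP : A ⊗[R] P ≃ₗ[A] A) : Nonempty (P ≃ₗ[R] R) := by
  set N := RingHom.ker (algebraMap R A)
  obtain ⟨p₀, hp₀⟩ := TensorProduct.mk_surjective R P A hsurj (eP.symm 1)
  have hp₀' : eP ((1 : A) ⊗ₜ[R] p₀) = 1 := by
    rw [show (1 : A) ⊗ₜ[R] p₀ = eP.symm 1 from hp₀, eP.apply_symm_apply]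
  let g : R →ₗ[R] P := LinearMap.toSpanSingleton R P p₀
  have hsup : (N • ⊤ : Submodule R P) ⊔ LinearMap.range g = ⊤ := by
    refine eq_top_iff.mpr fun y _ => ?_
    obtain ⟨a, ha⟩ := hsurj (eP ((1 : A) ⊗ₜ[R] y))
    have hy : (1 : A) ⊗ₜ[R] (y - a • p₀) = 0 := by
      apply eP.injective
      rw [TensorProduct.tmul_sub, map_sub, TensorProduct.tmul_smul, ← algebraMap_smul A a ((1 : A) ⊗ₜ[R] p₀),
        map_smul, hp₀', ha, smul_eq_mul, mul_one, sub_self, map_zero]
    exact Submodule.mem_sup.mpr ⟨_, (mk_eq_zero_iff hsurj P _).mp hy, g a, ⟨a, rfl⟩, sub_add_cancel y _⟩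
  have hall : ∀ j, (N ^ j • ⊤ : Submodule R P) ⊔ LinearMap.range g = ⊤ := by
    intro j; induction j with
    | zero => simp [Ideal.one_eq_top]
    | succ j ih =>
      have h2 : (N • ⊤ : Submodule R P) ≤ N ^ (j + 1) • ⊤ ⊔ LinearMap.range g := by
        conv_lhs => rw [← ih, Submodule.smul_sup, ← mul_smul, ← pow_succ']
        apply sup_le
        · exact le_sup_left
        · rw [Submodule.smul_le]
          intro r _ z hz
          exact Submodule.mem_sup_right (Submodule.smul_mem _ r hz)
      exact top_unique (hsup.ge.trans (sup_le h2 le_sup_right))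
  have hgs : Function.Surjective g := by
    obtain ⟨k, hk⟩ := hnil
    have h := hall k
    rw [hk, Submodule.zero_eq_bot, Submodule.bot_smul, bot_sup_eq] at h
    exact LinearMap.range_eq_top.mp h
  obtain ⟨s, hs⟩ := Module.projective_lifting_property g LinearMap.id hgs
  have hs' : ∀ y, s y • p₀ = y := fun y => LinearMap.congr_fun hs y
  set ε := 1 - s p₀ with hε
  have hidem : IsIdempotentElem ε := by
    have h : s p₀ * s p₀ = s p₀ := by rw [← smul_eq_mul, ← map_smul, hs']
    show ε * ε = ε
    rw [hε]; linear_combination h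
  have hεN : ε ∈ N := by
    rw [RingHom.mem_ker]
    have h : (1 : A) ⊗ₜ[R] (ε • p₀) = 0 := by rw [hε, sub_smul, one_smul, hs', sub_self, TensorProduct.tmul_zero]
    have h2 := congrArg eP h
    rwa [TensorProduct.tmul_smul, ← algebraMap_smul A ε ((1 : A) ⊗ₜ[R] p₀), map_smul, hp₀', smul_eq_mul, mul_one, map_zero] at h2
  have hε0 : ε = 0 := by
    obtain ⟨k, hk⟩ := hnil
    refine hidem.eq_zero_of_isNilpotent ⟨k, ?_⟩
    simpa [hk] using Ideal.pow_mem_pow hεN k
  refine ⟨(LinearEquiv.ofBijective g ⟨fun x y h => ?_, hgs⟩).symm⟩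
  have h' : x • p₀ = y • p₀ := h
  have := congrArg s h'
  simp only [map_smul, smul_eq_mul] at this
  rwa [show s p₀ = 1 by linear_combination -hε0 + hε, mul_one, mul_one] at this

theorem exists_lift (hsurj : Function.Surjective (algebraMap R A))
    (hnil : IsNilpotent (RingHom.ker (algebraMap R A))) (M : Type u) [AddCommGroup M] [Module A M]
    [Module.Finite A M] [Module.Projective A M] :
    ∃ (P : Type u) (_ : AddCommGroup P) (_ : Module R P), Module.Finite R P ∧ Module.Projective R P ∧
      Nonempty (A ⊗[R] P ≃ₗ[A] M) := by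
  classical
  obtain ⟨n, q, i, hq, hi, hqi⟩ := Module.Finite.exists_comp_eq_id_of_projective A M
  let E : Matrix (Fin n) (Fin n) A := LinearMap.toMatrix' (i ∘ₗ q)
  have hE : IsIdempotentElem E := by
    show _ * _ = _
    rw [← LinearMap.toMatrix'_comp, LinearMap.comp_assoc, ← LinearMap.comp_assoc _ i q, hqi, LinearMap.id_comp]
  let F := (algebraMap R A).mapMatrix (m := Fin n)
  obtain ⟨k, hk⟩ := hnil
  have hker : ∀ X ∈ RingHom.ker F, IsNilpotent X := by
    intro X hX
    have hX' : ∀ a b, X a b ∈ RingHom.ker (algebraMap R A) := fun a b => congrFun (congrFun hX a) b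
    have hpow : ∀ j a b, (X ^ j) a b ∈ RingHom.ker (algebraMap R A) ^ j := by
      intro j; induction j with
      | zero => intro a b; simp [Ideal.one_eq_top]
      | succ j ih =>
        intro a b
        rw [pow_succ, pow_succ, Matrix.mul_apply]
        exact sum_mem fun c _ => Ideal.mul_mem_mul (ih a c) (hX' c b)
    exact ⟨k, by ext a b; simpa [hk] using hpow k a b⟩
  obtain ⟨E', hE', hEE'⟩ := exists_isIdempotentElem_eq_of_ker_isNilpotent F hker E
    ⟨Matrix.of fun a b => Function.surjInv hsurj (E a b), by ext a b; simp [F, Function.surjInv_eq hsurj]⟩ hE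
  let ε : (Fin n → R) →ₗ[R] (Fin n → R) := Matrix.toLin' E'
  have hεε : ε ∘ₗ ε = ε := by rw [← Matrix.toLin'_mul, hE'.eq]
  let P := LinearMap.range ε
  let π : (Fin n → R) →ₗ[R] P := ε.rangeRestrict
  let ι : P →ₗ[R] (Fin n → R) := P.subtype
  have hπι : π ∘ₗ ι = LinearMap.id := by
    ext ⟨x, y, rfl⟩ : 1
    exact Subtype.ext (LinearMap.congr_fun hεε y)
  have hιπ : ι ∘ₗ π = ε := rfl
  haveI : Module.Finite R P := Module.Finite.of_surjective π ε.surjective_rangeRestrict
  haveI : Module.Projective R P := Module.Projective.of_split ι π hπι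
  let c := (TensorProduct.piScalarRight R A A (Fin n))
  have hc : ∀ x : A ⊗[R] (Fin n → R), c (ε.baseChange A x) = (i ∘ₗ q) (c x) := by
    intro x
    induction x using TensorProduct.induction_on with
    | zero => simp
    | add x y hx hy => simp only [map_add, hx, hy]
    | tmul a f =>
      have hiq : ∀ v, (i ∘ₗ q) v = E.mulVec v := fun v => by
        rw [← Matrix.toLin'_apply, show Matrix.toLin' E = i ∘ₗ q from Matrix.toLin'_toMatrix' _]
      rw [hiq]
      ext b
      simp only [c, LinearMap.baseChange_tmul, TensorProduct.piScalarRight_apply, TensorProduct.piScalarRightHom_tmul, ε, Matrix.toLin'_apply, Matrix.mulVec, dotProduct]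
      simp only [← hEE', F, RingHom.mapMatrix_apply, Matrix.map_apply, Finset.sum_smul, mul_smul]
      refine Finset.sum_congr rfl fun d _ => ?_
      rw [Algebra.smul_def, Algebra.smul_def]
  let φ : A ⊗[R] P →ₗ[A] M := q ∘ₗ c.toLinearMap ∘ₗ ι.baseChange A
  let ψ : M →ₗ[A] A ⊗[R] P := π.baseChange A ∘ₗ c.symm.toLinearMap ∘ₗ i
  refine ⟨P, inferInstance, inferInstance, inferInstance, inferInstance,
    ⟨LinearEquiv.ofLinear φ ψ ?_ ?_⟩⟩
  · ext m
    simp only [φ, ψ, LinearMap.comp_apply, LinearEquiv.coe_coe, LinearMap.id_apply]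
    rw [← LinearMap.comp_apply (ι.baseChange A), ← LinearMap.baseChange_comp, hιπ, hc, c.apply_symm_apply]
    have := LinearMap.congr_fun hqi
    simp only [LinearMap.comp_apply, LinearMap.id_apply] at this ⊢
    rw [this, this]
  · refine LinearMap.ext fun x => ?_
    simp only [φ, ψ, LinearMap.comp_apply, LinearEquiv.coe_coe, LinearMap.id_apply]
    rw [← LinearMap.comp_apply i q, ← hc, c.symm_apply_apply, ← LinearMap.comp_apply (π.baseChange A), ← LinearMap.baseChange_comp,
      ← LinearMap.comp_apply (LinearMap.baseChange A _) (ι.baseChange A), ← LinearMap.baseChange_comp]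
    have hπ : (π ∘ₗ ε) ∘ₗ ι = LinearMap.id := by
      rw [← hιπ, ← LinearMap.comp_assoc π ι π, hπι, LinearMap.id_comp, hπι]
    rw [hπ, LinearMap.baseChange_id]; rfl

end

/-- Let f : A' → A be a surjective ring homomorphism whose kernel is a nilpotent ideal. Then the induced
homomorphism of Picard groups Pic(A') → Pic(A), base change of invertible modules along f, is
bijective. -/
theorem result {A' A : Type u} [CommRing A'] [CommRing A]
    (f : A' →+* A) (hf : Function.Surjective f) (hker : IsNilpotent (RingHom.ker f)) :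
    Function.Bijective (CommRing.Pic.mapRingHom f) := by
  letI := f.toAlgebra
  rw [show f = algebraMap A' A from rfl, CommRing.Pic.mapRingHom_algebraMap]
  have hsurj : Function.Surjective (algebraMap A' A) := hf
  have hnil : IsNilpotent (RingHom.ker (algebraMap A' A)) := hker
  constructor
  · rw [injective_iff_map_eq_one]
    intro M hM
    rw [CommRing.Pic.mapAlgebra_apply, CommRing.Pic.mk_eq_one_iff] at hM
    rw [← CommRing.Pic.mk_eq_self (M := M), CommRing.Pic.mk_eq_one_iff]
    exact linearEquiv_self_of_baseChange hsurj hnil M hM.some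
  · intro M
    obtain ⟨P, _, _, _, _, ⟨eP⟩⟩ := exists_lift hsurj hnil M
    obtain ⟨Q, _, _, _, _, ⟨eQ⟩⟩ := exists_lift hsurj hnil (Module.Dual A M)
    have e1 : A ⊗[A'] (Q ⊗[A'] P) ≃ₗ[A] A :=
      (TensorProduct.AlgebraTensorModule.distribBaseChange A' A Q P) ≪≫ₗ TensorProduct.congr eQ eP ≪≫ₗ Module.Invertible.linearEquiv A M
    obtain ⟨e2⟩ := linearEquiv_self_of_baseChange hsurj hnil (Q ⊗[A'] P) e1
    haveI : Module.Invertible A' P := Module.Invertible.right e2
    refine ⟨CommRing.Pic.mk A' P, ?_⟩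
    rw [CommRing.Pic.mapAlgebra_apply, CommRing.Pic.mk_eq_iff]
    exact ⟨TensorProduct.AlgebraTensorModule.congr (.refl A A) (CommRing.Pic.mk.linearEquiv A' P) ≪≫ₗ eP⟩

end Groth.Agent.S15353
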