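import Mathlib.AlgebraicGeometry.ValuativeCriterion
import Mathlib.AlgebraicGeometry.Morphisms.Immersion
import Mathlib.AlgebraicGeometry.Morphisms.QuasiCompact
import Mathlib.AlgebraicGeometry.Morphisms.QuasiSeparated
import Mathlib.AlgebraicGeometry.Morphisms.FinitePresentation
import Mathlib.AlgebraicGeometry.Morphisms.FiniteType
import Mathlib.AlgebraicGeometry.Noetherian
import Mathlib.AlgebraicGeometry.Pullbacks
import Mathlib.AlgebraicGeometry.ResidueField
import Mathlib.RingTheory.DiscreteValuationRing.Basic
import Mathlib.Topology.Inseparable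

set_option autoImplicit false
universe u
namespace CategoryTheory
end CategoryTheory
namespace CategoryTheory.Limits
end CategoryTheory.Limits
namespace AlgebraicGeometry
end AlgebraicGeometry
open CategoryTheory CategoryTheory.Limits AlgebraicGeometry
namespace Mor
end Mor
open Mor

namespace Groth.Agent.S15354

/-- Let f : Y ⟶ X be a morphism of schemes, A a valuation ring with fraction field K and residue field
k, and ξ, η : Spec A ⟶ Y two A-points of Y over the same A-point of X. If ξ and η restrict to the
same K-point and to the same k-point of Y, then ξ = η. (The published statement is an equivalence,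
for algebraic spaces locally of finite presentation over a Noetherian scheme, between local
separatedness of f and conditions (a), (b); this row is the necessity of (a) in the case of schemes,
where no hypothesis on f is needed.) -/
theorem result {X Y : Scheme.{u}} (f : Y ⟶ X)
    (A : Type u) [CommRing A] [IsDomain A] [ValuationRing A] (K : Type u) [Field K] [Algebra A K]
    [IsFractionRing A K] (ξ η : Spec (CommRingCat.of A) ⟶ Y) (hf : ξ ≫ f = η ≫ f)
    (hK : Spec.map (CommRingCat.ofHom (algebraMap A K)) ≫ ξ = Spec.map (CommRingCat.ofHom (algebraMap A K)) ≫ η)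
    (hk : Spec.map (CommRingCat.ofHom (IsLocalRing.residue A)) ≫ ξ =
      Spec.map (CommRingCat.ofHom (IsLocalRing.residue A)) ≫ η) :
    ξ = η := by
  let c : ↥(Spec (CommRingCat.of A)) := IsLocalRing.closedPoint A
  have hc : ξ.base c = η.base c := by
    have h := congrArg (fun g : Spec (CommRingCat.of (IsLocalRing.ResidueField A)) ⟶ Y => g.base default) hk
    have hd : (Spec.map (CommRingCat.ofHom (IsLocalRing.residue A))).base default = c := by
      let z : PrimeSpectrum (IsLocalRing.ResidueField A) := default
      haveI : Subsingleton (PrimeSpectrum (IsLocalRing.ResidueField A)) := inferInstance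
      generalize (default : ↥(Spec (CommRingCat.of (IsLocalRing.ResidueField A)))) = w
      obtain rfl : w = z := Subsingleton.elim (α := PrimeSpectrum (IsLocalRing.ResidueField A)) w z
      show PrimeSpectrum.comap (IsLocalRing.residue A) z = IsLocalRing.closedPoint A
      refine PrimeSpectrum.ext ?_
      show z.asIdeal.comap (IsLocalRing.residue A) = IsLocalRing.maximalIdeal A
      rw [(Ideal.eq_bot_or_top z.asIdeal).resolve_right z.2.ne_top]
      exact IsLocalRing.ker_residue
    simpa [hd] using h
  obtain ⟨V, hV, hcV, -⟩ := exists_isAffineOpen_mem_and_subset (x := ξ.base c) (U := (⊤ : Y.Opens)) trivial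
  have hr : ∀ g : Spec (CommRingCat.of A) ⟶ Y, g.base c ∈ V → Set.range g.base ⊆ Set.range V.ι.base := by
    rintro g hg _ ⟨z, rfl⟩
    rw [Scheme.Opens.range_ι]
    exact ((IsLocalRing.specializes_closedPoint z).map g.continuous).mem_open V.isOpen hg
  let ξ' := IsOpenImmersion.lift V.ι ξ (hr ξ hcV)
  let η' := IsOpenImmersion.lift V.ι η (hr η (hc ▸ hcV))
  suffices h : ξ' = η' by
    rw [← IsOpenImmersion.lift_fac V.ι ξ (hr ξ hcV), ← IsOpenImmersion.lift_fac V.ι η (hr η (hc ▸ hcV))]
    exact congrArg (· ≫ V.ι) h
  haveI : IsAffine (V : Scheme.{u}) := hV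
  haveI : IsDominant (Spec.map (CommRingCat.ofHom (algebraMap A K))) := ⟨
    (PrimeSpectrum.denseRange_comap_iff_ker_le_nilRadical (algebraMap A K)).2 (by
      rw [(RingHom.injective_iff_ker_eq_bot _).1 (IsFractionRing.injective A K)]; exact bot_le)⟩
  refine ext_of_isDominant (Spec.map (CommRingCat.ofHom (algebraMap A K))) ?_
  rw [← cancel_mono V.ι, Category.assoc, Category.assoc, IsOpenImmersion.lift_fac, IsOpenImmersion.lift_fac]
  exact hK

end Groth.Agent.S15354
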