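import Mathlib.AlgebraicGeometry.ValuativeCriterion
import Mathlib.AlgebraicGeometry.Morphisms.Immersion
import Mathlib.AlgebraicGeometry.Morphisms.QuasiCompact
import Mathlib.AlgebraicGeometry.Morphisms.QuasiSeparated
import Mathlib.AlgebraicGeometry.Morphisms.FinitePresentation
import Mathlib.AlgebraicGeometry.Morphisms.FiniteType
import Mathlib.AlgebraicGeometry.Noetherian
import Mathlib.AlgebraicGeometry.Pullbacks
import Mathlib.AlgebraicGeometry.ResidueField
import Mathlib.RingTheory.DiscreteValuationRing.Basic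
import Mathlib.Topology.Inseparable

set_option autoImplicit false
universe u
namespace CategoryTheory
end CategoryTheory
namespace CategoryTheory.Limits
end CategoryTheory.Limits
namespace AlgebraicGeometry
end AlgebraicGeometry
open CategoryTheory CategoryTheory.Limits AlgebraicGeometry
namespace Mor
end Mor
open Mor

namespace Groth.Agent.S15355

/-- Let f : Y ⟶ X be a morphism of schemes, A an integral domain and ξ, η : Spec A ⟶ Y two A-points of Y
over the same A-point of X. If ξ and η induce the same κ(p)-point of Y at every point p of some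
dense subset of Spec A, then ξ and η agree on a nonempty open subscheme of Spec A. (The published
statement is an equivalence, for algebraic spaces locally of finite presentation over a Noetherian
scheme, between local separatedness of f and conditions (a), (b); this row is the necessity of (b)
in the case of schemes, where no hypothesis on f is needed.) -/
theorem result {X Y : Scheme.{u}} (f : Y ⟶ X)
    (A : Type u) [CommRing A] [IsDomain A] (ξ η : Spec (CommRingCat.of A) ⟶ Y) (hf : ξ ≫ f = η ≫ f)
    (D : Set ↥(Spec (CommRingCat.of A))) (hD : Dense D)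
    (hpt : ∀ p ∈ D, (Spec (CommRingCat.of A)).fromSpecResidueField p ≫ ξ =
      (Spec (CommRingCat.of A)).fromSpecResidueField p ≫ η) :
    ∃ U : (Spec (CommRingCat.of A)).Opens, (U : Set ↥(Spec (CommRingCat.of A))).Nonempty ∧ U.ι ≫ ξ = U.ι ≫ η := by
  obtain ⟨V, hV, hgV, -⟩ := exists_isAffineOpen_mem_and_subset (x := ξ.base (genericPoint _)) (U := (⊤ : Y.Opens)) trivial
  haveI : IsAffine (V : Scheme.{u}) := hV
  let U : (Spec (CommRingCat.of A)).Opens := ξ ⁻¹ᵁ V ⊓ η ⁻¹ᵁ V
  have hpt' : ∀ p ∈ D, ξ.base p = η.base p := fun p hp => by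
    have h := congrArg (fun g : Spec ((Spec (CommRingCat.of A)).residueField p) ⟶ Y => g.base default) (hpt p hp)
    simpa using h
  have hUne : (U : Set ↥(Spec (CommRingCat.of A))).Nonempty := by
    obtain ⟨p, hpV, hpD⟩ := hD.inter_open_nonempty _ (ξ ⁻¹ᵁ V).isOpen ⟨_, hgV⟩
    exact ⟨p, hpV, show η.base p ∈ V from hpt' p hpD ▸ hpV⟩
  refine ⟨U, hUne, ?_⟩
  have hr : ∀ g : Spec (CommRingCat.of A) ⟶ Y, U ≤ g ⁻¹ᵁ V → Set.range (U.ι ≫ g).base ⊆ Set.range V.ι.base := by
    rintro g hg _ ⟨z, rfl⟩
    rw [Scheme.Opens.range_ι]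
    exact hg z.2
  let ξ' := IsOpenImmersion.lift V.ι (U.ι ≫ ξ) (hr ξ inf_le_left)
  let η' := IsOpenImmersion.lift V.ι (U.ι ≫ η) (hr η inf_le_right)
  suffices h : ξ' = η' by
    rw [← IsOpenImmersion.lift_fac V.ι (U.ι ≫ ξ) (hr ξ inf_le_left),
      ← IsOpenImmersion.lift_fac V.ι (U.ι ≫ η) (hr η inf_le_right)]
    exact congrArg (· ≫ V.ι) h
  let e := Limits.equalizer.ι ξ' η'
  haveI : IsDominant e := by
    refine ⟨Dense.mono ?_ (hD.preimage U.isOpen.isOpenMap_subtype_val)⟩
    intro p hp
    let q := (U : Scheme.{u}).fromSpecResidueField p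
    have hk : q ≫ ξ' = q ≫ η' := by
      have h := congrArg (fun m => Spec.map (U.ι.residueFieldMap p) ≫ m) (hpt _ hp)
      simp only [← Category.assoc, Scheme.Hom.SpecMap_residueFieldMap_fromSpecResidueField] at h
      rw [← cancel_mono V.ι, Category.assoc, Category.assoc, IsOpenImmersion.lift_fac, IsOpenImmersion.lift_fac]
      simpa [q] using h
    refine ⟨(Limits.equalizer.lift q hk).base default, ?_⟩
    rw [← Scheme.Hom.comp_apply, Limits.equalizer.lift_ι, Scheme.fromSpecResidueField_apply]
  exact ext_of_isDominant e (Limits.equalizer.condition ξ' η')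

end Groth.Agent.S15355
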