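import Groth.Statements.S15357
import Groth.Agent.Stk19b.MonoPoints
import Groth.Agent.Stk19.AlgSt.SmLoc
import Groth.Agent.Stk19.AlgSt.SepDiag

set_option autoImplicit false
universe u
open CategoryTheory AlgebraicGeometry
open AlgSt

set_option backward.isDefEq.respectTransparency.types false
set_option backward.isDefEq.respectTransparency false

open Groth.Agent Groth.Agent.Stk19 Groth.Agent.Desc19

namespace Groth.Agent.S15357


/-- Let S be a scheme, 𝒳 a locally Noetherian algebraic stack over S and f : 𝒴 ⟶ 𝒳 a morphism of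
algebraic stacks over S which is representable by algebraic spaces, locally of finite presentation
and a monomorphism. Suppose that for every integral domain A and every a : Spec A ⟶ 𝒳 whose
restrictions to the points of a dense subset of Spec A (through their residue fields) lift to 𝒴 up
to 2-isomorphism, the restriction of a to some nonempty open subscheme of Spec A lifts to 𝒴. Then f
is quasi-compact. (The published statement takes all algebraic stacks and algebraic spaces
quasi-separated; this row does not assume that.) -/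
theorem result (S : Scheme.{u})
    (𝒳 𝒴 : AlgSt.Cat S) (h𝒳 : AlgSt.IsAlgStack Scheme.fppfPrecoverage 𝒳)
    (h𝒴 : AlgSt.IsAlgStack Scheme.fppfPrecoverage 𝒴)
    (hnoeth : AlgSt.SmoothLocally (fun X => IsLocallyNoetherian X) 𝒳) (f : 𝒴 ⥤ᵇ 𝒳)
    (hrep : AlgSt.RepByAlgSp1 f) (hlfp : AlgSt.RepByAlgSpWith (AlgSp.LocP @LocallyOfFinitePresentation) f)
    (ha : AlgSt.IsMono f)
    (hc : ∀ (A : Type u) [CommRing A] [IsDomain A] (sA : Spec (CommRingCat.of A) ⟶ S)
      (a : FibCat.overCat (Over.mk sA) ⥤ᵇ 𝒳) (D : Set ↥(Spec (CommRingCat.of A))), Dense D →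
      (∀ p ∈ D, ∃ yp : FibCat.overCat (Over.mk ((Spec (CommRingCat.of A)).fromSpecResidueField p ≫ sA)) ⥤ᵇ 𝒴,
          Nonempty (BasedFunctor.comp yp f ≅ BasedFunctor.comp (AlgSt.overMap (Over.homMk ((Spec (CommRingCat.of A)).fromSpecResidueField p) rfl : Over.mk (((Spec (CommRingCat.of A)).fromSpecResidueField p) ≫ sA) ⟶ Over.mk sA)) a)) →
      ∃ U : (Spec (CommRingCat.of A)).Opens, (U : Set ↥(Spec (CommRingCat.of A))).Nonempty ∧
        ∃ yU : FibCat.overCat (Over.mk (U.ι ≫ sA)) ⥤ᵇ 𝒴,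
          Nonempty (BasedFunctor.comp yU f ≅ BasedFunctor.comp (AlgSt.overMap (Over.homMk (U.ι) rfl : Over.mk ((U.ι) ≫ sA) ⟶ Over.mk sA)) a)) :
    AlgSt.RepByAlgSpWith AlgSp.IsQuasiCompactMor f := by
  obtain ⟨U, y, hy, hys⟩ := h𝒳.atlas
  have : IsLocallyNoetherian U.left := hnoeth U y hy
  refine with_of_cover (respSrc_of_baseChange pbStable_qcMor) schDescent_qcMor hrep
    (with_flat_of_smooth hy).1 (with_flat_of_smooth hy).2 hys ?_
  obtain ⟨F, e, he, ham⟩ := ha U y
  obtain ⟨F', e', he', hl'⟩ := hlfp U y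
  have hl := repWith_any (respSrc_locP AlgSpLib.etLocal_lfp) he' hl' e he
  obtain ⟨i⟩ := spMapOfOver_iso (BasedFunctor.comp e (FibCat.fpFst y f))
  set a := AlgSt.spMapOfOver (BasedFunctor.comp e (FibCat.fpFst y f)) with hdef
  have : Mono a := ham
  obtain ⟨Ψ, ⟨u₀⟩, ⟨c₀⟩⟩ := id he
  have hq : AlgSp.IsQuasiCompactMor a := by
    refine Stk19b.isQuasiCompactMor_of_preimages F.property a
      (Stk19b.isCompact_preimage_of_mono a fun A _ _ sA c hD => ?_)
    obtain ⟨V, hV, yV, ⟨j⟩⟩ := hc A sA (BasedFunctor.comp (AlgSt.overMap c) y) _ hD fun p hp => by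
      obtain ⟨z, hz⟩ := hp
      obtain ⟨s, hs⟩ := Stk19b.exists_section_residue F.property a hl z
        ((Over.homMk ((Spec (CommRingCat.of A)).fromSpecResidueField p) rfl :
          Over.mk (((Spec (CommRingCat.of A)).fromSpecResidueField p) ≫ sA) ⟶ Over.mk sA) ≫ c)
        (by rw [hz]; exact congrArg c.left (Scheme.fromSpecResidueField_apply _ _))
      obtain ⟨k⟩ := overMap_comp (Over.homMk ((Spec (CommRingCat.of A)).fromSpecResidueField p) rfl :
          Over.mk (((Spec (CommRingCat.of A)).fromSpecResidueField p) ≫ sA) ⟶ Over.mk sA) c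
      refine ⟨BasedFunctor.comp (BasedFunctor.comp (BasedFunctor.comp (AlgSt.ofOverCat _) (AlgSt.ofSpMap s)) e)
        (FibCat.fpSnd y f), ⟨?_⟩⟩
      refine ((Stk.restr (BasedFunctor.comp (BasedFunctor.comp (AlgSt.ofOverCat _) (AlgSt.ofSpMap s)) e) _).mapIso
        (FibCat.fpIso y f).symm) ≪≫ (postB _ y).mapIso
          ((Stk.restr (BasedFunctor.comp (AlgSt.ofOverCat _) (AlgSt.ofSpMap s)) _).mapIso i ≪≫ eqToIso ?_ ≪≫ k.symm)
      show BasedFunctor.comp (BasedFunctor.comp (AlgSt.ofOverCat _)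
        (BasedFunctor.comp (AlgSt.ofSpMap s) (AlgSt.ofSpMap a))) (AlgSt.toOverCat U) = _
      rw [show BasedFunctor.comp (AlgSt.ofSpMap s) (AlgSt.ofSpMap a) = AlgSt.ofSpMap ((AlgSp.yon S).map _) from
        (ofSpMap_comp s a).trans (congrArg AlgSt.ofSpMap hs), ← ofOver_overMap]
      rfl
    obtain ⟨k⟩ := overMap_comp (Over.homMk V.ι rfl : Over.mk (V.ι ≫ sA) ⟶ Over.mk sA) c
    let m := (Over.homMk V.ι rfl : Over.mk (V.ι ≫ sA) ⟶ Over.mk sA) ≫ c
    let ψ : FibCat.overCat (Over.mk (V.ι ≫ sA)) ⥤ᵇ FibCat.fp y f :=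
      FibCat.fpLift (AlgSt.overMap m) yV ((postB _ y).mapIso k.symm ≪≫ j.symm)
    refine ⟨V, hV, spHom (BasedFunctor.comp (AlgSt.toOverCat _) (BasedFunctor.comp ψ Ψ)), ?_⟩
    rw [hdef, ← spMapOfOver_comp]
    have ii : BasedFunctor.comp (BasedFunctor.comp (AlgSt.toOverCat _) (BasedFunctor.comp ψ Ψ))
        (BasedFunctor.comp e (FibCat.fpFst y f)) ≅ BasedFunctor.comp (AlgSt.toOverCat _) (AlgSt.overMap m) :=
      (Stk.restr (BasedFunctor.comp (AlgSt.toOverCat _) ψ) _).mapIso ((postB _ (FibCat.fpFst y f)).mapIso c₀)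
    rw [spMapOfOver_congr ii.hom, spMapOfOver_overMap, spMapOfOver_toOverCat, Category.id_comp]
  exact (repByAlgSpWith_iff_of_square (f' := AlgSt.ofSpMap a)
    (f := FibCat.fpFst y f) (a := e) (b := AlgSt.toOverCat U) he (isEquivOver_toOverCat U) i.symm).1
    (repByAlgSpWith_ofSpMap pbStable_qcMor (V := F) (Z := ⟨_, AlgSp.IsAlgSpace.yon_obj U⟩) _ hq)

end Groth.Agent.S15357
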