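import Groth.Statements.S15356
import Groth.Agent.S15357
import Groth.Agent.Stk19b.PointLift
import Groth.Agent.Stk19b.DvrImmersion
import Groth.Agent.AlgSpLib.FpqcBaseImm
import Groth.Agent.AlgSpLib.MonoLft

set_option autoImplicit false
universe u
open CategoryTheory AlgebraicGeometry
open AlgSt

set_option backward.isDefEq.respectTransparency.types false
set_option backward.isDefEq.respectTransparency false

open Groth.Agent Groth.Agent.Stk19 Groth.Agent.Desc19

namespace Groth.Agent.S15356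


/-- Let S be a scheme, 𝒳 a locally Noetherian algebraic stack over S and f : 𝒴 ⟶ 𝒳 a morphism of
algebraic stacks over S which is representable by algebraic spaces and locally of finite
presentation. Assume: f is a monomorphism; for every discrete valuation ring A with fraction field K
and residue field k and every morphism a : Spec A ⟶ 𝒳 whose restrictions to Spec K and to Spec k
both lift to 𝒴 up to 2-isomorphism, a lifts to 𝒴 up to 2-isomorphism; and for every integral domain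
A and every a : Spec A ⟶ 𝒳 whose restrictions to the points of a dense subset of Spec A (through
their residue fields) lift to 𝒴, the restriction of a to some nonempty open subscheme of Spec A
lifts to 𝒴. Then f is a quasi-compact immersion: for every scheme U and every U-valued object of 𝒳
the 2-fibre product (Sch/U) ×_𝒳 𝒴 is an algebraic space whose morphism to U is representable by
schemes and a quasi-compact immersion after every base change. (The published statement takes all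
algebraic stacks and algebraic spaces quasi-separated; this row does not assume that.) -/
theorem result (S : Scheme.{u})
    (𝒳 𝒴 : AlgSt.Cat S) (h𝒳 : AlgSt.IsAlgStack Scheme.fppfPrecoverage 𝒳)
    (h𝒴 : AlgSt.IsAlgStack Scheme.fppfPrecoverage 𝒴)
    (hnoeth : AlgSt.SmoothLocally (fun X => IsLocallyNoetherian X) 𝒳) (f : 𝒴 ⥤ᵇ 𝒳)
    (hrep : AlgSt.RepByAlgSp1 f) (hlfp : AlgSt.RepByAlgSpWith (AlgSp.LocP @LocallyOfFinitePresentation) f)
    (ha : AlgSt.IsMono f)
    (hb : ∀ (A : Type u) [CommRing A] [IsDomain A] [IsDiscreteValuationRing A] (K : Type u) [Field K] [Algebra A K]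
      [IsFractionRing A K] (sA : Spec (CommRingCat.of A) ⟶ S) (a : FibCat.overCat (Over.mk sA) ⥤ᵇ 𝒳),
      (∃ yK : FibCat.overCat (Over.mk (Spec.map (CommRingCat.ofHom (algebraMap A K)) ≫ sA)) ⥤ᵇ 𝒴,
          Nonempty (BasedFunctor.comp yK f ≅ BasedFunctor.comp (AlgSt.overMap (Over.homMk (Spec.map (CommRingCat.ofHom (algebraMap A K))) rfl : Over.mk ((Spec.map (CommRingCat.ofHom (algebraMap A K))) ≫ sA) ⟶ Over.mk sA)) a)) →
      (∃ yk : FibCat.overCat (Over.mk (Spec.map (CommRingCat.ofHom (IsLocalRing.residue A)) ≫ sA)) ⥤ᵇ 𝒴,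
          Nonempty (BasedFunctor.comp yk f ≅ BasedFunctor.comp (AlgSt.overMap (Over.homMk (Spec.map (CommRingCat.ofHom (IsLocalRing.residue A))) rfl : Over.mk ((Spec.map (CommRingCat.ofHom (IsLocalRing.residue A))) ≫ sA) ⟶ Over.mk sA)) a)) →
      ∃ y : FibCat.overCat (Over.mk sA) ⥤ᵇ 𝒴, Nonempty (BasedFunctor.comp y f ≅ a))
    (hc : ∀ (A : Type u) [CommRing A] [IsDomain A] (sA : Spec (CommRingCat.of A) ⟶ S)
      (a : FibCat.overCat (Over.mk sA) ⥤ᵇ 𝒳) (D : Set ↥(Spec (CommRingCat.of A))), Dense D →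
      (∀ p ∈ D, ∃ yp : FibCat.overCat (Over.mk ((Spec (CommRingCat.of A)).fromSpecResidueField p ≫ sA)) ⥤ᵇ 𝒴,
          Nonempty (BasedFunctor.comp yp f ≅ BasedFunctor.comp (AlgSt.overMap (Over.homMk ((Spec (CommRingCat.of A)).fromSpecResidueField p) rfl : Over.mk (((Spec (CommRingCat.of A)).fromSpecResidueField p) ≫ sA) ⟶ Over.mk sA)) a)) →
      ∃ U : (Spec (CommRingCat.of A)).Opens, (U : Set ↥(Spec (CommRingCat.of A))).Nonempty ∧
        ∃ yU : FibCat.overCat (Over.mk (U.ι ≫ sA)) ⥤ᵇ 𝒴,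
          Nonempty (BasedFunctor.comp yU f ≅ BasedFunctor.comp (AlgSt.overMap (Over.homMk (U.ι) rfl : Over.mk ((U.ι) ≫ sA) ⟶ Over.mk sA)) a)) :
    AlgSt.RepByAlgSpWith (AlgSp.RepWith (@IsImmersion ⊓ @QuasiCompact)) f := by
  have hqcw := Groth.Agent.S15357.result S 𝒳 𝒴 h𝒳 h𝒴 hnoeth f hrep hlfp ha hc
  have himm : AlgSt.RepByAlgSpWith (AlgSp.RepWith @IsImmersion) f := by
    obtain ⟨U, y, hy, hys⟩ := h𝒳.atlas
    have : IsLocallyNoetherian U.left := hnoeth U y hy
    refine with_of_cover (respSrc_of_baseChange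
        (fun _ _ _ _ _ _ _ _ _ _ _ _ sq h => AlgSpLib.RepWith.baseChange sq h))
      (schDescent_of_local AlgSpLib.isLocalOnBase_fppf_immersion) hrep
      (with_flat_of_smooth hy).1 (with_flat_of_smooth hy).2 hys ?_
    obtain ⟨F, e, he, ham⟩ := ha U y
    obtain ⟨F', e', he', hl'⟩ := hlfp U y
    have hl := repWith_any (respSrc_locP AlgSpLib.etLocal_lfp) he' hl' e he
    obtain ⟨F'', e'', he'', hq''⟩ := hqcw U y
    have hq := repWith_any (respSrc_of_baseChange pbStable_qcMor) he'' hq'' e he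
    obtain ⟨i⟩ := spMapOfOver_iso (BasedFunctor.comp e (FibCat.fpFst y f))
    refine (repByAlgSpWith_iff_of_square
      (f' := AlgSt.ofSpMap (AlgSt.spMapOfOver (BasedFunctor.comp e (FibCat.fpFst y f))))
      (f := FibCat.fpFst y f) (a := e) (b := AlgSt.toOverCat U) he (isEquivOver_toOverCat U) i.symm).1
      (repByAlgSpWith_ofSpMap (fun _ _ _ _ _ _ _ _ _ _ _ _ sq h => AlgSpLib.RepWith.baseChange sq h)
        (V := F) (Z := ⟨_, AlgSp.IsAlgSpace.yon_obj U⟩) _ ?_)
    set a := AlgSt.spMapOfOver (BasedFunctor.comp e (FibCat.fpFst y f))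
    have : Mono a := ham
    have hlft : AlgSp.LocP @LocallyOfFiniteType a :=
      AlgSpLib.locP_mono (fun _ _ g (h : LocallyOfFinitePresentation g) => (inferInstance : LocallyOfFiniteType g)) hl
    obtain ⟨hr, -, -⟩ := AlgSpLib.mono_lft_package F.property (AlgSp.IsAlgSpace.yon_obj U) hlft
    have hQ := (AlgSpLib.repWith_quasiCompact_iff F.property (AlgSp.IsAlgSpace.yon_obj U) hr).2 hq
    have hL := (AlgSpLib.repWith_iff_locP AlgSpLib.etLocal_lft F.property (AlgSp.IsAlgSpace.yon_obj U) hr).2 hlft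
    have hM := AlgSpLib.repWith_monomorphisms_of_mono (f := a) hr
    have sq₀ := hr.isPullback (𝟙 ((AlgSp.yon S).obj U))
    have : QuasiCompact (hr.snd (𝟙 ((AlgSp.yon S).obj U))).left := hQ.property_snd _
    have : LocallyOfFiniteType (hr.snd (𝟙 ((AlgSp.yon S).obj U))).left := hL.property_snd _
    have : Mono (hr.snd (𝟙 ((AlgSp.yon S).obj U))).left := hM.property_snd _
    have := sq₀.isIso_fst_of_isIso
    have e₀ := sq₀.w
    rw [Category.comp_id] at e₀
    refine (MorphismProperty.cancel_left_of_respectsIso (AlgSp.RepWith @IsImmersion) (hr.fst (𝟙 _)) _).1 ?_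
    rw [e₀]
    refine (AlgSp.repWith_yon_map_iff @IsImmersion _).2 (Stk19b.isImmersion_of_dvrLift _
      fun R _ _ _ ψ h1 h2 => ?_)
    set P := hr.pullback (𝟙 ((AlgSp.yon S).obj U))
    set k := hr.snd (𝟙 ((AlgSp.yon S).obj U))
    let sA : Spec (CommRingCat.of R) ⟶ S := ψ ≫ U.hom
    let c : Over.mk sA ⟶ U := Over.homMk ψ rfl
    have lift : ∀ (B : Scheme.{u}) (r : B ⟶ Spec (CommRingCat.of R)),
        (∃ l : B ⟶ P.left, l ≫ k.left = r ≫ ψ) →
        ∃ x : FibCat.overCat (Over.mk (r ≫ sA)) ⥤ᵇ 𝒴, Nonempty (BasedFunctor.comp x f ≅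
          BasedFunctor.comp (AlgSt.overMap (Over.homMk r rfl : Over.mk (r ≫ sA) ⟶ Over.mk sA))
            (BasedFunctor.comp (AlgSt.overMap c) y)) := fun B r ⟨l, hl⟩ => by
      let l' : Over.mk (r ≫ sA) ⟶ P := Over.homMk l (by
        show l ≫ P.hom = r ≫ ψ ≫ U.hom
        rw [← Over.w k, reassoc_of% hl])
      obtain ⟨x, ⟨jx⟩⟩ := Stk19b.exists_obj_of_sec e ((Over.homMk r rfl : Over.mk (r ≫ sA) ⟶ Over.mk sA) ≫ c)
        ((AlgSp.yon S).map l' ≫ hr.fst (𝟙 _)) (by
          rw [Category.assoc, e₀, ← Functor.map_comp]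
          exact congrArg (AlgSp.yon S).map (Over.OverMorphism.ext hl))
      obtain ⟨kk⟩ := overMap_comp (Over.homMk r rfl : Over.mk (r ≫ sA) ⟶ Over.mk sA) c
      exact ⟨x, ⟨jx ≪≫ (postB _ y).mapIso kk.symm⟩⟩
    obtain ⟨x, hx⟩ := hb R (FractionRing R) sA (BasedFunctor.comp (AlgSt.overMap c) y)
      (lift _ _ h1) (lift _ _ h2)
    obtain ⟨s, hs⟩ := Stk19b.exists_sec_of_obj e c he x hx
    obtain ⟨m, hm⟩ := (AlgSp.yon S).map_surjective (s ≫ inv (hr.fst (𝟙 _)))
    refine ⟨m.left, ?_⟩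
    have : (AlgSp.yon S).map (m ≫ k) = (AlgSp.yon S).map c := by
      rw [Functor.map_comp, hm, ← e₀, Category.assoc, IsIso.inv_hom_id_assoc, hs]
    exact congrArg CommaMorphism.left ((AlgSp.yon S).map_injective this)
  intro U y
  obtain ⟨F, e, he, hi⟩ := himm U y
  obtain ⟨F', e', he', hq⟩ := hqcw U y
  refine ⟨F, e, he, AlgSpLib.RepWith.and hi ?_⟩
  exact (AlgSpLib.repWith_quasiCompact_iff F.property (AlgSp.IsAlgSpace.yon_obj U) hi.1).2
    (repWith_any (respSrc_of_baseChange pbStable_qcMor) he' hq e he)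

end Groth.Agent.S15356
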