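import Groth.Statements.S15358
import Groth.Agent.Stk19b.DenseCompact
import Groth.Agent.Stk19b.PointLift
import Groth.Agent.Stk19b.ProdSq
import Groth.Agent.Stk19b.Quot.Torsor
import Groth.Agent.Stk19.AlgSt.CoverDiag
import Groth.Agent.Stk19.AlgSt.SepDiag
import Groth.Agent.Stk19.AlgSt.LocQ
import Groth.Agent.Stk19.AlgSt.DescentSp

set_option autoImplicit false
universe u
open CategoryTheory AlgebraicGeometry
open AlgSt

set_option backward.isDefEq.respectTransparency.types false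
set_option backward.isDefEq.respectTransparency false

open CategoryTheory.Limits MonoidalCategory CartesianMonoidalCategory
open FibCat (fp)
open Groth.Agent Groth.Agent.Stk19 Groth.Agent.Desc19

namespace Groth.Agent.S15358

set_option maxHeartbeats 1000000


/-- Let S be a locally Noetherian scheme and 𝒳 an algebraic stack over S in the weak sense (no
quasi-separatedness assumed) which is locally of finite presentation over S (every scheme smooth
over 𝒳 is locally of finite presentation over S). Assume: for every affine scheme U over S and every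
object x of 𝒳 over U, the sheaf Aut(x) = Isom(x, x) is an algebraic space quasi-compact over U; and
for every integral affine scheme U over S and all objects x, y of 𝒳 over U such that, at each point
t of some dense subset of U, x and y become isomorphic after pulling back to the spectrum of some
field mapping onto t, the objects x and y become isomorphic over some dense open subscheme of U.
Then the diagonal of 𝒳 over S is quasi-compact. (The published statement, for stacks whose diagonal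
is representable by quasi-separated algebraic spaces, concludes that 𝒳 is quasi-separated; this row
assumes nothing on the diagonal beyond representability and concludes that it is quasi-compact.) -/
theorem result (S : Scheme.{u})
    [IsLocallyNoetherian S] (𝒳 : AlgSt.Cat S) (h𝒳 : AlgSt.IsAlgStack Scheme.fppfPrecoverage 𝒳)
    (hlfp : ∀ (U : Over S) (x : FibCat.overCat U ⥤ᵇ 𝒳),
      AlgSt.RepByAlgSpWith (AlgSp.LocP @Smooth) x → LocallyOfFinitePresentation U.hom)
    (hi : ∀ (U : Over S), IsAffine U.left → ∀ (x : FibCat.overCat U ⥤ᵇ 𝒳),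
      ∃ (F : AlgSp.Space S) (e : AlgSt.ofSp F.obj ⥤ᵇ FibCat.fp (FibCat.fpLift x x (Iso.refl _)) (FibCat.diag (FibCat.toSelf 𝒳))),
        FibCat.IsEquivOver e ∧
          AlgSp.IsQuasiCompactMor (AlgSt.spMapOfOver (BasedFunctor.comp e (FibCat.fpFst _ _))))
    (hii : ∀ (U : Over S), IsAffine U.left → IsIntegral U.left → ∀ (x y : FibCat.overCat U ⥤ᵇ 𝒳)
      (D : Set ↥U.left), Dense D →
      (∀ t ∈ D, ∃ (L : Type u) (_ : Field L) (g : Spec (CommRingCat.of L) ⟶ U.left), Set.range g.base = {t} ∧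
        Nonempty (BasedFunctor.comp (AlgSt.overMap (Over.homMk g rfl : Over.mk (g ≫ U.hom) ⟶ U)) x ≅
          BasedFunctor.comp (AlgSt.overMap (Over.homMk g rfl : Over.mk (g ≫ U.hom) ⟶ U)) y)) →
      ∃ V : U.left.Opens, Dense (V : Set ↥U.left) ∧
        Nonempty (BasedFunctor.comp (AlgSt.overMap (Over.homMk V.ι rfl : Over.mk (V.ι ≫ U.hom) ⟶ U)) x ≅
          BasedFunctor.comp (AlgSt.overMap (Over.homMk V.ι rfl : Over.mk (V.ι ≫ U.hom) ⟶ U)) y)) :
    AlgSt.RepByAlgSpWith AlgSp.IsQuasiCompactMor (FibCat.diag (FibCat.toSelf 𝒳)) := by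
  obtain ⟨W, u, hu, hus⟩ := h𝒳.atlas
  have : LocallyOfFinitePresentation W.hom := hlfp W u hu
  have : LocallyOfFiniteType (fst W W).left := by
    have h : MorphismProperty.IsStableUnderBaseChange @LocallyOfFiniteType := inferInstance
    exact h.of_isPullback (Stk19b.Quot.isPullback_left_snd (G := W) W).flip (inferInstanceAs (LocallyOfFiniteType W.hom))
  have : IsLocallyNoetherian W.left := LocallyOfFiniteType.isLocallyNoetherian W.hom
  have : IsLocallyNoetherian (W ⊗ W).left := LocallyOfFiniteType.isLocallyNoetherian (fst W W).left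
  let w : AlgSt.ofSch W ⥤ᵇ 𝒳 := BasedFunctor.comp (AlgSt.toOverCat W) u
  have hw₁ := (with_equiv_comp (isEquivOver_toOverCat W) (with_flat_of_smooth hu).1 : AlgSt.RepByAlgSpWith _ w)
  have hw₂ := (with_equiv_comp (isEquivOver_toOverCat W) (with_flat_of_smooth hu).2 : AlgSt.RepByAlgSpWith _ w)
  have hw₃ := (with_equiv_comp (isEquivOver_toOverCat W) hus : AlgSt.RepByAlgSpWith _ w)
  obtain ⟨E, hE, hE₁, hE₂⟩ := Stk19b.exists_prod_equiv W W
  let Δ := FibCat.diag (FibCat.toSelf 𝒳)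
  have hΔl := diag_toSelf_lft h𝒳
  refine diag_toSelf_of_cover (respSrc_of_baseChange pbStable_qcMor) schDescent_qcMor
    (repByAlgSp1_of_with hΔl) hw₁ hw₂ hw₃ ?_
  refine (repByAlgSpWith_iff_of_square (f' := fpToProd w w) (f := FibCat.fpFst (prodPair w w) Δ)
    (a := magicSquare w w) (b := BasedFunctor.id _) (isEquivOver_magicSquare w w) (isEquivOver_id _) (Iso.refl _)).2 ?_
  let y₀ : FibCat.overCat (W ⊗ W) ⥤ᵇ _ :=
    BasedFunctor.comp (BasedFunctor.comp (AlgSt.ofOverCat (W ⊗ W)) E) (prodPair w w)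
  have := id_full (fp (FibCat.toSelf 𝒳) (FibCat.toSelf 𝒳))
  have := id_faithful (fp (FibCat.toSelf 𝒳) (FibCat.toSelf 𝒳))
  let M : FibCat.fp y₀ Δ ⥤ᵇ FibCat.fp (prodPair w w) Δ :=
    fpMap (F' := prodPair w w) (G' := Δ) (BasedFunctor.comp (AlgSt.ofOverCat (W ⊗ W)) E) (BasedFunctor.id _)
      (BasedFunctor.id _) (Iso.refl _) (Iso.refl _)
  have hM : FibCat.IsEquivOver M :=
    isEquivOver_fpMap _ _ _ _ _ (isEquivOver_comp (isEquivOver_ofOverCat _) hE) (isEquivOver_id _)
  refine (repByAlgSpWith_iff_of_square (f' := FibCat.fpFst y₀ Δ) (f := FibCat.fpFst (prodPair w w) Δ)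
    (a := M) (b := BasedFunctor.comp (AlgSt.ofOverCat (W ⊗ W)) E) hM
    (isEquivOver_comp (isEquivOver_ofOverCat _) hE) (eqToIso (fpMap_fst _ _ _ _ _).symm)).1 ?_
  obtain ⟨F, e, he, hl⟩ := hΔl (W ⊗ W) y₀
  obtain ⟨i⟩ := spMapOfOver_iso (BasedFunctor.comp e (FibCat.fpFst y₀ Δ))
  set a := AlgSt.spMapOfOver (BasedFunctor.comp e (FibCat.fpFst y₀ Δ)) with hdef
  let z₀ := BasedFunctor.comp (AlgSt.toOverCat (W ⊗ W)) y₀
  let M' : FibCat.fp y₀ Δ ⥤ᵇ FibCat.fp z₀ Δ :=
    fpMap (F' := z₀) (G' := Δ) (AlgSt.ofOverCat (W ⊗ W)) (BasedFunctor.id _) (BasedFunctor.id _)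
      (Iso.refl _) (Iso.refl _)
  have hM' : FibCat.IsEquivOver M' := isEquivOver_fpMap _ _ _ _ _ (isEquivOver_ofOverCat _) (isEquivOver_id _)
  obtain ⟨j⟩ := spHom_iso (BasedFunctor.comp (BasedFunctor.comp e (FibCat.fpFst y₀ Δ)) (AlgSt.ofOverCat _))
  rw [← spMapOfOver_eq, ← hdef] at j
  have j' : BasedFunctor.comp (BasedFunctor.comp e M') (FibCat.fpFst z₀ Δ) ≅ AlgSt.ofSpMap a := j
  have hq : AlgSp.IsQuasiCompactMor a := by
    refine Stk19b.isQuasiCompactMor_of_preimages F.property a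
      (Stk19b.isCompact_preimage_of_dense a fun A _ _ sA c hD => ?_)
    let UA : Over S := Over.mk sA
    let x := BasedFunctor.comp (BasedFunctor.comp (AlgSt.overMap c) y₀) (FibCat.fpFst _ _)
    let y := BasedFunctor.comp (BasedFunctor.comp (AlgSt.overMap c) y₀) (FibCat.fpSnd _ _)
    have : IsAffine UA.left := inferInstanceAs (IsAffine (Spec (CommRingCat.of A)))
    have : IsIntegral UA.left := inferInstanceAs (IsIntegral (Spec (CommRingCat.of A)))
    obtain ⟨V, hV, ⟨σ⟩⟩ := hii UA ‹_› ‹_› x y _ hD fun t ht => by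
      obtain ⟨z, hz⟩ := ht
      have he : AlgSp.Points.map a z = AlgSp.Points.map ((AlgSp.yon S).map c) (AlgSp.Points.ofScheme UA t) := by
        rw [AlgSpLib.map_yon_map_ofScheme, ← AlgSp.Points.ofScheme_toScheme (W ⊗ W) (AlgSp.Points.map a z)]
        exact congrArg _ hz
      obtain ⟨Ω, _, str, s, b, hsb, -, hb⟩ := AlgSpLib.exists_of_map_eq he
      obtain ⟨r, rfl⟩ := (AlgSp.yon S).map_surjective b
      have hr : r.left (IsLocalRing.closedPoint Ω) = t := by
        rw [← Category.comp_id ((AlgSp.yon S).map r), AlgSpLib.ptOfHom_yon_map] at hb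
        exact (AlgSp.Points.schemeEquiv UA).injective hb
      refine ⟨Ω, inferInstance, r.left, ?_, ?_⟩
      · refine Set.Subset.antisymm ?_ (Set.singleton_subset_iff.2 ⟨_, hr⟩)
        rintro _ ⟨q, rfl⟩
        exact Set.mem_singleton_iff.2 ((congrArg _ (Subsingleton.elim (α := ↥(Spec (CommRingCat.of Ω))) _ _)).trans hr)
      · let g : Over.mk (r.left ≫ sA) ⟶ UA := Over.homMk r.left rfl
        let t₀ : Over.mk (r.left ≫ sA) ⟶ Over.mk str := Over.homMk (𝟙 _) (by
          show 𝟙 _ ≫ str = r.left ≫ sA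
          rw [Category.id_comp]
          exact (Over.w r).symm)
        obtain ⟨x', ⟨k⟩⟩ := Stk19b.exists_obj_of_sec e (g ≫ c) ((AlgSp.yon S).map t₀ ≫ s) (by
          rw [Category.assoc, hsb, ← Functor.map_comp, ← Functor.map_comp]
          exact congrArg (AlgSp.yon S).map (Over.OverMorphism.ext (by
            show 𝟙 _ ≫ r.left ≫ c.left = r.left ≫ c.left
            rw [Category.id_comp])))
        obtain ⟨kk⟩ := overMap_comp g c
        let k' := k ≪≫ (postB _ y₀).mapIso kk.symm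
        exact ⟨(postB _ (FibCat.fpFst (FibCat.toSelf 𝒳) (FibCat.toSelf 𝒳))).mapIso k'.symm ≪≫
          (postB _ (FibCat.fpSnd (FibCat.toSelf 𝒳) (FibCat.toSelf 𝒳))).mapIso k'⟩
    obtain ⟨P, hP⟩ := hV.nonempty
    obtain ⟨_, ⟨f, rfl⟩, hPf, hfV⟩ :=
      PrimeSpectrum.isTopologicalBasis_basic_opens.exists_subset_of_mem_open hP V.2
    refine ⟨f, fun hf => by rw [hf] at hPf; exact hPf (Submodule.zero_mem _), ?_⟩
    let D : (Spec (CommRingCat.of A)).Opens := PrimeSpectrum.basicOpen f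
    have hDV : D ≤ V := hfV
    let U' : Over S := Over.mk (D.ι ≫ sA)
    have : IsAffine U'.left := IsAffineOpen.Spec_basicOpen (R := CommRingCat.of A) f
    let d : U' ⟶ UA := Over.homMk D.ι rfl
    let h : U' ⟶ Over.mk (V.ι ≫ UA.hom) := Over.homMk ((Spec (CommRingCat.of A)).homOfLE hDV) (by
      show Scheme.homOfLE _ hDV ≫ V.ι ≫ sA = D.ι ≫ sA
      rw [Scheme.homOfLE_ι_assoc])
    have hd : h ≫ (Over.homMk V.ι rfl : Over.mk (V.ι ≫ UA.hom) ⟶ UA) = d :=
      Over.OverMorphism.ext (Scheme.homOfLE_ι (Spec (CommRingCat.of A)) hDV)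
    obtain ⟨k₁⟩ := overMap_comp h (Over.homMk V.ι rfl : Over.mk (V.ι ≫ UA.hom) ⟶ UA)
    rw [hd] at k₁
    let xD := BasedFunctor.comp (AlgSt.overMap d) x
    let yD := BasedFunctor.comp (AlgSt.overMap d) y
    let σD : xD ≅ yD := (postB _ x).mapIso k₁.symm ≪≫ (Stk.restr (AlgSt.overMap h) _).mapIso σ ≪≫ (postB _ y).mapIso k₁
    obtain ⟨k₂⟩ := overMap_comp d c
    let n := d ≫ c
    let ξ : BasedFunctor.comp (BasedFunctor.comp (AlgSt.overMap d) (AlgSt.overMap c)) y₀ ≅
        BasedFunctor.comp (AlgSt.overMap n) y₀ := (postB _ y₀).mapIso k₂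
    let π₁ : xD ≅ BasedFunctor.comp (BasedFunctor.comp (AlgSt.overMap n) y₀) (FibCat.fpFst _ _) :=
      (postB _ (FibCat.fpFst (FibCat.toSelf 𝒳) (FibCat.toSelf 𝒳))).mapIso ξ
    let π₂ : yD ≅ BasedFunctor.comp (BasedFunctor.comp (AlgSt.overMap n) y₀) (FibCat.fpSnd _ _) :=
      (postB _ (FibCat.fpSnd (FibCat.toSelf 𝒳) (FibCat.toSelf 𝒳))).mapIso ξ
    obtain ⟨pi⟩ := Stk19b.nonempty_iso_prod (H := FibCat.fpLift xD xD (Iso.refl _))
      (K := BasedFunctor.comp (AlgSt.overMap n) y₀) π₁ (σD ≪≫ π₂)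
    obtain ⟨F₁, e₁, he₁, hq₁⟩ := hi U' ‹_› xD
    obtain ⟨E₁, hE₁', hfst, -⟩ := exists_congr (F := FibCat.fpLift xD xD (Iso.refl _)) (G := Δ) pi (Iso.refl _)
    have hq₂ : AlgSp.IsQuasiCompactMor
        (AlgSt.spMapOfOver (BasedFunctor.comp (BasedFunctor.comp e₁ E₁) (FibCat.fpFst _ Δ))) := by
      show AlgSp.IsQuasiCompactMor (AlgSt.spMapOfOver (BasedFunctor.comp e₁ (BasedFunctor.comp E₁ (FibCat.fpFst _ Δ))))
      rw [hfst]
      exact hq₁
    have sq := IsPullback.of_hasPullback a ((AlgSp.yon S).map n)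
    have kj : BasedFunctor.comp (AlgSt.overMap n) y₀ ≅
        BasedFunctor.comp (BasedFunctor.comp (AlgSt.ofOverCat U') (AlgSt.ofSpMap ((AlgSp.yon S).map n))) z₀ :=
      eqToIso (by rw [← ofOver_overMap]; rfl)
    have hqP := prop_of_chart (respSrc_of_baseChange pbStable_qcMor)
      (AlgSpLib.isAlgSpace_of_isPullback (AlgSp.IsAlgSpace.yon_obj (W ⊗ W)).diag F.property (AlgSp.IsAlgSpace.yon_obj U') sq)
      z₀ (isEquivOver_comp he hM') j' sq kj ⟨F₁, _, isEquivOver_comp he₁ hE₁', hq₂⟩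
    have : CompactSpace ↥U'.left := inferInstance
    have hc := AlgSpLib.compactSpace_of_isQuasiCompactMor hqP
      (IsPullback.of_horiz_isIso ⟨by simp⟩ : IsPullback (𝟙 _) (pullback.snd a ((AlgSp.yon S).map n))
        (pullback.snd a ((AlgSp.yon S).map n)) (𝟙 _))
    have hK := isCompact_range (AlgSp.Points.continuous_map (pullback.fst a ((AlgSp.yon S).map n)))
    convert! hK using 1
    ext z
    constructor
    · rintro ⟨Q, hQ, hQz⟩
      have : AlgSp.Points.map a z =
          AlgSp.Points.map ((AlgSp.yon S).map n) (AlgSp.Points.ofScheme U' ⟨Q, hQ⟩) := by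
        rw [AlgSpLib.map_yon_map_ofScheme, ← AlgSp.Points.ofScheme_toScheme (W ⊗ W) (AlgSp.Points.map a z)]
        exact congrArg _ hQz.symm
      obtain ⟨p, hp, -⟩ := AlgSpLib.exists_point_of_isPullback sq this
      exact ⟨p, hp⟩
    · rintro ⟨p, rfl⟩
      refine ⟨(AlgSp.Points.toScheme U' (AlgSp.Points.map (pullback.snd _ _) p)).1,
        (AlgSp.Points.toScheme U' (AlgSp.Points.map (pullback.snd _ _) p)).2, ?_⟩
      rw [Stk19b.basePt, ← AlgSp.Points.map_comp, sq.w, AlgSp.Points.map_comp]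
      generalize AlgSp.Points.map (pullback.snd a ((AlgSp.yon S).map n)) p = v
      conv_rhs => rw [← AlgSp.Points.ofScheme_toScheme U' v, AlgSpLib.map_yon_map_ofScheme,
        AlgSp.Points.toScheme_ofScheme]
      rfl
  exact (repByAlgSpWith_iff_of_square (f' := AlgSt.ofSpMap a)
    (f := FibCat.fpFst y₀ Δ) (a := e) (b := AlgSt.toOverCat (W ⊗ W)) he (isEquivOver_toOverCat _) i.symm).1
    (repByAlgSpWith_ofSpMap pbStable_qcMor (V := F) (Z := ⟨_, AlgSp.IsAlgSpace.yon_obj (W ⊗ W)⟩) _ hq)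

end Groth.Agent.S15358
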