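import Groth.Statements.S1536
import Groth.Agent.CurveRR24.AlgClosed
import Groth.Agent.AbSchLib.GlobalSections

set_option autoImplicit false
universe u
open CategoryTheory CategoryTheory.Limits AlgebraicGeometry
open Variety
open Groth.Agent Groth.Agent.Coherent Groth.Agent.CurveRR24

namespace Groth.Agent.S1536

/-- For a proper scheme X over a field k which is geometrically reduced and geometrically connected,
H^0(X, O_X) is one-dimensional over k, i.e. the global functions are the constants. -/
theorem result (k : Type u) [Field k] (X : Scheme.{u}) [X.Over (Spec (CommRingCat.of k))] [IsProper (X ↘ (Spec (CommRingCat.of k)))]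
    [GeometricallyReduced (X ↘ (Spec (CommRingCat.of k)))] [GeometricallyConnected (X ↘ (Spec (CommRingCat.of k)))] :
    Module.finrank k (Coh.HH X (Coh.structureModule X) 0) = 1 := by
  rw [(hhZero k (Coh.structureModule X)).finrank_eq]
  have hb := AbSchLib.bijective_appTop_of_field k (X ↘ Spec (CommRingCat.of k))
  haveI : ConnectedSpace X := GeometricallyConnected.connectedSpace_of_subsingleton (X ↘ Spec (CommRingCat.of k))
  let F : k →ₗ[k] GA (baseHom k X) (Coh.structureModule X) :=
    { toFun := fun c => (show Γ(Coh.structureModule X, ⊤) from baseHom k X c)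
      map_add' := fun a b => map_add (baseHom k X) a b
      map_smul' := fun a b => map_mul (baseHom k X) a b }
  have hsurj : Function.Surjective F := by
    intro y
    obtain ⟨x, hx⟩ := hb.2 (show Γ(X, ⊤) from y)
    obtain ⟨c, rfl⟩ := (ConcreteCategory.bijective_of_isIso (Scheme.ΓSpecIso (CommRingCat.of k)).inv).2 x
    exact ⟨c, hx⟩
  haveI : Nonempty (⊤ : X.Opens) := ⟨⟨Classical.arbitrary X, trivial⟩⟩
  have hinj : Function.Injective F := fun a b h => (baseHom k X).injective h
  exact (LinearEquiv.ofBijective F ⟨hinj, hsurj⟩).finrank_eq.symm.trans (Module.finrank_self k)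

end Groth.Agent.S1536
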