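import Groth.Statements.S15360
import Mathlib.Analysis.SpecificLimits.Basic
-- import your own Groth.Agent.* helpers here

set_option autoImplicit false
universe u
open GalCoh

namespace Groth.Agent.S15360

open Matrix Filter Topology

variable {p : ℕ} [Fact p.Prime]

lemma toZMod_eq_zero_iff (x : ℤ_[p]) : PadicInt.toZMod x = 0 ↔ (p : ℤ_[p]) ∣ x := by
  rw [← RingHom.mem_ker, PadicInt.ker_toZMod, PadicInt.maximalIdeal_eq_span_p,
    Ideal.mem_span_singleton]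

lemma mat_dvd {M N : Matrix (Fin 2) (Fin 2) ℤ_[p]}
    (h : M.map PadicInt.toZMod = N.map (PadicInt.toZMod (p := p))) :
    ∃ D : Matrix (Fin 2) (Fin 2) ℤ_[p], M = N + (p : ℤ_[p]) • D := by
  have : ∀ i j, ∃ d : ℤ_[p], M i j = N i j + (p : ℤ_[p]) * d := by
    intro i j
    have hij := congrFun (congrFun h i) j
    simp only [Matrix.map_apply] at hij
    obtain ⟨d, hd⟩ := (toZMod_eq_zero_iff (M i j - N i j)).1 (by rw [map_sub, hij, sub_self])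
    exact ⟨d, by rw [← hd]; ring⟩
  choose D hD using this
  refine ⟨Matrix.of D, ?_⟩
  ext i j
  simp [hD i j]

lemma glMap_surjective (y : GL (Fin 2) (ZMod p)) :
    ∃ x : GL (Fin 2) ℤ_[p],
      Matrix.GeneralLinearGroup.map (n := Fin 2) (PadicInt.toZMod (p := p)) x = y := by
  have hs : Function.Surjective (PadicInt.toZMod (p := p)) := ZMod.ringHom_surjective _
  choose f hf using hs
  set M : Matrix (Fin 2) (Fin 2) ℤ_[p] := (y : Matrix (Fin 2) (Fin 2) (ZMod p)).map f with hM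
  have hMy : M.map (PadicInt.toZMod (p := p)) = (y : Matrix (Fin 2) (Fin 2) (ZMod p)) := by
    ext i j; simp [hM, hf]
  have hu : IsUnit M.det := by
    by_contra hc
    have h0 : PadicInt.toZMod M.det = 0 := by
      rw [← RingHom.mem_ker, PadicInt.ker_toZMod]
      exact (IsLocalRing.mem_maximalIdeal _).2 hc
    rw [RingHom.map_det, RingHom.mapMatrix_apply, hMy] at h0
    exact ((Matrix.isUnit_iff_isUnit_det _).1 y.isUnit).ne_zero h0
  refine ⟨((Matrix.isUnit_iff_isUnit_det M).2 hu).unit, ?_⟩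
  apply Units.ext
  simpa [Matrix.GeneralLinearGroup.map] using hMy

section

variable {𝔊 : Type u} [Group 𝔊] (ϕ : 𝔊 →* GL (Fin 2) ℤ_[p])

/-- `M` is reached at level `n`. -/
def Reach (n : ℕ) (M : Matrix (Fin 2) (Fin 2) ℤ_[p]) : Prop :=
  ∃ (g : 𝔊) (N : Matrix (Fin 2) (Fin 2) ℤ_[p]),
    (ϕ g : Matrix (Fin 2) (Fin 2) ℤ_[p]) = 1 + (p : ℤ_[p]) ^ n • M + (p : ℤ_[p]) ^ (n + 1) • N

variable {ϕ}
variable {n : ℕ} {M M' : Matrix (Fin 2) (Fin 2) ℤ_[p]}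

lemma Reach.zero : Reach ϕ n 0 := ⟨1, 0, by simp⟩

lemma Reach.congr (h : Reach ϕ n M) (D : Matrix (Fin 2) (Fin 2) ℤ_[p]) :
    Reach ϕ n (M + (p : ℤ_[p]) • D) := by
  obtain ⟨g, N, hg⟩ := h
  exact ⟨g, N - D, by rw [hg]; module⟩

lemma Reach.add (hn : 1 ≤ n) (h : Reach ϕ n M) (h' : Reach ϕ n M') : Reach ϕ n (M + M') := by
  obtain ⟨g, N, hg⟩ := h
  obtain ⟨g', N', hg'⟩ := h'
  obtain ⟨k, rfl⟩ : ∃ k, n = k + 1 := ⟨n - 1, by omega⟩
  refine ⟨g * g', N + N' + (p : ℤ_[p]) ^ k •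
    ((M + (p : ℤ_[p]) • N) * (M' + (p : ℤ_[p]) • N')), ?_⟩
  rw [map_mul, Units.val_mul, hg, hg']
  simp only [Matrix.add_mul, Matrix.mul_add, Matrix.one_mul, Matrix.mul_one, Matrix.smul_mul,
    Matrix.mul_smul, smul_add, smul_smul]
  module

lemma Reach.nsmul (hn : 1 ≤ n) (h : Reach ϕ n M) : ∀ k : ℕ, Reach ϕ n (k • M)
  | 0 => by simpa using Reach.zero
  | k + 1 => by simpa [add_smul] using (Reach.nsmul hn h k).add hn h

lemma Reach.smul (hn : 1 ≤ n) (h : Reach ϕ n M) (c : ℤ_[p]) : Reach ϕ n (c • M) := by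
  obtain ⟨k, hk⟩ : ∃ k : ℕ, (p : ℤ_[p]) ∣ c - k :=
    ⟨(PadicInt.toZMod c).val, (toZMod_eq_zero_iff _).1 (by
      rw [map_sub, map_natCast, ZMod.natCast_zmod_val, sub_self])⟩
  obtain ⟨d, hd⟩ := hk
  have := (h.nsmul hn k).congr (d • M)
  have e : c = k + (p : ℤ_[p]) * d := by rw [← hd]; ring
  rw [e]
  convert this using 1
  module

lemma Reach.conj (hs : Function.Surjective
      ((Matrix.GeneralLinearGroup.map (n := Fin 2) (PadicInt.toZMod (p := p))).comp ϕ))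
    (h : Reach ϕ n M) (P : GL (Fin 2) ℤ_[p]) :
    Reach ϕ n ((P : Matrix (Fin 2) (Fin 2) ℤ_[p]) * M * ((P⁻¹ : GL (Fin 2) ℤ_[p]) : Matrix (Fin 2) (Fin 2) ℤ_[p])) := by
  obtain ⟨g, N, hg⟩ := h
  obtain ⟨a, ha⟩ := hs (Matrix.GeneralLinearGroup.map (n := Fin 2) (PadicInt.toZMod (p := p)) P)
  have ha' : (Matrix.GeneralLinearGroup.map (n := Fin 2) (PadicInt.toZMod (p := p))) (ϕ a) =
      Matrix.GeneralLinearGroup.map (n := Fin 2) (PadicInt.toZMod (p := p)) P := ha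
  set A : GL (Fin 2) ℤ_[p] := ϕ a with hA
  obtain ⟨D, hD⟩ := mat_dvd (M := (A : Matrix (Fin 2) (Fin 2) ℤ_[p]) * M * ((A⁻¹ : GL (Fin 2) ℤ_[p]) : Matrix (Fin 2) (Fin 2) ℤ_[p]))
    (N := (P : Matrix (Fin 2) (Fin 2) ℤ_[p]) * M * ((P⁻¹ : GL (Fin 2) ℤ_[p]) : Matrix (Fin 2) (Fin 2) ℤ_[p])) (by
      simp only [← RingHom.mapMatrix_apply, map_mul]
      have e1 := congrArg (Units.val) ha'
      have e2 := congrArg (fun u => (u⁻¹).val) ha'
      simp only [← map_inv] at e2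
      exact congrArg₂ (· * ·) (congrArg (· * _) e1) e2)
  have h1 : Reach ϕ n ((A : Matrix (Fin 2) (Fin 2) ℤ_[p]) * M * ((A⁻¹ : GL (Fin 2) ℤ_[p]) : Matrix (Fin 2) (Fin 2) ℤ_[p])) := by
    refine ⟨a * g * a⁻¹, (A : Matrix (Fin 2) (Fin 2) ℤ_[p]) * N * ((A⁻¹ : GL (Fin 2) ℤ_[p]) : Matrix (Fin 2) (Fin 2) ℤ_[p]), ?_⟩
    rw [map_mul, map_mul, map_inv, Units.val_mul, Units.val_mul, hg]
    simp only [← hA, Matrix.mul_add, Matrix.add_mul, Matrix.mul_one, Matrix.mul_smul,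
      Matrix.smul_mul, Units.mul_inv]
  have := h1.congr (-D)
  rw [hD] at this
  convert this using 1
  module

lemma reach_all (hn : 1 ≤ n) (hs : Function.Surjective
      ((Matrix.GeneralLinearGroup.map (n := Fin 2) (PadicInt.toZMod (p := p))).comp ϕ))
    {a b c d : ℤ_[p]} (ha : ¬ (p : ℤ_[p]) ∣ a) {g : 𝔊}
    (hg : (ϕ g : Matrix (Fin 2) (Fin 2) ℤ_[p]) =
      !![1 + (p : ℤ_[p]) ^ n * a, (p : ℤ_[p]) ^ (n + 1) * b;
         (p : ℤ_[p]) ^ (n + 1) * c, 1 + (p : ℤ_[p]) ^ (n + 1) * d]) (M : Matrix (Fin 2) (Fin 2) ℤ_[p]) :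
    Reach ϕ n M := by
  have h0 : Reach ϕ n !![a, 0; 0, 0] := by
    refine ⟨g, !![0, b; c, d], ?_⟩
    rw [hg]
    ext i j
    fin_cases i <;> fin_cases j <;> simp
  obtain ⟨u, hu⟩ : IsUnit a := by
    by_contra hc
    refine ha ((toZMod_eq_zero_iff a).1 ?_)
    rw [← RingHom.mem_ker, PadicInt.ker_toZMod]
    exact (IsLocalRing.mem_maximalIdeal _).2 hc
  have hE : ∀ x : ℤ_[p], Reach ϕ n !![x, 0; 0, 0] := by
    intro x
    convert h0.smul hn (x * ↑u⁻¹) using 1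
    ext i j
    fin_cases i <;> fin_cases j <;> simp [← hu, _root_.mul_assoc]
  let W : GL (Fin 2) ℤ_[p] := ⟨!![0, 1; 1, 0], !![0, 1; 1, 0],
    by ext i j; fin_cases i <;> fin_cases j <;> simp,
    by ext i j; fin_cases i <;> fin_cases j <;> simp⟩
  let T : GL (Fin 2) ℤ_[p] := ⟨!![1, 1; 0, 1], !![1, -1; 0, 1],
    by ext i j; fin_cases i <;> fin_cases j <;> simp,
    by ext i j; fin_cases i <;> fin_cases j <;> simp⟩
  let T' : GL (Fin 2) ℤ_[p] := ⟨!![1, 0; 1, 1], !![1, 0; -1, 1],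
    by ext i j; fin_cases i <;> fin_cases j <;> simp,
    by ext i j; fin_cases i <;> fin_cases j <;> simp⟩
  have h12 := (hE (M 0 1)).add hn (((hE (M 0 1)).conj hs T).smul hn (-1))
  have h21 := ((hE (M 1 0)).smul hn (-1)).add hn ((hE (M 1 0)).conj hs T')
  have h22 := (hE (M 1 1)).conj hs W
  have := (((hE (M 0 0)).add hn h12).add hn h21).add hn h22
  convert this using 1
  ext i j
  fin_cases i <;> fin_cases j <;> simp [W, T, T', Units.inv_mk]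

lemma surjective_of (hs : Function.Surjective
      ((Matrix.GeneralLinearGroup.map (n := Fin 2) (PadicInt.toZMod (p := p))).comp ϕ))
    (hall : ∀ n, 1 ≤ n → ∀ M : Matrix (Fin 2) (Fin 2) ℤ_[p], Reach ϕ n M)
    (hclosed : IsClosed (Set.range fun g => (ϕ g : Matrix (Fin 2) (Fin 2) ℤ_[p]))) :
    Function.Surjective ϕ := by
  intro x
  have key : ∀ n : ℕ, ∃ (g : 𝔊) (N : Matrix (Fin 2) (Fin 2) ℤ_[p]),
      (x : Matrix (Fin 2) (Fin 2) ℤ_[p]) = (ϕ g : Matrix (Fin 2) (Fin 2) ℤ_[p]) * (1 + (p : ℤ_[p]) ^ (n + 1) • N) := by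
    intro n
    induction n with
    | zero =>
      obtain ⟨g, hg⟩ := hs (Matrix.GeneralLinearGroup.map (n := Fin 2) (PadicInt.toZMod (p := p)) x)
      obtain ⟨D, hD⟩ := mat_dvd (M := (x : Matrix (Fin 2) (Fin 2) ℤ_[p])) (N := (ϕ g : Matrix (Fin 2) (Fin 2) ℤ_[p])) (congrArg Units.val hg).symm
      refine ⟨g, ((ϕ g)⁻¹ : GL (Fin 2) ℤ_[p]) * D, ?_⟩
      rw [Matrix.mul_add, Matrix.mul_one, Matrix.mul_smul, Units.mul_inv_cancel_left, zero_add,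
        pow_one]
      exact hD
    | succ n ih =>
      obtain ⟨g, N, hg⟩ := ih
      obtain ⟨g', N', hg'⟩ := hall (n + 1) (by omega) N
      refine ⟨g * g', ((ϕ g')⁻¹ : GL (Fin 2) ℤ_[p]) * (-N'), ?_⟩
      rw [map_mul, Units.val_mul, hg, Matrix.mul_assoc, Matrix.mul_add (ϕ g' : Matrix (Fin 2) (Fin 2) ℤ_[p]), Matrix.mul_one,
        Matrix.mul_smul, Units.mul_inv_cancel_left, hg']
      congr 1
      module
  choose g N hg using key
  have ht : Tendsto (fun n => (ϕ (g n) : Matrix (Fin 2) (Fin 2) ℤ_[p])) atTop (𝓝 (x : Matrix (Fin 2) (Fin 2) ℤ_[p])) := by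
    refine tendsto_pi_nhds.2 fun i => tendsto_pi_nhds.2 fun j => ?_
    rw [tendsto_iff_norm_sub_tendsto_zero]
    have hp : (1 : ℝ) < p := by exact_mod_cast (Fact.out : p.Prime).one_lt
    refine squeeze_zero (fun _ => norm_nonneg _) (g := fun n => ((p : ℝ)⁻¹) ^ (n + 1)) ?_ ?_
    · intro n
      have e : (x : Matrix (Fin 2) (Fin 2) ℤ_[p]) i j = (ϕ (g n) : Matrix (Fin 2) (Fin 2) ℤ_[p]) i j +
          (p : ℤ_[p]) ^ (n + 1) * (((ϕ (g n) : Matrix (Fin 2) (Fin 2) ℤ_[p]) * N n) i j) := by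
        conv_lhs => rw [hg n]
        simp [Matrix.mul_add]
      rw [e, norm_sub_rev, add_sub_cancel_left, norm_mul, PadicInt.norm_p_pow (p := p)]
      calc (p : ℝ) ^ (-((n + 1 : ℕ) : ℤ)) * ‖((ϕ (g n) : Matrix (Fin 2) (Fin 2) ℤ_[p]) * N n) i j‖
          ≤ (p : ℝ) ^ (-((n + 1 : ℕ) : ℤ)) * 1 := by
            exact mul_le_mul_of_nonneg_left (PadicInt.norm_le_one _) (_root_.zpow_nonneg (by linarith) _)
        _ = _ := by rw [mul_one, _root_.zpow_neg, zpow_natCast, inv_pow]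
    · exact (tendsto_pow_atTop_nhds_zero_of_lt_one (by positivity) (inv_lt_one_of_one_lt₀ hp)).comp
        (tendsto_add_atTop_nat 1)
  obtain ⟨y, hy⟩ := hclosed.mem_of_tendsto ht (Filter.Eventually.of_forall fun n => ⟨g n, rfl⟩)
  exact ⟨y, Units.ext hy⟩

end

/-- Let 𝔊 be a profinite group and ϕ : 𝔊 → GL₂(ℤ_p) a continuous homomorphism. Then ϕ is surjective if
and only if (i) the composite of ϕ with reduction modulo p, 𝔊 → GL₂(𝔽_p), is surjective, and (ii)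
for every integer n ≥ 1 there is g ∈ 𝔊 such that ϕ(g) has the form [[1 + pⁿa, pⁿ⁺¹b], [pⁿ⁺¹c, 1 +
pⁿ⁺¹d]] with a, b, c, d ∈ ℤ_p and a not divisible by p (equivalently: the image of ϕ⁻¹(1 +
pⁿMatrix (Fin 2) (Fin 2) ℤ_[p](ℤ_p)) in Matrix (Fin 2) (Fin 2) ℤ_[p](𝔽_p) under g ↦ (ϕ(g) − 1)/pⁿ contains a matrix [[x, 0], [0, 0]] with x ≠ 0).
Continuity of ϕ is expressed through its matrix entries. -/
theorem result (p : ℕ) [Fact p.Prime]
    (𝔊 : Type u) [Group 𝔊] [TopologicalSpace 𝔊] [IsTopologicalGroup 𝔊] [CompactSpace 𝔊] [T2Space 𝔊]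
    [TotallyDisconnectedSpace 𝔊]
    (ϕ : 𝔊 →* GL (Fin 2) ℤ_[p])
    (hϕ : Continuous fun g => ((ϕ g : GL (Fin 2) ℤ_[p]) : Matrix (Fin 2) (Fin 2) ℤ_[p])) :
    Function.Surjective ϕ ↔
      (Function.Surjective ((Matrix.GeneralLinearGroup.map (n := Fin 2) (PadicInt.toZMod (p := p))).comp ϕ) ∧
        ∀ n : ℕ, 1 ≤ n → ∃ (g : 𝔊) (a b c d : ℤ_[p]), ¬ ((p : ℤ_[p]) ∣ a) ∧
          ((ϕ g : GL (Fin 2) ℤ_[p]) : Matrix (Fin 2) (Fin 2) ℤ_[p]) =
            !![1 + (p : ℤ_[p]) ^ n * a, (p : ℤ_[p]) ^ (n + 1) * b;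
               (p : ℤ_[p]) ^ (n + 1) * c, 1 + (p : ℤ_[p]) ^ (n + 1) * d]) := by
  refine ⟨fun h => ⟨?_, fun n hn => ?_⟩, fun ⟨hs, hc⟩ => ?_⟩
  · intro y
    obtain ⟨x, rfl⟩ := glMap_surjective y
    obtain ⟨g, rfl⟩ := h x
    exact ⟨g, rfl⟩
  · have hu : IsUnit (1 + (p : ℤ_[p]) ^ n) := by
      by_contra hc
      have h0 : PadicInt.toZMod (1 + (p : ℤ_[p]) ^ n) = 0 := by
        rw [← RingHom.mem_ker, PadicInt.ker_toZMod]
        exact (IsLocalRing.mem_maximalIdeal _).2 hc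
      simp [zero_pow (by omega : n ≠ 0)] at h0
    obtain ⟨g, hg⟩ := h (((Matrix.isUnit_iff_isUnit_det
      !![1 + (p : ℤ_[p]) ^ n, 0; 0, (1 : ℤ_[p])]).2 (by simpa [Matrix.det_fin_two] using hu)).unit)
    refine ⟨g, 1, 0, 0, 0, ?_, ?_⟩
    · intro hd
      exact PadicInt.prime_p.not_isUnit (isUnit_of_dvd_one hd)
    · rw [hg]; simp
  · refine surjective_of hs (fun n hn M => ?_) (isCompact_range hϕ).isClosed
    obtain ⟨g, a, b, c, d, ha, hg⟩ := hc n hn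
    exact reach_all hn hs ha hg M

end Groth.Agent.S15360
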