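import Groth.Statements.S15361
import Mathlib.FieldTheory.Finite.GaloisField
import Mathlib.RingTheory.LittleWedderburn
import Mathlib.GroupTheory.Perm.Cycle.Type
import Mathlib.LinearAlgebra.Matrix.GeneralLinearGroup.Defs
import Mathlib.RingTheory.Trace.Basic

set_option autoImplicit false
open GalCoh

namespace Groth.Agent.S15361

open Matrix in
theorem dvd_card_GL (p : ℕ) [Fact p.Prime] : p ∣ Nat.card (⊤ : Subgroup (GL (Fin 2) (ZMod p))) := by
  classical
  rw [Subgroup.card_top]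
  let N : Matrix (Fin 2) (Fin 2) (ZMod p) := !![0, 1; 0, 0]
  let u : GL (Fin 2) (ZMod p) := ⟨1 + N, 1 - N,
    by ext i j; fin_cases i <;> fin_cases j <;> simp [N, Matrix.mul_apply],
    by ext i j; fin_cases i <;> fin_cases j <;> simp [N, Matrix.mul_apply]⟩
  have hk : ∀ k : ℕ, ((u ^ k : GL (Fin 2) (ZMod p)) : Matrix (Fin 2) (Fin 2) (ZMod p)) = 1 + k • N := by
    intro k
    induction k with
    | zero => simp
    | succ k ih =>
      rw [pow_succ, Units.val_mul, ih]
      show (1 + k • N) * (1 + N) = _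
      have : N * N = 0 := by ext i j; fin_cases i <;> fin_cases j <;> simp [N, Matrix.mul_apply]
      rw [add_mul, one_mul, mul_add, mul_one, smul_mul_assoc, this, smul_zero, add_zero, succ_nsmul]
      abel
  have hu : orderOf u = p := by
    refine orderOf_eq_prime (Units.ext ?_) fun h => ?_
    · rw [hk, Units.val_one]; ext i j; fin_cases i <;> fin_cases j <;> simp [N]
    · have := congrArg (fun g : GL (Fin 2) (ZMod p) => (g : Matrix (Fin 2) (Fin 2) (ZMod p)) 0 1) h
      simp [u, N] at this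
  have h := orderOf_dvd_natCard u
  rwa [hu] at h

theorem exists_cartan (p : ℕ) [Fact p.Prime] :
    ∃ (C : Subgroup (GL (Fin 2) (ZMod p))) (E : Subring (Matrix (Fin 2) (Fin 2) (ZMod p))),
      C ≤ ⊤ ∧ IsField E ∧ Nat.card E = p ^ 2 ∧
        (E : Set (Matrix (Fin 2) (Fin 2) (ZMod p))) =
          insert 0 ((fun g : GL (Fin 2) (ZMod p) => (g : Matrix (Fin 2) (Fin 2) (ZMod p))) ''
            (C : Set (GL (Fin 2) (ZMod p)))) := by
  classical
  let L := GaloisField p 2
  let b : Module.Basis (Fin 2) (ZMod p) L := Module.finBasisOfFinrankEq _ _ (GaloisField.finrank p two_ne_zero)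
  let φ : L →+* Matrix (Fin 2) (Fin 2) (ZMod p) := (Algebra.leftMulMatrix b).toRingHom
  have hφ : Function.Injective φ := Algebra.leftMulMatrix_injective b
  let ψ := RingEquiv.ofBijective φ.rangeRestrict ⟨fun x y h => hφ (congrArg Subtype.val h), φ.rangeRestrict_surjective⟩
  refine ⟨(Units.map φ.toMonoidHom).range, φ.range, le_top, ψ.symm.toMulEquiv.isField (Field.toIsField L), ?_, ?_⟩
  · rw [← Nat.card_congr ψ.toEquiv]; exact GaloisField.card p 2 two_ne_zero
  · ext z
    constructor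
    · rintro ⟨x, rfl⟩
      rcases eq_or_ne x 0 with rfl | hx
      · exact Or.inl (map_zero φ)
      · exact Or.inr ⟨Units.map φ.toMonoidHom (Units.mk0 x hx), ⟨_, rfl⟩, rfl⟩
    · rintro (rfl | ⟨_, ⟨x, rfl⟩, rfl⟩)
      · exact φ.range.zero_mem
      · exact ⟨x.1, rfl⟩

open Matrix in
theorem eq_top_of_cartan (p : ℕ) [Fact p.Prime] (H C : Subgroup (GL (Fin 2) (ZMod p)))
    (E : Subring (Matrix (Fin 2) (Fin 2) (ZMod p))) (hCH : C ≤ H) (hE : IsField E) (hcard : Nat.card E = p ^ 2)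
    (hEC : (E : Set (Matrix (Fin 2) (Fin 2) (ZMod p))) =
      insert 0 ((fun g : GL (Fin 2) (ZMod p) => (g : Matrix (Fin 2) (Fin 2) (ZMod p))) ''
        (C : Set (GL (Fin 2) (ZMod p)))))
    (hdvd : p ∣ Nat.card H) : H = ⊤ := by
  classical
  have hC : ∀ e ∈ E, e ≠ 0 → ∃ c ∈ C, (c : (Matrix (Fin 2) (Fin 2) (ZMod p))) = e := by
    intro e he he0
    have : e ∈ (E : Set (Matrix (Fin 2) (Fin 2) (ZMod p))) := he
    rw [hEC] at this
    exact (this.resolve_left he0)
  -- transitivity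
  have htrans : ∀ v w : Fin 2 → (ZMod p), v ≠ 0 → w ≠ 0 → ∃ c ∈ C, (c : (Matrix (Fin 2) (Fin 2) (ZMod p))) *ᵥ v = w := by
    intro v w hv hw
    let f : E → (Fin 2 → (ZMod p)) := fun e => (e : (Matrix (Fin 2) (Fin 2) (ZMod p))) *ᵥ v
    have hinj : Function.Injective f := by
      intro a b hab
      by_contra hne
      have hne' : (a : (Matrix (Fin 2) (Fin 2) (ZMod p))) - b ≠ 0 := sub_ne_zero.mpr fun h => hne (Subtype.ext h)
      obtain ⟨c, -, hc⟩ := hC _ (E.sub_mem a.2 b.2) hne'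
      refine hv ?_
      have h0 : (c : (Matrix (Fin 2) (Fin 2) (ZMod p))) *ᵥ v = 0 := by rw [hc, Matrix.sub_mulVec]; exact sub_eq_zero.mpr hab
      have h : ((c⁻¹ : GL (Fin 2) (ZMod p)) : (Matrix (Fin 2) (Fin 2) (ZMod p))) *ᵥ ((c : (Matrix (Fin 2) (Fin 2) (ZMod p))) *ᵥ v) = ((c⁻¹ : GL (Fin 2) (ZMod p)) : (Matrix (Fin 2) (Fin 2) (ZMod p))) *ᵥ 0 := by rw [h0]
      rwa [Matrix.mulVec_mulVec, Units.inv_mul, Matrix.one_mulVec, Matrix.mulVec_zero] at h
    obtain ⟨e, he⟩ := ((Nat.bijective_iff_injective_and_card f).mpr ⟨hinj, by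
      rw [hcard, Nat.card_eq_fintype_card]; simp⟩).2 w
    obtain ⟨c, hc, hce⟩ := hC e e.2 (fun h => hw (by rw [← he]; simp [f, h]))
    exact ⟨c, hc, hce ▸ he⟩
  -- a unipotent element
  obtain ⟨⟨u, huH⟩, hu⟩ := exists_prime_orderOf_dvd_card' p hdvd
  have huo : orderOf u = p := (Subgroup.orderOf_coe ⟨u, huH⟩).trans hu
  have hup : u ^ p = 1 := by
    have h := pow_orderOf_eq_one u
    rwa [huo] at h
  have hu1 : u ≠ 1 := fun h => (Fact.out : p.Prime).ne_one (by rw [← huo, h, orderOf_one])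
  haveI : CharP (Matrix (Fin 2) (Fin 2) (ZMod p)) p := charP_of_injective_ringHom (f := Matrix.scalar (α := ZMod p) (Fin 2)) (fun _ _ => Matrix.scalar_inj.mp) p
  let N : (Matrix (Fin 2) (Fin 2) (ZMod p)) := (u : (Matrix (Fin 2) (Fin 2) (ZMod p))) - 1
  have hN0 : N ≠ 0 := fun h => hu1 (Units.ext (sub_eq_zero.mp h))
  have hNp : N ^ p = 0 := by
    rw [sub_pow_char_of_commute _ (Commute.one_right _), one_pow, ← Units.val_pow_eq_pow_val, hup, Units.val_one, sub_self]
  have hCH2 : ∀ A : (Matrix (Fin 2) (Fin 2) (ZMod p)), A * A = A.trace • A - A.det • 1 := by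
    intro A
    ext i j
    fin_cases i <;> fin_cases j <;>
      simp [Matrix.mul_apply, Matrix.det_fin_two, Matrix.trace_fin_two, Matrix.smul_apply] <;> ring
  have hNdet : N.det = 0 := by
    have := congrArg Matrix.det hNp
    rw [Matrix.det_pow, Matrix.det_zero] at this
    exact pow_eq_zero_iff (Fact.out : p.Prime).ne_zero |>.mp this
  have hNN : N * N = 0 := by
    have h1 : ∀ k : ℕ, N ^ (k + 1) = N.trace ^ k • N := by
      intro k
      induction k with
      | zero => simp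
      | succ k ih => rw [pow_succ, ih, smul_mul_assoc, hCH2, hNdet, zero_smul, sub_zero, smul_smul, ← pow_succ]
    have h2 := h1 (p - 1)
    rw [Nat.sub_add_cancel (Fact.out : p.Prime).one_le, hNp] at h2
    rcases smul_eq_zero.mp h2.symm with h3 | h3
    · rw [hCH2, hNdet, pow_eq_zero_iff'.mp h3 |>.1, zero_smul, zero_smul, sub_zero]
    · exact absurd h3 hN0
  obtain ⟨v, hv0, hNv⟩ : ∃ v : Fin 2 → (ZMod p), v ≠ 0 ∧ N *ᵥ v = 0 := by
    obtain ⟨j, hj⟩ : ∃ j, N *ᵥ (Pi.single j 1) ≠ 0 := by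
      by_contra hc
      push Not at hc
      exact hN0 (Matrix.ext fun i j => by simpa [Matrix.zero_apply] using congrFun (hc j) i)
    exact ⟨_, hj, by rw [Matrix.mulVec_mulVec, hNN, Matrix.zero_mulVec]⟩
  have helem : ∀ i j : Fin 2, i ≠ j → ∀ t : (ZMod p), ∃ g ∈ H, (g : (Matrix (Fin 2) (Fin 2) (ZMod p))) = 1 + t • Matrix.single i j 1 := by
    intro i j hij t
    obtain ⟨c, hcC, hc⟩ := htrans v (Pi.single i 1) hv0 (by simp)
    let g := c * u * c⁻¹
    have hgH : g ∈ H := H.mul_mem (H.mul_mem (hCH hcC) huH) (H.inv_mem (hCH hcC))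
    let K : (Matrix (Fin 2) (Fin 2) (ZMod p)) := (c : (Matrix (Fin 2) (Fin 2) (ZMod p))) * N * ((c⁻¹ : GL (Fin 2) (ZMod p)) : (Matrix (Fin 2) (Fin 2) (ZMod p)))
    have hgK : (g : (Matrix (Fin 2) (Fin 2) (ZMod p))) = 1 + K := by
      have : (u : (Matrix (Fin 2) (Fin 2) (ZMod p))) = 1 + N := by simp [N]
      show (c : (Matrix (Fin 2) (Fin 2) (ZMod p))) * (u : (Matrix (Fin 2) (Fin 2) (ZMod p))) * ((c⁻¹ : GL (Fin 2) (ZMod p)) : (Matrix (Fin 2) (Fin 2) (ZMod p))) = _
      rw [this, mul_add, mul_one, add_mul, Units.mul_inv]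
    have hKK : K * K = 0 := by
      show (c : (Matrix (Fin 2) (Fin 2) (ZMod p))) * N * ((c⁻¹ : GL (Fin 2) (ZMod p)) : (Matrix (Fin 2) (Fin 2) (ZMod p))) * ((c : (Matrix (Fin 2) (Fin 2) (ZMod p))) * N * ((c⁻¹ : GL (Fin 2) (ZMod p)) : (Matrix (Fin 2) (Fin 2) (ZMod p)))) = 0
      rw [mul_assoc ((c : (Matrix (Fin 2) (Fin 2) (ZMod p))) * N), ← mul_assoc ((c⁻¹ : GL (Fin 2) (ZMod p)) : (Matrix (Fin 2) (Fin 2) (ZMod p))), ← mul_assoc ((c⁻¹ : GL (Fin 2) (ZMod p)) : (Matrix (Fin 2) (Fin 2) (ZMod p))),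
        Units.inv_mul, one_mul, mul_assoc (c : (Matrix (Fin 2) (Fin 2) (ZMod p))), ← mul_assoc N, hNN]
      simp
    have hK0 : K ≠ 0 := fun h => hN0 (by
      have h' := congrArg (fun X : (Matrix (Fin 2) (Fin 2) (ZMod p)) => ((c⁻¹ : GL (Fin 2) (ZMod p)) : (Matrix (Fin 2) (Fin 2) (ZMod p))) * X * (c : (Matrix (Fin 2) (Fin 2) (ZMod p)))) h
      simpa [K, mul_assoc] using h')
    have hKi : K *ᵥ (Pi.single i 1) = 0 := by
      rw [← hc, Matrix.mulVec_mulVec, show K * (c : (Matrix (Fin 2) (Fin 2) (ZMod p))) = (c : (Matrix (Fin 2) (Fin 2) (ZMod p))) * N by simp only [K, mul_assoc, Units.inv_mul, mul_one],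
        ← Matrix.mulVec_mulVec, hNv, Matrix.mulVec_zero]
    have hcol : ∀ l, K l i = 0 := fun l => by simpa using congrFun hKi l
    have hjj : K j j = 0 := by
      have h := congrFun (congrFun hKK j) j
      fin_cases i <;> fin_cases j <;> simp_all [Matrix.mul_apply]
    have hKe : K = K i j • Matrix.single i j (1 : (ZMod p)) := by
      ext a b
      have h0 := hcol a
      fin_cases i <;> fin_cases j <;> fin_cases a <;> fin_cases b <;> simp_all
    have hKij : K i j ≠ 0 := fun h => hK0 (by rw [hKe, h, zero_smul])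
    have hpow : ∀ k : ℕ, ((g ^ k : GL (Fin 2) (ZMod p)) : (Matrix (Fin 2) (Fin 2) (ZMod p))) = 1 + (k : (ZMod p)) • K := by
      intro k
      induction k with
      | zero => simp
      | succ k ih =>
        rw [pow_succ, Units.val_mul, ih, hgK, add_mul, one_mul, mul_add, mul_one, smul_mul_assoc, hKK, smul_zero,
          add_zero, Nat.cast_succ, add_smul, one_smul]
        abel
    refine ⟨g ^ (t / K i j).val, H.pow_mem hgH _, ?_⟩
    rw [hpow, ZMod.natCast_zmod_val]
    rw [congrArg (fun X => (t / K i j) • X) hKe, smul_smul, div_mul_cancel₀ t hKij]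
  -- determinants
  letI : Field E := hE.toField
  haveI : CharP E p := (RingHom.charP_iff E.subtype Subtype.val_injective p).mpr inferInstance
  haveI : Finite E := Nat.finite_of_card_ne_zero (by rw [hcard]; exact pow_ne_zero _ (Fact.out : p.Prime).ne_zero)
  haveI := Fintype.ofFinite E
  let ι : (ZMod p) →+* E := ZMod.castHom dvd_rfl E
  have hι : ∀ a : (ZMod p), ((ι a : E) : (Matrix (Fin 2) (Fin 2) (ZMod p))) = a • 1 := fun a => by
    obtain ⟨k, rfl⟩ : ∃ k : ℕ, (k : (ZMod p)) = a := ⟨a.val, ZMod.natCast_zmod_val a⟩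
    rw [map_natCast]
    simp [Nat.cast_smul_eq_nsmul]
  have hdet : ∀ e : E, ι ((e : (Matrix (Fin 2) (Fin 2) (ZMod p))).det) = e ^ (p + 1) := by
    intro e
    set t := ι (e : (Matrix (Fin 2) (Fin 2) (ZMod p))).trace
    set d := ι (e : (Matrix (Fin 2) (Fin 2) (ZMod p))).det
    have h1 : e * e - t * e + d = 0 := by
      apply Subtype.ext
      show (e : (Matrix (Fin 2) (Fin 2) (ZMod p))) * e - (t : (Matrix (Fin 2) (Fin 2) (ZMod p))) * e + (d : (Matrix (Fin 2) (Fin 2) (ZMod p))) = 0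
      rw [hι, hι, hCH2, smul_mul_assoc, one_mul]
      abel
    have hfix : ∀ a : (ZMod p), (ι a) ^ p = ι a := fun a => by rw [← map_pow, ZMod.pow_card]
    by_cases he : e ^ p = e
    · obtain ⟨a, rfl⟩ : ∃ a, ι a = e := by
        by_contra hc
        push Not at hc
        let q : Polynomial E := Polynomial.X ^ p - Polynomial.X
        have hq : q ≠ 0 := FiniteField.X_pow_card_sub_X_ne_zero E (Fact.out : p.Prime).one_lt
        have hsub : insert e (Finset.univ.image ι) ⊆ q.roots.toFinset := by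
          intro x hx
          rw [Multiset.mem_toFinset, Polynomial.mem_roots hq]
          rcases Finset.mem_insert.mp hx with rfl | hx
          · simp [q, he]
          · obtain ⟨a, -, rfl⟩ := Finset.mem_image.mp hx
            simp [q, hfix]
        have hle := (Finset.card_le_card hsub).trans (q.roots.toFinset_card_le.trans q.card_roots')
        rw [Finset.card_insert_of_notMem (by simpa [eq_comm] using hc), Finset.card_image_of_injective _ ι.injective,
          Finset.card_univ, ZMod.card, FiniteField.X_pow_card_sub_X_natDegree_eq E (Fact.out : p.Prime).one_lt] at hle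
        omega
      have : ((ι a : E) : (Matrix (Fin 2) (Fin 2) (ZMod p))).det = a * a := by rw [hι, Matrix.det_smul]; simp [sq]
      show ι _ = _
      rw [this, map_mul, pow_succ, hfix]
    · have h2 : e ^ p * e ^ p - t * e ^ p + d = 0 := by
        have := congrArg (frobenius E p) h1
        simp only [map_add, map_sub, map_mul, map_zero, frobenius_def] at this
        rwa [hfix, hfix] at this
      have h3 : (e ^ p - e) * (e ^ p + e - t) = 0 := by linear_combination h2 - h1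
      have h4 : e ^ p = t - e := by
        have := (mul_eq_zero.mp h3).resolve_left (sub_ne_zero.mpr he)
        linear_combination this
      rw [pow_succ, h4]
      linear_combination h1
  have hdetC : ∀ d : (ZMod p), d ≠ 0 → ∃ c ∈ C, (c : (Matrix (Fin 2) (Fin 2) (ZMod p))).det = d := by
    let φ : Eˣ →* (ZMod p)ˣ := Units.map (Matrix.detMonoidHom.comp E.subtype.toMonoidHom)
    have hker : Nat.card φ.ker ≤ p + 1 := by
      let S := (Polynomial.nthRoots (p + 1) (1 : E)).toFinset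
      have hS : ∀ x : φ.ker, ((x : Eˣ) : E) ∈ S := fun x => by
        rw [Multiset.mem_toFinset, Polynomial.mem_nthRoots (Nat.succ_pos p), ← hdet]
        have : ((x : Eˣ) : E).1.det = 1 := congrArg Units.val x.2
        rw [this, map_one]
      calc Nat.card φ.ker ≤ Nat.card S := Nat.card_le_card_of_injective (fun x => (⟨_, hS x⟩ : S))
            fun x y h => Subtype.ext (Units.ext (congrArg (fun z : S => (z : E)) h))
        _ = S.card := Nat.card_eq_finsetCard S
        _ ≤ p + 1 := (Multiset.toFinset_card_le _).trans (Polynomial.card_nthRoots _ _)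
    have hsurj : Function.Surjective φ := by
      rw [← MonoidHom.range_eq_top]
      refine Subgroup.eq_top_of_le_card _ ?_
      have hmul : Nat.card Eˣ = Nat.card φ.ker * Nat.card φ.range := by
        rw [Subgroup.card_eq_card_quotient_mul_card_subgroup φ.ker, mul_comm,
          Nat.card_congr (QuotientGroup.quotientKerEquivRange φ).toEquiv]
      rw [Nat.card_units, hcard] at hmul
      rw [Nat.card_units, Nat.card_zmod]
      have h1 : p ^ 2 - 1 = (p + 1) * (p - 1) := by rw [← Nat.sq_sub_sq, one_pow]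
      rw [h1] at hmul
      exact Nat.le_of_mul_le_mul_left ((hmul.le).trans (Nat.mul_le_mul_right _ hker)) (Nat.succ_pos p)
    intro d hd
    obtain ⟨x, hx⟩ := hsurj (Units.mk0 d hd)
    obtain ⟨c, hc, hce⟩ := hC _ x.1.2 (fun h => x.ne_zero (Subtype.ext h))
    exact ⟨c, hc, hce ▸ congrArg Units.val hx⟩
  refine eq_top_iff.mpr fun g _ => ?_
  obtain ⟨c, hcC, hc⟩ := hdetC (g : (Matrix (Fin 2) (Fin 2) (ZMod p))).det ((Matrix.isUnit_iff_isUnit_det _).mp g.isUnit).ne_zero
  suffices hm : c⁻¹ * g ∈ H by simpa using H.mul_mem (hCH hcC) hm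
  have hmdet : ((c⁻¹ * g : GL (Fin 2) (ZMod p)) : (Matrix (Fin 2) (Fin 2) (ZMod p))).det = 1 := by
    rw [Units.val_mul, Matrix.det_mul, ← hc, ← Matrix.det_mul, Units.inv_mul, Matrix.det_one]
  generalize c⁻¹ * g = m at hmdet
  set a := (m : (Matrix (Fin 2) (Fin 2) (ZMod p))) 0 0
  set b := (m : (Matrix (Fin 2) (Fin 2) (ZMod p))) 1 0
  obtain ⟨w, hw, hw0, hw1⟩ : ∃ w ∈ H, (w : (Matrix (Fin 2) (Fin 2) (ZMod p))) 0 0 = a ∧ (w : (Matrix (Fin 2) (Fin 2) (ZMod p))) 1 0 = b ∧ (w : (Matrix (Fin 2) (Fin 2) (ZMod p))).det = 1 := by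
    rcases ne_or_eq b 0 with hb | hb
    · obtain ⟨x, hx, hxv⟩ := helem 1 0 (by decide) b
      obtain ⟨y, hy, hyv⟩ := helem 0 1 (by decide) ((a - 1) / b)
      refine ⟨y * x, H.mul_mem hy hx, ?_, ?_, ?_⟩
      · simp [hxv, hyv, Matrix.mul_apply]; field_simp; ring
      · simp [hxv, hyv, Matrix.mul_apply]
      · rw [Units.val_mul, Matrix.det_mul, hxv, hyv, Matrix.det_fin_two, Matrix.det_fin_two]; simp
    · have ha : a ≠ 0 := by
        intro ha
        have : (m : (Matrix (Fin 2) (Fin 2) (ZMod p))).det = 0 := by rw [Matrix.det_fin_two]; simp [show (m : (Matrix (Fin 2) (Fin 2) (ZMod p))) 0 0 = 0 from ha, show (m : (Matrix (Fin 2) (Fin 2) (ZMod p))) 1 0 = 0 from hb]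
        exact one_ne_zero (hmdet.symm.trans this)
      obtain ⟨x, hx, hxv⟩ := helem 1 0 (by decide) 1
      obtain ⟨y, hy, hyv⟩ := helem 0 1 (by decide) (a - 1)
      obtain ⟨z, hz, hzv⟩ := helem 1 0 (by decide) (-1 / a)
      refine ⟨z * (y * x), H.mul_mem hz (H.mul_mem hy hx), ?_, ?_, ?_⟩
      · simp [hxv, hyv, hzv, Matrix.mul_apply]
      · simp [hxv, hyv, hzv, Matrix.mul_apply, hb]; field_simp; ring
      · rw [Units.val_mul, Matrix.det_mul, Units.val_mul, Matrix.det_mul, hxv, hyv, hzv, Matrix.det_fin_two,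
          Matrix.det_fin_two, Matrix.det_fin_two]; simp
  suffices hr : w⁻¹ * m ∈ H by simpa using H.mul_mem hw hr
  obtain ⟨hw1, hwd⟩ := hw1
  set r := w⁻¹ * m
  have hcolm : (m : (Matrix (Fin 2) (Fin 2) (ZMod p))) *ᵥ Pi.single 0 1 = (w : (Matrix (Fin 2) (Fin 2) (ZMod p))) *ᵥ Pi.single 0 1 := by
    ext l; fin_cases l <;> simp [hw0, hw1, a, b]
  have hcolr : (r : (Matrix (Fin 2) (Fin 2) (ZMod p))) *ᵥ Pi.single 0 1 = Pi.single 0 1 := by
    rw [show (r : (Matrix (Fin 2) (Fin 2) (ZMod p))) = ((w⁻¹ : GL (Fin 2) (ZMod p)) : (Matrix (Fin 2) (Fin 2) (ZMod p))) * (m : (Matrix (Fin 2) (Fin 2) (ZMod p))) from Units.val_mul _ _, ← Matrix.mulVec_mulVec, hcolm,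
      Matrix.mulVec_mulVec, Units.inv_mul, Matrix.one_mulVec]
  have hrdet : (r : (Matrix (Fin 2) (Fin 2) (ZMod p))).det = 1 := by
    have h := congrArg Matrix.det (Units.inv_mul w)
    rw [Matrix.det_mul, hwd, mul_one, Matrix.det_one] at h
    rw [show (r : (Matrix (Fin 2) (Fin 2) (ZMod p))) = ((w⁻¹ : GL (Fin 2) (ZMod p)) : (Matrix (Fin 2) (Fin 2) (ZMod p))) * (m : (Matrix (Fin 2) (Fin 2) (ZMod p))) from Units.val_mul _ _, Matrix.det_mul, h, hmdet, one_mul]
  have h00 : (r : (Matrix (Fin 2) (Fin 2) (ZMod p))) 0 0 = 1 := by simpa using congrFun hcolr 0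
  have h10 : (r : (Matrix (Fin 2) (Fin 2) (ZMod p))) 1 0 = 0 := by simpa using congrFun hcolr 1
  obtain ⟨y, hy, hyv⟩ := helem 0 1 (by decide) ((r : (Matrix (Fin 2) (Fin 2) (ZMod p))) 0 1)
  rw [show r = y from Units.ext (by
    rw [hyv]
    rw [Matrix.det_fin_two, h00, h10] at hrdet
    ext i j
    fin_cases i <;> fin_cases j <;> simp_all)]
  exact hy


/-- Let p be a prime and H a subgroup of GL₂(𝔽_p). Then H = GL₂(𝔽_p) if and only if (i) some non-split
Cartan subgroup lies in H, i.e. some subgroup C ≤ H such that C ∪ {0} is a subfield of the matrix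
algebra M₂(𝔽_p) with p² elements, and (ii) p divides the order of H. -/
theorem result (p : ℕ) [Fact p.Prime]
    (H : Subgroup (GL (Fin 2) (ZMod p))) :
    H = ⊤ ↔
      (∃ (C : Subgroup (GL (Fin 2) (ZMod p))) (E : Subring (Matrix (Fin 2) (Fin 2) (ZMod p))),
          C ≤ H ∧ IsField E ∧ Nat.card E = p ^ 2 ∧
            (E : Set (Matrix (Fin 2) (Fin 2) (ZMod p))) =
              insert 0 ((fun g : GL (Fin 2) (ZMod p) => (g : Matrix (Fin 2) (Fin 2) (ZMod p))) ''
                (C : Set (GL (Fin 2) (ZMod p))))) ∧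
        p ∣ Nat.card H := by
  constructor
  · rintro rfl
    exact ⟨exists_cartan p, dvd_card_GL p⟩
  · rintro ⟨⟨C, E, hCH, hE, hcard, hEC⟩, hdvd⟩
    exact eq_top_of_cartan p H C E hCH hE hcard hEC hdvd

end Groth.Agent.S15361
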