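import Groth.Statements.S15362
import Groth.Agent.CommAlg4.LangFixed
import Mathlib.Algebra.Module.FinitePresentation
import Mathlib.Tactic
import Groth.Agent.CommAlg4.LangFixed

set_option linter.all false

set_option autoImplicit false
universe u v w
open CAlg


namespace Groth.Agent.S15362

/-- For an algebraically closed field L of characteristic p > 0, a commutative L-algebra R integral over
L, and a finitely presented R-module M carrying an additive endomorphism φ with φ(r·m) = r^p·φ(m)
for r ∈ R, m ∈ M, the map m ↦ φ(m) − m is onto. (R is taken of exponential characteristic p so that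
its Frobenius is a ring endomorphism; for a non-zero L-algebra this is automatic.) -/
theorem result (p : ℕ) [Fact p.Prime]
    (L : Type u) [Field L] [IsAlgClosed L] [CharP L p]
    (R : Type v) [CommRing R] [Algebra L R] [Algebra.IsIntegral L R] [ExpChar R p]
    (M : Type w) [AddCommGroup M] [Module R M] [Module.FinitePresentation R M]
    (φ : M →ₛₗ[frobenius R p] M) :
    Function.Surjective fun m : M => φ m - m := by
  classical
  intro m
  obtain ⟨n, e, he⟩ := Module.Finite.exists_fin (R := R) (M := M)
  have hmem : ∀ z : M, ∃ c : Fin n → R, ∑ i, c i • e i = z := fun z =>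
    (Submodule.mem_span_range_iff_exists_fun R).mp (he ▸ Submodule.mem_top)
  choose co hco using hmem
  let T : Finset R := (Finset.univ.image fun ij : Fin n × Fin n => co (φ (e ij.1)) ij.2) ∪
    Finset.univ.image (co m)
  let R₀ := Algebra.adjoin L (T : Set R)
  have : Module.Finite L R₀ := by
    exact (Module.Finite.iff_fg (N := Subalgebra.toSubmodule R₀)).mpr
      (fg_adjoin_of_finite T.finite_toSet fun x _ => Algebra.IsIntegral.isIntegral x)
  let : Module L M := Module.compHom M (algebraMap L R)
  have : IsScalarTower L R M := IsScalarTower.of_algebraMap_smul fun _ _ => rfl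
  let g : (Fin n → R₀) →ₗ[L] M :=
    ∑ i, ((LinearMap.toSpanSingleton R M (e i)).restrictScalars L) ∘ₗ R₀.val.toLinearMap ∘ₗ LinearMap.proj i
  have hg : ∀ c, g c = ∑ i, (c i : R) • e i := fun c => by simp [g]
  let V := LinearMap.range g
  have hrepr : ∀ z, (∀ i, co z i ∈ R₀) → z ∈ V := fun z hz => ⟨fun i => ⟨co z i, hz i⟩, by rw [hg]; exact hco z⟩
  have hV : ∀ z ∈ V, φ z ∈ V := by
    rintro _ ⟨c, rfl⟩
    refine ⟨fun j => ∑ i, c i ^ p * ⟨co (φ (e i)) j, Algebra.subset_adjoin
      (Finset.mem_coe.mpr (Finset.mem_union_left _ (Finset.mem_image.mpr ⟨(i, j), Finset.mem_univ _, rfl⟩)))⟩, ?_⟩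
    rw [hg, hg, map_sum]
    simp only [AddSubmonoidClass.coe_finset_sum, MulMemClass.coe_mul, SubmonoidClass.coe_pow, Finset.sum_smul]
    rw [Finset.sum_comm]
    refine Finset.sum_congr rfl fun i _ => ?_
    rw [LinearMap.map_smulₛₗ, frobenius_def]
    conv_rhs => rw [← hco (φ (e i))]
    rw [Finset.smul_sum]
    exact Finset.sum_congr rfl fun j _ => (smul_smul _ _ _).symm
  let φV : V →+ V := (φ.toAddMonoidHom.comp V.subtype.toAddMonoidHom).codRestrict V fun z => hV z.1 z.2
  have : FiniteDimensional L V := Module.Finite.range g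
  obtain ⟨y, hy⟩ := Groth.Agent.CommAlg4.LangFixed.surjective_sub_id' (k := L) (Fact.out : p.Prime).two_le φV
    (fun (a : L) (z : V) => by
      apply Subtype.ext
      have h1 : φ (a • (z : M)) = a ^ p • φ (z : M) := by
        rw [← algebraMap_smul R a (z : M), LinearMap.map_smulₛₗ, frobenius_def, ← map_pow, algebraMap_smul]
      exact h1)
    ⟨m, hrepr m fun i => Algebra.subset_adjoin
      (Finset.mem_coe.mpr (Finset.mem_union_right _ (Finset.mem_image.mpr ⟨i, Finset.mem_univ _, rfl⟩)))⟩
  exact ⟨y, congrArg Subtype.val hy⟩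

end Groth.Agent.S15362
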