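import Groth.Statements.S15363
import Mathlib
-- import your own Groth.Agent.* helpers here

set_option autoImplicit false
universe u
open CategoryTheory AlgebraicGeometry
open SekSuwa

set_option backward.isDefEq.respectTransparency false
open TopologicalSpace
namespace Groth.Agent.S15363

/-- Let R be an integral domain, p a prime and λ ∈ R a non-zero element with λ^p dividing (1 + λX)^p −
1, so that the congruence group scheme G_λ = Spec R[T]/(P_λ(T)) of level λ and its homomorphism θ_λ
: G_λ → μ_p, X ↦ 1 + λT, are defined. For every scheme G flat over Spec R, composition with θ_λ is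
injective on R-morphisms G → G_λ; in particular θ_λ induces an injective map from the homomorphisms
G → G_λ of a flat R-group scheme G to its homomorphisms G → μ_p. (The published statement is over
the ring of integers of an algebraic closure of a complete discretely valued field of mixed
characteristic, for finite flat commutative group schemes killed by p; the published argument, that
θ_λ is an isomorphism on the generic fibre and G is flat, gives the form stated here.) -/
theorem result (R : Type u) [CommRing R] [IsDomain R]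
    (p : ℕ) [Fact p.Prime] (lam : R) (h : SekSuwa.DivCond lam p)
    (G : Over (Spec (CommRingCat.of R))) [Flat G.hom]
    (f g : G ⟶ SekSuwa.GK R lam p h)
    (hfg : f ≫ SekSuwa.alphaN R lam p h = g ≫ SekSuwa.alphaN R lam p h) : f = g := by
  let B := Γ(G.left, ⊤)
  let Φ : (G ⟶ SekSuwa.GK R lam p h) → (CommRingCat.of (SekSuwa.AK R lam p h) ⟶ B) := fun q =>
    (Scheme.ΓSpecIso (CommRingCat.of (SekSuwa.AK R lam p h))).inv ≫ q.left.appTop
  let ρ : CommRingCat.of R ⟶ B := (Scheme.ΓSpecIso (CommRingCat.of R)).inv ≫ G.hom.appTop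
  have hR : ∀ q, CommRingCat.ofHom (algebraMap R (SekSuwa.AK R lam p h)) ≫ Φ q = ρ := fun q => by
    simp only [Φ, ρ]
    rw [← Category.assoc, Scheme.ΓSpecIso_inv_naturality, Category.assoc, ← Scheme.Hom.comp_appTop]
    congr 2
    exact Over.w q
  letI : Algebra R B := ρ.hom.toAlgebra
  let φ : (G ⟶ SekSuwa.GK R lam p h) → (SekSuwa.AK R lam p h →ₐ[R] B) := fun q =>
    { (Φ q).hom with commutes' := fun r => congr($(hR q).hom r) }
  have hα : ∀ z, φ f (SekSuwa.alphaNHom R lam p h z) = φ g (SekSuwa.alphaNHom R lam p h z) := by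
    intro z
    have e : ∀ q : G ⟶ SekSuwa.GK R lam p h, CommRingCat.ofHom (SekSuwa.alphaNHom R lam p h).toAlgHom.toRingHom ≫ Φ q =
        (Scheme.ΓSpecIso _).inv ≫ (q ≫ SekSuwa.alphaN R lam p h).left.appTop := fun q => by
      simp only [Φ]
      rw [← Category.assoc, Scheme.ΓSpecIso_inv_naturality, Category.assoc, ← Scheme.Hom.comp_appTop]
      rfl
    have := congr($((e f).trans ((congrArg (fun q : G ⟶ Red.diag R (ZMod p) => (Scheme.ΓSpecIso _).inv ≫ q.left.appTop) hfg).trans (e g).symm)).hom z)
    exact this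
  have hu : φ f (1 + lam • SekSuwa.AK.t) = φ g (1 + lam • SekSuwa.AK.t) := by
    rw [← SekSuwa.alphaNHom_single_one R lam p h]; exact hα _
  have hlam : IsSMulRegular B lam := by
    intro a b hab
    refine (Scheme.sheaf G.left).eq_of_locally_eq' (fun i : G.left.affineOpens => i.1) ⊤ (fun i => homOfLE le_top)
      (fun x _ => by
        obtain ⟨U, hU, hxU, -⟩ := exists_isAffineOpen_mem_and_subset (x := x) (U := ⊤) trivial
        exact Opens.mem_iSup.2 ⟨⟨U, hU⟩, hxU⟩) a b fun i => ?_
    have he : i.1 ≤ G.hom ⁻¹ᵁ ⊤ := le_top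
    have hfl := Flat.flat_appLE G.hom (isAffineOpen_top _) i.2 he
    let c : CommRingCat.of R ⟶ Γ(G.left, i.1) := (Scheme.ΓSpecIso (CommRingCat.of R)).inv ≫ G.hom.appLE ⊤ i.1 he
    have hflat : c.hom.Flat := (RingHom.Flat.of_bijective (Scheme.ΓSpecIso (CommRingCat.of R)).commRingCatIsoToRingEquiv.symm.bijective).comp hfl
    letI := c.hom.toAlgebra
    haveI : Module.Flat R Γ(G.left, i.1) := hflat
    have hreg : IsSMulRegular Γ(G.left, i.1) lam :=
      Module.Flat.isSMulRegular_of_nonZeroDivisors h.nzd
    have hc : ρ ≫ G.left.presheaf.map (homOfLE le_top).op = c := by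
      simp only [ρ, c, Scheme.Hom.appLE, Category.assoc]
    apply hreg
    have key : ∀ x : B, lam • (G.left.presheaf.map (homOfLE (le_top : i.1 ≤ ⊤)).op x) =
        G.left.presheaf.map (homOfLE (le_top : i.1 ≤ ⊤)).op (lam • x) := fun x => by
      rw [Algebra.smul_def, Algebra.smul_def, map_mul]
      congr 1
      try exact congr($hc.hom lam).symm
    exact (key a).trans ((congrArg (fun x => G.left.presheaf.map (homOfLE (le_top : i.1 ≤ ⊤)).op x) hab).trans (key b).symm)
  have ht : φ f SekSuwa.AK.t = φ g SekSuwa.AK.t := by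
    simp only [map_add, map_one, map_smul, add_right_inj] at hu
    exact hlam hu
  have hi : φ f SekSuwa.AK.inv = φ g SekSuwa.AK.inv := by
    have h1 : (1 + lam • SekSuwa.AK.t) * (SekSuwa.AK.inv : SekSuwa.AK R lam p h) = 1 := by
      rw [← SekSuwa.AK.mkHom_u]
      exact ((map_mul (SekSuwa.AK.mkHom R lam p h) _ _).symm.trans (by rw [SekSuwa.A.u_mul_inv, map_one]))
    have h2 := congrArg (φ f) h1
    have h3 := congrArg (φ g) h1
    rw [map_mul, map_one] at h2 h3
    rw [hu] at h2
    exact (isUnit_iff_exists_inv.2 ⟨_, h3⟩).mul_left_cancel (h2.trans h3.symm)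
  have hφ : φ f = φ g := SekSuwa.AK.algHom_ext ht hi
  apply Over.OverMorphism.ext
  haveI : IsAffine (SekSuwa.GK R lam p h).left := inferInstanceAs (IsAffine (Spec (CommRingCat.of (SekSuwa.AK R lam p h))))
  refine ext_of_isAffine ?_
  rw [← cancel_epi (Scheme.ΓSpecIso (CommRingCat.of (SekSuwa.AK R lam p h))).inv]
  exact CommRingCat.hom_ext (congrArg AlgHom.toRingHom hφ)

end Groth.Agent.S15363
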