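import Groth.Statements.S15364
import Groth.Agent.AbSchLib.RigidityOver
import Groth.Agent.AbSchLib.SmoothReduced
open Groth.Agent.AbSchLib CategoryTheory.MonObj

set_option autoImplicit false
universe u
open CategoryTheory CategoryTheory.Limits MonoidalCategory CartesianMonoidalCategory AlgebraicGeometry
open AbSch

namespace Groth.Agent.S15364

/-- For an abelian scheme f : A → T (a commutative T-group scheme, proper and smooth over T with
geometrically connected fibres) and a commutative group scheme H finite and locally free over T, the
adjunction map H → f_* f^* H of fppf sheaves on T is an isomorphism, i.e. for every T-scheme U the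
map H(U) → H(A ×_T U), s ↦ s ∘ pr, is bijective. This row states the case U = T, to which the
general case reduces by base change: composition with the structure morphism A → T is a bijection
from the sections of H over T onto the T-morphisms A → H. The group structure of H plays no role and
is not assumed. (The published statement has an arbitrary base T; the published argument rests on
the rigidity lemma in its form for Noetherian schemes, so T is taken locally Noetherian here.) -/
theorem result {T : Scheme.{u}} [IsLocallyNoetherian T]
    (A : Over T) [GrpObj A] [IsCommMonObj A] [IsProper A.hom] [Smooth A.hom] [GeometricallyConnected A.hom]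
    (H : Over T) [IsFinite H.hom] [Flat H.hom] [LocallyOfFinitePresentation H.hom] :
    Function.Bijective fun s : (𝟙_ (Over T) ⟶ H) => toUnit A ≫ s := by
  have := geometricallyReduced_of_smooth A.hom
  have hη : η[A] ≫ toUnit A = 𝟙 _ := toUnit_unique _ _
  refine ⟨fun s₁ s₂ h => ?_, fun φ => ⟨η[A] ≫ φ, ?_⟩⟩
  · have := congrArg (fun ψ => η[A] ≫ ψ) h
    simpa [reassoc_of% hη] using this
  · refine (eq_toUnit_comp_of_collapsed A H η[A] φ fun s => ?_).symm
    exact collapsed_of_finite H.hom A.hom φ.left s s fun x hx => by
      rw [← Scheme.Hom.comp_apply, Over.w φ, hx]

end Groth.Agent.S15364
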