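import Groth.Statements.S15365
import Mathlib
import Groth.Prelude

set_option linter.all false

set_option autoImplicit false
universe u
open scoped BigOperators
open CAlg


namespace Groth.Agent.S15365

/-- Let A be a commutative ring of characteristic p > 0 and (h_{ij})_{1 ≤ i,j ≤ n} a square matrix over
A, the matrix of a commutative p-Lie algebra (L, φ) with L free with basis e_1, …, e_n and φ(e_j) =
Σ_i h_{ij} e_i. The associated finite group scheme Spec A[X_1, …, X_n]/(X_j^p − Σ_i h_{ij} X_i)_{1 ≤
j ≤ n} is étale over A if and only if the matrix (h_{ij}) is invertible, i.e. its determinant is a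
unit of A. Only the algebra structure enters this assertion. -/
theorem result (p : ℕ) [Fact p.Prime]
    (A : Type u) [CommRing A] [CharP A p] (n : ℕ) (h : Matrix (Fin n) (Fin n) A) :
    Algebra.Etale A (MvPolynomial (Fin n) A ⧸ Ideal.span (Set.range fun j : Fin n =>
        (MvPolynomial.X j : MvPolynomial (Fin n) A) ^ p -
          ∑ i : Fin n, MvPolynomial.C (h i j) * MvPolynomial.X i)) ↔
      IsUnit h.det := by
  classical
  let v : Fin n → MvPolynomial (Fin n) A := fun j => MvPolynomial.X j ^ p - ∑ i : Fin n, MvPolynomial.C (h i j) * MvPolynomial.X i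
  show Algebra.Etale A (MvPolynomial (Fin n) A ⧸ Ideal.span (Set.range v)) ↔ _
  constructor
  · intro he
    by_contra hu
    obtain ⟨m, hm, hle⟩ := exists_max_ideal_of_mem_nonunits (show h.det ∈ nonunits A from hu)
    letI := Ideal.Quotient.field m
    let k := A ⧸ m
    obtain ⟨c, hc0, hc⟩ := (Matrix.exists_vecMul_eq_zero_iff (M := h.map (Ideal.Quotient.mk m))).2 (by
      rw [← RingHom.mapMatrix_apply, ← RingHom.map_det]
      exact Ideal.Quotient.eq_zero_iff_mem.2 hle)
    haveI hp : p.Prime := Fact.out
    let f₁ : MvPolynomial (Fin n) A →ₐ[A] DualNumber k := MvPolynomial.aeval fun i => TrivSqZeroExt.inr (c i)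
    let f₂ : MvPolynomial (Fin n) A →ₐ[A] DualNumber k := MvPolynomial.aeval fun _ => 0
    have hpow : ∀ x : k, (TrivSqZeroExt.inr x : DualNumber k) ^ p = 0 := fun x => by
      refine pow_eq_zero_of_le hp.two_le ?_
      rw [sq, TrivSqZeroExt.inr_mul_inr]
    have hz₁ : ∀ j, f₁ (v j) = 0 := fun j => by
      simp only [f₁, v, map_sub, map_pow, map_sum, map_mul, MvPolynomial.aeval_X, MvPolynomial.aeval_C, hpow]
      have hj : ∑ i, c i * Ideal.Quotient.mk m (h i j) = 0 := congrFun hc j
      have : (∑ i, algebraMap A (DualNumber k) (h i j) * TrivSqZeroExt.inr (c i)) = TrivSqZeroExt.inr (∑ i, c i * Ideal.Quotient.mk m (h i j)) := by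
        rw [TrivSqZeroExt.inr_sum]
        refine Finset.sum_congr rfl fun i _ => ?_
        rw [IsScalarTower.algebraMap_apply A k (DualNumber k), show algebraMap k (DualNumber k) = (TrivSqZeroExt.inlHom k k) from rfl]
        rw [TrivSqZeroExt.inlHom_apply, TrivSqZeroExt.inl_mul_inr, smul_eq_mul, mul_comm]
        rfl
      rw [this, hj]; simp
    have hz₂ : ∀ j, f₂ (v j) = 0 := fun j => by simp [f₂, v, hp.ne_zero]
    have hs₁ : ∀ a ∈ Ideal.span (Set.range v), f₁ a = 0 := fun a ha => by
      have := (Ideal.span_le (I := RingHom.ker f₁)).2 (by rintro _ ⟨j, rfl⟩; exact hz₁ j) ha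
      exact this
    have hs₂ : ∀ a ∈ Ideal.span (Set.range v), f₂ a = 0 := fun a ha => by
      have := (Ideal.span_le (I := RingHom.ker f₂)).2 (by rintro _ ⟨j, rfl⟩; exact hz₂ j) ha
      exact this
    let g₁ := Ideal.Quotient.liftₐ _ f₁ hs₁
    let g₂ := Ideal.Quotient.liftₐ _ f₂ hs₂
    have key : g₁ = g₂ := by
      refine Algebra.FormallyUnramified.lift_unique' (TrivSqZeroExt.fstHom A k k) ?_ _ _ ?_
      · refine ⟨2, le_bot_iff.1 ?_⟩
        rw [sq, Ideal.mul_le]
        intro a ha b hb
        rw [RingHom.mem_ker] at ha hb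
        refine Ideal.mem_bot.2 (TrivSqZeroExt.ext ?_ ?_)
        · simp [show a.fst = 0 from ha]
        · simp [show a.fst = 0 from ha, show b.fst = 0 from hb]
      · apply Ideal.Quotient.algHom_ext
        refine MvPolynomial.algHom_ext fun i => ?_
        show TrivSqZeroExt.fst (f₁ (MvPolynomial.X i)) = TrivSqZeroExt.fst (f₂ (MvPolynomial.X i))
        simp [f₁, f₂]
    refine hc0 (funext fun i => ?_)
    have : f₁ (MvPolynomial.X i) = f₂ (MvPolynomial.X i) := AlgHom.congr_fun key (Ideal.Quotient.mk _ (MvPolynomial.X i))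
    simp only [f₁, f₂, MvPolynomial.aeval_X] at this
    simpa using congrArg TrivSqZeroExt.snd this
  · intro hu
    let P := Algebra.PreSubmersivePresentation.naive (v := v) (id : Fin n → Fin n) Function.injective_id
    have hd : ∀ i j, MvPolynomial.pderiv i (v j) = - MvPolynomial.C (h i j) := fun i j => by
      simp [v, MvPolynomial.pderiv_pow, MvPolynomial.pderiv_X, Pi.single_apply, CharP.cast_eq_zero, mul_comm]
    have hJ : P.jacobiMatrix = (-h).map (MvPolynomial.C) := by
      ext1 i j
      show P.jacobiMatrix i j = _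
      rw [show P.jacobiMatrix i j = MvPolynomial.pderiv i (v j) from Algebra.PreSubmersivePresentation.jacobiMatrix_naive _ _ _ _ i j, hd]
      simp
    let Q : Algebra.SubmersivePresentation A (MvPolynomial (Fin n) A ⧸ Ideal.span (Set.range v)) (Fin n) (Fin n) :=
      { P with
        jacobian_isUnit := by
          rw [Algebra.PreSubmersivePresentation.jacobian_eq_jacobiMatrix_det, hJ, ← RingHom.mapMatrix_apply, ← RingHom.map_det]
          refine ((IsUnit.map _ ?_).map _)
          rw [Matrix.det_neg]
          exact ((isUnit_one.neg).pow _).mul hu }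
    have : Algebra.IsStandardSmoothOfRelativeDimension 0 A (MvPolynomial (Fin n) A ⧸ Ideal.span (Set.range v)) :=
      ⟨⟨Fin n, Fin n, inferInstance, inferInstance, Q, by simp [Algebra.Presentation.dimension]⟩⟩
    infer_instance

end Groth.Agent.S15365
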