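import Groth.Statements.S15366
import Mathlib.FieldTheory.IsAlgClosed.AlgebraicClosure
import Mathlib.RingTheory.MvPowerSeries.Equiv
import Mathlib.RingTheory.AdicCompletion.Completeness
import Mathlib.RingTheory.PowerSeries.Inverse
-- import your own Groth.Agent.* helpers here

set_option autoImplicit false
universe u
open CAlg

namespace Groth.Agent.S15366

/-- Let k be an algebraically closed field of characteristic p > 0, R = k[[t₁, t₂]], and O = R_{(t₁)}
the local ring of Spec R at the generic point x of the divisor t₁ = 0 (a discrete valuation ring,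
with uniformizer t₁ and residue field k((t₂))). Then O embeds, by an injective local k-algebra map
φ, into some complete discrete valuation ring A containing k whose residue field is algebraically
closed and in which φ(t₁) is still a uniformizer. The prime ideal (t₁) is passed as an ideal P equal
to it together with its primality. -/
theorem result
    (p : ℕ) [Fact p.Prime] (k : Type u) [Field k] [IsAlgClosed k] [CharP k p]
    (P : Ideal (MvPowerSeries (Fin 2) k))
    (hP : P = Ideal.span {(MvPowerSeries.X 0 : MvPowerSeries (Fin 2) k)}) [P.IsPrime] :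
    ∃ (A : Type u) (_ : CommRing A) (_ : IsDomain A) (_ : IsDiscreteValuationRing A) (_ : Algebra k A)
      (φ : Localization.AtPrime P →ₐ[k] A),
      IsAdicComplete (IsLocalRing.maximalIdeal A) A ∧ IsAlgClosed (IsLocalRing.ResidueField A) ∧
        Function.Injective φ ∧ IsLocalHom φ.toRingHom ∧
          Irreducible (φ (algebraMap (MvPowerSeries (Fin 2) k) (Localization.AtPrime P)
            (MvPowerSeries.X 0))) := by
  classical
  let D := MvPowerSeries (Fin 1) k
  let F := FractionRing D
  let K := AlgebraicClosure F
  let c : D →+* K := (algebraMap F K).comp (algebraMap D F)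
  have hc : Function.Injective c := (algebraMap F K).injective.comp (IsFractionRing.injective D F)
  let e : MvPowerSeries (Fin 2) k ≃ₐ[k] PowerSeries D := MvPowerSeries.finSuccEquiv k 1
  let ψ : MvPowerSeries (Fin 2) k →ₐ[k] PowerSeries K :=
    { toRingHom := (PowerSeries.map c).comp e.toRingEquiv.toRingHom
      commutes' := fun r => by
        show PowerSeries.map c (e (algebraMap k _ r)) = _
        rw [AlgEquiv.commutes]
        ext n
        rw [PowerSeries.coeff_map]
        simp only [PowerSeries.algebraMap_apply, PowerSeries.coeff_C]
        split_ifs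
        · show algebraMap F K (algebraMap D F (algebraMap k D r)) = algebraMap k K r
          rw [← IsScalarTower.algebraMap_apply k D F, ← IsScalarTower.algebraMap_apply k F K]
        · rw [map_zero] }
  have hψinj : Function.Injective ψ := (PowerSeries.map_injective c hc).comp e.injective
  have heX : e (MvPowerSeries.X 0) = PowerSeries.X := by
    ext n x
    rw [MvPowerSeries.coeff_coeff_finSuccEquiv, PowerSeries.coeff_X, MvPowerSeries.coeff_X]
    by_cases hn : n = 1
    · subst hn
      rw [if_pos rfl, MvPowerSeries.coeff_one]
      refine if_congr ?_ rfl rfl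
      constructor
      · intro h
        refine Finsupp.ext fun i => ?_
        have := DFunLike.congr_fun h (Fin.succ i : Fin 2)
        simpa [Finsupp.cons_succ, Finsupp.single_apply, Fin.succ_ne_zero] using this
      · rintro rfl
        ext i
        refine Fin.cases ?_ (fun j => ?_) i <;> simp [Finsupp.single_apply, Fin.succ_ne_zero, eq_comm]
    · rw [if_neg hn, map_zero, if_neg]
      intro h
      have := DFunLike.congr_fun h 0
      simp [Finsupp.cons_zero] at this
      exact hn this
  have hψX : ψ (MvPowerSeries.X 0) = PowerSeries.X := by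
    show PowerSeries.map c (e (MvPowerSeries.X 0)) = _
    rw [heX, PowerSeries.map_X]
  have hunit : ∀ y : P.primeCompl, IsUnit (ψ y) := by
    intro y
    rw [PowerSeries.isUnit_iff_constantCoeff]
    refine isUnit_iff_ne_zero.2 fun h0 => y.2 ?_
    show (y : MvPowerSeries (Fin 2) k) ∈ P
    have h1 : PowerSeries.constantCoeff (e y) = 0 := by
      have h0' : c (PowerSeries.constantCoeff (e y)) = 0 := by
        rw [← h0]
        show _ = PowerSeries.constantCoeff (PowerSeries.map c (e y))
        rw [← PowerSeries.coeff_zero_eq_constantCoeff_apply, ← PowerSeries.coeff_zero_eq_constantCoeff_apply,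
          PowerSeries.coeff_map]
      exact hc (h0'.trans (map_zero c).symm)
    obtain ⟨z, hz⟩ := PowerSeries.X_dvd_iff.2 h1
    refine hP.ge (Ideal.mem_span_singleton.2 ⟨e.symm z, e.injective ?_⟩)
    rw [map_mul, heX, e.apply_symm_apply, hz]
  let φ : Localization.AtPrime P →ₐ[k] PowerSeries K := IsLocalization.liftAlgHom (M := P.primeCompl) hunit
  have hφ : ∀ x, φ (algebraMap _ _ x) = ψ x := fun x => by simp [φ]
  have hφinj : Function.Injective φ := by
    show Function.Injective (IsLocalization.lift (M := P.primeCompl) (S := Localization.AtPrime P) hunit)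
    rw [IsLocalization.lift_injective_iff]
    intro x y
    constructor
    · intro h
      exact congrArg ψ (IsLocalization.injective (Localization.AtPrime P) P.primeCompl_le_nonZeroDivisors h)
    · intro h
      exact congrArg _ (hψinj h)
  refine ⟨PowerSeries K, inferInstance, inferInstance, inferInstance, inferInstance, φ, ?_, ?_, hφinj, ?_, ?_⟩
  · rw [PowerSeries.maximalIdeal_eq_span_X]; infer_instance
  · exact IsAlgClosed.of_ringEquiv K _ (PowerSeries.residueFieldOfPowerSeries (k := K)).symm
  · refine ⟨fun a ha => ?_⟩
    obtain ⟨x, y, rfl⟩ := IsLocalization.exists_mk'_eq P.primeCompl a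
    rw [IsLocalization.AtPrime.isUnit_mk'_iff]
    intro hx
    rw [hP] at hx
    obtain ⟨z, rfl⟩ := Ideal.mem_span_singleton.1 hx
    have h2 : φ (IsLocalization.mk' _ (MvPowerSeries.X 0 * z) y) * ψ y = PowerSeries.X * ψ z := by
      rw [← hφ, ← map_mul, IsLocalization.mk'_spec, hφ, map_mul, hψX]
    have h3 := ha.mul (hunit y)
    rw [show φ.toRingHom (IsLocalization.mk' _ (MvPowerSeries.X 0 * z) y) =
      φ (IsLocalization.mk' _ (MvPowerSeries.X 0 * z) y) from rfl, h2] at h3
    exact PowerSeries.X_prime.not_unit (isUnit_of_mul_isUnit_left h3)
  · rw [hφ, hψX]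
    exact PowerSeries.X_prime.irreducible

end Groth.Agent.S15366
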