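import Groth.Statements.S15367
import Mathlib
import Groth.Prelude

set_option linter.all false

set_option autoImplicit false
universe u v
open TensorProduct
open CAlg

open IsLocalRing TensorProduct

namespace Groth.Agent.S15367

section
variable {R : Type u} [CommRing R] [IsDomain R] [IsDiscreteValuationRing R] {ϖ : R}

theorem residue_seq (hϖ : Irreducible ϖ) (N : Type v) [AddCommGroup N] [Module R N] :
    ∃ g : N →ₗ[R] ResidueField R ⊗[R] N, Function.Surjective g ∧
      LinearMap.ker g = LinearMap.range (LinearMap.lsmul R N ϖ) := by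
  let e : ResidueField R ⊗[R] N ≃ₗ[R] N ⧸ (maximalIdeal R • ⊤ : Submodule R N) :=
    TensorProduct.quotTensorEquivQuotSMul N (maximalIdeal R)
  refine ⟨e.symm.toLinearMap.comp (Submodule.mkQ _), e.symm.surjective.comp (Submodule.mkQ_surjective _), ?_⟩
  rw [LinearEquiv.ker_comp, Submodule.ker_mkQ, hϖ.maximalIdeal_eq]
  ext x
  constructor
  · intro hx
    refine Submodule.smul_induction_on hx (fun a ha y _ => ?_) (fun a b ha hb => add_mem ha hb)
    obtain ⟨c, rfl⟩ := Ideal.mem_span_singleton.1 ha
    exact ⟨c • y, by rw [LinearMap.lsmul_apply, smul_smul]⟩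
  · rintro ⟨y, rfl⟩
    exact Submodule.smul_mem_smul (Ideal.mem_span_singleton_self _) trivial

theorem length_residue_tensor (N : Type v) [AddCommGroup N] [Module R N] [Module.Finite R N] :
    Module.length R (ResidueField R ⊗[R] N) = Module.finrank (ResidueField R) (ResidueField R ⊗[R] N) := by
  rw [Module.length_eq_of_surjective (R := ResidueField R) IsLocalRing.residue_surjective, Module.length_eq_finrank]

theorem length_ne_top_of_pow_smul (hϖ : Irreducible ϖ) : ∀ (n : ℕ) (N : Type v) [AddCommGroup N] [Module R N],
    Module.Finite R N → (∀ x : N, ϖ ^ n • x = 0) → Module.length R N ≠ ⊤ := by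
  intro n
  induction n with
  | zero =>
    intro N _ _ _ h
    haveI : Subsingleton N := subsingleton_of_forall_eq 0 fun x => by simpa using h x
    simp [Module.length_eq_zero]
  | succ n ih =>
    intro N _ _ hN h
    obtain ⟨g, hg, hker⟩ := residue_seq hϖ N
    let P := LinearMap.range (LinearMap.lsmul R N ϖ)
    have hP : Module.length R P ≠ ⊤ := ih P inferInstance (by
      rintro ⟨x, y, rfl⟩
      apply Subtype.ext
      show ϖ ^ n • ϖ • y = 0
      rw [smul_smul, ← pow_succ]; exact h y)
    rw [Module.length_eq_add_of_exact P.subtype g Subtype.val_injective hg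
      (LinearMap.exact_iff.2 (by rw [Submodule.range_subtype]; exact hker)), length_residue_tensor]
    exact WithTop.add_ne_top.2 ⟨hP, ENat.coe_ne_top _⟩

theorem length_ker_smul (hϖ : Irreducible ϖ) {n : ℕ} (N : Type v) [AddCommGroup N] [Module R N] [Module.Finite R N]
    (h : ∀ x : N, ϖ ^ n • x = 0) :
    Module.length R (LinearMap.ker (LinearMap.lsmul R N ϖ)) =
      Module.finrank (ResidueField R) (ResidueField R ⊗[R] N) := by
  obtain ⟨g, hg, hker⟩ := residue_seq hϖ N
  let φ := LinearMap.lsmul R N ϖ
  have h1 := Module.length_eq_add_of_exact (LinearMap.ker φ).subtype φ.rangeRestrict Subtype.val_injective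
    φ.surjective_rangeRestrict (LinearMap.exact_iff.2 (by rw [Submodule.range_subtype, LinearMap.ker_rangeRestrict]))
  have h2 := Module.length_eq_add_of_exact (LinearMap.range φ).subtype g Subtype.val_injective hg
    (LinearMap.exact_iff.2 (by rw [Submodule.range_subtype]; exact hker))
  rw [length_residue_tensor] at h2
  have hfin : Module.length R (LinearMap.range φ) ≠ ⊤ := by
    intro ht
    have := length_ne_top_of_pow_smul hϖ n N inferInstance h
    rw [h2, ht, top_add] at this
    exact this rfl
  rw [h1, add_comm] at h2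
  exact WithTop.add_left_cancel hfin h2
end

/-- Let R be a discrete valuation ring with uniformizer π and residue field k, n ≥ 0, and M₀ a finitely
generated module over R/πⁿR, viewed as an R-module killed by πⁿ; put M₀* = Hom_R(M₀, R/πⁿR). Then
dim_k(M₀*/πM₀*) = dim_k(M₀/πM₀). The published lemma is stated for a finitely presented module over
the quotient of the ring of integers of an algebraic closure of K by the elements of valuation ≥ t,
with its dual into that quotient ring, and the published proof reduces it by descent to exactly this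
statement over the valuation ring of a finite extension of K; the row states that step. -/
theorem result
    (R : Type u) [CommRing R] [IsDomain R] [IsDiscreteValuationRing R] (ϖ : R) (hϖ : Irreducible ϖ) (n : ℕ)
    (M : Type v) [AddCommGroup M] [Module R M] [Module.Finite R M] (hM : ∀ m : M, ϖ ^ n • m = 0) :
    Module.finrank (IsLocalRing.ResidueField R)
        (IsLocalRing.ResidueField R ⊗[R] (M →ₗ[R] (R ⧸ Ideal.span {ϖ ^ n}))) =
      Module.finrank (IsLocalRing.ResidueField R) (IsLocalRing.ResidueField R ⊗[R] M) := by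
  rcases Nat.eq_zero_or_pos n with rfl | hn
  · haveI : Subsingleton M := subsingleton_of_forall_eq 0 fun m => by simpa using hM m
    haveI : Subsingleton (ResidueField R ⊗[R] M) := inferInstance
    haveI : Subsingleton (ResidueField R ⊗[R] (M →ₗ[R] (R ⧸ Ideal.span {ϖ ^ 0}))) := inferInstance
    rw [Module.finrank_zero_of_subsingleton, Module.finrank_zero_of_subsingleton]
  obtain ⟨n, rfl⟩ := Nat.exists_eq_succ_of_ne_zero hn.ne'
  let Q := R ⧸ Ideal.span {ϖ ^ (n + 1)}
  let H := M →ₗ[R] Q
  let φ := LinearMap.lsmul R H ϖ
  have hH : ∀ f : H, ϖ ^ (n + 1) • f = 0 := fun f => LinearMap.ext fun m => by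
    rw [LinearMap.smul_apply, ← map_smul, hM, map_zero, LinearMap.zero_apply]
  have h1 := length_ker_smul hϖ H hH
  -- the map k → Q
  let r : R →ₗ[R] Q := (Submodule.mkQ _).comp (LinearMap.mulRight R (ϖ ^ n))
  let j : ResidueField R →ₗ[R] Q := Submodule.liftQ (maximalIdeal R) r (by
    rw [hϖ.maximalIdeal_eq, Ideal.span_le, Set.singleton_subset_iff]
    refine Ideal.Quotient.eq_zero_iff_mem.2 (Ideal.mem_span_singleton.2 ?_)
    show ϖ ^ (n + 1) ∣ ϖ * ϖ ^ n
    rw [pow_succ'])
  have hj : ∀ a : R, j (residue R a) = Ideal.Quotient.mk _ (a * ϖ ^ n) := fun a => rfl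
  have hjinj : Function.Injective j := by
    rw [← LinearMap.ker_eq_bot, eq_bot_iff]
    intro x hx
    obtain ⟨a, rfl⟩ := IsLocalRing.residue_surjective x
    rw [LinearMap.mem_ker, hj, Ideal.Quotient.eq_zero_iff_mem, Ideal.mem_span_singleton] at hx
    rw [pow_succ'] at hx
    rw [Submodule.mem_bot, IsLocalRing.residue_eq_zero_iff, hϖ.maximalIdeal_eq, Ideal.mem_span_singleton]
    exact (mul_dvd_mul_iff_right (pow_ne_zero _ hϖ.ne_zero)).1 hx
  have hjrange : ∀ q : Q, ϖ • q = 0 → ∃ c, j c = q := by
    intro q hq
    obtain ⟨b, rfl⟩ := Ideal.Quotient.mk_surjective q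
    rw [Algebra.smul_def, Ideal.Quotient.algebraMap_eq, ← map_mul, Ideal.Quotient.eq_zero_iff_mem, Ideal.mem_span_singleton,
      pow_succ'] at hq
    obtain ⟨a, rfl⟩ := (mul_dvd_mul_iff_left hϖ.ne_zero).1 hq
    exact ⟨residue R a, by rw [hj, mul_comm]⟩
  let Ψ : (M →ₗ[R] ResidueField R) →ₗ[R] H := LinearMap.llcomp R M (ResidueField R) Q j
  have hΨ : Function.Injective Ψ := fun f g h => LinearMap.ext fun m => hjinj (LinearMap.congr_fun h m)
  have hrange : LinearMap.range Ψ = LinearMap.ker φ := by
    ext f
    constructor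
    · rintro ⟨g, rfl⟩
      refine LinearMap.ext fun m => ?_
      show ϖ • j (g m) = 0
      obtain ⟨a, ha⟩ := IsLocalRing.residue_surjective (g m)
      rw [← ha, ← map_smul, Algebra.smul_def, show algebraMap R (ResidueField R) ϖ = residue R ϖ from rfl,
        (IsLocalRing.residue_eq_zero_iff ϖ).2 (by rw [hϖ.maximalIdeal_eq]; exact Ideal.mem_span_singleton_self _), zero_mul, map_zero]
    · intro hf
      choose c hc using fun m => hjrange (f m) (LinearMap.congr_fun hf m)
      refine ⟨{ toFun := c, map_add' := fun x y => hjinj (by rw [map_add, hc, hc, hc, map_add]),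
                map_smul' := fun a x => hjinj (by rw [RingHom.id_apply, map_smul, hc, hc, map_smul]) }, ?_⟩
      exact LinearMap.ext hc
  have h2 : Module.length R (LinearMap.ker φ) = Module.finrank (ResidueField R) (ResidueField R ⊗[R] M) := by
    rw [← hrange, ← (LinearEquiv.ofInjective Ψ hΨ).length_eq,
      ((LinearMap.liftBaseChangeEquiv (R := R) (M := M) (N := ResidueField R) (ResidueField R)).restrictScalars R).length_eq,
      Module.length_eq_of_surjective (R := ResidueField R) IsLocalRing.residue_surjective, Module.length_eq_finrank,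
      Subspace.dual_finrank_eq]
  exact ENat.coe_inj.1 (h1.symm.trans h2)

end Groth.Agent.S15367
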