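import Groth.Statements.S15368
import Mathlib

set_option linter.all false

set_option autoImplicit false
universe u v
open TensorProduct
open CAlg

open TensorProduct

namespace Groth.Agent.S15368

/-- Let R be a discrete valuation ring with uniformizer π and residue field k, n ≥ 0, M₀ a finitely
generated R-module killed by πⁿ and N₀ a submodule of M₀. Then dim_k(N₀/πN₀) ≤ dim_k(M₀/πM₀). The
published lemma is stated for a finitely presented submodule N of a finitely presented module M over
the quotient of the ring of integers of an algebraic closure of K by the elements of valuation ≥ t,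
and the published proof reduces it by descent to exactly this statement over the valuation ring of a
finite extension of K (comparing π-torsion with π-cotorsion by additivity of length); the row states
that step. -/
theorem result
    (R : Type u) [CommRing R] [IsDomain R] [IsDiscreteValuationRing R] (ϖ : R) (hϖ : Irreducible ϖ) (n : ℕ)
    (M : Type v) [AddCommGroup M] [Module R M] [Module.Finite R M] (hM : ∀ m : M, ϖ ^ n • m = 0)
    (N : Submodule R M) :
    Module.finrank (IsLocalRing.ResidueField R) (IsLocalRing.ResidueField R ⊗[R] N) ≤
      Module.finrank (IsLocalRing.ResidueField R) (IsLocalRing.ResidueField R ⊗[R] M) := by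
  have hm : IsLocalRing.maximalIdeal R = Ideal.span {ϖ} := hϖ.maximalIdeal_eq
  have fin : IsFiniteLength R M := by
    let I : Ideal R := Ideal.span {ϖ ^ n}
    have tM : Module.IsTorsionBySet R M I := fun m r => by
      obtain ⟨s, hs⟩ := Ideal.mem_span_singleton'.1 r.2
      show (r : R) • m = 0
      rw [← hs, mul_smul, hM, smul_zero]
    letI := tM.module
    haveI : IsScalarTower R (R ⧸ I) M := tM.isScalarTower
    haveI : Module.Finite (R ⧸ I) M := Module.Finite.of_restrictScalars_finite R (R ⧸ I) M
    haveI : IsArtinianRing (R ⧸ I) := by
      rw [isArtinianRing_iff_krullDimLE_zero]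
      refine Ring.KrullDimLE.mk₀ fun P hP => ?_
      have : (P.comap (Ideal.Quotient.mk I)).IsMaximal := by
        refine (Ideal.IsPrime.isMaximal inferInstance ?_)
        intro hbot
        have hmem : ϖ ^ n ∈ P.comap (Ideal.Quotient.mk I) := by
          rw [Ideal.mem_comap, Ideal.Quotient.eq_zero_iff_mem.2 (Ideal.mem_span_singleton_self _)]
          exact zero_mem _
        rw [hbot, Ideal.mem_bot] at hmem
        exact pow_ne_zero _ hϖ.ne_zero hmem
      rw [← Ideal.map_comap_of_surjective _ Ideal.Quotient.mk_surjective P]
      exact Ideal.IsMaximal.map_of_surjective_of_ker_le Ideal.Quotient.mk_surjective (Ideal.comap_mono bot_le)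
    have hart : IsArtinian R M := isArtinian_of_surjective_algebraMap (R := R ⧸ I) Ideal.Quotient.mk_surjective
    exact isFiniteLength_iff_isNoetherian_isArtinian.2 ⟨inferInstance, hart⟩
  have step : ∀ (X : Type v) [AddCommGroup X] [Module R X] [Module.Finite R X], IsFiniteLength R X →
      Module.length R (LinearMap.ker (LinearMap.lsmul R X ϖ)) =
        (Module.finrank (IsLocalRing.ResidueField R) (IsLocalRing.ResidueField R ⊗[R] X) : ℕ∞) := by
    intro X _ _ _ hX
    let f := LinearMap.lsmul R X ϖ
    have h1 := Module.length_eq_add_of_exact (LinearMap.ker f).subtype f.rangeRestrict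
      Subtype.val_injective f.surjective_rangeRestrict
      (by rw [LinearMap.exact_iff, LinearMap.ker_rangeRestrict, Submodule.range_subtype])
    have h2 := Module.length_eq_add_of_exact (LinearMap.range f).subtype (LinearMap.range f).mkQ
      Subtype.val_injective (Submodule.mkQ_surjective _) (LinearMap.exact_subtype_mkQ _)
    have hfin : Module.length R (LinearMap.range f) ≠ ⊤ := by
      intro e
      have := Module.length_ne_top_iff.2 hX
      rw [h2, e, top_add] at this
      exact this rfl
    rw [h1, add_comm] at h2
    rw [(ENat.addLECancellable_of_ne_top hfin).inj.mp h2, ← Module.length_eq_finrank,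
      ← Module.length_eq_of_surjective (R := IsLocalRing.ResidueField R) (S := R)
        (M := IsLocalRing.ResidueField R ⊗[R] X) IsLocalRing.residue_surjective]
    refine ((TensorProduct.quotTensorEquivQuotSMul X (IsLocalRing.maximalIdeal R)).trans
      (Submodule.quotEquivOfEq _ _ ?_)).symm.length_eq
    rw [hm, Submodule.ideal_span_singleton_smul]
    ext x
    simp [f, Submodule.mem_smul_pointwise_iff_exists]
  have finN : IsFiniteLength R N := by
    obtain ⟨a, b⟩ := isFiniteLength_iff_isNoetherian_isArtinian.1 fin
    exact isFiniteLength_iff_isNoetherian_isArtinian.2 ⟨inferInstance, inferInstance⟩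
  rw [← ENat.coe_le_coe, ← step M fin, ← step N finN]
  exact Module.length_le_of_injective
    ((N.subtype ∘ₗ (LinearMap.ker (LinearMap.lsmul R N ϖ)).subtype).codRestrict _ fun x => by
      rw [LinearMap.mem_ker]
      exact congrArg N.subtype x.2)
    (fun x y h => Subtype.ext (Subtype.ext (congrArg Subtype.val h :)))

end Groth.Agent.S15368
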