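import Groth.Statements.S1537
import Groth.Agent.VarietyLib.GeomPoints
import Groth.Agent.FlatMor12.GeomDescent
import Groth.Agent.AbSchLib.RigidityOver

set_option autoImplicit false
universe u
open CategoryTheory CategoryTheory.Limits AlgebraicGeometry
open Variety Groth.Agent Groth.Agent.VarietyLib

namespace Groth.Agent.S1537

/-- A connected k-scheme is geometrically connected as soon as it has a point whose residue field
contains no element integral over k other than the elements of k. -/
theorem result (k : Type u) [Field k] (X : Scheme.{u}) [X.Over (Spec (CommRingCat.of k))] [ConnectedSpace X]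
    (x : X) (hx : ∀ a : X.residueField x, (Curv2.resMap k X x).IsIntegralElem a → a ∈ (Curv2.resMap k X x).range) :
    GeometricallyConnected (X ↘ (Spec (CommRingCat.of k))) := by
  refine @geometricallyConnected_of_connectedSpace k _ X (X ↘ Spec (CommRingCat.of k)) ?_
  refine connectedSpace_of_fibre_subsingleton x fun p q hp hq => ?_
  refine fst_injOn_fibre k (X ↘ Spec (CommRingCat.of k)) x (ρ := Curv2.resMap k X x) ?_ ?_ hp hq
  · rw [← DimLib.baseRingHom_eq_resMap X x, DimLib.specMap_baseRingHom]
  · let : Algebra k (X.residueField x) := (Curv2.resMap k X x).toAlgebra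
    intro a ha
    exact hx a ha.isIntegral

end Groth.Agent.S1537
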