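import Groth.Statements.S15376
import Groth.Agent.Surf15.SerreDualMain
import Groth.Agent.Surf15.RRCor
import Groth.Agent.Surf15.CycleSections
import Groth.Agent.NumSec27.Projective
import Groth.Agent.PnCanon5.Duality
import Groth.Agent.Canon15.TopDiff
import Groth.Agent.SGA3cLib.CentralDescent
-- import your own Groth.Agent.* helpers here

set_option autoImplicit false
universe u
open CategoryTheory CategoryTheory.Limits AlgebraicGeometry
open Biell

namespace Groth.Agent.S15376

/-- Let k be an algebraically closed field and X a (quasi-)bielliptic surface over k, meaning here: X is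
an integral k-scheme, proper and smooth of relative dimension 2 over k and carrying an ample
invertible sheaf, whose canonical sheaf ω (a second exterior power of Ω_{X/k}) is numerically
trivial (degree 0 on every integral closed curve in X) and whose second ℓ-adic Betti number (the
rank of lim_ν H²(X_et, Z/ℓ^ν)) equals 2 for every prime ℓ invertible in k. Then the geometric genus
p_g(X) = dim_k H²(X, O_X) equals 1 if and only if ω ≅ O_X, i.e. ω has order 1 in Pic(X). (The
published statement is for bielliptic surfaces and has a third equivalent condition, non-reducedness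
of the identity component of the Picard scheme, which is not stated here; the equivalence of the two
conditions stated rests only on the numerical triviality of ω on an integral smooth projective
surface, so this row states it for quasi-bielliptic surfaces as well.) -/
theorem result (k : Type u) [Field k] [IsAlgClosed k] (X : Scheme.{u}) [X.Over (Spec (CommRingCat.of k))]
    [IsIntegral X] [IsProper (X ↘ Spec (CommRingCat.of k))] [SmoothOfRelativeDimension 2 (X ↘ Spec (CommRingCat.of k))]
    (hproj : ∃ H : X.Modules, CohB1.IsAmple H)
    (ω : X.Modules) (hω : Canon.IsTopDiff (X ↘ Spec (CommRingCat.of k)) 2 ω) (hnum : Pic13.IsNumEquivZero k X ω)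
    (hb2 : ∀ ℓ : ℕ, ℓ.Prime → (ℓ : k) ≠ 0 → EtAdic.betti X ℓ 2 = 2) :
    Module.finrank k (Coh.HH X (Coh.structureModule X) 2) = 1 ↔ Nonempty (ω ≅ Coh.structureModule X) := by
  have hX : topologicalKrullDim X = ((2 : ℕ) : WithBot ℕ∞) :=
    Groth.Agent.PnCanon5.dim_eq_of_smooth (X ↘ Spec (CommRingCat.of k)) 2
  have hsm : Smooth (X ↘ Spec (CommRingCat.of k)) := SmoothOfRelativeDimension.smooth 2 _
  have hWi : PicF.IsInvertible ω := Groth.Agent.Surf15.isInvertible_canonical k hX hω
  have := Groth.Agent.EulerLib.isNoetherian_of_proper k (X := X)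
  have hgc : GeometricallyConnected (X ↘ Spec (CommRingCat.of k)) :=
    Groth.Agent.SGA3cLib.CentralDescent.geometricallyConnected_of_isAlgClosed _
  have hgi : GeometricallyIntegral (X ↘ Spec (CommRingCat.of k)) :=
    Groth.Agent.AbVarLib.geometricallyIntegral_of_smooth _
  have hO : PicF.IsInvertible (Coh.structureModule X) := Groth.Agent.AmpleLib.isInvertible_structureModule
  obtain ⟨h, -, -⟩ := Groth.Agent.Surf15.serre_duality k hX hω hWi hO hO (Groth.Agent.AmpleLib.unitTensorIso _)
  rw [h, Groth.Agent.CurveRR24.finrank_HH_congr k (Groth.Agent.AmpleLib.tensorComm ω (Coh.structureModule X) ≪≫ Groth.Agent.AmpleLib.unitTensorIso ω) 0]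
  constructor
  · intro h1
    have : Nontrivial (Coh.HH X ω 0) := Module.nontrivial_of_finrank_pos (R := k) (by rw [h1]; exact one_pos)
    have : Nontrivial (Groth.Agent.Coherent.GA (Groth.Agent.Coherent.baseHom k X) ω) :=
      (Groth.Agent.CurveRR24.hhZero k ω).toEquiv.symm.nontrivial
    obtain ⟨σ, hσ⟩ := exists_ne (0 : Groth.Agent.Coherent.GA (Groth.Agent.Coherent.baseHom k X) ω)
    exact Groth.Agent.Surf15.nonempty_iso_of_glocus_eq_top
      (Groth.Agent.NumSec27.glocus_eq_top k hproj hWi (Groth.Agent.NumTriv23.isNum_of_isNumEquivZero k hWi hnum) σ hσ)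
  · rintro ⟨e⟩
    rw [Groth.Agent.CurveRR24.finrank_HH_congr k e 0]
    exact Groth.Agent.CurveRR24.h0_structure_of_geomIntegral k

end Groth.Agent.S15376
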