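import Groth.Statements.S15383
import Groth.Agent.SGA3cLib.DiagPoints
import Mathlib.AlgebraicGeometry.Morphisms.Finite
import Mathlib.RingTheory.LocalRing.Module
set_option backward.isDefEq.respectTransparency.types false

set_option autoImplicit false
universe u
open GmDual

namespace Groth.Agent.S15383

open CategoryTheory AlgebraicGeometry in
/-- Let f : X' ⟶ X be a finite flat morphism of Noetherian schemes (so finite locally free). A morphism
of abelian sheaves N : f_* 𝔾_{m,X'} ⟶ 𝔾_{m,X} on the big fppf site of X is called a norm map of f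
when, on every affine test scheme T over X for which the functions of T ×_X X' form a finite free
algebra over those of T, it sends an invertible function on T ×_X X' to the determinant of
multiplication by it. Two norm maps of f are equal: a norm map is determined by its affine-local
description by determinants. -/
theorem result (X X' : Scheme.{u}) (f : X' ⟶ X) [IsFinite f] [Flat f]
    [AlgebraicGeometry.IsNoetherian X]
    (N N' : CGrpSh3.pushGm Scheme.fppfPrecoverage f ⟶ CGrpSh2.Gm Scheme.fppfPrecoverage X)
    (hN : CGrpSh3.IsNormMap Scheme.fppfPrecoverage f N) (hN' : CGrpSh3.IsNormMap Scheme.fppfPrecoverage f N') :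
    N = N' := by
  have hnat : ∀ (M : CGrpSh3.pushGm Scheme.fppfPrecoverage f ⟶ CGrpSh2.Gm Scheme.fppfPrecoverage X)
      {T W : Over X} (g : W ⟶ T) (t' : (Over.pullback f).obj T ⟶ Red.Gm X'),
      CGrpSh3.normPt Scheme.fppfPrecoverage f M W ((Over.pullback f).map g ≫ t') =
        g ≫ CGrpSh3.normPt Scheme.fppfPrecoverage f M T t' := fun M {T W} g t' => by
    rw [CGrpSh3.normPt_def, CGrpSh3.normPt_def]
    have h := congrArg (fun z => z (ULift.up (Additive.ofMul t'))) (M.hom.naturality g.op)
    exact congrArg (fun z => z.down.toMul) h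
  have key : ∀ (T : Over X) (t' : (Over.pullback f).obj T ⟶ Red.Gm X'),
      CGrpSh3.normPt Scheme.fppfPrecoverage f N T t' = CGrpSh3.normPt Scheme.fppfPrecoverage f N' T t' := by
    intro T t'
    apply SGA3cLib.gmFn_injective
    refine TopCat.Presheaf.section_ext T.left.sheaf ⊤ _ _ fun x hx => ?_
    let T' : Over X := Over.mk (T.left.fromSpecStalk x ≫ T.hom)
    let g : T' ⟶ T := Over.homMk (T.left.fromSpecStalk x) rfl
    let p := Limits.pullback.fst T'.hom f
    haveI : IsAffine T'.left := inferInstanceAs (IsAffine (Spec (T.left.presheaf.stalk x)))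
    haveI : IsFinite p := MorphismProperty.pullback_fst (P := @IsFinite) _ _ inferInstance
    haveI : Flat p := MorphismProperty.pullback_fst (P := @Flat) _ _ inferInstance
    haveI : IsAffine (Limits.pullback T'.hom f) := isAffine_of_isAffineHom p
    letI : Algebra Γ(T'.left, ⊤) Γ(((Over.pullback f).obj T').left, ⊤) := p.appTop.hom.toAlgebra
    haveI : Module.Finite Γ(T'.left, ⊤) Γ(((Over.pullback f).obj T').left, ⊤) := p.finite_appTop
    haveI : Module.Flat Γ(T'.left, ⊤) Γ(((Over.pullback f).obj T').left, ⊤) := p.flat_appTop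
    haveI : IsLocalRing Γ(T'.left, ⊤) :=
      (Scheme.ΓSpecIso (T.left.presheaf.stalk x)).symm.commRingCatIsoToRingEquiv.isLocalRing
    haveI : Module.Free Γ(T'.left, ⊤) Γ(((Over.pullback f).obj T').left, ⊤) := Module.free_of_flat_of_isLocalRing
    have e : Red.gmFn (g ≫ CGrpSh3.normPt Scheme.fppfPrecoverage f N T t') =
        Red.gmFn (g ≫ CGrpSh3.normPt Scheme.fppfPrecoverage f N' T t') := by
      rw [← hnat, ← hnat, hN T' (fun _ => rfl), hN' T' (fun _ => rfl)]
    rw [SGA3cLib.gmFn_comp, SGA3cLib.gmFn_comp] at e
    change (T.left.fromSpecStalk x).appTop _ = (T.left.fromSpecStalk x).appTop _ at e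
    rw [Scheme.fromSpecStalk_appTop, show ((homOfLE le_top).op : Opposite.op (⊤ : (Spec (T.left.presheaf.stalk x)).Opens) ⟶ Opposite.op ⊤) = 𝟙 _ from
      Subsingleton.elim _ _, CategoryTheory.Functor.map_id, Category.comp_id, CommRingCat.comp_apply, CommRingCat.comp_apply] at e
    refine (ConcreteCategory.bijective_of_isIso ((Scheme.ΓSpecIso (T.left.presheaf.stalk x)).inv)).1 ?_
    exact e
  refine Sheaf.hom_ext (NatTrans.ext (funext fun T => ConcreteCategory.hom_ext _ _ fun z => ?_))
  obtain ⟨z⟩ := z
  refine ULift.ext _ _ ?_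
  exact congrArg Additive.ofMul (key (Opposite.unop T) z.toMul)

end Groth.Agent.S15383
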