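import Groth.Statements.S15384
import Groth.Agent.SGA3cLib.DiagPoints
import Groth.Agent.GmNormLib.Eval
import Mathlib.AlgebraicGeometry.Morphisms.Finite
import Mathlib.RingTheory.LocalRing.Module
set_option backward.isDefEq.respectTransparency.types false

set_option autoImplicit false
universe u
open GmDual
open CategoryTheory MonoidalCategory CartesianMonoidalCategory MonObj AlgebraicGeometry

namespace Groth.Agent.S15384

open CategoryTheory AlgebraicGeometry in
/-- Let f : X' ⟶ X be a finite flat morphism of Noetherian schemes (so finite locally free). There is a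
morphism of abelian sheaves N : f_* 𝔾_{m,X'} ⟶ 𝔾_{m,X} on the big fppf site of X which is a norm map
of f: on every affine test scheme T over X for which the functions of T ×_X X' form a finite free
algebra over those of T (structure map the pullback of functions along the projection), N sends an
invertible function on T ×_X X' to the determinant of multiplication by it. -/
theorem result (X X' : Scheme.{u}) (f : X' ⟶ X) [IsFinite f] [Flat f]
    [AlgebraicGeometry.IsNoetherian X] :
    ∃ N : CGrpSh3.pushGm Scheme.fppfPrecoverage f ⟶ CGrpSh2.Gm Scheme.fppfPrecoverage X,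
      CGrpSh3.IsNormMap Scheme.fppfPrecoverage f N := by
  haveI : LocallyOfFinitePresentation f := inferInstance
  haveI hfin : ∀ T : Over X, IsFinite (Limits.pullback.fst T.hom f) := fun T =>
    MorphismProperty.pullback_fst (P := @IsFinite) _ _ inferInstance
  haveI hflat : ∀ T : Over X, Flat (Limits.pullback.fst T.hom f) := fun T =>
    MorphismProperty.pullback_fst (P := @Flat) _ _ inferInstance
  haveI hlfp : ∀ T : Over X, LocallyOfFinitePresentation (Limits.pullback.fst T.hom f) := fun T =>
    MorphismProperty.pullback_fst (P := @LocallyOfFinitePresentation) _ _ inferInstance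
  have hex : ∀ (T : Over X) (t' : (Over.pullback f).obj T ⟶ Red.Gm X'), ∃ t : T ⟶ Red.Gm X,
      Red.gmFn t = SDiv28.Norm.normHom (Limits.pullback.fst T.hom f) ⊤ (Red.gmFn t') := fun T t' =>
    SGA3cLib.exists_gmFn ((SGA3cLib.isUnit_gmFn t').map _)
  choose N₀ hN₀ using hex
  have hpb : ∀ {T W : Over X} (g : W ⟶ T),
      IsPullback ((Over.pullback f).map g).left (Limits.pullback.fst W.hom f) (Limits.pullback.fst T.hom f) g.left := fun {T W} g => by
    have e2 : ((Over.pullback f).map g).left ≫ Limits.pullback.snd T.hom f = Limits.pullback.snd W.hom f := by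
      simp [Over.pullback, Limits.pullback.lift_snd]
    refine IsPullback.of_right ?_ (by simp [Over.pullback, Limits.pullback.lift_fst]) (IsPullback.of_hasPullback T.hom f).flip
    rw [e2, Over.w]
    exact (IsPullback.of_hasPullback W.hom f).flip
  have heval : ∀ {T W : Over X} (g : W ⟶ T) [IsAffine W.left] {V : T.left.Opens} (_ : IsAffineOpen V) (_ : g.left ⁻¹ᵁ V = ⊤)
      [Algebra Γ(W.left, ⊤) Γ(((Over.pullback f).obj W).left, ⊤)]
      [Module.Finite Γ(W.left, ⊤) Γ(((Over.pullback f).obj W).left, ⊤)]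
      [Module.Free Γ(W.left, ⊤) Γ(((Over.pullback f).obj W).left, ⊤)]
      (_ : ∀ a : Γ(W.left, ⊤), algebraMap Γ(W.left, ⊤) Γ(((Over.pullback f).obj W).left, ⊤) a =
        (Limits.pullback.fst W.hom f).appTop a) (t' : (Over.pullback f).obj T ⟶ Red.Gm X'),
      g.left.appTop (Red.gmFn (N₀ T t')) = Algebra.norm Γ(W.left, ⊤) (Red.gmFn ((Over.pullback f).map g ≫ t')) := by
    intro T W g _ V hV hgV _ _ _ hA t'
    rw [hN₀, SGA3cLib.gmFn_comp]
    exact GmNormLib.normHom_eval (Limits.pullback.fst T.hom f) (hpb g) hV hgV hA _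
  have hnat : ∀ {T W : Over X} (g : W ⟶ T) (t' : (Over.pullback f).obj T ⟶ Red.Gm X'),
      N₀ W ((Over.pullback f).map g ≫ t') = g ≫ N₀ T t' := by
    intro T W g t'
    apply SGA3cLib.gmFn_injective
    refine TopCat.Presheaf.section_ext W.left.sheaf ⊤ _ _ fun x hx => ?_
    let W' : Over X := Over.mk (W.left.fromSpecStalk x ≫ W.hom)
    let j : W' ⟶ W := Over.homMk (W.left.fromSpecStalk x) rfl
    let p := Limits.pullback.fst W'.hom f
    haveI : IsAffine W'.left := inferInstanceAs (IsAffine (Spec (W.left.presheaf.stalk x)))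
    haveI : IsFinite p := hfin W'
    haveI : Flat p := hflat W'
    haveI : IsAffine (Limits.pullback W'.hom f) := isAffine_of_isAffineHom p
    letI : Algebra Γ(W'.left, ⊤) Γ(((Over.pullback f).obj W').left, ⊤) := p.appTop.hom.toAlgebra
    haveI : Module.Finite Γ(W'.left, ⊤) Γ(((Over.pullback f).obj W').left, ⊤) := p.finite_appTop
    haveI : Module.Flat Γ(W'.left, ⊤) Γ(((Over.pullback f).obj W').left, ⊤) := p.flat_appTop
    haveI : IsLocalRing Γ(W'.left, ⊤) :=
      (Scheme.ΓSpecIso (W.left.presheaf.stalk x)).symm.commRingCatIsoToRingEquiv.isLocalRing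
    haveI : Module.Free Γ(W'.left, ⊤) Γ(((Over.pullback f).obj W').left, ⊤) := Module.free_of_flat_of_isLocalRing
    have hnhd : ∀ {T' : Over X} (q : W ⟶ T'), ∃ V : T'.left.Opens, IsAffineOpen V ∧ (j ≫ q).left ⁻¹ᵁ V = ⊤ := by
      intro T' q
      obtain ⟨V, hV, hxV, -⟩ := exists_isAffineOpen_mem_and_subset (X := T'.left) (x := q.left x) (U := ⊤) trivial
      refine ⟨V, hV, TopologicalSpace.Opens.ext (Set.eq_univ_of_forall fun z => ?_)⟩
      have hz : (W.left.fromSpecStalk x) z ⤳ x := by
        have : (W.left.fromSpecStalk x) z ∈ Set.range (W.left.fromSpecStalk x) := ⟨z, rfl⟩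
        rwa [Scheme.range_fromSpecStalk] at this
      exact (hz.map q.left.continuous).mem_open V.isOpen hxV
    obtain ⟨V₁, hV₁, hj₁⟩ := hnhd (𝟙 W)
    obtain ⟨V₂, hV₂, hj₂⟩ := hnhd g
    have e₁ := heval j hV₁ (by rwa [Category.comp_id] at hj₁) (fun _ => rfl) ((Over.pullback f).map g ≫ t')
    have e₂ := heval (j ≫ g) hV₂ hj₂ (fun _ => rfl) t'
    rw [← Category.assoc, ← CategoryTheory.Functor.map_comp] at e₁
    have e : j.left.appTop (Red.gmFn (N₀ W ((Over.pullback f).map g ≫ t'))) = j.left.appTop (Red.gmFn (g ≫ N₀ T t')) := by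
      refine e₁.trans ?_
      rw [SGA3cLib.gmFn_comp]
      exact e₂.symm
    change (W.left.fromSpecStalk x).appTop _ = (W.left.fromSpecStalk x).appTop _ at e
    rw [Scheme.fromSpecStalk_appTop, show ((homOfLE le_top).op : Opposite.op (⊤ : (Spec (W.left.presheaf.stalk x)).Opens) ⟶ Opposite.op ⊤) = 𝟙 _ from
      Subsingleton.elim _ _, CategoryTheory.Functor.map_id, Category.comp_id, CommRingCat.comp_apply, CommRingCat.comp_apply] at e
    exact (ConcreteCategory.bijective_of_isIso ((Scheme.ΓSpecIso (W.left.presheaf.stalk x)).inv)).1 e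
  have hmul : ∀ (T : Over X) (s t : (Over.pullback f).obj T ⟶ Red.Gm X'), N₀ T (s * t) = N₀ T s * N₀ T t := fun T s t => by
    apply SGA3cLib.gmFn_injective
    rw [SGA3cLib.gmFn_mul, hN₀, hN₀, hN₀, SGA3cLib.gmFn_mul]
    exact (SDiv28.Norm.normHom (Limits.pullback.fst T.hom f) ⊤).map_mul _ _
  refine ⟨⟨{
    app := fun T => AddCommGrpCat.ofHom
      (AddMonoidHom.mk' (fun z => ULift.up (Additive.ofMul (N₀ (Opposite.unop T) z.down.toMul)))
        (fun x y => ULift.ext _ _ (congrArg Additive.ofMul (hmul _ x.down.toMul y.down.toMul))))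
    naturality := fun T W g => ConcreteCategory.hom_ext _ _ fun z =>
        ULift.ext _ _ (congrArg Additive.ofMul (hnat g.unop z.down.toMul)) }⟩, ?_⟩
  intro T _ _ _ _ hA t'
  rw [CGrpSh3.normPt_def]
  show Red.gmFn (N₀ T t') = _
  have h := heval (𝟙 T) (isAffineOpen_top T.left) rfl hA t'
  rw [CategoryTheory.Functor.map_id, Category.id_comp] at h
  exact Eq.trans (congrArg (fun m => m (Red.gmFn (N₀ T t'))) (Scheme.Hom.id_appTop (X := T.left)).symm) h

end Groth.Agent.S15384
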