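import Groth.Statements.S15385
import Groth.Agent.Stk19b.Count.Classify

set_option autoImplicit false
universe u
open StackCount

set_option backward.isDefEq.respectTransparency.types false
set_option backward.isDefEq.respectTransparency false

namespace Groth.Agent.S15385


open CategoryTheory AlgebraicGeometry in
/-- Let k be a finite field and G a finite etale group scheme over k (in particular affine over k, so
that every G-torsor is a scheme). For every finite field extension k' of k, the point count of the
classifying stack B(G) over k' — the sum, over the isomorphism classes of the groupoid of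
etale-locally trivial G-torsors over Spec k', of the inverse orders of their automorphism groups —
equals 1. The finiteness of that groupoid (finitely many classes, finite automorphism groups) is
carried as a hypothesis. -/
theorem result (k : Type u) [Field k] [Finite k]
    (G : Over (Spec (CommRingCat.of k))) [GrpObj G] [IsFinite G.hom] [Etale G.hom]
    (k' : Type u) [Field k'] [Algebra k k'] [Module.Finite k k']
    (h : StkCnt.IsEssFinite (StkCnt.pts (AlgSt.BG Scheme.etalePrecoverage G) k')) :
    StkCnt.ptCount (AlgSt.BG Scheme.etalePrecoverage G) k' h = 1 := by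
  haveI : Smooth G.hom := inferInstance
  haveI : Finite k' := Module.finite_of_finite k
  let L := AlgebraicClosure k'
  haveI : Algebra.IsAlgebraic k L := Algebra.IsAlgebraic.trans k k' L
  haveI : LocallyOfFiniteType (MonoidalCategory.tensorUnit (Over (Spec (CommRingCat.of k)))).hom := by
    show LocallyOfFiniteType (𝟙 (Spec (CommRingCat.of k)))
    infer_instance
  obtain ⟨-, -, hc⟩ := Stk19b.Count.count_eq_mass k' L (AlgSt.trivAction G) h
  show StkCnt.count (Stk19b.Count.Fib k' (AlgSt.trivAction G)) h = 1
  rw [hc]
  haveI : IsAffine G.left := isAffine_of_isAffineHom G.hom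
  haveI hGf : Finite (SGA7.pt (K := k) L ⟶ G) := by
    obtain ⟨φ, hφ⟩ := Spec.map_surjective (G.left.isoSpec.inv ≫ G.hom)
    letI := φ.hom.toAlgebra
    haveI : Module.Finite k Γ(G.left, ⊤) := by
      have : IsFinite (Spec.map φ) := by rw [hφ]; infer_instance
      exact RingHom.finite_algebraMap.1 ((IsFinite.SpecMap_iff φ).1 this)
    choose β hβ using fun p : SGA7.pt (K := k) L ⟶ G => Spec.map_surjective (p.left ≫ G.left.isoSpec.hom)
    have hcm : ∀ p c, (β p).hom (φ.hom c) = algebraMap k L c := fun p c => by
      have : φ ≫ β p = CommRingCat.ofHom (algebraMap k L) := Spec.map_injective (by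
        rw [Spec.map_comp, hβ, hφ, Category.assoc, Iso.hom_inv_id_assoc]
        exact Over.w p)
      exact congrArg (fun t => t.hom c) this
    let g : (SGA7.pt (K := k) L ⟶ G) → (Γ(G.left, ⊤) →ₐ[k] L) := fun p => { (β p).hom with commutes' := hcm p }
    refine Finite.of_injective g fun p p' hg => ?_
    have : β p = β p' := CommRingCat.hom_ext (congrArg AlgHom.toRingHom hg)
    exact Over.OverMorphism.ext ((cancel_mono G.left.isoSpec.hom).1 (by rw [← hβ, ← hβ, this]))
  let e : Stk19b.Count.Pairs k' L (AlgSt.trivAction G) ≃ (SGA7.pt (K := k) L ⟶ G) :=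
    { toFun := fun q => q.1.1
      invFun := fun a => ⟨(a, CartesianMonoidalCategory.toUnit _), CartesianMonoidalCategory.toUnit_unique _ _⟩
      left_inv := fun q => Subtype.ext (Prod.ext rfl (CartesianMonoidalCategory.toUnit_unique _ _))
      right_inv := fun a => rfl }
  haveI := Finite.of_equiv _ e.symm
  letI : Group (SGA7.pt (K := k) L ⟶ G) := CategoryTheory.Hom.group
  rw [Stk19b.Count.mass_eq_div, Nat.card_congr e, div_self]
  exact_mod_cast Nat.card_pos.ne'

end Groth.Agent.S15385
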