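import Groth.Statements.S15387
import Groth.Agent.Stk19b.Quot.Induced

set_option autoImplicit false
universe u
open QuotStk

set_option backward.isDefEq.respectTransparency.types false
set_option backward.isDefEq.respectTransparency false

namespace Groth.Agent.S15387


open CategoryTheory MonoidalCategory CartesianMonoidalCategory MonObj AlgebraicGeometry in
/-- Let S = Spec R be an affine scheme, G a flat affine S-group scheme, H ⟶ G a flat closed subgroup
scheme, locally of finite presentation over S, and Z an S-scheme with an H-action. Let Y be a
G-scheme together with a morphism j : G ×_S Z ⟶ Y making Y the balanced product (induced G-scheme)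
of Z along H for the fppf topology: j is G-equivariant for left translation on the factor G, it is
invariant with cartesian Galois square for the H-action h·(g, z) = (g·i(h)⁻¹, h·z) on G ×_S Z, and
it acquires sections fppf-locally on Y. Then the quotient stack of Z by H is equivalent, as a
category over (Sch/S), to the quotient stack of Y by G (torsors locally trivial for the fppf
topology, as schemes); only the existence of such an equivalence is asserted. (The published
statement is for a flat S-group scheme G and a flat closed subgroup H, with the balanced product
taken as a categorical quotient of Z ×_S G by H assumed to exist; this row takes G affine over S, so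
that torsors are schemes, H moreover locally of finite presentation, and the balanced product
through its torsor description.) -/
theorem result (R : Type u) [CommRing R]
    (G H Z Y : Over (Spec (CommRingCat.of R))) [GrpObj G] [GrpObj H]
    (i : H ⟶ G) [IsMonHom i] [IsClosedImmersion i.left] [Flat G.hom] [IsAffineHom G.hom]
    [Flat H.hom] [LocallyOfFinitePresentation H.hom]
    (aZ : AlgGrp.Action H Z) (aY : AlgGrp.Action G Y) (j : G ⊗ Z ⟶ Y)
    (hY : ChGrp.IsBalProd Scheme.fppfPrecoverage i aZ aY j) :
    AlgSt.IsQuotientOf Scheme.fppfPrecoverage H aZ (AlgSt.QuotSt Scheme.fppfPrecoverage G aY) := by
  have : IsAffineHom (i.left ≫ G.hom) := inferInstance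
  have : IsAffineHom H.hom := Over.w i ▸ this
  exact Stk19b.Quot.exists_equiv_induced (Stk19b.Quot.isInduced_of_balProd hY)

end Groth.Agent.S15387
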