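import Groth.Statements.S1539
import Groth.Agent.VarietyLib.GeomPoints
import Groth.Agent.FlatMor12.GeomDescent
import Groth.Agent.AbSchLib.RigidityOver

set_option autoImplicit false
universe u
open CategoryTheory CategoryTheory.Limits AlgebraicGeometry
open Variety Groth.Agent Groth.Agent.VarietyLib

namespace Groth.Agent.S1539

/-- If X_{k'} is irreducible for every finite separable field extension k' of k, then X is geometrically
irreducible over k. -/
theorem result (k : Type u) [Field k] (X : Scheme.{u}) [X.Over (Spec (CommRingCat.of k))]
    (h : ∀ (k' : Type u) [Field k'] [Algebra k k'] [FiniteDimensional k k'] [Algebra.IsSeparable k k'],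
      IrreducibleSpace (Curv2.bc k X k')) :
    GeometricallyIrreducible (X ↘ (Spec (CommRingCat.of k))) := by
  let f := X ↘ Spec (CommRingCat.of k)
  let ks := SeparableClosure k
  suffices IrreducibleSpace ↥(pullback f (sK k ks)) from geometricallyIrreducible_of_irreducibleSpace k f
  have := h k
  obtain ⟨z⟩ := (inferInstance : Nonempty ↥(Curv2.bc k X k))
  obtain ⟨y, -⟩ := surjective_fst k f (L := ks) (pullback.fst f (sK k k) z)
  obtain ⟨ζ, hζ, -⟩ := exists_genericPoints_specializes y
  have key : ∀ η ∈ genericPoints ↥(pullback f (sK k ks)), η = ζ := by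
    intro η hη
    by_contra hne
    obtain ⟨L, hL, hne'⟩ := exists_level_ne k f hne
    have : Algebra.IsSeparable k L := Algebra.isSeparable_tower_bot_of_isSeparable k L ks
    have hirr : IrreducibleSpace ↥(pullback f (sK k L)) := h L
    have hflat := flat_tr k f L ks
    apply hne'
    rw [eq_genericPoint_of_mem_genericPoints (generalizing_genericPoints (Flat.generalizingMap (tr k f L ks)) hη),
      eq_genericPoint_of_mem_genericPoints (generalizing_genericPoints (Flat.generalizingMap (tr k f L ks)) hζ)]
  refine (irreducibleSpace_def _).2 ?_
  show IsIrreducible (Set.univ : Set ↥(pullback f (sK k ks)))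
  have e : (Set.univ : Set ↥(pullback f (sK k ks))) = closure {ζ} := by
    refine (Set.eq_univ_of_forall fun x => ?_).symm
    obtain ⟨η, hη, hηx⟩ := exists_genericPoints_specializes x
    exact specializes_iff_mem_closure.1 (key η hη ▸ hηx)
  rw [e]
  exact isGenericPoint_closure.isIrreducible

end Groth.Agent.S1539
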