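import Groth.Statements.S15391
import Mathlib
import Groth.Agent.FlatCxLib.DRank2
import Groth.Agent.CAlgSmall.ClopenSplit

set_option linter.all false

set_option autoImplicit false
universe u
open TensorProduct
open TorFree

open TensorProduct

namespace Groth.Agent.S15391

/-- Let R be a reduced Noetherian commutative ring, M a finitely generated torsion-free R-module (no
non-zero element of M is annihilated by a non-zero-divisor of R), and t an element of M whose image
1 ⊗ t in the fibre κ(p) ⊗_R M vanishes for every prime ideal p of R, κ(p) being the residue field at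
p. Then t = 0. This is the affine form of the claim that a global section of a coherent torsion-free
module on a reduced Noetherian scheme which vanishes in every fibre is zero. -/
theorem result (R : Type u) [CommRing R] [IsReduced R] [IsNoetherianRing R]
    (M : Type u) [AddCommGroup M] [Module R M] [Module.Finite R M] [Module.IsTorsionFree R M]
    (t : M) (ht : ∀ p : PrimeSpectrum R, (1 : p.asIdeal.ResidueField) ⊗ₜ[R] t = (0 : p.asIdeal.ResidueField ⊗[R] M)) :
    t = 0 := by
  classical
  let J : Ideal R := LinearMap.ker (LinearMap.toSpanSingleton R M t)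
  have hJ : ∀ p ∈ minimalPrimes R, ¬ J ≤ p := by
    intro p hp hle
    have hpp : p.IsPrime := hp.1.1
    have hf : IsField (Localization.AtPrime p) := by
      have hr : IsReduced (Localization.AtPrime p) :=
        isReduced_localizationPreserves p.primeCompl _ inferInstance
      have hd : ringKrullDim (Localization.AtPrime p) = 0 := by
        rw [IsLocalization.AtPrime.ringKrullDim_eq_height p, Ideal.height_eq_zero_iff.2 hp]
        simp
      have : Ring.KrullDimLE 0 (Localization.AtPrime p) := Ring.krullDimLE_iff.2 (le_of_eq hd)
      exact Ring.KrullDimLE.isField_of_isReduced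
    letI := hf.toField
    have hb : Function.Bijective (IsScalarTower.toAlgHom R (Localization.AtPrime p) p.ResidueField) :=
      ⟨(IsScalarTower.toAlgHom R (Localization.AtPrime p) p.ResidueField).toRingHom.injective,
        IsLocalRing.residue_surjective⟩
    have : IsLocalization p.primeCompl p.ResidueField :=
      IsLocalization.isLocalization_of_algEquiv p.primeCompl (AlgEquiv.ofBijective _ hb)
    have : IsLocalizedModule p.primeCompl (TensorProduct.mk R p.ResidueField M 1) :=
      (isLocalizedModule_iff_isBaseChange p.primeCompl p.ResidueField _).2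
        (TensorProduct.isBaseChange R M p.ResidueField)
    obtain ⟨s, hs⟩ := (IsLocalizedModule.eq_zero_iff p.primeCompl
      (TensorProduct.mk R p.ResidueField M 1)).1 (ht ⟨p, hpp⟩)
    exact s.2 (hle (show (s : R) • t = 0 from hs))
  have : ¬ ((J : Set R) ⊆ ⋃ p ∈ ((minimalPrimes.finite_of_isNoetherianRing R).toFinset : Set (Ideal R)), (p : Set R)) := by
    intro hsub
    obtain ⟨p, hp, hle⟩ := (Ideal.subset_union_prime ⊥ ⊥ fun p hp _ _ =>
      ((minimalPrimes.finite_of_isNoetherianRing R).mem_toFinset.1 hp).1.1).1 hsub
    exact hJ p ((minimalPrimes.finite_of_isNoetherianRing R).mem_toFinset.1 hp) hle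
  obtain ⟨a, haJ, ha⟩ := Set.not_subset.1 this
  simp only [Set.Finite.coe_toFinset, Set.mem_iUnion, SetLike.mem_coe, not_exists] at ha
  have hreg : a ∈ nonZeroDivisors R := by
    rw [mem_nonZeroDivisors_iff_right]
    intro x hx
    have : x ∈ sInf (minimalPrimes R) := Submodule.mem_sInf.2 fun p hp =>
      (hp.1.1.mem_or_mem (show x * a ∈ p by rw [hx]; exact zero_mem _)).resolve_right (ha p hp)
    rw [minimalPrimes, Ideal.sInf_minimalPrimes] at this
    exact (show IsNilpotent x from this).eq_zero
  exact (IsRegular.smul_right_injective M (isRegular_iff_mem_nonZeroDivisors.2 hreg))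
    (show a • t = a • (0 : M) by rw [smul_zero]; exact haJ)

end Groth.Agent.S15391
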