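import Groth.Statements.S15393
import Groth.Agent.AVExt16.DualTriangle
import Groth.Agent.AVExt16.FMPoint
import Groth.Agent.AVExt16.Fibre
import Groth.Agent.S14126
import Groth.Agent.AbDualLib.DegreeDual

set_option autoImplicit false
universe u
open CategoryTheory CategoryTheory.Limits MonoidalCategory CartesianMonoidalCategory MonObj GrpObj AlgebraicGeometry
attribute [local instance] HasDerivedCategory.standard
open AbVar

namespace Groth.Agent.S15393

private theorem isZero_kernel_unit {k : Type u} [Field k] (B : Over (Spec (CommRingCat.of k))) [GrpObj B] [IsProper B.hom]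
    [Smooth B.hom] [GeometricallyConnected B.hom] (h : topologicalKrullDim ↥B.left = ((0 : ℕ) : WithBot ℕ∞)) :
    IsZero (kernel (ClSub.unitToPush η[B].left)) := by
  haveI := Groth.Agent.AbVarLib.geometricallyIntegral_of_smooth B.hom
  haveI : IsIntegral B.left := GeometricallyIntegral.isIntegral_of_subsingleton B.hom
  haveI : Subsingleton B.left := Groth.Agent.AbCubeLib.subsingleton_of_dim_zero (by simpa using h)
  haveI : IsClosedImmersion η[B].left := Groth.Agent.BCFlat16.isClosedImmersion_unit B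
  haveI : Nonempty ((𝟙_ (Over (Spec (CommRingCat.of k)))).left : Scheme.{u}) :=
    inferInstanceAs (Nonempty (Spec (CommRingCat.of k)))
  haveI : IsIso η[B].left := Groth.Agent.AVExt16.isIso_of_subsingleton
  haveI := Groth.Agent.AVExt16.mono_unitToPush η[B].left
  exact isZero_kernel_of_mono _

private theorem isQCohD_FM {X Y Z : Scheme.{u}} (p : Z ⟶ X) (q : Z ⟶ Y) [QuasiCompact q] [QuasiSeparated q]
    {P : Z.Modules} (hP : PicF.IsInvertible P) [DCoh.HasLpull p] [DCoh.HasLTensorMod P] [DCoh.HasRpush q]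
    (M : DCoh.D X) (hM : DCoh.IsQCohD M) :
    DCoh.IsQCohD ((DCoh.Lpull p ⋙ DCoh.LTensorMod P ⋙ DCoh.Rpush q).obj M) := by
  obtain ⟨n⟩ := Groth.Agent.BCFlat16.nonempty_LTensorMod_nat P
  have h₁ : DCoh.IsQCohD ((DCoh.LTensorMod P).obj ((DCoh.Lpull p).obj M)) :=
    Groth.Agent.DQCoh.isQCohD_of_iso (n.app _).symm
      (Groth.Agent.BCFlat16.TenBC.isQCohD_tens (Groth.Agent.AmpleLib.isQCoh_of_isInvertible hP)
        (Groth.Agent.DQCoh.isQCohD_Lpull p M hM))
  exact Groth.Agent.DQCoh.isQCohD_Rpush q _ h₁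

private theorem triExact_FM {X Y Z : Scheme.{u}} (p : Z ⟶ X) (q : Z ⟶ Y) (P : Z.Modules) [DCoh.HasLpull p]
    [DCoh.HasLTensorMod P] [DCoh.HasRpush q] :
    Groth.Agent.Dual22Lib.WeakExact.TriExact (DCoh.Lpull p ⋙ DCoh.LTensorMod P ⋙ DCoh.Rpush q) := by
  obtain ⟨n⟩ := Groth.Agent.BCFlat16.nonempty_LTensorMod_nat P
  exact (Groth.Agent.Dual22Lib.TenLocal.triExact_Lpull p).comp
    (((Groth.Agent.Dual22Lib.TenLocal.triExact_LTensor _).of_iso n.symm).comp
      (Groth.Agent.Dual22Lib.TenLocal.triExact_Rpush q))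

private theorem map_ne_zero {X Y : Scheme.{u}} (Φ : DCoh.D X ⥤ DCoh.D Y)
    (hΦ : ∀ M : DCoh.D X, DCoh.IsQCohD M → DCoh.IsQCohD (Φ.obj M))
    [(ObjectProperty.lift (DCoh.IsQCohD (X := Y)) (ObjectProperty.ι (DCoh.IsQCohD (X := X)) ⋙ Φ)
      (fun M => hΦ M.obj M.property)).Faithful]
    {a b : DCoh.D X} (ha : DCoh.IsQCohD a) (hb : DCoh.IsQCohD b) (h : a ⟶ b) (h0 : h ≠ 0) (hz : Φ.map (0 : a ⟶ b) = 0) :
    Φ.map h ≠ 0 := fun e => h0 (by
  let a' : DCoh.DQCoh X := ⟨a, ha⟩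
  let b' : DCoh.DQCoh X := ⟨b, hb⟩
  let F := ObjectProperty.lift (DCoh.IsQCohD (X := Y)) (ObjectProperty.ι (DCoh.IsQCohD (X := X)) ⋙ Φ)
    (fun M => hΦ M.obj M.property)
  have := F.map_injective (X := a') (Y := b') (a₁ := ObjectProperty.homMk h) (a₂ := ObjectProperty.homMk 0)
    (ObjectProperty.hom_ext _ (show Φ.map h = Φ.map 0 from e.trans hz.symm))
  exact congrArg (fun f : a' ⟶ b' => f.hom) this)

private theorem map_zero_of_triExact {X Y : Scheme.{u}} {Φ : DCoh.D X ⥤ DCoh.D Y}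
    (hΦ : Groth.Agent.Dual22Lib.WeakExact.TriExact Φ) (a b : DCoh.D X) : Φ.map (0 : a ⟶ b) = 0 := by
  have hz : IsZero (Φ.obj (⊥_ (DCoh.D X))) := hΦ.map_isZero initialIsInitial.isZero
  rw [show (0 : a ⟶ b) = (0 : a ⟶ ⊥_ (DCoh.D X)) ≫ (0 : ⊥_ (DCoh.D X) ⟶ b) from (zero_comp).symm, Φ.map_comp,
    hz.eq_of_tgt (Φ.map (0 : a ⟶ ⊥_ (DCoh.D X))) 0, zero_comp]

open Groth.Agent.Dual22Lib.WeakExact in
private theorem nonempty_FM_triangle {X Y : Scheme.{u}} {Φ : DCoh.D X ⥤ DCoh.D Y} (hΦ : TriExact Φ)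
    {M R : DCoh.D X} {S : X.Modules} {N' F' S' : Y.Modules} {a' : N' ⟶ F'} {b' : F' ⟶ S'} {w : a' ≫ b' = 0}
    (hT : (ShortComplex.mk a' b' w).ShortExact)
    (hp : ∀ p : F' ⟶ S', p ≠ 0 → ∃ v : S' ≅ S', b' ≫ v.hom = p) (g : ℤ)
    (a : M ⟶ R) (b : R ⟶ (DCoh.inD X S)⟦-(g - 1)⟧) (h : (DCoh.inD X S)⟦-(g - 1)⟧ ⟶ M⟦(1 : ℤ)⟧)
    (hd : Pretriangulated.Triangle.mk a b h ∈ Pretriangulated.distinguishedTriangles) (hh : Φ.map h ≠ 0)
    (eS : Φ.obj (DCoh.inD X S) ≅ DCoh.inD Y F') (eM : Φ.obj M ≅ (DCoh.inD Y S')⟦-g⟧) :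
    Nonempty (Φ.obj R ≅ (DCoh.inD Y N')⟦-(g - 1)⟧) := by
  obtain ⟨δ, hδ⟩ := hΦ _ (Pretriangulated.rot_of_distTriang _ hd)
  obtain ⟨i₁⟩ := Groth.Agent.BCFlat16.nonempty_map_shift hΦ (DCoh.inD X S) (-(g - 1))
  obtain ⟨i₂⟩ := Groth.Agent.BCFlat16.nonempty_map_shift hΦ M 1
  let j₁ : Φ.obj ((DCoh.inD X S)⟦-(g - 1)⟧) ≅ (DCoh.inD Y F')⟦-(g - 1)⟧ := i₁ ≪≫ (shiftFunctor _ _).mapIso eS
  let j₂ : Φ.obj (M⟦(1 : ℤ)⟧) ≅ (DCoh.inD Y S')⟦-(g - 1)⟧ := i₂ ≪≫ (shiftFunctor _ (1 : ℤ)).mapIso eM ≪≫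
    ((shiftFunctorAdd' _ (-g) 1 (-(g - 1)) (by omega)).app _).symm
  refine Groth.Agent.AVExt16.nonempty_fibre hT hp (-(g - 1)) (Φ.map b ≫ j₁.hom) (j₁.inv ≫ Φ.map h ≫ j₂.hom)
    (j₂.inv ≫ δ) (Pretriangulated.isomorphic_distinguished _ hδ _ ?_) ?_
  · refine Pretriangulated.Triangle.isoMk _ _ (Iso.refl _) j₁.symm j₂.symm ?_ ?_ ?_
    · show (Φ.map b ≫ j₁.hom) ≫ j₁.inv = 𝟙 _ ≫ Φ.map b
      rw [Category.assoc, Iso.hom_inv_id, Category.id_comp]
      exact Category.comp_id _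
    · show (j₁.inv ≫ Φ.map h ≫ j₂.hom) ≫ j₂.inv = j₁.inv ≫ Φ.map h
      rw [Category.assoc, Category.assoc, Iso.hom_inv_id]
      exact congrArg (j₁.inv ≫ ·) (Category.comp_id _)
    · show (j₂.inv ≫ δ) ≫ (𝟙 (Φ.obj R))⟦(1 : ℤ)⟧' = j₂.inv ≫ δ
      exact (congrArg ((j₂.inv ≫ δ) ≫ ·) ((shiftFunctor (DCoh.D Y) (1 : ℤ)).map_id (Φ.obj R))).trans (Category.comp_id _)
  · intro e
    refine hh ?_
    rw [← cancel_epi j₁.inv, ← cancel_mono j₂.hom]
    simpa using e

/-- Let k be an algebraically closed field of characteristic zero, A an abelian variety over k (a proper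
smooth k-group scheme with geometrically connected fibres) of dimension g, (A^t, φ) a given dual
abelian variety of A for the fppf topology with A^t itself an abelian variety, and P an invertible
module on A ×_k A^t whose class is a Poincaré class. Let I_0 ⊆ O_A be the ideal sheaf of the unit
point of A (the kernel of O_A → e_*O_{Spec k} for the unit section e), I_0^∨ = RHom(I_0, O_A) its
derived dual in D(O_A), and similarly I_{0^t} ⊆ O_{A^t} the ideal sheaf of the unit point of A^t.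
Write Φ_P = Rpr_{2,*}(Lpr_1^*(−) ⊗^L P) : D(O_A) → D(O_{A^t}); the derived functors involved are
assumed to exist. Then Φ_P(I_0^∨) is isomorphic in D(O_{A^t}) to I_{0^t}[−(g − 1)], the ideal sheaf
of the unit point placed in degree g − 1 (existence of an isomorphism). -/
theorem result (k : Type u) [Field k] [IsAlgClosed k] [CharZero k]
    (A At : Over (Spec (CommRingCat.of k))) [GrpObj A] [IsProper A.hom] [Smooth A.hom] [GeometricallyConnected A.hom]
    [GrpObj At] [IsProper At.hom] [Smooth At.hom] [GeometricallyConnected At.hom]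
    (φ : ∀ T : Over (Spec (CommRingCat.of k)), PicF.Cl (PicF.XT A.hom T) → (T ⟶ At))
    (hφ : AbDual.IsDualAV Scheme.fppfPrecoverage A At φ)
    (P : (pullback A.hom At.hom).Modules) (hP : PicF.IsInvertible P)
    (hPξ : AbDual.IsPoincareCl A At φ (PicF.cl P))
    (g : ℕ) (hg : topologicalKrullDim ↥A.left = g)
    [DCoh.HasLpull (pullback.fst A.hom At.hom)] [DCoh.HasLTensorMod P] [DCoh.HasRpush (pullback.snd A.hom At.hom)]
    [DCoh.HasLTensorCx ((HomologicalComplex.single A.left.Modules (ComplexShape.up ℤ) 0).obj (kernel (ClSub.unitToPush η[A].left)))]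
    [DCoh.HasRSheafHom ((HomologicalComplex.single A.left.Modules (ComplexShape.up ℤ) 0).obj (kernel (ClSub.unitToPush η[A].left)))] :
    Nonempty ((DCoh.Lpull (pullback.fst A.hom At.hom) ⋙ DCoh.LTensorMod P ⋙ DCoh.Rpush (pullback.snd A.hom At.hom)).obj
        ((DCoh.RSheafHom ((HomologicalComplex.single A.left.Modules (ComplexShape.up ℤ) 0).obj
          (kernel (ClSub.unitToPush η[A].left)))).obj (DCoh.inD A.left (Coh.structureModule A.left))) ≅
      (shiftFunctor (DCoh.D At.left) (-((g : ℤ) - 1))).obj (DCoh.inD At.left (kernel (ClSub.unitToPush η[At].left)))) := by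
  have hΦ := isQCohD_FM (pullback.fst A.hom At.hom) (pullback.snd A.hom At.hom) hP
  have hex := triExact_FM (pullback.fst A.hom At.hom) (pullback.snd A.hom At.hom) P
  have hgt : topologicalKrullDim ↥At.left = g := (Groth.Agent.AbDualLib.dim_dual_eq hφ).symm.trans hg
  rcases Nat.eq_zero_or_pos g with rfl | hg1
  · have hA := isZero_kernel_unit A hg
    have hT := isZero_kernel_unit At hgt
    exact ⟨IsZero.iso (hex.map_isZero (Groth.Agent.AVExt16.isZero_rhom_of_isZero hA _))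
      ((shiftFunctor (DCoh.D At.left) _).map_isZero ((DerivedCategory.singleFunctor At.left.Modules 0).map_isZero hT))⟩
  obtain ⟨a, b, h, hd, hne⟩ := Groth.Agent.AVExt16.exists_dual_triangle k A g hg hg1
  obtain ⟨eA, heA⟩ : ∃ eA : Spec (CommRingCat.of k) ⟶ A.left, eA = η[A].left := ⟨_, rfl⟩
  obtain ⟨eT, heT⟩ : ∃ eT : Spec (CommRingCat.of k) ⟶ At.left, eT = η[At].left := ⟨_, rfl⟩
  haveI : IsClosedImmersion eA := heA ▸ Groth.Agent.BCFlat16.isClosedImmersion_unit A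
  haveI : IsClosedImmersion eT := heT ▸ Groth.Agent.BCFlat16.isClosedImmersion_unit At
  obtain ⟨eS⟩ := Groth.Agent.AVExt16.nonempty_FM_sky hφ hP hPξ eA heA
  obtain ⟨eM⟩ := Groth.Agent.AVExt16.nonempty_FM_structure hφ hP hPξ hg eT heT
  haveI : Epi (ClSub.unitToPush eT) :=
    Groth.Agent.FlatMor12.Cube.epi_unitToPush eT At.hom (heT ▸ Over.w η[At])
  have hT : (ShortComplex.mk _ _ (kernel.condition (ClSub.unitToPush eT))).ShortExact :=
    { exact := (ShortComplex.mk _ _ (kernel.condition (ClSub.unitToPush eT))).exact_of_f_is_kernel (kernelIsKernel _) }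
  have hu : ClSub.unitToPush eT ≠ 0 := fun e => by
    subst heT
    exact Groth.Agent.AVExt16.not_isZero_sky At (IsZero.of_epi_eq_zero _ e)
  have hF : IsField Γ(Spec (CommRingCat.of k), ⊤) :=
    (Scheme.ΓSpecIso (CommRingCat.of k)).commRingCatIsoToRingEquiv.toMulEquiv.isField (Field.toIsField k)
  haveI := Groth.Agent.S14126.result k A At φ hφ P hP hPξ hΦ
  subst heA
  haveI := Groth.Agent.QCohLoc.isQCoh_structureModule A.left
  haveI := Groth.Agent.QCohLoc.isQCoh_structureModule (Spec (CommRingCat.of k))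
  haveI : Coh.IsQCoh (Groth.Agent.AVExt16.sky A) :=
    Groth.Agent.Coherent.isQCoh_push η[A].left (Coh.structureModule (Spec (CommRingCat.of k)))
  have hh := map_ne_zero _ hΦ
    (Groth.Agent.DQCoh.isQCohD_shift (Groth.Agent.FlatBC14.isQCohD_inD (Groth.Agent.AVExt16.sky A)) _)
    (Groth.Agent.DQCoh.isQCohD_shift (Groth.Agent.FlatBC14.isQCohD_inD (Coh.structureModule A.left)) _) h hne
    (map_zero_of_triExact hex _ _)
  obtain ⟨r⟩ := nonempty_FM_triangle hex hT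
    (fun p hp => Groth.Agent.AVExt16.exists_auto_sky eT hF hu p hp) (g : ℤ) a b h hd hh eS eM
  subst heT
  exact ⟨r⟩

end Groth.Agent.S15393
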