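import Groth.Statements.S15394
import Groth.Agent.GVPres16.TorApply
-- import your own Groth.Agent.* helpers here

set_option autoImplicit false
universe u
open CategoryTheory CategoryTheory.Limits MonoidalCategory CartesianMonoidalCategory MonObj GrpObj AlgebraicGeometry
attribute [local instance] HasDerivedCategory.standard
open AbVar

namespace Groth.Agent.S15394

/-- Let k be an algebraically closed field of characteristic zero, A an abelian variety over k (a proper
smooth k-group scheme with geometrically connected fibres), (A^t, φ) a given dual abelian variety of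
A for the fppf topology with A^t itself an abelian variety, and P an invertible module on A ×_k A^t
whose class is a Poincaré class; for a k-rational point α of A^t write P_α for the restriction of P
along A = A × {α} → A ×_k A^t. For an object K of D(O_A) and i ≥ 0 let V^i(K) ⊆ A^t be the set of
points underlying the k-rational points α with hypercohomology H^i(A, K ⊗^L P_α) ≠ 0, and call K a
GV object when for every i ≥ 0 the closure of V^i(K) has codimension at least i in A^t (its
dimension plus i is at most dim A^t); for an O_A-module the same words are used with sheaf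
cohomology H^i(A, F ⊗ P_α). Let I and J be quasi-coherent ideal sheaves of O_A whose closed
subschemes have dimension at most one, and M an invertible O_A-module. If the derived tensor product
I ⊗^L J ⊗ M is a GV object, then the ordinary tensor product I ⊗ J ⊗ M is a GV module and so is IJ ⊗
M, IJ being the product ideal sheaf. The derived functors involved are assumed to exist. -/
theorem result (k : Type u) [Field k] [IsAlgClosed k] [CharZero k]
    (A At : Over (Spec (CommRingCat.of k))) [GrpObj A] [IsProper A.hom] [Smooth A.hom] [GeometricallyConnected A.hom]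
    [GrpObj At] [IsProper At.hom] [Smooth At.hom] [GeometricallyConnected At.hom]
    (φ : ∀ T : Over (Spec (CommRingCat.of k)), PicF.Cl (PicF.XT A.hom T) → (T ⟶ At))
    (hφ : AbDual.IsDualAV Scheme.fppfPrecoverage A At φ)
    (P : (pullback A.hom At.hom).Modules) (hP : PicF.IsInvertible P)
    (hPξ : AbDual.IsPoincareCl A At φ (PicF.cl P))
    (I J : A.left.IdealSheafData) (hI : topologicalKrullDim ↥I.subscheme ≤ 1) (hJ : topologicalKrullDim ↥J.subscheme ≤ 1)
    (M : A.left.Modules) (hM : PicF.IsInvertible M)
    [DCoh.HasLTensorMod (ClSub.idealMod J)] [DCoh.HasLTensorMod M]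
    [∀ α : 𝟙_ (Over (Spec (CommRingCat.of k))) ⟶ At, DCoh.HasLTensorMod ((Scheme.Modules.pullback (CartesianMonoidalCategory.lift (𝟙 A) (toUnit A ≫ α)).left).obj P)]
    [DCoh.HasRΓ A.left]
    (hGV : ∀ i : ℕ, topologicalKrullDim ↥(closure {y : ↥At.left | ∃ α : 𝟙_ (Over (Spec (CommRingCat.of k))) ⟶ At, (∃ p : ↥(𝟙_ (Over (Spec (CommRingCat.of k)))).left, α.left p = y) ∧ ¬ IsZero ((DerivedCategory.homologyFunctor AddCommGrpCat.{u} (i : ℤ)).obj ((DCoh.RΓ A.left).obj ((DCoh.LTensorMod ((Scheme.Modules.pullback (CartesianMonoidalCategory.lift (𝟙 A) (toUnit A ≫ α)).left).obj P)).obj ((DCoh.LTensorMod M).obj ((DCoh.LTensorMod (ClSub.idealMod J)).obj (DCoh.inD A.left (ClSub.idealMod I)))))))}) + (i : WithBot ℕ∞) ≤ topologicalKrullDim ↥At.left) :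
    (∀ i : ℕ, topologicalKrullDim ↥(closure {y : ↥At.left | ∃ α : 𝟙_ (Over (Spec (CommRingCat.of k))) ⟶ At, (∃ p : ↥(𝟙_ (Over (Spec (CommRingCat.of k)))).left, α.left p = y) ∧ ¬ Subsingleton (Coh.HH A.left (CohB1.tensorMod (CohB1.tensorMod (CohB1.tensorMod (ClSub.idealMod I) (ClSub.idealMod J)) M) ((Scheme.Modules.pullback (CartesianMonoidalCategory.lift (𝟙 A) (toUnit A ≫ α)).left).obj P)) i)}) + (i : WithBot ℕ∞) ≤ topologicalKrullDim ↥At.left) ∧
    (∀ i : ℕ, topologicalKrullDim ↥(closure {y : ↥At.left | ∃ α : 𝟙_ (Over (Spec (CommRingCat.of k))) ⟶ At, (∃ p : ↥(𝟙_ (Over (Spec (CommRingCat.of k)))).left, α.left p = y) ∧ ¬ Subsingleton (Coh.HH A.left (CohB1.tensorMod (CohB1.tensorMod (ClSub.idealMod (I * J)) M) ((Scheme.Modules.pullback (CartesianMonoidalCategory.lift (𝟙 A) (toUnit A ≫ α)).left).obj P)) i)}) + (i : WithBot ℕ∞) ≤ topologicalKrullDim ↥At.left) := by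
  haveI : IsLocallyNoetherian A.left := LocallyOfFiniteType.isLocallyNoetherian A.hom
  haveI : CompactSpace A.left := QuasiCompact.compactSpace_of_compactSpace A.hom
  haveI : IsNoetherian A.left := {}
  have hreg : ∀ x : A.left, IsRegularLocalRing (A.left.presheaf.stalk x) := fun x =>
    Groth.Agent.CycLib28.isRegularLocalRing_stalk A.hom x
  constructor
  · intro i
    refine le_trans (add_le_add_left (Groth.Agent.GVan16.dim_mono (closure_mono ?_)) _) (hGV i)
    rintro y ⟨α, hα, hne⟩
    exact ⟨α, hα, fun hz => hne (Groth.Agent.GVPres16.subsingleton_of_van hreg I J hJ hM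
      (PicLoc.isInvertible_pullback _ hP) i hz).1⟩
  · intro i
    rcases Nat.eq_zero_or_pos i with rfl | hi
    · rw [Nat.cast_zero, add_zero]
      exact le_trans (Groth.Agent.GVan16.dim_mono (T := Set.univ) (Set.subset_univ _))
        (IsHomeomorph.topologicalKrullDim_eq _ (Homeomorph.Set.univ At.left).isHomeomorph).le
    refine le_trans (add_le_add_left (Groth.Agent.GVan16.dim_mono (closure_mono ?_)) _) (hGV i)
    rintro y ⟨α, hα, hne⟩
    exact ⟨α, hα, fun hz => hne ((Groth.Agent.GVPres16.subsingleton_of_van hreg I J hJ hM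
      (PicLoc.isInvertible_pullback _ hP) i hz).2 hi)⟩

end Groth.Agent.S15394
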