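import Groth.Statements.S15395
import Groth.Agent.GVPres16.Main
import Groth.Agent.FMK16.TopDegree
import Groth.Agent.Coherent.FiniteType
-- import your own Groth.Agent.* helpers here

set_option autoImplicit false
universe u
open CategoryTheory CategoryTheory.Limits MonoidalCategory CartesianMonoidalCategory MonObj GrpObj AlgebraicGeometry
attribute [local instance] HasDerivedCategory.standard
open AbVar

namespace Groth.Agent.S15395

/-- Arithmetic of dimensions. -/
theorem bound {j q g : ℕ} {d : WithBot ℕ∞} (hjq : j ≤ q) (h0 : 0 ≤ d) (h : d + (q : WithBot ℕ∞) ≤ g) :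
    j ≤ g ∧ d ≤ ((g - j : ℕ) : WithBot ℕ∞) := by
  induction d using WithBot.recBotCoe with
  | bot => simp at h0
  | coe d =>
    induction d using ENat.recTopCoe with
    | top =>
      exact absurd (le_trans (le_add_of_nonneg_right (show (0 : WithBot ℕ∞) ≤ q by exact_mod_cast Nat.zero_le q)) h)
        (not_le.2 (WithBot.coe_lt_coe.2 (ENat.natCast_lt_top g)))
    | coe d =>
      have h' : d + q ≤ g := by exact_mod_cast h
      exact ⟨by omega, WithBot.coe_le_coe.2 (Nat.cast_le.2 (show d ≤ g - j by omega))⟩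

/-- Let k be an algebraically closed field of characteristic zero, A an abelian variety over k (a proper
smooth k-group scheme with geometrically connected fibres), (A^t, φ) a given dual abelian variety of
A for the fppf topology with A^t itself an abelian variety, and P an invertible module on A ×_k A^t
whose class is a Poincaré class; for a k-rational point α of A^t write P_α for the restriction of P
along A = A × {α} → A ×_k A^t. Let E be a coherent O_A-module satisfying IT(0): H^i(A, E ⊗ P_α) = 0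
for every i ≥ 1 and every α. Let F be an object of D(O_A), bounded with coherent cohomology sheaves,
which is a GV object: for every i ≥ 0 the closure in A^t of the set of points underlying the
k-rational points α with hypercohomology H^i(A, F ⊗^L P_α) ≠ 0 has codimension at least i (its
dimension plus i is at most dim A^t). Then the derived tensor product F ⊗^L E satisfies the IT(0)
vanishing: H^i(A, (F ⊗^L E) ⊗^L P_α) = 0 for every i ≥ 1 and every k-rational point α of A^t. The
derived functors involved are assumed to exist. (IT(0) is taken to mean vanishing of H^i for every i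
≥ 1 and every α; nothing is asserted about H^0 or about negative degrees, where F ⊗^L E may have
hypercohomology.) -/
theorem result (k : Type u) [Field k] [IsAlgClosed k] [CharZero k]
    (A At : Over (Spec (CommRingCat.of k))) [GrpObj A] [IsProper A.hom] [Smooth A.hom] [GeometricallyConnected A.hom]
    [GrpObj At] [IsProper At.hom] [Smooth At.hom] [GeometricallyConnected At.hom]
    (φ : ∀ T : Over (Spec (CommRingCat.of k)), PicF.Cl (PicF.XT A.hom T) → (T ⟶ At))
    (hφ : AbDual.IsDualAV Scheme.fppfPrecoverage A At φ)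
    (P : (pullback A.hom At.hom).Modules) (hP : PicF.IsInvertible P)
    (hPξ : AbDual.IsPoincareCl A At φ (PicF.cl P))
    (E : A.left.Modules) (hE : Coh.IsCoh E)
    (hE0 : ∀ (α : 𝟙_ (Over (Spec (CommRingCat.of k))) ⟶ At) (i : ℕ), 1 ≤ i → Subsingleton (Coh.HH A.left (CohB1.tensorMod E ((Scheme.Modules.pullback (CartesianMonoidalCategory.lift (𝟙 A) (toUnit A ≫ α)).left).obj P)) i))
    (F : DCoh.D A.left) (hF : DCoh.IsCohD F) (m n : ℤ) (hFm : DerivedCategory.IsGE F m) (hFn : DerivedCategory.IsLE F n)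
    [DCoh.HasLTensorMod E] [∀ α : 𝟙_ (Over (Spec (CommRingCat.of k))) ⟶ At, DCoh.HasLTensorMod ((Scheme.Modules.pullback (CartesianMonoidalCategory.lift (𝟙 A) (toUnit A ≫ α)).left).obj P)] [DCoh.HasRΓ A.left]
    (hGV : ∀ i : ℕ, topologicalKrullDim ↥(closure {y : ↥At.left | ∃ α : 𝟙_ (Over (Spec (CommRingCat.of k))) ⟶ At, (∃ p : ↥(𝟙_ (Over (Spec (CommRingCat.of k)))).left, α.left p = y) ∧ ¬ IsZero ((DerivedCategory.homologyFunctor AddCommGrpCat.{u} (i : ℤ)).obj ((DCoh.RΓ A.left).obj ((DCoh.LTensorMod ((Scheme.Modules.pullback (CartesianMonoidalCategory.lift (𝟙 A) (toUnit A ≫ α)).left).obj P)).obj F)))}) + (i : WithBot ℕ∞) ≤ topologicalKrullDim ↥At.left)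
    (α : 𝟙_ (Over (Spec (CommRingCat.of k))) ⟶ At) (i : ℕ) (hi : 1 ≤ i) :
    IsZero ((DerivedCategory.homologyFunctor AddCommGrpCat.{u} (i : ℤ)).obj ((DCoh.RΓ A.left).obj ((DCoh.LTensorMod ((Scheme.Modules.pullback (CartesianMonoidalCategory.lift (𝟙 A) (toUnit A ≫ α)).left).obj P)).obj ((DCoh.LTensorMod E).obj F)))) := by
  haveI : IsLocallyNoetherian A.left := LocallyOfFiniteType.isLocallyNoetherian A.hom
  haveI : CompactSpace A.left := QuasiCompact.compactSpace_of_compactSpace A.hom
  haveI : IsNoetherian A.left := {}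
  haveI := Groth.Agent.AbVarLib.geometricallyIntegral_of_smooth A.hom
  haveI : DCoh.HasLpull (pullback.fst A.hom At.hom) := Groth.Agent.DCat.hasLpull _
  haveI : DCoh.HasLTensorMod P := Groth.Agent.DCat.hasLTensorMod _
  haveI : DCoh.HasRpush (pullback.snd A.hom At.hom) := Groth.Agent.DCat.hasRpush _
  haveI : ∀ y : At.left, DCoh.HasLpull (At.left.fromSpecResidueField y) := fun y => Groth.Agent.DCat.hasLpull _
  haveI : IsLocallyNoetherian At.left := LocallyOfFiniteType.isLocallyNoetherian At.hom
  haveI : CompactSpace At.left := QuasiCompact.compactSpace_of_compactSpace At.hom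
  haveI : QuasiSeparatedSpace At.left := quasiSeparatedSpace_of_quasiSeparated At.hom
  haveI : JacobsonSpace At.left := LocallyOfFiniteType.jacobsonSpace At.hom
  obtain ⟨g, hg⟩ := Groth.Agent.AbCubeLib.exists_dim_eq A
  have hgt : topologicalKrullDim At.left ≤ (g : WithBot ℕ∞) :=
    ((Groth.Agent.AbDualLib.dim_dual_eq hφ).symm.trans hg).le
  have hperf : DCoh.IsPerfect F := (Groth.Agent.KZeroLib.isPerfect_iff_bounded_coh
    (fun x => Groth.Agent.CycLib28.isRegularLocalRing_stalk A.hom x) F).2 ⟨hF, m, n, hFm, hFn⟩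
  refine Groth.Agent.GVPres16.main hφ hP hPξ hE hE0 hperf g hg (fun j y hy => ?_) α i hi
  let T := Groth.Agent.GVPres16.Phi P F
  have hT : DCoh.IsPerfect T := Groth.Agent.GVPres16.isPerfect_Phi hP hperf
  obtain ⟨a, c, ha, hc, -, hcoh⟩ := Groth.Agent.FMK16.exists_bounded_coh hT
  let V : ℕ → Set At.left := fun q => {y : ↥At.left | ∃ α : 𝟙_ (Over (Spec (CommRingCat.of k))) ⟶ At,
    (∃ p : ↥(𝟙_ (Over (Spec (CommRingCat.of k)))).left, α.left p = y) ∧
      ¬ IsZero ((DerivedCategory.homologyFunctor AddCommGrpCat.{u} (q : ℤ)).obj ((DCoh.RΓ A.left).obj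
        ((DCoh.LTensorMod ((Scheme.Modules.pullback (CartesianMonoidalCategory.lift (𝟙 A) (toUnit A ≫ α)).left).obj P)).obj F)))}
  have hz : ∀ z ∈ CohB1.support (DCoh.HD T (j : ℤ)) ∩ closedPoints At.left,
      z ∈ ⋃ q ∈ Finset.Icc j c.toNat, closure (V q) := by
    rintro z ⟨hzs, hzc⟩
    have h1 : ¬ ∀ q : ℤ, (j : ℤ) ≤ q → PerfD.betti T z q = 0 := fun h =>
      hzs ((Groth.Agent.FMK16.stalks_above_iff_betti T hT z (j : ℤ)).2 h _ le_rfl)
    push Not at h1
    obtain ⟨q, hjq, hq⟩ := h1
    have hqc : q ≤ c := by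
      by_contra hlt
      refine hq ((Groth.Agent.FMK16.stalks_above_iff_betti T hT z q).1 (fun r hr => ?_) q le_rfl)
      haveI := hc
      exact Groth.Agent.DCat.SuppOpen.subsingleton_of_isZero_stalkFunctor _ z
        ((DerSch.stalkFunctor _ z).map_isZero (DerivedCategory.isZero_of_isLE T c r (by omega)))
    obtain ⟨q, rfl⟩ : ∃ q' : ℕ, q = q' := ⟨q.toNat, by omega⟩
    obtain ⟨x, hx⟩ := Groth.Agent.GVPres16.exists_point (k := k) hzc
    refine Set.mem_iUnion₂.2 ⟨q, Finset.mem_Icc.2 ⟨by omega, by omega⟩,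
      subset_closure ⟨x, ⟨IsLocalRing.closedPoint k, hx _⟩, fun hzero => hq ?_⟩⟩
    obtain ⟨nx⟩ := Groth.Agent.BCFlat16.nonempty_LTensorMod_nat (Groth.Agent.GVPres16.Px P x)
    have hb := (Groth.Agent.GVPres16.isZero_twist_iff_betti hφ hP hPξ x
      (Groth.Agent.Dual22Lib.PerfLift.isQCohD_perfect hperf) hT (IsLocalRing.closedPoint k) (q : ℤ)).1
      (hzero.of_iso ((DerivedCategory.homologyFunctor AddCommGrpCat.{u} (q : ℤ)).mapIso
        ((DCoh.RΓ A.left).mapIso (nx.app F).symm)))
    exact (congrArg (fun w => PerfD.betti T w (q : ℤ)) (hx (IsLocalRing.closedPoint k))).symm.trans hb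
  have hcl : IsClosed (CohB1.support (DCoh.HD T (j : ℤ))) :=
    Groth.Agent.Coherent.isClosed_support _ (Groth.Agent.Coherent.locallyFinGen_of_isFT _ (hcoh (j : ℤ)).2)
  have hy' : y ∈ ⋃ q ∈ Finset.Icc j c.toNat, closure (V q) := by
    have h : closure (CohB1.support (DCoh.HD T (j : ℤ)) ∩ closedPoints At.left) ⊆
        ⋃ q ∈ Finset.Icc j c.toNat, closure (V q) :=
      (isClosed_biUnion_finset fun q _ => isClosed_closure).closure_subset_iff.2 hz
    rw [JacobsonSpace.closure_inter_closedPoints_eq_closure hcl.isLocallyClosed] at h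
    exact h (subset_closure hy)
  obtain ⟨q, hq, hyq⟩ := Set.mem_iUnion₂.1 hy'
  have hsub : closure ({y} : Set At.left) ⊆ closure (V q) :=
    isClosed_closure.closure_subset_iff.2 (Set.singleton_subset_iff.2 hyq)
  have h3 : topologicalKrullDim ↥(closure ({y} : Set At.left)) + (q : WithBot ℕ∞) ≤ (g : WithBot ℕ∞) :=
    le_trans (add_le_add_left (Groth.Agent.GVan16.dim_mono hsub) _) ((hGV q).trans hgt)
  have h0 : 0 ≤ topologicalKrullDim ↥(closure ({y} : Set At.left)) := by
    haveI : Nonempty ↥(closure ({y} : Set At.left)) := ⟨⟨y, subset_closure rfl⟩⟩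
    exact Order.krullDim_nonneg_iff.2 ⟨⟨closure {Classical.arbitrary _}, isIrreducible_singleton.closure, isClosed_closure⟩⟩
  exact bound (Finset.mem_Icc.1 hq).1 h0 h3

end Groth.Agent.S15395
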