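import Groth.Statements.S15396
import Groth.Agent.AVExt16.DualSeq
import Groth.Agent.AVExt16.SkyExt
import Groth.Agent.DCat.RHomLeft
import Groth.Agent.FlatMor12.Cube.Sheaves

set_option autoImplicit false
universe u
open CategoryTheory CategoryTheory.Limits MonoidalCategory CartesianMonoidalCategory MonObj GrpObj AlgebraicGeometry
attribute [local instance] HasDerivedCategory.standard
open AbVar

namespace Groth.Agent.S15396

/-- Let k be an algebraically closed field of characteristic zero and A an abelian variety over k (a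
proper smooth k-group scheme with geometrically connected fibres) of dimension g ≥ 2, with unit
section e : Spec k → A. Let I_0 ⊆ O_A be the ideal sheaf of the unit point (the kernel of O_A →
e_*O_{Spec k}) and I_0^∨ = RHom(I_0, O_A) its derived dual in D(O_A), whose cohomology sheaves are
the sheaves Ext^p(I_0, O_A); the derived functors involved are assumed to exist. Then Ext^0(I_0,
O_A) is isomorphic to O_A, Ext^{g−1}(I_0, O_A) is isomorphic to the skyscraper e_*O_{Spec k}, and
Ext^p(I_0, O_A) = 0 for every integer p different from 0 and g − 1 (existence of isomorphisms). (The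
published table is printed without restriction on g and twisted by a principal polarization, which
does not change the computation; for g = 1 the degrees 0 and g − 1 coincide and Hom(I_0, O_A) is the
invertible module O_A(0), so the table is stated here for g ≥ 2, the case in which it is used.) -/
theorem result (k : Type u) [Field k] [IsAlgClosed k] [CharZero k]
    (A : Over (Spec (CommRingCat.of k))) [GrpObj A] [IsProper A.hom] [Smooth A.hom] [GeometricallyConnected A.hom]
    (g : ℕ) (hg : topologicalKrullDim ↥A.left = g) (hg2 : 2 ≤ g)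
    [DCoh.HasLTensorCx ((HomologicalComplex.single A.left.Modules (ComplexShape.up ℤ) 0).obj (kernel (ClSub.unitToPush η[A].left)))] [DCoh.HasRSheafHom ((HomologicalComplex.single A.left.Modules (ComplexShape.up ℤ) 0).obj (kernel (ClSub.unitToPush η[A].left)))] :
    Nonempty (DCoh.HD ((DCoh.RSheafHom ((HomologicalComplex.single A.left.Modules (ComplexShape.up ℤ) 0).obj (kernel (ClSub.unitToPush η[A].left)))).obj (DCoh.inD A.left (Coh.structureModule A.left))) 0 ≅ Coh.structureModule A.left) ∧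
    Nonempty (DCoh.HD ((DCoh.RSheafHom ((HomologicalComplex.single A.left.Modules (ComplexShape.up ℤ) 0).obj (kernel (ClSub.unitToPush η[A].left)))).obj (DCoh.inD A.left (Coh.structureModule A.left))) ((g : ℤ) - 1) ≅
      (Scheme.Modules.pushforward η[A].left).obj (Coh.structureModule (Spec (CommRingCat.of k)))) ∧
    (∀ p : ℤ, p ≠ 0 → p ≠ (g : ℤ) - 1 → IsZero (DCoh.HD ((DCoh.RSheafHom ((HomologicalComplex.single A.left.Modules (ComplexShape.up ℤ) 0).obj (kernel (ClSub.unitToPush η[A].left)))).obj (DCoh.inD A.left (Coh.structureModule A.left))) p)) := by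
  let e₀ : Spec (CommRingCat.of k) ⟶ A.left := η[A].left
  have hι : e₀ ≫ A.hom = 𝟙 _ := Over.w η[A]
  haveI : IsClosedImmersion (e₀ ≫ A.hom) := by rw [hι]; infer_instance
  haveI : IsClosedImmersion e₀ := IsClosedImmersion.of_comp e₀ A.hom
  haveI : Epi (ClSub.unitToPush e₀) := Groth.Agent.FlatMor12.Cube.epi_unitToPush e₀ A.hom hι
  haveI : Dual3.HasHomO e₀ := (Groth.Agent.SerreDual.shriekAdj e₀).isLeftAdjoint
  haveI := Groth.Agent.ExtSS.preservesFiniteLimits_pushforward e₀
  haveI := Groth.Agent.ExtSS.preservesFiniteColimits_pushforward e₀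
  let T : ShortComplex A.left.Modules := ShortComplex.mk _ _ (kernel.condition (ClSub.unitToPush e₀))
  have hT : T.ShortExact :=
    { exact := T.exact_of_f_is_kernel (kernelIsKernel _) }
  let sg := HomologicalComplex.single A.left.Modules (ComplexShape.up ℤ) 0
  haveI : DCoh.HasLTensorCx (sg.obj T.X₁) := ‹DCoh.HasLTensorCx ((HomologicalComplex.single A.left.Modules
    (ComplexShape.up ℤ) 0).obj (kernel (ClSub.unitToPush η[A].left)))›
  haveI : DCoh.HasRSheafHom (sg.obj T.X₁) := ‹DCoh.HasRSheafHom ((HomologicalComplex.single A.left.Modules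
    (ComplexShape.up ℤ) 0).obj (kernel (ClSub.unitToPush η[A].left)))›
  haveI i2 : DCoh.HasLTensorCx (sg.obj (Coh.structureModule A.left)) := Groth.Agent.DCat.LTensorSheaf.hasLTensorCx _
  haveI j2 : DCoh.HasRSheafHom (sg.obj (Coh.structureModule A.left)) := Groth.Agent.DCat.RHomExist.hasRSheafHom _
  haveI : DCoh.HasLTensorCx (sg.obj T.X₂) := i2
  haveI : DCoh.HasRSheafHom (sg.obj T.X₂) := j2
  haveI i3 : DCoh.HasLTensorCx (Groth.Agent.DCat.ClosedShriek.pushOne e₀) := Groth.Agent.DCat.LTensorSheaf.hasLTensorCx _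
  haveI j3 : DCoh.HasRSheafHom (Groth.Agent.DCat.ClosedShriek.pushOne e₀) := Groth.Agent.DCat.RHomExist.hasRSheafHom _
  haveI : DCoh.HasLTensorCx (Groth.Agent.DCat.ClosedShriek.pushOne η[A].left) := i3
  haveI : DCoh.HasRSheafHom (Groth.Agent.DCat.ClosedShriek.pushOne η[A].left) := j3
  haveI : DCoh.HasLTensorCx (sg.obj T.X₃) := i3
  haveI : DCoh.HasRSheafHom (sg.obj T.X₃) := j3
  let O := Coh.structureModule A.left
  let M := DCoh.inD A.left O
  let H : ℤ → DCoh.D A.left ⥤ A.left.Modules := fun i => DerivedCategory.homologyFunctor A.left.Modules i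
  obtain ⟨f, gg, δ, g', w₁, w₂, w₃, hseq⟩ := Groth.Agent.AVExt16.exists_rhom_seq T hT M
  obtain ⟨r⟩ := Groth.Agent.DCat.RHomLeft.nonempty_RHom_structure (X := A.left)
  obtain ⟨s⟩ := Groth.Agent.AVExt16.nonempty_rhom_pushOne_shift e₀ M 1
  have hs : ∀ i : ℤ, i ≠ 0 → IsZero ((H i).obj M) := fun i hi => by
    rcases lt_or_gt_of_ne hi with h | h
    · exact DerivedCategory.isZero_of_isGE ((DerivedCategory.singleFunctor A.left.Modules 0).obj O) 0 i h
    · exact DerivedCategory.isZero_of_isLE ((DerivedCategory.singleFunctor A.left.Modules 0).obj O) 0 i h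
  have z2 : ∀ i : ℤ, i ≠ 0 → IsZero ((H i).obj ((DCoh.RSheafHom (sg.obj T.X₂)).obj M)) := fun i hi =>
    IsZero.of_iso (hs i hi) ((H i).mapIso (r.app M))
  let u : ∀ i : ℤ, (H i).obj (M⟦(1 : ℤ)⟧) ≅ (H (i + 1)).obj M := fun i =>
    ((DerivedCategory.homologyFunctor A.left.Modules 0).shiftIso 1 i (i + 1) (by omega)).app M
  have z2' : ∀ i : ℤ, i ≠ -1 → IsZero ((H i).obj ((DCoh.RSheafHom (sg.obj T.X₂)).obj (M⟦(1 : ℤ)⟧))) := fun i hi =>
    IsZero.of_iso (hs (i + 1) (by omega))
      ((H i).mapIso (r.app _) ≪≫ u i)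
  let v : ∀ i : ℤ, (H i).obj ((DCoh.RSheafHom (sg.obj T.X₃)).obj (M⟦(1 : ℤ)⟧)) ≅
      (H (i + 1)).obj ((DCoh.RSheafHom (Groth.Agent.DCat.ClosedShriek.pushOne e₀)).obj M) := fun i =>
    (H i).mapIso s ≪≫ ((DerivedCategory.homologyFunctor A.left.Modules 0).shiftIso 1 i (i + 1) (by omega)).app _
  have z3 : ∀ i : ℤ, i ≠ g → IsZero ((H i).obj ((DCoh.RSheafHom (sg.obj T.X₃)).obj M)) := fun i hi =>
    Groth.Agent.AVExt16.isZero_HD_rhom_sky k A g hg i hi
  have z3' : ∀ i : ℤ, i ≠ (g : ℤ) - 1 → IsZero ((H i).obj ((DCoh.RSheafHom (sg.obj T.X₃)).obj (M⟦(1 : ℤ)⟧))) := fun i hi =>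
    IsZero.of_iso (Groth.Agent.AVExt16.isZero_HD_rhom_sky k A g hg (i + 1) (by omega)) (v i)
  refine ⟨?_, ?_, fun p hp hp' => ?_⟩
  · obtain ⟨e1, e2, -⟩ := hseq 0
    haveI : Mono ((H 0).map f) := e1.mono_g ((z3 0 (by omega)).eq_of_src _ _)
    haveI : Epi ((H 0).map f) := e2.epi_f ((z3' 0 (by omega)).eq_of_tgt _ _)
    haveI := isIso_of_mono_of_epi ((H 0).map f)
    exact ⟨(asIso ((H 0).map f)).symm ≪≫ (H 0).mapIso (r.app M) ≪≫
      (DerivedCategory.singleFunctorCompHomologyFunctorIso A.left.Modules 0).app O⟩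
  · obtain ⟨-, e2, e3⟩ := hseq ((g : ℤ) - 1)
    haveI : Mono ((H ((g : ℤ) - 1)).map δ) := e2.mono_g ((z2 _ (by omega)).eq_of_src _ _)
    haveI : Epi ((H ((g : ℤ) - 1)).map δ) := e3.epi_f ((z2' _ (by omega)).eq_of_tgt _ _)
    haveI := isIso_of_mono_of_epi ((H ((g : ℤ) - 1)).map δ)
    obtain ⟨q⟩ := (Groth.Agent.S19478.result k A g hg).2
    exact ⟨asIso ((H ((g : ℤ) - 1)).map δ) ≪≫ v _ ≪≫ eqToIso (by rw [sub_add_cancel]) ≪≫ q⟩
  · obtain ⟨-, e2, -⟩ := hseq p
    exact e2.isZero_X₂ ((z2 p hp).eq_of_src _ _) ((z3' p hp').eq_of_tgt _ _)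

end Groth.Agent.S15396
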