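import Groth.Statements.S15397
import Groth.Agent.MulDet27.Basic
import Groth.Agent.AbVarLib.GeomIntegralSmooth
import Groth.Agent.AbSchLib.GlobalSections
import Groth.Agent.CurveRR24.Sky
-- import your own Groth.Agent.* helpers here

set_option autoImplicit false
set_option linter.style.haveILetI false
set_option backward.isDefEq.respectTransparency.types false
universe u
open CategoryTheory CategoryTheory.Limits MonoidalCategory CartesianMonoidalCategory MonObj GrpObj AlgebraicGeometry
open AbVar

namespace Groth.Agent.S15397

open CategoryTheory CategoryTheory.Limits MonObj AlgebraicGeometry in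
open Groth.Agent in
/-- Let k be an algebraically closed field of characteristic zero, A an abelian variety over k (a proper
smooth k-group scheme with geometrically connected fibres), and E a finite locally free O_A-module
of rank r which is generically globally generated: there are a non-empty open subset U of A and a
family of global sections s_j : O_A → E such that the induced map from the direct sum of copies of
O_A to E is an epimorphism after restriction to U. Assume that r is smaller than the dimension over
k of H^0(A, E), and let D be a determinant of E, that is an r-th exterior power of E. Then the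
multiplication map on global sections Γ(A, E) ⊗ Γ(A, D) → Γ(A, E ⊗ D), written as the canonical map
from the global sections of the sectionwise tensor product presheaf (the tensor being over the ring
of global functions Γ(A, O_A)) to the global sections of its sheafification, is not injective. -/
theorem result (k : Type u) [Field k] [IsAlgClosed k] [CharZero k]
    (A : Over (Spec (CommRingCat.of k))) [GrpObj A] [IsProper A.hom] [Smooth A.hom] [GeometricallyConnected A.hom]
    (E : A.left.Modules) (r : ℕ) (hE : FlatMod.IsFinLocFreeOfRank r E)
    (hgen : ∃ (U : A.left.Opens) (J : Type u) (s : J → (Coh.structureModule A.left ⟶ E)),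
      (U : Set ↥A.left).Nonempty ∧ Epi ((Scheme.Modules.restrictFunctor U.ι).map (Sigma.desc s)))
    (hlt : r < @Module.finrank k (Coh.HH A.left E 0) _ _ (@Coh.moduleOver k _ A.left ⟨A.hom⟩ E 0))
    (D : A.left.Modules) (hD : ExtPow.IsExtPow r E D) :
    ¬ Function.Injective
      ((toSheafify (Opens.grothendieckTopology ↥A.left) (CohB1.tensorPre E D).presheaf).app (Opposite.op ⊤)) := by
  obtain ⟨φ, hφ⟩ := hD
  obtain ⟨U, J, s, hU, hs⟩ := hgen
  haveI : ConnectedSpace A.left := GeometricallyConnected.connectedSpace_of_subsingleton A.hom
  haveI : IsIntegral A.left := AbVarLib.isIntegral_of_smooth_connected A.hom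
  haveI : GeometricallyIntegral A.hom := AbVarLib.geometricallyIntegral_of_smooth A.hom
  haveI : IsLocallyNoetherian A.left := LocallyOfFiniteType.isLocallyNoetherian A.hom
  have hb := AbSchLib.bijective_appTop_of_field k A.hom
  letI : A.left.Over (Spec (CommRingCat.of k)) := ⟨A.hom⟩
  let c : k →+* Γ(A.left, ⊤) := Coherent.baseHom k A.left
  have hc : Function.Bijective c := by
    show Function.Bijective (⇑A.hom.appTop.hom ∘ ⇑(Scheme.ΓSpecIso (CommRingCat.of k)).inv.hom)
    exact hb.comp (ConcreteCategory.bijective_of_isIso (Scheme.ΓSpecIso (CommRingCat.of k)).inv)
  have hF : IsField Γ(A.left, ⊤) :=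
    (RingEquiv.ofBijective c hc).symm.toMulEquiv.isField (Field.toIsField k)
  refine MulDet27.not_injective φ hφ hE U hU s hs hF fun σ => ?_
  by_contra hall
  push Not at hall
  let e : Coh.HH A.left E 0 ≃ₗ[k] Coherent.GA (Coherent.baseHom k A.left) E := CurveRR24.hhZero k E
  let lin := Fintype.linearCombination k (show Fin r → Coherent.GA (Coherent.baseHom k A.left) E from σ)
  have hsur : Function.Surjective lin := by
    intro y
    obtain ⟨a, ha⟩ := (Submodule.mem_span_range_iff_exists_fun _).1 (hall (show Γ(E, (⊤ : A.left.Opens)) from y))
    refine ⟨fun i => (RingEquiv.ofBijective c hc).symm (a i), ?_⟩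
    rw [Fintype.linearCombination_apply]
    refine Eq.trans (Finset.sum_congr rfl fun i _ => ?_) ha
    show (c ((RingEquiv.ofBijective c hc).symm (a i))) • σ i = _
    rw [show c ((RingEquiv.ofBijective c hc).symm (a i)) = a i from (RingEquiv.ofBijective c hc).apply_symm_apply _]
  have hle := LinearMap.finrank_le_finrank_of_surjective (f := e.symm.toLinearMap ∘ₗ lin) (e.symm.surjective.comp hsur)
  rw [Module.finrank_fin_fun] at hle
  exact absurd hlt (not_lt.2 hle)

end Groth.Agent.S15397
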