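import Groth.Statements.S15399
import Groth.Agent.PicH127.Seq
import Mathlib.Tactic.LinearCombination
-- import your own Groth.Agent.* helpers here

set_option autoImplicit false
set_option backward.isDefEq.respectTransparency false
set_option linter.style.haveILetI false
set_option backward.isDefEq.respectTransparency.types false
universe u
open CategoryTheory CategoryTheory.Limits AlgebraicGeometry
open PicGrp

namespace Groth.Agent.S15399

open CategoryTheory CategoryTheory.Limits MonObj AlgebraicGeometry in
open Groth.Agent in
/-- Let X be a quasi-compact separated scheme, J a quasi-coherent ideal of O_X with J² = 0 and X₀ the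
closed subscheme it cuts out, with inclusion i, and assume that the restriction of global functions
O_X(X) → O_{X₀}(X₀) is surjective. Assume the Picard group laws on X and X₀ and that pullback of
invertible classes along i is multiplicative. Then the kernel of the pullback homomorphism Pic(X) →
Pic(X₀) is isomorphic, as a group, to the additive group H¹(X, J) (J viewed as an O_X-module),
written multiplicatively. (Existence of a group isomorphism only; the compatibility of the
isomorphism with pullback along morphisms Y → X is not stated.) -/
theorem result (X : Scheme.{u}) [CompactSpace X] [X.IsSeparated]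
    (J : X.IdealSheafData) (hJ : J * J = ⊥)
    [PicGrp.Law X] [PicGrp.Law J.subscheme] (hi : PicGrp.PullMul J.subschemeι)
    (hsurj : Function.Surjective J.subschemeι.appTop.hom) :
    Nonempty ((PicGrp.pullHom J.subschemeι hi).ker ≃* Multiplicative (Coh.HH X (ClSub.idealMod J) 1)) := by
  obtain ⟨ε, δ₀, α, δ₁, -, -, h₀, hα, hker, -⟩ := PicH127.exists_maps hJ hi
  have hJ2 : J ^ 2 = ⊥ := by rw [pow_two]; exact hJ
  have hu : (Units.map J.subschemeι.appTop.hom.toMonoidHom).range = ⊤ := by
    refine MonoidHom.range_eq_top.2 fun v => ?_
    obtain ⟨a, ha⟩ := hsurj v.val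
    obtain ⟨b, hb⟩ := hsurj v.inv
    have h0 : J.subschemeι.app ⊤ (a * b - 1) = 0 := by
      show J.subschemeι.appTop.hom (a * b - 1) = 0
      rw [map_sub, map_mul, map_one, ha, hb, v.val_inv]
      exact sub_self _
    have hsq := PicDef15.mul_eq_zero J hJ2 ⊤ h0 h0
    refine ⟨⟨a, b * (2 - a * b), by linear_combination -hsq, by linear_combination -hsq⟩, Units.ext ha⟩
  have hαi : Function.Injective α := by
    rw [← MonoidHom.ker_eq_bot_iff, hα]
    rw [eq_bot_iff]
    rintro _ ⟨v, rfl⟩
    exact (hu ▸ h₀ : δ₀.ker = ⊤).ge (Subgroup.mem_top v)
  exact ⟨((MonoidHom.ofInjective hαi).trans (MulEquiv.subgroupCongr hker.symm)).symm⟩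

end Groth.Agent.S15399
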