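import Groth.Statements.S15404
import Groth.Agent.PicH127.Union
-- import your own Groth.Agent.* helpers here

set_option autoImplicit false
set_option backward.isDefEq.respectTransparency false
set_option linter.style.haveILetI false
set_option backward.isDefEq.respectTransparency.types false
universe u
open CategoryTheory CategoryTheory.Limits AlgebraicGeometry
open PicGrp

namespace Groth.Agent.S15404

open CategoryTheory CategoryTheory.Limits CategoryTheory.Abelian AlgebraicGeometry in
open Groth.Agent in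
/-- Let π : X ⟶ B be quasi-compact and separated and let X be the union of the closed subschemes Y =
V(I) and Z = V(J), I and J quasi-coherent ideals with I ∩ J = 0 (so that O_X → O_Y × O_Z is
injective with cokernel O_W, W = Y ∩ Z = V(I + J)); assume that W is flat, proper and of finite
presentation over B, that W → B has a section, and that the geometric fibres of W → B are reduced
and connected. Assume the Picard group laws on B, X, Y, Z, W and that pullback of invertible classes
along π, along the inclusions of Y, Z in X and of W in Y, Z, and along the structure maps of Y, Z, W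
is multiplicative. Then the square of groups formed by Pic(X)/π^*Pic(B), Pic(Y)/Pic(B),
Pic(Z)/Pic(B) and Pic(W)/Pic(B) under restriction is cartesian: (a) an invertible class on X whose
restrictions to Y and to Z are pulled back from B is itself pulled back from B; (b) for invertible
classes y on Y and z on Z whose restrictions to W agree up to a class pulled back from B, there is a
class on X whose restrictions to Y and Z are y and z up to classes pulled back from B. (The
published statement asserts this for the functor T ↦ Pic(X ×_B T)/Pic(T) on all B-schemes T and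
assumes only that π is quasi-compact and separated, W flat over B with a section and geometrically
reduced connected fibres; its proof uses that every global unit on W comes from B, through a lemma
on flat proper morphisms, and without properness the assertion fails — over a field, two affine
planes glued along the hyperbola ts = 1 have non-trivial Picard group — so W is taken proper and of
finite presentation over B here (finite presentation being automatic over a locally Noetherian
base), and only the value at T = B is stated.) -/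
theorem result {X B : Scheme.{u}} (π : X ⟶ B)
    [QuasiCompact π] [IsSeparated π] (I J : X.IdealSheafData) (hIJ : I ⊓ J = ⊥)
    [Flat ((I ⊔ J).subschemeι ≫ π)] [IsProper ((I ⊔ J).subschemeι ≫ π)]
    [LocallyOfFinitePresentation ((I ⊔ J).subschemeι ≫ π)]
    (s : B ⟶ (I ⊔ J).subscheme) (hs : s ≫ (I ⊔ J).subschemeι ≫ π = 𝟙 B)
    (hfib : ∀ (K : Type u) [Field K] [IsAlgClosed K] (g : Spec (CommRingCat.of K) ⟶ B),
      IsReduced (pullback ((I ⊔ J).subschemeι ≫ π) g) ∧ ConnectedSpace ↥(pullback ((I ⊔ J).subschemeι ≫ π) g))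
    [PicGrp.Law B] [PicGrp.Law X] [PicGrp.Law I.subscheme] [PicGrp.Law J.subscheme] [PicGrp.Law (I ⊔ J).subscheme]
    (hπ : PicGrp.PullMul π) (hY : PicGrp.PullMul I.subschemeι) (hZ : PicGrp.PullMul J.subschemeι)
    (hπY : PicGrp.PullMul (I.subschemeι ≫ π)) (hπZ : PicGrp.PullMul (J.subschemeι ≫ π))
    (hπW : PicGrp.PullMul ((I ⊔ J).subschemeι ≫ π))
    (hWY : PicGrp.PullMul (Scheme.IdealSheafData.inclusion (le_sup_left : I ≤ I ⊔ J)))
    (hWZ : PicGrp.PullMul (Scheme.IdealSheafData.inclusion (le_sup_right : J ≤ I ⊔ J))) :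
    (∀ c : PicLoc.PicSet X,
        (∃ b₁ : PicLoc.PicSet B, PicGrp.pullHom I.subschemeι hY c = PicGrp.pullHom (I.subschemeι ≫ π) hπY b₁) →
        (∃ b₂ : PicLoc.PicSet B, PicGrp.pullHom J.subschemeι hZ c = PicGrp.pullHom (J.subschemeι ≫ π) hπZ b₂) →
          ∃ b : PicLoc.PicSet B, c = PicGrp.pullHom π hπ b) ∧
      (∀ (y : PicLoc.PicSet I.subscheme) (z : PicLoc.PicSet J.subscheme),
        (∃ b : PicLoc.PicSet B,
            PicGrp.pullHom (Scheme.IdealSheafData.inclusion (le_sup_left : I ≤ I ⊔ J)) hWY y =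
              PicGrp.pullHom (Scheme.IdealSheafData.inclusion (le_sup_right : J ≤ I ⊔ J)) hWZ z *
                PicGrp.pullHom ((I ⊔ J).subschemeι ≫ π) hπW b) →
          ∃ (c : PicLoc.PicSet X) (b₁ b₂ : PicLoc.PicSet B),
            PicGrp.pullHom I.subschemeι hY c = y * PicGrp.pullHom (I.subschemeι ≫ π) hπY b₁ ∧
              PicGrp.pullHom J.subschemeι hZ c = z * PicGrp.pullHom (J.subschemeι ≫ π) hπZ b₂) := by
  obtain ⟨w, hS⟩ := PicH127.shortExact_union I J hIJ
  let k := (I ⊔ J).subschemeι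
  let q := k ≫ π
  have hcl : ∀ K : X.IdealSheafData, PicH127.HasTriv K.subschemeι := fun K =>
    PicH127.hasTriv_of_isClosedImmersion _
  let EX := AddEquiv.ofBijective _ (PicH127.picToH1_bijective (PicH127.hasTriv_id (X := X)))
  let EY := AddEquiv.ofBijective _ (PicH127.picToH1_bijective (hcl I))
  let EZ := AddEquiv.ofBijective _ (PicH127.picToH1_bijective (hcl J))
  let EW := AddEquiv.ofBijective _ (PicH127.picToH1_bijective (hcl (I ⊔ J)))
  have hcY : ∀ c, EY (Additive.ofMul (PicGrp.pullHom I.subschemeι hY c)) =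
      Sheaf.H.map (PicH127.comap' I.subschemeι) 1 (EX (Additive.ofMul c)) := fun c =>
    PicH127.picToH1_pullHom (hcl I) hY c
  have hcZ : ∀ c, EZ (Additive.ofMul (PicGrp.pullHom J.subschemeι hZ c)) =
      Sheaf.H.map (PicH127.comap' J.subschemeι) 1 (EX (Additive.ofMul c)) := fun c =>
    PicH127.picToH1_pullHom (hcl J) hZ c
  have hrY : ∀ y, EW (Additive.ofMul (PicGrp.pullHom (PicH127.inY I J) hWY y)) =
      Sheaf.H.map (PicH127.rY I J) 1 (EY (Additive.ofMul y)) := fun y =>
    PicH127.picToH1_pullAlong _ _ _ (PicH127.inY_fac I J) (hcl I) (hcl (I ⊔ J)) hWY y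
  have hrZ : ∀ z, EW (Additive.ofMul (PicGrp.pullHom (PicH127.inZ I J) hWZ z)) =
      Sheaf.H.map (PicH127.rZ I J) 1 (EZ (Additive.ofMul z)) := fun z =>
    PicH127.picToH1_pullAlong _ _ _ (PicH127.inZ_fac I J) (hcl J) (hcl (I ⊔ J)) hWZ z
  have hcY' : ∀ b, PicGrp.pullHom (I.subschemeι ≫ π) hπY b = PicGrp.pullHom I.subschemeι hY (PicGrp.pullHom π hπ b) :=
    fun b => PicGrp.pullHom_comp_apply _ _ hY hπ hπY b
  have hcZ' : ∀ b, PicGrp.pullHom (J.subschemeι ≫ π) hπZ b = PicGrp.pullHom J.subschemeι hZ (PicGrp.pullHom π hπ b) :=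
    fun b => PicGrp.pullHom_comp_apply _ _ hZ hπ hπZ b
  have hkY : ∀ b, PicGrp.pullHom (PicH127.inY I J) hWY (PicGrp.pullHom (I.subschemeι ≫ π) hπY b) =
      PicGrp.pullHom q hπW b := fun b => Subtype.ext <| by
    show PicF.pullCl _ (PicF.pullCl _ b.1) = PicF.pullCl q b.1
    rw [← PicLoc.pullCl_comp, ← Category.assoc, PicH127.inY_fac]
  have hkZ : ∀ b, PicGrp.pullHom (PicH127.inZ I J) hWZ (PicGrp.pullHom (J.subschemeι ≫ π) hπZ b) =
      PicGrp.pullHom q hπW b := fun b => Subtype.ext <| by
    show PicF.pullCl _ (PicF.pullCl _ b.1) = PicF.pullCl q b.1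
    rw [← PicLoc.pullCl_comp, ← Category.assoc, PicH127.inZ_fac]
  have hcw : ∀ c : PicLoc.PicSet X, PicGrp.pullHom (PicH127.inY I J) hWY (PicGrp.pullHom I.subschemeι hY c) =
      PicGrp.pullHom (PicH127.inZ I J) hWZ (PicGrp.pullHom J.subschemeι hZ c) := fun c => Subtype.ext <| by
    show PicF.pullCl _ (PicF.pullCl _ c.1) = PicF.pullCl _ (PicF.pullCl _ c.1)
    rw [← PicLoc.pullCl_comp, ← PicLoc.pullCl_comp, PicH127.inY_fac, PicH127.inZ_fac]
  -- the restrictions to the two pieces are jointly injective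
  have hinj : ∀ c, PicGrp.pullHom I.subschemeι hY c = 1 → PicGrp.pullHom J.subschemeι hZ c = 1 → c = 1 := by
    intro c h1 h2
    have e1 := (hcY c).symm.trans (by rw [h1, ofMul_one, map_zero])
    have e2 := (hcZ c).symm.trans (by rw [h2, ofMul_one, map_zero])
    have hdec : biprod.lift (PicH127.comap' I.subschemeι) (PicH127.comap' J.subschemeι) =
        PicH127.comap' I.subschemeι ≫ biprod.inl + PicH127.comap' J.subschemeι ≫ biprod.inr := biprod.lift_eq
    have hz : Ext.comp (EX (Additive.ofMul c))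
        (Ext.mk₀ (biprod.lift (PicH127.comap' I.subschemeι) (PicH127.comap' J.subschemeι))) (add_zero 1) = 0 := by
      rw [hdec, Ext.mk₀_add, Ext.comp_add, ← Ext.mk₀_comp_mk₀, ← Ext.mk₀_comp_mk₀,
        ← Ext.comp_assoc (a₁₂ := 1) _ _ _ (add_zero 1) (add_zero 0) (by omega),
        ← Ext.comp_assoc (a₁₂ := 1) _ _ _ (add_zero 1) (add_zero 0) (by omega)]
      rw [Sheaf.H.map_apply] at e1 e2
      rw [e1, e2, Ext.zero_comp, Ext.zero_comp, add_zero]
    obtain ⟨v, hv⟩ := Ext.covariant_sequence_exact₁ _ hS (EX (Additive.ofMul c)) hz (zero_add 1)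
    obtain ⟨u, hu⟩ : ∃ u : (Γ(B, ⊤))ˣ, Units.map q.appTop.hom.toMonoidHom u =
        PicH127.ofU k (U := ⊤) (PicH127.e0 _ v) := by
      let e := RingEquiv.ofBijective q.appTop.hom (PicH127.bijective_appTop_of_geom q hfib)
      exact ⟨Units.map e.symm.toRingHom.toMonoidHom (PicH127.ofU k (U := ⊤) (PicH127.e0 _ v)),
        Units.ext (e.apply_symm_apply _)⟩
    let a : (PicH127.PU I.subschemeι).obj.obj (Opposite.op ⊤) :=
      PicH127.toU I.subschemeι (U := ⊤) (Units.map (I.subschemeι ≫ π).appTop.hom.toMonoidHom u)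
    have hv' : v = Ext.comp ((PicH127.e0 (PicH127.PU I.subschemeι)).symm a)
        (Ext.mk₀ (PicH127.rY I J)) (add_zero 0) := by
      refine (PicH127.e0 _).injective ?_
      refine Eq.trans ?_ (PicH127.e0_map (PicH127.rY I J) _).symm
      rw [AddEquiv.apply_symm_apply]
      refine PicH127.ofU_injective k ⊤ (Units.ext ?_)
      rw [← hu, PicH127.ofU_resPU]
      show q.appTop u.val = (PicH127.inY I J).appLE _ _ _ ((I.subschemeι ≫ π).appTop u.val)
      have key : ∀ (W : Scheme.{u}) (k' : W ⟶ X) (g : W ⟶ I.subscheme) (e : g ≫ I.subschemeι = k'),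
          (k' ≫ π).appTop u.val = g.appLE (I.subschemeι ⁻¹ᵁ ⊤) (k' ⁻¹ᵁ ⊤)
            (PicH127.le_preimage_of_fac _ _ _ e ⊤) ((I.subschemeι ≫ π).appTop u.val) := by
        rintro W _ g rfl
        erw [Scheme.Hom.appLE_eq_app]
        rfl
      exact key _ _ _ (PicH127.inY_fac I J)
    have hr : Ext.mk₀ (PicH127.rY I J) =
        (Ext.mk₀ (biprod.inl : PicH127.PU I.subschemeι ⟶ PicH127.PU I.subschemeι ⊞ PicH127.PU J.subschemeι)).comp
          (Ext.mk₀ (biprod.desc (PicH127.rY I J) (-PicH127.rZ I J))) (add_zero 0) := by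
      rw [Ext.mk₀_comp_mk₀]; exact congrArg Ext.mk₀ (biprod.inl_desc _ _).symm
    have hv'' : Ext.comp v hS.extClass (zero_add 1) = 0 := by
      refine (congrArg (fun t => Ext.comp t hS.extClass (zero_add 1))
        (hv'.trans (congrArg (fun t => Ext.comp _ t (add_zero 0)) hr))).trans ?_
      show Ext.comp (Ext.comp _ (Ext.comp _ _ _) _) _ _ = 0
      rw [← Ext.comp_assoc (a₁₂ := 0) _ _ _ (add_zero 0) (add_zero 0) (by omega),
        Ext.comp_assoc (a₂₃ := 1) _ _ _ (add_zero 0) (zero_add 1) (by omega)]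
      exact (congrArg (fun t => Ext.comp _ t (zero_add 1)) hS.comp_extClass).trans (Ext.comp_zero _ _ _ _ _)
    rw [hv''] at hv
    exact Additive.ofMul.injective (EX.injective (hv.symm.trans (map_zero _).symm))
  refine ⟨?_, ?_⟩
  · rintro c ⟨b₁, h₁⟩ ⟨b₂, h₂⟩
    have hb : b₁ = b₂ := by
      have h : PicGrp.pullHom q hπW b₁ = PicGrp.pullHom q hπW b₂ := by
        rw [← hkY, ← h₁, hcw, h₂, hkZ]
      have h' := congrArg (fun z : PicLoc.PicSet _ => PicF.pullCl s z.1) h
      simp only [PicGrp.pullHom_apply_val, ← PicLoc.pullCl_comp] at h'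
      rw [show s ≫ q = 𝟙 B from hs, PicLoc.pullCl_id, PicLoc.pullCl_id] at h'
      exact Subtype.ext h'
    subst hb
    refine ⟨b₁, ?_⟩
    rw [← mul_inv_eq_one]
    refine hinj _ ?_ ?_
    · rw [map_mul, map_inv, h₁, hcY', mul_inv_cancel]
    · rw [map_mul, map_inv, h₂, hcZ', mul_inv_cancel]
  · rintro y z ⟨b, hb⟩
    let z' := z * PicGrp.pullHom (J.subschemeι ≫ π) hπZ b
    have hz' : PicGrp.pullHom (PicH127.inY I J) hWY y = PicGrp.pullHom (PicH127.inZ I J) hWZ z' := by
      rw [map_mul, hkZ]; exact hb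
    let x := Ext.comp (EY (Additive.ofMul y))
        (Ext.mk₀ (biprod.inl : _ ⟶ PicH127.PU I.subschemeι ⊞ PicH127.PU J.subschemeι)) (add_zero 1) +
      Ext.comp (EZ (Additive.ofMul z'))
        (Ext.mk₀ (biprod.inr : _ ⟶ PicH127.PU I.subschemeι ⊞ PicH127.PU J.subschemeι)) (add_zero 1)
    have hx : Ext.comp x (Ext.mk₀ (biprod.desc (PicH127.rY I J) (-PicH127.rZ I J))) (add_zero 1) = 0 := by
      rw [Ext.add_comp, Ext.comp_assoc (a₂₃ := 0) _ _ _ (add_zero 1) (add_zero 0) (by omega),
        Ext.comp_assoc (a₂₃ := 0) _ _ _ (add_zero 1) (add_zero 0) (by omega), Ext.mk₀_comp_mk₀, Ext.mk₀_comp_mk₀,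
        biprod.inl_desc, biprod.inr_desc, Ext.mk₀_neg, Ext.comp_neg, ← Sheaf.H.map_apply, ← Sheaf.H.map_apply,
        ← hrY, ← hrZ, hz', add_neg_cancel]
    obtain ⟨ξ, hξ⟩ := Ext.covariant_sequence_exact₂ _ hS x hx
    change Ext.comp ξ (Ext.mk₀ (biprod.lift (PicH127.comap' I.subschemeι) (PicH127.comap' J.subschemeι))) (add_zero 1) = x at hξ
    refine ⟨(EX.symm ξ).toMul, 1, b, ?_, ?_⟩
    · rw [map_one, mul_one]
      refine Additive.ofMul.injective (EY.injective ?_)
      rw [hcY, ofMul_toMul, AddEquiv.apply_symm_apply]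
      have h := congrArg (fun t => Ext.comp t
        (Ext.mk₀ (biprod.fst : PicH127.PU I.subschemeι ⊞ PicH127.PU J.subschemeι ⟶ _)) (add_zero 1)) hξ
      simp only [x, Ext.add_comp, Ext.comp_assoc (a₂₃ := 0) _ _ _ (add_zero 1) (add_zero 0) (by omega : 1 + 0 + 0 = 1),
        Ext.mk₀_comp_mk₀, biprod.lift_fst, biprod.inl_fst, biprod.inr_fst, Ext.comp_mk₀_id, Ext.mk₀_zero,
        Ext.comp_zero, add_zero] at h
      exact h
    · refine Additive.ofMul.injective (EZ.injective ?_)
      rw [hcZ, ofMul_toMul, AddEquiv.apply_symm_apply]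
      have h := congrArg (fun t => Ext.comp t
        (Ext.mk₀ (biprod.snd : PicH127.PU I.subschemeι ⊞ PicH127.PU J.subschemeι ⟶ _)) (add_zero 1)) hξ
      simp only [x, Ext.add_comp, Ext.comp_assoc (a₂₃ := 0) _ _ _ (add_zero 1) (add_zero 0) (by omega : 1 + 0 + 0 = 1),
        Ext.mk₀_comp_mk₀, biprod.lift_snd, biprod.inl_snd, biprod.inr_snd, Ext.comp_mk₀_id, Ext.mk₀_zero,
        Ext.comp_zero, zero_add] at h
      exact h

end Groth.Agent.S15404
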