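import Groth.Statements.S15405
import Groth.Agent.ASBun8.Cyclic
-- import your own Groth.Agent.* helpers here

set_option autoImplicit false
set_option backward.isDefEq.respectTransparency.types false
universe u
open CategoryTheory CategoryTheory.Limits AlgebraicGeometry
open ASBun

namespace Groth.Agent.S15405

open W4c1astiltbs12 in
/-- Let X be proper over a field k, K an algebraic closure of k such that X_K is connected, and π : X_K
→ X the projection; assume the Picard group laws on X and on X_K and that pullback of invertible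
classes along π is multiplicative. Suppose that Pic(X_K) is infinite cyclic, generated by the class
of an invertible module L; that J is an invertible O_X-module with π^*J ≅ L^{⊗r} for some r ≥ 1; and
that there is an indecomposable finite locally free O_X-module (nonzero, and in any direct-sum
decomposition one summand is zero) whose pullback to X_K is isomorphic to L^{⊕d} for some d. Then:
(a) every indecomposable finite locally free O_X-module E whose pullback to X_K is a finite direct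
sum of invertible modules is isomorphic to M ⊗ J_a, where 0 ≤ j < r, M is an indecomposable finite
locally free O_X-module with π^*M ≅ (L^{⊗j})^{⊕d} for some d, a is an integer and J_a is an
invertible O_X-module whose class in Pic(X) is the a-th power of the class of J; (b) the integers a
and j in such an expression are determined by E. (The published statement takes r to be the least
such integer, the period, and leaves the connectedness of X_K implicit; the argument treats
invertible modules on X_K as indecomposable, whence that hypothesis, and does not use the minimality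
of r.) -/
theorem result (k : Type u) [Field k] {X : Scheme.{u}}
    (p : X ⟶ Spec (CommRingCat.of k)) [IsProper p] (K : Type u) [Field K] [Algebra k K] [IsAlgClosure k K]
    [ConnectedSpace ↥(W4bk4gw11416.baseChange p K)]
    [PicGrp.Law X] [PicGrp.Law (W4bk4gw11416.baseChange p K)] (hπ : PicGrp.PullMul (proj p K))
    (L : (W4bk4gw11416.baseChange p K).Modules) (hL : PicF.IsInvertible L)
    (e : PicLoc.PicSet (W4bk4gw11416.baseChange p K) ≃* Multiplicative ℤ)
    (he : e (PicGrp.cls L hL) = Multiplicative.ofAdd 1)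
    (r : ℕ) (hr : 1 ≤ r) (J : X.Modules) (hJ : PicF.IsInvertible J)
    (hJL : Nonempty (bcMod p K J ≅ CohB1.tensorPow L r))
    (hML : ∃ (M₁ : X.Modules) (d₁ : ℕ), FlatMod.IsFinLocFree M₁ ∧
      (¬ IsZero M₁ ∧ ∀ A B : X.Modules, Nonempty (M₁ ≅ A ⊞ B) → IsZero A ∨ IsZero B) ∧
      Nonempty (bcMod p K M₁ ≅ pow L d₁))
    (E : X.Modules) (hE : FlatMod.IsFinLocFree E)
    (hEi : (¬ IsZero E ∧ ∀ A B : X.Modules, Nonempty (E ≅ A ⊞ B) → IsZero A ∨ IsZero B))
    (n : ℕ) (Ls : Fin n → (W4bk4gw11416.baseChange p K).Modules) (hLs : ∀ i, PicF.IsInvertible (Ls i))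
    (hEs : Nonempty (bcMod p K E ≅ ∐ Ls)) :
    (∃ (a : ℤ) (j : ℕ), j < r ∧ ∃ (M : X.Modules) (d : ℕ) (Ja : X.Modules) (hJa : PicF.IsInvertible Ja),
      FlatMod.IsFinLocFree M ∧ (¬ IsZero M ∧ ∀ A B : X.Modules, Nonempty (M ≅ A ⊞ B) → IsZero A ∨ IsZero B) ∧
      Nonempty (bcMod p K M ≅ pow (CohB1.tensorPow L j) d) ∧
      PicGrp.cls Ja hJa = PicGrp.cls J hJ ^ a ∧ Nonempty (E ≅ CohB1.tensorMod M Ja)) ∧
    (∀ (a a' : ℤ) (j j' : ℕ) (M M' : X.Modules) (d d' : ℕ) (Ja Ja' : X.Modules)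
      (hJa : PicF.IsInvertible Ja) (hJa' : PicF.IsInvertible Ja'),
      j < r → j' < r →
      (¬ IsZero M ∧ ∀ A B : X.Modules, Nonempty (M ≅ A ⊞ B) → IsZero A ∨ IsZero B) → (¬ IsZero M' ∧ ∀ A B : X.Modules, Nonempty (M' ≅ A ⊞ B) → IsZero A ∨ IsZero B) →
      Nonempty (bcMod p K M ≅ pow (CohB1.tensorPow L j) d) → Nonempty (bcMod p K M' ≅ pow (CohB1.tensorPow L j') d') →
      PicGrp.cls Ja hJa = PicGrp.cls J hJ ^ a → PicGrp.cls Ja' hJa' = PicGrp.cls J hJ ^ a' →
      Nonempty (E ≅ CohB1.tensorMod M Ja) → Nonempty (E ≅ CohB1.tensorMod M' Ja') → a = a' ∧ j = j') := by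
  letI : X.Over (Spec (CommRingCat.of k)) := ⟨p⟩
  haveI : IsProper (X ↘ Spec (CommRingCat.of k)) := ‹IsProper p›
  letI : (W4bk4gw11416.baseChange p K).Over (Spec (CommRingCat.of K)) := ⟨W4bk4gw11416.baseChangeTo p K⟩
  haveI : IsProper (W4bk4gw11416.baseChange p K ↘ Spec (CommRingCat.of K)) :=
    inferInstanceAs (IsProper (pullback.snd p (Spec.map (CommRingCat.ofHom (algebraMap k K)))))
  haveI := ASBun8.isLocallyNoetherian_X (X := X) k
  haveI := ASBun8.isLocallyNoetherian_X (X := W4bk4gw11416.baseChange p K) K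
  have h : IsPullback (proj p K) (W4bk4gw11416.baseChange p K ↘ Spec (CommRingCat.of K)) (X ↘ Spec (CommRingCat.of k))
      (Spec.map (CommRingCat.ofHom (algebraMap k K))) := IsPullback.of_hasPullback _ _
  obtain ⟨M₁, d₁, hM₁, hM₁i, ⟨eM₁⟩⟩ := hML
  obtain ⟨eJ⟩ := hJL
  obtain ⟨eEs⟩ := hEs
  let c := PicGrp.cls L hL
  have hgen : ∀ x, x = c ^ (Multiplicative.toAdd (e x)) := fun x => e.injective (by
    rw [map_zpow, he, ← ofAdd_zsmul, smul_eq_mul, mul_one, ofAdd_toAdd])
  have hexp : ∀ a b : ℤ, c ^ a = c ^ b → a = b := fun a b hab => by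
    have := congrArg e hab
    simpa [c, map_zpow, he, ← ofAdd_zsmul] using this
  let P := PicGrp.pullHom (proj p K) hπ
  have hPJ : P (PicGrp.cls J hJ) = c ^ (r : ℤ) := by
    rw [zpow_natCast]
    exact Subtype.ext ((PicGrp.cl_eq_cl_iff _ _).2 ⟨eJ⟩ |>.trans (PicGrp.cls_pow_val hL r).symm)
  have hPJa : ∀ (Ja : X.Modules) (hJa : PicF.IsInvertible Ja) (a : ℤ), PicGrp.cls Ja hJa = PicGrp.cls J hJ ^ a →
      PicGrp.cls (bcMod p K Ja) (PicLoc.isInvertible_pullback (proj p K) hJa) = c ^ (r * a) := by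
    intro Ja hJa a ha
    rw [← PicGrp.pullHom_cls (proj p K) hπ Ja hJa, ha, map_zpow, hPJ, ← zpow_mul]
  have hinv : ∀ (σ : K ≃ₐ[k] K) (i : Fin n),
      Nonempty ((Scheme.Modules.pullback (galAct p K σ)).obj (Ls i) ≅ Ls i) := fun σ i =>
    ASBun8.nonempty_galAct_of_cyclic p hL σ (ASBun8.nonempty_galAct_of_isotypical p hM₁ hM₁i.1 hL eM₁ σ) (hLs i) _ (hgen _)
  obtain ⟨i, d, hd, ⟨eE⟩⟩ := ASBun8.split_isotypical p hE hEi Ls (fun i => ASBun8.ind_of_invertible (hLs i)) hinv eEs
  have key : ∀ (M Ja : X.Modules) (hJa : PicF.IsInvertible Ja) (a : ℤ) (j d' : ℕ),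
      PicGrp.cls Ja hJa = PicGrp.cls J hJ ^ a → (bcMod p K M ≅ pow (CohB1.tensorPow L j) d') →
      (E ≅ CohB1.tensorMod M Ja) → PicGrp.cls (Ls i) (hLs i) = c ^ ((j : ℤ) + r * a) := by
    intro M Ja hJa a j d' ha eM eEM
    have hT := AmpleLib.isInvertible_tensorPow hL j
    obtain ⟨q⟩ := ASBun8.nonempty_pullback_twist (proj p K) (N := Ja) eM (Iso.refl _)
    have hTJ := AmpleLib.isInvertible_tensorMod hT (PicLoc.isInvertible_pullback (proj p K) hJa)
    obtain ⟨τ, hτ⟩ := ASBun8.exists_equiv_of_iso K (fun _ : Fin d => Ls i)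
      (fun _ : Fin d' => CohB1.tensorMod (CohB1.tensorPow L j) (bcMod p K Ja)) (fun _ => ASBun8.ind_of_invertible (hLs i))
      (fun _ => ASBun8.ind_of_invertible hTJ)
      (ASBun8.isCoh_sigma' K _ fun _ => Coherent.CohBC.isCoh_of_isFinLocFree (RelVAFib14.isFinLocFree_of_isInvertible (hLs i)))
      (eE.symm ≪≫ (Scheme.Modules.pullback (proj p K)).mapIso eEM ≪≫ q)
    rw [(PicGrp.cls_eq_cls_iff (hLs i) hTJ).2 (hτ ⟨0, hd⟩), zpow_add, ← hPJa Ja hJa a ha, zpow_natCast]
    refine Subtype.ext ?_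
    rw [PicGrp.mul_val, PicGrp.cls_pow_val, PicGrp.cls_val, PicGrp.cls_val, PicGrp.mulCl_cl]
  refine ⟨?_, ?_⟩
  · let m := Multiplicative.toAdd (e (PicGrp.cls (Ls i) (hLs i)))
    obtain ⟨Ja, hJa, ha⟩ := PicGrp.exists_eq_cls (PicGrp.cls J hJ ^ (m / r))
    obtain ⟨Jb, hJb, hb⟩ := PicGrp.exists_eq_cls (PicGrp.cls J hJ ^ (-(m / r)))
    obtain ⟨eab⟩ := (PicGrp.cls_mul_cls_eq_one_iff hJa hJb).1 (by rw [← ha, ← hb, ← zpow_add, add_neg_cancel, zpow_zero])
    have eba : CohB1.tensorMod Jb Ja ≅ Coh.structureModule X := AmpleLib.tensorComm _ _ ≪≫ eab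
    have hr0 : (r : ℤ) ≠ 0 := by omega
    have hj : ((m % r).toNat : ℤ) = m % r := Int.toNat_of_nonneg (Int.emod_nonneg _ hr0)
    have hjr : (m % r).toNat < r := by
      have := Int.emod_lt_of_pos m (show (0 : ℤ) < r by omega)
      omega
    have hLi : PicF.IsInvertible (CohB1.tensorMod (Ls i) (bcMod p K Jb)) :=
      AmpleLib.isInvertible_tensorMod (hLs i) (PicLoc.isInvertible_pullback (proj p K) hJb)
    obtain ⟨q'⟩ := (PicGrp.cls_eq_cls_iff hLi (AmpleLib.isInvertible_tensorPow hL (m % r).toNat)).1 (by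
      have h1 : PicGrp.cls (CohB1.tensorMod (Ls i) (bcMod p K Jb)) hLi =
          PicGrp.cls (Ls i) (hLs i) * PicGrp.cls (bcMod p K Jb) (PicLoc.isInvertible_pullback (proj p K) hJb) :=
        Subtype.ext (PicGrp.cls_mul_cls_val _ _).symm
      have h2 : PicGrp.cls (CohB1.tensorPow L (m % r).toNat) (AmpleLib.isInvertible_tensorPow hL _) = c ^ (m % r).toNat :=
        Subtype.ext (PicGrp.cls_pow_val hL _).symm
      rw [h1, h2, hPJa Jb hJb _ hb.symm, hgen (PicGrp.cls (Ls i) (hLs i)), ← zpow_add, ← zpow_natCast, hj]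
      congr 1
      rw [Int.emod_def]
      ring)
    obtain ⟨eM⟩ := ASBun8.nonempty_pullback_twist (proj p K) (N := Jb) eE q'
    obtain ⟨eEM⟩ := ASBun8.nonempty_tensor_cancel E eba
    exact ⟨m / r, (m % r).toNat, hjr, CohB1.tensorMod E Jb, d, Ja, hJa,
      WeilFin.isFinLocFree_tensorMod hE (RelVAFib14.isFinLocFree_of_isInvertible hJb),
      ASBun8.ind_tensor hEi (N' := Ja) eba, ⟨eM⟩, ha.symm, ⟨eEM.symm⟩⟩
  · intro a a' j j' M M' d' d'' Ja Ja' hJa hJa' hj hj' _ _ ⟨eM⟩ ⟨eM'⟩ ha ha' ⟨eEM⟩ ⟨eEM'⟩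
    have h2 := hexp _ _ ((key M Ja hJa a j d' ha eM eEM).symm.trans (key M' Ja' hJa' a' j' d'' ha' eM' eEM'))
    have hj0 : (j : ℤ) = j' := by
      have h3 := congrArg (· % (r : ℤ)) h2
      rwa [Int.add_mul_emod_self_left, Int.add_mul_emod_self_left,
        Int.emod_eq_of_lt (Int.natCast_nonneg j) (show (j : ℤ) < r by exact_mod_cast hj),
        Int.emod_eq_of_lt (Int.natCast_nonneg j') (show (j' : ℤ) < r by exact_mod_cast hj')] at h3
    refine ⟨mul_left_cancel₀ (show (r : ℤ) ≠ 0 by omega) (by omega), by exact_mod_cast hj0⟩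

end Groth.Agent.S15405
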