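import Groth.Statements.S15406
import Groth.Agent.Inters29.CompGroup
import Groth.Agent.S19553

set_option autoImplicit false
universe u
open CategoryTheory CategoryTheory.Limits AlgebraicGeometry
open Models

namespace Groth.Agent.S15406

/-- Let R be a complete discrete valuation ring with algebraically closed residue field k and fraction
field K, C a smooth proper curve over K with H⁰(C, O_C) = K and dim_K H¹(C, O_C) ≥ 2, and X → Spec R
a regular proper model of C, with g : C → X exhibiting C as the generic fibre. Let Γ₁, …, Γ_n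
enumerate the irreducible components of the closed fibre, with multiplicities of greatest common
divisor 1, and for each i let L_i be an invertible O_X-module inverse to the ideal sheaf of Γ_i (so
that (L_i · Γ_j) is the intersection number Γ_i · Γ_j). Assume the Picard group laws on X and on C
and that pullback of invertible classes along g is multiplicative. Let G be the quotient of ℤⁿ by
the subgroup spanned by the vectors ((L_i · Γ_j))_j, i = 1, …, n. Then: (a) an invertible O_X-module
of degree 0 on every Γ_j whose pullback to C is trivial is itself trivial; (b) there is a surjective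
homomorphism ψ from Pic(C) (written additively) onto G which sends the class of g^*L, for every
invertible O_X-module L, to the class of the vector ((L · Γ_j))_j, and whose kernel consists exactly
of the classes g^*L with L invertible on X of degree 0 on every Γ_j. In other words 0 → Pic⁰(X) →
Pic(C) → G → 0 is exact, Pic⁰(X) denoting the classes of degree 0 on all components of the closed
fibre. -/
theorem result
    (R : Type u) [CommRing R] [IsDomain R] [IsDiscreteValuationRing R]
    [IsAdicComplete (IsLocalRing.maximalIdeal R) R] (hk : IsAlgClosed (IsLocalRing.ResidueField R))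
    (C : Scheme.{u}) (fC : C ⟶ Spec (CommRingCat.of (FractionRing R))) [IsProper fC] [Smooth fC]
    (hC0 : Models.hRank (FractionRing R) C fC (Coh.structureModule C) 0 = 1)
    (hg2 : 2 ≤ Models.curveGenus (FractionRing R) C fC)
    (X : Scheme.{u}) (p : X ⟶ Spec (CommRingCat.of R)) (hX : Models.IsRegularProperModel R X p C fC)
    (g : C ⟶ X) (hg : IsPullback g fC p (Spec.map (CommRingCat.ofHom (algebraMap R (FractionRing R)))))
    {n : ℕ} (Γ : Fin n → ArSurf.VertComp R (Over.mk p)) (hΓ : Models.IsComponentList R (Over.mk p) Γ)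
    (hgcd : Models.multGcd R (Over.mk p) Γ = 1)
    (LD : Fin n → X.Modules) (hLD : ∀ i, ClSub.IsInverseOf (LD i) (ClSub.idealMod (Γ i).ι.ker))
    [PicGrp.Law X] [PicGrp.Law C] (hgm : PicGrp.PullMul g) :
    (∀ (L : X.Modules) (hL : PicF.IsInvertible L), (∀ j, ArSurf.inter R (Over.mk p) L (Γ j) = 0) →
        PicGrp.pullHom g hgm (PicGrp.cls L hL) = 1 → PicGrp.cls L hL = 1) ∧
      ∃ ψ : Additive (PicLoc.PicSet C) →+
          ((Fin n → ℤ) ⧸ LinearMap.range (Matrix.mulVecLin
            (Matrix.of fun j i => ArSurf.inter R (Over.mk p) (LD i) (Γ j)))),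
        (∀ (L : X.Modules) (hL : PicF.IsInvertible L),
            ψ (Additive.ofMul (PicGrp.pullHom g hgm (PicGrp.cls L hL))) =
              Submodule.Quotient.mk (fun j => ArSurf.inter R (Over.mk p) L (Γ j))) ∧
          Function.Surjective ψ ∧
          (∀ c : PicLoc.PicSet C, ψ (Additive.ofMul c) = 0 →
            ∃ (L : X.Modules) (hL : PicF.IsInvertible L),
              (∀ j, ArSurf.inter R (Over.mk p) L (Γ j) = 0) ∧ PicGrp.pullHom g hgm (PicGrp.cls L hL) = c) := by
  classical
  haveI := hX.2.1
  have hH0 := Groth.Agent.Inters29.isIso_appTop_of_hRank (FractionRing R) fC hC0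
  have hC := Groth.Agent.Inters29.isSmoothProperCurve_of_model R hC0 (le_trans (by norm_num) hg2) hX Γ hΓ
  haveI : LocallyOfFiniteType p := hX.1.2.1
  haveI : IsLocallyNoetherian X := LocallyOfFiniteType.isLocallyNoetherian p
  haveI := Groth.Agent.Inters29.isOpenImmersion_generic R
  haveI : IsOpenImmersion g := MorphismProperty.of_isPullback (P := @IsOpenImmersion) hg.flip inferInstance
  let A := Matrix.mulVecLin (Matrix.of fun j i => ArSurf.inter R (Over.mk p) (LD i) (Γ j))
  let φ : PicLoc.PicSet C → Groth.Agent.PicLib.PicM C := fun c => ⟨c.1, c.2⟩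
  let D := Groth.Agent.Inters29.degVec (p := p) Γ
  let Q : Groth.Agent.PicLib.PicM X → ((Fin n → ℤ) ⧸ LinearMap.range A) := fun μ => Submodule.Quotient.mk (D μ)
  have hφL : ∀ (L : X.Modules) (hL : PicF.IsInvertible L),
      φ (PicGrp.pullHom g hgm (PicGrp.cls L hL)) =
        Groth.Agent.PicLib.PicM.pull g (Groth.Agent.PicLib.PicM.of hL) := fun L hL => rfl
  have hQ : ∀ μ ν : Groth.Agent.PicLib.PicM X,
      Groth.Agent.PicLib.PicM.pull g μ = Groth.Agent.PicLib.PicM.pull g ν → Q μ = Q ν := fun μ ν h =>
    (Submodule.Quotient.eq _).2 (Groth.Agent.Inters29.degVec_sub_mem hC hH0 hX hΓ hLD g hg h)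
  choose lift hlift using fun c => Groth.Agent.Inters29.exists_pull_eq g hX.2.2 (φ c)
  have hψL : ∀ (μ : Groth.Agent.PicLib.PicM X) (c : PicLoc.PicSet C),
      Groth.Agent.PicLib.PicM.pull g μ = φ c → Q (lift c) = Q μ := fun μ c h => hQ _ _ ((hlift c).trans h.symm)
  let ψ : Additive (PicLoc.PicSet C) →+ ((Fin n → ℤ) ⧸ LinearMap.range A) :=
    AddMonoidHom.mk' (fun c => Q (lift c.toMul)) fun a b => by
      have h1 : φ (a.toMul * b.toMul) = φ a.toMul * φ b.toMul :=
        Groth.Agent.PicLib.PicM.ext (PicGrp.mul_val a.toMul b.toMul)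
      show Q (lift (a.toMul * b.toMul)) = Q (lift a.toMul) + Q (lift b.toMul)
      rw [hψL (lift a.toMul * lift b.toMul) _ (by rw [map_mul, hlift, hlift, h1])]
      show Submodule.Quotient.mk (D _) = Submodule.Quotient.mk (D _) + Submodule.Quotient.mk (D _)
      rw [← Submodule.Quotient.mk_add]
      exact congrArg _ (Groth.Agent.Inters29.degVec_mul (p := p) Γ _ _)
  have hψ : ∀ (L : X.Modules) (hL : PicF.IsInvertible L),
      ψ (Additive.ofMul (PicGrp.pullHom g hgm (PicGrp.cls L hL))) =
        Submodule.Quotient.mk (fun j => ArSurf.inter R (Over.mk p) L (Γ j)) := fun L hL => by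
    show Q (lift _) = _
    refine (hψL (Groth.Agent.PicLib.PicM.of hL) _ (hφL L hL).symm).trans ?_
    exact congrArg Submodule.Quotient.mk (Groth.Agent.Inters29.degVec_of (p := p) Γ hL)
  refine ⟨fun L hL hdeg htriv => ?_, ψ, hψ, ?_, ?_⟩
  · have h1 : Groth.Agent.PicLib.PicM.pull g (Groth.Agent.PicLib.PicM.of hL) = 1 := by
      rw [← hφL L hL, htriv]
      exact Groth.Agent.PicLib.PicM.ext PicGrp.one_val
    obtain ⟨v, hv⟩ := Groth.Agent.Inters29.exists_eq_zcl_of_pull_eq_one hC hH0 hX hΓ hLD g hg _ h1
    have h2 : A v = 0 := by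
      rw [← Groth.Agent.Inters29.degVec_zcl hC hX hΓ hLD v, ← hv, Groth.Agent.Inters29.degVec_of (p := p) Γ hL]
      exact funext hdeg
    rw [Groth.Agent.Inters29.zcl_eq_one_of_degVec hC hH0 hX hΓ hLD g hg hgcd v h2, Units.val_one] at hv
    exact (PicGrp.cls_eq_one_iff hL).2 ((Groth.Agent.PicLib.PicM.of_eq_one_iff hL).1 hv)
  · intro q
    obtain ⟨v, rfl⟩ := Submodule.Quotient.mk_surjective _ q
    choose M hMi hMdeg using fun i => Groth.Agent.S19553.result R hk C fC hC0
      (Models.curveGenus (FractionRing R) C fC) hg2 rfl X p hX Γ hΓ i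
    refine ⟨∑ i, v i • Additive.ofMul (PicGrp.pullHom g hgm (PicGrp.cls (M i) (hMi i))), ?_⟩
    rw [map_sum]
    simp only [map_zsmul, hψ]
    simp only [← Submodule.Quotient.mk_smul]
    rw [show ∀ w : Fin n → (Fin n → ℤ), (∑ i, Submodule.Quotient.mk (p := LinearMap.range A) (w i)) =
      Submodule.Quotient.mk (∑ i, w i) from fun w => (map_sum (LinearMap.range A).mkQ w _).symm]
    refine congrArg _ (funext fun j => ?_)
    simp only [Finset.sum_apply, Pi.smul_apply, hMdeg, smul_eq_mul, mul_ite, mul_one, mul_zero,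
      Finset.sum_ite_eq, Finset.mem_univ, if_true]
  · intro c hc
    have hc' : Q (lift c) = 0 := hc
    obtain ⟨v, hv⟩ := (Submodule.Quotient.mk_eq_zero _).1 hc'
    let μ : Groth.Agent.PicLib.PicM X :=
      lift c * (Groth.Agent.Inters29.zcl hC hX hΓ hLD (-v) : Groth.Agent.PicLib.PicM X)
    obtain ⟨L, hL, hLμ⟩ := Groth.Agent.PicLib.PicM.exists_eq_of μ
    refine ⟨L, hL, fun j => ?_, ?_⟩
    · have h : D μ = 0 := by
        show Groth.Agent.Inters29.degVec (p := p) Γ _ = 0
        rw [Groth.Agent.Inters29.degVec_mul, Groth.Agent.Inters29.degVec_zcl hC hX hΓ hLD, map_neg, hv, add_neg_cancel]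
      rw [hLμ] at h
      exact (congrFun (Groth.Agent.Inters29.degVec_of (p := p) Γ hL) j).symm.trans (congrFun h j)
    · have h : φ (PicGrp.pullHom g hgm (PicGrp.cls L hL)) = φ c := by
        rw [hφL, ← hLμ, map_mul, hlift, Groth.Agent.Inters29.pull_zcl hC hX hΓ hLD g hg, mul_one]
      exact Subtype.ext (congrArg Groth.Agent.PicLib.PicM.val h)

end Groth.Agent.S15406
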