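import Groth.Statements.S15409
import Groth.Agent.ASBun8.Cyclic
-- import your own Groth.Agent.* helpers here

set_option autoImplicit false
set_option backward.isDefEq.respectTransparency.types false
universe u
open CategoryTheory CategoryTheory.Limits AlgebraicGeometry
open ASBun

namespace Groth.Agent.S15409

open W4c1astiltbs12 in
/-- Let X be proper over a field k with k ≅ H⁰(X, O_X), K an algebraic closure of k with X_K connected
and projection π : X_K → X; assume the Picard group laws on X and X_K with pullback along π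
multiplicative, that Pic(X_K) is infinite cyclic generated by the class of an invertible module L,
and that J is an invertible O_X-module whose pullback to X_K has class the r-th power of the class
of L, r ≥ 1. Let j and a be integers and N, N' invertible O_{X_K}-modules with classes (cls L)^j and
(cls L)^{j'} where either j' = −j or j' = j + a·r. If W, W' are indecomposable finite locally free
O_X-modules (nonzero, and in any direct-sum decomposition one summand is zero) with π^*W ≅ N^{⊕d}
and π^*W' ≅ N'^{⊕d'}, then d = d': the rank of the indecomposable absolutely isotypical sheaf of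
type L^{⊗j} depends only on ±j modulo r. (The published statement phrases this for the sheaves
W_{L^{⊗j}}, whose existence for every j it assumes through an indecomposable absolutely isotypical
sheaf of type L; here the two sheaves are given, and r need not be minimal.) -/
theorem result (k : Type u) [Field k] {X : Scheme.{u}}
    (p : X ⟶ Spec (CommRingCat.of k)) [IsProper p] (hO : IsIso p.appTop) (K : Type u) [Field K] [Algebra k K] [IsAlgClosure k K]
    [ConnectedSpace ↥(W4bk4gw11416.baseChange p K)]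
    [PicGrp.Law X] [PicGrp.Law (W4bk4gw11416.baseChange p K)] (hπ : PicGrp.PullMul (proj p K))
    (L : (W4bk4gw11416.baseChange p K).Modules) (hL : PicF.IsInvertible L)
    (e : PicLoc.PicSet (W4bk4gw11416.baseChange p K) ≃* Multiplicative ℤ)
    (he : e (PicGrp.cls L hL) = Multiplicative.ofAdd 1)
    (r : ℕ) (hr : 1 ≤ r) (J : X.Modules) (hJ : PicF.IsInvertible J)
    (hJL : PicGrp.cls (bcMod p K J) (PicLoc.isInvertible_pullback (proj p K) hJ) = PicGrp.cls L hL ^ r)
    (j a j' : ℤ) (hj' : j' = -j ∨ j' = j + a * r)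
    (N N' : (W4bk4gw11416.baseChange p K).Modules) (hN : PicF.IsInvertible N) (hN' : PicF.IsInvertible N')
    (hNj : PicGrp.cls N hN = PicGrp.cls L hL ^ j) (hN'j : PicGrp.cls N' hN' = PicGrp.cls L hL ^ j')
    (W W' : X.Modules) (hW : FlatMod.IsFinLocFree W) (hW' : FlatMod.IsFinLocFree W')
    (hWi : (¬ IsZero W ∧ ∀ A B : X.Modules, Nonempty (W ≅ A ⊞ B) → IsZero A ∨ IsZero B)) (hW'i : (¬ IsZero W' ∧ ∀ A B : X.Modules, Nonempty (W' ≅ A ⊞ B) → IsZero A ∨ IsZero B))
    (d d' : ℕ) (eW : Nonempty (bcMod p K W ≅ pow N d)) (eW' : Nonempty (bcMod p K W' ≅ pow N' d')) :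
    d = d' := by
  letI : X.Over (Spec (CommRingCat.of k)) := ⟨p⟩
  haveI : IsProper (X ↘ Spec (CommRingCat.of k)) := ‹IsProper p›
  letI : (W4bk4gw11416.baseChange p K).Over (Spec (CommRingCat.of K)) := ⟨W4bk4gw11416.baseChangeTo p K⟩
  haveI : IsProper (W4bk4gw11416.baseChange p K ↘ Spec (CommRingCat.of K)) :=
    inferInstanceAs (IsProper (pullback.snd p (Spec.map (CommRingCat.ofHom (algebraMap k K)))))
  haveI := ASBun8.isLocallyNoetherian_X (X := X) k
  haveI := ASBun8.isLocallyNoetherian_X (X := W4bk4gw11416.baseChange p K) K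
  have h : IsPullback (proj p K) (W4bk4gw11416.baseChange p K ↘ Spec (CommRingCat.of K)) (X ↘ Spec (CommRingCat.of k))
      (Spec.map (CommRingCat.ofHom (algebraMap k K))) := IsPullback.of_hasPullback _ _
  obtain ⟨eW⟩ := eW
  obtain ⟨eW'⟩ := eW'
  rcases hj' with hj' | hj'
  · have h0 : PicLib.PicM.of hN' * PicLib.PicM.of hN = 1 := by
      rw [← ASBun8.toM_cls, ← ASBun8.toM_cls, ← map_mul, hNj, hN'j, ← zpow_add, hj', neg_add_cancel, zpow_zero, map_one]
    exact le_antisymm
      (ASBun8.isotypical_dual_le h hW' hW'i.1 hW hWi hN' hN ((mul_comm _ _).trans h0) eW' eW)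
      (ASBun8.isotypical_dual_le h hW hWi.1 hW' hW'i hN hN' h0 eW eW')
  · obtain ⟨Jb, hJb, hb⟩ := PicGrp.exists_eq_cls (PicGrp.cls J hJ ^ (-a))
    obtain ⟨Ja, hJa, ha⟩ := PicGrp.exists_eq_cls (PicGrp.cls J hJ ^ a)
    obtain ⟨eba⟩ := (PicGrp.cls_mul_cls_eq_one_iff hJb hJa).1 (by rw [← ha, ← hb, ← zpow_add, neg_add_cancel, zpow_zero])
    have hLi : PicF.IsInvertible (CohB1.tensorMod N' (bcMod p K Jb)) :=
      AmpleLib.isInvertible_tensorMod hN' (PicLoc.isInvertible_pullback (proj p K) hJb)
    obtain ⟨q⟩ := (PicGrp.cls_eq_cls_iff hLi hN).1 (by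
      have h1 : PicGrp.cls (CohB1.tensorMod N' (bcMod p K Jb)) hLi =
          PicGrp.cls N' hN' * PicGrp.cls (bcMod p K Jb) (PicLoc.isInvertible_pullback (proj p K) hJb) :=
        Subtype.ext (PicGrp.cls_mul_cls_val _ _).symm
      rw [h1, hN'j, hNj, ← PicGrp.pullHom_cls (proj p K) hπ Jb hJb, ← hb, map_zpow,
        PicGrp.pullHom_cls (proj p K) hπ J hJ, hJL, ← zpow_natCast, ← zpow_mul, ← zpow_add, hj']
      congr 1
      ring)
    obtain ⟨eM⟩ := ASBun8.nonempty_pullback_twist (proj p K) (N := Jb) eW' q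
    have hc := Coherent.CohBC.isCoh_of_isFinLocFree
      (WeilFin.isFinLocFree_tensorMod hW' (RelVAFib14.isFinLocFree_of_isInvertible hJb))
    obtain ⟨i⟩ := ASBun8.nonempty_iso_of_isotypical h (Coherent.CohBC.isCoh_of_isFinLocFree hW) hc hWi
      (ASBun8.ind_tensor hW'i (N' := Ja) eba) eW eM
    obtain ⟨τ, -⟩ := ASBun8.exists_equiv_of_iso K (fun _ : Fin d => N) (fun _ : Fin d' => N)
      (fun _ => ASBun8.ind_of_invertible hN) (fun _ => ASBun8.ind_of_invertible hN)
      (ASBun8.isCoh_sigma' K _ fun _ => Coherent.CohBC.isCoh_of_isFinLocFree (RelVAFib14.isFinLocFree_of_isInvertible hN))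
      (eW.symm ≪≫ (Scheme.Modules.pullback (proj p K)).mapIso i ≪≫ eM)
    simpa using Fintype.card_congr τ

end Groth.Agent.S15409
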