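import Groth.Statements.S15410
import Groth.Agent.Models7.PicModelMod
-- import your own Groth.Agent.* helpers here

set_option autoImplicit false
universe u
open CategoryTheory CategoryTheory.Limits AlgebraicGeometry
open Models

namespace Groth.Agent.S15410

open Groth.Agent.PicLib Groth.Agent.Models7

set_option maxHeartbeats 1000000
set_option linter.style.haveILetI false

/-- Let R be a complete discrete valuation ring with algebraically closed residue field k and fraction
field K, C a smooth proper curve over K with H⁰(C, O_C) = K and dim_K H¹(C, O_C) ≥ 2, X → Spec R a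
regular proper model of C with generic fibre g : C → X and closed fibre i : X_k = X ×_R Spec k → X,
Γ₁, …, Γ_n the irreducible components of the closed fibre with multiplicities of greatest common
divisor 1, L_i an invertible O_X-module inverse to the ideal sheaf of Γ_i, and q ≥ 1 an integer
which is nonzero in k. Assume the Picard group laws on X, C and X_k with pullback along g and along
i multiplicative, and let G be ℤⁿ modulo the subgroup spanned by the vectors ((L_i · Γ_j))_j. Then:
(a) every homomorphism ψ from Pic(C) (written additively) to G with ψ(g^*L) equal to the class of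
((L · Γ_j))_j for all invertible L on X maps the classes c with c^q = 1 onto the elements γ of G
with qγ = 0, and a class c with c^q = 1 and ψ(c) = 0 is g^*c' for some class c' on X with c'^q = 1;
(b) restriction along i is a bijection from the classes c' on X with c'^q = 1 onto the classes d on
X_k with d^q = 1. That is, 0 → Pic⁰(X_k)[q] → Pic(C)[q] → G[q] → 0 is exact, the q-torsion of Pic(X)
being identified with that of Pic⁰(X_k) by (b) and with that of Pic⁰(X) (q-torsion classes have
degree 0 on every component). -/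
theorem result
    (R : Type u) [CommRing R] [IsDomain R] [IsDiscreteValuationRing R]
    [IsAdicComplete (IsLocalRing.maximalIdeal R) R] (hk : IsAlgClosed (IsLocalRing.ResidueField R))
    (C : Scheme.{u}) (fC : C ⟶ Spec (CommRingCat.of (FractionRing R))) [IsProper fC] [Smooth fC]
    (hC0 : Models.hRank (FractionRing R) C fC (Coh.structureModule C) 0 = 1)
    (hg2 : 2 ≤ Models.curveGenus (FractionRing R) C fC)
    (X : Scheme.{u}) (p : X ⟶ Spec (CommRingCat.of R)) (hX : Models.IsRegularProperModel R X p C fC)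
    (g : C ⟶ X) (hg : IsPullback g fC p (Spec.map (CommRingCat.ofHom (algebraMap R (FractionRing R)))))
    {n : ℕ} (Γ : Fin n → ArSurf.VertComp R (Over.mk p)) (hΓ : Models.IsComponentList R (Over.mk p) Γ)
    (hgcd : Models.multGcd R (Over.mk p) Γ = 1)
    (LD : Fin n → X.Modules) (hLD : ∀ i, ClSub.IsInverseOf (LD i) (ClSub.idealMod (Γ i).ι.ker))
    (q : ℕ) (hq : 1 ≤ q) (hqk : (q : IsLocalRing.ResidueField R) ≠ 0)
    [PicGrp.Law X] [PicGrp.Law C]
    [PicGrp.Law (pullback p (Spec.map (CommRingCat.ofHom (algebraMap R (IsLocalRing.ResidueField R)))))]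
    (hgm : PicGrp.PullMul g)
    (hi : PicGrp.PullMul (pullback.fst p (Spec.map (CommRingCat.ofHom (algebraMap R (IsLocalRing.ResidueField R)))))) :
    (∀ ψ : Additive (PicLoc.PicSet C) →+
          ((Fin n → ℤ) ⧸ LinearMap.range (Matrix.mulVecLin
            (Matrix.of fun j i => ArSurf.inter R (Over.mk p) (LD i) (Γ j)))),
        (∀ (L : X.Modules) (hL : PicF.IsInvertible L),
            ψ (Additive.ofMul (PicGrp.pullHom g hgm (PicGrp.cls L hL))) =
              Submodule.Quotient.mk (fun j => ArSurf.inter R (Over.mk p) L (Γ j))) →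
          (∀ γ : (Fin n → ℤ) ⧸ LinearMap.range (Matrix.mulVecLin
              (Matrix.of fun j i => ArSurf.inter R (Over.mk p) (LD i) (Γ j))),
            q • γ = 0 → ∃ c : PicLoc.PicSet C, c ^ q = 1 ∧ ψ (Additive.ofMul c) = γ) ∧
          (∀ c : PicLoc.PicSet C, c ^ q = 1 → ψ (Additive.ofMul c) = 0 →
            ∃ c' : PicLoc.PicSet X, c' ^ q = 1 ∧ PicGrp.pullHom g hgm c' = c)) ∧
      (∀ d : PicLoc.PicSet (pullback p (Spec.map (CommRingCat.ofHom (algebraMap R (IsLocalRing.ResidueField R))))),
        d ^ q = 1 → ∃! c' : PicLoc.PicSet X, c' ^ q = 1 ∧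
          PicGrp.pullHom (pullback.fst p (Spec.map (CommRingCat.ofHom (algebraMap R (IsLocalRing.ResidueField R))))) hi c' = d) := by
  classical
  haveI := hX.2.1
  have hH0 := Groth.Agent.Inters29.isIso_appTop_of_hRank (FractionRing R) fC hC0
  have hC := Groth.Agent.Inters29.isSmoothProperCurve_of_model R hC0 (le_trans (by norm_num) hg2) hX Γ hΓ
  haveI : LocallyOfFiniteType p := hX.1.2.1
  haveI : IsLocallyNoetherian X := LocallyOfFiniteType.isLocallyNoetherian p
  haveI := Groth.Agent.Inters29.isOpenImmersion_generic R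
  haveI : IsOpenImmersion g := MorphismProperty.of_isPullback (P := @IsOpenImmersion) hg.flip inferInstance
  obtain ⟨hsurj, huniq⟩ := Groth.Agent.S15407.result R hk C fC hC0 hg2 hC.2.2.2 X p hX q hq hqk hi
  let A := Matrix.mulVecLin (Matrix.of fun j i => ArSurf.inter R (Over.mk p) (LD i) (Γ j))
  let eX := toPicM X
  let eC := toPicM C
  have hpullC : ∀ c, eC (PicGrp.pullHom g hgm c) = PicM.pull g (eX c) := fun c => by
    obtain ⟨L, hL, rfl⟩ := PicGrp.exists_eq_cls c
    exact PicM.ext rfl
  let z : (Fin n → ℤ) → PicLoc.PicSet X := fun w =>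
    eX.symm (Groth.Agent.Inters29.zcl hC hX hΓ hLD w : PicM X)
  let δ : PicLoc.PicSet X → Fin n → ℤ := fun c => Groth.Agent.Inters29.degVec (p := p) Γ (eX c)
  have hδmul : ∀ a b, δ (a * b) = δ a + δ b := fun a b => by
    simp only [δ, map_mul, Groth.Agent.Inters29.degVec_mul]
  have hδone : δ 1 = 0 := by simp only [δ, map_one, Groth.Agent.Inters29.degVec_one]
  have hδinv : ∀ a, δ a⁻¹ = -δ a := fun a => by
    have h := hδmul a⁻¹ a
    rw [inv_mul_cancel, hδone] at h
    exact eq_neg_of_add_eq_zero_left h.symm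
  have hδpow : ∀ a (m : ℕ), δ (a ^ m) = m • δ a := fun a m => by
    induction m with
    | zero => rw [pow_zero, hδone, zero_smul]
    | succ m ih => rw [pow_succ, hδmul, ih, succ_nsmul]
  have hδz : ∀ w, δ (z w) = A w := fun w => by
    simp only [δ, z, MulEquiv.apply_symm_apply]
    exact Groth.Agent.Inters29.degVec_zcl hC hX hΓ hLD w
  have hgz : ∀ w, PicGrp.pullHom g hgm (z w) = 1 := fun w => eC.injective (by
    rw [hpullC, map_one]
    simp only [z, MulEquiv.apply_symm_apply]
    exact Groth.Agent.Inters29.pull_zcl hC hX hΓ hLD g hg w)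
  refine ⟨fun ψ hψ => ?_, fun d hd => ?_⟩
  · have hψ' : ∀ c : PicLoc.PicSet X,
        ψ (Additive.ofMul (PicGrp.pullHom g hgm c)) = Submodule.Quotient.mk (δ c) := fun c => by
      obtain ⟨L, hL, rfl⟩ := PicGrp.exists_eq_cls c
      exact (hψ L hL).trans (congrArg Submodule.Quotient.mk (Groth.Agent.Inters29.degVec_of (p := p) Γ hL).symm)
    refine ⟨fun γ hγ => ?_, fun c hc hψc => ?_⟩
    · obtain ⟨v, rfl⟩ := Submodule.Quotient.mk_surjective _ γ
      rw [← Submodule.Quotient.mk_smul, Submodule.Quotient.mk_eq_zero] at hγ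
      obtain ⟨w, hw⟩ := hγ
      choose M hMi hMdeg using fun i => Groth.Agent.S19553.result R hk C fC hC0
        (Models.curveGenus (FractionRing R) C fC) hg2 rfl X p hX Γ hΓ i
      let δA : Additive (PicLoc.PicSet X) →+ (Fin n → ℤ) :=
        AddMonoidHom.mk' (fun c => δ c.toMul) fun a b => hδmul _ _
      let μ : PicLoc.PicSet X := (∑ i, v i • Additive.ofMul (PicGrp.cls (M i) (hMi i))).toMul
      have hμ : δ μ = v := by
        show δA (∑ i, v i • Additive.ofMul (PicGrp.cls (M i) (hMi i))) = v
        rw [map_sum]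
        simp only [map_zsmul]
        funext j
        simp only [Finset.sum_apply, Pi.smul_apply]
        refine (Finset.sum_congr rfl fun i _ => ?_).trans (Finset.sum_ite_eq Finset.univ j v |>.trans (if_pos (Finset.mem_univ j)))
        have h1 : δA (Additive.ofMul (PicGrp.cls (M i) (hMi i))) j = ArSurf.inter R (Over.mk p) (M i) (Γ j) :=
          congrFun (Groth.Agent.Inters29.degVec_of (p := p) Γ (hMi i)) j
        rw [h1, hMdeg, smul_eq_mul, mul_ite, mul_one, mul_zero]
      let ν := μ ^ q * (z w)⁻¹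
      have hν : δ ν = 0 := by
        rw [hδmul, hδpow, hμ, hδinv, hδz, hw, add_neg_cancel]
      obtain ⟨r, hr⟩ := isPow_of_degVec_dvd R hk C fC hC0 hg2 X p hX Γ hΓ q hq hqk hi (eX ν)
        fun j => by rw [show Groth.Agent.Inters29.degVec (p := p) Γ (eX ν) j = 0 from congrFun hν j]; exact dvd_zero _
      let ρ₀ := eX.symm r
      have hρ : ρ₀ ^ q = ν := eX.injective (by rw [map_pow, eX.apply_symm_apply, hr])
      have hρd : δ ρ₀ = 0 := by
        have h := hδpow ρ₀ q
        rw [hρ, hν] at h
        funext j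
        have h' := congrFun h j
        simp only [Pi.zero_apply, Pi.smul_apply, nsmul_eq_mul] at h'
        exact (mul_eq_zero.1 h'.symm).resolve_left (by exact_mod_cast (by omega : q ≠ 0))
      refine ⟨PicGrp.pullHom g hgm (μ * ρ₀⁻¹), ?_, ?_⟩
      · rw [← map_pow, mul_pow, inv_pow, hρ, mul_inv_rev, inv_inv, mul_comm (z w), mul_inv_cancel_left, hgz]
      · rw [hψ', hδmul, hδinv, hρd, hμ, neg_zero, add_zero]
    · obtain ⟨l, hl⟩ := Groth.Agent.Inters29.exists_pull_eq g hX.2.2 (eC c)
      have hl' : PicGrp.pullHom g hgm (eX.symm l) = c :=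
        eC.injective (by rw [hpullC, MulEquiv.apply_symm_apply, hl])
      rw [← hl', hψ', Submodule.Quotient.mk_eq_zero] at hψc
      obtain ⟨w, hw⟩ := hψc
      have hw' : A w = δ (eX.symm l) := hw
      refine ⟨eX.symm l * (z w)⁻¹, ?_, by rw [map_mul, map_inv, hgz, inv_one, mul_one, hl']⟩
      have h1 : PicGrp.pullHom g hgm ((eX.symm l * (z w)⁻¹) ^ q) = 1 := by
        rw [map_pow, map_mul, map_inv, hgz, inv_one, mul_one, hl', hc]
      have h2 : δ ((eX.symm l * (z w)⁻¹) ^ q) = 0 := by
        rw [hδpow, hδmul, hδinv, hδz, hw', add_neg_cancel, smul_zero]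
      generalize hy : (eX.symm l * (z w)⁻¹) ^ q = y at h1 h2
      obtain ⟨u, hu⟩ := Groth.Agent.Inters29.exists_eq_zcl_of_pull_eq_one hC hH0 hX hΓ hLD g hg (eX y)
        (by rw [← hpullC, h1, map_one])
      have hAu : A u = 0 := by
        show Matrix.mulVecLin _ u = 0
        rw [← Groth.Agent.Inters29.degVec_zcl hC hX hΓ hLD u, ← hu]
        exact h2
      rw [Groth.Agent.Inters29.zcl_eq_one_of_degVec hC hH0 hX hΓ hLD g hg hgcd u hAu, Units.val_one] at hu
      exact eX.injective (by rw [hu, map_one])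
  · obtain ⟨c₀, hc₀⟩ := hsurj d
    obtain ⟨e, ⟨he, hee⟩, -⟩ := huniq (c₀ ^ q) (MonoidHom.mem_ker.2 (by rw [map_pow, hc₀, hd]))
    refine ⟨c₀ * e⁻¹, ⟨by rw [mul_pow, inv_pow, hee, mul_inv_cancel],
      by rw [map_mul, map_inv, MonoidHom.mem_ker.1 he, inv_one, mul_one, hc₀]⟩, fun c' hc' => ?_⟩
    obtain ⟨r, -, hr⟩ := huniq 1 (one_mem _)
    have h1 : c' * (c₀ * e⁻¹)⁻¹ = 1 := by
      refine (hr _ ⟨MonoidHom.mem_ker.2 ?_, ?_⟩).trans (hr 1 ⟨one_mem _, one_pow q⟩).symm
      · rw [map_mul, map_inv, hc'.2, map_mul, map_inv, MonoidHom.mem_ker.1 he, inv_one, mul_one, hc₀, mul_inv_cancel]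
      · rw [mul_pow, inv_pow, hc'.1, one_mul, mul_pow, inv_pow, hee, mul_inv_cancel, inv_one]
    exact mul_inv_eq_one.1 h1

end Groth.Agent.S15410
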