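import Groth.Statements.S15411
import Mathlib.LinearAlgebra.TensorProduct.Basis
import Mathlib.RingTheory.TensorProduct.Free
import Mathlib.RingTheory.Bialgebra.TensorProduct
import Mathlib.LinearAlgebra.FreeModule.Basic
import Mathlib.LinearAlgebra.Basis.VectorSpace

set_option autoImplicit false
universe u
open scoped TensorProduct
open Hopf

namespace Groth.Agent.S15411
open TensorProduct

/-- Let K be a field and let finitely many commutative K-algebras be given in two layers, K_i for each
vertex i and K_k for each edge k, with K-algebra maps from K_{l k} and from K_{r k} into K_k for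
every edge k, such that K is the equalizer of the system: every family (x_i) whose two images in K_k
agree for every k comes from exactly one element of K. Let A and B be commutative K-bialgebras
(coordinate rings of affine group or monoid schemes over K) and let u_i : K_i ⊗ B ≅ K_i ⊗ A be
isomorphisms of K_i-bialgebras such that, for every edge k, the base changes of u_{l k} and u_{r k}
to K_k agree. Then there is exactly one isomorphism of K-bialgebras v : B ≅ A inducing every u_i,
that is with u_i (1 ⊗ b) = 1 ⊗ v b. (The published statement is for the system obtained from a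
finite inverse factorization system of fields by base change to a finite separable extension K, and
for linear algebraic groups; this row keeps from that setting only what the argument uses: K is a
field and is the equalizer of the finite system, and the group schemes are affine.) -/
theorem result
    (K : Type u) [Field K] (ιv ιe : Type u) [Finite ιv] [Finite ιe]
    (Kv : ιv → Type u) [∀ i, CommRing (Kv i)] [∀ i, Algebra K (Kv i)]
    (Ke : ιe → Type u) [∀ k, CommRing (Ke k)] [∀ k, Algebra K (Ke k)]
    (l r : ιe → ιv) (ρl : ∀ k, Kv (l k) →ₐ[K] Ke k) (ρr : ∀ k, Kv (r k) →ₐ[K] Ke k)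
    (hlim : ∀ x : (∀ i, Kv i), (∀ k, ρl k (x (l k)) = ρr k (x (r k))) →
      ∃! a : K, ∀ i, algebraMap K (Kv i) a = x i)
    (A B : Type u) [CommRing A] [CommRing B] [Bialgebra K A] [Bialgebra K B]
    (u : ∀ i, (Kv i ⊗[K] B) ≃ₐc[Kv i] (Kv i ⊗[K] A))
    (hu : ∀ (k : ιe) (b : B),
      Algebra.TensorProduct.map (ρl k) (AlgHom.id K A) (u (l k) (1 ⊗ₜ[K] b)) =
        Algebra.TensorProduct.map (ρr k) (AlgHom.id K A) (u (r k) (1 ⊗ₜ[K] b))) :
    ∃! v : B ≃ₐc[K] A, ∀ (i : ιv) (b : B), u i (1 ⊗ₜ[K] b) = 1 ⊗ₜ[K] v b := by
  classical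
  haveI := Fintype.ofFinite ιv
  -- descent of elements
  have desc : ∀ (M : Type u) [AddCommGroup M] [Module K M] (z : ∀ i, Kv i ⊗[K] M),
      (∀ k, (ρl k).toLinearMap.rTensor M (z (l k)) = (ρr k).toLinearMap.rTensor M (z (r k))) →
      ∃! a : M, ∀ i, z i = 1 ⊗ₜ[K] a := by
    intro M _ _ z hz
    let bM := Module.Free.chooseBasis K M
    let Bi := fun i => Algebra.TensorProduct.basis (Kv i) bM
    let Be := fun k => Algebra.TensorProduct.basis (Ke k) bM
    let c : Module.Free.ChooseBasisIndex K M → ∀ i, Kv i := fun j i => (Bi i).repr (z i) j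
    have hnat : ∀ (i : ιv) (k : ιe) (f : Kv i →ₐ[K] Ke k) (t : Kv i ⊗[K] M) j,
        (Be k).repr (f.toLinearMap.rTensor M t) j = f ((Bi i).repr t j) := by
      intro i k f t j
      induction t using TensorProduct.induction_on with
      | zero => simp
      | add p q hp hq => simp only [map_add, Finsupp.add_apply, hp, hq]
      | tmul p q => simp [Bi, Be, Algebra.TensorProduct.basis_repr_tmul]
    have hc : ∀ j k, ρl k (c j (l k)) = ρr k (c j (r k)) := fun j k => by
      simp only [c, ← hnat, hz]
    choose a ha hau using fun j => hlim (c j) (hc j)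
    let s : Finset (Module.Free.ChooseBasisIndex K M) := Finset.univ.biUnion fun i => ((Bi i).repr (z i)).support
    have hout : ∀ j, j ∉ s → a j = 0 := fun j hj => (hau j 0 fun i => by
      have : c j i = 0 := by
        by_contra h
        exact hj (Finset.mem_biUnion.2 ⟨i, Finset.mem_univ i, Finsupp.mem_support_iff.2 h⟩)
      rw [this, map_zero]).symm
    let av : M := bM.repr.symm (Finsupp.onFinset s a fun j hj => by_contra fun h => hj (hout j h))
    refine ⟨av, fun i => ?_, fun a' ha' => ?_⟩
    · apply (Bi i).repr.injective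
      refine Finsupp.ext fun j => ?_
      simp [Bi, av, Algebra.TensorProduct.basis_repr_tmul, ha j i, c]
    · apply bM.repr.injective
      refine Finsupp.ext fun j => ?_
      refine (hau j (bM.repr a' j) fun i => ?_).trans (by simp [av])
      simp [c, Bi, ha' i, Algebra.TensorProduct.basis_repr_tmul]
  have inj : ∀ (M : Type u) [AddCommGroup M] [Module K M] (a a' : M), (∀ i, (1 : Kv i) ⊗ₜ[K] a = 1 ⊗ₜ[K] a') → a = a' := by
    intro M _ _ a a' h
    exact (desc M (fun i => 1 ⊗ₜ[K] a') (fun k => by simp)).unique (fun i => (h i).symm) (fun i => rfl)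
  have hu' : ∀ (k : ιe) (b : B), (ρl k).toLinearMap.rTensor A (u (l k) (1 ⊗ₜ[K] b)) =
      (ρr k).toLinearMap.rTensor A (u (r k) (1 ⊗ₜ[K] b)) := fun k b => hu k b
  choose v hv hvu using fun b => desc A (fun i => u i (1 ⊗ₜ[K] b)) (fun k => hu' k b)
  -- the algebra map
  let vA : B →ₐ[K] A := AlgHom.ofLinearMap
    { toFun := v
      map_add' := fun x y => inj A _ _ fun i => by rw [tmul_add, ← hv, ← hv, ← hv, ← map_add, ← tmul_add]
      map_smul' := fun c x => inj A _ _ fun i => by
        rw [RingHom.id_apply, tmul_smul, ← hv, ← hv, tmul_smul, ← algebraMap_smul (Kv i) c, map_smul, algebraMap_smul] }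
    (inj A _ _ fun i => by
      show (1 : Kv i) ⊗ₜ[K] v 1 = _
      rw [← hv, ← Algebra.TensorProduct.one_def, map_one, Algebra.TensorProduct.one_def])
    (fun x y => inj A _ _ fun i => by
      show (1 : Kv i) ⊗ₜ[K] v (x * y) = 1 ⊗ₜ[K] (v x * v y)
      rw [← hv, show (1 : Kv i) ⊗ₜ[K] (x * y) = (1 ⊗ₜ x) * (1 ⊗ₜ y) by simp, map_mul, hv, hv]
      simp)
  have hvA : ∀ b, vA b = v b := fun _ => rfl
  have hbij : Function.Bijective vA := by
    refine ⟨fun x y h => inj B x y fun i => (u i).toAlgEquiv.injective ?_, fun a => ?_⟩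
    · show u i (1 ⊗ₜ[K] x) = u i (1 ⊗ₜ[K] y)
      rw [hv, hv]
      exact congrArg _ h
    · let z : ∀ i, Kv i ⊗[K] B := fun i => (u i).toAlgEquiv.symm (1 ⊗ₜ[K] a)
      have hz : ∀ k, (ρl k).toLinearMap.rTensor B (z (l k)) = (ρr k).toLinearMap.rTensor B (z (r k)) := by
        intro k
        let F : Ke k ⊗[K] B →ₗ[Ke k] Ke k ⊗[K] A :=
          (((ρl k).toLinearMap.rTensor A).comp
            (((u (l k)).toAlgEquiv.toLinearEquiv.toLinearMap.restrictScalars K).comp
              (TensorProduct.mk K (Kv (l k)) B 1))).liftBaseChange (Ke k)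
        let W : Ke k ⊗[K] A →ₗ[Ke k] Ke k ⊗[K] B :=
          (((ρl k).toLinearMap.rTensor B).comp
            (((u (l k)).toAlgEquiv.symm.toLinearEquiv.toLinearMap.restrictScalars K).comp
              (TensorProduct.mk K (Kv (l k)) A 1))).liftBaseChange (Ke k)
        have smul' : ∀ (i : ιv) (f : Kv i →ₐ[K] Ke k) (M : Type u) [AddCommGroup M] [Module K M] (c : Kv i) (t : Kv i ⊗[K] M),
            f.toLinearMap.rTensor M (c • t) = f c • f.toLinearMap.rTensor M t := by
          intro i f M _ _ c t
          induction t using TensorProduct.induction_on with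
          | zero => simp
          | add p q hp hq => simp only [smul_add, map_add, hp, hq]
          | tmul p q => simp [TensorProduct.smul_tmul']
        have hWl : ∀ t, (ρl k).toLinearMap.rTensor B ((u (l k)).toAlgEquiv.symm t) = W ((ρl k).toLinearMap.rTensor A t) := fun t => by
          induction t using TensorProduct.induction_on with
          | zero => simp
          | add p q hp hq => simp only [map_add, hp, hq]
          | tmul p q =>
            rw [show p ⊗ₜ[K] q = p • ((1 : Kv (l k)) ⊗ₜ[K] q) by simp [TensorProduct.smul_tmul'], map_smul, smul', smul',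
              map_smul]
            simp [W]
        have hFr : ∀ t, F ((ρr k).toLinearMap.rTensor B t) = (ρr k).toLinearMap.rTensor A (u (r k) t) := fun t => by
          induction t using TensorProduct.induction_on with
          | zero => simp
          | add p q hp hq => simp only [map_add, hp, hq]
          | tmul p q =>
            rw [show p ⊗ₜ[K] q = p • ((1 : Kv (r k)) ⊗ₜ[K] q) by simp [TensorProduct.smul_tmul'], smul', map_smul,
              map_smul, smul', ← hu' k q]
            simp [F]
        have hWF : ∀ t, W (F t) = t := fun t => by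
          induction t using TensorProduct.induction_on with
          | zero => simp
          | add p q hp hq => simp only [map_add, hp, hq]
          | tmul p q =>
            rw [show p ⊗ₜ[K] q = p • ((1 : Ke k) ⊗ₜ[K] q) by simp [TensorProduct.smul_tmul'], map_smul, map_smul,
              show F ((1 : Ke k) ⊗ₜ[K] q) = (ρl k).toLinearMap.rTensor A (u (l k) (1 ⊗ₜ[K] q)) by simp [F], ← hWl,
              show (u (l k)).toAlgEquiv.symm (u (l k) (1 ⊗ₜ[K] q)) = 1 ⊗ₜ[K] q from (u (l k)).toAlgEquiv.symm_apply_apply _]
            simp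
        have e1 : (ρr k).toLinearMap.rTensor A (u (r k) (z (r k))) = (ρl k).toLinearMap.rTensor A (1 ⊗ₜ[K] a) := by
          rw [show u (r k) (z (r k)) = 1 ⊗ₜ[K] a from (u (r k)).toAlgEquiv.apply_symm_apply _]
          simp
        rw [← hWF ((ρr k).toLinearMap.rTensor B (z (r k))), hFr, e1, ← hWl]
      obtain ⟨b, hb, -⟩ := desc B z hz
      refine ⟨b, inj A _ _ fun i => ?_⟩
      rw [hvA, ← hv, ← hb]
      exact (u i).toAlgEquiv.apply_symm_apply _
  have hε : (Bialgebra.counitAlgHom K A).comp vA = Bialgebra.counitAlgHom K B := by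
    refine AlgHom.ext fun b => ?_
    refine (hlim (fun i => algebraMap K (Kv i) (Bialgebra.counitAlgHom K B b)) (fun k => by simp)).unique (fun i => ?_)
      (fun i => rfl)
    have h := CoalgHomClass.counit_comp_apply (u i) ((1 : Kv i) ⊗ₜ[K] b)
    rw [hv] at h
    simp only [TensorProduct.counit_tmul, CommSemiring.counit_apply, ← Algebra.algebraMap_eq_smul_one] at h
    exact h
  have hΔ : (Algebra.TensorProduct.map vA vA).comp (Bialgebra.comulAlgHom K B) = (Bialgebra.comulAlgHom K A).comp vA := by
    refine AlgHom.ext fun b => inj (A ⊗[K] A) _ _ fun i => ?_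
    let θ : (Kv i ⊗[K] A) ⊗[Kv i] (Kv i ⊗[K] A) ≃ₗ[Kv i] Kv i ⊗[K] (A ⊗[K] A) :=
      (AlgebraTensorModule.distribBaseChange K (Kv i) A A).symm
    have h := congrArg θ (CoalgHomClass.map_comp_comul_apply (u i) ((1 : Kv i) ⊗ₜ[K] b))
    rw [hv] at h
    have eB : ∀ (L : Kv i ⊗[K] B →ₗ[Kv i] Kv i ⊗[K] A), (∀ p, L (1 ⊗ₜ[K] p) = 1 ⊗ₜ v p) → ∀ t : B ⊗[K] B,
        θ (TensorProduct.map L L (AlgebraTensorModule.distribBaseChange K (Kv i) B B ((1 : Kv i) ⊗ₜ[K] t))) =
        (1 : Kv i) ⊗ₜ[K] Algebra.TensorProduct.map vA vA t := fun L hL t => by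
      induction t using TensorProduct.induction_on with
      | zero => simp
      | add p q hp hq => simp only [map_add, tmul_add, hp, hq]
      | tmul p q =>
        rw [show AlgebraTensorModule.distribBaseChange K (Kv i) B B ((1 : Kv i) ⊗ₜ[K] (p ⊗ₜ[K] q)) =
          ((1 : Kv i) ⊗ₜ[K] p) ⊗ₜ[Kv i] ((1 : Kv i) ⊗ₜ[K] q) by simp, TensorProduct.map_tmul, hL, hL]
        simp [θ, hvA]
    have cB : ∀ (C : Type u) [CommRing C] [Bialgebra K C] (c : C), Coalgebra.comul (R := Kv i) ((1 : Kv i) ⊗ₜ[K] c) =
        AlgebraTensorModule.distribBaseChange K (Kv i) C C ((1 : Kv i) ⊗ₜ[K] Coalgebra.comul (R := K) c) := by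
      intro C _ _ c
      rw [TensorProduct.comul_tmul, CommSemiring.comul_apply]
      generalize Coalgebra.comul (R := K) c = t
      induction t using TensorProduct.induction_on with
      | zero => simp
      | add p q hp hq => simp only [tmul_add, map_add, hp, hq]
      | tmul p q => simp
    rw [cB, cB] at h
    refine ((eB _ (fun p => hv p i) _).symm.trans h).trans ?_
    exact LinearEquiv.symm_apply_apply _ _
  refine ⟨BialgEquiv.ofAlgEquiv (AlgEquiv.ofBijective vA hbij) hε hΔ, fun i b => hv b i, fun w hw => ?_⟩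
  refine BialgEquiv.ext fun b => inj A _ _ fun i => ?_
  rw [← hw i b]
  exact hv b i

end Groth.Agent.S15411
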