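import Groth.Statements.S15412
import Mathlib.Algebra.Group.Equiv.Basic
-- import your own Groth.Agent.* helpers here

set_option autoImplicit false
universe w v u
open CategoryTheory Opposite
open Bitors

namespace Groth.Agent.S15412

theorem aux {C : Type u} [Category.{v} C] {J : GrothendieckTopology C}
    (G H : Sheaf J GrpCat.{w}) (P : NonAbH1.GSheaf G) (hP : P.IsPseudoTorsor) :
    (∀ ρ : Bitors.RightStr P H, ∃! φ : Bitors.IsomFamily P H,
        ∀ (U : Cᵒᵖ) (p : P.P.obj.obj U) (h : H.obj.obj U), ρ.rsmul p h = P.smul (φ.φ p h) p) ∧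
    (∀ φ : Bitors.IsomFamily P H, ∃! ρ : Bitors.RightStr P H,
        ∀ (U : Cᵒᵖ) (p : P.P.obj.obj U) (h : H.obj.obj U), ρ.rsmul p h = P.smul (φ.φ p h) p) := by
  have cancel : ∀ (U : Cᵒᵖ) (p : P.P.obj.obj U) (a b : G.obj.obj U), P.smul a p = P.smul b p → a = b :=
    fun U p a b e => (hP U p (P.smul b p)).unique e rfl
  constructor
  · intro ρ
    choose f hf using fun (U : Cᵒᵖ) (p : P.P.obj.obj U) (h : H.obj.obj U) =>
      (hP U p (ρ.rsmul p h)).exists
    have hbij : ∀ (U : Cᵒᵖ) (p : P.P.obj.obj U), Function.Bijective (f U p) := fun U p =>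
      ⟨fun h h' e => (ρ.existsUnique_rsmul p (ρ.rsmul p h')).unique
          (by rw [← hf U p h, ← hf U p h', e]) rfl,
        fun g => by
          obtain ⟨h, hh⟩ := (ρ.existsUnique_rsmul p (P.smul g p)).exists
          exact ⟨h, cancel U p _ _ ((hf U p h).trans hh)⟩⟩
    have hmul : ∀ (U : Cᵒᵖ) (p : P.P.obj.obj U) (h h' : H.obj.obj U),
        f U p (h * h') = f U p h * f U p h' := fun U p h h' => cancel U p _ _ (by
      rw [hf, P.mul_smul, hf, ← ρ.smul_rsmul, hf, ρ.rsmul_mul])
    let φ : Bitors.IsomFamily P H :=
      { φ := fun {U} p => MulEquiv.mk' (Equiv.ofBijective _ (hbij U p)) (hmul U p)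
        map_φ := fun {U V} g p h => cancel V (P.P.obj.map g p) _ _ (by
          show P.smul (G.obj.map g (f U p h)) _ = P.smul (f V _ _) _
          rw [← P.map_smul, hf, hf, ρ.map_rsmul])
        φ_smul := fun {U} g p h => cancel U (P.smul g p) _ _ (by
          show P.smul (f U (P.smul g p) h) _ = P.smul (g * f U p h * g⁻¹) _
          rw [hf, ← P.mul_smul, inv_mul_cancel_right, P.mul_smul, hf, ρ.smul_rsmul]) }
    refine ⟨φ, fun U p h => (hf U p h).symm, fun φ' hφ' => ?_⟩
    have e : ∀ (U : Cᵒᵖ) (p : P.P.obj.obj U) (h : H.obj.obj U), φ'.φ p h = φ.φ p h := fun U p h =>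
      cancel U p _ _ ((hφ' U p h).symm.trans (hf U p h).symm)
    obtain ⟨φ', _, _⟩ := φ'
    congr
    funext U p
    exact MulEquiv.ext (e U p)
  · intro φ
    let ρ : Bitors.RightStr P H :=
      { rsmul := fun {U} p h => P.smul (φ.φ p h) p
        rsmul_one := fun {U} p => by rw [map_one, P.one_smul]
        rsmul_mul := fun {U} p h h' => by
          rw [φ.φ_smul, ← P.mul_smul, inv_mul_cancel_right, map_mul]
        map_rsmul := fun {U V} f p h => by rw [P.map_smul, φ.map_φ]
        smul_rsmul := fun {U} g p h => by
          rw [φ.φ_smul, ← P.mul_smul, inv_mul_cancel_right, P.mul_smul]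
        existsUnique_rsmul := fun {U} p q => by
          obtain ⟨g, hg, hu⟩ := hP U p q
          exact ⟨(φ.φ p).symm g, (congrArg (fun a => P.smul a p) ((φ.φ p).apply_symm_apply g)).trans hg,
            fun h hh => by rw [← hu _ hh, MulEquiv.symm_apply_apply]⟩ }
    refine ⟨ρ, fun _ _ _ => rfl, fun ρ' hρ' => ?_⟩
    have e : ∀ (U : Cᵒᵖ) (p : P.P.obj.obj U) (h : H.obj.obj U), ρ'.rsmul p h = ρ.rsmul p h := hρ'
    obtain ⟨ρ', _, _, _, _, _⟩ := ρ'
    congr
    funext U p h
    exact e U p h

/-- On a site, let G and H be sheaves of groups and P a sheaf of sets with a left G-action which is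
simply transitive on every set of sections P(U). The right H-actions on P that are compatible with
restriction, commute with the G-action and are simply transitive on every P(U) (for P a G-torsor:
the structures of (G, H)-bitorsor on P) correspond exactly to the families of group isomorphisms φ_p
: H(U) ≃ G(U), one for each section p of P over each U, compatible with restriction and with φ_{g·p}
= g φ_p g⁻¹ (the equivariant maps from P to the sheaf of isomorphisms from H to G); the
correspondence is the rule p · h = φ_p(h) · p, and the statement is that every right structure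
arises by this rule from exactly one family and every family from exactly one right structure. (The
published statement takes P a left G-torsor; only the simple transitivity of the G-action on
sections enters, so local existence of sections is not assumed.) -/
theorem result
    {C : Type u} [Category.{v} C] {J : GrothendieckTopology C}
    (G H : Sheaf J GrpCat.{w}) (P : NonAbH1.GSheaf G) (hP : P.IsPseudoTorsor) :
    (∀ ρ : Bitors.RightStr P H, ∃! φ : Bitors.IsomFamily P H,
        ∀ (U : Cᵒᵖ) (p : P.P.obj.obj U) (h : H.obj.obj U), ρ.rsmul p h = P.smul (φ.φ p h) p) ∧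
    (∀ φ : Bitors.IsomFamily P H, ∃! ρ : Bitors.RightStr P H,
        ∀ (U : Cᵒᵖ) (p : P.P.obj.obj U) (h : H.obj.obj U), ρ.rsmul p h = P.smul (φ.φ p h) p) := by
  exact aux G H P hP

end Groth.Agent.S15412
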