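import Groth.Statements.S15414
import Mathlib.CategoryTheory.Sites.CoversTop
import Groth.Agent.S15413
-- import your own Groth.Agent.* helpers here

set_option autoImplicit false
universe w v u
open CategoryTheory Opposite
open Bitors

namespace Groth.Agent.S15414

/-- On a site, let G and H be sheaves of groups and P, P' sheaves of sets with left G-actions, simply
transitive on every set of sections, carrying right H-actions ρ, ρ' (compatible with restriction,
commuting with G, simply transitive section-wise) given by families of group isomorphisms φ, φ'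
through p · h = φ_p(h) · p and p' · h = φ'_{p'}(h) · p'. Let Y be an object that covers the site
(for every object U the arrows V → U whose source admits a morphism to Y form a covering sieve), let
p and p' be sections of P and P' over Y, let f : P → P' be a G-equivariant morphism of sheaves and g
a section of G over Y with f(p) = g · p'. Then f commutes with the right H-actions if and only if
φ_{p|V}(h) = g|_V φ'_{p'|V}(h) (g|_V)⁻¹ for every object V with a morphism to Y, along which p, p'
and g are restricted, and every section h of H over V; that is, the isomorphism family of p equals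
the conjugate by g of the isomorphism family of p', as isomorphisms between the sheaves H and G
restricted over Y. (The published statement takes P and P' to be (G, H)-bitorsors trivialised by a
section over a cover Y → S; only the simple transitivity of the G-actions on sections and the
covering property of Y enter.) -/
theorem result
    {C : Type u} [Category.{v} C] {J : GrothendieckTopology C}
    (G H : Sheaf J GrpCat.{w}) (P P' : NonAbH1.GSheaf G)
    (hP : P.IsPseudoTorsor) (hP' : P'.IsPseudoTorsor)
    (ρ : Bitors.RightStr P H) (ρ' : Bitors.RightStr P' H)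
    (φ : Bitors.IsomFamily P H) (φ' : Bitors.IsomFamily P' H)
    (hρ : ∀ (U : Cᵒᵖ) (q : P.P.obj.obj U) (h : H.obj.obj U), ρ.rsmul q h = P.smul (φ.φ q h) q)
    (hρ' : ∀ (U : Cᵒᵖ) (q : P'.P.obj.obj U) (h : H.obj.obj U), ρ'.rsmul q h = P'.smul (φ'.φ q h) q)
    (Y : C) (hY : J.CoversTop (fun _ : PUnit.{w + 1} => Y))
    (p : P.P.obj.obj (op Y)) (p' : P'.P.obj.obj (op Y)) (f : P ⟶ P') (g : G.obj.obj (op Y))
    (hg : f.hom.hom.app (op Y) p = P'.smul g p') :
    (∀ (U : Cᵒᵖ) (q : P.P.obj.obj U) (h : H.obj.obj U),
        f.hom.hom.app U (ρ.rsmul q h) = ρ'.rsmul (f.hom.hom.app U q) h) ↔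
      ∀ (V : C) (t : V ⟶ Y) (h : H.obj.obj (op V)),
        φ.φ (P.P.obj.map t.op p) h =
          G.obj.map t.op g * φ'.φ (P'.P.obj.map t.op p') h * (G.obj.map t.op g)⁻¹ := by
  rw [Groth.Agent.S15413.result G H P P' hP' ρ ρ' φ φ' hρ hρ' f]
  have hnat : ∀ (V : C) (t : V ⟶ Y),
      f.hom.hom.app (op V) (P.P.obj.map t.op p) =
        P'.smul (G.obj.map t.op g) (P'.P.obj.map t.op p') := fun V t =>
    (NatTrans.naturality_apply f.hom.hom t.op p).trans
      ((congrArg (P'.P.obj.map t.op) hg).trans (P'.map_smul _ _ _))
  constructor
  · intro hall V t h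
    rw [hall (op V) (P.P.obj.map t.op p) h, hnat, φ'.φ_smul]
  · intro hY' U q h
    -- reduce to the members of the cover by `Y`
    refine (hP' U (f.hom.hom.app U q) (P'.smul (φ'.φ (f.hom.hom.app U q) h) (f.hom.hom.app U q))).unique ?_ rfl
    have hsep := ((isSheaf_iff_isSheaf_of_type _ _).1 P'.P.2).isSeparated _ (hY U.unop)
    refine hsep.ext ?_
    rintro V a ⟨_, ⟨t⟩⟩
    obtain ⟨b, hb, -⟩ := hP (op V) (P.P.obj.map t.op p) (P.P.obj.map a.op q)
    have hb' : P.smul b (P.P.obj.map t.op p) = P.P.obj.map a.op q := hb
    show P'.P.obj.map a.op _ = P'.P.obj.map a.op _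
    rw [P'.map_smul, P'.map_smul, φ.map_φ, φ'.map_φ, ← NatTrans.naturality_apply f.hom.hom a.op q,
      ← hb', f.map_smul, hnat, φ.φ_smul, φ'.φ_smul, φ'.φ_smul, hY' V t]

end Groth.Agent.S15414
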