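import Groth.Statements.S15415
import Groth.Agent.S13692
import Groth.Agent.CSA.NormRange
import Groth.Agent.GalCoh.FormsDesc
-- import your own Groth.Agent.* helpers here

set_option autoImplicit false
universe u v w
open scoped TensorProduct
attribute [local instance] CSAGal.tensorAction GpH1.unitsAction
open GalCoh

namespace Groth.Agent.S15415

open Groth.Agent

theorem rnorm_smul {k : Type u} [Field k] {K : Type v} [Field K] [Algebra k K] {A : Type w} [Ring A]
    [Algebra k A] [CSA.IsCSA k A] {n : ℕ} (φ : K ⊗[k] A ≃ₐ[K] Matrix (Fin n) (Fin n) K)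
    (σ : K ≃ₐ[k] K) (x : K ⊗[k] A) :
    CSA.rnorm K (σ • x) = σ (CSA.rnorm K x) := by
  have hcard : Fintype.card (Fin n) ^ 2 = Module.finrank K (K ⊗[k] A) := by
    rw [Module.finrank_baseChange]; exact CSA.card_sq_of_splitting φ
  let F : K ⊗[k] A →ₐ[K] Matrix (Fin n) (Fin n) K :=
    { toFun := fun y => σ.toAlgHom.mapMatrix (φ (σ.symm • y))
      map_one' := by simp only [smul_one, map_one]
      map_mul' := fun a b => by simp only [smul_mul', map_mul]
      map_zero' := by simp only [smul_zero, map_zero]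
      map_add' := fun a b => by simp only [smul_add, map_add]
      commutes' := fun c => by
        rw [Algebra.TensorProduct.algebraMap_apply, GalCoh.Forms.smul_tmul_left,
          Algebra.algebraMap_self, RingHom.id_apply,
          show (σ.symm c) ⊗ₜ[k] (1 : A) = algebraMap K (K ⊗[k] A) (σ.symm c) by
            rw [Algebra.TensorProduct.algebraMap_apply, Algebra.algebraMap_self, RingHom.id_apply],
          AlgEquiv.commutes]
        ext i j
        rw [AlgHom.mapMatrix_apply, Matrix.map_apply, Matrix.algebraMap_matrix_apply,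
          Matrix.algebraMap_matrix_apply]
        split <;> simp }
  have h2 := CSA.rep_det' F hcard (σ • x)
  have h1 := CSA.rep_det' φ.toAlgHom hcard x
  simp only [Algebra.algebraMap_self, RingHom.id_apply] at h1 h2
  rw [← h2, ← h1]
  show Matrix.det (σ.toAlgHom.mapMatrix (φ (σ.symm • (σ • x)))) = _
  rw [show σ.symm = σ⁻¹ from rfl, inv_smul_smul, AlgHom.mapMatrix_apply]
  exact (RingHom.map_det σ.toAlgHom.toRingHom (φ x)).symm

theorem rnorm_one_tmul {k : Type u} [Field k] {K : Type v} [Field K] [Algebra k K] {A : Type w} [Ring A]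
    [Algebra k A] [CSA.IsCSA k A] {n : ℕ} (φ : K ⊗[k] A ≃ₐ[K] Matrix (Fin n) (Fin n) K) (a : A) :
    CSA.rnorm K ((1 : K) ⊗ₜ[k] a) = algebraMap k K (CSA.rnorm k a) := by
  have hcard : Fintype.card (Fin n) ^ 2 = Module.finrank K (K ⊗[k] A) := by
    rw [Module.finrank_baseChange]; exact CSA.card_sq_of_splitting φ
  have h1 := CSA.rep_det' φ.toAlgHom hcard ((1 : K) ⊗ₜ[k] a)
  simp only [Algebra.algebraMap_self, RingHom.id_apply] at h1
  rw [← h1, ← CSA.rep_det' (CSA.repOf φ) (CSA.card_sq_of_splitting φ) a]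
  rfl

/-- For a central simple algebra over a field, the first Galois cohomology set of its norm-one group is
identified with the nonzero scalars modulo the reduced norms of units, by the boundary map of the
sequence norm-one units → units → nonzero scalars. Finite-level form: let k be a field, K a finite
Galois extension of k whose Galois group acts on K ⊗_k A through the first factor, A a
finite-dimensional central simple k-algebra split by K, N the reduced norm of A over k and N_K the
reduced norm of K ⊗_k A over K. Then (i) every 1-cocycle a with values in the units of K ⊗_k A of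
reduced norm one is of the form a σ = b⁻¹ · σ(b) for a unit b whose reduced norm is an element c of
kˣ; and (ii) for units b, b' of K ⊗_k A with reduced norms c, c' in kˣ, the cocycles σ ↦ b⁻¹σ(b) and
σ ↦ b'⁻¹σ(b') are cohomologous through a unit of reduced norm one if and only if c' = N(x) · c for
some unit x of A. (Since K splits A the reduced norm N_K takes every value in kˣ, so (i) and (ii)
say that c ↦ class of b⁻¹σ(b), N_K b = c, is a well-defined bijection from kˣ/N(Aˣ) onto the
cohomology set of the norm-one units. The published statement is for the absolute Galois group of a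
field of characteristic different from 2, an assumption playing no role here; this row is the
finite-level form over a splitting field.) -/
theorem result
    (k : Type u) [Field k] (K : Type v) [Field K] [Algebra k K] [FiniteDimensional k K] [IsGalois k K]
    (A : Type w) [Ring A] [Algebra k A] [Algebra.IsCentral k A] [IsSimpleRing A] [FiniteDimensional k A]
    (hA : Curves.Splits k A K)
    (N : A →* k) (hN : CSAGal.IsRedNorm k A N)
    (NK : (K ⊗[k] A) →* K) (hNK : CSAGal.IsRedNorm K (K ⊗[k] A) NK) :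
    (∀ a : GpH1.OneCocycle (K ≃ₐ[k] K) (K ⊗[k] A)ˣ, (∀ σ, NK (a σ : K ⊗[k] A) = 1) →
        ∃ (c : kˣ) (b : (K ⊗[k] A)ˣ), NK (b : K ⊗[k] A) = algebraMap k K (c : k) ∧
          ∀ σ : K ≃ₐ[k] K, a σ = b⁻¹ * σ • b) ∧
    (∀ (c c' : kˣ) (b b' : (K ⊗[k] A)ˣ),
        NK (b : K ⊗[k] A) = algebraMap k K (c : k) → NK (b' : K ⊗[k] A) = algebraMap k K (c' : k) →
        ((∃ s : (K ⊗[k] A)ˣ, NK (s : K ⊗[k] A) = 1 ∧
            ∀ σ : K ≃ₐ[k] K, b'⁻¹ * σ • b' = s⁻¹ * (b⁻¹ * σ • b) * σ • s) ↔
          ∃ x : Aˣ, (c' : k) = N (x : A) * (c : k))) := by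
  haveI : CSA.IsCSA k A := {}
  obtain ⟨n, -, ⟨φ⟩⟩ := hA
  haveI : CSA.IsCSA K (K ⊗[k] A) := inferInstance
  have hsm : ∀ (σ : K ≃ₐ[k] K) (y : K ⊗[k] A), NK (σ • y) = σ (NK y) := fun σ y => by
    rw [CSA.isRedNorm_eq hNK, CSA.isRedNorm_eq hNK, rnorm_smul φ]
  have hone : ∀ a : A, NK ((1 : K) ⊗ₜ[k] a) = algebraMap k K (N a) := fun a => by
    rw [CSA.isRedNorm_eq hNK, CSA.isRedNorm_eq hN, rnorm_one_tmul φ]
  have hval : ∀ (σ : K ≃ₐ[k] K) (u : (K ⊗[k] A)ˣ), NK ((σ • u : (K ⊗[k] A)ˣ) : K ⊗[k] A) = σ (NK (u : K ⊗[k] A)) :=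
    fun σ u => hsm σ _
  constructor
  · intro a ha
    have h := Quotient.exact ((S13692.result k K A) a.cl)
    obtain ⟨b, hb⟩ := h
    have hb' : ∀ σ, a σ = b⁻¹ * σ • b := fun σ => by
      rw [hb σ]; show b⁻¹ * 1 * σ • b = _; rw [mul_one]
    have hfix : ∀ σ : K ≃ₐ[k] K, σ (NK (b : K ⊗[k] A)) = NK (b : K ⊗[k] A) := fun σ => by
      have h1 := ha σ
      rw [hb' σ, Units.val_mul, map_mul, hval] at h1
      calc σ (NK (b : K ⊗[k] A))
          = NK (b : K ⊗[k] A) * NK ((b⁻¹ : (K ⊗[k] A)ˣ) : K ⊗[k] A) * σ (NK (b : K ⊗[k] A)) := by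
            rw [← map_mul, Units.mul_inv, map_one, one_mul]
        _ = NK (b : K ⊗[k] A) := by rw [mul_assoc, h1, mul_one]
    obtain ⟨c, hc⟩ := (IsGalois.mem_range_algebraMap_iff_fixed (F := k) (NK (b : K ⊗[k] A))).2 hfix
    have hc0 : c ≠ 0 := fun h0 => (b.isUnit.map NK).ne_zero (by rw [← hc, h0, map_zero])
    exact ⟨Units.mk0 c hc0, b, hc.symm, hb'⟩
  · intro c c' b b' hb hb'
    constructor
    · rintro ⟨s, hs, h⟩
      have hfix : ∀ σ : K ≃ₐ[k] K, σ • (b' * s⁻¹ * b⁻¹) = b' * s⁻¹ * b⁻¹ := fun σ => by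
        have h' := h σ
        rw [smul_mul', smul_mul', smul_inv', smul_inv']
        have h3 : σ • b' = b' * (s⁻¹ * (b⁻¹ * σ • b) * σ • s) := by rw [← h']; group
        rw [h3]; group
      obtain ⟨x, hx⟩ := CSA.exists_eq_one_tmul_of_fixed ((b' * s⁻¹ * b⁻¹ : (K ⊗[k] A)ˣ) : K ⊗[k] A)
        (fun σ => by
          rw [← GalCoh.Forms.smul_eq_rTensor]
          exact congrArg Units.val (hfix σ))
      have hNx : algebraMap k K (N x) * algebraMap k K (c : k) = algebraMap k K (c' : k) := by
        rw [← hone, ← hx, ← hb, ← map_mul, ← Units.val_mul]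
        rw [show b' * s⁻¹ * b⁻¹ * b = b' * s⁻¹ by group, Units.val_mul, map_mul, hb']
        have : NK ((s⁻¹ : (K ⊗[k] A)ˣ) : K ⊗[k] A) = 1 := by
          rw [← mul_one (NK ((s⁻¹ : (K ⊗[k] A)ˣ) : K ⊗[k] A)), ← hs, ← map_mul, Units.inv_mul, map_one, hs]
        rw [this, mul_one]
      have hNx' : N x * (c : k) = (c' : k) := (algebraMap k K).injective (by rw [map_mul, hNx])
      have hu : IsUnit x := by
        rw [CSA.isUnit_iff_rnorm_ne_zero (k := k), ← CSA.isRedNorm_eq hN]
        exact fun h0 => c'.ne_zero (by rw [← hNx', h0, zero_mul])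
      exact ⟨hu.unit, hNx'.symm⟩
    · rintro ⟨x, hx⟩
      let x' : (K ⊗[k] A)ˣ := Units.map (Algebra.TensorProduct.includeRight : A →ₐ[k] K ⊗[k] A).toMonoidHom x
      have hx' : NK (x' : K ⊗[k] A) = algebraMap k K (N (x : A)) := hone _
      have hfix : ∀ σ : K ≃ₐ[k] K, σ • x' = x' := fun σ => Units.ext (by
        show σ • ((1 : K) ⊗ₜ[k] (x : A)) = (1 : K) ⊗ₜ[k] (x : A)
        rw [GalCoh.Forms.smul_tmul_left, map_one])
      refine ⟨b⁻¹ * x'⁻¹ * b', ?_, fun σ => ?_⟩
      · have h1 : NK ((x' * b : (K ⊗[k] A)ˣ) : K ⊗[k] A) = NK (b' : K ⊗[k] A) := by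
          rw [Units.val_mul, map_mul, hx', hb, hb', ← map_mul, ← hx]
        rw [show b⁻¹ * x'⁻¹ * b' = (x' * b)⁻¹ * b' by group, Units.val_mul, map_mul, ← h1, ← map_mul,
          Units.inv_mul, map_one]
      · rw [smul_mul', smul_mul', smul_inv', smul_inv', hfix]; group

end Groth.Agent.S15415
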