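import Groth.Statements.S15419
import Groth.Agent.GrLib.RegPolyOps

set_option autoImplicit false
universe u
open GrLC

namespace Groth.Agent.S15419

/-- Let k be a field, S = k[x_0, …, x_r] graded by degree, 𝔪 = (x_0, …, x_r), M a finitely generated
ℤ-graded S-module and x a linear form (x ∈ S_1) that is quasi-regular on M: the submodule of
elements of M killed by x has finite length. Let N = M/xM, given as a graded module with a
surjective degree-preserving S-linear map π : M → N whose kernel is xM; graded local cohomology of M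
and of N is computed from *injective resolutions in the graded category. If M is weakly d-regular,
that is H^i_𝔪(M) vanishes in degree d − i + 1 for every i > 0, then N is weakly d-regular. -/
theorem result (k : Type u) [Field k] (r : ℕ)
    (M : Type u) [AddCommGroup M] [Module k M] [Module (MvPolynomial (Fin (r + 1)) k) M]
    [IsScalarTower k (MvPolynomial (Fin (r + 1)) k) M] [Module.Finite (MvPolynomial (Fin (r + 1)) k) M]
    (ℳ : ℤ → Submodule k M) [DirectSum.Decomposition ℳ] [SetLike.GradedSMul (GrSyz.stdGr k (Fin (r + 1))) ℳ]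
    (x : MvPolynomial (Fin (r + 1)) k) (hx : x ∈ GrSyz.stdGr k (Fin (r + 1)) 1)
    (hq : IsFiniteLength (MvPolynomial (Fin (r + 1)) k) ↥(Submodule.torsionBy (MvPolynomial (Fin (r + 1)) k) M x))
    (N : Type u) [AddCommGroup N] [Module k N] [Module (MvPolynomial (Fin (r + 1)) k) N]
    [IsScalarTower k (MvPolynomial (Fin (r + 1)) k) N] [Module.Finite (MvPolynomial (Fin (r + 1)) k) N]
    (𝒩 : ℤ → Submodule k N) [DirectSum.Decomposition 𝒩] [SetLike.GradedSMul (GrSyz.stdGr k (Fin (r + 1))) 𝒩]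
    (π : M →ₗ[MvPolynomial (Fin (r + 1)) k] N) (hπ : Function.Surjective π) (hπg : GrLC.IsGrHom ℳ 𝒩 π)
    (hker : LinearMap.ker π = LinearMap.range (x • (LinearMap.id : M →ₗ[MvPolynomial (Fin (r + 1)) k] M)))
    (E : GrLC.StarInjRes (GrSyz.stdGr k (Fin (r + 1))) ℳ) (E' : GrLC.StarInjRes (GrSyz.stdGr k (Fin (r + 1))) 𝒩) (d : ℤ)
    (hM : ∀ i : ℕ, 0 < i → E.Hcomp (GrSyz.irrel (GrSyz.stdGr k (Fin (r + 1)))) i (d - (i : ℤ) + 1) = ⊥) (i : ℕ) (hi : 0 < i) :
    E'.Hcomp (GrSyz.irrel (GrSyz.stdGr k (Fin (r + 1)))) i (d - (i : ℤ) + 1) = ⊥ := by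
  have htor := GrLib.torsion_of_quasiRegular (ℳ := ℳ) (GrSyz.irrel (GrSyz.stdGr k (Fin (r + 1))))
    (GrLib.stdGr_neg k (r + 1)) (GrLib.irrel_eq_deg_one k (r + 1)) hx hq
  have hxa : x ∈ (GrSyz.irrel (GrSyz.stdGr k (Fin (r + 1)))).toIdeal := by
    rw [GrLib.irrel_eq_deg_one]; exact Ideal.subset_span hx
  rw [GrLib.Hcomp_eq_bot_iff]
  refine GrLib.Hgr_quot_eq_zero _ hx hπ hπg hker htor E E' i _
    ((GrLib.Hcomp_eq_bot_iff _ i _).1 (hM i hi)) ?_
  refine (GrLib.Hcomp_eq_bot_iff _ (i + 1) _).1 ?_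
  rw [show d - (i : ℤ) + 1 - 1 = d - ((i + 1 : ℕ) : ℤ) + 1 by push_cast; ring]
  exact hM (i + 1) (Nat.succ_pos i)

end Groth.Agent.S15419
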