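import Groth.Statements.S15427
import Groth.Agent.GrLib.Hilbert

set_option autoImplicit false
universe u
open GrSyz

namespace Groth.Agent.S15427

theorem mem_span_others {A : Type u} [CommRing A] {N : Type u} [AddCommGroup N] [Module A N] {n : ℕ}
    (x : Fin n → N) (v : Fin n → A) (hv : Fintype.linearCombination A x v = 0) (b : Fin n) (hb : IsUnit (v b)) :
    x b ∈ Submodule.span A (x '' {b' | b' ≠ b}) := by
  classical
  obtain ⟨c, hc⟩ := hb.exists_left_inv
  rw [Fintype.linearCombination_apply, ← Finset.add_sum_erase _ _ (Finset.mem_univ b),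
    add_eq_zero_iff_eq_neg] at hv
  rw [show x b = c • -(∑ j ∈ Finset.univ.erase b, v j • x j) by rw [← hv, ← mul_smul, hc, one_smul]]
  exact Submodule.smul_mem _ _ (neg_mem (sum_mem fun j hj =>
    Submodule.smul_mem _ _ (Submodule.subset_span ⟨j, (Finset.mem_erase.1 hj).1, rfl⟩)))

theorem exists_rel_of_mem_span {A : Type u} [CommRing A] {N : Type u} [AddCommGroup N] [Module A N] {n : ℕ}
    (x : Fin n → N) (b : Fin n) (h : x b ∈ Submodule.span A (x '' {b' | b' ≠ b})) :
    ∃ v : Fin n → A, Fintype.linearCombination A x v = 0 ∧ v b = 1 := by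
  classical
  have key : ∀ y ∈ Submodule.span A (x '' {b' | b' ≠ b}),
      ∃ v : Fin n → A, Fintype.linearCombination A x v = y ∧ v b = 0 := by
    intro y hy
    induction hy using Submodule.span_induction with
    | mem y hy =>
      obtain ⟨j, hj, rfl⟩ := hy
      exact ⟨Pi.single j 1, by simp, Pi.single_eq_of_ne (Ne.symm hj) _⟩
    | zero => exact ⟨0, map_zero _, rfl⟩
    | add y z _ _ hy hz =>
      obtain ⟨v, rfl, hv⟩ := hy
      obtain ⟨w, rfl, hw⟩ := hz
      exact ⟨v + w, map_add _ _ _, by simp [hv, hw]⟩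
    | smul c y _ hy =>
      obtain ⟨v, rfl, hv⟩ := hy
      exact ⟨c • v, map_smul _ _ _, by simp [hv]⟩
  obtain ⟨v, hv, hvb⟩ := key _ h
  exact ⟨Pi.single b 1 - v, by rw [map_sub, hv]; simp, by simp [hvb]⟩

theorem mulVecLin_eq {A : Type u} [CommRing A] {p q : ℕ} (D : Matrix (Fin p) (Fin q) A) :
    Fintype.linearCombination A (fun b a => D a b) = Matrix.mulVecLin D := by
  refine LinearMap.ext fun v => funext fun a => ?_
  rw [Fintype.linearCombination_apply, Matrix.mulVecLin_apply]
  simp [Matrix.mulVec, dotProduct, mul_comm]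



/-- Let k be a field, S = k[x_0, …, x_r] graded by degree, 𝔪 = (x_0, …, x_r), M a finitely generated
ℤ-graded S-module and F a graded free resolution of M by free modules of finite rank with chosen
homogeneous bases, written as matrices d_i : F_{i+1} → F_i together with the images aug b ∈ M of the
basis of F_0. Then F is a minimal complex (every matrix entry lies in 𝔪) if and only if every map of
the resolution carries its basis to an irredundant (minimal) family of generators of its image: for
each b, aug b is not in the S-span of the remaining aug b', and for each i and each column of d_i,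
that column is not in the S-span of the remaining columns. -/
theorem result (k : Type u) [Field k] (r : ℕ)
    (M : Type u) [AddCommGroup M] [Module k M] [Module (MvPolynomial (Fin (r + 1)) k) M]
    [IsScalarTower k (MvPolynomial (Fin (r + 1)) k) M] [Module.Finite (MvPolynomial (Fin (r + 1)) k) M]
    (ℳ : ℤ → Submodule k M) [DirectSum.Decomposition ℳ] [SetLike.GradedSMul (GrSyz.stdGr k (Fin (r + 1))) ℳ]
    (F : GrSyz.FreeRes (GrSyz.stdGr k (Fin (r + 1))) ℳ) :
    F.IsMinimal (GrSyz.irrel (GrSyz.stdGr k (Fin (r + 1)))).toIdeal ↔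
      ((∀ b : Fin (F.rk 0), F.aug b ∉ Submodule.span (MvPolynomial (Fin (r + 1)) k) (F.aug '' {b' | b' ≠ b})) ∧
        ∀ (i : ℕ) (b : Fin (F.rk (i + 1))),
          (fun a => F.d i a b) ∉ Submodule.span (MvPolynomial (Fin (r + 1)) k) ((fun b' a => F.d i a b') '' {b' | b' ≠ b})) := by
  classical
  have hone : (1 : MvPolynomial (Fin (r + 1)) k) ∉ (GrSyz.irrel (GrSyz.stdGr k (Fin (r + 1)))).toIdeal :=
    fun h => GrLib.irrel_ne_top k (r + 1) ((Ideal.eq_top_iff_one _).2 h)
  constructor
  · intro hF
    refine ⟨fun b hb => ?_, fun i b hb => ?_⟩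
    · obtain ⟨v, hv, hv1⟩ := exists_rel_of_mem_span F.aug b hb
      obtain ⟨w, hw⟩ := (SetLike.ext_iff.1 F.exact_zero v).1 hv
      refine hone (hv1 ▸ hw ▸ ?_)
      show (∑ c, F.d 0 b c * w c) ∈ _
      exact sum_mem fun c _ => Ideal.mul_mem_right _ _ (hF 0 b c)
    · obtain ⟨v, hv, hv1⟩ := exists_rel_of_mem_span (fun b' a => F.d i a b') b hb
      rw [mulVecLin_eq] at hv
      obtain ⟨w, hw⟩ := (SetLike.ext_iff.1 (F.exact_succ i) v).1 hv
      refine hone (hv1 ▸ hw ▸ ?_)
      show (∑ c, F.d (i + 1) b c * w c) ∈ _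
      exact sum_mem fun c _ => Ideal.mul_mem_right _ _ (hF (i + 1) b c)
  · rintro ⟨h0, hs⟩ i a b
    by_contra hab
    have hu := GrLib.isUnit_of_notMem k (r + 1) _ _ (F.d_mem i a b) hab
    have hcol : Matrix.mulVecLin (F.d i) (Pi.single b 1) = fun a => F.d i a b := by
      rw [Matrix.mulVecLin_apply, Matrix.mulVec_single_one]
      rfl
    cases i with
    | zero =>
      exact h0 a (mem_span_others F.aug (fun a => F.d 0 a b)
        ((SetLike.ext_iff.1 F.exact_zero _).2 ⟨_, hcol⟩) a hu)
    | succ j =>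
      refine hs j a (mem_span_others (fun b' a => F.d j a b') (fun a => F.d (j + 1) a b) ?_ a hu)
      rw [mulVecLin_eq]
      exact (SetLike.ext_iff.1 (F.exact_succ j) _).2 ⟨_, hcol⟩

end Groth.Agent.S15427
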