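import Groth.Statements.S15431
import Groth.Agent.GrLib.Hilbert

set_option autoImplicit false
universe u
open GrSyz

namespace Groth.Agent.S15431

theorem zero_of_mem_deg_zero {k : Type u} [Field k] {m : ℕ} {p : MvPolynomial (Fin m) k}
    (hp : p ∈ GrSyz.stdGr k (Fin m) 0) (h : p ∈ (GrSyz.irrel (GrSyz.stdGr k (Fin m))).toIdeal) : p = 0 := by
  by_contra hne
  obtain ⟨d, hd⟩ := MvPolynomial.ne_zero_iff.1 hne
  rw [GrLib.irrel_eq, ← Set.image_univ, MvPolynomial.mem_ideal_span_X_image] at h
  obtain ⟨i, -, hi⟩ := h d (MvPolynomial.mem_support_iff.2 hd)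
  have h0 := (GrSyz.mem_stdGr_iff k (Fin m) 0 p).1 hp hd
  rw [Finsupp.weight_apply] at h0
  have := (Finset.sum_eq_zero_iff_of_nonneg (fun j _ => by simp)).1 h0 i (Finsupp.mem_support_iff.2 hi)
  simp at this
  exact hi this



/-- Let k be a field, S = k[x_0, …, x_r] graded by degree, 𝔪 = (x_0, …, x_r), M a finitely generated
ℤ-graded S-module and F a minimal graded free resolution of M by free modules of finite rank with
homogeneous bases (all matrix entries in 𝔪), so that its basis degrees give the graded Betti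
numbers. If for some i the graded Betti numbers β_{i,j} vanish for all j < d, that is every basis
vector of F_i has degree at least d, then β_{i+1,j+1} = 0 for all j < d: every basis vector of
F_{i+1} has degree at least d + 1. -/
theorem result (k : Type u) [Field k] (r : ℕ)
    (M : Type u) [AddCommGroup M] [Module k M] [Module (MvPolynomial (Fin (r + 1)) k) M]
    [IsScalarTower k (MvPolynomial (Fin (r + 1)) k) M] [Module.Finite (MvPolynomial (Fin (r + 1)) k) M]
    (ℳ : ℤ → Submodule k M) [DirectSum.Decomposition ℳ] [SetLike.GradedSMul (GrSyz.stdGr k (Fin (r + 1))) ℳ]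
    (F : GrSyz.FreeRes (GrSyz.stdGr k (Fin (r + 1))) ℳ) (hF : F.IsMinimal (GrSyz.irrel (GrSyz.stdGr k (Fin (r + 1)))).toIdeal) (i : ℕ) (d : ℤ)
    (h : ∀ a : Fin (F.rk i), d ≤ F.deg i a) (b : Fin (F.rk (i + 1))) :
    d + 1 ≤ F.deg (i + 1) b := by
  by_contra hb
  have hz : ∀ a, F.d i a b = 0 := by
    intro a
    rcases lt_or_eq_of_le (show F.deg (i + 1) b - F.deg i a ≤ 0 by have := h a; omega) with hlt | heq
    · exact GrLib.stdGr_neg k _ _ hlt _ (F.d_mem i a b)
    · exact zero_of_mem_deg_zero (heq ▸ F.d_mem i a b) (hF i a b)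
  have hk : Matrix.mulVecLin (F.d i) (Pi.single b 1) = 0 := by
    rw [Matrix.mulVecLin_apply, Matrix.mulVec_single_one]
    exact funext hz
  obtain ⟨w, hw⟩ := (SetLike.ext_iff.1 (F.exact_succ i) _).1 hk
  refine GrLib.irrel_ne_top k (r + 1) ((Ideal.eq_top_iff_one _).2 ?_)
  have hb1 := congrFun hw b
  rw [Pi.single_eq_same] at hb1
  rw [← hb1]
  show (∑ c, F.d (i + 1) b c * w c) ∈ _
  exact sum_mem fun c _ => Ideal.mul_mem_right _ _ (hF (i + 1) b c)

end Groth.Agent.S15431
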