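import Groth.Statements.S15435
import Groth.Agent.CAlgH3.PReg
import Groth.Agent.CAlgH3.PRes
-- import your own Groth.Agent.* helpers here

set_option autoImplicit false
universe u
open GrSyz

namespace Groth.Agent.S15435

open CategoryTheory AlgebraicGeometry TopologicalSpace
open Groth.Agent.GrLib
open Groth.Agent.CAlgH3 Groth.Agent.CAlgH3.GrModExact Groth.Agent.CAlgH3.PosPart Groth.Agent.CAlgH3.PTilde

section
variable {k : Type u} [Field k] {r : ℕ}
variable {M : Type u} [AddCommGroup M] [Module k M] [Module (MvPolynomial (Fin (r + 1)) k) M]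
  (ℳ : ℤ → Submodule k M) [DirectSum.Decomposition ℳ] [SetLike.GradedSMul (GrSyz.stdGr k (Fin (r + 1))) ℳ]
  [SetLike.GradedSMul (CohB1.polyGrading r k) (fun n : ℕ => ℳ (n : ℤ))]

theorem origIso_val {n : ℤ} {s : Γ(T k r ℳ n, (⊤ : (CohB1.ProjSpace r k).Opens))}
    {m : pos (GrSyz.stdGr k (Fin (r + 1))) ℳ} (h : IsGlob n s m) (x) :
    GrMod.val (V := (⊤ : (Proj (CohB1.polyGrading r k)).Opens))
      ((Groth.Agent.CAlgH3.POrig.origIso ℳ n).hom.app ⊤ s) x = LocalizedModule.mk m.1 1 :=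
  (congrArg (GrMod.locMap _ x.1) (h.2 x)).trans (GrMod.locMap_mk _ x.1 _ _)

theorem surjective_globalOf_iff (d : ℕ) :
    Function.Surjective (fun m : ↥(ℳ ((d : ℕ) : ℤ)) =>
        GrTilde.globalOf (CohB1.polyGrading r k) (fun n : ℕ => ℳ (n : ℤ)) m) ↔ GlobSurj k r ℳ (d : ℤ) := by
  constructor
  · intro h s
    obtain ⟨m, hm⟩ := h ((Groth.Agent.CAlgH3.POrig.origIso ℳ (d : ℤ)).hom.app ⊤ s)
    obtain ⟨t, ht⟩ := exists_isGlob (k := k) (r := r) m.2
    refine ⟨⟨m.1, mem_pos_of_mem (by omega) m.2⟩, ?_⟩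
    suffices h2 : (Groth.Agent.CAlgH3.POrig.origIso ℳ (d : ℤ)).hom.app ⊤ t =
        (Groth.Agent.CAlgH3.POrig.origIso ℳ (d : ℤ)).hom.app ⊤ s by
      have hts : t = s := by
        have h3 := congrArg (fun z => (Groth.Agent.CAlgH3.POrig.origIso ℳ (d : ℤ)).inv.app ⊤ z) h2
        have hid := fun a => ConcreteCategory.congr_hom (congrArg (fun φ => Scheme.Modules.Hom.app φ
          (⊤ : (CohB1.ProjSpace r k).Opens)) (Groth.Agent.CAlgH3.POrig.origIso ℳ (d : ℤ)).hom_inv_id) a
        exact ((hid t).symm.trans h3).trans (hid s)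
      exact hts ▸ ht
    refine GrModExact.sext fun x => ?_
    exact (origIso_val ℳ ht x).trans (congrArg (fun z => GrMod.val
      (V := (⊤ : (Proj (CohB1.polyGrading r k)).Opens)) z x) hm : _)
  · intro h s
    obtain ⟨m, hm⟩ := h ((Groth.Agent.CAlgH3.POrig.origIso ℳ (d : ℤ)).inv.app ⊤ s)
    refine ⟨⟨m.1, hm.1⟩, GrModExact.sext fun x => ?_⟩
    refine Eq.trans ?_ (congrArg (fun z => GrMod.val (V := (⊤ : (Proj (CohB1.polyGrading r k)).Opens)) z x)
      (ConcreteCategory.congr_hom (congrArg (fun φ => Scheme.Modules.Hom.app φ (⊤ : (CohB1.ProjSpace r k).Opens))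
        (Groth.Agent.CAlgH3.POrig.origIso ℳ (d : ℤ)).inv_hom_id) s))
    exact (origIso_val ℳ hm x).symm

end

/-- Let k be a field, S = k[x_0, …, x_r] graded by degree, 𝔪 = (x_0, …, x_r), and M a finitely generated
ℤ-graded S-module; M̃ and the M(d)~ denote the O-modules on P^r_k associated with the pieces M_n, n
≥ 0 (they depend only on the pieces of large degree), with the canonical maps M_d → H^0(P^r_k,
M(d)~); graded local cohomology is computed from any *injective resolution in the graded category;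
let d ≥ 0. Then M is d-regular, that is H^0_𝔪(M) has no nonzero piece above degree d and H^i_𝔪(M)
vanishes in degree d − i + 1 for every i > 0, if and only if: (1) the sheaf M̃ is d-regular,
H^i(P^r_k, M̃(d − i)) = 0 for 1 ≤ i ≤ r; (2) H^0_𝔪(M) vanishes in every degree e > d; and (3) the
canonical map from M_d to the global sections of M(d)~ is surjective. (The published statement
allows any integer d; it is stated here for d ≥ 0.) -/
theorem result (k : Type u) [Field k] (r : ℕ)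
    (M : Type u) [AddCommGroup M] [Module k M] [Module (MvPolynomial (Fin (r + 1)) k) M]
    [IsScalarTower k (MvPolynomial (Fin (r + 1)) k) M] [Module.Finite (MvPolynomial (Fin (r + 1)) k) M]
    (ℳ : ℤ → Submodule k M) [DirectSum.Decomposition ℳ] [SetLike.GradedSMul (GrSyz.stdGr k (Fin (r + 1))) ℳ]
    [SetLike.GradedSMul (CohB1.polyGrading r k) (fun n : ℕ => ℳ (n : ℤ))]
    (E : GrLC.StarInjRes (GrSyz.stdGr k (Fin (r + 1))) ℳ) (d : ℕ) :
    (GrLC.endDeg (E.Hgr (GrSyz.irrel (GrSyz.stdGr k (Fin (r + 1)))) 0) ≤ (((d : ℤ) : WithTop ℤ) : WithBot (WithTop ℤ)) ∧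
        ∀ i : ℕ, 0 < i → E.Hcomp (GrSyz.irrel (GrSyz.stdGr k (Fin (r + 1)))) i ((d : ℤ) - (i : ℤ) + 1) = ⊥) ↔
      (Curv2.IsMRegular k r (GrTilde.tilde (CohB1.polyGrading r k) (fun n : ℕ => ℳ (n : ℤ)) 0) (d : ℤ) ∧
        (∀ e : ℤ, (d : ℤ) < e → E.Hcomp (GrSyz.irrel (GrSyz.stdGr k (Fin (r + 1)))) 0 e = ⊥) ∧
        Function.Surjective (fun m : ↥(ℳ ((d : ℕ) : ℤ)) => GrTilde.globalOf (CohB1.polyGrading r k) (fun n : ℕ => ℳ (n : ℤ)) m)) := by
  rw [GrLib.regular_iff E, surjective_globalOf_iff, Groth.Agent.CAlgH3.POrig.isMRegular_iff]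
  constructor
  · intro h
    obtain ⟨F, -, hF⟩ := (GrLib.isRegLE_iff E d).2 h
    refine ⟨fun i hi _ => Groth.Agent.CAlgH3.PRes.V_of_res F _ hi fun q b hq => ?_,
      fun e he => (GrLib.Hcomp_eq_bot_iff _ _ _).2 (h 0 e (by simpa using he)),
      Groth.Agent.CAlgH3.PRes.globSurj_of_res F _ (Int.natCast_nonneg d) (fun b => by simpa using hF 0 b)
        fun q b hq => ?_⟩
    · have := hF q b
      omega
    · have := hF (q + 1) b
      push_cast at this
      omega
  · rintro ⟨h1, h2, h3⟩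
    refine (GrLib.isRegLE_iff E d).1 (Groth.Agent.CAlgH3.PReg.isRegLE_of_good (Int.natCast_nonneg d)
      ⟨fun i hi => ?_, h3, fun e he => Groth.Agent.CAlgH3.PReg.torFree_of_Hgr E
        ((GrLib.Hcomp_eq_bot_iff _ _ _).1 (h2 e he))⟩)
    rcases le_or_gt i r with hir | hir
    · exact h1 i hi hir
    · exact Groth.Agent.CAlgH3.PRing.V_above _ (isQCoh_T _) i hir

end Groth.Agent.S15435
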