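import Groth.Statements.S15437
import Groth.Agent.GrLib.Hilbert

set_option autoImplicit false
universe u
open GrSyz

namespace Groth.Agent.S15437

/-- Let k be a field, S = k[x_0, …, x_r] graded by degree and M a ℤ-graded S-module with a finite graded
free resolution F of length at most m by free modules of finite rank with homogeneous bases; write
β_{i,j} for the number of basis vectors of F_i of degree j (the graded Betti numbers when F is
minimal) and B_j = Σ_{i ≤ m} (−1)^i β_{i,j}. Then for every integer d, dim_k M_d = Σ_j B_j C(r + d −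
j, r), where a binomial with d < j counts as zero and only finitely many j contribute; and the B_j
are recovered from the Hilbert function by B_j = dim_k M_j − Σ_{n < j} B_n C(r + j − n, r). (Stated
for any finite graded free resolution; the published statement takes the minimal one.) -/
theorem result (k : Type u) [Field k] (r : ℕ)
    (M : Type u) [AddCommGroup M] [Module k M] [Module (MvPolynomial (Fin (r + 1)) k) M]
    [IsScalarTower k (MvPolynomial (Fin (r + 1)) k) M] [Module.Finite (MvPolynomial (Fin (r + 1)) k) M]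
    (ℳ : ℤ → Submodule k M) [DirectSum.Decomposition ℳ] [SetLike.GradedSMul (GrSyz.stdGr k (Fin (r + 1))) ℳ]
    (F : GrSyz.FreeRes (GrSyz.stdGr k (Fin (r + 1))) ℳ) (m : ℕ) (hF : F.HasLengthLE m) :
    (∀ d : ℤ, (Module.finrank k ↥(ℳ d) : ℤ) =
        ∑ᶠ j : ℤ, (∑ i ∈ Finset.range (m + 1), (-1 : ℤ) ^ i * (F.betti i j : ℤ)) *
          (if j ≤ d then ((Nat.choose (r + (d - j).toNat) r : ℕ) : ℤ) else 0)) ∧
      ∀ j : ℤ, (∑ i ∈ Finset.range (m + 1), (-1 : ℤ) ^ i * (F.betti i j : ℤ)) =
        (Module.finrank k ↥(ℳ j) : ℤ) -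
          ∑ᶠ n : ℤ, (if n < j then (∑ i ∈ Finset.range (m + 1), (-1 : ℤ) ^ i * (F.betti i n : ℤ)) * ((Nat.choose (r + (j - n).toNat) r : ℕ) : ℤ) else 0) := by
  classical
  let B : ℤ → ℤ := fun j => ∑ i ∈ Finset.range (m + 1), (-1 : ℤ) ^ i * (F.betti i j : ℤ)
  let T : Finset ℤ := (Finset.range (m + 1)).biUnion fun i => Finset.univ.image (F.deg i)
  have hB : ∀ j, j ∉ T → B j = 0 := fun j hj => Finset.sum_eq_zero fun i hi => by
    have h0 : F.betti i j = 0 := Finset.card_eq_zero.2 (Finset.filter_eq_empty_iff.2 fun b _ e =>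
      hj (Finset.mem_biUnion.2 ⟨i, hi, Finset.mem_image.2 ⟨b, Finset.mem_univ b, e⟩⟩))
    rw [h0, Nat.cast_zero, mul_zero]
  have key : ∀ d : ℤ, (Module.finrank k (ℳ d) : ℤ) =
      ∑ j ∈ T, B j * (if j ≤ d then ((Nat.choose (r + (d - j).toNat) r : ℕ) : ℤ) else 0) := by
    intro d
    rw [GrLib.finrank_eq_sum F d m hF]
    simp only [B, Finset.sum_mul]
    rw [Finset.sum_comm]
    refine Finset.sum_congr rfl fun i hi => ?_
    simp only [mul_assoc, ← Finset.mul_sum]
    congr 1
    rw [← Finset.sum_fiberwise_of_maps_to (g := F.deg i) (t := T) fun b _ =>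
      Finset.mem_biUnion.2 ⟨i, hi, Finset.mem_image.2 ⟨b, Finset.mem_univ b, rfl⟩⟩]
    refine Finset.sum_congr rfl fun j _ => ?_
    rw [Finset.sum_congr rfl fun b hb => by rw [(Finset.mem_filter.1 hb).2], Finset.sum_const, nsmul_eq_mul,
      GrLib.hilb]
    exact congrArg₂ (· * ·) rfl (if_congr sub_nonneg rfl rfl)
  have hsum : ∀ f : ℤ → ℤ, (∑ᶠ j : ℤ, B j * f j) = ∑ j ∈ T, B j * f j := fun f =>
    finsum_eq_sum_of_support_subset _ fun j hj => by
      by_contra h
      exact hj (by show B j * f j = 0; rw [hB j h, zero_mul])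
  refine ⟨fun d => (key d).trans (hsum _).symm, fun j => ?_⟩
  show B j = _
  have h2 : (∑ᶠ n : ℤ, (if n < j then B n * ((Nat.choose (r + (j - n).toNat) r : ℕ) : ℤ) else 0)) =
      ∑ n ∈ T, B n * (if n < j then ((Nat.choose (r + (j - n).toNat) r : ℕ) : ℤ) else 0) := by
    rw [← hsum]
    simp only [mul_ite, mul_zero]
  rw [h2, key j, ← Finset.sum_sub_distrib]
  have h3 : ∀ n ∈ T, B n * (if n ≤ j then ((Nat.choose (r + (j - n).toNat) r : ℕ) : ℤ) else 0) -
      B n * (if n < j then ((Nat.choose (r + (j - n).toNat) r : ℕ) : ℤ) else 0) = if n = j then B n else 0 := by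
    intro n _
    rcases lt_trichotomy n j with h | h | h
    · rw [if_pos h.le, if_pos h, if_neg h.ne, sub_self]
    · subst h
      simp
    · rw [if_neg (not_le.2 h), if_neg (not_lt.2 h.le), if_neg h.ne', sub_self]
  rw [Finset.sum_congr rfl h3, Finset.sum_ite_eq']
  by_cases hj : j ∈ T
  · rw [if_pos hj]
  · rw [if_neg hj, hB j hj]

end Groth.Agent.S15437
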