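import Groth.Statements.S15438
import Groth.Agent.CycLib28.TransInt
import Groth.Agent.CycLib28.OrdRestrict
import Groth.Agent.CycLib28.SecOrd
import Groth.Agent.RelVALib.ChowPn

set_option autoImplicit false
universe u
open AlgEqCyc

namespace Groth.Agent.S15438

open AlgebraicGeometry CategoryTheory CategoryTheory.Limits in
/-- Let C be a scheme over a field k that is smooth over k, projective over k, integral and of dimension
one, and let P₁, P₂ be two k-rational points of C. Then the zero-cycle [P₁] − [P₂] on C is an
elementary algebraically trivial cycle: it is the difference of the members, at two k-rational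
points, of a single family of cycles on C parametrised by a smooth projective integral curve over k,
every component of the family dominating the parameter curve. In particular [P₁] and [P₂] are
algebraically equivalent on C. (The published statement is over an algebraically closed field of
characteristic zero, where the points are closed points and algebraic equivalence is considered on
smooth projective schemes; this row allows any field, asks the two points to be k-rational and asks
C to be projective over k.) -/
theorem result (k : Type u) [Field k]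
    (C : Scheme.{u}) [DecidableEq ↥C] (q : C ⟶ Spec (CommRingCat.of k)) (hs : Smooth q)
    (hp : Neron.IsProjectiveOver k (Over.mk q)) (hi : IsIntegral C) (hd : topologicalKrullDim ↥C = 1)
    (P₁ P₂ : Spec (CommRingCat.of k) ⟶ C) (h₁ : P₁ ≫ q = 𝟙 _) (h₂ : P₂ ≫ q = 𝟙 _) :
    AlgEqCyc.IsElemAlgTriv q
      (Function.locallyFinsuppWithin.single (P₁ (IsLocalRing.closedPoint k)) (1 : ℤ) -
        Function.locallyFinsuppWithin.single (P₂ (IsLocalRing.closedPoint k)) (1 : ℤ)) := by
  haveI := hs
  haveI := hi
  haveI : IsSeparated q := by
    obtain ⟨n, ι, hι, hιq⟩ := id hp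
    haveI := hι
    haveI : IsProper (CohB1.ProjSpaceOver.toBase n (Spec (CommRingCat.of k))) := Groth.Agent.RelVALib.isProper_toBase n _
    exact (show q = ι ≫ CohB1.ProjSpaceOver.toBase n (Spec (CommRingCat.of k)) from hιq.symm) ▸ inferInstance
  let d := pullback.diagonal q
  have hd1 : d ≫ pullback.fst q q = 𝟙 C := pullback.diagonal_fst q
  have hd2 : d ≫ pullback.snd q q = 𝟙 C := pullback.diagonal_snd q
  classical
  let W : AlgebraicCycle (pullback q q) ℤ := Function.locallyFinsuppWithin.single (d (genericPoint C)) 1
  have hW : ∀ w, W w ≠ 0 → w = d (genericPoint C) := fun w hw => by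
    simpa [W] using hw
  refine ⟨C, q, hs, hp, hi, hd, W, fun w hw => ?_, P₁, P₂, h₁, h₂, fun x => ?_⟩
  · rw [hW w hw, show pullback.snd q q (d (genericPoint C)) = genericPoint C from
      congrArg (fun m : C ⟶ C => m (genericPoint C)) hd2]
    exact genericPoint_spec C
  have key : ∀ (t : Spec (CommRingCat.of k) ⟶ C) (ht : t ≫ q = 𝟙 _),
      AlgEqCyc.fibreFun q q W t ht x =
        Function.locallyFinsuppWithin.single (t (IsLocalRing.closedPoint k)) (1 : ℤ) x := by
    intro t ht
    set v := AlgEqCyc.slice q q t ht x with hv
    have hv1 : pullback.fst q q v = x :=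
      congrArg (fun m : C ⟶ C => m x) (pullback.lift_fst _ _ _ : AlgEqCyc.slice q q t ht ≫ pullback.fst q q = 𝟙 C)
    have hv2 : pullback.snd q q v = t (IsLocalRing.closedPoint k) :=
      (congrArg (fun m : C ⟶ C => m x) (pullback.lift_snd _ _ _ : AlgEqCyc.slice q q t ht ≫ pullback.snd q q = q ≫ t)).trans
        (congrArg (⇑t) (Subsingleton.elim (α := PrimeSpectrum k) (q x) _))
    have hmem : d (genericPoint C) ⤳ v → v = d x ∧ x = t (IsLocalRing.closedPoint k) := by
      intro h
      obtain ⟨c, hc⟩ := h.mem_closed d.isClosedEmbedding.isClosed_range ⟨_, rfl⟩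
      have e1 : pullback.fst q q (d c) = c := congrArg (fun m : C ⟶ C => m c) hd1
      have e2 : pullback.snd q q (d c) = c := congrArg (fun m : C ⟶ C => m c) hd2
      rw [hc, hv1] at e1
      rw [hc, hv2] at e2
      exact ⟨by rw [e1, hc], e1.trans e2.symm⟩
    by_cases hx : x = t (IsLocalRing.closedPoint k)
    swap
    · rw [AlgEqCyc.fibreFun, finsum_eq_zero_of_forall_eq_zero]
      · simp [hx]
      · rintro ⟨w, hw, hws⟩
        exact absurd (hmem (hW w hw ▸ hws)).2 hx
    have hvd : v = d x := by
      have e : t ≫ AlgEqCyc.slice q q t ht = t ≫ d := by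
        apply pullback.hom_ext
        · rw [Category.assoc, Category.assoc, hd1, AlgEqCyc.slice, pullback.lift_fst]
        · rw [Category.assoc, Category.assoc, hd2, AlgEqCyc.slice, pullback.lift_snd, ← Category.assoc, ht,
            Category.id_comp, Category.comp_id]
      rw [hv, hx]
      exact congrArg (fun m : Spec (CommRingCat.of k) ⟶ pullback q q => m (IsLocalRing.closedPoint k)) e
    have hsp : d (genericPoint C) ⤳ v := by
      rw [hvd]; exact (genericPoint_specializes x).map d.continuous
    have hne : W (d (genericPoint C)) ≠ 0 := by simp [W]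
    rw [AlgEqCyc.fibreFun, finsum_eq_single _ (⟨d (genericPoint C), hne, hsp⟩ : {w : ↥(pullback q q) // W w ≠ 0 ∧ w ⤳ v})
      (fun a ha => absurd (Subtype.ext (hW a.1 a.2.1)) ha)]
    conv_rhs => rw [hx]
    show W (d (genericPoint C)) * (AlgEqCyc.fibreMult (pullback.snd q q) v (d (genericPoint C)) hsp : ℤ) = _
    have hmult : ∀ (v : ↥(pullback q q)) (_ : v = d x) (h : d (genericPoint C) ⤳ v),
        AlgEqCyc.fibreMult (pullback.snd q q) v (d (genericPoint C)) h = 1 := by
      rintro _ rfl h
      have hker : RingHom.ker (Cyc.specMap (d x) (d (genericPoint C)) h) = RingHom.ker (d.stalkMap x).hom := by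
        ext a
        rw [RingHom.mem_ker, RingHom.mem_ker, ← map_eq_zero (d.residueFieldMap (genericPoint C)).hom]
        have e := Groth.Agent.CycLib28.residueFieldMap_specMap d (genericPoint_specializes x) a
        refine ⟨fun h0 => ?_, fun h0 => ?_⟩
        · have h1 := e.symm.trans h0
          rwa [← RingHom.mem_ker, Groth.Agent.CycLib28.ker_specMap_genericPoint, Ideal.mem_bot] at h1
        · exact e.trans (by rw [h0, map_zero])
      have hmax : RingHom.ker (d.stalkMap x).hom ⊔ (IsLocalRing.maximalIdeal (C.presheaf.stalk (pullback.snd q q (d x)))).map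
          ((pullback.snd q q).stalkMap (d x)).hom = IsLocalRing.maximalIdeal _ := by
        have hs := d.stalkMap_surjective x
        have key : ∀ (m : C ⟶ C) (_ : m = 𝟙 C),
            (IsLocalRing.maximalIdeal (C.presheaf.stalk (m x))).map (m.stalkMap x).hom = IsLocalRing.maximalIdeal _ := by
          rintro m rfl
          rw [Scheme.Hom.stalkMap_id]
          exact Ideal.map_id _
        have e := key _ hd2
        rw [Scheme.Hom.stalkMap_comp] at e
        have e' : ((IsLocalRing.maximalIdeal (C.presheaf.stalk (pullback.snd q q (d x)))).map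
            ((pullback.snd q q).stalkMap (d x)).hom).map (d.stalkMap x).hom = IsLocalRing.maximalIdeal _ := by
          rw [Ideal.map_map]
          exact e
        have e2 := congrArg (Ideal.comap (d.stalkMap x).hom) e'
        rw [Ideal.comap_map_of_surjective _ hs, ← RingHom.ker_eq_comap_bot, IsLocalRing.maximalIdeal_comap,
          sup_comm] at e2
        exact e2
      rw [AlgEqCyc.fibreMult, ← Ideal.map_map,
        (DoubleQuot.quotQuotEquivQuotSupₐ ((pullback q q).presheaf.stalk (d x)) _ _).toLinearEquiv.length_eq,
        hker]
      erw [hmax]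
      rw [Groth.Agent.CycLib28.TransInt.length_residue]
      rfl
    rw [hmult v hvd hsp]
    simp [W]
  rw [key P₁ h₁, key P₂ h₂]
  rfl
end Groth.Agent.S15438
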