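import Groth.Statements.S15439
import Groth.Agent.CycLib28.AlgEqCurve

set_option autoImplicit false
universe u
open AlgEqCyc

namespace Groth.Agent.S15439

open AlgebraicGeometry CategoryTheory CategoryTheory.Limits in
/-- Let k be an algebraically closed field, X a scheme over k and C₁, …, Cₙ finitely many closed
subschemes of X, given as closed immersions ιᵢ : Cᵢ → X over k, such that each Cᵢ is smooth over k,
projective over k, integral and of dimension one and such that the union of the ιᵢ(Cᵢ) is a
connected subset of X. Then for any two k-rational points P and Q of X lying on this union, the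
zero-cycles [P] and [Q] on X are algebraically equivalent: [P] − [Q] lies in the subgroup of cycles
on X generated by the elementary algebraically trivial ones. (The published statement speaks of a
connected curve whose irreducible components are smooth and integral and of two of its points,
inside an ambient smooth projective scheme over an algebraically closed field of characteristic
zero; this row takes any finite family of such curves with connected union in any k-scheme X, k
algebraically closed, and k-rational points.) -/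
theorem result (k : Type u) [Field k]
    [IsAlgClosed k] (X : Scheme.{u}) [DecidableEq ↥X] (p : X ⟶ Spec (CommRingCat.of k)) (n : ℕ)
    (C : Fin n → Scheme.{u}) (q : (i : Fin n) → (C i ⟶ Spec (CommRingCat.of k)))
    (ι : (i : Fin n) → (C i ⟶ X)) (hι : ∀ i, IsClosedImmersion (ι i)) (hq : ∀ i, ι i ≫ p = q i)
    (hs : ∀ i, Smooth (q i)) (hpr : ∀ i, Neron.IsProjectiveOver k (Over.mk (q i)))
    (hint : ∀ i, IsIntegral (C i)) (hd : ∀ i, topologicalKrullDim ↥(C i) = 1)
    (hconn : _root_.IsConnected (⋃ i, Set.range ⇑(ι i)))
    (P Q : Spec (CommRingCat.of k) ⟶ X) (hP : P ≫ p = 𝟙 _) (hQ : Q ≫ p = 𝟙 _)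
    (hPC : P (IsLocalRing.closedPoint k) ∈ ⋃ i, Set.range ⇑(ι i))
    (hQC : Q (IsLocalRing.closedPoint k) ∈ ⋃ i, Set.range ⇑(ι i)) :
    AlgEqCyc.IsAlgEquiv p (Function.locallyFinsuppWithin.single (P (IsLocalRing.closedPoint k)) (1 : ℤ))
      (Function.locallyFinsuppWithin.single (Q (IsLocalRing.closedPoint k)) (1 : ℤ)) := by
  have hcl : ∀ (P : Spec (CommRingCat.of k) ⟶ X) (i : Fin n) (hP : P ≫ p = 𝟙 _),
      P (IsLocalRing.closedPoint k) ∈ Set.range ⇑(ι i) → IsClosed ({P (IsLocalRing.closedPoint k)} : Set X) := by
    intro P i hP hmem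
    haveI := hι i
    haveI := hs i
    obtain ⟨c, hc⟩ := hmem
    haveI := CycLib28.AlgEqCurve.isSeparated_of_projective (q i) (hpr i)
    haveI : Surjective (pullback.snd (ι i) P) := ⟨fun z => by
      obtain rfl : z = IsLocalRing.closedPoint k := Subsingleton.elim (α := PrimeSpectrum k) _ _
      obtain ⟨w, -, hw⟩ := Scheme.Pullback.exists_preimage_pullback c _ hc
      exact ⟨w, hw⟩⟩
    haveI : IsIso (pullback.snd (ι i) P) := isIso_of_isClosedImmersion_of_surjective _
    let t := inv (pullback.snd (ι i) P) ≫ pullback.fst (ι i) P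
    have ht : t ≫ ι i = P := by
      simp [t, pullback.condition]
    have htq : t ≫ q i = 𝟙 _ := by rw [← hq i, ← Category.assoc, ht, hP]
    haveI : IsClosedImmersion t := isClosedImmersion_of_comp_eq_id _ _ htq
    have h1 : IsClosed (Set.range ⇑(t ≫ ι i)) := (t ≫ ι i).isClosedEmbedding.isClosed_range
    rw [ht] at h1
    convert h1 using 1
    refine Set.ext fun z => ⟨fun hz => ⟨_, (Set.mem_singleton_iff.1 hz).symm⟩, ?_⟩
    rintro ⟨a, rfl⟩
    exact congrArg (⇑P) (Subsingleton.elim (α := PrimeSpectrum k) a _)
  obtain ⟨i, hi⟩ := Set.mem_iUnion.1 hPC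
  obtain ⟨j, hj⟩ := Set.mem_iUnion.1 hQC
  exact CycLib28.AlgEqCurve.isAlgEquiv_of_chain p C q ι hι hq hs hpr hint hd hconn _ _
    (hcl P i hP hi) (hcl Q j hQ hj) hPC hQC
end Groth.Agent.S15439
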