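import Groth.Statements.S15440
import Groth.Agent.CycLib28.AlgEqChain
import Groth.Agent.WeilLib.Cycles
import Groth.Agent.AbVarLib.GeomIntegralSmooth
import Groth.Agent.Models7.ContractP1

set_option autoImplicit false
set_option linter.style.haveILetI false
set_option backward.isDefEq.respectTransparency false
universe u
open AlgEqCyc

namespace Groth.Agent.S15440

open AlgebraicGeometry CategoryTheory CategoryTheory.Limits in
/-- Let k be an algebraically closed field of characteristic zero and X a connected scheme, smooth and
projective over k, with structure morphism p; let δ be the weight function on X induced from weight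
0 on the point Spec k and let α be a zero-cycle on X for δ whose degree over k is zero. Then α is
algebraically equivalent to zero on X. (This is one inclusion of the published statement, which
asserts that on such an X the zero-cycles of degree zero, identified there with the homologically
trivial ones for a fixed Weil cohomology, are exactly the algebraically trivial zero-cycles; the
reverse inclusion is not stated here.) -/
theorem result (k : Type u) [Field k]
    [IsAlgClosed k] [CharZero k] (X : Scheme.{u}) (p : X ⟶ Spec (CommRingCat.of k)) [QuasiCompact p]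
    (hs : Smooth p) (hp : Neron.IsProjectiveOver k (Over.mk p)) (hc : ConnectedSpace ↥X)
    (δ : ↥X → ℤ) (hδ : Cyc.DeltaCompat p δ (fun _ => 0)) (α : AlgebraicCycle X ℤ)
    (hα : α ∈ Cyc.Zk X δ 0) (hdeg : ChowOps.deg p δ α = 0) :
    AlgEqCyc.IsAlgEquivZero p α := by
  haveI := hs
  classical
  haveI : IsIntegral X := Groth.Agent.AbVarLib.isIntegral_of_smooth_connected p
  haveI hirr : IrreducibleSpace ↥X := inferInstance
  let V : WeilCoh.Var k := ⟨Over.mk p, hs, hp, hirr⟩
  haveI : IsProper p := Groth.Agent.WeilLib.isProper_var V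
  haveI : QuasiCompact V.obj.hom := ‹QuasiCompact p›
  obtain ⟨L, hL⟩ : ∃ L : X.Modules, CohB1.IsAmple L := by
    haveI : IsProper (Over.mk p).hom := ‹IsProper p›
    exact Groth.Agent.Models7.exists_isAmple_of_isProjectiveOver hp
  have hfin := Groth.Agent.WeilLib.finite_support V α
  let s : Finset ↥X := hfin.toFinset
  have hs' : ∀ ξ, α ξ ≠ 0 → ξ ∈ s := fun ξ h => (Set.Finite.mem_toFinset _).2 h
  have hcl : ∀ x ∈ s, IsClosed ({x} : Set ↥X) := fun x hx => by
    have h : δ x = 0 := by_contra fun h => (Set.Finite.mem_toFinset _).1 hx (hα x h)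
    have e := Groth.Agent.WeilLib.delta_eq V δ hδ x
    rw [h] at e
    exact (Groth.Agent.WeilLib.pdim_eq_zero_iff V x).1 (by exact_mod_cast e.symm)
  have hdeg' : ∑ x ∈ s, α x = 0 := by
    refine Eq.trans (Eq.symm ?_) hdeg
    refine (Function.locallyFinsupp.map_apply (R := ℤ) _ _ α _).trans ?_
    rw [finsum_mem_eq_sum_of_inter_support_eq (t := s)]
    · refine Finset.sum_congr rfl fun x hx => ?_
      have h0 : δ x = 0 := by_contra fun h => (Set.Finite.mem_toFinset _).1 hx (hα x h)
      have h1 : p.residueDegree x = 1 := Groth.Agent.WeilLib.residueDegree_hom_of_isClosed V (hcl x hx)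
      unfold AlgebraicCycle.mapCoeff
      rw [if_pos h0, h1, Nat.cast_one, mul_one]
    · ext x
      simp only [Set.mem_inter_iff]
      exact ⟨fun h => ⟨hs' x (left_ne_zero_of_mul h.2), h.2⟩,
        fun h => ⟨Subsingleton.elim (α := PrimeSpectrum k) _ _, h.2⟩⟩
  obtain ⟨x₀, hx₀⟩ : ∃ x : ↥X, IsClosed ({x} : Set ↥X) := Groth.Agent.WeilLib.exists_closedPoint V
  have hsum : α = ∑ x ∈ s, α x •
      (Groth.Agent.CycLib28.AlgEqChain.G x - Groth.Agent.CycLib28.AlgEqChain.G x₀) := by
    simp only [smul_sub, Finset.sum_sub_distrib, ← Finset.sum_smul, hdeg', zero_smul, sub_zero]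
    ext y
    rw [Function.locallyFinsuppWithin.coe_sum, Finset.sum_apply]
    simp only [Function.locallyFinsuppWithin.coe_zsmul, Pi.smul_apply, smul_eq_mul]
    by_cases hy : y ∈ s
    · rw [Finset.sum_eq_single y]
      · simp [Groth.Agent.CycLib28.AlgEqChain.G]
      · intro x _ hx
        simp [Groth.Agent.CycLib28.AlgEqChain.G, Ne.symm hx]
      · exact fun h => absurd hy h
    · rw [Finset.sum_eq_zero]
      · exact not_not.1 fun h => hy (hs' y h)
      · intro x hx
        have hne : y ≠ x := fun e => hy (e ▸ hx)
        simp [Groth.Agent.CycLib28.AlgEqChain.G, hne]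
  show α ∈ AlgEqCyc.algTriv p
  rw [hsum]
  exact AddSubgroup.sum_mem _ fun x hx => AddSubgroup.zsmul_mem _
    (Groth.Agent.CycLib28.AlgEqChain.sub_mem p hL _ (genericPoint ↥X) le_rfl x x₀ (hcl x hx) hx₀
      (genericPoint_specializes x) (genericPoint_specializes x₀)) _

end Groth.Agent.S15440
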