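import Groth.Statements.S15456
-- import your own Groth.Agent.* helpers here
import Groth.Agent.WeilLib.Frobenius
import Groth.Agent.WeilLib.FuncEq

set_option autoImplicit false
universe u v
open CategoryTheory AlgebraicGeometry
open WeilCoh

namespace Groth.Agent.S15456

/-- Let k₀ be a finite field with q elements, k an algebraically closed field containing k₀, H^* a Weil
cohomology theory, with coefficient field K of characteristic zero, on nonsingular connected
projective varieties over k, X a scheme of finite type over k₀ whose base change X̄ = X ×_{k₀} k is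
such a variety (as it is when X is nonsingular, projective and geometrically connected), and F =
Frob_{X,q} × id the k-endomorphism of X̄ induced by the q-Frobenius of X; let n = dim X̄ and E =
(Δ²) the self-intersection of the diagonal of X̄, which equals Σ_i (−1)^i dim_K H^i(X̄). Then Z(X,
1/(q^n t)) = ± q^{nE/2} t^E Z(X, t). Stated in the field K(t) of rational functions for Z(t) = P_1
P_3 ⋯ P_{2n−1} / (P_0 P_2 ⋯ P_{2n}), P_i(t) = det(Id − t F^* | H^i(X̄)) (the reverse of the
characteristic polynomial), which is the zeta function of X by its cohomological factorisation; E is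
written as the alternating sum of the dimensions, nE is even, and the sign is left unspecified as in
the published statement. The q-Frobenius of X is pinned as the endomorphism that is the identity on
points and the q-th power on sections, X̄ as a cartesian square over Spec k → Spec k₀, and F by its
compatibility with the projection to X. -/
theorem result (k₀ : Type u) [Field k₀] [Finite k₀] (k : Type u) [Field k] [IsAlgClosed k] [Algebra k₀ k]
    (K : Type v) [Field K] [CharZero K] (T : WeilCoh.Theory k K)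
    {X : Scheme.{u}} (f : X ⟶ Spec (CommRingCat.of k₀)) [LocallyOfFiniteType f] [QuasiCompact f]
    (FX : X ⟶ X) (hFb : FX.base = 𝟙 _) (hle : ∀ U : X.Opens, U ≤ FX ⁻¹ᵁ U)
    (hFapp : ∀ (U : X.Opens) (s : Γ(X, U)), (FX.appLE U U (hle U)).hom s = s ^ Nat.card k₀)
    (Xb : WeilCoh.Var k) (π : Xb.obj.left ⟶ X)
    (hπ : IsPullback π Xb.obj.hom f (Spec.map (CommRingCat.ofHom (algebraMap k₀ k))))
    (F : Xb ⟶ Xb) (hF : WeilCoh.sm F ≫ π = π ≫ FX) :
    ∃ ε : K, (ε = 1 ∨ ε = -1) ∧
      Polynomial.aeval ((RatFunc.X : RatFunc K)⁻¹ * RatFunc.C ((Nat.card k₀ : K) ^ WeilCoh.dim Xb.obj.left)⁻¹)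
          (∏ i ∈ Finset.range (WeilCoh.dim Xb.obj.left),
            (LinearMap.charpoly (T.pullDeg F ((2 * i + 1 : ℕ) : ℤ))).reverse) /
        Polynomial.aeval ((RatFunc.X : RatFunc K)⁻¹ * RatFunc.C ((Nat.card k₀ : K) ^ WeilCoh.dim Xb.obj.left)⁻¹)
          (∏ i ∈ Finset.range (WeilCoh.dim Xb.obj.left + 1),
            (LinearMap.charpoly (T.pullDeg F ((2 * i : ℕ) : ℤ))).reverse) =
      RatFunc.C ε * RatFunc.C (Nat.card k₀ : K) ^ ((WeilCoh.dim Xb.obj.left : ℤ) * (∑ i ∈ Finset.range (2 * WeilCoh.dim Xb.obj.left + 1), (-1 : ℤ) ^ i * (Module.finrank K ↥(T.gr Xb (i : ℤ)) : ℤ)) / 2) *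
        (RatFunc.X : RatFunc K) ^ (∑ i ∈ Finset.range (2 * WeilCoh.dim Xb.obj.left + 1), (-1 : ℤ) ^ i * (Module.finrank K ↥(T.gr Xb (i : ℤ)) : ℤ)) *
        (algebraMap (Polynomial K) (RatFunc K)
          (∏ i ∈ Finset.range (WeilCoh.dim Xb.obj.left),
            (LinearMap.charpoly (T.pullDeg F ((2 * i + 1 : ℕ) : ℤ))).reverse) /
         algebraMap (Polynomial K) (RatFunc K)
          (∏ i ∈ Finset.range (WeilCoh.dim Xb.obj.left + 1),
            (LinearMap.charpoly (T.pullDeg F ((2 * i : ℕ) : ℤ))).reverse)) := by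
  classical
  obtain ⟨hη, hc⟩ := WeilLib.frobenius_genericPoint f FX hle hFapp Xb π hπ F hF
  have hq : (Nat.card k₀ : K) ≠ 0 := Nat.cast_ne_zero.2 Nat.card_pos.ne'
  have hfin : ∀ r : ℕ, Module.Finite K (T.gr Xb (r : ℤ)) := fun r => T.finite Xb r
  refine WeilLib.rat_functional_equation (WeilCoh.dim Xb.obj.left) (Nat.card k₀) hq
    (fun r => Module.finrank K (T.gr Xb (r : ℤ)))
    (fun r => (-1 : K) ^ Module.finrank K (T.gr Xb (r : ℤ)) * LinearMap.det (T.pullDeg F (r : ℤ)))
    (fun r => LinearMap.charpoly (T.pullDeg F (r : ℤ)))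
    (fun r => LinearMap.charpoly_natDegree _) (fun r => LinearMap.charpoly_monic _) (fun r hr => ?_)
    (fun r hr => ?_) (WeilLib.even_sum_of_symm _ _ (fun r hr => ?_) fun hodd => WeilLib.even_finrank_middle T Xb hodd)
  · have h := WeilLib.det_mul_det T F hη _ hc (i := (r : ℤ)) (j := ((2 * WeilCoh.dim Xb.obj.left - r : ℕ) : ℤ)) (by omega)
    have hB := WeilLib.finrank_compl T Xb (i := (r : ℤ)) (j := ((2 * WeilCoh.dim Xb.obj.left - r : ℕ) : ℤ)) (by omega)
    rw [Nat.cast_pow] at h
    rw [← h, hB]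
    linear_combination (LinearMap.det (T.pullDeg F (r : ℤ)) *
      LinearMap.det (T.pullDeg F ((2 * WeilCoh.dim Xb.obj.left - r : ℕ) : ℤ))) *
      pow_mul_pow_eq_one (Module.finrank K (T.gr Xb ((2 * WeilCoh.dim Xb.obj.left - r : ℕ) : ℤ)))
        (show (-1 : K) * -1 = 1 by ring)
  · have h := WeilLib.det_smul_reverse_charpoly T F hη _ hc (i := (r : ℤ)) (j := ((2 * WeilCoh.dim Xb.obj.left - r : ℕ) : ℤ)) (by omega)
    rw [Nat.cast_pow] at h
    rw [mul_smul, h, Polynomial.smul_eq_C_mul, map_pow Polynomial.C (-1 : K), map_neg, map_one, ← mul_assoc,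
      pow_mul_pow_eq_one _ (show (-1 : Polynomial K) * -1 = 1 by ring), one_mul]
  · exact (WeilLib.finrank_compl T Xb (i := (r : ℤ)) (j := ((2 * WeilCoh.dim Xb.obj.left - r : ℕ) : ℤ)) (by omega)).symm

end Groth.Agent.S15456
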