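import Groth.Statements.S15460
import Groth.Agent.S13085
import Groth.Agent.ZetaLib.LowerCountInt
import Groth.Agent.ZetaLib.SplitPrimes

set_option autoImplicit false
universe u
open CategoryTheory AlgebraicGeometry
open Zeta

namespace Groth.Agent.S15460

open Groth.Agent.ZetaLib

section

variable {X : Scheme.{u}} (f : X ⟶ Spec (CommRingCat.of (ULift.{u} ℤ))) [LocallyOfFiniteType f] [QuasiCompact f]
  (r : ℕ) (hr : topologicalKrullDim X ≤ r)

include f hr in
theorem finite_cycles {n : ℕ} (hn : n ≠ 0) :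
    Finite { α : X →₀ ℕ // (∀ x ∈ α.support, IsClosed ({x} : Set X)) ∧
      α.prod (fun x m => Nat.card (X.residueField x) ^ m) = n } := by
  classical
  have hsum := Groth.Agent.S13086.summable_norms f r hr (σ := (r : ℝ) + 1) (by linarith)
  have hpos : (0 : ℝ) < (n : ℝ) ^ (-((r : ℝ) + 1)) := Real.rpow_pos_of_pos (by exact_mod_cast Nat.pos_of_ne_zero hn) _
  have hfin := Filter.eventually_cofinite.1 (hsum.tendsto_cofinite_zero.eventually_lt_const hpos)
  set S := Subtype.val '' {x : {x : X // IsClosed ({x} : Set X)} |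
    ¬ (Nat.card (X.residueField (x : X)) : ℝ) ^ (-((r : ℝ) + 1)) < (n : ℝ) ^ (-((r : ℝ) + 1))}
  have hS : S.Finite := hfin.image _
  have key : ∀ (α : X →₀ ℕ), (∀ x ∈ α.support, IsClosed ({x} : Set X)) →
      α.prod (fun x m => Nat.card (X.residueField x) ^ m) = n → ∀ x, α x ≤ n ∧ (α x ≠ 0 → x ∈ S) := by
    intro α hcl hprod x
    rcases eq_or_ne (α x) 0 with h0 | h0
    · exact ⟨by omega, fun h => absurd h0 h⟩
    have hx : x ∈ α.support := Finsupp.mem_support_iff.2 h0
    haveI := ZetaLib.finite_residueField f x (hcl x hx)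
    have h2 : 1 < Nat.card (X.residueField x) := Finite.one_lt_card
    have hd : Nat.card (X.residueField x) ^ α x ≤ n := Nat.le_of_dvd (Nat.pos_of_ne_zero hn)
      (hprod ▸ Finset.dvd_prod_of_mem _ hx)
    have h3 := (Nat.lt_pow_self (n := α x) h2).trans_le hd
    refine ⟨h3.le, fun _ => ⟨⟨x, hcl x hx⟩, not_lt.2 ?_, rfl⟩⟩
    exact Real.rpow_le_rpow_of_nonpos (by exact_mod_cast Nat.zero_lt_of_lt h2)
      (by exact_mod_cast (Nat.le_self_pow h0 _).trans hd) (by have := Nat.cast_nonneg (α := ℝ) r; linarith)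
  haveI := hS.to_subtype
  refine Finite.of_injective (fun α (x : S) => (⟨α.1 x.1, Nat.lt_succ_of_le (key α.1 α.2.1 α.2.2 x.1).1⟩ : Fin (n + 1)))
    fun α β h => Subtype.ext (Finsupp.ext fun x => ?_)
  by_cases hx : x ∈ S
  · exact congrArg Fin.val (congrFun h ⟨x, hx⟩)
  · rw [not_not.1 fun h0 => hx ((key α.1 α.2.1 α.2.2 x).2 h0), not_not.1 fun h0 => hx ((key β.1 β.2.1 β.2.2 x).2 h0)]

include f hr in
theorem coeff_mono {Y : Scheme.{u}} (i : Y ⟶ X) [IsImmersion i] {n : ℕ} (hn : n ≠ 0) :
    ‖Zeta.arithCoeff Y n‖ ≤ ‖Zeta.arithCoeff X n‖ := by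
  classical
  rw [Zeta.arithCoeff, Zeta.arithCoeff, Complex.norm_natCast, Complex.norm_natCast, Nat.cast_le]
  have hJ : IsJacobsonRing (ULift.{u} ℤ) := (isJacobsonRing_iso ULift.ringEquiv.symm).mp isJacobsonRing_int
  haveI : JacobsonSpace X := LocallyOfFiniteType.jacobsonSpace f
  have hcl : ∀ y : Y, IsClosed ({y} : Set Y) → IsClosed ({i y} : Set X) := fun y hy => by
    apply isClosed_singleton_of_isLocallyClosed_singleton
    rw [← Set.image_singleton]
    exact hy.isLocallyClosed.image i.isEmbedding.isInducing i.isLocallyClosed_range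
  have hcard : ∀ y : Y, Nat.card (Y.residueField y) = Nat.card (X.residueField (i y)) := fun y =>
    (Nat.card_eq_of_bijective (i.residueFieldMap y).hom ⟨(i.residueFieldMap y).hom.injective, fun z => by
      obtain ⟨a, rfl⟩ := IsLocalRing.residue_surjective z
      obtain ⟨b, rfl⟩ := i.stalkMap_surjective y a
      exact ⟨IsLocalRing.residue _ b, rfl⟩⟩).symm
  haveI := finite_cycles f r hr hn
  refine Nat.card_le_card_of_injective (fun α => ⟨α.1.mapDomain i, fun x hx => ?_, ?_⟩) ?_
  · obtain ⟨y, hy, rfl⟩ := Finset.mem_image.1 (Finsupp.mapDomain_support hx)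
    exact hcl y (α.2.1 y hy)
  · rw [Finsupp.prod_mapDomain_index_inj (h := fun (x : X) m => Nat.card (X.residueField x) ^ m)
      i.isEmbedding.injective]
    exact (Finsupp.prod_congr fun y _ => by rw [hcard]).trans α.2.2
  · intro α β h
    exact Subtype.ext (Finsupp.mapDomain_injective i.isEmbedding.injective (congrArg Subtype.val h))

include f hr in
theorem summable_mono {Y : Scheme.{u}} (i : Y ⟶ X) [IsImmersion i] {s : ℂ}
    (h : LSeriesSummable (Zeta.arithCoeff X) s) : LSeriesSummable (Zeta.arithCoeff Y) s := by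
  refine Summable.of_norm_bounded h.norm fun n => ?_
  rcases eq_or_ne n 0 with rfl | hn
  · rw [LSeries.term_zero, LSeries.term_zero]
  rw [LSeries.norm_term_eq, LSeries.norm_term_eq, if_neg hn, if_neg hn]
  exact div_le_div_of_nonneg_right (coeff_mono f r hr i hn) (Real.rpow_nonneg (Nat.cast_nonneg _) _)

/-- An integral affine piece of full dimension. -/
theorem exists_piece {r : ℕ} (hr : topologicalKrullDim X = r) :
    ∃ (A : CommRingCat.{u}) (i : Spec A ⟶ X), IsImmersion i ∧ IsDomain A ∧ ringKrullDim A = r := by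
  let _ : PartialOrder X := specializationOrder X
  have hr' : Order.krullDim X = r := by rw [← DimLib.topologicalKrullDim_eq_krullDim]; exact hr
  obtain ⟨l, hl⟩ := Order.le_krullDim_iff.1 hr'.ge
  obtain ⟨U, hU, hxU, -⟩ := exists_isAffineOpen_mem_and_subset (U := ⊤) (x := l.head) trivial
  have hmem : ∀ j, l j ∈ U := fun j =>
    (Scheme.le_iff_specializes.1 (l.head_le j)).mem_open U.2 hxU
  obtain ⟨P, hP⟩ : l.last ∈ Set.range hU.fromSpec := by rw [hU.range_fromSpec]; exact hmem _
  let m := CommRingCat.ofHom (Ideal.Quotient.mk P.asIdeal)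
  haveI : IsClosedImmersion (Spec.map m) := IsClosedImmersion.spec_of_surjective _ Ideal.Quotient.mk_surjective
  let i : Spec (CommRingCat.of (Γ(X, U) ⧸ P.asIdeal)) ⟶ X := Spec.map m ≫ hU.fromSpec
  haveI : P.asIdeal.IsPrime := P.isPrime
  haveI : IsImmersion i := inferInstance
  refine ⟨_, i, inferInstance, (Ideal.Quotient.isDomain_iff_prime _).2 P.isPrime, le_antisymm ?_ ?_⟩
  · rw [← hr]
    refine le_trans (le_of_eq ?_) i.isEmbedding.isInducing.topologicalKrullDim_le
    exact (PrimeSpectrum.topologicalKrullDim_eq_ringKrullDim _).symm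
  have hlift : ∀ j, ∃ q : Spec (CommRingCat.of (Γ(X, U) ⧸ P.asIdeal)), i q = l j := by
    intro j
    obtain ⟨Q, hQ⟩ : l j ∈ Set.range hU.fromSpec := by rw [hU.range_fromSpec]; exact hmem _
    have hs : hU.fromSpec P ⤳ hU.fromSpec Q := by rw [hP, hQ]; exact Scheme.le_iff_specializes.1 (l.monotone (Fin.le_last j))
    have hle : P.asIdeal ≤ Q.asIdeal :=
      (PrimeSpectrum.le_iff_specializes _ _).2 (hU.fromSpec.isOpenEmbedding.isInducing.specializes_iff.1 hs)
    obtain ⟨q, hq⟩ : Q ∈ Set.range (Spec.map m) := by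
      show Q ∈ Set.range (PrimeSpectrum.comap (Ideal.Quotient.mk P.asIdeal))
      rw [range_comap_of_surjective _ _ Ideal.Quotient.mk_surjective, Ideal.mk_ker]
      exact hle
    exact ⟨q, by rw [show i q = hU.fromSpec (Spec.map m q) from rfl, hq, hQ]⟩
  choose q hq using hlift
  refine Order.le_krullDim_iff.2 ⟨LTSeries.mk l.length (fun j => (q j.rev : PrimeSpectrum (Γ(X, U) ⧸ P.asIdeal)))
    fun a b hab => ?_, hl⟩
  have hlt : l b.rev < l a.rev := l.strictMono (Fin.rev_lt_rev.2 hab)
  have hs : i (q a.rev) ⤳ i (q b.rev) := by rw [hq, hq]; exact Scheme.le_iff_specializes.1 hlt.le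
  have hne : q a.rev ≠ q b.rev := fun h => hlt.ne (by rw [← hq, ← hq, h])
  exact lt_of_le_of_ne ((PrimeSpectrum.le_iff_specializes _ _).2 (i.isEmbedding.isInducing.specializes_iff.1 hs)) hne

end

theorem card_hom_le_coeff (A : CommRingCat.{u}) [Algebra.FiniteType ℤ A] {p : ℕ} [Fact p.Prime]
    (g : Spec A ⟶ Spec (CommRingCat.of (ULift.{u} ℤ))) [LocallyOfFiniteType g] (r : ℕ)
    (hr : topologicalKrullDim (Spec A) ≤ r) :
    (Nat.card (A →+* ULift.{u} (ZMod p)) : ℝ) ≤ ‖Zeta.arithCoeff (Spec A) p‖ := by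
  classical
  rw [Zeta.arithCoeff, Complex.norm_natCast, Nat.cast_le]
  set F := ULift.{u} (ZMod p)
  haveI := finite_cycles g r hr (n := p) (Fact.out : p.Prime).ne_zero
  have hcast : ∀ z : F, ∃ n : ℤ, (n : F) = z := fun z => by
    obtain ⟨n, hn⟩ := ZMod.intCast_surjective (ULift.ringEquiv z)
    exact ⟨n, (ULift.ringEquiv : F ≃+* ZMod p).injective ((map_intCast _ n).trans hn)⟩
  let pt : (A →+* F) → (Spec A : Scheme.{u}) := fun φ =>
    Spec.map (CommRingCat.ofHom φ) (IsLocalRing.closedPoint F)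
  have hψ : ∀ φ : A →+* F, ∃ ψ : (Spec A).residueField (pt φ) ⟶ CommRingCat.of F,
      Spec.map ψ ≫ (Spec A).fromSpecResidueField (pt φ) = Spec.map (CommRingCat.ofHom φ) := fun φ =>
    ⟨_, Scheme.descResidueField_stalkClosedPointTo_fromSpecResidueField F (Spec A) (Spec.map (CommRingCat.ofHom φ))⟩
  choose ψ hψ using hψ
  have huniq : ∀ x : (Spec A : Scheme.{u}), ∀ a b : (Spec A).residueField x ⟶ CommRingCat.of F, a = b := by
    intro x a b
    refine CommRingCat.hom_ext (RingHom.ext fun z => ?_)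
    obtain ⟨n, hn⟩ := hcast (a.hom z)
    have hz : (n : (Spec A).residueField x) = z := a.hom.injective (by rw [map_intCast, hn])
    rw [← hz, map_intCast, map_intCast]
  have hcardpt : ∀ φ, Nat.card ((Spec A).residueField (pt φ)) = p := fun φ => by
    rw [Nat.card_eq_of_bijective (ψ φ).hom ⟨(ψ φ).hom.injective, fun z => by
      obtain ⟨n, hn⟩ := hcast z
      exact ⟨n, by rw [map_intCast]; exact hn⟩⟩]
    exact (Nat.card_congr Equiv.ulift).trans (Nat.card_zmod p)
  have hclosed : ∀ φ, IsClosed ({pt φ} : Set (Spec A)) := fun φ => by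
    have hsurj : Function.Surjective φ := fun z => by
      obtain ⟨n, hn⟩ := hcast z
      exact ⟨n, by rw [map_intCast]; exact hn⟩
    haveI : IsClosedImmersion (Spec.map (CommRingCat.ofHom φ)) := IsClosedImmersion.spec_of_surjective _ hsurj
    have h := (Spec.map (CommRingCat.ofHom φ)).isClosedEmbedding.isClosedMap _
      (IsLocalRing.isClosed_singleton_closedPoint (R := F))
    convert! h using 1
    ext z
    exact ⟨fun h => ⟨_, rfl, h.symm⟩, fun ⟨x, hx, hxz⟩ => by subst hx; exact hxz.symm⟩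
  refine Nat.card_le_card_of_injective (fun φ => ⟨Finsupp.single (pt φ) 1, fun x hx => ?_, ?_⟩) fun φ φ' h => ?_
  · obtain rfl : x = pt φ := Finset.mem_singleton.1 (Finsupp.support_single_subset hx)
    exact hclosed φ
  · rw [Finsupp.prod_single_index (h := fun x m => Nat.card ((Spec A).residueField x) ^ m) (pow_zero _), pow_one, hcardpt]
  · have hpt : pt φ = pt φ' := Finsupp.single_left_injective one_ne_zero (congrArg Subtype.val h)
    have key : ∀ (x : (Spec A : Scheme.{u})) (a : (Spec A).residueField x ⟶ CommRingCat.of F), x = pt φ' →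
        Spec.map a ≫ (Spec A).fromSpecResidueField x = Spec.map (CommRingCat.ofHom φ') := by
      rintro x a rfl
      rw [huniq _ a (ψ φ'), hψ]
    exact congrArg CommRingCat.Hom.hom (Spec.map_injective ((hψ φ).symm.trans (key _ (ψ φ) hpt)))

/-- If X is an arithmetic scheme (a scheme of finite type over ℤ) of dimension r, the abscissa of
convergence of its zeta function L_X(s) = Σ_{n ≥ 1} a_n n^{−s}, where a_n is the number of effective
0-cycles on X of norm n (nonnegative coefficients, so convergence and absolute convergence agree),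
is ρ = r. -/
theorem result {X : Scheme.{u}}
    (f : X ⟶ Spec (CommRingCat.of (ULift.{u} ℤ))) [LocallyOfFiniteType f] [QuasiCompact f] (r : ℕ)
    (hr : topologicalKrullDim X = r) :
    LSeries.abscissaOfAbsConv (Zeta.arithCoeff X) = (r : ℝ) := by
  classical
  refine le_antisymm (Groth.Agent.S13086.result f r hr.le).1 ?_
  obtain ⟨A, i, _, hdom, hdimA⟩ := exists_piece hr
  let g := i ≫ f
  haveI : LocallyOfFiniteType i := inferInstance
  haveI : LocallyOfFiniteType g := inferInstance
  obtain ⟨φ, hφ⟩ : ∃ φ, Spec.map φ = g := Spec.map_surjective _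
  have hφft : φ.hom.FiniteType := by
    have h : LocallyOfFiniteType (Spec.map φ) := hφ ▸ inferInstance
    exact (HasRingHomProperty.Spec_iff (P := @LocallyOfFiniteType)).mp h
  haveI hftA : Algebra.FiniteType ℤ A := by
    have h' := hφft.comp (RingHom.FiniteType.of_surjective (ULift.ringEquiv (R := ℤ)).symm.toRingHom
      (ULift.ringEquiv (R := ℤ)).symm.surjective)
    rw [RingHom.eq_intCast' (φ.hom.comp _)] at h'
    exact RingHom.finiteType_algebraMap.1 ((RingHom.eq_intCast' (algebraMap ℤ A)).symm ▸ h')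
  have hdimS : topologicalKrullDim (Spec A) = r := by
    rw [← hdimA]; exact PrimeSpectrum.topologicalKrullDim_eq_ringKrullDim _
  -- it suffices to treat `A`
  suffices hA : (r : ℝ) ≤ LSeries.abscissaOfAbsConv (Zeta.arithCoeff (Spec A)) by
    refine hA.trans ?_
    refine LSeries.abscissaOfAbsConv_le_of_forall_lt_LSeriesSummable' fun y hy => ?_
    exact summable_mono f r hr.le i (LSeriesSummable_of_abscissaOfAbsConv_lt_re (by simpa using hy))
  obtain ⟨p, hp⟩ := CharP.exists A
  rcases CharP.char_is_prime_or_zero A p with hpp | h0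
  · haveI : Fact p.Prime := ⟨hpp⟩
    let κ : ULift.{u} (ZMod p) →+* A := (ZMod.castHom (dvd_refl p) A).comp ULift.ringEquiv.toRingHom
    haveI : LocallyOfFiniteType (Spec.map (CommRingCat.ofHom κ)) := by
      refine (HasRingHomProperty.Spec_iff (P := @LocallyOfFiniteType)).2 ?_
      refine RingHom.FiniteType.of_comp_finiteType (f := Int.castRingHom (ULift.{u} (ZMod p))) ?_
      rw [RingHom.eq_intCast' ((CommRingCat.ofHom κ).hom.comp _), ← RingHom.eq_intCast' (algebraMap ℤ A)]
      exact RingHom.finiteType_algebraMap.2 hftA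
    haveI : Finite (ULift.{u} (ZMod p)) := Finite.of_equiv _ Equiv.ulift.symm
    exact (Groth.Agent.S13085.result (k := ULift.{u} (ZMod p)) (Spec.map (CommRingCat.ofHom κ)) r hdimS).ge
  subst h0
  haveI : CharZero A := CharP.charP_to_charZero A
  letI : Algebra ZU.{u} A := ((Int.castRingHom A).comp zuEquiv.toRingHom).toAlgebra
  haveI : Algebra.FiniteType ZU.{u} A := by
    refine RingHom.finiteType_algebraMap.1 ?_
    refine RingHom.FiniteType.of_comp_finiteType (f := Int.castRingHom ZU.{u}) ?_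
    rw [RingHom.eq_intCast' ((algebraMap ZU.{u} A).comp _), ← RingHom.eq_intCast' (algebraMap ℤ A)]
    exact RingHom.finiteType_algebraMap.2 hftA
  obtain ⟨G, c, P₀, hG, hdeg, hc, hlow⟩ := exists_lower_int A hdimA
  by_contra hlt
  rw [not_le] at hlt
  obtain ⟨s₀, hs₀, hs₀r⟩ := EReal.lt_iff_exists_real_btwn.1 hlt
  have hs₀r' : s₀ < r := by exact_mod_cast hs₀r
  have hsum : LSeriesSummable (Zeta.arithCoeff (Spec A)) (s₀ : ℂ) :=
    LSeriesSummable_of_abscissaOfAbsConv_lt_re (by simpa using hs₀)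
  refine not_summable_primes_with_root G hG hdeg (σ := s₀ - ((r : ℝ) - 1)) (by linarith) P₀ ?_
  refine (hsum.norm.mul_left c⁻¹).of_nonneg_of_le
    (fun n => Set.indicator_nonneg (fun m _ => Real.rpow_nonneg (Nat.cast_nonneg _) _) n) fun n => ?_
  by_cases hn : n ∈ {p : ℕ | p.Prime ∧ P₀ ≤ p ∧ ∃ y : ZMod p, (G.map (Int.castRingHom (ZMod p))).eval y = 0}
  · rw [Set.indicator_of_mem hn]
    obtain ⟨hnp, hnP, hroot⟩ := hn
    haveI : Fact n.Prime := ⟨hnp⟩
    have h := (hlow n hnp hnP hroot).trans (card_hom_le_coeff A g r hdimS.le)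
    have hn0 : (0 : ℝ) < n := by exact_mod_cast hnp.pos
    rw [LSeries.norm_term_eq, if_neg hnp.ne_zero, Complex.ofReal_re, inv_mul_eq_div, le_div_iff₀ hc,
      le_div_iff₀ (Real.rpow_pos_of_pos hn0 _), mul_comm _ c, mul_assoc, ← Real.rpow_add hn0]
    refine le_trans (le_of_eq ?_) h
    congr 2
    ring
  · rw [Set.indicator_of_notMem hn]; positivity

end Groth.Agent.S15460
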