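import Groth.Statements.S15465
import Mathlib.CategoryTheory.Abelian.Refinements
-- import your own Groth.Agent.* helpers here

set_option autoImplicit false
universe v u
open HomAlg

namespace Groth.Agent.S15465

open CategoryTheory CategoryTheory.Limits in
/-- In an abelian category let 0 → A₂ → B₂ → C₂ → 0 (maps i₂, π₂), 0 → A₁ → A₂ → A₃ → 0 (maps i₁, p₁)
and 0 → C₁ → C₂ → C₃ → 0 (maps j, q) be short exact sequences, let α = i₁ ≫ i₂ : A₁ → B₂ and β = π₂
≫ q : B₂ → C₃, and let K = ker β / im α be the homology object of the complex A₁ → B₂ → C₃. Let f :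
A₃ → K be the map induced by i₂ (the unique map whose composite with p₁ is the homology class of the
cycle i₂) and g : K → C₁ the map induced by π₂ (the unique map whose composite with j is the map K →
C₂ induced by π₂). Then 0 → A₃ → K → C₁ → 0, with maps f and g, is a short exact sequence. (The
hypotheses w, h₂, h₃ are consequences of i₂ ≫ π₂ = 0, carried so that the maps can be named; the
published statement assumes in addition that the category has enough injective objects, which plays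
no role in this assertion.) -/
theorem result
    {C : Type u} [Category.{v} C] [Abelian C] {A₁ A₂ A₃ B₂ C₁ C₂ C₃ : C}
    (i₁ : A₁ ⟶ A₂) (p₁ : A₂ ⟶ A₃) (wA : i₁ ≫ p₁ = 0) (hA : (ShortComplex.mk i₁ p₁ wA).ShortExact)
    (i₂ : A₂ ⟶ B₂) (π₂ : B₂ ⟶ C₂) (wB : i₂ ≫ π₂ = 0) (hB : (ShortComplex.mk i₂ π₂ wB).ShortExact)
    (j : C₁ ⟶ C₂) (q : C₂ ⟶ C₃) (wC : j ≫ q = 0) (hC : (ShortComplex.mk j q wC).ShortExact)
    (w : (i₁ ≫ i₂) ≫ (π₂ ≫ q) = 0) (h₂ : i₂ ≫ (π₂ ≫ q) = 0) (h₃ : (i₁ ≫ i₂) ≫ π₂ = 0)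
    (f : A₃ ⟶ (CategoryTheory.ShortComplex.mk (i₁ ≫ i₂) (π₂ ≫ q) w).homology)
    (g : (CategoryTheory.ShortComplex.mk (i₁ ≫ i₂) (π₂ ≫ q) w).homology ⟶ C₁)
    (hf : p₁ ≫ f = (CategoryTheory.ShortComplex.mk (i₁ ≫ i₂) (π₂ ≫ q) w).liftCycles i₂ h₂ ≫ (CategoryTheory.ShortComplex.mk (i₁ ≫ i₂) (π₂ ≫ q) w).homologyπ)
    (hg : g ≫ j = (CategoryTheory.ShortComplex.mk (i₁ ≫ i₂) (π₂ ≫ q) w).homologyι ≫ (CategoryTheory.ShortComplex.mk (i₁ ≫ i₂) (π₂ ≫ q) w).descOpcycles π₂ h₃) :
    ∃ wfg : f ≫ g = 0, (ShortComplex.mk f g wfg).ShortExact := by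
  let S := CategoryTheory.ShortComplex.mk (i₁ ≫ i₂) (π₂ ≫ q) w
  haveI : Mono i₁ := hA.mono_f
  haveI : Epi p₁ := hA.epi_g
  haveI : Mono i₂ := hB.mono_f
  haveI : Epi π₂ := hB.epi_g
  haveI : Mono j := hC.mono_f
  haveI : Epi q := hC.epi_g
  have hfι : p₁ ≫ f ≫ S.homologyι = i₂ ≫ S.pOpcycles := by
    rw [← Category.assoc, hf, Category.assoc, ShortComplex.homology_π_ι, ← Category.assoc,
      ShortComplex.liftCycles_i]
  have wfg : f ≫ g = 0 := by
    rw [← cancel_epi p₁, ← cancel_mono j]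
    simp only [Category.assoc, hg, comp_zero, zero_comp]
    rw [← Category.assoc, ← Category.assoc, Category.assoc p₁ f, hfι, Category.assoc, ShortComplex.p_descOpcycles, wB]
  refine ⟨wfg, ?_⟩
  haveI : Mono f := by
    refine Preadditive.mono_of_cancel_zero _ fun {T} a ha => ?_
    obtain ⟨T₁, π, _, a₂, ha₂⟩ := surjective_up_to_refinements_of_epi p₁ a
    have h1 : (a₂ ≫ i₂) ≫ S.pOpcycles = 0 := by
      rw [Category.assoc, ← hfι, ← Category.assoc, ← ha₂, Category.assoc, reassoc_of% ha, zero_comp, comp_zero]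
    obtain ⟨T₂, π', _, a₁, ha₁⟩ := (ShortComplex.exact_of_g_is_cokernel (ShortComplex.mk S.f S.pOpcycles S.f_pOpcycles) S.opcyclesIsCokernel).exact_up_to_refinements
      (a₂ ≫ i₂) h1
    have h2 : π' ≫ a₂ = a₁ ≫ i₁ := by
      rw [← cancel_mono i₂, Category.assoc, Category.assoc]; exact ha₁
    rw [← cancel_epi (π' ≫ π), comp_zero, Category.assoc, ha₂, ← Category.assoc, h2, Category.assoc, wA, comp_zero]
  haveI : Epi g := by
    rw [epi_iff_surjective_up_to_refinements]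
    intro T c
    obtain ⟨T₁, π, _, b, hb⟩ := surjective_up_to_refinements_of_epi π₂ (c ≫ j)
    refine ⟨T₁, π, inferInstance, S.liftCycles b ?_ ≫ S.homologyπ, ?_⟩
    · show b ≫ π₂ ≫ q = 0
      rw [← Category.assoc, ← hb, Category.assoc, Category.assoc, wC, comp_zero, comp_zero]
    rw [← cancel_mono j, Category.assoc, Category.assoc, Category.assoc, hg, ShortComplex.homology_π_ι_assoc,
      ShortComplex.p_descOpcycles, ShortComplex.liftCycles_i_assoc]
    exact hb
  refine { exact := ?_, mono_f := ‹_›, epi_g := ‹_› }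
  rw [ShortComplex.exact_iff_exact_up_to_refinements]
  intro T x hx
  obtain ⟨T₁, π, _, z, hz⟩ := surjective_up_to_refinements_of_epi S.homologyπ x
  have h1 : (z ≫ S.iCycles) ≫ π₂ = 0 := by
    have h3 := congrArg (fun t => π ≫ t ≫ j) (show x ≫ g = 0 from hx)
    simp only [Category.assoc, hg, zero_comp, comp_zero] at h3
    rw [← Category.assoc π, hz, Category.assoc, ShortComplex.homology_π_ι_assoc, ShortComplex.p_descOpcycles] at h3
    rw [Category.assoc]; exact h3
  obtain ⟨T₂, π', _, a₂, ha₂⟩ := hB.exact.exact_up_to_refinements (z ≫ S.iCycles) h1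
  refine ⟨T₂, π' ≫ π, inferInstance, a₂ ≫ p₁, ?_⟩
  show (π' ≫ π) ≫ x = (a₂ ≫ p₁) ≫ f
  rw [Category.assoc, hz, Category.assoc a₂, hf, ← Category.assoc π', ← Category.assoc a₂]
  refine congrArg (· ≫ S.homologyπ) ?_
  rw [← cancel_mono S.iCycles, Category.assoc, Category.assoc, ShortComplex.liftCycles_i]
  exact ha₂

end Groth.Agent.S15465

#print axioms Groth.Agent.S15465.result
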