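import Groth.Statements.S1547
import Groth.Agent.VarietyLib.GeomPoints
import Groth.Agent.FlatMor12.GeomDescent
import Groth.Agent.AbSchLib.RigidityOver

set_option autoImplicit false
universe u
open CategoryTheory CategoryTheory.Limits AlgebraicGeometry
open Variety Groth.Agent Groth.Agent.VarietyLib

namespace Groth.Agent.S1547

/-- Let k be a separably closed field, X a scheme over k and K any field extension of k. Then taking
images along the projection X_K → X is injective on irreducible components: two irreducible
components of X_K with the same image in X are equal. (Together with surjectivity on irreducible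
components, stated separately, this gives a bijection of irreducible components.) -/
theorem result (k : Type u) [Field k] (X : Scheme.{u}) [X.Over (Spec (CommRingCat.of k))] [IsSepClosed k] (K : Type u) [Field K] [Algebra k K]
    (T T' : Set (Curv2.bc k X K : Type u)) (hT : T ∈ irreducibleComponents (Curv2.bc k X K : Type u))
    (hT' : T' ∈ irreducibleComponents (Curv2.bc k X K : Type u))
    (h : (Curv2.bcFst k X K).base '' T = (Curv2.bcFst k X K).base '' T') : T = T' := by
  let f := X ↘ Spec (CommRingCat.of k)
  have : GeometricallyIrreducible (sK k K) := geometricallyIrreducible_algSpec k K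
  have hZ := image_irreducibleComponent k f K hT
  have hirr : IsIrreducible (pullback.fst f (sK k K) ⁻¹' (pullback.fst f (sK k K) '' T)) :=
    Scheme.Hom.isIrreducible_preimage _ (pullback.fst f (sK k K)).isOpenMap hZ.1
  have h1 : T ⊆ pullback.fst f (sK k K) ⁻¹' (pullback.fst f (sK k K) '' T) := Set.subset_preimage_image _ _
  have h2 : T' ⊆ pullback.fst f (sK k K) ⁻¹' (pullback.fst f (sK k K) '' T) := fun z hz =>
    (show pullback.fst f (sK k K) '' T = pullback.fst f (sK k K) '' T' from h).ge ⟨z, hz, rfl⟩
  exact (h1.antisymm (hT.2 hirr h1)).trans (h2.antisymm (hT'.2 hirr h2)).symm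

end Groth.Agent.S1547
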