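import Groth.Statements.S1610
import Groth.Agent.S1541

set_option autoImplicit false
universe u
open CategoryTheory CategoryTheory.Limits AlgebraicGeometry
open Variety
open Groth.Agent
attribute [local instance] Curv2.stalkAlgebra
set_option backward.isDefEq.respectTransparency.types false

namespace Groth.Agent.S1610

open TensorProduct


/-- Let k have characteristic p > 0, X a scheme over k and x a point. Then X is geometrically reduced at
x if and only if for every finite purely inseparable extension k' of k and every point x' of X_{k'}
over x, the local ring of X_{k'} at x' is reduced. -/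
theorem result (k : Type u) [Field k] (p : ℕ) [Fact p.Prime] [CharP k p]
    (X : Scheme.{u}) [X.Over (Spec (CommRingCat.of k))] (x : X) :
    Curv2.IsGeomReducedAt k X x ↔
      ∀ (k' : Type u) [Field k'] [Algebra k k'] [FiniteDimensional k k'] [IsPurelyInseparable k k']
        (x' : Curv2.bc k X k'), Curv2.bcFst k X k' x' = x → IsReduced ((Curv2.bc k X k').presheaf.stalk x') := by
  refine ⟨fun h k' _ _ _ _ x' hx' => h k' x' hx', fun h => (S1541.result k X x).2 ?_⟩
  let B := X.presheaf.stalk x
  let P := perfectClosure k (AlgebraicClosure k)
  haveI hP : _root_.IsReduced (B ⊗[k] P) := by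
    refine IsReduced.tensorProduct_of_flat_of_forall_fg fun S hS => ?_
    haveI : Algebra.IsAlgebraic k S := Algebra.IsAlgebraic.of_injective S.val Subtype.val_injective
    haveI : Algebra.IsIntegral k S := Algebra.IsAlgebraic.isIntegral
    letI : Field S := (isField_of_isIntegral_of_isField' (Field.toIsField k)).toField
    haveI : Algebra.FiniteType k S := S.fg_iff_finiteType.mp hS
    haveI : FiniteDimensional k S := Algebra.IsIntegral.finite
    haveI : IsPurelyInseparable k S := isPurelyInseparable_iff.2 fun a =>
      ⟨Algebra.IsIntegral.isIntegral a, fun ha => by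
        obtain ⟨c, hc⟩ := IsPurelyInseparable.inseparable k (S.val a) (IsSeparable.map S.val Subtype.val_injective ha)
        exact ⟨c, Subtype.ext hc⟩⟩
    exact VarietyLib.isReduced_tensor_of_points k X S x fun z hz => h S z hz
  haveI : _root_.IsReduced (P ⊗[k] B) :=
    isReduced_of_injective (Algebra.TensorProduct.comm k P B) (Algebra.TensorProduct.comm k P B).injective
  rw [Algebra.isGeometricallyReduced_field_iff]
  haveI := AbVarLib.isReduced_field_tensor_perfect P (AlgebraicClosure k) (P ⊗[k] B)
  exact isReduced_of_injective (Algebra.TensorProduct.cancelBaseChange k P (AlgebraicClosure k) (AlgebraicClosure k) B).symm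
    (Algebra.TensorProduct.cancelBaseChange k P (AlgebraicClosure k) (AlgebraicClosure k) B).symm.injective

end Groth.Agent.S1610
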