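import Groth.Statements.S15482
import Groth.Agent.IsoNatLib.QcCrit
import Groth.Agent.Stk19b.OpenSub.Range
open Groth.Agent

set_option autoImplicit false
universe u
open CategoryTheory AlgebraicGeometry
open IsoNat

set_option backward.isDefEq.respectTransparency.types false
set_option backward.isDefEq.respectTransparency false

namespace Groth.Agent.S15482


/-- A morphism f : 𝒳 → 𝒴 of algebraic stacks over a quasi-separated scheme S is quasi-compact (its base
change to every quasi-compact algebraic stack is quasi-compact) if and only if for every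
quasi-compact algebraic stack 𝒴' and every open immersion j : 𝒴' → 𝒴 (representable by open
immersions of algebraic spaces) the 2-fibre product 𝒴' ×_𝒴 𝒳 is quasi-compact. Here an algebraic
stack over a quasi-separated scheme S means a stack in groupoids for the fppf topology with a smooth
surjective atlas from a scheme, whose diagonal is representable by separated quasi-compact morphisms
of algebraic spaces and whose inertia is locally of finite presentation over it. -/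
theorem result
    (S : Scheme.{u}) [QuasiSeparatedSpace S]
    (𝒳 𝒴 : AlgSt.Cat S)
    (h𝒳 : AlgSt.IsAlgStack Scheme.fppfPrecoverage 𝒳)
    (h𝒳d : AlgSt.RepByAlgSpWith (AlgSp.IsSeparatedMor ⊓ AlgSp.IsQuasiCompactMor)
      (FibCat.diag (FibCat.toSelf 𝒳)))
    (h𝒳i : AlgSt.RepByAlgSpWith (AlgSp.LocP @LocallyOfFinitePresentation)
      (FibCat.inertiaToBase (FibCat.toSelf 𝒳)))
    (h𝒴 : AlgSt.IsAlgStack Scheme.fppfPrecoverage 𝒴)
    (h𝒴d : AlgSt.RepByAlgSpWith (AlgSp.IsSeparatedMor ⊓ AlgSp.IsQuasiCompactMor)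
      (FibCat.diag (FibCat.toSelf 𝒴)))
    (h𝒴i : AlgSt.RepByAlgSpWith (AlgSp.LocP @LocallyOfFinitePresentation)
      (FibCat.inertiaToBase (FibCat.toSelf 𝒴)))
    (f : 𝒳 ⥤ᵇ 𝒴) :
    AlgSt.IsQuasiCompactMor Scheme.fppfPrecoverage f ↔
      ∀ (𝒴' : AlgSt.Cat S), AlgSt.IsAlgStack Scheme.fppfPrecoverage 𝒴' → AlgSt.IsQuasiCompact 𝒴' →
        ∀ (j : 𝒴' ⥤ᵇ 𝒴), AlgSt.IsOpenImm j → AlgSt.IsQuasiCompact (FibCat.fp j f) := by
  refine ⟨fun hf 𝒴' h' hq j _ => hf 𝒴' h' hq j, fun H => ?_⟩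
  refine IsoNatLib.qcMor_of_isCompact_preimage h𝒳 h𝒴
    (Stk19.repByAlgSpWith_mono (fun _ _ _ _ h => h.2) h𝒴d) f fun W hW hWc => ?_
  let Q := Stk19b.inSet (𝒳 := 𝒴) W
  have hsub := Stk19b.isOpenSubstack_inSet h𝒴 hW
  obtain ⟨U, g, hU, hg⟩ := IsoNatLib.exists_chart_of_compact_open h𝒴 hW hWc
  have hgQ : ∀ a, Q (g.obj a) := fun a => (Stk19b.inSet_chart_iff h𝒴.isStack.1 g a W).2 fun k => hg ▸ ⟨_, rfl⟩
  let x : FibCat.overCat U ⥤ᵇ AlgSt.fullSub 𝒴 Q :=
    { toFunctor := ObjectProperty.lift _ g.toFunctor hgQ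
      w := g.w }
  have hx : Function.Surjective (AlgSt.Points.ofChart x) := fun z => by
    have hz : AlgSt.Points.map (AlgSt.subIncl 𝒴 Q) z ∈ W :=
      Stk19b.range_subIncl_inSet W h𝒴.isStack.1 ▸ ⟨z, rfl⟩
    rw [← hg] at hz
    obtain ⟨t, ht⟩ := hz
    exact ⟨t, Stk19b.points_map_subIncl_injective h𝒴.isStack.1 (fun _ _ φ h => Stk19b.inSet_of_hom φ h) ht⟩
  have := Stk19.compactSpace_points_of_chart hsub.2.1 x hx
  have hfp := Stk19.isAlgStack_fp h𝒴.isStack h𝒴.diag hsub.2.1 h𝒳 (AlgSt.subIncl 𝒴 Q) f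
  have := Stk19.compactSpace_points_of_qc hfp
    (H _ hsub.2.1 (Stk19.isQuasiCompact_of_compactSpace hsub.2.1) (AlgSt.subIncl 𝒴 Q) hsub.2.2)
  have hrange : AlgSt.Points.map f ⁻¹' W = Set.range (AlgSt.Points.map (FibCat.fpSnd (AlgSt.subIncl 𝒴 Q) f)) := by
    ext p
    constructor
    · intro hp
      have hp' : AlgSt.Points.map f p ∈ Set.range (AlgSt.Points.map (AlgSt.subIncl 𝒴 Q)) :=
        (Stk19b.range_subIncl_inSet W h𝒴.isStack.1).symm ▸ hp
      obtain ⟨z, hz⟩ := hp'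
      obtain ⟨w, -, hw⟩ := Stk19.exists_points_fp h𝒳.isStack.1 h𝒴.isStack.1 hsub.2.1.isStack.1 f
        (AlgSt.subIncl 𝒴 Q) z p hz
      exact ⟨w, hw⟩
    · rintro ⟨w, rfl⟩
      show AlgSt.Points.map f _ ∈ W
      rw [← Stk19b.range_subIncl_inSet W h𝒴.isStack.1]
      refine ⟨AlgSt.Points.map (FibCat.fpFst (AlgSt.subIncl 𝒴 Q) f) w, ?_⟩
      rw [← Stk19.points_map_comp, ← Stk19.points_map_comp]
      exact Stk19.points_map_congr (FibCat.fpIso (AlgSt.subIncl 𝒴 Q) f) w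
  rw [hrange]
  exact isCompact_range (Stk19.continuous_points_map h𝒳 _)

end Groth.Agent.S15482
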