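import Groth.Statements.S15488
import Mathlib.GroupTheory.Coset.Card
import Mathlib.GroupTheory.OrderOfElement
import Mathlib.GroupTheory.SpecificGroups.Cyclic
import Mathlib.LinearAlgebra.Dimension.Free
import Mathlib.LinearAlgebra.Dimension.Constructions
import Mathlib.LinearAlgebra.FreeModule.StrongRankCondition

set_option autoImplicit false
universe u
open IsoNat

namespace Groth.Agent.S15488

/-- Let A be a nontrivial commutative ring, G a finite group, g an element of G of order ν and l an
element of A with l ^ ν = 1. In the free A-module of functions G → A (the regular representation, g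
acting by translation v ↦ v(g·)), the submodule of v with v(g h) = l v(h) for all h is a direct
summand, free of rank |G| / ν (stated as: free, rank · ν = |G|, and a complementary submodule
exists). (The published statement is over an arbitrary ring and also covers Hom(A^N, −) of the
regular representation, which follows; nontriviality of A is needed for the rank to be meaningful.) -/
theorem result
    (A : Type u) [CommRing A] [Nontrivial A] (G : Type u) [Group G] [Finite G]
    (g : G) (l : A) (hl : l ^ orderOf g = 1) :
    Module.Free A (LinearMap.ker (LinearMap.funLeft A A (fun h : G => g * h) - l • LinearMap.id)) ∧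
      Module.finrank A (LinearMap.ker (LinearMap.funLeft A A (fun h : G => g * h) - l • LinearMap.id)) * orderOf g = Nat.card G ∧
      ∃ E' : Submodule A (G → A), IsCompl (LinearMap.ker (LinearMap.funLeft A A (fun h : G => g * h) - l • LinearMap.id)) E' := by
  classical
  have := Fintype.ofFinite G
  let H := Subgroup.zpowers g
  let Q := Quotient (QuotientGroup.rightRel H)
  have := Fintype.ofFinite Q
  set K := LinearMap.ker (LinearMap.funLeft A A (fun h : G => g * h) - l • LinearMap.id) with hKdef
  have hmemK : ∀ v, v ∈ K ↔ ∀ h, v (g * h) = l * v h := fun v => by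
    simp [K, sub_eq_zero, funext_iff, LinearMap.funLeft_apply]
  have hexk : ∀ h : G, ∃ k : ℕ, h = g ^ k * Quotient.out (Quotient.mk'' h : Q) := by
    intro h
    have h1 : (QuotientGroup.rightRel H) (Quotient.out (Quotient.mk'' h : Q)) h := Quotient.mk_out _
    rw [QuotientGroup.rightRel_apply] at h1
    obtain ⟨k, hk⟩ := mem_zpowers_iff_mem_range_orderOf.1 h1 |> Finset.mem_image.1
    exact ⟨k, by rw [hk.2, mul_assoc, inv_mul_cancel, mul_one]⟩
  choose k hk using hexk
  let ρ : (G → A) →ₗ[A] (Q → A) := LinearMap.funLeft A A (fun c : Q => Quotient.out c)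
  let ext : (Q → A) →ₗ[A] (G → A) :=
    { toFun := fun w h => l ^ k h * w (Quotient.mk'' h)
      map_add' := fun w w' => by ext h; simp [mul_add]
      map_smul' := fun a w => by ext h; simp [mul_left_comm] }
  have hpow : ∀ i j : ℕ, g ^ i = g ^ j → l ^ i = l ^ j := fun i j hij => by
    rw [← Nat.div_add_mod i (orderOf g), ← Nat.div_add_mod j (orderOf g), pow_add, pow_add, pow_mul, pow_mul, hl,
      one_pow, one_pow, (pow_eq_pow_iff_modEq.1 hij : i % orderOf g = j % orderOf g)]
  have hcls : ∀ h, (Quotient.mk'' (g * h) : Q) = Quotient.mk'' h := fun h => by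
    apply Quotient.sound'
    rw [QuotientGroup.rightRel_apply]
    simp [H]
  have hextK : ∀ w, ext w ∈ K := fun w => (hmemK _).2 fun h => by
    show l ^ k (g * h) * w _ = l * (l ^ k h * w _)
    rw [hcls, ← mul_assoc l, ← pow_succ']
    congr 1
    apply hpow
    have := hk (g * h)
    rw [hcls] at this
    have h2 := congrArg (g * ·) (hk h)
    simp only [← mul_assoc, ← pow_succ'] at h2
    exact mul_right_cancel (this.symm.trans h2)
  have hρext : ∀ w, ρ (ext w) = w := fun w => by
    funext c
    show l ^ k (Quotient.out c) * w (Quotient.mk'' (Quotient.out c)) = w c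
    rw [Quotient.out_eq']
    have := hk (Quotient.out c)
    rw [Quotient.out_eq'] at this
    rw [hpow (k (Quotient.out c)) 0 (by rw [pow_zero]; exact mul_eq_right.1 this.symm), pow_zero, one_mul]
  have hextρ : ∀ v ∈ K, ext (ρ v) = v := fun v hv => by
    have hit : ∀ (i : ℕ) h, v (g ^ i * h) = l ^ i * v h := by
      intro i
      induction i with
      | zero => simp
      | succ i ih => intro h; rw [pow_succ', mul_assoc, (hmemK v).1 hv, ih, pow_succ', mul_assoc]
    funext h
    show l ^ k h * v (Quotient.out (Quotient.mk'' h : Q)) = v h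
    rw [← hit, ← hk]
  let e : K ≃ₗ[A] (Q → A) := LinearEquiv.ofLinear (ρ.comp K.subtype) (ext.codRestrict K hextK)
    (LinearMap.ext hρext) (LinearMap.ext fun v => Subtype.ext (hextρ v.1 v.2))
  have hfree : Module.Free A K := Module.Free.of_equiv e.symm
  refine ⟨hfree, ?_, LinearMap.ker ρ, ?_⟩
  · rw [e.finrank_eq, Module.finrank_pi, ← Nat.card_eq_fintype_card,
      Nat.card_congr (QuotientGroup.quotientRightRelEquivQuotientLeftRel H), ← Nat.card_zpowers, mul_comm, mul_comm,
      ← Subgroup.card_eq_card_quotient_mul_card_subgroup]
  · refine IsCompl.of_eq (Submodule.eq_bot_iff _ |>.2 fun v hv => ?_) (eq_top_iff.2 fun v _ => ?_)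
    · rw [← hextρ v hv.1, LinearMap.mem_ker.1 hv.2, map_zero]
    · rw [Submodule.mem_sup]
      exact ⟨ext (ρ v), hextK _, v - ext (ρ v), by simp [hρext], by abel⟩

end Groth.Agent.S15488
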