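import Groth.Statements.S15491
open CategoryTheory CategoryTheory.Limits CategoryTheory.Functor

set_option autoImplicit false
universe v u
open CategoryTheory CategoryTheory.Functor
open IsoNat

namespace Groth.Agent.S15491

open CategoryTheory in
theorem fullOf {C D : Type*} [Category C] [Category D] {F : C ⥤ D} (h : F.IsEquivalence) (X Y : C)
    (φ : F.obj X ⟶ F.obj Y) : ∃ f : X ⟶ Y, F.map f = φ :=
  ⟨(haveI := h; F.preimage φ), (haveI := h; F.map_preimage φ)⟩

open CategoryTheory in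
theorem faithOf {C D : Type*} [Category C] [Category D] {F : C ⥤ D} (h : F.IsEquivalence) {X Y : C}
    {f g : X ⟶ Y} (e : F.map f = F.map g) : f = g :=
  haveI := h; F.map_injective e

open CategoryTheory in
theorem surjOf {C D : Type*} [Category C] [Category D] {F : C ⥤ D} (h : F.IsEquivalence) (d : D) :
    ∃ c, Nonempty (F.obj c ≅ d) :=
  haveI := h; ⟨F.objPreimage d, ⟨F.objObjPreimageIso d⟩⟩

open CategoryTheory CategoryTheory.Limits in
theorem paste {A B A' B' A'' B'' : Type u} [Category.{v} A] [Category.{v} B] [Category.{v} A'] [Category.{v} B']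
    [Category.{v} A''] [Category.{v} B'']
    (t : A ⥤ B) (l : A ⥤ A') (r : B ⥤ B') (t' : A' ⥤ B') (l' : A' ⥤ A'') (r' : B' ⥤ B'') (t'' : A'' ⥤ B'')
    (e₁ : t ⋙ r ≅ l ⋙ t') (e₂ : t' ⋙ r' ≅ l' ⋙ t'')
    (h₂ : FibCat.IsTwoCart t' l' r' t'' e₂) (e : t ⋙ r ⋙ r' ≅ (l ⋙ l') ⋙ t'')
    (he : ∀ a, e.hom.app a = r'.map (e₁.hom.app a) ≫ e₂.hom.app (l.obj a)) :
    FibCat.IsTwoCart t l r t' e₁ ↔ FibCat.IsTwoCart t (l ⋙ l') (r ⋙ r') t'' e := by
  unfold FibCat.IsTwoCart at *
  have n1 : ∀ {a a₂ : A} (f : a ⟶ a₂), t'.map (l.map f) = e₁.inv.app a ≫ r.map (t.map f) ≫ e₁.hom.app a₂ := by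
    intro a a₂ f
    have h := e₁.hom.naturality f
    simp only [Functor.comp_map, Functor.comp_obj] at h
    rw [h, Iso.inv_hom_id_app_assoc]
  have hc : ∀ (a : A) {Z : B''} (q : r'.obj (t'.obj (l.obj a)) ⟶ Z),
      r'.map (e₁.inv.app a) ≫ r'.map (e₁.hom.app a) ≫ q = q := by
    intro a Z q
    have h := congrArg r'.map (e₁.inv_hom_id_app a)
    simp only [Functor.map_comp, CategoryTheory.Functor.map_id, Functor.comp_obj] at h
    exact (Category.assoc _ _ _).symm.trans ((congrArg (· ≫ q) h).trans (Category.id_comp q))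
  -- the comparison of the bottom square, on morphisms and objects
  have faith₂ : ∀ {x y : A'} {f g : x ⟶ y}, t'.map f = t'.map g → l'.map f = l'.map g → f = g :=
    fun hf hg => faithOf h₂ (CategoricalPullback.hom_ext hf hg)
  have full₂ : ∀ {x y : A'} (u : t'.obj x ⟶ t'.obj y) (w : l'.obj x ⟶ l'.obj y),
      r'.map u ≫ e₂.hom.app y = e₂.hom.app x ≫ t''.map w → ∃ f : x ⟶ y, t'.map f = u ∧ l'.map f = w := by
    intro x y u w hw
    obtain ⟨f, hf⟩ := fullOf h₂ x y ⟨u, w, hw⟩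
    exact ⟨f, congrArg (fun φ => φ.fst) hf, congrArg (fun φ => φ.snd) hf⟩
  have iso₂ : ∀ {x y : A'} (u : t'.obj x ≅ t'.obj y) (w : l'.obj x ≅ l'.obj y),
      r'.map u.hom ≫ e₂.hom.app y = e₂.hom.app x ≫ t''.map w.hom →
        ∃ f : x ≅ y, t'.map f.hom = u.hom ∧ l'.map f.hom = w.hom := by
    intro x y u w hw
    have hw' : r'.map u.inv ≫ e₂.hom.app x = e₂.hom.app y ≫ t''.map w.inv := by
      rw [← cancel_mono (t''.map w.hom), Category.assoc, Category.assoc, ← hw, ← Functor.map_comp_assoc]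
      simp [← Functor.map_comp]
    obtain ⟨f, hf1, hf2⟩ := full₂ u.hom w.hom hw
    obtain ⟨g, hg1, hg2⟩ := full₂ u.inv w.inv hw'
    exact ⟨⟨f, g, faith₂ (by simp [hf1, hg1]) (by simp [hf2, hg2]), faith₂ (by simp [hf1, hg1]) (by simp [hf2, hg2])⟩,
      hf1, hf2⟩
  have surj₂ : ∀ (b : B') (a'' : A'') (ε : r'.obj b ≅ t''.obj a''), ∃ (x : A') (α : t'.obj x ≅ b) (β : l'.obj x ≅ a''),
      r'.map α.hom ≫ ε.hom = e₂.hom.app x ≫ t''.map β.hom := by
    intro b a'' ε
    obtain ⟨x, ⟨i⟩⟩ := surjOf h₂ ⟨b, a'', ε⟩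
    exact ⟨x, (CategoricalPullback.π₁ _ _).mapIso i, (CategoricalPullback.π₂ _ _).mapIso i, i.hom.w⟩
  refine ⟨fun h₁ => ?_, fun h => ?_⟩
  · refine { faithful := ⟨fun {a a₂} f g hfg => ?_⟩, full := ⟨fun {a a₂} φ => ?_⟩, essSurj := ⟨fun p => ?_⟩ }
    · have ht : t.map f = t.map g := congrArg (fun φ => φ.fst) hfg
      have hl : l'.map (l.map f) = l'.map (l.map g) := congrArg (fun φ => φ.snd) hfg
      exact faithOf h₁ (CategoricalPullback.hom_ext ht (faith₂ ((n1 f).trans ((congrArg (fun q => e₁.inv.app a ≫ r.map q ≫ e₁.hom.app a₂) ht).trans (n1 g).symm)) hl))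
    · obtain ⟨u, w, hw⟩ := φ
      change r'.map (r.map u) ≫ e.hom.app a₂ = e.hom.app a ≫ t''.map w at hw
      rw [he, he] at hw
      simp only [Category.assoc] at hw
      obtain ⟨v, hv1, hv2⟩ := full₂ (e₁.inv.app a ≫ r.map u ≫ e₁.hom.app a₂) w (by
        simp only [Functor.map_comp, Category.assoc]
        exact (congrArg (r'.map (e₁.inv.app a) ≫ ·) hw).trans (hc a _))
      obtain ⟨f, hf⟩ := fullOf h₁ a a₂
        ⟨u, v, by
          show r.map u ≫ e₁.hom.app a₂ = e₁.hom.app a ≫ t'.map v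
          rw [hv1]
          exact (Iso.hom_inv_id_app_assoc e₁ a _).symm⟩
      exact ⟨f, CategoricalPullback.hom_ext (congrArg (fun φ => φ.fst) hf)
        ((congrArg l'.map (congrArg CategoricalPullback.Hom.snd hf)).trans hv2)⟩
    · obtain ⟨b, a'', ε⟩ := p
      obtain ⟨x, α, β, hx⟩ := surj₂ (r.obj b) a'' ε
      obtain ⟨a, ⟨i⟩⟩ := surjOf h₁ ⟨b, x, α.symm⟩
      let δ : l.obj a ≅ x := (CategoricalPullback.π₂ _ _).mapIso i
      let γ : t.obj a ≅ b := (CategoricalPullback.π₁ _ _).mapIso i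
      have hi : r.map γ.hom ≫ α.inv = e₁.hom.app a ≫ t'.map δ.hom := i.hom.w
      refine ⟨a, ⟨CategoricalPullback.mkIso γ (l'.mapIso δ ≪≫ β) ?_⟩⟩
      show r'.map (r.map γ.hom) ≫ ε.hom = e.hom.app a ≫ t''.map (l'.map δ.hom ≫ β.hom)
      have n2 := e₂.hom.naturality δ.hom
      simp only [Functor.comp_map, Functor.comp_obj] at n2
      rw [he, Category.assoc, Functor.map_comp, ← reassoc_of% n2, ← hx, ← Functor.map_comp_assoc,
        ← Functor.map_comp_assoc, Category.assoc, ← reassoc_of% hi, α.inv_hom_id, Category.comp_id]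
  · refine { faithful := ⟨fun {a a₂} f g hfg => ?_⟩, full := ⟨fun {a a₂} φ => ?_⟩, essSurj := ⟨fun p => ?_⟩ }
    · have ht : t.map f = t.map g := congrArg (fun φ => φ.fst) hfg
      have hl : l.map f = l.map g := congrArg (fun φ => φ.snd) hfg
      exact faithOf h (CategoricalPullback.hom_ext ht (congrArg l'.map hl))
    · obtain ⟨u, v, hv⟩ := φ
      change l.obj a ⟶ l.obj a₂ at v
      change r.map u ≫ e₁.hom.app a₂ = e₁.hom.app a ≫ t'.map v at hv
      have n2 := e₂.hom.naturality v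
      simp only [Functor.comp_map, Functor.comp_obj] at n2
      obtain ⟨f, hf⟩ := fullOf h a a₂
        ⟨u, l'.map v, by
          show r'.map (r.map u) ≫ e.hom.app a₂ = e.hom.app a ≫ t''.map (l'.map v)
          rw [he, he, Category.assoc, ← n2]
          exact (Functor.map_comp_assoc r' _ _ _).symm.trans ((congrArg (fun z => r'.map z ≫ e₂.hom.app (l.obj a₂)) hv).trans
            (Functor.map_comp_assoc r' _ _ _))⟩
      have hu : t.map f = u := congrArg (fun φ => φ.fst) hf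
      exact ⟨f, CategoricalPullback.hom_ext hu
        (faith₂ (show t'.map (l.map f) = t'.map v by
          rw [n1, hu]
          exact (congrArg (e₁.inv.app a ≫ ·) hv).trans (Iso.inv_hom_id_app_assoc e₁ a _)) (congrArg (fun φ => φ.snd) hf))⟩
    · obtain ⟨b, x, η⟩ := p
      obtain ⟨a, ⟨i⟩⟩ := surjOf h ⟨b, l'.obj x, r'.mapIso η ≪≫ e₂.app x⟩
      let γ : t.obj a ≅ b := (CategoricalPullback.π₁ _ _).mapIso i
      let β : l'.obj (l.obj a) ≅ l'.obj x := (CategoricalPullback.π₂ _ _).mapIso i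
      have hi : r'.map (r.map γ.hom) ≫ r'.map η.hom ≫ e₂.hom.app x = e.hom.app a ≫ t''.map β.hom := i.hom.w
      obtain ⟨δ, hδ1, hδ2⟩ := iso₂ ((e₁.app a).symm ≪≫ r.mapIso γ ≪≫ η) β (by
        simp only [Iso.trans_hom, Iso.symm_hom, Iso.app_inv, Functor.mapIso_hom, Functor.map_comp, Category.assoc]
        rw [hi, he, Category.assoc]
        exact hc a _)
      refine ⟨a, ⟨CategoricalPullback.mkIso γ δ ?_⟩⟩
      show r.map γ.hom ≫ η.hom = e₁.hom.app a ≫ t'.map δ.hom
      rw [hδ1]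
      simp


/-- Pasting of 2-cartesian squares, stated in the 2-category of categories. Consider functors t : A → B,
t' : A' → B', t'' : A'' → B'' and l : A → A', r : B → B', l' : A' → A'', r' : B' → B'' with natural
isomorphisms e₁ : t ⋙ r ≅ l ⋙ t' and e₂ : t' ⋙ r' ≅ l' ⋙ t''. If the lower square (t', l', r', t'',
e₂) is 2-cartesian (its comparison functor to the 2-fibre product is an equivalence), then the upper
square (t, l, r, t', e₁) is 2-cartesian if and only if the outer rectangle (t, l ⋙ l', r ⋙ r', t'')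
with the pasted isomorphism is. (The published statement is for an arbitrary 2-category whose
2-morphisms are invertible; this row is the case of categories, functors and natural isomorphisms.) -/
theorem result
    {A B A' B' A'' B'' : Type u} [Category.{v} A] [Category.{v} B] [Category.{v} A'] [Category.{v} B']
    [Category.{v} A''] [Category.{v} B'']
    (t : A ⥤ B) (l : A ⥤ A') (r : B ⥤ B') (t' : A' ⥤ B') (l' : A' ⥤ A'') (r' : B' ⥤ B'') (t'' : A'' ⥤ B'')
    (e₁ : t ⋙ r ≅ l ⋙ t') (e₂ : t' ⋙ r' ≅ l' ⋙ t'')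
    (h₂ : FibCat.IsTwoCart t' l' r' t'' e₂) :
    FibCat.IsTwoCart t l r t' e₁ ↔
      FibCat.IsTwoCart t (l ⋙ l') (r ⋙ r') t''
        ((Functor.associator t r r').symm ≪≫ isoWhiskerRight e₁ r' ≪≫ Functor.associator l t' r' ≪≫
          isoWhiskerLeft l e₂ ≪≫ (Functor.associator l l' t'').symm) := by
  exact paste t l r t' l' r' t'' e₁ e₂ h₂ _ fun a => by simp

end Groth.Agent.S15491
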