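import Groth.Statements.S15493
import Groth.Agent.Stk19.AlgSt.Mono
import Groth.Agent.AlgSpLib.Diag
open Groth.Agent.Stk19 Groth.Agent.AlgSpLib

set_option autoImplicit false
universe u
open CategoryTheory AlgebraicGeometry
open IsoNat

namespace Groth.Agent.S15493

/-- The presheaf of isomorphism classes commutes with fibre products along an open immersion. Let f : 𝒳
→ 𝒴 be a morphism of algebraic stacks over a quasi-separated scheme S and i : 𝒴' → 𝒴 an open
immersion of algebraic stacks (representable by open immersions of algebraic spaces). If two objects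
of the 2-fibre product 𝒳 ×_𝒴 𝒴' over a scheme T have isomorphic images in 𝒳 over T and isomorphic
images in 𝒴' over T, then they are isomorphic over T. (Together with the evident surjectivity this
says that the natural map from the presheaf of isomorphism classes of 𝒳 ×_𝒴 𝒴' to the fibre product
of the presheaves of 𝒳 and 𝒴' over that of 𝒴 is an isomorphism; the published statement is for
arbitrary stacks, this row takes them algebraic.) -/
theorem result
    (S : Scheme.{u}) [QuasiSeparatedSpace S]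
    (𝒳 𝒴 𝒴' : AlgSt.Cat S)
    (h𝒳 : AlgSt.IsAlgStack Scheme.fppfPrecoverage 𝒳) (h𝒴 : AlgSt.IsAlgStack Scheme.fppfPrecoverage 𝒴)
    (h𝒴' : AlgSt.IsAlgStack Scheme.fppfPrecoverage 𝒴')
    (f : 𝒳 ⥤ᵇ 𝒴) (i : 𝒴' ⥤ᵇ 𝒴) (hi : AlgSt.IsOpenImm i)
    (T : Over S) (z₁ z₂ : (FibCat.fp f i).p.Fiber T)
    (h₁ : IsoNat.mapCls (FibCat.fpFst f i) T (IsoNat.cls z₁) = IsoNat.mapCls (FibCat.fpFst f i) T (IsoNat.cls z₂))
    (h₂ : IsoNat.mapCls (FibCat.fpSnd f i) T (IsoNat.cls z₁) = IsoNat.mapCls (FibCat.fpSnd f i) T (IsoNat.cls z₂)) :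
    IsoNat.cls z₁ = IsoNat.cls z₂ := by
  have hm : AlgSt.RepByAlgSpWith (MorphismProperty.monomorphisms (AlgSp.Sp S)) i := fun U y => by
    obtain ⟨F, e, he, hP⟩ := hi U y
    exact ⟨F, e, he, mono_of_repWith (fun _ _ g (_ : IsOpenImmersion g) => (inferInstance : Mono g)) hP⟩
  obtain ⟨hf, hf'⟩ := fullyFaithful_of_mono h𝒴'.isStack.1 h𝒴.isStack.1 hm
  obtain ⟨e₁⟩ := Quotient.exact h₁
  let α : z₁.1.obj.fst ≅ z₂.1.obj.fst := Functor.Fiber.fiberInclusion.mapIso e₁
  have hα : 𝒳.p.IsHomLift (𝟙 T) α.hom := e₁.hom.2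
  let g : i.obj z₁.1.obj.snd ≅ i.obj z₂.1.obj.snd :=
    z₁.1.obj.iso.symm ≪≫ f.toFunctor.mapIso α ≪≫ z₂.1.obj.iso
  let β : z₁.1.obj.snd ≅ z₂.1.obj.snd := i.toFunctor.preimageIso g
  have hw : f.map α.hom ≫ z₂.1.obj.iso.hom = z₁.1.obj.iso.hom ≫ i.map β.hom := by
    rw [show i.map β.hom = g.hom from i.toFunctor.map_preimage _]
    exact (Iso.hom_inv_id_assoc z₁.1.obj.iso (f.map α.hom ≫ z₂.1.obj.iso.hom)).symm
  have hk := fpIsoMk_vert α β hw hα
  exact Quotient.sound ⟨⟨⟨(fpIsoMk α β hw).hom, hk⟩,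
    ⟨(fpIsoMk α β hw).inv, vert_inv _ _ hk⟩,
    Subtype.ext (fpIsoMk α β hw).hom_inv_id, Subtype.ext (fpIsoMk α β hw).inv_hom_id⟩⟩

end Groth.Agent.S15493
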