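import Groth.Statements.S15494
import Mathlib
import Groth.Prelude

set_option linter.all false

set_option autoImplicit false
universe u v
open Dieud

open CategoryTheory MonoidalCategory

namespace Groth.Agent.S15494

/-- Let W be a commutative ring with a ring endomorphism σ, p a natural number, M a W-module and F an
additive self-map of M with F (w • m) = σ w • F m. Let d ≥ 1, c ≥ 1, h = d + c, and let e_1, …, e_h,
… be vectors of M on which F acts through a display matrix in normal form: F e_i = e_{i+1} for 1 ≤ i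
< d; F e_d = Σ_{i=1}^{d} a_{i,d} e_i + e_{d+1}; F e_j = Σ_{i=1}^{d} p a_{i,j} e_i + p e_{j+1} for d
< j < h; F e_h = Σ_{i=1}^{d} p a_{i,h} e_i. Then F^h e_1 = Σ_{i=1}^{d} Σ_{j=d}^{h} p^{j-d}
σ^{h-j}(a_{i,j}) F^{h+i-j-1} e_1. (The published statement is for the Dieudonné module of a
p-divisible group of dimension d and height h over the Witt ring of a field of characteristic p,
with σ the Frobenius and e_1, …, e_h a basis; this row keeps only the relations which the printed
computation uses, so W, σ, p and the vectors are arbitrary.) -/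
theorem result
    (W : Type u) [CommRing W] (σ : W →+* W) (p : ℕ)
    (M : Type v) [AddCommGroup M] [Module W M]
    (F : M →+ M) (hF : ∀ (w : W) (m : M), F (w • m) = σ w • F m)
    (d c : ℕ) (hd : 0 < d) (hc : 0 < c)
    (a : ℕ → ℕ → W) (e : ℕ → M)
    (h1 : ∀ i : ℕ, 1 ≤ i → i < d → F (e i) = e (i + 1))
    (h2 : F (e d) = (∑ i ∈ Finset.Icc 1 d, a i d • e i) + e (d + 1))
    (h3 : ∀ j : ℕ, d < j → j < d + c →
      F (e j) = (∑ i ∈ Finset.Icc 1 d, ((p : W) * a i j) • e i) + (p : W) • e (j + 1))
    (h4 : F (e (d + c)) = ∑ i ∈ Finset.Icc 1 d, ((p : W) * a i (d + c)) • e i) :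
    (⇑F)^[d + c] (e 1) = ∑ i ∈ Finset.Icc 1 d, ∑ j ∈ Finset.Icc d (d + c),
      ((p : W) ^ (j - d) * (⇑σ)^[d + c - j] (a i j)) • (⇑F)^[d + c + i - j - 1] (e 1) := by
  have he : ∀ i, 1 ≤ i → i ≤ d → (⇑F)^[i - 1] (e 1) = e i := by
    intro i h1i
    induction i, h1i using Nat.le_induction with
    | base => intro _; rfl
    | succ i hi ih =>
      intro hid
      rw [show i + 1 - 1 = (i - 1) + 1 by omega, Function.iterate_succ_apply', ih (by omega), h1 i hi (by omega)]
  let T : ℕ → ℕ → M := fun m i => ∑ j ∈ Finset.Icc d (d + m),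
    ((p : W) ^ (j - d) * (⇑σ)^[d + m - j] (a i j)) • (⇑F)^[d + m + i - j - 1] (e 1)
  have hT : ∀ m i, 1 ≤ i → i ≤ d → F (T m i) + ((p : W) ^ (m + 1) * a i (d + (m + 1))) • e i = T (m + 1) i := by
    intro m i hi hid
    simp only [T]
    rw [← Nat.add_assoc d m 1, Finset.sum_Icc_succ_top (by omega : d ≤ d + m + 1), map_sum]
    congr 1
    · refine Finset.sum_congr rfl fun j hj => ?_
      obtain ⟨hj1, hj2⟩ := Finset.mem_Icc.1 hj
      rw [hF, map_mul, map_pow, map_natCast, ← Function.iterate_succ_apply' (⇑σ), ← Function.iterate_succ_apply' (⇑F),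
        show d + m + 1 - j = (d + m - j).succ by omega, show d + m + 1 + i - j - 1 = (d + m + i - j - 1).succ by omega]
    · rw [show d + m + 1 - d = m + 1 by omega, Nat.sub_self, show d + m + 1 + i - (d + m + 1) - 1 = i - 1 by omega, he i hi hid]
      rfl
  have key : ∀ m, m < c → (⇑F)^[d + m] (e 1) = (∑ i ∈ Finset.Icc 1 d, T m i) + (p : W) ^ m • e (d + m + 1) := by
    intro m
    induction m with
    | zero =>
      intro _
      rw [Nat.add_zero, show d = (d - 1) + 1 by omega, Function.iterate_succ_apply', show d - 1 + 1 = d by omega, he d hd le_rfl, h2, pow_zero, one_smul]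
      congr 1
      refine Finset.sum_congr rfl fun i hi => ?_
      obtain ⟨hi1, hi2⟩ := Finset.mem_Icc.1 hi
      simp only [T, Nat.add_zero, Finset.Icc_self, Finset.sum_singleton, Nat.sub_self, pow_zero, one_mul, Function.iterate_zero_apply]
      rw [show d + i - d - 1 = i - 1 by omega, he i hi1 hi2]
    | succ m ih =>
      intro hm
      rw [← Nat.add_assoc, Function.iterate_succ_apply', ih (by omega), map_add, map_sum, hF, map_pow, map_natCast,
        h3 (d + m + 1) (by omega) (by omega), smul_add, Finset.smul_sum, ← add_assoc, ← Finset.sum_add_distrib, smul_smul, ← pow_succ]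
      congr 1
      refine Finset.sum_congr rfl fun i hi => ?_
      rw [← hT m i (Finset.mem_Icc.1 hi).1 (Finset.mem_Icc.1 hi).2, smul_smul, ← mul_assoc, ← pow_succ, ← Nat.add_assoc d m 1]
  obtain ⟨m, rfl⟩ : ∃ m, c = m + 1 := ⟨c - 1, by omega⟩
  rw [← Nat.add_assoc, Function.iterate_succ_apply', key m (by omega), map_add, map_sum, hF, map_pow, map_natCast,
    show d + m + 1 = d + (m + 1) from rfl, h4, Finset.smul_sum, ← Finset.sum_add_distrib]
  refine Finset.sum_congr rfl fun i hi => ?_
  rw [smul_smul, ← mul_assoc, ← pow_succ, hT m i (Finset.mem_Icc.1 hi).1 (Finset.mem_Icc.1 hi).2]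

end Groth.Agent.S15494
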