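import Groth.Statements.S15495
import Mathlib

set_option linter.all false

set_option autoImplicit false
universe u
open CAlg

open IsLocalRing
open scoped TensorProduct

namespace Groth.Agent.S15495

/-- In an Artinian local ring R whose maximal ideal m contains the prime number p, the multiplicative
group 1 + m is annihilated under some power of p: there is n with (1 + x)^(p^n) = 1 for every x in
m. (The published text makes this assertion inside a proof, for Artinian local algebras over the
Witt ring of a perfect field of characteristic p; only p ∈ m and the nilpotence of m are used.) -/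
theorem result
    (R : Type u) [CommRing R] [IsLocalRing R] [IsArtinianRing R]
    (p : ℕ) (hp : p.Prime) (hpm : (p : R) ∈ IsLocalRing.maximalIdeal R) :
    ∃ n : ℕ, ∀ x ∈ IsLocalRing.maximalIdeal R, (1 + x) ^ (p ^ n) = 1 := by
  obtain ⟨N, hN⟩ := IsArtinianRing.isNilpotent_jacobson_bot (R := R)
  rw [IsLocalRing.jacobson_eq_maximalIdeal ⊥ bot_ne_top] at hN
  refine ⟨N, fun x hx => ?_⟩
  have h : ∀ i, (1 + x) ^ (p ^ i) - 1 ∈ maximalIdeal R ^ (i + 1) := fun i => by
    induction i with
    | zero => simpa using hx
    | succ i ih =>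
      obtain ⟨y, hy, he⟩ : ∃ y ∈ maximalIdeal R ^ (i + 1), (1 + x) ^ (p ^ i) = y + 1 := ⟨_, ih, (sub_add_cancel _ _).symm⟩
      rw [pow_succ p i, pow_mul, he, add_pow_prime_eq hp, one_pow, add_right_comm (y ^ p), add_sub_cancel_right]
      refine add_mem ?_ ?_
      · have h2 : y ^ p ∈ (maximalIdeal R ^ (i + 1)) ^ p := Ideal.pow_mem_pow hy p
        rw [← pow_mul] at h2
        refine Ideal.pow_le_pow_right ?_ h2
        have := hp.two_le
        nlinarith
      · rw [pow_succ' (maximalIdeal R) (i + 1), mul_one]
        exact Ideal.mul_mem_right _ _ (Ideal.mul_mem_mul hpm hy)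
  have h1 := Ideal.pow_le_pow_right (Nat.le_succ N) (h N)
  rw [hN, Ideal.zero_eq_bot, Ideal.mem_bot, sub_eq_zero] at h1
  exact h1

end Groth.Agent.S15495
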