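import Groth.Statements.S15496
import Mathlib

set_option linter.all false

set_option autoImplicit false
universe u
open CAlg

open IsLocalRing
open scoped TensorProduct

namespace Groth.Agent.S15496

/-- Let R be a local ring with maximal ideal m, p a prime number lying in m, and suppose the residue
field of R is perfect, i.e. every element is a p-th power; let n ≥ 0. Then every unit of R is the
product of a p^n-th power of a unit and an element of 1 + m, and an element of 1 + m which is a
p^n-th power of a unit is a p^n-th power of an element of 1 + m; so the inclusion of 1 + m in the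
unit group induces a bijection between (1 + m)/(1 + m)^(p^n) and Rˣ/(Rˣ)^(p^n). (The published text
derives this equality of quotients, inside a proof, from perfectness of the base field K for all
Artinian local algebras over its Witt ring, whose residue fields need not be perfect; this row
assumes the residue field of R perfect of characteristic p, which the equality needs, and does not
assume R Artinian.) -/
theorem result
    (R : Type u) [CommRing R] [IsLocalRing R] (p : ℕ) (hp : p.Prime)
    (hpm : (p : R) ∈ IsLocalRing.maximalIdeal R)
    (hperf : ∀ a : IsLocalRing.ResidueField R, ∃ b : IsLocalRing.ResidueField R, b ^ p = a)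
    (n : ℕ) :
    (∀ u : Rˣ, ∃ v : Rˣ, ∃ x ∈ IsLocalRing.maximalIdeal R, (u : R) = (v : R) ^ (p ^ n) * (1 + x)) ∧
    (∀ x ∈ IsLocalRing.maximalIdeal R, (∃ v : Rˣ, (v : R) ^ (p ^ n) = 1 + x) →
      ∃ y ∈ IsLocalRing.maximalIdeal R, (1 + y) ^ (p ^ n) = 1 + x) := by
  haveI := Fact.mk hp
  haveI : CharP (ResidueField R) p :=
    (CharP.charP_iff_prime_eq_zero hp).2 (by rw [← map_natCast (residue R), residue_eq_zero_iff]; exact hpm)
  constructor
  · intro u
    have hroot : ∀ m (a : ResidueField R), ∃ b, b ^ (p ^ m) = a := fun m => by
      induction m with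
      | zero => exact fun a => ⟨a, by simp⟩
      | succ m ih =>
        intro a
        obtain ⟨b, rfl⟩ := ih a
        obtain ⟨c, rfl⟩ := hperf b
        exact ⟨c, by rw [← pow_mul, ← pow_succ']⟩
    obtain ⟨b, hb⟩ := hroot n (residue R u)
    obtain ⟨b, rfl⟩ := residue_surjective b
    have hbu : IsUnit b := by
      by_contra h
      have : residue R b = 0 := (residue_eq_zero_iff _).2 h
      rw [this, zero_pow (pow_ne_zero _ hp.ne_zero), eq_comm, residue_eq_zero_iff] at hb
      exact hb u.isUnit
    obtain ⟨v, rfl⟩ := hbu
    refine ⟨v, (↑(v ^ (p ^ n))⁻¹ : R) * u - 1, ?_, ?_⟩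
    · rw [← residue_eq_zero_iff, map_sub, map_mul, ← hb, ← map_pow, ← map_mul, ← Units.val_pow_eq_pow_val,
        Units.inv_mul, map_one, sub_self]
    · rw [add_sub_cancel, ← mul_assoc, ← Units.val_pow_eq_pow_val, Units.mul_inv, one_mul]
  · rintro x hx ⟨v, hv⟩
    refine ⟨(v : R) - 1, ?_, by rw [add_sub_cancel, hv]⟩
    rw [← residue_eq_zero_iff, map_sub, map_one]
    apply eq_zero_of_pow_eq_zero (n := p ^ n)
    rw [sub_pow_char_pow, one_pow, ← map_pow, hv, map_add, map_one, (residue_eq_zero_iff x).2 hx, add_zero, sub_self]

end Groth.Agent.S15496
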