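import Groth.Statements.S15498
import Mathlib
import Groth.Prelude

set_option linter.all false

set_option autoImplicit false
open NewtonPoly

open Polynomial TensorProduct AlgebraicGeometry

namespace Groth.Agent.S15498

/-- Let m, n ≥ 1 be coprime, h = m + n, δ the segment from (0,0) to (h,m) (the isoclinic Newton polygon
of slope m/h) and ρ the ordinary polygon with n slopes 0 followed with m slopes 1, so ρ(i) = max(0,
i − n). The integer points (i,j), 0 ≤ i ≤ h, on or above ρ and strictly below δ — that is max(0, i −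
n) ≤ j and j·h < i·m — are (m−1)(n−1)/2 + (m+n−1) in number (which equals mn − r for r =
(m−1)(n−1)/2). (The published text works under m ≥ n > 0 coprime; the inequality m ≥ n is not used
and not assumed.) -/
theorem result
    (m n : ℕ) (hm : 0 < m) (hn : 0 < n) (hmn : Nat.Coprime m n) :
    ((Finset.range (m + n + 1) ×ˢ Finset.range (m + 1)).filter
      (fun ij : ℕ × ℕ => ij.1 ≤ ij.2 + n ∧ ij.2 * (m + n) < ij.1 * m)).card
      = (m - 1) * (n - 1) / 2 + (m + n - 1) := by
  classical
  let P := Finset.range (n + 1) ×ˢ Finset.range (m + 1)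
  let A := P.filter fun z => z.2 * n < z.1 * m
  have h1 : ((Finset.range (m + n + 1) ×ˢ Finset.range (m + 1)).filter
      (fun ij : ℕ × ℕ => ij.1 ≤ ij.2 + n ∧ ij.2 * (m + n) < ij.1 * m)).card = A.card := by
    refine Finset.card_nbij' (fun z => (z.1 - z.2, z.2)) (fun z => (z.1 + z.2, z.2)) ?_ ?_ ?_ ?_
    · intro z hz
      simp [A, P] at hz ⊢
      obtain ⟨⟨-, h2⟩, h3, h4⟩ := hz
      have hle : z.2 ≤ z.1 := by
        by_contra hlt
        push Not at hlt
        nlinarith
      obtain ⟨d, hd⟩ := Nat.exists_eq_add_of_le hle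
      refine ⟨⟨by omega, h2⟩, ?_⟩
      rw [hd, Nat.add_sub_cancel_left]
      rw [hd] at h4
      nlinarith
    · intro z hz
      simp [A, P] at hz ⊢
      obtain ⟨⟨h1, h2⟩, h3⟩ := hz
      exact ⟨⟨by omega, h2⟩, by omega, by nlinarith⟩
    · intro z hz
      simp at hz
      obtain ⟨⟨-, -⟩, h3, h4⟩ := hz
      have hle : z.2 ≤ z.1 := by
        by_contra hlt
        push Not at hlt
        nlinarith
      exact Prod.ext (Nat.sub_add_cancel hle) rfl
    · intro z hz
      exact Prod.ext (Nat.add_sub_cancel _ _) rfl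
  rw [h1]
  let B := P.filter fun z => z.1 * m < z.2 * n
  have hAB : A.card = B.card := by
    refine Finset.card_nbij' (fun z => (n - z.1, m - z.2)) (fun z => (n - z.1, m - z.2)) ?_ ?_ ?_ ?_
    · intro z hz
      simp [A, B, P] at hz ⊢
      obtain ⟨⟨h1, h2⟩, h3⟩ := hz
      obtain ⟨a, ha⟩ := Nat.exists_eq_add_of_le h1
      obtain ⟨b, hb⟩ := Nat.exists_eq_add_of_le h2
      rw [show n - z.1 = a by omega, show m - z.2 = b by omega]
      nlinarith
    · intro z hz
      simp [A, B, P] at hz ⊢
      obtain ⟨⟨h1, h2⟩, h3⟩ := hz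
      obtain ⟨a, ha⟩ := Nat.exists_eq_add_of_le h1
      obtain ⟨b, hb⟩ := Nat.exists_eq_add_of_le h2
      rw [show n - z.1 = a by omega, show m - z.2 = b by omega]
      nlinarith
    · intro z hz; simp [A, P] at hz; exact Prod.ext (show n - (n - z.1) = z.1 by omega) (show m - (m - z.2) = z.2 by omega)
    · intro z hz; simp [B, P] at hz; exact Prod.ext (show n - (n - z.1) = z.1 by omega) (show m - (m - z.2) = z.2 by omega)
  have hEq : (P.filter fun z => z.1 * m = z.2 * n) = {(0, 0), (n, m)} := by
    ext ⟨a, b⟩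
    simp [P]
    constructor
    · rintro ⟨⟨h1, h2⟩, h3⟩
      have hd : n ∣ a := by
        refine (hmn.symm).dvd_of_dvd_mul_right ⟨b, by rw [h3, mul_comm]⟩
      obtain ⟨c, rfl⟩ := hd
      rcases Nat.lt_or_ge c 1 with hc | hc
      · left
        obtain rfl : c = 0 := by omega
        refine ⟨by simp, ?_⟩
        have : b * n = 0 := by rw [← h3]; simp
        simpa [hn.ne'] using this
      · right
        have hc1 : c = 1 := by nlinarith
        subst hc1
        refine ⟨by simp, ?_⟩
        have : b * n = m * n := by rw [← h3]; ring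
        exact Nat.eq_of_mul_eq_mul_right hn this
    · rintro (⟨rfl, rfl⟩ | ⟨rfl, rfl⟩)
      · simp
      · exact ⟨⟨le_rfl, le_rfl⟩, mul_comm _ _⟩
  have hsum : A.card + B.card + 2 = (n + 1) * (m + 1) := by
    have e1 : (P.filter fun z => z.1 * m = z.2 * n).card = 2 := by
      rw [hEq, Finset.card_pair]
      simp
      omega
    have e2 : A ∪ B ∪ (P.filter fun z => z.1 * m = z.2 * n) = P := by
      ext z; simp [A, B]; constructor
      · tauto
      · intro hz; rcases lt_trichotomy (z.2 * n) (z.1 * m) with h | h | h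
        · exact Or.inl ⟨hz, h⟩
        · exact Or.inr (Or.inr ⟨hz, h.symm⟩)
        · exact Or.inr (Or.inl ⟨hz, h⟩)
    have d1 : Disjoint A B := Finset.disjoint_filter.2 fun z _ h => by omega
    have d2 : Disjoint (A ∪ B) (P.filter fun z => z.1 * m = z.2 * n) := by
      rw [Finset.disjoint_union_left]
      exact ⟨Finset.disjoint_filter.2 fun z _ h => by omega, Finset.disjoint_filter.2 fun z _ h => by omega⟩
    have := congrArg Finset.card e2
    rw [Finset.card_union_of_disjoint d2, Finset.card_union_of_disjoint d1, e1] at this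
    rw [this]
    simp [P]
  obtain ⟨a, rfl⟩ : ∃ a, m = a + 1 := ⟨m - 1, by omega⟩
  obtain ⟨b, rfl⟩ : ∃ b, n = b + 1 := ⟨n - 1, by omega⟩
  simp only [Nat.add_sub_cancel]
  have : (b + 1 + 1) * (a + 1 + 1) = a * b + 2 * a + 2 * b + 4 := by ring
  omega

end Groth.Agent.S15498
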