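import Groth.Statements.S15499
import Mathlib
import Groth.Agent.CommAlg4.IdemSim
import Groth.Agent.CommAlg4.Horrocks
import Groth.Agent.CommAlg4.P1Bundle

set_option linter.all false

set_option autoImplicit false
open Polynomial LaurentPolynomial
open scoped TensorProduct
universe u
open CAlg

open Polynomial TensorProduct

namespace Groth.Agent.S15499

/-- Let S = Spec R be a smooth connected affine complex variety, so that R is a finitely generated
smooth ℂ-algebra and an integral domain, and let F be a locally free sheaf of finite rank on the
projective line over S, presented by its two standard charts: a finitely generated projective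
R[X]-module P on the affine line over S, a finitely generated projective R[X]-module P' on the chart
at infinity, and an identification of their base changes to R[X, X⁻¹] that is additive, bijective
and semilinear over the R-algebra involution X ↦ X⁻¹. Then S is covered by basic open sets D(g_1),
…, D(g_n) such that F restricted to the affine line over each D(g_i) is free: the localisation of P
at g_i is a free module over the localisation of R[X] at g_i. -/
theorem result
    (R : Type u) [CommRing R] [IsDomain R] [Algebra ℂ R] [Algebra.FiniteType ℂ R]
    [Algebra.Smooth ℂ R]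
    (P : Type u) [AddCommGroup P] [Module R[X] P] [Module.Finite R[X] P]
    [Module.Projective R[X] P]
    (P' : Type u) [AddCommGroup P'] [Module R[X] P'] [Module.Finite R[X] P']
    [Module.Projective R[X] P']
    (e : R[T;T⁻¹] ⊗[R[X]] P ≃+ R[T;T⁻¹] ⊗[R[X]] P')
    (he : ∀ (a : R[T;T⁻¹]) (m : R[T;T⁻¹] ⊗[R[X]] P),
      e (a • m) = LaurentPolynomial.invert a • e m) :
    ∃ (n : ℕ) (g : Fin n → R), Ideal.span (Set.range g) = ⊤ ∧
      ∀ i, Module.Free (Localization.Away (Polynomial.C (g i) : R[X]))
        (LocalizedModule (Submonoid.powers (Polynomial.C (g i) : R[X])) P) := by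
  classical
  obtain ⟨Q, _, _, _, _, ⟨φ⟩⟩ := Groth.Agent.CommAlg4.P1Bundle.exists_extended P P' e he
  have : Module.FinitePresentation R Q := Module.finitePresentation_of_projective R Q
  let G : Set R := {g | Module.Free (Localization (Submonoid.powers g))
    (LocalizedModule.Away g Q)}
  have hG : Ideal.span G = ⊤ := by
    by_contra hne
    obtain ⟨m, hm, hGm⟩ := Ideal.exists_le_maximal _ hne
    have := hm.isPrime
    have : Module.Free (Localization.AtPrime m) (LocalizedModule m.primeCompl Q) :=
      Module.free_of_flat_of_isLocalRing
    obtain ⟨g, hg, hfree, -⟩ := Module.FinitePresentation.exists_free_localizedModule_powers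
      m.primeCompl (LocalizedModule.mkLinearMap m.primeCompl Q) (Localization.AtPrime m)
    exact hg (hGm (Ideal.subset_span hfree))
  obtain ⟨s, hs, hs'⟩ := Submodule.mem_span_finite_of_mem_span (hG ▸ Submodule.mem_top : (1 : R) ∈ Ideal.span G)
  let eqv := s.equivFin
  refine ⟨s.card, fun i => (eqv.symm i : R), ?_, fun i => ?_⟩
  · rw [Ideal.eq_top_iff_one]
    refine Ideal.span_mono ?_ hs'
    exact fun x hx => ⟨eqv ⟨x, hx⟩, by simp⟩
  · set g : R := (eqv.symm i : R)
    have hfree : Module.Free (Localization (Submonoid.powers g)) (LocalizedModule.Away g Q) :=
      hs (eqv.symm i).2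
    let S := Localization.Away (Polynomial.C g : R[X])
    let f : Localization.Away g →+* S := IsLocalization.Away.lift g
      (show IsUnit (algebraMap R S g) by
        rw [IsScalarTower.algebraMap_apply R R[X] S]
        exact IsLocalization.Away.algebraMap_isUnit _)
    let alg : Algebra (Localization.Away g) S := f.toAlgebra
    have : IsScalarTower R (Localization.Away g) S :=
      IsScalarTower.of_algebraMap_eq fun r => (IsLocalization.Away.lift_eq g _ r).symm
    have h1 : Module.Free (Localization.Away g) (Localization.Away g ⊗[R] Q) :=
      Module.Free.of_equiv (LocalizedModule.equivTensorProduct (Submonoid.powers g) Q)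
    let ε : LocalizedModule (Submonoid.powers (Polynomial.C g : R[X])) P ≃ₗ[S]
        S ⊗[Localization.Away g] (Localization.Away g ⊗[R] Q) :=
      (LocalizedModule.equivTensorProduct _ P).trans
        (((LinearEquiv.baseChange R[X] S P (R[X] ⊗[R] Q) φ).trans
          (AlgebraTensorModule.cancelBaseChange R R[X] S S Q)).trans
          (AlgebraTensorModule.cancelBaseChange R (Localization.Away g) S S Q).symm)
    exact Module.Free.of_equiv ε.symm

end Groth.Agent.S15499
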