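import Groth.Statements.S15500
import Groth.Agent.S8847
import Groth.Agent.S1184
import Groth.Agent.S12128
import Groth.Agent.AVExt16.RelDim
import Groth.Agent.CurveRR24.Ample
import Groth.Agent.VarietyLib.ProperCurveAmple
import Groth.Agent.VarietyLib.Dual
import Groth.Agent.FlatMor12.IdealModGen
import Groth.Agent.MorProj.QuasiAff
import Groth.Agent.DimLib.BaseChange
import Groth.Agent.DimLib.Zero
import Groth.Agent.RelVALib.ChowPn
import Groth.Agent.AbSchLib.SmoothReduced
-- import your own Groth.Agent.* helpers here

set_option autoImplicit false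
open CategoryTheory AlgebraicGeometry
open An
set_option backward.isDefEq.respectTransparency.types false

namespace Groth.Agent.S15500


section aux

open CategoryTheory.Limits

/-- The image of an irreducible space is irreducible. -/
theorem irreducibleSpace_of_surjective' {A B : Scheme.{0}} (g : A ⟶ B) (hg : Function.Surjective g)
    [IrreducibleSpace A] : IrreducibleSpace B := by
  have h := (IrreducibleSpace.isIrreducible_univ A).image g g.continuous.continuousOn
  rw [Set.image_univ, hg.range_eq] at h
  exact { isPreirreducible_univ := h.isPreirreducible, toNonempty := ⟨g (Classical.arbitrary A)⟩ }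

/-- An irreducible one-dimensional geometric fibre gives an irreducible one-dimensional fibre. -/
theorem fibre_irreducible_dim {Y S : Scheme.{0}} (g : Y ⟶ S) [LocallyOfFiniteType g] (s : S)
    (h : ∀ (Ω : Type) [Field Ω] [IsAlgClosed Ω] (σ : Spec (CommRingCat.of Ω) ⟶ S),
      IrreducibleSpace ↥(pullback g σ) ∧ topologicalKrullDim ↥(pullback g σ) = 1) :
    IrreducibleSpace ↥(g.fiber s) ∧ topologicalKrullDim ↥(g.fiber s) = 1 := by
  let Ω := AlgebraicClosure (S.residueField s)
  let q : Spec (CommRingCat.of Ω) ⟶ Spec (CommRingCat.of (S.residueField s)) :=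
    Spec.map (CommRingCat.ofHom (algebraMap (S.residueField s) Ω))
  obtain ⟨h1, h2⟩ := h Ω (q ≫ S.fromSpecResidueField s)
  let e : pullback (g.fiberToSpecResidueField s) q ≅ pullback g (q ≫ S.fromSpecResidueField s) :=
    pullbackLeftPullbackSndIso g (S.fromSpecResidueField s) q
  haveI : LocallyOfFiniteType (g.fiberToSpecResidueField s) :=
    MorphismProperty.pullback_snd _ _ inferInstance
  refine ⟨?_, ?_⟩
  · haveI := h1
    haveI : IrreducibleSpace ↥(pullback (g.fiberToSpecResidueField s) q) :=
      irreducibleSpace_of_surjective' e.inv e.inv.homeomorph.surjective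
    haveI : Surjective q := ⟨fun z => ⟨IsLocalRing.closedPoint Ω, Subsingleton.elim (α := PrimeSpectrum (S.residueField s)) _ _⟩⟩
    exact irreducibleSpace_of_surjective' (pullback.fst (g.fiberToSpecResidueField s) q)
      (pullback.fst (g.fiberToSpecResidueField s) q).surjective
  · have hl : LocallyOfFiniteType (g.fiberToSpecResidueField s) := MorphismProperty.pullback_snd _ _ inferInstance
    refine (@DimLib.topologicalKrullDim_bc (S.residueField s) _ _ (g.fiberToSpecResidueField s) hl Ω _ _).symm.trans ?_
    exact e.hom.homeomorph.isHomeomorph.topologicalKrullDim_eq.trans h2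

end aux

/-- An elementary fibration f : X → S of smooth complex varieties is affine and surjective, elementary
fibration being taken in the following sense: f factors as an open immersion j : X → X̄ followed by
f̄ : X̄ → S, where f̄ is smooth and is a closed subscheme of some projective space over S with
geometrically irreducible fibres of dimension one, the complement of j(X) is the image of a closed
immersion Y → X̄ with Y finite, etale and surjective over S, and j(X) is dense in every fibre of f̄
(for smooth complex varieties the last clause is automatic, and this is the usual notion: a smooth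
projective family of irreducible curves minus a finite etale multisection). -/
theorem result (X S : Scheme.{0})
    [X.Over An.SC] [Smooth (X ↘ An.SC)] [IsSeparated (X ↘ An.SC)] [QuasiCompact (X ↘ An.SC)]
    [S.Over An.SC] [Smooth (S ↘ An.SC)] [IsSeparated (S ↘ An.SC)] [QuasiCompact (S ↘ An.SC)]
    (f : X ⟶ S) [f.IsOver An.SC] (hf : An.IsElementaryFibration f) :
    IsAffineHom f ∧ Surjective f := by
  obtain ⟨Xb, Y, j, fb, i, hjf, hj, hi, hrange, hdense, hsm, hproj, hgeo, hfin, het, hsurj⟩ := hf
  haveI := hj; haveI := hi; haveI := hsm; haveI := hfin; haveI := het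
  haveI : IsProper fb := by
    obtain ⟨n, c, hc, hce⟩ := hproj
    haveI := hc
    haveI := RelVALib.isProper_toBase n S
    rw [← hce]
    infer_instance
  let I : Xb.IdealSheafData := i.ker
  have hsupp : (I.support : Set Xb) = Set.range i := by
    show ((i.ker).support : Set Xb) = _
    rw [Scheme.Hom.support_ker]
    exact i.isClosedEmbedding.isClosed_range.closure_eq
  have hIe : I.subschemeι ≫ fb = inv i.toImage ≫ (i ≫ fb) := by
    rw [IsIso.eq_inv_comp]
    exact i.toImage_imageι_assoc fb
  haveI : Flat (I.subschemeι ≫ fb) := by rw [hIe]; infer_instance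
  haveI : LocallyOfFinitePresentation (I.subschemeι ≫ fb) := by rw [hIe]; infer_instance
  -- the fibres
  have hfd := fun s => fibre_irreducible_dim fb s hgeo
  have hI : BlowUp.IsEffCartierIdeal I := by
    refine Groth.Agent.S8847.result fb I fun s => ?_
    let p := fb.fiberToSpecResidueField s
    haveI : Smooth p := MorphismProperty.pullback_snd (P := @Smooth) _ _ inferInstance
    haveI : QuasiCompact p := MorphismProperty.pullback_snd (P := @QuasiCompact) _ _ inferInstance
    haveI : IrreducibleSpace ↥(fb.fiber s) := (hfd s).1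
    haveI : SmoothOfRelativeDimension 1 p := AVExt16.smoothOfRelativeDimension_of_dim (k := S.residueField s) p 1 (hfd s).2
    let J := I.comap (fb.fiberι s)
    haveI : Finite J.subscheme := by
      have hsub : Set.range J.subschemeι ⊆ fb.fiberι s ⁻¹' (i '' ((i ≫ fb) ⁻¹' {s})) := by
        rw [Scheme.IdealSheafData.range_subschemeι, Scheme.IdealSheafData.support_comap]
        intro z hz
        obtain ⟨y, hy⟩ : fb.fiberι s z ∈ Set.range i := hsupp.le hz
        have hzs : fb.fiberι s z ∈ fb ⁻¹' {s} := by rw [← Scheme.Hom.range_fiberι]; exact ⟨z, rfl⟩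
        exact ⟨y, (congrArg fb hy).trans hzs, hy⟩
      have hfinite : (Set.range J.subschemeι).Finite :=
        (((((i ≫ fb).finite_preimage_singleton s).image i)).preimage (fb.fiberι s).isEmbedding.injective.injOn).subset hsub
      haveI := hfinite.to_subtype
      refine Finite.of_injective (Set.rangeFactorization J.subschemeι) fun a b hab => ?_
      have hab' : (Set.rangeFactorization J.subschemeι a).1 = (Set.rangeFactorization J.subschemeι b).1 := by rw [hab]
      exact J.subschemeι.isEmbedding.injective hab'
    haveI : IsFinite (J.subschemeι ≫ p) := DimLib.isFinite_of_finite (k := S.residueField s) (J.subschemeι ≫ p)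
    haveI : LocallyOfFinitePresentation (J.subschemeι ≫ p) := by
      haveI : IsLocallyNoetherian (Spec (S.residueField s)) :=
        inferInstanceAs (IsLocallyNoetherian (Spec (CommRingCat.of (S.residueField s))))
      exact LocallyOfFinitePresentation.iff_locallyOfFiniteType.2 inferInstance
    exact (((Groth.Agent.S1184.result p J).1).2
      ⟨inferInstance, DimLib.flat_over_field (k := S.residueField s) _, inferInstance⟩).1
  -- the line bundle of the boundary
  have hM := FlatMor12.IdealModGen.isInvertible_idealMod I hI
  obtain ⟨L, ⟨e⟩⟩ := VarietyLib.exists_isInverseOf hM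
  have hL : PicF.IsInvertible L :=
    PicLib.PicM.isInvertible_of_tensor hM (AmpleLib.glocus_isInvertible_of_iso e.symm AmpleLib.isInvertible_structureModule)
  obtain ⟨σ, hσ⟩ := FlatMor12.IdealModGen.exists_section_of_effCartier I hI hL ⟨AmpleLib.tensorComm _ _ ≪≫ e⟩
  rw [hsupp, ← hrange] at hσ
  have hfib : ∀ s : S, ∃ x ∈ Set.range j, fb x = s := fun s => by
    obtain ⟨y, hy⟩ := hsurj s
    have hy' : i y ∈ fb ⁻¹' {s} := hy
    obtain ⟨x, -, hx1, hx2⟩ := mem_closure_iff.1 (hdense s hy') ⊤ isOpen_univ trivial
    exact ⟨x, hx1, hx2⟩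
  have hamp : RelAmple.IsRelAmple fb L := by
    refine (Groth.Agent.S12128.result fb L hL).2 fun s => ?_
    let ι := fb.fiberι s
    let p := fb.fiberToSpecResidueField s
    letI : (fb.fiber s).Over (Spec (CommRingCat.of (S.residueField s))) := ⟨p⟩
    haveI : IsProper (fb.fiber s ↘ Spec (CommRingCat.of (S.residueField s))) :=
      MorphismProperty.pullback_snd (P := @IsProper) _ _ inferInstance
    haveI : Smooth p := MorphismProperty.pullback_snd (P := @Smooth) _ _ inferInstance
    haveI : IrreducibleSpace ↥(fb.fiber s) := (hfd s).1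
    haveI : IsReduced (fb.fiber s) := AbSchLib.isReduced_of_smooth p
    haveI : IsIntegral (fb.fiber s) := isIntegral_of_irreducibleSpace_of_isReduced _
    obtain ⟨x, hxj, hxs⟩ := hfib s
    obtain ⟨y, hy⟩ := hsurj s
    obtain ⟨a, ha⟩ : x ∈ Set.range ι := by rw [Scheme.Hom.range_fiberι]; exact hxs
    obtain ⟨b, hb⟩ : i y ∈ Set.range ι := by rw [Scheme.Hom.range_fiberι]; exact hy
    have hloc := AmpleLib.glocus_pullSec (σ := ι) hL σ
    refine CurveRR24.isAmple_of_deg_pos (S.residueField s) (hfd s).2 (PicLoc.isInvertible_pullback _ hL) ?_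
    refine VarietyLib.deg_pos_of_section (S.residueField s) (hfd s).2.le (PicLoc.isInvertible_pullback _ hL)
      (PicLib.pullSec ι σ) (a := a) (b := b) ?_ ?_
    · rw [hloc]
      show ι a ∈ AmpleLib.glocus L σ
      rw [ha]
      exact hσ.ge hxj
    · rw [hloc]
      show ¬ ι b ∈ AmpleLib.glocus L σ
      rw [hb]
      intro hmem
      exact (hrange.le (hσ.le hmem)) ⟨y, rfl⟩
  refine ⟨?_, ⟨fun s => ?_⟩⟩
  · have h1 := MorProj.isAffineHom_genLocus_ι_comp fb hamp (Coherent.unitDesc L σ)
    have h2 : CohB1.genLocus L (Coherent.unitDesc L σ) = j.opensRange := by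
      rw [AmpleLib.genLocus_eq_glocus, Coherent.unitVal_unitDesc]
      exact TopologicalSpace.Opens.ext ((congrArg (fun σ' => (AmpleLib.glocus L σ' : Set Xb)) (PicLib.resM_self L le_rfl σ)).trans hσ)
    rw [h2] at h1
    haveI := h1
    rw [← hjf, ← j.isoOpensRange_hom_ι, Category.assoc]
    infer_instance
  · obtain ⟨_, ⟨z, rfl⟩, hz⟩ := hfib s
    exact ⟨z, by rw [← hjf]; exact hz⟩

end Groth.Agent.S15500
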