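import Groth.Statements.S15502
import Mathlib.Algebra.Order.Ring.Star
import Mathlib.Data.Complex.Basic
import Mathlib.LinearAlgebra.Charpoly.Basic
import Mathlib.RingTheory.AdicCompletion.Completeness
import Mathlib.RingTheory.Henselian
import Mathlib.RingTheory.PicardGroup
import Mathlib.RingTheory.TotallySplit
import Mathlib.Tactic

set_option linter.all false

set_option autoImplicit false
open Polynomial
universe u
open CAlg


namespace Groth.Agent.S15502

section
variable {R : Type u} [CommRing R] [IsDomain R] [Algebra ℂ R]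
open Polynomial

theorem pole_step (d r : ℕ) (θ : Fin r → R) (hθ : ∀ i k, i ≠ k → IsUnit (θ i - θ k))
    (Θ : R[X]) (hΘ : Θ = ∏ i, (X - Polynomial.C (θ i)))
    (D₀ : (Fin d → R[X]) →+ (Fin d → R[X]))
    (hD₀ : ∀ (p : R[X]) (v : Fin d → R[X]),
      D₀ (p • v) = (Θ * Polynomial.derivative p) • v + p • D₀ v)
    (Res : Fin r → ((Fin d → R) →ₗ[R] (Fin d → R)))
    (hRes : ∀ (i : Fin r) (m : Fin d → R) (j : Fin d),
      (D₀ (fun j => Polynomial.C (m j)) j).eval (θ i) =
        (∏ k ∈ Finset.univ.erase i, (θ i - θ k)) * Res i m j)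
    (hχ : ∀ i : Fin r, ∃ χ : ℂ[X], (Res i).charpoly = χ.map (algebraMap ℂ R) ∧
      ∀ n : ℤ, n ≠ 0 → χ.eval (n : ℂ) ≠ 0)
    (n : ℕ) (hn : n ≠ 0) :
    (∀ v : Fin d → R[X], ∃ u x : Fin d → R[X], v = D₀ u - ((n : R[X]) * derivative Θ) • u + Θ • x) ∧
    (∀ v x : Fin d → R[X], D₀ v - ((n : R[X]) * derivative Θ) • v = Θ • x → ∃ y, v = Θ • y) := by
  classical
  let c : Fin r → R := fun i => ∏ k ∈ Finset.univ.erase i, (θ i - θ k)
  have hc : ∀ i, IsUnit (c i) := fun i => IsUnit.prod_iff.mpr fun k hk => hθ i k (Finset.ne_of_mem_erase hk).symm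
  have hΘ0 : ∀ i, Θ.eval (θ i) = 0 := fun i => by
    rw [hΘ, eval_prod]
    exact Finset.prod_eq_zero (Finset.mem_univ i) (by simp)
  have hΘ' : ∀ i, (derivative Θ).eval (θ i) = c i := fun i => by
    rw [hΘ, derivative_prod_finset, eval_finsetSum, Finset.sum_eq_single i]
    · simp [c, eval_prod]
    · intro k _ hk
      rw [eval_mul, eval_prod, Finset.prod_eq_zero (Finset.mem_erase.mpr ⟨hk.symm, Finset.mem_univ i⟩) (by simp), zero_mul]
    · simp
  let E : Fin r → (Fin d → R[X]) → (Fin d → R) := fun i v l => (v l).eval (θ i)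
  have hED : ∀ i v, E i (D₀ v) = c i • Res i (E i v) := by
    intro i v
    have hdiv : ∀ l, ∃ w : R[X], v l = Polynomial.C (E i v l) + (X - Polynomial.C (θ i)) * w := fun l => by
      obtain ⟨w, hw⟩ := X_sub_C_dvd_sub_C_eval (p := v l) (a := θ i)
      exact ⟨w, by rw [← hw]; simp [E]⟩
    choose w hw using hdiv
    have hv : v = (fun l => Polynomial.C (E i v l)) + (X - Polynomial.C (θ i)) • w := funext hw
    funext l
    show (D₀ v l).eval (θ i) = _
    conv_lhs => rw [hv, map_add, hD₀]
    simp [hRes, hΘ0, c]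
  have hET : ∀ i v, E i (D₀ v - ((n : R[X]) * derivative Θ) • v) = c i • (Res i (E i v) - (n : R) • E i v) := by
    intro i v
    funext l
    have h := congrFun (hED i v) l
    simp only [E, Pi.smul_apply, smul_eq_mul] at h
    simp [E, h, hΘ']
    ring
  have hbij : ∀ i, Function.Bijective fun m : Fin d → R => c i • (Res i m - (n : R) • m) := by
    intro i
    obtain ⟨χ, hχ1, hχ2⟩ := hχ i
    have hu : IsUnit (LinearMap.det (algebraMap R (Module.End R (Fin d → R)) (n : R) - Res i)) := by
      rw [← LinearMap.eval_charpoly, hχ1, eval_map, ← map_natCast (algebraMap ℂ R) n, eval₂_at_apply]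
      exact (isUnit_iff_ne_zero.mpr (by simpa using hχ2 n (by exact_mod_cast hn))).map _
    obtain ⟨g, hg⟩ : ∃ g : (Fin d → R) ≃ₗ[R] (Fin d → R), ∀ m, g m = (n : R) • m - Res i m := by
      obtain ⟨g, hg⟩ := LinearMap.isUnit_iff_isUnit_det _ |>.mpr hu
      refine ⟨LinearMap.GeneralLinearGroup.generalLinearEquiv R _ g, fun m => ?_⟩
      show g.val m = _
      rw [hg]; ext l; simp [Module.algebraMap_end_apply]
    have : (fun m : Fin d → R => c i • (Res i m - (n : R) • m)) = fun m => (-c i) • g m := by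
      funext m; rw [hg, neg_smul, ← smul_neg, neg_sub]
    rw [this]
    obtain ⟨u, hu'⟩ := (hc i).neg
    rw [← hu']
    exact (Units.isUnit u).smul_bijective.comp g.bijective
  have hdvd : ∀ v : Fin d → R[X], (∀ i, E i v = 0) → ∃ y, v = Θ • y := by
    intro v hv
    have : ∀ l, Θ ∣ v l := fun l => by
      rw [hΘ]
      refine Finset.prod_dvd_of_coprime (fun i _ k _ hik => ?_) (fun i _ => dvd_iff_isRoot.mpr (congrFun (hv i) l))
      obtain ⟨u, hu⟩ := hθ i k hik
      refine ⟨-Polynomial.C (↑u⁻¹ : R), Polynomial.C (↑u⁻¹ : R), ?_⟩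
      have hC : Polynomial.C (↑u⁻¹ : R) * (Polynomial.C (θ i) - Polynomial.C (θ k)) = 1 := by
        rw [← map_sub, ← hu, ← map_mul, Units.inv_mul, map_one]
      linear_combination hC
    choose y hy using this
    exact ⟨y, funext hy⟩
  refine ⟨fun v => ?_, fun v x h => hdvd v fun i => ?_⟩
  · choose m hm using fun i => (hbij i).2 (E i v)
    let u : Fin d → R[X] := fun l => ∑ i, Polynomial.C (m i l * ↑(hc i).unit⁻¹) * ∏ k ∈ Finset.univ.erase i, (X - Polynomial.C (θ k))
    have hu : ∀ i, E i u = m i := fun i => funext fun l => by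
      simp only [E, u, eval_finsetSum, eval_mul, eval_C, eval_prod, eval_sub, eval_X]
      rw [Finset.sum_eq_single i]
      · rw [mul_assoc, show (∏ k ∈ Finset.univ.erase i, (θ i - θ k)) = c i from rfl, IsUnit.val_inv_mul, mul_one]
      · intro k _ hk
        rw [Finset.prod_eq_zero (Finset.mem_erase.mpr ⟨hk.symm, Finset.mem_univ i⟩) (sub_self _), mul_zero]
      · simp
    obtain ⟨y, hy⟩ := hdvd (v - (D₀ u - ((n : R[X]) * derivative Θ) • u)) fun i => by
      have h1 := hET i u
      rw [hu, show c i • (Res i (m i) - (n : R) • m i) = E i v from hm i] at h1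
      funext l
      have := congrFun h1 l
      simp only [E, Pi.sub_apply, eval_sub, Pi.zero_apply] at this ⊢
      rw [this, sub_self]
    exact ⟨u, y, by rw [← hy]; abel⟩
  · refine (hbij i).1 ?_
    have h1 := hET i v
    rw [h] at h1
    simp only [map_zero, sub_zero, smul_zero]
    rw [← h1]
    funext l
    simp [E, hΘ0]

theorem pole_mul {d : ℕ} (Θ : R[X]) (D₀ : (Fin d → R[X]) →+ (Fin d → R[X]))
    (D : (Fin d → Localization.Away Θ) →+ (Fin d → Localization.Away Θ))
    (hD : ∀ (p : R[X]) (w : Fin d → Localization.Away Θ),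
      D (p • w) = (Θ * derivative p) • w + p • D w)
    (hDD₀ : ∀ v : Fin d → R[X],
      D (fun j => algebraMap R[X] (Localization.Away Θ) (v j)) =
        fun j => algebraMap R[X] (Localization.Away Θ) (D₀ v j))
    (n : ℕ) (v : Fin d → R[X]) (w : Fin d → Localization.Away Θ)
    (hw : Θ ^ n • w = fun j => algebraMap R[X] (Localization.Away Θ) (v j)) :
    Θ ^ n • D w = fun j => algebraMap R[X] (Localization.Away Θ) ((D₀ v - ((n : R[X]) * derivative Θ) • v) j) := by
  have h := hD (Θ ^ n) w
  rw [hw, hDD₀] at h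
  have h2 : (Θ * derivative (Θ ^ n)) • w = ((n : R[X]) * derivative Θ) • (Θ ^ n • w) := by
    rw [← mul_smul]
    congr 1
    rcases n with _ | n
    · simp
    · rw [derivative_pow, Nat.add_sub_cancel, map_natCast, pow_succ]; ring
  rw [h2, hw] at h
  funext j
  have := congrFun h j
  simp only [Pi.add_apply, Pi.smul_apply] at this
  simp only [Pi.sub_apply, Pi.smul_apply, smul_eq_mul] at this ⊢
  simp only [Algebra.smul_def, map_sub, map_mul] at this ⊢
  linear_combination -this

end

/-- Let S = Spec R be a smooth connected affine complex variety (R a finitely generated smooth ℂ-algebra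
and a domain), θ_1, …, θ_r ∈ R pairwise disjoint sections of the affine line over S (θ_i − θ_k a
unit for i ≠ k), Θ = ∏ (X − θ_i) ∈ R[X], and M = R^d. Suppose given an additive operator D₀ on M[X]
= R[X]^d with D₀(p v) = Θ p′ v + p D₀(v) (the action of the logarithmic vector field Θ ∂/∂X for a
connection on the trivial bundle of rank d on the affine line over S with logarithmic poles along
the θ_i), its extension D to M[X, 1/Θ] = (R[X][1/Θ])^d with the same Leibniz rule, and for each i
the residue endomorphism Res_i of M, characterised by D₀(m)(θ_i) = (∏_{k ≠ i} (θ_i − θ_k)) ·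
Res_i(m) for constant m ∈ M, whose characteristic polynomial has complex coefficients and no nonzero
integer root. Then M[X, 1/Θ] = D(M[X, 1/Θ]) + M[X]: every element of (R[X][1/Θ])^d is D of some
element plus an element coming from R[X]^d. (The published claim is made for residues whose
characteristic roots all lie in the image of a right inverse τ of the quotient map ℂ → ℂ/ℤ with τ(0)
= 0, so that no root is a nonzero integer and no two roots differ by a nonzero integer; this row
assumes only that no nonzero integer is a root, which is all the argument uses.) -/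
theorem result
    (R : Type u) [CommRing R] [IsDomain R] [Algebra ℂ R] [Algebra.FiniteType ℂ R]
    [Algebra.Smooth ℂ R] (d r : ℕ) (θ : Fin r → R)
    (hθ : ∀ i k, i ≠ k → IsUnit (θ i - θ k))
    (Θ : R[X]) (hΘ : Θ = ∏ i, (X - Polynomial.C (θ i)))
    (D₀ : (Fin d → R[X]) →+ (Fin d → R[X]))
    (hD₀ : ∀ (p : R[X]) (v : Fin d → R[X]),
      D₀ (p • v) = (Θ * Polynomial.derivative p) • v + p • D₀ v)
    (D : (Fin d → Localization.Away Θ) →+ (Fin d → Localization.Away Θ))
    (hD : ∀ (p : R[X]) (w : Fin d → Localization.Away Θ),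
      D (p • w) = (Θ * Polynomial.derivative p) • w + p • D w)
    (hDD₀ : ∀ v : Fin d → R[X],
      D (fun j => algebraMap R[X] (Localization.Away Θ) (v j)) =
        fun j => algebraMap R[X] (Localization.Away Θ) (D₀ v j))
    (Res : Fin r → ((Fin d → R) →ₗ[R] (Fin d → R)))
    (hRes : ∀ (i : Fin r) (m : Fin d → R) (j : Fin d),
      (D₀ (fun j => Polynomial.C (m j)) j).eval (θ i) =
        (∏ k ∈ Finset.univ.erase i, (θ i - θ k)) * Res i m j)
    (hχ : ∀ i : Fin r, ∃ χ : ℂ[X], (Res i).charpoly = χ.map (algebraMap ℂ R) ∧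
      ∀ n : ℤ, n ≠ 0 → χ.eval (n : ℂ) ≠ 0)
    (w : Fin d → Localization.Away Θ) :
    ∃ (w' : Fin d → Localization.Away Θ) (v : Fin d → R[X]),
      w = D w' + fun j => algebraMap R[X] (Localization.Away Θ) (v j) := by
  obtain ⟨v, n, hv⟩ : ∃ (v : Fin d → R[X]) (n : ℕ), Θ ^ n • w = fun j => algebraMap R[X] (Localization.Away Θ) (v j) := by
    obtain ⟨⟨_, n, rfl⟩, hn⟩ := IsLocalization.exist_integer_multiples_of_finite (Submonoid.powers Θ) w
    choose v hv using hn
    exact ⟨v, n, funext fun j => (hv j).symm⟩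
  have hu : ∀ n, IsUnit (algebraMap R[X] (Localization.Away Θ) (Θ ^ n)) := fun n =>
    IsLocalization.map_units (Localization.Away Θ) (⟨Θ ^ n, n, rfl⟩ : Submonoid.powers Θ)
  have hcan : ∀ (n : ℕ) (a b : Fin d → Localization.Away Θ), Θ ^ n • a = Θ ^ n • b → a = b := fun n a b h =>
    funext fun j => (hu n).mul_left_cancel (by simpa [Algebra.smul_def] using congrFun h j)
  induction n generalizing w v with
  | zero => exact ⟨0, v, by rw [pow_zero, one_smul] at hv; rw [map_zero, zero_add]; exact hv⟩
  | succ n ih =>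
    obtain ⟨u, x, hux⟩ := (pole_step d r θ hθ Θ hΘ D₀ hD₀ Res hRes hχ (n + 1) n.succ_ne_zero).1 v
    choose w' hw' using fun j => (hu (n + 1)).dvd (a := algebraMap R[X] (Localization.Away Θ) (u j))
    have hw : Θ ^ (n + 1) • w' = fun j => algebraMap R[X] (Localization.Away Θ) (u j) :=
      funext fun j => by rw [Pi.smul_apply, Algebra.smul_def]; exact (hw' j).symm
    have hD' := pole_mul Θ D₀ D hD hDD₀ (n + 1) u w' hw
    obtain ⟨w'', v'', h⟩ := ih (w - D w') x (hcan 1 _ _ (by
      rw [← mul_smul, ← pow_add, add_comm 1 n, smul_sub, hv, hD']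
      funext j
      simp only [Pi.sub_apply, Pi.smul_apply, smul_eq_mul]
      simp only [Algebra.smul_def, pow_one, ← map_mul, ← map_sub]
      congr 1
      have := congrFun hux j
      simp only [Pi.add_apply, Pi.sub_apply, Pi.smul_apply, smul_eq_mul] at this ⊢
      rw [this]; ring))
    refine ⟨w' + w'', v'', ?_⟩
    rw [map_add, add_assoc, ← h, add_sub_cancel]

end Groth.Agent.S15502
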