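import Groth.Statements.S15505
import Mathlib.Algebra.CharP.Basic
import Mathlib.FieldTheory.Finite.Basic
-- import your own Groth.Agent.* helpers here

set_option autoImplicit false
universe u v w
open FrobAlg

namespace Groth.Agent.S15505

/-- Let k be an algebraically closed field of characteristic p, V a k-vector space, φ a p⁻¹-linear
endomorphism of V (additive, φ(a·v) = a^{1/p}·φ(v)) and b a finite basis of V consisting of vectors
fixed by φ. Then the vectors fixed by φ are exactly the combinations of the b_i with coefficients in
the prime field: v is fixed if and only if v = Σ c_i·b_i with all c_i in the image of ℤ/p. -/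
theorem result (p : ℕ) [Fact p.Prime]
    (k : Type u) [Field k] [CharP k p] [IsAlgClosed k]
    (V : Type v) [AddCommGroup V] [Module k V]
    (φ : V →ₛₗ[((frobeniusEquiv k p).symm : k →+* k)] V)
    {ι : Type w} [Fintype ι] (b : Module.Basis ι k V) (hb : ∀ i, φ (b i) = b i) (v : V) :
    φ v = v ↔ ∃ c : ι → ZMod p, v = ∑ i, (ZMod.castHom (dvd_refl p) k (c i)) • b i := by
  classical
  have hrepr : φ v = ∑ i, (frobeniusEquiv k p).symm (b.repr v i) • b i := by
    conv_lhs => rw [← b.sum_repr v, map_sum]
    exact Finset.sum_congr rfl fun i _ => by rw [map_smulₛₗ, hb]; rfl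
  constructor
  · intro h
    rw [hrepr] at h
    have hfix : ∀ i, b.repr v i ^ p = b.repr v i := fun i => by
      have h1 := congrArg (fun w => b.repr w i) h
      simp only [b.repr_sum_self] at h1
      conv_lhs => rw [← h1]
      exact (frobeniusEquiv k p).apply_symm_apply _
    have hmem : ∀ i, ∃ c : ZMod p, ZMod.castHom (dvd_refl p) k c = b.repr v i := by
      intro i
      by_contra hne
      push_neg at hne
      let P : Polynomial k := Polynomial.X ^ p - Polynomial.X
      have hP : P ≠ 0 := FiniteField.X_pow_card_sub_X_ne_zero k (Fact.out : p.Prime).one_lt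
      let f : ZMod p → k := ZMod.castHom (dvd_refl p) k
      have hsub : insert (b.repr v i) (Finset.univ.image f) ⊆ P.roots.toFinset := by
        intro x hx
        rw [Multiset.mem_toFinset, Polynomial.mem_roots hP, Polynomial.IsRoot.def]
        simp only [P, Polynomial.eval_sub, Polynomial.eval_pow, Polynomial.eval_X, sub_eq_zero]
        rcases Finset.mem_insert.1 hx with rfl | hx
        · exact hfix i
        · obtain ⟨c, -, rfl⟩ := Finset.mem_image.1 hx
          simp only [f, ← map_pow, ZMod.pow_card]
      have h2 := (Finset.card_le_card hsub).trans ((Multiset.toFinset_card_le _).trans (Polynomial.card_roots' P))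
      rw [Finset.card_insert_of_notMem (by simpa [f] using hne),
        Finset.card_image_of_injective _ (RingHom.injective _), Finset.card_univ, ZMod.card,
        show P.natDegree = p from FiniteField.X_pow_card_sub_X_natDegree_eq k (Fact.out : p.Prime).one_lt] at h2
      omega
    choose c hc using hmem
    exact ⟨c, by simp only [hc, b.sum_repr]⟩
  · rintro ⟨c, rfl⟩
    rw [map_sum]
    refine Finset.sum_congr rfl fun i _ => ?_
    rw [map_smulₛₗ, hb]
    congr 1
    refine (RingEquiv.symm_apply_eq _).2 ?_
    rw [frobeniusEquiv_apply, frobenius_def, ← map_pow, ZMod.pow_card]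

end Groth.Agent.S15505
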