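import Groth.Statements.S15506
import Mathlib.AlgebraicGeometry.Morphisms.Flat
import Mathlib.AlgebraicGeometry.Morphisms.Etale
import Mathlib.RingTheory.Unramified.Finite
import Mathlib.FieldTheory.IsAlgClosed.Basic

set_option autoImplicit false
universe u
open CategoryTheory AlgebraicGeometry
open EtBase

namespace Groth.Agent.S15506

/-- Let k be a field, K an algebraic closure of k (an algebraically closed field algebraic over k), Ω a
field containing K, and Z a scheme étale over Spec k. Composition with Spec Ω → Spec K is a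
bijection from the k-morphisms Spec K → Z onto the k-morphisms Spec Ω → Z: two k-morphisms Spec K →
Z that agree on Spec Ω are equal, and every k-morphism Spec Ω → Z factors through Spec K. (The
published statement is the case where k has characteristic zero with a chosen embedding of its
algebraic closure into the complex numbers, Ω = ℂ, and Z is the scheme of isomorphisms between two
K3 surfaces over k, known there to be étale over k; this row states the fact about an arbitrary
étale k-scheme that the argument establishes.) -/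
theorem result
    (k K Ω : Type u) [Field k] [Field K] [Field Ω] [Algebra k K] [IsAlgClosed K] [Algebra.IsAlgebraic k K]
    [Algebra K Ω] [Algebra k Ω] [IsScalarTower k K Ω]
    (Z : Scheme.{u}) (f : Z ⟶ Spec (CommRingCat.of k)) [AlgebraicGeometry.Etale f] :
    (∀ g₁ g₂ : Spec (CommRingCat.of K) ⟶ Z,
        g₁ ≫ f = Spec.map (CommRingCat.ofHom (algebraMap k K)) →
        g₂ ≫ f = Spec.map (CommRingCat.ofHom (algebraMap k K)) →
        Spec.map (CommRingCat.ofHom (algebraMap K Ω)) ≫ g₁ = Spec.map (CommRingCat.ofHom (algebraMap K Ω)) ≫ g₂ →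
        g₁ = g₂) ∧
    (∀ h : Spec (CommRingCat.of Ω) ⟶ Z, h ≫ f = Spec.map (CommRingCat.ofHom (algebraMap k Ω)) →
        ∃ g : Spec (CommRingCat.of K) ⟶ Z, g ≫ f = Spec.map (CommRingCat.ofHom (algebraMap k K)) ∧
          Spec.map (CommRingCat.ofHom (algebraMap K Ω)) ≫ g = h) := by
  constructor
  · intro g₁ g₂ _ _ h
    haveI : Nontrivial Ω := inferInstance
    haveI : Flat (Spec.map (CommRingCat.ofHom (algebraMap K Ω))) := by
      rw [HasRingHomProperty.Spec_iff (P := @Flat), CommRingCat.hom_ofHom, RingHom.flat_algebraMap_iff]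
      infer_instance
    haveI : Surjective (Spec.map (CommRingCat.ofHom (algebraMap K Ω))) :=
      ⟨fun x => ⟨IsLocalRing.closedPoint Ω, Subsingleton.elim _ _⟩⟩
    haveI := Flat.epi_of_flat_of_surjective (Spec.map (CommRingCat.ofHom (algebraMap K Ω)))
    exact (cancel_epi _).mp h
  · intro h hh
    obtain ⟨U, hU, hzU, -⟩ := exists_isAffineOpen_mem_and_subset (X := Z)
      (x := h (IsLocalRing.closedPoint Ω)) (U := ⊤) trivial
    have hr : Set.range h ⊆ Set.range hU.fromSpec := by
      rw [hU.range_fromSpec]
      rintro _ ⟨p, rfl⟩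
      rw [Subsingleton.elim p (IsLocalRing.closedPoint Ω)]
      exact hzU
    let h' := IsOpenImmersion.lift hU.fromSpec h hr
    have hh' : h' ≫ hU.fromSpec = h := IsOpenImmersion.lift_fac _ _ _
    obtain ⟨φ, hφ⟩ := Spec.map_surjective h'
    obtain ⟨ψ, hψ⟩ := Spec.map_surjective (hU.fromSpec ≫ f)
    have hψet : ψ.hom.Etale := by
      rw [← HasRingHomProperty.Spec_iff (P := @AlgebraicGeometry.Etale), hψ]
      infer_instance
    algebraize [ψ.hom]
    haveI : Module.Finite k Γ(Z, U) := Algebra.FormallyUnramified.finite_of_free k _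
    have hcomp : φ.hom.comp ψ.hom = algebraMap k Ω := by
      have : Spec.map (ψ ≫ φ) = Spec.map (CommRingCat.ofHom (algebraMap k Ω)) := by
        rw [Spec.map_comp, hφ, hψ, ← Category.assoc, hh', hh]
      exact congrArg CommRingCat.Hom.hom (Spec.map_injective this)
    have hmem : ∀ a, φ.hom a ∈ (algebraMap K Ω).range := by
      intro a
      have hi : IsIntegral k (φ.hom a) :=
        (IsIntegral.of_finite k a).map_of_comp_eq (RingHom.id k) φ.hom (by rw [RingHom.comp_id]; exact hcomp.symm)
      have hiK : IsIntegral K (φ.hom a) := hi.tower_top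
      haveI := IntermediateField.isAlgebraic_adjoin_simple hiK
      obtain ⟨c, hc⟩ := (IsAlgClosed.algebraMap_bijective_of_isIntegral
        (k := K) (K := IntermediateField.adjoin K {φ.hom a})).2 ⟨φ.hom a, IntermediateField.mem_adjoin_simple_self K _⟩
      exact ⟨c, congrArg Subtype.val hc⟩
    let eK := RingEquiv.ofBijective (algebraMap K Ω).rangeRestrict
      ⟨fun x y hxy => (algebraMap K Ω).injective (congrArg Subtype.val hxy), RingHom.rangeRestrict_surjective _⟩
    let θ : Γ(Z, U) →+* K := eK.symm.toRingHom.comp (φ.hom.codRestrict (algebraMap K Ω).range hmem)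
    have hθ : ∀ a, algebraMap K Ω (θ a) = φ.hom a := fun a =>
      congrArg Subtype.val (eK.apply_symm_apply (φ.hom.codRestrict (algebraMap K Ω).range hmem a))
    refine ⟨Spec.map (CommRingCat.ofHom θ) ≫ hU.fromSpec, ?_, ?_⟩
    · rw [Category.assoc, ← hψ, ← Spec.map_comp]
      congr 1
      ext c
      apply (algebraMap K Ω).injective
      show algebraMap K Ω (θ (ψ.hom c)) = algebraMap K Ω (algebraMap k K c)
      rw [← IsScalarTower.algebraMap_apply k K Ω, ← hcomp]
      exact hθ _
    · rw [← Category.assoc, ← Spec.map_comp]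
      have : CommRingCat.ofHom θ ≫ CommRingCat.ofHom (algebraMap K Ω) = φ := by
        ext a; exact hθ a
      rw [this, hφ, hh']

end Groth.Agent.S15506
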