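import Groth.Statements.S15509
import Groth.Agent.AbVarLib.TorsReduction
-- import your own Groth.Agent.* helpers here

set_option autoImplicit false
set_option linter.style.haveILetI false
set_option backward.isDefEq.respectTransparency.types false
universe u
open CategoryTheory CategoryTheory.Limits MonoidalCategory CartesianMonoidalCategory MonObj AlgebraicGeometry
open AbSch

namespace Groth.Agent.S15509

open CategoryTheory CategoryTheory.Limits MonObj AlgebraicGeometry in
open Groth.Agent in
/-- Let R be a regular local ring which is a domain and contains the rational numbers, with fraction
field K and residue field k, and let A be an abelian scheme over Spec R of relative dimension g (a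
commutative group scheme which is smooth and proper with geometrically connected fibres of dimension
g). Then for every integer m ≥ 1 the number of K-valued points of A over Spec R killed by m is at
most the number of k-valued points of A over Spec R killed by m: the m-torsion of the rational
points of the generic fibre is no larger than the m-torsion of the rational points of the closed
fibre. (The published statement is for an arbitrary Noetherian regular local ring R inside a paper
whose standing setting is schemes over the complex numbers; this row keeps from that setting only
that R contains the rationals, which is what the printed argument uses to make the m-torsion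
subgroup scheme étale over the base.) -/
theorem result
    (R : Type u) [CommRing R] [IsDomain R] [IsRegularLocalRing R] [Algebra ℚ R]
    (A : Over (Spec (CommRingCat.of R))) [GrpObj A] [IsCommMonObj A] (g : ℕ) (hA : AgPol.IsAbSch A g)
    (m : ℕ) (hm : 1 ≤ m) :
    Nat.card (AbDual.torsPts A m (Over.mk (Spec.map (CommRingCat.ofHom (algebraMap R (FractionRing R)))))) ≤
      Nat.card (AbDual.torsPts A m (Over.mk (Spec.map (CommRingCat.ofHom (IsLocalRing.residue R))))) := by
  haveI := hA.smooth
  haveI := hA.proper
  haveI := Groth.Agent.CAlgH3.isIntegrallyClosed_of_regular R
  refine Groth.Agent.AbVarLib.TorsReduction.natCard_torsPts_le A m ?_
  have h : IsUnit (algebraMap ℚ R (m : ℚ)) := (IsUnit.mk0 _ (by positivity)).map _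
  simpa using h

end Groth.Agent.S15509
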