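import Groth.Statements.S15510
import Groth.Agent.AbVarLib.AffineConstant
-- import your own Groth.Agent.* helpers here

set_option autoImplicit false
universe u
open CategoryTheory CategoryTheory.Limits MonoidalCategory CartesianMonoidalCategory MonObj AlgebraicGeometry
open AbVar

namespace Groth.Agent.S15510

/-- Let F be a field and A a principally polarized abelian variety over F: a commutative group scheme
over Spec F, smooth and proper with geometrically connected fibres of dimension g, given together
with a commutative group scheme At, data φ presenting At as the dual of A for the fppf topology, and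
a polarization lam : A ⟶ At which is an isomorphism. Let Q = F(t_1, …, t_n) be the field of rational
functions in n variables over F. Then base change from F to Q is a bijection from the F-rational
points of A onto the Q-valued points of A over Spec F: every Q-point of A comes from exactly one
F-point. -/
theorem result
    (F : Type u) [Field F]
    (A At : Over (Spec (CommRingCat.of F))) [GrpObj A] [IsCommMonObj A] [GrpObj At] [IsCommMonObj At]
    (g : ℕ) (hA : AgPol.IsAbSch A g)
    (φ : AgPol.DualMap A At) (hdual : AbDual.IsDualAV Scheme.fppfPrecoverage A At φ)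
    (lam : A ⟶ At) (hpol : AgPol.IsPolarization A At φ lam) (hiso : IsIso lam) (n : ℕ) :
    Function.Bijective (fun x : (Over.mk (𝟙 (Spec (CommRingCat.of F))) ⟶ A) =>
      (Over.homMk (Spec.map (CommRingCat.ofHom (algebraMap F (FractionRing (MvPolynomial (Fin n) F)))))
          (Category.comp_id _) :
        Over.mk (Spec.map (CommRingCat.ofHom (algebraMap F (FractionRing (MvPolynomial (Fin n) F))))) ⟶
          Over.mk (𝟙 (Spec (CommRingCat.of F)))) ≫ x) := by
  haveI := hA.proper
  let K := FractionRing (MvPolynomial (Fin n) F)
  let q : Spec (CommRingCat.of K) ⟶ Spec (CommRingCat.of F) := Spec.map (CommRingCat.ofHom (algebraMap F K))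
  haveI : Flat q := (Flat.SpecMap_iff).2 ((RingHom.flat_algebraMap_iff (R := F) (S := K)).2 inferInstance)
  haveI : Surjective q := ⟨fun _ => ⟨IsLocalRing.closedPoint K, Subsingleton.elim _ _⟩⟩
  haveI : Epi q := Flat.epi_of_flat_of_surjective q
  refine ⟨fun a b h => Over.OverMorphism.ext ((cancel_epi q).1 ?_), fun y => ?_⟩
  · exact congrArg CommaMorphism.left h
  · obtain ⟨a, ha⟩ := Groth.Agent.AbVarLib.AffineConstant.exists_eq_toUnit_comp (A := A) (Fin n) K y
    refine ⟨a, ?_⟩
    rw [ha]
    exact Over.OverMorphism.ext ((Groth.Agent.AbVarLib.AffineConstant.toUnit_sp K a).symm)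


end Groth.Agent.S15510
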