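import Groth.Statements.S15511
import Groth.Agent.AbDualS27.LambdaConst
-- import your own Groth.Agent.* helpers here

set_option autoImplicit false
set_option linter.style.haveILetI false
set_option backward.isDefEq.respectTransparency.types false
universe u
open CategoryTheory CategoryTheory.Limits MonoidalCategory CartesianMonoidalCategory MonObj AlgebraicGeometry
open AbSch

namespace Groth.Agent.S15511

open CategoryTheory CategoryTheory.Limits MonObj AlgebraicGeometry in
open Groth.Agent in
/-- Let S be a connected locally Noetherian scheme, A an abelian scheme over S (a commutative group
scheme which is smooth and proper with geometrically connected fibres of dimension g) given with a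
commutative group scheme At and data φ presenting At as the dual of A for the fppf topology, L an
invertible module on A, and lam : A ⟶ At the homomorphism attached to L through φ (the morphism
sending a point x to the class of the translate of L by x tensor the inverse of L). If for some
closed point s of S the base change of lam to the fibre over s is the trivial homomorphism (the
class of L restricted to the fibre A_s has vanishing attached homomorphism, i.e. is zero in the
Néron–Severi group), then lam itself is the trivial homomorphism, the structure morphism of A
followed by the unit section of At. (The published statement does not ask S to be connected; over a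
base with two connected components, L trivial over one component and relatively ample over the other
gives an attached homomorphism vanishing on a closed fibre without vanishing identically, and the
printed proof rests on the rigidity lemma, which needs a connected base. The base is also taken
locally Noetherian, the published setting being schemes locally of finite type over ℂ.) -/
theorem result
    (S : Scheme.{u}) [IsLocallyNoetherian S] [ConnectedSpace S]
    (A At : Over S) [GrpObj A] [IsCommMonObj A] [GrpObj At] [IsCommMonObj At]
    (g : ℕ) (hA : AgPol.IsAbSch A g)
    (φ : AgPol.DualMap A At) (hdual : AbDual.IsDualAV Scheme.fppfPrecoverage A At φ)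
    (L : A.left.Modules) (hL : PicF.IsInvertible L) (lam : A ⟶ At) (hlam : AgPol.IsLambda A At φ L lam)
    (s : S) (hs : IsClosed ({s} : Set S))
    (h : (Over.pullback (S.fromSpecResidueField s)).map lam = 1) :
    lam = 1 := by
  haveI := hA.proper
  haveI := hA.smooth
  haveI := hA.geomConnected
  obtain ⟨N, hN, ⟨e⟩, hlam'⟩ := hlam
  subst hlam'
  refine Groth.Agent.AbDualS27.lambda_eq_one hdual (PicLib.PicM.of hL) (PicLib.PicM.of hN) ?_ s ?_
  · rw [PicLib.PicM.pull_of, PicLib.PicM.pull_of, PicLib.PicM.pull_of, PicLib.PicM.of_mul, PicLib.PicM.of_mul,
      PicLib.PicM.of_eq_iff]
    exact ⟨e.symm⟩
  · have h2 := h.trans (CategoryTheory.Functor.map_one (Over.pullback (S.fromSpecResidueField s))).symm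
    have h3 := congrArg (fun z => Over.Hom.left z ≫ pullback.fst At.hom (S.fromSpecResidueField s)) h2
    simp only [Over.pullback_map_left, pullback.lift_fst] at h3
    exact h3

end Groth.Agent.S15511
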