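import Groth.Statements.S15512
import Groth.Agent.EGA41Lib.ExtPd
import Groth.Agent.VBPnLib.ExtRing
import Groth.Agent.LocCoh.ExtLocalGlobal
-- import your own Groth.Agent.* helpers here

set_option autoImplicit false
universe u
open CategoryTheory
open CAlg

namespace Groth.Agent.S15512

/-- Let A be a Noetherian ring which is regular (its localization at every maximal ideal is a regular
local ring) and of finite Krull dimension, M a finitely generated A-module and d a natural number.
If Ext^i_A(M, A) vanishes for every i > d, then the projective dimension of M is at most d. -/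
theorem result (A : Type u) [CommRing A]
    [IsNoetherianRing A] (hreg : ∀ m : MaximalSpectrum A, IsRegularLocalRing (Localization.AtPrime m.asIdeal))
    (hdim : ringKrullDim A < ⊤) (M : Type u) [AddCommGroup M] [Module A M] [Module.Finite A M] (d : ℕ)
    (h : ∀ i : ℕ, d < i → Subsingleton (Abelian.Ext (ModuleCat.of A M) (ModuleCat.of A A) i)) :
    HasProjectiveDimensionLT (ModuleCat.of A M) (d + 1) := by
  refine EGA41Lib.pd_of_ext_finite d M fun N _ _ _ => subsingleton_of_forall_eq 0 fun x => ?_
  have key : ∀ P : Ideal A, P.IsMaximal → ∃ s ∉ P, s • x = 0 := by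
    intro P hP
    haveI := hP.isPrime
    haveI : IsRegularLocalRing (Localization P.primeCompl) := hreg ⟨P, hP⟩
    haveI : Module.Finite (Localization P.primeCompl) (LocalizedModule P.primeCompl M) :=
      Module.Finite.of_isLocalizedModule P.primeCompl (LocalizedModule.mkLinearMap P.primeCompl M)
    have hpd := VBPnLib.pd_of_ext (A := Localization P.primeCompl) (LocalizedModule P.primeCompl M) d fun i hi => by
      have h1 := LocCoh.subsingleton_ext_localized P.primeCompl i M A (h i hi)
      let e : ModuleCat.of (Localization P.primeCompl) (LocalizedModule P.primeCompl A) ≅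
          ModuleCat.of (Localization P.primeCompl) (Localization P.primeCompl) :=
        ((IsLocalizedModule.iso P.primeCompl (Algebra.linearMap A (Localization P.primeCompl))).extendScalarsOfIsLocalization
          P.primeCompl (Localization P.primeCompl)).toModuleIso
      refine subsingleton_of_forall_eq 0 fun z => ?_
      have h2 : z.comp (Abelian.Ext.mk₀ e.inv) (add_zero i) = 0 := @Subsingleton.elim _ h1 _ _
      have h3 := congrArg (fun w => w.comp (Abelian.Ext.mk₀ e.hom) (add_zero i)) h2
      simpa only [Abelian.Ext.comp_assoc_of_third_deg_zero, Abelian.Ext.mk₀_comp_mk₀, e.inv_hom_id,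
        Abelian.Ext.comp_mk₀_id, Abelian.Ext.zero_comp] using h3
    haveI : HasProjectiveDimensionLT (ModuleCat.of (Localization P.primeCompl) (LocalizedModule P.primeCompl M)) (d + 1) := hpd
    exact LocCoh.exists_kill_of_subsingleton_ext_localized P.primeCompl (d + 1) M N
      (HasProjectiveDimensionLT.subsingleton _ (d + 1) (d + 1) le_rfl _) x
  by_contra hx
  obtain ⟨P, hP, hle⟩ := Ideal.exists_le_maximal (LinearMap.ker (LinearMap.toSpanSingleton A _ x)) (fun he => hx (by
    have h1 : (1 : A) ∈ LinearMap.ker (LinearMap.toSpanSingleton A _ x) := he ▸ Submodule.mem_top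
    simpa using h1))
  obtain ⟨s, hs, hsx⟩ := key P hP
  exact hs (hle (by simpa using hsx))

end Groth.Agent.S15512
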