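import Groth.Statements.S15518
import Groth.Agent.ExtAff22.Sections
import Groth.Agent.Props12.TildeFin
import Groth.Agent.SerreDual.ExtShBasic

set_option autoImplicit false
set_option linter.style.haveILetI false
set_option backward.isDefEq.respectTransparency.types false
universe u
open CategoryTheory CategoryTheory.Limits AlgebraicGeometry
open Coherent

namespace Groth.Agent.S15518

private theorem tilde_of_sec {R : CommRingCat.{u}} (H : (Spec R).Modules) [Coh.IsQCoh H] {S : Type u}
    [AddCommGroup S] [Module R S]
    (e : ((Groth.Agent.ExtAff22.secR (Scheme.ΓSpecIso R).inv.hom).obj H : Type u) ≃ₗ[R] S) :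
    Nonempty (H ≅ tilde (ModuleCat.of R S)) := by
  have : IsIso (Scheme.Modules.fromTildeΓ H) :=
    @Scheme.Modules.isIso_fromTildeΓ_of_isQuasicoherent R H inferInstance
  let E : (modulesSpecToSheaf.obj H).presheaf.obj (Opposite.op ⊤) ≅ ModuleCat.of R S := e.toModuleIso
  exact ⟨(asIso (Scheme.Modules.fromTildeΓ H)).symm ≪≫ (tilde.functor R).mapIso E⟩

private theorem sec_tilde {R : CommRingCat.{u}} (M : ModuleCat.{u} R) :
    Nonempty ((Groth.Agent.ExtAff22.secR (Scheme.ΓSpecIso R).inv.hom).obj (tilde M) ≅ M) := by
  exact ⟨(tilde.isoTop M).symm⟩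

/-- Let A be a Noetherian ring, X = Spec A, M a finitely generated A-module and N an arbitrary A-module.
Then for every i the Ext sheaf Ext^i_{O_X}(M~, N~) — the i-th right derived functor of the internal
Hom functor Hom(M~, -) on O_X-modules (its existence and that of injective resolutions are the
stated instance hypotheses, both true), evaluated at N~ — is isomorphic as an O_X-module to the
sheaf associated with the A-module Ext^i_A(M, N) (Ext in the category of A-modules, with its
A-linear structure). (Existence of an isomorphism only; the published identification is the natural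
one.) -/
theorem result (A : Type u) [CommRing A] [IsNoetherianRing A]
    (M : Type u) [AddCommGroup M] [Module A M] [Module.Finite A M] (N : Type u) [AddCommGroup N] [Module A N]
    [ModSite.HasSheafHom (O := (Spec (CommRingCat.of A)).sheaf) (tilde (R := CommRingCat.of A) (ModuleCat.of A M))]
    [HasInjectiveResolutions (ModSite.Mod (Spec (CommRingCat.of A)).sheaf)] (i : ℕ) :
    Nonempty (((ModSite.extSh (O := (Spec (CommRingCat.of A)).sheaf) (tilde (R := CommRingCat.of A) (ModuleCat.of A M)) i).obj
        (tilde (R := CommRingCat.of A) (ModuleCat.of A N))) ≅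
      tilde (R := CommRingCat.of A) (ModuleCat.of A (Abelian.Ext (ModuleCat.of A M) (ModuleCat.of A N) i))) := by
  haveI : IsLocallyNoetherian (Spec (CommRingCat.of A)) := inferInstance
  let R : CommRingCat.{u} := CommRingCat.of A
  let F : (Spec R).Modules := tilde (R := R) (ModuleCat.of A M)
  let G : (Spec R).Modules := tilde (R := R) (ModuleCat.of A N)
  haveI hGq : Coh.IsQCoh G := Groth.Agent.Props12.isQCoh_tilde _
  have hF : Coh.IsCoh F := ⟨Groth.Agent.Props12.isQCoh_tilde _,
    (Groth.Agent.Props12.isFT_tilde_iff _).2 ‹Module.Finite A M›⟩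
  haveI : HasInjectiveResolutions (Spec R).Modules := ‹HasInjectiveResolutions (ModSite.Mod (Spec (CommRingCat.of A)).sheaf)›
  let I : InjectiveResolution G := injectiveResolution G
  let ρ : A →+* Γ(Spec R, ⊤) := (Scheme.ΓSpecIso R).inv.hom
  have hρ : Function.Bijective ρ := ConcreteCategory.bijective_of_isIso (Scheme.ΓSpecIso R).inv
  obtain ⟨hq, ⟨e⟩⟩ := Groth.Agent.ExtAff22.qcoh_and_sections (G := G) ρ I hρ (isAffineOpen_top _) i hF
  obtain ⟨aM⟩ := sec_tilde (R := R) (ModuleCat.of A M)
  obtain ⟨aN⟩ := sec_tilde (R := R) (ModuleCat.of A N)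
  haveI := hq
  obtain ⟨t⟩ := tilde_of_sec (R := R) ((Groth.Agent.SerreDual.homCx F I).homology i)
    (e.trans (Groth.Agent.ExtAff22.extCongr aM aN i))
  exact ⟨(show (ModSite.extSh (O := (Spec R).sheaf) F i).obj G ≅ _ from Groth.Agent.SerreDual.extShIso F I i) ≪≫ t⟩

end Groth.Agent.S15518
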