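import Groth.Statements.S15519
import Groth.Agent.SerreDual.ExtShClosed

set_option autoImplicit false
universe u
open CategoryTheory CategoryTheory.Limits AlgebraicGeometry
open ProjDual

namespace Groth.Agent.S15519

/-- Let k be a field, ι : X → P^n_k a closed immersion over k, O_X(1) = ι^*O(1), and F, G coherent
O_X-modules. Then for every m there is d₀ such that for every d ≥ d₀ the group Ext^m_{O_X}(F, G(d)),
computed in the category of all O_X-modules (the Ext instance, the internal Hom functor of F and
injective resolutions are the stated instance hypotheses, all true) with its k-linear structure, is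
k-linearly isomorphic to the k-vector space of global sections H^0(X, Ext^m_{O_X}(F, G(d))) of the
Ext sheaf, where G(d) = G ⊗ ι^*O(d). (Existence of a k-linear isomorphism only; the published
identification is the edge map of the local-to-global spectral sequence.) -/
theorem result (k : Type u) [Field k] (n : ℕ)
    (X : Scheme.{u}) [X.Over (Spec (CommRingCat.of k))] (ι : X ⟶ CohB1.ProjSpace n k) [IsClosedImmersion ι]
    (hι : ι ≫ CohB1.ProjSpace.toSpec n k = X ↘ Spec (CommRingCat.of k))
    [HasExt.{u} X.Modules] (F G : X.Modules) (hF : Coh.IsCoh F) (hG : Coh.IsCoh G)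
    [ModSite.HasSheafHom (O := X.sheaf) F] [HasInjectiveResolutions (ModSite.Mod X.sheaf)] (m : ℕ) :
    ∃ d₀ : ℕ, ∀ d : ℕ, d₀ ≤ d →
      Nonempty (Abelian.Ext F (CohB1.tensorMod G ((Scheme.Modules.pullback ι).obj (Twist.twistProjSpace n k (d : ℤ)))) m ≃ₗ[k]
        Coh.HH X ((ModSite.extSh (O := X.sheaf) F m).obj
          (CohB1.tensorMod G ((Scheme.Modules.pullback ι).obj (Twist.twistProjSpace n k (d : ℤ))))) 0) := by
  haveI hres : HasInjectiveResolutions X.Modules := SerreDual.hasInjectiveResolutions_modules X
  obtain ⟨N, hN⟩ := SerreDual.eventually_ext_equiv_sections_closed ι hι hF hG m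
  refine ⟨N, fun d hd => ?_⟩
  let J := injectiveResolution
    (CohB1.tensorMod G ((Scheme.Modules.pullback ι).obj (Twist.twistProjSpace n k (d : ℤ))))
  obtain ⟨φ⟩ := hN d hd J
  exact ⟨φ.trans (SerreDual.hmapIso k (SerreDual.extShIso F J m).symm 0)⟩

end Groth.Agent.S15519
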