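import Groth.Statements.S1552
import Groth.Agent.H8Coh.TransClass
import Groth.Agent.PicLib.FiniteSetTriv

set_option autoImplicit false
set_option backward.isDefEq.respectTransparency false
set_option backward.isDefEq.respectTransparency.types false
set_option linter.all false
universe u
open CategoryTheory CategoryTheory.Limits AlgebraicGeometry
open Variety
open Groth.Agent.Coherent Groth.Agent.PicLib Groth.Agent.H8Coh

namespace Groth.Agent.S1552

/-- Functions on an open of the isomorphism locus. -/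
theorem bijective_app {X Y : Scheme.{u}} (f : X ⟶ Y) {V : Y.Opens} (hV : IsIso (f ∣_ V)) {W : Y.Opens} (hW : W ≤ V) :
    Function.Bijective (f.app W) := by
  obtain ⟨W', rfl⟩ : ∃ W' : V.toScheme.Opens, V.ι ''ᵁ W' = W := ⟨V.ι ⁻¹ᵁ W, by
    rw [V.ι.image_preimage_eq_opensRange_inf, Scheme.Opens.opensRange_ι, inf_eq_right]; exact hW⟩
  have h1 : IsIso ((f ∣_ V).app W') := inferInstance
  rw [morphismRestrict_app] at h1
  have h2 : IsIso (f.app (V.ι ''ᵁ W')) := IsIso.of_isIso_comp_right _ (X.presheaf.map (eqToHom (image_morphismRestrict_preimage f V W')).op)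
  exact ConcreteCategory.bijective_of_isIso _

/-- Functoriality of restriction. -/
theorem app_res {X Y : Scheme.{u}} (f : X ⟶ Y) {U W : Y.Opens} (h : W ≤ U) (r : Γ(Y, U)) :
    f.app W (PicLib.res h r) = PicLib.res (show f ⁻¹ᵁ W ≤ f ⁻¹ᵁ U from fun z hz => h hz) (f.app U r) :=
  ConcreteCategory.congr_hom (f.naturality (homOfLE h).op) r

/-- Let f : X → Y be finite, and V ⊆ Y an open over which f is an isomorphism, with Y minus V a discrete
space. Then every invertible O_X-module is isomorphic to the pullback of an invertible O_Y-module. -/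
theorem result {X Y : Scheme.{u}} (f : X ⟶ Y) [IsFinite f]
    (V : Y.Opens) (hV : IsIso (f ∣_ V)) (hdisc : DiscreteTopology ((V : Set Y)ᶜ : Set Y))
    (L : X.Modules) (hL : PicF.IsInvertible L) :
    ∃ N : Y.Modules, PicF.IsInvertible N ∧ Nonempty ((Scheme.Modules.pullback f).obj N ≅ L) := by
  classical
  -- the covering
  have hcov : ∀ y : Y, ∃ (U : Y.Opens), y ∈ U ∧ (∀ z ∈ U, z ∉ V → z = y) ∧ (y ∈ V → U ≤ V) ∧
      ∃ s : Γ(L, f ⁻¹ᵁ U), IsGen L (f ⁻¹ᵁ U) s := by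
    intro y
    obtain ⟨U₀, hy₀, ⟨e⟩⟩ := LocFreeLib.exists_iso_freeMod_preimage f (PicLib.isFinLocFreeOfRank_one hL) y
    obtain ⟨s, hs⟩ := PicLib.exists_isGen_of_iso (e ≪≫ PicLib.freeModOneIso _)
    by_cases hy : y ∈ V
    · exact ⟨U₀ ⊓ V, ⟨hy₀, hy⟩, fun z hz hzV => (hzV hz.2).elim, fun _ => inf_le_right, _,
        hs.restrict (show f ⁻¹ᵁ (U₀ ⊓ V) ≤ f ⁻¹ᵁ U₀ from fun z hz => hz.1)⟩
    · have h1 : IsOpen ({⟨y, hy⟩} : Set ((V : Set Y)ᶜ : Set Y)) := isOpen_discrete _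
      obtain ⟨O, hO, hOy⟩ := isOpen_induced_iff.mp h1
      have hyO : y ∈ O := by
        have : (⟨y, hy⟩ : ((V : Set Y)ᶜ : Set Y)) ∈ Subtype.val ⁻¹' O := by rw [hOy]; exact rfl
        exact this
      refine ⟨U₀ ⊓ ⟨O, hO⟩, ⟨hy₀, hyO⟩, fun z hz hzV => ?_, fun h => (hy h).elim, _,
        hs.restrict (show f ⁻¹ᵁ (U₀ ⊓ ⟨O, hO⟩) ≤ f ⁻¹ᵁ U₀ from fun z hz => hz.1)⟩
      have : (⟨z, hzV⟩ : ((V : Set Y)ᶜ : Set Y)) ∈ Subtype.val ⁻¹' O := hz.2
      rw [hOy] at this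
      exact congrArg Subtype.val this
  choose U hyU hsep hUV s hs using hcov
  have hle : ∀ i j, i ≠ j → U i ⊓ U j ≤ V := fun i j hij z hz => by
    by_contra hzV
    exact hij ((hsep i z hz.1 hzV).symm.trans (hsep j z hz.2 hzV))
  have hU : iSup U = ⊤ := top_le_iff.mp fun y _ => TopologicalSpace.Opens.mem_iSup.mpr ⟨y, hyU y⟩
  have hU' : iSup (fun i => f ⁻¹ᵁ U i) = ⊤ :=
    top_le_iff.mp fun x _ => TopologicalSpace.Opens.mem_iSup.mpr ⟨f x, hyU (f x)⟩
  -- the transition functions of `L`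
  let c : ∀ i j, Γ(X, f ⁻¹ᵁ U i ⊓ f ⁻¹ᵁ U j) := fun i j =>
    (hs j).coef inf_le_right (resM L (inf_le_left : f ⁻¹ᵁ U i ⊓ f ⁻¹ᵁ U j ≤ f ⁻¹ᵁ U i) (s i))
  have hc : ∀ i j, resM L (inf_le_left : f ⁻¹ᵁ U i ⊓ f ⁻¹ᵁ U j ≤ f ⁻¹ᵁ U i) (s i) =
      c i j • resM L (inf_le_right : f ⁻¹ᵁ U i ⊓ f ⁻¹ᵁ U j ≤ f ⁻¹ᵁ U j) (s j) := fun i j =>
    ((hs j).coef_spec _ _).symm
  have hLt : TransClass.HasTrans (fun i => f ⁻¹ᵁ U i) (PicM.of hL) c := ⟨L, hL, s, rfl, hs, hc⟩
  have hcu : ∀ i j, IsUnit (c i j) := fun i j => by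
    let W : X.Opens := f ⁻¹ᵁ U i ⊓ f ⁻¹ᵁ U j
    have h1 := (hs j).restrict (inf_le_right : W ≤ f ⁻¹ᵁ U j)
    have h2 := h1.isUnit_coef ((hs i).restrict (inf_le_left : W ≤ f ⁻¹ᵁ U i))
    have h3 : h1.coef le_rfl (resM L (inf_le_left : W ≤ f ⁻¹ᵁ U i) (s i)) = c i j :=
      h1.coef_eq _ (by rw [resM_resM]; exact (hc i j).symm)
    rwa [h3] at h2
  have hcii : ∀ i, c i i = 1 := fun i => (hs i).coef_self _
  -- descent of the transition functions
  let η : ∀ i j, Γ(Y, U i ⊓ U j) := fun i j =>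
    if h : i = j then 1 else Classical.choose ((bijective_app f hV (hle i j h)).2 (c i j))
  have hη : ∀ i j, f.app (U i ⊓ U j) (η i j) = c i j := fun i j => by
    by_cases h : i = j
    · subst h
      simp only [η, dif_pos]
      rw [map_one]
      exact (hcii i).symm
    · simp only [η, dif_neg h]
      exact Classical.choose_spec ((bijective_app f hV (hle i j h)).2 (c i j))
  have hηii : ∀ i, η i i = 1 := fun i => dif_pos rfl
  have hηu : ∀ i j, IsUnit (η i j) := fun i j => by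
    by_cases h : i = j
    · subst h; rw [hηii]; exact isUnit_one
    · let e := RingEquiv.ofBijective (f.app (U i ⊓ U j)).hom (bijective_app f hV (hle i j h))
      exact (isUnit_map_iff e _).mp (show IsUnit (f.app (U i ⊓ U j) (η i j)) by rw [hη]; exact hcu i j)
  obtain ⟨a, ha⟩ := TransClass.exists_trans hU η hηu fun i j k W hi hj hk => by
    by_cases hij : i = j
    · subst hij
      rw [hηii, map_one, one_mul]
    by_cases hjk : j = k
    · subst hjk
      rw [hηii, map_one, mul_one]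
    apply (bijective_app f hV ((le_inf hi hj).trans (hle i j hij))).1
    rw [map_mul, app_res, app_res, app_res, hη, hη, hη]
    have hi' : f ⁻¹ᵁ W ≤ f ⁻¹ᵁ U i := fun z hz => hi hz
    have hj' : f ⁻¹ᵁ W ≤ f ⁻¹ᵁ U j := fun z hz => hj hz
    have hk' : f ⁻¹ᵁ W ≤ f ⁻¹ᵁ U k := fun z hz => hk hz
    refine (hs k (f ⁻¹ᵁ W) hk').1 ?_
    refine (TransClass.trans_res hc i k hi' hk').symm.trans ?_
    rw [TransClass.trans_res hc i j hi' hj', TransClass.trans_res hc j k hj' hk', smul_smul]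
    rfl
  obtain ⟨N, hN, haN⟩ := PicM.exists_eq_of a
  subst haN
  have h1 := ((ha.pull f).congr hη).unique hU' hLt
  rw [PicM.pull_of f hN] at h1
  exact ⟨N, hN, (PicM.of_eq_iff _ _).1 h1⟩

end Groth.Agent.S1552
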