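import Groth.Statements.S16286
import Groth.Agent.ExtSS.AcyclicRes

set_option autoImplicit false
universe u
open CategoryTheory CategoryTheory.Limits AlgebraicGeometry
open Coherent

set_option backward.isDefEq.respectTransparency false
set_option linter.style.haveILetI false

namespace Groth.Agent.S16286

/-- Let f : X → Y be a morphism of schemes, F and G O_X-modules, and L_• → F → 0 a resolution of F: a
chain complex L of O_X-modules indexed by the natural numbers with an augmentation π : L_0 → F such
that L is exact in every positive degree and L_1 → L_0 → F → 0 is exact. For an O_X-module M write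
Ext^p_f(M, -) for the p-th right derived functor of the left exact functor G ↦ f_* Hom_{O_X}(M, G),
and assume Ext^p_f(L_i, G) = 0 for every i ≥ 0 and every p ≥ 1. Let C be the cochain complex f_*
Hom_{O_X}(L_•, G) of O_Y-modules, given with identifications C^i ≅ f_* Hom_{O_X}(L_i, G) under which
its differentials are f_* of the maps induced by the differentials of L. Then for every i the i-th
cohomology object of C is isomorphic to Ext^i_f(F, G). (Stated for schemes, the published statement
being for ringed spaces; existence of an isomorphism of O_Y-modules only. The internal Hom functors,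
injective resolutions and additivity of the composite functors are the stated instance hypotheses,
all true.) -/
theorem result (X Y : Scheme.{u}) (f : X ⟶ Y) (F G : X.Modules)
    (L : ChainComplex X.Modules ℕ) (π : L.X 0 ⟶ F) [Epi π] (hπ : L.d 1 0 ≫ π = 0)
    (hex0 : (ShortComplex.mk (L.d 1 0) π hπ).Exact) (hex : ∀ j : ℕ, L.ExactAt (j + 1))
    [∀ j : ℕ, ModSite.HasSheafHom (O := X.sheaf) (L.X j)] [ModSite.HasSheafHom (O := X.sheaf) F]
    [HasInjectiveResolutions (ModSite.Mod X.sheaf)]
    [∀ j : ℕ, (ModSite.sheafHom (O := X.sheaf) (L.X j) ⋙ Scheme.Modules.pushforward f).Additive]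
    [(ModSite.sheafHom (O := X.sheaf) F ⋙ Scheme.Modules.pushforward f).Additive]
    (hL : ∀ (j : ℕ) (p : ℕ), 1 ≤ p → IsZero (((ModSite.sheafHom (O := X.sheaf) (L.X j) ⋙ Scheme.Modules.pushforward f).rightDerived p).obj G))
    (C : CochainComplex Y.Modules ℕ)
    (e : ∀ j : ℕ, C.X j ≅ (Scheme.Modules.pushforward f).obj ((ModSite.sheafHom (O := X.sheaf) (L.X j)).obj G))
    (hC : ∀ j : ℕ, C.d j (j + 1) ≫ (e (j + 1)).hom =
      (e j).hom ≫ (Scheme.Modules.pushforward f).map ((ExtSupp.sheafHomMap (O := X.sheaf) (L.d (j + 1) j)).app G))
    (i : ℕ) :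
    Nonempty (C.homology i ≅ ((ModSite.sheafHom (O := X.sheaf) F ⋙ Scheme.Modules.pushforward f).rightDerived i).obj G) := by
  haveI : ∀ M : X.Modules, ModSite.HasSheafHom (O := X.sheaf) M := fun M => Groth.Agent.S6165.result X.sheaf M
  haveI : HasInjectiveResolutions X.Modules := ‹HasInjectiveResolutions (ModSite.Mod X.sheaf)›
  haveI : ∀ M : X.Modules, (Groth.Agent.ExtSS.relHom f M).Additive := fun M => by
    haveI : (ModSite.sheafHom (O := X.sheaf) M).Additive := ModSite.sheafHom_additive X.sheaf M
    haveI : (Scheme.Modules.pushforward f).Additive := inferInstance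
    constructor
    intro A B g h
    change (Scheme.Modules.pushforward f).map ((ModSite.sheafHom (O := X.sheaf) M).map (g + h)) = _
    exact (congrArg _ ((ModSite.sheafHom (O := X.sheaf) M).map_add)).trans (Scheme.Modules.pushforward f).map_add
  haveI : ∀ M : X.Modules, PreservesFiniteLimits (Groth.Agent.ExtSS.relHom f M) := fun M => by
    haveI h1 : PreservesFiniteLimits (ModSite.sheafHom (O := X.sheaf) M) := inferInstance
    haveI : PreservesFiniteLimits (Scheme.Modules.pushforward f) := inferInstance
    exact @comp_preservesFiniteLimits _ _ _ _ _ _ (ModSite.sheafHom (O := X.sheaf) M) (Scheme.Modules.pushforward f) h1 _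
  exact Groth.Agent.ExtSS.nonempty_homology_iso_relExt f F G L π hπ hex0 hex hL C e hC i

end Groth.Agent.S16286
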