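import Groth.Statements.S15520
import Groth.Agent.S16286
import Groth.Agent.SerreDual.ExtShBasic
import Groth.Agent.S6165

set_option autoImplicit false
set_option linter.style.haveILetI false
set_option backward.isDefEq.respectTransparency.types false
universe u
open CategoryTheory CategoryTheory.Limits AlgebraicGeometry
open Coherent

namespace Groth.Agent.S15520

/-- Let X be a scheme, F and G O_X-modules, and E_• → F → 0 a resolution of F whose terms E_i are finite
locally free O_X-modules: E is a chain complex indexed by the natural numbers with an augmentation π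
: E_0 → F such that E is exact in every positive degree and E_1 → E_0 → F → 0 is exact. Let C be the
cochain complex Hom_{O_X}(E_•, G), given with identifications C^i ≅ Hom_{O_X}(E_i, G) under which
its differentials are the maps induced by the differentials of E (contravariant functoriality of the
internal Hom). Then for every i the i-th cohomology object of C is isomorphic to the Ext sheaf
Ext^i_{O_X}(F, G), the i-th right derived functor of the internal Hom functor Hom(F, -) evaluated at
G. (Existence of an isomorphism of O_X-modules only; the published statement is for a ringed space.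
The internal Hom functors and injective resolutions are the stated instance hypotheses, all true.) -/
theorem result (X : Scheme.{u}) (F G : X.Modules)
    (E : ChainComplex X.Modules ℕ) (π : E.X 0 ⟶ F) [Epi π] (hπ : E.d 1 0 ≫ π = 0)
    (hex0 : (ShortComplex.mk (E.d 1 0) π hπ).Exact) (hex : ∀ j : ℕ, E.ExactAt (j + 1))
    (hE : ∀ j : ℕ, FlatMod.IsFinLocFree (E.X j))
    [∀ j : ℕ, ModSite.HasSheafHom (O := X.sheaf) (E.X j)] [ModSite.HasSheafHom (O := X.sheaf) F]
    [HasInjectiveResolutions (ModSite.Mod X.sheaf)]
    (C : CochainComplex X.Modules ℕ) (e : ∀ j : ℕ, C.X j ≅ (ModSite.sheafHom (O := X.sheaf) (E.X j)).obj G)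
    (hC : ∀ j : ℕ, C.d j (j + 1) ≫ (e (j + 1)).hom =
      (e j).hom ≫ (ExtSupp.sheafHomMap (O := X.sheaf) (E.d (j + 1) j)).app G)
    (i : ℕ) :
    Nonempty (C.homology i ≅ (ModSite.extSh (O := X.sheaf) F i).obj G) := by
  haveI : HasInjectiveResolutions X.Modules := ‹HasInjectiveResolutions (ModSite.Mod X.sheaf)›
  haveI : ∀ M : X.Modules, ModSite.HasSheafHom (O := X.sheaf) M := fun M => Groth.Agent.S6165.result X.sheaf M
  let Φ : X.Modules → (X.Modules ⥤ X.Modules) := fun M => ModSite.sheafHom (O := X.sheaf) M
  haveI hΦ : ∀ M, (Φ M).Additive := fun M => ModSite.sheafHom_additive X.sheaf M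
  let P : X.Modules ⥤ X.Modules := Scheme.Modules.pushforward (𝟙 X)
  haveI hΦP : ∀ M : X.Modules, (Φ M ⋙ P).Additive := fun M => inferInstance
  haveI : ∀ j : ℕ, (ModSite.sheafHom (O := X.sheaf) (E.X j) ⋙ Scheme.Modules.pushforward (𝟙 X)).Additive :=
    fun j => hΦP (E.X j)
  haveI : (ModSite.sheafHom (O := X.sheaf) F ⋙ Scheme.Modules.pushforward (𝟙 X)).Additive := hΦP F
  let ν : P ≅ 𝟭 X.Modules := Scheme.Modules.pushforwardId X
  let w : ∀ M : X.Modules, Φ M ⋙ P ≅ Φ M := fun M => Functor.isoWhiskerLeft (Φ M) ν ≪≫ (Φ M).rightUnitor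
  have hder : ∀ (M : X.Modules) (p : ℕ),
      Nonempty (((Φ M ⋙ P).rightDerived p).obj G ≅ ((Φ M).rightDerived p).obj G) := fun M p => by
    let I : InjectiveResolution G := injectiveResolution G
    exact ⟨I.isoRightDerivedObj (Φ M ⋙ P) p ≪≫
      (HomologicalComplex.homologyFunctor X.Modules (ComplexShape.up ℕ) p).mapIso
        ((NatIso.mapHomologicalComplex (w M) (ComplexShape.up ℕ)).app I.cocomplex) ≪≫
      (I.isoRightDerivedObj (Φ M) p).symm⟩
  obtain ⟨r⟩ := Groth.Agent.S16286.result X X (𝟙 X) F G E π hπ hex0 hex (fun j p hp => by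
      obtain ⟨a⟩ := hder (E.X j) p
      refine IsZero.of_iso ?_ a
      obtain ⟨q, rfl⟩ : ∃ q, p = q + 1 := ⟨p - 1, by omega⟩
      exact (SerreDual.isZero_homology_homCx_of_locFree (hE j) (injectiveResolution G) q).of_iso
        (SerreDual.extShIso (E.X j) (injectiveResolution G) (q + 1)))
    C (fun j => e j ≪≫ (ν.app _).symm) (fun j => by
      rw [Iso.trans_hom, Iso.trans_hom, ← Category.assoc, hC, Category.assoc, Category.assoc]
      exact congrArg ((e j).hom ≫ ·) (ν.inv.naturality _)) i
  obtain ⟨a⟩ := hder F i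
  exact ⟨r ≪≫ a⟩

end Groth.Agent.S15520
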