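import Groth.Statements.S15522
import Groth.Agent.Coherent.CohBC.Fibre
import Groth.Agent.Coherent.CohBC.RankConst

set_option autoImplicit false
set_option backward.isDefEq.respectTransparency false
universe u
attribute [local instance] HasDerivedCategory.standard
open Coherent

namespace Groth.Agent.S15522

open AlgebraicGeometry CategoryTheory in
/-- Let A be a reduced Noetherian ring, X a proper scheme over Spec A with structure morphism f, F a
coherent O_X-module flat over Spec A, and p a natural number such that the function y ↦ dim_{κ(y)}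
H^p(X_y, F_y) is locally constant on Spec A. For each q write T^q for the functor M ↦ H^q(X, f^*(M~)
⊗ F) from A-modules to abelian groups. Then T^p takes surjections to surjections, and so does
T^(p-1) when p ≥ 1; equivalently, every base-change map H^q(X, F) ⊗_A M → H^q(X, F ⊗_A M) is
bijective for q = p and q = p - 1. (The published statement also asserts that R^p f_*F is locally
free of finite rank; this row states the two exchange properties only, over an affine base.) -/
theorem result (A : Type u) [CommRing A]
    [IsNoetherianRing A] [IsReduced A] (X : Scheme.{u}) [X.Over (Spec (CommRingCat.of A))]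
    [IsProper (X ↘ Spec (CommRingCat.of A))] (F : X.Modules) (hF : Coh.IsCoh F)
    (hfl : FlatMod.IsFlatOver (X ↘ Spec (CommRingCat.of A)) F) (p : ℕ)
    (hconst : IsLocallyConstant (CohIII.fiberRank (X ↘ Spec (CommRingCat.of A)) F p)) :
    (CohIII.tensorAFunctor A F ⋙ CohIII.HAb X p).PreservesEpimorphisms ∧
      ∀ q : ℕ, q + 1 = p → (CohIII.tensorAFunctor A F ⋙ CohIII.HAb X q).PreservesEpimorphisms := by
  obtain ⟨D⟩ := Groth.Agent.Coherent.CohBC.nonempty_perfData F hF hfl
  have h : IsLocallyConstant (CohIII.dRank D.P (-(p : ℤ))) := by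
    have e : CohIII.fiberRank (X ↘ Spec (CommRingCat.of A)) F p = fun y => CohIII.dRank D.P (-(p : ℤ)) y :=
      funext fun y => D.fiberRank_eq hfl y p
    rw [e] at hconst
    exact hconst
  obtain ⟨h1, h2⟩ := Groth.Agent.Coherent.CohBC.flat_cokers_of_isLocallyConstant_dRank D.P
    D.finite_flat_P (-(p : ℤ) + 1) (-(p : ℤ)) (-(p : ℤ) - 1) rfl (by omega) h
  refine ⟨(D.preservesEpi_iff p).2
    ((Groth.Agent.FlatCxLib.preservesEpi_iff_flat (-(p : ℤ)) (-(p : ℤ) - 1) D.flat_P (by omega)).2 h2),
    fun q hq => (D.preservesEpi_iff q).2 ?_⟩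
  show (CohIII.TFun D.P (-(q : ℤ))).PreservesEpimorphisms
  rw [show (-(q : ℤ)) = -(p : ℤ) + 1 by omega]
  exact (Groth.Agent.FlatCxLib.preservesEpi_iff_flat (-(p : ℤ) + 1) (-(p : ℤ)) D.flat_P (by omega)).2 h1

end Groth.Agent.S15522
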