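import Groth.Statements.S15524
import Groth.Agent.ZetaAlg.Basic
import Mathlib.Analysis.SpecialFunctions.Pow.Real
import Mathlib.Algebra.BigOperators.Field

set_option autoImplicit false
open Finset
open Zeta

namespace Groth.Agent.S15524

/-- Let q ≥ 1 and let α_1, …, α_{2g} be complex numbers permuted by α ↦ q/α, i.e. α_{σ(i)} α_i = q for a
permutation σ of the indices; these play the role of the inverse roots of the numerator of the zeta
function of a curve over a field with q elements, for which #X(F_{q^N}) = q^N + 1 − Σ_i α_i^N. If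
for some d ≥ 1 and real C one has |Σ_i α_i^{dN}| ≤ C q^{dN/2} for every N ≥ 1, then |α_i|^2 = q for
every i (the Riemann hypothesis for the curve). -/
theorem result {g : ℕ} (q : ℕ) (hq : 0 < q)
    (α : Fin (2 * g) → ℂ) (σ : Equiv.Perm (Fin (2 * g))) (hσ : ∀ i, α (σ i) * α i = q)
    (d : ℕ) (hd : 0 < d) (C : ℝ)
    (hC : ∀ N : ℕ, 1 ≤ N → ‖∑ i, α i ^ (d * N)‖ ≤ C * (q : ℝ) ^ ((d : ℝ) * N / 2))
    (i : Fin (2 * g)) : ‖α i‖ ^ 2 = q := by
  have hq' : (0 : ℝ) < q := by exact_mod_cast hq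
  set s : ℝ := Real.sqrt ((q : ℝ) ^ d) with hs
  have hs0 : 0 < s := Real.sqrt_pos.mpr (by positivity)
  have hsd : s = (q : ℝ) ^ ((d : ℝ) / 2) := by
    rw [hs, Real.sqrt_eq_rpow, ← Real.rpow_natCast, ← Real.rpow_mul hq'.le]
    ring_nf
  have hle : ∀ j, ‖α j ^ d / (s : ℂ)‖ ≤ 1 := fun j => Groth.Agent.ZetaAlg.norm_le_one_of_bounded
    (fun j => α j ^ d / (s : ℂ)) C (fun r hr => by
      rw [Finset.sum_congr rfl fun j _ => (div_pow (α j ^ d) (s : ℂ) r), ← Finset.sum_div, norm_div,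
        div_le_iff₀ (by simp [hs0.ne'])]
      have h := hC r hr
      simp only [← pow_mul]
      refine h.trans (le_of_eq ?_)
      rw [norm_pow, Complex.norm_real, Real.norm_of_nonneg hs0.le, hsd, ← Real.rpow_natCast (_ ^ _) r,
        ← Real.rpow_mul hq'.le]
      ring_nf) j
  have hle' : ∀ j, ‖α j‖ ^ d ≤ s := fun j => by
    have := hle j
    rwa [norm_div, norm_pow, Complex.norm_real, Real.norm_of_nonneg hs0.le, div_le_one hs0] at this
  have hsq : ∀ j, ‖α j‖ ^ 2 ≤ (q : ℝ) := fun j => by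
    refine le_of_pow_le_pow_left₀ hd.ne' hq'.le ?_
    rw [← pow_mul, mul_comm, pow_mul]
    calc (‖α j‖ ^ d) ^ 2 ≤ s ^ 2 := pow_le_pow_left₀ (by positivity) (hle' j) 2
      _ = (q : ℝ) ^ d := Real.sq_sqrt (by positivity)
  have hprod : ‖α (σ i)‖ * ‖α i‖ = (q : ℝ) := by rw [← norm_mul, hσ i]; simp
  refine le_antisymm (hsq i) ?_
  have h1 := hsq (σ i)
  have h2 := sq_nonneg (‖α i‖)
  have h3 : (‖α (σ i)‖ ^ 2) * ‖α i‖ ^ 2 = (q : ℝ) * q := by rw [← mul_pow, hprod, sq]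
  nlinarith

end Groth.Agent.S15524
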