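import Groth.Statements.S15525
import Mathlib

set_option autoImplicit false
universe u
open Zeta

namespace Groth.Agent.S15525

/-- Let L be a field with a ring embedding ι into ℂ and M an r × r matrix over L all of whose
eigenvalues, the complex roots of its characteristic polynomial mapped along ι, have absolute value
1. Then every coefficient of the characteristic polynomial of the block-diagonal matrix with blocks
M and the inverse transpose of M is mapped by ι into ℝ. This is the pointwise content of the
assertion that for a lisse sheaf F pure of weight 0 the sum of F and its dual is real, the Frobenius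
of the dual acting by the inverse transpose. -/
theorem result (L : Type u) [Field L] (ι : L →+* ℂ)
    {r : ℕ} (M : Matrix (Fin r) (Fin r) L)
    (hM : ∀ z ∈ ((Matrix.charpoly M).map ι).roots, ‖z‖ = 1) (n : ℕ) :
    (ι ((Matrix.fromBlocks M 0 0 (M⁻¹).transpose).charpoly.coeff n)).im = 0 := by
  classical
  set A : Matrix (Fin r) (Fin r) ℂ := M.map ι with hA
  have hmapA : (Matrix.charpoly M).map ι = A.charpoly := (Matrix.charpoly_map M ι).symm
  rw [hmapA] at hM
  have hsplit : A.charpoly.Splits := IsAlgClosed.splits _
  have hdetA : A.det = A.charpoly.roots.prod := Matrix.det_eq_prod_roots_charpoly A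
  have hz0 : ∀ z ∈ A.charpoly.roots, z ≠ 0 := fun z hz e => by
    have := hM z hz; rw [e, norm_zero] at this; exact zero_ne_one this
  have hdet0 : A.det ≠ 0 := by
    rw [hdetA]; exact Multiset.prod_ne_zero fun h => hz0 0 h rfl
  have hdetM : IsUnit M.det := isUnit_iff_ne_zero.mpr fun e => hdet0 (by
    rw [hA, ← RingHom.mapMatrix_apply, ← RingHom.map_det, e, map_zero])
  have hinv : (M⁻¹).map ι = A⁻¹ := by
    symm; apply Matrix.inv_eq_left_inv
    rw [hA, ← Matrix.map_mul, Matrix.nonsing_inv_mul _ hdetM, Matrix.map_one _ (map_zero ι) (map_one ι)]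
  have hkey : A⁻¹.charpoly = A.charpoly.map (starRingEnd ℂ) := by
    rw [Matrix.charpoly_inv A ((Matrix.isUnit_iff_isUnit_det A).mpr (isUnit_iff_ne_zero.mpr hdet0)), ← Matrix.reverse_charpoly]
    have hP := hsplit.eq_prod_roots
    rw [(Matrix.charpoly_monic A).leadingCoeff, map_one, one_mul] at hP
    have hcard : Fintype.card (Fin r) = A.charpoly.roots.card := by
      rw [← hsplit.natDegree_eq_card_roots, Matrix.charpoly_natDegree_eq_dim]
    rw [hcard, hdetA, Ring.inverse_eq_inv']
    conv_rhs => rw [hP]
    conv_lhs => arg 2; rw [hP]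
    generalize A.charpoly.roots = s at hM hz0
    induction s using Multiset.induction with
    | empty => simp [Polynomial.reverse]
    | cons z s ih =>
      have hz := hz0 z (Multiset.mem_cons_self z s)
      have ih' := ih (fun w hw => hM w (Multiset.mem_cons_of_mem hw)) (fun w hw => hz0 w (Multiset.mem_cons_of_mem hw))
      rw [Multiset.map_cons, Multiset.prod_cons, Multiset.prod_cons, Multiset.card_cons, Polynomial.map_mul,
        Polynomial.reverse_mul_of_domain, mul_inv, map_mul, pow_succ, ← ih']
      have hrev : (Polynomial.X - Polynomial.C z).reverse = 1 - Polynomial.C z * Polynomial.X := by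
        ext n
        rcases n with _ | _ | n <;> simp [Polynomial.coeff_reverse, Polynomial.revAt, Polynomial.coeff_one, Polynomial.coeff_X, Polynomial.coeff_C, Polynomial.natDegree_X_sub_C]
      have hconj : (starRingEnd ℂ) z = z⁻¹ := (Complex.inv_eq_conj (hM z (Multiset.mem_cons_self z s))).symm
      rw [hrev, Polynomial.map_sub, Polynomial.map_X, Polynomial.map_C, hconj]
      have hzz : Polynomial.C z⁻¹ * Polynomial.C z = 1 := by rw [← map_mul, inv_mul_cancel₀ hz, map_one]
      linear_combination ((-1 : Polynomial ℂ) ^ Multiset.card s * Polynomial.C s.prod⁻¹ * ((s.map fun a => Polynomial.X - Polynomial.C a).prod.reverse) * Polynomial.X) * hzz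
  have hfull : ((Matrix.fromBlocks M 0 0 (M⁻¹).transpose).charpoly).map ι = A.charpoly * A.charpoly.map (starRingEnd ℂ) := by
    rw [Matrix.charpoly_fromBlocks_zero₁₂, Matrix.charpoly_transpose, Polynomial.map_mul, hmapA, ← Matrix.charpoly_map, hinv, hkey]
  have hconjfix : (A.charpoly * A.charpoly.map (starRingEnd ℂ)).map (starRingEnd ℂ) = A.charpoly * A.charpoly.map (starRingEnd ℂ) := by
    rw [Polynomial.map_mul, Polynomial.map_map, mul_comm]
    congr 1
    ext n : 1
    rw [Polynomial.coeff_map]; simp
  have h := congrArg (fun p => Polynomial.coeff p n) hconjfix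
  simp only [Polynomial.coeff_map] at h
  rw [← Polynomial.coeff_map, hfull]
  exact Complex.conj_eq_iff_im.mp h

end Groth.Agent.S15525
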