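import Groth.Statements.S15526
import Mathlib

set_option linter.all false

set_option autoImplicit false
universe u
open MvPolynomial
open CAlg

open MvPolynomial
open scoped TensorProduct

namespace Groth.Agent.S15526

/-- Let R be a commutative ring, P ∈ R[x] a monic polynomial of degree 2g + 1, and A = R[x, y, z]/(y^2 −
P(x), yz − 1). Then every element of A is a finite sum Σ_n Q_n(x) y^n over integers n, negative
powers of y meaning powers of z, with each Q_n ∈ R[x] of degree at most 2g: the R-submodule of A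
spanned by the classes of x^i y^n and x^i z^n with i ≤ 2g and n ≥ 0 is all of A. (The published
statement takes for R the ring of Witt vectors of a finite field and for P a lift of a separable
polynomial; the argument uses only that P is monic of degree 2g + 1.) -/
theorem result (R : Type u) [CommRing R] (g : ℕ)
    (P : Polynomial R) (hP : P.Monic) (hdeg : P.natDegree = 2 * g + 1) :
    Submodule.span R {a : MvPolynomial (Fin 3) R ⧸
        Ideal.span ({X 1 ^ 2 - Polynomial.aeval (X 0 : MvPolynomial (Fin 3) R) P, X 1 * X 2 - 1} :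
          Set (MvPolynomial (Fin 3) R)) |
        ∃ i n : ℕ, i ≤ 2 * g ∧
          (a = Ideal.Quotient.mk _ (X 0 ^ i * X 1 ^ n) ∨ a = Ideal.Quotient.mk _ (X 0 ^ i * X 2 ^ n))} =
      ⊤ := by
  set I := Ideal.span ({X 1 ^ 2 - Polynomial.aeval (X 0 : MvPolynomial (Fin 3) R) P, X 1 * X 2 - 1} :
          Set (MvPolynomial (Fin 3) R))
  set S := Submodule.span R {a : MvPolynomial (Fin 3) R ⧸ I |
        ∃ i n : ℕ, i ≤ 2 * g ∧
          (a = Ideal.Quotient.mk I (X 0 ^ i * X 1 ^ n) ∨ a = Ideal.Quotient.mk I (X 0 ^ i * X 2 ^ n))}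
  let x : MvPolynomial (Fin 3) R ⧸ I := Ideal.Quotient.mk I (X 0)
  let y : MvPolynomial (Fin 3) R ⧸ I := Ideal.Quotient.mk I (X 1)
  let z : MvPolynomial (Fin 3) R ⧸ I := Ideal.Quotient.mk I (X 2)
  have hyz : y * z = 1 := by
    rw [← map_mul, ← map_one (Ideal.Quotient.mk I), Ideal.Quotient.eq]
    exact Ideal.subset_span (Or.inr rfl)
  have hxy : Polynomial.aeval x P = y ^ 2 := by
    rw [show x = (Ideal.Quotient.mkₐ R I) (X 0) from rfl, Polynomial.aeval_algHom_apply, ← map_pow, eq_comm]
    exact Ideal.Quotient.eq.2 (Ideal.subset_span (Or.inl rfl))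
  have hbase : ∀ i a b, i ≤ 2 * g → x ^ i * y ^ a * z ^ b ∈ S := by
    intro i a b hi
    rcases le_total b a with h | h
    · rw [show y ^ a = y ^ (a - b) * y ^ b by rw [← pow_add, Nat.sub_add_cancel h], mul_assoc, mul_assoc, ← mul_pow, hyz,
        one_pow, mul_one]
      exact Submodule.subset_span ⟨i, a - b, hi, Or.inl (by simp [x, y])⟩
    · rw [show z ^ b = z ^ a * z ^ (b - a) by rw [← pow_add, Nat.add_sub_cancel' h], mul_assoc, ← mul_assoc (y ^ a),
        ← mul_pow, hyz, one_pow, one_mul]
      exact Submodule.subset_span ⟨i, b - a, hi, Or.inr (by simp [x, z])⟩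
  have hall : ∀ i a b, x ^ i * y ^ a * z ^ b ∈ S := by
    intro i
    induction i using Nat.strong_induction_on with
    | _ i ih =>
      intro a b
      by_cases hi : i ≤ 2 * g
      · exact hbase i a b hi
      obtain ⟨j, rfl⟩ : ∃ j, i = j + (2 * g + 1) := ⟨i - (2 * g + 1), by omega⟩
      have he : x ^ (2 * g + 1) = y ^ 2 - ∑ l ∈ Finset.range (2 * g + 1), P.coeff l • x ^ l := by
        rw [← hxy, Polynomial.aeval_eq_sum_range, hdeg, Finset.sum_range_succ _ (2 * g + 1), ← hdeg,
          hP.coeff_natDegree, one_smul, add_sub_cancel_left]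
      rw [pow_add x j, he, mul_sub, Finset.mul_sum, sub_mul, sub_mul, Finset.sum_mul, Finset.sum_mul,
        show x ^ j * y ^ 2 * y ^ a * z ^ b = x ^ j * y ^ (2 + a) * z ^ b by ring]
      refine sub_mem (ih j (by omega) _ _) (Submodule.sum_mem _ fun l hl => ?_)
      rw [mul_smul_comm, smul_mul_assoc, smul_mul_assoc, ← pow_add]
      exact Submodule.smul_mem _ _ (ih (j + l) (by have := Finset.mem_range.1 hl; omega) a b)
  refine Submodule.eq_top_iff'.2 fun q => ?_
  obtain ⟨q, rfl⟩ := Ideal.Quotient.mk_surjective q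
  induction q using MvPolynomial.induction_on' with
  | add p q hp hq => rw [map_add]; exact add_mem hp hq
  | monomial d c =>
    rw [MvPolynomial.monomial_eq, map_mul, Finsupp.prod_fintype _ _ (fun i => pow_zero _), Fin.prod_univ_three,
      map_mul, map_mul, map_pow, map_pow, map_pow]
    have : Ideal.Quotient.mk I (C c) * (x ^ d 0 * y ^ d 1 * z ^ d 2) = c • (x ^ d 0 * y ^ d 1 * z ^ d 2) :=
      (Algebra.smul_def (A := MvPolynomial (Fin 3) R ⧸ I) c (x ^ d 0 * y ^ d 1 * z ^ d 2)).symm
    rw [this]
    exact Submodule.smul_mem _ _ (hall _ _ _)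

end Groth.Agent.S15526
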