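import Groth.Statements.S15531
import Groth.Agent.EulerPn5.Bott

set_option autoImplicit false
universe u
open Coherent

namespace Groth.Agent.S15531

open CategoryTheory AlgebraicGeometry in
/-- For a ring A, n ≥ 1, 0 ≤ p ≤ n and an O-module L on projective n-space P^n_A which is a p-th
exterior power of the sheaf of relative differentials of P^n_A over A, the A-module H^p(P^n_A, L) =
H^p(P^n_A, Ω^p) is free of rank 1 (A-linearly isomorphic to A; the A-module structure is the one
through A → Γ(P^n_A, O)). -/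
theorem result (A : Type u) [CommRing A] (n : ℕ)
    (hn : 1 ≤ n) [QuasiSeparated (CohB1.ProjSpace.toSpec n A)] (p : ℕ) (hp : p ≤ n)
    (L : (CohB1.ProjSpace n A).Modules) (hL : ExtPow.IsExtPow p (Omega.sheaf (CohB1.ProjSpace.toSpec n A)) L) :
    Nonempty (Coh.HH (CohB1.ProjSpace n A) L p ≃ₗ[A] A) := by
  open Groth.Agent in
  obtain ⟨e⟩ := EulerPn5.nonempty_tensor_twist0 L
  obtain ⟨h⟩ := EulerPn5.nonempty_HH_diag p hp hL
  exact ⟨(EulerPn5.hhEquiv A e p).symm.trans h⟩

end Groth.Agent.S15531
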