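import Groth.Statements.S15533
import Groth.Agent.Desc19b.GlobalSep
import Groth.Agent.OmegaLib.Der
import Mathlib.AlgebraicGeometry.Morphisms.Proper
import Mathlib.RingTheory.RingHom.Smooth

set_option autoImplicit false
universe u
open OmegaSh CategoryTheory AlgebraicGeometry

set_option backward.isDefEq.respectTransparency.types false
set_option backward.isDefEq.respectTransparency false

namespace Groth.Agent.S15533


open CategoryTheory AlgebraicGeometry in
/-- For a field k and a smooth proper k-scheme X with structure morphism f, the derivation d : O_X →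
Ω_{X/k} of f vanishes on global functions: d(s) = 0 in Γ(X, Ω_{X/k}) for every s ∈ Γ(X, O_X). -/
theorem result (k : Type u) [Field k] (X : Scheme.{u})
    (f : X ⟶ Spec (CommRingCat.of k)) [IsProper f] [Smooth f] (s : Γ(X, ⊤)) :
    (OmegaSh.dOmega f).app ⊤ s = 0 := by
  refine Groth.Agent.OmegaLib.section_ext fun x _ => ?_
  obtain ⟨V, hV, hxV, -⟩ := exists_isAffineOpen_mem_and_subset (X := X) (x := x) (U := ⊤) trivial
  refine ⟨V, le_top, hxV, ?_⟩
  rw [map_zero]
  show (Omega.sheaf f).val.map (homOfLE (le_top : V ≤ ⊤)).op ((OmegaSh.dOmega f).d s) = 0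
  refine ((OmegaSh.dOmega f).d_map (homOfLE (le_top : V ≤ ⊤)).op s).symm.trans ?_
  let ψ : CommRingCat.of k ⟶ Γ(X, V) := (Scheme.ΓSpecIso _).inv ≫ f.appLE ⊤ V le_top
  letI := ψ.hom.toAlgebra
  haveI : Algebra.Smooth k Γ(X, V) := by
    refine RingHom.smooth_algebraMap.1 ?_
    show ψ.hom.Smooth
    exact (RingHom.Smooth.propertyIsLocal.respectsIso.2 (f.appLE ⊤ V le_top).hom
      (Scheme.ΓSpecIso (CommRingCat.of k)).symm.commRingCatIsoToRingEquiv (f.smooth_appLE (isAffineOpen_top _) hV le_top) :)
  haveI : Nontrivial Γ(X, V) := by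
    exact (X.presheaf.germ V x hxV).hom.domain_nontrivial
  let a : Γ(X, V) := X.presheaf.map (homOfLE le_top).op s
  have hfg : ψ = (Scheme.ΓSpecIso _).inv ≫ f.appTop ≫ X.presheaf.map (homOfLE le_top).op := by
    simp only [ψ, Scheme.Hom.appLE, Scheme.Hom.appTop]
  have ha : IsIntegral k a := by
    obtain ⟨P, hP, hPs⟩ := isIntegral_appTop_of_universallyClosed f s
    refine ⟨P.map (Scheme.ΓSpecIso (CommRingCat.of k)).hom.hom, hP.map _, ?_⟩
    rw [Polynomial.eval₂_map]
    have e : (algebraMap k Γ(X, V)).comp (Scheme.ΓSpecIso (CommRingCat.of k)).hom.hom =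
        (X.presheaf.map (homOfLE (le_top : V ≤ ⊤)).op).hom.comp f.appTop.hom := by
      show ψ.hom.comp _ = _
      rw [hfg, ← CommRingCat.hom_comp, ← CommRingCat.hom_comp, Iso.hom_inv_id_assoc]
    rw [e, ← Polynomial.hom_eval₂, hPs, map_zero]
  let D : Γ(X, V) →+ Γ(Omega.sheaf f, V) := (OmegaSh.dOmega f).app V
  have hmul : ∀ b c : Γ(X, V), D (b * c) = b • D c + c • D b := fun b c => (OmegaSh.dOmega f).d_mul b c
  have hconst : ∀ c : k, D (algebraMap k Γ(X, V) c) = 0 := fun c => by
    show D (ψ c) = 0
    rw [hfg]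
    refine ((OmegaSh.dOmega f).d_map (homOfLE (le_top : V ≤ ⊤)).op _).trans ?_
    refine (congrArg _ ((OmegaSh.dOmega f).d_app (X := Opposite.op ⊤) ((Scheme.ΓSpecIso _).inv c))).trans (map_zero _)
  have key : ∀ P : Polynomial k, D (Polynomial.aeval a P) = Polynomial.aeval a P.derivative • D a := fun P => by
    induction P using Polynomial.induction_on' with
    | add P Q hP hQ => simp only [map_add, hP, hQ, add_smul]
    | monomial n c =>
      induction n with
      | zero => simp [hconst]
      | succ n ih =>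
        rw [← Polynomial.monomial_mul_X, map_mul, Polynomial.aeval_X, hmul, ih, Polynomial.derivative_mul,
          Polynomial.derivative_X, mul_one, map_add, map_mul, Polynomial.aeval_X, smul_smul, add_smul,
          mul_comm a, add_comm]
  have h0 := key (minpoly k a)
  rw [minpoly.aeval, map_zero] at h0
  obtain ⟨u, v, huv⟩ := (Groth.Agent.Desc19b.separable_minpoly_of_smooth ha : (minpoly k a).Separable)
  have huv' := congrArg (Polynomial.aeval a) huv
  rw [map_add, map_mul, map_mul, minpoly.aeval, mul_zero, zero_add, map_one] at huv'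
  show D a = 0
  rw [← one_smul Γ(X, V) (D a), ← huv', mul_smul, ← h0, smul_zero]

end Groth.Agent.S15533
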