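import Groth.Statements.S15546
import Groth.Agent.FiniteEt.Trace
import Mathlib.RingTheory.Unramified.Finite
import Mathlib.RingTheory.LocalRing.Module
import Mathlib.RingTheory.Etale.Basic
import Mathlib.RingTheory.Smooth.Flat
import Mathlib.RingTheory.Etale.Descent

set_option autoImplicit false
open scoped TensorProduct
universe u
open Unram

namespace Groth.Agent.S15546
open TensorProduct

/-- Let E be a finite extension of a field k which is not separable over k, and K an algebraic closure
of k. Then E ⊗_k K has a nonzero nilpotent element. -/
theorem result (k E K : Type u) [Field k] [Field E]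
    [Algebra k E] [FiniteDimensional k E] [Field K] [Algebra k K] [IsAlgClosure k K]
    (h : ¬ Algebra.IsSeparable k E) : ∃ x : E ⊗[k] K, x ≠ 0 ∧ IsNilpotent x := by
  by_contra hne
  push Not at hne
  apply h
  haveI : IsAlgClosed K := IsAlgClosure.isAlgClosed k
  haveI : IsReduced (K ⊗[k] E) := by
    refine ⟨fun x hx => ?_⟩
    by_contra h0
    exact hne _ (fun h' => h0 ((Algebra.TensorProduct.comm k K E).injective (h'.trans (map_zero _).symm)))
      (hx.map (Algebra.TensorProduct.comm k K E))
  haveI := Groth.Agent.FiniteEt.formallyEtale_of_isReduced K (K ⊗[k] E)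
  haveI : Algebra.FormallyUnramified k E := .of_formallyUnramified_tensorProduct_of_faithfullyFlat K
  exact Algebra.FormallyUnramified.isSeparable k E

end Groth.Agent.S15546
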