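import Groth.Statements.S15547
import Groth.Agent.AssSch12.Ass
import Mathlib.AlgebraicGeometry.Morphisms.QuasiFinite

set_option autoImplicit false
open CategoryTheory AlgebraicGeometry TopologicalSpace
universe u
open Coherent

open CategoryTheory AlgebraicGeometry Opposite TopologicalSpace
set_option backward.isDefEq.respectTransparency false
set_option backward.isDefEq.respectTransparency.types false

namespace Groth.Agent.S15547

/-- Let g : Z ⟶ X be a finite morphism of schemes (Z is the spectrum of the finite quasi-coherent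
O_X-algebra C = g_*O_Z) and x a point of X. Then the points of Z over x correspond bijectively to
the maximal ideals of the stalk C_x = (g_*O_Z)_x: the map sending z with g(z) = x to the preimage of
the maximal ideal of O_{Z,z} under the canonical map (g_*O_Z)_x ⟶ O_{Z,z} is a bijection from the
fibre onto the set of maximal ideals. -/
theorem result {Z X : Scheme.{u}} (g : Z ⟶ X)
    [IsFinite g] (x : X) :
    Set.BijOn (fun z : {z : Z // g.base z = x} =>
        Ideal.comap (((g.base _* Z.presheaf).stalkCongr (Inseparable.of_eq z.2)).inv ≫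
            TopCat.Presheaf.stalkPushforward CommRingCat g.base Z.presheaf z.1).hom
          (IsLocalRing.maximalIdeal (Z.presheaf.stalk z.1)))
      Set.univ {I : Ideal ((g.base _* Z.presheaf).stalk x) | I.IsMaximal} := by
  classical
  let S := (g.base _* Z.presheaf).stalk x
  let Φ : ∀ z : {z : Z // g.base z = x}, S ⟶ Z.presheaf.stalk z.1 := fun z =>
    ((g.base _* Z.presheaf).stalkCongr (Inseparable.of_eq z.2)).inv ≫
      TopCat.Presheaf.stalkPushforward CommRingCat g.base Z.presheaf z.1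
  let I : {z : Z // g.base z = x} → Ideal S := fun z =>
    Ideal.comap (Φ z).hom (IsLocalRing.maximalIdeal (Z.presheaf.stalk z.1))
  have hmem : ∀ (z : {z : Z // g.base z = x}) (U : X.Opens) (hx : x ∈ U) (s : Γ(Z, g ⁻¹ᵁ U)),
      (g.base _* Z.presheaf).germ U x hx s ∈ I z ↔ z.1 ∉ Z.basicOpen s := by
    intro z U hx s
    have hz : z.1 ∈ g ⁻¹ᵁ U := show g.base z.1 ∈ U by rw [z.2]; exact hx
    show (Φ z).hom _ ∈ IsLocalRing.maximalIdeal _ ↔ _
    have : (Φ z).hom ((g.base _* Z.presheaf).germ U x hx s) = Z.presheaf.germ (g ⁻¹ᵁ U) z.1 hz s := by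
      show ((g.base _* Z.presheaf).germ U x hx ≫ Φ z).hom s = _
      obtain ⟨z, rfl⟩ := z
      simp [Φ]
    rw [this, Scheme.mem_basicOpen Z s z.1 hz]
    exact IsLocalRing.mem_maximalIdeal _
  have hdisc : ∀ z z' : {z : Z // g.base z = x}, z.1 ⤳ z'.1 → z = z' := by
    intro z z' h
    haveI : DiscreteTopology ↥(g.base ⁻¹' {x}) := (g.isDiscrete_preimage_singleton x).to_subtype
    have h1 : (⟨z.1, z.2⟩ : ↥(g.base ⁻¹' {x})) ⤳ ⟨z'.1, z'.2⟩ := subtype_specializes_iff _ _ |>.2 h
    exact Subtype.ext (congrArg Subtype.val (specializes_iff_eq.1 h1) :)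
  have hinc : ∀ z z' : {z : Z // g.base z = x}, I z ≤ I z' → z = z' := by
    intro z z' h
    by_contra hne
    obtain ⟨U, hU, hxU, -⟩ := exists_isAffineOpen_mem_and_subset (x := x) (U := (⊤ : X.Opens)) trivial
    have hW : IsAffineOpen (g ⁻¹ᵁ U) := hU.preimage g
    have hz : z.1 ∈ g ⁻¹ᵁ U := show g.base z.1 ∈ U by rw [z.2]; exact hxU
    have hz' : z'.1 ∈ g ⁻¹ᵁ U := show g.base z'.1 ∈ U by rw [z'.2]; exact hxU
    have hsp : ¬ (z.1 ⤳ z'.1) := fun hs => hne (hdisc z z' hs)
    rw [Groth.Agent.AssSch12.specializes_iff hW hz hz'] at hsp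
    obtain ⟨b, hb, hb'⟩ := Set.not_subset.1 hsp
    rw [SetLike.mem_coe, Groth.Agent.AssSch12.mem_primeAt_iff] at hb hb'
    exact hb' ((hmem z' U hxU b).1 (h ((hmem z U hxU b).2 hb)))
  have hunit : ∀ c : S, (∀ z, c ∉ I z) → IsUnit c := by
    intro c hc
    obtain ⟨U, hx, s, rfl⟩ := (g.base _* Z.presheaf).exists_germ_eq c
    have hcl : IsClosed (g.base '' ((Z.basicOpen s : Set Z)ᶜ)) :=
      g.isClosedMap _ (Z.basicOpen s).2.isClosed_compl
    let U' : X.Opens := U ⊓ ⟨(g.base '' ((Z.basicOpen s : Set Z)ᶜ))ᶜ, hcl.isOpen_compl⟩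
    have hx' : x ∈ U' := ⟨hx, fun ⟨z, hz, hzx⟩ => hz (by
      by_contra hn
      exact hc ⟨z, hzx⟩ ((hmem ⟨z, hzx⟩ U hx s).2 hn))⟩
    have hle : g ⁻¹ᵁ U' ≤ Z.basicOpen s := fun z hz => by
      by_contra hn
      exact hz.2 ⟨z, hn, rfl⟩
    have hu : IsUnit ((g.base _* Z.presheaf).map (homOfLE (inf_le_left : U' ≤ U)).op s) := by
      have h1 : IsUnit (Z.presheaf.map (homOfLE (Z.basicOpen_le s)).op s) :=
        RingedSpace.isUnit_res_basicOpen Z.toRingedSpace s
      have h2 := h1.map (Z.presheaf.map (homOfLE hle).op).hom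
      change IsUnit ((Z.presheaf.map (homOfLE (Z.basicOpen_le s)).op ≫ Z.presheaf.map (homOfLE hle).op) s) at h2
      rwa [← Functor.map_comp] at h2
    have := hu.map ((g.base _* Z.presheaf).germ U' x hx').hom
    rwa [TopCat.Presheaf.germ_res_apply] at this
  have hprime : ∀ z, (I z).IsPrime := fun z => Ideal.comap_isPrime _ _
  haveI : Finite {z : Z // g.base z = x} := (g.finite_preimage_singleton x).to_subtype
  have hsub : ∀ J : Ideal S, J ≠ ⊤ → ∃ z, J ≤ I z := by
    intro J hJ
    haveI := Fintype.ofFinite {z : Z // g.base z = x}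
    have hu : (J : Set S) ⊆ ⋃ z ∈ ((Finset.univ : Finset {z : Z // g.base z = x}) : Set _), (I z : Set S) := by
      intro c hc
      by_contra hn
      simp only [Set.mem_iUnion, SetLike.mem_coe, Finset.coe_univ, Set.mem_univ, exists_true_left, not_exists] at hn
      exact hJ (J.eq_top_of_isUnit_mem hc (hunit c hn))
    rcases isEmpty_or_nonempty {z : Z // g.base z = x} with he | ⟨⟨z₀⟩⟩
    · exact absurd (J.eq_top_of_isUnit_mem J.zero_mem (hunit 0 fun z => he.elim z)) hJ
    obtain ⟨z, -, hz⟩ := (Ideal.subset_union_prime z₀ z₀ fun z _ _ _ => hprime z).1 hu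
    exact ⟨z, hz⟩
  refine ⟨fun z _ => ?_, fun z _ z' _ h => hinc z z' h.le, fun M hM => ?_⟩
  · obtain ⟨M, hM, hle⟩ := Ideal.exists_le_maximal (I z) (hprime z).ne_top
    obtain ⟨z', hz'⟩ := hsub M hM.ne_top
    have e := hinc z z' (hle.trans hz')
    subst e
    show (I z).IsMaximal
    rwa [le_antisymm hle hz']
  · obtain ⟨z, hz⟩ := hsub M (Ideal.IsMaximal.ne_top hM)
    exact ⟨z, trivial, (Ideal.IsMaximal.eq_of_le hM (hprime z).ne_top hz).symm⟩

end Groth.Agent.S15547
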