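import Groth.Statements.S15548
import Mathlib
import Groth.Prelude
import Groth.Agent.CommAlg4.DerivedLES

set_option linter.all false

set_option autoImplicit false
universe u
open CategoryTheory
open CAlg

open CategoryTheory CategoryTheory.Limits CategoryTheory.MonoidalCategory

set_option backward.isDefEq.respectTransparency false
set_option backward.isDefEq.respectTransparency.types false
set_option backward.defeqAttrib.useBackward true
namespace Groth.Agent.S15548

theorem homologyMap_eq_zero_of_elements {R : Type u} [CommRing R] {K L : ChainComplex (ModuleCat.{u} R) ℕ} (φ : K ⟶ L) (n : ℕ)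
    (h : ∀ z : K.X (n + 1), K.d (n + 1) n z = 0 → ∃ w : L.X (n + 2), L.d (n + 2) (n + 1) w = φ.f (n + 1) z) :
    HomologicalComplex.homologyMap φ (n + 1) = 0 := by
  rw [← cancel_epi (K.homologyπ (n + 1)), comp_zero, HomologicalComplex.homologyπ_naturality]
  ext c
  obtain ⟨w, hw⟩ := h (K.iCycles (n + 1) c) (by
    exact ConcreteCategory.congr_hom (K.iCycles_d (n + 1) n) c)
  have hinj : Function.Injective (L.iCycles (n + 1)) := (ModuleCat.mono_iff_injective _).1 inferInstance
  have heq : L.toCycles (n + 2) (n + 1) w = HomologicalComplex.cyclesMap φ (n + 1) c := hinj (by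
    refine Eq.trans ?_ (hw.trans ?_)
    · exact ConcreteCategory.congr_hom (L.toCycles_i (n + 2) (n + 1)) w
    · exact (ConcreteCategory.congr_hom (HomologicalComplex.cyclesMap_i φ (n + 1)) c).symm)
  show L.homologyπ (n + 1) (HomologicalComplex.cyclesMap φ (n + 1) c) = 0
  rw [← heq]
  exact ConcreteCategory.congr_hom (L.toCycles_comp_homologyπ (n + 2) (n + 1)) w

/-- Let R be a Noetherian commutative ring, I an ideal of R and M a finitely generated R-module. Then
for every natural number n there is m ≥ n such that the map Tor_1^R(M, R/I^m) → Tor_1^R(M, R/I^n)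
induced by the projection R/I^m → R/I^n is the zero map. Here Tor_1^R(M, -) is the first left
derived functor of M ⊗_R - (derived in the second variable). -/
theorem result (R : Type u) [CommRing R] [IsNoetherianRing R] (I : Ideal R)
    (M : Type u) [AddCommGroup M] [Module R M] [Module.Finite R M] (n : ℕ) :
    ∃ m : ℕ, n ≤ m ∧ ∀ h : I ^ m ≤ I ^ n,
      ((CategoryTheory.Tor (ModuleCat.{u} R) 1).obj (ModuleCat.of R M)).map
        (ModuleCat.ofHom (Submodule.factor h)) = 0 := by
  classical
  obtain ⟨k, π, hπ⟩ := Module.Finite.exists_fin' R M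
  set K := LinearMap.ker π
  let ι : K →ₗ[R] (Fin k → R) := K.subtype
  obtain ⟨c, hc⟩ := Ideal.exists_pow_inf_eq_pow_smul I K
  refine ⟨c + n, Nat.le_add_left n c, fun h => ?_⟩
  set m := c + n
  have hAR : ∀ x : K, (x : Fin k → R) ∈ I ^ m • (⊤ : Submodule R (Fin k → R)) → x ∈ I ^ n • (⊤ : Submodule R K) := by
    intro x hx
    have hmem : (x : Fin k → R) ∈ I ^ (m - c) • (I ^ c • ⊤ ⊓ K) := hc m (Nat.le_add_right c n) ▸ ⟨hx, x.2⟩
    have hle : I ^ (m - c) • (I ^ c • (⊤ : Submodule R (Fin k → R)) ⊓ K) ≤ (I ^ n • (⊤ : Submodule R K)).map K.subtype := by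
      rw [Submodule.map_smul'', Submodule.map_subtype_top, show m - c = n from Nat.add_sub_cancel_left c n]
      exact Submodule.smul_mono le_rfl inf_le_right
    obtain ⟨y, hy, hyx⟩ := hle hmem
    rwa [← Subtype.ext (hyx : (y : Fin k → R) = x)]
  set f : ModuleCat.of R (R ⧸ I ^ m) ⟶ ModuleCat.of R (R ⧸ I ^ n) := ModuleCat.ofHom (Submodule.factor h)
  let P := projectiveResolution (ModuleCat.of R (R ⧸ I ^ m))
  let Q := projectiveResolution (ModuleCat.of R (R ⧸ I ^ n))
  let φ := ProjectiveResolution.lift f P Q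
  let F := (tensoringLeft (ModuleCat.{u} R)).obj (ModuleCat.of R M)
  show (F.leftDerived 1).map f = 0
  rw [F.leftDerived_map_eq 1 f φ (ProjectiveResolution.lift_commutes f P Q)]
  suffices H : HomologicalComplex.homologyMap ((F.mapHomologicalComplex _).map φ) 1 = 0 by
    simp only [Functor.comp_map, HomologicalComplex.homologyFunctor_map, H, zero_comp, comp_zero]
  refine homologyMap_eq_zero_of_elements _ 0 fun z hz => ?_
  let dP : P.complex.X 1 →ₗ[R] P.complex.X 0 := (P.complex.d 1 0).hom
  let dQ : Q.complex.X 1 →ₗ[R] Q.complex.X 0 := (Q.complex.d 1 0).hom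
  let dQ2 : Q.complex.X 2 →ₗ[R] Q.complex.X 1 := (Q.complex.d 2 1).hom
  let qP : P.complex.X 0 →ₗ[R] (R ⧸ I ^ m) := (P.π.f 0).hom
  let qQ : Q.complex.X 0 →ₗ[R] (R ⧸ I ^ n) := (Q.π.f 0).hom
  let a₀ : P.complex.X 0 →ₗ[R] Q.complex.X 0 := (φ.f 0).hom
  let a₁ : P.complex.X 1 →ₗ[R] Q.complex.X 1 := (φ.f 1).hom
  have hexP : Function.Exact dP qP := LinearMap.exact_iff.2
    (ShortComplex.exact_of_g_is_cokernel (ShortComplex.mk _ _ P.complex_d_comp_π_f_zero) P.isColimitCokernelCofork).moduleCat_range_eq_ker.symm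
  have hexQ : Function.Exact dQ qQ := LinearMap.exact_iff.2
    (ShortComplex.exact_of_g_is_cokernel (ShortComplex.mk _ _ Q.complex_d_comp_π_f_zero) Q.isColimitCokernelCofork).moduleCat_range_eq_ker.symm
  have hexQ1 : Function.Exact dQ2 dQ := LinearMap.exact_iff.2 (Q.exact_succ 0).moduleCat_range_eq_ker.symm
  have hsurjQ : Function.Surjective qQ := (ModuleCat.epi_iff_surjective (Q.π.f 0)).1 inferInstance
  have hcomm : ∀ x, a₀ (dP x) = dQ (a₁ x) := fun x => (ConcreteCategory.congr_hom (φ.comm 1 0) x).symm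
  have hcomm0 : ∀ x, qQ (a₀ x) = Submodule.factor h (qP x) := fun x => by
    have := ConcreteCategory.congr_hom (HomologicalComplex.congr_hom (ProjectiveResolution.lift_commutes f P Q) 0) x
    exact this
  haveI : Module.Flat R (P.complex.X 0) := by
    have : Module.Projective R (P.complex.X 0) := (IsProjective.iff_projective _).2 (P.projective 0)
    infer_instance
  haveI : Module.Flat R (Q.complex.X 0) := by
    have : Module.Projective R (Q.complex.X 0) := (IsProjective.iff_projective _).2 (Q.projective 0)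
    infer_instance
  change TensorProduct R M (P.complex.X 1) at z
  have hz' : dP.lTensor M z = 0 := hz
  obtain ⟨y, rfl⟩ := LinearMap.rTensor_surjective (P.complex.X 1) hπ z
  have hcommT : ∀ {X Y : Type u} [AddCommGroup X] [Module R X] [AddCommGroup Y] [Module R Y] {A B : Type u} [AddCommGroup A] [Module R A] [AddCommGroup B] [Module R B]
      (g : X →ₗ[R] Y) (r : A →ₗ[R] B) (t : TensorProduct R A X), r.rTensor Y (g.lTensor A t) = g.lTensor B (r.rTensor X t) := by
    intro X Y _ _ _ _ A B _ _ _ _ g r t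
    rw [← LinearMap.comp_apply, ← LinearMap.comp_apply, LinearMap.rTensor_comp_lTensor, LinearMap.lTensor_comp_rTensor]
  have hy0 : π.rTensor (P.complex.X 0) (dP.lTensor _ y) = 0 := by rw [hcommT]; exact hz'
  obtain ⟨kk, hkk⟩ := ((rTensor_exact (P.complex.X 0) (LinearMap.exact_subtype_ker_map π) hπ) _).1 hy0
  have hk0 : ι.rTensor (R ⧸ I ^ m) (qP.lTensor K kk) = 0 := by
    rw [hcommT, hkk, ← LinearMap.comp_apply, ← LinearMap.lTensor_comp, hexP.linearMap_comp_eq_zero, LinearMap.lTensor_zero, LinearMap.zero_apply]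
  have hkey : qQ.lTensor K (a₀.lTensor K kk) = 0 := by
    have hfac : qQ.lTensor K (a₀.lTensor K kk) = (Submodule.factor h).lTensor K (qP.lTensor K kk) := by
      rw [← LinearMap.comp_apply, ← LinearMap.comp_apply, ← LinearMap.lTensor_comp, ← LinearMap.lTensor_comp]
      exact congrArg (fun g => LinearMap.lTensor K g kk) (LinearMap.ext hcomm0)
    rw [hfac]
    obtain ⟨t, ht⟩ : ∃ t : K, t ⊗ₜ[R] (Submodule.Quotient.mk (1 : R) : R ⧸ I ^ m) = qP.lTensor K kk := by
      obtain ⟨t, ht⟩ := TensorProduct.mk_surjective R K (R ⧸ I ^ m) Ideal.Quotient.mk_surjective (TensorProduct.comm R K _ (qP.lTensor K kk))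
      exact ⟨t, (TensorProduct.comm R K (R ⧸ I ^ m)).injective (by simpa using ht)⟩
    rw [← ht] at hk0 ⊢
    have h1 := congrArg (TensorProduct.tensorQuotEquivQuotSMul (Fin k → R) (I ^ m)) hk0
    simp only [LinearMap.rTensor_tmul, map_zero] at h1
    erw [TensorProduct.tensorQuotEquivQuotSMul_tmul_mk, one_smul] at h1
    have h2 := hAR t ((Submodule.Quotient.mk_eq_zero _).1 h1)
    rw [LinearMap.lTensor_tmul]
    apply (TensorProduct.tensorQuotEquivQuotSMul K (I ^ n)).injective
    erw [TensorProduct.tensorQuotEquivQuotSMul_tmul_mk]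
    rw [LinearMap.id_apply, one_smul, map_zero, Submodule.Quotient.mk_eq_zero]
    exact h2
  obtain ⟨k1, hk1⟩ := ((lTensor_exact K hexQ hsurjQ) _).1 hkey
  set y' := a₁.lTensor _ y - ι.rTensor (Q.complex.X 1) k1
  have hy' : dQ.lTensor (Fin k → R) y' = 0 := by
    have e1 : dQ.lTensor (Fin k → R) (a₁.lTensor _ y) = ι.rTensor _ (a₀.lTensor K kk) := by
      rw [hcommT, hkk, ← LinearMap.comp_apply, ← LinearMap.comp_apply, ← LinearMap.lTensor_comp, ← LinearMap.lTensor_comp]
      exact congrArg (fun g => LinearMap.lTensor _ g y) (LinearMap.ext fun x => (hcomm x).symm)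
    rw [map_sub, e1, ← hcommT, hk1, sub_self]
  obtain ⟨w, hw⟩ := ((Module.Flat.lTensor_exact (Fin k → R) hexQ1) _).1 hy'
  refine ⟨π.rTensor (Q.complex.X 2) w, ?_⟩
  show dQ2.lTensor M (π.rTensor (Q.complex.X 2) w) = a₁.lTensor M (π.rTensor (P.complex.X 1) y)
  have e0 : π.rTensor (Q.complex.X 1) (ι.rTensor (Q.complex.X 1) k1) = 0 := by
    rw [← LinearMap.comp_apply, ← LinearMap.rTensor_comp, show π ∘ₗ ι = 0 from LinearMap.ext fun x => x.2, LinearMap.rTensor_zero, LinearMap.zero_apply]
  rw [← hcommT, hw, map_sub, e0, sub_zero, hcommT]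

end Groth.Agent.S15548
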