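import Groth.Statements.S15549
import Mathlib.RingTheory.GradedAlgebra.Radical
import Mathlib.RingTheory.Finiteness.Ideal
-- import your own Groth.Agent.* helpers here

set_option autoImplicit false
universe u
open CategoryTheory AlgebraicGeometry
open LocCoh

namespace Groth.Agent.S15549

/-- Let R be a Noetherian commutative ring, positively graded by additive subgroups R_d, with irrelevant
ideal R_+ and X = Proj R, and let M be a graded R-module which is the direct sum of its pieces M_i,
i ≥ 0 (non-negatively graded here). For every i and every m ∈ M_i, the global section of M(i)~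
defined by m (the value m/1 at every point) is zero if and only if some power of R_+ annihilates m.
Equivalently, degree by degree, the kernel of the canonical map from M to the direct sum over all n
of Γ(X, M(n)~) is the R_+-power-torsion submodule H^0_{R_+}(M). -/
theorem result {R σ : Type u} [CommRing R] [IsNoetherianRing R] [SetLike σ R] [AddSubgroupClass σ R]
    (𝒜 : ℕ → σ) [GradedRing 𝒜] {M τ : Type u} [AddCommGroup M] [Module R M] [SetLike τ M] [AddSubgroupClass τ M]
    (ℳ : ℕ → τ) [SetLike.GradedSMul 𝒜 ℳ] [DirectSum.Decomposition ℳ]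
    (i : ℕ) (m : ℳ i) :
    GrMod.alpha 𝒜 ℳ i m = 0 ↔
      ∃ k : ℕ, ∀ r : R, r ∈ (HomogeneousIdeal.irrelevant 𝒜).toIdeal ^ k → r • (m : M) = 0 := by
  classical
  have hproj : ∀ (j : ℕ) (r : R), (DirectSum.decompose ℳ (r • (m : M)) (j + i) : M) =
      (DirectSum.decompose 𝒜 r j : R) • (m : M) := by
    intro j r
    induction r using DirectSum.Decomposition.inductionOn 𝒜 with
    | zero => simp
    | @homogeneous g a =>
      have ha : (a : R) • (m : M) ∈ ℳ (g + i) := SetLike.GradedSMul.smul_mem a.2 m.2
      by_cases h : g = j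
      · subst h
        rw [DirectSum.decompose_of_mem_same ℳ ha, DirectSum.decompose_of_mem_same 𝒜 a.2]
      · rw [DirectSum.decompose_of_mem_ne ℳ ha (by omega), DirectSum.decompose_of_mem_ne 𝒜 a.2 h, zero_smul]
    | add x y hx hy =>
      rw [add_smul, DirectSum.decompose_add, DirectSum.add_apply, AddMemClass.coe_add, hx, hy,
        DirectSum.decompose_add, DirectSum.add_apply, AddMemClass.coe_add, add_smul]
  let I : Ideal R := LinearMap.ker (LinearMap.toSpanSingleton R M (m : M))
  have hI : I.IsHomogeneous 𝒜 := fun j r hr => by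
    have hr' : r • (m : M) = 0 := hr
    show (DirectSum.decompose 𝒜 r j : R) • (m : M) = 0
    rw [← hproj, hr', DirectSum.decompose_zero]
    rfl
  constructor
  · intro h
    have hle : (HomogeneousIdeal.irrelevant 𝒜).toIdeal ≤ I.radical := by
      rw [hI.radical_eq]
      refine le_sInf fun J hJ => ?_
      obtain ⟨hJh, hIJ, hJp⟩ := hJ
      by_contra hne
      have h2 := congrArg Subtype.val (congrFun
        (congrArg (fun t : GrMod.sect 𝒜 ℳ (i : ℤ) (Opposite.op ⊤) => t.1) h) ⟨⟨⟨J, hJh⟩, hJp, hne⟩, trivial⟩)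
      change LocalizedModule.mk (m : M) 1 = (0 : GrMod.LocMod 𝒜 (M := M) _) at h2
      rw [← LocalizedModule.zero_mk (1 : (HomogeneousIdeal.toIdeal ⟨J, hJh⟩).primeCompl), LocalizedModule.mk_eq] at h2
      obtain ⟨u, hu⟩ := h2
      rw [one_smul, smul_zero, smul_zero, Submonoid.smul_def] at hu
      exact u.2 (hIJ hu)
    obtain ⟨k, hk⟩ := Ideal.exists_pow_le_of_le_radical_of_fg hle (IsNoetherian.noetherian _)
    exact ⟨k, fun r hr => hk hr⟩
  · rintro ⟨k, hk⟩
    refine Subtype.ext (funext fun x => Subtype.ext ?_)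
    change LocalizedModule.mk (m : M) 1 = (0 : GrMod.LocMod 𝒜 (M := M) x.1)
    haveI : x.1.asHomogeneousIdeal.toIdeal.IsPrime := x.1.isPrime
    obtain ⟨a, ha, hax⟩ := SetLike.not_le_iff_exists.1 x.1.not_irrelevant_le
    rw [← LocalizedModule.zero_mk (1 : x.1.asHomogeneousIdeal.toIdeal.primeCompl), LocalizedModule.mk_eq]
    refine ⟨⟨a ^ k, fun h' => hax (x.1.isPrime.mem_of_pow_mem k h')⟩, ?_⟩
    rw [one_smul, smul_zero, smul_zero, Submonoid.smul_def]
    exact hk _ (Ideal.pow_mem_pow ha k)

end Groth.Agent.S15549
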