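import Groth.Statements.S15551
import Groth.Agent.S2944
import Groth.Agent.Lef23.Connected
import Groth.Agent.Lef23.RegularSection
import Groth.Agent.Lef23.FiniteSections
import Groth.Agent.TwoPunct8.Main
import Groth.Agent.CAlgH3.Serre

set_option linter.style.haveILetI false
-- import your own Groth.Agent.* helpers here

set_option autoImplicit false
universe u
open CategoryTheory CategoryTheory.Limits AlgebraicGeometry
open Pi1

namespace Groth.Agent.S15551

private lemma aux {X : Scheme.{u}} (J : X.IdealSheafData) [ConnectedSpace X]
    (hlef : Lef.LefCond X J) (hJ : ConnectedSpace (J.support : Set X))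
    {W : Scheme.{u}} (π : W ⟶ X) [IsFinite π] [Etale π] [ConnectedSpace W] :
    ConnectedSpace ↥(pullback π J.subschemeι) := by
  have htop : (J.support : Set X) ⊆ ((⊤ : X.Opens) : Set X) := fun _ _ => trivial
  -- the fibre product is nonempty
  have hne : Nonempty ↥(pullback π J.subschemeι) := by
    obtain ⟨⟨x, hx⟩⟩ := hJ.toNonempty
    have hsurj : Set.range π = Set.univ :=
      IsClopen.eq_univ ⟨π.isClosedMap.isClosed_range, π.isOpenMap.isOpen_range⟩ (Set.range_nonempty _)
    obtain ⟨y, hy⟩ := hsurj.ge (Set.mem_univ x)
    obtain ⟨d, hd⟩ := (J.range_subschemeι).ge hx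
    obtain ⟨p, -⟩ := Scheme.Pullback.exists_preimage_pullback (f := π) (g := J.subschemeι) y d (hy.trans hd.symm)
    exact ⟨p⟩
  -- clopen subsets lift
  let T : X.Opens := ⊤
  haveI : IsIso T.ι := X.topIso.isIso_hom
  let g := π ≫ inv T.ι
  haveI : IsFinite g := inferInstance
  haveI : Etale g := inferInstance
  let J' := J.comap T.ι
  let m : pullback g J'.subschemeι ⟶ pullback π J.subschemeι :=
    pullback.map _ _ _ _ (𝟙 _) ((J.comapIso T.ι).hom ≫ pullback.snd _ _) T.ι (by simp [g])
      (by rw [Category.assoc, ← pullback.condition, ← Category.assoc, J.comapIso_hom_fst])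
  haveI : IsIso m := inferInstance
  refine @ConnectedSpace.mk _ _ (preconnectedSpace_iff_clopen.2 fun V hV => ?_) hne
  have hV' : IsClopen (m ⁻¹' V) := hV.preimage m.continuous
  obtain ⟨C, ⟨hC, hCV⟩, -⟩ := _root_.Groth.Agent.Lef23.existsUnique_clopen J' g (hlef T htop)
    ⟨inferInstance, inferInstance, inferInstance⟩ (m ⁻¹' V) hV'
  rcases isClopen_iff.1 hC with rfl | rfl
  · left
    rw [Set.preimage_empty] at hCV
    exact Set.preimage_eq_empty_iff.1 hCV.symm |> fun h => (Set.disjoint_univ.1
      (by rwa [Set.range_eq_univ.2 m.surjective] at h))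
  · right
    rw [Set.preimage_univ] at hCV
    exact Set.eq_univ_of_forall fun p => by
      obtain ⟨q, rfl⟩ := m.surjective p
      exact hCV.le (Set.mem_univ q)


/-- Let k be an algebraically closed field and X an integral normal scheme (all local rings integrally
closed domains), proper over k and of dimension at least 2, with an ample invertible module L; let s
be a nonzero global section of L, given as a monomorphism O_X → L, and D = Z(s) ⊆ X its zero scheme
(the support of an effective ample divisor). Then for every finite étale cover Y → X with Y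
connected, the fibre product Y ×_X D is connected. This is the statement that the étale fundamental
group of D maps onto that of X. (The published statement takes X projective over k; this row takes X
proper over k with an ample invertible module, which is equivalent.) -/
theorem result (k : Type u) [Field k] [IsAlgClosed k]
    (X : Scheme.{u}) (f : X ⟶ Spec (CommRingCat.of k)) [IsProper f] [IsIntegral X] (hN : Pi1.IsNormalScheme X)
    (hdim : (2 : WithBot ℕ∞) ≤ topologicalKrullDim X)
    (L : X.Modules) (hL : CohB1.IsAmple L) (s : Coh.structureModule X ⟶ L) (hs : Mono s)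
    (Y : FEt.Cat X) [ConnectedSpace Y.left] :
    ConnectedSpace ↥(pullback Y.hom (PicF2.zeroScheme L s).subschemeι) := by
  let k' := Spec (CommRingCat.of k)
  letI : X.Over k' := ⟨f⟩
  haveI : IsProper (X ↘ k') := ‹IsProper f›
  haveI : IsLocallyNoetherian X := LocallyOfFiniteType.isLocallyNoetherian f
  haveI := hs
  let J := PicF2.zeroScheme L s
  have hlef : Lef.LefCond X J := _root_.Groth.Agent.S2944.result k X J L
    (_root_.Groth.Agent.Lef23.isInverseOf_zeroScheme hL.1 s) hL fun x hx => by
      haveI := (hN x).1
      haveI := (hN x).2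
      refine _root_.Groth.Agent.CAlgH3.two_le_depth_of_normal ?_
      rw [_root_.Groth.Agent.TwoPunct8.ringKrullDim_stalk_of_isClosed (k := k) f hx]
      exact hdim
  have htop : (J.support : Set X) ⊆ ((⊤ : X.Opens) : Set X) := fun _ _ => trivial
  haveI : ConnectedSpace (⊤ : X.Opens) :=
    (Homeomorph.Set.univ X).symm.surjective.connectedSpace (Homeomorph.Set.univ X).symm.continuous
  have hJ : ConnectedSpace (J.support : Set X) :=
    (_root_.Groth.Agent.Lef23.connected_iff X J hlef ⊤ htop).2 ‹ConnectedSpace (⊤ : X.Opens)›
  haveI : IsFinite Y.hom := Y.prop.1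
  haveI : Etale Y.hom := Y.prop.2
  haveI : ConnectedSpace X := ⟨inferInstance⟩
  exact @aux X J inferInstance hlef hJ Y.left Y.hom _ _ ‹_›

end Groth.Agent.S15551
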