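import Groth.Statements.S15554
import Groth.Agent.BertiniLib.Affine
import Groth.Agent.HypLib.LinForm
import Groth.Agent.H8Constr.AffineChart
import Groth.Agent.ProjLib.IdealComap
import Groth.Agent.UPLib.SecKernel
-- import your own Groth.Agent.* helpers here

set_option autoImplicit false
universe u
open CategoryTheory CategoryTheory.Limits AlgebraicGeometry
open SmVar

namespace Groth.Agent.S15554

set_option linter.unusedVariables false

open CategoryTheory CategoryTheory.Limits AlgebraicGeometry HomogeneousLocalization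

open Groth.Agent Groth.Agent.Coherent Groth.Agent.PicLib Groth.Agent.AmpleLib in
theorem exists_coeff {k : Type u} [Field k] [Infinite k] {m : ℕ} {ι : Type} [Fintype ι] (B : ι → Type u)
    [∀ i, CommRing (B i)] [∀ i, Algebra k (B i)] (hB : ∀ i, Algebra.Smooth k (B i))
    (s : ∀ i, Fin m → B i) (h1 : ∀ i, (1 : B i) ∈ Set.range (s i))
    (hgen : ∀ i, Algebra.adjoin k (Set.range (s i)) = ⊤) (i₀ : ι) [Nontrivial (B i₀)] :
    ∃ c : Fin m → k, (∀ i, Algebra.Smooth k (B i ⧸ Ideal.span {∑ j, algebraMap k (B i) (c j) * s i j})) ∧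
      ∑ j, algebraMap k (B i₀) (c j) * s i₀ j ≠ 0 := by
  classical
  have key : ∀ i, ∃ g : MvPolynomial (Fin m) k, g ≠ 0 ∧ ∀ c : Fin m → k, MvPolynomial.eval c g ≠ 0 →
      Algebra.Smooth k (B i ⧸ Ideal.span {∑ j, algebraMap k (B i) (c j) * s i j}) := fun i => by
    haveI := hB i
    obtain ⟨g, hg, hg'⟩ := BertiniLib.exists_poly_smooth_quotient (s i) 0
      (BertiniLib.span_pairs_of_adjoin (s i) (h1 i) (hgen i))
    exact ⟨g, hg, fun c hc => by
      have h := hg' c hc
      rw [zero_add] at h
      exact h⟩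
  choose g hg hg' using key
  let T : (Fin m → k) →ₗ[k] B i₀ := Fintype.linearCombination k (s i₀)
  obtain ⟨j₀, hj₀⟩ := h1 i₀
  have hT : T (Pi.single j₀ 1) ≠ 0 := by simp [T, hj₀]
  obtain ⟨φ, hφ⟩ : ∃ φ : Module.Dual k (B i₀), φ (T (Pi.single j₀ 1)) ≠ 0 := by
    by_contra! h
    exact hT ((Module.forall_dual_apply_eq_zero_iff k _).1 h)
  let l : MvPolynomial (Fin m) k := ∑ j, MvPolynomial.C (φ (s i₀ j)) * MvPolynomial.X j
  have hl : ∀ c, MvPolynomial.eval c l = φ (T c) := fun c => by
    simp [l, T, Fintype.linearCombination_apply, mul_comm]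
  have hl0 : l ≠ 0 := fun h => hφ (by rw [← hl, h, map_zero])
  obtain ⟨c, hc⟩ : ∃ c, MvPolynomial.eval c ((∏ i, g i) * l) ≠ 0 := by
    by_contra! h
    exact mul_ne_zero (Finset.prod_ne_zero_iff.2 fun i _ => hg i) hl0
      (MvPolynomial.funext fun c => by rw [h c, map_zero])
  rw [map_mul, mul_ne_zero_iff, map_prod, Finset.prod_ne_zero_iff] at hc
  refine ⟨c, fun i => hg' i c (hc.1 i (Finset.mem_univ i)), fun h0 => hc.2 ?_⟩
  rw [hl]
  convert map_zero φ
  simpa [T, Fintype.linearCombination_apply, Algebra.smul_def] using h0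

/-- The chart `D+(X i)` as a scheme over the field. -/
theorem fromSpec_toSpec {k : Type u} [Field k] {n : ℕ} (i : Fin (n + 1))
    (hV : IsAffineOpen (Proj.basicOpen (CohB1.polyGrading n k) (MvPolynomial.X i))) :
    hV.fromSpec ≫ CohB1.ProjSpace.toSpec n k =
      Spec.map (CommRingCat.ofHom ((Proj.awayToSection (CohB1.polyGrading n k) (MvPolynomial.X i)).hom.comp
        ((fromZeroRingHom (CohB1.polyGrading n k) _).comp (algebraMap k (CohB1.polyGrading n k 0))))) := by
  have hX : (MvPolynomial.X i : MvPolynomial (Fin (n + 1)) k) ∈ CohB1.polyGrading n k 1 :=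
    MvPolynomial.isHomogeneous_X k i
  have e : hV.fromSpec = Spec.map (Proj.awayToSection (CohB1.polyGrading n k) (MvPolynomial.X i)) ≫
      Proj.awayι (CohB1.polyGrading n k) _ hX one_pos := by
    rw [← cancel_epi hV.isoSpec.hom, IsAffineOpen.fromSpec, Iso.hom_inv_id_assoc, ← Category.assoc,
      IsAffineOpen.isoSpec_hom, ← Proj.basicOpenIsoSpec_inv_ι]
    exact ((Proj.basicOpenIsoSpec (CohB1.polyGrading n k) _ hX one_pos).hom_inv_id_assoc _).symm
  have h2 : Spec.map (Proj.awayToSection (CohB1.polyGrading n k) (MvPolynomial.X i)) ≫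
      Proj.awayι (CohB1.polyGrading n k) _ hX one_pos ≫ Proj.toSpecZero (CohB1.polyGrading n k) ≫
        Spec.map (CommRingCat.ofHom (algebraMap k (CohB1.polyGrading n k 0))) =
      Spec.map (CommRingCat.ofHom ((Proj.awayToSection (CohB1.polyGrading n k) (MvPolynomial.X i)).hom.comp
        ((fromZeroRingHom (CohB1.polyGrading n k) _).comp (algebraMap k (CohB1.polyGrading n k 0))))) := by
    rw [Proj.awayι_toSpecZero_assoc, CommRingCat.ofHom_comp, CommRingCat.ofHom_comp, CommRingCat.ofHom_hom,
      Spec.map_comp, Spec.map_comp]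
  rw [e]
  exact (Category.assoc _ _ _).trans h2

theorem toAway_eq {k : Type u} [Field k] {n : ℕ} (i : Fin (n + 1)) (a : k) :
    fromZeroRingHom (CohB1.polyGrading n k) (Submonoid.powers (MvPolynomial.X i)) (algebraMap k (CohB1.polyGrading n k 0) a) =
      Groth.Agent.ProjLib.toAway n k (MvPolynomial.X i) a := rfl

set_option maxHeartbeats 1000000 in
set_option backward.isDefEq.respectTransparency.types false in
open Groth.Agent Groth.Agent.Coherent Groth.Agent.PicLib Groth.Agent.AmpleLib in
/-- A section with given coefficients, with its coordinate on the charts. -/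
theorem exists_section {k : Type u} [Field k] (n : ℕ) (c : Fin (n + 1) → k) :
    ∃ s : Coh.structureModule (CohB1.ProjSpace n k) ⟶ Twist.twistProjSpace n k 1,
      ∀ (i : Fin (n + 1)) (hV : IsAffineOpen (Proj.basicOpen (CohB1.polyGrading n k) (MvPolynomial.X i))),
        (PicF2.zeroScheme (Twist.twistProjSpace n k 1) s).ideal ⟨_, hV⟩ =
          Ideal.span {(Proj.awayToSection (CohB1.polyGrading n k) (MvPolynomial.X i)).hom
            (Away.mk (CohB1.polyGrading n k) (MvPolynomial.isHomogeneous_X k i) 1 (UPLib.linForm n c)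
              (by rw [one_smul]; exact UPLib.linForm_mem n c))} := by
  have hL := HypLib.isInvertible_one (R := k) n
  refine ⟨unitDesc (Twist.twistProjSpace n k 1) (HypLib.lsec n c), fun i hV => ?_⟩
  have hX : (MvPolynomial.X i : MvPolynomial (Fin (n + 1)) k) ∈ CohB1.polyGrading n k 1 :=
    MvPolynomial.isHomogeneous_X k i
  have he : IsGen (Twist.twistProjSpace n k 1) (Proj.basicOpen (CohB1.polyGrading n k) (MvPolynomial.X i))
      (resM (Twist.twistProjSpace n k 1) le_top (UPLib.sec (MvPolynomial.X i) hX)) :=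
    (le_glocus_iff _ _).1 (UPLib.glocus_sec (HypLib.hgen n) hX).ge
  rw [ZeroSchLib.zeroScheme_ideal_eq_span _ hL ⟨_, hV⟩ he]
  congr 2
  refine he.coef_eq le_rfl ?_
  rw [unitVal_unitDesc, resM_self]
  exact UPLib.mk_smul_sec hX (UPLib.linForm n c) (by rw [one_smul]; exact UPLib.linForm_mem n c)

set_option maxHeartbeats 1000000 in
set_option backward.isDefEq.respectTransparency.types false in
open Groth.Agent Groth.Agent.Coherent Groth.Agent.PicLib Groth.Agent.AmpleLib in
theorem main {k : Type u} [Field k] [Infinite k] (n : ℕ) (X : Scheme.{u}) [IsIntegral X]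
    (ι : X ⟶ CohB1.ProjSpace n k) [IsClosedImmersion ι] [Smooth (ι ≫ CohB1.ProjSpace.toSpec n k)] :
    ∃ s : Coh.structureModule (CohB1.ProjSpace n k) ⟶ Twist.twistProjSpace n k 1,
      (∃ x : ↥X, ι.base x ∉ (PicF2.zeroScheme (Twist.twistProjSpace n k 1) s).support) ∧
      Smooth (pullback.fst ι (PicF2.zeroScheme (Twist.twistProjSpace n k 1) s).subschemeι ≫ ι ≫
        CohB1.ProjSpace.toSpec n k) := by
  classical
  let 𝒜 := CohB1.polyGrading n k
  have hX : ∀ i : Fin (n + 1), (MvPolynomial.X i : MvPolynomial (Fin (n + 1)) k) ∈ 𝒜 1 :=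
    fun i => MvPolynomial.isHomogeneous_X k i
  let V : Fin (n + 1) → (CohB1.ProjSpace n k).Opens := fun i => Proj.basicOpen 𝒜 (MvPolynomial.X i)
  have hV : ∀ i, IsAffineOpen (V i) := fun i => Proj.isAffineOpen_basicOpen 𝒜 _ (hX i) one_pos
  let U : Fin (n + 1) → X.Opens := fun i => ι ⁻¹ᵁ V i
  have hU : ∀ i, IsAffineOpen (U i) := fun i => (hV i).preimage ι
  let φ : ∀ i, Away 𝒜 (MvPolynomial.X i) →+* Γ(X, U i) := fun i =>
    ((ι.appLE (V i) (U i) le_rfl).hom).comp (Proj.awayToSection 𝒜 (MvPolynomial.X i)).hom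
  have hφs : ∀ i, Function.Surjective (φ i) := fun i => by
    have h1 : Function.Surjective (ι.appLE (V i) (U i) le_rfl).hom := by
      rw [← Scheme.Hom.app_eq_appLE]
      exact ι.app_surjective _ (hV i)
    exact h1.comp (ConcreteCategory.bijective_of_isIso (Proj.basicOpenIsoAway 𝒜 _ (hX i) one_pos).hom).2
  letI : ∀ i, Algebra k Γ(X, U i) := fun i =>
    ((φ i).comp ((fromZeroRingHom 𝒜 _).comp (algebraMap k (𝒜 0)))).toAlgebra
  have halg : ∀ i, algebraMap k Γ(X, U i) = (φ i).comp ((fromZeroRingHom 𝒜 _).comp (algebraMap k (𝒜 0))) :=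
    fun i => rfl
  have hfs : ∀ i, (hU i).fromSpec ≫ ι ≫ CohB1.ProjSpace.toSpec n k =
      Spec.map (CommRingCat.ofHom (algebraMap k Γ(X, U i))) := fun i => by
    rw [← IsAffineOpen.SpecMap_appLE_fromSpec_assoc ι (hV i) (hU i) le_rfl]
    refine (congrArg (Spec.map _ ≫ ·) (fromSpec_toSpec i (hV i))).trans ((Spec.map_comp _ _).symm.trans ?_)
    rfl
  have hsm : ∀ i, Algebra.Smooth k Γ(X, U i) := fun i => by
    have : Smooth (Spec.map (CommRingCat.ofHom (algebraMap k Γ(X, U i)))) := by
      rw [← hfs i]; infer_instance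
    exact RingHom.smooth_algebraMap.1 ((HasRingHomProperty.Spec_iff (P := @Smooth)).1 this)
  let t : ∀ i, Fin (n + 1) → Away 𝒜 (MvPolynomial.X i) := fun i j =>
    Away.mk 𝒜 (hX i) 1 (MvPolynomial.X j) (by simpa using hX j)
  let s : ∀ i, Fin (n + 1) → Γ(X, U i) := fun i j => φ i (t i j)
  have htt : ∀ i, t i i = 1 := fun i => HomogeneousLocalization.val_injective _ (by
    rw [Away.val_mk, HomogeneousLocalization.val_one, ← Localization.mk_one]
    exact Localization.mk_eq_mk_iff.2 (Localization.r_iff_exists.2 ⟨1, by simp⟩))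
  have hgen : ∀ i, Algebra.adjoin k (Set.range (s i)) = ⊤ := fun i => eq_top_iff.2 fun b hb => by
    clear hb
    obtain ⟨a, rfl⟩ := hφs i b
    obtain ⟨p, rfl⟩ := (H8Constr.chartHom_bijective n k i).2 a
    induction p using MvPolynomial.induction_on with
    | C r =>
      rw [H8Constr.chartHom, MvPolynomial.eval₂Hom_C, ← toAway_eq]
      exact Subalgebra.algebraMap_mem _ r
    | add p q hp hq => rw [map_add, map_add]; exact add_mem hp hq
    | mul_X p j hp =>
      rw [map_mul, map_mul]
      refine mul_mem hp (Algebra.subset_adjoin ⟨j.1, congrArg (φ i) ?_⟩)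
      refine HomogeneousLocalization.val_injective _ ?_
      rw [H8Constr.chartHom, MvPolynomial.eval₂Hom_X', Away.val_mk, HomogeneousLocalization.val_mk]
      exact Localization.mk_eq_mk_iff.2 (Localization.r_iff_exists.2 ⟨1, by simp⟩)
  -- the generic point
  obtain ⟨i₀, hi₀⟩ : ∃ i, genericPoint X ∈ U i := UPLib.exists_degOne_projSpace (R := CommRingCat.of k) n (ι (genericPoint X))
  haveI : Nonempty (U i₀) := ⟨⟨_, hi₀⟩⟩
  obtain ⟨c, hc, hc0⟩ := exists_coeff (fun i => Γ(X, U i)) hsm s
    (fun i => ⟨i, by simp only [s, htt, map_one]⟩) hgen i₀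
  obtain ⟨σ, hσ⟩ := exists_section n c
  let J := PicF2.zeroScheme (Twist.twistProjSpace n k 1) σ
  let K := J.comap ι
  have hlin : ∀ i, φ i (Away.mk 𝒜 (hX i) 1 (UPLib.linForm n c) (by rw [one_smul]; exact UPLib.linForm_mem n c)) =
      ∑ j, algebraMap k Γ(X, U i) (c j) * s i j := fun i => by
    have h : Away.mk 𝒜 (hX i) 1 (UPLib.linForm n c) (by rw [one_smul]; exact UPLib.linForm_mem n c) =
        ∑ j, fromZeroRingHom 𝒜 _ (algebraMap k (𝒜 0) (c j)) * t i j := by
      refine HomogeneousLocalization.val_injective _ ?_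
      rw [Away.val_mk, ← HomogeneousLocalization.algebraMap_apply, map_sum]
      simp only [map_mul, HomogeneousLocalization.algebraMap_apply, t, Away.val_mk]
      rw [UPLib.linForm, Module.Basis.constr_apply_fintype]
      rw [Localization.mk_eq_mk', IsLocalization.mk'_eq_iff_eq_mul, Finset.sum_mul, map_sum]
      refine Finset.sum_congr rfl fun j _ => ?_
      rw [mul_assoc, IsLocalization.mk'_spec, toAway_eq, ProjLib.val_toAway]
      simp [MvPolynomial.smul_eq_C_mul, ← MvPolynomial.algebraMap_eq]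
    rw [h, map_sum]
    exact Finset.sum_congr rfl fun j _ => map_mul _ _ _
  have hK : ∀ i, K.ideal ⟨U i, hU i⟩ = Ideal.span {∑ j, algebraMap k Γ(X, U i) (c j) * s i j} := fun i => by
    rw [show K = J.comap ι from rfl, ProjLib.comap_ideal_eq J ι ⟨V i, hV i⟩ ⟨U i, hU i⟩ le_rfl, hσ i (hV i),
      ← hlin]
    exact (Ideal.map_span _ _).trans (congrArg Ideal.span Set.image_singleton)
  refine ⟨σ, ⟨genericPoint X, fun hmem => hc0 ?_⟩, ?_⟩
  · have hm : genericPoint X ∈ K.support := by
      rw [Scheme.IdealSheafData.support_comap]; exact hmem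
    rw [Scheme.IdealSheafData.mem_support_iff_of_mem (U := (⟨U i₀, hU i₀⟩ : X.affineOpens)) hi₀] at hm
    by_contra hne
    rw [Scheme.mem_zeroLocus_iff] at hm
    refine hm _ ((hK i₀).ge (Ideal.subset_span rfl)) ?_
    replace hne := fun h => hne ((basicOpen_eq_bot_iff _).1 h)
    exact ((genericPoint_spec X).specializes (y := ((TopologicalSpace.Opens.ne_bot_iff_nonempty _).1 hne).some) trivial).mem_open
      (X.basicOpen _).isOpen ((TopologicalSpace.Opens.ne_bot_iff_nonempty _).1 hne).some_mem
  · rw [← Scheme.IdealSheafData.comapIso_inv_subschemeι, Category.assoc]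
    haveI : Smooth (K.subschemeι ≫ ι ≫ CohB1.ProjSpace.toSpec n k) := by
      have hcov : ∀ z : K.subscheme, ∃ i, z ∈ Set.range (K.subschemeCover.f ⟨U i, hU i⟩) := fun z => by
        obtain ⟨i, hi⟩ := UPLib.exists_degOne_projSpace (R := CommRingCat.of k) n (ι (K.subschemeι z))
        refine ⟨i, ?_⟩
        rw [← Scheme.Hom.coe_opensRange, Scheme.IdealSheafData.opensRange_subschemeCover_map]
        exact hi
      choose idx hidx using hcov
      have key : ∀ i : Fin (n + 1),
          Smooth (K.subschemeCover.f ⟨U i, hU i⟩ ≫ K.subschemeι ≫ ι ≫ CohB1.ProjSpace.toSpec n k) := fun i => by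
        rw [← Category.assoc, Scheme.IdealSheafData.subschemeCover_map_subschemeι,
          Scheme.IdealSheafData.glueDataObjι_ι]
        have h := hc i
        rw [← hK i] at h
        have h' : Smooth (Spec.map (CommRingCat.ofHom (Ideal.Quotient.mk (K.ideal ⟨U i, hU i⟩))) ≫
            (hU i).fromSpec ≫ ι ≫ CohB1.ProjSpace.toSpec n k) := by
          rw [hfs i, ← Spec.map_comp, HasRingHomProperty.Spec_iff (P := @Smooth.{u})]
          exact RingHom.smooth_algebraMap.2 h
        show Smooth ((Spec.map (CommRingCat.ofHom (Ideal.Quotient.mk (K.ideal ⟨U i, hU i⟩))) ≫ (hU i).fromSpec) ≫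
            ι ≫ CohB1.ProjSpace.toSpec n k)
        rw [Category.assoc]
        exact h'
      exact IsZariskiLocalAtSource.of_openCover (P := @Smooth.{u})
        (Scheme.Cover.mkOfCovers (Fin (n + 1)) _ (fun i => K.subschemeCover.f ⟨U i, hU i⟩)
          (fun z => ⟨idx z, hidx z⟩) fun i => K.subschemeCover.map_prop _) key
    infer_instance

/-- Let k be an infinite field and X ⊆ P^n_k a smooth projective variety, given as an integral scheme X
with a closed immersion ι into projective n-space over k through which X is smooth over k. Then X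
has a smooth hyperplane section defined over k: there is a global section s of the twisting sheaf
O(1) on P^n_k whose zero scheme H, a hyperplane defined over k, does not contain X and for which the
scheme-theoretic intersection X ∩ H = X ×_{P^n_k} H is smooth over k. (The published statement also
records that X ∩ H has dimension dim X − 1; that is automatic once X is integral and not contained
in H, so this row states smoothness together with X ⊄ H.) -/
theorem result (k : Type u) [Field k] [Infinite k] (n : ℕ)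
    (X : Scheme.{u}) [IsIntegral X] (ι : X ⟶ CohB1.ProjSpace n k) [IsClosedImmersion ι]
    [Smooth (ι ≫ CohB1.ProjSpace.toSpec n k)] :
    ∃ s : Coh.structureModule (CohB1.ProjSpace n k) ⟶ Twist.twistProjSpace n k 1,
      (∃ x : ↥X, ι.base x ∉ (PicF2.zeroScheme (Twist.twistProjSpace n k 1) s).support) ∧
      Smooth (pullback.fst ι (PicF2.zeroScheme (Twist.twistProjSpace n k 1) s).subschemeι ≫ ι ≫
        CohB1.ProjSpace.toSpec n k) := by
  exact main n X ι

end Groth.Agent.S15554
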