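import Groth.Statements.S15555
import Mathlib
import Groth.Prelude

set_option linter.all false

set_option autoImplicit false
universe u
open CategoryTheory AlgebraicGeometry
open Zeta

open CategoryTheory AlgebraicGeometry

namespace Groth.Agent.S15555

variable {k : Type u} [Field k] [Fintype k] {A : Type u} [CommRing A] [Algebra k A]

theorem add_pow_card (a : k) (z : A) : (algebraMap k A a + z) ^ Fintype.card k = algebraMap k A a + z ^ Fintype.card k := by
  have h := congrArg (Polynomial.aeval z) (FiniteField.expand_card (K := k) (Polynomial.X + Polynomial.C a))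
  simp only [map_add, map_pow, Polynomial.expand_X, Polynomial.expand_C, Polynomial.aeval_X, Polynomial.aeval_C] at h
  rw [add_comm (algebraMap k A a) z, ← h, add_comm]

theorem sum_pow_card {ι : Type} [Fintype ι] (c : ι → k) (z : ι → A) :
    (∑ i, algebraMap k A (c i) * z i) ^ Fintype.card k = ∑ i, algebraMap k A (c i) * z i ^ Fintype.card k := by
  rcases subsingleton_or_nontrivial A with hA | hA
  · exact Subsingleton.elim _ _
  obtain ⟨p, hp⟩ := CharP.exists k
  obtain ⟨m, hm, hcard⟩ := FiniteField.card k p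
  haveI := Fact.mk hm
  haveI : CharP A p := charP_of_injective_algebraMap (algebraMap k A).injective p
  haveI : ExpChar A p := ExpChar.prime hm
  rw [hcard, sum_pow_char_pow p]
  refine Finset.sum_congr rfl fun i _ => ?_
  rw [mul_pow, ← map_pow, ← hcard, FiniteField.pow_card]

theorem eval_shift {n : ℕ} (c z : Fin n ⊕ Fin n → k) (w : Fin n ⊕ Fin n → A)
    (hl : ∀ i, z (Sum.inl i) = -c (Sum.inr i)) (hr : ∀ i, z (Sum.inr i) = c (Sum.inl i)) :
    ∑ i, ((algebraMap k A (z (Sum.inl i)) + w (Sum.inl i)) * (algebraMap k A (z (Sum.inr i)) + w (Sum.inr i)) ^ Fintype.card k -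
      (algebraMap k A (z (Sum.inr i)) + w (Sum.inr i)) * (algebraMap k A (z (Sum.inl i)) + w (Sum.inl i)) ^ Fintype.card k) =
    ∑ i, (w (Sum.inl i) * w (Sum.inr i) ^ Fintype.card k - w (Sum.inr i) * w (Sum.inl i) ^ Fintype.card k) +
      (∑ v, algebraMap k A (c v) * w v) - (∑ v, algebraMap k A (c v) * w v) ^ Fintype.card k := by
  rw [sum_pow_card, Fintype.sum_sum_type, Fintype.sum_sum_type]
  simp only [← Finset.sum_add_distrib, ← Finset.sum_sub_distrib]
  refine Finset.sum_congr rfl fun i _ => ?_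
  rw [add_pow_card, add_pow_card, hl, hr, map_neg]
  ring
abbrev TB (k : Type u) [Field k] (m : ℕ) : Type u := AdjoinRoot (Polynomial.X ^ m : Polynomial (Polynomial k))
noncomputable def mkTB (k : Type u) [Field k] (m : ℕ) : Polynomial (Polynomial k) →+* TB k m := AdjoinRoot.mk _
theorem mkTB_surjective (k : Type u) [Field k] (m : ℕ) : Function.Surjective (mkTB k m) := AdjoinRoot.mk_surjective
theorem mkTB_eq_zero (k : Type u) [Field k] (m : ℕ) (x : Polynomial (Polynomial k)) : mkTB k m x = 0 ↔ Polynomial.X ^ m ∣ x :=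
  AdjoinRoot.mk_eq_zero
theorem algebraMap_TB (k : Type u) [Field k] (m : ℕ) (x : k) :
    algebraMap k (TB k m) x = mkTB k m (Polynomial.C (Polynomial.C x)) := rfl
noncomputable def evTB (k : Type u) [Field k] (m : ℕ) : TB k (m + 1) →+* Polynomial k :=
  AdjoinRoot.lift (RingHom.id _) 0 (by simp)
theorem evTB_mk (k : Type u) [Field k] (m : ℕ) (x : Polynomial (Polynomial k)) : evTB k m (mkTB k (m + 1) x) = x.eval 0 :=
  (AdjoinRoot.lift_mk (by simp) x).trans rfl

/-- Let k be a finite field with q elements and n ≥ 1 a natural number; in the 2n + 2 variables X_0, …,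
X_n, Y_0, …, Y_n (indexed by Fin (n+1) ⊕ Fin (n+1), the left summand carrying the X_i) let F = Σ_i
(X_i Y_i^q − Y_i X_i^q), a form of degree q + 1 defining the hypersurface Hyp ⊂ P^{2n+1}_k. Then no
hyperplane of P^{2n+1}_k defined over k meets Hyp transversally: for every linear form L = Σ_v c_v
x_v with a nonzero coefficient vector c over k, the scheme-theoretic intersection Hyp ∩ (L = 0) ⊂
P^{2n+1}_k is not smooth over k. The intersection is presented through the standard open pieces of
its affine cone: with R = k[X, Y]/(F, L), the piece x_w ≠ 0 of the cone Spec R is (Hyp ∩ (L = 0) ∩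
D₊(x_w)) × 𝔾_m, so Hyp ∩ (L = 0) is smooth over k exactly when every localisation R[1/x_w] is a
smooth k-algebra, and the row states that not all of them are. (The published example is stated for
every n ≥ 0; for n = 0 the hypersurface is the set of the q + 1 rational points of P^1_k, it
contains every rational point H, and Hyp ∩ H = H is a reduced point, smooth over k; so this row
takes n ≥ 1, where no rational hyperplane is contained in Hyp and each one is tangent to Hyp at a
rational point, at which the intersection is singular.) -/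
theorem result (k : Type u) [Field k] [Fintype k] (n : ℕ) (hn : 1 ≤ n)
    (F L : MvPolynomial (Fin (n + 1) ⊕ Fin (n + 1)) k)
    (hF : F = ∑ i : Fin (n + 1), (MvPolynomial.X (Sum.inl i) * MvPolynomial.X (Sum.inr i) ^ Fintype.card k -
      MvPolynomial.X (Sum.inr i) * MvPolynomial.X (Sum.inl i) ^ Fintype.card k))
    (c : Fin (n + 1) ⊕ Fin (n + 1) → k) (hc : c ≠ 0)
    (hL : L = ∑ v, MvPolynomial.C (c v) * MvPolynomial.X v) :
    ¬ ∀ w : Fin (n + 1) ⊕ Fin (n + 1),
      Smooth (Spec.map (CommRingCat.ofHom (algebraMap k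
        (Localization.Away (Ideal.Quotient.mk (Ideal.span {F, L}) (MvPolynomial.X w)))))) := by
  classical
  intro hsm
  set q := Fintype.card k with hq
  have hq1 : 1 < q := Fintype.one_lt_card
  let z : Fin (n + 1) ⊕ Fin (n + 1) → k := Sum.elim (fun i => -c (Sum.inr i)) (fun i => c (Sum.inl i))
  obtain ⟨v₀, hv₀⟩ : ∃ v, z v ≠ 0 := by
    by_contra hn
    push Not at hn
    refine hc (funext fun v => ?_)
    rcases v with i | i
    · exact hn (Sum.inr i)
    · exact neg_eq_zero.1 (hn (Sum.inl i))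
  obtain ⟨v₁, hv₁⟩ : ∃ v, c v ≠ 0 := by
    by_contra hn; push Not at hn; exact hc (funext hn)
  obtain ⟨i₀, hi₀⟩ : ∃ i₀, v₁ = Sum.inl i₀ ∨ v₁ = Sum.inr i₀ := by
    rcases v₁ with i | i <;> exact ⟨i, by simp⟩
  haveI : Nontrivial (Fin (n + 1)) := Fin.nontrivial_iff_two_le.2 (by omega)
  obtain ⟨j, hj⟩ := exists_ne i₀
  let u₀ : Fin (n + 1) ⊕ Fin (n + 1) → k := Pi.single v₁ (c v₁)⁻¹
  let a : Fin (n + 1) ⊕ Fin (n + 1) → k := Pi.single (Sum.inl j) 1 - c (Sum.inl j) • u₀
  let b : Fin (n + 1) ⊕ Fin (n + 1) → k := Pi.single (Sum.inr j) 1 - c (Sum.inr j) • u₀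
  have hcu : ∑ v, c v * u₀ v = 1 := by
    simp [u₀, Pi.single_apply, mul_inv_cancel₀ hv₁]
  have hca : ∑ v, c v * a v = 0 := by
    simp only [a, Pi.sub_apply, Pi.smul_apply, smul_eq_mul, mul_sub, Finset.sum_sub_distrib, mul_left_comm _ (c (Sum.inl j)),
      ← Finset.mul_sum, hcu]
    simp [Pi.single_apply]
  have hcb : ∑ v, c v * b v = 0 := by
    simp only [b, Pi.sub_apply, Pi.smul_apply, smul_eq_mul, mul_sub, Finset.sum_sub_distrib, mul_left_comm _ (c (Sum.inr j)),
      ← Finset.mul_sum, hcu]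
    simp [Pi.single_apply]
  have hω : ∑ i, (a (Sum.inl i) * b (Sum.inr i) - a (Sum.inr i) * b (Sum.inl i)) = 1 := by
    rw [Finset.sum_eq_single j]
    · rcases hi₀ with rfl | rfl <;> simp [a, b, u₀, Pi.single_apply, hj]
    · intro i _ hij
      by_cases hi : i = i₀
      · subst hi
        rcases hi₀ with rfl | rfl <;> simp [a, b, u₀, Pi.single_apply, Ne.symm hij, hij]
      · rcases hi₀ with rfl | rfl <;> simp [a, b, u₀, Pi.single_apply, Ne.symm hij, hij, hi]
    · simp
  -- test algebra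
  let t : (TB k (q + 2)) := mkTB k (q + 2) Polynomial.X
  have htn : t ^ (q + 2) = 0 := by
    rw [← map_pow, mkTB_eq_zero]
  let v : Fin (n + 1) ⊕ Fin (n + 1) → (Polynomial k) := fun w => Polynomial.C (a w) + Polynomial.X * Polynomial.C (b w)
  let vB : Fin (n + 1) ⊕ Fin (n + 1) → (TB k (q + 2)) := fun w => mkTB k (q + 2) (Polynomial.C (v w))
  have hLv : ∑ w, algebraMap k (Polynomial k) (c w) * v w = 0 := by
    have e : ∀ w, algebraMap k (Polynomial k) (c w) * v w = Polynomial.C (c w * a w) + Polynomial.X * Polynomial.C (c w * b w) := fun w => by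
      show Polynomial.C (c w) * (Polynomial.C (a w) + Polynomial.X * Polynomial.C (b w)) = _
      rw [map_mul, map_mul]; ring
    rw [Finset.sum_congr rfl fun w _ => e w, Finset.sum_add_distrib, ← Finset.mul_sum, ← map_sum, ← map_sum, hca, hcb]
    simp
  have hFv : ∑ i, (v (Sum.inl i) * v (Sum.inr i) ^ q - v (Sum.inr i) * v (Sum.inl i) ^ q) ≠ 0 := by
    have hpw : ∀ w, v w ^ q = Polynomial.C (a w) + Polynomial.X ^ q * Polynomial.C (b w) := fun w => by
      show (Polynomial.C (a w) + _) ^ q = _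
      rw [← Polynomial.algebraMap_eq, hq, add_pow_card, mul_pow, ← map_pow, FiniteField.pow_card]
    have e : ∑ i, (v (Sum.inl i) * v (Sum.inr i) ^ q - v (Sum.inr i) * v (Sum.inl i) ^ q) =
        (Polynomial.X ^ q - Polynomial.X) * Polynomial.C (∑ i, (a (Sum.inl i) * b (Sum.inr i) - a (Sum.inr i) * b (Sum.inl i))) := by
      rw [map_sum, Finset.mul_sum]
      refine Finset.sum_congr rfl fun i _ => ?_
      simp only [hpw, v, map_sub, map_mul]
      ring
    rw [e, hω, map_one, mul_one]
    exact FiniteField.X_pow_card_sub_X_ne_zero k hq1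
  have hLz : ∑ w, c w * z w = 0 := by
    rw [Fintype.sum_sum_type, ← Finset.sum_add_distrib]
    exact Finset.sum_eq_zero fun i _ => by simp [z, mul_comm]
  have hexp : ∀ (y : Fin (n + 1) ⊕ Fin (n + 1) → (TB k (q + 2))),
      MvPolynomial.aeval (R := k) (S₁ := TB k (q + 2)) (fun w : Fin (n + 1) ⊕ Fin (n + 1) => algebraMap k (TB k (q + 2)) (z w) + t * y w) L = t * ∑ w, algebraMap k (TB k (q + 2)) (c w) * y w ∧
      MvPolynomial.aeval (R := k) (S₁ := TB k (q + 2)) (fun w : Fin (n + 1) ⊕ Fin (n + 1) => algebraMap k (TB k (q + 2)) (z w) + t * y w) F =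
        t ^ (q + 1) * ∑ i, (y (Sum.inl i) * y (Sum.inr i) ^ q - y (Sum.inr i) * y (Sum.inl i) ^ q) +
          (∑ w, algebraMap k (TB k (q + 2)) (c w) * (t * y w)) - (∑ w, algebraMap k (TB k (q + 2)) (c w) * (t * y w)) ^ q := by
    intro y
    constructor
    · rw [hL, map_sum]
      simp only [map_mul, MvPolynomial.aeval_C, MvPolynomial.aeval_X]
      simp only [mul_add, Finset.sum_add_distrib, ← map_mul]
      rw [← map_sum, hLz, map_zero, zero_add, Finset.mul_sum]
      exact Finset.sum_congr rfl fun w _ => by ring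
    · rw [hF, map_sum]
      simp only [map_sub, map_mul, map_pow, MvPolynomial.aeval_X]
      rw [eval_shift c z (fun w => t * y w) (fun i => rfl) (fun i => rfl), Finset.mul_sum]
      congr 1
      congr 1
      exact Finset.sum_congr rfl fun i _ => by simp only [q, mul_pow]; ring
  let I : Ideal (TB k (q + 2)) := Ideal.span {t ^ 2}
  have hI : IsNilpotent I := ⟨q + 2, by
    rw [Ideal.span_singleton_pow, ← pow_mul, mul_comm, pow_mul, htn, zero_pow two_ne_zero, Ideal.span_singleton_zero]; rfl⟩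
  let pt : Fin (n + 1) ⊕ Fin (n + 1) → (TB k (q + 2)) := fun w => algebraMap k (TB k (q + 2)) (z w) + t * vB w
  have hLvB : ∑ w, algebraMap k (TB k (q + 2)) (c w) * vB w = 0 := by
    have := congrArg (fun x => mkTB k (q + 2) (Polynomial.C x)) hLv
    simpa [vB, map_sum, map_mul, algebraMap_TB] using this
  let φ₀ : MvPolynomial (Fin (n + 1) ⊕ Fin (n + 1)) k →ₐ[k] (TB k (q + 2)) ⧸ I := (Ideal.Quotient.mkₐ k I).comp (MvPolynomial.aeval pt)
  have hker : ∀ x ∈ Ideal.span {F, L}, φ₀ x = 0 := by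
    intro x hx
    refine (Ideal.span_le (I := RingHom.ker φ₀)).2 ?_ hx
    intro y hy
    rcases hy with rfl | rfl
    · show Ideal.Quotient.mk I (MvPolynomial.aeval pt y) = 0
      rw [(hexp vB).2, Ideal.Quotient.eq_zero_iff_mem,
        show ∑ w, algebraMap k (TB k (q + 2)) (c w) * (t * vB w) = t * ∑ w, algebraMap k (TB k (q + 2)) (c w) * vB w by
          rw [Finset.mul_sum]; exact Finset.sum_congr rfl fun w _ => by ring,
        hLvB, mul_zero, add_zero, zero_pow (by omega), sub_zero]
      exact Ideal.mul_mem_right _ _ (Ideal.mem_span_singleton.2 (pow_dvd_pow t (by omega)))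
    · show Ideal.Quotient.mk I (MvPolynomial.aeval pt y) = 0
      rw [(hexp vB).1, hLvB, mul_zero, map_zero]
  let φ₁ : MvPolynomial (Fin (n + 1) ⊕ Fin (n + 1)) k ⧸ Ideal.span {F, L} →ₐ[k] (TB k (q + 2)) ⧸ I :=
    Ideal.Quotient.liftₐ _ φ₀ hker
  let x₀ := Ideal.Quotient.mk (Ideal.span {F, L}) (MvPolynomial.X v₀)
  have hu : IsUnit (φ₁ x₀) := by
    show IsUnit (Ideal.Quotient.mk I (MvPolynomial.aeval pt (MvPolynomial.X v₀)))
    rw [MvPolynomial.aeval_X]
    refine IsUnit.map _ ?_
    exact ((Commute.all t (vB v₀)).isNilpotent_mul_right ⟨q + 2, htn⟩).isUnit_add_left_of_commute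
      ((isUnit_iff_ne_zero.2 hv₀).map _) (Commute.all _ _)
  let φ : Localization.Away x₀ →ₐ[k] (TB k (q + 2)) ⧸ I := IsLocalization.liftAlgHom (M := Submonoid.powers x₀) (f := φ₁) (by
    rintro ⟨_, m, rfl⟩
    simpa using hu.pow m)
  haveI : Algebra.Smooth k (Localization.Away x₀) := by
    have h := hsm v₀
    rw [HasRingHomProperty.Spec_iff (P := @Smooth), CommRingCat.hom_ofHom,
      RingHom.smooth_algebraMap] at h
    exact h
  let ξ : Fin (n + 1) ⊕ Fin (n + 1) → (TB k (q + 2)) := fun w =>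
    Algebra.FormallySmooth.lift I hI φ (algebraMap _ _ (Ideal.Quotient.mk (Ideal.span {F, L}) (MvPolynomial.X w)))
  have hξ : ∀ w, ∃ y, ξ w = algebraMap k (TB k (q + 2)) (z w) + t * y ∧ ∃ η, y = vB w + t * η := by
    intro w
    have h1 : Ideal.Quotient.mk I (ξ w) = Ideal.Quotient.mk I (pt w) := by
      rw [Algebra.FormallySmooth.mk_lift]
      simp only [φ, IsLocalization.liftAlgHom_apply, IsLocalization.lift_eq]
      show Ideal.Quotient.mk I (MvPolynomial.aeval pt (MvPolynomial.X w)) = _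
      rw [MvPolynomial.aeval_X]
    obtain ⟨η, hη⟩ := Ideal.mem_span_singleton.1 (Ideal.Quotient.eq.1 h1)
    exact ⟨vB w + t * η, by linear_combination hη, η, rfl⟩
  choose y hy η hη using hξ
  have hpoint : ∀ G ∈ Ideal.span {F, L}, MvPolynomial.aeval (R := k) (S₁ := TB k (q + 2)) (fun w : Fin (n + 1) ⊕ Fin (n + 1) => algebraMap k (TB k (q + 2)) (z w) + t * y w) G = 0 := by
    intro G hG
    let ψ := ((Algebra.FormallySmooth.lift I hI φ).comp (IsScalarTower.toAlgHom k _ _)).comp (Ideal.Quotient.mkₐ k (Ideal.span {F, L}))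
    have : MvPolynomial.aeval (R := k) (S₁ := TB k (q + 2)) (fun w : Fin (n + 1) ⊕ Fin (n + 1) => algebraMap k (TB k (q + 2)) (z w) + t * y w) = ψ := MvPolynomial.algHom_ext fun w => by
      rw [MvPolynomial.aeval_X, ← hy]; rfl
    rw [this, AlgHom.comp_apply, Ideal.Quotient.mkₐ_eq_mk, Ideal.Quotient.eq_zero_iff_mem.2 hG, map_zero]
  have e1 := (hexp y).2
  have e2 := (hexp y).1
  rw [hpoint F (Ideal.subset_span (Or.inl rfl))] at e1
  rw [hpoint L (Ideal.subset_span (Or.inr rfl))] at e2
  rw [show ∑ w, algebraMap k (TB k (q + 2)) (c w) * (t * y w) = t * ∑ w, algebraMap k (TB k (q + 2)) (c w) * y w by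
      rw [Finset.mul_sum]; exact Finset.sum_congr rfl fun w _ => by ring,
    ← e2, add_zero, zero_pow (by omega), sub_zero] at e1
  let ev := evTB k (q + 1)
  have hkill : ∀ x : (TB k (q + 2)), t ^ (q + 1) * x = 0 → ev x = 0 := by
    intro x hx
    obtain ⟨X', rfl⟩ := mkTB_surjective k (q + 2) x
    rw [← map_pow, ← map_mul, mkTB_eq_zero, pow_succ Polynomial.X (q + 1),
      mul_dvd_mul_iff_left (pow_ne_zero _ Polynomial.X_ne_zero)] at hx
    obtain ⟨r, rfl⟩ := hx
    show evTB k (q + 1) (mkTB k (q + 1 + 1) (Polynomial.X * r)) = 0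
    simp [evTB_mk]
  have h0 := hkill _ e1.symm
  have hevy : ∀ w, ev (y w) = v w := fun w => by
    rw [hη w, map_add, map_mul]
    show evTB k (q + 1) (mkTB k (q + 1 + 1) (Polynomial.C (v w))) + evTB k (q + 1) (mkTB k (q + 1 + 1) Polynomial.X) * _ = _
    simp [evTB_mk]
  simp only [map_sum, map_sub, map_mul, map_pow, hevy] at h0
  exact hFv h0

end Groth.Agent.S15555
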