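import Groth.Statements.S15556
import Groth.Agent.S1868
import Groth.Agent.CycLib28.PB.Ops.Chow
import Groth.Agent.Misc15.PerfectCycles

set_option autoImplicit false
universe u
open CategoryTheory AlgebraicGeometry
open CategoryTheory.Limits
open Cyc

namespace Groth.Agent.S15556

/-- Let k be a field of characteristic p > 0, E a finite purely inseparable field extension of k, X a
separated scheme of finite type over k, X' = X ×_k E with projection f : X' → X (any pullback
square), δ a dimension function on X making (X, δ) a cycle setup (X locally Noetherian with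
universally catenary local rings) and δ' the induced dimension function on X' (so (X', δ') is a
cycle setup and δ' is compatible with δ along f, which has relative dimension 0). Then flat pullback
of cycles along f induces a bijection of Chow groups of i-cycles after inverting p, in the following
two-sided sense: for every i-cycle β on X' there are an i-cycle α on X, an i-cycle α' on X' with the
flat-pullback coefficients of α, and an exponent s with [α'] = p^s · [β] in CH_i(X'); and for every
i-cycle α on X and every i-cycle α' on X' with the flat-pullback coefficients of α, if [α'] = 0 in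
CH_i(X') then p^s · [α] = 0 in CH_i(X) for some s. (The published statement allows an arbitrary
purely inseparable extension E of k; this row takes E finite over k, the case the printed argument
carries out.) -/
theorem result (k E : Type u) [Field k] [Field E] [Algebra k E] (p : ℕ) [Fact p.Prime] [CharP k p] [Module.Finite k E] [IsPurelyInseparable k E] (X X' : Scheme.{u}) (g : X ⟶ Spec (CommRingCat.of k)) [IsSeparated g] [LocallyOfFiniteType g] [QuasiCompact g] (f : X' ⟶ X) (g' : X' ⟶ Spec (CommRingCat.of E)) (hsq : IsPullback f g' g (Spec.map (CommRingCat.ofHom (algebraMap k E)))) (δ : X → ℤ) (δ' : X' → ℤ) (hX : Cyc.IsSetup X δ) (hX' : Cyc.IsSetup X' δ') (hδ : Cyc.DeltaCompat f δ' δ) (i : ℤ) : (∀ (β : AlgebraicCycle X' ℤ) (hβ : β ∈ Cyc.Zk X' δ' i), ∃ (α : AlgebraicCycle X ℤ) (hα : α ∈ Cyc.Zk X δ i) (α' : AlgebraicCycle X' ℤ) (hα' : α' ∈ Cyc.Zk X' δ' i) (s : ℕ), ⇑α' = Cyc.pullFun f δ' δ 0 ⇑α ∧ ChowOps.cl α' hα' = p ^ s • ChowOps.cl β hβ) ∧ (∀ (α : AlgebraicCycle X ℤ) (hα : α ∈ Cyc.Zk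 X δ i) (α' : AlgebraicCycle X' ℤ) (hα' : α' ∈ Cyc.Zk X' δ' i), ⇑α' = Cyc.pullFun f δ' δ 0 ⇑α → ChowOps.cl α' hα' = 0 → ∃ s : ℕ, p ^ s • ChowOps.cl α hα = 0) := by
  classical
  have hXl := hX.1
  have hX'l := hX'.1
  letI φ : k →+* E := algebraMap k E
  haveI hfin : IsFinite (Spec.map (CommRingCat.ofHom (algebraMap k E))) :=
    (IsFinite.SpecMap_iff _).2 (RingHom.finite_algebraMap.2 inferInstance)
  haveI hflat : Flat (Spec.map (CommRingCat.ofHom (algebraMap k E))) :=
    Flat.SpecMap_iff.2 (RingHom.flat_algebraMap_iff.2 inferInstance)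
  haveI : IsFinite f := MorphismProperty.of_isPullback hsq.flip hfin
  haveI : Flat f := MorphismProperty.of_isPullback hsq.flip hflat
  haveI : ExpChar k p := ExpChar.prime Fact.out
  obtain ⟨s₀, hs₀⟩ := IsPurelyInseparable.finrank_eq_pow (F := k) E p
  have hd : ∀ y : X, f.finrank y = p ^ s₀ := fun y => by
    rw [Scheme.Hom.finrank_of_isPullback g' f _ g hsq.flip y,
      Scheme.Hom.finrank_SpecMap_eq_finrank (RingHom.finite_algebraMap.2 inferInstance)
        (RingHom.flat_algebraMap_iff.2 inferInstance)]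
    rw [CommRingCat.hom_ofHom, RingHom.finrank_algebraMap, Module.rankAtStalk_eq_finrank_of_free]
    exact hs₀
  have hinj : Function.Injective ⇑f := by
    have hh := Groth.Agent.Misc15.PerfectCycles.isHomeomorph_pr (k := k) p (algebraMap k E)
      (by convert ‹IsPurelyInseparable k E› using 2; exact Algebra.algebra_ext _ _ fun _ => rfl) g
    intro a b hab
    rw [← hsq.isoPullback_hom_fst, Scheme.Hom.comp_apply, Scheme.Hom.comp_apply] at hab
    exact hsq.isoPullback.hom.homeomorph.injective (hh.bijective.1 hab)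
  have hsingle : ∀ x : X', f.residueDegree x ≠ 0 ∧
      (Groth.Agent.CycLib28.lenFibre f x).toNat * f.residueDegree x = p ^ s₀ := fun x => by
    obtain ⟨t, ht, hpos, hsum⟩ := Groth.Agent.CycLib28.sum_fibre_degree f (f x)
    have ht1 : t = {x} := Finset.ext fun y => by
      simp only [ht, Finset.mem_singleton]
      exact ⟨fun h => hinj h, fun h => h ▸ rfl⟩
    subst ht1
    exact ⟨hpos x (Finset.mem_singleton_self x), by simpa [hd] using hsum⟩
  have hmap : ∀ (c : AlgebraicCycle X' ℤ) (x : X'),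
      AlgebraicCycle.map f δ' δ c (f x) = c x * (f.residueDegree x : ℤ) := fun c x => by
    rw [Groth.Agent.CycLib28.map_apply_finset f δ' δ c (f x) {x}
      (fun y hy => by rw [Finset.mem_singleton.1 hy]) (fun y hy _ => Finset.mem_singleton.2 (hinj hy)),
      Finset.sum_singleton, (Groth.Agent.CycLib28.mapCoeff_of_finite f hδ x (hsingle x).1).2]
  have hδeq : ∀ x : X', δ' x = δ (f x) := fun x =>
    (Groth.Agent.CycLib28.mapCoeff_of_finite f hδ x (hsingle x).1).1
  have hsurj : ∀ y : X, AlgebraicCycle X' ℤ → ∃ x, f x = y := fun y _ => by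
    obtain ⟨t, ht, -, hsum⟩ := Groth.Agent.CycLib28.sum_fibre_degree f y
    rcases t.eq_empty_or_nonempty with rfl | ⟨x, hx⟩
    · rw [hd] at hsum
      exact absurd hsum.symm (pow_ne_zero _ (Fact.out : p.Prime).ne_zero)
    · exact ⟨x, (ht x).1 hx⟩
  have hcl : ∀ {Z : Scheme.{u}} [IsLocallyNoetherian Z] {d : Z → ℤ}, Cyc.IsDimFun Z d → ∀ (a : AlgebraicCycle Z ℤ) (ha : a ∈ Cyc.Zk Z d i), (ChowOps.cl a ha = 0 ↔ Cyc.RatEquivZero d i a) := fun hd a ha =>
    (QuotientAddGroup.eq_zero_iff _).trans (Groth.Agent.CycLib28.PB.Ops.ratTriv_iff hd ⟨a, ha⟩)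
  refine ⟨fun β hβ => ?_, fun α hα α' hα' hpull h0 => ⟨s₀, ?_⟩⟩
  · have hmem : AlgebraicCycle.map f δ' δ β ∈ Cyc.Zk X δ i := fun y hy => by
      obtain ⟨x, rfl⟩ := hsurj y β
      rw [hmap, hβ x (by rw [hδeq]; exact hy), zero_mul]
    refine ⟨_, hmem, p ^ s₀ • β, (ChowOps.zk X' δ' i).nsmul_mem hβ _, s₀, funext fun x => ?_, ?_⟩
    · rw [Cyc.pullFun, if_pos (by rw [hδeq]; omega), hmap,
        Function.locallyFinsuppWithin.coe_nsmul, Pi.smul_apply, nsmul_eq_mul, ← (hsingle x).2]
      change _ = _ * ((Groth.Agent.CycLib28.lenFibre f x).toNat : ℤ)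
      push_cast
      ring
    · exact map_nsmul (ChowOps.clHom X' δ' i) (p ^ s₀) ⟨β, hβ⟩
  · have hrat : Cyc.RatEquivZero δ' i α' :=
      (hcl hX'.2.2 α' hα').1 h0
    have h1 : AlgebraicCycle.map f δ' δ α' = p ^ s₀ • α :=
      (Groth.Agent.S1868.result X' X δ' δ hX' hX f (p ^ s₀) hd hδ i).2 α hα α' hpull
    have h2 := Groth.Agent.CycLib28.map_ratEquivZero hX'.2.2 hX.2.2 f hδ i α' hrat
    rw [h1] at h2
    have h3 : ChowOps.cl (p ^ s₀ • α) ((ChowOps.zk X δ i).nsmul_mem hα _) = 0 :=
      (hcl hX.2.2 _ _).2 h2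
    rw [← h3]
    exact (map_nsmul (ChowOps.clHom X δ i) (p ^ s₀) ⟨α, hα⟩).symm
end Groth.Agent.S15556
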