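import Groth.Statements.S15559
import Groth.Agent.PerfSchLib.Model
import Groth.Agent.H8Lim.SchemeDescent
import Groth.Agent.H8Lim.FlatDescent

set_option autoImplicit false
set_option backward.isDefEq.respectTransparency.types false
set_option maxHeartbeats 1000000
universe u
open CategoryTheory AlgebraicGeometry
open FrobSch

namespace Groth.Agent.S15559

open CategoryTheory.Limits Opposite Groth.Agent.PerfSchLib

section

variable (p : ℕ) [Fact p.Prime]

theorem fpow_apply (X : Scheme.{u}) [FrobSch.IsCharP X p] : ∀ (k : ℕ) (x : X), fpow p X k x = x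
  | 0, x => rfl
  | k + 1, x => by
    show (fpow p X k ≫ FrobSch.frob X p) x = x
    rw [Scheme.Hom.comp_apply, FrobSch.frob_apply, fpow_apply X k x]

/-- A flat finitely presented scheme over a perfection comes from a flat one over a Frobenius stage. -/
theorem exists_model {Y Y₀ Z₀ : Scheme.{u}} [FrobSch.IsCharP Y p] [FrobSch.IsCharP Y₀ p]
    [CompactSpace Y₀] [QuasiSeparatedSpace Y₀]
    (πY : Y ⟶ Y₀) (hY : FrobSch.IsPerfection πY p)
    (f₀ : Z₀ ⟶ Y) [Flat f₀] [LocallyOfFinitePresentation f₀] [QuasiCompact f₀] [QuasiSeparated f₀] :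
    ∃ (k : ℕ) (πk : Y ⟶ Y₀) (W : Scheme.{u}) (w : W ⟶ Y₀) (q : Z₀ ⟶ W),
      πk ≫ fpow p Y₀ k = πY ∧ IsPullback q f₀ w πk ∧ Flat w ∧ LocallyOfFinitePresentation w ∧
        QuasiCompact w ∧ QuasiSeparated w := by
  obtain ⟨c, hc, e, he, -⟩ := exists_limit_cone_of_isPerfection p hY
  haveI hc1 : ∀ i, CompactSpace ((tower p Y₀).obj i) := fun _ => inferInstanceAs (CompactSpace Y₀)
  haveI hc2 : ∀ i, QuasiSeparatedSpace ((tower p Y₀).obj i) := fun _ =>
    inferInstanceAs (QuasiSeparatedSpace Y₀)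
  haveI haff : ∀ (i j : (ULift.{u} ℕ)ᵒᵖ) (f : i ⟶ j), IsAffineHom ((tower p Y₀).map f) :=
    fun _ _ _ => inferInstance
  obtain ⟨i, W₁, w₁, q₁, hlfp, hqc, hqs, hpb⟩ :=
    H8Lim.exists_stage_scheme (D := tower p Y₀) (c := c) hc (f₀ ≫ e.hom)
  haveI : CompactSpace W₁ := QuasiCompact.compactSpace_of_compactSpace w₁
  obtain ⟨j, φ, Xj, Yj, fj, gj, pY, pX, hYj, hXj, hflat⟩ :=
    LimSmooth.exists_stage (P := @Flat) hc (g₀ := 𝟙 ((tower p Y₀).obj i)) (f₀ := w₁)
      (f := f₀ ≫ e.hom) (g := 𝟙 c.pt) (qY := c.π.app i) IsPullback.of_id_snd hpb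
      H8Lim.affineSpreads_flat (fun _ _ ↦ inferInstance) inferInstance
  haveI : IsIso gj := hYj.isIso_snd_of_isIso
  have hsq : IsPullback pX (fj ≫ gj) w₁ ((tower p Y₀).map φ) := by
    simpa using hXj.paste_vert hYj
  let w : pullback w₁ ((tower p Y₀).map φ) ⟶ Y₀ := pullback.snd w₁ ((tower p Y₀).map φ)
  have hw : Flat w := H8Lim.prop_snd_of_isPullback (P := @Flat) hsq
    (MorphismProperty.comp_mem _ _ _ hflat inferInstance)
  have hwl : LocallyOfFinitePresentation w := MorphismProperty.pullback_snd _ _ hlfp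
  have hwc : QuasiCompact w := MorphismProperty.pullback_snd _ _ hqc
  have hws : QuasiSeparated w := MorphismProperty.pullback_snd _ _ hqs
  have hwφ : c.π.app j ≫ (tower p Y₀).map φ = c.π.app i := c.w φ
  let q : Z₀ ⟶ pullback w₁ ((tower p Y₀).map φ) :=
    pullback.lift q₁ (f₀ ≫ e.hom ≫ c.π.app j) (by
      rw [hpb.w, Category.assoc, Category.assoc, Category.assoc, hwφ])
  have h1 : IsPullback q (f₀ ≫ e.hom) w (c.π.app j) := by
    refine IsPullback.of_right ?_ ((pullback.lift_snd _ _ _).trans (Category.assoc _ _ _).symm)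
      (IsPullback.of_hasPullback w₁ ((tower p Y₀).map φ))
    rw [pullback.lift_fst]
    erw [hwφ]
    exact hpb
  refine ⟨j.unop.down, e.hom ≫ c.π.app j, _, w, q, ?_, ?_, hw, hwl, hwc, hws⟩
  · rw [Category.assoc, ← he]
    congr 1
    exact c.w (homOfLE (show (⟨0⟩ : ULift.{u} ℕ) ≤ j.unop from Nat.zero_le _)).op
  · exact IsPullback.of_iso h1 (Iso.refl _) (Iso.refl _) e.symm (Iso.refl _) (by simp) (by simp)
      (by simp) (by simp)

end

/-- Call a morphism V → U of quasi-compact quasi-separated perfect schemes of characteristic p flat of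
finite presentation in the perfect sense when it factors as V → V₀ → U with V → V₀ a perfection map
(V perfect and universal for morphisms from perfect schemes of characteristic p into V₀) and V₀ → U
flat, locally of finite presentation, quasi-compact and quasi-separated; faithfully flat of finite
presentation when moreover V₀ → U is surjective. If Z → Y and Y → X are flat of finite presentation
in the perfect sense, so is the composite Z → X, and it is faithfully flat of finite presentation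
when both are. Here the data are given as Y₀ → X with perfection map Y → Y₀ and Z₀ → Y with
perfection map Z → Z₀, and the conclusion produces W₀ → X with a perfection map Z → W₀ over X. (The
published proposition is stated for pro-objects of perfections of schemes of finite type over a
perfect field and also for morphisms flat of profinite presentation; this row is its case of
schemes, which its proof treats first, with the base field replaced by characteristic p.) -/
theorem result (p : ℕ) [Fact p.Prime]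
    {X Y Z Y₀ Z₀ : Scheme.{u}} [FrobSch.IsCharP X p] [FrobSch.IsCharP Y p] [FrobSch.IsCharP Z p]
    [FrobSch.IsCharP Y₀ p] [FrobSch.IsCharP Z₀ p]
    [CompactSpace ↥X] [QuasiSeparatedSpace ↥X] [CompactSpace ↥Y] [QuasiSeparatedSpace ↥Y]
    [CompactSpace ↥Z] [QuasiSeparatedSpace ↥Z] (hX : FrobSch.IsPerfect X p)
    (g₀ : Y₀ ⟶ X) [Flat g₀] [LocallyOfFinitePresentation g₀] [QuasiCompact g₀] [QuasiSeparated g₀]
    (πY : Y ⟶ Y₀) (hY : FrobSch.IsPerfection πY p)
    (f₀ : Z₀ ⟶ Y) [Flat f₀] [LocallyOfFinitePresentation f₀] [QuasiCompact f₀] [QuasiSeparated f₀]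
    (πZ : Z ⟶ Z₀) (hZ : FrobSch.IsPerfection πZ p) :
    ∃ (W₀ : Scheme.{u}) (h₀ : W₀ ⟶ X) (ϖ : Z ⟶ W₀),
      Flat h₀ ∧ LocallyOfFinitePresentation h₀ ∧ QuasiCompact h₀ ∧ QuasiSeparated h₀ ∧
        FrobSch.IsPerfection ϖ p ∧ ϖ ≫ h₀ = πZ ≫ f₀ ≫ πY ≫ g₀ ∧
          (Surjective g₀ → Surjective f₀ → Surjective h₀) := by
  haveI : CompactSpace ↥Y₀ := QuasiCompact.compactSpace_of_compactSpace g₀
  haveI : QuasiSeparatedSpace ↥Y₀ := quasiSeparatedSpace_of_quasiSeparated g₀
  obtain ⟨k, πk, W, w, q, hk, hpb, hwf, hwl, hwc, hws⟩ := exists_model p πY hY f₀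
  haveI := isIso_fpow p hX k
  have hext : ∀ {T : Scheme.{u}} [FrobSch.IsCharP T p] (_ : FrobSch.IsPerfect T p)
      (a b : T ⟶ Y), a ≫ πk = b ≫ πk → a = b := fun {T} _ hT a b hab =>
    perfection_hom_ext p hY hT (by rw [← hk, reassoc_of% hab])
  have hlift : ∀ {T : Scheme.{u}} [FrobSch.IsCharP T p] (_ : FrobSch.IsPerfect T p)
      (h : T ⟶ Y₀), ∃ a : T ⟶ Y, a ≫ πk = h := fun {T} _ hT h => by
    obtain ⟨a, ha : a ≫ πY = h ≫ fpow p Y₀ k⟩ := (hY.2 T hT).2 (h ≫ fpow p Y₀ k)
    haveI := isIso_fpow p hT k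
    refine ⟨a, ?_⟩
    rw [← cancel_epi (fpow p T k), fpow_comp p (a ≫ πk) k, fpow_comp p h k, Category.assoc, hk, ha]
  refine ⟨W, w ≫ g₀ ≫ fpow p X k, πZ ≫ q, inferInstance, inferInstance, inferInstance,
    inferInstance, ⟨hZ.1, fun T _ hT => ⟨fun a b hab => ?_, fun h => ?_⟩⟩, ?_, ?_⟩
  · have hab' : (a ≫ πZ) ≫ q = (b ≫ πZ) ≫ q := by simpa [Category.assoc] using hab
    refine perfection_hom_ext p hZ hT (hpb.hom_ext hab' (hext hT _ _ ?_))
    simp only [Category.assoc, ← hpb.w] at hab' ⊢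
    rw [reassoc_of% hab']
  · obtain ⟨a, ha⟩ := hlift hT (h ≫ w)
    obtain ⟨b, hb : b ≫ πZ = hpb.lift h a ha.symm⟩ := (hZ.2 T hT).2 (hpb.lift h a ha.symm)
    refine ⟨b, ?_⟩
    show b ≫ πZ ≫ q = h
    rw [reassoc_of% hb, hpb.lift_fst]
  · simp only [Category.assoc]
    rw [← fpow_comp p g₀ k, ← hk, reassoc_of% hpb.w]
    simp only [Category.assoc]
  · intro hg hf
    haveI : Surjective w := by
      refine ⟨fun y => ?_⟩
      obtain ⟨y', hy'⟩ := (surjective_of_isPerfection p hY).surj y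
      obtain ⟨z, hz⟩ := hf.surj y'
      refine ⟨q z, ?_⟩
      rw [← Scheme.Hom.comp_apply, hpb.w, Scheme.Hom.comp_apply, hz]
      have := congrArg (fun m => (m : _ ⟶ Y₀) y') hk
      simp only [Scheme.Hom.comp_apply] at this
      rw [fpow_apply] at this
      exact this.trans hy'
    infer_instance

end Groth.Agent.S15559
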