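import Groth.Statements.S1556
import Groth.Agent.FlatMorCurveSmooth.Basic



set_option autoImplicit false
universe u
open CategoryTheory CategoryTheory.Limits AlgebraicGeometry
attribute [local instance] Curv2.resAlgebra
open Variety

namespace Groth.Agent.S1556

/-- Let X be a curve over k (integral, separated, of finite type, of dimension one) and x a closed point
whose residue field is separable over k. Then the local ring at x is a discrete valuation ring if
and only if x lies in the smooth locus of X → Spec k. -/
theorem result (k : Type u) [Field k] (X : Scheme.{u}) [X.Over (Spec (CommRingCat.of k))] [IsIntegral X]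
    [IsSeparated (X ↘ (Spec (CommRingCat.of k)))] [LocallyOfFinitePresentation (X ↘ (Spec (CommRingCat.of k)))] [QuasiCompact (X ↘ (Spec (CommRingCat.of k)))]
    (hdim : topologicalKrullDim X = 1) (x : X) (hx : IsClosed ({x} : Set X))
    [Algebra.IsSeparable k (X.residueField x)] :
    IsDiscreteValuationRing (X.presheaf.stalk x) ↔ x ∈ (X ↘ (Spec (CommRingCat.of k))).smoothLocus := by
  open IsLocalRing Groth.Agent in
  have hlft : LocallyOfFiniteType (X ↘ (Spec (CommRingCat.of k))) := inferInstance
  haveI := hlft
  let q := X ↘ Spec (CommRingCat.of k)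
  letI := Curv2.stalkAlgebra k X x
  haveI := (LocallyOfFiniteType.isLocallyNoetherian q)
  have hF : ¬ IsField (X.presheaf.stalk x) := by
    refine Groth.Agent.FlatMorCurveSmooth.not_isField_stalk (fun Z hZ => ?_) hx
    rw [irreducibleComponents_eq_singleton, Set.mem_singleton_iff] at hZ
    rw [hZ, ← hdim]
    exact IsHomeomorph.topologicalKrullDim_eq _ (Homeomorph.Set.univ _).isHomeomorph
  constructor
  · intro hd
    haveI : IsRegularLocalRing (X.presheaf.stalk x) := inferInstance
    haveI : Algebra.IsSeparable k (IsLocalRing.ResidueField (X.presheaf.stalk x)) :=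
      (inferInstance : Algebra.IsSeparable k (X.residueField x))
    haveI : Algebra.EssFiniteType k (X.presheaf.stalk x) := by
      obtain ⟨_, ⟨V, hV, rfl⟩, hyV, -⟩ :=
        X.isBasis_affineOpens.exists_subset_of_mem_open (Set.mem_univ x) isOpen_univ
      have h3 := (Groth.Agent.Synt15.stalk_algebra_data (X ↘ Spec (CommRingCat.of k)) hV hyV).1
      have e : (X ↘ Spec (CommRingCat.of k)).appLE ⊤ ⊤ le_top = (X ↘ Spec (CommRingCat.of k)).appTop := by
        exact ((X ↘ Spec (CommRingCat.of k)).appLE_eq_app (U := ⊤))
      rw [e] at h3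
      exact h3
    haveI : Algebra.FormallyEtale k (IsLocalRing.ResidueField (X.presheaf.stalk x)) :=
      Algebra.FormallyEtale.of_isSeparable _ _
    haveI := Groth.Agent.FlatMorCurveSmooth.formallySmooth_of_regular_of_residueField k (X.presheaf.stalk x)
    rw [Scheme.Hom.mem_smoothLocus]
    exact Groth.Agent.FlatMorCurveSmooth.formallySmooth_stalkMap k x
  · intro hs
    let U : X.Opens := q.smoothLocus
    haveI : Smooth (U.ι ≫ q) := by
      rw [← Scheme.Hom.smoothLocus_eq_top_iff, ← Scheme.Hom.preimage_smoothLocus_eq]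
      exact top_le_iff.1 fun y _ => y.2
    have h1 := Groth.Agent.VarietyLib.isRegularLocalRing_stalk_of_smooth k U (U.ι ≫ q) ⟨x, hs⟩
    haveI : IsRegularLocalRing (X.presheaf.stalk x) :=
      IsRegularLocalRing.of_ringEquiv (R := U.toScheme.presheaf.stalk ⟨x, hs⟩)
        (U.stalkIso ⟨x, hs⟩).commRingCatIsoToRingEquiv
    have hle : ringKrullDim (X.presheaf.stalk x) ≤ 1 :=
      (Groth.Agent.CurvesLib24.stalk_dim_le_topologicalKrullDim x).trans hdim.le
    have hp : (IsLocalRing.maximalIdeal (X.presheaf.stalk x)).IsPrincipal := by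
      have h2 := (IsRegularLocalRing.spanFinrank_maximalIdeal (R := X.presheaf.stalk x)).le.trans hle
      have h3 : (IsLocalRing.maximalIdeal (X.presheaf.stalk x)).spanFinrank ≤ 1 := by exact_mod_cast h2
      obtain ⟨s, hs1, hs2⟩ := Submodule.FG.exists_span_set_encard_eq_spanFinrank
        (IsNoetherian.noetherian (IsLocalRing.maximalIdeal (X.presheaf.stalk x)))
      rcases Set.encard_le_one_iff_eq.1 (hs1.le.trans (by exact_mod_cast h3)) with rfl | ⟨a, rfl⟩
      · rw [← hs2, Submodule.span_empty]; infer_instance
      · exact ⟨⟨a, hs2.symm⟩⟩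
    exact ((IsDiscreteValuationRing.TFAE (X.presheaf.stalk x) hF).out 0 4).2 hp

end Groth.Agent.S1556
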