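import Groth.Statements.S15562
import Groth.Agent.KronLib.Basic
import Mathlib.LinearAlgebra.Matrix.ToLinearEquiv
import Mathlib.LinearAlgebra.Matrix.ToLin
import Mathlib.RingTheory.Polynomial.Basic
import Mathlib.FieldTheory.IsAlgClosed.Basic
open Groth.Agent.KronLib Module

set_option autoImplicit false
universe u v w
open KronMod

namespace Groth.Agent.S15562

/-- Over a field K, for V of dimension d₋₁ > 0 and W of dimension n·d₋₁, semistable Kronecker modules
with n arrows from V to W exist, and any two of them are isomorphic as Kronecker modules; in other
words the moduli space K(n; d₋₁, n·d₋₁) of semistable Kronecker modules is a single point. (The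
published statement assumes K algebraically closed of characteristic zero and n ≥ 2; this row allows
any field K and any number n of arrows.) -/
theorem result (K : Type u) [Field K] (V : Type v) (W : Type w)
    [AddCommGroup V] [Module K V] [FiniteDimensional K V]
    [AddCommGroup W] [Module K W] [FiniteDimensional K W]
    (n : ℕ) (hV : 0 < Module.finrank K V) (hW : Module.finrank K W = n * Module.finrank K V) :
    (∃ f : Fin n → (V →ₗ[K] W), KronMod.IsSemistable f) ∧
    ∀ f f' : Fin n → (V →ₗ[K] W), KronMod.IsSemistable f → KronMod.IsSemistable f' →
      KronMod.AreIso f f' := by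
  classical
  refine ⟨?_, fun f f' hf hf' => ?_⟩
  · let e : (Fin n → V) ≃ₗ[K] W := LinearEquiv.ofFinrankEq _ _ (by simp [finrank_pi_fintype, hW])
    refine ⟨fun j => e.toLinearMap ∘ₗ LinearMap.single K (fun _ => V) j, (isSemistable_iff_sumMap hV hW).2 ?_⟩
    convert e.bijective
    funext v
    rw [sumMap_apply]
    simp only [LinearMap.comp_apply, LinearEquiv.coe_coe]
    rw [← map_sum]
    congr 1
    exact Finset.univ_sum_single v
  · have hb := (isSemistable_iff_sumMap hV hW).1 hf
    have hb' := (isSemistable_iff_sumMap hV hW).1 hf'
    let e := LinearEquiv.ofBijective (sumMap f) hb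
    let e' := LinearEquiv.ofBijective (sumMap f') hb'
    refine ⟨LinearEquiv.refl K V, e.symm.trans e', fun j => LinearMap.ext fun x => ?_⟩
    show e' (e.symm (f j x)) = f' j x
    rw [← sumMap_single f j x, show sumMap f (Pi.single j x) = e (Pi.single j x) from rfl, LinearEquiv.symm_apply_apply]
    exact sumMap_single f' j x

end Groth.Agent.S15562
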