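import Groth.Statements.S15564
import Groth.Agent.KronLib.Basic
import Mathlib.LinearAlgebra.Matrix.ToLinearEquiv
import Mathlib.LinearAlgebra.Matrix.ToLin
import Mathlib.RingTheory.Polynomial.Basic
import Mathlib.FieldTheory.IsAlgClosed.Basic
open Groth.Agent.KronLib Module

set_option autoImplicit false
universe u v w
open KronMod

namespace Groth.Agent.S15564

/-- For a Kronecker module f with n arrows over a field K between one-dimensional spaces V and W,
semistability, stability and f ≠ 0 are equivalent: the semistable locus and the stable locus of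
dimension vector (1, 1) are both the complement of the zero module. (The published statement assumes
K algebraically closed of characteristic zero and n ≥ 2; this row allows any field K and any n.) -/
theorem result (K : Type u) [Field K] (V : Type v) (W : Type w)
    [AddCommGroup V] [Module K V] [FiniteDimensional K V]
    [AddCommGroup W] [Module K W] [FiniteDimensional K W]
    (n : ℕ) (f : Fin n → (V →ₗ[K] W))
    (hV : Module.finrank K V = 1) (hW : Module.finrank K W = 1) :
    (KronMod.IsSemistable f ↔ f ≠ 0) ∧ (KronMod.IsStable f ↔ f ≠ 0) := by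
  have key : f ≠ 0 → KronMod.IsStable f := by
    intro hf
    refine ⟨by omega, fun V' W' hsub h0 h1 => ?_⟩
    rw [hV, hW, one_mul, one_mul]
    rcases Nat.le_one_iff_eq_zero_or_eq_one.1 (hV ▸ Submodule.finrank_le V') with hv | hv
    · rw [hv]
      by_contra hc
      exact h0 ⟨Submodule.finrank_eq_zero.1 hv, Submodule.finrank_eq_zero.1 (by omega)⟩
    · exfalso
      have hVt : V' = ⊤ := Submodule.eq_top_of_finrank_eq (by omega)
      rcases Nat.le_one_iff_eq_zero_or_eq_one.1 (hW ▸ Submodule.finrank_le W') with hw | hw
      · refine hf (funext fun j => LinearMap.ext fun x => ?_)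
        have : f j x ∈ W' := hsub j ⟨x, hVt ▸ trivial, rfl⟩
        rwa [Submodule.finrank_eq_zero.1 hw, Submodule.mem_bot] at this
      · exact h1 ⟨hVt, Submodule.eq_top_of_finrank_eq (by omega)⟩
  have key2 : KronMod.IsSemistable f → f ≠ 0 := by
    rintro hs rfl
    have hVt : (⊤ : Submodule K V) ≠ ⊥ := fun h0 => by
      rw [← finrank_top K V, h0, finrank_bot] at hV; omega
    have hWt : (⊥ : Submodule K W) ≠ ⊤ := fun h0 => by
      rw [← finrank_top K W, ← h0, finrank_bot] at hW; omega
    have := hs.2 ⊤ ⊥ (fun j => by rintro _ ⟨x, -, rfl⟩; exact Submodule.zero_mem _) (fun h => hVt h.1) (fun h => hWt h.2)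
    rw [finrank_top, finrank_bot, hV, hW] at this
    omega
  exact ⟨⟨key2, fun h => isSemistable_of_isStable (key h)⟩, ⟨fun h => key2 (isSemistable_of_isStable h), key⟩⟩

end Groth.Agent.S15564
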