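import Groth.Statements.S19551
import Groth.Agent.KronLib.Basic
import Mathlib.LinearAlgebra.Matrix.ToLinearEquiv
import Mathlib.LinearAlgebra.Matrix.ToLin
import Mathlib.RingTheory.Polynomial.Basic
import Mathlib.FieldTheory.IsAlgClosed.Basic
open Groth.Agent.KronLib Module

set_option autoImplicit false
universe u v w
open KronMod

namespace Groth.Agent.S19551

/-- Case of two arrows. Over an algebraically closed field K, if a Kronecker module f = (f_0, f_1) with
two arrows between spaces V and W of the same finite dimension k is semistable, then some linear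
combination z_0 f_0 + z_1 f_1 of its arrows is a linear isomorphism V → W: for two arrows the
semistable locus of dimension vector (k, k) lies in the open set of modules whose generic
combination is invertible, for every k. (The published statement, over an algebraically closed field
of characteristic zero, also covers the dimension vectors (1, 1) and (2, 2) for any number of
arrows; this row states the two-arrow case for all k, without the characteristic assumption.) -/
theorem result (K : Type u) [Field K] [IsAlgClosed K]
    (V : Type v) (W : Type w)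
    [AddCommGroup V] [Module K V] [FiniteDimensional K V]
    [AddCommGroup W] [Module K W] [FiniteDimensional K W]
    (f : Fin 2 → (V →ₗ[K] W)) (k : ℕ)
    (hV : Module.finrank K V = k) (hW : Module.finrank K W = k)
    (hf : KronMod.IsSemistable f) :
    ∃ z : Fin 2 → K, Function.Bijective ((∑ j, z j • f j : V →ₗ[K] W) : V → W) := by
  classical
  rcases Nat.eq_zero_or_pos k with rfl | hk
  · have := hf.1
    omega
  let bV := Module.finBasisOfFinrankEq K V hV
  let bW := Module.finBasisOfFinrankEq K W hW
  let A := LinearMap.toMatrix bV bW (f 0)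
  let B := LinearMap.toMatrix bV bW (f 1)
  let M : Matrix (Fin k) (Fin k) (Polynomial K) := A.map (fun c => Polynomial.C c) + (Polynomial.X : Polynomial K) • B.map (fun c => Polynomial.C c)
  have hMt : ∀ t : K, M.map (Polynomial.eval t) = LinearMap.toMatrix bV bW (f 0 + t • f 1) := fun t => by
    ext i j
    simp [M, A, B, map_add, map_smul]; ring
  by_cases hdet : M.det = 0
  · exfalso
    obtain ⟨p, hp0, hp⟩ := Matrix.exists_mulVec_eq_zero_iff.2 hdet
    -- the coefficient vectors
    let v : ℕ → V := fun i => bV.equivFun.symm fun s => (p s).coeff i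
    have hlow : ∀ i, f 0 (v (i + 1)) + f 1 (v i) = 0 := by
      intro i
      apply bW.equivFun.injective
      funext r
      have := congrArg (fun q => q.coeff (i + 1)) (congrFun hp r)
      simp only [M, Matrix.mulVec, dotProduct, Matrix.add_apply, Matrix.smul_apply, Matrix.map_apply, Pi.zero_apply,
        Polynomial.coeff_zero, Polynomial.finset_sum_coeff, add_mul, Polynomial.coeff_add, smul_eq_mul, mul_assoc,
        Polynomial.coeff_X_mul, Polynomial.coeff_C_mul] at this
      rw [map_zero, Pi.zero_apply, ← this, map_add, Pi.add_apply, Finset.sum_add_distrib]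
      congr 1
      · rw [show bW.equivFun (f 0 (v (i + 1))) r = (A.mulVec (bV.repr (v (i + 1)))) r by
          rw [LinearMap.toMatrix_mulVec_repr, Module.Basis.equivFun_apply]]
        simp [Matrix.mulVec, dotProduct, v, Finsupp.single_apply]
      · rw [show bW.equivFun (f 1 (v i)) r = (B.mulVec (bV.repr (v i))) r by
          rw [LinearMap.toMatrix_mulVec_repr, Module.Basis.equivFun_apply]]
        simp [Matrix.mulVec, dotProduct, v, Finsupp.single_apply]
    have hzero : f 0 (v 0) = 0 := by
      apply bW.equivFun.injective
      funext r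
      have := congrArg (fun q => q.coeff 0) (congrFun hp r)
      simp only [M, Matrix.mulVec, dotProduct, Matrix.add_apply, Matrix.smul_apply, Matrix.map_apply, Pi.zero_apply,
        Polynomial.coeff_zero, Polynomial.finset_sum_coeff, add_mul, Polynomial.coeff_add, smul_eq_mul, mul_assoc,
        Polynomial.coeff_X_mul_zero, Polynomial.coeff_C_mul, add_zero] at this
      rw [map_zero, Pi.zero_apply, ← this]
      rw [show bW.equivFun (f 0 (v 0)) r = (A.mulVec (bV.repr (v 0))) r by
        rw [LinearMap.toMatrix_mulVec_repr, Module.Basis.equivFun_apply]]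
      simp [Matrix.mulVec, dotProduct, v, Finsupp.single_apply]
    have hex : ∃ i, v i ≠ 0 := by
      by_contra hc
      push Not at hc
      apply hp0
      funext s
      ext i
      have := congrFun (bV.equivFun.symm.map_eq_zero_iff.1 (hc i)) s
      simpa using this
    obtain ⟨m, hm, hmin⟩ : ∃ m, v m ≠ 0 ∧ ∀ i < m, v i = 0 :=
      ⟨Nat.find hex, Nat.find_spec hex, fun i hi => not_not.1 (Nat.find_min hex hi)⟩
    set V' : Submodule K V := Submodule.span K (Set.range v)
    have hvm : f 0 (v m) = 0 := by
      rcases Nat.eq_zero_or_pos m with rfl | hm0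
      · exact hzero
      · obtain ⟨i, rfl⟩ : ∃ i, m = i + 1 := ⟨m - 1, by omega⟩
        simpa [hmin i (by omega)] using hlow i
    have hsub : KronMod.IsSubrep f V' (V'.map (f 0)) := by
      intro j
      fin_cases j
      · exact le_rfl
      · show Submodule.map (f 1) V' ≤ _
        rw [Submodule.map_span, Submodule.span_le]
        rintro _ ⟨_, ⟨i, rfl⟩, rfl⟩
        refine ⟨-v (i + 1), Submodule.neg_mem _ (Submodule.subset_span ⟨i + 1, rfl⟩), ?_⟩
        rw [map_neg]
        exact neg_eq_of_add_eq_zero_right (hlow i)
    have hvmem : v m ∈ V' := Submodule.subset_span ⟨m, rfl⟩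
    have hlt : finrank K (V'.map (f 0)) < finrank K V' := by
      have h := LinearMap.finrank_range_add_finrank_ker (f 0 ∘ₗ V'.subtype)
      rw [LinearMap.range_comp, Submodule.range_subtype] at h
      have : 0 < finrank K (LinearMap.ker (f 0 ∘ₗ V'.subtype)) :=
        Module.finrank_pos_iff_exists_ne_zero.2 ⟨⟨⟨v m, hvmem⟩, hvm⟩, fun h0 => hm (congrArg (fun t => ((t.1 : V') : V)) h0)⟩
      omega
    have := hf.2 _ _ hsub (fun h => hm (by simpa [h.1] using hvmem)) (fun h => by
      rw [h.2, h.1, finrank_top, finrank_top, hV, hW] at hlt
      omega)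
    rw [hV, hW] at this
    nlinarith
  · obtain ⟨t, ht⟩ : ∃ t : K, M.det.eval t ≠ 0 := by
      by_contra hc
      push Not at hc
      exact hdet (Polynomial.zero_of_eval_zero _ hc)
    refine ⟨![1, t], ?_⟩
    have hd : (LinearMap.toMatrix bV bW (f 0 + t • f 1)).det ≠ 0 := by
      rw [← hMt, ← Polynomial.coe_evalRingHom, ← RingHom.mapMatrix_apply, ← RingHom.map_det]
      exact ht
    have hinj : Function.Injective (f 0 + t • f 1) := by
      rw [← LinearMap.ker_eq_bot, Submodule.eq_bot_iff]
      intro x hx
      have h := LinearMap.toMatrix_mulVec_repr bV bW (f 0 + t • f 1) x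
      rw [LinearMap.mem_ker.1 hx, map_zero, Finsupp.coe_zero] at h
      exact bV.repr.map_eq_zero_iff.1 (DFunLike.coe_injective (Matrix.eq_zero_of_mulVec_eq_zero hd h))
    have heq : (∑ j, ![1, t] j • f j) = f 0 + t • f 1 := by simp [Fin.sum_univ_two]
    rw [heq]
    exact ⟨hinj, (LinearMap.injective_iff_surjective_of_finrank_eq_finrank (hV.trans hW.symm)).1 hinj⟩

end Groth.Agent.S19551
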