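import Groth.Statements.S15565
import Groth.Agent.S19551
import Mathlib.LinearAlgebra.Eigenspace.Triangularizable
import Groth.Agent.KronLib.Basic
import Mathlib.LinearAlgebra.Matrix.ToLinearEquiv
import Mathlib.LinearAlgebra.Matrix.ToLin
import Mathlib.RingTheory.Polynomial.Basic
import Mathlib.FieldTheory.IsAlgClosed.Basic
open Groth.Agent.KronLib Module

set_option autoImplicit false
universe u v w
open KronMod

namespace Groth.Agent.S15565

/-- Over an algebraically closed field K, a Kronecker module with two arrows between spaces V and W of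
the same dimension k ≥ 2 is never stable: the stable locus of dimension vector (k, k) for the
Kronecker quiver with two arrows is empty. (The published statement also assumes characteristic
zero; this row does not.) -/
theorem result (K : Type u) [Field K] [IsAlgClosed K] (V : Type v) (W : Type w)
    [AddCommGroup V] [Module K V] [FiniteDimensional K V]
    [AddCommGroup W] [Module K W] [FiniteDimensional K W]
    (f : Fin 2 → (V →ₗ[K] W)) (k : ℕ) (hk : 2 ≤ k)
    (hV : Module.finrank K V = k) (hW : Module.finrank K W = k) :
    ¬ KronMod.IsStable f := by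
  intro hs
  obtain ⟨z, hz⟩ := Groth.Agent.S19551.result K V W f k hV hW (isSemistable_of_isStable hs)
  set φ : V →ₗ[K] W := ∑ j, z j • f j with hφ
  let e := LinearEquiv.ofBijective φ hz
  obtain ⟨i, hi⟩ : ∃ i, z i ≠ 0 := by
    by_contra hc
    push Not at hc
    have h0 : φ = 0 := by simp [hφ, hc]
    have : Nontrivial V := Module.nontrivial_of_finrank_pos (R := K) (by omega)
    obtain ⟨x, hx⟩ := exists_ne (0 : V)
    exact hx (hz.1 (by simp [h0]))
  -- the other arrow
  obtain ⟨o, ho⟩ : ∃ o : Fin 2, o ≠ i := exists_ne i
  have : Nontrivial V := Module.nontrivial_of_finrank_pos (R := K) (by omega)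
  obtain ⟨c, hc⟩ := Module.End.exists_eigenvalue (e.symm.toLinearMap ∘ₗ f o : Module.End K V)
  obtain ⟨x, hx⟩ := hc.exists_hasEigenvector
  have hfo : f o x = c • φ x := by
    have h := congrArg e hx.apply_eq_smul
    rw [map_smul] at h
    rwa [LinearMap.comp_apply, LinearEquiv.coe_coe, LinearEquiv.apply_symm_apply] at h
  have hfi : f i x = (z i)⁻¹ • (1 - z o * c) • φ x := by
    rw [eq_inv_smul_iff₀ hi, sub_smul, one_smul, mul_smul, ← hfo]
    have : φ x = z i • f i x + z o • f o x := by
      rw [hφ, LinearMap.sum_apply, Fin.sum_univ_two, LinearMap.smul_apply, LinearMap.smul_apply]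
      fin_cases i <;> fin_cases o <;> first | exact absurd rfl ho | exact rfl | exact add_comm _ _
    rw [this, add_sub_cancel_right]
  have hsub : KronMod.IsSubrep f (K ∙ x) (K ∙ φ x) := by
    intro j
    rw [Submodule.map_span, Set.image_singleton, Submodule.span_singleton_le_iff_mem]
    have : j = i ∨ j = o := by
      fin_cases i <;> fin_cases o <;> fin_cases j <;> first | exact absurd rfl ho | exact Or.inl rfl | exact Or.inr rfl
    rcases this with rfl | rfl
    · rw [hfi]; exact Submodule.smul_mem _ _ (Submodule.smul_mem _ _ (Submodule.mem_span_singleton_self _))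
    · rw [hfo]; exact Submodule.smul_mem _ _ (Submodule.mem_span_singleton_self _)
  have hx0 : x ≠ 0 := hx.2
  have hy0 : φ x ≠ 0 := fun h => hx0 (hz.1 (by rw [h, map_zero]))
  have := hs.2 _ _ hsub (fun h => hx0 (Submodule.span_singleton_eq_bot.1 h.1)) (fun h => by
    have h2 := finrank_span_singleton (K := K) hx0
    rw [h.1, finrank_top] at h2
    omega)
  rw [finrank_span_singleton hx0, finrank_span_singleton hy0, hV, hW] at this
  omega

end Groth.Agent.S15565
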