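import Groth.Statements.S15566
import Groth.Agent.KronLib.Basic
import Mathlib.LinearAlgebra.Matrix.ToLinearEquiv
import Mathlib.LinearAlgebra.Matrix.ToLin
import Mathlib.RingTheory.Polynomial.Basic
import Mathlib.FieldTheory.IsAlgClosed.Basic
open Groth.Agent.KronLib Module

set_option autoImplicit false
universe u v w
open KronMod

namespace Groth.Agent.S15566

/-- Case of dimension vector (2, 2). Over an algebraically closed field K, if a Kronecker module f with
n arrows between two-dimensional spaces V and W is semistable, then some linear combination Σ_j z_j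
f_j of its arrows is a linear isomorphism V → W (equivalently, the determinant of the generic
combination is not identically zero): the semistable locus of dimension vector (2, 2) lies in the
open set of modules whose generic combination is invertible. (The published statement, over an
algebraically closed field of characteristic zero, covers dimension vectors (1, 1) and (2, 2) for
every n ≥ 2 and (k, k) for two arrows; this row states the (2, 2) case, for any n and without the
characteristic assumption.) -/
theorem result (K : Type u) [Field K] [IsAlgClosed K] (V : Type v) (W : Type w)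
    [AddCommGroup V] [Module K V] [FiniteDimensional K V]
    [AddCommGroup W] [Module K W] [FiniteDimensional K W]
    (n : ℕ) (f : Fin n → (V →ₗ[K] W))
    (hV : Module.finrank K V = 2) (hW : Module.finrank K W = 2)
    (hf : KronMod.IsSemistable f) :
    ∃ z : Fin n → K, Function.Bijective ((∑ j, z j • f j : V →ₗ[K] W) : V → W) := by
  classical
  by_contra hcon
  push Not at hcon
  have hnb : ∀ z : Fin n → K, ¬ Function.Injective ((∑ j, z j • f j : V →ₗ[K] W) : V → W) := fun z hz =>
    hcon z ⟨hz, (LinearMap.injective_iff_surjective_of_finrank_eq_finrank (hV.trans hW.symm)).1 hz⟩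
  have h1 : ∀ z : Fin n → K, ∃ x, x ≠ 0 ∧ (∑ j, z j • f j : V →ₗ[K] W) x = 0 := by
    intro z
    have := hnb z
    rw [← LinearMap.ker_eq_bot, Submodule.eq_bot_iff] at this
    push Not at this
    obtain ⟨x, hx, hx0⟩ := this
    exact ⟨x, hx0, hx⟩
  have hsingle : ∀ (a b : Fin n) (s t : K), ∃ x, x ≠ 0 ∧ s • f a x + t • f b x = 0 := fun a b s t => by
    obtain ⟨x, hx0, hx⟩ := h1 (Pi.single a s + Pi.single b t)
    refine ⟨x, hx0, ?_⟩
    simpa [add_smul, Finset.sum_add_distrib, Pi.single_apply, ite_smul] using hx
  have hrank : ∀ a, finrank K (LinearMap.range (f a)) ≤ 1 ∧ 1 ≤ finrank K (LinearMap.ker (f a)) := by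
    intro a
    obtain ⟨x, hx0, hx⟩ := hsingle a a 1 0
    have hk : 0 < finrank K (LinearMap.ker (f a)) :=
      Module.finrank_pos_iff_exists_ne_zero.2 ⟨⟨x, by simpa using hx⟩, fun h => hx0 (congrArg Subtype.val h)⟩
    have := LinearMap.finrank_range_add_finrank_ker (f a)
    omega
  have hinj := pi_injective hf (by omega)
  have hsur := sumMap_surjective hf (by omega)
  have hk : ∀ a b, f a ≠ 0 → ¬ LinearMap.range (f b) ≤ LinearMap.range (f a) → LinearMap.ker (f a) ≤ LinearMap.ker (f b) := by
    intro a b ha hb
    obtain ⟨x, hx0, hx⟩ := hsingle a b 1 1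
    rw [one_smul, one_smul] at hx
    have hra : 0 < finrank K (LinearMap.range (f a)) := by
      rw [pos_iff_ne_zero, Ne, Submodule.finrank_eq_zero, LinearMap.range_eq_bot]; exact ha
    have hint : LinearMap.range (f a) ⊓ LinearMap.range (f b) = ⊥ := by
      rw [← Submodule.finrank_eq_zero (R := K)]
      have hlt : LinearMap.range (f a) ⊓ LinearMap.range (f b) < LinearMap.range (f b) :=
        lt_of_le_of_ne inf_le_right fun h => hb (h ▸ inf_le_left)
      have := Submodule.finrank_lt_finrank_of_lt hlt
      have := (hrank b).1
      omega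
    have hax : f a x = 0 := by
      have hmem : f a x ∈ LinearMap.range (f a) ⊓ LinearMap.range (f b) :=
        ⟨⟨x, rfl⟩, ⟨-x, by rw [map_neg]; exact neg_eq_of_add_eq_zero_left hx⟩⟩
      rwa [hint, Submodule.mem_bot] at hmem
    have hbx : f b x = 0 := by rw [hax, zero_add] at hx; exact hx
    have hspan : K ∙ x = LinearMap.ker (f a) := by
      refine Submodule.eq_of_le_of_finrank_le (by rw [Submodule.span_singleton_le_iff_mem]; exact hax) ?_
      rw [finrank_span_singleton hx0]
      have := LinearMap.finrank_range_add_finrank_ker (f a)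
      omega
    rw [← hspan, Submodule.span_singleton_le_iff_mem]
    exact hbx
  obtain ⟨a, ha⟩ : ∃ a, f a ≠ 0 := by
    by_contra hc
    push Not at hc
    have : Nontrivial V := Module.nontrivial_of_finrank_pos (R := K) (by omega)
    obtain ⟨x, hx⟩ := exists_ne (0 : V)
    exact hx (hinj (funext fun j => by simp [hc]))
  obtain ⟨b, hb⟩ : ∃ b, ¬ LinearMap.range (f b) ≤ LinearMap.range (f a) := by
    by_contra hc
    push Not at hc
    have htop : LinearMap.range (f a) = ⊤ := eq_top_iff.2 fun w _ => by
      obtain ⟨v, rfl⟩ := hsur w
      rw [sumMap_apply]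
      exact Submodule.sum_mem _ fun j _ => hc j ⟨v j, rfl⟩
    have := (hrank a).1
    rw [htop, finrank_top] at this
    omega
  have hb0 : f b ≠ 0 := fun h => hb (by rw [h, LinearMap.range_zero]; exact bot_le)
  have hab := hk a b ha hb
  obtain ⟨x, hx⟩ := Module.finrank_pos_iff_exists_ne_zero.1 (hrank a).2
  refine hx (Subtype.ext (hinj (funext fun j => ?_)))
  simp only [LinearMap.pi_apply, ZeroMemClass.coe_zero, map_zero, Pi.zero_apply]
  by_cases hja : LinearMap.range (f j) ≤ LinearMap.range (f a)
  · by_cases hjb : LinearMap.range (f j) ≤ LinearMap.range (f b)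
    · have hra : finrank K (LinearMap.range (f a)) ≤ 1 := (hrank a).1
      by_contra hne
      refine hb ?_
      have hpos : 0 < finrank K (LinearMap.range (f j)) :=
        Module.finrank_pos_iff_exists_ne_zero.2 ⟨⟨_, x.1, rfl⟩, fun h => hne (congrArg Subtype.val h)⟩
      have e1 := Submodule.eq_of_le_of_finrank_le hjb (by have := (hrank b).1; omega)
      rw [← e1]; exact hja
    · exact hk b j hb0 hjb (hab x.2)
  · exact hk a j ha hja x.2

end Groth.Agent.S15566
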