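import Groth.Statements.S15568
import Mathlib
-- import your own Groth.Agent.* helpers here

set_option autoImplicit false
universe u
open QuiverStab

namespace Groth.Agent.S15568

/-- Walls and chambers for stability weights of a quiver. Let I be the finite vertex set, d ∈ ℕ^I a
dimension vector, and call two weights θ₁, θ₂ ∈ ℝ^I orthogonal to d numerically equivalent when, for
every d′ ≤ d in ℕ^I, the numbers θ₁·d′ and θ₂·d′ are both positive, both negative or both zero. The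
walls are the hyperplanes W(d′) = {θ ⊥ d : θ·d′ = 0} of d^⊥ for d′ ≤ d such that d is not a multiple
of d′. Then θ₁ and θ₂ are numerically equivalent if and only if there is a set J₁ of such d′ for
which θ₁ and θ₂ lie in the same connected component of the locally closed subset of d^⊥ consisting
of the weights lying on W(d₁) for every d₁ ∈ J₁ and off W(d₂) for every other wall W(d₂). (Only the
quiver's vertex set enters; multiples are taken with natural-number factors.) -/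
theorem result
    (I : Type u) [Fintype I] (d : I → ℕ) (θ₁ θ₂ : I → ℝ)
    (h₁ : ∑ i, θ₁ i * (d i : ℝ) = 0) (h₂ : ∑ i, θ₂ i * (d i : ℝ) = 0) :
    (∀ d' : I → ℕ, d' ≤ d →
        SignType.sign (∑ i, θ₁ i * (d' i : ℝ)) = SignType.sign (∑ i, θ₂ i * (d' i : ℝ))) ↔
    ∃ J₁ : Set (I → ℕ), J₁ ⊆ {d' | d' ≤ d ∧ ¬ ∃ m : ℕ, d = m • d'} ∧
      θ₂ ∈ connectedComponentIn
        {θ : I → ℝ | ∑ i, θ i * (d i : ℝ) = 0 ∧ (∀ d₁ ∈ J₁, ∑ i, θ i * (d₁ i : ℝ) = 0) ∧
          ∀ d₂ : I → ℕ, d₂ ≤ d → (¬ ∃ m : ℕ, d = m • d₂) → d₂ ∉ J₁ →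
            ∑ i, θ i * (d₂ i : ℝ) ≠ 0} θ₁ := by
  constructor
  · intro hs
    refine ⟨{d' | d' ≤ d ∧ (¬ ∃ m : ℕ, d = m • d') ∧ ∑ i, θ₁ i * (d' i : ℝ) = 0},
      fun d' h => ⟨h.1, h.2.1⟩, ?_⟩
    refine (convex_segment (𝕜 := ℝ) θ₁ θ₂).isPreconnected.subset_connectedComponentIn
      (left_mem_segment ℝ θ₁ θ₂) ?_ (right_mem_segment ℝ θ₁ θ₂)
    rintro θ ⟨a, b, ha, hb, hab, rfl⟩
    have key : ∀ d' : I → ℕ, ∑ i, (a • θ₁ + b • θ₂) i * (d' i : ℝ) =
        a * ∑ i, θ₁ i * (d' i : ℝ) + b * ∑ i, θ₂ i * (d' i : ℝ) := fun d' => by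
      rw [Finset.mul_sum, Finset.mul_sum, ← Finset.sum_add_distrib]
      refine Finset.sum_congr rfl fun i _ => ?_
      simp only [Pi.add_apply, Pi.smul_apply, smul_eq_mul]; ring
    refine ⟨by rw [key, h₁, h₂]; ring, ?_, ?_⟩
    · rintro d₁ ⟨hle, -, h0⟩
      have h0' : ∑ i, θ₂ i * (d₁ i : ℝ) = 0 := by
        have := hs d₁ hle
        rw [h0, sign_zero] at this
        exact sign_eq_zero_iff.1 this.symm
      rw [key, h0, h0']; ring
    · intro d₂ hle hm hnot
      have hne : ∑ i, θ₁ i * (d₂ i : ℝ) ≠ 0 := fun h0 => hnot ⟨hle, hm, h0⟩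
      have hsgn := hs d₂ hle
      rw [key]
      rcases lt_or_gt_of_ne hne with hneg | hpos
      · rw [sign_neg hneg] at hsgn
        have h' : ∑ i, θ₂ i * (d₂ i : ℝ) < 0 := sign_eq_neg_one_iff.1 hsgn.symm
        intro h0
        rcases ha.eq_or_lt with rfl | ha'
        · obtain rfl : b = 1 := by linarith
          linarith
        · nlinarith [mul_pos ha' (abs_pos.2 hne)]
      · rw [sign_pos hpos] at hsgn
        have h' : 0 < ∑ i, θ₂ i * (d₂ i : ℝ) := sign_eq_one_iff.1 hsgn.symm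
        intro h0
        rcases ha.eq_or_lt with rfl | ha'
        · obtain rfl : b = 1 := by linarith
          linarith
        · nlinarith [mul_pos ha' (abs_pos.2 hne)]
  · rintro ⟨J, hJ, hmem⟩ d' hle
    let F := {θ : I → ℝ | ∑ i, θ i * (d i : ℝ) = 0 ∧ (∀ d₁ ∈ J, ∑ i, θ i * (d₁ i : ℝ) = 0) ∧
          ∀ d₂ : I → ℕ, d₂ ≤ d → (¬ ∃ m : ℕ, d = m • d₂) → d₂ ∉ J →
            ∑ i, θ i * (d₂ i : ℝ) ≠ 0}
    have hF : θ₁ ∈ F :=
      connectedComponentIn_nonempty_iff.1 ⟨θ₂, hmem⟩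
    have hF2 : θ₂ ∈ F := connectedComponentIn_subset F θ₁ hmem
    by_cases hm : ∃ m : ℕ, d = m • d'
    · obtain ⟨m, hm⟩ := hm
      rcases Nat.eq_zero_or_pos m with rfl | hpos
      · have hd0 : d = 0 := by rw [hm]; exact zero_smul _ _
        have : d' = 0 := le_antisymm (hle.trans_eq hd0) (fun i => Nat.zero_le _)
        simp [this]
      · have hz : ∀ θ : I → ℝ, ∑ i, θ i * (d i : ℝ) = 0 → ∑ i, θ i * (d' i : ℝ) = 0 := by
          intro θ hθ
          have : (m : ℝ) * ∑ i, θ i * (d' i : ℝ) = 0 := by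
            rw [← hθ, Finset.mul_sum]
            refine Finset.sum_congr rfl fun i _ => ?_
            rw [hm]; simp only [Pi.smul_apply, smul_eq_mul, Nat.cast_mul]; ring
          exact (mul_eq_zero.1 this).resolve_left (Nat.cast_ne_zero.2 hpos.ne')
        rw [hz θ₁ h₁, hz θ₂ h₂]
    · by_cases hdJ : d' ∈ J
      · rw [hF.2.1 d' hdJ, hF2.2.1 d' hdJ]
      · have hpre : IsPreconnected (connectedComponentIn F θ₁) := isPreconnected_connectedComponentIn
        have hcont : Continuous fun θ : I → ℝ => ∑ i, θ i * (d' i : ℝ) := by fun_prop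
        have hne : ∀ θ ∈ connectedComponentIn F θ₁, ∑ i, θ i * (d' i : ℝ) ≠ 0 := fun θ hθ =>
          (connectedComponentIn_subset F θ₁ hθ).2.2 d' hle hm hdJ
        have m1 : θ₁ ∈ connectedComponentIn F θ₁ := mem_connectedComponentIn hF
        rcases lt_or_gt_of_ne (hne _ m1) with h1 | h1 <;> rcases lt_or_gt_of_ne (hne _ hmem) with h2 | h2
        · rw [sign_neg h1, sign_neg h2]
        · obtain ⟨θ, hθ, h0⟩ := hpre.intermediate_value m1 hmem hcont.continuousOn ⟨h1.le, h2.le⟩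
          exact absurd h0 (hne θ hθ)
        · obtain ⟨θ, hθ, h0⟩ := hpre.intermediate_value hmem m1 hcont.continuousOn ⟨h2.le, h1.le⟩
          exact absurd h0 (hne θ hθ)
        · rw [sign_pos h1, sign_pos h2]

end Groth.Agent.S15568
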