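import Groth.Statements.S15569
import Groth.Agent.KronLib.Basic
import Mathlib.LinearAlgebra.Matrix.ToLinearEquiv
import Mathlib.LinearAlgebra.Matrix.ToLin
import Mathlib.RingTheory.Polynomial.Basic
import Mathlib.FieldTheory.IsAlgClosed.Basic
open Groth.Agent.KronLib Module

set_option autoImplicit false
universe u v w
open KronMod

namespace Groth.Agent.S15569

/-- Over a field K, for W of dimension d₀ > 0 and V of dimension n·d₀, semistable Kronecker modules with
n arrows from V to W exist, and any two of them are isomorphic as Kronecker modules: the moduli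
space K(n; n·d₀, d₀) is a single point. This is the case dual to dimension vector (d₋₁, n·d₋₁). (The
published statement assumes K algebraically closed of characteristic zero and n ≥ 2; this row allows
any field K and any number n of arrows.) -/
theorem result (K : Type u) [Field K] (V : Type v) (W : Type w)
    [AddCommGroup V] [Module K V] [FiniteDimensional K V]
    [AddCommGroup W] [Module K W] [FiniteDimensional K W]
    (n : ℕ) (hW : 0 < Module.finrank K W) (hV : Module.finrank K V = n * Module.finrank K W) :
    (∃ f : Fin n → (V →ₗ[K] W), KronMod.IsSemistable f) ∧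
    ∀ f f' : Fin n → (V →ₗ[K] W), KronMod.IsSemistable f → KronMod.IsSemistable f' →
      KronMod.AreIso f f' := by
  classical
  refine ⟨?_, fun f f' hf hf' => ?_⟩
  · let e : V ≃ₗ[K] (Fin n → W) := LinearEquiv.ofFinrankEq _ _ (by simp [finrank_pi_fintype, hV])
    refine ⟨fun j => LinearMap.proj j ∘ₗ e.toLinearMap, (isSemistable_iff_pi hW hV).2 ?_⟩
    convert e.bijective
    ext v j
    simp
  · have hb := (isSemistable_iff_pi hW hV).1 hf
    have hb' := (isSemistable_iff_pi hW hV).1 hf'
    let e := LinearEquiv.ofBijective (LinearMap.pi f) hb
    let e' := LinearEquiv.ofBijective (LinearMap.pi f') hb'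
    refine ⟨e.trans e'.symm, LinearEquiv.refl K W, fun j => LinearMap.ext fun x => ?_⟩
    show f j x = f' j (e'.symm (e x))
    exact (congrFun (e'.apply_symm_apply (e x)) j).symm

end Groth.Agent.S15569
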