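import Groth.Statements.S1557
import Groth.Agent.VarietyLib.CurveDegree
import Groth.Agent.AbCubeLib.FiniteDegree
import Groth.Agent.EulerLib.Positive

set_option autoImplicit false
universe u
open CategoryTheory CategoryTheory.Limits AlgebraicGeometry
open Variety
open Groth.Agent

namespace Groth.Agent.S1557



/-- On a proper curve X over k with generic point ξ, for E finite locally free of rank n and F coherent
of generic rank r (the dimension of the stalk F_ξ over the field O_{X,ξ}), one has χ(X, E ⊗ F) = r ·
deg(E) + n · χ(X, F). -/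
theorem result (k : Type u) [Field k] (X : Scheme.{u}) [X.Over (Spec (CommRingCat.of k))]
    [IsIntegral X] [IsProper (X ↘ (Spec (CommRingCat.of k)))] (hdim : topologicalKrullDim X = 1)
    (n : ℕ) (E : X.Modules) (hE : FlatMod.IsFinLocFreeOfRank n E) (F : X.Modules) (hF : Coh.IsCoh F) :
    Curv2.euler k X (CohB1.tensorMod E F) =
      (Module.finrank (X.presheaf.stalk (genericPoint X)) (F.presheaf.stalk (genericPoint X)) : ℤ) * Curv2.deg k X E n +
        n * Curv2.euler k X F := by
  haveI : IsNoetherian X := EulerLib.isNoetherian_of_proper (X := X) k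
  obtain ⟨S, hS1, hS2, hsum⟩ := VarietyLib.degFun_eq_sum k hdim.le hE
  let η := genericPoint X
  have hη : topologicalKrullDim (closure ({η} : Set X)) = ((1 : ℕ) : WithBot ℕ∞) := by
    rw [genericPoint_closure, (Homeomorph.Set.univ (X : Type u)).isHomeomorph.topologicalKrullDim_eq, hdim]
    rfl
  have honly : ∀ ξ ∈ S, ξ = η := fun ξ hξ => by
    by_contra hne
    have hnmem : η ∉ closure ({ξ} : Set X) := fun h =>
      hne ((specializes_iff_mem_closure.2 h).antisymm (genericPoint_specializes ξ)).eq
    have hlt := EulerLib.dim_lt_of_notMem isClosed_closure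
      (Set.subset_univ _) isClosed_univ (genericPoint_closure (α := X)) hnmem
      (((Homeomorph.Set.univ (X : Type u)).isHomeomorph.topologicalKrullDim_eq.trans hdim).le.trans
        (le_of_eq (by rfl : (1 : WithBot ℕ∞) = ((1 : ℕ) : WithBot ℕ∞))))
    rw [hS2 ξ hξ] at hlt
    exact lt_irrefl _ hlt
  have hO : Coh.IsCoh (Coh.structureModule X) := Coherent.isCoh_structureModule X
  have key : ∀ M : X.Modules, Coh.IsCoh M → VarietyLib.degFun k n E M =
      (VarietyLib.mult M η : ℤ) * VarietyLib.degFun k n E (AssSch12.clM η) := fun M hM => by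
    rw [hsum M hM, Finset.sum_eq_single_of_mem η (hS1 η hη) fun ξ hξ hne => absurd (honly ξ hξ) hne,
      nsmul_eq_mul]
  have hlen : ∀ M : X.Modules, Coh.IsCoh M → VarietyLib.mult M η =
      Module.finrank (X.presheaf.stalk η) (M.presheaf.stalk η) := fun M hM => by
    letI : Field (X.presheaf.stalk η) := inferInstanceAs (Field X.functionField)
    haveI := AssSch12.finite_stalk hM η
    rw [VarietyLib.mult, Module.length_eq_finrank]
    rfl
  have h1 : VarietyLib.mult (Coh.structureModule X) η = 1 := by
    rw [hlen _ hO]
    exact AbCubeLib.genRank_structureModule (X := X)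
  have hdeg : Curv2.deg k X E n = VarietyLib.degFun k n E (AssSch12.clM η) := by
    rw [← VarietyLib.degFun_structure k E, key _ hO, h1, Nat.cast_one, one_mul]
  have := key F hF
  rw [hlen F hF, ← hdeg, VarietyLib.degFun, EulerLib.euler_congr k X (AmpleLib.tensorComm F E)] at this
  linarith

end Groth.Agent.S1557
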