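import Groth.Statements.S15576
import Groth.Agent.RInvLib.Basic

set_option autoImplicit false
universe u v
open RInv

namespace Groth.Agent.S15576

/-- Let `R` be a commutative ring with an involution `lam` whose fixed ring `S` is local. If the
automorphism induced by `lam` on `R` modulo its Jacobson radical is not the identity, then `R` is a
quadratic etale `S`-algebra. -/
theorem result (S : Type u) (R : Type v) [CommRing S] [CommRing R]
    [Algebra S R] (lam : R ≃+* R) (hlam : Function.Involutive lam) (hS : RInv.IsFixedRing S R lam)
    [IsLocalRing S] (h : ∃ r : R, lam r - r ∉ Ring.jacobson R) : RInv.IsQuadEtale S R := by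
  exact Groth.Agent.RInvLib.isQuadEtale_of_nontrivial hlam hS h

end Groth.Agent.S15576
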