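import Groth.Statements.S15578
import Mathlib
import Groth.Agent.HenselLib.Perm
import Groth.Agent.HopfQuot.UnitComponent
-- import your own Groth.Agent.* helpers here

set_option autoImplicit false
universe u v
open RInv

namespace Groth.Agent.S15578

/-- Let `R` be a commutative ring with an involution `lam` whose fixed ring `S` is strictly henselian
(henselian local with separably closed residue field). Then `R` is isomorphic to a product of
finitely many strictly henselian local rings (existence of a ring isomorphism with such a product). -/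
theorem result (S : Type u) (R : Type v) [CommRing S] [CommRing R]
    [Algebra S R] (lam : R ≃+* R) (hlam : Function.Involutive lam) (hS : RInv.IsFixedRing S R lam)
    [HenselianLocalRing S] [IsSepClosed (IsLocalRing.ResidueField S)] :
    ∃ (ι : Type) (_ : Fintype ι) (T : ι → Type v) (_ : ∀ i, CommRing (T i))
      (_ : ∀ i, HenselianLocalRing (T i)),
      (∀ i, IsSepClosed (IsLocalRing.ResidueField (T i))) ∧ Nonempty (R ≃+* (∀ i, T i)) := by
  classical
  open Polynomial in
  have hfix : ∀ {r : R}, lam r = r → ∃ s, algebraMap S R s = r := fun h => (hS.2 _).1 h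
  have hquad : ∀ r : R, ∃ p q : S, algebraMap S R p = r + lam r ∧ algebraMap S R q = r * lam r := by
    intro r
    obtain ⟨p, hp⟩ := hfix (show lam (r + lam r) = r + lam r by rw [map_add, hlam r]; ring)
    obtain ⟨q, hq⟩ := hfix (show lam (r * lam r) = r * lam r by rw [map_mul, hlam r]; ring)
    exact ⟨p, q, hp, hq⟩
  haveI hint : Algebra.IsIntegral S R := ⟨fun r => by
    obtain ⟨p, q, hp, hq⟩ := hquad r
    refine ⟨X ^ 2 - C p * X + C q, by monicity!, ?_⟩
    simp only [eval₂_add, eval₂_sub, eval₂_X_pow, eval₂_mul, eval₂_C, eval₂_X, hp, hq]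
    ring⟩
  haveI : Nontrivial R := hS.1.nontrivial
  obtain ⟨M, hM⟩ := Ideal.exists_maximal R
  have hover : ∀ Q : Ideal R, Q.IsMaximal → Q.comap (algebraMap S R) = IsLocalRing.maximalIdeal S := fun Q hQ => by
    haveI := hQ
    exact IsLocalRing.eq_maximalIdeal (Ideal.isMaximal_comap_of_isIntegral_of_isMaximal (R := S) Q)
  set M' : Ideal R := M.comap lam.toRingHom with hM'def
  haveI hM' : M'.IsMaximal := Ideal.comap_isMaximal_of_surjective _ lam.surjective
  have htwo : ∀ Q : Ideal R, Q.IsMaximal → Q = M ∨ Q = M' := by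
    intro Q hQ
    by_contra hne
    push Not at hne
    have hsub : ¬ ((Q : Set R) ⊆ (M : Set R) ∪ (M' : Set R)) := by
      rw [Ideal.subset_union]
      rintro (h | h)
      · exact hne.1 (hQ.eq_of_le hM.ne_top h)
      · exact hne.2 (hQ.eq_of_le hM'.ne_top h)
    obtain ⟨x, hxQ, hx⟩ := Set.not_subset.1 hsub
    simp only [Set.mem_union, SetLike.mem_coe, not_or] at hx
    obtain ⟨p, q, -, hq⟩ := hquad x
    have hqm : q ∈ IsLocalRing.maximalIdeal S := by
      rw [← hover Q hQ, Ideal.mem_comap, hq]
      exact Q.mul_mem_right _ hxQ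
    rw [← hover M hM, Ideal.mem_comap, hq] at hqm
    exact (hM.isPrime.mem_or_mem hqm).elim hx.1 hx.2
  -- strictly henselian factors
  have key : ∀ (T : Type v) [CommRing T] [IsLocalRing T] (f : R →+* T), Function.Surjective f →
      HenselianLocalRing T ∧ IsSepClosed (IsLocalRing.ResidueField T) := by
    intro T _ _ f hf
    letI : Algebra S T := (f.comp (algebraMap S R)).toAlgebra
    haveI : Algebra.IsIntegral S T := ⟨fun t => by
      obtain ⟨r, rfl⟩ := hf t
      obtain ⟨P, hP, hP'⟩ := hint.isIntegral r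
      exact ⟨P, hP, by
        show P.eval₂ (f.comp (algebraMap S R)) (f r) = 0
        rw [← hom_eval₂, hP', map_zero]⟩⟩
    haveI : IsLocalHom (algebraMap S T) := by
      refine ((IsLocalRing.local_hom_TFAE _).out 0 4).2 ?_
      exact IsLocalRing.eq_maximalIdeal (Ideal.isMaximal_comap_of_isIntegral_of_isMaximal (R := S) (IsLocalRing.maximalIdeal T))
    refine ⟨?_, ?_⟩
    · let S' := ULift.{v} S
      let T' := ULift.{u} T
      haveI : HenselianLocalRing S' := HopfQuot.UnitComp.henselianLocalRing_of_equiv ULift.ringEquiv.symm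
      haveI : IsLocalRing T' := IsLocalRing.of_surjective' (ULift.ringEquiv.symm : T ≃+* T').toRingHom (ULift.ringEquiv.symm : T ≃+* T').surjective
      letI : Algebra S' T' := ((ULift.ringEquiv.symm : T ≃+* T').toRingHom.comp
        ((algebraMap S T).comp (ULift.ringEquiv : S' ≃+* S).toRingHom)).toAlgebra
      haveI : Algebra.IsIntegral S' T' := ⟨fun t => by
        obtain ⟨P, hP, hP'⟩ := Algebra.IsIntegral.isIntegral (R := S) (ULift.ringEquiv (t : T'))
        refine ⟨P.map (ULift.ringEquiv.symm : S ≃+* S').toRingHom, hP.map _, ?_⟩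
        rw [eval₂_map]
        have := congrArg (ULift.ringEquiv.symm : T ≃+* T').toRingHom hP'
        rw [hom_eval₂, map_zero] at this
        exact this⟩
      haveI : HenselianLocalRing T' := HenselLib.henselianLocalRing_of_isIntegral S' T'
      exact HopfQuot.UnitComp.henselianLocalRing_of_equiv (ULift.ringEquiv : T' ≃+* T)
    · haveI : Algebra.IsAlgebraic (IsLocalRing.ResidueField S) (IsLocalRing.ResidueField T) := by
        haveI : Algebra.IsIntegral (IsLocalRing.ResidueField S) (IsLocalRing.ResidueField T) := ⟨fun t => by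
          obtain ⟨a, rfl⟩ := IsLocalRing.residue_surjective t
          obtain ⟨P, hP, hP'⟩ := Algebra.IsIntegral.isIntegral (R := S) a
          refine ⟨P.map (IsLocalRing.residue S), hP.map _, ?_⟩
          rw [eval₂_map]
          have := congrArg (IsLocalRing.residue T) hP'
          rw [hom_eval₂, map_zero] at this
          exact this⟩
        infer_instance
      exact Algebra.IsAlgebraic.isSepClosed (F := IsLocalRing.ResidueField S)
  by_cases hMM : M' = M
  · -- one maximal ideal
    haveI : IsLocalRing R := IsLocalRing.of_unique_max_ideal ⟨M, hM, fun Q hQ => (htwo Q hQ).elim id (fun h => h.trans hMM)⟩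
    obtain ⟨hH, hC⟩ := key R (RingHom.id R) Function.surjective_id
    exact ⟨Unit, inferInstance, fun _ => R, fun _ => inferInstance, fun _ => hH, fun _ => hC,
      ⟨(RingEquiv.piUnique (fun _ : Unit => R)).symm⟩⟩
  -- two maximal ideals: an idempotent separates them
  obtain ⟨b, hb1, hb0⟩ : ∃ b, b - 1 ∈ M ∧ b ∈ M' := by
    obtain ⟨y, hy, z, hz, hyz⟩ := Submodule.mem_sup.1 (show (1 : R) ∈ M ⊔ M' by
      rw [hM.coprime_of_ne hM' (Ne.symm hMM)]; exact Submodule.mem_top)
    exact ⟨z, by rw [show z - 1 = -y by rw [← hyz]; ring]; exact M.neg_mem hy, hz⟩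
  have hb0' : lam b ∈ M := hb0
  have hb1' : lam b - 1 ∈ M' := by
    show lam (lam b - 1) ∈ M
    rw [map_sub, hlam b, map_one]; exact hb1
  obtain ⟨p, q, hp, hq⟩ := hquad b
  have hpm : p - 1 ∈ IsLocalRing.maximalIdeal S := by
    rw [← hover M hM, Ideal.mem_comap, map_sub, map_one, hp, add_sub_right_comm]
    exact M.add_mem hb1 hb0'
  have hqm : q ∈ IsLocalRing.maximalIdeal S := by
    rw [← hover M hM, Ideal.mem_comap, hq]; exact M.mul_mem_left _ hb0'
  obtain ⟨a, ha, ham⟩ := HenselianLocalRing.is_henselian (X ^ 2 - C p * X + C q) (by monicity!) 1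
    (by
      simp only [eval_add, eval_sub, eval_pow, eval_X, eval_mul, eval_C]
      rw [show (1 : S) ^ 2 - p * 1 + q = -(p - 1) + q by ring]
      exact add_mem (neg_mem hpm) hqm)
    (by
      simp only [derivative_add, derivative_sub, derivative_X_pow, derivative_C_mul, derivative_X,
        derivative_C, eval_add, eval_sub, eval_mul, eval_C, eval_pow, eval_X, eval_one, eval_zero]
      by_contra hu
      have hm := (IsLocalRing.mem_maximalIdeal _).2 hu
      have := add_mem hm hpm
      push_cast at this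
      ring_nf at this
      exact (IsLocalRing.maximalIdeal.isMaximal S).ne_top ((Ideal.eq_top_iff_one _).2 this))
  have ha' : a ^ 2 - p * a + q = 0 := by simpa [IsRoot] using ha
  obtain ⟨w, hw⟩ : IsUnit (2 * a - p) := by
    by_contra hu
    have hm := (IsLocalRing.mem_maximalIdeal _).2 hu
    have := sub_mem (add_mem hm hpm) (Ideal.mul_mem_left _ 2 ham)
    ring_nf at this
    exact (IsLocalRing.maximalIdeal.isMaximal S).ne_top ((Ideal.eq_top_iff_one _).2 this)
  set e : R := (b - algebraMap S R (p - a)) * algebraMap S R ((w⁻¹ : Sˣ) : S) with he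
  have hinv : algebraMap S R (2 * a - p) * algebraMap S R ((w⁻¹ : Sˣ) : S) = 1 := by
    rw [← map_mul, ← hw, Units.mul_inv, map_one]
  have hidem : IsIdempotentElem e := by
    have hz : (b - algebraMap S R a) * (b - algebraMap S R (p - a)) = 0 := by
      have h3 := congrArg (algebraMap S R) ha'
      simp only [map_add, map_sub, map_mul, map_pow, map_zero, hp, hq] at h3
      rw [map_sub, hp]
      linear_combination (-1 : R) * h3
    unfold IsIdempotentElem
    simp only [map_sub, map_mul, map_ofNat] at hinv hz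
    rw [he, map_sub]
    linear_combination (algebraMap S R ((w⁻¹ : Sˣ) : S)) ^ 2 * hz +
      (b - (algebraMap S R p - algebraMap S R a)) * algebraMap S R ((w⁻¹ : Sˣ) : S) * hinv
  have hmem : ∀ (Q : Ideal R), Q.IsMaximal → ∀ s ∈ IsLocalRing.maximalIdeal S, algebraMap S R s ∈ Q :=
    fun Q hQ s hs => Ideal.mem_comap.1 ((hover Q hQ).symm ▸ hs)
  have heM' : e ∈ M' := by
    refine M'.mul_mem_right _ (M'.sub_mem hb0 (hmem M' hM' _ ?_))
    rw [show p - a = (p - 1) - (a - 1) by ring]
    exact sub_mem hpm ham
  have heM : 1 - e ∈ M := by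
    rw [← hinv, he, ← sub_mul]
    refine M.mul_mem_right _ ?_
    rw [show algebraMap S R (2 * a - p) - (b - algebraMap S R (p - a)) =
      algebraMap S R (a - 1) - (b - 1) by simp only [map_sub, map_mul, map_ofNat, map_one]; ring]
    exact M.sub_mem (hmem M hM _ ham) hb1
  have hloc : ∀ (I : Ideal R) (N : Ideal R) (N' : Ideal R), I ≤ N → N.IsMaximal →
      (∀ Q : Ideal R, Q.IsMaximal → Q = N ∨ Q = N') → ¬ I ≤ N' → IsLocalRing (R ⧸ I) := by
    intro I N N' hIN hN hall hnot
    refine IsLocalRing.of_unique_max_ideal ⟨N.map (Ideal.Quotient.mk I), ?_, fun Q hQ => ?_⟩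
    · exact Ideal.IsMaximal.map_of_surjective_of_ker_le Ideal.Quotient.mk_surjective (by rwa [Ideal.mk_ker])
    · have hQc : (Q.comap (Ideal.Quotient.mk I)).IsMaximal :=
        Ideal.comap_isMaximal_of_surjective _ Ideal.Quotient.mk_surjective
      rw [← Ideal.map_comap_of_surjective _ Ideal.Quotient.mk_surjective Q]
      rcases hall _ hQc with h | h
      · rw [h]
      · exfalso
        apply hnot
        rw [← h]
        intro x hx
        rw [Ideal.mem_comap, Ideal.Quotient.eq_zero_iff_mem.2 hx]
        exact Q.zero_mem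
  haveI h1 : IsLocalRing (R ⧸ Ideal.span {1 - e}) := hloc _ M M' ((Ideal.span_singleton_le_iff_mem _).2 heM) hM htwo
    (fun h => hM'.ne_top ((Ideal.eq_top_iff_one _).2 (by
      simpa using M'.add_mem ((Ideal.span_singleton_le_iff_mem _).1 h) heM')))
  haveI h0 : IsLocalRing (R ⧸ Ideal.span {e}) := hloc _ M' M ((Ideal.span_singleton_le_iff_mem _).2 heM') hM'
    (fun Q hQ => (htwo Q hQ).symm)
    (fun h => hM.ne_top ((Ideal.eq_top_iff_one _).2 (by
      simpa using M.add_mem ((Ideal.span_singleton_le_iff_mem _).1 h) heM)))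
  obtain ⟨H1, C1⟩ := key (R ⧸ Ideal.span {1 - e}) (Ideal.Quotient.mk _) Ideal.Quotient.mk_surjective
  obtain ⟨H0, C0⟩ := key (R ⧸ Ideal.span {e}) (Ideal.Quotient.mk _) Ideal.Quotient.mk_surjective
  let T : Fin 2 → Type v := fun i => R ⧸ (![Ideal.span {1 - e}, Ideal.span {e}] : Fin 2 → Ideal R) i
  refine ⟨Fin 2, inferInstance, T, fun i => Ideal.Quotient.commRing _, fun i => ?_, fun i => ?_, ?_⟩
  · fin_cases i
    · exact H1
    · exact H0
  · fin_cases i
    · exact C1
    · exact C0
  · have hcop : Pairwise fun i j : Fin 2 => IsCoprime ((![Ideal.span {1 - e}, Ideal.span {e}] : Fin 2 → Ideal R) i)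
        ((![Ideal.span {1 - e}, Ideal.span {e}] : Fin 2 → Ideal R) j) := by
      intro i j hij
      have h : IsCoprime (Ideal.span {1 - e}) (Ideal.span {e}) :=
        (Ideal.isCoprime_span_singleton_iff _ _).2 ⟨1, 1, by ring⟩
      fin_cases i <;> fin_cases j <;> first | exact absurd rfl hij | exact h | exact h.symm
    have hbot : (⨅ i, (![Ideal.span {1 - e}, Ideal.span {e}] : Fin 2 → Ideal R) i) = ⊥ := by
      rw [eq_bot_iff]
      intro x hx
      rw [Ideal.mem_iInf] at hx
      obtain ⟨c, hc⟩ := Ideal.mem_span_singleton'.1 (hx 0)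
      obtain ⟨d, hd⟩ := Ideal.mem_span_singleton'.1 (hx 1)
      rw [Ideal.mem_bot]
      have h2 : e * e = e := hidem
      linear_combination (-e) * hc + (-(1 - e)) * hd - (c + d) * h2
    exact ⟨((RingEquiv.quotientBot R).symm.trans (Ideal.quotEquivOfEq hbot.symm)).trans
      (Ideal.quotientInfRingEquivPiQuotient _ hcop)⟩

end Groth.Agent.S15578
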