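import Mathlib.Topology.Sheaves.Functors
import Mathlib.CategoryTheory.Functor.EpiMono
import Groth.Agent.ShSp.EmbSet

set_option autoImplicit false
universe u
namespace CategoryTheory
end CategoryTheory
namespace TopologicalSpace
end TopologicalSpace
open CategoryTheory TopologicalSpace
namespace CohTop
end CohTop
open CohTop

namespace Groth.Agent.S15582

/-- Let `π : X → Y` be a continuous map such that every open set containing a fibre `π⁻¹(y)` contains
the preimage of an open neighbourhood of `y`, and such that every fibre is finite with its points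
separated by pairwise disjoint open sets of `X`. Then the direct image of sheaves of sets along `π`
preserves epimorphisms. -/
theorem result
    {X Y : TopCat.{u}} (π : X ⟶ Y)
    (h1 : ∀ (y : Y) (U : Set X), IsOpen U → π ⁻¹' {y} ⊆ U →
      ∃ V : Set Y, IsOpen V ∧ y ∈ V ∧ π ⁻¹' V ⊆ U)
    (h2 : ∀ y : Y, (π ⁻¹' {y}).Finite ∧ ∃ U : X → Set X,
      (∀ x ∈ π ⁻¹' {y}, IsOpen (U x) ∧ x ∈ U x) ∧ (π ⁻¹' {y}).PairwiseDisjoint U) :
    (TopCat.Sheaf.pushforward (Type u) π).PreservesEpimorphisms := by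
  classical
  refine ⟨fun {F G} φ hφ => ?_⟩
  have hloc := (Sheaf.isLocallySurjective_iff_epi' (A := Type u) φ).2 hφ
  refine (Sheaf.isLocallySurjective_iff_epi' (A := Type u) ((TopCat.Sheaf.pushforward (Type u) π).map φ)).1 ⟨fun {V} s => ?_⟩
  intro y hy
  obtain ⟨hfin, D, hD, hdisj⟩ := h2 y
  have hloc' : ∀ x : X, x ∈ π ⁻¹' {y} → ∃ (W : Opens X) (a : W ⟶ (Opens.map π).obj V) (t : F.obj.obj (Opposite.op W)),
      φ.hom.app (Opposite.op W) t = G.obj.map a.op s ∧ x ∈ W := fun x hx => by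
    obtain ⟨W, a, ⟨t, ht⟩, hxW⟩ := hloc.imageSieve_mem (U := (Opens.map π).obj V) s x (show π x ∈ V from (show π x = y from hx) ▸ hy)
    exact ⟨W, a, t, ht, hxW⟩
  choose W a t ht hxW using hloc'
  let U : ↥(π ⁻¹' {y}) → Opens X := fun x => W x.1 x.2 ⊓ ⟨D x.1, (hD x.1 x.2).1⟩
  let sec : ∀ x, F.obj.obj (Opposite.op (U x)) := fun x => F.obj.map (homOfLE inf_le_left).op (t x.1 x.2)
  have hcompat : TopCat.Presheaf.IsCompatible F.obj U sec := fun x x' => by
    by_cases h : x = x'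
    · subst h; rfl
    · have hbot : U x ⊓ U x' = ⊥ := eq_bot_iff.2 fun z hz =>
        (Set.disjoint_left.1 (hdisj x.2 x'.2 fun e => h (Subtype.ext e)) hz.1.2 hz.2.2).elim
      have hsub : Nonempty (Unique (F.obj.obj (Opposite.op (U x ⊓ U x')))) :=
        Groth.Agent.ShSp.subsingleton_sections_bot F _ fun z hz => by rw [hbot] at hz; exact hz
      obtain ⟨u⟩ := hsub
      exact (u.uniq _).trans (u.uniq _).symm
  obtain ⟨g, hg, -⟩ := TopCat.Sheaf.existsUnique_gluing F U sec hcompat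
  obtain ⟨V', hV', hyV', hsub⟩ := h1 y ((iSup U : Opens X) : Set X) (iSup U).isOpen (fun x hx =>
    Opens.mem_iSup.2 ⟨⟨x, hx⟩, hxW x hx, (hD x hx).2⟩)
  let V'' : Opens Y := V ⊓ ⟨V', hV'⟩
  have hle : (Opens.map π).obj V'' ≤ iSup U := fun x hx => hsub hx.2
  refine ⟨V'', homOfLE inf_le_left, ⟨F.obj.map (homOfLE hle).op g, ?_⟩, hy, hyV'⟩
  refine TopCat.Sheaf.eq_of_locally_eq' G (fun x => U x ⊓ (Opens.map π).obj V'') ((Opens.map π).obj V'')
    (fun x => homOfLE inf_le_right) (fun z hz => by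
      obtain ⟨x, hx⟩ := Opens.mem_iSup.1 (hle hz)
      exact Opens.mem_iSup.2 ⟨x, hx, hz⟩) _ _ fun x => ?_
  have e1 : ∀ (A B : Opens X) (i : A ⟶ B) (z : F.obj.obj (Opposite.op B)),
      G.obj.map i.op (φ.hom.app (Opposite.op B) z) = φ.hom.app (Opposite.op A) (F.obj.map i.op z) := fun A B i z =>
    (ConcreteCategory.congr_hom (φ.hom.naturality i.op) z).symm
  have hg' : F.obj.map (homOfLE (inf_le_right : U x ⊓ (Opens.map π).obj V'' ≤ _)).op (F.obj.map (homOfLE hle).op g) =
      F.obj.map (homOfLE (inf_le_left.trans inf_le_left : U x ⊓ (Opens.map π).obj V'' ≤ W x.1 x.2)).op (t x.1 x.2) := by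
    have := congrArg (F.obj.map (homOfLE (inf_le_left : U x ⊓ (Opens.map π).obj V'' ≤ U x)).op) (hg x)
    simp only [sec] at this
    rw [← ConcreteCategory.comp_apply, ← F.obj.map_comp, ← ConcreteCategory.comp_apply (F.obj.map _), ← F.obj.map_comp] at this
    rw [← ConcreteCategory.comp_apply, ← F.obj.map_comp]
    exact this
  refine (e1 _ _ (homOfLE (inf_le_right : U x ⊓ (Opens.map π).obj V'' ≤ _)) _).trans ?_
  rw [hg', ← e1, ht]
  refine ((ConcreteCategory.congr_hom (G.obj.map_comp (a x.1 x.2).op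
    (homOfLE (inf_le_left.trans inf_le_left : U x ⊓ (Opens.map π).obj V'' ≤ W x.1 x.2)).op) s).symm).trans ?_
  refine Eq.trans ?_ (ConcreteCategory.congr_hom (G.obj.map_comp
    ((Opens.map π).map (homOfLE (inf_le_left : V'' ≤ V))).op
    (homOfLE (inf_le_right : U x ⊓ (Opens.map π).obj V'' ≤ _)).op) s)
  exact congrArg (fun m => G.obj.map m s) (Subsingleton.elim _ _)

end Groth.Agent.S15582
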