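import Groth.Statements.S15589
import Groth.Agent.RInvLib.BaseChange

set_option autoImplicit false
universe u v
open scoped TensorProduct
open RInv

namespace Groth.Agent.S15589

/-- Let `R` be a commutative ring with an involution `lam` and fixed ring `S`, `W ⊆ Spec S` the branch
locus (primes `p` with `S_p ⊗_S R` not quadratic etale over `S_p`), `I` its vanishing ideal and `J =
rad(IR)`. Then `Spec(R/J) → Spec(S/I)` is a homeomorphism; if `2` is a unit of `S`, the ring map
`S/I → R/J` is moreover bijective, so the reduced preimage of the branch locus maps isomorphically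
onto it. Affine-local form of the statement for a good quotient of schemes by an involution (the
hypothesis `I ≤ J ∩ S` holds automatically and only serves to write down the map). -/
theorem result (S : Type u) (R : Type v) [CommRing S] [CommRing R]
    [Algebra S R] (lam : R ≃+* R) (hlam : Function.Involutive lam) (hS : RInv.IsFixedRing S R lam)
    (W : Set (PrimeSpectrum S))
    (hW : W = {p : PrimeSpectrum S | ¬ RInv.IsQuadEtale (Localization.AtPrime p.asIdeal) (Localization.AtPrime p.asIdeal ⊗[S] R)})
    (J : Ideal R) (hJ : J = ((PrimeSpectrum.vanishingIdeal W).map (algebraMap S R)).radical)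
    (hIJ : PrimeSpectrum.vanishingIdeal W ≤ J.comap (algebraMap S R)) :
    IsHomeomorph (PrimeSpectrum.comap (Ideal.quotientMap J (algebraMap S R) hIJ)) ∧
      (IsUnit (2 : S) → Function.Bijective (Ideal.quotientMap J (algebraMap S R) hIJ)) := by
  have hint := RInvLib.isIntegral_fixed hlam hS
  set I := PrimeSpectrum.vanishingIdeal W with hI
  set φ := Ideal.quotientMap J (algebraMap S R) hIJ with hφ
  have hcomp : φ.comp (Ideal.Quotient.mk I) = (Ideal.Quotient.mk J).comp (algebraMap S R) := rfl
  have hφint : φ.IsIntegral := by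
    intro x
    obtain ⟨y, rfl⟩ := Ideal.Quotient.mk_surjective x
    obtain ⟨f, hf, hfy⟩ := Algebra.IsIntegral.isIntegral (R := S) y
    refine ⟨f.map (Ideal.Quotient.mk I), hf.map _, ?_⟩
    rw [Polynomial.eval₂_map, hcomp, ← Polynomial.hom_eval₂, hfy, map_zero]
  have hlift : ∀ p : Ideal S, p.IsPrime → I ≤ p →
      ∃ q : Ideal R, q.IsPrime ∧ q.comap (algebraMap S R) = p ∧ J ≤ q := by
    intro p hp hle
    obtain ⟨q, hq, hqp⟩ := RInvLib.exists_prime_over hlam hS p
    refine ⟨q, hq, hqp, ?_⟩
    rw [hJ, Ideal.IsPrime.radical_le_iff hq, Ideal.map_le_iff_le_comap, hqp]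
    exact hle
  have hsurj : Function.Surjective (PrimeSpectrum.comap φ) := by
    intro p
    obtain ⟨q, hq, hqp, hJq⟩ := hlift (p.asIdeal.comap (Ideal.Quotient.mk I)) inferInstance
      (fun x hx => by rw [Ideal.mem_comap, Ideal.Quotient.eq_zero_iff_mem.2 hx]; exact zero_mem _)
    have hq' : (q.map (Ideal.Quotient.mk J)).IsPrime :=
      Ideal.map_isPrime_of_surjective Ideal.Quotient.mk_surjective (by rwa [Ideal.mk_ker])
    refine ⟨⟨_, hq'⟩, PrimeSpectrum.ext (Ideal.comap_injective_of_surjective _
      Ideal.Quotient.mk_surjective ?_)⟩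
    rw [PrimeSpectrum.comap_asIdeal, Ideal.comap_comap, hcomp, ← Ideal.comap_comap,
      Ideal.comap_map_of_surjective _ Ideal.Quotient.mk_surjective, ← RingHom.ker_eq_comap_bot,
      Ideal.mk_ker, sup_eq_left.2 hJq, hqp]
  have hinj : Function.Injective (PrimeSpectrum.comap φ) := by
    intro a b hab
    have h1 := congrArg (fun t : PrimeSpectrum (S ⧸ I) => t.asIdeal.comap (Ideal.Quotient.mk I)) hab
    simp only [PrimeSpectrum.comap_asIdeal, Ideal.comap_comap, hcomp] at h1
    simp only [← Ideal.comap_comap] at h1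
    refine PrimeSpectrum.ext (Ideal.comap_injective_of_surjective _ Ideal.Quotient.mk_surjective ?_)
    refine RInvLib.unique_over_branch hlam hS _ _ (fun r => ?_) h1
    refine RInvLib.diff_mem_of_le hlam hS W hW _ (fun x hx => ?_) r
    rw [Ideal.mem_comap, Ideal.mem_comap,
      Ideal.Quotient.eq_zero_iff_mem.2 (show algebraMap S R x ∈ J from hIJ hx)]
    exact zero_mem _
  refine ⟨isHomeomorph_iff_continuous_isClosedMap_bijective.2
    ⟨PrimeSpectrum.continuous_comap φ, PrimeSpectrum.isClosedMap_comap_of_isIntegral φ hφint,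
      hinj, hsurj⟩, fun h2 => ⟨?_, ?_⟩⟩
  · rw [injective_iff_map_eq_zero]
    intro x hx
    obtain ⟨s, rfl⟩ := Ideal.Quotient.mk_surjective x
    rw [hφ, Ideal.quotientMap_mk, Ideal.Quotient.eq_zero_iff_mem] at hx
    rw [Ideal.Quotient.eq_zero_iff_mem]
    refine (PrimeSpectrum.mem_vanishingIdeal _ s).2 ?_
    intro p hp
    obtain ⟨q, hq, hqp, hJq⟩ := hlift p.asIdeal p.isPrime
      (fun y hy => (PrimeSpectrum.mem_vanishingIdeal _ y).1 hy p hp)
    rw [← hqp]
    exact hJq hx
  · intro x
    obtain ⟨y, rfl⟩ := Ideal.Quotient.mk_surjective x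
    obtain ⟨c, hc⟩ := h2.exists_left_inv
    have hc' : algebraMap S R c * 2 = 1 := by
      rw [← map_ofNat (algebraMap S R) 2, ← map_mul, hc, map_one]
    obtain ⟨s, hs⟩ := (hS.2 (algebraMap S R c * (y + lam y))).1 (by
      rw [map_mul, RInvLib.lam_algebraMap hS, map_add, hlam y, add_comm (lam y)])
    refine ⟨Ideal.Quotient.mk I s, ?_⟩
    rw [hφ, Ideal.quotientMap_mk, Ideal.Quotient.eq, hs,
      show algebraMap S R c * (y + lam y) - y = algebraMap S R c * (lam y - y) by
        linear_combination y * hc']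
    refine J.mul_mem_left _ ?_
    rw [hJ, Ideal.radical_eq_sInf, Submodule.mem_sInf]
    intro P hP
    obtain ⟨hle, hPp⟩ := hP
    haveI := hPp
    exact RInvLib.diff_mem_of_le hlam hS W hW P (Ideal.map_le_iff_le_comap.1 hle) y

end Groth.Agent.S15589
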