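import Groth.Statements.S15590
import Groth.Agent.CommAlg4.FiniteAlgClosed
import Groth.Agent.S15706
import Mathlib.Algebra.Azumaya.Basic
import Mathlib.Algebra.DualNumber
import Mathlib.Algebra.Module.StablyFree.Basic
import Mathlib.NumberTheory.Padics.PadicIntegers
import Mathlib.RingTheory.Etale.StandardEtale
import Mathlib.RingTheory.WittVector.Domain
import Mathlib.RingTheory.WittVector.Teichmuller
import Mathlib.Tactic
import Groth.Agent.CommAlg4.FiniteAlgClosed
import Groth.Agent.S15706

set_option linter.all false

set_option autoImplicit false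
universe u v
open CAlg

open Groth.Agent.CommAlg4

namespace Groth.Agent.S15590

/-- Let A → B be an injective homomorphism of commutative rings which makes B a finite flat A-module,
and suppose B is a Dedekind domain (Noetherian, integrally closed, of Krull dimension at most one; a
field is allowed). Then A is a Dedekind domain. -/
theorem result (A : Type u) (B : Type v)
    [CommRing A] [CommRing B] [Algebra A B] [IsDedekindDomain B]
    (hinj : Function.Injective (algebraMap A B)) [Module.Finite A B] [Module.Flat A B] :
    IsDedekindDomain A := by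
  haveI : IsDomain A := hinj.isDomain _
  haveI : FaithfulSMul A B := (faithfulSMul_iff_algebraMap_injective A B).mpr hinj
  haveI : Module.FaithfullyFlat A B := by
    apply Module.FaithfullyFlat.of_comap_surjective
    intro p
    obtain ⟨Q, hQ⟩ := Algebra.IsIntegral.comap_surjective A B p
    exact ⟨Q, hQ⟩
  haveI hnoeth : IsNoetherianRing A := by
    have hB : IsNoetherianRing B := inferInstance
    rw [isNoetherianRing_iff, isNoetherian_iff'] at hB ⊢
    exact StrictMono.wellFoundedGT (α := Ideal A) (β := Ideal B) (f := Ideal.map (algebraMap A B))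
      ((Ideal.gc_map_comap (algebraMap A B)).monotone_l.strictMono_of_injective Ideal.map_injective_of_faithfullyFlat)
  haveI : Ring.DimensionLEOne A := ⟨fun {P} hP hPp => by
    obtain ⟨⟨Q, hQp⟩, hQ⟩ := Algebra.IsIntegral.comap_surjective A B ⟨P, hPp⟩
    have hQP : Q.comap (algebraMap A B) = P := congrArg PrimeSpectrum.asIdeal hQ
    have hQ0 : Q ≠ ⊥ := fun h => hP (by rw [← hQP, h]; exact Ideal.comap_bot_of_injective _ hinj)
    haveI := Ring.DimensionLEOne.maximalOfPrime hQ0 hQp
    rw [← hQP]
    exact Ideal.isMaximal_comap_of_isIntegral_of_isMaximal Q⟩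
  haveI : IsIntegrallyClosed A := by
    rw [isIntegrallyClosed_iff (FractionRing A)]
    intro x hx
    obtain ⟨a, b, hb, rfl⟩ := IsFractionRing.div_surjective (A := A) x
    let φ : FractionRing A →ₐ[A] FractionRing B := IsFractionRing.liftAlgHom (g := Algebra.ofId A (FractionRing B))
      (show Function.Injective (algebraMap A (FractionRing B)) by
        rw [IsScalarTower.algebraMap_eq A B (FractionRing B), RingHom.coe_comp]
        exact (IsFractionRing.injective B (FractionRing B)).comp hinj)
    have h2 : IsIntegral B (φ (algebraMap A _ a / algebraMap A _ b)) := (hx.map φ).tower_top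
    obtain ⟨c, hc⟩ := IsIntegrallyClosed.algebraMap_eq_of_integral h2
    rw [map_div₀, AlgHom.commutes, AlgHom.commutes, IsScalarTower.algebraMap_apply A B (FractionRing B), IsScalarTower.algebraMap_apply A B (FractionRing B)] at hc
    have hb0 : b ≠ 0 := nonZeroDivisors.ne_zero hb
    have hbB : algebraMap B (FractionRing B) (algebraMap A B b) ≠ 0 :=
      ((map_ne_zero_iff _ (IsFractionRing.injective B (FractionRing B))).mpr ((map_ne_zero_iff _ hinj).mpr hb0))
    rw [eq_div_iff hbB, ← map_mul] at hc
    have hc' := IsFractionRing.injective B (FractionRing B) hc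
    have hmem : a ∈ ((Ideal.span {b}).map (algebraMap A B)).comap (algebraMap A B) := by
      rw [Ideal.mem_comap, ← hc']
      exact Ideal.mul_mem_left _ c (Ideal.mem_map_of_mem _ (Ideal.mem_span_singleton_self b))
    rw [Ideal.comap_map_eq_self_of_faithfullyFlat, Ideal.mem_span_singleton] at hmem
    obtain ⟨y, rfl⟩ := hmem
    refine ⟨y, ?_⟩
    rw [map_mul, mul_div_cancel_left₀ _ ((map_ne_zero_iff _ (IsFractionRing.injective A (FractionRing A))).mpr hb0)]
  exact {}

end Groth.Agent.S15590
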