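import Groth.Statements.S15594
import Groth.Agent.RatPts.Basic

set_option autoImplicit false
universe u
open TensorProduct
open AGF

namespace Groth.Agent.S15594

/-- Affine form. Let k ⊆ K be a field extension, A a commutative k-algebra and S a set of k-algebra
homomorphisms A → k (rational points of Spec A). The ideal ⋂_{σ ∈ S} ker σ cuts out the Zariski
closure of S with its reduced structure, and its extension to K ⊗_k A equals ⋂_{σ ∈ S} ker σ_K,
where σ_K : K ⊗_k A → K is the K-algebra map induced by σ. In words: the closure of a set of
rational points is formed compatibly with extension of the ground field. (The published statement is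
for schemes locally of finite type; this affine row assumes no finiteness, which the argument does
not use.) -/
theorem result (k K A : Type u) [Field k] [Field K] [Algebra k K]
    [CommRing A] [Algebra k A] (S : Set (A →ₐ[k] k)) :
    Ideal.map (Algebra.TensorProduct.includeRight : A →ₐ[k] K ⊗[k] A) (⨅ σ ∈ S, RingHom.ker σ) =
      ⨅ σ ∈ S, RingHom.ker ((Algebra.TensorProduct.rid k K K).toAlgHom.comp
        (Algebra.TensorProduct.map (AlgHom.id K K) σ)) := by
  open Groth.Agent.RatPts TensorProduct in
  set I : Ideal A := ⨅ σ ∈ S, RingHom.ker σ with hI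
  refine le_antisymm (Ideal.map_le_iff_le_comap.2 fun a ha => ?_) fun x hx => ?_
  · simp only [hI, Submodule.mem_iInf, RingHom.mem_ker] at ha
    simp only [Ideal.mem_comap, Submodule.mem_iInf, RingHom.mem_ker]
    intro σ hσ; simp [ha σ hσ]
  · simp only [Submodule.mem_iInf, RingHom.mem_ker] at hx
    let τ : S → (A ⧸ I) →ₐ[k] k := fun σ => Ideal.Quotient.liftₐ I σ.1 fun a ha => by
      simp only [hI, Submodule.mem_iInf, RingHom.mem_ker] at ha
      exact ha σ.1 σ.2
    have hinj : Function.Injective (evalPts τ) := by
      rw [injective_iff_map_eq_zero]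
      intro a ha
      obtain ⟨a, rfl⟩ := Ideal.Quotient.mk_surjective a
      rw [Ideal.Quotient.eq_zero_iff_mem]
      simp only [hI, Submodule.mem_iInf, RingHom.mem_ker]
      intro σ hσ; exact congrFun ha ⟨σ, hσ⟩
    have h0 : Algebra.TensorProduct.map (AlgHom.id k K) (Ideal.Quotient.mkₐ k I) x = 0 := by
      refine injective_baseChange K τ hinj _ fun s => ?_
      rw [← hx s.1 s.2]
      clear hx
      induction x using TensorProduct.induction_on with
      | zero => simp
      | tmul a f => rfl
      | add a c ha hc => simp only [map_add, ha, hc]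
    have h1 : x ∈ RingHom.ker (Algebra.TensorProduct.map (AlgHom.id k K) (Ideal.Quotient.mkₐ k I)) := h0
    rw [Algebra.TensorProduct.map_ker _ _ Function.surjective_id (Ideal.Quotient.mkₐ_surjective k I),
      (RingHom.injective_iff_ker_eq_bot (AlgHom.id k K).toRingHom).1 Function.injective_id |> fun h => show
        RingHom.ker (AlgHom.id k K) = ⊥ from h, Ideal.map_bot, bot_sup_eq,
      show RingHom.ker (Ideal.Quotient.mkₐ k I) = I from Ideal.Quotient.mkₐ_ker k I] at h1
    exact h1

end Groth.Agent.S15594
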