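import Groth.Statements.S15595
import Groth.Agent.CAlgH.RegularHom
import Groth.Agent.CAlgH3.RegularHom
-- import your own Groth.Agent.* helpers here

set_option autoImplicit false
universe u
open TensorProduct
attribute [local instance] RingHom.ker_isPrime
open CAlg

namespace Groth.Agent.S15595

/-- Let k ⊆ K be a field extension and A a Noetherian local k-algebra with residue field k, recorded by
a k-algebra map π : A → k whose kernel is the maximal ideal. Let π_K : K ⊗_k A → K be the induced
K-algebra map, m' its kernel, and A' the localization of K ⊗_k A at m'. Assume A' is Noetherian.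
Then A is a regular local ring if and only if A' is a regular local ring. -/
theorem result (k K A : Type u) [Field k] [Field K]
    [Algebra k K] [CommRing A] [Algebra k A] [IsLocalRing A] [IsNoetherianRing A]
    (π : A →ₐ[k] k) (hπ : RingHom.ker π = IsLocalRing.maximalIdeal A)
    [IsNoetherianRing (Localization.AtPrime (RingHom.ker
      ((Algebra.TensorProduct.rid k K K).toAlgHom.comp (Algebra.TensorProduct.map (AlgHom.id K K) π))))] :
    IsRegularLocalRing A ↔ IsRegularLocalRing (Localization.AtPrime (RingHom.ker
      ((Algebra.TensorProduct.rid k K K).toAlgHom.comp (Algebra.TensorProduct.map (AlgHom.id K K) π)))) := by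
  classical
  letI : Algebra A (K ⊗[k] A) := Algebra.TensorProduct.rightAlgebra
  let φ : K ⊗[k] A →ₐ[K] K :=
    (Algebra.TensorProduct.rid k K K).toAlgHom.comp (Algebra.TensorProduct.map (AlgHom.id K K) π)
  let P : Ideal (K ⊗[k] A) := RingHom.ker φ
  haveI : P.IsPrime := RingHom.ker_isPrime φ
  let B := Localization.AtPrime P
  haveI : IsScalarTower A (K ⊗[k] A) B := inferInstance
  have hinc : ∀ a : A, algebraMap A (K ⊗[k] A) a = (1 : K) ⊗ₜ[k] a := fun a => rfl
  have hφ : ∀ (c : K) (a : A), φ (c ⊗ₜ a) = π a • c := fun c a => by simp [φ]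
  have hP : P = (IsLocalRing.maximalIdeal A).map (algebraMap A (K ⊗[k] A)) := by
    refine le_antisymm (fun x hx => ?_) (Ideal.map_le_iff_le_comap.mpr fun a ha => ?_)
    · have key : ∀ y : K ⊗[k] A, y - (φ y) ⊗ₜ[k] (1 : A) ∈ (IsLocalRing.maximalIdeal A).map (algebraMap A (K ⊗[k] A)) := by
        intro y
        induction y using TensorProduct.induction_on with
        | zero => simp
        | tmul c a =>
          have ha : a - algebraMap k A (π a) ∈ IsLocalRing.maximalIdeal A := by
            rw [← hπ, RingHom.mem_ker]; simp
          have : c ⊗ₜ[k] a - φ (c ⊗ₜ a) ⊗ₜ[k] (1 : A) = (c ⊗ₜ[k] (1 : A)) * algebraMap A (K ⊗[k] A) (a - algebraMap k A (π a)) := by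
            rw [hinc, Algebra.TensorProduct.tmul_mul_tmul, mul_one, one_mul, TensorProduct.tmul_sub, hφ,
              TensorProduct.smul_tmul, Algebra.algebraMap_eq_smul_one]
          rw [this]
          exact Ideal.mul_mem_left _ _ (Ideal.mem_map_of_mem _ ha)
        | add y z hy hz =>
          rw [map_add, TensorProduct.add_tmul, add_sub_add_comm]
          exact Ideal.add_mem _ hy hz
      have := key x
      rwa [show φ x = 0 from hx, TensorProduct.zero_tmul, sub_zero] at this
    · rw [← hπ, RingHom.mem_ker] at ha
      show φ (algebraMap A (K ⊗[k] A) a) = 0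
      rw [hinc, hφ, ha, zero_smul]
  haveI : IsLocalHom (algebraMap A B) := ⟨fun a ha => by
    by_contra hu
    have h1 : algebraMap A (K ⊗[k] A) a ∈ P := by
      rw [hP]; exact Ideal.mem_map_of_mem _ hu
    rw [IsScalarTower.algebraMap_apply A (K ⊗[k] A) B] at ha
    exact (IsLocalization.AtPrime.isUnit_to_map_iff B P _).mp ha h1⟩
  haveI : Module.Flat A (K ⊗[k] A) := by
    have : Module.Flat A (A ⊗[k] K) := inferInstance
    exact Module.Flat.of_linearEquiv (Algebra.TensorProduct.commRight k A K).symm.toLinearEquiv
  haveI : Module.Flat (K ⊗[k] A) B := IsLocalization.flat B P.primeCompl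
  haveI : Module.Flat A B := Module.Flat.trans A (K ⊗[k] A) B
  haveI : IsNoetherianRing B := ‹IsNoetherianRing (Localization.AtPrime (RingHom.ker
      ((Algebra.TensorProduct.rid k K K).toAlgHom.comp (Algebra.TensorProduct.map (AlgHom.id K K) π))))›
  have hm : (IsLocalRing.maximalIdeal A).map (algebraMap A B) = IsLocalRing.maximalIdeal B := by
    rw [IsScalarTower.algebraMap_eq A (K ⊗[k] A) B, ← Ideal.map_map, ← hP]
    exact Localization.AtPrime.map_eq_maximalIdeal
  show IsRegularLocalRing A ↔ IsRegularLocalRing B
  constructor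
  · intro hA
    haveI : IsRegularLocalRing (B ⧸ (IsLocalRing.maximalIdeal A).map (algebraMap A B)) := by
      rw [hm]
      letI := Ideal.Quotient.field (IsLocalRing.maximalIdeal B)
      infer_instance
    exact CAlgH.isRegularLocalRing_of_flat_fibre (A := A) (B := B)
  · intro hB
    exact CAlgH3.isRegularLocalRing_of_flat (R := A) B

end Groth.Agent.S15595
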