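import Groth.Statements.S15596
import Mathlib.AlgebraicGeometry.AlgClosed.Basic
import Mathlib.CategoryTheory.Monoidal.Cartesian.Over

set_option backward.isDefEq.respectTransparency.types false

set_option autoImplicit false
universe u
open CategoryTheory MonoidalCategory CartesianMonoidalCategory MonObj GrpObj AlgebraicGeometry
open AlgGrp

namespace Groth.Agent.S15596

/-- Let k be an algebraically closed field, H a smooth k-group scheme of finite type, and U a dense open
subset of H. Then every k-rational point h of H is of the form u₂ · u₁⁻¹ for k-rational points u₁,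
u₂ of H whose underlying points lie in U. -/
theorem result (k : Type u) [Field k] [IsAlgClosed k]
    (H : Over (Spec (CommRingCat.of k))) [GrpObj H] [Smooth H.hom] [QuasiCompact H.hom]
    (U : H.left.Opens) (hU : Dense (U : Set ↥H.left)) (h : 𝟙_ (Over (Spec (CommRingCat.of k))) ⟶ H) :
    ∃ u₁ u₂ : 𝟙_ (Over (Spec (CommRingCat.of k))) ⟶ H,
      u₁.left.base (IsLocalRing.closedPoint k) ∈ U ∧ u₂.left.base (IsLocalRing.closedPoint k) ∈ U ∧
        h = u₂ * u₁⁻¹ := by
  haveI : LocallyOfFiniteType H.hom := inferInstance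
  haveI : JacobsonSpace ↥H.left := LocallyOfFiniteType.jacobsonSpace H.hom
  let L : H ⟶ H := (toUnit H ≫ h) * 𝟙 H
  let L' : H ⟶ H := (toUnit H ≫ h)⁻¹ * 𝟙 H
  have hLL : L' ≫ L = 𝟙 H := by
    show L' ≫ ((toUnit H ≫ h) * 𝟙 H) = 𝟙 H
    rw [MonObj.comp_mul, Category.comp_id, ← Category.assoc, toUnit_unique (L' ≫ toUnit H) (toUnit H)]
    exact mul_inv_cancel_left _ _
  obtain ⟨p, hp⟩ : (U : Set ↥H.left).Nonempty := by
    obtain ⟨x, -, hx⟩ := hU.inter_open_nonempty _ isOpen_univ ⟨(η[H]).left.base (IsLocalRing.closedPoint k), trivial⟩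
    exact ⟨x, hx⟩
  have hne : ((L.left ⁻¹ᵁ U : H.left.Opens) : Set ↥H.left).Nonempty :=
    ⟨L'.left.base p, by
      show (L'.left ≫ L.left).base p ∈ U
      rw [show L'.left ≫ L.left = 𝟙 _ from congrArg CommaMorphism.left hLL]
      exact hp⟩
  obtain ⟨x, hx, hxU⟩ := hU.inter_open_nonempty _ (L.left ⁻¹ᵁ U).isOpen hne
  obtain ⟨y, ⟨hy1, hy2⟩, hy3⟩ := nonempty_inter_closedPoints (Z := ((L.left ⁻¹ᵁ U : H.left.Opens) : Set ↥H.left) ∩ U)
    ⟨x, hx, hxU⟩ ((L.left ⁻¹ᵁ U).isOpen.inter U.isOpen).isLocallyClosed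
  let u : 𝟙_ (Over (Spec (CommRingCat.of k))) ⟶ H :=
    Over.homMk (pointOfClosedPoint H.hom y hy3) (pointOfClosedPoint_comp H.hom y hy3)
  have hu : u.left.base (IsLocalRing.closedPoint k) = y := pointOfClosedPoint_apply H.hom y hy3 _
  refine ⟨u, u ≫ L, ?_, ?_, ?_⟩
  · rw [hu]; exact hy2
  · show L.left.base (u.left.base _) ∈ U
    rw [hu]; exact hy1
  · show h = (u ≫ ((toUnit H ≫ h) * 𝟙 H)) * u⁻¹
    rw [MonObj.comp_mul, Category.comp_id, ← Category.assoc, toUnit_unique (u ≫ toUnit H) (𝟙 _), Category.id_comp,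
      mul_inv_cancel_right]

end Groth.Agent.S15596
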