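import Groth.Statements.S15597
import Groth.Agent.S8061
import Groth.Agent.HopfQuot.SchemeQuot
import Groth.Agent.HopfLib.Transport
import Groth.Agent.HopfLib.UnipotentPoints
import Groth.Agent.HopfLib.ComodSubcoalg
import Groth.Agent.HopfLib.GroupLikeLift
import Groth.Agent.HopfLib.LieKolchinComod
import Groth.Agent.HopfOneDim.BaseChange
import Groth.Agent.AlgGrpLib.NoTorusScheme
import Groth.Agent.AlgGrpLib.TorusUnipotent
import Groth.Agent.HMTor29.Torus
import Mathlib.LinearAlgebra.Semisimple

set_option backward.isDefEq.respectTransparency.types false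
set_option linter.style.haveILetI false
set_option maxHeartbeats 1000000
-- import your own Groth.Agent.* helpers here

set_option autoImplicit false
universe u v w
open HopfRep

namespace Groth.Agent.S15597

open Groth.Agent Groth.Agent.HopfLib HopfRep CategoryTheory AlgebraicGeometry in
theorem actEqHit11 {k : Type u} [CommRing k] {A : Type v} [CommRing A] [Bialgebra k A] {V : Type w} [AddCommGroup V]
    [Module k V] [Comod k A V] (g : A →ₐ[k] k) (v : V) : Comod.act k A V g v = hit g.toLinearMap v := by
  simp only [Comod.act, hit_apply, LinearMap.comp_apply, LinearEquiv.coe_coe]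
  generalize Comod.coact (k := k) (A := A) v = t
  induction t using TensorProduct.induction_on with
  | zero => simp
  | add p q hp hq => simp only [map_add, hp, hq]
  | tmul a b => simp

open Groth.Agent Groth.Agent.HopfLib HopfRep in
theorem point_eq_counit {k : Type u} [Field k] {A : Type v} [CommRing A] [HopfAlgebra k A]
    {A' : Type u} [CommRing A'] [HopfAlgebra k A'] (e : A' ≃ₐ[k] A)
    (hcm : ∀ b, Algebra.TensorProduct.map e.toAlgHom e.toAlgHom (CoalgebraStruct.comul (R := k) b) =
      CoalgebraStruct.comul (R := k) (e b))
    {B : Type u} [CommRing B] [Bialgebra k B] (hB : IsUnipotent k B) (π : A' →ₐc[k] B)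
    (hss : ∀ (g : A →ₐ[k] k) (V : Type v) [AddCommGroup V] [Module k V] [Comod k A V],
      Module.Finite k V → Module.End.IsSemisimple (Comod.act k A V g))
    (g : B →ₐ[k] k) (x : A) : g (π (e.symm x)) = CoalgebraStruct.counit (R := k) x := by
  let gA' : A' →ₐ[k] k := g.comp (π : A' →ₐ[k] B)
  let gA : A →ₐ[k] k := gA'.comp e.symm.toAlgHom
  have hcomm : ∀ y : A', hit (V := A) gA.toLinearMap (e y) = e (hit (V := A') gA'.toLinearMap y) := fun y => by
    rw [hit_apply, hit_apply]
    show sliceR gA.toLinearMap (CoalgebraStruct.comul (R := k) (e y)) = e (sliceR gA'.toLinearMap (CoalgebraStruct.comul (R := k) y))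
    rw [← hcm]
    generalize CoalgebraStruct.comul (R := k) y = t
    induction t using TensorProduct.induction_on with
    | zero => simp
    | add p q hp hq => simp only [map_add, hp, hq]
    | tmul p q => simp [gA, gA']
  let L : Module.End k A := hit (V := A) gA.toLinearMap - 1
  let L' : Module.End k A' := hit (V := A') gA'.toLinearMap - 1
  have hLe : ∀ (n : ℕ) (y : A'), (L ^ n) (e y) = e ((L' ^ n) y) := by
    intro n
    induction n with
    | zero => simp
    | succ n ih =>
      intro y
      have h1 : L (e y) = e (L' y) := by
        simp only [L, L', LinearMap.sub_apply, Module.End.one_apply, hcomm, map_sub]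
      rw [pow_succ, pow_succ, Module.End.mul_apply, Module.End.mul_apply, h1, ih]
  have hnil : ∀ y : A, ∃ n : ℕ, (L ^ n) y = 0 := fun y => by
    let y' := e.symm y
    let W := orbit k A' (V := A') y'
    have hW : IsSubcomod (k := k) (A := A') W := isSubcomod_orbit y'
    haveI : Module.Finite k W := finite_orbit y'
    let cA := ComodSub.Comod.restr (inferInstance : Comod k A' A') W hW
    let cB := comodMap (π : A' →ₗc[k] B) cA
    obtain ⟨n, hn⟩ := @isNilpotent_act_sub_one k _ B _ _ W _ _ cB inferInstance hB g
    have key : ∀ (m : ℕ) (w : W), ((((@Comod.act k B _ _ _ W _ _ cB g - 1) ^ m) w : W) : A') = (L' ^ m) (w : A') := by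
      intro m
      induction m with
      | zero => simp
      | succ m ih =>
        intro w
        rw [pow_succ, pow_succ, Module.End.mul_apply, Module.End.mul_apply, ih]
        congr 1
        simp only [LinearMap.sub_apply, Module.End.one_apply, AddSubgroupClass.coe_sub, L']
        congr 1
        rw [@actEqHit11 k _ B _ _ W _ _ cB g w, @hit_comodMap k _ A' _ _ _ B _ _ _ W _ _ (π : A' →ₗc[k] B) cA g.toLinearMap w]
        exact hit_restr hW _ w
    refine ⟨n, ?_⟩
    have h0 := key n ⟨y', mem_orbit_self y'⟩
    rw [hn] at h0
    rw [← e.apply_symm_apply y, hLe, ← show (L' ^ n) y' = _ from rfl, ← h0]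
    simp
  have hfix : hit (V := A) gA.toLinearMap x = x := by
    let W := orbit k A (V := A) x
    have hW : IsSubcomod (k := k) (A := A) W := isSubcomod_orbit x
    haveI : Module.Finite k W := finite_orbit x
    let cA := ComodSub.Comod.restr (inferInstance : Comod k A A) W hW
    have hs := @hss gA W _ _ cA inferInstance
    let f : Module.End k W := @Comod.act k A _ _ _ W _ _ cA gA
    have key : ∀ (m : ℕ) (w : W), ((((f - 1) ^ m) w : W) : A) = (L ^ m) (w : A) := by
      intro m
      induction m with
      | zero => simp
      | succ m ih =>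
        intro w
        rw [pow_succ, pow_succ, Module.End.mul_apply, Module.End.mul_apply, ih]
        congr 1
        simp only [LinearMap.sub_apply, Module.End.one_apply, AddSubgroupClass.coe_sub, L]
        congr 1
        rw [show f w = _ from @actEqHit11 k _ A _ _ W _ _ cA gA w]
        exact hit_restr hW _ w
    have hnil' : IsNilpotent (f - 1) := by
      obtain ⟨s, hs'⟩ := (inferInstance : Module.Finite k W).fg_top
      choose n hn using fun w : W => hnil (w : A)
      refine ⟨s.sup n, LinearMap.ext_on hs' fun w hw => ?_⟩
      apply Subtype.ext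
      obtain ⟨d, hd⟩ := Nat.exists_eq_add_of_le' (Finset.le_sup (f := n) (Finset.mem_coe.1 hw))
      rw [key, hd, pow_add, Module.End.mul_apply, hn]
      simp
    have h1 : f - 1 = 0 := Module.End.eq_zero_of_isNilpotent_isSemisimple hnil' (by
      rw [← map_one (algebraMap k (Module.End k W))]
      exact Module.End.isSemisimple_sub_algebraMap_iff.2 hs)
    have h2 := key 1 ⟨x, mem_orbit_self x⟩
    rw [pow_one, pow_one, h1, LinearMap.zero_apply, Submodule.coe_zero] at h2
    exact sub_eq_zero.1 h2.symm
  have h3 := counit_hit gA.toLinearMap x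
  rw [hfix] at h3
  exact h3.symm


open CategoryTheory AlgebraicGeometry in
/-- Let k be an algebraically closed field and G = Spec A a smooth connected affine k-group, that is, A
is a finitely generated commutative Hopf algebra over k which is reduced and has no idempotents
other than 0 and 1; commutativity of G is not assumed. If every k-point of G is semisimple, in the
sense that it acts semisimply in every finite-dimensional A-comodule, then G is a torus: A is
spanned over k by its group-like elements. (The published statement is over an arbitrary field, with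
the hypothesis on the points over an algebraic closure; this row is the algebraically closed case.) -/
theorem result (k : Type u) (A : Type v) [Field k]
    [IsAlgClosed k] [CommRing A] [HopfAlgebra k A] [Algebra.FiniteType k A] [IsReduced A]
    (hconn : ∀ e : A, IsIdempotentElem e → e = 0 ∨ e = 1)
    (hss : ∀ (g : A →ₐ[k] k) (V : Type v) [AddCommGroup V] [Module k V] [HopfRep.Comod k A V],
      Module.Finite k V → Module.End.IsSemisimple (HopfRep.Comod.act k A V g)) :
    HopfRep.IsDiagonalizable k A := by
  classical
  obtain ⟨A', _, _, e, hcu, hcm⟩ := Groth.Agent.HopfLib.exists_small_model (k := k) A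
  haveI : Algebra.FiniteType k A' := Algebra.FiniteType.equiv ‹Algebra.FiniteType k A› e.symm
  haveI : IsReduced A' := isReduced_of_injective e.toRingEquiv.toRingHom e.injective
  haveI : Nontrivial A' := (Bialgebra.counitAlgHom k A').toRingHom.domain_nontrivial
  haveI : ConnectedSpace (PrimeSpectrum A') := Groth.Agent.HopfOneDim.connectedSpace_of_idempotent fun x hx => by
    rcases hconn (e x) (by rw [IsIdempotentElem, ← map_mul, hx.eq]) with h | h
    · exact Or.inl (e.map_eq_zero_iff.1 h)
    · exact Or.inr (e.injective (h.trans (map_one e).symm))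
  let G := Groth.Agent.HopfQuot.spec (k := k) A'
  haveI : IsAffine G.left := inferInstanceAs (IsAffine (Spec (CommRingCat.of A')))
  haveI : LocallyOfFiniteType G.hom := (HasRingHomProperty.Spec_iff (P := @LocallyOfFiniteType)
      (φ := CommRingCat.ofHom (algebraMap k A'))).2 (RingHom.finiteType_algebraMap.2 inferInstance)
  haveI : AlgebraicGeometry.IsReduced G.left := (affine_isReduced_iff (CommRingCat.of A')).2 inferInstance
  haveI : ConnectedSpace G.left := inferInstanceAs (ConnectedSpace (PrimeSpectrum A'))
  haveI : GeometricallyReduced G.hom := Groth.Agent.AbVarLib.geometricallyReduced_of_perfectField G.hom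
  haveI : Smooth G.hom := Groth.Agent.AbVarLib.smooth_of_geometricallyReduced G
  have hT : Red.IsTorus G := Groth.Agent.S8061.result k G fun U _ i _ hic hUs hUc hU => by
    haveI := hic; haveI := hUs; haveI := hUc
    haveI : IsAffine U.left := isAffine_of_isAffineHom i.left
    obtain ⟨B, _, _, e', he', hem'⟩ := Groth.Agent.HopfQuot.exists_spec (k := k) U
    haveI := he'; haveI := hem'
    haveI : IsIso e'.left := inferInstanceAs (IsIso ((Over.forget _).map e'))
    haveI : LocallyOfFiniteType (Groth.Agent.HopfQuot.spec (k := k) B).hom := by rw [← Over.w e']; infer_instance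
    haveI : Algebra.FiniteType k B :=
      RingHom.finiteType_algebraMap.1 ((HasRingHomProperty.Spec_iff (P := @LocallyOfFiniteType)
        (φ := CommRingCat.ofHom (algebraMap k B))).1 ‹LocallyOfFiniteType (Groth.Agent.HopfQuot.spec (k := k) B).hom›)
    haveI : AlgebraicGeometry.IsReduced U.left := Groth.Agent.AbSchLib.isReduced_of_smooth U.hom
    haveI : AlgebraicGeometry.IsReduced (Groth.Agent.HopfQuot.spec (k := k) B).left := isReduced_of_isOpenImmersion e'.left
    haveI : IsReduced B := (affine_isReduced_iff (CommRingCat.of B)).1 ‹AlgebraicGeometry.IsReduced (Groth.Agent.HopfQuot.spec (k := k) B).left›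
    have hBu := Groth.Agent.AlgGrpLib.NoTorus.isUnipotent_of_hasNoSubtorus hU e'
    obtain ⟨π, hπj⟩ := Groth.Agent.HopfQuot.exists_specHom (k := k) (A := A') (B := B) (e' ≫ i)
    haveI hci : IsClosedImmersion (Spec.map (CommRingCat.ofHom (π : A' →+* B))) := by
      rw [← Groth.Agent.HopfQuot.specHom_left, hπj, Over.comp_left]
      exact MorphismProperty.comp_mem @IsClosedImmersion _ _ (inferInstanceAs (IsClosedImmersion e'.left)) ‹IsClosedImmersion i.left›
    have hπ : Function.Surjective π := by
      have h := Scheme.Hom.app_surjective (Spec.map (CommRingCat.ofHom (π : A' →+* B))) ⊤ (isAffineOpen_top _)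
      have e0 := Scheme.ΓSpecIso_inv_naturality (CommRingCat.ofHom (π : A' →+* B))
      intro y
      obtain ⟨z, hz⟩ := h ((Scheme.ΓSpecIso (CommRingCat.of B)).inv y)
      obtain ⟨x, rfl⟩ := (ConcreteCategory.bijective_of_isIso (Scheme.ΓSpecIso (CommRingCat.of A')).inv).2 z
      exact ⟨x, (ConcreteCategory.bijective_of_isIso (Scheme.ΓSpecIso (CommRingCat.of B)).inv).1
        ((congrArg (fun f => f.hom x) e0).trans hz)⟩
    have hsurj : Function.Surjective (algebraMap k B) := fun y => by
      obtain ⟨a, rfl⟩ := hπ y
      refine ⟨CoalgebraStruct.counit (R := k) (e a), Groth.Agent.HopfLib.LieKolchin.pts_ext (k := k) fun x => ?_⟩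
      have h := point_eq_counit e hcm hBu π hss x.ofConv (e a)
      rw [e.symm_apply_apply] at h
      rw [AlgHom.commutes, h]
      rfl
    haveI : IsIso (Spec.map (CommRingCat.ofHom (algebraMap k B))) := by
      haveI : Nontrivial B := (Bialgebra.counitAlgHom k B).toRingHom.domain_nontrivial
      haveI : IsIso (CommRingCat.ofHom (algebraMap k B)) :=
        (ConcreteCategory.isIso_iff_bijective _).2 ⟨(algebraMap k B).injective, hsurj⟩
      infer_instance
    haveI : IsIso (Groth.Agent.HopfQuot.spec (k := k) B).hom := inferInstanceAs (IsIso (Spec.map (CommRingCat.ofHom (algebraMap k B))))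
    show IsIso U.hom
    rw [← Over.w (inv e')]
    haveI : IsIso (inv e').left := inferInstanceAs (IsIso ((Over.forget _).map (inv e')))
    exact IsIso.comp_isIso
  obtain ⟨A'', _, _, j, hj, hjm, -, -, hdiag⟩ := Groth.Agent.AlgGrpLib.TorusUnip.exists_split_hopf G hT
  haveI := hj; haveI := hjm
  obtain ⟨φ, hφ⟩ := Groth.Agent.HopfQuot.exists_specHom (k := k) (A := A') (B := A'') j
  haveI : IsIso (Spec.map (CommRingCat.ofHom (φ : A' →+* A''))) := by
    rw [← Groth.Agent.HopfQuot.specHom_left, hφ]
    exact inferInstanceAs (IsIso ((Over.forget _).map j))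
  have hbij : Function.Bijective φ := isIso_SpecMap_iff.1 ‹IsIso (Spec.map (CommRingCat.ofHom (φ : A' →+* A'')))›
  have hgl : Submodule.span k {a : A'' | IsGroupLikeElem k a} = ⊤ := by
    refine eq_top_iff.2 ((Groth.Agent.HMTor29.span_isChar hdiag).ge.trans (Submodule.span_mono ?_))
    rintro a ⟨hu, ha⟩
    refine ⟨?_, ?_⟩
    · have h := ha k (Bialgebra.counitAlgHom k A'') (Bialgebra.counitAlgHom k A'')
      have h2 : ∀ t : TensorProduct k A'' A'', Algebra.TensorProduct.lift (Bialgebra.counitAlgHom k A'')
          (Bialgebra.counitAlgHom k A'') (fun _ _ => .all _ _) t =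
          Bialgebra.counitAlgHom k A'' (TensorProduct.lid k A'' (TensorProduct.map (CoalgebraStruct.counit (R := k)) LinearMap.id t)) := by
        intro t
        induction t using TensorProduct.induction_on with
        | zero => simp
        | add p q hp hq => simp only [map_add, hp, hq]
        | tmul p q => simp
      rw [h2] at h
      change Bialgebra.counitAlgHom k A'' (TensorProduct.lid k A'' (TensorProduct.map _ _ (CoalgebraStruct.comul (R := k) a))) = _ at h
      erw [Coalgebra.rTensor_counit_comul] at h
      simp only [TensorProduct.lid_tmul, one_smul, Bialgebra.counitAlgHom_apply] at h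
      exact (mul_left_cancel₀ ((hu.map (Bialgebra.counitAlgHom k A'')).ne_zero) (h.symm.trans (_root_.mul_one _).symm))
    · have h := ha (TensorProduct k A'' A'') Algebra.TensorProduct.includeLeft Algebra.TensorProduct.includeRight
      rw [Algebra.TensorProduct.lift_includeLeft_includeRight] at h
      exact h.trans (by simp)
  let ψ := BialgEquiv.ofBijective φ hbij
  refine eq_top_iff.2 fun x _ => ?_
  have hx : ψ (e.symm x) ∈ (⊤ : Submodule k A'') := Submodule.mem_top
  rw [← hgl] at hx
  rw [← e.apply_symm_apply x, ← ψ.symm_apply_apply (e.symm x)]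
  generalize ψ (e.symm x) = y at hx ⊢
  induction hx using Submodule.span_induction with
  | mem z hz =>
    refine Submodule.subset_span ?_
    have hz' : IsGroupLikeElem k (ψ.symm z) := IsGroupLikeElem.map ψ.symm hz
    refine ⟨?_, ?_⟩
    · exact (AlgHom.congr_fun hcu (ψ.symm z)).trans hz'.counit_eq_one
    · rw [← hcm, hz'.comul_eq_tmul_self]; simp
  | zero => simp
  | add p q _ _ hp hq => rw [map_add, map_add]; exact add_mem hp hq
  | smul c p _ hp => rw [map_smul, map_smul]; exact Submodule.smul_mem _ _ hp

end Groth.Agent.S15597
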