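import Groth.Statements.S15598
import Groth.Agent.AlgGrpLib.OrbitDim
import Groth.Agent.Et18.SepPointOpen
import Groth.Agent.AbVarLib.GeomIntegralSmooth
import Groth.Agent.RedSepLib.Immersion
import Groth.Agent.HopfLib.GITPoints

set_option autoImplicit false
set_option backward.isDefEq.respectTransparency.types false

universe u
open CategoryTheory MonoidalCategory CartesianMonoidalCategory MonObj GrpObj AlgebraicGeometry
open AlgGrp

namespace Groth.Agent.S15598
open Groth.Agent.SGA3cLib Groth.Agent.AlgGrpLib

/-- Let k be an algebraically closed field, G a k-group scheme of finite type, and X a smooth connected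
k-scheme with an action of G. Suppose that for some k-point x₀ of X the orbit map g ↦ g · x₀ from G
to X is surjective, and that the stabilizer of x₀, a subgroup scheme H ⟶ G whose points are exactly
the points g of G with g · x₀ = x₀, is connected. Then G is connected. (Stated over an algebraically
closed field, to which the general case reduces since a k-group scheme of finite type is connected
exactly when it is geometrically connected.) -/
theorem result (k : Type u) [Field k] [IsAlgClosed k]
    (G X : Over (Spec (CommRingCat.of k))) [GrpObj G] [LocallyOfFiniteType G.hom] [QuasiCompact G.hom]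
    [Smooth X.hom] [ConnectedSpace ↥X.left] (a : AlgGrp.Action G X) (x₀ : 𝟙_ (Over (Spec (CommRingCat.of k))) ⟶ X)
    (hsurj : Surjective (a.orbitMap x₀).left)
    (H : Over (Spec (CommRingCat.of k))) [GrpObj H] (i : H ⟶ G) [IsMonHom i] [Mono i]
    (hH : ∀ (T : Over (Spec (CommRingCat.of k))) (g : T ⟶ G), (∃ h : T ⟶ H, h ≫ i = g) ↔ g ≫ a.orbitMap x₀ = toUnit T ≫ x₀)
    [ConnectedSpace ↥H.left] : ConnectedSpace ↥G.left := by
  haveI : CompactSpace ↥G.left := QuasiCompact.compactSpace_of_compactSpace G.hom
  haveI : IsNoetherian G.left := OrbitDim.isNoetherian_of_lft G.hom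
  haveI : TopologicalSpace.NoetherianSpace ↥G.left := inferInstance
  haveI : LocallyOfFiniteType X.hom := inferInstance
  haveI : CompactSpace ↥X.left :=
    ⟨(a.orbitMap x₀).left.surjective.range_eq ▸ isCompact_range (a.orbitMap x₀).left.continuous⟩
  haveI : QuasiCompact X.hom := (quasiCompact_iff_compactSpace _).mpr ‹_›
  haveI : IsIntegral X.left := Groth.Agent.AbVarLib.isIntegral_of_smooth_connected X.hom
  haveI : JacobsonSpace ↥X.left := LocallyOfFiniteType.jacobsonSpace X.hom
  haveI : JacobsonSpace ↥G.left := LocallyOfFiniteType.jacobsonSpace G.hom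
  set φ : G ⟶ X := a.orbitMap x₀ with hφdef
  have hφ : φ = smulPt a (𝟙 G) (toUnit G ≫ x₀) := rfl
  haveI : PreconnectedSpace ↥H.left := inferInstance
  haveI hsub1 : Subsingleton ↥(Spec (CommRingCat.of k)) := inferInstanceAs (Subsingleton (PrimeSpectrum k))
  -- fibres over closed points are connected
  have hfib : ∀ x : X.left, IsClosed ({x} : Set X.left) → _root_.IsPreconnected (φ.left.base ⁻¹' {x}) := by
    intro x hx
    obtain ⟨g, hg⟩ := OrbitDim.exists_ratPoint_mem (X := G) (S := φ.left.base ⁻¹' {x})
      (hx.preimage φ.left.continuous).isLocallyClosed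
      (φ.left.surjective x |>.imp fun _ h => h)
    let m : H ⟶ G := (toUnit H ≫ g) * i
    have hm : m ≫ φ = toUnit H ≫ g ≫ φ := by
      have hi' : i ≫ φ = toUnit H ≫ x₀ := (hH H i).1 ⟨𝟙 H, Category.id_comp _⟩
      simp only [hφ, comp_smulPt, Category.comp_id, ← Category.assoc, toUnit_unique (_ ≫ toUnit G) (toUnit H)] at hi' ⊢
      rw [mul_smulPt, hi']
    suffices φ.left.base ⁻¹' {x} = Set.range m.left.base by
      rw [this]; exact isPreconnected_range m.left.continuous
    apply subset_antisymm
    · intro p (hp : φ.left.base p = x)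
      let P : Over (Spec (CommRingCat.of k)) := Over.mk (G.left.fromSpecResidueField p ≫ G.hom)
      haveI : AlgebraicGeometry.IsReduced P.left := inferInstanceAs (AlgebraicGeometry.IsReduced (Spec (G.left.residueField p)))
      let jP : P ⟶ G := Over.homMk (G.left.fromSpecResidueField p) rfl
      let y : 𝟙_ (Over (Spec (CommRingCat.of k))) ⟶ X := g ≫ φ
      haveI : IsImmersion y.left := by
        haveI : IsClosedImmersion y.left := isClosedImmersion_of_comp_eq_id X.hom y.left (Over.w y)
        infer_instance
      have hy : ∀ t, y.left.base t = x := fun t => hg t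
      obtain ⟨l, hl⟩ := Groth.Agent.RedSepLib.exists_lift_of_range_subset (jP ≫ φ).left y.left (by
        rintro _ ⟨t, rfl⟩
        refine ⟨IsLocalRing.closedPoint k, (hy _).trans ?_⟩
        change x = φ.left.base ((G.left.fromSpecResidueField p).base t)
        rw [Scheme.fromSpecResidueField_apply, hp])
      have hjφ : jP ≫ φ = toUnit P ≫ g ≫ φ := Over.OverMorphism.ext (by
        change _ = (toUnit P).left ≫ y.left
        rw [← hl]
        congr 1
        calc l = l ≫ y.left ≫ X.hom := by rw [Over.w y]; exact (Category.comp_id _).symm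
          _ = (toUnit P).left := by rw [← Category.assoc, hl, Over.w (jP ≫ φ)]; exact (Category.comp_id _).symm.trans (Over.w (toUnit P)))
      let h' : P ⟶ G := (toUnit P ≫ g)⁻¹ * jP
      obtain ⟨t, ht⟩ := (hH P h').2 (by
        simp only [hφ, comp_smulPt, Category.comp_id, ← Category.assoc, toUnit_unique (_ ≫ toUnit G) (toUnit P)] at hjφ ⊢
        rw [mul_smulPt, hjφ, inv_smulPt])
      refine ⟨t.left.base (IsLocalRing.closedPoint (G.left.residueField p)), ?_⟩
      have e : t ≫ m = jP := by
        have ht' : t ≫ i = h' := ht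
        simp only [m, MonObj.comp_mul, ← Category.assoc, toUnit_unique (t ≫ toUnit H) (toUnit P)]
        rw [ht', mul_inv_cancel_left]
      have := congrArg (fun r => r.left.base (IsLocalRing.closedPoint (G.left.residueField p))) e
      exact this.trans (Scheme.fromSpecResidueField_apply _ _)
    · rintro _ ⟨h, rfl⟩
      change φ.left.base (m.left.base h) = x
      exact (congrArg (fun r => r.left.base h) hm).trans (hg _)
  -- images of complementary clopens are disjoint
  haveI : IsLocallyNoetherian X.left := LocallyOfFiniteType.isLocallyNoetherian X.hom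
  haveI : QuasiSeparated X.hom := QuasiSeparated.of_quasiSeparatedSpace _
  have hqc : QuasiCompact φ.left := by
    haveI : QuasiCompact (φ.left ≫ X.hom) := by rw [Over.w]; infer_instance
    exact QuasiCompact.of_comp _ X.hom
  haveI : LocallyOfFiniteType (φ.left ≫ X.hom) := by rw [Over.w]; infer_instance
  haveI : LocallyOfFiniteType φ.left := locallyOfFiniteType_of_comp _ X.hom
  haveI : IsNoetherian X.left := OrbitDim.isNoetherian_of_lft X.hom
  haveI : LocallyOfFinitePresentation φ.left := inferInstance
  have hcons : ∀ U : Set G.left, IsClopen U → Topology.IsConstructible (φ.left.base '' U) := fun U hU =>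
    φ.left.isConstructible_image (Groth.Agent.H8Top.isConstructible_of_isOpen hU.isOpen)
  have hdisj : ∀ U : Set G.left, IsClopen U → φ.left.base '' U ∩ φ.left.base '' Uᶜ = ∅ := by
    intro U hU
    by_contra hne
    obtain ⟨n, L, hL, hLC⟩ := Groth.Agent.H8Top.IsFinUnionLC.of_isConstructible ((hcons U hU).inter (hcons _ hU.compl))
    obtain ⟨x, hx⟩ := Set.nonempty_iff_ne_empty.2 hne
    rw [hLC] at hx
    obtain ⟨j, hj⟩ := Set.mem_iUnion.1 hx
    obtain ⟨x', hx', hxc⟩ := nonempty_inter_closedPoints ⟨x, hj⟩ (hL j)
    obtain ⟨⟨u, hu, hux⟩, v, hv, hvx⟩ := hLC.ge (Set.mem_iUnion.2 ⟨j, hx'⟩)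
    exact hv ((hfib x' hxc).subset_isClopen hU ⟨u, hux, hu⟩ hvx)
  -- some component has dense, hence big, image; all translates do
  let C : G.left → Set G.left := fun p => connectedComponent p
  have hclC : ∀ p, IsClopen (C p) := fun p =>
    ⟨isClosed_connectedComponent, Groth.Agent.Et18.SepPointOpen.isOpen_connectedComponent' p⟩
  have htr : ∀ p q : G.left, ∃ (e₁ : G.left ≃ₜ G.left) (e₂ : X.left ≃ₜ X.left),
      e₁ '' C p = C q ∧ ∀ z, φ.left.base (e₁ z) = e₂ (φ.left.base z) := by
    intro p q
    obtain ⟨u, hu⟩ := OrbitDim.exists_ratPoint_mem (X := G) (S := C p) (hclC p).isOpen.isLocallyClosed ⟨p, mem_connectedComponent⟩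
    obtain ⟨v, hv⟩ := OrbitDim.exists_ratPoint_mem (X := G) (S := C q) (hclC q).isOpen.isLocallyClosed ⟨q, mem_connectedComponent⟩
    let h0 : 𝟙_ (Over (Spec (CommRingCat.of k))) ⟶ G := v * u⁻¹
    let L : G ≅ G :=
      { hom := (toUnit G ≫ h0) * 𝟙 G
        inv := (toUnit G ≫ h0)⁻¹ * 𝟙 G
        hom_inv_id := by simp [MonObj.comp_mul, GrpObj.comp_inv, toUnit_unique _ (toUnit G)]
        inv_hom_id := by simp [MonObj.comp_mul, GrpObj.comp_inv, toUnit_unique _ (toUnit G)] }
    let M : X ≅ X :=
      { hom := smulPt a (toUnit X ≫ h0) (𝟙 X)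
        inv := smulPt a (toUnit X ≫ h0)⁻¹ (𝟙 X)
        hom_inv_id := by
          rw [comp_smulPt, GrpObj.comp_inv, ← Category.assoc, toUnit_unique (_ ≫ toUnit X) (toUnit X), Category.comp_id,
            inv_smulPt]
        inv_hom_id := by
          rw [comp_smulPt, ← Category.assoc, toUnit_unique (_ ≫ toUnit X) (toUnit X), Category.comp_id,
            ← mul_smulPt, mul_inv_cancel, one_smulPt] }
    have hLM : L.hom ≫ φ = φ ≫ M.hom := by
      simp only [L, M, hφ, comp_smulPt, Category.comp_id, ← Category.assoc, toUnit_unique (_ ≫ toUnit G) (toUnit G),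
        toUnit_unique (_ ≫ toUnit X) (toUnit G)]
      rw [mul_smulPt]
    let e₁ : G.left ≃ₜ G.left := ((Over.forget _).mapIso L).hom.homeomorph
    refine ⟨e₁, ((Over.forget _).mapIso M).hom.homeomorph, ?_, fun z => congrArg (fun r => r.left.base z) hLM⟩
    let pt := IsLocalRing.closedPoint k
    have e : u ≫ L.hom = v := by
      simp [L, h0, MonObj.comp_mul, toUnit_unique _ (𝟙 (𝟙_ (Over (Spec (CommRingCat.of k)))))]
    have hpt : e₁ (u.left.base pt) = v.left.base pt := congrArg (fun r => r.left.base pt) e
    calc e₁ '' C p = e₁ '' connectedComponent (u.left.base pt) := congrArg (e₁ '' ·) (connectedComponent_eq (hu pt))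
      _ = connectedComponent (v.left.base pt) := by
        rw [← hpt, ← connectedComponentIn_univ, e₁.image_connectedComponentIn (Set.mem_univ _), Set.image_univ,
          e₁.surjective.range_eq, connectedComponentIn_univ]
      _ = C q := (connectedComponent_eq (hv pt)).symm
  haveI : Nonempty ↥G.left := ⟨η[G].left.base (IsLocalRing.closedPoint k)⟩
  refine connectedSpace_iff_connectedComponent.2 ?_
  obtain ⟨p₀⟩ := ‹Nonempty ↥G.left›
  refine ⟨p₀, Set.eq_univ_of_forall fun q => ?_⟩
  by_contra hq
  -- the image of some component contains a nonempty open set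
  obtain ⟨p₁, hp₁⟩ : ∃ p₁, (interior (φ.left.base '' C p₁)).Nonempty := by
    have hfin := Groth.Agent.Et18.SepPointOpen.finite_range_connectedComponent (α := ↥G.left)
    have hcov : (Set.univ : Set X.left) ⊆ ⋃₀ ↑(hfin.toFinset.image fun T => closure (φ.left.base '' T)) := by
      intro x _
      obtain ⟨g, rfl⟩ := φ.left.surjective x
      exact ⟨_, Finset.mem_coe.2 (Finset.mem_image.2 ⟨C g, hfin.mem_toFinset.2 ⟨g, rfl⟩, rfl⟩),
        subset_closure ⟨g, mem_connectedComponent, rfl⟩⟩
    classical
    obtain ⟨T, hT, hXT⟩ := isIrreducible_iff_sUnion_isClosed.1 (IrreducibleSpace.isIrreducible_univ ↥X.left)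
      (hfin.toFinset.image fun T => closure (φ.left.base '' T)) (by simp) hcov
    obtain ⟨T', hT', rfl⟩ := Finset.mem_image.1 hT
    obtain ⟨p₁, rfl⟩ := hfin.mem_toFinset.1 hT'
    refine ⟨p₁, Groth.Agent.HopfLib.interior_nonempty_of_isConstructible (hcons _ (hclC p₁)) ?_⟩
    rw [Set.univ_subset_iff.1 hXT, interior_univ]
    exact Set.univ_nonempty
  have hbig : ∀ r, (interior (φ.left.base '' C r)).Nonempty := by
    intro r
    obtain ⟨e₁, e₂, he, hcomm⟩ := htr p₁ r
    rw [← he, Set.image_image]
    simp only [hcomm]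
    rw [← Set.image_image, ← e₂.image_interior]
    exact hp₁.image _
  obtain ⟨x, hx1, hx2⟩ := nonempty_preirreducible_inter isOpen_interior isOpen_interior (hbig p₀) (hbig q)
  have hqc0 : C q ⊆ (C p₀)ᶜ := fun z hz hz' =>
    hq (show q ∈ connectedComponent p₀ from (connectedComponent_eq hz').trans (connectedComponent_eq hz).symm ▸ mem_connectedComponent)
  have := (Set.eq_empty_iff_forall_notMem.1 (hdisj (C p₀) (hclC p₀))) x
  exact this ⟨interior_subset hx1, Set.image_mono hqc0 (interior_subset hx2)⟩

end Groth.Agent.S15598
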