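import Groth.Statements.S15599
import Groth.Agent.AGFImage11.SolvRadical

set_option autoImplicit false
set_option backward.isDefEq.respectTransparency.types false
set_option linter.style.haveILetI false
universe u
open CategoryTheory MonoidalCategory CartesianMonoidalCategory MonObj GrpObj AlgebraicGeometry
open AGF

namespace Groth.Agent.S15599

/-- Let k be an algebraically closed field and G a smooth affine k-group scheme, not necessarily
connected, whose unipotent radical is trivial: every smooth connected normal closed subgroup scheme
of G containing no non-trivial subtorus is trivial. Let N ⟶ G be a smooth closed normal subgroup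
scheme, not necessarily connected. Then N has the same property: every smooth connected closed
subgroup scheme of N which is normal in N and contains no non-trivial subtorus is trivial.
Reductivity, in this sense allowing disconnected groups, passes to smooth normal subgroups. (The
published statement is over an arbitrary field, with reductivity defined after extension to an
algebraic closure; this row is the algebraically closed case.) -/
theorem result (k : Type u) [Field k] [IsAlgClosed k]
    (G N : Over (Spec (CommRingCat.of k))) [GrpObj G] [GrpObj N] [IsAffine G.left] [Smooth G.hom]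
    (j : N ⟶ G) [IsMonHom j] (hj : IsClosedImmersion j.left) [Smooth N.hom] (hN : AlgGrp.IsNormalHom j)
    (hG : ∀ (U : Over (Spec (CommRingCat.of k))) [GrpObj U] (i : U ⟶ G) [IsMonHom i], IsClosedImmersion i.left → Smooth U.hom →
        ConnectedSpace ↥U.left → AlgGrp.IsNormalHom i → Red.HasNoSubtorus k U → Red.IsTrivialGrp U) :
    ∀ (U : Over (Spec (CommRingCat.of k))) [GrpObj U] (i : U ⟶ N) [IsMonHom i], IsClosedImmersion i.left → Smooth U.hom →
        ConnectedSpace ↥U.left → AlgGrp.IsNormalHom i → Red.HasNoSubtorus k U → Red.IsTrivialGrp U := by
  intro U _ i _ hcl hsm hconn hnorm hns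
  haveI := hj
  haveI := hcl
  haveI : IsAffine N.left := isAffine_of_isAffineHom j.left
  haveI : IsAffine U.left := isAffine_of_isAffineHom i.left
  haveI : QuasiCompact G.hom := (quasiCompact_iff_compactSpace G.hom).2 inferInstance
  obtain ⟨H, hmax⟩ := Groth.Agent.AGFImage11.exists_unipotentRadical N
  have hn := Groth.Agent.AGFImage11.isNormalHom_largest j hN H hmax
  obtain ⟨f, hf⟩ := hmax ⟨U, inferInstance, i, inferInstance, hcl, hsm, hconn, hnorm, ⟨inferInstance, hsm, hconn, hns⟩⟩
  obtain ⟨H, gH, e, he, hec, hHs, hHc, hHn, hHP⟩ := H
  letI := gH
  dsimp only at hn hf f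
  haveI := he
  haveI := hec
  haveI : IsClosedImmersion (e ≫ j).left := by rw [Over.comp_left]; infer_instance
  haveI : IsIso H.hom := hG H (e ≫ j) inferInstance hHs hHc hn hHP.2.2.2
  haveI : Mono i := Over.mono_of_mono_left i
  refine Groth.Agent.AlgGrpLib.TorusUnip.isIso_hom_of_mono_one i ?_
  rw [← hf, show f = 1 from Groth.Agent.AGFImage11.subsingleton_hom_of_isIso _ _, MonObj.one_comp]

end Groth.Agent.S15599
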