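import Groth.Statements.S15600
import Groth.Agent.AGFImage11.SepDescent

set_option autoImplicit false
set_option backward.isDefEq.respectTransparency.types false
set_option linter.style.haveILetI false
set_option maxHeartbeats 1000000
universe u
open CategoryTheory MonoidalCategory CartesianMonoidalCategory MonObj GrpObj AlgebraicGeometry
open AGF

namespace Groth.Agent.S15600

/-- Let k be a field, G a smooth affine k-group scheme and G⁰ ⟶ G its identity component, that is, an
open subgroup scheme whose underlying space is connected. If U ⟶ G⁰ is the k-unipotent radical of G⁰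
(the largest normal closed subgroup scheme of G⁰, smooth and quasi-compact over k, with connected
geometric fibre containing no non-trivial subtorus), then the composite U ⟶ G⁰ ⟶ G is the
k-unipotent radical of G. -/
theorem result (k : Type u) [Field k]
    (G G₀ U : Over (Spec (CommRingCat.of k))) [GrpObj G] [GrpObj G₀] [GrpObj U] [IsAffine G.left] [Smooth G.hom]
    (j : G₀ ⟶ G) [IsMonHom j] [IsOpenImmersion j.left] [ConnectedSpace ↥G₀.left]
    (u : U ⟶ G₀) (hu : Par.IsUnipotentRadical u) : Par.IsUnipotentRadical (u ≫ j) := by
  obtain ⟨hum, hucl, hun, husm, huqc, hufib, humax⟩ := id hu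
  haveI := hum
  haveI := hucl
  haveI := husm
  haveI : IsClosedImmersion j.left := Groth.Agent.AGFImage11.isClosedImmersion_of_open j
  haveI : IsAffine G₀.left := isAffine_of_isAffineHom j.left
  haveI : IsAffine U.left := isAffine_of_isAffineHom u.left
  haveI : Smooth G₀.hom := by rw [← Over.w j]; infer_instance
  haveI : IsMonHom (u ≫ j) := inferInstance
  haveI : Mono j := Over.mono_of_mono_left j
  have hfac : ∀ {X : Over (Spec (CommRingCat.of k))} [GrpObj X] [ConnectedSpace X.left] (x : X ⟶ G) [IsMonHom x],
      ∃ y : X ⟶ G₀, y ≫ j = x := by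
    intro X _ _ x _
    have hcl : IsClopen (Set.range j.left) := ⟨j.left.isClosedEmbedding.isClosed_range, j.left.isOpenEmbedding.isOpen_range⟩
    have hconn : _root_.IsPreconnected (Set.range x.left) := isPreconnected_range x.left.continuous
    obtain ⟨t⟩ : Nonempty ↥(𝟙_ (Over (Spec (CommRingCat.of k)))).left :=
      ⟨(IsLocalRing.closedPoint k : PrimeSpectrum k)⟩
    have hne : (Set.range x.left ∩ Set.range j.left).Nonempty := by
      refine ⟨η[G].left t, ⟨η[X].left t, ?_⟩, ⟨η[G₀].left t, ?_⟩⟩
      · rw [← Scheme.Hom.comp_apply, ← Over.comp_left, IsMonHom.one_hom x]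
      · rw [← Scheme.Hom.comp_apply, ← Over.comp_left, IsMonHom.one_hom j]
    have hsub : Set.range x.left ⊆ Set.range j.left := hconn.subset_isClopen hcl hne
    refine ⟨Over.homMk (IsOpenImmersion.lift j.left x.left hsub) ?_, ?_⟩
    · rw [← Over.w j, IsOpenImmersion.lift_fac_assoc]; exact Over.w x
    · ext : 1; exact IsOpenImmersion.lift_fac _ _ _
  refine ⟨inferInstance, by rw [Over.comp_left]; infer_instance, ?_, husm, huqc, hufib,
    fun U' _ u' _ hcl' hn' hsm' hqc' hfib' => ?_⟩
  · let K := SeparableClosure k
    let p := Groth.Agent.VarietyLib.sK k K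
    let F := Over.pullback p
    haveI : Surjective p := Groth.Agent.AGFImage11.surjective_fieldMap p
    haveI : QuasiCompact G.hom := (quasiCompact_iff_compactSpace G.hom).2 inferInstance
    haveI : IsAffine (F.obj G).left := inferInstanceAs (IsAffine (Limits.pullback G.hom p))
    haveI : IsAffine (F.obj G₀).left := inferInstanceAs (IsAffine (Limits.pullback G₀.hom p))
    haveI : IsAffine (F.obj U).left := inferInstanceAs (IsAffine (Limits.pullback U.hom p))
    haveI : Smooth (F.obj G).hom := inferInstanceAs (Smooth (Limits.pullback.snd G.hom p))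
    haveI : Smooth (F.obj G₀).hom := inferInstanceAs (Smooth (Limits.pullback.snd G₀.hom p))
    have hUs : Smooth (F.obj U).hom := inferInstanceAs (Smooth (Limits.pullback.snd U.hom p))
    haveI : QuasiCompact (F.obj G).hom := (quasiCompact_iff_compactSpace _).2 inferInstance
    haveI : IsClosedImmersion (F.map j).left := MorphismProperty.overPullbackMap (P := @IsClosedImmersion) p j ‹_›
    haveI : IsClosedImmersion (F.map u).left := MorphismProperty.overPullbackMap (P := @IsClosedImmersion) p u hucl
    let s₀ : (Spec (CommRingCat.of k) : Scheme.{u}) := IsLocalRing.closedPoint k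
    haveI : ConnectedSpace U.left := by
      haveI : ConnectedSpace ↥(Limits.pullback U.hom (Red.geomPt s₀)) := (hufib s₀).1
      exact (Limits.pullback.fst U.hom (Red.geomPt s₀)).surjective.connectedSpace
        (Limits.pullback.fst U.hom (Red.geomPt s₀)).continuous
    haveI : GeometricallyConnected U.hom :=
      Groth.Agent.AbSchLib.geometricallyConnected_of_section U.hom η[U].left (Over.w η[U]) fun t => by
        have hsurj : Function.Surjective (U.hom.fiberι t) := fun a => by
          have ha : a ∈ Set.range (U.hom.fiberι t) := by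
            rw [Scheme.Hom.range_fiberι]
            exact Subsingleton.elim (α := PrimeSpectrum k) _ _
          exact ha
        let e := (U.hom.fiberι t).isEmbedding.toHomeomorphOfSurjective hsurj
        exact e.symm.surjective.connectedSpace e.symm.continuous
    have hUc : ConnectedSpace (F.obj U).left := inferInstanceAs (ConnectedSpace ↥(Limits.pullback U.hom p))
    have hbc : ∀ {A B : Over (Spec (CommRingCat.of k))} [GrpObj A] [GrpObj B] (f : A ⟶ B),
        AlgGrp.IsNormalHom f → AlgGrp.IsNormalHom (F.map f : F.obj A ⟶ F.obj B) := fun {A B} _ _ f hf => by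
      obtain ⟨z, hz⟩ := (Groth.Agent.GrpLim26.normal_iff f).1 hf
      exact (Groth.Agent.GrpLim26.normal_bc_iff p f).2 ⟨F.map z, by rw [← hz]; exact (F.map_comp z f).symm⟩
    have hjn : AlgGrp.IsNormalHom j := fun T g n => by
      obtain ⟨l, hl⟩ := Groth.Agent.AGFImage11.exists_conj_factor j g n
      exact ⟨l, hl.symm⟩
    have hn := Groth.Agent.AGFImage11.isNormalHom_largest_sepClosed (F.map j) (hbc j hjn)
      ⟨F.obj U, inferInstance, F.map u, inferInstance, inferInstance, hUs, hUc, hbc u hun,
        ⟨inferInstance, hUs, hUc, fun s => Groth.Agent.AGFImage11.geomUnip_bc p s₀ (hufib s₀).2 s⟩⟩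
      (fun A => Groth.Agent.AGFImage11.geomUnipRadical_sep_largest G₀ u hu A)
    change AlgGrp.IsNormalHom (F.map u ≫ F.map j) at hn
    rw [← Functor.map_comp] at hn
    haveI : IsClosedImmersion (u ≫ j).left := by rw [Over.comp_left]; infer_instance
    exact Groth.Agent.AGFImage11.isNormalHom_of_bc p (u ≫ j) hn
  · haveI := hsm'
    haveI := hcl'
    haveI := hqc'
    let s₀ : (Spec (CommRingCat.of k) : Scheme.{u}) := IsLocalRing.closedPoint k
    haveI : ConnectedSpace U'.left := by
      haveI : ConnectedSpace ↥(Limits.pullback U'.hom (Red.geomPt s₀)) := (hfib' s₀).1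
      exact (Limits.pullback.fst U'.hom (Red.geomPt s₀)).surjective.connectedSpace
        (Limits.pullback.fst U'.hom (Red.geomPt s₀)).continuous
    obtain ⟨y, hy⟩ := hfac u'
    haveI : IsMonHom (y ≫ j) := by rw [hy]; infer_instance
    haveI : IsMonHom y := Groth.Agent.AGFImage11.isMonHom_of_comp y j inferInstance
    haveI : IsClosedImmersion (y.left ≫ j.left) := by rw [← Over.comp_left, hy]; exact hcl'
    obtain ⟨f, hf⟩ := humax U' y (IsClosedImmersion.of_comp y.left j.left) (fun T g n => by
      obtain ⟨n', hn''⟩ := hn' T (g ≫ j) n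
      refine ⟨n', ?_⟩
      rw [← cancel_mono j]
      simp only [MonObj.mul_comp, GrpObj.inv_comp, Category.assoc, hy]
      exact hn'') hsm' hqc' hfib'
    exact ⟨f, by rw [← Category.assoc, hf, hy]⟩

end Groth.Agent.S15600
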