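import Groth.Statements.S15605
import Groth.Agent.RatPts.Basic

set_option autoImplicit false
universe u
open TensorProduct
open AGF

namespace Groth.Agent.S15605

/-- Affine form. Let k be a field, A and A' finitely generated commutative k-algebras and S, S' sets of
k-algebra homomorphisms A → k, A' → k. The closure of a set of rational points of Spec A is cut out
by the intersection of their kernels. Compatibility of these closures with products: in A ⊗_k A',
the intersection over (σ, σ') ∈ S × S' of the kernels of σ ⊗ σ' : A ⊗_k A' → k equals the ideal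
generated by the images of ⋂_{σ} ker σ and of ⋂_{σ'} ker σ'. -/
theorem result (k A A' : Type u) [Field k] [CommRing A] [Algebra k A]
    [Algebra.FiniteType k A] [CommRing A'] [Algebra k A'] [Algebra.FiniteType k A']
    (S : Set (A →ₐ[k] k)) (S' : Set (A' →ₐ[k] k)) :
    (⨅ σ ∈ S, ⨅ σ' ∈ S', RingHom.ker ((Algebra.TensorProduct.lmul' (S := k) k).comp
        (Algebra.TensorProduct.map σ σ'))) =
      Ideal.map (Algebra.TensorProduct.includeLeft : A →ₐ[k] A ⊗[k] A') (⨅ σ ∈ S, RingHom.ker σ) ⊔
        Ideal.map (Algebra.TensorProduct.includeRight : A' →ₐ[k] A ⊗[k] A') (⨅ σ' ∈ S', RingHom.ker σ') := by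
  open Groth.Agent.RatPts TensorProduct in
  set I : Ideal A := ⨅ σ ∈ S, RingHom.ker σ with hI
  set I' : Ideal A' := ⨅ σ' ∈ S', RingHom.ker σ' with hI'
  refine le_antisymm (fun x hx => ?_) (sup_le (Ideal.map_le_iff_le_comap.2 fun a ha => ?_)
    (Ideal.map_le_iff_le_comap.2 fun a ha => ?_))
  · simp only [Submodule.mem_iInf, RingHom.mem_ker] at hx
    let τ : S → (A ⧸ I) →ₐ[k] k := fun σ => Ideal.Quotient.liftₐ I σ.1 fun a ha => by
      simp only [hI, Submodule.mem_iInf, RingHom.mem_ker] at ha
      exact ha σ.1 σ.2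
    let τ' : S' → (A' ⧸ I') →ₐ[k] k := fun σ => Ideal.Quotient.liftₐ I' σ.1 fun a ha => by
      simp only [hI', Submodule.mem_iInf, RingHom.mem_ker] at ha
      exact ha σ.1 σ.2
    have hinj : Function.Injective (evalPts τ).toLinearMap := by
      rw [injective_iff_map_eq_zero]
      intro a ha
      obtain ⟨a, rfl⟩ := Ideal.Quotient.mk_surjective a
      rw [Ideal.Quotient.eq_zero_iff_mem]
      simp only [hI, Submodule.mem_iInf, RingHom.mem_ker]
      intro σ hσ; exact congrFun ha ⟨σ, hσ⟩
    have hinj' : Function.Injective (evalPts τ').toLinearMap := by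
      rw [injective_iff_map_eq_zero]
      intro a ha
      obtain ⟨a, rfl⟩ := Ideal.Quotient.mk_surjective a
      rw [Ideal.Quotient.eq_zero_iff_mem]
      simp only [hI', Submodule.mem_iInf, RingHom.mem_ker]
      intro σ hσ; exact congrFun ha ⟨σ, hσ⟩
    have h0 : Algebra.TensorProduct.map (Ideal.Quotient.mkₐ k I) (Ideal.Quotient.mkₐ k I') x = 0 := by
      apply Module.Flat.rTensor_preserves_injective_linearMap (M := A' ⧸ I') _ hinj
      apply Module.Flat.lTensor_preserves_injective_linearMap (M := S → k) _ hinj'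
      apply piScalarRightHom_injective (S → k) S'
      rw [map_zero, map_zero, map_zero]
      funext s' s
      rw [Pi.zero_apply, Pi.zero_apply, ← hx s.1 s.2 s'.1 s'.2]
      clear hx
      induction x using TensorProduct.induction_on with
      | zero => simp only [map_zero]; rfl
      | tmul a f => exact mul_comm _ _
      | add a c ha hc => simp only [map_add, Pi.add_apply, ha, hc]
    have h1 : x ∈ RingHom.ker (Algebra.TensorProduct.map (Ideal.Quotient.mkₐ k I) (Ideal.Quotient.mkₐ k I')) := h0
    rw [Algebra.TensorProduct.map_ker _ _ (Ideal.Quotient.mkₐ_surjective k I) (Ideal.Quotient.mkₐ_surjective k I'),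
      show RingHom.ker (Ideal.Quotient.mkₐ k I) = I from Ideal.Quotient.mkₐ_ker k I,
      show RingHom.ker (Ideal.Quotient.mkₐ k I') = I' from Ideal.Quotient.mkₐ_ker k I'] at h1
    exact h1
  · simp only [hI, Submodule.mem_iInf, RingHom.mem_ker] at ha
    simp only [Ideal.mem_comap, Submodule.mem_iInf, RingHom.mem_ker]
    intro σ hσ σ' _; simp [ha σ hσ]
  · simp only [hI', Submodule.mem_iInf, RingHom.mem_ker] at ha
    simp only [Ideal.mem_comap, Submodule.mem_iInf, RingHom.mem_ker]
    intro σ _ σ' hσ'; simp [ha σ' hσ']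

end Groth.Agent.S15605
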