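import Groth.Statements.S15606
import Groth.Agent.GaGmQuot.GaSmooth
import Groth.Agent.AlgGrpLib.KernelGrp
import Groth.Agent.AbVarLib.HomFlat
import Groth.Agent.AbVarLib.KernelQuot

set_option autoImplicit false
universe u
open CategoryTheory MonoidalCategory CartesianMonoidalCategory MonObj GrpObj AlgebraicGeometry
open AlgGrp

namespace Groth.Agent.S15606

/-- Additive case. Let k be a field, H an affine smooth connected k-group scheme, and f a homomorphism
from the additive group over k to H which is finite and surjective (an isogeny onto H). Then H is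
isomorphic, as a k-group scheme, to the additive group. In particular every quotient of the additive
group by a finite k-subgroup scheme is isomorphic to the additive group over k itself, for any field
k. -/
theorem result (k : Type u) [Field k]
    (H : Over (Spec (CommRingCat.of k))) [GrpObj H] [IsAffine H.left] [Smooth H.hom] [ConnectedSpace ↥H.left]
    (f : Red.Ga (Spec (CommRingCat.of k)) ⟶ H) [IsMonHom f] [IsFinite f.left] [Surjective f.left] :
    Nonempty (Grp.mk H ≅ Grp.mk (Red.Ga (Spec (CommRingCat.of k)))) := by
  haveI : IsAffineHom H.hom := isAffineHom_of_isAffine _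
  haveI : GeometricallyIntegral H.hom := Groth.Agent.GaGmQuot.geometricallyIntegral_of_connected H
  haveI : Flat f.left := Groth.Agent.AbVarLib.flat_of_surjective f
  haveI : QuasiCompact f.left := inferInstance
  let N := Limits.pullback f η[H]
  let i : N ⟶ Red.Ga (Spec (CommRingCat.of k)) := Limits.pullback.fst f η[H]
  have hsq : AlgGrp.IsKernel i f := by
    have h := IsPullback.of_hasPullback f η[H]
    rwa [toUnit_unique (Limits.pullback.snd f η[H]) (toUnit N)] at h
  obtain ⟨_, _⟩ := Groth.Agent.AlgGrpLib.exists_grpObj_kernel f i hsq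
  haveI : Mono i := Groth.Agent.AlgGrpLib.kernel_mono hsq
  haveI : IsFinite N.hom := by
    have h2 := IsPullback.map (CategoryTheory.Over.forget _) hsq
    have h3 : IsFinite (toUnit N).left := MorphismProperty.of_isPullback (P := @IsFinite) h2 ‹IsFinite f.left›
    have e : N.hom = (toUnit N).left := (Over.w (toUnit N)).symm.trans (Category.comp_id _)
    rw [e]
    exact h3
  obtain ⟨φ, hφ, hker, hflat, hsurj⟩ := Groth.Agent.GaGmQuot.ga_case i
  haveI := hflat
  haveI := hsurj
  haveI : QuasiCompact φ.left := by
    haveI : IsAffineHom φ.left := isAffineHom_of_isAffine _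
    infer_instance
  obtain ⟨ρ, ⟨hρ, h1⟩, -⟩ := Groth.Agent.AbVarLib.existsUnique_lift_of_kernel f i hsq φ (Groth.Agent.AlgGrpLib.kernel_comp hker)
  obtain ⟨σ, ⟨hσ, h2⟩, -⟩ := Groth.Agent.AbVarLib.existsUnique_lift_of_kernel φ i hker f (Groth.Agent.AlgGrpLib.kernel_comp hsq)
  haveI : Epi f := Over.epi_of_epi_left _
  haveI : Epi φ := Over.epi_of_epi_left _
  let e : H ≅ Red.Ga (Spec (CommRingCat.of k)) :=
    { hom := ρ, inv := σ
      hom_inv_id := by rw [← cancel_epi f, reassoc_of% h1, h2, Category.comp_id]
      inv_hom_id := by rw [← cancel_epi φ, reassoc_of% h2, h1, Category.comp_id] }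
  haveI : IsMonHom e.hom := hρ
  exact ⟨Grp.mkIso' e⟩

end Groth.Agent.S15606
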