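import Groth.Statements.S15607
import Groth.Agent.GaGmQuot.GmSmooth
import Groth.Agent.AlgGrpLib.KernelGrp
import Groth.Agent.AbVarLib.HomFlat
import Groth.Agent.AbVarLib.KernelQuot
import Groth.Agent.RedSepLib.Immersion
import Groth.Agent.AbCubeLib.DeligneKills
-- import your own Groth.Agent.* helpers here

set_option autoImplicit false
universe u
open CategoryTheory MonoidalCategory CartesianMonoidalCategory MonObj GrpObj AlgebraicGeometry
open AlgGrp Groth.Agent

namespace Groth.Agent.S15607

/-- Multiplicative case. Let k be a field, H a smooth connected k-group scheme, and f a homomorphism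
from H to the multiplicative group over k which is finite and surjective (an isogeny). Then H is
isomorphic, as a k-group scheme, to the multiplicative group: a smooth connected k-group isogenous
to the multiplicative group over k is the split one-dimensional torus. -/
theorem result (k : Type u) [Field k]
    (H : Over (Spec (CommRingCat.of k))) [GrpObj H] [Smooth H.hom] [ConnectedSpace ↥H.left]
    (f : H ⟶ Red.Gm (Spec (CommRingCat.of k))) [IsMonHom f] [IsFinite f.left] [Surjective f.left] :
    Nonempty (Grp.mk H ≅ Grp.mk (Red.Gm (Spec (CommRingCat.of k)))) := by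
  let Y := Red.Gm (Spec (CommRingCat.of k))
  haveI : IsAffine H.left := isAffine_of_isAffineHom f.left
  haveI : IsAffineHom H.hom := isAffineHom_of_isAffine _
  haveI : IsAffineHom Y.hom := isAffineHom_of_isAffine _
  haveI : GeometricallyIntegral H.hom := Groth.Agent.GaGmQuot.geometricallyIntegral_of_connected H
  haveI : IsIntegral H.left := GeometricallyIntegral.isIntegral_of_subsingleton H.hom
  haveI : Flat f.left := Groth.Agent.AbVarLib.flat_of_surjective f
  let N := Limits.pullback f η[Y]
  let i : N ⟶ H := Limits.pullback.fst f η[Y]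
  have hsq : AlgGrp.IsKernel i f := by
    have h := IsPullback.of_hasPullback f η[Y]
    rwa [toUnit_unique (Limits.pullback.snd f η[Y]) (toUnit N)] at h
  obtain ⟨_, _⟩ := Groth.Agent.AlgGrpLib.exists_grpObj_kernel f i hsq
  haveI : Mono i := Groth.Agent.AlgGrpLib.kernel_mono hsq
  haveI : IsFinite N.hom := by
    have h2 := IsPullback.map (CategoryTheory.Over.forget _) hsq
    have h3 : IsFinite (toUnit N).left := MorphismProperty.of_isPullback (P := @IsFinite) h2 ‹IsFinite f.left›
    have e : N.hom = (toUnit N).left := (Over.w (toUnit N)).symm.trans (Category.comp_id _)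
    rw [e]
    exact h3
  -- commutativity
  haveI : IsCommMonObj H := by
    let c : H ⊗ H ⟶ H := fst H H * snd H H * (fst H H)⁻¹ * (snd H H)⁻¹
    have hc : c ≫ f = 1 := by
      refine SGA3cLib.gmFn_injective ?_
      simp only [c, MonObj.mul_comp, GrpObj.inv_comp, SGA3cLib.gmFn_mul, SGA3cLib.gmFn_one]
      have h1 := SGA3cLib.gmFn_inv_mul (fst H H ≫ f)
      have h2 := SGA3cLib.gmFn_inv_mul (snd H H ≫ f)
      linear_combination (Red.gmFn (snd H H ≫ f)⁻¹ * Red.gmFn (snd H H ≫ f)) * h1 + h2
    haveI : IsLocallyNoetherian H.left := LocallyOfFiniteType.isLocallyNoetherian H.hom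
    haveI : IsIntegral (H ⊗ H).left := inferInstanceAs (IsIntegral (Limits.pullback H.hom H.hom))
    obtain ⟨l, hl⟩ := Groth.Agent.AlgGrpLib.exists_lift_kernel hsq hc
    have hsub : Subsingleton (Set.range l.left) := by
      haveI : LocallyQuasiFinite N.hom := inferInstance
      haveI : DiscreteTopology N.left := by
        rw [← isDiscrete_univ_iff]
        convert N.hom.isDiscrete_preimage_singleton (IsLocalRing.closedPoint k)
        refine (Set.eq_univ_of_forall fun x => ?_).symm
        exact Subsingleton.elim (α := ↥(Spec (CommRingCat.of k))) _ _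
      exact Set.subsingleton_coe _ |>.2 (isPreconnected_range l.left.continuous).subsingleton
    have hrange : Set.range c.left ⊆ Set.range (1 : 𝟙_ (Over (Spec (CommRingCat.of k))) ⟶ H).left := by
      let e : 𝟙_ (Over (Spec (CommRingCat.of k))) ⟶ H ⊗ H := lift 1 1
      have he : e ≫ c = 1 := by
        simp only [c, MonObj.comp_mul, GrpObj.comp_inv, e, lift_fst, lift_snd, inv_one, _root_.mul_one]
      rintro _ ⟨z, rfl⟩
      refine ⟨IsLocalRing.closedPoint k, ?_⟩
      have h1 : l.left z = l.left (e.left (IsLocalRing.closedPoint k)) :=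
        congrArg Subtype.val (hsub.elim ⟨_, z, rfl⟩ ⟨_, _, rfl⟩)
      rw [← he, ← hl]
      show i.left (l.left (e.left _)) = i.left (l.left z)
      rw [h1]
    have hc1 : c = 1 := by
      let o : 𝟙_ (Over (Spec (CommRingCat.of k))) ⟶ H := 1
      haveI : IsClosedImmersion o.left := by
        haveI : IsClosedImmersion (o.left ≫ H.hom) := by rw [Over.w o]; exact inferInstanceAs (IsClosedImmersion (𝟙 _))
        exact IsClosedImmersion.of_comp o.left H.hom
      obtain ⟨z, hz⟩ := Groth.Agent.RedSepLib.exists_lift_of_range_subset c.left o.left hrange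
      let zO : H ⊗ H ⟶ 𝟙_ (Over (Spec (CommRingCat.of k))) := Over.homMk z (by
        rw [← Over.w c, ← hz, Category.assoc, Over.w o])
      have h3 : zO ≫ o = c := Over.OverMorphism.ext hz
      rw [← h3]
      exact MonObj.comp_one zO
    have hcomm : fst H H * snd H H = snd H H * fst H H := by
      simp only [c] at hc1
      rwa [mul_inv_eq_one, mul_inv_eq_iff_eq_mul] at hc1
    refine (isCommMonObj_iff_isMulCommutative H).2 fun T => ⟨⟨fun x y => ?_⟩⟩
    have h := congrArg (fun m => lift x y ≫ m) hcomm
    simpa only [MonObj.comp_mul, lift_fst, lift_snd] using h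
  -- a map back
  obtain ⟨n, hn⟩ : ∃ n, n = Scheme.Hom.finrank f.left (η[Y].left (IsLocalRing.closedPoint k)) := ⟨_, rfl⟩
  haveI : LocallyOfFinitePresentation f.left := by
    haveI : LocallyOfFinitePresentation (f.left ≫ Y.hom) := by rw [Over.w f]; infer_instance
    exact Groth.Agent.H8Lim.lfp_cancel_right f.left Y.hom
  have hn0 : 0 < n := hn ▸ (Scheme.Hom.one_le_finrank_iff_surjective (f := f.left)).2 inferInstance _
  have hkill : i ≫ (𝟙 H) ^ n = 1 := by
    rw [MonObj.comp_pow, Category.comp_id]
    exact Groth.Agent.AbCubeLib.pow_eq_one_of_comp_eq_one f n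
      (fun s => by rw [Subsingleton.elim (α := ↥(Spec (CommRingCat.of k))) s (IsLocalRing.closedPoint k), ← hn])
      i (Groth.Agent.AlgGrpLib.kernel_comp hsq)
  haveI : IsMonHom ((𝟙 H) ^ n) := WittGrp.isMonHom_of_comp_mul _
    (by rw [MonObj.comp_pow, Category.comp_id, _root_.one_pow])
    fun T u v => by simp only [MonObj.comp_pow, Category.comp_id, mul_pow]
  obtain ⟨g, ⟨hg, hfg⟩, -⟩ := Groth.Agent.AbVarLib.existsUnique_lift_of_kernel f i hsq ((𝟙 H) ^ n) hkill
  haveI : Epi f := Over.epi_of_epi_left _
  have hgf : g ≫ f = (𝟙 Y) ^ n := by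
    rw [← cancel_epi f, reassoc_of% hfg, MonObj.comp_pow, Category.comp_id]
    exact (MonObj.pow_comp (𝟙 H) n f).trans (by rw [Category.id_comp])
  obtain ⟨hfin, hsur⟩ := Groth.Agent.GaGmQuot.isFinite_surjective_gm_pow (K := k) hn0
  haveI : IsFinite g.left := by
    have h1 : IsFinite (g.left ≫ f.left) := by rw [← Over.comp_left, hgf]; exact hfin
    exact IsFinite.of_comp g.left f.left
  haveI : Surjective g.left := by
    haveI : Surjective (g.left ≫ f.left) := by rw [← Over.comp_left, hgf]; exact hsur
    refine ⟨Set.range_eq_univ.1 ?_⟩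
    obtain ⟨z, hz⟩ := (g.left ≫ f.left).surjective (genericPoint Y.left)
    have hp : f.left (g.left z) = genericPoint Y.left := hz
    have hspec : g.left z = genericPoint H.left := by
      have hd := f.left.isDiscrete_preimage_singleton (genericPoint Y.left)
      by_contra hne
      haveI := hd.to_subtype
      have hη : genericPoint H.left ∈ f.left ⁻¹' {genericPoint Y.left} :=
        Groth.Agent.AbVarLib.map_genericPoint_of_surjective f.left
      have hs : (⟨genericPoint H.left, hη⟩ : f.left ⁻¹' {genericPoint Y.left}) ⤳ ⟨g.left z, hp⟩ :=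
        (subtype_specializes_iff _ _).2 (genericPoint_specializes _)
      exact hne (congrArg Subtype.val hs.eq).symm
    refine Set.eq_univ_of_univ_subset ?_
    rw [← (genericPoint_spec H.left).def, ← hspec]
    exact closure_minimal (Set.singleton_subset_iff.2 ⟨z, rfl⟩) g.left.isClosedMap.isClosed_range
  haveI : Flat g.left := Groth.Agent.AbVarLib.flat_of_surjective g
  let M := Limits.pullback g η[H]
  let j : M ⟶ Y := Limits.pullback.fst g η[H]
  have hsq' : AlgGrp.IsKernel j g := by
    have h := IsPullback.of_hasPullback g η[H]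
    rwa [toUnit_unique (Limits.pullback.snd g η[H]) (toUnit M)] at h
  obtain ⟨_, _⟩ := Groth.Agent.AlgGrpLib.exists_grpObj_kernel g j hsq'
  haveI : Mono j := Groth.Agent.AlgGrpLib.kernel_mono hsq'
  haveI : IsFinite M.hom := by
    have h2 := IsPullback.map (CategoryTheory.Over.forget _) hsq'
    have h3 : IsFinite (toUnit M).left := MorphismProperty.of_isPullback (P := @IsFinite) h2 ‹IsFinite g.left›
    have e : M.hom = (toUnit M).left := (Over.w (toUnit M)).symm.trans (Category.comp_id _)
    rw [e]
    exact h3
  obtain ⟨φ, hφ, hker, hflat, hsurj⟩ := Groth.Agent.GaGmQuot.gm_case j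
  haveI := hflat
  haveI := hsurj
  haveI : QuasiCompact φ.left := by
    haveI : IsAffineHom φ.left := isAffineHom_of_isAffine _
    infer_instance
  obtain ⟨ρ, ⟨hρ, h1⟩, -⟩ := Groth.Agent.AbVarLib.existsUnique_lift_of_kernel g j hsq' φ (Groth.Agent.AlgGrpLib.kernel_comp hker)
  obtain ⟨σ, ⟨hσ, h2⟩, -⟩ := Groth.Agent.AbVarLib.existsUnique_lift_of_kernel φ j hker g (Groth.Agent.AlgGrpLib.kernel_comp hsq')
  haveI : Epi g := Over.epi_of_epi_left _
  haveI : Epi φ := Over.epi_of_epi_left _
  let e : H ≅ Red.Gm (Spec (CommRingCat.of k)) :=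
    { hom := ρ, inv := σ
      hom_inv_id := by rw [← cancel_epi g, reassoc_of% h1, h2, Category.comp_id]
      inv_hom_id := by rw [← cancel_epi φ, reassoc_of% h2, h1, Category.comp_id] }
  haveI : IsMonHom e.hom := hρ
  exact ⟨Grp.mkIso' e⟩

end Groth.Agent.S15607
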