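import Groth.Statements.S15609
import Groth.Agent.AlgGrpLib.TangentVector
import Groth.Agent.SGA3xLib.SepFibre
set_option backward.isDefEq.respectTransparency.types false

set_option autoImplicit false
universe u
open CategoryTheory MonoidalCategory CartesianMonoidalCategory MonObj GrpObj AlgebraicGeometry
open AlgGrp

namespace Groth.Agent.S15609

/-- The implication (ii) ⇒ (i). Let k be a field and f : G ⟶ G' a homomorphism of k-group schemes of
finite type. Suppose that f is injective on K-points for every algebraically closed field K over k,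
and that f is injective on tangent spaces at the identity: every point of G with values in the dual
numbers k[ε] which restricts to the identity at ε = 0 and is sent by f to the identity point of G'
is itself the identity point. Then f has trivial kernel: it is a monomorphism. (The published
statement assumes G smooth; this implication does not use it.) -/
theorem result (k : Type u) [Field k]
    (G G' : Over (Spec (CommRingCat.of k))) [GrpObj G] [GrpObj G'] [LocallyOfFiniteType G.hom] [QuasiCompact G.hom]
    [LocallyOfFiniteType G'.hom] [QuasiCompact G'.hom] (f : G ⟶ G') [IsMonHom f]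
    (hgeom : ∀ (K : Type u) [Field K] [IsAlgClosed K] [Algebra k K],
      Function.Injective (fun g : (Over.mk (Spec.map (CommRingCat.ofHom (algebraMap k K)))) ⟶ G => g ≫ f))
    (htan : ∀ g : (Over.mk (Spec.map (CommRingCat.ofHom (algebraMap k (DualNumber k))))) ⟶ G,
      (∀ x : 𝟙_ (Over (Spec (CommRingCat.of k))) ⟶ (Over.mk (Spec.map (CommRingCat.ofHom (algebraMap k (DualNumber k))))), x ≫ g = η[G]) →
        g ≫ f = toUnit _ ≫ η[G'] → g = toUnit _ ≫ η[G]) :
    Mono f := by
  let N := Limits.pullback f η[G']
  let n : N ⟶ G := Limits.pullback.fst f η[G']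
  have hnf : n ≫ f = 1 := by
    rw [Hom.one_def, Limits.pullback.condition, toUnit_unique (Limits.pullback.snd f η[G']) (toUnit _)]
  haveI : IsSeparated G'.hom := Groth.Agent.SGA3xLib.isSeparated_of_grpObj G'
  haveI : IsClosedImmersion η[G'].left := by
    haveI : IsClosedImmersion (η[G'].left ≫ G'.hom) := by
      rw [Over.w η[G']]; exact inferInstanceAs (IsClosedImmersion (𝟙 (Spec (CommRingCat.of k))))
    exact IsClosedImmersion.of_comp η[G'].left G'.hom
  haveI : IsClosedImmersion n.left :=
    MorphismProperty.of_isPullback (P := @IsClosedImmersion)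
      ((IsPullback.of_hasPullback f η[G']).map (Over.forget _)).flip ‹_›
  haveI : IsLocallyNoetherian G.left := LocallyOfFiniteType.isLocallyNoetherian G.hom
  haveI : LocallyOfFiniteType N.hom := by rw [← Over.w n]; infer_instance
  haveI : IsLocallyNoetherian N.left := LocallyOfFiniteType.isLocallyNoetherian N.hom
  haveI : Mono n := Over.mono_of_mono_left _
  obtain ⟨e, he⟩ : ∃ e : 𝟙_ (Over (Spec (CommRingCat.of k))) ⟶ N, e ≫ n = η[G] :=
    ⟨Limits.pullback.lift η[G] (𝟙 _) (by rw [IsMonHom.one_hom, Category.id_comp]),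
      Limits.pullback.lift_fst _ _ _⟩
  -- the kernel has one point
  have hpt : ∀ y : N.left, y = e.left (IsLocalRing.closedPoint k) := fun y => by
    let Ω := AlgebraicClosure (N.left.residueField y)
    let ρ : k →+* N.left.residueField y :=
      (Spec.preimage (N.left.fromSpecResidueField y ≫ N.hom)).hom
    letI : Algebra k Ω := ((algebraMap (N.left.residueField y) Ω).comp ρ).toAlgebra
    let p : Over.mk (Spec.map (CommRingCat.ofHom (algebraMap k Ω))) ⟶ N :=
      Over.homMk (Spec.map (CommRingCat.ofHom (algebraMap (N.left.residueField y) Ω)) ≫ N.left.fromSpecResidueField y) (by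
        rw [Category.assoc, ← Spec.map_preimage (N.left.fromSpecResidueField y ≫ N.hom), ← Spec.map_comp]
        rfl)
    have h1 : p ≫ n = (1 : _ ⟶ G) := hgeom Ω (by
      show (p ≫ n) ≫ f = 1 ≫ f
      rw [Category.assoc, hnf, MonObj.comp_one, MonObj.one_comp])
    have h2 : p = toUnit _ ≫ e := by
      rw [← cancel_mono n, h1, Category.assoc, he, Hom.one_def]
    let o : ↥(Over.mk (Spec.map (CommRingCat.ofHom (algebraMap k Ω)))).left := IsLocalRing.closedPoint Ω
    have h3 : p.left o = (toUnit (Over.mk (Spec.map (CommRingCat.ofHom (algebraMap k Ω)))) ≫ e).left o := by rw [h2]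
    have h4 : p.left o = y := by
      show (Spec.map (CommRingCat.ofHom (algebraMap (N.left.residueField y) Ω)) ≫ N.left.fromSpecResidueField y) o = y
      rw [Scheme.Hom.comp_apply]
      exact Scheme.fromSpecResidueField_apply _ _
    rw [← h4, h3, Over.comp_left, Scheme.Hom.comp_apply]
    exact congrArg e.left (((inferInstance : Subsingleton (PrimeSpectrum k))).elim _ _)
  haveI : Subsingleton N.left := ⟨fun a b => (hpt a).trans (hpt b).symm⟩
  haveI : IsAffine N.left := by
    obtain ⟨_, ⟨U, hU, rfl⟩, hyU, -⟩ := N.left.isBasis_affineOpens.exists_subset_of_mem_open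
      (Set.mem_univ (e.left (IsLocalRing.closedPoint k))) isOpen_univ
    have htop : U = ⊤ := top_le_iff.1 fun y _ => hpt y ▸ hyU
    subst htop
    haveI : IsAffine ((⊤ : N.left.Opens) : Scheme) := hU
    exact IsAffine.of_isIso N.left.topIso.inv
  let B : CommRingCat := Γ(N.left, ⊤)
  haveI : IsNoetherianRing B := IsLocallyNoetherian.component_noetherian ⟨⊤, isAffineOpen_top _⟩
  let σ : Spec B ⟶ N.left := N.left.isoSpec.inv
  let ρ : k →+* B := (Spec.preimage (σ ≫ N.hom)).hom
  have hρ : σ ≫ N.hom = Spec.map (CommRingCat.ofHom ρ) := by simp [ρ]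
  letI : Algebra k B := ρ.toAlgebra
  let χ₀ : B →+* k := (Spec.preimage (e.left ≫ N.left.isoSpec.hom)).hom
  have hχ₀ : Spec.map (CommRingCat.ofHom χ₀) ≫ σ = e.left := by simp [χ₀, σ]
  have hχρ : χ₀.comp ρ = RingHom.id k := by
    refine congrArg CommRingCat.Hom.hom (Spec.map_injective (a₁ := CommRingCat.ofHom (χ₀.comp ρ)) (a₂ := 𝟙 _) ?_)
    rw [CommRingCat.ofHom_comp, Spec.map_comp, ← hρ, ← Category.assoc, hχ₀, Spec.map_id]
    exact Over.w e
  let χ : B →ₐ[k] k := { χ₀ with commutes' := fun c => RingHom.congr_fun hχρ c }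
  -- the kernel is reduced to the origin
  have hinj : Function.Injective χ := by
    by_contra hni
    obtain ⟨x, hx, hx0⟩ : ∃ x, χ x = 0 ∧ x ≠ 0 := by
      by_contra hh
      push Not at hh
      exact hni ((injective_iff_map_eq_zero χ).2 hh)
    obtain ⟨q, hq1, b, hq2⟩ := Groth.Agent.AlgGrpLib.exists_cotangent_functional χ (fun b hb => ⟨x, hx, fun h0 => by
      refine hx0 ?_
      have hu : IsUnit b := by
        by_contra hb'
        obtain ⟨M, hM, hbM⟩ := exists_max_ideal_of_mem_nonunits hb'
        haveI : Subsingleton (PrimeSpectrum B) := N.left.isoSpec.inv.homeomorph.injective.subsingleton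
        have h : (⟨M, hM.isPrime⟩ : PrimeSpectrum B) = ⟨RingHom.ker χ₀, RingHom.ker_isPrime χ₀⟩ := Subsingleton.elim _ _
        have hb0 : b ∈ RingHom.ker χ₀ := by
          rw [show RingHom.ker χ₀ = M from (congrArg PrimeSpectrum.asIdeal h).symm]; exact hbM
        exact one_ne_zero (hb.symm.trans hb0)
      exact hu.mul_right_eq_zero.1 h0⟩)
    let w : Over.mk (Spec.map (CommRingCat.ofHom (algebraMap k (DualNumber k)))) ⟶ N :=
      Over.homMk (Spec.map (CommRingCat.ofHom q.toRingHom) ≫ σ) (by
        change (Spec.map _ ≫ _) ≫ N.hom = Spec.map _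
        rw [Category.assoc, hρ, ← Spec.map_comp]
        congr 1
        exact CommRingCat.hom_ext (RingHom.ext fun c => q.commutes c))
    have hwn : w ≫ n = toUnit _ ≫ η[G] := htan (w ≫ n) (fun x => by
      rw [← Category.assoc, show x ≫ w = e from ?_, he]
      refine Over.OverMorphism.ext ?_
      obtain ⟨x₀, hx₀⟩ := Spec.map_surjective x.left
      have hxw : x₀.hom.comp (algebraMap k (DualNumber k)) = RingHom.id k := by
        have h := Over.w x
        rw [← hx₀] at h
        have h' : Spec.map (CommRingCat.ofHom (algebraMap k (DualNumber k)) ≫ x₀) = Spec.map (𝟙 _) := by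
          rw [Spec.map_comp, Spec.map_id]; exact h
        exact congrArg CommRingCat.Hom.hom (Spec.map_injective h')
      show x.left ≫ Spec.map _ ≫ σ = e.left
      rw [← hx₀, ← hχ₀, ← Category.assoc, ← Spec.map_comp]
      congr 2
      refine CommRingCat.hom_ext (RingHom.ext fun c => ?_)
      have hd : q c = algebraMap k (DualNumber k) (χ c) + (q c).snd • DualNumber.eps := by
        refine TrivSqZeroExt.ext ?_ ?_ <;> simp [TrivSqZeroExt.algebraMap_eq_inl', hq1]
      have hε : x₀.hom DualNumber.eps = 0 := by
        have h2 : x₀.hom DualNumber.eps * x₀.hom DualNumber.eps = 0 := by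
          rw [← map_mul, DualNumber.eps_mul_eps, map_zero]
        exact mul_self_eq_zero.1 h2
      show x₀.hom (q c) = χ₀ c
      rw [hd, map_add, Algebra.smul_def, map_mul, hε, mul_zero, add_zero]
      exact RingHom.congr_fun hxw (χ c)) (by rw [Category.assoc, hnf, MonObj.comp_one, Hom.one_def])
    have hw : w = toUnit _ ≫ e := by rw [← cancel_mono n, hwn, Category.assoc, he]
    have hl := congrArg CommaMorphism.left hw
    change Spec.map _ ≫ σ = Spec.map (CommRingCat.ofHom (algebraMap k (DualNumber k))) ≫ e.left at hl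
    rw [← hχ₀, ← Category.assoc, ← Spec.map_comp, cancel_mono] at hl
    have h5 := congr($(Spec.map_injective hl) b)
    exact hq2 ((congrArg TrivSqZeroExt.snd h5).trans (TrivSqZeroExt.snd_inl k _))
  have hN : 𝟙 N = toUnit N ≫ e := by
    refine Over.OverMorphism.ext ?_
    show 𝟙 N.left = N.hom ≫ e.left
    rw [← cancel_epi σ, Category.comp_id, ← Category.assoc, hρ, ← hχ₀, ← Category.assoc, ← Spec.map_comp,
      show CommRingCat.ofHom χ₀ ≫ CommRingCat.ofHom ρ = 𝟙 B from CommRingCat.hom_ext (RingHom.ext fun c => hinj (by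
        show χ₀ (ρ (χ₀ c)) = χ₀ c
        exact RingHom.congr_fun hχρ (χ₀ c)))]
    exact (Category.id_comp σ).symm.trans (congrArg (· ≫ σ) (Spec.map_id B).symm)
  refine ⟨fun {T} x y hxy => ?_⟩
  let l : T ⟶ N := Limits.pullback.lift (x⁻¹ * y) (toUnit T) (by
    rw [MonObj.mul_comp, GrpObj.inv_comp, hxy, inv_mul_cancel, Hom.one_def])
  have hl : l ≫ n = x⁻¹ * y := Limits.pullback.lift_fst _ _ _
  have h : x⁻¹ * y = 1 := by
    refine hl.symm.trans (((congrArg (l ≫ ·) (Category.id_comp n)).symm.trans
      (congrArg (fun r => l ≫ r ≫ n) hN)).trans ?_)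
    show l ≫ (toUnit N ≫ e) ≫ n = 1
    rw [Category.assoc, he, ← Category.assoc, comp_toUnit, Hom.one_def]
  exact inv_mul_eq_one.1 h

end Groth.Agent.S15609
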