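import Groth.Statements.S1561
import Groth.Agent.FlatMor12.GenericSmooth
import Groth.Agent.VarietyLib.SmoothStalk
import Mathlib

set_option autoImplicit false
universe u
open CategoryTheory CategoryTheory.Limits AlgebraicGeometry
open Variety
set_option backward.isDefEq.respectTransparency false

namespace Groth.Agent.S1561

/-- Let X be reduced and locally of finite type over a perfect field k. Then a point lies in the smooth
locus of X → Spec k exactly when its local ring is regular, and this locus is dense in X. -/
theorem result (k : Type u) [Field k] (X : Scheme.{u}) [X.Over (Spec (CommRingCat.of k))] [PerfectField k] [IsReduced X]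
    [LocallyOfFinitePresentation (X ↘ (Spec (CommRingCat.of k)))] :
    (∀ x : X, x ∈ (X ↘ (Spec (CommRingCat.of k))).smoothLocus ↔ IsRegularLocalRing (X.presheaf.stalk x)) ∧
      Dense ((X ↘ (Spec (CommRingCat.of k))).smoothLocus : Set X) := by
  refine ⟨fun x => ⟨fun hx => ?_, fun hx => ?_⟩, Scheme.Hom.dense_smoothLocus_of_perfectField _⟩
  · let p := X ↘ Spec (CommRingCat.of k)
    let U : X.Opens := p.smoothLocus
    have : Smooth (U.ι ≫ p) := by
      rw [← Scheme.Hom.smoothLocus_eq_top_iff, ← Scheme.Hom.preimage_smoothLocus_eq]
      exact top_le_iff.1 fun y _ => y.2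
    have := Groth.Agent.VarietyLib.isRegularLocalRing_stalk_of_smooth k U (U.ι ≫ p) ⟨x, hx⟩
    exact IsRegularLocalRing.of_ringEquiv (R := U.toScheme.presheaf.stalk ⟨x, hx⟩)
      (asIso (U.ι.stalkMap ⟨x, hx⟩)).symm.commRingCatIsoToRingEquiv
  · let p := X ↘ Spec (CommRingCat.of k)
    rw [Scheme.Hom.mem_smoothLocus]
    have hess := LocallyOfFiniteType.stalkMap p x
    algebraize [(p.stalkMap x).hom]
    let K' := (Spec.structureSheaf k).presheaf.stalk (p x)
    let e : k ≃ₐ[k] K' := IsLocalization.atUnits _ (p x).asIdeal.primeCompl
        (fun x hx ↦ by aesop (add simp IsUnit.mem_submonoid_iff))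
    have : Algebra.IsAlgebraic k K' :=
      .of_injective e.symm.toAlgHom e.symm.injective
    let : Field K' := (e.toRingEquiv.symm.isField (Field.toIsField k)).toField
    let : Field ((Spec (.of k)).presheaf.stalk (p x)) := this
    have : PerfectField ((Spec (.of k)).presheaf.stalk (p x)) :=
      Algebra.IsAlgebraic.perfectField (K := k)
        (L := (Spec.structureSheaf k).presheaf.stalk (p x))
    exact Groth.Agent.FlatMor12.GenericSmooth.formallySmooth_of_regular_of_perfect
      ((Spec (CommRingCat.of k)).presheaf.stalk (p x)) (X.presheaf.stalk x)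

end Groth.Agent.S1561
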