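import Groth.Statements.S1562
import Groth.Agent.VarietyLib.GeomReducedPt
import Groth.Agent.VarietyLib.SmoothStalk
import Groth.Agent.CAlgH.AdicSmoothGeom
import Groth.Agent.CAlgH.AdicSmoothCotangent
import Groth.Agent.CAlgH.AdicSmoothField

set_option autoImplicit false
universe u
open CategoryTheory CategoryTheory.Limits AlgebraicGeometry
open Variety
open Groth.Agent
attribute [local instance] Curv2.stalkAlgebra
set_option backward.isDefEq.respectTransparency.types false

namespace Groth.Agent.S1562

open TensorProduct


/-- Let X be locally of finite type over a field k and x a point of X. Then X is geometrically regular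
at x (regular local rings at all points over x after every finitely generated field extension) if
and only if x lies in the smooth locus of X → Spec k. -/
theorem result (k : Type u) [Field k] (X : Scheme.{u}) [X.Over (Spec (CommRingCat.of k))] [LocallyOfFinitePresentation (X ↘ (Spec (CommRingCat.of k)))] (x : X) :
    Curv2.IsGeomRegularAt k X x ↔ x ∈ (X ↘ (Spec (CommRingCat.of k))).smoothLocus := by
  let q := X ↘ Spec (CommRingCat.of k)
  constructor
  · intro h
    obtain ⟨_, ⟨U, hU, rfl⟩, hxU, -⟩ :=
      X.isBasis_affineOpens.exists_subset_of_mem_open (Set.mem_univ x) isOpen_univ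
    haveI : LocallyOfFiniteType q := inferInstance
    let φ : k →+* Γ(X, U) := ((Scheme.ΓSpecIso (CommRingCat.of k)).inv ≫ q.appLE ⊤ U le_top).hom
    letI algkA : Algebra k Γ(X, U) := φ.toAlgebra
    haveI hft : Algebra.FiniteType k Γ(X, U) := by
      rw [← RingHom.finiteType_algebraMap]
      exact RingHom.finiteType_respectsIso.2 (q.appLE ⊤ U le_top).hom
        (Scheme.ΓSpecIso (CommRingCat.of k)).commRingCatIsoToRingEquiv.symm
        (HasRingHomProperty.appLE @LocallyOfFiniteType q ‹_› ⟨⊤, isAffineOpen_top _⟩ ⟨U, hU⟩ le_top)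
    letI aX : Algebra Γ(X, U) (X.presheaf.stalk x) := TopCat.Presheaf.algebra_section_stalk X.presheaf ⟨x, hxU⟩
    haveI : IsScalarTower k Γ(X, U) (X.presheaf.stalk x) := by
      refine IsScalarTower.of_algebraMap_eq fun c => ?_
      have h : ((Scheme.ΓSpecIso (CommRingCat.of k)).inv ≫ q.appLE ⊤ U le_top) ≫ X.presheaf.germ U x hxU =
          (Scheme.ΓSpecIso (CommRingCat.of k)).inv ≫ q.appTop ≫ X.presheaf.germ ⊤ x trivial := by
        rw [Scheme.Hom.appLE, Category.assoc, Category.assoc, TopCat.Presheaf.germ_res]
        rfl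
      exact (congrArg (fun m => m c) h).symm
    let p := (hU.primeIdealOf ⟨x, hxU⟩).asIdeal
    haveI : IsLocalization p.primeCompl (X.presheaf.stalk x) := hU.isLocalization_stalk ⟨x, hxU⟩
    let e : Localization.AtPrime p ≃ₐ[k] X.presheaf.stalk x :=
      (IsLocalization.algEquiv p.primeCompl (Localization.AtPrime p) (X.presheaf.stalk x)).restrictScalars k
    haveI : IsNoetherianRing Γ(X, U) := Algebra.FiniteType.isNoetherianRing k _
    haveI : IsNoetherianRing (Localization.AtPrime p) := IsLocalization.isNoetherianRing p.primeCompl _ inferInstance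
    haveI : IsNoetherianRing (X.presheaf.stalk x) := isNoetherianRing_of_ringEquiv _ e.toRingEquiv
    have hgeo : CAlg.IsGeometricallyRegular k (Localization.AtPrime p) := by
      intro K _ _ hK
      haveI := hK
      let B := X.presheaf.stalk x
      haveI : Module.Finite B (B ⊗[k] K) := inferInstance
      haveI : IsNoetherianRing (B ⊗[k] K) :=
        Algebra.FiniteType.isNoetherianRing B _
      have hfg : (⊤ : IntermediateField k K).FG := IntermediateField.fg_of_noetherian ⊤
      have hB : IsRegularRing (B ⊗[k] K) := by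
        refine CAlgH.AdicSmooth.isRegularRing_of_maximals _ fun P hP => ?_
        let P' : PrimeSpectrum (B ⊗[k] K) := ⟨P, hP.isPrime⟩
        haveI : Algebra.IsIntegral B (B ⊗[k] K) := inferInstance
        haveI : (P.comap (algebraMap B (B ⊗[k] K))).IsMaximal :=
          Ideal.isMaximal_comap_of_isIntegral_of_isMaximal P
        haveI := h K hfg _ (VarietyLib.bcFst_bcLoc_eq k X K x P'
          (IsLocalRing.eq_maximalIdeal (show (P'.asIdeal.comap (algebraMap B (B ⊗[k] K))).IsMaximal from this)))
        obtain ⟨e'⟩ := VarietyLib.nonempty_stalk_bcLoc_equiv k X K x P'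
        exact IsRegularLocalRing.of_ringEquiv e'
      exact IsRegularRing.of_ringEquiv
        (((Algebra.TensorProduct.comm k B K).trans
          (Algebra.TensorProduct.congr AlgEquiv.refl e.symm)).toRingEquiv)
    haveI : Algebra.FormallySmooth k (Localization.AtPrime p) :=
      CAlgH.AdicSmooth.formallySmooth_localization p (CAlgH.AdicSmooth.of_isGeometricallyRegular hgeo)
    haveI : Algebra.FormallySmooth k (X.presheaf.stalk x) := Algebra.FormallySmooth.of_equiv e
    rw [Scheme.Hom.mem_smoothLocus]
    let y : PrimeSpectrum k := q.base x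
    let α : CommRingCat.of k ⟶ (Spec (CommRingCat.of k)).presheaf.stalk (q.base x) :=
      StructureSheaf.toStalk (CommRingCat.of k) (q.base x)
    have hα : α ≫ q.stalkMap x = CommRingCat.ofHom (algebraMap k (X.presheaf.stalk x)) := by
      refine Spec.map_injective ?_
      rw [Spec.map_comp, VarietyLib.specMap_stalkAlgebra]
      refine Eq.trans ?_ (Scheme.SpecMap_stalkMap_fromSpecStalk q (x := x))
      exact congrArg (Spec.map (q.stalkMap x) ≫ ·) (Spec.fromSpecStalk_eq' (R := CommRingCat.of k) (x := q.base x)).symm
    haveI : IsIso α := by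
      rw [ConcreteCategory.isIso_iff_bijective]
      letI : Algebra k ((Spec (CommRingCat.of k)).presheaf.stalk (q.base x)) := α.hom.toAlgebra
      haveI : IsLocalization.AtPrime ((Spec (CommRingCat.of k)).presheaf.stalk (q.base x)) y.asIdeal :=
        StructureSheaf.IsLocalization.to_stalk _ y
      exact IsField.localization_map_bijective (M := y.asIdeal.primeCompl) (fun h0 => h0 y.asIdeal.zero_mem)
        (Field.toIsField k)
    have h2 : (α ≫ q.stalkMap x).hom.FormallySmooth := by
      rw [hα]; exact RingHom.formallySmooth_algebraMap.2 inferInstance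
    exact (RingHom.FormallySmooth.respectsIso.cancel_left_isIso α (q.stalkMap x)).1 h2
  · intro hx K _ _ _ z hz
    set U := q.smoothLocus
    haveI : Smooth (U.ι ≫ q) := by
      rw [← Scheme.Hom.smoothLocus_eq_top_iff, ← Scheme.Hom.preimage_smoothLocus_eq, eq_top_iff]
      exact fun w _ => w.2
    let V := Curv2.bcFst k X K ⁻¹ᵁ U
    have hzV : z ∈ V := show Curv2.bcFst k X K z ∈ U from hz.symm ▸ hx
    have hV : IsPullback (Curv2.bcFst k X K ∣_ U) (V.ι ≫ Curv2.bcSnd k X K) (U.ι ≫ q)
        (Spec.map (CommRingCat.ofHom (algebraMap k K))) :=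
      (isPullback_morphismRestrict (Curv2.bcFst k X K) U).paste_vert (IsPullback.of_hasPullback q _)
    haveI : Smooth (V.ι ≫ Curv2.bcSnd k X K) := MorphismProperty.of_isPullback hV inferInstance
    haveI := VarietyLib.isRegularLocalRing_stalk_of_smooth K V (V.ι ≫ Curv2.bcSnd k X K) ⟨z, hzV⟩
    exact IsRegularLocalRing.of_ringEquiv (asIso (V.ι.stalkMap ⟨z, hzV⟩)).commRingCatIsoToRingEquiv.symm

end Groth.Agent.S1562
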