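import Groth.Statements.S1563
import Groth.Agent.VarietyLib.GeomReducedPt
import Groth.Agent.FlatLocal.FlatBaseChangeAt
import Groth.Agent.CAlgH3.RegularHom

set_option autoImplicit false
universe u
open CategoryTheory CategoryTheory.Limits AlgebraicGeometry
open Variety
open Groth.Agent
attribute [local instance] Curv2.stalkAlgebra
set_option backward.isDefEq.respectTransparency.types false

namespace Groth.Agent.S1563

open TensorProduct


/-- Geometric regularity descends along a morphism f of locally Noetherian k-schemes which is flat at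
the point x (the map of local rings at x is flat): if X has it at x then Y has it at f(x). -/
theorem result (k : Type u) [Field k] (X Y : Scheme.{u}) [X.Over (Spec (CommRingCat.of k))] [Y.Over (Spec (CommRingCat.of k))]
    [IsLocallyNoetherian X] [IsLocallyNoetherian Y] (f : X ⟶ Y) (hf : f ≫ (Y ↘ (Spec (CommRingCat.of k))) = X ↘ (Spec (CommRingCat.of k)))
    (x : X) (hflat : (f.stalkMap x).hom.Flat) (hx : Curv2.IsGeomRegularAt k X x) :
    Curv2.IsGeomRegularAt k Y (f.base x) := by
  intro K _ _ hK z hz
  let qX := X ↘ Spec (CommRingCat.of k)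
  let qY := Y ↘ Spec (CommRingCat.of k)
  let yK := Spec.map (CommRingCat.ofHom (algebraMap k K))
  let m : Curv2.bc k X K ⟶ Curv2.bc k Y K :=
    pullback.map qX yK qY yK f (𝟙 _) (𝟙 _) (by rw [Category.comp_id]; exact hf.symm) (by simp)
  have H : IsPullback m (Curv2.bcFst k X K) (Curv2.bcFst k Y K) f := by
    refine (IsPullback.of_right (h₁₁ := m) ?_ ?_ (IsPullback.of_hasPullback qY yK).flip)
    · have e1 : m ≫ pullback.snd qY yK = pullback.snd qX yK := by
        show pullback.lift _ _ _ ≫ _ = _
        rw [pullback.lift_snd, Category.comp_id]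
      rw [e1, hf]
      exact (IsPullback.of_hasPullback qX yK).flip
    · show pullback.lift _ _ _ ≫ _ = _
      rw [pullback.lift_fst]
  obtain ⟨t, ht1, ht2⟩ := Scheme.Pullback.exists_preimage_pullback (f := Curv2.bcFst k Y K) (g := f) z x hz
  let x' := H.isoPullback.inv t
  have hx' : Curv2.bcFst k X K x' = x := by
    rw [← Scheme.Hom.comp_apply, H.isoPullback_inv_snd]; exact ht2
  haveI := hx K hK x' hx'
  haveI : IsRegularLocalRing ((pullback (Curv2.bcFst k Y K) f).presheaf.stalk t) :=
    IsRegularLocalRing.of_ringEquiv (asIso (H.isoPullback.inv.stalkMap t)).commRingCatIsoToRingEquiv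
  have hflat' : ((pullback.fst (Curv2.bcFst k Y K) f).stalkMap t).hom.Flat :=
    FlatLocal.flat_stalkMap_fst (Curv2.bcFst k Y K) f t (by rw [ht2]; exact hflat)
  subst ht1
  set z := pullback.fst (Curv2.bcFst k Y K) f t
  haveI := IntermediateField.essFiniteType_iff.2 hK
  haveI : Algebra.EssFiniteType k K :=
    Algebra.EssFiniteType.of_surjective (IntermediateField.topEquiv (F := k) (E := K)).toAlgHom
      IntermediateField.topEquiv.surjective
  haveI : IsNoetherianRing ((Curv2.bc k Y K).presheaf.stalk z) := by
    obtain ⟨P, hP⟩ := VarietyLib.exists_bcLoc_eq k Y K (f.base x) z (hz ▸ specializes_rfl)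
    obtain ⟨e⟩ := VarietyLib.nonempty_stalk_bcLoc_equiv k Y K (f.base x) P
    haveI : IsNoetherianRing (Y.presheaf.stalk (f.base x) ⊗[k] K) :=
      Algebra.EssFiniteType.isNoetherianRing (Y.presheaf.stalk (f.base x)) _
    haveI : IsNoetherianRing (Localization.AtPrime P.asIdeal) :=
      IsLocalization.isNoetherianRing P.asIdeal.primeCompl _ inferInstance
    rw [← hP]
    exact isNoetherianRing_of_ringEquiv _ e.symm
  algebraize [((pullback.fst (Curv2.bcFst k Y K) f).stalkMap t).hom]
  haveI : IsLocalHom (algebraMap ((Curv2.bc k Y K).presheaf.stalk z) ((pullback (Curv2.bcFst k Y K) f).presheaf.stalk t)) :=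
    inferInstanceAs (IsLocalHom ((pullback.fst (Curv2.bcFst k Y K) f).stalkMap t).hom)
  haveI : Module.Flat ((Curv2.bc k Y K).presheaf.stalk z) ((pullback (Curv2.bcFst k Y K) f).presheaf.stalk t) := hflat'
  exact CAlgH3.isRegularLocalRing_of_flat (R := (Curv2.bc k Y K).presheaf.stalk z)
    ((pullback (Curv2.bcFst k Y K) f).presheaf.stalk t)

end Groth.Agent.S1563
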