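import Groth.Statements.S15645
import Groth.Agent.Clifford24.Nodal.Crit
import Groth.Agent.FlatMorLocalStr.Chart
-- import your own Groth.Agent.* helpers here

set_option autoImplicit false
set_option linter.style.haveILetI false
set_option backward.isDefEq.respectTransparency false
universe u
open StrictSS

namespace Groth.Agent.S15645

open Groth.Agent AlgebraicGeometry CategoryTheory CategoryTheory.Limits

theorem smooth_line (A : Type u) [CommRing A] : SmoothOfRelativeDimension 1 (StrictSS.lineToBase A) := by
  haveI : Algebra.IsStandardSmoothOfRelativeDimension 1 A (Polynomial A) := by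
    haveI := FlatMorLocalStr.isStandardSmoothOfRelativeDimension_mvPolynomial A 1
    exact .of_algEquiv 1 (MvPolynomial.uniqueAlgEquiv A (Fin 1))
  rw [HasRingHomProperty.Spec_iff (P := @SmoothOfRelativeDimension 1)]
  exact RingHom.locally_of (RingHom.isStandardSmoothOfRelativeDimension_respectsIso (n := 1)) _
    ((RingHom.isStandardSmoothOfRelativeDimension_algebraMap 1).2 inferInstance)

variable {C D S : Scheme.{u}} {φ : C ⟶ S} {i : D ⟶ C}

theorem smooth_of_line {x : C} (h : StrictSS.HasLineChartAt φ i x) :
    ∃ U : C.Opens, x ∈ U ∧ SmoothOfRelativeDimension 1 (U.ι ≫ φ) := by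
  obtain ⟨A, j, hj, U, hx, q, hq, f, fD, hf, hfq, -, -⟩ := h
  haveI := hj
  haveI := hf
  haveI := smooth_line A
  haveI : SmoothOfRelativeDimension 1 (f ≫ StrictSS.lineToBase A) := by
    simpa using smoothOfRelativeDimension_comp f (StrictSS.lineToBase A) (n := 0) (m := 1)
  refine ⟨U, hx, ?_⟩
  rw [hq, ← hfq]
  simpa using smoothOfRelativeDimension_comp (f ≫ StrictSS.lineToBase A) j (n := 1) (m := 0)

theorem hasChart_of_node {x : C} (h : StrictSS.HasNodeChartAt φ i x) : Clifford24.Nodal.HasChart φ x := by
  obtain ⟨A, j, hj, U, hx, q, hq, a, f, hf, hfq, -⟩ := h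
  haveI := hj
  refine ⟨A, inferInstance, a, U, U.ι, j, f, inferInstance, inferInstance, hf, ?_, ⟨⟨x, hx⟩, rfl⟩⟩
  rw [hq, ← hfq, Category.assoc]
  rfl

theorem not_node_at (h : StrictSS.IsStrictlySemistable φ i) (d : D) : StrictSS.HasLineChartAt φ i (i d) :=
  (h.2 (i d)).resolve_right fun ⟨_, _, _, U, hx, _, _, _, _, _, _, hdis⟩ =>
    Set.disjoint_left.1 hdis ⟨d, rfl⟩ hx

/-- A strictly semistable multipointed curve (C, D) over a scheme S is semistable. Here (C, D) is a
multipointed S-curve (C flat, finitely presented and of pure relative dimension one over S; D a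
closed subscheme of C, flat, finitely presented and of relative dimension zero over S) every point
of which has an open neighbourhood U, over an affine open Spec A of S, with an etale morphism of
pairs from (U, D ∩ U) to the line model (Spec A[T], zero section) or, when no marked point lies in
U, an etale morphism from U to a node model Spec A[u, v]/(uv - a); the conclusion is that C → S is
an at-worst-nodal family of curves, D → S is etale and D misses the non-smooth locus of C → S. (The
published remark concerns curves over the spectrum of a valuation ring; the notion and the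
implication are local on the base, and this row states the implication over an arbitrary base
scheme.) -/
theorem result
    {C D S : Scheme.{u}} (φ : C ⟶ S) (i : D ⟶ C) (h : StrictSS.IsStrictlySemistable φ i) :
    SSMod.IsSemistable φ i := by
  obtain ⟨⟨hfl, hfp, h3, h4, h5, h6, h7, h8, h9⟩, hch⟩ := h
  haveI := hfl
  haveI := hfp
  refine ⟨⟨hfl, hfp, h3, h4, h5, h6, h7, h8, h9⟩,
    (Clifford24.Nodal.isNodalFamily_iff φ).2 ⟨hfl, hfp, fun x => ?_⟩, ?_, ?_⟩
  · rcases hch x with hl | hn
    · obtain ⟨U, hx, hU⟩ := smooth_of_line hl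
      exact NodeLib7.exists_model_smooth φ x U hx
    · exact hasChart_of_node hn
  · have hd : ∀ d : D, ∃ V : D.Opens, d ∈ V ∧ Etale (V.ι ≫ i ≫ φ) := fun d => by
      obtain ⟨A, j, hj, U, hx, q, hq, f, fD, hf, hfq, hfD, hfD'⟩ :=
        not_node_at ⟨⟨hfl, hfp, h3, h4, h5, h6, h7, h8, h9⟩, hch⟩ d
      haveI := hj
      haveI := hfD
      refine ⟨i ⁻¹ᵁ U, hx, ?_⟩
      have e : (i ⁻¹ᵁ U).ι ≫ i ≫ φ = fD ≫ j := by
        rw [← Category.assoc, ← morphismRestrict_ι, Category.assoc, hq, ← hfq, ← Category.assoc,
          ← Category.assoc, ← hfD', Category.assoc, Category.assoc, ← Category.assoc (StrictSS.lineZero A)]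
        have e' : StrictSS.lineZero A ≫ StrictSS.lineToBase A = 𝟙 _ := by
          rw [← Spec.map_comp, ← CommRingCat.ofHom_comp, ← Spec.map_id]
          congr 1
          ext a
          simp
        rw [e', Category.id_comp]
      rw [e]
      infer_instance
    choose V hV hE using hd
    exact IsZariskiLocalAtSource.of_iSup_eq_top V (eq_top_iff.2 fun d _ => TopologicalSpace.Opens.mem_iSup.2 ⟨d, hV d⟩) hE
  · refine Set.disjoint_left.2 ?_
    rintro _ ⟨d, rfl⟩ hns
    obtain ⟨U, hx, hU⟩ := smooth_of_line (not_node_at ⟨⟨hfl, hfp, h3, h4, h5, h6, h7, h8, h9⟩, hch⟩ d)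
    haveI : Smooth (U.ι ≫ φ) := SmoothOfRelativeDimension.smooth 1 _
    refine hns ?_
    have : (⟨i d, hx⟩ : U) ∈ (U.ι ≫ φ).smoothLocus := by rw [Scheme.Hom.smoothLocus_eq_top]; trivial
    rw [← Scheme.Hom.preimage_smoothLocus_eq] at this
    exact this

end Groth.Agent.S15645
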