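import Groth.Statements.S1565
import Groth.Agent.FF.CanonicalSeparating
import Groth.Agent.Hyper24.FrobTwist
import Groth.Agent.Zeta24.Genus
import Groth.Agent.OmegaDual24.Main
import Groth.Agent.CurveRR24.BCField

set_option autoImplicit false
universe u
open CategoryTheory CategoryTheory.Limits AlgebraicGeometry
attribute [local instance] Curv2.resAlgebra
open Curves

namespace Groth.Agent.S1565

open Groth.Agent FunFld
open scoped IntermediateField
attribute [local instance] Curv2.stalkAlgebra
set_option backward.isDefEq.respectTransparency.types false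
set_option linter.style.haveILetI false
set_option maxHeartbeats 1000000

variable {k : Type u} [Field k] {X : Scheme.{u}} [X.Over (Spec (CommRingCat.of k))] [IsIntegral X]
  [IsProper (X ↘ Spec (CommRingCat.of k))] [Smooth (X ↘ Spec (CommRingCat.of k))]

theorem exists_resEquiv (hdim : topologicalKrullDim X = 1) (hK : IsFunctionField k X.functionField)
    (x : {x : X // IsClosed ({x} : Set X)}) :
    Nonempty (X.residueField x.1 ≃ₐ[k] IsLocalRing.ResidueField (Zeta24.placeOf hdim rfl hK x).O) := by
  set P := Zeta24.placeOf hdim rfl hK x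
  let φ : X.presheaf.stalk x.1 →+* P.O :=
    (algebraMap (X.presheaf.stalk x.1) X.functionField).codRestrict P.O.toSubring fun a =>
      (Set.ext_iff.mp (Zeta24.coe_O_placeOf hdim rfl hK x) _).mpr ⟨a, rfl⟩
  have hφ : Function.Bijective φ := ⟨fun a b h => IsFractionRing.injective (X.presheaf.stalk x.1) X.functionField
      (congrArg Subtype.val h), fun z => by
    obtain ⟨a, ha⟩ := (Set.ext_iff.mp (Zeta24.coe_O_placeOf hdim rfl hK x) _).mp z.2
    exact ⟨a, Subtype.ext ha⟩⟩
  let E := IsLocalRing.ResidueField.mapEquiv (RingEquiv.ofBijective φ hφ)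
  exact ⟨{ E with
    commutes' := fun c => by
      show E (IsLocalRing.residue (X.presheaf.stalk x.1) (Curv2.stalkMap k X x.1 c)) = _
      refine (IsLocalRing.ResidueField.map_residue _ _).trans ?_
      exact congrArg (IsLocalRing.residue P.O) (Subtype.ext (Zeta24.const_eq rfl x.1 c).symm) }⟩

/-- The function field of the first Frobenius twist: the subfield `k(K^p)`, of the same genus. -/
theorem exists_sub (hdim : topologicalKrullDim X = 1)
    (h0 : Module.finrank k (Coh.HH X (Coh.structureModule X) 0) = 1) (p : ℕ) [Fact p.Prime] [CharP k p] :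
    ∃ (K₀ : Type u) (_ : Field K₀) (_ : Algebra k K₀) (χ : K₀ →ₐ[k] X.functionField),
      IsFunctionField k K₀ ∧ genus k K₀ = Curv2.genus k X ∧
      Set.range χ = (FF.powField k X.functionField p : Set X.functionField) := by
  haveI : ExpChar k p := ExpChar.prime Fact.out
  haveI : CompactSpace X := QuasiCompact.compactSpace_of_compactSpace (X ↘ Spec (CommRingCat.of k))
  obtain ⟨-, hint, hdP⟩ := Hyper24.twist_props (k := k) (X := X) p hdim 1
  haveI := hint
  let P := pullback (X ↘ Spec (CommRingCat.of k)) (Hyper24.frk p k 1)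
  letI : P.Over (Spec (CommRingCat.of k)) := ⟨pullback.snd (X ↘ Spec (CommRingCat.of k)) (Hyper24.frk p k 1)⟩
  haveI : IsProper (P ↘ Spec (CommRingCat.of k)) :=
    MorphismProperty.pullback_snd (P := @IsProper) (X ↘ Spec (CommRingCat.of k)) (Hyper24.frk p k 1) inferInstance
  haveI : Smooth (P ↘ Spec (CommRingCat.of k)) :=
    MorphismProperty.pullback_snd (P := @Smooth) (X ↘ Spec (CommRingCat.of k)) (Hyper24.frk p k 1) inferInstance
  haveI : QuasiSeparatedSpace X :=
    quasiSeparatedSpace_of_quasiSeparated (X ↘ Spec (CommRingCat.of k))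
  haveI : Coh.IsQCoh (Coh.structureModule X) := CurveRR24.isQCoh_structure k
  obtain ⟨α⟩ := AmpleLib.exists_pullStructureIso (pullback.fst (X ↘ Spec (CommRingCat.of k)) (Hyper24.frk p k 1)) (X := X)
  have hsq : IsPullback (pullback.fst (X ↘ Spec (CommRingCat.of k)) (Hyper24.frk p k 1))
      (P ↘ Spec (CommRingCat.of k)) (X ↘ Spec (CommRingCat.of k)) (Hyper24.frk p k 1) := IsPullback.of_hasPullback _ _
  have key : ∀ q, Module.finrank k (Coh.HH P (Coh.structureModule P) q) =
      Module.finrank k (Coh.HH X (Coh.structureModule X) q) := fun q =>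
    Coherent.CohBC.finrank_HH_bc k k (iterateFrobenius k p 1) (X ↘ Spec (CommRingCat.of k)) (P ↘ Spec (CommRingCat.of k))
      _ hsq (Coh.structureModule X) (Coh.structureModule P) α q
  haveI := P1SC24.geometricallyConnected_of_h0 k (X := P) ((key 0).trans h0)
  haveI : GeometricallyIntegral (P ↘ Spec (CommRingCat.of k)) := AbVarLib.geometricallyIntegral_of_smooth _
  have hKP := Zeta24.isFunctionField (k := k) (X := P) hdP (hc := rfl)
  obtain ⟨χ, hχ⟩ := Hyper24.exists_twist_algHom (k := k) (X := X) p hdim 1
  refine ⟨P.functionField, inferInstance, inferInstance,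
    (IntermediateField.adjoin k (Set.range fun z : X.functionField => z ^ p ^ 1)).val.comp χ, hKP,
    (Zeta24.finrank_h1 hdP rfl hKP).symm.trans (key 1), ?_⟩
  rw [AlgHom.coe_comp, Set.range_comp, hχ.range_eq, Set.image_univ, FF.powField]
  simp [pow_one]

theorem exists_separating_mem (hdim : topologicalKrullDim X = 1)
    (h0 : Module.finrank k (Coh.HH X (Coh.structureModule X) 0) = 1) (hK : IsFunctionField k X.functionField)
    (hg : 2 ≤ Curv2.genus k X) {E : Divisor k X.functionField} (hE : 0 ≤ E) (hl : ell E = Curv2.genus k X)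
    (hd : E.deg = 2 * (Curv2.genus k X : ℤ) - 2) :
    ∃ t ∈ L E, Algebra.IsSeparable k⟮t⟯ X.functionField := by
  obtain ⟨s, hs, hsep⟩ := Hyper24.exists_separating_functionField (k := k) (X := X) hdim
  haveI := hsep
  have hgeo := FF.isGeometric_of_separating hK hs
  by_contra hc
  push Not at hc
  have hD : ∀ t ∈ L E, KaehlerDifferential.D k X.functionField t = 0 := fun t ht => by
    by_contra h
    exact hc t ht ((FF.isSeparable_iff_D_ne_zero hK hgeo t).mpr h)
  obtain _ | ⟨p, hp, hpk⟩ := CharP.exists' k
  · obtain ⟨t, ht, htc⟩ := FF.exists_mem_not_range hK (E := E) (by omega)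
    haveI := FF.finiteDimensional_adjoin hK (FF.transcendental_of_not_mem hK htc)
    haveI : CharZero k⟮t⟯ := charZero_of_injective_algebraMap (algebraMap k k⟮t⟯).injective
    haveI : Algebra.IsAlgebraic k⟮t⟯ X.functionField := Algebra.IsAlgebraic.of_finite _ _
    exact hc t ht Algebra.IsAlgebraic.isSeparable_of_perfectField
  · haveI : CharP X.functionField p := charP_of_injective_algebraMap (algebraMap k X.functionField).injective p
    obtain ⟨K₀, i₁, i₂, χ, hK₀, hg₀, hrange⟩ := exists_sub (k := k) (X := X) hdim h0 p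
    letI := i₁; letI := i₂
    letI : Algebra K₀ X.functionField := χ.toRingHom.toAlgebra
    haveI : IsScalarTower k K₀ X.functionField := IsScalarTower.of_algebraMap_eq fun c => (χ.commutes c).symm
    set G := FF.powField k X.functionField p
    have hmemG : ∀ z, χ z ∈ G := fun z => (Set.ext_iff.mp hrange _).mp ⟨z, rfl⟩
    let e : K₀ ≃+* G := RingEquiv.ofBijective (χ.toRingHom.codRestrict G.toSubfield.toSubring hmemG)
      ⟨fun a b h => χ.toRingHom.injective (congrArg Subtype.val h), fun ⟨w, hw⟩ => by
        obtain ⟨z, hz⟩ := (Set.ext_iff.mp hrange w).mpr hw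
        exact ⟨z, Subtype.ext hz⟩⟩
    have hrk : Module.finrank K₀ X.functionField = p :=
      (Algebra.finrank_eq_of_equiv_equiv e (RingEquiv.refl _) (RingHom.ext fun a => rfl)).trans
        (FF.finrank_powField p hK hgeo)
    haveI : FiniteDimensional K₀ X.functionField := Module.finite_of_finrank_pos (hrk ▸ hp.out.pos)
    obtain ⟨t, ht, htc⟩ := FF.exists_not_mem_range hK hK₀ hg hg₀ (hrk ▸ hp.out.two_le) hE hl hd.le
    exact htc ((Set.ext_iff.mp hrange t).mpr ((FF.mem_powField_iff p hK hgeo t).mpr (hD t ht)))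

/-- Let X be a smooth proper curve over a field k whose global functions are k, of genus g ≥ 2. Then X
has a closed point whose residue field is a separable extension of k of degree at most 2g - 2. -/
theorem result (k : Type u) [Field k] (X : Scheme.{u}) [X.Over (Spec (CommRingCat.of k))]
    (hX : Curve.IsSmoothProperCurve k X (X ↘ (Spec (CommRingCat.of k)))) (h0 : Module.finrank k (Coh.HH X (Coh.structureModule X) 0) = 1) (hg : 2 ≤ Curv2.genus k X) :
    ∃ x : X, IsClosed ({x} : Set X) ∧ Algebra.IsSeparable k (X.residueField x) ∧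
      Module.finrank k (X.residueField x) ≤ 2 * Curv2.genus k X - 2 ∧ FiniteDimensional k (X.residueField x) := by
  classical
  obtain ⟨hp, hs, hi, hdim⟩ := hX
  haveI := hp; haveI := hs; haveI := hi
  haveI := P1SC24.geometricallyConnected_of_h0 k h0
  haveI : GeometricallyIntegral (X ↘ Spec (CommRingCat.of k)) := AbVarLib.geometricallyIntegral_of_smooth _
  have hK := Zeta24.isFunctionField (k := k) hdim (hc := rfl)
  have hgK : genus k X.functionField = Curv2.genus k X := (Zeta24.finrank_h1 hdim rfl hK).symm
  obtain ⟨E, hE, hl, hd⟩ := FF.exists_effective_canonical_series hK (by omega)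
  obtain ⟨t, ht, hsep⟩ := exists_separating_mem hdim h0 hK hg hE (hl.trans hgK) (by rw [hd, hgK])
  haveI := hsep
  obtain ⟨P, hP, hdeg⟩ := FF.exists_separable_place_of_separating hK hE ht
  obtain ⟨x, rfl⟩ := (Zeta24.placeOf_bijective hdim rfl hK).2 P
  obtain ⟨e⟩ := exists_resEquiv hdim hK x
  haveI := hP
  haveI := FF.finiteDimensional_residue hK (Zeta24.placeOf hdim rfl hK x)
  refine ⟨x.1, x.2, Algebra.IsSeparable.of_algHom k _ e.toAlgHom, ?_,
    @LinearEquiv.finiteDimensional _ _ _ _ _ _ _ _ e.toLinearEquiv.symm (FF.finiteDimensional_residue hK _)⟩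
  rw [e.toLinearEquiv.finrank_eq]
  have h2 := hdeg
  rw [hd, hgK] at h2
  show (Zeta24.placeOf hdim rfl hK x).deg ≤ _
  omega

end Groth.Agent.S1565
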