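import Groth.Statements.S1567
import Groth.Agent.SDiv28.SchDenseAss
import Mathlib

set_option autoImplicit false
universe u
open CategoryTheory CategoryTheory.Limits AlgebraicGeometry
open Divisors

namespace Groth.Agent.S1567

/-- Let X be locally Noetherian and D a locally principal closed subscheme. At a point ξ of D that is
maximal in D under generisation (a generic point of a component of D), the local ring of X has
dimension at most one. -/
theorem result (X : Scheme.{u}) [IsLocallyNoetherian X]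
    (D : X.IdealSheafData) (hD : Curv2.IsLocPrincipal D) (ξ : X)
    (hξ : ξ ∈ (D.support : Set X)) (hgen : ∀ y ∈ (D.support : Set X), y ⤳ ξ → y = ξ) :
    ringKrullDim (X.presheaf.stalk ξ) ≤ 1 := by
  obtain ⟨U, hξU, f, hf⟩ := hD ξ hξ
  haveI := AssSch12.isNoetherianRing_of_isAffineOpen U.2
  haveI : (AssSch12.primeAt U.2 hξU).IsPrime := (U.2.primeIdealOf ⟨ξ, hξU⟩).2
  letI := X.presheaf.algebra_section_stalk (⟨ξ, hξU⟩ : U.1)
  haveI : IsLocalization.AtPrime (X.presheaf.stalk ξ) (AssSch12.primeAt U.2 hξU) :=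
    U.2.isLocalization_stalk ⟨ξ, hξU⟩
  have hmem : ∀ (y : X) (hy : y ∈ U.1), y ∈ D.support ↔ D.ideal U ≤ AssSch12.primeAt U.2 hy := by
    intro y hy
    rw [D.mem_support_iff_of_mem hy, Scheme.mem_zeroLocus_iff]
    refine forall₂_congr fun g _ => ?_
    rw [← AssSch12.notMem_primeAt_iff U.2 hy g, not_not]
  have hmin : AssSch12.primeAt U.2 hξU ∈ (Ideal.span {f}).minimalPrimes := by
    refine ⟨⟨inferInstance, hf ▸ (hmem ξ hξU).1 hξ⟩, fun q hq hle => ?_⟩
    haveI := hq.1
    obtain ⟨y, hy, rfl⟩ := AssSch12.exists_point U.2 q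
    have hyξ : y = ξ := hgen y ((hmem y hy).2 (hf ▸ hq.2)) ((AssSch12.specializes_iff U.2 hy hξU).2 hle)
    subst hyξ
    exact le_rfl
  rw [IsLocalization.AtPrime.ringKrullDim_eq_height (AssSch12.primeAt U.2 hξU)]
  exact WithBot.coe_le_coe.2 (Ideal.height_le_one_of_isPrincipal_of_mem_minimalPrimes _ _ hmin)
end Groth.Agent.S1567
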