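import Groth.Statements.S15682
import Groth.Agent.FreeSec27.Basic
import Groth.Agent.AmpleLib.Relative
-- import your own Groth.Agent.* helpers here

set_option autoImplicit false
set_option linter.style.haveILetI false
set_option backward.isDefEq.respectTransparency.types false
universe u
open CategoryTheory CategoryTheory.Limits AlgebraicGeometry MonoidalCategory
open FreeSec

namespace Groth.Agent.S15682

open CategoryTheory CategoryTheory.Limits MonObj AlgebraicGeometry in
open Groth.Agent in
/-- Let C be a smooth proper integral curve over a field k, T a k-scheme, F a finite locally free module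
on T ×_k C (projections pr_T and pr_C) and D an effective Cartier divisor on C with ideal sheaf I_D.
Then R^1 pr_{T*}(F ⊗ pr_C^* I_D) vanishes if and only if R^1 pr_{T*} F vanishes and the restriction
pr_{T*}(F ⊗ pr_C^* O_C) → pr_{T*}(F ⊗ pr_C^* O_D), induced by O_C → O_D, is an epimorphism of
O_T-modules. (The published statement has F equal to the pull-back of the relative tangent sheaf
along a family of sections of a fibration over C with values in its smooth locus, and calls the
three conditions D-free, 0-free and weakly D-free; this row keeps of F only its finite local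
freeness, which is all the argument uses, and writes the restriction map on F ⊗ pr_C^* O_C ≅ F; the
curve is only assumed smooth, proper and integral over k, not geometrically connected, which the
argument does not use.) -/
theorem result (k : Type u) [Field k]
    (C : Scheme.{u}) [C.Over (Spec (CommRingCat.of k))] (hC : Curve.IsSmoothProperCurve k C (C ↘ (Spec (CommRingCat.of k))))
    (T : Scheme.{u}) [T.Over (Spec (CommRingCat.of k))]
    [HasInjectiveResolutions (pullback (T ↘ (Spec (CommRingCat.of k))) (C ↘ (Spec (CommRingCat.of k)))).Modules]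
    (F : (pullback (T ↘ (Spec (CommRingCat.of k))) (C ↘ (Spec (CommRingCat.of k)))).Modules) (hF : FlatMod.IsFinLocFree F)
    (D : C.IdealSheafData) (hD : BlowUp.IsEffCartierIdeal D) :
    IsZero ((Coh.Rpush (pullback.fst (T ↘ (Spec (CommRingCat.of k))) (C ↘ (Spec (CommRingCat.of k)))) 1).obj (CohB1.tensorMod F ((Scheme.Modules.pullback (pullback.snd (T ↘ (Spec (CommRingCat.of k))) (C ↘ (Spec (CommRingCat.of k))))).obj (ClSub.idealMod D)))) ↔
    (IsZero ((Coh.Rpush (pullback.fst (T ↘ (Spec (CommRingCat.of k))) (C ↘ (Spec (CommRingCat.of k)))) 1).obj F) ∧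
      Epi ((Coh.push (pullback.fst (T ↘ (Spec (CommRingCat.of k))) (C ↘ (Spec (CommRingCat.of k))))).map
        ((CohB1.sheafifyMod (pullback (T ↘ (Spec (CommRingCat.of k))) (C ↘ (Spec (CommRingCat.of k))))).map (CohB1.toPMod F ◁ ((Scheme.Modules.pullback (pullback.snd (T ↘ (Spec (CommRingCat.of k))) (C ↘ (Spec (CommRingCat.of k))))).map (ClSub.toSubscheme D)).val) :
          CohB1.tensorMod F ((Scheme.Modules.pullback (pullback.snd (T ↘ (Spec (CommRingCat.of k))) (C ↘ (Spec (CommRingCat.of k))))).obj (Coh.structureModule C)) ⟶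
            CohB1.tensorMod F ((Scheme.Modules.pullback (pullback.snd (T ↘ (Spec (CommRingCat.of k))) (C ↘ (Spec (CommRingCat.of k))))).obj (ClSub.quotMod D))))) := by
  obtain ⟨h, -⟩ := FreeSec27.main k hC (IsPullback.of_hasPullback (T ↘ Spec (CommRingCat.of k)) (C ↘ Spec (CommRingCat.of k))) F hF D hD
  obtain ⟨e₀⟩ := AmpleLib.exists_pullStructureIso (pullback.snd (T ↘ Spec (CommRingCat.of k)) (C ↘ Spec (CommRingCat.of k)))
  have e : (FreeSec27.tw (q := pullback.snd (T ↘ Spec (CommRingCat.of k)) (C ↘ Spec (CommRingCat.of k))) F).obj (Coh.structureModule C) ≅ F :=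
    (Coherent.tensE F).mapIso e₀ ≪≫ AmpleLib.tensorComm F _ ≪≫ AmpleLib.unitTensorIso F
  refine h.trans (and_congr ?_ Iff.rfl)
  exact ⟨fun hz => hz.of_iso ((Coh.Rpush (pullback.fst (T ↘ Spec (CommRingCat.of k)) (C ↘ Spec (CommRingCat.of k))) 1).mapIso e).symm,
    fun hz => hz.of_iso ((Coh.Rpush (pullback.fst (T ↘ Spec (CommRingCat.of k)) (C ↘ Spec (CommRingCat.of k))) 1).mapIso e)⟩

end Groth.Agent.S15682
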