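import Groth.Statements.S15683
import Groth.Agent.FreeSec27.Basic
-- import your own Groth.Agent.* helpers here

set_option autoImplicit false
set_option linter.style.haveILetI false
set_option backward.isDefEq.respectTransparency.types false
universe u
open CategoryTheory CategoryTheory.Limits AlgebraicGeometry MonoidalCategory
open FreeSec

namespace Groth.Agent.S15683

open CategoryTheory CategoryTheory.Limits MonObj AlgebraicGeometry in
open Groth.Agent in
/-- Let C be a smooth proper integral curve over a field k, T a k-scheme, F a finite locally free module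
on T ×_k C (projections pr_T and pr_C) and D, D' effective Cartier divisors on C with D' ≤ D, that
is, the ideal sheaf I_D is contained in I_{D'}. If R^1 pr_{T*}(F ⊗ pr_C^* I_D) vanishes then so does
R^1 pr_{T*}(F ⊗ pr_C^* I_{D'}); and if the restriction pr_{T*}(F ⊗ pr_C^* O_C) → pr_{T*}(F ⊗ pr_C^*
O_D) is an epimorphism of O_T-modules then so is pr_{T*}(F ⊗ pr_C^* O_C) → pr_{T*}(F ⊗ pr_C^*
O_{D'}). (The published statement has F equal to the pull-back of the relative tangent sheaf along a
family of sections of a fibration over C, and the two assertions say that D-free implies D'-free and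
weakly D-free implies weakly D'-free; this row keeps of F only its finite local freeness, which is
all the argument uses; the curve is only assumed smooth, proper and integral over k, not
geometrically connected, which the argument does not use.) -/
theorem result (k : Type u) [Field k]
    (C : Scheme.{u}) [C.Over (Spec (CommRingCat.of k))] (hC : Curve.IsSmoothProperCurve k C (C ↘ (Spec (CommRingCat.of k))))
    (T : Scheme.{u}) [T.Over (Spec (CommRingCat.of k))]
    [HasInjectiveResolutions (pullback (T ↘ (Spec (CommRingCat.of k))) (C ↘ (Spec (CommRingCat.of k)))).Modules]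
    (F : (pullback (T ↘ (Spec (CommRingCat.of k))) (C ↘ (Spec (CommRingCat.of k)))).Modules) (hF : FlatMod.IsFinLocFree F)
    (D D' : C.IdealSheafData) (hD : BlowUp.IsEffCartierIdeal D) (hD' : BlowUp.IsEffCartierIdeal D')
    (hle : D ≤ D') :
    (IsZero ((Coh.Rpush (pullback.fst (T ↘ (Spec (CommRingCat.of k))) (C ↘ (Spec (CommRingCat.of k)))) 1).obj (CohB1.tensorMod F ((Scheme.Modules.pullback (pullback.snd (T ↘ (Spec (CommRingCat.of k))) (C ↘ (Spec (CommRingCat.of k))))).obj (ClSub.idealMod D)))) →
      IsZero ((Coh.Rpush (pullback.fst (T ↘ (Spec (CommRingCat.of k))) (C ↘ (Spec (CommRingCat.of k)))) 1).obj (CohB1.tensorMod F ((Scheme.Modules.pullback (pullback.snd (T ↘ (Spec (CommRingCat.of k))) (C ↘ (Spec (CommRingCat.of k))))).obj (ClSub.idealMod D'))))) ∧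
    (Epi ((Coh.push (pullback.fst (T ↘ (Spec (CommRingCat.of k))) (C ↘ (Spec (CommRingCat.of k))))).map
        ((CohB1.sheafifyMod (pullback (T ↘ (Spec (CommRingCat.of k))) (C ↘ (Spec (CommRingCat.of k))))).map (CohB1.toPMod F ◁ ((Scheme.Modules.pullback (pullback.snd (T ↘ (Spec (CommRingCat.of k))) (C ↘ (Spec (CommRingCat.of k))))).map (ClSub.toSubscheme D)).val) :
          CohB1.tensorMod F ((Scheme.Modules.pullback (pullback.snd (T ↘ (Spec (CommRingCat.of k))) (C ↘ (Spec (CommRingCat.of k))))).obj (Coh.structureModule C)) ⟶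
            CohB1.tensorMod F ((Scheme.Modules.pullback (pullback.snd (T ↘ (Spec (CommRingCat.of k))) (C ↘ (Spec (CommRingCat.of k))))).obj (ClSub.quotMod D)))) →
      Epi ((Coh.push (pullback.fst (T ↘ (Spec (CommRingCat.of k))) (C ↘ (Spec (CommRingCat.of k))))).map
        ((CohB1.sheafifyMod (pullback (T ↘ (Spec (CommRingCat.of k))) (C ↘ (Spec (CommRingCat.of k))))).map (CohB1.toPMod F ◁ ((Scheme.Modules.pullback (pullback.snd (T ↘ (Spec (CommRingCat.of k))) (C ↘ (Spec (CommRingCat.of k))))).map (ClSub.toSubscheme D')).val) :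
          CohB1.tensorMod F ((Scheme.Modules.pullback (pullback.snd (T ↘ (Spec (CommRingCat.of k))) (C ↘ (Spec (CommRingCat.of k))))).obj (Coh.structureModule C)) ⟶
            CohB1.tensorMod F ((Scheme.Modules.pullback (pullback.snd (T ↘ (Spec (CommRingCat.of k))) (C ↘ (Spec (CommRingCat.of k))))).obj (ClSub.quotMod D'))))) := by
  have hsq := IsPullback.of_hasPullback (T ↘ Spec (CommRingCat.of k)) (C ↘ Spec (CommRingCat.of k))
  obtain ⟨h, h2⟩ := FreeSec27.main k hC hsq F hF D hD
  obtain ⟨h', -⟩ := FreeSec27.main k hC hsq F hF D' hD'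
  exact ⟨fun h0 => h'.2 ⟨(h.1 h0).1, h2 D' hle (h.1 h0).2⟩, fun he => h2 D' hle he⟩

end Groth.Agent.S15683
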