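import Groth.Statements.S15686
import Groth.Agent.Stk19b.Count.GalPts

set_option autoImplicit false
universe u
open CategoryTheory AlgebraicGeometry MonObj
open StackCount

set_option backward.isDefEq.respectTransparency.types false
set_option backward.isDefEq.respectTransparency false

namespace Groth.Agent.S15686


/-- Let k be a finite field with algebraic closure k̄, G a smooth affine algebraic group over k acting
on a variety X over k (reduced and of finite type), and [X/G] the quotient stack whose objects over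
a k-scheme T are G-torsors P → T (schemes, locally trivial for the étale topology) with a
G-equivariant morphism P → X. Suppose the Galois cohomology set H¹(k, G) (continuous cocycles of
Gal(k̄/k) with values in G(k̄), up to equivalence) is finite, and choose for every class c a
continuous cocycle z_c in it, a twist X_c of X by z_c through the action (a k-scheme whose base
change to k̄ is identified with that of X so that the Galois action becomes x ↦ z_c(σ) · σx), and
the inner form G_c of G determined by z_c. If the groupoid of k-points of [X/G] is essentially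
finite, then its point count (the sum over isomorphism classes of the inverse orders of the
automorphism groups) equals the sum over the classes c of #X_c(k) / #G_c(k). (The published
statement is for the k′-points over any finite extension k′ of k and for any smooth algebraic group
G; this row is the case k′ = k, to which the general case reduces by base change, and takes G affine
so that every torsor is a scheme.) -/
theorem result (k : Type u) [Field k] [Finite k]
    (kb : Type u) [Field kb] [Algebra k kb] [IsAlgClosure k kb]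
    (G : Over (Spec (CommRingCat.of k))) [GrpObj G] [Smooth G.hom] [IsAffineHom G.hom]
    (X : Over (Spec (CommRingCat.of k))) [LocallyOfFiniteType X.hom] [QuasiCompact X.hom]
    [IsReduced X.left] (aX : AlgGrp.Action G X)
    [Fintype (GpH1.H1lc (kb ≃ₐ[k] kb) (SGA7.Pts kb G))]
    (z : GpH1.H1lc (kb ≃ₐ[k] kb) (SGA7.Pts kb G) → GpH1.OneCocycleLC (kb ≃ₐ[k] kb) (SGA7.Pts kb G))
    (hz : ∀ c, (z c).cl = c)
    (Xz : GpH1.H1lc (kb ≃ₐ[k] kb) (SGA7.Pts kb G) → Over (Spec (CommRingCat.of k)))
    (hXz : ∀ c, GalTw.IsActTwist kb aX (z c).1 (Xz c))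
    (Gin : GpH1.H1lc (kb ≃ₐ[k] kb) (SGA7.Pts kb G) → Over (Spec (CommRingCat.of k)))
    [∀ c, GrpObj (Gin c)]
    (hGin : ∀ c, GalTw.IsInnTwist kb G (z c).1 (Gin c))
    (h : StkCnt.IsEssFinite (StkCnt.pts (AlgSt.QuotSt Scheme.etalePrecoverage G aX) k)) :
    StkCnt.ptCount (AlgSt.QuotSt Scheme.etalePrecoverage G aX) k h =
      ∑ c : GpH1.H1lc (kb ≃ₐ[k] kb) (SGA7.Pts kb G),
        (Nat.card (SGA7.Pts k (Xz c)) : ℚ) / (Nat.card (SGA7.Pts k (Gin c)) : ℚ) := by
  classical
  haveI : IsAlgClosed kb := IsAlgClosure.isAlgClosed k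
  haveI : Algebra.IsAlgebraic k kb := IsAlgClosure.isAlgebraic
  letI := Fintype.ofFinite k
  let π : kb ≃ₐ[k] kb := FiniteField.frobeniusAlgEquivOfAlgebraic k kb
  have hπ : ∀ x : kb, π x = x ^ Nat.card k := fun x => by rw [Nat.card_eq_fintype_card]; rfl
  obtain ⟨hbij, hcoh⟩ := Stk19b.Count.cocycle_bijective k kb π hπ (SGA7.Pts kb G)
    (fun a => Stk19b.Count.isOpen_smul_eq a) (fun a => Stk19b.Count.exists_finite_stable a)
  let rep : GpH1.H1lc (kb ≃ₐ[k] kb) (SGA7.Pts kb G) → Stk19b.Count.TwG kb G := fun c => (((z c).1 π)⁻¹ : SGA7.Pts kb G)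
  have hFr : ∀ g : SGA7.Pts kb G, π • g = Stk19b.Count.frM k k kb ≫ g :=
    fun g => Stk19b.Count.frobenius_smul π hπ g
  letI : MulAction (SGA7.pt (K := k) kb ⟶ G) (Stk19b.Count.TwG kb G) := Stk19b.Count.twAction (k' := k)
  obtain ⟨hfin, -, hc⟩ := Stk19b.Count.count_eq_mass k kb aX h
  haveI := hfin
  let f : Stk19b.Count.Pairs k kb aX →[(SGA7.pt (K := k) kb ⟶ G)] Stk19b.Count.TwG kb G :=
    { toFun := fun q => q.1.1
      map_smul' := fun g q => rfl }
  have hrep : ∀ (c : GpH1.H1lc (kb ≃ₐ[k] kb) (SGA7.Pts kb G)) (g : SGA7.pt (K := k) kb ⟶ G),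
      (g • rep c : Stk19b.Count.TwG kb G) = ((g * (z c).1 π * (π • g)⁻¹)⁻¹ : SGA7.pt (K := k) kb ⟶ G) := by
    intro c g
    show Stk19b.Count.twConj k kb g ((z c).1 π)⁻¹ = _
    rw [Stk19b.Count.twConj, hFr]
    group
  show StkCnt.count (Stk19b.Count.Fib k aX) h = _
  rw [hc, Stk19b.Count.mass_eq_sum f rep ?hex ?hinj]
  case hex =>
    intro p
    obtain ⟨w, hw : w.1 π = (p.1.1 : SGA7.Pts kb G)⁻¹⟩ := hbij.2 (p.1.1 : SGA7.Pts kb G)⁻¹
    obtain ⟨g, hg⟩ := (hcoh (z w.cl) w).1 (hz w.cl)
    refine ⟨w.cl, g, (hrep _ g).trans ?_⟩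
    rw [← hg, hw, inv_inv]
    rfl
  case hinj =>
    intro c c' g hg
    rw [hrep] at hg
    rw [← hz c, ← hz c']
    exact (hcoh (z c) (z c')).2 ⟨g, inv_injective hg.symm⟩
  refine Finset.sum_congr rfl fun c _ => ?_
  obtain ⟨hf1, hf2⟩ := Stk19b.Count.finite_twisted (k' := k) (aX := aX) (rep c)
  let eS : MulAction.stabilizer (SGA7.pt (K := k) kb ⟶ G) (rep c) ≃
      {g : SGA7.pt (K := k) kb ⟶ G // Stk19b.Count.twConj k kb g (rep c) = rep c} :=
    Equiv.subtypeEquivRight fun g => Iff.rfl
  let eX : Stk19b.Count.Fibre f (rep c) ≃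
      {x : SGA7.pt (K := k) kb ⟶ X // Stk19b.Count.frM k k kb ≫ x = Stk19b.QuotTriv.smulPt aX (rep c) x} :=
    { toFun := fun p => ⟨p.1.1.2, p.1.2.trans (congrArg (fun t => Stk19b.QuotTriv.smulPt aX t p.1.1.2) p.2)⟩
      invFun := fun x => ⟨⟨(rep c, x.1), x.2⟩, rfl⟩
      left_inv := fun p => Subtype.ext (Subtype.ext (Prod.ext p.2.symm rfl))
      right_inv := fun x => rfl }
  haveI := Finite.of_equiv _ eS.symm
  haveI := Finite.of_equiv _ eX.symm
  rw [Stk19b.Count.mass_eq_div, Nat.card_congr eS, Nat.card_congr eX,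
    Stk19b.Count.card_pts_actTwist π hπ aX (z c).1 (hXz c),
    Stk19b.Count.card_pts_innTwist π hπ (z c).1 (hGin c)]
  congr 2
  · refine Nat.card_congr (Equiv.subtypeEquivRight fun x => ?_)
    constructor
    · intro e
      rw [e]
      exact Stk19b.QuotTriv.smulPt_smul_inv aX ((z c).1 π) x
    · intro e
      conv_rhs => rw [← e]
      exact (Stk19b.QuotTriv.smulPt_inv_smul aX ((z c).1 π) _).symm
  · refine Nat.card_congr (Equiv.subtypeEquivRight fun g => ?_)
    show Stk19b.Count.twConj k kb g ((z c).1 π)⁻¹ = ((z c).1 π)⁻¹ ↔ _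
    rw [Stk19b.Count.twConj]
    constructor <;> intro e
    · conv_rhs => rw [← inv_mul_cancel_right g ((z c).1 π)⁻¹]
      rw [mul_inv_eq_iff_eq_mul] at e
      rw [inv_inv, _root_.mul_assoc, e, mul_inv_cancel_left]
      group
    · conv_lhs => arg 2; rw [← e]
      group

end Groth.Agent.S15686
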