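import Groth.Statements.S15687
import Groth.Agent.LangGen19.Twisted
import Groth.Agent.Stk19b.Count.GalPts
import Groth.Agent.Stk19b.Count.Cocycle

set_option autoImplicit false
universe u
open CategoryTheory AlgebraicGeometry MonObj
open GalTw MonoidalCategory CartesianMonoidalCategory

set_option backward.isDefEq.respectTransparency.types false
set_option backward.isDefEq.respectTransparency false

namespace Groth.Agent.S15687


/-- Let k be a finite field with algebraic closure k̄, and let A, B, C be smooth algebraic groups over k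
with homomorphisms i : A → B and π : B → C forming a short exact sequence 1 → A → B → C → 1 (π ∘ i
trivial, B a pseudo-torsor over C under A acting through i, and π acquiring sections fppf-locally on
C), with A connected. Then the map H¹(k, B) → H¹(k, C) induced by π on the continuous Galois
cohomology sets (continuous cocycles of Gal(k̄/k) with values in the k̄-points, up to equivalence)
is bijective. -/
theorem result (k : Type u) [Field k] [Finite k]
    (kb : Type u) [Field kb] [Algebra k kb] [IsAlgClosure k kb]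
    (A B C : Over (Spec (CommRingCat.of k))) [GrpObj A] [GrpObj B] [GrpObj C]
    [Smooth A.hom] [Smooth B.hom] [Smooth C.hom]
    [QuasiCompact A.hom] [QuasiCompact B.hom] [QuasiCompact C.hom]
    (i : A ⟶ B) (π : B ⟶ C) [IsMonHom i] [IsMonHom π]
    (hex : NonAbH1.IsExactSeq Scheme.fppfPrecoverage i π) [ConnectedSpace A.left] :
    Function.Bijective
      (GalTw.H1lcMap (GalTw.ptsMap (K := kb) π) (GalTw.ptsMap_smul (K := kb) π)) := by
  classical
  haveI : IsAlgClosed kb := IsAlgClosure.isAlgClosed k
  haveI : Algebra.IsAlgebraic k kb := IsAlgClosure.isAlgebraic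
  let := Fintype.ofFinite k
  let F : kb ≃ₐ[k] kb := FiniteField.frobeniusAlgEquivOfAlgebraic k kb
  have hF : ∀ x : kb, F x = x ^ Nat.card k := fun x => by rw [Nat.card_eq_fintype_card]; rfl
  obtain ⟨hbijB, hcohB⟩ := Stk19b.Count.cocycle_bijective k kb F hF (SGA7.Pts kb B)
    (fun a => Stk19b.Count.isOpen_smul_eq a) (fun a => Stk19b.Count.exists_finite_stable a)
  obtain ⟨hbijC, hcohC⟩ := Stk19b.Count.cocycle_bijective k kb F hF (SGA7.Pts kb C)
    (fun a => Stk19b.Count.isOpen_smul_eq a) (fun a => Stk19b.Count.exists_finite_stable a)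
  have hsurj : ∀ y : SGA7.Pts kb C, ∃ x : SGA7.Pts kb B, x ≫ π = y :=
    fun y => LangGen19.exists_lift_of_locallyTrivial π hex.2.2.2.2 _ y
  constructor
  · intro c c'
    induction c using Quotient.inductionOn with | _ z => ?_
    induction c' using Quotient.inductionOn with | _ z' => ?_
    intro heq
    change GalTw.H1lcMap _ _ z.cl = GalTw.H1lcMap _ _ z'.cl at heq
    show z.cl = z'.cl
    rw [GalTw.H1lcMap_cl, GalTw.H1lcMap_cl] at heq
    obtain ⟨d, hd⟩ := (hcohC _ _).1 heq
    obtain ⟨g, rfl⟩ := hsurj d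
    change z'.1 F ≫ π = (g ≫ π) * (z.1 F ≫ π) * (F • (g ≫ π))⁻¹ at hd
    let b := g * z.1 F * (F • g)⁻¹
    have hb : (z'.1 F * b⁻¹) ≫ π = 1 := by
      rw [MonObj.mul_comp, GrpObj.inv_comp, hd, MonObj.mul_comp, MonObj.mul_comp, GrpObj.inv_comp,
        GalTw.pts_smul_def, GalTw.pts_smul_def, Category.assoc]
      exact mul_inv_cancel _
    obtain ⟨a, ha⟩ := LangGen19.exists_eq_comp_of_exact hex _ hb
    obtain ⟨h, hh⟩ := LangGen19.exists_twisted_lang hex b a
    rw [← Stk19b.Count.frobenius_smul F hF] at hh
    refine (hcohB z z').2 ⟨(h ≫ i) * g, ?_⟩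
    rw [smul_mul']
    have := hh.trans ha
    rw [eq_mul_inv_iff_mul_eq] at this
    rw [← this]
    simp only [b]
    group
  · intro c
    induction c using Quotient.inductionOn with | _ w => ?_
    obtain ⟨x, hx⟩ := hsurj (w.1 F)
    obtain ⟨z, hz⟩ := hbijB.2 x
    refine ⟨z.cl, ?_⟩
    rw [GalTw.H1lcMap_cl]
    refine (hcohC _ _).2 ⟨1, ?_⟩
    have e : (GalTw.lcMap (GalTw.ptsMap (K := kb) π) (GalTw.ptsMap_smul (K := kb) π) z).1 F = w.1 F := by
      show z.1 F ≫ π = _
      rw [← hx]
      exact congrArg (· ≫ π) hz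
    rw [e, smul_one, inv_one, _root_.mul_one, _root_.one_mul]

end Groth.Agent.S15687
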