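import Groth.Statements.S15688
import Groth.Agent.LangGen19.Main
import Groth.Agent.LangGen19.Exact
import Groth.Agent.Stk19b.Count.Twist
import Groth.Agent.Stk19b.Count.GalPts

set_option autoImplicit false
universe u
open CategoryTheory AlgebraicGeometry MonoidalCategory CartesianMonoidalCategory MonObj
open StackCount

set_option backward.isDefEq.respectTransparency.types false
set_option backward.isDefEq.respectTransparency false

namespace Groth.Agent.S15688


/-- Let k be a finite field with algebraic closure k̄, and let A, B, C be smooth algebraic groups over k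
with homomorphisms i : A → B and π : B → C forming a short exact sequence 1 → A → B → C → 1 (π ∘ i
trivial, B a pseudo-torsor over C under A acting through i, and π acquiring sections fppf-locally on
C), with A connected; let c be the action of B on A by conjugation, i.e. an action with i(b · a) = b
i(a) b⁻¹. Let z be a continuous cocycle of Gal(k̄/k) with values in B(k̄), A_z a twist of A by z
through the action c, B_z an inner form of B by z, and C_z an inner form of C by the image of z
under π. Then the numbers of k-points satisfy #B_z(k) = #A_z(k) · #C_z(k). -/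
theorem result (k : Type u) [Field k] [Finite k]
    (kb : Type u) [Field kb] [Algebra k kb] [IsAlgClosure k kb]
    (A B C : Over (Spec (CommRingCat.of k))) [GrpObj A] [GrpObj B] [GrpObj C]
    [Smooth A.hom] [Smooth B.hom] [Smooth C.hom]
    [QuasiCompact A.hom] [QuasiCompact B.hom] [QuasiCompact C.hom]
    (i : A ⟶ B) (π : B ⟶ C) [IsMonHom i] [IsMonHom π]
    (hex : NonAbH1.IsExactSeq Scheme.fppfPrecoverage i π) [ConnectedSpace A.left]
    (c : AlgGrp.Action B A) (hc : c.act ≫ i = fst B A * (snd B A ≫ i) * (fst B A)⁻¹)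
    (z : GpH1.OneCocycleLC (kb ≃ₐ[k] kb) (SGA7.Pts kb B))
    (Az : Over (Spec (CommRingCat.of k))) (hAz : GalTw.IsActTwist kb c z.1 Az)
    (Bz : Over (Spec (CommRingCat.of k))) [GrpObj Bz] (hBz : GalTw.IsInnTwist kb B z.1 Bz)
    (Cz : Over (Spec (CommRingCat.of k))) [GrpObj Cz]
    (hCz : GalTw.IsInnTwist kb C
      (GalTw.lcMap (GalTw.ptsMap (K := kb) π) (GalTw.ptsMap_smul (K := kb) π) z).1 Cz) :
    Nat.card (SGA7.Pts k Bz) = Nat.card (SGA7.Pts k Az) * Nat.card (SGA7.Pts k Cz) := by
  classical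
  have : IsAlgClosed kb := IsAlgClosure.isAlgClosed k
  have : Algebra.IsAlgebraic k kb := IsAlgClosure.isAlgebraic
  let := Fintype.ofFinite k
  let F : kb ≃ₐ[k] kb := FiniteField.frobeniusAlgEquivOfAlgebraic k kb
  have hF : ∀ x : kb, F x = x ^ Nat.card k := fun x => by rw [Nat.card_eq_fintype_card]; rfl
  obtain ⟨p, hchar⟩ := CharP.exists k
  obtain ⟨⟨e, he0⟩, hp, he⟩ := FiniteField.card k p
  have : Fact p.Prime := ⟨hp⟩
  replace he : Nat.card k = p ^ e := by rw [Nat.card_eq_fintype_card]; exact he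
  obtain ⟨hi, hπ, hiπ, hpb, hloc⟩ := hex
  have hfr : Stk19b.Count.frM k k kb = LangGen19.frk p e he (SGA7.pt (K := k) kb) := by
    apply Over.OverMorphism.ext
    refine (LangGen19.specMap_of_appTop (R := CommRingCat.of kb) _ _ (Nat.card k) (fun x => ?_) fun s => ?_).symm
    · exact Stk19b.Count.frobHom_apply k kb x
    · rw [he]
      exact LangGen19.frQ_appTop p e (SGA7.pt (K := k) kb) s
  have hinj : ∀ {T : Over (Spec (CommRingCat.of k))}, Function.Injective (fun a : T ⟶ A => a ≫ i) := by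
    intro T a a' h
    have key : lift (1 : T ⟶ B) a = lift 1 a' := by
      refine hpb.hom_ext ?_ ?_
      · rw [lift_fst, lift_fst]
      · have h1 : ∀ x : T ⟶ A, lift (1 : T ⟶ B) x ≫ B ◁ i ≫ μ[B] = x ≫ i := fun x => by
          rw [← Category.assoc, lift_whiskerLeft]
          exact _root_.one_mul (x ≫ i)
        rw [h1, h1]
        exact h
    simpa using congrArg (· ≫ snd B A) key
  have hconj : ∀ {T : Over (Spec (CommRingCat.of k))} (b : T ⟶ B) (a : T ⟶ A),
      (lift b a ≫ c.act) ≫ i = b * (a ≫ i) * b⁻¹ := by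
    intro T b a
    rw [Category.assoc, hc, MonObj.comp_mul, MonObj.comp_mul, GrpObj.comp_inv, lift_fst,
      lift_snd_assoc]
  let β : SGA7.pt (K := k) kb ⟶ B := z.1 F
  let α : A ⊗ SGA7.pt (K := k) kb ⟶ A := lift (snd _ _ ≫ β) (fst _ _) ≫ c.act
  have hαl : ∀ {Z : Over (Spec (CommRingCat.of k))} (a : Z ⟶ A) (t : Z ⟶ SGA7.pt (K := k) kb),
      lift a t ≫ α = lift (t ≫ β) a ≫ c.act := fun a t => by
    rw [← Category.assoc]
    congr 1
    ext <;> simp
  rw [Stk19b.Count.card_pts_innTwist F hF z.1 hBz, Stk19b.Count.card_pts_actTwist F hF c z.1 hAz,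
    Stk19b.Count.card_pts_innTwist F hF _ hCz]
  refine LangGen19.card_fixed_mul (GalTw.ptsMap (K := kb) i) (GalTw.ptsMap (K := kb) π) hinj ?_ ?_
    (fun a => Stk19b.QuotTriv.smulPt c (z.1 F) (Stk19b.Count.frM k k kb ≫ a))
    (MonoidHom.mk' (fun b => z.1 F * (Stk19b.Count.frM k k kb ≫ b) * (z.1 F)⁻¹) fun b b' => ?_)
    (fun x => (GalTw.lcMap (GalTw.ptsMap (K := kb) π) (GalTw.ptsMap_smul (K := kb) π) z).1 F *
      (Stk19b.Count.frM k k kb ≫ x) *
        ((GalTw.lcMap (GalTw.ptsMap (K := kb) π) (GalTw.ptsMap_smul (K := kb) π) z).1 F)⁻¹) ?_ ?_ ?_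
  · exact fun y => LangGen19.exists_lift_of_locallyTrivial π hloc _ y
  · intro b
    constructor
    · intro hb
      have h1 : (1 : SGA7.Pts kb B) ≫ π = b ≫ π := by
        rw [MonObj.one_comp]
        exact hb.symm
      refine ⟨hpb.lift 1 b h1 ≫ snd B A, ?_⟩
      have h3 := hpb.lift_snd 1 b h1
      have e2 : hpb.lift 1 b h1 = lift 1 (hpb.lift 1 b h1 ≫ snd B A) :=
        CartesianMonoidalCategory.hom_ext _ _ (by rw [lift_fst]; exact hpb.lift_fst 1 b h1) (by rw [lift_snd])
      rw [e2, ← Category.assoc, lift_whiskerLeft] at h3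
      exact (_root_.one_mul _).symm.trans h3
    · rintro ⟨a, rfl⟩
      show (a ≫ i) ≫ π = 1
      rw [Category.assoc, hiπ, MonObj.comp_one]
  · rw [MonObj.comp_mul]
    group
  · intro a
    show (lift (z.1 F) (Stk19b.Count.frM k k kb ≫ a) ≫ c.act) ≫ i = _
    rw [hconj, Category.assoc]
    rfl
  · intro b
    show (z.1 F * (Stk19b.Count.frM k k kb ≫ b) * (z.1 F)⁻¹) ≫ π = _
    rw [MonObj.mul_comp, MonObj.mul_comp, GrpObj.inv_comp, Category.assoc]
    rfl
  · intro h
    have hα : ∀ {Z : Over (Spec (CommRingCat.of k))} (a b : Z ⟶ A) (t : Z ⟶ SGA7.pt (K := k) kb),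
        lift (a * b) t ≫ α = (lift a t ≫ α) * (lift b t ≫ α) := fun {Z} a b t => by
      rw [hαl, hαl, hαl]
      apply hinj
      show (_ ≫ c.act) ≫ i = (_ * _) ≫ i
      rw [MonObj.mul_comp, hconj, hconj, hconj, MonObj.mul_comp]
      group
    obtain ⟨g, hg⟩ := LangGen19.exists_mul_inv_theta_eq p e he (by omega) kb _ α hα h
    refine ⟨g, ?_⟩
    rw [hαl, Category.id_comp] at hg
    rw [hfr]
    exact hg

end Groth.Agent.S15688
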