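import Groth.Statements.S15692
import Groth.Agent.UnipCount19.Geom
import Groth.Agent.Stk19b.Count.Classify

set_option autoImplicit false
universe u
open CategoryTheory AlgebraicGeometry MonoidalCategory CartesianMonoidalCategory MonObj
open StackCount

set_option backward.isDefEq.respectTransparency.types false
set_option backward.isDefEq.respectTransparency false

namespace Groth.Agent.S15692


/-- Let k be a finite field with q elements and algebraic closure k̄, and G a smooth affine algebraic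
group over k which is a semidirect product of closed subgroups H and U: the inclusions H → G and U →
G are homomorphisms, U is normal in G, and multiplication H × U → G, (h, u) ↦ h u, is an isomorphism
of k-schemes. Assume U is smooth, connected and unipotent (its base change to k̄ contains no
non-trivial subtorus), of dimension d. Let G act on a variety X over k (reduced, of finite type) and
let H act on X through its inclusion. If the groupoids of k-points of the quotient stacks [X/G] and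
[X/H] (G- resp. H-torsors over Spec k as schemes, locally trivial for the étale topology, with an
equivariant map to X) are essentially finite, then their point counts (sums over isomorphism classes
of the inverse orders of the automorphism groups) satisfy #[X/G](k) · q^d = #[X/H](k). (The
published statement is for the k′-points over any finite extension k′ of k; this row is the case k′
= k, to which the general case reduces by base change, and takes the groups affine so that torsors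
are schemes.) -/
theorem result (k : Type u) [Field k] [Finite k]
    (kb : Type u) [Field kb] [Algebra k kb] [IsAlgClosure k kb]
    (G H U : Over (Spec (CommRingCat.of k))) [GrpObj G] [GrpObj H] [GrpObj U]
    [Smooth G.hom] [IsAffineHom G.hom] [Smooth H.hom] [IsAffineHom H.hom]
    [Smooth U.hom] [IsAffineHom U.hom] [ConnectedSpace U.left]
    (iH : H ⟶ G) (iU : U ⟶ G) [IsMonHom iH] [IsMonHom iU] [Mono iH] [Mono iU]
    (hUn : AlgGrp.IsNormalHom iU) (hsd : IsIso ((fst H U ≫ iH) * (snd H U ≫ iU)))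
    (hUu : Red.HasNoSubtorus kb (GalTw.bcK kb U))
    (d : ℕ) (hd : topologicalKrullDim ↥U.left = (d : WithBot ℕ∞))
    (X : Over (Spec (CommRingCat.of k))) [LocallyOfFiniteType X.hom] [QuasiCompact X.hom]
    [IsReduced X.left] (aG : AlgGrp.Action G X) (aH : AlgGrp.Action H X)
    (haH : aH.act = (iH ▷ X) ≫ aG.act)
    (hG : StkCnt.IsEssFinite (StkCnt.pts (AlgSt.QuotSt Scheme.etalePrecoverage G aG) k))
    (hH : StkCnt.IsEssFinite (StkCnt.pts (AlgSt.QuotSt Scheme.etalePrecoverage H aH) k)) :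
    StkCnt.ptCount (AlgSt.QuotSt Scheme.etalePrecoverage G aG) k hG * (Nat.card k : ℚ) ^ d =
      StkCnt.ptCount (AlgSt.QuotSt Scheme.etalePrecoverage H aH) k hH := by
  classical
  haveI : IsAlgClosed kb := IsAlgClosure.isAlgClosed k
  haveI : Algebra.IsAlgebraic k kb := IsAlgClosure.isAlgebraic
  haveI := hsd
  letI : MulAction (SGA7.pt (K := k) kb ⟶ G) (Stk19b.Count.TwG kb G) := Stk19b.Count.twAction (k' := k)
  letI : MulAction (SGA7.pt (K := k) kb ⟶ H) (Stk19b.Count.TwG kb H) := Stk19b.Count.twAction (k' := k)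
  let φ : H ⊗ U ⟶ G := (fst H U ≫ iH) * (snd H U ≫ iU)
  haveI : IsIso φ := hsd
  have hφ : ∀ {T : Over (Spec (CommRingCat.of k))} (h : T ⟶ H) (u : T ⟶ U),
      lift h u ≫ φ = (h ≫ iH) * (u ≫ iU) := fun h u => by simp [φ, MonObj.comp_mul]
  have hdec : ∀ {T : Over (Spec (CommRingCat.of k))} (g : T ⟶ G),
      ∃ (h : T ⟶ H) (u : T ⟶ U), g = (h ≫ iH) * (u ≫ iU) := fun g => by
    refine ⟨g ≫ CategoryTheory.inv φ ≫ fst H U, g ≫ CategoryTheory.inv φ ≫ snd H U, ?_⟩
    rw [← hφ, ← comp_lift, ← comp_lift, lift_fst_snd, Category.comp_id, Category.assoc, IsIso.inv_hom_id,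
      Category.comp_id]
  have hq : ∀ {T : Over (Spec (CommRingCat.of k))} (h : T ⟶ H) (u : T ⟶ U),
      ((h ≫ iH) * (u ≫ iU)) ≫ CategoryTheory.inv φ ≫ fst H U = h := fun h u => by
    rw [← hφ, Category.assoc, IsIso.hom_inv_id_assoc, lift_fst]
  let q : (SGA7.pt (K := k) kb ⟶ G) →* (SGA7.pt (K := k) kb ⟶ H) :=
    MonoidHom.mk' (fun g => g ≫ CategoryTheory.inv φ ≫ fst H U) fun g g' => by
      obtain ⟨h, u, rfl⟩ := hdec g
      obtain ⟨h', u', rfl⟩ := hdec g'
      obtain ⟨v, hv⟩ := hUn _ (h' ≫ iH)⁻¹ u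
      rw [_root_.inv_inv] at hv
      have e : (h ≫ iH) * (u ≫ iU) * ((h' ≫ iH) * (u' ≫ iU)) = ((h * h') ≫ iH) * ((v * u') ≫ iU) := by
        rw [MonObj.mul_comp, MonObj.mul_comp, ← hv]
        group
      rw [e, hq, hq, hq]
  have hqH : ∀ h : SGA7.pt (K := k) kb ⟶ H, q (h ≫ iH) = h := fun h => by
    have h2 := hq h (1 : SGA7.pt (K := k) kb ⟶ U)
    rwa [MonObj.one_comp, _root_.mul_one] at h2
  have hqU : ∀ u : SGA7.pt (K := k) kb ⟶ U, q (u ≫ iU) = 1 := fun u => by
    have h2 := hq (1 : SGA7.pt (K := k) kb ⟶ H) u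
    rwa [MonObj.one_comp, _root_.one_mul] at h2
  have htwH : ∀ h c : SGA7.pt (K := k) kb ⟶ H,
      (Stk19b.Count.twConj k kb h c) ≫ iH = Stk19b.Count.twConj k kb (h ≫ iH) (c ≫ iH) := fun h c => by
    rw [Stk19b.Count.twConj, Stk19b.Count.twConj, MonObj.mul_comp, MonObj.mul_comp, GrpObj.inv_comp, Category.assoc]
  have htwq : ∀ g a : SGA7.pt (K := k) kb ⟶ G,
      q (Stk19b.Count.twConj k kb g a) = Stk19b.Count.twConj k kb (q g) (q a) := fun g a => by
    rw [Stk19b.Count.twConj, Stk19b.Count.twConj, map_mul, map_mul, map_inv]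
    congr 2
  have hmulG : ∀ g g' a : SGA7.pt (K := k) kb ⟶ G, Stk19b.Count.twConj k kb (g * g') a =
      Stk19b.Count.twConj k kb g (Stk19b.Count.twConj k kb g' a) := fun g g' a => by
    simp only [Stk19b.Count.twConj, MonObj.comp_mul, _root_.mul_inv_rev, _root_.mul_assoc]
  have hsm : ∀ (h : SGA7.pt (K := k) kb ⟶ H) (x : SGA7.pt (K := k) kb ⟶ X),
      Stk19b.QuotTriv.smulPt aH h x = Stk19b.QuotTriv.smulPt aG (h ≫ iH) x := fun h x => by
    show lift h x ≫ aH.act = lift (h ≫ iH) x ≫ aG.act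
    rw [haH, lift_whiskerRight_assoc]
  obtain ⟨hfinPG, -, hcG⟩ := Stk19b.Count.count_eq_mass k kb aG hG
  obtain ⟨hfinPH, -, hcH⟩ := Stk19b.Count.count_eq_mass k kb aH hH
  haveI := hfinPG
  haveI := hfinPH
  let fG : Stk19b.Count.Pairs k kb aG →[(SGA7.pt (K := k) kb ⟶ G)] Stk19b.Count.TwG kb G :=
    { toFun := fun p => p.1.1
      map_smul' := fun g p => rfl }
  let fH : Stk19b.Count.Pairs k kb aH →[(SGA7.pt (K := k) kb ⟶ H)] Stk19b.Count.TwG kb H :=
    { toFun := fun p => p.1.1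
      map_smul' := fun g p => rfl }
  let cls : MulAction.orbitRel.Quotient (SGA7.pt (K := k) kb ⟶ H) (Stk19b.Count.Pairs k kb aH) →
      MulAction.orbitRel.Quotient (SGA7.pt (K := k) kb ⟶ H) (Stk19b.Count.TwG kb H) :=
    Quotient.map fH (fun p p' ⟨g, hg⟩ => ⟨g, ((map_smul fH g p').symm.trans (congrArg fH hg))⟩)
  let Jx := {ω : MulAction.orbitRel.Quotient (SGA7.pt (K := k) kb ⟶ H) (Stk19b.Count.TwG kb H) // ω ∈ Set.range cls}
  haveI : Finite Jx := inferInstanceAs (Finite (Set.range cls))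
  letI := Fintype.ofFinite Jx
  let rep : Jx → Stk19b.Count.TwG kb H := fun ω => ω.1.out
  let repG : Jx → Stk19b.Count.TwG kb G := fun ω => ((rep ω : SGA7.pt (K := k) kb ⟶ H) ≫ iH : SGA7.pt (K := k) kb ⟶ G)
  have hexH : ∀ p, ∃ c, ∃ g : SGA7.pt (K := k) kb ⟶ H, g • rep c = fH p := fun p => by
    refine ⟨⟨_, ⟨Quotient.mk _ p, rfl⟩⟩, ?_⟩
    have h := Quotient.mk_out (s := MulAction.orbitRel (SGA7.pt (K := k) kb ⟶ H) (Stk19b.Count.TwG kb H)) (fH p)
    obtain ⟨g, hg⟩ := h
    exact ⟨g⁻¹, by show g⁻¹ • (Quotient.mk _ (fH p)).out = fH p; rw [inv_smul_eq_iff]; exact hg.symm⟩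
  have hinjH : ∀ c c' (g : SGA7.pt (K := k) kb ⟶ H), g • rep c = rep c' → c = c' := fun c c' g hg => by
    apply Subtype.ext
    rw [← Quotient.out_eq c.1, ← Quotient.out_eq c'.1]
    exact (Quotient.sound (show rep c' ∈ MulAction.orbit _ (rep c) from ⟨g, hg⟩)).symm
  show StkCnt.count (Stk19b.Count.Fib k aG) hG * _ = StkCnt.count (Stk19b.Count.Fib k aH) hH
  rw [hcG, hcH, Stk19b.Count.mass_eq_sum fH rep hexH hinjH, Stk19b.Count.mass_eq_sum fG repG ?hex ?hinj,
    Finset.sum_mul]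
  case hinj =>
    intro c c' g hg
    refine hinjH c c' (q g) ?_
    have h2 := congrArg q (show Stk19b.Count.twConj k kb g ((rep c : SGA7.pt (K := k) kb ⟶ H) ≫ iH) =
      (rep c' : SGA7.pt (K := k) kb ⟶ H) ≫ iH from hg)
    rwa [htwq, hqH, hqH] at h2
  case hex =>
    intro p
    obtain ⟨h, u, hhu⟩ := hdec p.1.1
    obtain ⟨v, hv⟩ := hUn _ (h ≫ iH) u
    obtain ⟨w, hw⟩ := (UnipCount19.twisted_unipotent kb iU hUn hUu d hd (h ≫ iH)).1 v
    have hw' : Stk19b.Count.twConj k kb (w ≫ iU) (h ≫ iH) = p.1.1 := by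
      rw [hw, ← hv, hhu]
      group
    let p' : Stk19b.Count.Pairs k kb aG := (w ≫ iU)⁻¹ • p
    have hp1 : p'.1.1 = h ≫ iH := by
      show Stk19b.Count.twConj k kb (w ≫ iU)⁻¹ p.1.1 = _
      rw [← hw', ← hmulG, inv_mul_cancel]
      rw [Stk19b.Count.twConj, MonObj.comp_one, _root_.inv_one, _root_.one_mul, _root_.mul_one]
    obtain ⟨c, g, hg⟩ := hexH ⟨(h, p'.1.2), by
      show _ = Stk19b.QuotTriv.smulPt aH h p'.1.2
      rw [hsm, ← hp1]
      exact p'.2⟩
    refine ⟨c, (w ≫ iU) * (g ≫ iH), ?_⟩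
    show Stk19b.Count.twConj k kb _ ((rep c : SGA7.pt (K := k) kb ⟶ H) ≫ iH) = p.1.1
    rw [hmulG, ← htwH, show Stk19b.Count.twConj k kb g (rep c) = h from hg, hw']
  refine Finset.sum_congr rfl fun c _ => ?_
  let a : SGA7.pt (K := k) kb ⟶ H := rep c
  obtain ⟨hfG1, hfG2⟩ := Stk19b.Count.finite_twisted (k' := k) (aX := aG) (a ≫ iH)
  obtain ⟨hfH1, hfH2⟩ := Stk19b.Count.finite_twisted (k' := k) (aX := aH) a
  obtain ⟨-, hUc⟩ := UnipCount19.twisted_unipotent kb iU hUn hUu d hd (a ≫ iH)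
  let eSG : MulAction.stabilizer (SGA7.pt (K := k) kb ⟶ G) (repG c) ≃
      {g : SGA7.pt (K := k) kb ⟶ G // Stk19b.Count.twConj k kb g (a ≫ iH) = a ≫ iH} :=
    Equiv.subtypeEquivRight fun g => Iff.rfl
  let eSH : MulAction.stabilizer (SGA7.pt (K := k) kb ⟶ H) (rep c) ≃
      {g : SGA7.pt (K := k) kb ⟶ H // Stk19b.Count.twConj k kb g a = a} :=
    Equiv.subtypeEquivRight fun g => Iff.rfl
  let eXG : Stk19b.Count.Fibre fG (repG c) ≃
      {x : SGA7.pt (K := k) kb ⟶ X // Stk19b.Count.frM k k kb ≫ x = Stk19b.QuotTriv.smulPt aG (a ≫ iH) x} :=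
    { toFun := fun p => ⟨p.1.1.2, p.1.2.trans (congrArg (fun t => Stk19b.QuotTriv.smulPt aG t p.1.1.2) p.2)⟩
      invFun := fun x => ⟨⟨(repG c, x.1), x.2⟩, rfl⟩
      left_inv := fun p => Subtype.ext (Subtype.ext (Prod.ext p.2.symm rfl))
      right_inv := fun x => rfl }
  let eXH : Stk19b.Count.Fibre fH (rep c) ≃
      {x : SGA7.pt (K := k) kb ⟶ X // Stk19b.Count.frM k k kb ≫ x = Stk19b.QuotTriv.smulPt aH a x} :=
    { toFun := fun p => ⟨p.1.1.2, p.1.2.trans (congrArg (fun t => Stk19b.QuotTriv.smulPt aH t p.1.1.2) p.2)⟩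
      invFun := fun x => ⟨⟨(rep c, x.1), x.2⟩, rfl⟩
      left_inv := fun p => Subtype.ext (Subtype.ext (Prod.ext p.2.symm rfl))
      right_inv := fun x => rfl }
  haveI := Finite.of_equiv _ eSG.symm
  haveI := Finite.of_equiv _ eSH.symm
  haveI := Finite.of_equiv _ eXG.symm
  haveI := Finite.of_equiv _ eXH.symm
  have hX : Nat.card {x : SGA7.pt (K := k) kb ⟶ X //
        Stk19b.Count.frM k k kb ≫ x = Stk19b.QuotTriv.smulPt aG (a ≫ iH) x} =
      Nat.card {x : SGA7.pt (K := k) kb ⟶ X // Stk19b.Count.frM k k kb ≫ x = Stk19b.QuotTriv.smulPt aH a x} :=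
    Nat.card_congr (Equiv.subtypeEquivRight fun x => by rw [hsm])
  let e : ({h : SGA7.pt (K := k) kb ⟶ H // Stk19b.Count.twConj k kb h a = a} ×
      {u : SGA7.pt (K := k) kb ⟶ U // Stk19b.Count.twConj k kb (u ≫ iU) (a ≫ iH) = a ≫ iH}) →
      {g : SGA7.pt (K := k) kb ⟶ G // Stk19b.Count.twConj k kb g (a ≫ iH) = a ≫ iH} :=
    fun hu => ⟨(hu.1.1 ≫ iH) * (hu.2.1 ≫ iU), by rw [hmulG, hu.2.2, ← htwH, hu.1.2]⟩
  have he : Function.Bijective e := by
    refine ⟨fun x y hxy => ?_, fun g => ?_⟩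
    · have h0 : (x.1.1 ≫ iH) * (x.2.1 ≫ iU) = (y.1.1 ≫ iH) * (y.2.1 ≫ iU) := congrArg Subtype.val hxy
      rw [← hφ, ← hφ, cancel_mono] at h0
      exact Prod.ext (Subtype.ext (by simpa using congrArg (· ≫ fst H U) h0))
        (Subtype.ext (by simpa using congrArg (· ≫ snd H U) h0))
    · obtain ⟨h, u, hg⟩ := hdec g.1
      have h1 : Stk19b.Count.twConj k kb h a = a := by
        have h2 := congrArg q g.2
        rw [htwq, hqH, hg, map_mul, hqH, hqU, _root_.mul_one] at h2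
        exact h2
      have h2 : Stk19b.Count.twConj k kb (u ≫ iU) (a ≫ iH) = a ≫ iH := by
        have h3 := g.2
        rw [hg, hmulG] at h3
        have h4 : Stk19b.Count.twConj k kb (h ≫ iH) (a ≫ iH) = a ≫ iH := by rw [← htwH, h1]
        exact MulAction.injective (β := Stk19b.Count.TwG kb G) (h ≫ iH) (h3.trans h4.symm)
      exact ⟨(⟨h, h1⟩, ⟨u, h2⟩), Subtype.ext hg.symm⟩
  rw [Stk19b.Count.mass_eq_div, Stk19b.Count.mass_eq_div, Nat.card_congr eSG, Nat.card_congr eSH,
    Nat.card_congr eXG, Nat.card_congr eXH, hX, ← Nat.card_congr (Equiv.ofBijective e he), Nat.card_prod, hUc,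
    Nat.cast_mul, Nat.cast_pow]
  have hq0 : (Nat.card k : ℚ) ≠ 0 := by exact_mod_cast Nat.card_pos.ne'
  field_simp

end Groth.Agent.S15692
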