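import Groth.Statements.S15693
import Groth.Agent.UnipCount19.Stab
import Groth.Agent.Stk19b.Count.Classify

set_option autoImplicit false
universe u
open CategoryTheory AlgebraicGeometry MonoidalCategory CartesianMonoidalCategory MonObj
open StackCount

set_option backward.isDefEq.respectTransparency.types false
set_option backward.isDefEq.respectTransparency false

namespace Groth.Agent.S15693


/-- Let k be a finite field with q elements and algebraic closure k̄, G a smooth affine algebraic group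
over k acting on a variety X over k (reduced, of finite type), and [X/G] the quotient stack whose
objects over a k-scheme T are G-torsors over T (schemes, locally trivial for the étale topology)
with an equivariant morphism to X. Choose k̄-points x_j of X, indexed by a finite set, lying in
pairwise distinct G(k̄)-orbits, each orbit stable under Gal(k̄/k), and such that every Galois-stable
orbit contains some x_j. For each j let s_j : S_j → G_k̄ be the stabiliser of x_j: a monomorphic
homomorphism of k̄-group schemes such that a T-valued point of G_k̄ factors through S_j exactly when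
it fixes x_j. Assume every S_j contains no non-trivial subtorus (equivalently, the identity
component of its reduced subgroup is unipotent) and has dimension d_j. If the groupoid of k-points
of [X/G] is essentially finite, then its point count (sum over isomorphism classes of the inverse
orders of the automorphism groups) equals Σ_j q^(−d_j). (The published statement is for the
k′-points over any finite extension k′, to which this case k′ = k applies after base change; it asks
the unipotency of the stabilisers of all orbits, of which only the Galois-stable ones enter; and it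
allows any algebraic group G, taken smooth and affine here so that torsors are schemes.) -/
theorem result (k : Type u) [Field k] [Finite k]
    (kb : Type u) [Field kb] [Algebra k kb] [IsAlgClosure k kb]
    (G : Over (Spec (CommRingCat.of k))) [GrpObj G] [Smooth G.hom] [IsAffineHom G.hom]
    (X : Over (Spec (CommRingCat.of k))) [LocallyOfFiniteType X.hom] [QuasiCompact X.hom]
    [IsReduced X.left] (aX : AlgGrp.Action G X)
    (J : Type) [Fintype J] (x : J → SGA7.Pts kb X)
    (hdis : ∀ j j' : J, (∃ g : SGA7.Pts kb G, lift g (x j) ≫ aX.act = x j') → j = j')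
    (hfix : ∀ (j : J) (σ : kb ≃ₐ[k] kb), ∃ g : SGA7.Pts kb G, lift g (σ • x j) ≫ aX.act = x j)
    (hall : ∀ y : SGA7.Pts kb X,
      (∀ σ : kb ≃ₐ[k] kb, ∃ g : SGA7.Pts kb G, lift g (σ • y) ≫ aX.act = y) →
        ∃ (j : J) (g : SGA7.Pts kb G), lift g (x j) ≫ aX.act = y)
    (S : J → Over (Spec (CommRingCat.of kb))) [∀ j, GrpObj (S j)]
    (s : ∀ j, S j ⟶ GalTw.bcK kb G) [∀ j, IsMonHom (s j)] [∀ j, Mono (s j)]
    (hS : ∀ (j : J) (T : Over (Spec (CommRingCat.of kb)))
      (g : (Over.map (SGA7.pt (K := k) kb).hom).obj T ⟶ G),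
      (∃ g' : T ⟶ S j, g' ≫ s j = (Over.mapPullbackAdj (SGA7.pt (K := k) kb).hom).homEquiv T G g) ↔
        lift g ((Over.homMk T.hom rfl : (Over.map (SGA7.pt (K := k) kb).hom).obj T ⟶ SGA7.pt (K := k) kb) ≫ x j)
            ≫ aX.act =
          (Over.homMk T.hom rfl : (Over.map (SGA7.pt (K := k) kb).hom).obj T ⟶ SGA7.pt (K := k) kb) ≫ x j)
    (hSu : ∀ j, Red.HasNoSubtorus kb (S j))
    (d : J → ℕ) (hd : ∀ j, topologicalKrullDim ↥(S j).left = (d j : WithBot ℕ∞))
    (h : StkCnt.IsEssFinite (StkCnt.pts (AlgSt.QuotSt Scheme.etalePrecoverage G aX) k)) :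
    StkCnt.ptCount (AlgSt.QuotSt Scheme.etalePrecoverage G aX) k h =
      ∑ j : J, ((Nat.card k : ℚ) ^ (d j))⁻¹ := by
  classical
  haveI : IsAlgClosed kb := IsAlgClosure.isAlgClosed k
  haveI : Algebra.IsAlgebraic k kb := IsAlgClosure.isAlgebraic
  letI := Fintype.ofFinite k
  obtain ⟨p, hchar⟩ := CharP.exists k
  obtain ⟨⟨e, he0⟩, hp, he⟩ := FiniteField.card k p
  haveI : Fact p.Prime := ⟨hp⟩
  replace he : Nat.card k = p ^ e := by rw [Nat.card_eq_fintype_card]; exact he
  haveI : CharP kb p := charP_of_injective_algebraMap (algebraMap k kb).injective p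
  let π₀ : kb ≃ₐ[k] kb := FiniteField.frobeniusAlgEquivOfAlgebraic k kb
  have hπ₀ : ∀ y : kb, π₀ y = y ^ Nat.card k := fun y => by rw [Nat.card_eq_fintype_card]; rfl
  have hFr : ∀ {Y : Over (Spec (CommRingCat.of k))} (y : SGA7.Pts kb Y),
      π₀ • y = Stk19b.Count.frM k k kb ≫ y := fun y => Stk19b.Count.frobenius_smul π₀ hπ₀ y
  haveI : IsAffine G.left := isAffine_of_isAffineHom G.hom
  obtain ⟨A, iA1, iA2, eG, heG, heG'⟩ := HopfQuot.exists_spec (k := k) G
  haveI : IsIso eG.left := inferInstanceAs (IsIso ((Over.forget _).map eG))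
  haveI : Algebra.FiniteType k A := by
    haveI : LocallyOfFiniteType (HopfQuot.spec (k := k) A).hom := by rw [← Over.w eG]; infer_instance
    exact RingHom.finiteType_algebraMap.1 ((HasRingHomProperty.Spec_iff (P := @LocallyOfFiniteType)
      (φ := CommRingCat.ofHom (algebraMap k A))).1 ‹LocallyOfFiniteType (HopfQuot.spec (k := k) A).hom›)
  let tG := UnipCount19.toG kb eG
  have htG : Function.Bijective tG := ⟨fun g h hgh => by
      have := (cancel_mono eG).1 (hgh : _ ≫ eG = _ ≫ eG)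
      exact (HopfQuot.ptSpec (k := k) (A := A) (T := kb)).injective this,
    fun g => ⟨(HopfQuot.ptSpec (k := k) (A := A) (T := kb)).symm (g ≫ CategoryTheory.inv eG), by
      show HopfQuot.ptSpec ((HopfQuot.ptSpec (k := k) (A := A) (T := kb)).symm _) ≫ eG = g
      simp⟩⟩
  let eΓ := MulEquiv.ofBijective tG htG
  have hfrob : ∀ g, tG (UnipCount19.frobPt π₀ g) = Stk19b.Count.frM k k kb ≫ tG g := fun g => by
    show HopfQuot.ptSpec _ ≫ eG = Stk19b.Count.frM k k kb ≫ HopfQuot.ptSpec g ≫ eG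
    rw [← Category.assoc (Stk19b.Count.frM k k kb)]
    congr 1
    refine Over.OverMorphism.ext ?_
    show Spec.map _ = Spec.map _ ≫ Spec.map _
    rw [← Spec.map_comp]
    congr 1
  obtain ⟨hfinP, hstabP, hcount⟩ := Stk19b.Count.count_eq_mass k kb aX h
  haveI := hfinP
  letI : MulAction (SGA7.pt (K := k) kb ⟶ G) (SGA7.pt (K := k) kb ⟶ X) :=
    { smul := fun g y => Stk19b.QuotTriv.smulPt aX g y
      one_smul := fun y => Stk19b.QuotTriv.smulPt_one aX y
      mul_smul := fun g g' y => Stk19b.QuotTriv.smulPt_mul aX g g' y }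
  let f : Stk19b.Count.Pairs k kb aX →[(SGA7.pt (K := k) kb ⟶ G)] (SGA7.pt (K := k) kb ⟶ X) :=
    ⟨fun q => q.1.2, fun g q => rfl⟩
  show StkCnt.count (Stk19b.Count.Fib k aX) h = _
  rw [hcount, Stk19b.Count.mass_eq_sum f x ?hex ?hinj]
  case hinj => exact fun j j' g hg => hdis j j' ⟨g, hg⟩
  case hex =>
    intro q
    refine (hall q.1.2 fun σ => ?_)
    obtain ⟨i, hi⟩ : ∃ i, ∀ y : SGA7.pt (K := k) kb ⟶ X, y = q.1.2 →
        σ • (y : SGA7.Pts kb X) = Stk19b.Count.powM (Stk19b.Count.frM k k kb) i ≫ y := by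
      obtain ⟨E, hE, hp⟩ := Stk19b.Count.exists_finite_level q.1.2
      haveI := hE
      obtain ⟨y₁, hy₁⟩ := hp (Stk19b.Count.incl k E kb) (Stk19b.Count.incl_left k E kb)
      haveI : Finite E := Module.finite_of_finite k
      haveI : IsScalarTower k E kb := IsScalarTower.of_algebraMap_eq fun z => rfl
      obtain ⟨i, hi⟩ := Stk19b.Count.exists_powM_of_base (k := k) (k' := k) (L := kb) (E := E)
        (Module.natCard_eq_pow_finrank (K := k) (V := E)) (Stk19b.Count.incl k E kb) (SGA7.specAut σ ≫ Stk19b.Count.incl k E kb)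
        (by rw [Category.assoc, Stk19b.Count.incl_comp]; exact Over.OverMorphism.ext (by
          symm
          rw [Over.comp_left]
          show Spec.map _ = Spec.map _ ≫ Spec.map _
          rw [← Spec.map_comp]
          congr 1
          ext z
          exact (σ.commutes z).symm))
      refine ⟨i, ?_⟩
      rintro _ rfl
      rw [← hy₁, GalTw.pts_smul_def, ← Category.assoc, hi, ← Category.assoc]
      congr 1
      exact (Stk19b.Count.powM_comm _ _ _ (Stk19b.Count.frM_incl k k kb E) i).symm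
    refine ⟨(Stk19b.Count.normM k k kb q.1.1 i)⁻¹, ?_⟩
    show Stk19b.QuotTriv.smulPt aX _ (σ • (q.1.2 : SGA7.Pts kb X)) = q.1.2
    rw [hi _ rfl, Stk19b.Count.powM_smul (aX := aX) q.1.1 q.1.2 q.2 i, ← Stk19b.QuotTriv.smulPt_mul, inv_mul_cancel,
      Stk19b.QuotTriv.smulPt_one]
  refine Finset.sum_congr rfl fun j _ => ?_
  obtain ⟨B, iB1, iB2, hBft, hBdom, π, V, hπ, hBu, hBd, hVP, hfinV, hV, hV'⟩ :=
    UnipCount19.exists_neutral_part kb aX eG (x j) (S j) (s j) (hS j) (hSu j) (d j) (hd j)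
  haveI := hfinV
  obtain ⟨g₀, hg₀⟩ := hfix j π₀
  change Stk19b.QuotTriv.smulPt aX g₀ (π₀ • (x j : SGA7.Pts kb X)) = x j at hg₀
  rw [hFr] at hg₀
  obtain ⟨c, hc⟩ := htG.2 g₀⁻¹
  have hxc : Stk19b.Count.frM k k kb ≫ x j = Stk19b.QuotTriv.smulPt aX (tG c) (x j) := by
    rw [hc]
    conv_rhs => rw [← hg₀]
    rw [← Stk19b.QuotTriv.smulPt_mul, inv_mul_cancel, Stk19b.QuotTriv.smulPt_one]
  let P := UnipCount19.stabPt kb aX eG (x j)
  have hP : ∀ g, g ∈ P ↔ Stk19b.QuotTriv.smulPt aX (tG g) (x j) = x j := fun g => Iff.rfl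
  have hcP : ∀ g, c⁻¹ * UnipCount19.frobPt π₀ g * c ∈ P ↔ g ∈ P := fun g => by
    rw [hP, hP, map_mul, map_mul, map_inv, hfrob, Stk19b.QuotTriv.smulPt_mul, ← hxc, Stk19b.QuotTriv.smulPt_mul,
      ← Stk19b.QuotTriv.comp_smulPt]
    constructor
    · intro h0
      have h1 := congrArg (Stk19b.QuotTriv.smulPt aX (tG c)) h0
      rw [← Stk19b.QuotTriv.smulPt_mul, mul_inv_cancel, Stk19b.QuotTriv.smulPt_one, ← hxc, ← hFr, ← hFr] at h1
      exact MulAction.injective (β := SGA7.Pts kb X) π₀ h1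
    · intro h0
      rw [h0, hxc, ← Stk19b.QuotTriv.smulPt_mul, inv_mul_cancel, Stk19b.QuotTriv.smulPt_one]
  let θ : P →* P := MonoidHom.mk' (fun g => ⟨c⁻¹ * UnipCount19.frobPt π₀ g.1 * c, (hcP g.1).2 g.2⟩) fun g g' =>
    Subtype.ext (by
      show c⁻¹ * UnipCount19.frobPt π₀ (g.1 * g'.1) * c =
        c⁻¹ * UnipCount19.frobPt π₀ g.1 * c * (c⁻¹ * UnipCount19.frobPt π₀ g'.1 * c)
      rw [map_mul]
      group)
  have hT : UnipCount19.Inv θ (⊤ : Subgroup P) := ⟨fun _ _ _ => trivial, fun _ _ => trivial⟩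
  have hfin : ∀ a, Finite {g // UnipCount19.frobPt π₀ g * a * g⁻¹ = a} := fun a => by
    haveI := (Stk19b.Count.finite_twisted (k' := k) (aX := aX) (tG a)).1
    refine Finite.of_injective
      (fun g : {g // UnipCount19.frobPt π₀ g * a * g⁻¹ = a} =>
        (⟨tG g.1, ?_⟩ : {g : SGA7.pt (K := k) kb ⟶ G // Stk19b.Count.twConj k kb g (tG a) = tG a}))
      fun g g' h0 => Subtype.ext (htG.1 (congrArg Subtype.val h0 :))
    rw [Stk19b.Count.twConj, ← hfrob, ← map_inv, ← map_mul, ← map_mul, g.2]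
  obtain ⟨-, hmass⟩ := UnipCount19.hasMass_twisted π (p := p) (e := e)
    (he ▸ Finite.one_lt_card) π₀ (fun y => by rw [← he]; exact hπ₀ y) hπ hBu (d j) hBd P hVP hV hV' c hcP θ
    (fun g => rfl) hfin hT 1
  letI := UnipCount19.csAction hT (1 : P)
  rw [show ((Nat.card k : ℚ) ^ (d j))⁻¹ = (((p ^ e : ℕ) : ℚ) ^ d j)⁻¹ by rw [he], ← hmass]
  let eS : (⊤ : Subgroup P) ≃* MulAction.stabilizer (SGA7.pt (K := k) kb ⟶ G) (x j) :=
    { toFun := fun g => ⟨tG g.1.1, g.1.2⟩
      invFun := fun g => ⟨⟨eΓ.symm g.1, by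
        rw [hP, show tG (eΓ.symm g.1) = g.1 from eΓ.apply_symm_apply g.1]
        exact g.2⟩, trivial⟩
      left_inv := fun g => Subtype.ext (Subtype.ext (eΓ.symm_apply_apply g.1.1))
      right_inv := fun g => Subtype.ext (eΓ.apply_symm_apply g.1)
      map_mul' := fun g g' => Subtype.ext (map_mul tG g.1.1 g'.1.1) }
  let eF : UnipCount19.Cs (⊤ : Subgroup P) 1 ≃ Stk19b.Count.Fibre f (x j) :=
    { toFun := fun v => ⟨⟨(tG (c * v.1.1), x j), by
        rw [map_mul, Stk19b.QuotTriv.smulPt_mul, (hP _).1 v.1.2]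
        exact hxc⟩, rfl⟩
      invFun := fun q => ⟨⟨c⁻¹ * eΓ.symm q.1.1.1, by
        have hq : Stk19b.Count.frM k k kb ≫ q.1.1.2 = Stk19b.QuotTriv.smulPt aX q.1.1.1 q.1.1.2 := q.1.2
        rw [show q.1.1.2 = x j from q.2, hxc] at hq
        rw [hP, map_mul, map_inv, show tG (eΓ.symm q.1.1.1) = q.1.1.1 from eΓ.apply_symm_apply _,
          Stk19b.QuotTriv.smulPt_mul, ← hq, ← Stk19b.QuotTriv.smulPt_mul, inv_mul_cancel,
          Stk19b.QuotTriv.smulPt_one]⟩, trivial⟩
      left_inv := fun v => Subtype.ext (Subtype.ext (by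
        show c⁻¹ * eΓ.symm (eΓ (c * v.1.1)) = v.1.1
        rw [eΓ.symm_apply_apply, inv_mul_cancel_left]))
      right_inv := fun q => Subtype.ext (Subtype.ext (Prod.ext (by
        show eΓ (c * (c⁻¹ * eΓ.symm q.1.1.1)) = q.1.1.1
        rw [mul_inv_cancel_left, eΓ.apply_symm_apply]) q.2.symm)) }
  refine (Stk19b.Count.mass_congr eS eF fun g v => Subtype.ext (Subtype.ext (Prod.ext ?_ ?_))).symm
  · show tG (c * (c⁻¹ * UnipCount19.frobPt π₀ g.1.1 * c * v.1.1 * g.1.1⁻¹)) =
      (Stk19b.Count.frM k k kb ≫ tG g.1.1) * tG (c * v.1.1) * (tG g.1.1)⁻¹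
    rw [← hfrob, ← map_inv, ← map_mul, ← map_mul]
    congr 1
    group
  · exact ((hP _).1 g.1.2).symm

end Groth.Agent.S15693
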