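import Groth.Statements.S15694
import Groth.Agent.UnipCount19.FiniteAct
import Groth.Agent.Stk19b.Count.Twist
import Mathlib.AlgebraicGeometry.AffineSpace

set_option autoImplicit false
universe u
open CategoryTheory AlgebraicGeometry MonoidalCategory CartesianMonoidalCategory MonObj
open StackCount

set_option backward.isDefEq.respectTransparency.types false
set_option backward.isDefEq.respectTransparency false

namespace Groth.Agent.S15694


/-- Let k be a finite field with q elements and algebraic closure k̄, and G a smooth affine algebraic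
group over k of the form (F × H) ⋉ U: F, H, U are closed subgroups (monomorphic homomorphisms into
G), F and H commute elementwise, U is normal, and multiplication (f, h, u) ↦ f h u is an isomorphism
of k-schemes F × H × U → G. Assume F has unipotent identity component (its base change to k̄
contains no non-trivial subtorus) and dimension d_F, H is connected, and U is smooth, connected,
unipotent (no non-trivial subtorus over k̄) of dimension d_U. Let X = E × V with E finite and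
reduced over k and V isomorphic over k to affine n-space, and let G act on X so that the restriction
of the action to F is the product of an action of F on E and an action of F on V, the latter
factoring through a homomorphism from F to a smooth connected algebraic group acting on V. Choose
k̄-points e_j of E, indexed by a finite set J, one in each Galois-stable F(k̄)-orbit of E(k̄) and in
pairwise distinct orbits. If the groupoid of k-points of the quotient stack [X/G] (étale G-torsors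
as schemes with an equivariant map to X) is essentially finite, then its point count satisfies
#[X/G](k) · #H(k) · q^(d_U + d_F) = #J · q^n. (The published statement is for k′-points over any
finite extension k′ and reads #[X/G](k′) = #J · (#k′)^(dim V − dim U − dim F) / #H(k′); this row is
the case k′ = k with denominators cleared, and takes the groups affine so that torsors are schemes.) -/
theorem result (k : Type u) [Field k] [Finite k]
    (kb : Type u) [Field kb] [Algebra k kb] [IsAlgClosure k kb]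
    (G F H U : Over (Spec (CommRingCat.of k))) [GrpObj G] [GrpObj F] [GrpObj H] [GrpObj U]
    [Smooth G.hom] [IsAffineHom G.hom] [Smooth F.hom] [IsAffineHom F.hom]
    [Smooth H.hom] [IsAffineHom H.hom] [ConnectedSpace H.left]
    [Smooth U.hom] [IsAffineHom U.hom] [ConnectedSpace U.left]
    (iF : F ⟶ G) (iH : H ⟶ G) (iU : U ⟶ G) [IsMonHom iF] [IsMonHom iH] [IsMonHom iU]
    [Mono iF] [Mono iH] [Mono iU]
    (hFH : (fst F H ≫ iF) * (snd F H ≫ iH) = (snd F H ≫ iH) * (fst F H ≫ iF))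
    (hUn : AlgGrp.IsNormalHom iU)
    (hsd : IsIso ((fst (F ⊗ H) U ≫ fst F H ≫ iF) * (fst (F ⊗ H) U ≫ snd F H ≫ iH) * (snd (F ⊗ H) U ≫ iU)))
    (hFu : Red.HasNoSubtorus kb (GalTw.bcK kb F)) (hUu : Red.HasNoSubtorus kb (GalTw.bcK kb U))
    (dF dU : ℕ) (hdF : topologicalKrullDim ↥F.left = (dF : WithBot ℕ∞))
    (hdU : topologicalKrullDim ↥U.left = (dU : WithBot ℕ∞))
    (E V : Over (Spec (CommRingCat.of k))) [IsFinite E.hom] [IsReduced E.left]
    (n : ℕ) (eV : V.left ≅ 𝔸(ULift.{u} (Fin n); Spec (CommRingCat.of k)))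
    (heV : eV.hom ≫ (𝔸(ULift.{u} (Fin n); Spec (CommRingCat.of k)) ↘ Spec (CommRingCat.of k)) = V.hom)
    (aX : AlgGrp.Action G (E ⊗ V)) (aE : AlgGrp.Action F E) (aV : AlgGrp.Action F V)
    (haF : (iF ▷ (E ⊗ V)) ≫ aX.act =
      lift (lift (fst F (E ⊗ V)) (snd F (E ⊗ V) ≫ fst E V) ≫ aE.act)
        (lift (fst F (E ⊗ V)) (snd F (E ⊗ V) ≫ snd E V) ≫ aV.act))
    (Fc : Over (Spec (CommRingCat.of k))) [GrpObj Fc] [Smooth Fc.hom] [QuasiCompact Fc.hom]
    [ConnectedSpace Fc.left] (ρ : F ⟶ Fc) [IsMonHom ρ] (aVc : AlgGrp.Action Fc V)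
    (haV : aV.act = (ρ ▷ V) ≫ aVc.act)
    (J : Type) [Fintype J] (e : J → SGA7.Pts kb E)
    (hdis : ∀ j j' : J, (∃ g : SGA7.Pts kb F, lift g (e j) ≫ aE.act = e j') → j = j')
    (hfix : ∀ (j : J) (σ : kb ≃ₐ[k] kb), ∃ g : SGA7.Pts kb F, lift g (σ • e j) ≫ aE.act = e j)
    (hall : ∀ y : SGA7.Pts kb E,
      (∀ σ : kb ≃ₐ[k] kb, ∃ g : SGA7.Pts kb F, lift g (σ • y) ≫ aE.act = y) →
        ∃ (j : J) (g : SGA7.Pts kb F), lift g (e j) ≫ aE.act = y)
    (h : StkCnt.IsEssFinite (StkCnt.pts (AlgSt.QuotSt Scheme.etalePrecoverage G aX) k)) :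
    StkCnt.ptCount (AlgSt.QuotSt Scheme.etalePrecoverage G aX) k h *
        (Nat.card (SGA7.Pts k H) : ℚ) * (Nat.card k : ℚ) ^ (dU + dF) =
      (Fintype.card J : ℚ) * (Nat.card k : ℚ) ^ n := by
  classical
  haveI : IsAlgClosed kb := IsAlgClosure.isAlgClosed k
  haveI : Algebra.IsAlgebraic k kb := IsAlgClosure.isAlgebraic
  letI := Fintype.ofFinite k
  obtain ⟨p, hchar⟩ := CharP.exists k
  obtain ⟨⟨e₀, he0⟩, hp, he⟩ := FiniteField.card k p
  haveI : Fact p.Prime := ⟨hp⟩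
  replace he : Nat.card k = p ^ e₀ := by rw [Nat.card_eq_fintype_card]; exact he
  let π₀ : kb ≃ₐ[k] kb := FiniteField.frobeniusAlgEquivOfAlgebraic k kb
  have hπ₀ : ∀ y : kb, π₀ y = y ^ Nat.card k := fun y => by rw [Nat.card_eq_fintype_card]; rfl
  have hFr : ∀ {Y : Over (Spec (CommRingCat.of k))} (y : SGA7.Pts kb Y),
      π₀ • y = Stk19b.Count.frM k k kb ≫ y := fun y => Stk19b.Count.frobenius_smul π₀ hπ₀ y
  have hlang : ∀ (Y : Over (Spec (CommRingCat.of k))) [GrpObj Y] [Smooth Y.hom] [QuasiCompact Y.hom]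
      [ConnectedSpace Y.left] (h : SGA7.pt (K := k) kb ⟶ Y),
      ∃ g : SGA7.pt (K := k) kb ⟶ Y, g * (Stk19b.Count.frM k k kb ≫ g)⁻¹ = h := by
    intro Y _ _ _ _ h
    obtain ⟨g, hg⟩ := LangGen19.exists_mul_inv_theta_eq p e₀ he (by omega) kb _ (fst Y (SGA7.pt (K := k) kb))
      (fun a b t => by rw [lift_fst, lift_fst, lift_fst]) h
    refine ⟨g, ?_⟩
    have hfr : Stk19b.Count.frM k k kb = LangGen19.frk p e₀ he (SGA7.pt (K := k) kb) := by
      apply Over.OverMorphism.ext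
      refine (LangGen19.specMap_of_appTop (R := CommRingCat.of kb) _ _ (Nat.card k) (fun x => ?_) fun s => ?_).symm
      · exact Stk19b.Count.frobHom_apply k kb x
      · rw [he]
        exact LangGen19.frQ_appTop p e₀ (SGA7.pt (K := k) kb) s
    rw [lift_fst] at hg
    rw [hfr]
    exact hg
  -- decomposition
  let φ : (F ⊗ H) ⊗ U ⟶ G :=
    (fst (F ⊗ H) U ≫ fst F H ≫ iF) * (fst (F ⊗ H) U ≫ snd F H ≫ iH) * (snd (F ⊗ H) U ≫ iU)
  haveI : IsIso φ := hsd
  have hφ : ∀ {T : Over (Spec (CommRingCat.of k))} (f : T ⟶ F) (h : T ⟶ H) (u : T ⟶ U),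
      lift (lift f h) u ≫ φ = (f ≫ iF) * (h ≫ iH) * (u ≫ iU) := fun f h u => by simp [φ, MonObj.comp_mul]
  have hdec : ∀ {T : Over (Spec (CommRingCat.of k))} (g : T ⟶ G),
      ∃ (f : T ⟶ F) (h : T ⟶ H) (u : T ⟶ U), g = (f ≫ iF) * (h ≫ iH) * (u ≫ iU) := fun g => by
    refine ⟨g ≫ CategoryTheory.inv φ ≫ fst (F ⊗ H) U ≫ fst F H, g ≫ CategoryTheory.inv φ ≫ fst (F ⊗ H) U ≫ snd F H,
      g ≫ CategoryTheory.inv φ ≫ snd (F ⊗ H) U, ?_⟩
    rw [← hφ]
    repeat rw [← comp_lift]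
    simp
  have hcomm : ∀ {T : Over (Spec (CommRingCat.of k))} (f : T ⟶ F) (h : T ⟶ H),
      (f ≫ iF) * (h ≫ iH) = (h ≫ iH) * (f ≫ iF) := fun f h => by
    have := congrArg (fun m => lift f h ≫ m) hFH
    simpa [MonObj.comp_mul] using this
  have hqF : ∀ {T : Over (Spec (CommRingCat.of k))} (f : T ⟶ F) (h : T ⟶ H) (u : T ⟶ U),
      ((f ≫ iF) * (h ≫ iH) * (u ≫ iU)) ≫ CategoryTheory.inv φ ≫ fst (F ⊗ H) U ≫ fst F H = f := fun f h u => by
    rw [← hφ, Category.assoc, IsIso.hom_inv_id_assoc, lift_fst_assoc, lift_fst]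
  have hqH : ∀ {T : Over (Spec (CommRingCat.of k))} (f : T ⟶ F) (h : T ⟶ H) (u : T ⟶ U),
      ((f ≫ iF) * (h ≫ iH) * (u ≫ iU)) ≫ CategoryTheory.inv φ ≫ fst (F ⊗ H) U ≫ snd F H = h := fun f h u => by
    rw [← hφ, Category.assoc, IsIso.hom_inv_id_assoc, lift_fst_assoc, lift_snd]
  have hprod : ∀ {T : Over (Spec (CommRingCat.of k))} (f f' : T ⟶ F) (h h' : T ⟶ H) (u u' : T ⟶ U),
      ∃ v : T ⟶ U, (f ≫ iF) * (h ≫ iH) * (u ≫ iU) * ((f' ≫ iF) * (h' ≫ iH) * (u' ≫ iU)) =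
        ((f * f') ≫ iF) * ((h * h') ≫ iH) * (v ≫ iU) := fun f f' h h' u u' => by
    obtain ⟨v, hv⟩ := hUn _ ((f' ≫ iF) * (h' ≫ iH))⁻¹ u
    refine ⟨v * u', ?_⟩
    rw [MonObj.mul_comp, MonObj.mul_comp, MonObj.mul_comp, ← hv]
    calc (f ≫ iF) * (h ≫ iH) * (u ≫ iU) * ((f' ≫ iF) * (h' ≫ iH) * (u' ≫ iU))
        = (f ≫ iF) * ((h ≫ iH) * (f' ≫ iF)) * (h' ≫ iH) *
            (((f' ≫ iF) * (h' ≫ iH))⁻¹ * (u ≫ iU) * ((f' ≫ iF) * (h' ≫ iH))⁻¹⁻¹ * (u' ≫ iU)) := by group
      _ = (f ≫ iF) * ((f' ≫ iF) * (h ≫ iH)) * (h' ≫ iH) *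
            (((f' ≫ iF) * (h' ≫ iH))⁻¹ * (u ≫ iU) * ((f' ≫ iF) * (h' ≫ iH))⁻¹⁻¹ * (u' ≫ iU)) := by rw [hcomm f' h]
      _ = _ := by group
  let qF : (SGA7.pt (K := k) kb ⟶ G) →* (SGA7.pt (K := k) kb ⟶ F) :=
    MonoidHom.mk' (fun g => g ≫ CategoryTheory.inv φ ≫ fst (F ⊗ H) U ≫ fst F H) fun g g' => by
      obtain ⟨f, h, u, rfl⟩ := hdec g
      obtain ⟨f', h', u', rfl⟩ := hdec g'
      obtain ⟨v, hv⟩ := hprod f f' h h' u u'
      rw [hv, hqF, hqF, hqF]
  let qH : (SGA7.pt (K := k) kb ⟶ G) →* (SGA7.pt (K := k) kb ⟶ H) :=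
    MonoidHom.mk' (fun g => g ≫ CategoryTheory.inv φ ≫ fst (F ⊗ H) U ≫ snd F H) fun g g' => by
      obtain ⟨f, h, u, rfl⟩ := hdec g
      obtain ⟨f', h', u', rfl⟩ := hdec g'
      obtain ⟨v, hv⟩ := hprod f f' h h' u u'
      rw [hv, hqH, hqH, hqH]
  have hqFF : ∀ f : SGA7.pt (K := k) kb ⟶ F, qF (f ≫ iF) = f ∧ qH (f ≫ iF) = 1 := fun f => by
    have h1 := hqF f (1 : SGA7.pt (K := k) kb ⟶ H) (1 : SGA7.pt (K := k) kb ⟶ U)
    have h2 := hqH f (1 : SGA7.pt (K := k) kb ⟶ H) (1 : SGA7.pt (K := k) kb ⟶ U)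
    rw [MonObj.one_comp, MonObj.one_comp, _root_.mul_one, _root_.mul_one] at h1 h2
    exact ⟨h1, h2⟩
  have htwq : ∀ {Y : Over (Spec (CommRingCat.of k))} [GrpObj Y] (r : G ⟶ Y)
      (q : (SGA7.pt (K := k) kb ⟶ G) →* (SGA7.pt (K := k) kb ⟶ Y)) (_ : ∀ g, q g = g ≫ r)
      (g a : SGA7.pt (K := k) kb ⟶ G),
      q (Stk19b.Count.twConj k kb g a) = Stk19b.Count.twConj k kb (q g) (q a) := fun r q hq g a => by
    rw [Stk19b.Count.twConj, Stk19b.Count.twConj, map_mul, map_mul, map_inv]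
    congr 2
    rw [hq, hq, Category.assoc]
  have htwF : ∀ g a, qF (Stk19b.Count.twConj k kb g a) = Stk19b.Count.twConj k kb (qF g) (qF a) :=
    htwq _ qF fun g => rfl
  have htwH : ∀ g a, qH (Stk19b.Count.twConj k kb g a) = Stk19b.Count.twConj k kb (qH g) (qH a) :=
    htwq _ qH fun g => rfl
  have htwi : ∀ g a : SGA7.pt (K := k) kb ⟶ F,
      (Stk19b.Count.twConj k kb g a) ≫ iF = Stk19b.Count.twConj k kb (g ≫ iF) (a ≫ iF) := fun g a => by
    rw [Stk19b.Count.twConj, Stk19b.Count.twConj, MonObj.mul_comp, MonObj.mul_comp, GrpObj.inv_comp, Category.assoc]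
  have hmulG : ∀ g g' a : SGA7.pt (K := k) kb ⟶ G, Stk19b.Count.twConj k kb (g * g') a =
      Stk19b.Count.twConj k kb g (Stk19b.Count.twConj k kb g' a) := fun g g' a => by
    simp only [Stk19b.Count.twConj, MonObj.comp_mul, _root_.mul_inv_rev, _root_.mul_assoc]
  -- the two components of a point
  have hfst : ∀ (f : SGA7.pt (K := k) kb ⟶ F) (y : SGA7.pt (K := k) kb ⟶ E ⊗ V),
      Stk19b.QuotTriv.smulPt aX (f ≫ iF) y =
        lift (Stk19b.QuotTriv.smulPt aE f (y ≫ fst E V)) (Stk19b.QuotTriv.smulPt aV f (y ≫ snd E V)) := fun f y => by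
    show lift (f ≫ iF) y ≫ aX.act =
      lift (lift f (y ≫ fst E V) ≫ aE.act) (lift f (y ≫ snd E V) ≫ aV.act)
    rw [← lift_whiskerRight_assoc, haF]
    simp only [comp_lift, comp_lift_assoc, lift_fst, lift_snd_assoc, lift_snd]
  -- points of V
  have hV0 : Nat.card (SGA7.Pts k V) = Nat.card k ^ n := by
    let S₀ := Spec (CommRingCat.of k)
    have hcard : Nat.card (SGA7.Pts k V) =
        Nat.card { f : Spec (CommRingCat.of k) ⟶ 𝔸(ULift.{u} (Fin n); S₀) //
          f ≫ (𝔸(ULift.{u} (Fin n); S₀) ↘ S₀) = (SGA7.pt (K := k) k).hom } :=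
      Nat.card_congr
        { toFun := fun v => ⟨v.left ≫ eV.hom, by rw [Category.assoc, heV]; exact Over.w v⟩
          invFun := fun f => Over.homMk (f.1 ≫ eV.inv) (by
            rw [← heV, Category.assoc, Iso.inv_hom_id_assoc]
            exact f.2)
          left_inv := fun v => Over.OverMorphism.ext (by simp)
          right_inv := fun f => Subtype.ext (by simp) }
    let eA : { f : Spec (CommRingCat.of k) ⟶ 𝔸(ULift.{u} (Fin n); S₀) //
          f ≫ (𝔸(ULift.{u} (Fin n); S₀) ↘ S₀) = (SGA7.pt (K := k) k).hom } ≃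
        (ULift.{u} (Fin n) → Γ(Spec (CommRingCat.of k), ⊤)) :=
      { toFun := fun f i => f.1.appTop (AffineSpace.coord S₀ i)
        invFun := fun v => ⟨AffineSpace.homOfVector (SGA7.pt (K := k) k).hom v, AffineSpace.homOfVector_over _ _⟩
        left_inv := fun f => Subtype.ext (AffineSpace.hom_ext
          ((AffineSpace.homOfVector_over _ _).trans f.2.symm)
          (fun i => AffineSpace.homOfVector_appTop_coord _ _ i))
        right_inv := fun v => funext fun i => AffineSpace.homOfVector_appTop_coord _ _ i }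
    rw [hcard, Nat.card_congr eA, Nat.card_fun,
      Nat.card_congr (Scheme.ΓSpecIso (CommRingCat.of k)).commRingCatIsoToRingEquiv.toEquiv, Nat.card_ulift,
      Nat.card_eq_fintype_card (α := Fin n), Fintype.card_fin]
  have hVc : ∀ f : SGA7.pt (K := k) kb ⟶ F,
      Nat.card {v : SGA7.pt (K := k) kb ⟶ V // Stk19b.Count.frM k k kb ≫ v = Stk19b.QuotTriv.smulPt aV f v} =
        Nat.card k ^ n := by
    intro f
    obtain ⟨g, hg⟩ := hlang Fc (f ≫ ρ)⁻¹
    have hsm : ∀ v, Stk19b.QuotTriv.smulPt aV f v = Stk19b.QuotTriv.smulPt aVc (f ≫ ρ) v := fun v => by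
      show lift f v ≫ aV.act = lift (f ≫ ρ) v ≫ aVc.act
      rw [haV, lift_whiskerRight_assoc]
    have hgg : Stk19b.Count.frM k k kb ≫ g = (f ≫ ρ) * g := by
      rw [mul_inv_eq_iff_eq_mul] at hg
      conv_rhs => rw [hg]
      rw [mul_inv_cancel_left]
    rw [← hV0, Stk19b.Count.card_pts_eq_fixed π₀ hπ₀ V]
    refine Nat.card_congr
      { toFun := fun v => ⟨Stk19b.QuotTriv.smulPt aVc g⁻¹ v.1, ?_⟩
        invFun := fun v => ⟨Stk19b.QuotTriv.smulPt aVc g v.1, ?_⟩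
        left_inv := fun v => Subtype.ext (by
          show Stk19b.QuotTriv.smulPt aVc g (Stk19b.QuotTriv.smulPt aVc g⁻¹ v.1) = v.1
          rw [← Stk19b.QuotTriv.smulPt_mul, mul_inv_cancel, Stk19b.QuotTriv.smulPt_one])
        right_inv := fun v => Subtype.ext (by
          show Stk19b.QuotTriv.smulPt aVc g⁻¹ (Stk19b.QuotTriv.smulPt aVc g v.1) = v.1
          rw [← Stk19b.QuotTriv.smulPt_mul, inv_mul_cancel, Stk19b.QuotTriv.smulPt_one]) }
    · rw [hFr, Stk19b.QuotTriv.comp_smulPt, v.2, hsm, GrpObj.comp_inv, hgg, ← Stk19b.QuotTriv.smulPt_mul]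
      congr 1
      group
    · have hv : Stk19b.Count.frM k k kb ≫ v.1 = v.1 := (hFr v.1).symm.trans v.2
      rw [Stk19b.QuotTriv.comp_smulPt, hv, hgg, hsm, Stk19b.QuotTriv.smulPt_mul]
  -- counting
  haveI : LocallyOfFiniteType V.hom := by rw [← heV]; infer_instance
  haveI : QuasiCompact V.hom := by rw [← heV]; infer_instance
  haveI : LocallyOfFiniteType (E ⊗ V).hom :=
    inferInstanceAs (LocallyOfFiniteType (Limits.pullback.fst E.hom V.hom ≫ E.hom))
  haveI : QuasiCompact (E ⊗ V).hom :=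
    inferInstanceAs (QuasiCompact (Limits.pullback.fst E.hom V.hom ≫ E.hom))
  obtain ⟨hfinE, hmassE⟩ := UnipCount19.mass_pairs_finite kb aE hFu dF hdF J e hdis hfix hall
  obtain ⟨hfinPG, -, hcG⟩ := Stk19b.Count.count_eq_mass k kb aX h
  haveI := hfinE
  haveI := hfinPG
  letI : MulAction (SGA7.pt (K := k) kb ⟶ G) (Stk19b.Count.TwG kb G) := Stk19b.Count.twAction (k' := k)
  letI : MulAction (SGA7.pt (K := k) kb ⟶ F) (Stk19b.Count.TwG kb F) := Stk19b.Count.twAction (k' := k)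
  let fG : Stk19b.Count.Pairs k kb aX →[(SGA7.pt (K := k) kb ⟶ G)] Stk19b.Count.TwG kb G :=
    { toFun := fun p => p.1.1
      map_smul' := fun g p => rfl }
  let fE : Stk19b.Count.Pairs k kb aE →[(SGA7.pt (K := k) kb ⟶ F)] Stk19b.Count.TwG kb F :=
    { toFun := fun p => p.1.1
      map_smul' := fun g p => rfl }
  let cls : MulAction.orbitRel.Quotient (SGA7.pt (K := k) kb ⟶ F) (Stk19b.Count.Pairs k kb aE) →
      MulAction.orbitRel.Quotient (SGA7.pt (K := k) kb ⟶ F) (Stk19b.Count.TwG kb F) :=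
    Quotient.map fE (fun p p' ⟨g, hg⟩ => ⟨g, ((map_smul fE g p').symm.trans (congrArg fE hg))⟩)
  let Jx := {ω : MulAction.orbitRel.Quotient (SGA7.pt (K := k) kb ⟶ F) (Stk19b.Count.TwG kb F) // ω ∈ Set.range cls}
  haveI : Finite Jx := inferInstanceAs (Finite (Set.range cls))
  letI := Fintype.ofFinite Jx
  let rep : Jx → Stk19b.Count.TwG kb F := fun ω => ω.1.out
  let repG : Jx → Stk19b.Count.TwG kb G := fun ω =>
    ((rep ω : SGA7.pt (K := k) kb ⟶ F) ≫ iF : SGA7.pt (K := k) kb ⟶ G)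
  have hexE : ∀ p, ∃ c, ∃ g : SGA7.pt (K := k) kb ⟶ F, g • rep c = fE p := fun p => by
    refine ⟨⟨_, ⟨Quotient.mk _ p, rfl⟩⟩, ?_⟩
    obtain ⟨g, hg⟩ :=
      Quotient.mk_out (s := MulAction.orbitRel (SGA7.pt (K := k) kb ⟶ F) (Stk19b.Count.TwG kb F)) (fE p)
    exact ⟨g⁻¹, by show g⁻¹ • (Quotient.mk _ (fE p)).out = fE p; rw [inv_smul_eq_iff]; exact hg.symm⟩
  have hinjE : ∀ c c' (g : SGA7.pt (K := k) kb ⟶ F), g • rep c = rep c' → c = c' := fun c c' g hg => by
    apply Subtype.ext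
    rw [← Quotient.out_eq c.1, ← Quotient.out_eq c'.1]
    exact (Quotient.sound (show rep c' ∈ MulAction.orbit _ (rep c) from ⟨g, hg⟩)).symm
  have hexG : ∀ p, ∃ c, ∃ g : SGA7.pt (K := k) kb ⟶ G, g • repG c = fG p := by
    intro p
    obtain ⟨f, hh, u, hfhu⟩ := hdec p.1.1
    obtain ⟨v, hv⟩ := hUn _ ((f ≫ iF) * (hh ≫ iH)) u
    obtain ⟨w, hw⟩ := (UnipCount19.twisted_unipotent kb iU hUn hUu dU hdU ((f ≫ iF) * (hh ≫ iH))).1 v
    obtain ⟨w', hw'⟩ := hlang H hh⁻¹
    rw [mul_inv_eq_iff_eq_mul] at hw'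
    have hw'' : Stk19b.Count.twConj k kb (w' ≫ iH) (f ≫ iF) = (f ≫ iF) * (hh ≫ iH) := by
      have hF' : Stk19b.Count.frM k k kb ≫ w' = hh * w' := by
        conv_rhs => rw [hw']
        rw [mul_inv_cancel_left]
      rw [Stk19b.Count.twConj, ← Category.assoc, hF', MonObj.mul_comp, hcomm f hh, _root_.mul_assoc _ (w' ≫ iH),
        ← hcomm f w']
      group
    have hwp : Stk19b.Count.twConj k kb ((w ≫ iU) * (w' ≫ iH)) (f ≫ iF) = p.1.1 := by
      rw [hmulG, hw'', hw, ← hv, hfhu]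
      group
    let p' : Stk19b.Count.Pairs k kb aX := ((w ≫ iU) * (w' ≫ iH))⁻¹ • p
    have hp1 : p'.1.1 = f ≫ iF := by
      show Stk19b.Count.twConj k kb ((w ≫ iU) * (w' ≫ iH))⁻¹ p.1.1 = _
      rw [← hwp, ← hmulG, inv_mul_cancel, Stk19b.Count.twConj, MonObj.comp_one, _root_.inv_one, _root_.one_mul,
        _root_.mul_one]
    obtain ⟨c, g, hg⟩ := hexE ⟨(f, p'.1.2 ≫ fst E V), by
      show Stk19b.Count.frM k k kb ≫ p'.1.2 ≫ fst E V = Stk19b.QuotTriv.smulPt aE f (p'.1.2 ≫ fst E V)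
      rw [← Category.assoc, p'.2, hp1, hfst, lift_fst]⟩
    refine ⟨c, (w ≫ iU) * (w' ≫ iH) * (g ≫ iF), ?_⟩
    show Stk19b.Count.twConj k kb _ ((rep c : SGA7.pt (K := k) kb ⟶ F) ≫ iF) = p.1.1
    rw [hmulG, ← htwi, show Stk19b.Count.twConj k kb g (rep c) = f from hg, hwp]
  have hinjG : ∀ c c' (g : SGA7.pt (K := k) kb ⟶ G), g • repG c = repG c' → c = c' := fun c c' g hg => by
    refine hinjE c c' (qF g) ?_
    have h2 := congrArg qF (show Stk19b.Count.twConj k kb g ((rep c : SGA7.pt (K := k) kb ⟶ F) ≫ iF) =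
      (rep c' : SGA7.pt (K := k) kb ⟶ F) ≫ iF from hg)
    rwa [htwF, (hqFF _).1, (hqFF _).1] at h2
  have key : ∀ c, Stk19b.Count.mass (MulAction.stabilizer (SGA7.pt (K := k) kb ⟶ G) (repG c))
        (Stk19b.Count.Fibre fG (repG c)) * (Nat.card (SGA7.Pts k H) : ℚ) * (Nat.card k : ℚ) ^ dU =
      Stk19b.Count.mass (MulAction.stabilizer (SGA7.pt (K := k) kb ⟶ F) (rep c))
        (Stk19b.Count.Fibre fE (rep c)) * (Nat.card k : ℚ) ^ n := by
    intro c
    let a : SGA7.pt (K := k) kb ⟶ F := rep c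
    obtain ⟨hfG1, hfG2⟩ := Stk19b.Count.finite_twisted (k' := k) (aX := aX) (a ≫ iF)
    obtain ⟨hfF1, hfF2⟩ := Stk19b.Count.finite_twisted (k' := k) (aX := aE) a
    obtain ⟨-, hUc⟩ := UnipCount19.twisted_unipotent kb iU hUn hUu dU hdU (a ≫ iF)
    let eSG : MulAction.stabilizer (SGA7.pt (K := k) kb ⟶ G) (repG c) ≃
        {g : SGA7.pt (K := k) kb ⟶ G // Stk19b.Count.twConj k kb g (a ≫ iF) = a ≫ iF} :=
      Equiv.subtypeEquivRight fun g => Iff.rfl
    let eSF : MulAction.stabilizer (SGA7.pt (K := k) kb ⟶ F) (rep c) ≃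
        {g : SGA7.pt (K := k) kb ⟶ F // Stk19b.Count.twConj k kb g a = a} :=
      Equiv.subtypeEquivRight fun g => Iff.rfl
    let eXG : Stk19b.Count.Fibre fG (repG c) ≃
        {y : SGA7.pt (K := k) kb ⟶ E ⊗ V // Stk19b.Count.frM k k kb ≫ y = Stk19b.QuotTriv.smulPt aX (a ≫ iF) y} :=
      { toFun := fun p => ⟨p.1.1.2, p.1.2.trans (congrArg (fun t => Stk19b.QuotTriv.smulPt aX t p.1.1.2) p.2)⟩
        invFun := fun y => ⟨⟨(repG c, y.1), y.2⟩, rfl⟩
        left_inv := fun p => Subtype.ext (Subtype.ext (Prod.ext p.2.symm rfl))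
        right_inv := fun y => rfl }
    let eXE : Stk19b.Count.Fibre fE (rep c) ≃
        {y : SGA7.pt (K := k) kb ⟶ E // Stk19b.Count.frM k k kb ≫ y = Stk19b.QuotTriv.smulPt aE a y} :=
      { toFun := fun p => ⟨p.1.1.2, p.1.2.trans (congrArg (fun t => Stk19b.QuotTriv.smulPt aE t p.1.1.2) p.2)⟩
        invFun := fun y => ⟨⟨(rep c, y.1), y.2⟩, rfl⟩
        left_inv := fun p => Subtype.ext (Subtype.ext (Prod.ext p.2.symm rfl))
        right_inv := fun y => rfl }
    haveI := Finite.of_equiv _ eSG.symm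
    haveI := Finite.of_equiv _ eSF.symm
    haveI := Finite.of_equiv _ eXG.symm
    haveI := Finite.of_equiv _ eXE.symm
    have eX : Nat.card {y : SGA7.pt (K := k) kb ⟶ E ⊗ V //
          Stk19b.Count.frM k k kb ≫ y = Stk19b.QuotTriv.smulPt aX (a ≫ iF) y} =
        Nat.card {y : SGA7.pt (K := k) kb ⟶ E // Stk19b.Count.frM k k kb ≫ y = Stk19b.QuotTriv.smulPt aE a y} *
          Nat.card k ^ n := by
      rw [← hVc a, ← Nat.card_prod]
      refine Nat.card_congr
        { toFun := fun y => (⟨y.1 ≫ fst E V, ?_⟩, ⟨y.1 ≫ snd E V, ?_⟩)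
          invFun := fun z => ⟨lift z.1.1 z.2.1, ?_⟩
          left_inv := fun y => Subtype.ext (CartesianMonoidalCategory.hom_ext _ _ (by simp) (by simp))
          right_inv := fun z => Prod.ext (Subtype.ext (lift_fst _ _)) (Subtype.ext (lift_snd _ _)) }
      · rw [← Category.assoc, y.2, hfst, lift_fst]
      · rw [← Category.assoc, y.2, hfst, lift_snd]
      · rw [hfst, comp_lift, z.1.2, z.2.2, lift_fst, lift_snd]
    let em : ({f : SGA7.pt (K := k) kb ⟶ F // Stk19b.Count.twConj k kb f a = a} ×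
        {w : SGA7.Pts kb H // π₀ • w = w}) ×
        {u : SGA7.pt (K := k) kb ⟶ U // Stk19b.Count.twConj k kb (u ≫ iU) (a ≫ iF) = a ≫ iF} →
        {g : SGA7.pt (K := k) kb ⟶ G // Stk19b.Count.twConj k kb g (a ≫ iF) = a ≫ iF} :=
      fun z => ⟨(z.1.1.1 ≫ iF) * (z.1.2.1 ≫ iH) * (z.2.1 ≫ iU), by
        have hF2 : Stk19b.Count.frM k k kb ≫ z.1.2.1 = z.1.2.1 := (hFr _).symm.trans z.1.2.2
        have h2 : Stk19b.Count.twConj k kb (z.1.2.1 ≫ iH) (a ≫ iF) = a ≫ iF := by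
          rw [Stk19b.Count.twConj, ← Category.assoc, hF2, ← hcomm a z.1.2.1, mul_inv_cancel_right]
        rw [hmulG, z.2.2, hmulG, h2, ← htwi, z.1.1.2]⟩
    have hem : Function.Bijective em := by
      refine ⟨fun y z hyz => ?_, fun g => ?_⟩
      · have h0 : (y.1.1.1 ≫ iF) * (y.1.2.1 ≫ iH) * (y.2.1 ≫ iU) =
            (z.1.1.1 ≫ iF) * (z.1.2.1 ≫ iH) * (z.2.1 ≫ iU) := congrArg Subtype.val hyz
        rw [← hφ, ← hφ, cancel_mono] at h0
        have h1 := congrArg (· ≫ fst (F ⊗ H) U) h0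
        simp only [lift_fst] at h1
        exact Prod.ext (Prod.ext (Subtype.ext (by simpa using congrArg (· ≫ fst F H) h1))
          (Subtype.ext (by simpa using congrArg (· ≫ snd F H) h1)))
          (Subtype.ext (by simpa using congrArg (· ≫ snd (F ⊗ H) U) h0))
      · obtain ⟨f, hh, u, hg⟩ := hdec g.1
        have e1 : qF g.1 = f := by rw [hg]; exact hqF f hh u
        have e2 : qH g.1 = hh := by rw [hg]; exact hqH f hh u
        have h1 : Stk19b.Count.twConj k kb f a = a := by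
          have h2 := congrArg qF g.2
          rwa [htwF, (hqFF a).1, e1] at h2
        have h2 : Stk19b.Count.frM k k kb ≫ hh = hh := by
          have h2 := congrArg qH g.2
          rw [htwH, (hqFF a).2, e2, Stk19b.Count.twConj, _root_.mul_one, mul_inv_eq_one] at h2
          exact h2
        have h3 : Stk19b.Count.twConj k kb (hh ≫ iH) (a ≫ iF) = a ≫ iF := by
          rw [Stk19b.Count.twConj, ← Category.assoc, h2, ← hcomm a hh, mul_inv_cancel_right]
        have h4 : Stk19b.Count.twConj k kb (u ≫ iU) (a ≫ iF) = a ≫ iF := by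
          have h5 := g.2
          rw [hg, hmulG] at h5
          have h6 : Stk19b.Count.twConj k kb ((f ≫ iF) * (hh ≫ iH)) (a ≫ iF) = a ≫ iF := by
            rw [hmulG, h3, ← htwi, h1]
          exact MulAction.injective (β := Stk19b.Count.TwG kb G) ((f ≫ iF) * (hh ≫ iH)) (h5.trans h6.symm)
        exact ⟨((⟨f, h1⟩, ⟨hh, (hFr hh).trans h2⟩), ⟨u, h4⟩), Subtype.ext hg.symm⟩
    have hSG : Nat.card {g : SGA7.pt (K := k) kb ⟶ G // Stk19b.Count.twConj k kb g (a ≫ iF) = a ≫ iF} =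
        Nat.card {f : SGA7.pt (K := k) kb ⟶ F // Stk19b.Count.twConj k kb f a = a} *
          Nat.card (SGA7.Pts k H) * Nat.card k ^ dU := by
      rw [← Nat.card_congr (Equiv.ofBijective em hem), Nat.card_prod, Nat.card_prod, hUc,
        Stk19b.Count.card_pts_eq_fixed π₀ hπ₀ H]
    have hpos : (Nat.card (MulAction.stabilizer (SGA7.pt (K := k) kb ⟶ G) (repG c)) : ℚ) ≠ 0 := by
      exact_mod_cast Nat.card_pos.ne'
    rw [Stk19b.Count.mass_eq_div, Stk19b.Count.mass_eq_div, Nat.card_congr eXG, Nat.card_congr eXE, eX,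
      Nat.card_congr eSF]
    rw [Nat.card_congr eSG, hSG] at hpos ⊢
    push_cast at hpos ⊢
    simp only [mul_ne_zero_iff] at hpos
    obtain ⟨⟨hp1, hp2⟩, hp3⟩ := hpos
    field_simp
  show StkCnt.count (Stk19b.Count.Fib k aX) h * _ * _ = _
  rw [hcG, Stk19b.Count.mass_eq_sum fG repG hexG hinjG, pow_add, ← _root_.mul_assoc, Finset.sum_mul, Finset.sum_mul,
    Finset.sum_congr rfl (fun c _ => key c), ← Finset.sum_mul, ← Stk19b.Count.mass_eq_sum fE rep hexE hinjE, hmassE]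
  have hq0 : (Nat.card k : ℚ) ≠ 0 := by exact_mod_cast Nat.card_pos.ne'
  field_simp

end Groth.Agent.S15694
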