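import Groth.Statements.S15695
import Mathlib
-- import your own Groth.Agent.* helpers here

set_option autoImplicit false
universe u
open CategoryTheory AlgebraicGeometry
open RatVar

namespace Groth.Agent.S15695

set_option linter.unusedVariables false

section Retract

variable {k : Type u} [Field k]

theorem range_subset_of_local {A : Type u} [CommRing A] [IsLocalRing A] {X : Scheme.{u}}
    (h : Spec (CommRingCat.of A) ⟶ X) (U : X.Opens)
    (hU : h (IsLocalRing.closedPoint A) ∈ U) : Set.range h ⊆ (U : Set X) := by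
  rintro _ ⟨z, rfl⟩
  have : (z : PrimeSpectrum A) ⤳ IsLocalRing.closedPoint A :=
    (PrimeSpectrum.le_iff_specializes _ _).1 (IsLocalRing.le_maximalIdeal (z : PrimeSpectrum A).isPrime.ne_top)
  exact (this.map h.continuous).mem_open U.2 hU

end Retract

/-- Let X be an integral scheme of finite type over a field k. The following are equivalent. (i) There
are a non-empty open subscheme U of X, an open subscheme Y of an affine space Spec k[x_1, ..., x_n]
and k-morphisms U → Y → U whose composite is the identity of U. (ii) There is a non-empty open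
subscheme V of X such that for every local k-algebra A with residue field κ, every k-morphism Spec κ
→ V lifts along Spec κ → Spec A to a k-morphism Spec A → V. (Local k-algebras are taken in the
universe of k.) -/
theorem result (k : Type u) [Field k] (X : Scheme.{u})
    (f : X ⟶ Spec (CommRingCat.of k)) [IsIntegral X] [LocallyOfFiniteType f] [QuasiCompact f] :
    (∃ (U : X.Opens) (n : ℕ) (Y : (Spec (CommRingCat.of (MvPolynomial (Fin n) k))).Opens)
        (a : (U : Scheme.{u}) ⟶ (Y : Scheme.{u})) (b : (Y : Scheme.{u}) ⟶ (U : Scheme.{u})),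
        (U : Set X).Nonempty ∧ a ≫ b = 𝟙 (U : Scheme.{u}) ∧
        a ≫ Y.ι ≫ Spec.map (CommRingCat.ofHom (algebraMap k (MvPolynomial (Fin n) k))) = U.ι ≫ f ∧
        b ≫ U.ι ≫ f = Y.ι ≫ Spec.map (CommRingCat.ofHom (algebraMap k (MvPolynomial (Fin n) k)))) ↔
    (∃ V : X.Opens, (V : Set X).Nonempty ∧
      ∀ (A : Type u) [CommRing A] [IsLocalRing A] [Algebra k A]
        (g : Spec (CommRingCat.of (IsLocalRing.ResidueField A)) ⟶ (V : Scheme.{u})),
        g ≫ V.ι ≫ f = Spec.map (CommRingCat.ofHom ((IsLocalRing.residue A).comp (algebraMap k A))) →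
        ∃ g' : Spec (CommRingCat.of A) ⟶ (V : Scheme.{u}),
          Spec.map (CommRingCat.ofHom (IsLocalRing.residue A)) ≫ g' = g ∧
          g' ≫ V.ι ≫ f = Spec.map (CommRingCat.ofHom (algebraMap k A))) := by
  constructor
  · rintro ⟨U, n, Y, a, b, hU, hab, ha, hb⟩
    refine ⟨U, hU, fun A _ _ _ g hg => ?_⟩
    let ρ := Spec.map (CommRingCat.ofHom (IsLocalRing.residue A))
    let q := Spec.preimage (g ≫ a ≫ Y.ι)
    have hq : CommRingCat.ofHom (algebraMap k (MvPolynomial (Fin n) k)) ≫ q =
        CommRingCat.ofHom ((IsLocalRing.residue A).comp (algebraMap k A)) := by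
      apply Spec.map_injective
      rw [Spec.map_comp, Spec.map_preimage, Category.assoc, Category.assoc, ha, hg]
    choose t ht using fun i : Fin n => IsLocalRing.residue_surjective (q.hom (MvPolynomial.X i))
    let ψ : MvPolynomial (Fin n) k →ₐ[k] A := MvPolynomial.aeval t
    have hψ : CommRingCat.ofHom ψ.toRingHom ≫ CommRingCat.ofHom (IsLocalRing.residue A) = q := by
      ext1
      refine MvPolynomial.ringHom_ext (fun c => ?_) fun i => by simp [ψ, ht]
      simp only [CommRingCat.hom_comp, CommRingCat.hom_ofHom, RingHom.comp_apply]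
      show IsLocalRing.residue A (ψ (MvPolynomial.C c)) = _
      rw [MvPolynomial.aeval_C]
      exact (RingHom.congr_fun (congrArg CommRingCat.Hom.hom hq) c).symm
    let g'' := Spec.map (CommRingCat.ofHom ψ.toRingHom)
    have hfac : ρ ≫ g'' = g ≫ a ≫ Y.ι := by
      rw [← Spec.map_comp, hψ, Spec.map_preimage]
    have hsub : Set.range g'' ⊆ Set.range Y.ι := by
      rw [Scheme.Opens.range_ι]
      refine range_subset_of_local g'' Y ?_
      have : ρ (IsLocalRing.closedPoint (IsLocalRing.ResidueField A)) = IsLocalRing.closedPoint A :=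
        IsLocalRing.comap_closedPoint (IsLocalRing.residue A)
      rw [← this]
      show (ρ ≫ g'') _ ∈ Y
      rw [hfac]
      exact ((g ≫ a) _).2
    have hl := IsOpenImmersion.lift_fac Y.ι g'' hsub
    refine ⟨IsOpenImmersion.lift Y.ι g'' hsub ≫ b, ?_, ?_⟩
    · have : ρ ≫ IsOpenImmersion.lift Y.ι g'' hsub = g ≫ a := by
        rw [← cancel_mono Y.ι, Category.assoc, hl, hfac, Category.assoc]
      rw [← Category.assoc, this, Category.assoc, hab, Category.comp_id]
    · rw [Category.assoc, hb, reassoc_of% hl, ← Spec.map_comp]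
      congr 1
      ext c
      exact ψ.commutes c
  · rintro ⟨V, hV, hlift⟩
    obtain ⟨v, hv⟩ := hV
    obtain ⟨U₀, hU₀, hvU, hU₀V⟩ := exists_isAffineOpen_mem_and_subset (X := X) (U := V) hv
    let R := Γ(X, U₀)
    haveI : Nonempty U₀ := ⟨⟨v, hvU⟩⟩
    haveI : IsDomain R := inferInstanceAs (IsDomain Γ(X, U₀))
    obtain ⟨θ, hθ⟩ : ∃ θ : CommRingCat.of k ⟶ R, Spec.map θ = hU₀.fromSpec ≫ f :=
      ⟨Spec.preimage (hU₀.fromSpec ≫ f), Spec.map_preimage _⟩
    letI : Algebra k R := θ.hom.toAlgebra
    have hθft : θ.hom.FiniteType := by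
      rw [← HasRingHomProperty.Spec_iff (P := @LocallyOfFiniteType), hθ]
      infer_instance
    haveI : Algebra.FiniteType k R := hθft
    obtain ⟨n, π, hπ⟩ := Algebra.FiniteType.iff_quotient_mvPolynomial''.1 ‹Algebra.FiniteType k R›
    let P := RingHom.ker π.toRingHom
    haveI : P.IsPrime := RingHom.ker_isPrime _
    let A := Localization.AtPrime P
    let K := FractionRing R
    have hPK : ∀ x : P.primeCompl, IsUnit ((algebraMap R K).comp π.toRingHom x) := fun x =>
      Ne.isUnit fun e => x.2 (IsFractionRing.injective R K (e.trans (map_zero (algebraMap R K)).symm))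
    let πA : A →+* K := IsLocalization.lift hPK
    have hπA : ∀ x, πA (algebraMap (MvPolynomial (Fin n) k) A x) = algebraMap R K (π x) :=
      fun x => IsLocalization.lift_eq _ _
    have hker : RingHom.ker πA = IsLocalRing.maximalIdeal A := by
      refine le_antisymm (IsLocalRing.le_maximalIdeal (RingHom.ker_ne_top _)) fun z hz => ?_
      obtain ⟨⟨x, s⟩, hxs⟩ := IsLocalization.surj P.primeCompl z
      have hx : x ∈ P := by
        by_contra hx
        exact hz (isUnit_of_mul_isUnit_left (hxs ▸ IsLocalization.map_units A (⟨x, hx⟩ : P.primeCompl)))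
      have h1 := congrArg πA hxs
      rw [map_mul, hπA, hπA, show π x = 0 from hx, map_zero] at h1
      exact (mul_eq_zero.1 h1).resolve_right fun e => s.2 (IsFractionRing.injective R K (e.trans (map_zero (algebraMap R K)).symm))
    let κ : IsLocalRing.ResidueField A →+* K := Ideal.Quotient.lift _ πA fun z hz => by rwa [← hker] at hz
    have hκ : Function.Bijective κ := by
      refine ⟨κ.injective, fun y => ?_⟩
      obtain ⟨a, ⟨s, hs⟩, rfl⟩ := IsLocalization.exists_mk'_eq (nonZeroDivisors R) y
      obtain ⟨a', rfl⟩ := hπ a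
      obtain ⟨s', rfl⟩ := hπ s
      have hs' : s' ∈ P.primeCompl := fun h => nonZeroDivisors.ne_zero hs h
      refine ⟨IsLocalRing.residue A (IsLocalization.mk' A a' (⟨s', hs'⟩ : P.primeCompl)), ?_⟩
      show πA _ = _
      rw [IsLocalization.lift_mk'_spec, ← mul_comm]
      exact (IsLocalization.mk'_spec K (π a') ⟨π s', hs⟩).symm
    let κe : IsLocalRing.ResidueField A ≃+* K := RingEquiv.ofBijective κ hκ
    let ι₀ : R →+* IsLocalRing.ResidueField A := κe.symm.toRingHom.comp (algebraMap R K)
    have hι₀ : ι₀.comp θ.hom = (IsLocalRing.residue A).comp (algebraMap k A) := by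
      refine RingHom.ext fun c => κe.injective ?_
      simp only [ι₀, RingHom.comp_apply, RingEquiv.toRingHom_eq_coe, RingEquiv.coe_toRingHom, RingEquiv.apply_symm_apply]
      show _ = πA (algebraMap k A c)
      rw [IsScalarTower.algebraMap_apply k (MvPolynomial (Fin n) k) A, hπA, AlgHom.commutes]
      rfl
    have hsubg : Set.range (Spec.map (CommRingCat.ofHom ι₀) ≫ hU₀.fromSpec) ⊆ Set.range V.ι := by
      rw [Scheme.Opens.range_ι]
      rintro _ ⟨z, rfl⟩
      exact hU₀V (hU₀.range_fromSpec.subset ⟨_, rfl⟩)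
    let g := IsOpenImmersion.lift V.ι (Spec.map (CommRingCat.ofHom ι₀) ≫ hU₀.fromSpec) hsubg
    obtain ⟨g', hg'1, hg'2⟩ := hlift A g (by
      rw [← Category.assoc, IsOpenImmersion.lift_fac, Category.assoc, ← hθ, ← Spec.map_comp]
      congr 1
      ext1
      exact hι₀)
    have hfac : Spec.map (CommRingCat.ofHom (IsLocalRing.residue A)) ≫ g' ≫ V.ι =
        Spec.map (CommRingCat.ofHom ι₀) ≫ hU₀.fromSpec := by
      rw [reassoc_of% hg'1, IsOpenImmersion.lift_fac]
    have hsubA : Set.range (g' ≫ V.ι) ⊆ Set.range hU₀.fromSpec := by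
      rw [hU₀.range_fromSpec]
      refine range_subset_of_local (g' ≫ V.ι) U₀ ?_
      have : Spec.map (CommRingCat.ofHom (IsLocalRing.residue A)) (IsLocalRing.closedPoint (IsLocalRing.ResidueField A)) = IsLocalRing.closedPoint A :=
        IsLocalRing.comap_closedPoint (IsLocalRing.residue A)
      rw [← this]
      show (Spec.map (CommRingCat.ofHom (IsLocalRing.residue A)) ≫ g' ≫ V.ι) _ ∈ U₀
      rw [hfac]
      exact hU₀.range_fromSpec.subset ⟨_, rfl⟩
    let γ := Spec.preimage (IsOpenImmersion.lift hU₀.fromSpec (g' ≫ V.ι) hsubA)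
    have hγθ : θ ≫ γ = CommRingCat.ofHom (algebraMap k A) := by
      apply Spec.map_injective
      rw [Spec.map_comp, Spec.map_preimage, hθ, IsOpenImmersion.lift_fac_assoc, Category.assoc]
      exact hg'2
    have hγι : γ ≫ CommRingCat.ofHom (IsLocalRing.residue A) = CommRingCat.ofHom ι₀ := by
      apply Spec.map_injective
      rw [Spec.map_comp, Spec.map_preimage, ← cancel_mono hU₀.fromSpec, Category.assoc, IsOpenImmersion.lift_fac]
      exact hfac
    -- spread out
    let T : Fin n → A := fun i => γ.hom (π (MvPolynomial.X i))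
    have hsurj : ∀ i, ∃ (x : MvPolynomial (Fin n) k) (d : P.primeCompl),
        T i * algebraMap _ A (d : MvPolynomial (Fin n) k) = algebraMap _ A x := fun i => by
      obtain ⟨⟨x, d⟩, e⟩ := IsLocalization.surj P.primeCompl (T i)
      exact ⟨x, d, e⟩
    choose num den hnd using hsurj
    let h : MvPolynomial (Fin n) k := ∏ i, (den i : MvPolynomial (Fin n) k)
    have hh : h ∈ P.primeCompl := Submonoid.prod_mem _ fun i _ => (den i).2
    have hhne : h ≠ 0 := fun e => hh (e ▸ P.zero_mem)
    let B := Localization.Away h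
    have hple : Submonoid.powers h ≤ P.primeCompl := Submonoid.powers_le.2 hh
    let jBA : B →+* A := IsLocalization.Away.lift h (g := algebraMap (MvPolynomial (Fin n) k) A)
      (IsLocalization.map_units A (⟨h, hh⟩ : P.primeCompl))
    have hPle : P.primeCompl ≤ nonZeroDivisors (MvPolynomial (Fin n) k) := P.primeCompl_le_nonZeroDivisors
    have hjinj : Function.Injective jBA := by
      refine (IsLocalization.lift_injective_iff _).2 fun x y => ?_
      rw [(IsLocalization.injective B (powers_le_nonZeroDivisors_of_noZeroDivisors hhne)).eq_iff,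
        (IsLocalization.injective A hPle).eq_iff]
    have hmem : ∀ i, ∃ w, jBA w = T i := by
      intro i
      obtain ⟨c, hc⟩ := Finset.dvd_prod_of_mem (fun i => (den i : MvPolynomial (Fin n) k)) (Finset.mem_univ i)
      refine ⟨IsLocalization.Away.invSelf h * algebraMap _ B (num i * c), ?_⟩
      have e1 : jBA (IsLocalization.Away.invSelf h) * algebraMap (MvPolynomial (Fin n) k) A h = 1 := by
        rw [← IsLocalization.Away.lift_eq (S := B) h (g := algebraMap (MvPolynomial (Fin n) k) A)
          (IsLocalization.map_units A (⟨h, hh⟩ : P.primeCompl)) h, ← map_mul, mul_comm,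
          IsLocalization.Away.mul_invSelf, map_one]
      have e2 : algebraMap (MvPolynomial (Fin n) k) A h = algebraMap _ A (den i : MvPolynomial (Fin n) k) * algebraMap _ A c := by
        rw [← map_mul]; exact congrArg _ hc
      rw [map_mul, IsLocalization.Away.lift_eq, map_mul, ← hnd i]
      calc jBA (IsLocalization.Away.invSelf h) *
            (T i * algebraMap _ A (den i : MvPolynomial (Fin n) k) * algebraMap _ A c)
          = T i * (jBA (IsLocalization.Away.invSelf h) * algebraMap _ A h) := by rw [e2]; ring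
        _ = T i := by rw [e1, mul_one]
    have hγk : ∀ c, γ.hom (algebraMap k R c) = algebraMap k A c := fun c =>
      RingHom.congr_fun (congrArg CommRingCat.Hom.hom hγθ) c
    have hall : ∀ p, ∃ w, jBA w = γ.hom (π p) := by
      intro p
      induction p using MvPolynomial.induction_on with
      | C c =>
        refine ⟨algebraMap k B c, ?_⟩
        rw [show π (MvPolynomial.C c) = algebraMap k R c from π.commutes c, hγk,
          IsScalarTower.algebraMap_apply k (MvPolynomial (Fin n) k) B, IsLocalization.Away.lift_eq,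
          ← IsScalarTower.algebraMap_apply]
      | add p q hp hq =>
        obtain ⟨w1, e1⟩ := hp
        obtain ⟨w2, e2⟩ := hq
        exact ⟨w1 + w2, by rw [map_add, e1, e2, map_add, map_add]⟩
      | mul_X p i hp =>
        obtain ⟨w1, e1⟩ := hp
        obtain ⟨w2, e2⟩ := hmem i
        exact ⟨w1 * w2, by rw [map_mul, e1, e2, map_mul, map_mul]⟩
    choose β₀ hβ₀ using fun r : R => (hπ r).elim fun p hp => hp ▸ hall p
    let β : R →+* B :=
      { toFun := β₀
        map_one' := hjinj (by rw [hβ₀, map_one, map_one])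
        map_mul' := fun x y => hjinj (by rw [hβ₀, map_mul, map_mul, hβ₀, hβ₀])
        map_zero' := hjinj (by rw [hβ₀, map_zero, map_zero])
        map_add' := fun x y => hjinj (by rw [hβ₀, map_add, map_add, hβ₀, hβ₀]) }
    have hhR : π h ≠ 0 := hh
    let Rh := Localization.Away (π h)
    let α : B →+* Rh := IsLocalization.Away.lift h (g := (algebraMap R Rh).comp π.toRingHom)
      (IsLocalization.Away.algebraMap_isUnit (π h))
    have hαβ : ∀ r, α (β r) = algebraMap R Rh r := by
      have hu : IsUnit (algebraMap R K (π h)) := Ne.isUnit fun e =>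
        hhR (IsFractionRing.injective R K (e.trans (map_zero (algebraMap R K)).symm))
      let e : Rh →+* K := IsLocalization.Away.lift (π h) hu
      have he : Function.Injective e := by
        refine (IsLocalization.lift_injective_iff _).2 fun x y => ?_
        rw [(IsLocalization.injective Rh (powers_le_nonZeroDivisors_of_noZeroDivisors hhR)).eq_iff,
          (IsFractionRing.injective R K).eq_iff]
      have h1 : e.comp α = πA.comp jBA := by
        refine IsLocalization.ringHom_ext (Submonoid.powers h) (RingHom.ext fun x => ?_)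
        simp only [RingHom.comp_apply, α, e, jBA, IsLocalization.Away.lift_eq, hπA]
        rfl
      intro r
      refine he ?_
      rw [← RingHom.comp_apply, h1, RingHom.comp_apply, show jBA (β r) = γ.hom r from hβ₀ r,
        IsLocalization.Away.lift_eq]
      have h2 := congrArg κ (RingHom.congr_fun (congrArg CommRingCat.Hom.hom hγι) r)
      exact h2.trans (κe.apply_symm_apply _)
    let jh := Spec.map (CommRingCat.ofHom (algebraMap (MvPolynomial (Fin n) k) B))
    haveI : IsOpenImmersion jh := IsOpenImmersion.of_isLocalization h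
    let jR₀ := Spec.map (CommRingCat.ofHom (algebraMap R Rh))
    haveI : IsOpenImmersion jR₀ := IsOpenImmersion.of_isLocalization (π h)
    let jR := jR₀ ≫ hU₀.fromSpec
    let b₁ := Spec.map (CommRingCat.ofHom β) ≫ hU₀.fromSpec
    let a₁ := Spec.map (CommRingCat.ofHom α)
    have hab : a₁ ≫ b₁ = jR := by
      simp only [a₁, b₁, jR, jR₀, ← Category.assoc, ← Spec.map_comp]
      congr 2
      ext1
      exact RingHom.ext hαβ
    let U : X.Opens := jR.opensRange
    let Q := b₁ ⁻¹ᵁ U
    have hsub : Set.range (jR.isoOpensRange.inv ≫ a₁ ≫ jh) ⊆ Set.range (jh ''ᵁ Q).ι := by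
      rw [Scheme.Opens.range_ι]
      rintro _ ⟨z, rfl⟩
      refine ⟨(jR.isoOpensRange.inv ≫ a₁) z, ?_, rfl⟩
      show (jR.isoOpensRange.inv ≫ a₁ ≫ b₁) z ∈ U
      rw [hab, Scheme.Hom.isoOpensRange_inv_comp]
      exact z.2
    let b₀ : ((jh ''ᵁ Q : (Spec (CommRingCat.of (MvPolynomial (Fin n) k))).Opens) : Scheme.{u}) ⟶ X :=
      (jh.isoImage Q).inv ≫ Q.ι ≫ b₁
    have hsub' : Set.range b₀ ⊆ Set.range U.ι := by
      rw [Scheme.Opens.range_ι]
      rintro _ ⟨z, rfl⟩
      exact ((jh.isoImage Q).inv z).2
    haveI : IsDomain Rh := IsLocalization.isDomain_localization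
      (powers_le_nonZeroDivisors_of_noZeroDivisors hhR : Submonoid.powers (π h) ≤ _)
    refine ⟨U, n, jh ''ᵁ Q, IsOpenImmersion.lift _ (jR.isoOpensRange.inv ≫ a₁ ≫ jh) hsub,
      IsOpenImmersion.lift U.ι b₀ hsub', ?_, ?_, ?_, ?_⟩
    · exact ⟨_, (⟨⊥, Ideal.isPrime_bot⟩ : PrimeSpectrum Rh), rfl⟩
    · rw [← cancel_mono U.ι, Category.assoc, IsOpenImmersion.lift_fac, Category.id_comp]
      have h1 : IsOpenImmersion.lift (jh ''ᵁ Q).ι (jR.isoOpensRange.inv ≫ a₁ ≫ jh) hsub ≫
          (jh.isoImage Q).inv ≫ Q.ι = jR.isoOpensRange.inv ≫ a₁ := by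
        rw [← cancel_mono jh]
        simp only [Category.assoc, Scheme.Hom.isoImage_inv_ι, IsOpenImmersion.lift_fac]
      show IsOpenImmersion.lift (jh ''ᵁ Q).ι (jR.isoOpensRange.inv ≫ a₁ ≫ jh) hsub ≫
        (jh.isoImage Q).inv ≫ Q.ι ≫ b₁ = U.ι
      calc _ = (IsOpenImmersion.lift (jh ''ᵁ Q).ι (jR.isoOpensRange.inv ≫ a₁ ≫ jh) hsub ≫
            (jh.isoImage Q).inv ≫ Q.ι) ≫ b₁ := by simp only [Category.assoc]
        _ = _ := by rw [h1, Category.assoc, hab, Scheme.Hom.isoOpensRange_inv_comp]
    · rw [IsOpenImmersion.lift_fac_assoc, ← Scheme.Hom.isoOpensRange_inv_comp jR]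
      simp only [Category.assoc, a₁, jh, jR, jR₀, ← hθ, ← Spec.map_comp]
      congr 2
      ext c
      change α (algebraMap _ B (algebraMap k _ c)) = algebraMap R Rh (algebraMap k R c)
      rw [IsLocalization.Away.lift_eq]
      exact congrArg (algebraMap R Rh) (π.commutes c)
    · rw [IsOpenImmersion.lift_fac_assoc]
      have h1 : (jh ''ᵁ Q).ι = (jh.isoImage Q).inv ≫ Q.ι ≫ jh :=
        (Scheme.Hom.isoImage_inv_ι jh Q).symm
      rw [h1]
      simp only [b₀, b₁, jh, Category.assoc, ← hθ, ← Spec.map_comp]
      congr 3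
      ext c
      change β (algebraMap k R c) = algebraMap (MvPolynomial (Fin n) k) B (algebraMap k (MvPolynomial (Fin n) k) c)
      refine hjinj ?_
      rw [show jBA (β (algebraMap k R c)) = γ.hom (algebraMap k R c) from hβ₀ _, hγk,
        IsLocalization.Away.lift_eq, ← IsScalarTower.algebraMap_apply]

end Groth.Agent.S15695
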