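import Groth.Statements.S15697
import Groth.Agent.NoName5.Basic

set_option autoImplicit false
universe u
open InvFld

namespace Groth.Agent.S15697

/-- Let k be a characteristic-zero field and suppose a finite group acts k-linearly on
finite-dimensional k-vector spaces V and W, faithfully on V. Then k(V ⊕ W)^G is purely
transcendental over k(V)^G, of transcendence degree dim W. Stated with V = k^n, W = k^m inside L =
k(x_1, ..., x_n, y_1, ..., y_m): G is a finite group of k-algebra automorphisms of L sending each
x_i into the k-span of the x's and each y_j into the k-span of the y's, such that an element of G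
fixing every x_i is trivial; F is the intersection of k(x_1, ..., x_n) with the fixed field of G;
then there are y'_1, ..., y'_m in L, algebraically independent over F, with F(y'_1, ..., y'_m) equal
to the fixed field of G. -/
theorem result (k : Type u) [Field k] [CharZero k] (n m : ℕ)
    (G : Subgroup (InvFld.Fld (Fin n ⊕ Fin m) k ≃ₐ[k] InvFld.Fld (Fin n ⊕ Fin m) k)) [Finite G]
    (hx : ∀ σ ∈ G, ∀ i : Fin n, σ (InvFld.X (Sum.inl i)) ∈ Submodule.span k (Set.range fun j : Fin n => (InvFld.X (Sum.inl j) : InvFld.Fld (Fin n ⊕ Fin m) k)))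
    (hy : ∀ σ ∈ G, ∀ i : Fin m, σ (InvFld.X (Sum.inr i)) ∈ Submodule.span k (Set.range fun j : Fin m => (InvFld.X (Sum.inr j) : InvFld.Fld (Fin n ⊕ Fin m) k)))
    (hfaith : ∀ σ ∈ G, (∀ i : Fin n, σ (InvFld.X (Sum.inl i)) = InvFld.X (Sum.inl i)) → σ = 1) :
    ∃ t : Fin m → InvFld.Fld (Fin n ⊕ Fin m) k,
      AlgebraicIndependent (↥(IntermediateField.adjoin k (Set.range fun j : Fin n => (InvFld.X (Sum.inl j) : InvFld.Fld (Fin n ⊕ Fin m) k)) ⊓ IntermediateField.fixedField G)) t ∧
      IntermediateField.restrictScalars k (IntermediateField.adjoin (↥(IntermediateField.adjoin k (Set.range fun j : Fin n => (InvFld.X (Sum.inl j) : InvFld.Fld (Fin n ⊕ Fin m) k)) ⊓ IntermediateField.fixedField G)) (Set.range t)) =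
        IntermediateField.fixedField G := by
  let L := InvFld.Fld (Fin n ⊕ Fin m) k
  let x : Fin n → L := fun j => InvFld.X (Sum.inl j)
  let y : Fin m → L := fun j => InvFld.X (Sum.inr j)
  let K := IntermediateField.adjoin k (Set.range x)
  have hall : AlgebraicIndependent k (fun i => (InvFld.X i : L)) :=
    (MvPolynomial.algebraicIndependent_X _ k).map' (f := IsScalarTower.toAlgHom k _ L) (IsFractionRing.injective _ _)
  have hy' : AlgebraicIndependent K y := by
    refine Groth.Agent.NoName5.algebraicIndependent_inr ?_
    have := hall.comp Sum.swap Sum.swap_leftInverse.injective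
    convert! this using 1
    funext i
    rcases i with i | i <;> rfl
  have hspan : ∀ (z : L), z ∈ Submodule.span k (Set.range x) → z ∈ K := fun z hz =>
    (Submodule.span_le.2 (IntermediateField.subset_adjoin k (Set.range x)) :
      Submodule.span k (Set.range x) ≤ K.toSubalgebra.toSubmodule) hz
  have hK : ∀ σ ∈ G, ∀ z ∈ K, σ z ∈ K := by
    intro σ hσ z hz
    induction hz using IntermediateField.adjoin_induction with
    | mem z hz => obtain ⟨i, rfl⟩ := hz; exact hspan _ (hx σ hσ i)
    | algebraMap z => rw [σ.commutes]; exact IntermediateField.algebraMap_mem _ z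
    | add a b _ _ ha hb => rw [map_add]; exact add_mem ha hb
    | inv a _ ha => rw [map_inv₀]; exact inv_mem ha
    | mul a b _ _ ha hb => rw [map_mul]; exact mul_mem ha hb
  have htop : IntermediateField.adjoin K (Set.range y) = ⊤ := by
    rw [← IntermediateField.restrictScalars_eq_top_iff (K := k), IntermediateField.adjoin_adjoin_left, eq_top_iff,
      ← Groth.Agent.NoName5.adjoin_range_eq_top (k := k) (σ := Fin n ⊕ Fin m) L]
    refine IntermediateField.adjoin.mono k _ _ ?_
    rintro _ ⟨i | i, rfl⟩
    · exact Or.inl ⟨i, rfl⟩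
    · exact Or.inr ⟨i, rfl⟩
  exact Groth.Agent.NoName5.exists_invariant_coords G K hK
    (fun σ hσ h => hfaith σ hσ fun i => h _ (IntermediateField.subset_adjoin k _ (Set.mem_range_self i)))
    y hy' htop fun σ hσ i => Submodule.span_le_restrictScalars k K _ (hy σ hσ i)

end Groth.Agent.S15697
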