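import Groth.Statements.S15698
import Groth.Agent.NoName5.Stable

set_option autoImplicit false
universe u
open InvFld

namespace Groth.Agent.S15698

/-- Let k be a characteristic-zero field; for each faithful finite-dimensional linear representation V
of the symmetric group S_n over k, the field of invariants k(V)^{S_n} is stably pure over k. Stated
with V = k^m: G is a finite group of k-algebra automorphisms of k(x_1, ..., x_m), each sending every
variable to a k-linear combination of the variables, isomorphic as an abstract group to the
symmetric group on n letters; then for some r the rational function field in r variables over the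
fixed field of G is generated over k by finitely many algebraically independent elements. -/
theorem result (k : Type u) [Field k] [CharZero k] (n m : ℕ)
    (G : Subgroup (InvFld.Fld (Fin m) k ≃ₐ[k] InvFld.Fld (Fin m) k)) [Finite G] (e : G ≃* Equiv.Perm (Fin n))
    (hG : ∀ σ ∈ G, ∀ i : Fin m, σ (InvFld.X i) ∈ Submodule.span k (Set.range fun j : Fin m => (InvFld.X j : InvFld.Fld (Fin m) k))) :
    ∃ (r N : ℕ) (t : Fin N → InvFld.Fld (Fin r) (IntermediateField.fixedField G)),
      AlgebraicIndependent k t ∧ IntermediateField.adjoin k (Set.range t) = ⊤ := by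
  let P := Groth.Agent.NoName5.permAct (k := k) n
  have hH : ∀ g ∈ P.range, ∀ i : Fin n, g (InvFld.X i) ∈
      Submodule.span k (Set.range fun j : Fin n => (InvFld.X j : InvFld.Fld (Fin n) k)) := by
    rintro _ ⟨π, rfl⟩ i
    rw [InvFld.X, Groth.Agent.NoName5.permAct_algebraMap, MvPolynomial.rename_X]
    exact Submodule.subset_span ⟨π i, rfl⟩
  obtain ⟨E⟩ := Groth.Agent.NoName5.stably_equivalent G P.range
    (e.trans (MonoidHom.ofInjective (Groth.Agent.NoName5.permAct_injective n))) hG hH
  obtain ⟨E'⟩ := Groth.Agent.NoName5.nonempty_fixed_perm (k := k) n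
  obtain ⟨E''⟩ := Groth.Agent.NoName5.nonempty_fld_congr (Fin m) E'.symm
  obtain ⟨E3⟩ := Groth.Agent.NoName5.nonempty_fld_fld (k := k) (Fin m) (Fin n)
  let F : InvFld.Fld (Fin (m + n)) k ≃ₐ[k] InvFld.Fld (Fin n) (IntermediateField.fixedField G) :=
    ((E.trans (E''.trans E3)).trans
      (IsFractionRing.algEquivOfAlgEquiv (MvPolynomial.renameEquiv k (finSumFinEquiv (m := m) (n := n))))).symm
  refine ⟨n, m + n, fun i => F (InvFld.X i), ?_, ?_⟩
  · exact ((MvPolynomial.algebraicIndependent_X _ k).map' (f := IsScalarTower.toAlgHom k _ (InvFld.Fld (Fin (m + n)) k))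
      (IsFractionRing.injective _ _)).map' (f := F.toAlgHom) F.injective
  · have h : (IntermediateField.adjoin k (Set.range fun i : Fin (m + n) => (InvFld.X i : InvFld.Fld (Fin (m + n)) k))).map
        F.toAlgHom = ⊤ := by
      rw [Groth.Agent.NoName5.adjoin_range_eq_top, ← AlgHom.fieldRange_eq_map]
      exact AlgHom.fieldRange_eq_top.2 F.surjective
    rw [IntermediateField.adjoin_map, ← Set.range_comp] at h
    exact h

end Groth.Agent.S15698
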