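import Groth.Statements.S15699
import Mathlib
import Groth.Agent.DimLib.Algebra
-- import your own Groth.Agent.* helpers here

set_option autoImplicit false
universe u
open CategoryTheory CategoryTheory.Limits AlgebraicGeometry
open RatVar

namespace Groth.Agent.S15699

set_option linter.unusedVariables false

section Rat

variable {k : Type u} [Field k]

theorem finite_of_open {n : Type u} (W : (Spec (CommRingCat.of (MvPolynomial n k))).Opens)
    (hW : (W : Set ↑(Spec (CommRingCat.of (MvPolynomial n k)))).Nonempty)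
    [LocallyOfFiniteType (W.ι ≫ Spec.map (CommRingCat.ofHom (algebraMap k (MvPolynomial n k))))] :
    Finite n := by
  obtain ⟨w, hw⟩ := hW
  obtain ⟨_, ⟨g, rfl⟩, hgmem, hgsub⟩ :=
    (PrimeSpectrum.isTopologicalBasis_basic_opens).exists_subset_of_mem_open hw W.2
  have hg : g ≠ 0 := fun e => (PrimeSpectrum.mem_basicOpen _ _).1 hgmem (e ▸ Ideal.zero_mem _)
  let B := Localization.Away g
  haveI : IsDomain B := IsLocalization.isDomain_localization
    (powers_le_nonZeroDivisors_of_noZeroDivisors hg : Submonoid.powers g ≤ _)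
  let jB := Spec.map (CommRingCat.ofHom (algebraMap (MvPolynomial n k) B))
  haveI : IsOpenImmersion jB := IsOpenImmersion.of_isLocalization g
  have hrange : Set.range jB = (PrimeSpectrum.basicOpen g : Set (PrimeSpectrum (MvPolynomial n k))) :=
    PrimeSpectrum.localization_away_comap_range B g
  have hsub : Set.range jB ⊆ Set.range W.ι := by
    rw [hrange, Scheme.Opens.range_ι]; exact hgsub
  have hb := IsOpenImmersion.lift_fac W.ι jB hsub
  have hft : LocallyOfFiniteType (jB ≫ Spec.map (CommRingCat.ofHom (algebraMap k (MvPolynomial n k)))) := by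
    rw [← hb, Category.assoc]
    haveI : IsOpenImmersion (IsOpenImmersion.lift W.ι jB hsub) := by
      have : IsOpenImmersion (IsOpenImmersion.lift W.ι jB hsub ≫ W.ι) := by rw [hb]; infer_instance
      exact IsOpenImmersion.of_comp _ W.ι
    infer_instance
  rw [← Spec.map_comp, HasRingHomProperty.Spec_iff (P := @LocallyOfFiniteType)] at hft
  haveI : Algebra.FiniteType k B := by
    rw [← RingHom.finiteType_algebraMap,
      IsScalarTower.algebraMap_eq k (MvPolynomial n k) B]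
    exact hft
  obtain ⟨s, -, -, -, -, hs⟩ := Groth.Agent.DimLib.exists_normalization (k := k) (A := B)
  have h1 := trdeg_le_of_injective (IsScalarTower.toAlgHom k (MvPolynomial n k) B)
    (IsLocalization.injective _ (powers_le_nonZeroDivisors_of_noZeroDivisors hg))
  rw [MvPolynomial.trdeg_of_isDomain, hs, Cardinal.lift_id] at h1
  exact Cardinal.lt_aleph0_iff_finite.1 (h1.trans_lt Cardinal.natCast_lt_aleph0)

theorem exists_ratPoint [Infinite k] {N : ℕ} (W : (Spec (CommRingCat.of (MvPolynomial (Fin N) k))).Opens)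
    (hW : (W : Set ↑(Spec (CommRingCat.of (MvPolynomial (Fin N) k)))).Nonempty) :
    ∃ p : Spec (CommRingCat.of k) ⟶ (W : Scheme.{u}),
      p ≫ W.ι ≫ Spec.map (CommRingCat.ofHom (algebraMap k (MvPolynomial (Fin N) k))) = 𝟙 _ := by
  obtain ⟨w, hw⟩ := hW
  obtain ⟨_, ⟨g, rfl⟩, hgmem, hgsub⟩ :=
    (PrimeSpectrum.isTopologicalBasis_basic_opens).exists_subset_of_mem_open hw W.2
  have hg : g ≠ 0 := fun e => (PrimeSpectrum.mem_basicOpen _ _).1 hgmem (e ▸ Ideal.zero_mem _)
  obtain ⟨a, ha⟩ : ∃ a : Fin N → k, MvPolynomial.eval a g ≠ 0 := by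
    by_contra h
    push_neg at h
    exact hg (MvPolynomial.funext (fun x => by rw [h x, map_zero]))
  let q := Spec.map (CommRingCat.ofHom (MvPolynomial.eval a))
  have hsub : Set.range q ⊆ Set.range W.ι := by
    rw [Scheme.Opens.range_ι]
    rintro _ ⟨z, rfl⟩
    refine hgsub ((PrimeSpectrum.mem_basicOpen _ _).2 fun h => ?_)
    have h' : MvPolynomial.eval a g ∈ (z : PrimeSpectrum k).asIdeal := h
    exact (z : PrimeSpectrum k).isPrime.ne_top (Ideal.eq_top_of_isUnit_mem _ h' (Ne.isUnit ha))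
  refine ⟨IsOpenImmersion.lift W.ι q hsub, ?_⟩
  rw [← Category.assoc, IsOpenImmersion.lift_fac, ← Spec.map_comp, ← Spec.map_id]
  congr 1
  ext c
  simp

theorem exists_chart [Infinite k] {P : Scheme.{u}} (sP : P ⟶ Spec (CommRingCat.of k))
    [LocallyOfFiniteType sP] [Scheme.IsRationalOver sP] [Nonempty P] :
    ∃ (N : ℕ) (W : P.Opens) (T : (Spec (CommRingCat.of (MvPolynomial (Fin N) k))).Opens)
      (ψ : (W : Scheme.{u}) ≅ (T : Scheme.{u})),
      (T : Set ↑(Spec (CommRingCat.of (MvPolynomial (Fin N) k)))).Nonempty ∧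
      ψ.hom ≫ T.ι ≫ Spec.map (CommRingCat.ofHom (algebraMap k (MvPolynomial (Fin N) k))) = W.ι ≫ sP := by
  obtain ⟨n, φ, hφ⟩ := Scheme.IsRationalOver.exists_birationalOver_affineSpace sP
  let e := AffineSpace.SpecIso n (CommRingCat.of k)
  have he : e.inv ≫ 𝔸(n; Spec (CommRingCat.of k)) ↘ Spec (CommRingCat.of k) =
      Spec.map (CommRingCat.ofHom (algebraMap k (MvPolynomial n k))) :=
    AffineSpace.SpecIso_inv_over _
  let T₁ : (Spec (CommRingCat.of (MvPolynomial n k))).Opens := e.inv ⁻¹ᵁ φ.target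
  let ψ₁ : (φ.source : Scheme.{u}) ≅ (T₁ : Scheme.{u}) :=
    φ.iso ≪≫ (asIso (e.inv ∣_ φ.target)).symm
  have hψ₁ : ψ₁.hom ≫ T₁.ι ≫ Spec.map (CommRingCat.ofHom (algebraMap k (MvPolynomial n k))) =
      φ.source.ι ≫ sP := by
    rw [← he, ← hφ]
    simp only [ψ₁, Iso.trans_hom, Iso.symm_hom, asIso_inv, Category.assoc]
    rw [← morphismRestrict_ι_assoc, IsIso.inv_hom_id_assoc]
  obtain ⟨x, hx⟩ := φ.dense_source.nonempty
  have hne : (T₁ : Set ↑(Spec (CommRingCat.of (MvPolynomial n k)))).Nonempty :=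
    ⟨T₁.ι (ψ₁.hom ⟨x, hx⟩), (ψ₁.hom ⟨x, hx⟩).2⟩
  haveI : LocallyOfFiniteType (T₁.ι ≫ Spec.map (CommRingCat.ofHom (algebraMap k (MvPolynomial n k)))) := by
    rw [← (Iso.inv_comp_eq ψ₁).2 hψ₁.symm]
    infer_instance
  haveI := finite_of_open T₁ hne
  obtain ⟨N, ⟨en⟩⟩ := Finite.exists_equiv_fin n
  let r := MvPolynomial.renameEquiv k en
  let ρ : Spec (CommRingCat.of (MvPolynomial (Fin N) k)) ⟶ Spec (CommRingCat.of (MvPolynomial n k)) :=
    Spec.map (r.toRingEquiv.toCommRingCatIso.hom)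
  haveI : IsIso ρ := inferInstance
  have hρ : ρ ≫ Spec.map (CommRingCat.ofHom (algebraMap k (MvPolynomial n k))) =
      Spec.map (CommRingCat.ofHom (algebraMap k (MvPolynomial (Fin N) k))) := by
    rw [← Spec.map_comp]
    exact congrArg Spec.map (CommRingCat.hom_ext (RingHom.ext fun c => r.commutes c))
  refine ⟨N, φ.source, ρ ⁻¹ᵁ T₁, ψ₁ ≪≫ (asIso (ρ ∣_ T₁)).symm, ?_, ?_⟩
  · obtain ⟨t, ht⟩ := hne
    refine ⟨inv ρ t, ?_⟩
    show ρ (inv ρ t) ∈ T₁
    rw [← Scheme.Hom.comp_apply, IsIso.inv_hom_id]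
    exact ht
  · rw [← hρ, ← hψ₁]
    simp only [Iso.trans_hom, Iso.symm_hom, asIso_inv, Category.assoc]
    rw [← morphismRestrict_ι_assoc, IsIso.inv_hom_id_assoc]

end Rat

/-- A direct factor of a k-rational variety is retract rational over k. Here k is an infinite field, X
and Y are integral schemes of finite type over k whose fibre product over k is integral and rational
over k (birational over k, through dense open subschemes, to an affine space over k); the conclusion
is that some non-empty open subscheme U of X admits k-morphisms U → Y' → U with composite the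
identity, Y' an open subscheme of an affine space Spec k[x_1, ..., x_n]. (The published statement
allows any field k; the argument picks a k-rational point of the given open set, so k is taken
infinite here.) -/
theorem result (k : Type u) [Field k] [Infinite k]
    (X Y : Scheme.{u}) (f : X ⟶ Spec (CommRingCat.of k)) (g : Y ⟶ Spec (CommRingCat.of k))
    [IsIntegral X] [LocallyOfFiniteType f] [QuasiCompact f]
    [IsIntegral Y] [LocallyOfFiniteType g] [QuasiCompact g] [IsIntegral (pullback f g)]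
    [Scheme.IsRationalOver (pullback.fst f g ≫ f)] :
    ∃ (U : X.Opens) (n : ℕ) (Y' : (Spec (CommRingCat.of (MvPolynomial (Fin n) k))).Opens)
        (a : (U : Scheme.{u}) ⟶ (Y' : Scheme.{u})) (b : (Y' : Scheme.{u}) ⟶ (U : Scheme.{u})),
        (U : Set X).Nonempty ∧ a ≫ b = 𝟙 (U : Scheme.{u}) ∧
        a ≫ Y'.ι ≫ Spec.map (CommRingCat.ofHom (algebraMap k (MvPolynomial (Fin n) k))) = U.ι ≫ f ∧
        b ≫ U.ι ≫ f = Y'.ι ≫ Spec.map (CommRingCat.ofHom (algebraMap k (MvPolynomial (Fin n) k))) := by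
  haveI : LocallyOfFiniteType (pullback.fst f g ≫ f) := inferInstance
  obtain ⟨N, W, T, ψ, hT, hψ⟩ := exists_chart (pullback.fst f g ≫ f)
  obtain ⟨p0, hp0⟩ := exists_ratPoint T hT
  let p := p0 ≫ ψ.inv
  have hp : p ≫ W.ι ≫ pullback.fst f g ≫ f = 𝟙 _ := by
    rw [Category.assoc, ← hψ, Iso.inv_hom_id_assoc]
    exact hp0
  let y := p ≫ W.ι ≫ pullback.snd f g
  have hy : y ≫ g = 𝟙 _ := by
    simp only [y, Category.assoc, ← pullback.condition]
    exact hp
  let s : X ⟶ pullback f g := pullback.lift (𝟙 X) (f ≫ y) (by rw [Category.id_comp, Category.assoc, hy, Category.comp_id])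
  let U : X.Opens := s ⁻¹ᵁ W
  have hps : p ≫ W.ι ≫ pullback.fst f g ≫ s = p ≫ W.ι := by
    apply pullback.hom_ext
    · simp only [s, Category.assoc, pullback.lift_fst, Category.comp_id]
    · simp only [s, Category.assoc, pullback.lift_snd]
      simp only [← Category.assoc] at hp ⊢
      rw [hp, Category.id_comp]
      simp only [y, Category.assoc]
  let Q : (T : Scheme.{u}).Opens := (ψ.inv ≫ W.ι ≫ pullback.fst f g) ⁻¹ᵁ U
  let a₁ : (U : Scheme.{u}) ⟶ (T : Scheme.{u}) := (s ∣_ W) ≫ ψ.hom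
  have ha₁ : a₁ ≫ ψ.inv ≫ W.ι ≫ pullback.fst f g = U.ι := by
    simp only [a₁, Category.assoc, Iso.hom_inv_id_assoc]
    rw [morphismRestrict_ι_assoc, pullback.lift_fst, Category.comp_id]
  have hsub : Set.range (a₁ ≫ T.ι) ⊆ Set.range (T.ι ''ᵁ Q).ι := by
    rw [Scheme.Opens.range_ι]
    rintro _ ⟨z, rfl⟩
    refine ⟨a₁ z, ?_, rfl⟩
    show (a₁ ≫ ψ.inv ≫ W.ι ≫ pullback.fst f g) z ∈ U
    rw [ha₁]
    exact z.2
  let b₀ : ((T.ι ''ᵁ Q : (Spec (CommRingCat.of (MvPolynomial (Fin N) k))).Opens) : Scheme.{u}) ⟶ X :=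
    (T.ι.isoImage Q).inv ≫ Q.ι ≫ ψ.inv ≫ W.ι ≫ pullback.fst f g
  have hsub' : Set.range b₀ ⊆ Set.range U.ι := by
    rw [Scheme.Opens.range_ι]
    rintro _ ⟨z, rfl⟩
    exact ((T.ι.isoImage Q).inv z).2
  refine ⟨U, N, T.ι ''ᵁ Q, IsOpenImmersion.lift _ (a₁ ≫ T.ι) hsub, IsOpenImmersion.lift U.ι b₀ hsub', ?_, ?_, ?_, ?_⟩
  · obtain ⟨o⟩ : Nonempty ↑(Spec (CommRingCat.of k)) := inferInstance
    refine ⟨(p ≫ W.ι ≫ pullback.fst f g) o, ?_⟩
    show (p ≫ W.ι ≫ pullback.fst f g ≫ s) o ∈ W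
    rw [hps]
    exact (p o).2
  · rw [← cancel_mono U.ι, Category.assoc, IsOpenImmersion.lift_fac, Category.id_comp]
    have h1 : IsOpenImmersion.lift (T.ι ''ᵁ Q).ι (a₁ ≫ T.ι) hsub ≫ (T.ι.isoImage Q).inv ≫ Q.ι = a₁ := by
      rw [← cancel_mono T.ι]
      simp only [Category.assoc, Scheme.Hom.isoImage_inv_ι, IsOpenImmersion.lift_fac]
    show IsOpenImmersion.lift (T.ι ''ᵁ Q).ι (a₁ ≫ T.ι) hsub ≫
      (T.ι.isoImage Q).inv ≫ Q.ι ≫ ψ.inv ≫ W.ι ≫ pullback.fst f g = U.ι
    rw [← ha₁]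
    conv_rhs => rw [← h1]
    simp only [Category.assoc]
  · rw [IsOpenImmersion.lift_fac_assoc]
    simp only [a₁, Category.assoc]
    rw [hψ, morphismRestrict_ι_assoc, pullback.lift_fst_assoc, Category.id_comp]
  · rw [IsOpenImmersion.lift_fac_assoc]
    simp only [b₀, Category.assoc]
    rw [← hψ, Iso.inv_hom_id_assoc, ← Category.assoc, ← Category.assoc, Category.assoc _ Q.ι,
      Scheme.Hom.isoImage_inv_ι]

end Groth.Agent.S15699
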