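import Groth.Statements.S15700
import Mathlib
import Groth.Agent.DimLib.Points
-- import your own Groth.Agent.* helpers here

set_option autoImplicit false
universe u
open CategoryTheory AlgebraicGeometry
open RatVar

namespace Groth.Agent.S15700

set_option linter.unusedVariables false

section Alg

open MvPolynomial

variable {k : Type u} [Field k] [Infinite k] {A : Type u} [CommRing A] [IsDomain A] [Algebra k A]

theorem exists_open_lift {R S : Type u} [CommRing R] [IsDomain R] [IsNoetherianRing R] [CommRing S]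
    [IsDomain S] (φ : R →+* S) (hf : φ.FiniteType) (hinj : Function.Injective φ) :
    ∃ h : R, h ≠ 0 ∧ ∀ P : PrimeSpectrum R, h ∉ P.asIdeal → ∃ Q : PrimeSpectrum S, Q.comap φ = P := by
  obtain ⟨s, hs⟩ := PrimeSpectrum.exists_constructibleSetData_iff.2
    (PrimeSpectrum.isConstructible_range_comap (RingHom.FinitePresentation.of_finiteType.1 hf))
  have h0 : (⟨⊥, Ideal.isPrime_bot⟩ : PrimeSpectrum R) ∈ Set.range (PrimeSpectrum.comap φ) :=
    ⟨⟨⊥, Ideal.isPrime_bot⟩, PrimeSpectrum.ext ((RingHom.injective_iff_ker_eq_bot φ).1 hinj)⟩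
  rw [← hs] at h0
  obtain ⟨C, hC, hg, hf0⟩ := Set.mem_iUnion₂.1 h0
  refine ⟨C.f, ?_, fun P hP => ?_⟩
  · intro e
    exact hf0 (by simp [PrimeSpectrum.mem_zeroLocus, e])
  · have : P ∈ s.toSet := by
      refine Set.mem_iUnion₂.2 ⟨C, hC, ?_, ?_⟩
      · rw [PrimeSpectrum.mem_zeroLocus]
        intro x hx
        have := hg hx
        simp only [SetLike.mem_coe, Ideal.mem_bot] at this
        simp [this]
      · simpa [PrimeSpectrum.mem_zeroLocus] using hP
    rw [hs] at this
    exact this

/-- `A` embeds `k`-linearly into a localisation of a polynomial ring in `n` variables. -/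
def Good (k : Type u) [Field k] (A : Type u) [CommRing A] [Algebra k A] (n : ℕ) : Prop :=
  ∃ (g : MvPolynomial (Fin n) k) (φ : A →ₐ[k] Localization.Away g), g ≠ 0 ∧ Function.Injective φ

theorem trdeg_away {n : ℕ} {g : MvPolynomial (Fin n) k} (hg : g ≠ 0) :
    Algebra.trdeg k (Localization.Away g) = n := by
  refine le_antisymm ?_ ?_
  · have hdom := IsLocalization.isDomain_localization
      (powers_le_nonZeroDivisors_of_noZeroDivisors hg : Submonoid.powers g ≤ _)
    let L := FractionRing (MvPolynomial (Fin n) k)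
    have hu : IsUnit (algebraMap (MvPolynomial (Fin n) k) L g) :=
      Ne.isUnit (by simpa using hg)
    let e : Localization.Away g →+* L := IsLocalization.Away.lift g hu
    have he : Function.Injective e := by
      refine (IsLocalization.lift_injective_iff _).2 fun x y => ?_
      rw [(IsLocalization.injective (Localization.Away g)
        (powers_le_nonZeroDivisors_of_noZeroDivisors hg)).eq_iff, (IsFractionRing.injective _ L).eq_iff]
    let e' : Localization.Away g →ₐ[k] L := AlgHom.mk e (fun c => by
      change e (algebraMap k (Localization.Away g) c) = _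
      rw [IsScalarTower.algebraMap_apply k (MvPolynomial (Fin n) k) (Localization.Away g),
        IsLocalization.Away.lift_eq, ← IsScalarTower.algebraMap_apply])
    refine (trdeg_le_of_injective e' he).trans ?_
    haveI : Algebra.IsAlgebraic (MvPolynomial (Fin n) k) L := IsLocalization.isAlgebraic L (nonZeroDivisors _)
    rw [← trdeg_add_eq k (MvPolynomial (Fin n) k) (A := L),
      trdeg_eq_zero (R := MvPolynomial (Fin n) k) (A := L), MvPolynomial.trdeg_of_isDomain]
    simp
  · have := trdeg_le_of_injective (IsScalarTower.toAlgHom k (MvPolynomial (Fin n) k) (Localization.Away g))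
      (IsLocalization.injective _ (powers_le_nonZeroDivisors_of_noZeroDivisors hg))
    rw [MvPolynomial.trdeg_of_isDomain] at this
    simpa using this

theorem Good.le {n m : ℕ} (h : Good k A n) (hm : Algebra.trdeg k A = m) : m ≤ n := by
  obtain ⟨g, φ, hg, hφ⟩ := h
  have := trdeg_le_of_injective φ hφ
  rw [hm, trdeg_away hg] at this
  exact_mod_cast this

theorem Good.step [Algebra.FiniteType k A] {n m : ℕ} (h : Good k A (n + 1))
    (hm : Algebra.trdeg k A = m) (hlt : m < n + 1) : Good k A n := by
  classical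
  obtain ⟨g, φ, hg, hφ⟩ := h
  let B := Localization.Away g
  have hpow : Submonoid.powers g ≤ nonZeroDivisors (MvPolynomial (Fin (n + 1)) k) :=
    powers_le_nonZeroDivisors_of_noZeroDivisors hg
  haveI : IsDomain B := IsLocalization.isDomain_localization hpow
  letI : Algebra A B := φ.toRingHom.toAlgebra
  haveI : IsScalarTower k A B := IsScalarTower.of_algebraMap_eq fun c => (φ.commutes c).symm
  haveI : FaithfulSMul A B := (faithfulSMul_iff_algebraMap_injective A B).2 hφ
  obtain ⟨i, hi⟩ : ∃ i, Transcendental A (algebraMap (MvPolynomial (Fin (n + 1)) k) B (X i)) := by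
    by_contra hall
    simp only [Transcendental, not_exists, not_not] at hall
    have hpoly : ∀ p : MvPolynomial (Fin (n + 1)) k,
        IsAlgebraic A (algebraMap (MvPolynomial (Fin (n + 1)) k) B p) := by
      intro p
      induction p using MvPolynomial.induction_on with
      | C c =>
        rw [show algebraMap (MvPolynomial (Fin (n + 1)) k) B (C c) = algebraMap A B (algebraMap k A c) by
          rw [← IsScalarTower.algebraMap_apply k A B,
            IsScalarTower.algebraMap_apply k (MvPolynomial (Fin (n + 1)) k) B]; rfl]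
        exact isAlgebraic_algebraMap _
      | add p q hp hq => rw [map_add]; exact hp.add hq
      | mul_X p j hp => rw [map_mul]; exact hp.mul (hall j)
    haveI : Algebra.IsAlgebraic A B := ⟨fun b => by
      obtain ⟨⟨p, ⟨s, hs⟩⟩, hb⟩ := IsLocalization.surj (Submonoid.powers g) b
      simp only at hb
      have hsne : algebraMap (MvPolynomial (Fin (n + 1)) k) B s ≠ 0 := by
        rw [Ne, IsLocalization.to_map_eq_zero_iff B hpow]
        exact nonZeroDivisors.ne_zero (hpow hs)
      obtain ⟨r, hr, d, hd⟩ := (hpoly s).exists_nonzero_dvd (mem_nonZeroDivisors_of_ne_zero hsne)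
      have h1 : IsAlgebraic A (r • b) := by
        rw [Algebra.smul_def, hd, show algebraMap _ B s * d * b = algebraMap _ B p * d by
          rw [← hb]; ring]
        refine (hpoly p).mul ?_
        obtain ⟨⟨q, ⟨t, ht⟩⟩, hq⟩ := IsLocalization.surj (Submonoid.powers g) d
        have : IsAlgebraic A (algebraMap _ B s * d) := hd ▸ isAlgebraic_algebraMap r
        exact IsAlgebraic.of_mul (mem_nonZeroDivisors_of_ne_zero hsne) (hpoly s) this
      rw [Algebra.smul_def] at h1
      exact IsAlgebraic.of_mul (mem_nonZeroDivisors_of_ne_zero fun e => hr (hφ (e.trans (map_zero φ).symm)))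
        (isAlgebraic_algebraMap r) h1⟩
    have := trdeg_add_eq k A (A := B)
    rw [trdeg_eq_zero (R := A) (A := B), add_zero, hm, trdeg_away hg] at this
    have : m = n + 1 := by exact_mod_cast this
    omega
  let ψ : Polynomial A →ₐ[A] B := Polynomial.aeval (algebraMap (MvPolynomial (Fin (n + 1)) k) B (X i))
  haveI : IsNoetherianRing A := Algebra.FiniteType.isNoetherianRing k A
  have hψft : ψ.toRingHom.FiniteType := by
    have : (algebraMap k B).FiniteType := by
      haveI : Algebra.FiniteType k B :=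
        Algebra.FiniteType.trans (S := MvPolynomial (Fin (n + 1)) k) inferInstance
          (IsLocalization.finiteType_of_monoid_fg (Submonoid.powers g) _)
      exact RingHom.finiteType_algebraMap.2 this
    refine RingHom.FiniteType.of_comp_finiteType (f := (algebraMap A (Polynomial A)).comp (algebraMap k A)) ?_
    rw [show ψ.toRingHom.comp ((algebraMap A (Polynomial A)).comp (algebraMap k A)) = algebraMap k B from
      RingHom.ext fun c => by simp [ψ]; rw [← IsScalarTower.algebraMap_apply]]
    exact this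
  obtain ⟨h, hh0, hh⟩ := exists_open_lift ψ.toRingHom hψft (transcendental_iff_injective.1 hi)
  obtain ⟨a, ha⟩ : ∃ a : k, Polynomial.eval (algebraMap k A a) h ≠ 0 := by
    obtain ⟨x, hx⟩ := ((Set.infinite_range_of_injective (algebraMap k A).injective).sdiff
      h.roots.toFinset.finite_toSet).nonempty
    obtain ⟨a, rfl⟩ := hx.1
    refine ⟨a, fun e => hx.2 ?_⟩
    simpa [Polynomial.mem_roots hh0] using e
  let P : PrimeSpectrum (Polynomial A) :=
    ⟨RingHom.ker (Polynomial.evalRingHom (algebraMap k A a)), RingHom.ker_isPrime _⟩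
  obtain ⟨Q, hQ⟩ := hh P ha
  let ev : MvPolynomial (Fin (n + 1)) k →ₐ[k] MvPolynomial (Fin n) k :=
    aeval (Fin.insertNth i (C a) X)
  let σ : MvPolynomial (Fin n) k →ₐ[k] MvPolynomial (Fin (n + 1)) k := rename i.succAbove
  have hXQ : algebraMap (MvPolynomial (Fin (n + 1)) k) B (X i) - algebraMap k B a ∈ Q.asIdeal := by
    have : (Polynomial.X - Polynomial.C (algebraMap k A a)) ∈ P.asIdeal := by simp [P]
    rw [← hQ] at this
    simpa [ψ, ← IsScalarTower.algebraMap_apply] using this
  let π : MvPolynomial (Fin (n + 1)) k →ₐ[k] B ⧸ Q.asIdeal :=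
    (Ideal.Quotient.mkₐ k Q.asIdeal).comp (IsScalarTower.toAlgHom k _ B)
  have hπ : (π.comp σ).comp ev = π := by
    refine MvPolynomial.algHom_ext fun j => ?_
    induction j using Fin.succAboveCases i with
    | x => 
      simp only [AlgHom.comp_apply, ev, aeval_X, Fin.insertNth_apply_same, σ, rename_C]
      refine (Ideal.Quotient.eq.2 ?_).symm
      change algebraMap _ B (X i) - algebraMap _ B (C a) ∈ _
      rw [show algebraMap (MvPolynomial (Fin (n + 1)) k) B (C a) = algebraMap k B a from
        (IsScalarTower.algebraMap_apply k (MvPolynomial (Fin (n + 1)) k) B a).symm]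
      exact hXQ
    | p j => simp [ev, σ]
  have hkey : ∀ p, ev p = 0 → algebraMap _ B p ∈ Q.asIdeal := by
    intro p hp
    have := AlgHom.congr_fun hπ p
    rw [AlgHom.comp_apply, hp, map_zero] at this
    exact Ideal.Quotient.eq_zero_iff_mem.1 this.symm
  have hg' : ev g ≠ 0 := fun e =>
    Q.isPrime.ne_top (Ideal.eq_top_of_isUnit_mem _ (hkey g e) (IsLocalization.Away.algebraMap_isUnit g))
  have hu : IsUnit ((algebraMap (MvPolynomial (Fin n) k) (Localization.Away (ev g))).comp ev.toRingHom g) :=
    IsLocalization.Away.algebraMap_isUnit (ev g)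
  let η : B →+* Localization.Away (ev g) := IsLocalization.Away.lift g hu
  let η' : B →ₐ[k] Localization.Away (ev g) := AlgHom.mk η (fun c => by
    change η (algebraMap k B c) = _
    rw [IsScalarTower.algebraMap_apply k (MvPolynomial (Fin (n + 1)) k) B, IsLocalization.Away.lift_eq]
    change algebraMap _ (Localization.Away (ev g)) (ev (algebraMap k _ c)) = _
    rw [ev.commutes, ← IsScalarTower.algebraMap_apply])
  refine ⟨ev g, η'.comp φ, hg', (injective_iff_map_eq_zero _).2 fun x hx => ?_⟩
  obtain ⟨⟨p, ⟨s, hs⟩⟩, hb⟩ := IsLocalization.surj (Submonoid.powers g) (φ x)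
  simp only at hb
  have h1 := congrArg η hb
  rw [map_mul, IsLocalization.Away.lift_eq, IsLocalization.Away.lift_eq,
    show η (φ x) = 0 from hx, zero_mul] at h1
  have hp : ev p = 0 :=
    (IsLocalization.to_map_eq_zero_iff _ (powers_le_nonZeroDivisors_of_noZeroDivisors hg')).1 h1.symm
  have h2 : φ x * algebraMap _ B s ∈ Q.asIdeal := by rw [hb]; exact hkey p hp
  have h3 : φ x ∈ Q.asIdeal := (Q.isPrime.mem_or_mem h2).resolve_right fun h4 =>
    Q.isPrime.ne_top (Ideal.eq_top_of_isUnit_mem _ h4
      (IsLocalization.map_units B (⟨s, hs⟩ : Submonoid.powers g)))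
  have h4 : Polynomial.C x ∈ P.asIdeal := by
    rw [← hQ]
    change ψ.toRingHom (Polynomial.C x) ∈ Q.asIdeal
    change ψ (Polynomial.C x) ∈ Q.asIdeal
    rw [Polynomial.aeval_C]
    exact h3
  simpa [P] using h4

theorem Good.descend [Algebra.FiniteType k A] {m : ℕ} (hm : Algebra.trdeg k A = m) :
    ∀ n, Good k A n → Good k A m
  | 0, h => by rwa [show m = 0 by simpa using h.le hm]
  | n + 1, h => by
    rcases (h.le hm).eq_or_lt with e | e
    · rwa [e]
    · exact Good.descend hm n (h.step hm e)

end Alg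

/-- Over an infinite field k, an integral scheme X of finite type over k that admits a dominant
k-morphism from a k-rational variety admits one from a k-rational variety of the same dimension as
X. Stated with open subschemes of affine spaces: if a non-empty open subscheme of Spec k[x_1, ...,
x_n] maps dominantly to X over k, then some non-empty open subscheme of some Spec k[x_1, ..., x_m]
with m = dim X maps dominantly to X over k. -/
theorem result (k : Type u) [Field k] [Infinite k]
    (X : Scheme.{u}) (f : X ⟶ Spec (CommRingCat.of k)) [IsIntegral X] [LocallyOfFiniteType f] [QuasiCompact f]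
    (n : ℕ) (W : (Spec (CommRingCat.of (MvPolynomial (Fin n) k))).Opens) (hW : (W : Set ↑(Spec (CommRingCat.of (MvPolynomial (Fin n) k)))).Nonempty)
    (φ : (W : Scheme.{u}) ⟶ X) [IsDominant φ] (hφ : φ ≫ f = W.ι ≫ Spec.map (CommRingCat.ofHom (algebraMap k (MvPolynomial (Fin n) k)))) :
    ∃ (m : ℕ) (W' : (Spec (CommRingCat.of (MvPolynomial (Fin m) k))).Opens) (ψ : (W' : Scheme.{u}) ⟶ X),
      (W' : Set ↑(Spec (CommRingCat.of (MvPolynomial (Fin m) k)))).Nonempty ∧ IsDominant ψ ∧ ψ ≫ f = W'.ι ≫ Spec.map (CommRingCat.ofHom (algebraMap k (MvPolynomial (Fin m) k))) ∧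
      (m : WithBot ℕ∞) = topologicalKrullDim X := by
  haveI : IrreducibleSpace ↑(Spec (CommRingCat.of (MvPolynomial (Fin n) k))) := inferInstance
  obtain ⟨w, hw⟩ := hW
  haveI : Nonempty (W : Scheme.{u}) := ⟨⟨w, hw⟩⟩
  haveI : IsIntegral (W : Scheme.{u}) := isIntegral_of_isOpenImmersion W.ι
  obtain ⟨U, hUaff, hxU, -⟩ := exists_isAffineOpen_mem_and_subset
    (X := X) (x := genericPoint X) (U := ⊤) trivial
  have hgenW : φ (genericPoint (W : Scheme.{u})) = genericPoint X :=
    ((genericPoint_spec (W : Scheme.{u})).image φ.continuous).eq (by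
      simpa [IsGenericPoint, DenseRange, dense_iff_closure_eq, Set.image_univ] using
        ((genericPoint_spec X).def.trans (φ.denseRange.closure_range).symm))
  have hgU : W.ι (genericPoint (W : Scheme.{u})) ∈ W.ι ''ᵁ (φ ⁻¹ᵁ U) :=
    ⟨_, show φ _ ∈ U by rw [hgenW]; exact hxU, rfl⟩
  obtain ⟨_, ⟨g, rfl⟩, hgmem, hgsub⟩ :=
    (PrimeSpectrum.isTopologicalBasis_basic_opens).exists_subset_of_mem_open hgU (W.ι ''ᵁ (φ ⁻¹ᵁ U)).2
  have hg : g ≠ 0 := fun e => (PrimeSpectrum.mem_basicOpen _ _).1 hgmem (e ▸ Ideal.zero_mem _)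
  let B := Localization.Away g
  let jB := Spec.map (CommRingCat.ofHom (algebraMap (MvPolynomial (Fin n) k) B))
  haveI : IsOpenImmersion jB := IsOpenImmersion.of_isLocalization g
  have hrange : Set.range jB = (PrimeSpectrum.basicOpen g : Set (PrimeSpectrum (MvPolynomial (Fin n) k))) :=
    PrimeSpectrum.localization_away_comap_range B g
  have hsubW : Set.range jB ⊆ Set.range W.ι := by
    rw [hrange]
    exact hgsub.trans (by rintro _ ⟨z, -, rfl⟩; exact ⟨z, rfl⟩)
  let b := IsOpenImmersion.lift W.ι jB hsubW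
  have hb : b ≫ W.ι = jB := IsOpenImmersion.lift_fac _ _ _
  haveI : IsOpenImmersion b := by
    have : IsOpenImmersion (b ≫ W.ι) := by rw [hb]; infer_instance
    exact IsOpenImmersion.of_comp b W.ι
  have hsubU : Set.range (b ≫ φ) ⊆ Set.range hUaff.fromSpec := by
    rw [hUaff.range_fromSpec]
    rintro _ ⟨z, rfl⟩
    obtain ⟨z', hz', he⟩ := hgsub (show jB z ∈ (PrimeSpectrum.basicOpen g : Set (PrimeSpectrum (MvPolynomial (Fin n) k))) from hrange.subset ⟨z, rfl⟩)
    have : b z = z' := W.ι.isOpenEmbedding.injective (by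
      rw [← Scheme.Hom.comp_apply, hb]; exact he.symm)
    rw [Scheme.Hom.comp_apply, this]
    exact hz'
  let c := IsOpenImmersion.lift hUaff.fromSpec (b ≫ φ) hsubU
  have hc : c ≫ hUaff.fromSpec = b ≫ φ := IsOpenImmersion.lift_fac _ _ _
  let A := Γ(X, U)
  obtain ⟨θ, hθ⟩ : ∃ θ : CommRingCat.of k ⟶ A, Spec.map θ = hUaff.fromSpec ≫ f :=
    ⟨Spec.preimage (hUaff.fromSpec ≫ f), Spec.map_preimage _⟩
  letI : Algebra k A := θ.hom.toAlgebra
  haveI : Nonempty U := ⟨⟨_, hxU⟩⟩
  haveI : IsDomain A := inferInstanceAs (IsDomain Γ(X, U))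
  have hθft : θ.hom.FiniteType := by
    rw [← HasRingHomProperty.Spec_iff (P := @LocallyOfFiniteType), hθ]
    infer_instance
  haveI : Algebra.FiniteType k A := hθft
  let φ₀ := (Spec.preimage c).hom
  have hcomm : φ₀.comp (algebraMap k A) = algebraMap k B := by
    have e : θ ≫ Spec.preimage c = CommRingCat.ofHom (algebraMap k B) := by
      refine Spec.map_injective ?_
      rw [Spec.map_comp, Spec.map_preimage, hθ, reassoc_of% hc, hφ, reassoc_of% hb, ← Spec.map_comp]
      rfl
    exact congr(($e).hom)
  let φ₁ : ↑A →ₐ[k] B := { φ₀ with commutes' := fun r => RingHom.congr_fun hcomm r }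
  haveI : IsDominant b := by
    haveI : Nonempty (Spec (CommRingCat.of B)) := by
      obtain ⟨z, -⟩ := hrange.symm.subset hgmem
      exact ⟨z⟩
    exact ⟨b.isOpenEmbedding.isOpen_range.dense (Set.range_nonempty _)⟩
  haveI : IsDominant (c ≫ hUaff.fromSpec) := by rw [hc]; infer_instance
  haveI : IsDominant c := by
    refine ⟨fun y => ?_⟩
    have h := IsDominant.denseRange (f := c ≫ hUaff.fromSpec) (hUaff.fromSpec y)
    rw [hUaff.fromSpec.isOpenEmbedding.isInducing.closure_eq_preimage_closure_image]
    show hUaff.fromSpec y ∈ closure _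
    rw [← Set.range_comp]
    exact h
  have hinj : Function.Injective φ₁ := by
    have h := IsDominant.denseRange (f := c)
    rw [show c = Spec.map (Spec.preimage c) from (Spec.map_preimage c).symm] at h
    have h' := (PrimeSpectrum.denseRange_comap_iff_ker_le_nilRadical φ₀).1 h
    rw [nilradical_eq_zero] at h'
    exact (RingHom.injective_iff_ker_eq_bot φ₀).2 (le_bot_iff.1 h')
  obtain ⟨m, hm⟩ : ∃ m : ℕ, Algebra.trdeg k A = m := by
    obtain ⟨s, -, -, -, -, h⟩ := Groth.Agent.DimLib.exists_normalization (k := k) (A := ↑A)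
    exact ⟨s, h⟩
  obtain ⟨g', φ', hg', hinj'⟩ := Good.descend hm n ⟨g, φ₁, hg, hinj⟩
  let j' := Spec.map (CommRingCat.ofHom (algebraMap (MvPolynomial (Fin m) k) (Localization.Away g')))
  haveI : IsOpenImmersion j' := IsOpenImmersion.of_isLocalization g'
  haveI : IsDomain (Localization.Away g') := IsLocalization.isDomain_localization
    (powers_le_nonZeroDivisors_of_noZeroDivisors hg')
  let ψ₀ : Spec (CommRingCat.of (Localization.Away g')) ⟶ X :=
    Spec.map (CommRingCat.ofHom φ'.toRingHom) ≫ hUaff.fromSpec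
  refine ⟨m, j'.opensRange, j'.isoOpensRange.inv ≫ ψ₀, ?_, ?_, ?_, ?_⟩
  · exact ⟨_, (⟨⊥, Ideal.isPrime_bot⟩ : PrimeSpectrum (Localization.Away g')), rfl⟩
  · haveI : IsDominant (Spec.map (CommRingCat.ofHom φ'.toRingHom)) := ⟨by
      refine (PrimeSpectrum.denseRange_comap_iff_ker_le_nilRadical _).2 ?_
      change RingHom.ker φ'.toRingHom ≤ _
      rw [(RingHom.injective_iff_ker_eq_bot φ'.toRingHom).1 hinj']
      exact bot_le⟩
    haveI : IsDominant hUaff.fromSpec := ⟨by
      rw [DenseRange, hUaff.range_fromSpec]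
      exact U.2.dense ⟨_, hxU⟩⟩
    infer_instance
  · rw [Category.assoc, Iso.inv_comp_eq, Scheme.Hom.isoOpensRange_hom_ι_assoc]
    simp only [ψ₀, Category.assoc, ← hθ, j', ← Spec.map_comp]
    congr 1
    ext r
    exact φ'.commutes r
  · rw [Groth.Agent.DimLib.topologicalKrullDim_eq_ptDim_genericPoint f]
    have e := Groth.Agent.DimLib.ptDim_chart f θ.hom hθft hUaff.fromSpec (by rw [← hθ]; rfl)
      (⟨⊥, Ideal.isPrime_bot⟩ : PrimeSpectrum A)
    have hbot : hUaff.fromSpec (⟨⊥, Ideal.isPrime_bot⟩ : PrimeSpectrum A) = genericPoint X := by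
      haveI : IsIntegral (Spec A) := inferInstance
      rw [show (⟨⊥, Ideal.isPrime_bot⟩ : PrimeSpectrum A) = genericPoint (Spec A) from
        (genericPoint_eq_bot_of_affine A).symm]
      exact genericPoint_eq_of_isOpenImmersion _
    rw [hbot] at e
    rw [← e, show ringKrullDim (↑A ⧸ (⊥ : Ideal ↑A)) = ringKrullDim A from
      ringKrullDim_eq_of_ringEquiv (RingEquiv.quotientBot ↑A),
      Groth.Agent.DimLib.ringKrullDim_eq_trdeg (k := k), hm]
    simp

end Groth.Agent.S15700
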