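import Groth.Statements.S15701
-- import your own Groth.Agent.* helpers here

set_option autoImplicit false
universe u
open CategoryTheory AlgebraicGeometry
open RatVar

namespace Groth.Agent.S15701

/-- A faithful action of a finite group on a geometrically integral variety is almost free. Here k is a
field of characteristic zero, X is an integral separated scheme of finite type over k, and the
finite group G acts on X by k-automorphisms through an injective homomorphism to Aut X; the
conclusion is a non-empty G-stable open subscheme U of X such that for every field K and every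
morphism Spec K → X whose image lies in U, an element of G fixing that K-point is the identity. (X
is taken separated: for the affine line with a doubled origin and the involution exchanging the two
origins the action is faithful while every point off the origins is fixed, so no such U exists;
integrality replaces geometric integrality, which is all the codimension argument uses.) -/
theorem result (k : Type u) [Field k] [CharZero k]
    (X : Scheme.{u}) (f : X ⟶ Spec (CommRingCat.of k)) [IsIntegral X] [LocallyOfFiniteType f]
    [QuasiCompact f] [IsSeparated f]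
    (G : Type u) [Group G] [Finite G] (ρ : G →* Aut X)
    (hρ : ∀ g : G, (ρ g).hom ≫ f = f) (hfaith : Function.Injective ρ) :
    ∃ U : X.Opens, (U : Set X).Nonempty ∧ (∀ g : G, (ρ g).hom ⁻¹ᵁ U = U) ∧
      ∀ (K : Type u) [Field K] (x : Spec (CommRingCat.of K) ⟶ X),
        Set.range x.base ⊆ (U : Set X) → ∀ g : G, x ≫ (ρ g).hom = x → g = 1 := by
  classical
  haveI : X.IsSeparated := ⟨by rw [← Limits.terminal.comp_from f]; infer_instance⟩
  let Z : G → Set X := fun g => if g = 1 then ∅ else Set.range (Limits.equalizer.ι (ρ g).hom (𝟙 X)).base
  have hZc : ∀ g, IsClosed (Z g) := fun g => by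
    show IsClosed (if g = 1 then ∅ else Set.range _)
    split_ifs
    · exact isClosed_empty
    · exact (Limits.equalizer.ι (ρ g).hom (𝟙 X)).isClosedEmbedding.isClosed_range
  have hgen : ∀ g, genericPoint ↥X ∉ Z g := by
    intro g hg
    by_cases h1 : g = 1
    · simp [Z, h1] at hg
    · simp only [Z, if_neg h1] at hg
      haveI : IsDominant (Limits.equalizer.ι (ρ g).hom (𝟙 X)) := by
        refine ⟨dense_iff_closure_eq.2 (Set.eq_univ_of_univ_subset ?_)⟩
        rw [← (genericPoint_spec ↥X)]
        exact closure_mono (Set.singleton_subset_iff.2 hg)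
      have : (ρ g).hom = 𝟙 X := ext_of_isDominant _ (Limits.equalizer.condition _ _)
      exact h1 (hfaith ((Iso.ext this).trans (map_one ρ).symm))
  let U₀ : X.Opens := ⟨(⋃ g, Z g)ᶜ, (isClosed_iUnion_of_finite hZc).isOpen_compl⟩
  let U : X.Opens := ⟨⋂ h : G, (ρ h).hom.base ⁻¹' (U₀ : Set X),
    isOpen_iInter_of_finite fun h => U₀.isOpen.preimage (ρ h).hom.continuous⟩
  have hgp : ∀ h : G, (ρ h).hom.base (genericPoint ↥X) = genericPoint ↥X := fun h =>
    (((genericPoint_spec ↥X).image (ρ h).hom.continuous).eq (by
      have hs : Function.Surjective (ρ h).hom.base := (Scheme.homeoOfIso (ρ h)).surjective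
      simpa [Set.image_univ_of_surjective hs] using genericPoint_spec ↥X))
  refine ⟨U, ⟨genericPoint ↥X, Set.mem_iInter.2 fun h => ?_⟩, fun g => ?_, ?_⟩
  · show (ρ h).hom.base (genericPoint ↥X) ∈ (⋃ g, Z g)ᶜ
    rw [hgp h]
    simpa using hgen
  · ext x
    have hc : ∀ h, (ρ h).hom.base ((ρ g).hom.base x) = (ρ (h * g)).hom.base x := fun h => by
      rw [map_mul]; rfl
    simp only [Scheme.Hom.coe_preimage, U, Set.mem_preimage, Set.mem_iInter, TopologicalSpace.Opens.coe_mk]
    constructor
    · intro hx h
      have := hx (h * g⁻¹)
      rw [hc, inv_mul_cancel_right] at this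
      exact this
    · intro hx h
      rw [hc]
      exact hx (h * g)
  · intro K _ x hx g hgx
    by_contra h1
    have hmem : x.base (IsLocalRing.closedPoint K) ∈ Z g := by
      simp only [Z, if_neg h1]
      refine ⟨(Limits.equalizer.lift x (by rw [hgx, Category.comp_id])).base (IsLocalRing.closedPoint K), ?_⟩
      exact congrArg (fun m : Spec (CommRingCat.of K) ⟶ X => m.base (IsLocalRing.closedPoint K)) (Limits.equalizer.lift_ι x _)
    have hU := Set.mem_iInter.1 (hx ⟨_, rfl⟩ : x.base (IsLocalRing.closedPoint K) ∈ (U : Set X)) 1
    refine hU ?_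
    rw [map_one]
    exact Set.mem_iUnion.2 ⟨g, hmem⟩

end Groth.Agent.S15701
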