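import Groth.Statements.S15702
import Groth.Agent.HopfLib.Comod
import Groth.Agent.Et18.RosenlichtAlg
import Mathlib.RingTheory.UniqueFactorizationDomain.Basic
import Mathlib.RingTheory.Jacobson.Ring
import Mathlib.FieldTheory.IsAlgClosed.Basic
set_option backward.isDefEq.respectTransparency.types false

set_option autoImplicit false
universe u
open GLin
open scoped TensorProduct
open Coalgebra (comul counit)

namespace Groth.Agent.S15702

/-- Let k be algebraically closed of characteristic zero, let G be a connected linear algebraic group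
over k without non-trivial characters acting on an integral affine k-variety Spec B of finite type
with B a unique factorisation domain; then the field of G-invariant rational functions is the
fraction field of the ring of invariants B^G. In coordinate-ring form: A is a commutative Hopf
algebra of finite type over k, a domain, whose only group-like element is 1; B is a k-algebra of
finite type, a domain and a unique factorisation monoid, with a coaction of A that is an algebra
map; k-points φ : A →ₐ[k] k act on B through the coaction. If f, g ∈ B, g ≠ 0, satisfy (φ·f) g = f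
(φ·g) for all φ, then f g' = f' g for some f', g' ∈ B fixed by all φ with g' ≠ 0. (The published
lemma allows G disconnected with character-free identity component; this row is the connected case
treated first in its proof.) -/
theorem result (k : Type u) [Field k] [IsAlgClosed k] [CharZero k]
    (A : Type u) [CommRing A] [HopfAlgebra k A] [Algebra.FiniteType k A] [IsDomain A]
    (hchar : ∀ a : A, IsGroupLikeElem k a → a = 1)
    (B : Type u) [CommRing B] [Algebra k B] [Algebra.FiniteType k B] [IsDomain B] [UniqueFactorizationMonoid B]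
    [HopfRep.Comod k A B] [GLin.IsCoactAlg k A B]
    (f g : B) (hg : g ≠ 0)
    (hinv : ∀ φ : A →ₐ[k] k, HopfRep.Comod.act k A B φ f * g = f * HopfRep.Comod.act k A B φ g) :
    ∃ f' g' : B, (∀ φ : A →ₐ[k] k, HopfRep.Comod.act k A B φ f' = f') ∧
      (∀ φ : A →ₐ[k] k, HopfRep.Comod.act k A B φ g' = g') ∧ g' ≠ 0 ∧ f * g' = f' * g := by
  classical
  -- rational points separate the elements of a reduced algebra of finite type
  have hres : ∀ (C : Type u) [CommRing C] [Algebra k C] [Algebra.FiniteType k C] (M : Ideal C), M.IsMaximal →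
      ∃ π : C →ₐ[k] k, ∀ c ∈ M, π c = 0 := by
    intro C _ _ _ M hM
    letI := Ideal.Quotient.field M
    haveI : Algebra.FiniteType k (C ⧸ M) :=
      Algebra.FiniteType.of_surjective (Ideal.Quotient.mkₐ k M) (Ideal.Quotient.mkₐ_surjective k M)
    haveI : Module.Finite k (C ⧸ M) := finite_of_finite_type_of_isJacobsonRing k (C ⧸ M)
    haveI : Algebra.IsIntegral k (C ⧸ M) := Algebra.IsIntegral.of_finite k (C ⧸ M)
    let e : k ≃ₐ[k] C ⧸ M := AlgEquiv.ofBijective (Algebra.ofId k (C ⧸ M))
      (IsAlgClosed.algebraMap_bijective_of_isIntegral (k := k) (K := C ⧸ M))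
    refine ⟨e.symm.toAlgHom.comp (Ideal.Quotient.mkₐ k M), fun c hc => ?_⟩
    simp [Ideal.Quotient.eq_zero_iff_mem.2 hc]
  have hsep : ∀ (C : Type u) [CommRing C] [Algebra k C] [Algebra.FiniteType k C] [IsReduced C] (c : C),
      (∀ π : C →ₐ[k] k, π c = 0) → c = 0 := by
    intro C _ _ _ _ c h
    by_contra hc
    haveI : IsJacobsonRing C := isJacobsonRing_of_finiteType (A := k)
    have : c ∈ (⊥ : Ideal C).jacobson := by
      rw [Ideal.jacobson]
      refine Ideal.mem_sInf.2 fun M hM => ?_
      obtain ⟨π, hπ⟩ := hres C M hM.2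
      by_contra hcM
      obtain ⟨d, m, hm, hd⟩ := hM.2.exists_inv hcM
      have := congrArg π hd
      simp [map_add, map_mul, h π, hπ m hm] at this
    rw [IsJacobsonRing.out' ⊥ Ideal.isRadical_bot] at this
    exact hc (by simpa using this)
  have hsepT : ∀ (C : Type u) [CommRing C] [Algebra k C] (z : C ⊗[k] A),
      (∀ ψ : A →ₐ[k] k, Groth.Agent.Et18.Rosenlicht.evR (K := k) C ψ z = 0) → z = 0 := by
    intro C _ _ z h
    let b := Module.Free.chooseBasis k C
    apply (TensorProduct.equivFinsuppOfBasisLeft (N := A) b).injective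
    rw [map_zero]
    ext i
    refine hsep A _ fun ψ => ?_
    have key : ∀ y : C ⊗[k] A, ψ (TensorProduct.equivFinsuppOfBasisLeft b y i) =
        b.repr (Groth.Agent.Et18.Rosenlicht.evR (K := k) C ψ y) i := by
      intro y
      induction y using TensorProduct.induction_on with
      | zero => simp
      | add p q hp hq => simp only [map_add, Finsupp.add_apply, hp, hq]
      | tmul c a => simp [Groth.Agent.Et18.Rosenlicht.evR_tmul, mul_comm]
    rw [key z, h ψ]
    simp
  -- the action of a point
  let E : (A →ₐ[k] k) → (B →ₐ[k] B) := fun φ =>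
    ((Groth.Agent.Et18.Rosenlicht.evR (K := k) B φ).restrictScalars k).comp (GLin.coactAlgHom k A B)
  have hE : ∀ φ b, E φ b = HopfRep.Comod.act k A B φ b := by
    intro φ b
    show Groth.Agent.Et18.Rosenlicht.evR (K := k) B φ (HopfRep.Comod.coact (k := k) (A := A) b) =
      TensorProduct.rid k B (LinearMap.lTensor B φ.toLinearMap (HopfRep.Comod.coact (k := k) (A := A) b))
    generalize HopfRep.Comod.coact (k := k) (A := A) b = t
    induction t using TensorProduct.induction_on with
    | zero => simp
    | add p q hp hq => simp only [map_add, hp, hq]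
    | tmul c a => simp [Groth.Agent.Et18.Rosenlicht.evR_tmul]
  have hact : ∀ (φ : A →ₐ[k] k) (b : B),
      HopfRep.Comod.act k A B φ b = Groth.Agent.HopfLib.hit φ.toLinearMap b := by
    intro φ b
    show TensorProduct.rid k B (LinearMap.lTensor B φ.toLinearMap (HopfRep.Comod.coact (k := k) (A := A) b)) =
      Groth.Agent.HopfLib.sliceR φ.toLinearMap (HopfRep.Comod.coact (k := k) (A := A) b)
    generalize HopfRep.Comod.coact (k := k) (A := A) b = t
    induction t using TensorProduct.induction_on with
    | zero => simp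
    | add p q hp hq => simp only [map_add, hp, hq]
    | tmul c a => simp
  let inv : (A →ₐ[k] k) → (A →ₐ[k] k) := fun φ => φ.comp (HopfAlgebra.antipodeAlgHom k A)
  have hinvact : ∀ φ b, E φ (E (inv φ) b) = b := by
    intro φ b
    rw [hE, hE, hact, hact, Groth.Agent.HopfLib.hit_hit]
    suffices h : Groth.Agent.HopfLib.formMul φ.toLinearMap (inv φ).toLinearMap = Coalgebra.counit (R := k) (A := A) by
      rw [h]; exact Groth.Agent.HopfLib.hit_counit b
    refine LinearMap.ext fun a => ?_
    have h1 : ∀ t : A ⊗[k] A, LinearMap.mul' k k (TensorProduct.map φ.toLinearMap (inv φ).toLinearMap t) =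
        φ (LinearMap.mul' k A ((HopfAlgebraStruct.antipode k).lTensor A t)) := by
      intro t
      induction t using TensorProduct.induction_on with
      | zero => simp
      | add p q hp hq => simp only [map_add, hp, hq]
      | tmul x y => simp [inv]
    show LinearMap.mul' k k (TensorProduct.map φ.toLinearMap (inv φ).toLinearMap
      (Coalgebra.comul (R := k) a)) = _
    rw [h1, HopfAlgebra.mul_antipode_lTensor_comul_apply, AlgHom.commutes]
    rfl
  have hEinj : ∀ φ, Function.Injective (E φ) := by
    intro φ x y hxy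
    have hii : ∀ b, E (inv φ) (E (inv (inv φ)) b) = b := hinvact (inv φ)
    have hsurj : ∀ b, E (inv (inv φ)) b = E φ b := fun b => by
      conv_lhs => rw [← hinvact φ (E (inv (inv φ)) b), hii b]
    have := congrArg (E (inv φ)) hxy
    rwa [← hsurj x, ← hsurj y, hii, hii] at this
  -- reduced factors
  obtain ⟨g₀, f₀, d, hrel, hdg, hdf⟩ := UniqueFactorizationMonoid.exists_reduced_factors g hg f
  have hd : d ≠ 0 := fun h => hg (by rw [← hdg, h, zero_mul])
  have hg₀ : g₀ ≠ 0 := fun h => hg (by rw [← hdg, h, mul_zero])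
  have hinv₀ : ∀ φ, E φ f₀ * g₀ = f₀ * E φ g₀ := by
    intro φ
    have h := hinv φ
    rw [← hE, ← hE, ← hdg, ← hdf, map_mul, map_mul] at h
    have hne : E φ d * d ≠ 0 := mul_ne_zero (fun h0 => hd (hEinj φ (h0.trans (map_zero _).symm))) hd
    apply mul_left_cancel₀ hne
    linear_combination h
  have hdvd : ∀ φ, g₀ ∣ E φ g₀ := fun φ =>
    hrel.dvd_of_dvd_mul_left ⟨E φ f₀, by rw [← hinv₀ φ, mul_comm]⟩
  -- the multiplier as an element of `B ⊗ A`
  let ρ := GLin.coactAlgHom k A B
  have hρ : ∀ φ, Groth.Agent.Et18.Rosenlicht.evR (K := k) B φ (ρ g₀) = E φ g₀ := fun φ => rfl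
  obtain ⟨w, hw⟩ : ∃ w : B ⊗[k] A, ρ g₀ = (g₀ ⊗ₜ 1) * w := by
    let q := (Ideal.Quotient.mkₐ k (Ideal.span {g₀}))
    have hz : LinearMap.rTensor A q.toLinearMap (ρ g₀) = 0 := by
      refine hsepT _ _ fun ψ => ?_
      have key : ∀ y : B ⊗[k] A, Groth.Agent.Et18.Rosenlicht.evR (K := k) (B ⧸ Ideal.span {g₀}) ψ
          (LinearMap.rTensor A q.toLinearMap y) = q (Groth.Agent.Et18.Rosenlicht.evR (K := k) B ψ y) := by
        intro y
        induction y using TensorProduct.induction_on with
        | zero => simp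
        | add p r hp hr => simp only [map_add, hp, hr]
        | tmul c a => simp [Groth.Agent.Et18.Rosenlicht.evR_tmul]
      rw [key, hρ]
      exact Ideal.Quotient.eq_zero_iff_mem.2 (Ideal.mem_span_singleton.2 (hdvd ψ))
    have hex : Function.Exact (LinearMap.mulLeft k g₀) q.toLinearMap := fun c => by
      show q c = 0 ↔ c ∈ Set.range (fun x => g₀ * x)
      rw [show q c = Ideal.Quotient.mk _ c from rfl, Ideal.Quotient.eq_zero_iff_mem, Ideal.mem_span_singleton]
      exact ⟨fun ⟨x, hx⟩ => ⟨x, hx.symm⟩, fun ⟨x, hx⟩ => ⟨x, hx.symm⟩⟩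
    obtain ⟨w, hw⟩ := ((rTensor_exact A hex (Ideal.Quotient.mkₐ_surjective k _)) (ρ g₀)).1 hz
    refine ⟨w, hw.symm.trans ?_⟩
    have key : ∀ y : B ⊗[k] A, LinearMap.rTensor A (LinearMap.mulLeft k g₀) y = (g₀ ⊗ₜ 1) * y := by
      intro y
      induction y using TensorProduct.induction_on with
      | zero => simp
      | add p r hp hr => simp only [map_add, mul_add, hp, hr]
      | tmul c a => simp
    exact key w
  let W : (A →ₐ[k] k) → B := fun φ => Groth.Agent.Et18.Rosenlicht.evR (K := k) B φ w
  have hW : ∀ φ, E φ g₀ = g₀ * W φ := fun φ => by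
    rw [← hρ, hw, map_mul, Groth.Agent.Et18.Rosenlicht.evR_tmul, map_one, one_smul]
  have hWu : ∀ φ, IsUnit (W φ) := by
    intro φ
    refine IsUnit.of_mul_eq_one (E φ (W (inv φ))) (mul_left_cancel₀ hg₀ ?_)
    rw [← mul_assoc, ← hW, ← map_mul, ← hW, hinvact, mul_one]
  have hwu : IsUnit w := by
    by_contra hnu
    obtain ⟨M, hM, hwM⟩ := Ideal.exists_le_maximal (Ideal.span {w}) (fun h => hnu (Ideal.span_singleton_eq_top.1 h))
    haveI : Algebra.FiniteType k (B ⊗[k] A) := Algebra.FiniteType.trans (S := B) inferInstance inferInstance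
    obtain ⟨π, hπ⟩ := hres (B ⊗[k] A) M hM
    let x : B →ₐ[k] k := π.comp Algebra.TensorProduct.includeLeft
    let ψ : A →ₐ[k] k := π.comp Algebra.TensorProduct.includeRight
    have key : ∀ y : B ⊗[k] A, x (Groth.Agent.Et18.Rosenlicht.evR (K := k) B ψ y) = π y := by
      intro y
      induction y using TensorProduct.induction_on with
      | zero => simp
      | add p r hp hr => simp only [map_add, hp, hr]
      | tmul c a =>
        rw [Groth.Agent.Et18.Rosenlicht.evR_tmul, map_smul, smul_eq_mul, mul_comm]
        show π (c ⊗ₜ 1) * π (1 ⊗ₜ a) = π (c ⊗ₜ a)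
        rw [← map_mul, Algebra.TensorProduct.tmul_mul_tmul, mul_one, one_mul]
    have h0 : x (W ψ) = 0 := (key w).trans (hπ w (hwM (Ideal.mem_span_singleton_self w)))
    exact not_isUnit_zero (h0 ▸ (hWu ψ).map x)
  obtain ⟨w', hww'⟩ := hwu.exists_right_inv
  obtain ⟨Mx, hMx⟩ := Ideal.exists_maximal B
  obtain ⟨x₀, -⟩ := hres B Mx hMx
  have hW1 : W (Bialgebra.counitAlgHom k A) = 1 := by
    refine mul_left_cancel₀ hg₀ ?_
    rw [← hW, hE, hact, mul_one]
    exact Groth.Agent.HopfLib.hit_counit g₀
  have hconst : ∀ ψ, W ψ = algebraMap k B (x₀ (W ψ)) := by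
    intro ψ
    refine sub_eq_zero.1 (hsep B _ fun x => ?_)
    have h := Groth.Agent.Et18.Rosenlicht.cross_ratio k hww' x x₀ ψ (Bialgebra.counitAlgHom k A)
    change x (W ψ) * x₀ (W (Bialgebra.counitAlgHom k A)) = x (W (Bialgebra.counitAlgHom k A)) * x₀ (W ψ) at h
    rw [hW1, map_one, map_one, mul_one, one_mul] at h
    rw [map_sub, AlgHom.commutes, h]
    exact sub_self _
  let a : A := (Algebra.TensorProduct.lift ((Algebra.ofId k A).comp x₀) (AlgHom.id k A)
    (fun _ _ => Commute.all _ _)) w
  have hψa : ∀ ψ : A →ₐ[k] k, ψ a = x₀ (W ψ) := by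
    intro ψ
    have key : ∀ y : B ⊗[k] A, ψ (Algebra.TensorProduct.lift ((Algebra.ofId k A).comp x₀) (AlgHom.id k A)
        (fun _ _ => Commute.all _ _) y) = x₀ (Groth.Agent.Et18.Rosenlicht.evR (K := k) B ψ y) := by
      intro y
      induction y using TensorProduct.induction_on with
      | zero => simp
      | add p r hp hr => simp only [map_add, hp, hr]
      | tmul c a => simp [Groth.Agent.Et18.Rosenlicht.evR_tmul, mul_comm]
    exact key w
  have hEa : ∀ ψ, E ψ g₀ = ψ a • g₀ := fun ψ => by
    rw [hW, hconst ψ, hψa, Algebra.smul_def, mul_comm]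
  have hcancel : ∀ c c' : k, c • g₀ = c' • g₀ → c = c' := fun c c' h => by
    have : (c - c') • g₀ = 0 := by rw [sub_smul, h, sub_self]
    exact sub_eq_zero.1 ((smul_eq_zero.1 this).resolve_right hg₀)
  have ha : a = 1 := by
    refine hchar a ⟨?_, ?_⟩
    · apply hcancel
      rw [one_smul]
      refine ((hEa (Bialgebra.counitAlgHom k A)).symm).trans ?_
      rw [hE, hact]
      exact Groth.Agent.HopfLib.hit_counit g₀
    · refine sub_eq_zero.1 (hsepT A _ fun ψ => hsep A _ fun χ => ?_)
      rw [map_sub, map_sub, sub_eq_zero, Groth.Agent.Et18.Rosenlicht.evR_tmul, map_smul, smul_eq_mul]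
      have key : ∀ y : A ⊗[k] A, χ (Groth.Agent.Et18.Rosenlicht.evR (K := k) A ψ y) =
          LinearMap.mul' k k (TensorProduct.map χ.toLinearMap ψ.toLinearMap y) := by
        intro y
        induction y using TensorProduct.induction_on with
        | zero => simp
        | add p r hp hr => simp only [map_add, hp, hr]
        | tmul c a => simp [Groth.Agent.Et18.Rosenlicht.evR_tmul, mul_comm]
      rw [key]
      apply hcancel
      have h2 : E χ (E ψ g₀) = (Groth.Agent.HopfLib.formMul χ.toLinearMap ψ.toLinearMap a) • g₀ := by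
        rw [hE, hE, hact, hact, Groth.Agent.HopfLib.hit_hit]
        have : Groth.Agent.HopfLib.hit (Groth.Agent.HopfLib.formMul χ.toLinearMap ψ.toLinearMap) g₀ =
            (Groth.Agent.HopfLib.formMul χ.toLinearMap ψ.toLinearMap a) • g₀ := by
          have hρa : HopfRep.Comod.coact (k := k) (A := A) g₀ = g₀ ⊗ₜ[k] a := by
            refine sub_eq_zero.1 (hsepT B _ fun φ => ?_)
            rw [map_sub, Groth.Agent.Et18.Rosenlicht.evR_tmul]
            exact sub_eq_zero.2 (hEa φ)
          rw [Groth.Agent.HopfLib.hit_apply, hρa, Groth.Agent.HopfLib.sliceR_tmul]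
        exact this
      rw [hEa ψ, map_smul, hEa χ, smul_smul] at h2
      refine h2.symm.trans ?_
      congr 1
  have hgfix : ∀ φ, E φ g₀ = g₀ := fun φ => by rw [hEa, ha, map_one, one_smul]
  refine ⟨f₀, g₀, fun φ => ?_, fun φ => by rw [← hE, hgfix], hg₀, ?_⟩
  · rw [← hE]
    have h := hinv₀ φ
    rw [hgfix] at h
    exact mul_right_cancel₀ hg₀ h
  · rw [← hdg, ← hdf]; ring

end Groth.Agent.S15702
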