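import Groth.Statements.S15704
import Groth.Agent.AGFQuot23.StableBirat

set_option autoImplicit false
set_option linter.style.haveILetI false
set_option backward.isDefEq.respectTransparency.types false
set_option maxHeartbeats 1000000
universe u
open CategoryTheory CategoryTheory.Limits MonoidalCategory CartesianMonoidalCategory MonObj GrpObj AlgebraicGeometry
open AGF

namespace Groth.Agent.S15704

/-- Let G be a linear algebraic group over a field k of characteristic zero, contained as a closed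
subgroup in two special groups G₁, G₂ whose underlying varieties are k-rational; then G₁/G and G₂/G
are stably k-birationally equivalent. Here G, G₁, G₂ are affine group schemes of finite type over k
with homomorphic closed immersions G → G_j; 'special' is spelled out: for every action of G_j on a
k-scheme X of finite type and every faithfully flat k-morphism p : X → Y to a k-scheme of finite
type such that (g, x) ↦ (g·x, x) makes G_j × X the fibre product X ×_Y X, every point of Y has an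
open neighbourhood over which p has a section; 'k-rational' is birationality over k with an affine
space; Q_j with its G_j-action and base point is a quotient G_j/G; the conclusion is that Q₁ ×_k
Spec k[x_1, ..., x_r] and Q₂ ×_k Spec k[x_1, ..., x_s] are birational over k for some r, s. -/
theorem result (k : Type u) [Field k] [CharZero k]
    (G G₁ G₂ : Over (Spec (CommRingCat.of k))) [GrpObj G] [GrpObj G₁] [GrpObj G₂]
    [IsAffine G.left] [IsAffine G₁.left] [IsAffine G₂.left]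
    [LocallyOfFiniteType G.hom] [LocallyOfFiniteType G₁.hom] [LocallyOfFiniteType G₂.hom]
    (i₁ : G ⟶ G₁) (i₂ : G ⟶ G₂) [IsMonHom i₁] [IsMonHom i₂]
    [IsClosedImmersion i₁.left] [IsClosedImmersion i₂.left]
    (hsp₁ : (∀ (X' Y' : Over (Spec (CommRingCat.of k))) (a : AlgGrp.Action G₁ X') (p : X' ⟶ Y'),
      LocallyOfFiniteType X'.hom → QuasiCompact X'.hom → LocallyOfFiniteType Y'.hom → QuasiCompact Y'.hom →
      Flat p.left → Surjective p.left → IsPullback a.act.left (snd G₁ X').left p.left p.left →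
      ∀ y : ↥Y'.left, ∃ (W : Y'.left.Opens) (s : (W : Scheme.{u}) ⟶ X'.left), y ∈ W ∧ s ≫ p.left = W.ι))
    (hsp₂ : (∀ (X' Y' : Over (Spec (CommRingCat.of k))) (a : AlgGrp.Action G₂ X') (p : X' ⟶ Y'),
      LocallyOfFiniteType X'.hom → QuasiCompact X'.hom → LocallyOfFiniteType Y'.hom → QuasiCompact Y'.hom →
      Flat p.left → Surjective p.left → IsPullback a.act.left (snd G₂ X').left p.left p.left →
      ∀ y : ↥Y'.left, ∃ (W : Y'.left.Opens) (s : (W : Scheme.{u}) ⟶ X'.left), y ∈ W ∧ s ≫ p.left = W.ι))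
    [Scheme.IsRationalOver G₁.hom] [Scheme.IsRationalOver G₂.hom]
    (Q₁ Q₂ : Over (Spec (CommRingCat.of k))) (a₁ : AlgGrp.Action G₁ Q₁) (a₂ : AlgGrp.Action G₂ Q₂)
    (o₁ : 𝟙_ (Over (Spec (CommRingCat.of k))) ⟶ Q₁) (o₂ : 𝟙_ (Over (Spec (CommRingCat.of k))) ⟶ Q₂)
    (hQ₁ : AGF.IsQuotient i₁ Q₁ a₁ o₁) (hQ₂ : AGF.IsQuotient i₂ Q₂ a₂ o₂) :
    ∃ r s : ℕ, Scheme.BirationalOver
      (pullback.fst Q₁.hom (Spec.map (CommRingCat.ofHom (algebraMap k (MvPolynomial (Fin r) k)))) ≫ Q₁.hom)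
      (pullback.fst Q₂.hom (Spec.map (CommRingCat.ofHom (algebraMap k (MvPolynomial (Fin s) k)))) ≫ Q₂.hom) := by
  haveI : QuasiCompact G.hom := inferInstance
  let P := G₁ ⊗ G₂
  haveI : IsAffine P.left := inferInstanceAs (IsAffine (Limits.pullback G₁.hom G₂.hom))
  haveI : LocallyOfFiniteType P.hom :=
    inferInstanceAs (LocallyOfFiniteType (Limits.pullback.fst G₁.hom G₂.hom ≫ G₁.hom))
  let d : G ⟶ P := lift i₁ i₂
  haveI : IsMonHom d := inferInstance
  haveI : Mono i₁ := Over.mono_of_mono_left i₁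
  haveI : Mono i₂ := Over.mono_of_mono_left i₂
  haveI : Mono d := by
    haveI : Mono (d ≫ fst G₁ G₂) := by rw [lift_fst]; infer_instance
    exact mono_of_mono d (fst G₁ G₂)
  obtain ⟨Y, b, o, hY, hYc, hYf, hYs, sqY⟩ := Groth.Agent.GrpQLib.exists_quotient_affine P G d
  haveI := hY; haveI := hYc; haveI := hYf; haveI := hYs
  haveI hlfp : ∀ {A B : Over (Spec (CommRingCat.of k))} (q : A ⟶ B) [LocallyOfFiniteType A.hom]
      [LocallyOfFiniteType B.hom], LocallyOfFinitePresentation q.left := fun {A B} q _ _ => by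
    haveI : LocallyOfFinitePresentation (q.left ≫ B.hom) := by rw [Over.w q]; infer_instance
    exact Groth.Agent.H8Lim.lfp_cancel_right q.left B.hom
  have main : ∀ (A₁ A₂ R : Over (Spec (CommRingCat.of k))) [GrpObj A₁] [GrpObj A₂]
      [IsAffine A₁.left] [IsAffine A₂.left] [LocallyOfFiniteType A₁.hom] [LocallyOfFiniteType A₂.hom]
      [Scheme.IsRationalOver A₁.hom] [Scheme.IsRationalOver A₂.hom]
      (pr₁ : P ⟶ A₁) (pr₂ : P ⟶ A₂) [IsMonHom pr₁] [IsMonHom pr₂] (j₁ : G ⟶ A₁) (j₂ : G ⟶ A₂) [Mono j₁] [IsMonHom j₁],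
      d ≫ pr₁ = j₁ → d ≫ pr₂ = j₂ → Flat pr₁.left →
      ∀ (hext : ∀ {T : Over (Spec (CommRingCat.of k))} (x y : T ⟶ P), x ≫ pr₁ = y ≫ pr₁ → x ≫ pr₂ = y ≫ pr₂ → x = y)
      (inl : A₁ ⟶ P) (_ : inl ≫ pr₁ = 𝟙 A₁) (inr : A₂ ⟶ P) [IsMonHom inr] (_ : inr ≫ pr₁ = 1) (_ : inr ≫ pr₂ = 𝟙 A₂)
      (a : AlgGrp.Action A₁ R) (oR : 𝟙_ (Over (Spec (CommRingCat.of k))) ⟶ R), AGF.IsQuotient j₁ R a oR →
      (∀ (X' Y' : Over (Spec (CommRingCat.of k))) (c : AlgGrp.Action A₂ X') (p : X' ⟶ Y'),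
        LocallyOfFiniteType X'.hom → QuasiCompact X'.hom → LocallyOfFiniteType Y'.hom → QuasiCompact Y'.hom →
        Flat p.left → Surjective p.left → IsPullback c.act.left (snd A₂ X').left p.left p.left →
        ∀ y : ↥Y'.left, ∃ (W : Y'.left.Opens) (s : (W : Scheme.{u}) ⟶ X'.left), y ∈ W ∧ s ≫ p.left = W.ι) →
      ∃ r : ℕ, Scheme.BirationalOver Y.hom
        (Limits.pullback.fst R.hom (Spec.map (CommRingCat.ofHom (algebraMap k (MvPolynomial (Fin r) k)))) ≫ R.hom) := by
    intro A₁ A₂ R _ _ _ _ _ _ _ _ pr₁ pr₂ _ _ j₁ j₂ _ _ hj1 hj2 hfl hext inl hinl inr _ hr1 hr2 a oR hR hsp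
    obtain ⟨hRft, hRf, hRs, sqR⟩ := hR
    haveI := hRft; haveI := hRf; haveI := hRs; haveI := hfl
    haveI := hlfp (b.orbitMap o)
    obtain ⟨act, f, hf, sq⟩ := AGFQuot23.StableBirat.exists_torsor pr₁ pr₂ hext inr hr1 hr2 j₁ j₂ d hj1 hj2 b o sqY a oR sqR
    haveI : Surjective pr₁.left := ⟨fun x => ⟨inl.left x, by
      have := congrArg (fun φ : A₁ ⟶ A₁ => φ.left x) hinl
      simpa using this⟩⟩
    have hf' : (b.orbitMap o).left ≫ f.left = pr₁.left ≫ (a.orbitMap oR).left := congrArg CommaMorphism.left hf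
    haveI : Surjective f.left := by
      haveI : Surjective ((b.orbitMap o).left ≫ f.left) := by rw [hf']; infer_instance
      exact Surjective.of_comp (b.orbitMap o).left f.left
    haveI : Flat f.left := by
      haveI : Flat ((b.orbitMap o).left ≫ f.left) := by rw [hf']; infer_instance
      exact Groth.Agent.FlatLocal.flat_of_comp (b.orbitMap o).left f.left
    haveI : QuasiCompact R.hom := by
      have : CompactSpace R.left := ⟨by
        rw [← Set.range_eq_univ.2 (a.orbitMap oR).left.surjective]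
        exact isCompact_range (a.orbitMap oR).left.continuous⟩
      exact HasAffineProperty.iff_of_isAffine.mpr this
    obtain ⟨hA1, r1, hb1⟩ := AGFQuot23.StableBirat.exists_fin_affine A₁.hom
    obtain ⟨hA2, r2, hb2⟩ := AGFQuot23.StableBirat.exists_fin_affine A₂.hom
    haveI := hA1
    let y₀ : R.left := (a.orbitMap oR).left (Classical.arbitrary A₁.left)
    obtain ⟨W, s, hy, hs⟩ := hsp Y R act f inferInstance inferInstance inferInstance inferInstance inferInstance inferInstance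
      (sq.map (Over.forget _)) y₀
    haveI := hlfp f
    have hW := AGFQuot23.StableBirat.isDense_of_irreducible (a.orbitMap oR) W ⟨y₀, hy⟩
    refine ⟨r2, ?_⟩
    refine (AGFQuot23.StableBirat.birationalOver_torsor act f sq f.left.isOpenMap W hW s hs).trans ?_
    refine (AGFQuot23.StableBirat.birationalOver_prod R.hom hb2).trans ?_
    exact AGFQuot23.StableBirat.birationalOver_prod_symm _ R.hom
  haveI : Flat (fst G₁ G₂).left := inferInstanceAs (Flat (Limits.pullback.fst G₁.hom G₂.hom))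
  haveI : Flat (snd G₁ G₂).left := inferInstanceAs (Flat (Limits.pullback.snd G₁.hom G₂.hom))
  have one_hom' : ∀ {A B : Over (Spec (CommRingCat.of k))} [GrpObj A] [GrpObj B], IsMonHom (1 : A ⟶ B) := by
    intro A B _ _
    refine ⟨?_, ?_⟩
    · rw [MonObj.comp_one, Hom.one_def, toUnit_unique (toUnit (𝟙_ _)) (𝟙 _), Category.id_comp]
    · rw [MonObj.comp_one]
      have : ((1 : A ⟶ B) ⊗ₘ (1 : A ⟶ B)) = lift (1 : A ⊗ A ⟶ B) 1 := by
        ext <;> simp
      rw [this, ← Hom.mul_def, _root_.one_mul]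
  haveI := one_hom' (A := G₂) (B := G₁)
  haveI := one_hom' (A := G₁) (B := G₂)
  obtain ⟨r, hr⟩ := main G₁ G₂ Q₁ (fst G₁ G₂) (snd G₁ G₂) i₁ i₂ (lift_fst _ _) (lift_snd _ _) inferInstance
    (fun x y h1 h2 => CartesianMonoidalCategory.hom_ext _ _ h1 h2) (lift (𝟙 G₁) 1) (lift_fst _ _)
    (lift 1 (𝟙 G₂)) (lift_fst _ _) (lift_snd _ _) a₁ o₁ hQ₁ hsp₂
  obtain ⟨s, hs⟩ := main G₂ G₁ Q₂ (snd G₁ G₂) (fst G₁ G₂) i₂ i₁ (lift_snd _ _) (lift_fst _ _) inferInstance
    (fun x y h1 h2 => CartesianMonoidalCategory.hom_ext _ _ h2 h1) (lift 1 (𝟙 G₂)) (lift_snd _ _)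
    (lift (𝟙 G₁) 1) (lift_snd _ _) (lift_fst _ _) a₂ o₂ hQ₂ hsp₁
  exact ⟨r, s, hr.symm.trans hs⟩

end Groth.Agent.S15704
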