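import Groth.Statements.S15705
import Groth.Agent.HopfLib.Comod
import Groth.Agent.Et18.RosenlichtAlg
import Mathlib.RingTheory.UniqueFactorizationDomain.Basic
import Mathlib.RingTheory.AlgebraicIndependent.TranscendenceBasis
import Mathlib.Algebra.Group.Subgroup.Finsupp
set_option backward.isDefEq.respectTransparency.types false

set_option autoImplicit false
universe u
open GLin
open scoped TensorProduct

namespace Groth.Agent.S15705

/-- Let k be algebraically closed of characteristic zero, G a linear algebraic group and X a factorial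
affine G-variety with k[X]* = k*; then there is a G-invariant affine open U of X such that the field
of G-invariant rational functions is the fraction field of k[U]^G. In coordinate-ring form: A is a
commutative Hopf algebra of finite type over k coacting by an algebra map on B, a finitely generated
k-algebra which is a domain and a unique factorisation monoid all of whose units are scalars;
k-points φ : A →ₐ[k] k of G act on B through the coaction. Conclusion: there is h ≠ 0 in B with D(h)
stable under every φ (φ·h divides a power of h) such that whenever a, b ∈ B, b ≠ 0, satisfy (φ·a) b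
= a (φ·b) for all φ (the fraction a/b is invariant), there are c, d ∈ B and exponents r, t with d ≠
0, with c/h^r and d/h^t invariant in B[1/h] — that is (φ·c) h^r = c (φ·h)^r and (φ·d) h^t = d
(φ·h)^t for all φ — and a d h^r = b c h^t (so a/b = (c/h^r)/(d/h^t)). -/
theorem result (k : Type u) [Field k] [IsAlgClosed k] [CharZero k]
    (A : Type u) [CommRing A] [HopfAlgebra k A] [Algebra.FiniteType k A]
    (B : Type u) [CommRing B] [Algebra k B] [Algebra.FiniteType k B] [IsDomain B] [UniqueFactorizationMonoid B]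
    (hunits : ∀ u : Bˣ, ∃ c : k, algebraMap k B c = u)
    [HopfRep.Comod k A B] [GLin.IsCoactAlg k A B] :
    ∃ h : B, h ≠ 0 ∧ (∀ φ : A →ₐ[k] k, ∃ (N : ℕ) (u : B), HopfRep.Comod.act k A B φ h * u = h ^ N) ∧
      ∀ a b : B, b ≠ 0 → (∀ φ : A →ₐ[k] k, HopfRep.Comod.act k A B φ a * b = a * HopfRep.Comod.act k A B φ b) →
        ∃ (c d : B) (r t : ℕ), d ≠ 0 ∧
          (∀ φ : A →ₐ[k] k, HopfRep.Comod.act k A B φ c * h ^ r = c * (HopfRep.Comod.act k A B φ h) ^ r) ∧
          (∀ φ : A →ₐ[k] k, HopfRep.Comod.act k A B φ d * h ^ t = d * (HopfRep.Comod.act k A B φ h) ^ t) ∧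
          a * d * h ^ r = b * c * h ^ t := by
  classical
  -- the action of a point is an algebra endomorphism
  let E : (A →ₐ[k] k) → (B →ₐ[k] B) := fun φ =>
    ((Groth.Agent.Et18.Rosenlicht.evR (K := k) B φ).restrictScalars k).comp (GLin.coactAlgHom k A B)
  have hE : ∀ φ b, E φ b = HopfRep.Comod.act k A B φ b := by
    intro φ b
    show Groth.Agent.Et18.Rosenlicht.evR (K := k) B φ (HopfRep.Comod.coact (k := k) (A := A) b) =
      TensorProduct.rid k B (LinearMap.lTensor B φ.toLinearMap (HopfRep.Comod.coact (k := k) (A := A) b))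
    generalize HopfRep.Comod.coact (k := k) (A := A) b = t
    induction t using TensorProduct.induction_on with
    | zero => simp
    | add p q hp hq => simp only [map_add, hp, hq]
    | tmul c a => simp [Groth.Agent.Et18.Rosenlicht.evR_tmul]
  have hact : ∀ (φ : A →ₐ[k] k) (b : B),
      HopfRep.Comod.act k A B φ b = Groth.Agent.HopfLib.hit φ.toLinearMap b := by
    intro φ b
    show TensorProduct.rid k B (LinearMap.lTensor B φ.toLinearMap (HopfRep.Comod.coact (k := k) (A := A) b)) =
      Groth.Agent.HopfLib.sliceR φ.toLinearMap (HopfRep.Comod.coact (k := k) (A := A) b)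
    generalize HopfRep.Comod.coact (k := k) (A := A) b = t
    induction t using TensorProduct.induction_on with
    | zero => simp
    | add p q hp hq => simp only [map_add, hp, hq]
    | tmul c a => simp
  let inv : (A →ₐ[k] k) → (A →ₐ[k] k) := fun φ => φ.comp (HopfAlgebra.antipodeAlgHom k A)
  have hinvact : ∀ φ b, E φ (E (inv φ) b) = b := by
    intro φ b
    rw [hE, hE, hact, hact, Groth.Agent.HopfLib.hit_hit]
    suffices h : Groth.Agent.HopfLib.formMul φ.toLinearMap (inv φ).toLinearMap = Coalgebra.counit (R := k) (A := A) by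
      rw [h]; exact Groth.Agent.HopfLib.hit_counit b
    refine LinearMap.ext fun a => ?_
    have h1 : ∀ t : A ⊗[k] A, LinearMap.mul' k k (TensorProduct.map φ.toLinearMap (inv φ).toLinearMap t) =
        φ (LinearMap.mul' k A ((HopfAlgebraStruct.antipode k).lTensor A t)) := by
      intro t
      induction t using TensorProduct.induction_on with
      | zero => simp
      | add p q hp hq => simp only [map_add, hp, hq]
      | tmul x y => simp [inv]
    show LinearMap.mul' k k (TensorProduct.map φ.toLinearMap (inv φ).toLinearMap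
      (Coalgebra.comul (R := k) a)) = _
    rw [h1, HopfAlgebra.mul_antipode_lTensor_comul_apply, AlgHom.commutes]
    rfl
  have hEinj : ∀ φ, Function.Injective (E φ) := by
    intro φ x y hxy
    have hii : ∀ b, E (inv φ) (E (inv (inv φ)) b) = b := hinvact (inv φ)
    have hsurj : ∀ b, E (inv (inv φ)) b = E φ b := fun b => by
      conv_lhs => rw [← hinvact φ (E (inv (inv φ)) b), hii b]
    have := congrArg (E (inv φ)) hxy
    rwa [← hsurj x, ← hsurj y, hii, hii] at this
  -- semi-invariants
  let Γ := (A →ₐ[k] k) → kˣ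
  let Eig : B → Γ → Prop := fun b χ => b ≠ 0 ∧ ∀ φ, E φ b = (χ φ : k) • b
  have eig_one : Eig 1 1 := ⟨one_ne_zero, fun φ => by rw [map_one]; exact (one_smul k (1 : B)).symm⟩
  have eig_mul : ∀ {b χ b' χ'}, Eig b χ → Eig b' χ' → Eig (b * b') (χ * χ') := fun hb hb' =>
    ⟨mul_ne_zero hb.1 hb'.1, fun φ => by rw [map_mul, hb.2, hb'.2, smul_mul_smul_comm]; rfl⟩
  have eig_pow : ∀ {b χ} (n : ℕ), Eig b χ → Eig (b ^ n) (χ ^ n) := by
    intro b χ n h
    induction n with
    | zero => simpa using eig_one
    | succ n ih => rw [pow_succ, pow_succ]; exact eig_mul ih h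
  have eig_prod : ∀ {ι : Type} [Fintype ι] (b : ι → B) (χ : ι → Γ) (n : ι → ℕ), (∀ i, Eig (b i) (χ i)) →
      Eig (∏ i, b i ^ n i) (∏ i, χ i ^ n i) := by
    intro ι _ b χ n h
    induction (Finset.univ : Finset ι) using Finset.induction_on with
    | empty => simpa using eig_one
    | insert i s hi ih => rw [Finset.prod_insert hi, Finset.prod_insert hi]; exact eig_mul (eig_pow (n i) (h i)) ih
  -- eigenvectors with distinct characters are linearly independent
  have hli : ∀ {J : Type} (c : J → B) (χ : J → Γ), Function.Injective χ → (∀ j, Eig (c j) (χ j)) →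
      LinearIndependent k c := by
    intro J c χ hχ hc
    rw [linearIndependent_iff']
    intro s
    induction s using Finset.induction_on with
    | empty => simp
    | insert j s hj ih =>
      intro g hsum
      rw [Finset.sum_insert hj] at hsum
      have hs0 : ∀ i ∈ s, g i = 0 := by
        intro i hi
        have hne : χ i ≠ χ j := fun h => hj (hχ h ▸ hi)
        obtain ⟨φ, hφ⟩ := Function.ne_iff.1 hne
        have h2 := congrArg (E φ) hsum
        simp only [map_add, map_sum, map_smul, (hc _).2, map_zero] at h2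
        have h3 : ∑ l ∈ s, (g l * ((χ l φ : k) - (χ j φ : k))) • c l = 0 := by
          have h4 := congrArg ((χ j φ : k) • ·) hsum
          simp only [smul_add, smul_zero, Finset.smul_sum, smul_smul] at h4 h2
          simp only [mul_sub, sub_smul, Finset.sum_sub_distrib]
          rw [mul_comm (χ j φ : k) (g j)] at h4
          have h5 := h2.trans h4.symm
          rw [add_right_inj] at h5
          rw [sub_eq_zero, h5]
          exact Finset.sum_congr rfl fun l _ => by rw [mul_comm]
        have := ih _ h3 i hi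
        rcases mul_eq_zero.1 this with h | h
        · exact h
        · exact absurd (Units.ext (sub_eq_zero.1 h)) hφ
      intro i hi
      rcases Finset.mem_insert.1 hi with rfl | hi
      · rw [Finset.sum_eq_zero (fun l hl => by rw [hs0 l hl, zero_smul]), add_zero] at hsum
        exact (smul_eq_zero.1 hsum).resolve_right (hc i).1
      · exact hs0 i hi
  -- multiplicatively independent characters are bounded in number
  obtain ⟨N, hN⟩ : ∃ N : ℕ, ∀ (m : ℕ) (b : Fin m → B) (χ : Fin m → Γ), (∀ i, Eig (b i) (χ i)) →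
      Function.Injective (fun n : Fin m → ℕ => ∏ i, χ i ^ n i) → m ≤ N := by
    obtain ⟨N, hN⟩ := Cardinal.lt_aleph0.1 (trdeg_lt_aleph0_of_finiteType (R := k) (S := B))
    refine ⟨N, fun m b χ hb hinj => ?_⟩
    have hai : AlgebraicIndependent k b := by
      have h := hli (fun n : Fin m → ℕ => ∏ i, b i ^ n i) _ hinj (fun n => eig_prod b χ n hb)
      rw [algebraicIndependent_iff]
      intro p hp
      have h0 : ∑ d ∈ p.support, p.coeff d • (∏ i, b i ^ d i) = 0 := by
        rw [← hp, MvPolynomial.aeval_def, MvPolynomial.eval₂_eq']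
        exact Finset.sum_congr rfl fun d _ => Algebra.smul_def _ _
      have h' := h.comp (fun d : Fin m →₀ ℕ => (d : Fin m → ℕ)) DFunLike.coe_injective
      ext d
      by_cases hd : d ∈ p.support
      · simpa using linearIndependent_iff'.1 h' p.support (fun d => p.coeff d) h0 d hd
      · simpa using MvPolynomial.notMem_support_iff.1 hd
    have h1 := hai.lift_cardinalMk_le_trdeg
    rw [hN, Cardinal.mk_fin, Cardinal.lift_natCast, Cardinal.lift_natCast] at h1
    exact_mod_cast h1
  let S : Set ℕ := {m | ∃ (b : Fin m → B) (χ : Fin m → Γ), (∀ i, Eig (b i) (χ i)) ∧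
    Function.Injective (fun n : Fin m → ℕ => ∏ i, χ i ^ n i)}
  have hS0 : 0 ∈ S := ⟨Fin.elim0, Fin.elim0, fun i => i.elim0, fun n n' _ => funext fun i => i.elim0⟩
  have hSb : BddAbove S := ⟨N, fun m ⟨b, χ, h1, h2⟩ => hN m b χ h1 h2⟩
  obtain ⟨b₀, χ₀, hb₀, hinj₀⟩ := Nat.sSup_mem ⟨0, hS0⟩ hSb
  have hmax : ∀ (b : B) (χ : Γ), Eig b χ → ∃ (n : ℕ) (e : Fin (sSup S) → ℤ), 0 < n ∧ χ ^ n = ∏ i, χ₀ i ^ e i := by
    intro b χ hb
    by_contra hne
    have hmem : sSup S + 1 ∈ S := by
      refine ⟨Fin.snoc b₀ b, Fin.snoc χ₀ χ, fun i => ?_, fun n n' h => ?_⟩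
      · refine Fin.lastCases ?_ (fun j => ?_) i
        · simpa using hb
        · simpa using hb₀ j
      · simp only [Fin.prod_univ_castSucc, Fin.snoc_castSucc, Fin.snoc_last] at h
        rcases lt_trichotomy (n (Fin.last _)) (n' (Fin.last _)) with hl | hl | hl
        · refine absurd ⟨n' (Fin.last _) - n (Fin.last _), fun i => (n i.castSucc : ℤ) - n' i.castSucc,
            Nat.sub_pos_of_lt hl, ?_⟩ hne
          rw [pow_sub χ hl.le]
          simp only [zpow_sub, zpow_natCast, Finset.prod_mul_distrib, Finset.prod_inv_distrib]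
          rw [eq_mul_inv_iff_mul_eq, mul_assoc, mul_comm _ (∏ i, χ₀ i ^ n' i.castSucc), ← mul_assoc,
            mul_inv_eq_iff_eq_mul, h, mul_comm]
        · rw [hl, mul_left_inj] at h
          have := hinj₀ h
          funext i
          exact Fin.lastCases hl (fun j => congrFun this j) i
        · refine absurd ⟨n (Fin.last _) - n' (Fin.last _), fun i => (n' i.castSucc : ℤ) - n i.castSucc,
            Nat.sub_pos_of_lt hl, ?_⟩ hne
          rw [pow_sub χ hl.le]
          simp only [zpow_sub, zpow_natCast, Finset.prod_mul_distrib, Finset.prod_inv_distrib]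
          rw [eq_mul_inv_iff_mul_eq, mul_assoc, mul_comm _ (∏ i, χ₀ i ^ n i.castSucc), ← mul_assoc,
            mul_inv_eq_iff_eq_mul, ← h, mul_comm]
    have := le_csSup hSb hmem
    omega
  let h := ∏ i, b₀ i ^ 1
  let χh : Γ := ∏ i, χ₀ i ^ 1
  have hh : Eig h χh := eig_prod b₀ χ₀ (fun _ => 1) hb₀
  refine ⟨h, hh.1, fun φ => ⟨1, algebraMap k B ((χh φ : k)⁻¹), ?_⟩, fun a b hb hab => ?_⟩
  · rw [← hE, hh.2, pow_one, Algebra.smul_def, mul_right_comm, ← map_mul, mul_inv_cancel₀ (Units.ne_zero _),
      map_one, one_mul]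
  -- reduced factors
  obtain ⟨b', a', d, hrel, hdb, hda⟩ := UniqueFactorizationMonoid.exists_reduced_factors b hb a
  have hd : d ≠ 0 := fun h => hb (by rw [← hdb, h, zero_mul])
  have hb' : b' ≠ 0 := fun h => hb (by rw [← hdb, h, mul_zero])
  have hinv₀ : ∀ φ, E φ a' * b' = a' * E φ b' := by
    intro φ
    have h := hab φ
    rw [← hE, ← hE, ← hdb, ← hda, map_mul, map_mul] at h
    have hne : E φ d * d ≠ 0 := mul_ne_zero (fun h0 => hd (hEinj φ (h0.trans (map_zero _).symm))) hd
    apply mul_left_cancel₀ hne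
    linear_combination h
  have hdvd : ∀ φ, b' ∣ E φ b' := fun φ =>
    hrel.dvd_of_dvd_mul_left ⟨E φ a', by rw [← hinv₀ φ, mul_comm]⟩
  have hsc : ∀ φ, ∃ c : kˣ, E φ b' = (c : k) • b' := by
    intro φ
    obtain ⟨w, hw⟩ := hdvd φ
    obtain ⟨w', hw'⟩ := hdvd (inv φ)
    have hwu : IsUnit w := by
      refine IsUnit.of_mul_eq_one (E φ w') (mul_left_cancel₀ hb' ?_)
      rw [← mul_assoc, ← hw, ← map_mul, ← hw', hinvact, mul_one]
    obtain ⟨c, hc⟩ := hunits hwu.unit
    have hc0 : c ≠ 0 := fun h0 => hwu.ne_zero (by rw [← hwu.unit_spec, ← hc, h0, map_zero])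
    refine ⟨Units.mk0 c hc0, ?_⟩
    rw [hw, Units.val_mk0, Algebra.smul_def, hc, hwu.unit_spec, mul_comm]
  choose χ hχ using hsc
  have hbeig : Eig b' χ := ⟨hb', hχ⟩
  have haeig : ∀ φ, E φ a' = (χ φ : k) • a' := fun φ => by
    refine mul_right_cancel₀ hb' ?_
    rw [hinv₀ φ, hχ, mul_smul_comm, smul_mul_assoc]
  obtain ⟨n, e, hn, he⟩ := hmax b' χ hbeig
  obtain ⟨t, ht⟩ : ∃ t : ℕ, ∀ i, e i ≤ t :=
    ⟨Finset.univ.sup fun i => (e i).toNat,
      fun i => Int.self_le_toNat (e i) |>.trans (by exact_mod_cast Finset.le_sup (f := fun i => (e i).toNat) (Finset.mem_univ i))⟩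
  let q := b' ^ (n - 1) * ∏ i, b₀ i ^ ((t : ℤ) - e i).toNat
  let χq : Γ := χ ^ (n - 1) * ∏ i, χ₀ i ^ ((t : ℤ) - e i).toNat
  have hq : Eig q χq := eig_mul (eig_pow _ hbeig) (eig_prod b₀ χ₀ _ hb₀)
  have hχq : χ * χq = χh ^ t := by
    rw [← mul_assoc, ← pow_succ', Nat.sub_add_cancel hn, he, ← Finset.prod_mul_distrib, ← Finset.prod_pow]
    refine Finset.prod_congr rfl fun i _ => ?_
    rw [pow_one, ← zpow_natCast (χ₀ i) ((t : ℤ) - e i).toNat, ← zpow_add, ← zpow_natCast (χ₀ i) t]
    congr 1
    have := ht i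
    omega
  have fixed : ∀ x, (∀ φ, E φ x = (χ φ : k) • x) → ∀ φ,
      HopfRep.Comod.act k A B φ (x * q) * h ^ t = x * q * (HopfRep.Comod.act k A B φ h) ^ t := by
    intro x hx φ
    rw [← hE, ← hE, map_mul, hx, hq.2, hh.2, smul_pow]
    have hval : (χ φ : k) * (χq φ : k) = (χh φ : k) ^ t := by
      rw [← Units.val_mul, ← Units.val_pow_eq_pow_val]
      exact congrArg Units.val (congrFun hχq φ)
    have := congrArg (algebraMap k B) hval
    rw [map_mul, map_pow] at this
    simp only [Algebra.smul_def, map_pow]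
    linear_combination (x * q * h ^ t) * this
  refine ⟨a' * q, b' * q, t, t, mul_ne_zero hb' hq.1, fixed a' haeig, fixed b' hbeig.2, ?_⟩
  rw [← hdb, ← hda]; ring

end Groth.Agent.S15705
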