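import Groth.Statements.S15708
import Mathlib

set_option linter.all false

set_option autoImplicit false
universe u v
open CAlg

open IsLocalRing
open scoped TensorProduct

namespace Groth.Agent.S15708

/-- Let A be a Noetherian commutative ring graded by the natural numbers, J a homogeneous ideal, and
p_1, ..., p_r finitely many prime ideals such that no p_i contains the irrelevant ideal A_+ and no
p_i contains J. Then there is a homogeneous element z of positive degree with z in J and z in no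
p_i. -/
theorem result {R : Type u} {A : Type v} [CommRing R] [CommRing A]
    [Algebra R A] [IsNoetherianRing A] (𝒜 : ℕ → Submodule R A) [GradedRing 𝒜]
    (J : Ideal A) (hJ : J.IsHomogeneous 𝒜) (P : Finset (Ideal A))
    (hP : ∀ p ∈ P, p.IsPrime ∧ ¬ (HomogeneousIdeal.irrelevant 𝒜).toIdeal ≤ p ∧ ¬ J ≤ p) :
    ∃ (z : A) (n : ℕ), 0 < n ∧ z ∈ 𝒜 n ∧ z ∈ J ∧ ∀ p ∈ P, z ∉ p := by
  classical
  induction P using Finset.strongInduction with
  | H P ih =>
    rcases P.eq_empty_or_nonempty with rfl | hne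
    · exact ⟨0, 1, one_pos, zero_mem _, zero_mem _, by simp⟩
    -- choose `q ∈ P` whose homogeneous part is minimal
    let core : Ideal A → Ideal A := fun p => (p.homogeneousCore 𝒜).toIdeal
    obtain ⟨q, hq, hqmin⟩ := (P.image core).exists_minimal (hne.image _)
    obtain ⟨q₀, hq₀, rfl⟩ := Finset.mem_image.1 hq
    obtain ⟨z, n, hn, hzn, hzJ, hz⟩ := ih (P.erase q₀) (Finset.erase_ssubset hq₀) fun p hp => hP p (Finset.mem_of_mem_erase hp)
    by_cases hzq : z ∉ q₀
    · exact ⟨z, n, hn, hzn, hzJ, fun p hp => if h : p = q₀ then h ▸ hzq else hz p (Finset.mem_erase.2 ⟨h, hp⟩)⟩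
    push Not at hzq
    haveI := (hP q₀ hq₀).1
    have hhom : ∀ (L : Ideal A), L.IsHomogeneous 𝒜 → ¬ L ≤ q₀ → ∃ i, ∃ b ∈ L, b ∈ 𝒜 i ∧ b ∉ q₀ := by
      intro L hL hLq
      obtain ⟨b, hb, hbq⟩ := SetLike.not_le_iff_exists.1 hLq
      by_contra hcon
      push Not at hcon
      refine hbq ?_
      rw [← DirectSum.sum_support_decompose 𝒜 b]
      exact Ideal.sum_mem _ fun i _ => hcon i _ (hL i hb) (SetLike.coe_mem _)
    obtain ⟨i₀, a, haJ, hai, haq⟩ := hhom J hJ (hP q₀ hq₀).2.2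
    obtain ⟨i₁, b, hbI, hbi, hbq⟩ : ∃ i, ∃ b, 0 < i ∧ b ∈ 𝒜 i ∧ b ∉ q₀ := by
      obtain ⟨i, b, hb, hbi, hbq⟩ := hhom _ (HomogeneousIdeal.irrelevant 𝒜).isHomogeneous (hP q₀ hq₀).2.1
      rcases Nat.eq_zero_or_pos i with rfl | hi
      · refine absurd ?_ hbq
        have h0 := (HomogeneousIdeal.mem_irrelevant_iff 𝒜 b).1 hb
        rw [GradedRing.proj_apply, DirectSum.decompose_of_mem_same 𝒜 hbi] at h0
        rw [h0]; exact zero_mem _
      · exact ⟨i, b, hi, hbi, hbq⟩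
    have hcore : ∀ p ∈ P, p ≠ q₀ → ∃ i, ∃ c ∈ p, c ∈ 𝒜 i ∧ c ∉ q₀ := by
      intro p hp hne'
      have hnle : ¬ core p ≤ q₀ := by
        intro hle
        have h1 : core p ≤ core q₀ := by
          have := Ideal.homogeneousCore_mono 𝒜 hle
          rwa [Ideal.IsHomogeneous.toIdeal_homogeneousCore_eq_self (p.homogeneousCore 𝒜).isHomogeneous |> fun e => (HomogeneousIdeal.ext e : (core p).homogeneousCore 𝒜 = p.homogeneousCore 𝒜)] at this
        have h2 : core q₀ ≤ core p := hqmin (Finset.mem_image_of_mem core hp) h1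
        -- then `z` lies in `p`
        refine hz p (Finset.mem_erase.2 ⟨hne', hp⟩) (Ideal.toIdeal_homogeneousCore_le 𝒜 p (h2 ?_))
        exact Ideal.mem_homogeneousCore_of_homogeneous_of_mem ⟨n, hzn⟩ hzq
      obtain ⟨i, c, hc, hci, hcq⟩ := hhom (core p) (p.homogeneousCore 𝒜).isHomogeneous hnle
      exact ⟨i, c, Ideal.toIdeal_homogeneousCore_le 𝒜 p hc, hci, hcq⟩
    have hcore' : ∀ p : {p // p ∈ P.erase q₀}, ∃ i, ∃ c ∈ p.1, c ∈ 𝒜 i ∧ c ∉ q₀ := fun p =>
      hcore p.1 (Finset.mem_of_mem_erase p.2) (Finset.ne_of_mem_erase p.2)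
    choose deg c hc hcd hcq using hcore'
    let w : A := a * b * ∏ p ∈ (P.erase q₀).attach, c p
    let m : ℕ := i₀ + i₁ + ∑ p ∈ (P.erase q₀).attach, deg p
    have hwm : w ∈ 𝒜 m := SetLike.mul_mem_graded (SetLike.mul_mem_graded hai hbi) (SetLike.prod_mem_graded 𝒜 deg c fun p _ => hcd p)
    have hwq : w ∉ q₀ := fun hw => by
      rcases (hP q₀ hq₀).1.mem_or_mem hw with h | h
      · exact ((hP q₀ hq₀).1.mem_or_mem h).elim haq hbq
      · obtain ⟨p, -, hp⟩ := (hP q₀ hq₀).1.prod_mem_iff.1 h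
        exact hcq p hp
    refine ⟨z ^ m + w ^ n, m * n, Nat.mul_pos (by omega) hn, add_mem ?_ ?_, add_mem ?_ ?_, fun p hp hmem => ?_⟩
    · exact SetLike.pow_mem_graded m hzn |> fun h => by simpa [smul_eq_mul] using h
    · exact SetLike.pow_mem_graded n hwm |> fun h => by simpa [smul_eq_mul, mul_comm] using h
    · exact J.pow_mem_of_mem hzJ m (by omega)
    · exact J.pow_mem_of_mem (Ideal.mul_mem_right _ _ (Ideal.mul_mem_right _ _ haJ)) n hn
    · haveI := (hP p hp).1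
      by_cases hpq : p = q₀
      · subst hpq
        exact hwq (Ideal.IsPrime.mem_of_pow_mem ‹_› n ((Ideal.add_mem_iff_right _ (Ideal.pow_mem_of_mem _ hzq m (by omega))).1 hmem))
      · have hp' : p ∈ P.erase q₀ := Finset.mem_erase.2 ⟨hpq, hp⟩
        have hwp : w ∈ p := Ideal.mul_mem_left _ _ (Ideal.prod_mem p (Finset.mem_attach _ ⟨p, hp'⟩) (hc ⟨p, hp'⟩))
        exact hz p hp' (Ideal.IsPrime.mem_of_pow_mem ‹_› m ((Ideal.add_mem_iff_left _ (Ideal.pow_mem_of_mem _ hwp n hn)).1 hmem))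

end Groth.Agent.S15708
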