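import Groth.Statements.S15712
import Groth.Agent.Rat20Lib.SchDense
import Groth.Agent.CommAlg6.DepthOne

set_option autoImplicit false
universe u
open CategoryTheory AlgebraicGeometry TopologicalSpace
open RatSing

namespace Groth.Agent.S15712

/-- Let X be a locally Noetherian scheme with Serre's property (S_1), i.e. every local ring O_{X,x} has
depth at least min(1, dim O_{X,x}) (for instance X Cohen–Macaulay), and let U ⊆ X be open. Then
scheme-theoretic density of U in X is equivalent to U being dense as a subset. (The published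
statement assumes every scheme excellent, in particular locally Noetherian.) -/
theorem result (X : Scheme.{u}) [IsLocallyNoetherian X]
    (hS1 : ∀ x : X, min (1 : WithBot ℕ∞) (ringKrullDim (X.presheaf.stalk x)) ≤
      ((LocCoh.depth (X.presheaf.stalk x) (X.presheaf.stalk x) : ℕ∞) : WithBot ℕ∞))
    (U : X.Opens) : CInt.IsSchematicallyDense U ↔ Dense (U : Set X) := by
  refine ⟨Rat20Lib.dense_of_sd, fun hd V a b hab => ?_⟩
  refine TopCat.Presheaf.section_ext X.sheaf V a b fun x hxV => ?_
  obtain ⟨_, ⟨W, hW, rfl⟩, hxW, hWV⟩ := X.isBasis_affineOpens.exists_subset_of_mem_open hxV V.isOpen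
  haveI : IsNoetherianRing Γ(X, W) := IsLocallyNoetherian.component_noetherian ⟨W, hW⟩
  set c : Γ(X, W) := X.presheaf.map (homOfLE hWV).op (a - b) with hc
  suffices h0 : c = 0 by
    have h1 := congrArg (X.presheaf.germ W x hxW) h0
    rw [map_zero, hc] at h1
    have h2 := (X.presheaf.germ_res_apply (homOfLE hWV) x hxW (a - b)).symm.trans h1
    rw [map_sub, sub_eq_zero] at h2
    exact h2
  by_contra hne
  obtain ⟨p, hp, hle⟩ := exists_le_isAssociatedPrime_of_isNoetherianRing Γ(X, W) c hne
  obtain ⟨hpp, y, hy⟩ := (isAssociatedPrime_iff (R := Γ(X, W))).1 hp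
  -- a point `z` of `W` with prime `p`
  obtain ⟨z, hz⟩ : ∃ z : W, (hW.primeIdealOf z).asIdeal = p := by
    have hmem : hW.fromSpec (⟨p, hpp⟩ : PrimeSpectrum Γ(X, W)) ∈ W := by
      rw [← SetLike.mem_coe, ← hW.range_fromSpec]; exact ⟨_, rfl⟩
    refine ⟨⟨_, hmem⟩, ?_⟩
    have h1 := hW.fromSpec_primeIdealOf ⟨_, hmem⟩
    exact congrArg PrimeSpectrum.asIdeal (hW.isOpenImmersion_fromSpec.base_open.injective h1)
  subst hz
  set p : Ideal Γ(X, W) := (hW.primeIdealOf z).asIdeal with hpdef
  have hloc := hW.isLocalization_stalk z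
  letI := TopCat.Presheaf.algebra_section_stalk X.presheaf z
  haveI : IsLocalization p.primeCompl (X.presheaf.stalk (z : X)) := hloc
  haveI : IsNoetherianRing (X.presheaf.stalk (z : X)) :=
    IsLocalization.isNoetherianRing p.primeCompl _ inferInstance
  -- the depth vanishes at `z`
  have hass : IsLocalRing.maximalIdeal (X.presheaf.stalk (z : X)) ∈
      associatedPrimes (X.presheaf.stalk (z : X)) (X.presheaf.stalk (z : X)) := by
    refine (Module.associatedPrimes.mem_associatedPrimes_of_comap_mem_associatedPrimes_of_isLocalizedModule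
      p.primeCompl (Algebra.linearMap Γ(X, W) (X.presheaf.stalk (z : X)))
      (IsLocalRing.maximalIdeal (X.presheaf.stalk (z : X)))) ?_
    show Ideal.under Γ(X, W) (IsLocalRing.maximalIdeal (X.presheaf.stalk (z : X))) ∈ _
    rw [IsLocalization.AtPrime.under_maximalIdeal (X.presheaf.stalk (z : X)) p]
    exact hp
  have hdim : ringKrullDim (X.presheaf.stalk (z : X)) < 1 := by
    by_contra hge
    have h1 := hS1 (z : X)
    rw [min_eq_left (not_lt.1 hge)] at h1
    exact (Groth.Agent.CommAlg6.one_le_depth_iff (X.presheaf.stalk (z : X))).1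
      (WithBot.coe_le_coe.1 h1) hass
  have hht : p.height = 0 := by
    rw [IsLocalization.AtPrime.ringKrullDim_eq_height p (X.presheaf.stalk (z : X))] at hdim
    exact Order.lt_one_iff.1 (WithBot.coe_lt_coe.1 hdim)
  have hmin : p ∈ minimalPrimes Γ(X, W) := Ideal.height_eq_zero_iff.1 hht
  -- the point `z` lies in `U`
  have hzU : (z : X) ∈ U := by
    by_contra hzU
    have hdW : Dense (hW.fromSpec ⁻¹' (U : Set X) : Set (PrimeSpectrum Γ(X, W))) :=
      hd.preimage hW.isOpenImmersion_fromSpec.base_open.isOpenMap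
    refine hzU ?_
    have := Rat20Lib.mem_of_dense (T := PrimeSpectrum Γ(X, W)) (η := ⟨p, hpp⟩)
      (fun q => ⟨Set.univ, isOpen_univ, trivial,
        (TopologicalSpace.NoetherianSpace.finite_irreducibleComponents).subset fun Z hZ => hZ.1⟩)
      (V := (hW.fromSpec ⁻¹' (U : Set X) : Set (PrimeSpectrum Γ(X, W))))
      (U.isOpen.preimage hW.fromSpec.continuous) hdW
      (by
        rw [PrimeSpectrum.closure_singleton]
        exact (PrimeSpectrum.zeroLocus_minimalPrimes Γ(X, W)) ▸ ⟨p, hmin, rfl⟩)
    have h2 := hW.fromSpec_primeIdealOf z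
    rw [show hW.primeIdealOf z = ⟨p, hpp⟩ from PrimeSpectrum.ext rfl] at h2
    rw [← h2]
    exact this
  have hg : X.presheaf.germ W (z : X) z.2 c = 0 := by
    have h2 : X.presheaf.map (homOfLE (inf_le_left : V ⊓ U ≤ V)).op (a - b) = 0 := by
      rw [map_sub, hab, sub_self]
    have h3 := congrArg (X.presheaf.germ (V ⊓ U) (z : X) ⟨hWV z.2, hzU⟩) h2
    rw [X.presheaf.germ_res_apply, map_zero] at h3
    rw [hc]
    exact (X.presheaf.germ_res_apply (homOfLE hWV) (z : X) z.2 (a - b)).trans h3
  obtain ⟨⟨s, hs⟩, hsc⟩ :=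
    (IsLocalization.map_eq_zero_iff p.primeCompl (X.presheaf.stalk (z : X)) c).1 hg
  exact hs (hle (by rw [Submodule.mem_colon_singleton, Submodule.mem_bot, smul_eq_mul]; exact hsc))

end Groth.Agent.S15712
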