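import Groth.Statements.S15715
import Groth.Agent.Rat20Lib.SchDense
import Groth.Agent.Coherent.QcohSections

set_option autoImplicit false
universe u
open CategoryTheory AlgebraicGeometry TopologicalSpace
open RatSing

namespace Groth.Agent.S15715

/-- Let X be a locally Noetherian scheme, φ : F → G a homomorphism of O_X-modules with F quasi-coherent
and torsion-free (over every affine open V, no nonzero section of F is killed by a regular element
of O_X(V)), and U a scheme-theoretically dense open subset of X such that the restriction of φ to U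
is injective. Then φ is injective. (The published statement allows an arbitrary O_X-module F; for
the skyscraper sheaf on the affine line over a field, placed at a closed point with value the local
ring at that point, which is torsion-free in this sense, the zero map to the zero module is
injective over the dense open complement of the point but not injective. This row takes F
quasi-coherent.) -/
theorem result (X : Scheme.{u})
    [IsLocallyNoetherian X] (F G : X.Modules) (hF : Coh.IsQCoh F)
    (htf : ∀ V : X.affineOpens, Submodule.torsion Γ(X, V.1) (F.val.obj (Opposite.op V.1)) = ⊥)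
    (φ : F ⟶ G) (U : X.Opens) (hU : CInt.IsSchematicallyDense U)
    (hφU : ∀ V : X.Opens, V ≤ U → Function.Injective ⇑(ConcreteCategory.hom (φ.val.app (Opposite.op V)))) (V : X.Opens) :
    Function.Injective ⇑(ConcreteCategory.hom (φ.val.app (Opposite.op V))) := by
  rw [injective_iff_map_eq_zero]
  intro s hs
  haveI : Coh.IsQCoh F := hF
  have nat : ∀ {V W : X.Opens} (h : W ≤ V) (m : Γ(F, V)),
      (φ.app W).hom (Coherent.resM F h m) = Coherent.resM G h ((φ.app V).hom m) := fun {V W} h m =>
    ConcreteCategory.congr_hom (φ.mapPresheaf.naturality (homOfLE h).op) m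
  refine TopCat.Presheaf.section_ext (⟨F.presheaf, F.isSheaf⟩ : TopCat.Sheaf Ab X) V s 0
    fun x hxV => ?_
  obtain ⟨_, ⟨W, hW, rfl⟩, hxW, hWV⟩ := X.isBasis_affineOpens.exists_subset_of_mem_open hxV V.isOpen
  obtain ⟨t, ht, htU⟩ := Rat20Lib.exists_regular_basicOpen_le hW hU
    (Or.inl (IsLocallyNoetherian.component_noetherian ⟨W, hW⟩))
  have h1 : Coherent.resM F (X.basicOpen_le t) (Coherent.resM F hWV s) = 0 := by
    refine (injective_iff_map_eq_zero (φ.app (X.basicOpen t)).hom).1 (hφU _ htU) _ ?_
    rw [nat, nat, show (φ.app V).hom s = 0 from hs, map_zero, map_zero]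
  obtain ⟨n, hn⟩ := Coherent.qcoh_exists_pow_smul_eq_zero hW F t _ h1
  have h0 : Coherent.resM F hWV s = 0 := by
    have hmem : Coherent.resM F hWV s ∈ Submodule.torsion Γ(X, W) (F.val.obj (Opposite.op W)) :=
      ⟨⟨t ^ n, pow_mem ht n⟩, hn⟩
    rw [htf ⟨W, hW⟩] at hmem
    exact hmem
  have h2 := congrArg (TopCat.Presheaf.germ F.presheaf W x hxW) h0
  rw [map_zero] at h2
  rw [map_zero]
  exact ((TopCat.Presheaf.germ_res_apply F.presheaf (homOfLE hWV) x hxW s).symm.trans h2)

end Groth.Agent.S15715
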