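import Groth.Statements.S15717
import Mathlib
import Groth.Prelude
import Groth.Agent.CAlgH3.CMRing

set_option linter.all false

set_option autoImplicit false
universe u
open CAlg

open RingTheory.Sequence

namespace Groth.Agent.S15717

section
open IsLocalRing
variable {R : Type u} [CommRing R] [LocCoh.IsCohenMacaulayLocalRing R]

theorem exists_nat_dim (J : Ideal R) (hJ : J ≠ ⊤) : ∃ n : ℕ, ringKrullDim (R ⧸ J) = n := by
  obtain ⟨d, hd⟩ : ∃ d : ℕ, ringKrullDim R = d := by
    rw [← IsLocalRing.maximalIdeal_height_eq_ringKrullDim]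
    obtain ⟨d, hd⟩ := ENat.ne_top_iff_exists.1 (Ideal.height_ne_top (I := maximalIdeal R) Ideal.IsPrime.ne_top')
    exact ⟨d, by rw [← hd]; rfl⟩
  haveI : Nontrivial (R ⧸ J) := Ideal.Quotient.nontrivial_iff.2 hJ
  have h1 := (ringKrullDim_quotient_le J).trans hd.le
  have h2 : (0 : WithBot ℕ∞) ≤ ringKrullDim (R ⧸ J) := ringKrullDim_nonneg_of_nontrivial
  revert h1 h2
  induction ringKrullDim (R ⧸ J) using WithBot.recBotCoe with
  | bot => intro _ h2; exact absurd h2 (by simp)
  | coe a =>
    intro h1 _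
    induction a using ENat.recTopCoe with
    | top => exact absurd (WithBot.coe_le_coe.1 h1) (by simp)
    | coe a => exact ⟨a, rfl⟩

theorem exists_seq (I : Ideal R) (hI : I ≠ ⊤) (d h : ℕ) (hd : ringKrullDim R = d)
    (hh : ∀ (P : Ideal R) [P.IsPrime], I ≤ P → (h : ℕ∞) ≤ P.height) :
    ∀ k ≤ h, ∃ rs : List R, IsWeaklyRegular R rs ∧ Ideal.ofList rs ≤ I ∧
      LocCoh.IsCohenMacaulayModule R (R ⧸ Ideal.ofList rs) ∧
      ∃ e : ℕ, ringKrullDim (R ⧸ Ideal.ofList rs) = e ∧ e + k = d := by
  intro k
  induction k with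
  | zero =>
    intro _
    refine ⟨[], IsWeaklyRegular.nil R R, by simp, ?_, d, ?_, rfl⟩
    · rw [Ideal.ofList_nil]
      exact (Groth.Agent.CAlgH3.isCohenMacaulayModule_congr (AlgEquiv.quotientBot R R).toLinearEquiv).2
        ((Groth.Agent.CAlgH3.isCohenMacaulayLocalRing_iff R).1 inferInstance)
    · rw [Ideal.ofList_nil, ringKrullDim_eq_of_ringEquiv (RingEquiv.quotientBot R), hd]
  | succ k ih =>
    intro hk
    obtain ⟨rs, hrs, hle, hcm, e, he, hek⟩ := ih (by omega)
    set J := Ideal.ofList rs with hJ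
    have hJne : J ≠ ⊤ := fun h' => hI (top_le_iff.1 (h' ▸ hle))
    have hass : ∀ P ∈ associatedPrimes R (R ⧸ J), ∀ _ : P.IsPrime, P.height = k := by
      intro P hP _
      have h1 := Groth.Agent.CAlgH3.ringKrullDim_quotient_eq_of_mem_associatedPrimes hcm hP
      rw [Module.supportDim_quotient_eq_ringKrullDim, he] at h1
      have h2 := Groth.Agent.CAlgH3.height_add_ringKrullDim_quotient P
      rw [h1, hd] at h2
      have : (P.height + (e : ℕ∞) : ℕ∞) = (d : ℕ∞) := WithBot.coe_inj.1 h2
      obtain ⟨a, ha⟩ := ENat.ne_top_iff_exists.1 (Ideal.height_ne_top (I := P) Ideal.IsPrime.ne_top')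
      rw [← ha] at this ⊢
      have h3 : a + e = d := by exact_mod_cast this
      exact_mod_cast (show a = k by omega)
    have hnot : ¬ ((I : Set R) ⊆ ⋃ P ∈ ((associatedPrimes.finite R (R ⧸ J)).toFinset : Set (Ideal R)), (P : Set R)) := by
      intro h'
      obtain ⟨P, hP, hIP⟩ := (Ideal.subset_union_prime ⊥ ⊥ (fun P hP _ _ =>
        IsAssociatedPrime.isPrime (M := R ⧸ J) ((Set.Finite.mem_toFinset _).1 hP))).1 h'
      have hP' : P ∈ associatedPrimes R (R ⧸ J) := (Set.Finite.mem_toFinset _).1 hP
      haveI := IsAssociatedPrime.isPrime hP'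
      have := hh P hIP
      rw [hass P hP' inferInstance] at this
      exact absurd (Nat.cast_le.1 this) (by omega)
    obtain ⟨x, hxI, hx⟩ := Set.not_subset.1 hnot
    have hreg : IsSMulRegular (R ⧸ J) x := by
      rw [isSMulRegular_iff_right_eq_zero_of_smul]
      intro m hm
      by_contra hne
      obtain ⟨P, hP, hle'⟩ := exists_le_isAssociatedPrime_of_isNoetherianRing R m hne
      exact hx (Set.mem_biUnion (show P ∈ ((associatedPrimes.finite R (R ⧸ J)).toFinset : Set (Ideal R)) from (Set.Finite.mem_toFinset _).2 hP)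
        (hle' (by rw [Submodule.mem_colon_singleton, Submodule.mem_bot]; exact hm)))
    have hxm : x ∈ maximalIdeal R := IsLocalRing.le_maximalIdeal hI hxI
    have hJ' : Ideal.ofList (rs ++ [x]) = J ⊔ Ideal.span {x} := by rw [Ideal.ofList_append, Ideal.ofList_singleton]
    have eqv : QuotSMulTop x (R ⧸ J) ≃ₗ[R] (R ⧸ Ideal.ofList (rs ++ [x])) := by
      refine (Submodule.quotEquivOfEq _ _ ?_).trans ((Submodule.quotientQuotientEquivQuotient J
        (Ideal.ofList (rs ++ [x]) : Ideal R) (by rw [hJ']; exact le_sup_left)))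
      rw [hJ', Submodule.map_sup, Submodule.mkQ_map_self, bot_sup_eq,
        Submodule.map_span, Set.image_singleton]
      ext z
      rw [Submodule.mem_smul_pointwise_iff_exists, Submodule.mem_span_singleton]
      constructor
      · rintro ⟨w, -, rfl⟩
        obtain ⟨w, rfl⟩ := Submodule.Quotient.mk_surjective _ w
        exact ⟨w, by rw [Submodule.mkQ_apply, ← Submodule.Quotient.mk_smul, ← Submodule.Quotient.mk_smul, smul_eq_mul, smul_eq_mul, mul_comm]⟩
      · rintro ⟨w, rfl⟩
        exact ⟨Submodule.Quotient.mk w, trivial, by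
          rw [Submodule.mkQ_apply, ← Submodule.Quotient.mk_smul, ← Submodule.Quotient.mk_smul, smul_eq_mul, smul_eq_mul, mul_comm]⟩
    haveI : Nontrivial (R ⧸ J) := Ideal.Quotient.nontrivial_iff.2 hJne
    refine ⟨rs ++ [x], ?_, ?_, (Groth.Agent.CAlgH3.isCohenMacaulayModule_congr eqv).1
      ((Groth.Agent.CAlgH3.isCohenMacaulayModule_quotSMulTop_iff hxm hreg).2 hcm), ?_⟩
    · refine ⟨fun i hi => ?_⟩
      rw [List.length_append, List.length_singleton] at hi
      by_cases hi' : i < rs.length
      · rw [List.getElem_append_left hi', List.take_append_of_le_length hi'.le]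
        exact hrs.regular_mod_prev i hi'
      · have hi2 : i = rs.length := by omega
        subst hi2
        rw [List.getElem_append_right le_rfl, List.take_left, smul_eq_mul, Ideal.mul_top]
        simpa using hreg
    · rw [hJ']
      exact sup_le hle ((Ideal.span_singleton_le_iff_mem _).2 hxI)
    · have hne' : Ideal.ofList (rs ++ [x]) ≠ ⊤ := fun h' => hI (top_le_iff.1 (h' ▸ (hJ' ▸ sup_le hle ((Ideal.span_singleton_le_iff_mem _).2 hxI))))
      obtain ⟨e', he'⟩ := exists_nat_dim _ hne'
      refine ⟨e', he', ?_⟩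
      have h1 := Module.supportDim_quotSMulTop_succ_eq_supportDim hreg hxm
      rw [Module.supportDim_eq_of_equiv eqv, Module.supportDim_quotient_eq_ringKrullDim,
        Module.supportDim_quotient_eq_ringKrullDim, he, he'] at h1
      have : e' + 1 = e := by exact_mod_cast h1
      omega

end

/-- Let R be a Cohen–Macaulay local ring and I an ideal of R with R/I equidimensional (all minimal
primes p over I have the same dim R/p). Then there is a regular sequence r_1, ..., r_n in I such
that the closed subscheme V(r_1, ..., r_n) of Spec R, a local complete intersection, contains V(I),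
has the same dimension as V(I), and has the irreducible components of V(I) among its irreducible
components: dim R/(r_1, ..., r_n) = dim R/I and every minimal prime over I is a minimal prime over
(r_1, ..., r_n). The sequence is asked to be weakly regular (each r_i a non-zero-divisor modulo the
previous ones), which for I proper is the same as regular and which also covers I = R with the
sequence (1). -/
theorem result (R : Type u) [CommRing R]
    [LocCoh.IsCohenMacaulayLocalRing R] (I : Ideal R)
    (hI : ∀ p ∈ I.minimalPrimes, ringKrullDim (R ⧸ p) = ringKrullDim (R ⧸ I)) :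
    ∃ rs : List R, RingTheory.Sequence.IsWeaklyRegular R rs ∧ Ideal.ofList rs ≤ I ∧
      ringKrullDim (R ⧸ Ideal.ofList rs) = ringKrullDim (R ⧸ I) ∧
      I.minimalPrimes ⊆ (Ideal.ofList rs).minimalPrimes := by
  by_cases htop : I = ⊤
  · subst htop
    refine ⟨[1], ⟨fun i hi => ?_⟩, le_top, ?_, ?_⟩
    · obtain rfl : i = 0 := by simpa using hi
      simp only [List.getElem_cons_zero]
      exact IsSMulRegular.one _
    · rw [Ideal.ofList_singleton, Ideal.span_singleton_one]
    · intro p hp
      exact absurd (top_le_iff.1 hp.1.2) hp.1.1.ne_top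
  obtain ⟨d, hd⟩ : ∃ d : ℕ, ringKrullDim R = d := by
    obtain ⟨n, hn⟩ := exists_nat_dim (⊥ : Ideal R) bot_ne_top
    exact ⟨n, by rw [← ringKrullDim_eq_of_ringEquiv (RingEquiv.quotientBot R), hn]⟩
  obtain ⟨g, hg⟩ := exists_nat_dim I htop
  have hgd : g ≤ d := by
    have := ringKrullDim_quotient_le I
    rw [hg, hd] at this
    exact_mod_cast this
  have hp : ∀ (p : Ideal R) [p.IsPrime], p ∈ I.minimalPrimes → p.height = ((d - g : ℕ) : ℕ∞) := by
    intro p _ hp
    have h2 := Groth.Agent.CAlgH3.height_add_ringKrullDim_quotient p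
    rw [hI p hp, hg, hd] at h2
    have : (p.height + (g : ℕ∞) : ℕ∞) = (d : ℕ∞) := WithBot.coe_inj.1 h2
    obtain ⟨a, ha⟩ := ENat.ne_top_iff_exists.1 (Ideal.height_ne_top (I := p) Ideal.IsPrime.ne_top')
    rw [← ha] at this ⊢
    have h3 : a + g = d := by exact_mod_cast this
    exact_mod_cast (show a = d - g by omega)
  obtain ⟨rs, hrs, hle, hcm, e, he, hek⟩ := exists_seq I htop d (d - g) hd (fun P _ hIP => by
    obtain ⟨p, hpI, hpP⟩ := Ideal.exists_minimalPrimes_le hIP
    haveI := hpI.1.1
    exact (hp p hpI).symm.le.trans (Ideal.height_mono hpP)) (d - g) le_rfl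
  refine ⟨rs, hrs, hle, by rw [he, hg]; exact_mod_cast (show e = g by omega), fun p hpI => ?_⟩
  haveI := hpI.1.1
  refine ⟨⟨inferInstance, hle.trans hpI.1.2⟩, fun q ⟨hq, hqJ⟩ hqp => ?_⟩
  by_contra hne
  obtain ⟨q₀, hq₀, hq₀q⟩ := Ideal.exists_minimalPrimes_le hqJ
  haveI := hq₀.1.1
  have hass := Module.associatedPrimes.minimalPrimes_annihilator_subset_associatedPrimes R (R ⧸ Ideal.ofList rs)
    (by rw [Ideal.annihilator_quotient]; exact hq₀)
  have h1 := Groth.Agent.CAlgH3.ringKrullDim_quotient_eq_of_mem_associatedPrimes hcm hass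
  rw [Module.supportDim_quotient_eq_ringKrullDim, he] at h1
  have h2 := Groth.Agent.CAlgH3.height_add_ringKrullDim_quotient q₀
  rw [h1, hd] at h2
  have : (q₀.height + (e : ℕ∞) : ℕ∞) = (d : ℕ∞) := WithBot.coe_inj.1 h2
  obtain ⟨a, ha⟩ := ENat.ne_top_iff_exists.1 (Ideal.height_ne_top (I := q₀) Ideal.IsPrime.ne_top')
  rw [← ha] at this
  have h3 : a + e = d := by exact_mod_cast this
  have h4 := Ideal.height_strict_mono_of_isPrime_of_isPrime (I := q₀) (J := p)
    (lt_of_le_of_lt hq₀q (lt_of_le_not_ge hqp hne))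
  rw [← ha, hp p hpI] at h4
  have : a < d - g := by exact_mod_cast h4
  omega

end Groth.Agent.S15717
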