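import Groth.Statements.S15719
import Groth.Agent.Dual22Lib.ProjQCoh
import Groth.Agent.BoxRes17.KernelEval
import Groth.Agent.DCat.RHomLeft

set_option autoImplicit false
set_option backward.isDefEq.respectTransparency false
set_option backward.defeqAttrib.useBackward true
set_option linter.style.haveILetI false
set_option linter.unusedVariables false
set_option synthInstance.maxHeartbeats 100000
set_option backward.isDefEq.respectTransparency.types false
universe u
open CategoryTheory CategoryTheory.Limits AlgebraicGeometry TopologicalSpace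
attribute [local instance] HasDerivedCategory.standard
open RatSing Groth.Agent.DCat

namespace Groth.Agent.S15719

/-- Let φ : Z → W be a proper birational morphism of equidimensional excellent schemes admitting
dualizing complexes which is an isomorphism in codimension 1 on the target (an isomorphism over an
open V of W whose complement has codimension at least 2), and let η : O_W → Rφ_* O_Z be the natural
map. If there is η' : Rφ_* O_Z → O_W with η' ∘ η an automorphism of O_W, then φ is a pseudo-rational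
modification: the natural map φ_* ω_Z → ω_W is surjective. This row takes W Noetherian and Z, W of
pure dimension d (the assertion is local on W), fixes the dualizing complex K = ω_W^• on W with
quasi-coherent cohomology vanishing below degree -d, uses ω_Z^• = φ^! K with φ^! the right adjoint
of Rφ_* on D_QCoh, renders the surjectivity of φ_* ω_Z → ω_W as: h^{-d} of the trace Rφ_* φ^! K → K
is an epimorphism, renders the codimension condition as dim O_{W,w} ≥ 2 off V together with density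
of φ⁻¹V in Z (for equidimensional local rings this is the codimension condition of the published
definition), and writes η in D_QCoh(O_W) as the unit of Lφ^* ⊣ Rφ_* at O_W followed by Rφ_* of an
identification Lφ^* O_W ≅ O_Z. Existence of the derived functors and adjoints, preservation of
D_QCoh, and exactness of restriction to opens and of M ↦ M~ are carried as hypotheses. -/
theorem result (Z W : Scheme.{u}) (d : ℕ)
    [IsLocallyNoetherian Z] [IsNoetherian W]
    (hexcZ : ∀ U : Z.affineOpens, EGA4.IsExcellent Γ(Z, U.1)) (hexcW : ∀ U : W.affineOpens, EGA4.IsExcellent Γ(W, U.1))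
    (hpdZ : ∀ C ∈ irreducibleComponents (Z : Type u), topologicalKrullDim C = d)
    (hpdW : ∀ C ∈ irreducibleComponents (W : Type u), topologicalKrullDim C = d)
    [∀ (U : Scheme.{u}) (j : U ⟶ W) [IsOpenImmersion j], PreservesFiniteLimits (Scheme.Modules.restrictFunctor j)]
    [∀ (R : CommRingCat.{u}), PreservesFiniteLimits (tilde.functor R)]
    (φ : Z ⟶ W) [IsProper φ]
    (V : W.Opens) (hV : ∀ w : W, w ∉ V → (2 : WithBot ℕ∞) ≤ ringKrullDim (W.presheaf.stalk w))
    (hVZ : Dense ((φ ⁻¹ᵁ V : Z.Opens) : Set Z)) [IsIso (φ ∣_ V)]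
    [DCoh.HasRpush φ] (h : DCoh.RpushPreservesQCoh φ) [DCoh.HasShriek φ h]
    [DCoh.HasLpull φ] (hL : Dual3.LpullPreservesQCoh φ) (adjL : Dual3.LpullQ φ hL ⊣ DCoh.RpushQ φ h)
    (K : DCoh.DQCoh W) (hK : Dual2.IsDualizingSch W K.obj)
    (hKlow : ∀ i : ℤ, i < -(d : ℤ) → IsZero (DCoh.HD K.obj i))
    (OW : DCoh.DQCoh W) (eW : OW.obj ≅ DCoh.inD W (Coh.structureModule W))
    (OZ : DCoh.DQCoh Z) (eZ : OZ.obj ≅ DCoh.inD Z (Coh.structureModule Z))
    (e : (Dual3.LpullQ φ hL).obj OW ≅ OZ)
    (hsplit : ∃ η' : (DCoh.RpushQ φ h).obj OZ ⟶ OW, IsIso (adjL.unit.app OW ≫ (DCoh.RpushQ φ h).map e.hom ≫ η')) :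
    Epi ((DerivedCategory.homologyFunctor W.Modules (-(d : ℤ))).map
      ((ObjectProperty.ι DCoh.IsQCohD).map ((DCoh.trace φ h).app K))) := by
  obtain ⟨η', hη⟩ := hsplit
  haveI := hη
  let η := adjL.unit.app OW ≫ (DCoh.RpushQ φ h).map e.hom
  haveI : IsIso (η ≫ η') := by simpa [η, Category.assoc] using hη
  let r : (DCoh.RpushQ φ h).obj OZ ⟶ OW := η' ≫ inv (η ≫ η')
  have hr : η ≫ r = 𝟙 _ := by rw [← Category.assoc, IsIso.hom_inv_id]
  let R := DCoh.Rpush φ
  let s₀ : OW.obj ⟶ R.obj OZ.obj := η.hom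
  let r₀ : R.obj OZ.obj ⟶ OW.obj := r.hom
  have h₀ : s₀ ≫ r₀ = 𝟙 _ := congrArg (fun m => m.hom) hr
  obtain ⟨Kk, hKk, ⟨eK⟩⟩ := PullPerf.exists_kflat_rep K.obj
  let Mk := ((Scheme.Modules.pullback φ).mapHomologicalComplex (ComplexShape.up ℤ)).obj Kk
  haveI := LTensorSheaf.hasLTensorCx Kk
  haveI := LTensorSheaf.hasLTensorCx Mk
  let SW := (HomologicalComplex.single W.Modules (ComplexShape.up ℤ) 0).obj (Coh.structureModule W)
  let SZ := (HomologicalComplex.single Z.Modules (ComplexShape.up ℤ) 0).obj (Coh.structureModule Z)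
  haveI := LTensorSheaf.hasLTensorCx SW
  haveI := LTensorSheaf.hasLTensorCx SZ
  obtain ⟨uW⟩ := RHomLeft.nonempty_LTensor_structure (X := W)
  obtain ⟨uZ⟩ := RHomLeft.nonempty_LTensor_structure (X := Z)
  obtain ⟨wW⟩ := BoxRes17.nonempty_swap' Kk SW
  obtain ⟨wZ⟩ := BoxRes17.nonempty_swap' Mk SZ
  let T := DCoh.LTensorCx Kk
  let aW : T.obj OW.obj ≅ K.obj :=
    T.mapIso (eW ≪≫ (DerivedCategory.singleFunctorIsoCompQ W.Modules 0).app _) ≪≫ wW ≪≫ uW.app _ ≪≫ eK
  let aZ : (DCoh.LTensorCx Mk).obj OZ.obj ≅ (DCoh.Lpull φ).obj K.obj :=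
    (DCoh.LTensorCx Mk).mapIso (eZ ≪≫ (DerivedCategory.singleFunctorIsoCompQ Z.Modules 0).app _) ≪≫ wZ ≪≫
      uZ.app _ ≪≫ (PullPerf.lpullIso φ hKk).symm ≪≫ (DCoh.Lpull φ).mapIso eK
  obtain ⟨π⟩ := Dual22Lib.ProjQCoh.nonempty_projection_qcoh φ OZ.obj OZ.property Kk
    (DQCoh.isQCohD_of_iso eK.symm K.property) Mk ⟨(PullPerf.lpullIso φ hKk).symm⟩
  let g : K.obj ⟶ R.obj ((DCoh.Lpull φ).obj K.obj) := aW.inv ≫ T.map s₀ ≫ π.hom ≫ R.map aZ.hom
  let p : R.obj ((DCoh.Lpull φ).obj K.obj) ⟶ K.obj := R.map aZ.inv ≫ π.inv ≫ T.map r₀ ≫ aW.hom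
  have hgp : g ≫ p = 𝟙 _ := by
    simp only [g, p, Category.assoc]
    rw [← R.map_comp_assoc aZ.hom aZ.inv, Iso.hom_inv_id, R.map_id, Category.id_comp, Iso.hom_inv_id_assoc,
      ← T.map_comp_assoc s₀ r₀, h₀, T.map_id, Category.id_comp, Iso.inv_hom_id]
  let L := (Dual3.LpullQ φ hL).obj K
  let P : (DCoh.RpushQ φ h).obj L ⟶ K := ObjectProperty.homMk p
  let G : K ⟶ (DCoh.RpushQ φ h).obj L := ObjectProperty.homMk g
  let θ := (DCoh.shriekAdj φ h).homEquiv L K P
  have hθ : (DCoh.RpushQ φ h).map θ ≫ (DCoh.trace φ h).app K = P := by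
    have := (DCoh.shriekAdj φ h).homEquiv_counit (X := L) (Y := K) (g := θ)
    rw [Equiv.symm_apply_apply] at this
    exact this.symm
  haveI : IsSplitEpi ((DCoh.trace φ h).app K) := IsSplitEpi.mk' ⟨G ≫ (DCoh.RpushQ φ h).map θ, by
    rw [Category.assoc, hθ]
    exact ObjectProperty.hom_ext _ hgp⟩
  infer_instance

end Groth.Agent.S15719
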