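import Groth.Statements.S15727
import Groth.Agent.InvHilb.Generation

set_option autoImplicit false
universe u
open W4c2invhilbsl2

namespace Groth.Agent.S15727

/-- Let k be an algebraically closed field, 0 < p < q coprime integers and m ≥ 1, and grade k[X₀,…,X₄]
by ℤ × ℤ/m, giving X₀ weight (1,0), X₁ and X₂ weight (−p,−1), and X₃ and X₄ weight (q,1). For s ∈ k
let I_s be the ideal (X₀^(q−p) − X₁X₄, X₂, X₃, s − X₀^(mp)X₁^m), whose generators are homogeneous
(the last one of weight zero). Then for every weight ν the image in k[X₀,…,X₄]/I_s of the
homogeneous polynomials of weight ν is a k-vector space of dimension at most 1. (The published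
statement asserts that this dimension equals 1 for every ν and every s, namely that the quotient has
the Hilbert function of the regular representation of the grading group; this row states the upper
bound, the half obtained from the monomial analysis of the weight pieces, while the lower bound
there is drawn from the moduli interpretation of these ideals. The published statement is over the
complex numbers; this row takes any algebraically closed field, which is what the reduction to s =
0, 1 by rescaling the variables uses.) -/
theorem result (k : Type u) [Field k] [IsAlgClosed k] (p q m : ℕ) (hp : 0 < p) (hpq : p < q) (hcop : Nat.Coprime p q) (hm : 0 < m) (s : k) (ν : ℤ × ZMod m) :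
    Module.rank k (W4c2invhilbsl2.piece k (W4c2invhilbsl2.wt5 p q m) (W4c2invhilbsl2.idealI k p q m s) ν) ≤ 1 := by
  exact Groth.Agent.InvHilb.rank_piece_le_one' _ _ ν fun d d' h h' =>
    Groth.Agent.InvHilb.idealI_proportional p q m hpq s d d' (h.trans h'.symm)

end Groth.Agent.S15727
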