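import Groth.Statements.S15733
import Groth.Agent.InvHilb.Generation

set_option autoImplicit false
open W4c2invhilbsl2

namespace Groth.Agent.S15733

/-- Let 0 < p < q be coprime integers and m ≥ 1 such that q − p does not divide m; put g = gcd(m, q−p),
b = (q−p)/g, α = ⌊mp/(q−p)⌋, β = the remainder of mp modulo q−p and t = (q−p−β)/g, so that 1 ≤ t <
b, and let b/t = c₁ − 1/(c₂ − 1/(⋯ − 1/c_r)) be the negative-regular (Hirzebruch–Jung) continued
fraction expansion with every cᵢ ≥ 2; set P₀ = 0, P₁ = 1, Q₀ = −1, Q₁ = 0, Pᵢ = cᵢ₋₁Pᵢ₋₁ − Pᵢ₋₂, Qᵢ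
= cᵢ₋₁Qᵢ₋₁ − Qᵢ₋₂ for 2 ≤ i ≤ r+1, and eᵢ = (α+1+m)Pᵢ − Qᵢ, lᵢ = (α+1)Pᵢ − Qᵢ, nᵢ = q·lᵢ − p·eᵢ,
which are non-negative integers for 0 ≤ i ≤ r+1. Then for every 1 < i ≤ r and every integer x with 0
< x < Pᵢ, the remainder of pmx + nᵢ on division by q − p equals nᵢ plus the remainder of pmx on
division by q − p (in particular nᵢ + (pmx mod (q−p)) < q − p). -/
theorem result (p q m : ℕ) (hp : 0 < p) (hpq : p < q) (hcop : Nat.Coprime p q) (hm : 0 < m) (hnt : ¬ (q - p ∣ m)) (c : List ℤ) (hc : W4c2invhilbsl2.IsHJDigits p q m c) (i : ℕ) (hi : 1 < i) (hir : i ≤ c.length)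
    (x : ℤ) (hx0 : 0 < x) (hx : x < W4c2invhilbsl2.hjP c i) :
    Int.emod ((p : ℤ) * m * x + W4c2invhilbsl2.nN p q m c i) ((q : ℤ) - p) = W4c2invhilbsl2.nN p q m c i + Int.emod ((p : ℤ) * m * x) ((q : ℤ) - p) := by
  have S : Groth.Agent.InvHilb.Setup p q m c := ⟨hpq, hcop, hm, hnt, hc⟩
  show ((p : ℤ) * m * x + W4c2invhilbsl2.nN p q m c i) % ((q : ℤ) - p) =
    W4c2invhilbsl2.nN p q m c i + ((p : ℤ) * m * x) % ((q : ℤ) - p)
  have hg : (0 : ℤ) < W4c2invhilbsl2.gcdK p q m := Int.natCast_pos.2 S.g_pos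
  have hb : (0 : ℤ) < W4c2invhilbsl2.bB p q m := Int.natCast_pos.2 (S.t_pos.trans S.t_lt_b)
  have hD : ((q : ℤ) - p) ≠ 0 := by omega
  set y := ((W4c2invhilbsl2.tT p q m : ℤ) * x) / (W4c2invhilbsl2.bB p q m : ℤ) with hy
  have h0 := Int.emod_nonneg ((W4c2invhilbsl2.tT p q m : ℤ) * x) hb.ne'
  have h1 := Int.emod_lt_of_pos ((W4c2invhilbsl2.tT p q m : ℤ) * x) hb
  rw [Int.emod_def, ← hy] at h0 h1
  have hR := S.NN_le (show 1 ≤ i by omega) hir y hx0 hx h0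
  have hN : Groth.Agent.InvHilb.NN p q m c i < Groth.Agent.InvHilb.NN p q m c (i - 1) := by
    have h3 := (S.NN_props (show i - 1 ≤ c.length by omega)).2
    rwa [Nat.sub_add_cancel (show 1 ≤ i by omega)] at h3
  have hN0 := S.NN_pos hir
  have e : (p : ℤ) * m * x = ((q : ℤ) - p) * ((W4c2invhilbsl2.alpha p q m + 1) * x - y - 1) +
      (W4c2invhilbsl2.gcdK p q m : ℤ) * (W4c2invhilbsl2.bB p q m -
        ((W4c2invhilbsl2.tT p q m : ℤ) * x - W4c2invhilbsl2.bB p q m * y)) := by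
    have h := S.gt_eq
    have h' := S.gb_eq
    push_cast at h
    linear_combination x * h - (y + 1) * h'
  rw [e, add_assoc, Int.add_comm, Int.add_mul_emod_self_left, Int.add_comm (((q : ℤ) - p) * _),
    Int.add_mul_emod_self_left, S.nN_eq, ← mul_add]
  rw [Int.emod_eq_of_lt, Int.emod_eq_of_lt]
  · ring
  · exact mul_nonneg hg.le (by omega)
  · rw [← S.gb_eq]; exact mul_lt_mul_of_pos_left (by omega) hg
  · exact mul_nonneg hg.le (by omega)
  · rw [← S.gb_eq]; exact mul_lt_mul_of_pos_left (by omega) hg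

end Groth.Agent.S15733
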