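import Groth.Statements.S15734
import Groth.Agent.InvHilb.Generation

set_option autoImplicit false
open W4c2invhilbsl2

namespace Groth.Agent.S15734

/-- Let 0 < p < q be coprime integers and m ≥ 1 such that q − p does not divide m; put g = gcd(m, q−p),
b = (q−p)/g, α = ⌊mp/(q−p)⌋, β = the remainder of mp modulo q−p and t = (q−p−β)/g, so that 1 ≤ t <
b, and let b/t = c₁ − 1/(c₂ − 1/(⋯ − 1/c_r)) be the negative-regular (Hirzebruch–Jung) continued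
fraction expansion with every cᵢ ≥ 2; set P₀ = 0, P₁ = 1, Q₀ = −1, Q₁ = 0, Pᵢ = cᵢ₋₁Pᵢ₋₁ − Pᵢ₋₂, Qᵢ
= cᵢ₋₁Qᵢ₋₁ − Qᵢ₋₂ for 2 ≤ i ≤ r+1, and eᵢ = (α+1+m)Pᵢ − Qᵢ, lᵢ = (α+1)Pᵢ − Qᵢ, nᵢ = q·lᵢ − p·eᵢ,
which are non-negative integers for 0 ≤ i ≤ r+1; moreover g divides every nᵢ, and write tᵢ = nᵢ/g
(so t₁ = t). Then (a) for every 1 ≤ i ≤ r the remainder of t·Pᵢ on division by b equals tᵢ, and (b)
for every 1 < i ≤ r and every integer x with 0 < x < Pᵢ the remainder ρ of t·x on division by b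
satisfies tᵢ₋₁ ≤ ρ ≤ b + tᵢ − tᵢ₋₁. -/
theorem result (p q m : ℕ) (hp : 0 < p) (hpq : p < q) (hcop : Nat.Coprime p q) (hm : 0 < m) (hnt : ¬ (q - p ∣ m)) (c : List ℤ) (hc : W4c2invhilbsl2.IsHJDigits p q m c) :
    (∀ i : ℕ, 1 ≤ i → i ≤ c.length →
      Int.emod ((W4c2invhilbsl2.tT p q m : ℤ) * W4c2invhilbsl2.hjP c i) (W4c2invhilbsl2.bB p q m : ℤ) = W4c2invhilbsl2.nN p q m c i / (W4c2invhilbsl2.gcdK p q m : ℤ)) ∧
    (∀ i : ℕ, 1 < i → i ≤ c.length → ∀ x : ℤ, 0 < x → x < W4c2invhilbsl2.hjP c i →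
      W4c2invhilbsl2.nN p q m c (i - 1) / (W4c2invhilbsl2.gcdK p q m : ℤ) ≤ Int.emod ((W4c2invhilbsl2.tT p q m : ℤ) * x) (W4c2invhilbsl2.bB p q m : ℤ) ∧
      Int.emod ((W4c2invhilbsl2.tT p q m : ℤ) * x) (W4c2invhilbsl2.bB p q m : ℤ) ≤
        (W4c2invhilbsl2.bB p q m : ℤ) + W4c2invhilbsl2.nN p q m c i / (W4c2invhilbsl2.gcdK p q m : ℤ) - W4c2invhilbsl2.nN p q m c (i - 1) / (W4c2invhilbsl2.gcdK p q m : ℤ)) := by
  have S : Groth.Agent.InvHilb.Setup p q m c := ⟨hpq, hcop, hm, hnt, hc⟩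
  have hb : (0 : ℤ) < W4c2invhilbsl2.bB p q m := Int.natCast_pos.2 (S.t_pos.trans S.t_lt_b)
  have hg : (W4c2invhilbsl2.gcdK p q m : ℤ) ≠ 0 := (Int.natCast_pos.2 S.g_pos).ne'
  have hdiv : ∀ i, W4c2invhilbsl2.nN p q m c i / (W4c2invhilbsl2.gcdK p q m : ℤ) =
      Groth.Agent.InvHilb.NN p q m c i := fun i => by rw [S.nN_eq, Int.mul_ediv_cancel_left _ hg]
  refine ⟨fun i h1 hi => ?_, fun i h1 hi x hx0 hx => ?_⟩
  · rw [hdiv]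
    show ((W4c2invhilbsl2.tT p q m : ℤ) * W4c2invhilbsl2.hjP c i) % (W4c2invhilbsl2.bB p q m : ℤ) = _
    have e : (W4c2invhilbsl2.tT p q m : ℤ) * W4c2invhilbsl2.hjP c i = Groth.Agent.InvHilb.NN p q m c i +
        W4c2invhilbsl2.bB p q m * W4c2invhilbsl2.hjQ c i := by simp only [Groth.Agent.InvHilb.NN]; ring
    rw [e, Int.add_mul_emod_self_left, Int.emod_eq_of_lt (S.NN_pos hi).le (S.NN_lt_b h1 (by omega))]
  · rw [hdiv, hdiv]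
    show _ ≤ ((W4c2invhilbsl2.tT p q m : ℤ) * x) % (W4c2invhilbsl2.bB p q m : ℤ) ∧
      ((W4c2invhilbsl2.tT p q m : ℤ) * x) % (W4c2invhilbsl2.bB p q m : ℤ) ≤ _
    have h0 := Int.emod_nonneg ((W4c2invhilbsl2.tT p q m : ℤ) * x) hb.ne'
    have h1' := Int.emod_lt_of_pos ((W4c2invhilbsl2.tT p q m : ℤ) * x) hb
    rw [Int.emod_def] at h0 h1' ⊢
    exact ⟨S.NN_le (by omega) hi _ hx0 hx h0, S.le_NN (by omega) hi _ hx0 hx h1'⟩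

end Groth.Agent.S15734
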