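import Groth.Statements.S15737
import Mathlib
import Groth.Prelude

set_option linter.all false

set_option autoImplicit false
open W4c2invhilbsl2

open scoped BigOperators

namespace Groth.Agent.S15737

/-- For a monomial X₀^d₀X₁^d₁X₂^d₂ of the polynomial ring in X₀, X₁, X₂ (X₂ standing for Xⱼ, j = 3 or 4,
of the five-variable ring) put n = d₀ − p·d₁ + q·d₂ (its weight for the torus diag(t, t^(−p), t^q)),
c = d₁ − d₂ and ω = p·d₁ − q·d₂, so that d₀ = n + ω; here 0 < p < q are coprime integers. Then n + ω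
< q − p, that is d₀ < q − p, holds if and only if ω is the least value of ω among all monomials with
the same pair (n, c). -/
theorem result (p q : ℕ) (hp : 0 < p) (hpq : p < q) (hcop : Nat.Coprime p q) (d0 d1 d2 : ℕ) :
    d0 < q - p ↔
      ∀ e0 e1 e2 : ℕ, (e0 : ℤ) - (p : ℤ) * e1 + (q : ℤ) * e2 = (d0 : ℤ) - (p : ℤ) * d1 + (q : ℤ) * d2 → (e1 : ℤ) - e2 = (d1 : ℤ) - d2 →
        (p : ℤ) * d1 - (q : ℤ) * d2 ≤ (p : ℤ) * e1 - (q : ℤ) * e2 := by
  constructor
  · intro hd e0 e1 e2 hn hc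
    have hd' : (d0 : ℤ) < (q : ℤ) - p := by omega
    have he : (e0 : ℤ) = d0 - ((q : ℤ) - p) * ((e2 : ℤ) - d2) := by
      have : (e1 : ℤ) = d1 + ((e2 : ℤ) - d2) := by omega
      rw [this] at hn
      linear_combination hn
    have hle : (e2 : ℤ) ≤ d2 := by
      by_contra hlt
      have := mul_le_mul_of_nonneg_left (show (1 : ℤ) ≤ (e2 : ℤ) - d2 by omega) (show (0 : ℤ) ≤ (q : ℤ) - p by omega)
      omega
    have : (e1 : ℤ) = d1 + ((e2 : ℤ) - d2) := by omega
    rw [this]
    nlinarith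
  · intro h
    by_contra hd
    obtain ⟨r, hr⟩ : ∃ r, d0 = r + (q - p) := ⟨d0 - (q - p), by omega⟩
    have := h r (d1 + 1) (d2 + 1) (by subst hr; push_cast [Nat.cast_sub hpq.le]; ring) (by omega)
    push_cast at this
    nlinarith

end Groth.Agent.S15737
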