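import Groth.Statements.S15738
import Mathlib
import Groth.Prelude

set_option linter.all false

set_option autoImplicit false
universe u
open W4c2invhilbsl2

open MvPolynomial

namespace Groth.Agent.S15738

section
variable (k : Type u) [Field k]

noncomputable def mon (d0 d1 d2 : ℕ) : MvPolynomial (Fin 3) k :=
  MvPolynomial.X (0 : Fin 3) ^ d0 * MvPolynomial.X (1 : Fin 3) ^ d1 * MvPolynomial.X (2 : Fin 3) ^ d2

theorem same_class (p q : ℕ) (hpq : p < q) (I : Ideal (MvPolynomial (Fin 3) k))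
    (hI : MvPolynomial.X (0 : Fin 3) ^ (q - p) - MvPolynomial.X (1 : Fin 3) * MvPolynomial.X (2 : Fin 3) ∈ I)
    (d0 d1 d2 e0 e1 e2 : ℕ) (hn : (e0 : ℤ) - (p : ℤ) * e1 + (q : ℤ) * e2 = (d0 : ℤ) - (p : ℤ) * d1 + (q : ℤ) * d2)
    (hc : (d1 : ℤ) - d2 = (e1 : ℤ) - e2) : mon k d0 d1 d2 - mon k e0 e1 e2 ∈ I := by
  wlog hle : d2 ≤ e2 generalizing d0 d1 d2 e0 e1 e2
  · rw [← neg_sub]; exact I.neg_mem (this e0 e1 e2 d0 d1 d2 hn.symm hc.symm (le_of_not_ge hle))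
  obtain ⟨t, rfl⟩ : ∃ t, e2 = d2 + t := ⟨e2 - d2, by omega⟩
  obtain rfl : e1 = d1 + t := by omega
  have h0 : d0 = e0 + (q - p) * t := by
    have : (d0 : ℤ) = ((e0 + (q - p) * t : ℕ) : ℤ) := by
      push_cast [Nat.cast_sub hpq.le] at hn ⊢
      linear_combination -hn
    exact_mod_cast this
  subst h0
  obtain ⟨c, hc⟩ := sub_dvd_pow_sub_pow (MvPolynomial.X (0 : Fin 3) ^ (q - p) : MvPolynomial (Fin 3) k)
    (MvPolynomial.X (1 : Fin 3) * MvPolynomial.X (2 : Fin 3)) t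
  have : mon k (e0 + (q - p) * t) d1 d2 - mon k e0 (d1 + t) (d2 + t) =
      (MvPolynomial.X (0 : Fin 3) ^ (q - p) - MvPolynomial.X (1 : Fin 3) * MvPolynomial.X (2 : Fin 3)) *
        (c * mon k e0 d1 d2) := by
    rw [← mul_assoc, ← hc, mon, mon, mon, pow_add, pow_add, pow_add, pow_mul, mul_pow]; ring
  rw [this]
  exact I.mul_mem_right _ hI

end

/-- Let k be a field and m ≥ 1; for a monomial X₀^d₀X₁^d₁X₂^d₂ of the polynomial ring in X₀, X₁, X₂ (X₂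
standing for Xⱼ, j = 3 or 4, of the five-variable ring) put n = d₀ − p·d₁ + q·d₂ (its weight for the
torus diag(t, t^(−p), t^q)), c = d₁ − d₂ and ω = p·d₁ − q·d₂, so that d₀ = n + ω; here 0 < p < q are
coprime integers. Take two monomials X₀^d₀X₁^d₁X₂^d₂ and X₀^e₀X₁^e₁X₂^e₂ with the same n and with
values c, c' of c congruent modulo m (so both lie in the same ℤ × ℤ/m-weight piece for the weights
(1,0), (−p,−1), (q,1)). Then: (i) if c = c', the difference of the two monomials lies in the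
principal ideal (X₀^(q−p) − X₁X₂); (ii) if c' < c, the monomial X₀^d₀X₁^d₁X₂^d₂ lies in the ideal
(X₀^(q−p) − X₁X₂, X₀^(mp)X₁^m); (iii) in all cases the difference lies in the ideal (X₀^(q−p) −
X₁X₂, 1 − X₀^(mp)X₁^m). -/
theorem result (k : Type u) [Field k] (p q m : ℕ) (hp : 0 < p) (hpq : p < q) (hcop : Nat.Coprime p q) (hm : 0 < m)
    (d0 d1 d2 e0 e1 e2 : ℕ) (hn : (e0 : ℤ) - (p : ℤ) * e1 + (q : ℤ) * e2 = (d0 : ℤ) - (p : ℤ) * d1 + (q : ℤ) * d2)
    (hc : (m : ℤ) ∣ ((d1 : ℤ) - d2) - ((e1 : ℤ) - e2)) :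
    ((d1 : ℤ) - d2 = (e1 : ℤ) - e2 →
      (MvPolynomial.X (0 : Fin 3) ^ d0 * MvPolynomial.X (1 : Fin 3) ^ d1 * MvPolynomial.X (2 : Fin 3) ^ d2 - MvPolynomial.X (0 : Fin 3) ^ e0 * MvPolynomial.X (1 : Fin 3) ^ e1 * MvPolynomial.X (2 : Fin 3) ^ e2 : MvPolynomial (Fin 3) k) ∈ Ideal.span {MvPolynomial.X (0 : Fin 3) ^ (q - p) - MvPolynomial.X (1 : Fin 3) * MvPolynomial.X (2 : Fin 3)}) ∧
    ((e1 : ℤ) - e2 < (d1 : ℤ) - d2 →
      (MvPolynomial.X (0 : Fin 3) ^ d0 * MvPolynomial.X (1 : Fin 3) ^ d1 * MvPolynomial.X (2 : Fin 3) ^ d2 : MvPolynomial (Fin 3) k) ∈ Ideal.span {MvPolynomial.X (0 : Fin 3) ^ (q - p) - MvPolynomial.X (1 : Fin 3) * MvPolynomial.X (2 : Fin 3), MvPolynomial.X (0 : Fin 3) ^ (m * p) * MvPolynomial.X (1 : Fin 3) ^ m}) ∧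
    ((MvPolynomial.X (0 : Fin 3) ^ d0 * MvPolynomial.X (1 : Fin 3) ^ d1 * MvPolynomial.X (2 : Fin 3) ^ d2 - MvPolynomial.X (0 : Fin 3) ^ e0 * MvPolynomial.X (1 : Fin 3) ^ e1 * MvPolynomial.X (2 : Fin 3) ^ e2 : MvPolynomial (Fin 3) k) ∈ Ideal.span {MvPolynomial.X (0 : Fin 3) ^ (q - p) - MvPolynomial.X (1 : Fin 3) * MvPolynomial.X (2 : Fin 3), 1 - MvPolynomial.X (0 : Fin 3) ^ (m * p) * MvPolynomial.X (1 : Fin 3) ^ m}) := by
  refine ⟨fun h => same_class k p q hpq _ (Ideal.mem_span_singleton_self _) d0 d1 d2 e0 e1 e2 hn h, fun h => ?_, ?_⟩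
  · obtain ⟨j, hj⟩ := hc
    have hj1 : 1 ≤ j := by
      by_contra hlt
      have := mul_le_mul_of_nonneg_left (show j ≤ 0 by omega) (Int.natCast_nonneg m)
      omega
    obtain ⟨t, rfl⟩ : ∃ t : ℕ, j = t + 1 := ⟨(j - 1).toNat, by omega⟩
    set I := Ideal.span {MvPolynomial.X (0 : Fin 3) ^ (q - p) - MvPolynomial.X (1 : Fin 3) * MvPolynomial.X (2 : Fin 3),
      (MvPolynomial.X (0 : Fin 3) ^ (m * p) * MvPolynomial.X (1 : Fin 3) ^ m : MvPolynomial (Fin 3) k)}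
    have hmem : mon k (e0 + (t + 1) * (m * p)) (e1 + (t + 1) * m) e2 ∈ I := by
      rw [show mon k (e0 + (t + 1) * (m * p)) (e1 + (t + 1) * m) e2 =
        (MvPolynomial.X (0 : Fin 3) ^ (m * p) * MvPolynomial.X (1 : Fin 3) ^ m) * mon k (e0 + t * (m * p)) (e1 + t * m) e2 by
          simp only [mon]; ring]
      exact I.mul_mem_right _ (Ideal.subset_span (by simp))
    have := I.add_mem (same_class k p q hpq I (Ideal.subset_span (by simp)) d0 d1 d2 (e0 + (t + 1) * (m * p)) (e1 + (t + 1) * m) e2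
      (by push_cast; linear_combination hn) (by push_cast; push_cast at hj; linarith)) hmem
    rwa [sub_add_cancel] at this
  · have key : ∀ (d0 d1 d2 e0 e1 e2 : ℕ), (e0 : ℤ) - (p : ℤ) * e1 + (q : ℤ) * e2 = (d0 : ℤ) - (p : ℤ) * d1 + (q : ℤ) * d2 →
        ∀ t : ℕ, ((d1 : ℤ) - d2) - ((e1 : ℤ) - e2) = m * t →
        mon k d0 d1 d2 - mon k e0 e1 e2 ∈ Ideal.span {MvPolynomial.X (0 : Fin 3) ^ (q - p) - MvPolynomial.X (1 : Fin 3) * MvPolynomial.X (2 : Fin 3), 1 - MvPolynomial.X (0 : Fin 3) ^ (m * p) * MvPolynomial.X (1 : Fin 3) ^ m} := by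
      intro d0 d1 d2 e0 e1 e2 hn t ht
      set I := Ideal.span {MvPolynomial.X (0 : Fin 3) ^ (q - p) - MvPolynomial.X (1 : Fin 3) * MvPolynomial.X (2 : Fin 3),
        (1 - MvPolynomial.X (0 : Fin 3) ^ (m * p) * MvPolynomial.X (1 : Fin 3) ^ m : MvPolynomial (Fin 3) k)}
      have h1 := same_class k p q hpq I (Ideal.subset_span (by simp)) d0 d1 d2 (e0 + t * (m * p)) (e1 + t * m) e2
        (by push_cast; linear_combination hn) (by push_cast; linarith)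
      have h2 : mon k (e0 + t * (m * p)) (e1 + t * m) e2 - mon k e0 e1 e2 ∈ I := by
        rw [show mon k (e0 + t * (m * p)) (e1 + t * m) e2 - mon k e0 e1 e2 =
          -((1 ^ t - (MvPolynomial.X (0 : Fin 3) ^ (m * p) * MvPolynomial.X (1 : Fin 3) ^ m) ^ t) * mon k e0 e1 e2) by
            simp only [mon, one_pow, mul_pow, ← pow_mul]; ring]
        obtain ⟨c, hc⟩ := sub_dvd_pow_sub_pow (1 : MvPolynomial (Fin 3) k)
          (MvPolynomial.X (0 : Fin 3) ^ (m * p) * MvPolynomial.X (1 : Fin 3) ^ m) t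
        rw [hc]
        exact I.neg_mem (I.mul_mem_right _ (I.mul_mem_right _ (Ideal.subset_span (by simp))))
      have := I.add_mem h1 h2
      rwa [sub_add_sub_cancel] at this
    obtain ⟨j, hj⟩ := hc
    rcases Int.eq_nat_or_neg j with ⟨t, rfl | rfl⟩
    · exact key d0 d1 d2 e0 e1 e2 hn t hj
    · have := Ideal.neg_mem_iff _ |>.2 (key e0 e1 e2 d0 d1 d2 hn.symm t (by linear_combination -hj))
      rw [neg_sub] at this
      exact this

end Groth.Agent.S15738
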