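import Groth.Statements.S15739
import Mathlib
import Groth.Prelude

set_option linter.all false

set_option autoImplicit false
universe u
open W4c2invhilbsl2

open MvPolynomial

namespace Groth.Agent.S15739

section
variable (k : Type u) [Field k]

noncomputable def mon (d0 d1 d2 : ℕ) : MvPolynomial (Fin 3) k :=
  MvPolynomial.X (0 : Fin 3) ^ d0 * MvPolynomial.X (1 : Fin 3) ^ d1 * MvPolynomial.X (2 : Fin 3) ^ d2

theorem same_class (p q : ℕ) (hpq : p < q) (I : Ideal (MvPolynomial (Fin 3) k))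
    (hI : MvPolynomial.X (0 : Fin 3) ^ (q - p) - MvPolynomial.X (1 : Fin 3) * MvPolynomial.X (2 : Fin 3) ∈ I)
    (d0 d1 d2 e0 e1 e2 : ℕ) (hn : (e0 : ℤ) - (p : ℤ) * e1 + (q : ℤ) * e2 = (d0 : ℤ) - (p : ℤ) * d1 + (q : ℤ) * d2)
    (hc : (d1 : ℤ) - d2 = (e1 : ℤ) - e2) : mon k d0 d1 d2 - mon k e0 e1 e2 ∈ I := by
  wlog hle : d2 ≤ e2 generalizing d0 d1 d2 e0 e1 e2
  · rw [← neg_sub]; exact I.neg_mem (this e0 e1 e2 d0 d1 d2 hn.symm hc.symm (le_of_not_ge hle))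
  obtain ⟨t, rfl⟩ : ∃ t, e2 = d2 + t := ⟨e2 - d2, by omega⟩
  obtain rfl : e1 = d1 + t := by omega
  have h0 : d0 = e0 + (q - p) * t := by
    have : (d0 : ℤ) = ((e0 + (q - p) * t : ℕ) : ℤ) := by
      push_cast [Nat.cast_sub hpq.le] at hn ⊢
      linear_combination -hn
    exact_mod_cast this
  subst h0
  obtain ⟨c, hc⟩ := sub_dvd_pow_sub_pow (MvPolynomial.X (0 : Fin 3) ^ (q - p) : MvPolynomial (Fin 3) k)
    (MvPolynomial.X (1 : Fin 3) * MvPolynomial.X (2 : Fin 3)) t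
  have : mon k (e0 + (q - p) * t) d1 d2 - mon k e0 (d1 + t) (d2 + t) =
      (MvPolynomial.X (0 : Fin 3) ^ (q - p) - MvPolynomial.X (1 : Fin 3) * MvPolynomial.X (2 : Fin 3)) *
        (c * mon k e0 d1 d2) := by
    rw [← mul_assoc, ← hc, mon, mon, mon, pow_add, pow_add, pow_add, pow_mul, mul_pow]; ring
  rw [this]
  exact I.mul_mem_right _ hI

end

/-- Let k be a field and m ≥ 1, put g = gcd(m, q−p), a = m/g and b = (q−p)/g; for a monomial
X₀^d₀X₁^d₁X₂^d₂ of the polynomial ring in X₀, X₁, X₂ (X₂ standing for Xⱼ, j = 3 or 4, of the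
five-variable ring) put n = d₀ − p·d₁ + q·d₂ (its weight for the torus diag(t, t^(−p), t^q)), c = d₁
− d₂ and ω = p·d₁ − q·d₂, so that d₀ = n + ω; here 0 < p < q are coprime integers. Take two
monomials X₀^d₀X₁^d₁X₂^d₂ and X₀^e₀X₁^e₁X₂^e₂ with the same n, where 0 ≤ n < q − p, whose values c
and c' of c are both divisible by m, and with d₀ < g and e₀ < g (so each has the least ω for its
pair (n, c), as g ≤ q − p). Then: (i) d₀ = e₀, i.e. the two values of ω agree, and m·b divides c −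
c'; (ii) if c < c', then X₀^e₀X₁^e₁X₂^e₂ is a multiple of X₀^d₀X₁^d₁X₂^d₂ · X₁^(aq)X₂^(ap); (iii)
the difference of the two monomials lies in the principal ideal (1 − X₁^(aq)X₂^(ap)). -/
theorem result (k : Type u) [Field k] (p q m : ℕ) (hp : 0 < p) (hpq : p < q) (hcop : Nat.Coprime p q) (hm : 0 < m)
    (d0 d1 d2 e0 e1 e2 : ℕ) (hn : (e0 : ℤ) - (p : ℤ) * e1 + (q : ℤ) * e2 = (d0 : ℤ) - (p : ℤ) * d1 + (q : ℤ) * d2)
    (hn0 : 0 ≤ (d0 : ℤ) - (p : ℤ) * d1 + (q : ℤ) * d2) (hnq : (d0 : ℤ) - (p : ℤ) * d1 + (q : ℤ) * d2 < (q : ℤ) - p)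
    (hcd : (m : ℤ) ∣ (d1 : ℤ) - d2) (hce : (m : ℤ) ∣ (e1 : ℤ) - e2)
    (hd0 : d0 < Nat.gcd m (q - p)) (he0 : e0 < Nat.gcd m (q - p)) :
    (d0 = e0 ∧ ((m : ℤ) * ((q - p) / Nat.gcd m (q - p) : ℕ)) ∣ ((d1 : ℤ) - d2) - ((e1 : ℤ) - e2)) ∧
    ((d1 : ℤ) - d2 < (e1 : ℤ) - e2 →
      (MvPolynomial.X (0 : Fin 3) ^ d0 * MvPolynomial.X (1 : Fin 3) ^ d1 * MvPolynomial.X (2 : Fin 3) ^ d2 * (MvPolynomial.X (1 : Fin 3) ^ (m / Nat.gcd m (q - p) * q) * MvPolynomial.X (2 : Fin 3) ^ (m / Nat.gcd m (q - p) * p)) : MvPolynomial (Fin 3) k) ∣ MvPolynomial.X (0 : Fin 3) ^ e0 * MvPolynomial.X (1 : Fin 3) ^ e1 * MvPolynomial.X (2 : Fin 3) ^ e2) ∧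
    ((MvPolynomial.X (0 : Fin 3) ^ e0 * MvPolynomial.X (1 : Fin 3) ^ e1 * MvPolynomial.X (2 : Fin 3) ^ e2 - MvPolynomial.X (0 : Fin 3) ^ d0 * MvPolynomial.X (1 : Fin 3) ^ d1 * MvPolynomial.X (2 : Fin 3) ^ d2 : MvPolynomial (Fin 3) k) ∈
      Ideal.span {(1 : MvPolynomial (Fin 3) k) - MvPolynomial.X (1 : Fin 3) ^ (m / Nat.gcd m (q - p) * q) * MvPolynomial.X (2 : Fin 3) ^ (m / Nat.gcd m (q - p) * p)}) := by
  set g := Nat.gcd m (q - p) with hg
  have hgpos : 0 < g := Nat.gcd_pos_of_pos_left _ hm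
  obtain ⟨a, b, hab, ha, hb⟩ : ∃ a b : ℕ, Nat.Coprime a b ∧ m = g * a ∧ q - p = g * b := by
    obtain ⟨a, b, h1, h2, h3⟩ := Nat.exists_coprime m (q - p)
    exact ⟨a, b, h1, by rw [hg, mul_comm]; exact h2, by rw [hg, mul_comm]; exact h3⟩
  have hQ : (q : ℤ) - p = (g : ℤ) * b := by rw [← Nat.cast_mul, ← hb, Nat.cast_sub hpq.le]
  have hmZ : (m : ℤ) = (g : ℤ) * a := by exact_mod_cast ha
  rw [show m / g = a by rw [ha, Nat.mul_div_cancel_left _ hgpos], show (q - p) / g = b by rw [hb, Nat.mul_div_cancel_left _ hgpos]]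
  obtain ⟨u, hu⟩ := hcd
  obtain ⟨w, hw⟩ := hce
  have h0 : d0 = e0 := by
    have hdvd : (g : ℤ) ∣ (d0 : ℤ) - e0 :=
      ⟨(p : ℤ) * a * (u - w) + b * ((e2 : ℤ) - d2), by
        linear_combination -hn + (p : ℤ) * (hu - hw) + ((e2 : ℤ) - d2) * hQ + (p : ℤ) * (u - w) * hmZ⟩
    have := Int.eq_zero_of_abs_lt_dvd hdvd (abs_sub_lt_iff.2 ⟨by omega, by omega⟩)
    omega
  subst h0
  have hgb : ((g : ℤ) * b) ∣ ((d1 : ℤ) - d2) - ((e1 : ℤ) - e2) := by
    have hco : IsCoprime ((g : ℤ) * b) (p : ℤ) := by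
      rw [← hQ]
      have h1 : IsCoprime (q : ℤ) (p : ℤ) := Nat.Coprime.isCoprime (hcop.symm)
      simpa [sub_eq_add_neg, mul_comm] using h1.add_mul_right_left (-1)
    exact hco.dvd_of_dvd_mul_left ⟨(d2 : ℤ) - e2, by linear_combination hn + ((d2 : ℤ) - e2) * hQ⟩
  have hmb : (m : ℤ) * b ∣ ((d1 : ℤ) - d2) - ((e1 : ℤ) - e2) := by
    obtain ⟨r, hr⟩ := hgb
    have h1 : (a : ℤ) ∣ (b : ℤ) * r := ⟨u - w, by
      apply mul_left_cancel₀ (show (g : ℤ) ≠ 0 by exact_mod_cast hgpos.ne')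
      linear_combination hu - hw - hr + (u - w) * hmZ⟩
    obtain ⟨r', hr'⟩ := (Nat.Coprime.isCoprime hab).dvd_of_dvd_mul_left h1
    exact ⟨r', by rw [hr, hr', hmZ]; ring⟩
  obtain ⟨t, ht⟩ := hmb
  have hb0 : 0 < b := by
    rcases Nat.eq_zero_or_pos b with rfl | h
    · rw [mul_zero] at hb; omega
    · exact h
  have hmb0 : (0 : ℤ) < (m : ℤ) * b := mul_pos (by exact_mod_cast hm) (by exact_mod_cast hb0)
  have hQ0 : (g : ℤ) * b ≠ 0 := (mul_pos (by exact_mod_cast hgpos) (by exact_mod_cast hb0)).ne'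
  have h22 : (d2 : ℤ) - e2 = (p : ℤ) * a * t := mul_left_cancel₀ hQ0 (by
    linear_combination -hn + (p : ℤ) * ht + (p : ℤ) * b * t * hmZ - ((d2 : ℤ) - e2) * hQ)
  have h11 : (d1 : ℤ) - e1 = (q : ℤ) * a * t := by linear_combination ht + h22 + t * b * hmZ - (a : ℤ) * t * hQ
  refine ⟨⟨rfl, t, ht⟩, fun hlt => ?_, ?_⟩
  · have ht0 : t ≤ -1 := by
      by_contra hge
      have := mul_nonneg hmb0.le (show (0 : ℤ) ≤ t by omega)
      omega
    obtain ⟨j, rfl⟩ : ∃ j : ℕ, t = -(j : ℤ) - 1 := ⟨(-t - 1).toNat, by omega⟩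
    obtain rfl : e1 = d1 + a * q + j * (a * q) := by
      have : (e1 : ℤ) = ((d1 + a * q + j * (a * q) : ℕ) : ℤ) := by push_cast; linear_combination -h11
      exact_mod_cast this
    obtain rfl : e2 = d2 + a * p + j * (a * p) := by
      have : (e2 : ℤ) = ((d2 + a * p + j * (a * p) : ℕ) : ℤ) := by push_cast; linear_combination -h22
      exact_mod_cast this
    exact ⟨MvPolynomial.X 1 ^ (j * (a * q)) * MvPolynomial.X 2 ^ (j * (a * p)), by ring⟩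
  · set U := (MvPolynomial.X (1 : Fin 3) ^ (a * q) * MvPolynomial.X (2 : Fin 3) ^ (a * p) : MvPolynomial (Fin 3) k)
    set I := Ideal.span {(1 : MvPolynomial (Fin 3) k) - U}
    have key : ∀ (x1 x2 y1 y2 j : ℕ), x1 = y1 + j * (a * q) → x2 = y2 + j * (a * p) →
        mon k d0 y1 y2 - mon k d0 x1 x2 ∈ I := by
      rintro x1 x2 y1 y2 j rfl rfl
      obtain ⟨c, hc⟩ := sub_dvd_pow_sub_pow (1 : MvPolynomial (Fin 3) k) U j
      rw [show mon k d0 y1 y2 - mon k d0 (y1 + j * (a * q)) (y2 + j * (a * p)) = (1 ^ j - U ^ j) * mon k d0 y1 y2 by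
        simp only [mon, U, one_pow, mul_pow, ← pow_mul]; ring, hc]
      exact I.mul_mem_right _ (I.mul_mem_right _ (Ideal.mem_span_singleton_self _))
    rcases Int.eq_nat_or_neg t with ⟨j, rfl | rfl⟩
    · refine key d1 d2 e1 e2 j ?_ ?_
      · have : (d1 : ℤ) = ((e1 + j * (a * q) : ℕ) : ℤ) := by push_cast; linear_combination h11
        exact_mod_cast this
      · have : (d2 : ℤ) = ((e2 + j * (a * p) : ℕ) : ℤ) := by push_cast; linear_combination h22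
        exact_mod_cast this
    · rw [← neg_sub]
      refine I.neg_mem (key e1 e2 d1 d2 j ?_ ?_)
      · have : (e1 : ℤ) = ((d1 + j * (a * q) : ℕ) : ℤ) := by push_cast; linear_combination -h11
        exact_mod_cast this
      · have : (e2 : ℤ) = ((d2 + j * (a * p) : ℕ) : ℤ) := by push_cast; linear_combination -h22
        exact_mod_cast this

end Groth.Agent.S15739
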