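import Groth.Statements.S15740
import Mathlib
import Groth.Prelude

set_option linter.all false

set_option autoImplicit false
open W4c2invhilbsl2

open scoped BigOperators

namespace Groth.Agent.S15740

/-- For a monomial X₀^d₀X₁^d₁X₂^d₂ of the polynomial ring in X₀, X₁, X₂ (X₂ standing for Xⱼ, j = 3 or 4,
of the five-variable ring) put n = d₀ − p·d₁ + q·d₂ (its weight for the torus diag(t, t^(−p), t^q)),
c = d₁ − d₂ and ω = p·d₁ − q·d₂, so that d₀ = n + ω; here 0 < p < q are coprime integers. Suppose n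
≥ 0, c > 0 and d₀ < q − p (the last condition says that ω is the least value of ω for the pair (n,
c)). Then ω ≥ 0 if and only if the remainder of p·c on division by q − p, plus n, is less than q −
p. -/
theorem result (p q : ℕ) (hp : 0 < p) (hpq : p < q) (hcop : Nat.Coprime p q) (d0 d1 d2 : ℕ)
    (hn : 0 ≤ (d0 : ℤ) - (p : ℤ) * d1 + (q : ℤ) * d2) (hc : (d2 : ℤ) < d1) (hd0 : d0 < q - p) :
    0 ≤ (p : ℤ) * d1 - (q : ℤ) * d2 ↔
      Int.emod ((p : ℤ) * ((d1 : ℤ) - d2)) ((q : ℤ) - p) + ((d0 : ℤ) - (p : ℤ) * d1 + (q : ℤ) * d2) < (q : ℤ) - p := by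
  have hd0' : (d0 : ℤ) < (q : ℤ) - p := by omega
  set ω := (p : ℤ) * d1 - (q : ℤ) * d2 with hω
  set Q := (q : ℤ) - p with hQ
  show 0 ≤ ω ↔ ((p : ℤ) * ((d1 : ℤ) - d2)) % Q + _ < Q
  rw [show (p : ℤ) * ((d1 : ℤ) - d2) = ω + Q * d2 by rw [hω, hQ]; ring, Int.add_mul_emod_self_left,
    show (d0 : ℤ) - (p : ℤ) * d1 + (q : ℤ) * d2 = d0 - ω by rw [hω]; ring]
  rw [show (d0 : ℤ) - (p : ℤ) * d1 + (q : ℤ) * d2 = d0 - ω by rw [hω]; ring] at hn
  by_cases hs : 0 ≤ ω
  · rw [Int.emod_eq_of_lt hs (by omega)]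
    exact ⟨fun _ => by omega, fun _ => hs⟩
  · have h1 := Int.emod_nonneg ω (show Q ≠ 0 by omega)
    have h2 := Int.emod_add_mul_ediv ω Q
    have h3 : ω / Q ≤ -1 := by
      by_contra hlt
      have := mul_nonneg (show (0 : ℤ) ≤ Q by omega) (show (0 : ℤ) ≤ ω / Q by omega)
      omega
    have h4 : Q * (ω / Q) ≤ -Q := by
      have := mul_le_mul_of_nonneg_left h3 (show (0 : ℤ) ≤ Q by omega)
      linarith
    exact ⟨fun h => absurd h hs, fun h => by omega⟩

end Groth.Agent.S15740
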