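import Groth.Statements.S15745
import Groth.Agent.AmpleLib.GenLocus
import Groth.Agent.AmpleLib.Tensor

set_option autoImplicit false
universe u
open QCohSup

namespace Groth.Agent.S15745

open AlgebraicGeometry in
open CategoryTheory in
/-- Let `X` be a scheme, `L` and `L'` invertible `O_X`-modules, `f` a global section of `L` and `g` a
global section of `L'`. Then the open `X_{f ⊗ g}` where `f ⊗ g` generates `L ⊗ L'` is the
intersection of the open `X_f` where `f` generates `L` and the open `X_g` where `g` generates `L'`.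
(The published statement is for a locally ringed space; this row is its case of a scheme.) -/
theorem result
    (X : Scheme.{u}) (L L' : X.Modules) (hL : PicF.IsInvertible L) (hL' : PicF.IsInvertible L')
    (f : Coh.structureModule X ⟶ L) (g : Coh.structureModule X ⟶ L') :
    CohB1.genLocus (CohB1.tensorMod L L') (SecTwist.tmulHom f g) =
      CohB1.genLocus L f ⊓ CohB1.genLocus L' g := by
  refine TopologicalSpace.Opens.ext (Set.ext fun x => ?_)
  obtain ⟨U₁, hx₁, l, hl⟩ := PicLib.exists_isGen hL x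
  obtain ⟨U₂, hx₂, l', hl'⟩ := PicLib.exists_isGen hL' x
  have hl₀ := hl.restrict (inf_le_left : U₁ ⊓ U₂ ≤ U₁)
  have hl'₀ := hl'.restrict (inf_le_right : U₁ ⊓ U₂ ≤ U₂)
  have hT := AmpleLib.isGen_tmul hl₀ hl'₀
  have h1 := SetLike.ext_iff.1 (AmpleLib.genLocus_inf_eq_basicOpen f hl₀) x
  have h2 := SetLike.ext_iff.1 (AmpleLib.genLocus_inf_eq_basicOpen g hl'₀) x
  have h3 := SetLike.ext_iff.1 (AmpleLib.genLocus_inf_eq_basicOpen (SecTwist.tmulHom f g) hT) x
  have hc : hT.coef le_rfl (Coherent.unitVal (SecTwist.tmulHom f g) (U₁ ⊓ U₂)) =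
      hl₀.coef le_rfl (Coherent.unitVal f (U₁ ⊓ U₂)) * hl'₀.coef le_rfl (Coherent.unitVal g (U₁ ⊓ U₂)) := by
    refine PicLib.IsGen.coef_eq _ _ ?_
    have e1 := hl₀.coef_spec le_rfl (Coherent.unitVal f (U₁ ⊓ U₂))
    have e2 := hl'₀.coef_spec le_rfl (Coherent.unitVal g (U₁ ⊓ U₂))
    simp only [PicLib.resM_self] at e1 e2 ⊢
    refine Eq.trans ?_ (SecTwist.val_tmulHom f g (U₁ ⊓ U₂)).symm
    refine Eq.trans ?_ (congrArg₂ (fun (a : Γ(L, U₁ ⊓ U₂)) (b : Γ(L', U₁ ⊓ U₂)) => SecTwist.tmul L L' (U₁ ⊓ U₂) a b) e1 e2)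
    exact (AmpleLib.tmul_smul_smul _ _ _ _).symm
  rw [hc, Scheme.basicOpen_mul] at h3
  simp only [TopologicalSpace.Opens.mem_inf] at h1 h2 h3
  simp only [SetLike.mem_coe, TopologicalSpace.Opens.mem_inf]
  tauto

end Groth.Agent.S15745
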