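import Groth.Statements.S15749
import Mathlib.Algebra.Module.StablyFree.Basic
import Mathlib.Algebra.Order.Ring.Star
import Mathlib.Data.Int.ConditionallyCompleteOrder
import Mathlib.Order.CompletePartialOrder
import Mathlib.RingTheory.Flat.TorsionFree
import Mathlib.RingTheory.LaurentSeries
import Mathlib.RingTheory.LocalRing.Pullback
import Mathlib.RingTheory.SimpleRing.Principal
import Mathlib.RingTheory.TotallySplit
import Mathlib.Topology.Algebra.Module.ModuleTopology
import Mathlib.Topology.Instances.Matrix
import Mathlib.Tactic

set_option linter.all false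

set_option autoImplicit false
universe u
open CAlg


namespace Groth.Agent.S15749

/-- For an arbitrary commutative ring R, every idempotent of the ring of formal Laurent series R((t)) is
the constant series attached to a unique idempotent of R. Equivalently, the structure map R → R((t))
induces a bijection on idempotents, so that the spectrum of R((t)) is connected if and only if the
spectrum of R is. No reducedness is assumed. -/
theorem result (R : Type u) [CommRing R]
    (e : LaurentSeries R) (he : IsIdempotentElem e) :
    ∃! r : R, IsIdempotentElem r ∧ HahnSeries.C r = e := by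
  classical
  let S := PowerSeries R
  have hu : IsUnit (1 + PowerSeries.X : S) := PowerSeries.isUnit_iff_constantCoeff.mpr (by simp)
  let U : Sˣ := hu.unit
  let T : LaurentSeries R → LaurentSeries S := fun x =>
    { coeff := fun n => PowerSeries.C (x.coeff n) * ((U ^ n : Sˣ) : S)
      isPWO_support' := x.isPWO_support.mono fun n hn h => hn (by simp [h]) }
  let E : LaurentSeries R → LaurentSeries S := fun x => x.map (PowerSeries.C (R := R)).toAddMonoidHom
  have hsT : ∀ x, (T x).support ⊆ x.support := fun x n hn h => hn (by simp [T, h])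
  have hsE : ∀ x, (E x).support ⊆ x.support := fun x n hn h => hn (by simp [E, h])
  have hTmul : ∀ x y, T (x * y) = T x * T y := by
    intro x y; ext1; funext n
    rw [HahnSeries.coeff_mul_left' x.isPWO_support (hsT x)]
    rw [show (T (x*y)).coeff n = PowerSeries.C ((x*y).coeff n) * ((U ^ n : Sˣ) : S) from rfl, HahnSeries.coeff_mul, map_sum, Finset.sum_mul]
    symm
    refine (Finset.sum_subset ?_ ?_).trans (Finset.sum_congr rfl fun ij hij => ?_)
    · intro ij hij
      simp only [Finset.mem_antidiagonal, HahnSeries.mem_support, ne_eq] at hij ⊢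
      refine ⟨hij.1, fun h => hij.2.1 (by simp [T, h]), hij.2.2⟩
    · intro ij hij hij'
      simp only [Finset.mem_antidiagonal, HahnSeries.mem_support, ne_eq] at hij hij'
      have : (T y).coeff ij.2 = 0 := by tauto
      rw [this, mul_zero]
    · simp only [Finset.mem_antidiagonal] at hij
      simp only [T, map_mul]
      rw [← hij.2.2, zpow_add, Units.val_mul]; ring
  have hEmul : ∀ x y, E (x * y) = E x * E y := fun x y => HahnSeries.map_mul (PowerSeries.C (R := R)).toNonUnitalRingHom
  let d := T e - E e
  have hd3 : d * d * d = d := by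
    have h1 : T e * T e = T e := by rw [← hTmul, he.eq]
    have h2 : E e * E e = E e := by rw [← hEmul, he.eq]
    simp only [d]
    linear_combination (T e) * h1 + h1 - (E e) * h2 - h2 - 3 * (E e) * h1 + 3 * (T e) * h2
  let J : Ideal S := Ideal.span {PowerSeries.X}
  have hmul : ∀ (x y : LaurentSeries S) a b, (∀ n, x.coeff n ∈ J ^ a) → (∀ n, y.coeff n ∈ J ^ b) → ∀ n, (x * y).coeff n ∈ J ^ (a + b) := by
    intro x y a b hx hy n
    rw [HahnSeries.coeff_mul, pow_add]
    exact sum_mem fun ij _ => Ideal.mul_mem_mul (hx _) (hy _)
  have hJ1 : ∀ n, d.coeff n ∈ J ^ 1 := by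
    intro n
    rw [pow_one, Ideal.mem_span_singleton, PowerSeries.X_dvd_iff]
    have hU : PowerSeries.constantCoeff ((U ^ n : Sˣ) : S) = 1 := by
      have hU1 : Units.map (PowerSeries.constantCoeff (R := R) : S →* R) U = 1 := by
        ext; simp [U]; exact PowerSeries.constantCoeff_X
      have : Units.map (PowerSeries.constantCoeff (R := R) : S →* R) (U ^ n) = 1 := by rw [map_zpow, hU1, one_zpow]
      exact congrArg Units.val this
    simp [d, T, E, hU]
  have hJk : ∀ k : ℕ, ∀ n, d.coeff n ∈ J ^ (k + 1) := by
    intro k; induction k with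
    | zero => exact hJ1
    | succ k ih =>
      intro n
      rw [← hd3]
      exact Ideal.pow_le_pow_right (by omega) (hmul _ _ _ _ (hmul _ _ _ _ ih ih) ih n)
  have hd0 : ∀ n, d.coeff n = 0 := fun n => by
    ext k
    have := hJk k n
    rw [Ideal.span_singleton_pow, Ideal.mem_span_singleton, PowerSeries.X_pow_dvd_iff] at this
    simpa using this k (Nat.lt_succ_self k)
  have hc : ∀ n : ℤ, n ≠ 0 → e.coeff n = 0 := by
    intro n hn
    have h := hd0 n
    have h' : PowerSeries.C (e.coeff n) * ((U ^ n : Sˣ) : S) = PowerSeries.C (e.coeff n) := by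
      simpa [d, T, E, sub_eq_zero] using h
    have key : ∀ k : ℕ, PowerSeries.C (e.coeff n) * (1 + PowerSeries.X) ^ k = PowerSeries.C (e.coeff n) → k ≠ 0 → e.coeff n = 0 := by
      intro k hk hk0
      have := congrArg (PowerSeries.coeff k) hk
      rw [PowerSeries.coeff_C_mul, PowerSeries.coeff_C, if_neg hk0, add_pow, map_sum, Finset.sum_eq_single 0] at this
      · simpa using this
      · intro b _ hb
        rw [one_pow, one_mul, ← map_natCast (PowerSeries.C (R := R)), mul_comm, PowerSeries.coeff_C_mul, PowerSeries.coeff_X_pow, if_neg (by have := Finset.mem_range.mp ‹b ∈ Finset.range (k+1)›; omega), mul_zero]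
      · simp
    obtain ⟨k, rfl | rfl⟩ := n.eq_nat_or_neg
    · refine key k ?_ (by omega)
      rw [zpow_natCast, Units.val_pow_eq_pow_val] at h'
      exact h'
    · refine key k ?_ (by omega)
      conv_lhs => rw [← h']
      rw [zpow_neg, zpow_natCast, mul_assoc, show (1 + PowerSeries.X : S) = (U : S) from rfl, ← Units.val_pow_eq_pow_val, Units.inv_mul, mul_one]
  have hC : HahnSeries.C (e.coeff 0) = e := by
    ext n
    rcases eq_or_ne n 0 with rfl | hn
    · simp
    · simp [hn, hc n hn]
  refine ⟨e.coeff 0, ⟨?_, hC⟩, fun r hr => ?_⟩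
  · apply HahnSeries.C_injective (Γ := ℤ)
    rw [map_mul, hC, he.eq]
  · rw [← hr.2]; simp

end Groth.Agent.S15749
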