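import Groth.Statements.S15750
import Mathlib.Algebra.Module.StablyFree.Basic
import Mathlib.Algebra.Order.Ring.Star
import Mathlib.Data.Int.ConditionallyCompleteOrder
import Mathlib.Order.CompletePartialOrder
import Mathlib.RingTheory.Flat.TorsionFree
import Mathlib.RingTheory.LaurentSeries
import Mathlib.RingTheory.LocalRing.Pullback
import Mathlib.RingTheory.SimpleRing.Principal
import Mathlib.RingTheory.TotallySplit
import Mathlib.Topology.Algebra.Module.ModuleTopology
import Mathlib.Topology.Instances.Matrix
import Mathlib.Tactic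

set_option linter.all false

set_option autoImplicit false
universe u
open CAlg


namespace Groth.Agent.S15750

/-- Let R be a nonzero reduced commutative ring with no idempotents other than 0 and 1. Then every unit
of the Laurent series ring R((t)) is t^n · u for a unique integer n and a unique unit u of the power
series ring R[[t]]. (The published statement is for an arbitrary torus T over a reduced ring R, with
n replaced by a locally constant integer-valued function on Spec R, i.e. a point of the cocharacter
lattice; this row is the case where T is the multiplicative group and Spec R is connected, to which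
the published proof reduces.) -/
theorem result (R : Type u) [CommRing R]
    [IsReduced R] [Nontrivial R] (hconn : ∀ e : R, IsIdempotentElem e → e = 0 ∨ e = 1)
    (f : (LaurentSeries R)ˣ) :
    ∃! p : ℤ × (PowerSeries R)ˣ,
      (f : LaurentSeries R) = HahnSeries.single p.1 (1 : R) * HahnSeries.ofPowerSeries ℤ R (p.2 : PowerSeries R) := by
  classical
  set g : LaurentSeries R := ((f⁻¹ : (LaurentSeries R)ˣ) : LaurentSeries R) with hg
  set h : LaurentSeries R := (f : LaurentSeries R) with hh
  have hfg : h * g = 1 := f.mul_inv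
  let s := Finset.antidiagonal h.isPWO_support g.isPWO_support (0 : ℤ)
  have hsum : ∑ ij ∈ s, h.coeff ij.1 * g.coeff ij.2 = 1 := by
    rw [← HahnSeries.coeff_mul, hfg]; simp
  -- order at each prime
  have hord : ∀ p : Ideal R, p.IsPrime → ∃ o : ℤ, h.coeff o ∉ p ∧ (∀ n < o, h.coeff n ∈ p) ∧ ∀ n < -o, g.coeff n ∈ p := by
    intro p hp
    have ne : ∀ x y : LaurentSeries R, x * y = 1 → {n | x.coeff n ∉ p}.Nonempty := by
      intro x y hxy
      by_contra hne
      simp only [Set.not_nonempty_iff_eq_empty, Set.eq_empty_iff_forall_notMem, Set.mem_ofPred_eq, not_not] at hne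
      apply hp.ne_top
      rw [Ideal.eq_top_iff_one, show (1 : R) = (x * y).coeff 0 by simp [hxy], HahnSeries.coeff_mul]
      exact sum_mem fun ij _ => Ideal.mul_mem_right _ _ (hne _)
    have wf : ∀ x : LaurentSeries R, {n | x.coeff n ∉ p}.IsWF := fun x =>
      (x.isPWO_support.mono fun n (hn : x.coeff n ∉ p) => (HahnSeries.mem_support _ _).mpr fun h => hn (by simp [h])).isWF
    have n1 := ne h g hfg
    have n2 := ne g h (by rw [mul_comm, hfg])
    let o := (wf h).min n1
    let o' := (wf g).min n2
    have ho : h.coeff o ∉ p := (wf h).min_mem n1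
    have ho' : g.coeff o' ∉ p := (wf g).min_mem n2
    have hmin : ∀ n < o, h.coeff n ∈ p := fun n hn => by
      by_contra h'; exact (wf h).not_lt_min n1 h' hn
    have hmin' : ∀ n < o', g.coeff n ∈ p := fun n hn => by
      by_contra h'; exact (wf g).not_lt_min n2 h' hn
    have h0 : o + o' = 0 := by
      by_contra h0
      have hc : (h * g).coeff (o + o') = 0 := by rw [hfg]; simp [h0]
      rw [HahnSeries.coeff_mul] at hc
      have hmem : h.coeff o * g.coeff o' ∈ p := by
        rw [Finset.sum_eq_add_sum_sdiff_singleton_of_mem (i := (o, o'))] at hc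
        · rw [add_eq_zero_iff_eq_neg] at hc
          rw [hc]
          refine neg_mem (sum_mem fun ij hij => ?_)
          simp only [Finset.mem_sdiff, Finset.mem_antidiagonal, Finset.mem_singleton] at hij
          obtain ⟨⟨-, -, he⟩, hne⟩ := hij
          rcases lt_trichotomy ij.1 o with hlt | heq | hgt
          · exact Ideal.mul_mem_right _ _ (hmin _ hlt)
          · exact absurd (Prod.ext heq (by omega)) hne
          · exact Ideal.mul_mem_left _ _ (hmin' _ (by omega))
        · simp only [Finset.mem_antidiagonal, HahnSeries.mem_support]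
          exact ⟨fun e => ho (e ▸ p.zero_mem), fun e => ho' (e ▸ p.zero_mem), trivial⟩
      exact (hp.mem_or_mem hmem).elim ho ho'
    exact ⟨o, ho, hmin, fun n hn => hmin' n (by omega)⟩
  have horth : ∀ a ∈ s, ∀ b ∈ s, a ≠ b → (h.coeff a.1 * g.coeff a.2) * (h.coeff b.1 * g.coeff b.2) = 0 := by
    intro a ha b hb hab
    refine (isNilpotent_iff_eq_zero.mp ?_)
    rw [nilpotent_iff_mem_prime]
    intro p hp
    obtain ⟨o, -, h1, h2⟩ := hord p hp
    simp only [s, Finset.mem_antidiagonal] at ha hb
    have key : ∀ c : ℤ × ℤ, c.1 + c.2 = 0 → c.1 ≠ o → h.coeff c.1 * g.coeff c.2 ∈ p := by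
      intro c hc hne
      rcases lt_or_gt_of_ne hne with hlt | hgt
      · exact Ideal.mul_mem_right _ _ (h1 _ hlt)
      · exact Ideal.mul_mem_left _ _ (h2 _ (by omega))
    by_cases hao : a.1 = o
    · refine Ideal.mul_mem_left _ _ (key b hb.2.2 fun hbo => hab (Prod.ext (hao.trans hbo.symm) ?_))
      have := ha.2.2; have := hb.2.2; omega
    · exact Ideal.mul_mem_right _ _ (key a ha.2.2 hao)
  have hidem : ∀ a ∈ s, IsIdempotentElem (h.coeff a.1 * g.coeff a.2) := by
    intro a ha
    have := congrArg (fun r => h.coeff a.1 * g.coeff a.2 * r) hsum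
    simp only [mul_one, Finset.mul_sum] at this
    rw [Finset.sum_eq_single a (fun b hb hne => horth a ha b hb hne.symm) (fun h => absurd ha h)] at this
    exact this
  obtain ⟨a, ha, ha1⟩ : ∃ a ∈ s, h.coeff a.1 * g.coeff a.2 = 1 := by
    by_contra! hne
    rw [Finset.sum_eq_zero fun a ha => (hconn _ (hidem a ha)).resolve_right (hne a ha)] at hsum
    exact zero_ne_one hsum
  set m := a.1
  have hunit : IsUnit (h.coeff m) := IsUnit.of_mul_eq_one _ ha1
  have hlow : ∀ n < m, h.coeff n = 0 := by
    intro n hn
    refine isNilpotent_iff_eq_zero.mp ?_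
    rw [nilpotent_iff_mem_prime]
    intro p hp
    obtain ⟨o, ho, h1, h2⟩ := hord p hp
    have : o = m := by
      simp only [s, Finset.mem_antidiagonal] at ha
      rcases lt_trichotomy o m with hlt | heq | hgt
      · exact absurd (Ideal.mem_of_dvd p ⟨h.coeff m, by rw [mul_comm]; exact ha1.symm⟩ (h2 a.2 (by omega))) fun hh => hp.ne_top ((Ideal.eq_top_iff_one _).mpr hh)
      · exact heq
      · exact absurd (Ideal.mem_of_dvd p ⟨g.coeff a.2, ha1.symm⟩ (h1 m hgt)) fun hh => hp.ne_top ((Ideal.eq_top_iff_one _).mpr hh)
    exact h1 n (this ▸ hn)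
  let q : PowerSeries R := PowerSeries.mk fun i => h.coeff (m + i)
  have hq : IsUnit q := PowerSeries.isUnit_iff_constantCoeff.mpr (by simpa [q] using hunit)
  have hneg : ∀ (P : PowerSeries R) (j : ℤ), j < 0 → (HahnSeries.ofPowerSeries ℤ R P).coeff j = 0 := by
    intro P j hj
    rw [HahnSeries.ofPowerSeries_apply, HahnSeries.embDomain_notin_range]
    rintro ⟨i, hi⟩
    simp at hi; omega
  have hform : ∀ (k : ℤ) (P : PowerSeries R) (n : ℤ), (HahnSeries.single k (1 : R) * HahnSeries.ofPowerSeries ℤ R P).coeff n = (HahnSeries.ofPowerSeries ℤ R P).coeff (n - k) := by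
    intro k P n; rw [HahnSeries.coeff_single_mul, one_mul]
  have heq : h = HahnSeries.single m (1 : R) * HahnSeries.ofPowerSeries ℤ R q := by
    ext n
    rw [hform]
    rcases lt_or_ge n m with hn | hn
    · rw [hlow n hn, hneg _ _ (by omega)]
    · obtain ⟨i, rfl⟩ : ∃ i : ℕ, n = m + i := ⟨(n - m).toNat, by omega⟩
      rw [show m + (i : ℤ) - m = (i : ℕ) by simp, HahnSeries.ofPowerSeries_apply_coeff]
      simp [q]
  refine ⟨(m, hq.unit), heq, ?_⟩
  rintro ⟨k, v⟩ hk
  change h = HahnSeries.single k (1 : R) * HahnSeries.ofPowerSeries ℤ R (v : PowerSeries R) at hk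
  have hvu : IsUnit (PowerSeries.constantCoeff (v : PowerSeries R)) := PowerSeries.isUnit_iff_constantCoeff.mp v.isUnit
  have hkc : h.coeff k = PowerSeries.constantCoeff (v : PowerSeries R) := by
    rw [hk, hform, sub_self, show (0 : ℤ) = ((0 : ℕ) : ℤ) from rfl, HahnSeries.ofPowerSeries_apply_coeff, PowerSeries.coeff_zero_eq_constantCoeff]
  have hkm : k = m := by
    rcases lt_trichotomy k m with hlt | he | hgt
    · exact absurd (hkc ▸ hlow k hlt) hvu.ne_zero
    · exact he
    · exact absurd (by rw [hk, hform, hneg _ _ (by omega)]) hunit.ne_zero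
  refine Prod.ext hkm (Units.ext ?_)
  rw [hkm] at hk
  have := hk.symm.trans heq
  have hsu : IsUnit (HahnSeries.single m (1 : R) : LaurentSeries R) := IsUnit.of_mul_eq_one (HahnSeries.single (-m) 1) (by rw [HahnSeries.single_mul_single]; simp)
  exact HahnSeries.ofPowerSeries_injective (hsu.mul_left_cancel this)

end Groth.Agent.S15750
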