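import Groth.Statements.S15773
import Mathlib
import Groth.Prelude
import Groth.Agent.CommAlg4.WeierstrassHensel
import Groth.Agent.CommAlg4.Horrocks

set_option linter.all false

set_option autoImplicit false
universe u
open Polynomial
open CAlg

open Polynomial

namespace Groth.Agent.S15773

/-- For a Henselian local ring (R, m), a henselization B of R[t] along (t), L = B[1/t] and the R-algebra
map ψ : R[s] → L sending s to t⁻¹, extension and contraction along ψ are mutually inverse bijections
between the ideals of R[s] comaximal with mR[s] and the ideals of L comaximal with mL, and R[s]/I →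
L/IL is bijective for every such I. (The published statement is phrased with closed subschemes of
Spec R[t⁻¹] and of Spec L not meeting the residue fibre, matched by base change and schematic image,
and treats the localisation (R[t]_{1+tR[t]})[1/t] alongside R{t}[1/t]; this row states it with
ideals and includes the bijection of the corresponding quotient rings.) -/
theorem result (R : Type u) [CommRing R]
    [HenselianLocalRing R] (B : Type u) [CommRing B] [Algebra R B] [Algebra R[X] B] [IsScalarTower R R[X] B]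
    (hB : Hens2.IsPairHenselization R[X] (Ideal.span {(X : R[X])}) B)
    (ψ : R[X] →ₐ[R] Localization.Away (algebraMap R[X] B X))
    (hψ : ψ X * algebraMap B (Localization.Away (algebraMap R[X] B X)) (algebraMap R[X] B X) = 1) :
    (∀ I : Ideal R[X], I ⊔ (IsLocalRing.maximalIdeal R).map (algebraMap R R[X]) = ⊤ →
        (I.map ψ.toRingHom).comap ψ.toRingHom = I ∧
        I.map ψ.toRingHom ⊔ (IsLocalRing.maximalIdeal R).map
          (algebraMap R (Localization.Away (algebraMap R[X] B X))) = ⊤ ∧
        Function.Bijective (Ideal.quotientMap (I.map ψ.toRingHom) ψ.toRingHom Ideal.le_comap_map)) ∧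
    (∀ J : Ideal (Localization.Away (algebraMap R[X] B X)),
        J ⊔ (IsLocalRing.maximalIdeal R).map (algebraMap R (Localization.Away (algebraMap R[X] B X))) = ⊤ →
        (J.comap ψ.toRingHom).map ψ.toRingHom = J ∧
        J.comap ψ.toRingHom ⊔ (IsLocalRing.maximalIdeal R).map (algebraMap R R[X]) = ⊤) := by
  classical
  open Groth.Agent.CommAlg4.WeierstrassHensel Groth.Agent.CommAlg4.Horrocks in
  set L := Localization.Away (algebraMap R[X] B X)
  set ι : B →+* L := algebraMap B L with hι
  set τ : L := ι (algebraMap R[X] B X) with hτ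
  set 𝔪 := IsLocalRing.maximalIdeal R
  have hτu : IsUnit τ := IsLocalization.Away.algebraMap_isUnit _
  have hC : ∀ r : R, ψ (C r) = ι (algebraMap R[X] B (C r)) := fun r => by
    rw [hι]
    change ψ (algebraMap R R[X] r) = algebraMap B L (algebraMap R[X] B (algebraMap R R[X] r))
    rw [ψ.commutes, ← IsScalarTower.algebraMap_apply R R[X] B, IsScalarTower.algebraMap_apply R B L]
  -- reflection
  have hrefl : ∀ (g : R[X]) (N : ℕ), g.natDegree ≤ N →
      ι (algebraMap R[X] B (g.reflect N)) = τ ^ N * ψ g := by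
    intro g N hg
    refine Polynomial.induction_with_natDegree_le
      (fun g => ι (algebraMap R[X] B (g.reflect N)) = τ ^ N * ψ g) N (by simp) ?_ ?_ g hg
    · intro n r hr hn
      simp only [reflect_C_mul_X_pow, revAt_le hn, map_mul, map_pow, hC]
      obtain ⟨d, rfl⟩ := Nat.exists_eq_add_of_le hn
      rw [Nat.add_sub_cancel_left, pow_add, hτ]
      calc ι (algebraMap R[X] B (C r)) * ι (algebraMap R[X] B X) ^ d
          = ι (algebraMap R[X] B (C r)) * ι (algebraMap R[X] B X) ^ d *
              (ψ X * ι (algebraMap R[X] B X)) ^ n := by rw [hψ, one_pow, mul_one]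
        _ = _ := by rw [mul_pow]; ring
    · intro f g hfg hg' hf hg''
      simp only [reflect_add, map_add, hf, hg'', mul_add]
  -- the basic bijection
  have key : ∀ Q : R[X], Q.coeff 0 = 1 → Q - 1 ∈ 𝔪.map (C : R →+* R[X]) →
      (∀ l : L, ∃ g : R[X], ψ Q ∣ l - ψ g) ∧ (∀ g : R[X], ψ Q ∣ ψ g → Q ∣ g) := by
    intro Q hQ0 hQm
    set P := Q.reflect Q.natDegree with hP
    have hPdeg : P.natDegree = Q.natDegree := by
      refine natDegree_eq_of_le_of_coeff_ne_zero ?_ ?_
      · refine natDegree_le_iff_coeff_eq_zero.mpr fun i hi => ?_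
        rw [hP, coeff_reflect]
        have : revAt Q.natDegree i = i := by rw [← revAtFun_eq, revAtFun, if_neg (by lia)]
        rw [this]
        exact coeff_eq_zero_of_natDegree_lt hi
      · rw [hP, coeff_reflect, revAt_le le_rfl, Nat.sub_self, hQ0]; exact one_ne_zero
    have hPd : Groth.Agent.CommAlg4.WeierstrassHensel.IsDistinguished P := by
      refine ⟨?_, fun i hi => ?_⟩
      · rw [Monic, leadingCoeff, hPdeg, hP, coeff_reflect, revAt_le le_rfl, Nat.sub_self, hQ0]
      · rw [hPdeg] at hi
        rw [hP, coeff_reflect, revAt_le hi.le]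
        have := Ideal.mem_map_C_iff.mp hQm (Q.natDegree - i)
        rwa [coeff_sub, coeff_one, if_neg (by lia), sub_zero] at this
    have hPι : ι (algebraMap R[X] B P) = τ ^ Q.natDegree * ψ Q := hrefl Q _ le_rfl
    have hPdvd : ψ Q ∣ ι (algebraMap R[X] B P) := hPι ▸ dvd_mul_left _ _
    refine ⟨fun l => ?_, fun g hg => ?_⟩
    · obtain ⟨k, b, hb⟩ := IsLocalization.Away.surj (algebraMap R[X] B X) l
      obtain ⟨q, hq⟩ := Groth.Agent.CommAlg4.WeierstrassHensel.exists_poly_sub_mem hB hPd b
      obtain ⟨c, hc⟩ := Ideal.mem_span_singleton.mp hq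
      -- `τ ≡ -ψ Q₁`
      have hX : ∃ h : R[X], ψ Q ∣ τ - ψ h := by
        refine ⟨-Q.divX, τ, ?_⟩
        have h1 := congrArg ψ (X_mul_divX_add Q)
        rw [map_add, map_mul, hQ0, map_one, map_one] at h1
        rw [map_neg]
        linear_combination τ * h1 - ψ Q.divX * hψ
      obtain ⟨h, hh⟩ := hX
      refine ⟨q.eval₂ C h * X ^ k, ?_⟩
      have h1 : ψ Q ∣ ι (algebraMap R[X] B q) - ψ (q.eval₂ C h) := by
        have hle : (Ideal.Quotient.mk (Ideal.span {ψ Q})).comp (ι.comp (algebraMap R[X] B)) =
            (Ideal.Quotient.mk (Ideal.span {ψ Q})).comp (ψ.toRingHom.comp (eval₂RingHom C h)) := by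
          apply Polynomial.ringHom_ext
          · intro r
            simp [hC]
          · simp only [RingHom.comp_apply, coe_eval₂RingHom, eval₂_X]
            exact Ideal.Quotient.eq.mpr (Ideal.mem_span_singleton.mpr hh)
        exact Ideal.mem_span_singleton.mp (Ideal.Quotient.eq.mp (RingHom.congr_fun hle q))
      rw [map_mul, map_pow]
      have h2 : l = ι b * ψ X ^ k := by
        rw [hι, ← hb, mul_assoc, ← mul_pow, mul_comm _ (ψ X), hψ, one_pow, mul_one]
      rw [h2, ← sub_mul]
      refine dvd_mul_of_dvd_left ?_ _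
      have h3 : ι b = ι (algebraMap R[X] B q) - ι (algebraMap R[X] B P) * ι c := by
        rw [← map_mul, ← hc, map_sub]; ring
      rw [h3, sub_right_comm]
      exact dvd_sub h1 (dvd_mul_of_dvd_left hPdvd _)
    · obtain ⟨m, hm⟩ := hg
      obtain ⟨k, b, hb⟩ := IsLocalization.Away.surj (algebraMap R[X] B X) m
      set G := g.natDegree
      have h1 : ι (algebraMap R[X] B (X ^ (k + Q.natDegree) * g.reflect G)) =
          ι (algebraMap R[X] B P * (algebraMap R[X] B X ^ G * b)) := by
        simp only [map_mul, map_pow]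
        rw [hrefl g G le_rfl, hPι, hm, ← hτ, hι, ← hb]
        ring
      obtain ⟨⟨_, e, rfl⟩, he⟩ :=
        (IsLocalization.eq_iff_exists (Submonoid.powers (algebraMap R[X] B X)) L).mp h1
      have h2 : X ^ e * (X ^ (k + Q.natDegree) * g.reflect G) ∈ Ideal.span {P} :=
        Groth.Agent.CommAlg4.WeierstrassHensel.dvd_of_algebraMap_mem hB hPd
          (Ideal.mem_span_singleton.mpr ⟨algebraMap R[X] B X ^ e * (algebraMap R[X] B X ^ G * b), by
            rw [map_mul (algebraMap R[X] B), map_pow]
            linear_combination he⟩)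
      obtain ⟨c, hc⟩ := Ideal.mem_span_singleton.mp h2
      -- go to Laurent polynomials
      have hL : ∀ (p : R[X]) (N : ℕ), p.natDegree ≤ N → pos (p.reflect N) =
          LaurentPolynomial.T (N : ℤ) * Groth.Agent.CommAlg4.Horrocks.neg p := by
        intro p N hp
        refine Polynomial.induction_with_natDegree_le (fun p => pos (p.reflect N) =
          LaurentPolynomial.T (N : ℤ) * Groth.Agent.CommAlg4.Horrocks.neg p) N (by simp) ?_ ?_ p hp
        · intro n r hr hn
          simp only [reflect_C_mul_X_pow, revAt_le hn, map_mul, pos_C, pos_X_pow, neg_C, neg_X_pow]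
          rw [mul_left_comm, ← LaurentPolynomial.T_add, Nat.cast_sub hn]
          rfl
        · intro f g hfg hg' hf hg''
          simp only [reflect_add, map_add, hf, hg'', mul_add]
      set M := c.natDegree
      have h3 := congrArg pos hc
      rw [map_mul, map_mul, map_mul, pos_X_pow, pos_X_pow, hL g G le_rfl, hP, hL Q _ le_rfl,
        ← mul_assoc, ← mul_assoc, ← LaurentPolynomial.T_add, ← LaurentPolynomial.T_add] at h3
      have h4 : pos c = LaurentPolynomial.T (M : ℤ) *
          Groth.Agent.CommAlg4.Horrocks.neg (c.reflect M) := by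
        rw [← hL _ M (natDegree_le_iff_coeff_eq_zero.mpr fun i hi => by
          rw [coeff_reflect, show revAt M i = i by rw [← revAtFun_eq, revAtFun, if_neg (by lia)]]
          exact coeff_eq_zero_of_natDegree_lt hi)]
        congr 1
        ext i
        rw [coeff_reflect, coeff_reflect, revAt_invol]
      rw [h4] at h3
      have h5 : X ^ (Q.natDegree + M) * g = X ^ (e + (k + Q.natDegree) + G) * (Q * c.reflect M) := by
        apply Groth.Agent.CommAlg4.Horrocks.neg_injective
        rw [map_mul, map_mul, map_mul, neg_X_pow, neg_X_pow]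
        set a : ℤ := ((e : ℤ) + ((k + Q.natDegree : ℕ) : ℤ) + (G : ℤ))
        have h6 := congrArg (fun z => LaurentPolynomial.T (-((Q.natDegree : ℤ) + M) - a) * z) h3
        simp only [← mul_assoc, ← LaurentPolynomial.T_add] at h6
        rw [show -(((Q.natDegree + M : ℕ)) : ℤ) = -((Q.natDegree : ℤ) + M) - a + a by push_cast; ring]
        rw [show -((Q.natDegree : ℤ) + M) - a + a = -((Q.natDegree : ℤ) + M) - a + a from rfl]
        rw [h6]
        rw [show -(((e + (k + Q.natDegree) + G : ℕ)) : ℤ) =
          -((Q.natDegree : ℤ) + M) - a + (Q.natDegree : ℤ) + M by simp only [a]; push_cast; ring]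
        rw [LaurentPolynomial.T_add _ (M : ℤ)]
        ring
      have hcop : IsCoprime Q (X ^ (Q.natDegree + M)) := by
        refine IsCoprime.pow_right ⟨1, -Q.divX, ?_⟩
        have := X_mul_divX_add Q
        rw [hQ0, map_one] at this
        linear_combination -this
      exact hcop.dvd_of_dvd_mul_left (h5 ▸ dvd_mul_of_dvd_right (dvd_mul_right _ _) _)
  -- suitable elements
  have norm : ∀ a : R[X], a - 1 ∈ 𝔪.map (C : R →+* R[X]) →
      ∃ r : R, IsUnit r ∧ (C r * a).coeff 0 = 1 ∧ C r * a - 1 ∈ 𝔪.map (C : R →+* R[X]) := by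
    intro a ha
    have h0 := Ideal.mem_map_C_iff.mp ha 0
    rw [coeff_sub, coeff_one_zero] at h0
    have hu : IsUnit (a.coeff 0) := by
      rw [← IsLocalRing.residue_ne_zero_iff_isUnit]
      intro h
      rw [← IsLocalRing.residue_eq_zero_iff, map_sub, h, map_one, zero_sub, neg_eq_zero] at h0
      exact one_ne_zero h0
    refine ⟨↑hu.unit⁻¹, Units.isUnit _, by rw [coeff_C_mul, IsUnit.val_inv_mul], ?_⟩
    have h1 : C (↑hu.unit⁻¹ : R) * a - 1 =
        C (↑hu.unit⁻¹ : R) * (a - 1) + C (↑hu.unit⁻¹ * (1 - a.coeff 0)) := by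
      rw [mul_sub, mul_sub, mul_one, IsUnit.val_inv_mul, map_sub, map_one]
      ring
    rw [h1]
    refine add_mem (Ideal.mul_mem_left _ _ ha) (Ideal.mem_map_of_mem _ (𝔪.mul_mem_left _ ?_))
    rw [← neg_mem_iff, neg_sub]
    exact h0
  have hmL : (𝔪.map (C : R →+* R[X])).map ψ.toRingHom = 𝔪.map (algebraMap R L) := by
    rw [Ideal.map_map]
    congr 1
    exact ψ.comp_algebraMap
  constructor
  · intro I hI
    rw [Ideal.eq_top_iff_one] at hI
    obtain ⟨a, ha, μ, hμ, h1⟩ := Submodule.mem_sup.mp hI
    obtain ⟨r, hr, hQ0, hQm⟩ := norm a (by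
      rw [show a - 1 = -μ by rw [← h1]; ring]; exact neg_mem hμ)
    set Q := C r * a with hQdef
    have hQI : Q ∈ I := I.mul_mem_left _ ha
    obtain ⟨hs, hi⟩ := key Q hQ0 hQm
    have hmem : ∀ l ∈ I.map ψ.toRingHom, ∃ i ∈ I, ψ Q ∣ l - ψ i := by
      intro l hl
      induction hl using Submodule.span_induction with
      | mem x hx => obtain ⟨i, hi, rfl⟩ := hx; exact ⟨i, hi, by simp⟩
      | zero => exact ⟨0, I.zero_mem, by simp⟩
      | add x y _ _ hx hy =>
        obtain ⟨i, hi, hx⟩ := hx
        obtain ⟨j, hj, hy⟩ := hy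
        exact ⟨i + j, I.add_mem hi hj, by rw [map_add, add_sub_add_comm]; exact dvd_add hx hy⟩
      | smul c x _ hx =>
        obtain ⟨i, hi, hx⟩ := hx
        obtain ⟨g, hg⟩ := hs c
        refine ⟨g * i, I.mul_mem_left _ hi, ?_⟩
        rw [smul_eq_mul, map_mul ψ g i, show c * x - ψ g * ψ i = c * (x - ψ i) + (c - ψ g) * ψ i by ring]
        exact dvd_add (dvd_mul_of_dvd_right hx _) (dvd_mul_of_dvd_left hg _)
    have hcm : (I.map ψ.toRingHom).comap ψ.toRingHom = I := by
      refine le_antisymm (fun g hg => ?_) Ideal.le_comap_map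
      obtain ⟨i, hiI, hd⟩ := hmem _ hg
      obtain ⟨c, hc⟩ := hi (g - i) (by rw [map_sub]; exact hd)
      rw [show g = Q * c + i by rw [← hc, sub_add_cancel]]
      exact I.add_mem (I.mul_mem_right _ hQI) hiI
    refine ⟨hcm, ?_, ?_⟩
    · rw [Ideal.eq_top_iff_one, show (1 : L) = ψ Q + -(ψ (Q - 1)) by rw [map_sub, map_one]; ring]
      refine Submodule.add_mem_sup (Ideal.mem_map_of_mem _ hQI) (neg_mem ?_)
      rw [← hmL]
      exact Ideal.mem_map_of_mem ψ.toRingHom hQm
    · refine ⟨Ideal.quotientMap_injective' hcm.le, fun z => ?_⟩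
      obtain ⟨l, rfl⟩ := Ideal.Quotient.mk_surjective z
      obtain ⟨g, hg⟩ := hs l
      refine ⟨Ideal.Quotient.mk I g, ?_⟩
      rw [Ideal.quotientMap_mk, eq_comm, Ideal.Quotient.eq]
      obtain ⟨c, hc⟩ := hg
      show l - ψ g ∈ _
      rw [hc]
      exact Ideal.mul_mem_right _ _ (Ideal.mem_map_of_mem ψ.toRingHom hQI)
  · intro J hJ
    -- a distinguished element of `J`
    rw [Ideal.eq_top_iff_one] at hJ
    obtain ⟨j, hj, μ, hμ, h1⟩ := Submodule.mem_sup.mp hJ
    obtain ⟨N, b, hb⟩ := IsLocalization.Away.surj (algebraMap R[X] B X) j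
    have hbJ : ι b ∈ J := hb ▸ Ideal.mul_mem_right _ _ hj
    obtain ⟨ψ', hψ'⟩ := Groth.Agent.CommAlg4.WeierstrassHensel.exists_expansion hB
    let ρ0 : B →+* LaurentSeries (IsLocalRing.ResidueField R) :=
      ((algebraMap (PowerSeries (IsLocalRing.ResidueField R))
        (LaurentSeries (IsLocalRing.ResidueField R))).comp
        (PowerSeries.map (IsLocalRing.residue R))).comp ψ'
    have hρX : ρ0 (algebraMap R[X] B X) = algebraMap (PowerSeries (IsLocalRing.ResidueField R))
        (LaurentSeries (IsLocalRing.ResidueField R)) PowerSeries.X := by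
      simp only [ρ0, RingHom.comp_apply, hψ', Polynomial.coe_X, PowerSeries.map_X]
    have hu : IsUnit (ρ0 (algebraMap R[X] B X)) := hρX ▸
      IsLocalization.map_units (LaurentSeries (IsLocalRing.ResidueField R))
        (⟨PowerSeries.X, Submonoid.mem_powers _⟩ :
          Submonoid.powers (PowerSeries.X : PowerSeries (IsLocalRing.ResidueField R)))
    let ρ : L →+* LaurentSeries (IsLocalRing.ResidueField R) :=
      IsLocalization.Away.lift (algebraMap R[X] B X) hu
    have hρ : ∀ x, ρ (ι x) = ρ0 x := fun x => IsLocalization.Away.lift_eq _ hu x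
    have hρ0m : ∀ r ∈ 𝔪, ρ0 (algebraMap R[X] B (C r)) = 0 := fun r hr => by
      simp only [ρ0, RingHom.comp_apply, hψ', Polynomial.coe_C, PowerSeries.map_C,
        (IsLocalRing.residue_eq_zero_iff r).mpr hr, map_zero]
    have hρm : ∀ z ∈ 𝔪.map (algebraMap R L), ρ z = 0 := fun z hz => by
      have hle : 𝔪.map (algebraMap R L) ≤ RingHom.ker ρ := by
        rw [Ideal.map_le_iff_le_comap]
        intro r hr
        rw [Ideal.mem_comap, RingHom.mem_ker, ← hρ0m r hr, ← hρ, IsScalarTower.algebraMap_apply R B L,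
          IsScalarTower.algebraMap_apply R R[X] B]
        rfl
      exact hle hz
    have hbm : b ∉ 𝔪.map ((algebraMap R[X] B).comp C) := by
      intro hbm
      have h2 : ρ0 b = 0 := by
        have hle : 𝔪.map ((algebraMap R[X] B).comp C) ≤ RingHom.ker ρ0 := by
          rw [Ideal.map_le_iff_le_comap]
          exact fun r hr => hρ0m r hr
        exact hle hbm
      have h3 : ρ j = 1 := by rw [eq_sub_of_add_eq h1, map_sub, map_one, hρm μ hμ, sub_zero]
      have h4 := congrArg ρ hb
      rw [map_mul, map_pow, h3, one_mul, hρ, hρ, h2] at h4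
      exact (hu.pow N).ne_zero h4
    obtain ⟨P, u, hP, hPu⟩ :=
      Groth.Agent.CommAlg4.WeierstrassHensel.exists_preparation hB hbm
    set Q := P.reflect P.natDegree with hQ
    have hQ0 : Q.coeff 0 = 1 := by
      rw [hQ, coeff_reflect, revAt_zero]; exact hP.1
    have hQm : Q - 1 ∈ 𝔪.map (C : R →+* R[X]) := by
      rw [Ideal.mem_map_C_iff]
      intro i
      rw [coeff_sub, coeff_one]
      rcases Nat.eq_zero_or_pos i with rfl | hi
      · rw [if_pos rfl, hQ0, sub_self]; exact 𝔪.zero_mem
      · rw [if_neg (by lia), sub_zero, hQ, coeff_reflect]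
        by_cases hle : i ≤ P.natDegree
        · rw [revAt_le hle]; exact hP.2 _ (by lia)
        · rw [show revAt P.natDegree i = i by rw [← revAtFun_eq, revAtFun, if_neg (by lia)],
            coeff_eq_zero_of_natDegree_lt (by lia)]
          exact 𝔪.zero_mem
    have hQJ : ψ Q ∈ J := by
      have h2 := hrefl Q P.natDegree (natDegree_le_iff_coeff_eq_zero.mpr fun i hi => by
        rw [hQ, coeff_reflect, show revAt P.natDegree i = i by rw [← revAtFun_eq, revAtFun, if_neg (by lia)]]
        exact coeff_eq_zero_of_natDegree_lt hi)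
      rw [show Q.reflect P.natDegree = P by
        ext i; rw [coeff_reflect, hQ, coeff_reflect, revAt_invol]] at h2
      have h3 : ι (algebraMap R[X] B P) ∈ J := by
        rw [hPu, map_mul] at hbJ
        exact (Ideal.mul_unit_mem_iff_mem _ (u.isUnit.map ι)).mp hbJ
      rw [h2] at h3
      exact (Ideal.unit_mul_mem_iff_mem _ (hτu.pow _)).mp h3
    refine ⟨le_antisymm Ideal.map_comap_le (fun l hl => ?_), ?_⟩
    · obtain ⟨g, c, hc⟩ := (key Q hQ0 hQm).1 l
      have hgJ : ψ g ∈ J := by
        rw [show ψ g = l - ψ Q * c by rw [← hc, sub_sub_cancel]]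
        exact J.sub_mem hl (J.mul_mem_right _ hQJ)
      rw [show l = ψ g + ψ Q * c by rw [← hc, add_sub_cancel]]
      exact add_mem (Ideal.mem_map_of_mem ψ.toRingHom hgJ)
        (Ideal.mul_mem_right _ _ (Ideal.mem_map_of_mem ψ.toRingHom hQJ))
    · rw [Ideal.eq_top_iff_one, show (1 : R[X]) = Q + -(Q - 1) by ring]
      exact Submodule.add_mem_sup hQJ (neg_mem hQm)

end Groth.Agent.S15773
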