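import Groth.Statements.S19779
import Mathlib
import Groth.Agent.CommAlg4.ApproxIdem
import Groth.Agent.HenselLib.PairQuot

set_option linter.all false

set_option autoImplicit false
universe u
open Polynomial TensorProduct
open CAlg

open Polynomial TensorProduct

namespace Groth.Agent.S19779

/-- For general linear groups, in the case R{t}[1/t] → R((t)), let R be a commutative ring, B = R{t} a
henselization of R[t] along (t), ψ : B → R[[t]] the R[t]-algebra map, L = B[1/t], and L' an
L-algebra identified with R((t)) compatibly with ψ. Then base change along L → L' is a bijection on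
isomorphism classes of finitely generated projective modules: two finitely generated projective
L-modules isomorphic over L' are isomorphic, and every finitely generated projective L'-module is
extended from one over L. (The published statement is the bijection H¹(R{t}[1/t], G) ≅ H¹(R((t)), G)
for every quasi-affine smooth group G; this row is the case of the general linear groups, stated for
finitely generated projective modules of arbitrary rank.) -/
theorem result (R : Type u) [CommRing R]
    (B : Type u) [CommRing B] [Algebra R[X] B] (hB : Hens2.IsPairHenselization R[X] (Ideal.span {(X : R[X])}) B)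
    (ψ : B →ₐ[R[X]] PowerSeries R)
    (L' : Type u) [CommRing L'] [Algebra (Localization.Away (algebraMap R[X] B X)) L'] (e : L' ≃+* LaurentSeries R)
    (he : ∀ b : B, e (algebraMap (Localization.Away (algebraMap R[X] B X)) L' (algebraMap B (Localization.Away (algebraMap R[X] B X)) b)) =
      HahnSeries.ofPowerSeries ℤ R (ψ b)) :
    (∀ (M N : Type u) [AddCommGroup M] [Module (Localization.Away (algebraMap R[X] B X)) M] [Module.Finite (Localization.Away (algebraMap R[X] B X)) M] [Module.Projective (Localization.Away (algebraMap R[X] B X)) M]
        [AddCommGroup N] [Module (Localization.Away (algebraMap R[X] B X)) N] [Module.Finite (Localization.Away (algebraMap R[X] B X)) N] [Module.Projective (Localization.Away (algebraMap R[X] B X)) N],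
        Nonempty (L' ⊗[Localization.Away (algebraMap R[X] B X)] M ≃ₗ[L'] L' ⊗[Localization.Away (algebraMap R[X] B X)] N) → Nonempty (M ≃ₗ[Localization.Away (algebraMap R[X] B X)] N)) ∧
    (∀ (M' : Type u) [AddCommGroup M'] [Module L' M'] [Module.Finite L' M'] [Module.Projective L' M'],
        ∃ (M : Type u) (_ : AddCommGroup M) (_ : Module (Localization.Away (algebraMap R[X] B X)) M),
          Module.Finite (Localization.Away (algebraMap R[X] B X)) M ∧ Module.Projective (Localization.Away (algebraMap R[X] B X)) M ∧
          Nonempty (L' ⊗[Localization.Away (algebraMap R[X] B X)] M ≃ₗ[L'] M')) := by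
  have hψ : ∀ p : R[X], ψ (algebraMap R[X] B p) = (p : PowerSeries R) := fun p => by
    rw [ψ.commutes]; rfl
  have hψX : ψ.toRingHom (algebraMap R[X] B X) = PowerSeries.X := (hψ X).trans Polynomial.coe_X
  have hmap : (Ideal.span {(X : R[X])}).map (algebraMap R[X] B) = Ideal.span {(algebraMap R[X] B X)} := by
    rw [Ideal.map_span, Set.image_singleton]
  have hH : HenselianRing B (Ideal.span {(algebraMap R[X] B X)}) := hmap ▸ hB.1
  let ι' : PowerSeries R →+* L' :=
    e.symm.toRingHom.comp (algebraMap (PowerSeries R) (LaurentSeries R))
  have h : Groth.Agent.CommAlg4.ApproxIdem.Approx ψ.toRingHom (algebraMap R[X] B X)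
      (algebraMap B (Localization.Away (algebraMap R[X] B X))) ι' := by
    refine ⟨?_, IsLocalization.Away.algebraMap_isUnit (algebraMap R[X] B X), ?_, ?_, ?_, ?_, ?_, ?_, ?_⟩
    · refine RingHom.ext fun b => e.injective ?_
      simp only [RingHom.comp_apply, ι', RingEquiv.toRingHom_eq_coe, RingHom.coe_coe,
        e.apply_symm_apply]
      exact he b
    · intro z
      obtain ⟨n, a, h⟩ := IsLocalization.Away.surj (algebraMap R[X] B X) z
      exact ⟨n, a, h⟩
    · intro z
      rw [hψX]
      obtain ⟨⟨f, _, k, rfl⟩, h⟩ := IsLocalization.surj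
        (Submonoid.powers (PowerSeries.X : PowerSeries R)) (e z)
      refine ⟨k, f, e.injective ?_⟩
      simp only [map_mul, map_pow, ι', RingHom.comp_apply, RingEquiv.toRingHom_eq_coe, RingHom.coe_coe,
        e.apply_symm_apply] at h ⊢
      exact h
    · intro b hb
      refine ⟨0, ?_⟩
      simp only [ι', RingHom.comp_apply, RingEquiv.toRingHom_eq_coe, RingHom.coe_coe,
        map_eq_zero_iff _ e.symm.injective] at hb
      rw [HahnSeries.ofPowerSeries_injective (hb.trans (map_zero _).symm), mul_zero]
    · intro b' k
      refine ⟨algebraMap R[X] B (PowerSeries.trunc k b'), ?_⟩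
      rw [hψX, PowerSeries.X_pow_dvd_iff]
      intro m hm
      rw [show ψ.toRingHom (algebraMap R[X] B (PowerSeries.trunc k b')) = _ from hψ _]
      simp [Polynomial.coeff_coe, PowerSeries.coeff_trunc, hm]
    · intro b k h
      rw [hψX] at h
      obtain ⟨x, hx⟩ := (Groth.Agent.HenselLib.IsPairHull.bijective_quotientMap hB k).2
        (Ideal.Quotient.mk _ b)
      obtain ⟨f, rfl⟩ := Ideal.Quotient.mk_surjective x
      rw [Ideal.quotientMap_mk, Ideal.Quotient.eq, Ideal.map_pow, hmap, Ideal.span_singleton_pow,
        Ideal.mem_span_singleton] at hx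
      obtain ⟨c, hc⟩ := hx
      have h3 : (X : R[X]) ^ k ∣ f := by
        rw [Polynomial.X_pow_dvd_iff]
        intro m hm
        have h4 := congrArg ψ.toRingHom hc
        rw [map_sub, map_mul, map_pow, hψX, sub_eq_iff_eq_add] at h4
        have : PowerSeries.X ^ k ∣ (f : PowerSeries R) := by
          rw [← hψ f]
          show PowerSeries.X ^ k ∣ ψ.toRingHom (algebraMap R[X] B f)
          rw [h4]
          exact dvd_add (dvd_mul_right _ _) h
        simpa using PowerSeries.X_pow_dvd_iff.mp this m hm
      obtain ⟨f', rfl⟩ := h3
      exact ⟨algebraMap R[X] B f' - c, by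
        rw [map_mul, map_pow] at hc
        linear_combination -hc⟩
    · exact hH.jac (Ideal.mem_span_singleton_self (algebraMap R[X] B X))
    · rw [hψX, Ideal.mem_jacobson_bot]
      intro y
      rw [PowerSeries.isUnit_iff_constantCoeff]
      simp
  exact ⟨fun M N _ _ _ _ _ _ _ _ ⟨φ⟩ =>
    Groth.Agent.CommAlg4.ApproxIdem.nonempty_linearEquiv h M N φ,
    fun M' _ _ _ _ => Groth.Agent.CommAlg4.ApproxIdem.exists_finiteProjective h M'⟩

end Groth.Agent.S19779
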