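import Groth.Statements.S15753
import Mathlib
import Groth.Prelude
import Groth.Agent.CommAlg4.WeierstrassHensel
import Groth.Agent.S15773
import Groth.Agent.S19779

set_option linter.all false

set_option autoImplicit false
universe u
open Polynomial TensorProduct
open CAlg

open Polynomial TensorProduct

namespace Groth.Agent.S15753

theorem forall_dual {A M : Type u} [CommRing A] [AddCommGroup M] [Module A M] [Module.Invertible A M]
    (f : Module.Dual A M) (x y : M) : f x • y = f y • x := by
  have h := congrArg (fun z => TensorProduct.lid A M (LinearMap.rTensor M f z))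
    (Module.Invertible.tmul_comm (R := A) (m₁ := x) (m₂ := y))
  simpa using h

theorem dual_injective {A M : Type u} [CommRing A] [AddCommGroup M] [Module A M] [Module.Invertible A M]
    (φ : Module.Dual A M) {y : M} (hy : φ y ∈ nonZeroDivisors A) : Function.Injective φ := by
  rw [injective_iff_map_eq_zero]
  intro x hx
  rw [← Module.forall_dual_apply_eq_zero_iff A]
  intro f
  have h := congrArg f (forall_dual φ x y)
  rw [map_smul, map_smul, hx, zero_smul, smul_eq_mul] at h
  exact (mul_left_mem_nonZeroDivisors_eq_zero_iff hy).mp h.symm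

theorem exists_dual_sup_eq_top {A M : Type u} [CommRing A] [AddCommGroup M] [Module A M]
    [Module.Invertible A M] (𝔫 : Ideal A) [IsDomain (A ⧸ 𝔫)] [IsPrincipalIdealRing (A ⧸ 𝔫)] :
    ∃ φ : Module.Dual A M, LinearMap.range φ ⊔ 𝔫 = ⊤ := by
  let D := Module.Dual A M
  have : Module.Free (A ⧸ 𝔫) ((A ⧸ 𝔫) ⊗[A] D) := Module.free_of_finite_type_torsion_free'
  obtain ⟨e⟩ := Module.Invertible.free_iff_linearEquiv.mp this
  let e' : (D ⧸ 𝔫 • (⊤ : Submodule A D)) ≃ₗ[A] (A ⧸ 𝔫) :=
    (TensorProduct.quotTensorEquivQuotSMul D 𝔫).symm.trans (e.restrictScalars A)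
  obtain ⟨δ, hδ⟩ := Submodule.Quotient.mk_surjective _ (e'.symm 1)
  refine ⟨δ, ?_⟩
  rw [Ideal.eq_top_iff_one]
  obtain ⟨z, hz⟩ := (Module.Invertible.linearEquiv A M).surjective 1
  rw [← hz]
  clear hz
  induction z with
  | zero => rw [map_zero]; exact zero_mem _
  | add x y hx hy => rw [map_add]; exact add_mem hx hy
  | tmul f m =>
    show f m ∈ _
    obtain ⟨a, ha⟩ := Ideal.Quotient.mk_surjective (e' (Submodule.Quotient.mk f))
    have hf : f - a • δ ∈ 𝔫 • (⊤ : Submodule A D) := by
      rw [← Submodule.Quotient.eq]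
      apply e'.injective
      rw [Submodule.Quotient.mk_smul, map_smul, hδ, LinearEquiv.apply_symm_apply, ← ha,
        Algebra.smul_def, mul_one]
      rfl
    have hm : ∀ g ∈ 𝔫 • (⊤ : Submodule A D), g m ∈ 𝔫 := fun g hg =>
      Submodule.smul_induction_on hg (fun r hr n _ => Ideal.mul_mem_right _ _ hr)
        (fun _ _ => add_mem)
    rw [show f m = δ (a • m) + (f - a • δ) m by
      change f m = δ (a • m) + (f m - a • δ m)
      rw [map_smul, smul_eq_mul]; ring]
    exact Submodule.add_mem_sup (LinearMap.mem_range_self δ _) (hm _ hf)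

theorem invertible_of_mul_eq {A : Type u} [CommRing A] {I K : Ideal A} {Q : A}
    (hQ : Q ∈ nonZeroDivisors A) (h : I * K = Ideal.span {Q}) : Module.Invertible A I := by
  let F := FractionRing A
  have : FaithfulSMul A F :=
    (faithfulSMul_iff_algebraMap_injective A F).mpr (IsFractionRing.injective A F)
  let g : A →ₐ[A] F := Algebra.ofId A F
  obtain ⟨q, hq⟩ := (IsLocalization.map_units F ⟨Q, hQ⟩).exists_left_inv
  have h1 : Submodule.map g.toLinearMap I * (Submodule.span A {q} * Submodule.map g.toLinearMap K) = 1 := by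
    rw [mul_left_comm, ← Submodule.map_mul, h]
    show Submodule.span A {q} * Submodule.map g.toLinearMap (Submodule.span A {Q}) = 1
    rw [Submodule.map_span, Set.image_singleton, Submodule.span_mul_span, Set.singleton_mul_singleton]
    rw [show q * g.toLinearMap Q = 1 from hq, Submodule.one_eq_span]
  let w : (Submodule A F)ˣ := ⟨_, _, h1, by rw [mul_comm]; exact h1⟩
  have : Module.Invertible A (Submodule.map g.toLinearMap I : Submodule A F) :=
    Module.Invertible.left (Submodule.tensorInvEquiv w)
  exact Module.Invertible.congr (Submodule.equivMapOfInjective g.toLinearMap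
    (IsFractionRing.injective A F) I).symm

theorem map_range_eq {A L M : Type u} [CommRing A] [CommRing L] [Algebra A L] [AddCommGroup M]
    [Module A M] (φ : Module.Dual A M) :
    Ideal.map (algebraMap A L) (LinearMap.range φ) =
      LinearMap.range (((Algebra.linearMap A L).comp φ).liftBaseChange L) := by
  rw [LinearMap.range_liftBaseChange]
  show Submodule.span L (algebraMap A L '' (LinearMap.range φ : Ideal A)) = _
  rw [LinearMap.coe_range, ← Set.range_comp]
  rfl

theorem exists_generator {A L M : Type u} [CommRing A] [CommRing L] [Algebra A L] [AddCommGroup M]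
    [Module A M] (φ : Module.Dual A M) (e : L ⊗[A] M ≃ₗ[L] L) :
    ∃ a : L, Ideal.map (algebraMap A L) (LinearMap.range φ) = Ideal.span {a} := by
  refine ⟨((Algebra.linearMap A L).comp φ).liftBaseChange L (e.symm 1), ?_⟩
  rw [map_range_eq]
  refine le_antisymm ?_ ?_
  · rintro _ ⟨z, rfl⟩
    rw [← e.symm_apply_apply z, show e z = e z • (1 : L) by simp, map_smul e.symm, map_smul]
    exact Ideal.mul_mem_left _ _ (Ideal.mem_span_singleton_self _)
  · rw [Ideal.span, Submodule.span_singleton_le_iff_mem]
    exact LinearMap.mem_range_self _ _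

theorem baseChange_equiv {A L : Type u} [CommRing A] [CommRing L] [Algebra A L] {I : Ideal A}
    [Module.Invertible A I] {N : Type u} [AddCommGroup N] [Module L N] [Module.Invertible L N]
    (φ : Module.Dual L N) (hφ : Function.Injective φ)
    (h : Ideal.map (algebraMap A L) I = LinearMap.range φ) : Nonempty (L ⊗[A] I ≃ₗ[L] N) := by
  let e : N ≃ₗ[L] LinearMap.range φ := LinearEquiv.ofInjective φ hφ
  let g : L ⊗[A] I →ₗ[L] L := ((Algebra.linearMap A L).comp I.subtype).liftBaseChange L
  have hg : LinearMap.range g = LinearMap.range φ := by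
    rw [← h, LinearMap.range_liftBaseChange]
    show Submodule.span L _ = Submodule.span L (algebraMap A L '' (I : Set A))
    congr 1
    ext x
    simp [Algebra.linearMap_apply, eq_comm]
  have : Module.Invertible L (LinearMap.range φ) := Module.Invertible.congr e
  have hs : Function.Surjective (g.codRestrict (LinearMap.range φ) fun z => hg ▸ LinearMap.mem_range_self g z) := by
    rintro ⟨y, hy⟩
    rw [← hg] at hy
    obtain ⟨z, hz⟩ := hy
    exact ⟨z, Subtype.ext hz⟩
  exact ⟨(LinearEquiv.ofBijective _ (Module.Invertible.bijective_of_surjective hs)).trans e.symm⟩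

theorem exists_generator_map {A L L' M : Type u} [CommRing A] [CommRing L] [CommRing L'] [Algebra A L']
    [Algebra L L'] (f : A →+* L) (hf : (algebraMap L L').comp f = algebraMap A L')
    [AddCommGroup M] [Module A M] [Module.Invertible A M]
    (hinj : ∀ (M N : Type u) [AddCommGroup M] [Module L M] [Module.Finite L M] [Module.Projective L M]
        [AddCommGroup N] [Module L N] [Module.Finite L N] [Module.Projective L N],
        Nonempty (L' ⊗[L] M ≃ₗ[L'] L' ⊗[L] N) → Nonempty (M ≃ₗ[L] N))
    (φ : Module.Dual A M) (hfree : Module.Free L' (L' ⊗[A] M)) :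
    ∃ a : L, Ideal.map f (LinearMap.range φ) = Ideal.span {a} := by
  let _ : Algebra A L := f.toAlgebra
  have : IsScalarTower A L L' := IsScalarTower.of_algebraMap_eq fun p => (RingHom.congr_fun hf p).symm
  obtain ⟨e'⟩ := Module.Invertible.free_iff_linearEquiv.mp hfree
  obtain ⟨eL⟩ := hinj (L ⊗[A] M) L
    ⟨(AlgebraTensorModule.cancelBaseChange A L L' L' M).trans
      (e'.trans (AlgebraTensorModule.rid L L' L').symm)⟩
  exact exists_generator φ eL

theorem baseChange_equiv' {A L L' : Type u} [CommRing A] [CommRing L] [CommRing L'] [Algebra A L']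
    [Algebra L L'] (f : A →+* L) (hf : (algebraMap L L').comp f = algebraMap A L') {I : Ideal A}
    [Module.Invertible A I] {N : Type u} [AddCommGroup N] [Module L N] [Module.Invertible L N]
    (φ : Module.Dual L N) (hφ : Function.Injective φ)
    (h : Ideal.map f I = LinearMap.range φ) :
    Nonempty (L' ⊗[L] N ≃ₗ[L'] L' ⊗[A] I) := by
  let _ : Algebra A L := f.toAlgebra
  have : IsScalarTower A L L' := IsScalarTower.of_algebraMap_eq fun p => (RingHom.congr_fun hf p).symm
  obtain ⟨eI⟩ := baseChange_equiv (A := A) (I := I) φ hφ h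
  exact ⟨(AlgebraTensorModule.congr (LinearEquiv.refl _ _) eI.symm).trans
    (AlgebraTensorModule.cancelBaseChange A L L' L' I)⟩

/-- Let R be a Henselian local ring and regard R((t)) as an R[s]-algebra through s ↦ t⁻¹. Then the
pullback map Pic(R[t⁻¹]) → Pic(R((t))) is bijective: an invertible R[s]-module that becomes free
over R((t)) is free, and every invertible R((t))-module is extended from an invertible R[s]-module.
(The published statement is the chain of three bijections Pic(R[t⁻¹]) ≅ Pic((R[t]_{1+tR[t]})[1/t]) ≅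
Pic(R{t}[1/t]) ≅ Pic(R((t))), each induced by pullback; this row states the composite.) -/
theorem result (R : Type u) [CommRing R]
    [HenselianLocalRing R] [Algebra R[X] (LaurentSeries R)]
    (halg : algebraMap R[X] (LaurentSeries R) =
      Polynomial.eval₂RingHom (HahnSeries.C) (HahnSeries.single (-1 : ℤ) (1 : R))) :
    (∀ (M : Type u) [AddCommGroup M] [Module R[X] M] [Module.Invertible R[X] M],
        Module.Free (LaurentSeries R) (LaurentSeries R ⊗[R[X]] M) → Module.Free R[X] M) ∧
    (∀ (L : Type u) [AddCommGroup L] [Module (LaurentSeries R) L] [Module.Invertible (LaurentSeries R) L],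
        ∃ (M : Type u) (_ : AddCommGroup M) (_ : Module R[X] M), Module.Invertible R[X] M ∧
          Nonempty (L ≃ₗ[LaurentSeries R] LaurentSeries R ⊗[R[X]] M)) := by
  classical
  set 𝔪 := IsLocalRing.maximalIdeal R with h𝔪
  obtain ⟨B, _, _, hB⟩ : ∃ (B : Type u) (_ : CommRing B) (_ : Algebra R[X] B),
      Hens2.IsPairHenselization R[X] (Ideal.span {(X : R[X])}) B :=
    ⟨Groth.Agent.HenselLib.PairH R[X] (Ideal.span {(X : R[X])}), inferInstance, inferInstance,
      Groth.Agent.HenselLib.isPairHull_pairH _ _⟩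
  let _ : Algebra R B := ((algebraMap R[X] B).comp C).toAlgebra
  have : IsScalarTower R R[X] B := IsScalarTower.of_algebraMap_eq fun _ => rfl
  obtain ⟨ψ0, hψ0⟩ := Groth.Agent.CommAlg4.WeierstrassHensel.exists_expansion hB
  let L := Localization.Away (algebraMap R[X] B X)
  let ι : B →+* L := algebraMap B L
  let τ : L := ι (algebraMap R[X] B X)
  have hτu : IsUnit τ := IsLocalization.Away.algebraMap_isUnit (S := L) (algebraMap R[X] B X)
  have hinv : IsLocalization.Away.invSelf (S := L) (algebraMap R[X] B X) * τ = 1 := by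
    rw [mul_comm]; exact IsLocalization.Away.mul_invSelf (S := L) (algebraMap R[X] B X)
  let ψs : R[X] →ₐ[R] L := aeval (IsLocalization.Away.invSelf (S := L) (algebraMap R[X] B X))
  have hψs : ψs X * τ = 1 := by
    simp only [ψs, aeval_X]; exact hinv
  have hC : ∀ r : R, ψs (C r) = ι (algebraMap R[X] B (C r)) := fun r => by
    simp only [ψs, aeval_C]
    exact IsScalarTower.algebraMap_apply R B L r
  -- `R((t))` as an `L`-algebra
  let tt : LaurentSeries R := HahnSeries.single (1 : ℤ) 1
  have htt : HahnSeries.single (-1 : ℤ) (1 : R) * tt = 1 := by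
    simp [tt, HahnSeries.single_mul_single]
  have hX : HahnSeries.ofPowerSeries ℤ R (ψ0 (algebraMap R[X] B X)) = tt := by
    rw [hψ0, Polynomial.coe_X, HahnSeries.ofPowerSeries_X]
  let χ : L →+* LaurentSeries R := IsLocalization.Away.lift (algebraMap R[X] B X)
    (g := (HahnSeries.ofPowerSeries ℤ R).comp ψ0)
    (by rw [RingHom.comp_apply, hX]; exact IsUnit.of_mul_eq_one_right _ htt)
  have hχ : ∀ b, χ (ι b) = HahnSeries.ofPowerSeries ℤ R (ψ0 b) := fun b =>
    IsLocalization.Away.lift_eq _ _ b
  have hχψ : χ.comp ψs.toRingHom = algebraMap R[X] (LaurentSeries R) := by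
    rw [halg]
    apply Polynomial.ringHom_ext
    · intro r
      rw [coe_eval₂RingHom, eval₂_C, RingHom.comp_apply]
      show χ (ψs (C r)) = _
      rw [hC, hχ, hψ0, Polynomial.coe_C, HahnSeries.ofPowerSeries_C]
    · rw [coe_eval₂RingHom, eval₂_X, RingHom.comp_apply]
      have h1 : χ (ψs X) * tt = 1 := by
        rw [← hX, ← hχ, ← map_mul, hψs, map_one]
      exact left_inv_eq_right_inv h1 (by rw [mul_comm]; exact htt)
  let _ : Algebra L (LaurentSeries R) := χ.toAlgebra
  let ψA : B →ₐ[R[X]] PowerSeries R :=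
    AlgHom.mk ψ0 fun p => by
      show ψ0 (algebraMap R[X] B p) = _
      rw [hψ0, PowerSeries.algebraMap_apply']
      simp
  obtain ⟨hinj, hsurj⟩ := Groth.Agent.S19779.result R B hB ψA (LaurentSeries R) (RingEquiv.refl _)
    (fun b => hχ b)
  obtain ⟨h73a, h73b⟩ := Groth.Agent.S15773.result R B hB ψs hψs
  set mL := 𝔪.map (algebraMap R L) with hmLdef
  have hmL : (𝔪.map (C : R →+* R[X])).map ψs.toRingHom = mL := by
    rw [Ideal.map_map]
    congr 1
    exact ψs.comp_algebraMap
  have hmLι : mL = (𝔪.map ((algebraMap R[X] B).comp C)).map ι := by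
    rw [Ideal.map_map]; rfl
  -- reflection
  have hrefl : ∀ P : R[X], ι (algebraMap R[X] B P) = τ ^ P.natDegree * ψs (P.reflect P.natDegree) := by
    intro P
    let _ : Invertible τ := ⟨ψs X, hψs, by rw [mul_comm]; exact hψs⟩
    have h1 := eval₂_reflect_mul_pow (algebraMap R L) τ P.natDegree P le_rfl
    rw [mul_comm] at h1
    have e2 : ι (algebraMap R[X] B P) = eval₂ (algebraMap R L) τ P := by
      have : ι.comp (algebraMap R[X] B) = eval₂RingHom (algebraMap R L) τ := by
        apply Polynomial.ringHom_ext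
        · intro r; simp [ι, ← IsScalarTower.algebraMap_apply R B L]; rfl
        · simp [τ]
      exact RingHom.congr_fun this P
    rw [e2, ← h1, show (⅟τ : L) = ψs X from rfl]
    congr 1
    rw [← aeval_def, aeval_algHom_apply, aeval_X_left_apply]
  -- off `mL` every element is a distinguished polynomial up to a unit
  have hdist : ∀ a : L, a ∉ mL → ∃ Q : R[X], Q.coeff 0 = 1 ∧ Q - 1 ∈ 𝔪.map (C : R →+* R[X]) ∧
      Ideal.span {a} = Ideal.span {ψs Q} := by
    intro a ha
    obtain ⟨N, b, hb⟩ := IsLocalization.Away.surj (algebraMap R[X] B X) a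
    have hb' : b ∉ 𝔪.map ((algebraMap R[X] B).comp C) := by
      intro h
      apply ha
      rw [← Ideal.mul_unit_mem_iff_mem _ (hτu.pow N), hb, hmLι]
      exact Ideal.mem_map_of_mem ι h
    obtain ⟨P, w, hP, hPu⟩ := Groth.Agent.CommAlg4.WeierstrassHensel.exists_preparation hB hb'
    refine ⟨P.reflect P.natDegree, ?_, ?_, ?_⟩
    · rw [coeff_reflect, revAt_zero]; exact hP.1
    · rw [Ideal.mem_map_C_iff]
      intro i
      rw [coeff_sub, coeff_one, coeff_reflect]
      rcases Nat.eq_zero_or_pos i with rfl | hi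
      · rw [if_pos rfl, revAt_zero, show P.coeff P.natDegree = 1 from hP.1, sub_self]
        exact 𝔪.zero_mem
      · rw [if_neg (by lia), sub_zero]
        by_cases hle : i ≤ P.natDegree
        · rw [revAt_le hle]; exact hP.2 _ (by lia)
        · rw [show revAt P.natDegree i = i by rw [← revAtFun_eq, revAtFun, if_neg (by lia)],
            coeff_eq_zero_of_natDegree_lt (by lia)]
          exact 𝔪.zero_mem
    · rw [← Ideal.span_singleton_mul_right_unit (hτu.pow N) a, show a * τ ^ N = ι b from hb, hPu,
        map_mul, Ideal.span_singleton_mul_right_unit (w.isUnit.map ι), hrefl,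
        Ideal.span_singleton_mul_left_unit (hτu.pow _)]
  have hnzd : ∀ Q : R[X], IsUnit (Q.coeff 0) → Q ∈ nonZeroDivisors R[X] := by
    intro Q hQ
    rw [mem_nonZeroDivisors_iff_right]
    intro f hf
    have h1 := congrArg (fun p : R[X] => (p : PowerSeries R)) hf
    simp only [Polynomial.coe_mul, Polynomial.coe_zero] at h1
    have hu : IsUnit (Q : PowerSeries R) := by
      rw [PowerSeries.isUnit_iff_constantCoeff, Polynomial.constantCoeff_coe]; exact hQ
    exact Polynomial.coe_inj.mp ((hu.mul_left_eq_zero).mp h1)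
  have hone : ∀ a : R[X], a - 1 ∈ 𝔪.map (C : R →+* R[X]) → IsUnit (a.coeff 0) := by
    intro a ha
    have h0 := Ideal.mem_map_C_iff.mp ha 0
    rw [coeff_sub, coeff_one_zero] at h0
    rw [← IsLocalRing.notMem_maximalIdeal]
    intro h
    refine (IsLocalRing.maximalIdeal.isMaximal R).ne_top ((Ideal.eq_top_iff_one _).mpr ?_)
    simpa using sub_mem h h0
  have hsup : ∀ I : Ideal R[X], I ⊔ 𝔪.map (algebraMap R R[X]) = ⊤ →
      ∃ a ∈ I, a - 1 ∈ 𝔪.map (C : R →+* R[X]) := by
    intro I hI
    rw [Ideal.eq_top_iff_one] at hI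
    obtain ⟨a, ha, μ, hμ, h1⟩ := Submodule.mem_sup.mp hI
    exact ⟨a, ha, by rw [show a - 1 = -μ by rw [← h1]; ring]; exact neg_mem hμ⟩
  have hLne : mL ≠ ⊤ := by
    intro htop
    let K := IsLocalRing.ResidueField R
    let ρ0 : B →+* LaurentSeries K :=
      ((HahnSeries.ofPowerSeries ℤ K).comp (PowerSeries.map (IsLocalRing.residue R))).comp ψ0
    have hρX : ρ0 (algebraMap R[X] B X) = HahnSeries.single (1 : ℤ) 1 := by
      simp only [ρ0, RingHom.comp_apply, hψ0, Polynomial.coe_X, PowerSeries.map_X,
        HahnSeries.ofPowerSeries_X]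
    let ρ : L →+* LaurentSeries K := IsLocalization.Away.lift (algebraMap R[X] B X) (g := ρ0)
      (by rw [hρX]; exact IsUnit.of_mul_eq_one_right (HahnSeries.single (-1 : ℤ) (1 : K))
            (by simp [HahnSeries.single_mul_single]))
    have hle : mL ≤ RingHom.ker ρ := by
      rw [hmLι, Ideal.map_le_iff_le_comap, Ideal.map_le_iff_le_comap]
      intro r hr
      show ρ (algebraMap B L (algebraMap R[X] B (C r))) = 0
      simp only [ρ, IsLocalization.Away.lift_eq, ρ0, RingHom.comp_apply, hψ0, Polynomial.coe_C,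
        PowerSeries.map_C, (IsLocalRing.residue_eq_zero_iff r).mpr hr, map_zero]
    have h1 : ρ 1 = 0 := hle (htop ▸ Submodule.mem_top)
    rw [map_one] at h1
    exact one_ne_zero h1
  refine ⟨fun M _ _ _ hfree => ?_, fun L' _ _ _ => ?_⟩
  · have : IsDomain (R[X] ⧸ 𝔪.map (C : R →+* R[X])) := by
      exact (Ideal.polynomialQuotientEquivQuotientPolynomial 𝔪).symm.toMulEquiv.isDomain
    have : IsPrincipalIdealRing (R[X] ⧸ 𝔪.map (C : R →+* R[X])) := by
      let _ : Field (R ⧸ 𝔪) := Ideal.Quotient.field 𝔪
      exact IsPrincipalIdealRing.of_surjective (Ideal.polynomialQuotientEquivQuotientPolynomial 𝔪).toRingHom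
        (Ideal.polynomialQuotientEquivQuotientPolynomial 𝔪).surjective
    obtain ⟨φ, hφ⟩ := exists_dual_sup_eq_top (A := R[X]) (M := M) (𝔪.map (C : R →+* R[X]))
    obtain ⟨a, ha⟩ := exists_generator_map ψs.toRingHom hχψ hinj φ hfree
    obtain ⟨hc, hJ, -⟩ := h73a (LinearMap.range φ) hφ
    have ha' : Ideal.map ψs.toRingHom (LinearMap.range φ) = Ideal.span {a} := ha
    have haM : a ∉ mL := by
      intro h
      rw [ha', sup_eq_right.mpr ((Ideal.span_singleton_le_iff_mem _).mpr h)] at hJ
      exact hLne hJ
    obtain ⟨Q, hQ0, hQm, hQ⟩ := hdist a haM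
    have hI : Ideal.span {Q} = (LinearMap.range φ : Ideal R[X]) := by
      have hQI : Ideal.span {Q} ⊔ 𝔪.map (algebraMap R R[X]) = ⊤ := by
        rw [Ideal.eq_top_iff_one, show (1 : R[X]) = Q + -(Q - 1) by ring]
        exact Submodule.add_mem_sup (Ideal.mem_span_singleton_self Q) (neg_mem hQm)
      rw [← hc, ← (h73a _ hQI).1, ha', hQ, Ideal.map_span, Set.image_singleton]
      rfl
    have hQn : Q ∈ nonZeroDivisors R[X] := hnzd Q (hQ0 ▸ isUnit_one)
    obtain ⟨y, hy⟩ : Q ∈ LinearMap.range φ := hI ▸ Ideal.mem_span_singleton_self Q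
    have hφi : Function.Injective φ := dual_injective φ (hy ▸ hQn)
    have hQi : Function.Injective (LinearMap.toSpanSingleton R[X] R[X] Q) := fun a b hab => by
      simp only [LinearMap.toSpanSingleton_apply, smul_eq_mul] at hab
      exact (mem_nonZeroDivisors_iff_right.mp hQn (a - b) (by rw [sub_mul, hab, sub_self])) |> sub_eq_zero.mp
    have hr : LinearMap.range (LinearMap.toSpanSingleton R[X] R[X] Q) = LinearMap.range φ := by
      rw [LinearMap.range_toSpanSingleton]; exact hI
    exact Module.Invertible.free_iff_linearEquiv.mpr ⟨(LinearEquiv.ofInjective φ hφi).trans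
      ((LinearEquiv.ofEq _ _ hr.symm).trans (LinearEquiv.ofInjective _ hQi).symm)⟩
  · have hmax : mL.IsMaximal := by
      refine Ideal.isMaximal_iff.mpr ⟨fun h => hLne ((Ideal.eq_top_iff_one _).mpr h),
        fun J x hle hx hxJ => ?_⟩
      obtain ⟨Q, -, hQm, hQ⟩ := hdist x hx
      have hQJ : ψs Q ∈ J :=
        (Ideal.span_singleton_le_iff_mem _).mp (hQ ▸ (Ideal.span_singleton_le_iff_mem _).mpr hxJ)
      have h1 : ψs (Q - 1) ∈ J := hle (hmL ▸ Ideal.mem_map_of_mem ψs.toRingHom hQm)
      rw [show (1 : L) = ψs Q - ψs (Q - 1) by rw [map_sub, map_one]; ring]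
      exact sub_mem hQJ h1
    let _ : Field (L ⧸ mL) := Ideal.Quotient.field mL
    obtain ⟨N, _, _, _, _, ⟨eN⟩⟩ := hsurj L'
    obtain ⟨N₂, _, _, _, _, ⟨eN₂⟩⟩ := hsurj (Module.Dual (LaurentSeries R) L')
    have : Module.Invertible L N := by
      obtain ⟨e⟩ := hinj (N ⊗[L] N₂) L
        ⟨(AlgebraTensorModule.distribBaseChange L (LaurentSeries R) N N₂).trans
          ((TensorProduct.congr eN eN₂).trans ((TensorProduct.comm _ _ _).trans
            ((Module.Invertible.linearEquiv (LaurentSeries R) L').trans
              (AlgebraTensorModule.rid L (LaurentSeries R) (LaurentSeries R)).symm)))⟩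
      exact Module.Invertible.left e
    obtain ⟨φ, hφ⟩ := exists_dual_sup_eq_top (A := L) (M := N) mL
    obtain ⟨hJ, hJc⟩ := h73b (LinearMap.range φ) hφ
    obtain ⟨Q, hQI, hQm⟩ := hsup _ hJc
    have hQn : Q ∈ nonZeroDivisors R[X] := hnzd Q (hone Q hQm)
    have hQu := hone Q hQm
    have hψQ : ψs Q ∈ nonZeroDivisors L := by
      obtain ⟨P, hPm, hPQ⟩ : ∃ P : R[X], P.Monic ∧
          τ ^ Q.natDegree * ψs Q = ι (algebraMap R[X] B P) * ψs (C (Q.coeff 0)) := by
        refine ⟨C (↑hQu.unit⁻¹ : R) * Q.reflect Q.natDegree, ?_, ?_⟩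
        · refine monic_of_natDegree_le_of_coeff_eq_one Q.natDegree ?_ ?_
          · refine (natDegree_C_mul_le _ _).trans (natDegree_le_iff_coeff_eq_zero.mpr fun i hi => ?_)
            rw [coeff_reflect, show revAt Q.natDegree i = i by
              rw [← revAtFun_eq, revAtFun, if_neg (by lia)]]
            exact coeff_eq_zero_of_natDegree_lt hi
          · rw [coeff_C_mul, coeff_reflect, revAt_le le_rfl, Nat.sub_self, IsUnit.val_inv_mul]
        · have hd : (Q.reflect Q.natDegree).natDegree = Q.natDegree := by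
            refine natDegree_eq_of_le_of_coeff_ne_zero
              (natDegree_le_iff_coeff_eq_zero.mpr fun i hi => ?_) ?_
            · rw [coeff_reflect, show revAt Q.natDegree i = i by
                rw [← revAtFun_eq, revAtFun, if_neg (by lia)]]
              exact coeff_eq_zero_of_natDegree_lt hi
            · rw [coeff_reflect, revAt_le le_rfl, Nat.sub_self]; exact hQu.ne_zero
          have h2 := hrefl (Q.reflect Q.natDegree)
          rw [hd, reflect_reflect] at h2
          rw [← h2, hC, ← map_mul, ← map_mul]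
          congr 2
          rw [mul_right_comm, ← map_mul, IsUnit.val_inv_mul, map_one, one_mul]
      rw [mem_nonZeroDivisors_iff_right]
      intro z hz
      obtain ⟨N, b, hb⟩ := IsLocalization.Away.surj (algebraMap R[X] B X) z
      have h1 : ι (algebraMap R[X] B P * b) = ι (algebraMap R[X] B P * 0) := by
        have hu : IsUnit (ψs (C (Q.coeff 0))) := (hQu.map (C : R →+* R[X])).map ψs
        rw [mul_zero, map_zero, map_mul]
        refine hu.mul_left_eq_zero.mp ?_
        rw [← hb, mul_right_comm, ← hPQ]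
        linear_combination (τ ^ Q.natDegree * τ ^ N) * hz
      obtain ⟨⟨_, k, rfl⟩, hk⟩ :=
        (IsLocalization.eq_iff_exists (Submonoid.powers (algebraMap R[X] B X)) L).mp h1
      have h2 := Groth.Agent.CommAlg4.WeierstrassHensel.algebraMap_monic_mul_left_cancel hB
        ((monic_X_pow k).mul hPm) (a := b) (b := 0) (by
          simp only [map_mul, map_pow, mul_assoc]; exact hk)
      rw [h2, map_zero] at hb
      exact (hτu.pow N).mul_left_eq_zero.mp hb
    obtain ⟨y, hy⟩ : ψs Q ∈ LinearMap.range φ := hQI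
    have hφi : Function.Injective φ := dual_injective φ (hy ▸ hψQ)
    let K : Ideal L := LinearMap.range (Module.Dual.eval L N y)
    have hyK : ψs Q ∈ K := ⟨φ, hy⟩
    have hmulK : LinearMap.range φ * K = Ideal.span {ψs Q} := by
      refine le_antisymm (Ideal.mul_le.mpr ?_) ?_
      · rintro _ ⟨x, rfl⟩ _ ⟨g, rfl⟩
        refine Ideal.mem_span_singleton'.mpr ⟨g x, ?_⟩
        have := congrArg g (forall_dual φ x y)
        rw [map_smul, map_smul, hy, smul_eq_mul, smul_eq_mul] at this
        rw [Module.Dual.eval_apply, this, mul_comm]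
      · rw [Ideal.span_singleton_le_iff_mem]
        obtain ⟨z, hz⟩ := (Module.Invertible.linearEquiv L N).surjective 1
        have : ∀ z, (Module.Invertible.linearEquiv L N z) * φ y ∈ LinearMap.range φ * K := by
          intro z
          induction z with
          | zero => rw [map_zero, zero_mul]; exact zero_mem _
          | add a b ha hb => rw [map_add, add_mul]; exact add_mem ha hb
          | tmul g x =>
            show g x * φ y ∈ _
            have := congrArg g (forall_dual φ y x)
            rw [map_smul, map_smul, smul_eq_mul, smul_eq_mul] at this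
            rw [show g x * φ y = φ x * g y by first | linear_combination this | linear_combination -this]
            exact Ideal.mul_mem_mul (LinearMap.mem_range_self φ x) ⟨g, rfl⟩
        simpa [hz, hy] using this z
    have hKtop : K ⊔ mL = ⊤ := by
      rw [Ideal.eq_top_iff_one, show (1 : L) = ψs Q + -(ψs (Q - 1)) by rw [map_sub, map_one]; ring]
      exact Submodule.add_mem_sup hyK (neg_mem (hmL ▸ Ideal.mem_map_of_mem ψs.toRingHom hQm))
    obtain ⟨hK, hKc⟩ := h73b K hKtop
    set I := Ideal.comap ψs.toRingHom (LinearMap.range φ) with hIdef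
    set K₀ := K.comap ψs.toRingHom
    have hIK : I * K₀ = Ideal.span {Q} := by
      have h1 : I * K₀ ⊔ 𝔪.map (algebraMap R R[X]) = ⊤ := by
        rw [mul_comm, Ideal.mul_sup_eq_of_coprime_left hKc]; exact hJc
      have h2 : Ideal.span {Q} ⊔ 𝔪.map (algebraMap R R[X]) = ⊤ := by
        rw [Ideal.eq_top_iff_one, show (1 : R[X]) = Q + -(Q - 1) by ring]
        exact Submodule.add_mem_sup (Ideal.mem_span_singleton_self Q) (neg_mem hQm)
      rw [← (h73a _ h1).1, ← (h73a _ h2).1, Ideal.map_mul, hJ, hK, hmulK, Ideal.map_span,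
        Set.image_singleton]
      rfl
    have : Module.Invertible R[X] I := invertible_of_mul_eq hQn hIK
    obtain ⟨eI⟩ := baseChange_equiv' (L' := LaurentSeries R) ψs.toRingHom hχψ (I := I) φ hφi hJ
    exact ⟨I, inferInstance, inferInstance, inferInstance, ⟨eN.symm.trans eI⟩⟩

end Groth.Agent.S15753
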