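import Groth.Statements.S15754
import Mathlib
import Groth.Agent.CommAlg4.IdemSim
import Groth.Agent.CommAlg4.Horrocks
import Groth.Agent.CommAlg4.P1Bundle

set_option linter.all false

set_option autoImplicit false
universe u
open TensorProduct
open CAlg

open Polynomial TensorProduct

namespace Groth.Agent.S15754

open Groth.Agent.CommAlg4.IdemSim Groth.Agent.CommAlg4.Horrocks in
theorem sim_of_powerSeries {R : Type u} [CommRing R] {k l : ℕ}
    {e : Matrix (Fin k) (Fin k) R} {e' : Matrix (Fin l) (Fin l) R}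
    (he : e * e = e) (he' : e' * e' = e') (j : ℕ)
    (x : Matrix (Fin k) (Fin l) (PowerSeries R)) (y : Matrix (Fin l) (Fin k) (PowerSeries R))
    (hxy : x * y = (PowerSeries.X ^ j : PowerSeries R) • e.map (PowerSeries.C (R := R)))
    (hyx : y * x = (PowerSeries.X ^ j : PowerSeries R) • e'.map (PowerSeries.C (R := R))) :
    Sim e e' := by
  set E := e.map (C (R := R)) with hEdef
  set E' := e'.map (C (R := R)) with hE'def
  have hE : E * E = E := map_idem he _
  have hE' : E' * E' = E' := map_idem he' _
  let ι : R[X] →+* PowerSeries R := Polynomial.coeToPowerSeries.ringHom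
  have hιE : ∀ {p : ℕ} (a : Matrix (Fin p) (Fin p) R),
      (a.map (C (R := R))).map ι = a.map (PowerSeries.C (R := R)) := fun a =>
    Matrix.ext fun r s => by simp [ι]
  let q : PowerSeries R →+* PowerSeries R ⧸ Ideal.span {(PowerSeries.X : PowerSeries R) ^ (j + 1)} :=
    Ideal.Quotient.mk _
  -- truncations, congruent to `x`, `y` modulo `X ^ (j + 1)`
  have htr : ∀ f : PowerSeries R, q (ι (PowerSeries.trunc (j + 1) f)) = q f := fun f => by
    rw [Ideal.Quotient.eq, Ideal.mem_span_singleton, PowerSeries.X_pow_dvd_iff]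
    intro m hm
    simp [ι, Polynomial.coeff_coe, PowerSeries.coeff_trunc, hm]
  set α := E * x.map (PowerSeries.trunc (j + 1)) * E' with hαdef
  set β := E' * y.map (PowerSeries.trunc (j + 1)) * E with hβdef
  have hqx : (α.map ι).map q = ((E.map ι) * x * (E'.map ι)).map q := by
    simp only [hαdef, Matrix.map_mul]
    congr 2
    exact Matrix.ext fun r s => htr _
  have hqy : (β.map ι).map q = ((E'.map ι) * y * (E.map ι)).map q := by
    simp only [hβdef, Matrix.map_mul]
    congr 2
    exact Matrix.ext fun r s => htr _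
  have step : ∀ {p p' : ℕ} {a : Matrix (Fin p) (Fin p) R} {a' : Matrix (Fin p') (Fin p') R}
      (u : Matrix (Fin p) (Fin p') R[X]) (v : Matrix (Fin p') (Fin p) R[X])
      (u₀ : Matrix (Fin p) (Fin p') (PowerSeries R)) (v₀ : Matrix (Fin p') (Fin p) (PowerSeries R)),
      a * a = a → u₀ * v₀ = (PowerSeries.X ^ j : PowerSeries R) • a.map (PowerSeries.C (R := R)) →
      v₀ * u₀ = (PowerSeries.X ^ j : PowerSeries R) • a'.map (PowerSeries.C (R := R)) →
      (u.map ι).map q = ((a.map C).map ι * u₀ * (a'.map C).map ι).map q →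
      (v.map ι).map q = ((a'.map C).map ι * v₀ * (a.map C).map ι).map q →
      a.map C * u = u → v * a.map C = v → a' * a' = a' →
      ∃ (c : R[X]) (M : Matrix (Fin p) (Fin p) R[X]), c.coeff 0 = 1 ∧
        u * v * M = (c * X ^ j) • a.map C ∧ M * (u * v) = (c * X ^ j) • a.map C := by
    intro p p' a a' u v u₀ v₀ ha huv hvu hu hv hau hva ha'
    set S := a.map (C (R := R))
    have hS : S * S = S := map_idem ha _
    have hS' : a'.map (PowerSeries.C (R := R)) * a'.map (PowerSeries.C (R := R)) =
        a'.map (PowerSeries.C (R := R)) := map_idem ha' _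
    have hSp : a.map (PowerSeries.C (R := R)) * a.map (PowerSeries.C (R := R)) =
        a.map (PowerSeries.C (R := R)) := map_idem ha _
    set W := u * v - (X ^ j : R[X]) • S with hW
    have hW0 : (W.map ι).map q = 0 := by
      rw [hW, Matrix.map_sub _ (map_sub _), Matrix.map_sub _ (map_sub _), sub_eq_zero,
        Matrix.map_mul, Matrix.map_mul, hu, hv, ← Matrix.map_mul, hιE, hιE, map_smul_ringHom,
        hιE]
      congr 1
      rw [show ι (X ^ j) = PowerSeries.X ^ j by simp [ι]]
      generalize a.map (PowerSeries.C (R := R)) = P at *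
      generalize a'.map (PowerSeries.C (R := R)) = Q at *
      have h3 : (PowerSeries.X ^ j : PowerSeries R) • (u₀ * Q * v₀) =
          (PowerSeries.X ^ j : PowerSeries R) • ((PowerSeries.X ^ j : PowerSeries R) • P) := by
        calc _ = u₀ * ((PowerSeries.X ^ j : PowerSeries R) • Q) * v₀ := by
              rw [Matrix.mul_smul, Matrix.smul_mul]
          _ = (u₀ * v₀) * (u₀ * v₀) := by rw [← hvu]; simp only [Matrix.mul_assoc]
          _ = _ := by rw [huv, Matrix.smul_mul, Matrix.mul_smul, hSp]
      have h4 : u₀ * Q * v₀ = (PowerSeries.X ^ j : PowerSeries R) • P :=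
        Matrix.ext fun r s => PowerSeries.X_pow_mul_cancel (congrFun (congrFun h3 r) s)
      calc P * u₀ * Q * (Q * v₀ * P) = P * (u₀ * (Q * Q) * v₀) * P := by
            simp only [Matrix.mul_assoc]
        _ = _ := by rw [hS', h4, Matrix.mul_smul, Matrix.smul_mul, hSp, hSp]
    have hWdvd : ∀ r s, (X : R[X]) ^ (j + 1) ∣ W r s := fun r s => by
      rw [Polynomial.X_pow_dvd_iff]
      intro m hm
      have := congrFun (congrFun hW0 r) s
      rw [Matrix.map_apply, Matrix.zero_apply, Ideal.Quotient.eq_zero_iff_mem,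
        Ideal.mem_span_singleton, PowerSeries.X_pow_dvd_iff] at this
      simpa [ι] using this m hm
    choose H hH using hWdvd
    set H' : Matrix (Fin p) (Fin p) R[X] := Matrix.of H
    have hWH : W = (X ^ (j + 1) : R[X]) • H' := Matrix.ext fun r s => hH r s
    set N := (1 : Matrix (Fin p) (Fin p) R[X]) + (X : R[X]) • (S * H' * S) with hN
    have hNS : N * S = S * N := by
      rw [hN, Matrix.add_mul, Matrix.mul_add, Matrix.one_mul, Matrix.mul_one, Matrix.smul_mul,
        Matrix.mul_smul, Matrix.mul_assoc _ S S, hS, ← Matrix.mul_assoc S, ← Matrix.mul_assoc S,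
        hS]
    have huvS : u * v = (X ^ j : R[X]) • (N * S) := by
      have h5 : S * W * S = W := by
        rw [hW, Matrix.mul_sub, Matrix.sub_mul, ← Matrix.mul_assoc S u, hau, Matrix.mul_assoc u v,
          hva, Matrix.mul_smul, Matrix.smul_mul, hS, hS]
      have e : u * v = (X ^ j : R[X]) • S + W := by rw [hW, add_sub_cancel]
      rw [e, ← h5, hWH, hN]
      simp only [Matrix.add_mul, Matrix.one_mul, Matrix.smul_mul, Matrix.mul_smul, Matrix.mul_assoc,
        hS, smul_add, smul_smul, pow_succ]
    refine ⟨N.det, N.adjugate * S, ?_, ?_, ?_⟩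
    · rw [coeff_zero_eq_eval_zero, ← coe_evalRingHom, RingHom.map_det]
      convert Matrix.det_one (n := Fin p) (R := R)
      refine Matrix.ext fun r s => ?_
      simp [hN, Matrix.one_apply, apply_ite (Polynomial.eval (0 : R))]
    · rw [huvS, Matrix.smul_mul, hNS, Matrix.mul_assoc S N, ← Matrix.mul_assoc N,
        Matrix.mul_adjugate, Matrix.smul_mul, Matrix.one_mul, Matrix.mul_smul, hS, smul_smul,
        mul_comm]
    · rw [huvS, Matrix.mul_smul, Matrix.mul_assoc N.adjugate, ← Matrix.mul_assoc S, ← hNS,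
        Matrix.mul_assoc N, hS, ← Matrix.mul_assoc, Matrix.adjugate_mul, Matrix.smul_mul,
        Matrix.one_mul, smul_smul, mul_comm]
  have hEα : E * α = α := by rw [hαdef, ← Matrix.mul_assoc, ← Matrix.mul_assoc, hE]
  have hαE : α * E' = α := by rw [hαdef, Matrix.mul_assoc _ E', hE']
  have hEβ : E' * β = β := by rw [hβdef, ← Matrix.mul_assoc, ← Matrix.mul_assoc, hE']
  have hβE : β * E = β := by rw [hβdef, Matrix.mul_assoc _ E, hE]
  obtain ⟨c, M, hc, hM, -⟩ := step (a := e) (a' := e') α β x y he hxy hyx hqx hqy hEα hβE he'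
  obtain ⟨c', M', hc', -, hM'⟩ := step (a := e') (a' := e) β α y x he' hyx hxy hqy hqx hEβ hαE he
  have hcc : (c * c').coeff 0 = 1 := by rw [mul_coeff_zero, hc, hc', mul_one]
  -- one-sided inverses agree
  have hagree : (X ^ j : R[X]) • (c' • (E' * (β * M * E))) =
      (X ^ j : R[X]) • (c • (M' * β * E)) := by
    calc _ = ((c' * X ^ j) • E') * (β * M * E) := by
          rw [Matrix.smul_mul, smul_smul, mul_comm]
      _ = M' * β * ((α * β * M) * E) := by rw [← hM']; simp only [Matrix.mul_assoc]
      _ = _ := by rw [hM, Matrix.smul_mul, hE, Matrix.mul_smul, smul_smul, mul_comm]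
  have hagree' : c' • (E' * (β * M * E)) = c • (M' * β * E) := Matrix.ext fun r s => by
    have := congrFun (congrFun hagree r) s
    simp only [Matrix.smul_apply, smul_eq_mul] at this
    exact (Polynomial.monic_X_pow j).isRegular.left this
  refine sim_of_glue he he' (c' • (E' * (β * M * E))) α (c * c') hcc j ?_ ?_
  · rw [Matrix.mul_smul, ← Matrix.mul_assoc α, hαE, ← Matrix.mul_assoc α, ← Matrix.mul_assoc α,
      hM, Matrix.smul_mul, hE, smul_smul]
    congr 1; ring
  · rw [hagree', Matrix.smul_mul, Matrix.mul_assoc _ E, hEα, Matrix.mul_assoc M', hM', smul_smul]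
    congr 1; ring

/-- For an arbitrary commutative ring R, non-isomorphic finitely generated projective R-modules cannot
become isomorphic over the Laurent series ring R((t)): for an R-algebra L that is R-isomorphic to
R((t)), if L ⊗_R M ≅ L ⊗_R N as L-modules then M ≅ N. (L is R((t)) up to an R-algebra isomorphism;
it is kept abstract only so that the L-module structure on L ⊗_R M elaborates.) -/
theorem result (R : Type u) [CommRing R]
    (L : Type u) [CommRing L] [Algebra R L] (eL : L ≃ₐ[R] LaurentSeries R)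
    (M N : Type u) [AddCommGroup M] [Module R M] [Module.Finite R M] [Module.Projective R M]
    [AddCommGroup N] [Module R N] [Module.Finite R N] [Module.Projective R N]
    (e : L ⊗[R] M ≃ₗ[L] L ⊗[R] N) :
    Nonempty (M ≃ₗ[R] N) := by
  classical
  obtain ⟨k, i, p, hpi⟩ := Groth.Agent.CommAlg4.IdemSim.exists_retract R M
  obtain ⟨l, i', p', hpi'⟩ := Groth.Agent.CommAlg4.IdemSim.exists_retract R N
  obtain ⟨iS, pS, hS, hSE⟩ :=
    Groth.Agent.CommAlg4.Horrocks.exists_retract_baseChange (S := L) i p hpi
  obtain ⟨iS', pS', hS', hSE'⟩ :=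
    Groth.Agent.CommAlg4.Horrocks.exists_retract_baseChange (S := L) i' p' hpi'
  obtain ⟨x, y, hxy, hyx⟩ :=
    (Groth.Agent.CommAlg4.IdemSim.sim_of_linearEquiv iS pS hS iS' pS' hS' e).map
      (eL.toAlgHom.toRingHom : L →+* LaurentSeries R)
  rw [hSE, Matrix.map_map] at hxy
  rw [hSE', Matrix.map_map] at hyx
  have hcl := Groth.Agent.CommAlg4.IdemSim.clears_of_isLocalization
    (S := LaurentSeries R) (Submonoid.powers (PowerSeries.X : PowerSeries R))
  obtain ⟨_, ⟨a, rfl⟩, x', hx'⟩ := hcl.exists_matrix x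
  obtain ⟨_, ⟨b, rfl⟩, y', hy'⟩ := hcl.exists_matrix y
  refine Groth.Agent.CommAlg4.IdemSim.nonempty_linearEquiv_of_sim i p hpi i' p' hpi' ?_
  have hinj : Function.Injective (algebraMap (PowerSeries R) (LaurentSeries R)) :=
    HahnSeries.ofPowerSeries_injective
  have hC : ∀ r : R, eL (algebraMap R L r) =
      algebraMap (PowerSeries R) (LaurentSeries R) (PowerSeries.C r) := fun r => by
    rw [eL.commutes, HahnSeries.algebraMap_apply']
    simp
  have hCm : ∀ {q : ℕ} (T : Matrix (Fin q) (Fin q) R),
      T.map ((eL.toAlgHom.toRingHom : L →+* LaurentSeries R) ∘ algebraMap R L) =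
        (T.map (PowerSeries.C (R := R))).map (algebraMap (PowerSeries R) (LaurentSeries R)) :=
    fun T => Matrix.ext fun r s => hC (T r s)
  rw [hCm] at hxy hyx
  refine sim_of_powerSeries (Groth.Agent.CommAlg4.IdemSim.retract_idem i p hpi)
    (Groth.Agent.CommAlg4.IdemSim.retract_idem i' p' hpi') (a + b) x' y' ?_ ?_ <;>
  refine Matrix.map_injective hinj ?_
  · show (x' * y').map (algebraMap _ (LaurentSeries R)) = Matrix.map _ (algebraMap _ (LaurentSeries R))
    rw [Matrix.map_mul, hx', hy', Groth.Agent.CommAlg4.IdemSim.map_smul_ringHom, Matrix.smul_mul,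
      Matrix.mul_smul, smul_smul, hxy, ← map_mul, ← pow_add]
  · show (y' * x').map (algebraMap _ (LaurentSeries R)) = Matrix.map _ (algebraMap _ (LaurentSeries R))
    rw [Matrix.map_mul, hx', hy', Groth.Agent.CommAlg4.IdemSim.map_smul_ringHom, Matrix.smul_mul,
      Matrix.mul_smul, smul_smul, hyx, ← map_mul, ← pow_add, add_comm]

end Groth.Agent.S15754
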