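import Groth.Statements.S15758
import Groth.Agent.Elkik5.Section
import Groth.Agent.Elkik5.Laurent
import Groth.Agent.NonAb.SchTorsor
import Groth.Agent.Et18.Descent

set_option autoImplicit false
set_option linter.style.haveILetI false
universe u
open CategoryTheory MonoidalCategory CartesianMonoidalCategory MonObj GrpObj AlgebraicGeometry Polynomial
open NonAbH1

namespace Groth.Agent.S15758

/-- The Laurent-series instance, kernel form, for an affine smooth group: let R be a ring, B = R{t} a
henselization of R[t] along (t), ψ : B → R[[t]] the canonical R[t]-algebra map, and χ : B[1/t] →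
R((t)) the induced map. For an affine smooth B[1/t]-group scheme G, an fppf G-torsor over Spec
B[1/t] which acquires a section over Spec R((t)) has a section. (The published statement is a
bijection H¹(R{t}[1/t], G) ≅ H¹(R((t)), G) for quasi-affine smooth G and an injection for smooth
quasi-separated G; this row is the triviality of the kernel for affine smooth G.) -/
theorem result (R : Type u) [CommRing R]
    (B : Type u) [CommRing B] [Algebra R[X] B] (hB : Hens2.IsPairHenselization R[X] (Ideal.span {(X : R[X])}) B)
    (ψ : B →ₐ[R[X]] PowerSeries R)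
    (χ : Localization.Away (algebraMap R[X] B X) →+* LaurentSeries R)
    (hχ : χ.comp (algebraMap B (Localization.Away (algebraMap R[X] B X))) =
      (HahnSeries.ofPowerSeries ℤ R).comp ψ.toRingHom)
    (G : Over (Spec (CommRingCat.of (Localization.Away (algebraMap R[X] B X))))) [GrpObj G]
    [IsAffine G.left] [Smooth G.hom]
    (P : Over (Spec (CommRingCat.of (Localization.Away (algebraMap R[X] B X))))) (a : AlgGrp.Action G P)
    (hP : NonAbH1.IsTorsorFor Scheme.fppfPrecoverage a)
    (hsec : NonAbH1.HasSectionOver P (Spec.map (CommRingCat.ofHom χ))) :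
    NonAbH1.HasSectionOver P (𝟙 (Spec (CommRingCat.of (Localization.Away (algebraMap R[X] B X))))) := by
  have hfpqc := (⟨hP.1, let ⟨R', hR', h⟩ := hP.2; ⟨R', Scheme.fppfPrecoverage_le_fpqcPrecoverage _ hR', h⟩⟩ :
    NonAbH1.IsTorsorFor Scheme.fpqcPrecoverage a)
  have hGa : IsAffineHom G.hom := inferInstance
  have haff : IsAffineHom P.hom :=
    NonAbLib.property_hom @IsAffineHom Et18.descends_isAffineHom hfpqc hGa
  have hsm : Smooth P.hom :=
    NonAbLib.property_hom @Smooth inferInstance hfpqc ‹Smooth G.hom›
  haveI : IsAffine P.left := isAffine_of_isAffineHom P.hom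
  let t : B := algebraMap R[X] B X
  haveI : HenselianRing B (Ideal.span {t}) := Elkik5.henselian_span hB
  have hbd : ∃ N : ℕ, ∀ b : B, (∃ m : ℕ, t ^ m * b = 0) → t ^ N * b = 0 :=
    ⟨0, fun b hb => by simp only [pow_zero, _root_.one_mul]; exact Elkik5.torsion_zero hB b hb⟩
  let Bh := AdicCompletion (Ideal.span {t}) B
  let L := Localization.Away t
  let C : Type u := Γ(P.left, ⊤)
  let f : CommRingCat.of L ⟶ Γ(P.left, ⊤) := (Scheme.ΓSpecIso (CommRingCat.of L)).inv ≫ P.hom.appTop
  letI : Algebra L C := f.hom.toAlgebra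
  haveI : Algebra.Smooth L C := by
    have h1 : P.hom.appTop.hom.Smooth := (HasRingHomProperty.iff_of_isAffine (P := @Smooth)).mp hsm
    have h2 : f.hom.Smooth :=
      (RingHom.Smooth.respectsIso.2 P.hom.appTop.hom (Scheme.ΓSpecIso (CommRingCat.of L)).symm.commRingCatIsoToRingEquiv h1)
    exact h2
  have hf : Spec.map f = P.left.isoSpec.inv ≫ P.hom := by
    rw [Spec.map_comp, ← Scheme.isoSpec_Spec_inv, Scheme.isoSpec_inv_naturality]
  obtain ⟨s, hs⟩ := hsec
  let σP : C →+* LaurentSeries R := (Spec.preimage (s ≫ P.left.isoSpec.hom)).hom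
  have hσP : σP.comp (algebraMap L C) = χ := by
    have : f ≫ Spec.preimage (s ≫ P.left.isoSpec.hom) = CommRingCat.ofHom χ := by
      apply Spec.map_injective
      rw [Spec.map_comp, Spec.map_preimage, hf, Category.assoc, Iso.hom_inv_id_assoc]
      exact hs
    exact congrArg CommRingCat.Hom.hom this
  obtain ⟨φ, hφ⟩ := Elkik5.exists_toCompletion hB ψ
  let jh : PowerSeries R →+* Localization.Away (algebraMap B Bh t) := (algebraMap Bh _).comp φ
  have hX : ψ t = PowerSeries.X := by
    rw [ψ.commutes, PowerSeries.algebraMap_apply', Algebra.algebraMap_self, PowerSeries.map_id, id]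
    exact Polynomial.coe_X
  have hu : ∀ y : Submonoid.powers (PowerSeries.X : PowerSeries R), IsUnit (jh y) := by
    rintro ⟨_, k, rfl⟩
    show IsUnit (jh (PowerSeries.X ^ k))
    rw [map_pow, ← hX]
    show IsUnit (algebraMap Bh _ (φ (ψ t)) ^ k)
    rw [hφ]
    exact (IsLocalization.Away.algebraMap_isUnit _).pow k
  let Φ : LaurentSeries R →+* Localization.Away (algebraMap B Bh t) := IsLocalization.lift hu
  obtain ⟨τ, hτ⟩ := Elkik5.exists_section t hbd C (Φ.comp σP) (by
    rw [RingHom.comp_assoc, hσP]
    refine IsLocalization.ringHom_ext (Submonoid.powers t) (RingHom.ext fun b => ?_)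
    have hm : Localization.awayMap (algebraMap B Bh) t (algebraMap B L b) =
        algebraMap Bh (Localization.Away (algebraMap B Bh t)) (algebraMap B Bh b) :=
      IsLocalization.map_eq _ b
    show Φ (χ (algebraMap B L b)) = Localization.awayMap (algebraMap B Bh) t (algebraMap B L b)
    rw [hm]
    rw [show χ (algebraMap B L b) = algebraMap (PowerSeries R) (LaurentSeries R) (ψ b) from
      RingHom.congr_fun hχ b, IsLocalization.lift_eq]
    exact congrArg (algebraMap Bh _) (hφ b))
  refine ⟨Spec.map (CommRingCat.ofHom τ) ≫ P.left.isoSpec.inv, ?_⟩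
  rw [Category.assoc, ← hf, ← Spec.map_comp, ← Spec.map_id]
  exact congrArg Spec.map (CommRingCat.hom_ext hτ)

end Groth.Agent.S15758
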