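import Groth.Statements.S15759
import Mathlib
import Groth.Agent.CommAlg4.ApproxIdem
import Groth.Agent.HenselLib.PairQuot

set_option linter.all false

set_option autoImplicit false
universe u
open Polynomial TensorProduct
open CAlg

open Polynomial TensorProduct

namespace Groth.Agent.S15759

theorem clear_closure {R : Type u} [CommRing R] (s : R[X])
    (hs : s ∈ Submonoid.closure ({f : R[X] | f.coeff 0 = 1} ∪ {X})) :
    ∃ (g : R[X]) (k : ℕ), g.coeff 0 = 1 ∧ s = g * X ^ k := by
  induction hs using Submonoid.closure_induction with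
  | mem x hx =>
    rcases hx with hx | hx
    · exact ⟨x, 0, hx, by simp⟩
    · rw [Set.mem_singleton_iff.mp hx]; exact ⟨1, 1, by simp, by simp⟩
  | one => exact ⟨1, 0, by simp, by simp⟩
  | mul x y _ _ hx hy =>
    obtain ⟨g, k, hg, rfl⟩ := hx
    obtain ⟨g', k', hg', rfl⟩ := hy
    exact ⟨g * g', k + k', by rw [mul_coeff_zero, hg, hg', mul_one], by rw [pow_add]; ring⟩

theorem approx_laurent (R : Type u) [CommRing R]
    (L : Type u) [CommRing L] [Algebra R[X] L]
    [IsLocalization (Submonoid.closure ({f : R[X] | f.coeff 0 = 1} ∪ {X})) L]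
    (L' : Type u) [CommRing L'] [Algebra L L'] (e : L' ≃+* LaurentSeries R)
    (he : ∀ p : R[X], e (algebraMap L L' (algebraMap R[X] L p)) =
      HahnSeries.ofPowerSeries ℤ R (Polynomial.coeToPowerSeries.ringHom p)) :
    ∃ (B : Type u) (_ : CommRing B) (ψ : B →+* PowerSeries R) (t : B) (ι : B →+* L)
      (ι' : PowerSeries R →+* L'), Groth.Agent.CommAlg4.ApproxIdem.Approx ψ t ι ι' := by
  let S : Submonoid R[X] :=
    { carrier := {f | f.coeff 0 = 1}
      one_mem' := by simp
      mul_mem' := fun {f g} hf hg => by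
        show (f * g).coeff 0 = 1
        rw [mul_coeff_zero, show f.coeff 0 = 1 from hf, show g.coeff 0 = 1 from hg, mul_one] }
  let B := Localization S
  let T := Submonoid.closure ({f : R[X] | f.coeff 0 = 1} ∪ {X})
  let c : R[X] →+* PowerSeries R := Polynomial.coeToPowerSeries.ringHom
  have hcu : ∀ y : S, IsUnit (c y) := fun y => by
    rw [PowerSeries.isUnit_iff_constantCoeff]
    show IsUnit (PowerSeries.constantCoeff ((y : R[X]) : PowerSeries R))
    rw [Polynomial.constantCoeff_coe, show (y : R[X]).coeff 0 = 1 from y.2]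
    exact isUnit_one
  let ψ : B →+* PowerSeries R := IsLocalization.lift (M := S) (g := c) hcu
  have hLu : ∀ y : S, IsUnit (algebraMap R[X] L y) := fun y =>
    IsLocalization.map_units L (⟨y.1, Submonoid.subset_closure (Or.inl y.2)⟩ : T)
  let ι : B →+* L := IsLocalization.lift (M := S) (g := algebraMap R[X] L) hLu
  let ι' : PowerSeries R →+* L' :=
    e.symm.toRingHom.comp (algebraMap (PowerSeries R) (LaurentSeries R))
  refine ⟨B, inferInstance, ψ, algebraMap R[X] B X, ι, ι', ?_⟩
  have hψ : ∀ p, ψ (algebraMap R[X] B p) = (p : PowerSeries R) :=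
    fun p => IsLocalization.lift_eq hcu p
  have hι : ∀ p, ι (algebraMap R[X] B p) = algebraMap R[X] L p :=
    fun p => IsLocalization.lift_eq hLu p
  have hψX : ψ (algebraMap R[X] B X) = PowerSeries.X := by rw [hψ]; exact Polynomial.coe_X
  refine ⟨?_, ?_, ?_, ?_, ?_, ?_, ?_, ?_, ?_⟩
  · refine IsLocalization.ringHom_ext S (RingHom.ext fun p => e.injective ?_)
    simp only [RingHom.comp_apply, hι, hψ, ι', RingEquiv.toRingHom_eq_coe, RingHom.coe_coe,
      e.apply_symm_apply]
    exact he p
  · rw [hι]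
    exact IsLocalization.map_units L (⟨X, Submonoid.subset_closure (Or.inr rfl)⟩ : T)
  · intro z
    obtain ⟨⟨f, s, hs⟩, h⟩ := IsLocalization.surj T z
    obtain ⟨g, k, hg, rfl⟩ := clear_closure s hs
    refine ⟨k, IsLocalization.mk' B f (⟨g, hg⟩ : S), (hLu ⟨g, hg⟩).mul_left_cancel ?_⟩
    have h2 := congrArg ι (IsLocalization.mk'_spec' B f (⟨g, hg⟩ : S))
    rw [map_mul, hι, hι] at h2
    rw [h2, hι]
    rw [map_mul, map_pow] at h
    rw [← h]
    ring
  · intro z
    rw [hψX]
    obtain ⟨⟨f, _, k, rfl⟩, h⟩ := IsLocalization.surj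
      (Submonoid.powers (PowerSeries.X : PowerSeries R)) (e z)
    refine ⟨k, f, e.injective ?_⟩
    simp only [map_mul, map_pow, ι', RingHom.comp_apply, RingEquiv.toRingHom_eq_coe, RingHom.coe_coe,
      e.apply_symm_apply] at h ⊢
    exact h
  · intro b hb
    refine ⟨0, ?_⟩
    simp only [ι', RingHom.comp_apply, RingEquiv.toRingHom_eq_coe, RingHom.coe_coe,
      map_eq_zero_iff _ e.symm.injective] at hb
    rw [HahnSeries.ofPowerSeries_injective (hb.trans (map_zero _).symm), mul_zero]
  · intro b' k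
    refine ⟨algebraMap R[X] B (PowerSeries.trunc k b'), ?_⟩
    rw [hψX, hψ, PowerSeries.X_pow_dvd_iff]
    intro m hm
    simp [Polynomial.coeff_coe, PowerSeries.coeff_trunc, hm]
  · intro b k h
    obtain ⟨f, s, rfl⟩ := IsLocalization.exists_mk'_eq S b
    have h2 := congrArg ψ (IsLocalization.mk'_spec' B f s)
    rw [map_mul, hψ, hψ] at h2
    rw [hψX] at h
    have h3 : (X : R[X]) ^ k ∣ f := by
      rw [Polynomial.X_pow_dvd_iff]
      intro m hm
      have : PowerSeries.X ^ k ∣ (f : PowerSeries R) := h2 ▸ h.mul_left _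
      simpa using PowerSeries.X_pow_dvd_iff.mp this m hm
    obtain ⟨f', rfl⟩ := h3
    refine ⟨IsLocalization.mk' B f' s, ?_⟩
    rw [← map_pow, IsLocalization.mul_mk'_eq_mk'_of_mul]
  · rw [Ideal.mem_jacobson_bot]
    intro b
    obtain ⟨f, s, rfl⟩ := IsLocalization.exists_mk'_eq S b
    have hu : IsUnit (algebraMap R[X] B (X * f + (s : R[X]))) := IsLocalization.map_units B (⟨X * f + (s : R[X]), by
      show (X * f + (s : R[X])).coeff 0 = 1
      rw [coeff_add, mul_coeff_zero, coeff_X_zero, zero_mul, zero_add]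
      exact s.2⟩ : S)
    rw [map_add, map_mul, ← IsLocalization.mk'_spec' B f s] at hu
    refine isUnit_of_mul_isUnit_right (x := algebraMap R[X] B s) ?_
    convert hu using 1
    ring
  · rw [hψX, Ideal.mem_jacobson_bot]
    intro y
    rw [PowerSeries.isUnit_iff_constantCoeff]
    simp

/-- Let R be a ring, L = R(t) the localisation of R[t] at the monoid generated by t and the polynomials
with constant term 1 (that is, (R[t]_{1+tR[t]})[1/t]), and L' an L-algebra identified with R((t))
compatibly with R[t] → R((t)). Then (b) finitely generated projective L-modules that become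
isomorphic over L' are isomorphic, and (c) every stably free L'-module is the base change of a
stably free L-module. -/
theorem result (R : Type u) [CommRing R]
    (L : Type u) [CommRing L] [Algebra R[X] L]
    [IsLocalization (Submonoid.closure ({f : R[X] | f.coeff 0 = 1} ∪ {X})) L]
    (L' : Type u) [CommRing L'] [Algebra L L'] (e : L' ≃+* LaurentSeries R)
    (he : ∀ p : R[X], e (algebraMap L L' (algebraMap R[X] L p)) =
      HahnSeries.ofPowerSeries ℤ R (Polynomial.coeToPowerSeries.ringHom p)) :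
    (∀ (M N : Type u) [AddCommGroup M] [Module L M] [Module.Finite L M] [Module.Projective L M]
        [AddCommGroup N] [Module L N] [Module.Finite L N] [Module.Projective L N],
        Nonempty (L' ⊗[L] M ≃ₗ[L'] L' ⊗[L] N) → Nonempty (M ≃ₗ[L] N)) ∧
    (∀ (M' : Type u) [AddCommGroup M'] [Module L' M'] [Module.Finite L' M'],
        (∃ n m : ℕ, Nonempty ((M' × (Fin n → L')) ≃ₗ[L'] (Fin m → L'))) →
        ∃ (M : Type u) (_ : AddCommGroup M) (_ : Module L M), Module.Finite L M ∧
          (∃ n m : ℕ, Nonempty ((M × (Fin n → L)) ≃ₗ[L] (Fin m → L))) ∧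
          Nonempty (L' ⊗[L] M ≃ₗ[L'] M')) := by
  obtain ⟨B, _, ψ, t, ι, ι', h⟩ := approx_laurent R L L' e he
  refine ⟨fun M N _ _ _ _ _ _ _ _ ⟨φ⟩ =>
    Groth.Agent.CommAlg4.ApproxIdem.nonempty_linearEquiv h M N φ, ?_⟩
  rintro M' _ _ _ ⟨n, m, ⟨θ⟩⟩
  exact Groth.Agent.CommAlg4.ApproxIdem.exists_stablyFree h M' n m θ

end Groth.Agent.S15759
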