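import Groth.Statements.S1576
import Mathlib
import Groth.Agent.AssSch12.Ass
import Groth.Agent.Coherent.FiniteType
import Groth.Agent.SDiv28.WeakAssPoints

set_option autoImplicit false
universe u
open CategoryTheory CategoryTheory.Limits AlgebraicGeometry
open Divisors

namespace Groth.Agent.S1576

/-- Let X be locally Noetherian and F coherent. Then the associated points of F lying in any
quasi-compact open subset form a finite set. -/
theorem result (X : Scheme.{u}) [IsLocallyNoetherian X]
    (F : X.Modules) (hF : Coh.IsCoh F) (U : X.Opens) (hU : IsCompact (U : Set X)) :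
    {x : X | x ∈ U ∧ Curv2.IsAssPoint F x}.Finite := by
  haveI : F.IsQuasicoherent := hF.1
  have hfin := ((Groth.Agent.Coherent.isCoh_iff_finite_sections F).1 hF).2
  obtain ⟨s, hs, hUs⟩ := isCompact_iff_finite_and_eq_biUnion_affineOpens.1 hU
  have hone : ∀ V : X.affineOpens, {x : X | x ∈ (V : X.Opens) ∧ Curv2.IsAssPoint F x}.Finite := by
    intro V
    haveI : Module.Finite Γ(X, (V : X.Opens)) Γ(F, (V : X.Opens)) := hfin V V.2
    haveI := Groth.Agent.AssSch12.isNoetherianRing_of_isAffineOpen V.2
    have hA := associatedPrimes.finite Γ(X, (V : X.Opens)) Γ(F, (V : X.Opens))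
    have key : {x : {x : X // x ∈ (V : X.Opens)} | Curv2.IsAssPoint F x.1}.Finite := by
      refine Set.Finite.of_injOn (f := fun x => Groth.Agent.AssSch12.primeAt V.2 x.2) ?_ ?_ hA
      · intro x hx
        exact (Groth.Agent.AssSch12.mem_ass_iff V.2 x.2 F).1 hx
      · intro x _ y _ h
        exact Subtype.ext (Groth.Agent.SDiv28.eq_of_primeAt_eq V.2 x.2 y.2 h)
    refine (key.image Subtype.val).subset ?_
    rintro x ⟨hx, hx'⟩
    exact ⟨⟨x, hx⟩, hx', rfl⟩
  refine ((hs.biUnion fun V _ => hone V).subset ?_)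
  rintro x ⟨hxU, hx⟩
  rw [hUs] at hxU
  simp only [TopologicalSpace.Opens.coe_iSup, Set.mem_iUnion, SetLike.mem_coe, TopologicalSpace.Opens.mem_iSup] at hxU ⊢
  obtain ⟨V, hV, hxV⟩ := hxU
  exact ⟨V, hV, hxV, hx⟩
end Groth.Agent.S1576
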