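import Groth.Statements.S15763
import Groth.Agent.Elkik5.OfApprox
import Groth.Agent.Elkik5.FEtAffine
import Groth.Agent.Elkik5.Laurent
import Groth.Agent.CAlgH.PowerSeriesEval

set_option autoImplicit false
set_option linter.style.haveILetI false
universe u
open CategoryTheory AlgebraicGeometry Polynomial
open FEt

namespace Groth.Agent.S15763

/-- The instance R{t}[1/t] → R((t)): for any ring R, base change along the canonical map from the
Henselian Laurent series ring R{t}[1/t] (R{t} a henselization of R[t] along (t), ψ its map to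
R[[t]], χ the induced map to R((t))) to R((t)) is an equivalence between finite étale schemes over
Spec R{t}[1/t] and over Spec R((t)). (The published statement is for any topological ring with a
Henselian open nonunital subring whose induced topology has a neighbourhood base of zero consisting
of ideals, and its completion; this row is the case R{t}[1/t] → R((t)), which the published
statement singles out.) -/
theorem result (R : Type u) [CommRing R]
    (B : Type u) [CommRing B] [Algebra R[X] B] (hB : Hens2.IsPairHenselization R[X] (Ideal.span {(X : R[X])}) B)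
    (ψ : B →ₐ[R[X]] PowerSeries R)
    (χ : Localization.Away (algebraMap R[X] B X) →+* LaurentSeries R)
    (hχ : χ.comp (algebraMap B (Localization.Away (algebraMap R[X] B X))) =
      (HahnSeries.ofPowerSeries ℤ R).comp ψ.toRingHom) :
    (FEt.restrict (Spec.map (CommRingCat.ofHom χ))).IsEquivalence := by
  let tB : B := algebraMap R[X] B X
  haveI : HenselianRing B (Ideal.span {tB}) := Elkik5.henselian_span hB
  letI : Algebra (Localization.Away tB) (LaurentSeries R) := χ.toAlgebra
  have hX : ψ tB = PowerSeries.X := by
    show ψ (algebraMap R[X] B X) = _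
    rw [ψ.commutes, PowerSeries.algebraMap_apply', Algebra.algebraMap_self, PowerSeries.map_id, id]
    exact Polynomial.coe_X
  have hψ : ∀ p : R[X], ψ (algebraMap R[X] B p) = (p : PowerSeries R) := fun p => by
    rw [ψ.commutes, PowerSeries.algebraMap_apply', Algebra.algebraMap_self, PowerSeries.map_id, id]
  haveI : IsLocalization.Away (ψ.toRingHom tB) (LaurentSeries R) := by
    rw [show ψ.toRingHom tB = PowerSeries.X from hX]
    exact LaurentSeries.of_powerSeries_localization
  haveI hc : IsAdicComplete (Ideal.span {(PowerSeries.X : PowerSeries R)}) (PowerSeries R) := by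
    have := CAlgH.isAdicComplete_mvPowerSeries Unit R
    rwa [Set.range_unique] at this
  have hu : HenselianRing (PowerSeries R) (Ideal.span {ψ.toRingHom tB}) := by
    rw [show ψ.toRingHom tB = PowerSeries.X from hX]; infer_instance
  have hdense : ∀ (b' : PowerSeries R) (k : ℕ), ∃ b : B, ψ.toRingHom tB ^ k ∣ b' - ψ.toRingHom b := fun f k =>
    ⟨algebraMap R[X] B (f.trunc k), by
      show ψ tB ^ k ∣ f - ψ (algebraMap R[X] B (f.trunc k))
      rw [hX, hψ]; exact Elkik5.trunc_dvd k f⟩
  have hdvd : ∀ (b : B) (k : ℕ), ψ.toRingHom tB ^ k ∣ ψ.toRingHom b → tB ^ k ∣ b := fun b k h => by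
    change ψ tB ^ k ∣ ψ b at h
    obtain ⟨x, hx⟩ := (HenselLib.IsPairHull.bijective_quotientMap (R := R[X])
      (I := Ideal.span {(X : R[X])}) (B := B) hB k).2 (Ideal.Quotient.mk _ b)
    obtain ⟨p, rfl⟩ := Ideal.Quotient.mk_surjective x
    rw [Ideal.quotientMap_mk, Ideal.Quotient.eq, Ideal.map_pow, Ideal.map_span, Set.image_singleton,
      Ideal.span_singleton_pow, Ideal.mem_span_singleton] at hx
    obtain ⟨c, hc⟩ := hx
    have h1 : (X : R[X]) ^ k ∣ p := by
      rw [Polynomial.X_pow_dvd_iff]
      intro d hd
      rw [hX] at h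
      have hp : (p : PowerSeries R) = ψ b + PowerSeries.X ^ k * ψ c := by
        rw [← hψ, ← hX, ← map_pow, ← map_mul, ← map_add]
        congr 1
        linear_combination hc
      have := PowerSeries.X_pow_dvd_iff.mp (hp ▸ dvd_add h (dvd_mul_right _ _) :
        (PowerSeries.X : PowerSeries R) ^ k ∣ (p : PowerSeries R)) d hd
      simpa using this
    have h2 := map_dvd (algebraMap R[X] B) h1
    rw [map_pow] at h2
    rw [show b = algebraMap R[X] B p - tB ^ k * c by linear_combination -hc]
    exact dvd_sub h2 (dvd_mul_right _ _)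
  have hbd : ∃ N : ℕ, ∀ a : PowerSeries R, (∃ m : ℕ, ψ.toRingHom tB ^ m * a = 0) →
      ψ.toRingHom tB ^ N * a = 0 := ⟨0, by
    rintro a ⟨m, hm⟩
    rw [show ψ.toRingHom tB = PowerSeries.X from hX] at hm
    rw [pow_zero, one_mul]
    ext d
    simpa [PowerSeries.coeff_X_pow_mul] using congrArg (PowerSeries.coeff (d + m)) hm⟩
  have hsep : ∀ a : PowerSeries R, (∀ k : ℕ, ψ.toRingHom tB ^ k ∣ a) → a = 0 := fun a ha => by
    ext d
    rw [map_zero]
    exact PowerSeries.X_pow_dvd_iff.mp
      (by simpa only [show ψ.toRingHom tB = PowerSeries.X from hX] using ha (d + 1)) d (Nat.lt_succ_self d)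
  have hD := Elkik5.dense_of_approx (L := Localization.Away tB) (Q := LaurentSeries R) ψ.toRingHom tB
    (algebraMap (Localization.Away tB) (LaurentSeries R)) hχ hdense hdvd hbd hsep
  exact Elkik5.FEtAffine.restrict_isEquivalence (L := Localization.Away tB) (Q := LaurentSeries R)
    (fun D C _ _ _ _ _ _ _ _ => hD.bijective_baseChange hu D C)
    (fun C _ _ _ _ => hD.exists_etale_descent hu C)

end Groth.Agent.S15763
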