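import Groth.Statements.S15765
-- import your own Groth.Agent.* helpers here

set_option autoImplicit false
universe u
open CategoryTheory AlgebraicGeometry
open CAlg

namespace Groth.Agent.S15765

/-- Let B be a topological ring in which the units form an open subset, B₀ → B a ring map with dense
image and X a quasi-affine scheme over B₀. Then the image of any B-point Spec B → X over B₀ is
contained in an affine open of X. (The published statement allows X ind-quasi-affine, i.e. with all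
quasi-compact opens quasi-affine; since a B-point lands in a quasi-compact open, this row's
quasi-affine case carries the content.) -/
theorem result (B : Type u) [CommRing B] [TopologicalSpace B]
    [IsTopologicalRing B] (hB : IsOpen {b : B | IsUnit b})
    (B₀ : Type u) [CommRing B₀] (φ : B₀ →+* B) (hφ : DenseRange φ)
    (X : Scheme.{u}) [X.IsQuasiAffine] (p : X ⟶ Spec (CommRingCat.of B₀))
    (f : Spec (CommRingCat.of B) ⟶ X) (hf : f ≫ p = Spec.map (CommRingCat.ofHom φ)) :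
    ∃ U : X.Opens, IsAffineOpen U ∧ Set.range f.base ⊆ (U : Set X) := by
  classical
  let τ := X.toSpecΓ
  let S : Set Γ(X, ⊤) := {r | PrimeSpectrum.basicOpen (R := Γ(X, ⊤)) r ≤ τ.opensRange}
  let ev : Γ(X, ⊤) →+* B := (f.appTop ≫ (Scheme.ΓSpecIso (CommRingCat.of B)).hom).hom
  let ψ : B₀ →+* Γ(X, ⊤) := ((Scheme.ΓSpecIso (CommRingCat.of B₀)).inv ≫ p.appTop).hom
  have hψ : ∀ a, ev (ψ a) = φ a := by
    intro a
    have h : ((Scheme.ΓSpecIso (CommRingCat.of B₀)).inv ≫ p.appTop) ≫ (f.appTop ≫ (Scheme.ΓSpecIso (CommRingCat.of B)).hom) =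
        CommRingCat.ofHom φ := by
      rw [Category.assoc, ← Category.assoc p.appTop, ← Scheme.Hom.comp_appTop, hf, Scheme.ΓSpecIso_naturality,
        Iso.inv_hom_id_assoc]
    exact congrArg (fun g => g.hom a) h
  have hmem : ∀ (r : Γ(X, ⊤)) (q : Spec (CommRingCat.of B)),
      f q ∈ X.basicOpen r ↔ ev r ∉ (q : PrimeSpectrum B).asIdeal := by
    intro r q
    show q ∈ f ⁻¹ᵁ X.basicOpen r ↔ _
    rw [Scheme.preimage_basicOpen_top, AlgebraicGeometry.basicOpen_eq_of_affine']
    rfl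
  have htop : Ideal.span (ev '' S) = ⊤ := by
    by_contra hne
    obtain ⟨m, hm, hle⟩ := Ideal.exists_le_maximal _ hne
    let q : Spec (CommRingCat.of B) := (⟨m, hm.isPrime⟩ : PrimeSpectrum B)
    obtain ⟨_, ⟨r, rfl⟩, hqr, hr⟩ := (PrimeSpectrum.isTopologicalBasis_basic_opens
      (R := Γ(X, ⊤))).exists_subset_of_mem_open (⟨f q, rfl⟩ : τ (f q) ∈ τ.opensRange) τ.opensRange.2
    have h1 : f q ∈ X.basicOpen r := (X.toSpecΓ_preimage_basicOpen r).le hqr
    exact (hmem r q).1 h1 (hle (Ideal.subset_span ⟨r, hr, rfl⟩))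
  obtain ⟨c, hc, hsum⟩ : ∃ c : Γ(X, ⊤) →₀ B, (↑c.support : Set Γ(X, ⊤)) ⊆ S ∧ (c.sum fun r b => b * ev r) = 1 := by
    have h1 : (1 : B) ∈ Submodule.span B (ev '' S) := htop.ge (Submodule.mem_top (x := (1 : B)))
    obtain ⟨c, hc, hcs⟩ := (Finsupp.mem_span_image_iff_linearCombination B).1 h1
    exact ⟨c, (Finsupp.mem_supported B c).1 hc, by simpa [Finsupp.linearCombination_apply] using hcs⟩
  -- perturb the coefficients into the dense subring
  let Φ : ({r // r ∈ c.support} → B) → B := fun b => ∑ r, b r * ev r.1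
  have hΦ : Continuous Φ := by fun_prop
  have h1 : Φ (fun r => c r.1) = 1 := by
    rw [← hsum, Finsupp.sum, ← Finset.sum_coe_sort c.support]
  obtain ⟨b₀, hb₀⟩ := (DenseRange.piMap (fun _ : {r // r ∈ c.support} => hφ)).exists_mem_open
    (hB.preimage hΦ) ⟨fun r => c r.1, by show IsUnit (Φ _); rw [h1]; exact isUnit_one⟩
  let s : Γ(X, ⊤) := ∑ r : {r // r ∈ c.support}, ψ (b₀ r) * r.1
  have hs : IsUnit (ev s) := by
    have : ev s = Φ (Pi.map (fun _ => φ) b₀) := by
      simp [s, Φ, map_sum, hψ, Pi.map]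
    rw [this]; exact hb₀
  have hle : PrimeSpectrum.basicOpen (R := Γ(X, ⊤)) s ≤ τ.opensRange := by
    intro P hP
    obtain ⟨r, hr⟩ : ∃ r : {r // r ∈ c.support}, r.1 ∉ P.asIdeal := by
      by_contra! hall
      exact hP (P.asIdeal.sum_mem fun r _ => Ideal.mul_mem_left _ _ (hall r))
    exact hc r.2 hr
  refine ⟨X.basicOpen s, ?_, ?_⟩
  · let D : (Spec Γ(X, ⊤)).Opens := PrimeSpectrum.basicOpen s
    have e : X.toSpecΓ ''ᵁ (X.toSpecΓ ⁻¹ᵁ D) = D :=
      (X.toSpecΓ.image_preimage_eq_opensRange_inf D).trans (inf_eq_right.2 hle)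
    rw [← X.toSpecΓ_preimage_basicOpen, ← Scheme.Hom.isAffineOpen_iff_of_isOpenImmersion X.toSpecΓ]
    show IsAffineOpen (X.toSpecΓ ''ᵁ (X.toSpecΓ ⁻¹ᵁ D))
    rw [e]
    exact IsAffineOpen.Spec_basicOpen s
  · rintro _ ⟨q, rfl⟩
    exact (hmem s q).2 fun h => (q : PrimeSpectrum B).2.ne_top (Ideal.eq_top_of_isUnit_mem _ h hs)

end Groth.Agent.S15765
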