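import Groth.Statements.S15766
import Groth.Agent.Tame5.Basic

set_option autoImplicit false
set_option linter.style.haveILetI false
universe u
open CategoryTheory CategoryTheory.Limits AlgebraicGeometry
open FEt

namespace Groth.Agent.S15766

/-- Let R be a strictly Henselian local ring with residue field k, let d > 0 be invertible in R, and let
X → Spec R((t)) be finite étale and split (a trivial finite cover) after base change along the
substitution t ↦ t^d. Then every k((t))-point of X over R((t)) comes from a unique R((t))-section of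
X; here ρ : R((t)) → k((t)) is the coefficientwise residue map, pinned on power series. (The
published statement is for a finite étale group scheme G of order invertible in R that becomes
constant over a finite étale cover of R((t)) tamely ramified relative to R, in the form H⁰(R((t)),
G) ≅ H⁰(k((t)), G); the covers t ↦ t^d with d invertible in R are cofinal among such tame covers,
and the group structure plays no role in the H⁰ statement, so this row states it for any finite
étale X split by such a cover.) -/
theorem result (R : Type u) [CommRing R]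
    [HenselianLocalRing R] [IsSepClosed (IsLocalRing.ResidueField R)]
    (d : ℕ) (hd : 0 < d) (hdu : IsUnit (d : R))
    (hinj : Function.Injective (AddMonoidHom.mulLeft (d : ℤ)))
    (hmono : ∀ g g' : ℤ, AddMonoidHom.mulLeft (d : ℤ) g ≤ AddMonoidHom.mulLeft (d : ℤ) g' ↔ g ≤ g')
    (ρ : LaurentSeries R →+* LaurentSeries (IsLocalRing.ResidueField R))
    (hρ : ρ.comp (HahnSeries.ofPowerSeries ℤ R) =
      (HahnSeries.ofPowerSeries ℤ (IsLocalRing.ResidueField R)).comp (PowerSeries.map (IsLocalRing.residue R)))
    (X : Scheme.{u}) (p : X ⟶ Spec (CommRingCat.of (LaurentSeries R))) [IsFinite p] [Etale p]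
    (hsplit : ∃ (n : ℕ) (e : pullback p (Spec.map (CommRingCat.ofHom
        (HahnSeries.embDomainRingHom (R := R) (AddMonoidHom.mulLeft (d : ℤ)) hinj hmono))) ≅
        (∐ fun _ : Fin n => Spec (CommRingCat.of (LaurentSeries R)))),
      e.hom ≫ Sigma.desc (fun _ : Fin n => 𝟙 (Spec (CommRingCat.of (LaurentSeries R)))) =
        pullback.snd p (Spec.map (CommRingCat.ofHom
          (HahnSeries.embDomainRingHom (R := R) (AddMonoidHom.mulLeft (d : ℤ)) hinj hmono)))) :
    (∀ s₁ s₂ : Spec (CommRingCat.of (LaurentSeries R)) ⟶ X,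
        s₁ ≫ p = 𝟙 _ → s₂ ≫ p = 𝟙 _ →
        Spec.map (CommRingCat.ofHom ρ) ≫ s₁ = Spec.map (CommRingCat.ofHom ρ) ≫ s₂ → s₁ = s₂) ∧
    (∀ s' : Spec (CommRingCat.of (LaurentSeries (IsLocalRing.ResidueField R))) ⟶ X,
        s' ≫ p = Spec.map (CommRingCat.ofHom ρ) →
        ∃ s : Spec (CommRingCat.of (LaurentSeries R)) ⟶ X, s ≫ p = 𝟙 _ ∧ Spec.map (CommRingCat.ofHom ρ) ≫ s = s') := by
  set k := IsLocalRing.ResidueField R
  haveI := Tame5.connectedSpace_laurent R
  haveI := Tame5.connectedSpace_laurent k
  let res := IsLocalRing.residue R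
  let mapL : LaurentSeries R →+* LaurentSeries k :=
    { toFun := fun x => x.map res
      map_one' := by ext g; by_cases h : g = 0 <;> simp [h, res]
      map_zero' := by ext g; simp
      map_add' := fun x y => by ext g; simp
      map_mul' := fun x y => HahnSeries.map_mul (res.toNonUnitalRingHom) }
  have hρc : ∀ (x : LaurentSeries R) (g : ℤ), (ρ x).coeff g = res (x.coeff g) := by
    have : ρ = mapL := by
      refine IsLocalization.ringHom_ext (Submonoid.powers (PowerSeries.X : PowerSeries R)) (hρ.trans ?_)
      refine RingHom.ext fun f => HahnSeries.ext (funext fun g => ?_)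
      show ((PowerSeries.map res f : PowerSeries k) : LaurentSeries k).coeff g =
        res (((f : PowerSeries R) : LaurentSeries R).coeff g)
      rw [PowerSeries.coeff_coe, PowerSeries.coeff_coe]
      split_ifs <;> simp
    intro x g
    rw [this]
    rfl
  let emb := HahnSeries.embDomainRingHom (R := R) (AddMonoidHom.mulLeft (d : ℤ)) hinj hmono
  let embk := HahnSeries.embDomainRingHom (R := k) (AddMonoidHom.mulLeft (d : ℤ)) hinj hmono
  have hcomm : ρ.comp emb = embk.comp ρ := by
    refine RingHom.ext fun x => HahnSeries.ext (funext fun g => ?_)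
    rw [RingHom.comp_apply, RingHom.comp_apply, hρc]
    by_cases hg : (d : ℤ) ∣ g
    · obtain ⟨c, rfl⟩ := hg
      rw [Tame5.coeff_emb, Tame5.coeff_emb, hρc]
    · rw [Tame5.coeff_emb_of_not_dvd hinj hmono _ hg, Tame5.coeff_emb_of_not_dvd hinj hmono _ hg, map_zero]
  obtain ⟨n, e, he⟩ := hsplit
  let g := Spec.map (CommRingCat.ofHom emb)
  let r := Spec.map (CommRingCat.ofHom ρ)
  let gk := Spec.map (CommRingCat.ofHom embk)
  have hrg : r ≫ g = gk ≫ r := by
    simp only [r, g, gk, ← Spec.map_comp, ← CommRingCat.ofHom_comp, hcomm]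
  haveI : IsAffine X := isAffine_of_isAffineHom p
  let f : CommRingCat.of (LaurentSeries R) ⟶ Γ(X, ⊤) := Spec.preimage (X.isoSpec.inv ≫ p)
  have hf : Spec.map f = X.isoSpec.inv ≫ p := Spec.map_preimage _
  -- points are ring maps
  have hpt : ∀ {A : Type u} [CommRing A] (s : Spec (CommRingCat.of A) ⟶ X),
      ∃ φ : Γ(X, ⊤) →+* A, s = Spec.map (CommRingCat.ofHom φ) ≫ X.isoSpec.inv := fun s =>
    ⟨(Spec.preimage (s ≫ X.isoSpec.hom)).hom, by
      rw [CommRingCat.ofHom_hom, Spec.map_preimage, Category.assoc, Iso.hom_inv_id, Category.comp_id]⟩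
  have hptp : ∀ {A : Type u} [CommRing A] (φ : Γ(X, ⊤) →+* A) (b : LaurentSeries R →+* A),
      (Spec.map (CommRingCat.ofHom φ) ≫ X.isoSpec.inv) ≫ p = Spec.map (CommRingCat.ofHom b) ↔
        φ.comp f.hom = b := by
    intro A _ φ b
    rw [Category.assoc, ← hf, ← Spec.map_comp]
    exact ⟨fun h => congrArg CommRingCat.Hom.hom (Spec.map_injective h),
      fun h => congrArg Spec.map (CommRingCat.hom_ext h)⟩
  have hcancel : ∀ {A B : Type u} [CommRing A] [CommRing B] (q : A →+* B), Function.Injective q →
      ∀ s s' : Spec (CommRingCat.of A) ⟶ X,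
      Spec.map (CommRingCat.ofHom q) ≫ s = Spec.map (CommRingCat.ofHom q) ≫ s' → s = s' := by
    intro A B _ _ q hq s s' h
    obtain ⟨φ, rfl⟩ := hpt s
    obtain ⟨φ', rfl⟩ := hpt s'
    rw [← Category.assoc, ← Category.assoc, cancel_mono, ← Spec.map_comp, ← Spec.map_comp] at h
    have h' : q.comp φ = q.comp φ' := congrArg CommRingCat.Hom.hom (Spec.map_injective h)
    have : φ = φ' := RingHom.ext fun c => hq (RingHom.congr_fun h' c)
    rw [this]
  refine ⟨fun s₁ s₂ h₁ h₂ h => ?_, fun s' hs' => ?_⟩
  · obtain ⟨x, -, hx⟩ := Tame5.existsUnique_lift p g e he r (r ≫ g ≫ s₁)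
      (by rw [Category.assoc, Category.assoc, h₁, Category.comp_id])
    refine hcancel emb (Tame5.emb_injective hinj hmono) s₁ s₂ ?_
    refine (hx _ ⟨by rw [Category.assoc, h₁, Category.comp_id], rfl⟩).trans
      (hx _ ⟨by rw [Category.assoc, h₂, Category.comp_id], ?_⟩).symm
    rw [reassoc_of% hrg, reassoc_of% hrg]
    exact congrArg (gk ≫ ·) h.symm
  · obtain ⟨x, ⟨hxp, hxy⟩, huniq⟩ := Tame5.existsUnique_lift p g e he r (gk ≫ s')
      (by rw [Category.assoc, hs']; exact hrg.symm)
    obtain ⟨φ, rfl⟩ := hpt x
    have hφ : φ.comp f.hom = emb := (hptp φ emb).mp hxp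
    obtain ⟨z, hz, hzu⟩ := Tame5.exists_zeta R hd hdu
    let zk : kˣ := Units.map res.toMonoidHom z
    have hzk : zk ^ d = 1 := by simp only [zk, ← map_pow, hz, map_one]
    have htw : (Tame5.twist z).comp φ = φ := by
      have h1 : Spec.map (CommRingCat.ofHom ((Tame5.twist z).comp φ)) ≫ X.isoSpec.inv =
          Spec.map (CommRingCat.ofHom φ) ≫ X.isoSpec.inv := by
        refine huniq _ ⟨(hptp _ _).mpr ?_, ?_⟩
        · rw [RingHom.comp_assoc, hφ]
          exact Tame5.twist_emb hinj hmono z hz
        · have h2 : ρ.comp (Tame5.twist z) = (Tame5.twist zk).comp ρ := by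
            refine RingHom.ext fun y => HahnSeries.ext (funext fun i => ?_)
            rw [RingHom.comp_apply, RingHom.comp_apply, hρc, Tame5.coeff_twist, Tame5.coeff_twist,
              map_mul, hρc]
            congr 1
            rw [← map_zpow]; rfl
          calc r ≫ Spec.map (CommRingCat.ofHom ((Tame5.twist z).comp φ)) ≫ X.isoSpec.inv
              = Spec.map (CommRingCat.ofHom (Tame5.twist zk)) ≫ r ≫
                  Spec.map (CommRingCat.ofHom φ) ≫ X.isoSpec.inv := by
                simp only [r, ← Spec.map_comp_assoc, ← CommRingCat.ofHom_comp]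
                rw [← RingHom.comp_assoc, h2, RingHom.comp_assoc]
            _ = Spec.map (CommRingCat.ofHom (Tame5.twist zk)) ≫ gk ≫ s' := by rw [hxy]
            _ = gk ≫ s' := by
                simp only [gk, ← Spec.map_comp_assoc, ← CommRingCat.ofHom_comp, embk,
                  Tame5.twist_emb hinj hmono zk hzk]
      exact congrArg CommRingCat.Hom.hom (Spec.map_injective ((cancel_mono _).mp h1))
    have hrange : ∀ c, ∃ y, emb y = φ c := fun c => Tame5.mem_range_emb hinj hmono hd fun i hi => by
      have h3 : ((z ^ i : Rˣ) : R) * (φ c).coeff i = (φ c).coeff i :=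
        congrArg (fun w => HahnSeries.coeff w i) (RingHom.congr_fun htw c)
      exact (hzu i hi).mul_right_eq_zero.mp (by rw [sub_mul, one_mul, h3, sub_self])
    choose ψ hψ using hrange
    have hinjE : Function.Injective emb := Tame5.emb_injective hinj hmono
    let ψh : Γ(X, ⊤) →+* LaurentSeries R :=
      { toFun := ψ
        map_one' := hinjE (by rw [hψ, map_one, map_one])
        map_zero' := hinjE (by rw [hψ, map_zero, map_zero])
        map_add' := fun a b => hinjE (by rw [map_add, hψ, hψ, hψ, map_add])
        map_mul' := fun a b => hinjE (by rw [map_mul, hψ, hψ, hψ, map_mul]) }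
    have hψh : emb.comp ψh = φ := RingHom.ext hψ
    refine ⟨Spec.map (CommRingCat.ofHom ψh) ≫ X.isoSpec.inv, ?_, ?_⟩
    · rw [← Spec.map_id]
      refine (hptp ψh (RingHom.id _)).mpr (RingHom.ext fun a => hinjE ?_)
      exact (hψ _).trans (RingHom.congr_fun hφ a)
    · refine hcancel embk (Tame5.emb_injective hinj hmono) _ _ ?_
      rw [show Spec.map (CommRingCat.ofHom embk) ≫ s' = gk ≫ s' from rfl, ← hxy, ← hψh,
        CommRingCat.ofHom_comp, Spec.map_comp_assoc, ← reassoc_of% hrg]

end Groth.Agent.S15766
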