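import Groth.Statements.S15768
import Mathlib
import Groth.Agent.CommAlg4.ApproxIdem
import Groth.Agent.HenselLib.PairQuot

set_option linter.all false

set_option autoImplicit false
universe u
open Polynomial
open CAlg

open Polynomial

namespace Groth.Agent.S15768

/-- coefficientwise map of Laurent series -/
noncomputable def mapLaurent {R S : Type u} [CommRing R] [CommRing S] (f : R →+* S) :
    LaurentSeries R →+* LaurentSeries S where
  toFun x := x.map f
  map_zero' := HahnSeries.ext (funext fun k => by simp)
  map_add' x y := HahnSeries.ext (funext fun k => by simp)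
  map_one' := HahnSeries.ext (funext fun k => by simp [HahnSeries.coeff_one, apply_ite f])
  map_mul' x y := HahnSeries.map_mul (f : R →ₙ+* S)

theorem coeff_mapLaurent {R S : Type u} [CommRing R] [CommRing S] (f : R →+* S)
    (x : LaurentSeries R) (k : ℤ) : (mapLaurent f x).coeff k = f (x.coeff k) := rfl

/-- Idempotent Laurent series are constant. -/
theorem exists_C_of_isIdempotentElem {R : Type u} [CommRing R] (e : LaurentSeries R)
    (he : IsIdempotentElem e) : ∃ r : R, IsIdempotentElem r ∧ e = HahnSeries.C r := by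
  classical
  have h1 : ∀ k : ℤ, k ≠ 0 → IsNilpotent (e.coeff k) := fun k hk => by
    rw [nilpotent_iff_mem_prime]
    intro p hp
    rw [← Ideal.Quotient.eq_zero_iff_mem, ← coeff_mapLaurent]
    rcases IsIdempotentElem.iff_eq_zero_or_one.mp (he.map (mapLaurent (Ideal.Quotient.mk p))) with h | h
    · rw [h]; rfl
    · rw [h, HahnSeries.coeff_one, if_neg hk]
  let q := Ideal.Quotient.mk (nilradical R)
  have h2 : mapLaurent q e = HahnSeries.C (q (e.coeff 0)) := by
    refine HahnSeries.ext (funext fun k => ?_)
    rw [coeff_mapLaurent, HahnSeries.C_apply, HahnSeries.coeff_single]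
    split_ifs with h
    · rw [h]
    · exact Ideal.Quotient.eq_zero_iff_mem.mpr (h1 k h)
  have h3 : IsIdempotentElem (q (e.coeff 0)) := by
    have := he.map (mapLaurent q)
    rw [h2, IsIdempotentElem, ← map_mul] at this
    exact HahnSeries.C_injective this
  obtain ⟨r, hr, hr'⟩ := exists_isIdempotentElem_eq_of_ker_isNilpotent q
    (fun x hx => Ideal.Quotient.eq_zero_iff_mem.mp hx) _ ⟨_, rfl⟩ h3
  set d := e - HahnSeries.C r with hd
  have hd3 : d ^ 3 = d := by
    have e1 : e * e = e := he
    have e2 : (HahnSeries.C r : LaurentSeries R) * HahnSeries.C r = HahnSeries.C r := by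
      rw [← map_mul, hr.eq]
    rw [hd]
    linear_combination (e + 1 - 3 * HahnSeries.C r) * e1 + (3 * e - HahnSeries.C r - 1) * e2
  have hdn : ∀ k, IsNilpotent (d.coeff k) := fun k => by
    rw [hd, HahnSeries.coeff_sub, HahnSeries.C_apply, HahnSeries.coeff_single]
    split_ifs with h
    · rw [h]; exact Ideal.Quotient.eq.mp hr'.symm
    · rw [sub_zero]; exact h1 k h
  let J : Ideal R := Ideal.span ((Finset.Icc d.order (-1)).image d.coeff : Finset R)
  have hJ : IsNilpotent J := by
    refine (Ideal.FG.isNilpotent_iff_le_nilradical ⟨_, rfl⟩).mpr (Ideal.span_le.mpr ?_)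
    intro x hx
    obtain ⟨k, -, rfl⟩ := Finset.mem_image.mp (Finset.mem_coe.mp hx)
    exact hdn k
  let qJ := Ideal.Quotient.mk J
  have h4 : mapLaurent qJ d = 0 := by
    set g : PowerSeries (R ⧸ J) := PowerSeries.mk fun n => qJ (d.coeff n)
    have hg : HahnSeries.ofPowerSeries ℤ (R ⧸ J) g = mapLaurent qJ d := by
      refine HahnSeries.ext (funext fun k => ?_)
      rw [coeff_mapLaurent]
      rcases le_or_gt 0 k with hk | hk
      · obtain ⟨n, rfl⟩ := Int.eq_ofNat_of_zero_le hk
        rw [HahnSeries.ofPowerSeries_apply_coeff, PowerSeries.coeff_mk]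
      · rw [HahnSeries.ofPowerSeries_apply, HahnSeries.embDomain_of_notMem_range ?_]
        · symm
          by_cases h : k < d.order
          · rw [HahnSeries.coeff_eq_zero_of_lt_order h, map_zero]
          · exact Ideal.Quotient.eq_zero_iff_mem.mpr (Ideal.subset_span (Finset.mem_coe.mpr
              (Finset.mem_image.mpr ⟨k, Finset.mem_Icc.mpr ⟨by lia, by lia⟩, rfl⟩)))
        · rintro ⟨n, hn⟩
          simp at hn
          lia
    have hg3 : g ^ 3 = g := HahnSeries.ofPowerSeries_injective (Γ := ℤ) (by
      rw [map_pow, hg, ← map_pow, hd3])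
    have hu : IsUnit (1 - g ^ 2) := by
      rw [PowerSeries.isUnit_iff_constantCoeff, map_sub, map_one, map_pow,
        ← PowerSeries.coeff_zero_eq_constantCoeff_apply, PowerSeries.coeff_mk]
      exact (((hdn 0).map qJ).pow_of_pos (by norm_num)).isUnit_one_sub
    have hg0 : g = 0 := hu.mul_left_cancel (by rw [mul_zero]; linear_combination -hg3)
    rw [← hg, hg0, map_zero]
  have h5 : ∀ n : ℕ, 1 ≤ n → ∀ k, (d ^ n).coeff k ∈ J ^ n := by
    intro n hn
    induction n, hn using Nat.le_induction with
    | base =>
      intro k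
      rw [pow_one, pow_one, ← Ideal.Quotient.eq_zero_iff_mem, ← coeff_mapLaurent, h4]
      rfl
    | succ n _ ih =>
      intro k
      rw [pow_succ, pow_succ, HahnSeries.coeff_mul]
      refine Ideal.sum_mem _ fun ij _ => Ideal.mul_mem_mul (ih _) ?_
      rw [← Ideal.Quotient.eq_zero_iff_mem, ← coeff_mapLaurent, h4]
      rfl
  obtain ⟨N, hN⟩ := hJ
  have h6 : ∀ j : ℕ, d ^ (3 ^ j) = d := fun j => by
    induction j with
    | zero => rw [pow_zero, pow_one]
    | succ j ih => rw [pow_succ, pow_mul, ih, hd3]
  refine ⟨r, hr, sub_eq_zero.mp (HahnSeries.ext (funext fun k => ?_))⟩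
  rw [← hd, ← h6 N]
  have := h5 (3 ^ N) (Nat.one_le_pow _ _ (by norm_num)) k
  rw [← Nat.sub_add_cancel (Nat.lt_pow_self (show 1 < 3 by norm_num) (n := N)).le, pow_add, hN] at this
  simpa [Nat.sub_add_cancel (Nat.lt_pow_self (show 1 < 3 by norm_num) (n := N)).le] using this

/-- For any ring R and a henselization B of R[t] along (t), every idempotent of B[1/t] comes from a
unique idempotent of R under R → R[t] → B → B[1/t]. -/
theorem result (R : Type u) [CommRing R]
    (B : Type u) [CommRing B] [Algebra R[X] B] (hB : Hens2.IsPairHenselization R[X] (Ideal.span {(X : R[X])}) B)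
    (e : Localization.Away (algebraMap R[X] B X)) (he : IsIdempotentElem e) :
    ∃! r : R, IsIdempotentElem r ∧
      algebraMap B (Localization.Away (algebraMap R[X] B X)) (algebraMap R[X] B (Polynomial.C r)) = e := by
  classical
  have hmap : (Ideal.span {(X : R[X])}).map (algebraMap R[X] B) = Ideal.span {algebraMap R[X] B X} := by
    rw [Ideal.map_span, Set.image_singleton]
  have hH : HenselianRing B (Ideal.span {algebraMap R[X] B X}) := hmap ▸ hB.1
  obtain ⟨ψ, hψ, -⟩ := hB.2 (PowerSeries R) (Ideal.span {(PowerSeries.X : PowerSeries R)})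
    (Polynomial.coeToPowerSeries.ringHom) inferInstance (by
      rw [Ideal.map_span, Set.image_singleton]
      simp)
  have hψp : ∀ p : R[X], ψ (algebraMap R[X] B p) = (p : PowerSeries R) := fun p =>
    RingHom.congr_fun hψ p
  have hψX : ψ (algebraMap R[X] B X) = PowerSeries.X := (hψp X).trans Polynomial.coe_X
  let ι' := algebraMap (PowerSeries R) (LaurentSeries R)
  have hu : IsUnit ((ι'.comp ψ) (algebraMap R[X] B X)) := by
    rw [RingHom.comp_apply, hψX]
    exact IsLocalization.map_units (LaurentSeries R)
      (⟨PowerSeries.X, Submonoid.mem_powers _⟩ : Submonoid.powers (PowerSeries.X : PowerSeries R))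
  let φ : Localization.Away (algebraMap R[X] B X) →+* LaurentSeries R :=
    IsLocalization.Away.lift (algebraMap R[X] B X) hu
  have hφ : ∀ b, φ (algebraMap B (Localization.Away (algebraMap R[X] B X)) b) = ι' (ψ b) := fun b =>
    IsLocalization.Away.lift_eq (algebraMap R[X] B X) hu b
  -- kernel: no non-zero idempotent differences
  have key : ∀ a b : Localization.Away (algebraMap R[X] B X), a * a = a → b * b = b →
      φ a = φ b → a = b := by
    intro a b ha hb hab
    obtain ⟨n, c, hc⟩ := IsLocalization.Away.surj (algebraMap R[X] B X) (a - b)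
    have h1 : ψ c = 0 := by
      apply HahnSeries.ofPowerSeries_injective (Γ := ℤ)
      rw [map_zero]
      show ι' (ψ c) = 0
      rw [← hφ, ← hc, map_mul, map_sub, hab, sub_self, zero_mul]
    obtain ⟨x, hx⟩ := (Groth.Agent.HenselLib.IsPairHull.bijective_quotientMap hB (n + 1)).2
      (Ideal.Quotient.mk _ c)
    obtain ⟨f, rfl⟩ := Ideal.Quotient.mk_surjective x
    rw [Ideal.quotientMap_mk, Ideal.Quotient.eq, Ideal.map_pow, hmap, Ideal.span_singleton_pow,
      Ideal.mem_span_singleton] at hx
    obtain ⟨g, hg⟩ := hx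
    obtain ⟨f', rfl⟩ : (X : R[X]) ^ (n + 1) ∣ f := by
      rw [Polynomial.X_pow_dvd_iff]
      intro i hi
      have h2 := congrArg ψ hg
      rw [map_sub, h1, sub_zero, hψp, map_mul, map_pow, hψX] at h2
      have := PowerSeries.X_pow_dvd_iff.mp ⟨ψ g, h2⟩ i hi
      simpa using this
    set t' := algebraMap B (Localization.Away (algebraMap R[X] B X)) (algebraMap R[X] B X) with ht'
    set z := algebraMap B (Localization.Away (algebraMap R[X] B X)) (algebraMap R[X] B f' - g) with hz
    have hab' : a - b = t' * z := by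
      refine ((IsLocalization.Away.algebraMap_isUnit (S := Localization.Away (algebraMap R[X] B X))
        (algebraMap R[X] B X)).pow n).mul_right_cancel ?_
      rw [hc, ← ht', hz, mul_right_comm, ← pow_succ', ht', ← map_pow, ← map_mul]
      congr 1
      rw [map_mul, map_pow] at hg
      linear_combination -hg
    have h3 : (a - b) * (1 - (a - b) ^ 2) = 0 := by
      linear_combination -(a + 1 - 3 * b) * ha - (3 * a - b - 1) * hb
    have h4 : IsUnit (1 - (a - b) ^ 2) := by
      rw [hab', hz, ht', ← map_mul, ← map_pow, ← map_one (algebraMap B (Localization.Away (algebraMap R[X] B X))),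
        ← map_sub]
      refine RingHom.isUnit_map _ ?_
      have := Ideal.mem_jacobson_bot.mp (hH.jac (Ideal.mem_span_singleton_self (algebraMap R[X] B X)))
        (-(algebraMap R[X] B X * (algebraMap R[X] B f' - g) ^ 2))
      convert this using 1
      ring
    exact sub_eq_zero.mp (h4.mul_left_eq_zero.mp h3)
  obtain ⟨r, hr, hre⟩ := exists_C_of_isIdempotentElem (φ e) (he.map φ)
  have hCr : ∀ s : R, φ (algebraMap B (Localization.Away (algebraMap R[X] B X))
      (algebraMap R[X] B (Polynomial.C s))) = HahnSeries.C s := fun s => by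
    rw [hφ, hψp, Polynomial.coe_C]
    exact HahnSeries.ofPowerSeries_C s
  refine ⟨r, ⟨hr, key _ e (by rw [← map_mul, ← map_mul, ← map_mul, hr.eq]) he.eq
    (by rw [hCr, hre])⟩, ?_⟩
  rintro s ⟨-, hs⟩
  apply HahnSeries.C_injective (Γ := ℤ)
  rw [← hre, ← hs, hCr]

end Groth.Agent.S15768
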