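import Groth.Statements.S15769
import Groth.Agent.BLTorsor.QuasiAffine
-- import your own Groth.Agent.* helpers here

set_option autoImplicit false
universe u
open CategoryTheory AlgebraicGeometry
open CAlg

namespace Groth.Agent.S15769

/-- Case of a quasi-affine X over U = Spec A: let φ : A → A' and t ∈ A be such that A/t^m → A'/t^m is
bijective for every m and φ restricts to a bijection between the t-power-torsion submodules; let X
be a quasi-affine scheme over Spec A. Then sections of X over Spec A correspond bijectively to pairs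
of an A'-point and an A[1/t]-point of X over A that agree over A'[1/t]. (The published statement
allows a flat A-scheme U as base and X either ind-quasi-affine or subprojective over U; this row is
U = Spec A with X quasi-affine.) -/
theorem result (A A' : Type u) [CommRing A] [CommRing A']
    (φ : A →+* A') (t : A)
    (hq : ∀ m : ℕ, Function.Bijective (Ideal.quotientMap (Ideal.map φ (Ideal.span {t} ^ m)) φ Ideal.le_comap_map))
    (htor : ∀ a' : A', (∃ m : ℕ, φ t ^ m * a' = 0) → ∃! a : A, (∃ m : ℕ, t ^ m * a = 0) ∧ φ a = a')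
    (X : Scheme.{u}) [X.IsQuasiAffine] (p : X ⟶ Spec (CommRingCat.of A)) :
    (∀ s₁ s₂ : Spec (CommRingCat.of A) ⟶ X, s₁ ≫ p = 𝟙 _ → s₂ ≫ p = 𝟙 _ →
        Spec.map (CommRingCat.ofHom φ) ≫ s₁ = Spec.map (CommRingCat.ofHom φ) ≫ s₂ →
        Spec.map (CommRingCat.ofHom (algebraMap A (Localization.Away t))) ≫ s₁ =
          Spec.map (CommRingCat.ofHom (algebraMap A (Localization.Away t))) ≫ s₂ →
        s₁ = s₂) ∧
    (∀ (x' : Spec (CommRingCat.of A') ⟶ X) (xt : Spec (CommRingCat.of (Localization.Away t)) ⟶ X),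
        x' ≫ p = Spec.map (CommRingCat.ofHom φ) →
        xt ≫ p = Spec.map (CommRingCat.ofHom (algebraMap A (Localization.Away t))) →
        Spec.map (CommRingCat.ofHom (algebraMap A' (Localization.Away (φ t)))) ≫ x' =
          Spec.map (CommRingCat.ofHom (Localization.awayMap φ t)) ≫ xt →
        ∃ s : Spec (CommRingCat.of A) ⟶ X, s ≫ p = 𝟙 _ ∧
          Spec.map (CommRingCat.ofHom φ) ≫ s = x' ∧
          Spec.map (CommRingCat.ofHom (algebraMap A (Localization.Away t))) ≫ s = xt) := by
  classical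
  algebraize [φ]
  have h : EtGlue.IsGlueingPair A A' t := Groth.Agent.BLTorsor.glueingPair_of_hyps hq htor
  obtain ⟨-, hinj, hglue, -⟩ := h
  -- a ring map into `A` is determined by its composites to `A'` and `A_t`
  have hext : ∀ {Γ₀ : CommRingCat.{u}} (g₁ g₂ : Γ₀ ⟶ CommRingCat.of A),
      g₁ ≫ CommRingCat.ofHom φ = g₂ ≫ CommRingCat.ofHom φ →
      g₁ ≫ CommRingCat.ofHom (algebraMap A (Localization.Away t)) =
        g₂ ≫ CommRingCat.ofHom (algebraMap A (Localization.Away t)) → g₁ = g₂ := by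
    intro Γ₀ g₁ g₂ h1 h2
    refine CommRingCat.hom_ext (RingHom.ext fun x => hinj (Prod.ext ?_ ?_))
    · exact congrArg (fun g : Γ₀ ⟶ CommRingCat.of A' => g.hom x) h1
    · exact congrArg (fun g : Γ₀ ⟶ CommRingCat.of (Localization.Away t) => g.hom x) h2
  have huniq : ∀ {Γ₀ : CommRingCat.{u}} (u₁ u₂ : Spec (CommRingCat.of A) ⟶ Spec Γ₀),
      Spec.map (CommRingCat.ofHom φ) ≫ u₁ = Spec.map (CommRingCat.ofHom φ) ≫ u₂ →
      Spec.map (CommRingCat.ofHom (algebraMap A (Localization.Away t))) ≫ u₁ =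
        Spec.map (CommRingCat.ofHom (algebraMap A (Localization.Away t))) ≫ u₂ → u₁ = u₂ := by
    intro Γ₀ u₁ u₂ h1 h2
    rw [← Spec.map_preimage u₁, ← Spec.map_preimage u₂, ← Spec.map_comp, ← Spec.map_comp] at h1 h2
    rw [← Spec.map_preimage u₁, ← Spec.map_preimage u₂,
      hext _ _ (Spec.map_injective h1) (Spec.map_injective h2)]
  refine ⟨fun s₁ s₂ _ _ h1 h2 => ?_, fun x' xt hx' hxt hcompat => ?_⟩
  · rw [← cancel_mono X.toSpecΓ]
    exact huniq _ _ (by rw [reassoc_of% h1]) (by rw [reassoc_of% h2])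
  let τ := X.toSpecΓ
  let g' := Spec.preimage (x' ≫ τ)
  let gt := Spec.preimage (xt ≫ τ)
  have hg : g' ≫ CommRingCat.ofHom (algebraMap A' (Localization.Away (φ t))) =
      gt ≫ CommRingCat.ofHom (Localization.awayMap φ t) := by
    refine Spec.map_injective ?_
    rw [Spec.map_comp, Spec.map_comp, Spec.map_preimage, Spec.map_preimage, ← Category.assoc,
      ← Category.assoc, hcompat]
  have hgl : ∀ x : Γ(X, ⊤), ∃ r : A, φ r = g'.hom x ∧
      algebraMap A (Localization.Away t) r = gt.hom x := fun x =>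
    hglue (g'.hom x) (gt.hom x) (congrArg (fun g : Γ(X, ⊤) ⟶ CommRingCat.of (Localization.Away (φ t)) => g.hom x) hg)
  choose γ hγ1 hγ2 using hgl
  have hγ : ∀ {a b : A}, φ a = φ b → algebraMap A (Localization.Away t) a = algebraMap A (Localization.Away t) b →
      a = b := fun h1 h2 => hinj (Prod.ext h1 h2)
  let G : Γ(X, ⊤) →+* A :=
    { toFun := γ
      map_one' := hγ (by rw [hγ1, map_one, map_one]) (by rw [hγ2, map_one, map_one])
      map_mul' := fun a b => hγ (by rw [map_mul, hγ1, hγ1, hγ1, map_mul])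
        (by rw [map_mul, hγ2, hγ2, hγ2, map_mul])
      map_zero' := hγ (by rw [hγ1, map_zero, map_zero]) (by rw [hγ2, map_zero, map_zero])
      map_add' := fun a b => hγ (by rw [map_add, hγ1, hγ1, hγ1, map_add])
        (by rw [map_add, hγ2, hγ2, hγ2, map_add]) }
  let c : Spec (CommRingCat.of A) ⟶ Spec Γ(X, ⊤) := Spec.map (CommRingCat.ofHom G)
  have hc1 : Spec.map (CommRingCat.ofHom φ) ≫ c = x' ≫ τ := by
    rw [← Spec.map_preimage (x' ≫ τ), ← Spec.map_comp]
    exact congrArg Spec.map (CommRingCat.hom_ext (RingHom.ext hγ1))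
  have hc2 : Spec.map (CommRingCat.ofHom (algebraMap A (Localization.Away t))) ≫ c = xt ≫ τ := by
    rw [← Spec.map_preimage (xt ≫ τ), ← Spec.map_comp]
    exact congrArg Spec.map (CommRingCat.hom_ext (RingHom.ext hγ2))
  have hran : Set.range c ⊆ Set.range τ := by
    rintro _ ⟨P, rfl⟩
    rcases Groth.Agent.BLTorsor.exists_over (Groth.Agent.BLTorsor.glueingPair_of_hyps hq htor) P with
      ⟨s, hs⟩ | ⟨s, hs⟩
    · let s' : Spec (CommRingCat.of (Localization.Away t)) := s
      exact ⟨xt s', ((congrArg (fun m : Spec (CommRingCat.of (Localization.Away t)) ⟶ Spec Γ(X, ⊤) =>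
        m.base s') hc2).symm.trans (congrArg c.base hs))⟩
    · let s' : Spec (CommRingCat.of A') := s
      exact ⟨x' s', ((congrArg (fun m : Spec (CommRingCat.of A') ⟶ Spec Γ(X, ⊤) =>
        m.base s') hc1).symm.trans (congrArg c.base hs))⟩
  let s := IsOpenImmersion.lift τ c hran
  have hs : s ≫ τ = c := IsOpenImmersion.lift_fac _ _ _
  have hs1 : Spec.map (CommRingCat.ofHom φ) ≫ s = x' := by
    rw [← cancel_mono τ, Category.assoc, hs, hc1]
  have hs2 : Spec.map (CommRingCat.ofHom (algebraMap A (Localization.Away t))) ≫ s = xt := by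
    rw [← cancel_mono τ, Category.assoc, hs, hc2]
  refine ⟨s, huniq _ _ ?_ ?_, hs1, hs2⟩
  · rw [reassoc_of% hs1, hx', Category.comp_id]
  · rw [reassoc_of% hs2, hxt, Category.comp_id]

end Groth.Agent.S15769
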