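import Groth.Statements.S15770
import Mathlib.Algebra.Module.StablyFree.Basic
import Mathlib.Algebra.Order.Ring.Star
import Mathlib.Data.Int.ConditionallyCompleteOrder
import Mathlib.Order.CompletePartialOrder
import Mathlib.RingTheory.Flat.TorsionFree
import Mathlib.RingTheory.LaurentSeries
import Mathlib.RingTheory.LocalRing.Pullback
import Mathlib.RingTheory.SimpleRing.Principal
import Mathlib.RingTheory.TotallySplit
import Mathlib.Topology.Algebra.Module.ModuleTopology
import Mathlib.Topology.Instances.Matrix
import Mathlib.Tactic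

set_option linter.all false

set_option autoImplicit false
universe u
open CAlg


namespace Groth.Agent.S15770

/-- Let B be a topological ring with Bˣ ⊂ B open and M, M' finitely generated projective B-modules, and
endow Hom_B(M, M') with the module topology (the canonical topology of a finite module). Then the
set of surjective B-linear maps M → M' is open. -/
theorem result (B : Type u) [CommRing B] [TopologicalSpace B]
    [IsTopologicalRing B] (hB : IsOpen {b : B | IsUnit b})
    (M M' : Type u) [AddCommGroup M] [Module B M] [Module.Finite B M] [Module.Projective B M]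
    [AddCommGroup M'] [Module B M'] [Module.Finite B M'] [Module.Projective B M']
    [TopologicalSpace (M →ₗ[B] M')] [IsModuleTopology B (M →ₗ[B] M')] :
    IsOpen {f : M →ₗ[B] M' | Function.Surjective f} := by
  classical
  rw [isOpen_iff_forall_mem_open]
  intro f₀ hf₀
  obtain ⟨s, hs⟩ := Module.projective_lifting_property f₀ LinearMap.id hf₀
  obtain ⟨n, p, hp⟩ := Module.Finite.exists_fin' B M'
  obtain ⟨i, hi⟩ := Module.projective_lifting_property p LinearMap.id hp
  have hpi : ∀ x, p (i x) = x := LinearMap.congr_fun hi
  let L : (M →ₗ[B] M') →ₗ[B] Matrix (Fin n) (Fin n) B :=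
    { toFun := fun f => LinearMap.toMatrix' (i ∘ₗ (f ∘ₗ s) ∘ₗ p)
      map_add' := fun f g => by rw [← map_add]; congr 1; simp [LinearMap.add_comp, LinearMap.comp_add]
      map_smul' := fun c f => by rw [RingHom.id_apply, ← map_smul]; congr 1; simp [LinearMap.smul_comp, LinearMap.comp_smul] }
  let K : Matrix (Fin n) (Fin n) B := 1 - LinearMap.toMatrix' (i ∘ₗ p)
  have hcont : Continuous fun f => (L f + K).det :=
    ((IsModuleTopology.continuous_of_linearMap L).add continuous_const).matrix_det
  refine ⟨(fun f => (L f + K).det) ⁻¹' {b | IsUnit b}, ?_, hB.preimage hcont, ?_⟩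
  · intro f hf y
    have hu : IsUnit (L f + K) := (Matrix.isUnit_iff_isUnit_det _).mpr hf
    obtain ⟨v, hv⟩ := hu.exists_right_inv.imp fun _ h => congrArg Matrix.toLin' h
    have h1 := congrArg p (LinearMap.congr_fun hv (i y))
    simp only [L, K, LinearMap.coe_mk, AddHom.coe_mk, Matrix.toLin'_mul, map_add, map_sub, Matrix.toLin'_one, Matrix.toLin'_toMatrix', LinearMap.comp_apply, LinearMap.add_apply, LinearMap.sub_apply, LinearMap.id_apply, hpi, sub_self, add_zero] at h1
    exact ⟨_, h1⟩
  · show IsUnit (L f₀ + K).det
    have : L f₀ = LinearMap.toMatrix' (i ∘ₗ p) := by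
      show LinearMap.toMatrix' (i ∘ₗ (f₀ ∘ₗ s) ∘ₗ p) = _
      rw [hs, LinearMap.id_comp]
    rw [this, add_sub_cancel, Matrix.det_one]
    exact isUnit_one

end Groth.Agent.S15770
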