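import Groth.Statements.S15774
import Mathlib.Algebra.Order.Ring.Star
import Mathlib.Data.Complex.Basic
import Mathlib.LinearAlgebra.Charpoly.Basic
import Mathlib.RingTheory.AdicCompletion.Completeness
import Mathlib.RingTheory.Henselian
import Mathlib.RingTheory.PicardGroup
import Mathlib.RingTheory.TotallySplit
import Mathlib.Tactic

set_option linter.all false

set_option autoImplicit false
universe u
open CAlg

open Polynomial
open Polynomial
open Polynomial

namespace Groth.Agent.S15774

/-- The instance A[1/t] → Â[1/t]: if (A, tA) is a Henselian pair and the t-power torsion of A is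
bounded, then every idempotent of Â[1/t] (Â the t-adic completion) comes from a unique idempotent of
A[1/t]. -/
theorem result (A : Type u) [CommRing A] (t : A) [HenselianRing A (Ideal.span {t})]
    (hbd : ∃ N : ℕ, ∀ a : A, (∃ m : ℕ, t ^ m * a = 0) → t ^ N * a = 0)
    (e : Localization.Away (algebraMap A (AdicCompletion (Ideal.span {t}) A) t)) (he : IsIdempotentElem e) :
    ∃! e₀ : Localization.Away t, IsIdempotentElem e₀ ∧ Localization.awayMap (algebraMap A (AdicCompletion (Ideal.span {t}) A)) t e₀ = e := by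
  classical
  let I : Ideal A := Ideal.span {t}
  let Ah := AdicCompletion I A
  let α : A →+* AdicCompletion (Ideal.span {t}) A := algebraMap A (AdicCompletion (Ideal.span {t}) A)
  let L := Localization.Away t
  let β := Localization.awayMap α t
  have hβ : ∀ x : A, β (algebraMap A L x) = algebraMap _ (Localization.Away (α t)) (α x) := fun x =>
    IsLocalization.map_eq _ x
  have hfg : I.FG := ⟨{t}, by simp [I]⟩
  haveI : IsAdicComplete I Ah := AdicCompletion.isAdicComplete hfg
  have hjacA : ∀ x : A, IsUnit (1 + t * x) := fun x => by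
    have h := Ideal.mem_jacobson_bot.mp (HenselianRing.jac (I := I) (Ideal.mem_span_singleton_self t)) x
    rwa [add_comm] at h
  have hev : ∀ M : ℕ, ∀ x : A, (∃ c, α x = α t ^ M * c) → t ^ M ∣ x := by
    rintro M x ⟨c, hc⟩
    have h := congrArg (AdicCompletion.evalₐ I M) hc
    have hcomm : ∀ y, AdicCompletion.evalₐ I M (α y) = Ideal.Quotient.mk _ y := fun y => (AdicCompletion.evalₐ I M).commutes y
    rw [map_mul, map_pow, hcomm, hcomm, ← map_pow] at h
    rw [show Ideal.Quotient.mk (I ^ M) (t ^ M) = 0 from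
      Ideal.Quotient.eq_zero_iff_mem.mpr (Ideal.pow_mem_pow (Ideal.mem_span_singleton_self t) M), zero_mul,
      Ideal.Quotient.eq_zero_iff_mem, Ideal.span_singleton_pow, Ideal.mem_span_singleton] at h
    exact h
  have happrox : ∀ (M : ℕ) (a : AdicCompletion (Ideal.span {t}) A), ∃ a₀ c, a = α a₀ + α t ^ M * c := by
    intro M a
    obtain ⟨a₀, ha₀⟩ := Ideal.Quotient.mk_surjective (AdicCompletion.evalₐ I M a)
    have hk : a - α a₀ ∈ LinearMap.ker (AdicCompletion.eval I A M) := by
      have h2 : AdicCompletion.evalₐ I M (a - α a₀) = 0 := by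
        rw [map_sub, AlgHom.commutes, ← ha₀, Ideal.Quotient.algebraMap_eq, sub_self]
      rw [LinearMap.mem_ker]
      apply (Ideal.quotientEquivAlgOfEq A (show I ^ M • (⊤ : Ideal A) = I ^ M by simp)).injective
      rw [map_zero, ← h2]
      rfl
    rw [← AdicCompletion.pow_smul_top_eq_ker_eval hfg, Ideal.span_singleton_pow, Submodule.ideal_span_singleton_smul,
      Submodule.mem_smul_pointwise_iff_exists] at hk
    obtain ⟨c, -, hc⟩ := hk
    refine ⟨a₀, c, ?_⟩
    rw [← map_pow, ← Algebra.smul_def, hc, add_sub_cancel]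
  have hjacAh : ∀ c : AdicCompletion (Ideal.span {t}) A, IsUnit (1 + α t * c) := fun c => by
    haveI : IsAdicComplete (I.map α) (AdicCompletion (Ideal.span {t}) A) :=
      (IsAdicComplete.map_algebraMap_iff I (AdicCompletion (Ideal.span {t}) A)).mpr ‹IsAdicComplete I Ah›
    have h := Ideal.mem_jacobson_bot.mp (IsAdicComplete.le_jacobson_bot (I.map α) (Ideal.mem_map_of_mem α (Ideal.mem_span_singleton_self t))) c
    rwa [add_comm] at h
  obtain ⟨N, a, ha, hea⟩ : ∃ (N : ℕ) (a : AdicCompletion (Ideal.span {t}) A), a * a = α t ^ N * a ∧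
      e * algebraMap _ (Localization.Away (α t)) (α t) ^ N = algebraMap _ _ a := by
    obtain ⟨n, a, hn⟩ := IsLocalization.Away.surj (α t) e
    have h2 : algebraMap _ (Localization.Away (α t)) (a * a) = algebraMap _ _ (α t ^ n * a) := by
      rw [map_mul, map_mul, map_pow, ← hn]
      linear_combination (algebraMap _ (Localization.Away (α t)) (α t)) ^ (2 * n) * he.eq
    obtain ⟨⟨_, k, rfl⟩, hk⟩ := (IsLocalization.eq_iff_exists (Submonoid.powers (α t)) _).mp h2
    refine ⟨n + k, α t ^ k * a, ?_, ?_⟩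
    · simp only at hk; linear_combination α t ^ k * hk
    · rw [pow_add, ← mul_assoc, hn, map_mul, map_pow]; ring
  obtain ⟨a₀, c, hac⟩ := happrox (3 * N + 1) a
  obtain ⟨q, hq⟩ := hev (3 * N + 1) (a₀ * a₀ - t ^ N * a₀) ⟨α t ^ N * c - 2 * α a₀ * c - α t ^ (3 * N + 1) * c ^ 2, by
    rw [hac] at ha
    simp only [map_sub, map_mul, map_pow]
    linear_combination ha⟩
  set ε := t ^ (N + 1) * q with hε
  obtain ⟨u, hu⟩ : IsUnit (1 + 4 * ε) := by
    convert hjacA (4 * t ^ N * q) using 1
    rw [hε]; ring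
  obtain ⟨z, hz, hz0⟩ : ∃ z : A, z * z - z + ↑u⁻¹ * ε = 0 ∧ t ∣ z := by
    obtain ⟨z, hz, hz'⟩ := HenselianRing.is_henselian (I := Ideal.span {t})
      (X ^ 2 - X + Polynomial.C (↑u⁻¹ * ε)) (by monicity!) 0
      (by
        rw [Ideal.mem_span_singleton]
        simpa using (dvd_mul_of_dvd_right (dvd_mul_of_dvd_left (dvd_pow_self t N.succ_ne_zero) q) (↑u⁻¹ : A)))
      (by simp [derivative_pow])
    refine ⟨z, by simpa [sq] using hz, ?_⟩
    rwa [sub_zero, Ideal.mem_span_singleton] at hz'
  obtain ⟨z', rfl⟩ := hz0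
  obtain ⟨v, hv⟩ := hjacA (-z')
  have hzN : t * z' = t ^ (N + 1) * (q * ↑u⁻¹ * ↑v⁻¹) := by
    have h1 : t * z' * (v : A) = ↑u⁻¹ * ε := by rw [hv]; linear_combination -hz
    calc t * z' = t * z' * (v : A) * ↑v⁻¹ := by rw [Units.mul_inv_cancel_right]
      _ = ↑u⁻¹ * ε * ↑v⁻¹ := by rw [h1]
      _ = _ := by rw [hε]; ring
  set w := q * (↑u⁻¹ : A) * (↑v⁻¹ : A)
  rw [hzN] at hz
  set τ := algebraMap A L t with hτ
  have hτu : ∀ k, IsUnit (τ ^ k) := fun k => (IsLocalization.Away.algebraMap_isUnit t).pow k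
  obtain ⟨δ, hδ⟩ : ∃ δ, τ ^ N * δ = algebraMap A L a₀ := ⟨_, ((hτu N).dvd.choose_spec).symm⟩
  have hu' : algebraMap A L (↑u⁻¹ : A) * (1 + 4 * algebraMap A L ε) = 1 := by
    rw [← map_ofNat (algebraMap A L) 4, ← map_mul (algebraMap A L) 4, ← map_one (algebraMap A L), ← map_add, ← hu, ← map_mul, Units.inv_mul]
  have hδε : δ * δ - δ = algebraMap A L ε := by
    apply (hτu (2 * N)).mul_left_cancel
    have h2 := congrArg (algebraMap A L) hq
    simp only [map_mul, map_sub, map_pow, ← hτ] at h2
    rw [hε, map_mul, map_pow, ← hτ]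
    linear_combination h2 + (τ ^ N * δ + algebraMap A L a₀ - τ ^ N) * hδ
  let zL := algebraMap A L (t ^ (N + 1) * w)
  let x := δ + zL * (1 - 2 * δ)
  have hx : IsIdempotentElem x := by
    have h2 := congrArg (algebraMap A L) hz
    simp only [map_zero, map_add, map_sub, map_mul] at h2
    show x * x = x
    simp only [x, zL, map_mul] at *
    linear_combination (1 - 4 * (algebraMap A L (t ^ (N + 1)) * algebraMap A L w) + 4 * (algebraMap A L (t ^ (N + 1)) * algebraMap A L w) ^ 2) * hδε + (1 + 4 * algebraMap A L ε) * h2 - algebraMap A L ε * hu'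
  have hex : β x = e := by
    set τ' := algebraMap (AdicCompletion (Ideal.span {t}) A) (Localization.Away (α t)) (α t) with hτ'
    have hτu' : ∀ k, IsUnit (τ' ^ k) := fun k => (IsLocalization.Away.algebraMap_isUnit (α t)).pow k
    have hβδ := congrArg β hδ
    rw [map_mul, map_pow, hτ, hβ, hβ, ← hτ'] at hβδ
    obtain ⟨c', hc'⟩ : ∃ c', e - β x = algebraMap _ (Localization.Away (α t)) (α t * c') := by
      refine ⟨α t ^ (2 * N) * c - α w * (α t ^ N - 2 * α a₀), (hτu' N).mul_left_cancel ?_⟩
      rw [hac] at hea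
      simp only [x, zL, map_add, map_sub, map_mul, map_pow, map_one, map_ofNat, hτ, hβ, ← hτ'] at hea hβδ ⊢
      linear_combination hea + (-1 + 2 * τ' ^ (N + 1) * algebraMap _ (Localization.Away (α t)) (α w)) * hβδ
    have hcube : (e - β x) * (e - β x) * (e - β x) = e - β x := by
      have h1 := he.eq
      have h2 : β x * β x = β x := by rw [← map_mul, hx.eq]
      linear_combination (e + 1 - 3 * β x) * h1 + (3 * e - β x - 1) * h2
    have hzero : algebraMap _ (Localization.Away (α t)) (α t * c') = 0 := by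
      apply ((hjacAh (-(α t * c' * c'))).map (algebraMap _ (Localization.Away (α t)))).mul_left_cancel
      rw [hc'] at hcube
      simp only [map_mul, map_add, map_one, map_neg, mul_zero] at hcube ⊢
      linear_combination -hcube
    exact (sub_eq_zero.mp (hc'.trans hzero)).symm
  refine ⟨x, ⟨hx, hex⟩, fun y hy => ?_⟩
  · rw [← sub_eq_zero]
    have hcube : (y - x) * (y - x) * (y - x) = y - x := by
      linear_combination (y + 1 - 3 * x) * hy.1.eq + (3 * y - x - 1) * hx.eq
    have hd0 : β (y - x) = 0 := by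
      rw [map_sub, sub_eq_zero]
      exact hy.2.trans hex.symm
    obtain ⟨n₀, a₁, hn₁⟩ := IsLocalization.Away.surj t (y - x)
    rw [← hτ] at hn₁
    have h0 := congrArg β hn₁
    rw [map_mul, hd0, zero_mul, hβ] at h0
    obtain ⟨⟨_, k, rfl⟩, hk⟩ := (IsLocalization.map_eq_zero_iff (Submonoid.powers (α t)) _ _).mp h0.symm
    obtain ⟨b, hb⟩ := hev (2 * (n₀ + k) + 1) (t ^ k * a₁) ⟨0, by rw [map_mul, map_pow, mul_zero]; exact hk⟩
    have hn₂ : (y - x) * τ ^ (n₀ + k) = algebraMap A L (t ^ k * a₁) := by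
      rw [pow_add, ← mul_assoc, hn₁, map_mul, map_pow, ← hτ, mul_comm]
    have h3 : algebraMap A L (t ^ k * a₁) * (algebraMap A L (t ^ k * a₁) * algebraMap A L (t ^ k * a₁) - τ ^ (2 * (n₀ + k))) = 0 := by
      rw [← hn₂]
      linear_combination (τ ^ (n₀ + k)) ^ 3 * hcube
    have hu3 : IsUnit (algebraMap A L (t ^ k * a₁) * algebraMap A L (t ^ k * a₁) - τ ^ (2 * (n₀ + k))) := by
      have he' : algebraMap A L (t ^ k * a₁) * algebraMap A L (t ^ k * a₁) - τ ^ (2 * (n₀ + k)) =
          -(τ ^ (2 * (n₀ + k)) * algebraMap A L (1 + t * -(t ^ (2 * (n₀ + k) + 1) * b * b))) := by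
        rw [hb]; simp only [map_mul, map_add, map_one, map_neg, map_pow, ← hτ]; ring
      rw [he']
      exact ((hτu _).mul ((hjacA _).map _)).neg
    rw [hu3.mul_left_eq_zero, ← hn₂] at h3
    exact (hτu _).mul_left_eq_zero.mp h3

end Groth.Agent.S15774
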