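import Groth.Statements.S15778
import Mathlib
import Groth.Agent.CommAlg4.ApproxIdem
import Groth.Agent.HenselLib.PairQuot

set_option linter.all false

set_option autoImplicit false
universe u
open TensorProduct
open CAlg

open Polynomial TensorProduct

namespace Groth.Agent.S15778

theorem approx_adicCompletion {A : Type u} [CommRing A] (t : A) (ht : t ∈ (⊥ : Ideal A).jacobson)
    [Algebra (Localization.Away t) (Localization.Away (algebraMap A (AdicCompletion (Ideal.span {t}) A) t))]
    (halg : algebraMap (Localization.Away t) (Localization.Away (algebraMap A (AdicCompletion (Ideal.span {t}) A) t)) = Localization.awayMap (algebraMap A (AdicCompletion (Ideal.span {t}) A)) t) :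
    Groth.Agent.CommAlg4.ApproxIdem.Approx (algebraMap A (AdicCompletion (Ideal.span {t}) A)) t
      (algebraMap A (Localization.Away t))
      (algebraMap (AdicCompletion (Ideal.span {t}) A)
        (Localization.Away (algebraMap A (AdicCompletion (Ideal.span {t}) A) t))) := by
  have hker : ∀ (k : ℕ) (z : AdicCompletion (Ideal.span {t}) A),
      (algebraMap A (AdicCompletion (Ideal.span {t}) A)) t ^ k ∣ z ↔ AdicCompletion.evalₐ (Ideal.span {t}) k z = 0 := by
    intro k z
    have h1 : AdicCompletion.evalₐ (Ideal.span {t}) k z = 0 ↔ z ∈ (AdicCompletion.eval (Ideal.span {t}) A k).ker := by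
      rw [LinearMap.mem_ker, ← AdicCompletion.factor_eval_eq_evalₐ (Ideal.span {t}) z (by simp)]
      refine ⟨fun h => ?_, fun h => by rw [h, map_zero]⟩
      have : Function.Injective (Ideal.Quotient.factor (show (Ideal.span {t}) ^ k • (⊤ : Ideal A) ≤ (Ideal.span {t}) ^ k by simp)) := by
        rw [RingHom.injective_iff_ker_eq_bot, Ideal.Quotient.factor_ker]
        exact Ideal.map_mk_eq_bot_of_le (by simp)
      exact this (h.trans (map_zero _).symm)
    rw [h1, ← AdicCompletion.pow_smul_top_eq_ker_eval (Submodule.fg_span_singleton t),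
      Ideal.span_singleton_pow, Submodule.ideal_span_singleton_smul,
      Submodule.mem_smul_pointwise_iff_exists]
    simp only [Submodule.mem_top, true_and, Algebra.smul_def, map_pow]
    exact ⟨fun ⟨c, hc⟩ => ⟨c, hc.symm⟩, fun ⟨c, hc⟩ => ⟨c, hc.symm⟩⟩
  refine ⟨?_, IsLocalization.Away.algebraMap_isUnit t, ?_, ?_, ?_, ?_, ?_, ht, ?_⟩
  · rw [halg]
    exact IsLocalization.map_comp _
  · intro z
    obtain ⟨n, a, h⟩ := IsLocalization.Away.surj t z
    exact ⟨n, a, h⟩
  · intro z
    obtain ⟨n, a, h⟩ := IsLocalization.Away.surj ((algebraMap A (AdicCompletion (Ideal.span {t}) A)) t) z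
    exact ⟨n, a, h⟩
  · intro b hb
    obtain ⟨⟨_, k, rfl⟩, hk⟩ := (IsLocalization.map_eq_zero_iff (Submonoid.powers ((algebraMap A (AdicCompletion (Ideal.span {t}) A)) t)) _ b).mp hb
    exact ⟨k, hk⟩
  · intro b' k
    obtain ⟨b, hb⟩ := Ideal.Quotient.mk_surjective (AdicCompletion.evalₐ (Ideal.span {t}) k b')
    refine ⟨b, (hker k _).mpr ?_⟩
    rw [map_sub, show AdicCompletion.evalₐ (Ideal.span {t}) k ((algebraMap A (AdicCompletion (Ideal.span {t}) A)) b) = Ideal.Quotient.mk _ b from
      (AdicCompletion.evalₐ (Ideal.span {t}) k).commutes b, hb, sub_self]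
  · intro b k h
    have := (hker k _).mp h
    rw [show AdicCompletion.evalₐ (Ideal.span {t}) k ((algebraMap A (AdicCompletion (Ideal.span {t}) A)) b) = Ideal.Quotient.mk _ b from
      (AdicCompletion.evalₐ (Ideal.span {t}) k).commutes b, Ideal.Quotient.eq_zero_iff_mem,
      Ideal.span_singleton_pow, Ideal.mem_span_singleton] at this
    exact this
  · have := AdicCompletion.isAdicComplete (M := A) (Submodule.fg_span_singleton t)
    have h2 : IsAdicComplete ((Ideal.span {t}).map (algebraMap A (AdicCompletion (Ideal.span {t}) A))) (AdicCompletion (Ideal.span {t}) A) :=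
      (IsAdicComplete.map_algebraMap_iff ..).mpr this
    exact IsAdicComplete.le_jacobson_bot ((Ideal.span {t}).map (algebraMap A (AdicCompletion (Ideal.span {t}) A)))
      (Ideal.mem_map_of_mem (algebraMap A (AdicCompletion (Ideal.span {t}) A)) (Ideal.mem_span_singleton_self t))

/-- The instance A[1/t] → Â[1/t] for modules: let t lie in the Jacobson radical of A (a Zariski pair (A,
tA)) with bounded t-power torsion, Â the t-adic completion, and give Â[1/t] the A[1/t]-algebra
structure of the canonical map. Then finitely generated projective A[1/t]-modules isomorphic over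
Â[1/t] are isomorphic, and every stably free Â[1/t]-module is extended from a stably free
A[1/t]-module. (The published statement also asserts injectivity on H¹ for inner forms of GL_n; this
row omits that clause.) -/
theorem result (A : Type u) [CommRing A]
    (t : A) (ht : t ∈ (⊥ : Ideal A).jacobson)
    (hbd : ∃ N : ℕ, ∀ a : A, (∃ m : ℕ, t ^ m * a = 0) → t ^ N * a = 0)
    [Algebra (Localization.Away t) (Localization.Away (algebraMap A (AdicCompletion (Ideal.span {t}) A) t))]
    (halg : algebraMap (Localization.Away t) (Localization.Away (algebraMap A (AdicCompletion (Ideal.span {t}) A) t)) = Localization.awayMap (algebraMap A (AdicCompletion (Ideal.span {t}) A)) t) :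
    (∀ (M N : Type u) [AddCommGroup M] [Module (Localization.Away t) M] [Module.Finite (Localization.Away t) M] [Module.Projective (Localization.Away t) M]
        [AddCommGroup N] [Module (Localization.Away t) N] [Module.Finite (Localization.Away t) N] [Module.Projective (Localization.Away t) N],
        Nonempty ((Localization.Away (algebraMap A (AdicCompletion (Ideal.span {t}) A) t)) ⊗[Localization.Away t] M ≃ₗ[Localization.Away (algebraMap A (AdicCompletion (Ideal.span {t}) A) t)] (Localization.Away (algebraMap A (AdicCompletion (Ideal.span {t}) A) t)) ⊗[Localization.Away t] N) → Nonempty (M ≃ₗ[Localization.Away t] N)) ∧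
    (∀ (M' : Type u) [AddCommGroup M'] [Module (Localization.Away (algebraMap A (AdicCompletion (Ideal.span {t}) A) t)) M'] [Module.Finite (Localization.Away (algebraMap A (AdicCompletion (Ideal.span {t}) A) t)) M'],
        (∃ n m : ℕ, Nonempty ((M' × (Fin n → Localization.Away (algebraMap A (AdicCompletion (Ideal.span {t}) A) t))) ≃ₗ[Localization.Away (algebraMap A (AdicCompletion (Ideal.span {t}) A) t)] (Fin m → Localization.Away (algebraMap A (AdicCompletion (Ideal.span {t}) A) t)))) →
        ∃ (M : Type u) (_ : AddCommGroup M) (_ : Module (Localization.Away t) M), Module.Finite (Localization.Away t) M ∧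
          (∃ n m : ℕ, Nonempty ((M × (Fin n → Localization.Away t)) ≃ₗ[Localization.Away t] (Fin m → Localization.Away t))) ∧
          Nonempty ((Localization.Away (algebraMap A (AdicCompletion (Ideal.span {t}) A) t)) ⊗[Localization.Away t] M ≃ₗ[Localization.Away (algebraMap A (AdicCompletion (Ideal.span {t}) A) t)] M')) := by
  have h := approx_adicCompletion t ht halg
  refine ⟨fun M N _ _ _ _ _ _ _ _ ⟨e⟩ =>
    Groth.Agent.CommAlg4.ApproxIdem.nonempty_linearEquiv h M N e, ?_⟩
  rintro M' _ _ _ ⟨n, m, ⟨θ⟩⟩
  exact Groth.Agent.CommAlg4.ApproxIdem.exists_stablyFree h M' n m θ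

end Groth.Agent.S15778
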