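import Groth.Statements.S15775
import Groth.Agent.Elkik5.OfApprox
import Groth.Agent.Elkik5.FEtAffine
import Groth.Agent.S15778

set_option autoImplicit false
set_option linter.style.haveILetI false
universe u
open CategoryTheory AlgebraicGeometry
open FEt

namespace Groth.Agent.S15775

/-- The instance A[1/t] → Â[1/t]: for (A, tA) a Henselian pair with bounded t-power torsion and Â the
t-adic completion, base change along Spec Â[1/t] → Spec A[1/t] is an equivalence of categories of
finite étale schemes. -/
theorem result (A : Type u) [CommRing A] (t : A) [HenselianRing A (Ideal.span {t})]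
    (hbd : ∃ N : ℕ, ∀ a : A, (∃ m : ℕ, t ^ m * a = 0) → t ^ N * a = 0) :
    (FEt.restrict (Spec.map (CommRingCat.ofHom (Localization.awayMap (algebraMap A (AdicCompletion (Ideal.span {t}) A)) t)))).IsEquivalence := by
  let L := Localization.Away t
  let Ah := AdicCompletion (Ideal.span {t}) A
  let Q := Localization.Away (algebraMap A Ah t)
  letI : Algebra L Q := (Localization.awayMap (algebraMap A Ah) t).toAlgebra
  have ht : t ∈ (⊥ : Ideal A).jacobson :=
    HenselianRing.jac (I := Ideal.span {t}) (Ideal.mem_span_singleton_self t)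
  have happ := S15778.approx_adicCompletion t ht (RingHom.algebraMap_toAlgebra _)
  haveI hcomp : IsAdicComplete (Ideal.span {algebraMap A Ah t}) Ah := by
    have := AdicCompletion.isAdicComplete (M := A) (Submodule.fg_span_singleton t)
    have h2 : IsAdicComplete ((Ideal.span {t}).map (algebraMap A Ah)) Ah :=
      (IsAdicComplete.map_algebraMap_iff ..).mpr this
    rwa [Ideal.map_span, Set.image_singleton] at h2
  have hsep : ∀ a : Ah, (∀ k : ℕ, algebraMap A Ah t ^ k ∣ a) → a = 0 := fun a ha =>
    IsHausdorff.haus hcomp.toIsHausdorff a fun k => by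
      rw [SModEq.zero, smul_eq_mul, Ideal.mul_top, Ideal.span_singleton_pow, Ideal.mem_span_singleton]
      exact ha k
  obtain ⟨N, hN⟩ := hbd
  have hbd' : ∀ a : Ah, (∃ m : ℕ, algebraMap A Ah t ^ m * a = 0) → algebraMap A Ah t ^ N * a = 0 := by
    rintro a ⟨m, hm⟩
    refine hsep _ fun k => ?_
    obtain ⟨b, c, hc⟩ := happ.dense a (k + m)
    have h1 : algebraMap A Ah t ^ (k + m) ∣ algebraMap A Ah (t ^ m * b) := ⟨-(algebraMap A Ah t ^ m * c), by
      rw [map_mul, map_pow]
      linear_combination hm - algebraMap A Ah t ^ m * hc⟩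
    obtain ⟨d, hd⟩ := happ.dvd _ _ h1
    have h2 : t ^ N * (b - t ^ k * d) = 0 := hN _ ⟨m, by linear_combination hd⟩
    refine ⟨algebraMap A Ah t ^ (N + m) * c + algebraMap A Ah (t ^ N * d), ?_⟩
    have h3 := congrArg (algebraMap A Ah) h2
    rw [map_mul, map_sub, map_mul, map_pow, map_pow, map_zero] at h3
    rw [map_mul, map_pow]
    linear_combination algebraMap A Ah t ^ N * hc + h3
  have hD := Elkik5.dense_of_approx (L := L) (Q := Q) (algebraMap A Ah) t (algebraMap L Q) happ.comm
    happ.dense happ.dvd ⟨N, hbd'⟩ hsep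
  have hu : HenselianRing Ah (Ideal.span {algebraMap A Ah t}) := inferInstance
  exact Elkik5.FEtAffine.restrict_isEquivalence (L := L) (Q := Q)
    (fun D C _ _ _ _ _ _ _ _ => hD.bijective_baseChange hu D C)
    (fun C _ _ _ _ => hD.exists_etale_descent hu C)

end Groth.Agent.S15775
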