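import Groth.Statements.S15777
import Groth.Agent.Elkik5.Section
import Groth.Agent.NonAb.SchTorsor
import Groth.Agent.Et18.Descent

set_option autoImplicit false
set_option linter.style.haveILetI false
universe u
open CategoryTheory MonoidalCategory CartesianMonoidalCategory MonObj GrpObj AlgebraicGeometry
open NonAbH1

namespace Groth.Agent.S15777

/-- The instance A[1/t] → Â[1/t], kernel form, for an affine smooth group: if (A, tA) is a Henselian
pair with bounded t-power torsion and Â is the t-adic completion, then an fppf torsor under an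
affine smooth A[1/t]-group scheme which becomes trivial over Â[1/t] is trivial. (The published
statement is a bijection H¹(A[1/t], G) ≅ H¹(Â[1/t], G) for quasi-affine smooth G; this row is the
triviality of the kernel for affine smooth G.) -/
theorem result (A : Type u) [CommRing A] (t : A) [HenselianRing A (Ideal.span {t})]
    (hbd : ∃ N : ℕ, ∀ a : A, (∃ m : ℕ, t ^ m * a = 0) → t ^ N * a = 0)
    (G : Over (Spec (CommRingCat.of (Localization.Away t)))) [GrpObj G] [IsAffine G.left] [Smooth G.hom]
    (P : Over (Spec (CommRingCat.of (Localization.Away t)))) (a : AlgGrp.Action G P)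
    (hP : NonAbH1.IsTorsorFor Scheme.fppfPrecoverage a)
    (hsec : NonAbH1.HasSectionOver P (Spec.map (CommRingCat.ofHom (Localization.awayMap (algebraMap A (AdicCompletion (Ideal.span {t}) A)) t)))) :
    NonAbH1.HasSectionOver P (𝟙 (Spec (CommRingCat.of (Localization.Away t)))) := by
  have hfpqc := (⟨hP.1, let ⟨R, hR, h⟩ := hP.2; ⟨R, Scheme.fppfPrecoverage_le_fpqcPrecoverage _ hR, h⟩⟩ :
    NonAbH1.IsTorsorFor Scheme.fpqcPrecoverage a)
  have hGa : IsAffineHom G.hom := inferInstance
  have haff : IsAffineHom P.hom :=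
    NonAbLib.property_hom @IsAffineHom Et18.descends_isAffineHom hfpqc hGa
  have hsm : Smooth P.hom :=
    NonAbLib.property_hom @Smooth inferInstance hfpqc ‹Smooth G.hom›
  haveI : IsAffine P.left := isAffine_of_isAffineHom P.hom
  let Ah := AdicCompletion (Ideal.span {t}) A
  let L := Localization.Away t
  let C : Type u := Γ(P.left, ⊤)
  let f : CommRingCat.of L ⟶ Γ(P.left, ⊤) := (Scheme.ΓSpecIso (CommRingCat.of L)).inv ≫ P.hom.appTop
  letI : Algebra L C := f.hom.toAlgebra
  haveI : Algebra.Smooth L C := by
    have h1 : P.hom.appTop.hom.Smooth := (HasRingHomProperty.iff_of_isAffine (P := @Smooth)).mp hsm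
    have h2 : f.hom.Smooth :=
      (RingHom.Smooth.respectsIso.2 P.hom.appTop.hom (Scheme.ΓSpecIso (CommRingCat.of L)).symm.commRingCatIsoToRingEquiv h1)
    exact h2
  have hf : Spec.map f = P.left.isoSpec.inv ≫ P.hom := by
    rw [Spec.map_comp, ← Scheme.isoSpec_Spec_inv, Scheme.isoSpec_inv_naturality]
  obtain ⟨s, hs⟩ := hsec
  let σ : C →+* Localization.Away (algebraMap A Ah t) :=
    (Spec.preimage (s ≫ P.left.isoSpec.hom)).hom
  have hσ : σ.comp (algebraMap L C) = Localization.awayMap (algebraMap A Ah) t := by
    have : f ≫ Spec.preimage (s ≫ P.left.isoSpec.hom) =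
        CommRingCat.ofHom (Localization.awayMap (algebraMap A Ah) t) := by
      apply Spec.map_injective
      rw [Spec.map_comp, Spec.map_preimage, hf, Category.assoc, Iso.hom_inv_id_assoc]
      exact hs
    exact congrArg CommRingCat.Hom.hom this
  obtain ⟨τ, hτ⟩ := Elkik5.exists_section t hbd C σ hσ
  refine ⟨Spec.map (CommRingCat.ofHom τ) ≫ P.left.isoSpec.inv, ?_⟩
  rw [Category.assoc, ← hf, ← Spec.map_comp, ← Spec.map_id]
  exact congrArg Spec.map (CommRingCat.hom_ext hτ)

end Groth.Agent.S15777
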