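import Groth.Statements.S15779
import Groth.Agent.HenselLib.NonmonicFactor
import Mathlib.Tactic
import Groth.Agent.HenselLib.NonmonicFactor

set_option linter.all false

set_option autoImplicit false
universe u
open Polynomial
open CAlg

open Polynomial

namespace Groth.Agent.S15779

theorem monic_isUnit_mk {R : Type u} [CommRing R] [IsLocalRing R] (I : Ideal R[X])
    (hI : I ⊔ (IsLocalRing.maximalIdeal R).map (algebraMap R R[X]) = ⊤) (g : R[X]) (hg : g.Monic) :
    IsUnit (Ideal.Quotient.mk I g) := by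
  let K : Ideal R[X] := I ⊔ Ideal.span {g}
  let M := R[X] ⧸ K
  suffices hK : K = ⊤ by
    obtain ⟨i, hi, b, hb, hib⟩ := Submodule.mem_sup.mp (hK ▸ Submodule.mem_top : (1 : R[X]) ∈ K)
    obtain ⟨c, rfl⟩ := Ideal.mem_span_singleton'.mp hb
    refine IsUnit.of_mul_eq_one (Ideal.Quotient.mk I c) ?_
    rw [← map_mul, mul_comm, ← map_one (Ideal.Quotient.mk I), Ideal.Quotient.eq]
    rw [← hib]; simpa using I.neg_mem hi
  have hfin : Module.Finite R M := by
    have := hg.finite_quotient
    exact Module.Finite.of_surjective (Ideal.Quotient.factorₐ R (le_sup_right : _ ≤ K)).toLinearMap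
      (Ideal.Quotient.factor_surjective (le_sup_right : _ ≤ K))
  have htop : (⊤ : Submodule R M) ≤ IsLocalRing.maximalIdeal R • (⊤ : Submodule R M) := by
    intro x _
    obtain ⟨y, rfl⟩ := Ideal.Quotient.mk_surjective x
    obtain ⟨i, hi, b, hb, hib⟩ := Submodule.mem_sup.mp (hI ▸ Submodule.mem_top : y ∈ I ⊔ _)
    have : Ideal.Quotient.mk K y = Ideal.Quotient.mk K b := by
      rw [Ideal.Quotient.eq, ← hib]; simpa using (le_sup_left : I ≤ K) hi
    rw [this, Ideal.smul_top_eq_map]
    show Ideal.Quotient.mk K b ∈ (IsLocalRing.maximalIdeal R).map (algebraMap R M)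
    rw [show algebraMap R M = (Ideal.Quotient.mk K).comp (algebraMap R R[X]) from rfl,
      ← Ideal.map_map]
    exact Ideal.mem_map_of_mem _ hb
  have hbot := Submodule.eq_bot_of_le_smul_of_le_jacobson_bot _ (⊤ : Submodule R M)
    Module.Finite.fg_top htop (IsLocalRing.maximalIdeal_le_jacobson ⊥)
  rw [Ideal.eq_top_iff_one, ← Ideal.Quotient.eq_zero_iff_mem]
  exact (Submodule.mem_bot R).mp (hbot ▸ Submodule.mem_top)

section
variable {R : Type u} [CommRing R] {L : Type u} [CommRing L] [Algebra R[X] L]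
    [IsLocalization (Submonoid.closure ({f : R[X] | f.coeff 0 = 1} ∪ {X})) L]
    [Algebra R L] [IsScalarTower R R[X] L]
    (ψ : R[X] →ₐ[R] L) (hψ : ψ X * algebraMap R[X] L X = 1)

omit [IsLocalization (Submonoid.closure ({f : R[X] | f.coeff 0 = 1} ∪ {X})) L] in
include hψ in
theorem psi_reflect (p : R[X]) (N : ℕ) (hN : p.natDegree ≤ N) :
    ψ (reflect N p) * algebraMap R[X] L X ^ N = algebraMap R[X] L p := by
  set T := algebraMap R[X] L X
  let : Invertible T := ⟨ψ X, hψ, by rw [mul_comm]; exact hψ⟩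
  have h1 := eval₂_reflect_mul_pow (algebraMap R L) T N p hN
  have e1 : eval₂ (algebraMap R L) (⅟T) (reflect N p) = ψ (reflect N p) := by
    show aeval (ψ X) (reflect N p) = _
    rw [aeval_algHom_apply, aeval_X_left_apply]
  have e2 : eval₂ (algebraMap R L) T p = algebraMap R[X] L p := by
    show aeval ((IsScalarTower.toAlgHom R R[X] L) X) p = _
    rw [aeval_algHom_apply, aeval_X_left_apply]; rfl
  rw [e1, e2] at h1; exact h1

theorem mem_den {m : R[X]} (hm : m ∈ Submonoid.closure ({f : R[X] | f.coeff 0 = 1} ∪ {X})) :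
    ∃ (j : ℕ) (f : R[X]), f.coeff 0 = 1 ∧ m = X ^ j * f := by
  induction hm using Submonoid.closure_induction with
  | mem x hx =>
    rcases hx with h | h
    · exact ⟨0, x, h, by simp⟩
    · exact ⟨1, 1, by simp, by simp [Set.mem_singleton_iff.mp h]⟩
  | one => exact ⟨0, 1, by simp, by simp⟩
  | mul a b _ _ ha hb =>
    obtain ⟨i, f, hf, rfl⟩ := ha
    obtain ⟨j, g, hg, rfl⟩ := hb
    exact ⟨i + j, f * g, by simp [mul_coeff_zero, hf, hg], by ring⟩

theorem reflect_monic {f : R[X]} (hf : f.coeff 0 = 1) : (reflect f.natDegree f).Monic := by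
  refine monic_of_natDegree_le_of_coeff_eq_one f.natDegree ?_ ?_
  · rw [natDegree_le_iff_coeff_eq_zero]
    intro N hN
    rw [coeff_reflect, revAt_eq_self_of_lt hN]
    exact coeff_eq_zero_of_natDegree_lt hN
  · rw [coeff_reflect, revAt_le le_rfl, Nat.sub_self, hf]

include hψ in
theorem psi_surj (z : L) : ∃ a g : R[X], g.Monic ∧ z * ψ g = ψ a := by
  set T := algebraMap R[X] L X with hT
  obtain ⟨⟨a, m⟩, hz⟩ := IsLocalization.surj (Submonoid.closure ({f : R[X] | f.coeff 0 = 1} ∪ {X})) z
  obtain ⟨j, f, hf, hm⟩ := mem_den m.2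
  refine ⟨reflect a.natDegree a * X ^ (f.natDegree + j),
    reflect f.natDegree f * X ^ a.natDegree, (reflect_monic hf).mul (monic_X_pow _), ?_⟩
  have h1 := psi_reflect ψ hψ f f.natDegree le_rfl
  have h2 := psi_reflect ψ hψ a a.natDegree le_rfl
  simp only [hm, map_mul, map_pow] at hz
  rw [← h1, ← h2, ← hT] at hz
  have hu : ∀ n : ℕ, ψ X ^ n * T ^ n = 1 := fun n => by rw [← mul_pow, hψ, one_pow]
  rw [map_mul, map_mul, map_pow, map_pow]
  calc z * (ψ (reflect f.natDegree f) * ψ X ^ a.natDegree)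
      = z * (T ^ j * (ψ (reflect f.natDegree f) * T ^ f.natDegree)) *
          (ψ X ^ a.natDegree * ψ X ^ (f.natDegree + j)) := by
        have := hu (f.natDegree + j)
        linear_combination (-(z * ψ (reflect f.natDegree f) * ψ X ^ a.natDegree)) * this
    _ = ψ (reflect a.natDegree a) * T ^ a.natDegree *
          (ψ X ^ a.natDegree * ψ X ^ (f.natDegree + j)) := by rw [hz]
    _ = ψ (reflect a.natDegree a) * ψ X ^ (f.natDegree + j) := by
        have := hu a.natDegree
        linear_combination (ψ (reflect a.natDegree a) * ψ X ^ (f.natDegree + j)) * this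

include hψ in
theorem psi_monic_unit {g : R[X]} (hg : g.Monic) : IsUnit (ψ g) := by
  have h1 := psi_reflect ψ hψ (reflect g.natDegree g) g.natDegree (by
    rw [natDegree_le_iff_coeff_eq_zero]
    intro N hN
    rw [coeff_reflect, revAt_eq_self_of_lt hN]; exact coeff_eq_zero_of_natDegree_lt hN)
  rw [reflect_reflect] at h1
  have hmem : reflect g.natDegree g ∈ Submonoid.closure ({f : R[X] | f.coeff 0 = 1} ∪ {X}) := by
    refine Submonoid.subset_closure (Or.inl ?_)
    show (reflect g.natDegree g).coeff 0 = 1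
    rw [coeff_reflect, revAt_le (Nat.zero_le _), Nat.sub_zero]
    exact hg
  exact isUnit_of_mul_isUnit_left
    (h1 ▸ IsLocalization.map_units L ⟨_, hmem⟩ :
      IsUnit (ψ g * algebraMap R[X] L X ^ g.natDegree))

include hψ in
theorem psi_injective : Function.Injective ψ := by
  rw [injective_iff_map_eq_zero]
  intro p hp
  have h1 := psi_reflect ψ hψ (reflect p.natDegree p) p.natDegree (by
    rw [natDegree_le_iff_coeff_eq_zero]
    intro N hN
    rw [coeff_reflect, revAt_eq_self_of_lt hN]; exact coeff_eq_zero_of_natDegree_lt hN)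
  rw [reflect_reflect, hp, zero_mul] at h1
  obtain ⟨m, hm⟩ := (IsLocalization.map_eq_zero_iff
    (Submonoid.closure ({f : R[X] | f.coeff 0 = 1} ∪ {X})) L _).mp h1.symm
  obtain ⟨j, f, hf, hmf⟩ := mem_den m.2
  rw [hmf, mul_assoc] at hm
  have h2 : f * reflect p.natDegree p = 0 := (monic_X_pow (R := R) j).mul_right_eq_zero_iff.mp hm
  have h3 := congrArg (reflect (f.natDegree + p.natDegree)) h2
  rw [reflect_mul _ _ le_rfl (by
    rw [natDegree_le_iff_coeff_eq_zero]
    intro N hN
    rw [coeff_reflect, revAt_eq_self_of_lt hN]; exact coeff_eq_zero_of_natDegree_lt hN),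
    reflect_reflect, reflect_zero] at h3
  exact (reflect_monic hf).mul_right_eq_zero_iff.mp h3

include hψ in
theorem mem_map_psi {I : Ideal R[X]} {x : L} (hx : x ∈ I.map ψ.toRingHom) :
    ∃ a g : R[X], a ∈ I ∧ g.Monic ∧ x * ψ g = ψ a := by
  refine Submodule.span_induction ?_ ?_ ?_ ?_ hx
  · rintro _ ⟨a, ha, rfl⟩
    exact ⟨a, 1, ha, monic_one, by simp⟩
  · exact ⟨0, 1, I.zero_mem, monic_one, by simp⟩
  · rintro x y _ _ ⟨a, g, ha, hg, h⟩ ⟨b, k, hb, hk, h'⟩
    refine ⟨a * k + b * g, g * k, I.add_mem (I.mul_mem_right _ ha) (I.mul_mem_right _ hb),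
      hg.mul hk, ?_⟩
    simp only [map_add, map_mul]
    linear_combination ψ k * h + ψ g * h'
  · rintro c x _ ⟨a, g, ha, hg, h⟩
    obtain ⟨b, k, hk, h'⟩ := psi_surj ψ hψ c
    refine ⟨b * a, g * k, I.mul_mem_left _ ha, hg.mul hk, ?_⟩
    simp only [map_mul, smul_eq_mul]
    linear_combination c * ψ k * h + ψ a * h'

end

/-- For a Henselian local ring (R, m), L the localisation of R[t] at the monoid generated by t and the
polynomials with constant term 1, and ψ : R[s] → L the R-algebra map with s ↦ t⁻¹, extension and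
contraction along ψ are mutually inverse bijections between the ideals of R[s] comaximal with mR[s]
and the ideals of L comaximal with mL, and R[s]/I → L/IL is bijective for every such I. -/
theorem result (R : Type u) [CommRing R]
    [HenselianLocalRing R] (L : Type u) [CommRing L] [Algebra R[X] L]
    [IsLocalization (Submonoid.closure ({f : R[X] | f.coeff 0 = 1} ∪ {X})) L]
    [Algebra R L] [IsScalarTower R R[X] L]
    (ψ : R[X] →ₐ[R] L) (hψ : ψ X * algebraMap R[X] L X = 1) :
    (∀ I : Ideal R[X], I ⊔ (IsLocalRing.maximalIdeal R).map (algebraMap R R[X]) = ⊤ →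
        (I.map ψ.toRingHom).comap ψ.toRingHom = I ∧
        I.map ψ.toRingHom ⊔ (IsLocalRing.maximalIdeal R).map (algebraMap R L) = ⊤ ∧
        Function.Bijective (Ideal.quotientMap (I.map ψ.toRingHom) ψ.toRingHom Ideal.le_comap_map)) ∧
    (∀ J : Ideal L, J ⊔ (IsLocalRing.maximalIdeal R).map (algebraMap R L) = ⊤ →
        (J.comap ψ.toRingHom).map ψ.toRingHom = J ∧
        J.comap ψ.toRingHom ⊔ (IsLocalRing.maximalIdeal R).map (algebraMap R R[X]) = ⊤) := by
  set mX := (IsLocalRing.maximalIdeal R).map (algebraMap R R[X])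
  have hmL : (IsLocalRing.maximalIdeal R).map (algebraMap R L) = mX.map ψ.toRingHom := by
    rw [Ideal.map_map]
    congr 1
    ext r; exact (ψ.commutes r).symm
  rw [hmL]
  refine ⟨fun I hI => ?_, fun J hJ => ?_⟩
  · have hcm : (I.map ψ.toRingHom).comap ψ.toRingHom = I := by
      refine le_antisymm (fun x hx => ?_) Ideal.le_comap_map
      obtain ⟨a, g, ha, hg, h⟩ := mem_map_psi ψ hψ (Ideal.mem_comap.mp hx)
      change ψ x * ψ g = ψ a at h
      rw [← map_mul] at h
      have h' := psi_injective ψ hψ h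
      obtain ⟨c, hc⟩ := Ideal.Quotient.mk_surjective (((monic_isUnit_mk I hI g hg).unit⁻¹ : _) : R[X] ⧸ I)
      rw [← Ideal.Quotient.eq_zero_iff_mem] at ha ⊢
      rw [← h', map_mul] at ha
      exact (monic_isUnit_mk I hI g hg).mul_left_eq_zero.mp ha
    refine ⟨hcm, by rw [← Ideal.map_sup, hI, Ideal.map_top], ?_, ?_⟩
    · exact Ideal.quotientMap_injective' hcm.le
    · intro z
      obtain ⟨y, rfl⟩ := Ideal.Quotient.mk_surjective z
      obtain ⟨a, g, hg, h⟩ := psi_surj ψ hψ y
      obtain ⟨c, hc⟩ := (monic_isUnit_mk I hI g hg).exists_right_inv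
      refine ⟨Ideal.Quotient.mk I a * c, ?_⟩
      rw [map_mul, Ideal.quotientMap_mk, show ψ.toRingHom a = ψ a from rfl, ← h, map_mul, mul_assoc,
        show Ideal.Quotient.mk (I.map ψ.toRingHom) (ψ g) = Ideal.quotientMap (I.map ψ.toRingHom)
          ψ.toRingHom Ideal.le_comap_map (Ideal.Quotient.mk I g) from Ideal.quotientMap_mk.symm,
        ← map_mul, hc, map_one, mul_one]
  · refine ⟨le_antisymm Ideal.map_comap_le (fun z hz => ?_), ?_⟩
    · obtain ⟨a, g, hg, h⟩ := psi_surj ψ hψ z
      have ha : a ∈ J.comap ψ.toRingHom := by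
        show ψ a ∈ J
        rw [← h]; exact J.mul_mem_right _ hz
      exact (Ideal.mul_unit_mem_iff_mem _ (psi_monic_unit ψ hψ hg)).mp
        (h ▸ Ideal.mem_map_of_mem ψ.toRingHom ha)
    · obtain ⟨j, hj, μ, hμ, hjμ⟩ := Submodule.mem_sup.mp (hJ ▸ Submodule.mem_top : (1 : L) ∈ J ⊔ _)
      obtain ⟨a, g, ha, hg, h⟩ := mem_map_psi ψ hψ hμ
      have hu : ψ (g - a) ∈ J := by
        have : ψ (g - a) = j * ψ g := by
          rw [map_sub, ← h]; linear_combination (-ψ g) * hjμ
        rw [this]; exact J.mul_mem_right _ hj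
      have hker : ∀ y ∈ mX, y.map (IsLocalRing.residue R) = 0 := by
        intro y hy
        have hy' : y ∈ (IsLocalRing.maximalIdeal R).map (C : R →+* R[X]) := hy
        ext n
        rw [coeff_map, coeff_zero]
        exact Ideal.Quotient.eq_zero_iff_mem.mpr (Ideal.mem_map_C_iff.mp hy' n)
      obtain ⟨G, H, hGH, hG, -, hH⟩ := Groth.Agent.HenselLib.exists_factor_nonmonic R (g - a)
        (g.map (IsLocalRing.residue R)) 1 (hg.map _) isCoprime_one_right
        (by rw [Polynomial.map_sub, hker a ha, sub_zero, mul_one])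
      rw [hGH, map_mul] at hu
      have hHJ : H ∈ J.comap ψ.toRingHom :=
        (Ideal.unit_mul_mem_iff_mem _ (psi_monic_unit ψ hψ hG)).mp hu
      rw [Ideal.eq_top_iff_one]
      refine Submodule.mem_sup.mpr ⟨H, hHJ, 1 - H, ?_, by ring⟩
      show 1 - H ∈ (IsLocalRing.maximalIdeal R).map (C : R →+* R[X])
      rw [Ideal.mem_map_C_iff]
      intro n
      refine Ideal.Quotient.eq_zero_iff_mem.mp ?_
      show IsLocalRing.residue R ((1 - H).coeff n) = 0
      rw [← coeff_map, Polynomial.map_sub, hH, Polynomial.map_one, sub_self, coeff_zero]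

end Groth.Agent.S15779
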