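import Groth.Statements.S1578
import Groth.Agent.SDiv28.WeakAssMore
import Groth.Agent.SDiv28.WeakAssUnit

set_option autoImplicit false
universe u
open CategoryTheory CategoryTheory.Limits AlgebraicGeometry
open Divisors

namespace Groth.Agent.S1578

/-- Let M be a module over a ring A, F the associated quasi-coherent module on Spec A, and p a prime of
A. If p is an associated prime of M then p is an associated point of F; the converse holds when p is
finitely generated. -/
theorem result (A : CommRingCat.{u}) (M : ModuleCat.{u} A)
    (p : Spec A) :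
    (p.asIdeal ∈ associatedPrimes A M → Curv2.IsAssPoint (tilde M) p) ∧
    (p.asIdeal.FG → Curv2.IsAssPoint (tilde M) p → p.asIdeal ∈ associatedPrimes A M) := by
  rw [← Groth.Agent.SDiv28.isWeakAssPoint_iff_isAssPoint, ← Groth.Agent.SDiv28.isWeakAssPoint_tilde_iff]
  exact ⟨Groth.Agent.SDiv28.mem_weakAss_of_isAssociatedPrime, fun hfg h =>
    Groth.Agent.SDiv28.isAssociatedPrime_of_mem_ass (Groth.Agent.CAlgH3.mem_ass_of_mem_weakAss_of_fg hfg h)⟩
end Groth.Agent.S1578
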