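import Groth.Statements.S15781
import Groth.Agent.WeilComp27.Main
-- import your own Groth.Agent.* helpers here

set_option autoImplicit false
set_option linter.style.haveILetI false
set_option backward.isDefEq.respectTransparency.types false
universe u
open CategoryTheory MonoidalCategory CartesianMonoidalCategory MonObj GrpObj AlgebraicGeometry
open Neron

namespace Groth.Agent.S15781

open CategoryTheory CategoryTheory.Limits MonObj AlgebraicGeometry in
open Groth.Agent in
/-- Let R ⊆ R' be discrete valuation rings with R complete, R' a finite R-algebra and the residue field
k of R algebraically closed, and write f for Spec R' → Spec R. Let N' be a smooth separated R'-group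
scheme and (W, q) a Weil restriction of N' along f, endowed with a group structure for which q is a
homomorphism. A k-valued point x of W over Spec R (a k-point of the special fibre W_k) restricts to
a point of N' with values in the one-point scheme Spec k ×_{Spec R} Spec R' = Spec (R'/m_R R'); for
the point z of that scheme, the image of z is a point of the special fibre of N'. Then: x lies in
the identity component of W_k if and only if this image point lies in the identity component of the
special fibre of N', and every connected component of the special fibre of N' contains the image
point of some x. In other words reduction induces an isomorphism from the component group of W_k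
onto the component group of the special fibre of N'. (The published statement is the isomorphism
Φ(Res G) ≅ Φ(G) for the Néron lft-model of a semi-abelian variety G over the fraction field of R';
this row states it for any smooth separated group scheme over R'.) -/
theorem result
    (R : Type u) [CommRing R] [IsDomain R] [IsDiscreteValuationRing R]
    [IsAdicComplete (IsLocalRing.maximalIdeal R) R] [IsAlgClosed (IsLocalRing.ResidueField R)]
    (R' : Type u) [CommRing R'] [IsDomain R'] [IsDiscreteValuationRing R'] [Algebra R R']
    [Module.Finite R R'] [FaithfulSMul R R']
    (N' : Over (Spec (CommRingCat.of R'))) [GrpObj N'] [Smooth N'.hom] [IsSeparated N'.hom]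
    (W : Over (Spec (CommRingCat.of R))) [GrpObj W]
    (q : Red.bc (Spec.map (CommRingCat.ofHom (algebraMap R R'))) W ⟶ N') [IsMonHom q]
    (hW : WeilRes.IsWeilRes (Spec.map (CommRingCat.ofHom (algebraMap R R'))) N' W q) :
    ∀ z : ↥(Red.bc (Spec.map (CommRingCat.ofHom (algebraMap R R'))) (Over.mk (Spec.map (CommRingCat.ofHom (IsLocalRing.residue R))))).left,
      (∀ x : (Over.mk (Spec.map (CommRingCat.ofHom (IsLocalRing.residue R)))) ⟶ W,
          x.left.base (IsLocalRing.closedPoint (IsLocalRing.ResidueField R)) ∈ SGA3x.neutralSet W ↔
            (WeilRes.restr (Spec.map (CommRingCat.ofHom (algebraMap R R'))) q (Over.mk (Spec.map (CommRingCat.ofHom (IsLocalRing.residue R)))) x).left.base z ∈ SGA3x.neutralSet N') ∧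
      ∀ y ∈ SGA7.specialFibreSet R' N', ∃ x : (Over.mk (Spec.map (CommRingCat.ofHom (IsLocalRing.residue R)))) ⟶ W,
          (WeilRes.restr (Spec.map (CommRingCat.ofHom (algebraMap R R'))) q (Over.mk (Spec.map (CommRingCat.ofHom (IsLocalRing.residue R)))) x).left.base z ∈ connectedComponentIn (SGA7.specialFibreSet R' N') y := by
  obtain ⟨D⟩ := WeilComp27.exists_red R R'
  intro z
  refine ⟨fun x => ?_, fun y hy => ?_⟩
  · have h1 := WeilComp27.restr_apply_eq (q := q) D x z
    have h2 := WeilComp27.loc_mem_neutralSet_iff D hW x
    refine h2.trans (iff_of_eq ?_)
    exact congrArg (fun w => w ∈ SGA3x.neutralSet N') h1.symm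
  · obtain ⟨x, hx⟩ := WeilComp27.exists_rd_mem D hW y hy
    refine ⟨x, ?_⟩
    have h1 := WeilComp27.restr_apply_eq (q := q) D x z
    exact (congrArg (fun w => w ∈ connectedComponentIn (SGA7.specialFibreSet R' N') y) h1).mpr hx

end Groth.Agent.S15781
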