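import Groth.Statements.S15783
import Groth.Agent.WeilComp27.Split
-- import your own Groth.Agent.* helpers here

set_option autoImplicit false
set_option linter.style.haveILetI false
set_option backward.isDefEq.respectTransparency.types false
universe u
open CategoryTheory MonoidalCategory CartesianMonoidalCategory MonObj GrpObj AlgebraicGeometry
open Neron

namespace Groth.Agent.S15783

open CategoryTheory CategoryTheory.Limits MonObj AlgebraicGeometry in
open Groth.Agent in
/-- Let R ⊆ R' be discrete valuation rings with R complete, R' a finite R-algebra and the residue field
k of R algebraically closed of characteristic p > 0; let k' be the residue field of R' and f the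
morphism Spec R' → Spec R. Let N' be a smooth separated R'-group scheme and (W, q) a Weil
restriction of N' along f, endowed with a group structure for which q is a homomorphism. Say that a
group scheme G over a discrete valuation ring has totally not split reduction when no element of
order p of the component group of its special fibre lifts to a rational point of order p: for every
rational point x of the special fibre with x^p in the identity component and x outside it, no
rational point y in the connected component of x (x·y⁻¹ in the identity component) satisfies y^p =
1. If N' has totally not split reduction then W has totally not split reduction. (The published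
statement: if a semi-abelian variety G over a finite separable extension L of K has totally not
split reduction then so does its Weil restriction to K, reduction being taken on Néron lft-models;
this row states the implication for any smooth separated group scheme N' over R' and a Weil
restriction W of it.) -/
theorem result
    (R : Type u) [CommRing R] [IsDomain R] [IsDiscreteValuationRing R]
    [IsAdicComplete (IsLocalRing.maximalIdeal R) R] [IsAlgClosed (IsLocalRing.ResidueField R)]
    (R' : Type u) [CommRing R'] [IsDomain R'] [IsDiscreteValuationRing R'] [Algebra R R']
    [Module.Finite R R'] [FaithfulSMul R R']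
    (N' : Over (Spec (CommRingCat.of R'))) [GrpObj N'] [Smooth N'.hom] [IsSeparated N'.hom]
    (p : ℕ) [Fact p.Prime] [CharP (IsLocalRing.ResidueField R) p]
    (W : Over (Spec (CommRingCat.of R))) [GrpObj W]
    (q : Red.bc (Spec.map (CommRingCat.ofHom (algebraMap R R'))) W ⟶ N') [IsMonHom q]
    (hW : WeilRes.IsWeilRes (Spec.map (CommRingCat.ofHom (algebraMap R R'))) N' W q)
    (htns : ∀ x' : (Over.mk (Spec.map (CommRingCat.ofHom (IsLocalRing.residue R')))) ⟶ N', (x' ^ p).left.base (IsLocalRing.closedPoint (IsLocalRing.ResidueField R')) ∈ SGA3x.neutralSet N' →
      x'.left.base (IsLocalRing.closedPoint (IsLocalRing.ResidueField R')) ∉ SGA3x.neutralSet N' →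
        ∀ y' : (Over.mk (Spec.map (CommRingCat.ofHom (IsLocalRing.residue R')))) ⟶ N', (x' * y'⁻¹).left.base (IsLocalRing.closedPoint (IsLocalRing.ResidueField R')) ∈ SGA3x.neutralSet N' → y' ^ p ≠ 1)
    (x : (Over.mk (Spec.map (CommRingCat.ofHom (IsLocalRing.residue R)))) ⟶ W) (hxp : (x ^ p).left.base (IsLocalRing.closedPoint (IsLocalRing.ResidueField R)) ∈ SGA3x.neutralSet W)
    (hx : x.left.base (IsLocalRing.closedPoint (IsLocalRing.ResidueField R)) ∉ SGA3x.neutralSet W)
    (y : (Over.mk (Spec.map (CommRingCat.ofHom (IsLocalRing.residue R)))) ⟶ W) (hy : (x * y⁻¹).left.base (IsLocalRing.closedPoint (IsLocalRing.ResidueField R)) ∈ SGA3x.neutralSet W) :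
    y ^ p ≠ 1 := by
  obtain ⟨D⟩ := WeilComp27.exists_red R R'
  haveI : IsLocalHom (algebraMap R R') := Algebra.IsIntegral.isLocalHom R R'
  intro hyp
  have red : ∀ w, (WeilComp27.redHom q w).left.base (IsLocalRing.closedPoint (IsLocalRing.ResidueField R')) ∈
      SGA3x.neutralSet N' ↔ WeilComp27.loc w ∈ SGA3x.neutralSet W := fun w =>
    (iff_of_eq (congrArg (· ∈ SGA3x.neutralSet N') (WeilComp27.redPt_apply D w))).trans
      (WeilComp27.loc_mem_neutralSet_iff D hW w).symm
  refine htns (WeilComp27.redHom q x) ?_ (fun h => hx ((red x).1 h)) (WeilComp27.redHom q y) ?_
    ((map_pow (WeilComp27.redHom q) _ p).symm.trans ((congrArg (WeilComp27.redHom q) hyp).trans (map_one _)))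
  · rw [← map_pow]; exact (red _).2 hxp
  · rw [← map_inv, ← map_mul]; exact (red _).2 hy

end Groth.Agent.S15783
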