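import Groth.Statements.S15784

set_option autoImplicit false
universe u
open Neron

namespace Groth.Agent.S15784

/-- Let O be a discrete valuation ring with fraction field L and uniformizer ϖ', let ϖ be an element of
the maximal ideal of O, let q = u·ϖ'^n with u a unit of O and n ≥ 1, and let m ≥ 1 be a divisor of
n. Then the following are equivalent: (i) there is a nonzero element z = w·ϖ'^a of L, with w a unit
of O and a an integer congruent to n/m modulo n, and an integer j such that z^m·q^j lies in 1 + ϖO;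
(ii) ϖ'^n/q is an m-th power in the group of units of O/ϖO, that is, u·(y^m + ϖ·r) = 1 for some y, r
∈ O. (The published statement phrases (i) geometrically, as the existence of a point of order m in
the special fibre of the Néron model of the Weil restriction of the Tate curve with parameter q from
L down to a subfield over which L is totally ramified with ϖ a uniformizer of the subfield, whose
image in the component group also has order m; this row states the equivalence between (i) and (ii)
that the printed argument establishes.) -/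
theorem result
    (O : Type u) [CommRing O] [IsDomain O] [IsDiscreteValuationRing O]
    (L : Type u) [Field L] [Algebra O L] [IsFractionRing O L]
    (ϖ' : O) (hϖ' : Irreducible ϖ') (ϖ : O) (hϖ : ϖ ∈ IsLocalRing.maximalIdeal O)
    (n : ℕ) (hn : 1 ≤ n) (u : Oˣ) (q : O) (hq : q = u * ϖ' ^ n)
    (m : ℕ) (hm : 1 ≤ m) (hmn : m ∣ n) :
    (∃ (w : Oˣ) (a j t : ℤ) (r : O), a = (n / m : ℕ) + t * n ∧
        (algebraMap O L w * algebraMap O L ϖ' ^ a) ^ m * algebraMap O L q ^ j = algebraMap O L (1 + ϖ * r)) ↔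
      ∃ y r : O, (u : O) * (y ^ m + ϖ * r) = 1 := by
  have hπ : algebraMap O L ϖ' ≠ 0 := fun h => hϖ'.ne_zero (IsFractionRing.injective O L (h.trans (map_zero _).symm))
  set π := algebraMap O L ϖ'
  let f : Oˣ →* Lˣ := Units.map (algebraMap O L : O →* L)
  have hq' : algebraMap O L q = (f u : L) * π ^ (n : ℤ) := by rw [hq, map_mul, map_pow, zpow_natCast]; rfl
  obtain ⟨c, hc⟩ := hmn
  have hdiv : n / m = c := by rw [hc]; exact Nat.mul_div_cancel_left _ (by omega)
  have hexp : ∀ (w : Oˣ) (a j : ℤ), (algebraMap O L w * π ^ a) ^ m * algebraMap O L q ^ j =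
      ((f (w ^ m * u ^ j) : Lˣ) : L) * π ^ (a * m + n * j) := by
    intro w a j
    rw [hq', mul_pow, mul_zpow, ← zpow_natCast (π ^ a), ← zpow_mul, ← zpow_mul, zpow_add₀ hπ, map_mul, map_pow,
      map_zpow, Units.val_mul, Units.val_pow_eq_pow_val, Units.val_zpow_eq_zpow_val]
    show _ = (algebraMap O L w) ^ m * _ * _
    ring
  constructor
  · rintro ⟨w, a, j, t, r, ha, h⟩
    have hunit : IsUnit (1 + ϖ * r) := IsLocalRing.notMem_maximalIdeal.1 fun hm' => by
      have := (IsLocalRing.maximalIdeal O).sub_mem hm' (Ideal.mul_mem_right r _ hϖ)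
      rw [add_sub_cancel_right] at this
      exact (IsLocalRing.maximalIdeal.isMaximal O).ne_top ((Ideal.eq_top_iff_one _).2 this)
    obtain ⟨v, hv⟩ := hunit
    rw [hexp, ← hv] at h
    have he : a * m + n * j = 0 := by
      set e := a * (m : ℤ) + n * j
      have hpe : π ^ e = ((f (v * (w ^ m * u ^ j)⁻¹) : Lˣ) : L) := by
        rw [map_mul, map_inv, Units.val_mul, Units.val_inv_eq_inv_val]
        field_simp
        rw [mul_comm]; exact h
      have aux : ∀ (d : ℕ) (z : Oˣ), π ^ d = ((f z : Lˣ) : L) → d = 0 := by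
        intro d z hz
        have hz' : ϖ' ^ d = z := IsFractionRing.injective O L (by rw [map_pow]; exact hz)
        by_contra hd
        exact hϖ'.not_isUnit ((isUnit_pow_iff hd).1 (hz' ▸ z.isUnit))
      rcases e.eq_nat_or_neg with ⟨d, hd | hd⟩
      · rw [hd, zpow_natCast] at hpe
        rw [hd, aux d _ hpe]; rfl
      · rw [hd, _root_.zpow_neg, zpow_natCast] at hpe
        have := aux d (v * (w ^ m * u ^ j)⁻¹)⁻¹ (by rw [map_inv, Units.val_inv_eq_inv_val, ← hpe, inv_inv])
        rw [hd, this]; rfl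
    rw [he, zpow_zero, mul_one] at h
    have hv' : w ^ m * u ^ j = v := Units.ext (IsFractionRing.injective O L h)
    have hj : j = -1 - t * m := by
      rw [ha, hdiv, hc] at he
      push_cast at he
      have hn0 : ((m * c : ℕ) : ℤ) ≠ 0 := by exact_mod_cast (by omega : m * c ≠ 0)
      push_cast at hn0
      have := (mul_eq_zero.1 (show ((m : ℤ) * c) * (1 + t * m + j) = 0 by linear_combination he)).resolve_left hn0
      linarith
    refine ⟨↑(w * u ^ (-t))⁻¹, ↑((w * u ^ (-t))⁻¹ ^ m) * r, ?_⟩
    have key : u * ((w * u ^ (-t))⁻¹ ^ m * v) = 1 := by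
      rw [← hv', hj, inv_pow, mul_pow, mul_inv, ← zpow_natCast (u ^ (-t)), ← zpow_mul, ← _root_.zpow_neg,
        mul_mul_mul_comm, inv_mul_cancel, one_mul, ← zpow_add, ← zpow_one_add,
        show (1 : ℤ) + (-(-t * (m : ℤ)) + (-1 - t * m)) = 0 by ring, zpow_zero]
    have key' := congrArg (fun x : Oˣ => (x : O)) key
    simp only [Units.val_mul, Units.val_pow_eq_pow_val, Units.val_one, hv] at key' ⊢
    linear_combination key'
  · rintro ⟨y, r, h⟩
    have hy : IsUnit y := by
      have hyr : IsUnit (y ^ m + ϖ * r) := IsUnit.of_mul_eq_one (u : O) (by rw [mul_comm]; exact h)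
      by_contra hy
      have hym : y ∈ IsLocalRing.maximalIdeal O := hy
      exact ((IsLocalRing.maximalIdeal O).add_mem ((IsLocalRing.maximalIdeal O).pow_mem_of_mem hym m (by omega))
        (Ideal.mul_mem_right r _ hϖ) : y ^ m + ϖ * r ∈ IsLocalRing.maximalIdeal O) hyr
    obtain ⟨y, rfl⟩ := hy
    refine ⟨y⁻¹, (n / m : ℕ), -1, 0, r * ↑(y⁻¹ ^ m), by ring, ?_⟩
    have hval : ((n / m : ℕ) : ℤ) * m + n * (-1) = 0 := by rw [hdiv, hc]; push_cast; ring
    rw [hexp, hval, zpow_zero, mul_one]
    show algebraMap O L ((y⁻¹ ^ m * u ^ (-1 : ℤ) : Oˣ) : O) = _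
    congr 1
    have h3 : (↑(y⁻¹ ^ m) : O) * (y : O) ^ m = 1 := by
      rw [← Units.val_pow_eq_pow_val, ← Units.val_mul, ← mul_pow, inv_mul_cancel, one_pow, Units.val_one]
    have h4 : ((u ^ (-1 : ℤ) : Oˣ) : O) * u = 1 := by rw [zpow_neg_one, Units.inv_mul]
    rw [Units.val_mul]
    linear_combination -(↑(y⁻¹ ^ m) * ((u ^ (-1 : ℤ) : Oˣ) : O)) * h + ((↑(y⁻¹ ^ m) : O) * (y : O) ^ m + ↑(y⁻¹ ^ m) * ϖ * r) * h4 + h3

end Groth.Agent.S15784
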