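import Groth.Statements.S15789
import Mathlib
import Groth.Prelude
import Groth.Agent.WildAS.Basic
import Groth.Agent.CommAlg4.ASAut

set_option linter.all false

set_option autoImplicit false
universe u
open WildQuot

open MvPolynomial

namespace Groth.Agent.S15789

open MvPolynomial in
/-- Let `k` be a field of characteristic `p > 0`, `n ≥ 2`, `R = k[[x_1, …, x_n]]`, `a_1, …, a_n ∈ R`
nonzero with zero constant term, and `A = R[u_1, …, u_n] / (u_i ^ p - a_i ^ (p-1) u_i - x_i : i =
1..n)`. Then the group of `R`-algebra automorphisms of `A` has exactly `p ^ n` elements, is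
commutative and every element has `p`-th power the identity (it is the elementary abelian group
generated by the substitutions `u_i ↦ u_i + a_i`), and an element of `A` is fixed by every
`R`-algebra automorphism if and only if it comes from `R`. (The published statement says that
`Frac(A)/Frac(R)` is Galois with group `(ℤ/pℤ)^n` and `R = A^H`; this row states it through the
`R`-algebra automorphisms of `A`.) -/
theorem result
    (p : ℕ) [Fact p.Prime] (k : Type u) [Field k] [CharP k p] (n : ℕ) (hn : 2 ≤ n)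
    (a : Fin n → MvPowerSeries (Fin n) k)
    (ha0 : ∀ i, a i ≠ 0) (ham : ∀ i, MvPowerSeries.constantCoeff (a i) = 0) :
    let R := MvPowerSeries (Fin n) k
    let I : Ideal (MvPolynomial (Fin n) R) :=
      Ideal.span (Set.range fun i : Fin n =>
        X i ^ p - C (a i ^ (p - 1)) * X i - C (MvPowerSeries.X i))
    Nat.card ((MvPolynomial (Fin n) R ⧸ I) ≃ₐ[R] (MvPolynomial (Fin n) R ⧸ I)) = p ^ n ∧
      (∀ σ τ : (MvPolynomial (Fin n) R ⧸ I) ≃ₐ[R] (MvPolynomial (Fin n) R ⧸ I), σ * τ = τ * σ) ∧
      (∀ σ : (MvPolynomial (Fin n) R ⧸ I) ≃ₐ[R] (MvPolynomial (Fin n) R ⧸ I), σ ^ p = 1) ∧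
      (∀ b : MvPolynomial (Fin n) R ⧸ I,
        (∀ σ : (MvPolynomial (Fin n) R ⧸ I) ≃ₐ[R] (MvPolynomial (Fin n) R ⧸ I), σ b = b) ↔
          b ∈ Set.range (algebraMap R (MvPolynomial (Fin n) R ⧸ I))) := by
  intro R I
  let x : Fin n → R := fun i => MvPowerSeries.X i
  have hp := (Fact.out : p.Prime).two_le
  have hc : ∀ i, MvPowerSeries.constantCoeff (Groth.Agent.CommAlg4.ASAut.cs p a i) = 0 := fun i => by
    rw [Groth.Agent.CommAlg4.ASAut.cs, map_pow, ham, zero_pow (by omega)]
  haveI : CharP R p := charP_of_injective_ringHom (f := MvPowerSeries.C) MvPowerSeries.C_injective p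
  haveI : IsDomain (Groth.Agent.CommAlg4.ASAut.A p a x) := Groth.Agent.WildAS.isDomain (Groth.Agent.CommAlg4.ASAut.cs p a) hp hc
  have hinj := Groth.Agent.WildAS.injective (Groth.Agent.CommAlg4.ASAut.cs p a) x hp
  have hb := Groth.Agent.CommAlg4.ASAut.transEquiv_bijective p a x hinj ha0
  let E := Equiv.ofBijective _ hb
  refine ⟨?_, ?_, ?_, fun b => ⟨fun h => ?_, ?_⟩⟩
  · exact (Nat.card_congr E).symm.trans (by simp [Nat.card_eq_fintype_card, ZMod.card])
  · intro σ τ
    obtain ⟨d, rfl⟩ := hb.2 σ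
    obtain ⟨d', rfl⟩ := hb.2 τ
    exact ((Groth.Agent.CommAlg4.ASAut.transEquiv_add p a x d d').symm.trans (congrArg _ (add_comm d d'))).trans
      (Groth.Agent.CommAlg4.ASAut.transEquiv_add p a x d' d)
  · intro σ
    obtain ⟨d, rfl⟩ := hb.2 σ
    exact ((Groth.Agent.CommAlg4.ASAut.transEquiv_nsmul p a x d p).symm.trans
      (congrArg _ (funext fun i => by simp))).trans (Groth.Agent.CommAlg4.ASAut.transEquiv_zero p a x)
  · exact Groth.Agent.CommAlg4.ASAut.mem_range_of_fixed p a x hinj ha0 b fun d => h (Groth.Agent.CommAlg4.ASAut.transEquiv p a x d)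
  · rintro ⟨r, rfl⟩ σ
    exact σ.commutes r

end Groth.Agent.S15789
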