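import Groth.Statements.S15791
import Mathlib.RingTheory.Length
import Mathlib.RingTheory.SimpleModule.Basic

set_option autoImplicit false
universe u v
open WildQuot

namespace Groth.Agent.S15791

/-- Length is subadditive in a product of generators. -/
theorem length_mul_le {A : Type u} [CommRing A] (J : Ideal A) (x y : A) :
    Module.length A (A ⧸ (J ⊔ Ideal.span {x * y})) ≤
      Module.length A (A ⧸ (J ⊔ Ideal.span {x})) + Module.length A (A ⧸ (J ⊔ Ideal.span {y})) := by
  let J' := J ⊔ Ideal.span {x * y}
  let f : (A ⧸ (J ⊔ Ideal.span {y})) →ₗ[A] A ⧸ J' :=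
    Submodule.mapQ (J ⊔ Ideal.span {y}) J' (LinearMap.mulLeft A x) (sup_le
      (fun z hz => Submodule.mem_sup_left (J.mul_mem_left x hz))
      ((Ideal.span_singleton_le_iff_mem _).mpr
        (Submodule.mem_sup_right (Ideal.mem_span_singleton_self _))))
  let g : (A ⧸ J') →ₗ[A] A ⧸ (J ⊔ Ideal.span {x}) :=
    Submodule.mapQ J' (J ⊔ Ideal.span {x}) LinearMap.id (sup_le
      (fun z hz => Submodule.mem_sup_left hz)
      ((Ideal.span_singleton_le_iff_mem _).mpr
        (Submodule.mem_sup_right (Ideal.mem_span_singleton.mpr (dvd_mul_right x y)))))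
  have hg : Function.Surjective g := fun z => by
    obtain ⟨a, rfl⟩ := Submodule.Quotient.mk_surjective _ z
    exact ⟨Submodule.Quotient.mk a, rfl⟩
  have hex : Function.Exact (LinearMap.range f).subtype g := by
    refine fun z => ⟨fun hz => ?_, ?_⟩
    · obtain ⟨a, rfl⟩ := Submodule.Quotient.mk_surjective _ z
      change Submodule.Quotient.mk a = 0 at hz
      rw [Submodule.Quotient.mk_eq_zero] at hz
      obtain ⟨j, hj, c, hc, rfl⟩ := Submodule.mem_sup.mp hz
      obtain ⟨b, rfl⟩ := Ideal.mem_span_singleton.mp hc
      refine ⟨⟨_, Submodule.Quotient.mk b, rfl⟩, (Submodule.Quotient.eq J').mpr ?_⟩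
      refine Submodule.mem_sup_left ?_
      simpa using J.neg_mem hj
    · rintro ⟨⟨_, w, rfl⟩, rfl⟩
      obtain ⟨b, rfl⟩ := Submodule.Quotient.mk_surjective _ w
      change Submodule.Quotient.mk (x * b) = 0
      exact (Submodule.Quotient.mk_eq_zero _).mpr (Submodule.mem_sup_right
        (Ideal.mem_span_singleton.mpr (dvd_mul_right x b)))
  rw [Module.length_eq_add_of_exact _ _ (LinearMap.range f).injective_subtype hg hex, add_comm]
  gcongr
  exact Module.length_le_of_surjective f.rangeRestrict f.surjective_rangeRestrict

theorem length_prod_le {A : Type u} [CommRing A] {ι : Type*} (J : Ideal A) (s : Finset ι) (a : ι → A)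
    (B : ℕ∞) (h : ∀ i ∈ s, Module.length A (A ⧸ (J ⊔ Ideal.span {a i})) ≤ B) :
    Module.length A (A ⧸ (J ⊔ Ideal.span {∏ i ∈ s, a i})) ≤ s.card * B := by
  classical
  induction s using Finset.induction_on with
  | empty =>
    rw [Finset.prod_empty, Ideal.span_singleton_one, sup_top_eq]
    simp
  | insert i s hi ih =>
    rw [Finset.prod_insert hi, Finset.card_insert_of_notMem hi, Nat.cast_succ, add_one_mul,
      add_comm ((s.card : ℕ∞) * B)]
    exact (length_mul_le J _ _).trans (add_le_add (h i (Finset.mem_insert_self i s))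
      (ih fun k hk => h k (Finset.mem_insert_of_mem hk)))

/-- Let `A` be a regular local ring of Krull dimension `n` with maximal ideal `m`, let a finite group
`G` of order `g` act on `A` by ring automorphisms, and let `u_1, …, u_n` be an admissible regular
system of parameters: for every choice `σ_1, …, σ_n ∈ G`, the elements `σ_1 u_1, …, σ_n u_n`
generate `m`. With `x_i = ∏_{σ ∈ G} σ u_i` the norms, the length of `A / (x_1, …, x_n)` is at most
`g ^ n`. (The published statement is for a complete regular local ring containing a `G`-fixed field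
of representatives and asserts that the length equals `g ^ n`; this row states the upper bound for
any regular local ring.) -/
theorem result
    (A : Type u) [CommRing A] [IsRegularLocalRing A]
    (G : Type v) [Group G] [Fintype G] [MulSemiringAction G A]
    (n : ℕ) (hn : ringKrullDim A = n) (u : Fin n → A)
    (hu : ∀ τ : Fin n → G,
      Ideal.span (Set.range fun i => τ i • u i) = IsLocalRing.maximalIdeal A) :
    Module.length A (A ⧸ Ideal.span (Set.range fun i => ∏ σ : G, σ • u i)) ≤
      (Fintype.card G ^ n : ℕ) := by
  classical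
  let x : Fin n → A := fun i => ∏ σ : G, σ • u i
  let F : Finset (Fin n) → (Fin n → G) → Ideal A := fun T τ =>
    Ideal.span (Set.range fun i => if i ∈ T then x i else τ i • u i)
  suffices key : ∀ T : Finset (Fin n), ∀ τ : Fin n → G,
      Module.length A (A ⧸ F T τ) ≤ (Fintype.card G ^ T.card : ℕ) by
    have h := key Finset.univ 1
    have e : F Finset.univ 1 = Ideal.span (Set.range x) :=
      congrArg (fun f : Fin n → A => Ideal.span (Set.range f)) (funext fun i => if_pos (Finset.mem_univ i))
    rw [e, Finset.card_univ, Fintype.card_fin] at h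
    exact h
  intro T
  induction T using Finset.induction_on with
  | empty =>
    intro τ
    have e : F ∅ τ = IsLocalRing.maximalIdeal A := by simpa [F] using hu τ
    rw [e]
    haveI : IsSimpleModule A (A ⧸ IsLocalRing.maximalIdeal A) :=
      isSimpleModule_iff_isCoatom.mpr (IsLocalRing.maximalIdeal.isMaximal A).out
    simp [Module.length_eq_one]
  | insert j T hj ih =>
    intro τ
    let J : Ideal A := Ideal.span (Set.range fun i : {i : Fin n // i ≠ j} =>
      if (i : Fin n) ∈ T then x i else τ i • u i)
    have hF : ∀ (S : Finset (Fin n)) (τ' : Fin n → G), (∀ i, i ≠ j → (i ∈ S ↔ i ∈ T) ∧ τ' i = τ i) →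
        F S τ' = J ⊔ Ideal.span {if j ∈ S then x j else τ' j • u j} := by
      intro S τ' h
      refine le_antisymm (Ideal.span_le.mpr ?_) (sup_le (Ideal.span_le.mpr ?_)
        ((Ideal.span_singleton_le_iff_mem _).mpr (Ideal.subset_span ⟨j, rfl⟩)))
      · rintro _ ⟨i, rfl⟩
        rcases eq_or_ne i j with rfl | hij
        · exact Submodule.mem_sup_right (Ideal.mem_span_singleton_self _)
        · refine Submodule.mem_sup_left (Ideal.subset_span ⟨⟨i, hij⟩, ?_⟩)
          simp [(h i hij).1, (h i hij).2]
      · rintro _ ⟨⟨i, hij⟩, rfl⟩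
        exact Ideal.subset_span ⟨i, by simp [(h i hij).1, (h i hij).2]⟩
    rw [hF (insert j T) τ (fun i hij => ⟨by simp [hij], rfl⟩), if_pos (Finset.mem_insert_self j T),
      Finset.card_insert_of_notMem hj, pow_succ', Nat.cast_mul]
    refine length_prod_le J Finset.univ (fun σ => σ • u j) _ fun σ _ => ?_
    have hσ := hF T (Function.update τ j σ) (fun i hij => ⟨Iff.rfl, by simp [hij]⟩)
    rw [if_neg hj, Function.update_self] at hσ
    rw [← hσ]
    exact ih _

end Groth.Agent.S15791
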