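import Groth.Statements.S15793
import Mathlib
import Groth.Prelude
import Groth.Agent.CAlgH3.RegularCore
import Groth.Agent.CommAlg4.InvRing

set_option linter.all false

set_option autoImplicit false
universe u v w
open WildQuot

open Groth.Agent IsLocalRing

namespace Groth.Agent.S15793

/-- Let `A` be a complete regular local ring of Krull dimension at least `2` and prime characteristic
`p`, with maximal ideal `m`; let `k` be a field with a ring map `k → A` whose composite with `A →
A/m` is onto (a field of representatives); let `G` be a group of order `p` acting on `A` by ring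
automorphisms that fix the image of `k`, ramified precisely at the origin: for every prime `P ≠ m`,
the inertia subgroup of `P` (the elements of `G` fixing every element of `A` modulo `P`) is trivial.
Then no element of `m` outside `m ^ 2` is fixed by every element of `G`; in particular the action is
not linear in any regular system of parameters. -/
theorem result
    (p : ℕ) [Fact p.Prime] (A : Type u) [CommRing A] [IsRegularLocalRing A] [CharP A p]
    [IsAdicComplete (IsLocalRing.maximalIdeal A) A] (hdim : 2 ≤ ringKrullDim A)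
    (k : Type v) [Field k] [Algebra k A]
    (hk : Function.Surjective (IsLocalRing.residue A ∘ algebraMap k A))
    (G : Type w) [Group G] [Finite G] [MulSemiringAction G A] (hcard : Nat.card G = p)
    (hGk : ∀ (σ : G) (c : k), σ • algebraMap k A c = algebraMap k A c)
    (hram : ∀ P : Ideal A, P.IsPrime → P ≠ IsLocalRing.maximalIdeal A → P.inertia G = ⊥)
    (v : A) (hv : v ∈ IsLocalRing.maximalIdeal A) (hv2 : v ∉ IsLocalRing.maximalIdeal A ^ 2) :
    ∃ σ : G, σ • v ≠ v := by
  classical
  by_contra hfix
  push Not at hfix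
  have hp := (Fact.out : p.Prime).one_lt
  haveI : Nontrivial G := Finite.one_lt_card_iff_nontrivial.1 (by omega)
  obtain ⟨σ, hσ⟩ := exists_ne (1 : G)
  haveI : IsRegularLocalRing (A ⧸ Ideal.span {v}) := (CAlgH3.regular_quotient_of_notMem_sq hv hv2).1
  have hsf := CAlgH3.spanFinrank_quotient_add_one hv hv2
  set π := Ideal.Quotient.mk (Ideal.span {v}) with hπ
  obtain ⟨s, hscard, hs⟩ := (IsNoetherian.noetherian (maximalIdeal (A ⧸ Ideal.span {v}))).exists_span_finset_card_eq_spanFinrank
  choose lift hlift using fun y : A ⧸ Ideal.span {v} => Ideal.Quotient.mk_surjective y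
  let T : Finset A := insert v (s.image lift)
  have hT : Ideal.span (T : Set A) = maximalIdeal A := by
    have h1 : (maximalIdeal (A ⧸ Ideal.span {v})).comap π = maximalIdeal A :=
      IsLocalRing.eq_maximalIdeal (Ideal.comap_isMaximal_of_surjective π Ideal.Quotient.mk_surjective)
    rw [← h1, ← hs]
    have himg : π '' (lift '' (s : Set (A ⧸ Ideal.span {v}))) = (s : Set _) := by
      rw [← Set.image_comp]; exact (Set.image_congr fun y _ => hlift y).trans (Set.image_id' _)
    conv_rhs => rw [Ideal.submodule_span_eq, ← himg, ← Ideal.map_span, Ideal.comap_map_of_surjective π Ideal.Quotient.mk_surjective,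
      ← RingHom.ker_eq_comap_bot, Ideal.mk_ker]
    simp only [T, Finset.coe_insert, Finset.coe_image]
    rw [Ideal.span_insert, sup_comm]
  let J : Ideal A := Ideal.span (↑(s.image fun y => σ • lift y - lift y) : Set A)
  have key : ∀ (N : ℕ) a, σ • a - a ∈ J ⊔ maximalIdeal A ^ N := by
    intro N
    induction N with
    | zero => intro a; rw [pow_zero, Ideal.one_eq_top, sup_top_eq]; trivial
    | succ N ih =>
      intro a
      obtain ⟨c, hc⟩ := hk (residue A a)
      have h1 : a - algebraMap k A c ∈ Ideal.span (T : Set A) := by rw [hT]; exact Ideal.Quotient.eq.1 hc.symm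
      obtain ⟨f, hf⟩ := Submodule.mem_span_finset'.1 h1
      have h2 : σ • a - a = σ • (a - algebraMap k A c) - (a - algebraMap k A c) := by rw [smul_sub, hGk]; ring
      rw [h2, ← hf, Finset.smul_sum, ← Finset.sum_sub_distrib]
      refine Ideal.sum_mem _ fun t _ => ?_
      simp only [smul_eq_mul, smul_mul']
      have htT : (t : A) ∈ maximalIdeal A := hT ▸ Ideal.subset_span t.2
      have h3 : σ • (t : A) - (t : A) ∈ J := by
        rcases Finset.mem_insert.1 t.2 with h | h
        · rw [h, hfix σ, sub_self]; exact zero_mem _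
        · obtain ⟨y, hy, hyt⟩ := Finset.mem_image.1 h
          rw [← hyt]
          exact Ideal.subset_span (Finset.mem_coe.2 (Finset.mem_image.2 ⟨y, hy, rfl⟩))
      have h4 : σ • f t * σ • (t : A) - f t * t = σ • f t * (σ • (t : A) - t) + (σ • f t - f t) * t := by ring
      rw [h4]
      refine add_mem (Submodule.mem_sup_left (J.mul_mem_left _ h3)) ?_
      obtain ⟨j, hj, m, hm, hjm⟩ := Submodule.mem_sup.1 (ih (f t))
      rw [← hjm, add_mul]
      exact add_mem (Submodule.mem_sup_left (J.mul_mem_right _ hj)) (Submodule.mem_sup_right (by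
        rw [pow_succ]; exact Ideal.mul_mem_mul hm htT))
  have hJm : J ≤ maximalIdeal A := Ideal.span_le.2 fun z hz => by
    obtain ⟨y, hy, rfl⟩ := Finset.mem_image.1 hz
    have hy' : lift y ∈ maximalIdeal A := hT ▸ Ideal.subset_span (Finset.mem_coe.2 (Finset.mem_insert_of_mem (Finset.mem_image_of_mem _ hy)))
    exact sub_mem (CommAlg4.InvRing.smul_mem_maximalIdeal σ hy') hy'
  have hmem : ∀ a, σ • a - a ∈ J := fun a => by
    haveI : Nontrivial (A ⧸ J) := Ideal.Quotient.nontrivial_iff.2 fun h => (maximalIdeal.isMaximal A).ne_top (top_le_iff.1 (h ▸ hJm))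
    haveI : IsLocalRing (A ⧸ J) := .of_surjective' (Ideal.Quotient.mk J) Ideal.Quotient.mk_surjective
    have h1 : Ideal.Quotient.mk J (σ • a - a) ∈ ⨅ N : ℕ, (maximalIdeal A).map (Ideal.Quotient.mk J) ^ N := by
      refine (Submodule.mem_iInf _).2 fun N => ?_
      obtain ⟨j, hj, m, hm, hjm⟩ := Submodule.mem_sup.1 (key N a)
      rw [← hjm, map_add, Ideal.Quotient.eq_zero_iff_mem.2 hj, zero_add, ← Ideal.map_pow]
      exact Ideal.mem_map_of_mem _ hm
    have htop : (maximalIdeal A).map (Ideal.Quotient.mk J) ≠ ⊤ := fun h => (maximalIdeal.isMaximal A).ne_top (top_le_iff.1 (by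
      calc ⊤ = (⊤ : Ideal (A ⧸ J)).comap (Ideal.Quotient.mk J) := (Ideal.comap_top).symm
        _ ≤ maximalIdeal A := by
          rw [← h, Ideal.comap_map_of_surjective _ Ideal.Quotient.mk_surjective, ← RingHom.ker_eq_comap_bot, Ideal.mk_ker]
          exact sup_le le_rfl hJm))
    rw [Ideal.iInf_pow_eq_bot_of_isLocalRing _ htop, Ideal.mem_bot] at h1
    exact Ideal.Quotient.eq_zero_iff_mem.1 h1
  obtain ⟨P, hP, -⟩ := Ideal.exists_minimalPrimes_le (I := J) (J := maximalIdeal A) hJm
  have hPne : P ≠ maximalIdeal A := fun e => by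
    have h1 : P.height ≤ (J.spanFinrank : ℕ∞) := by
      refine (Ideal.height_le_spanRank_toENat_of_mem_minimalPrimes J P hP).trans_eq ?_
      rw [Submodule.fg_iff_spanRank_eq_spanFinrank.mpr (IsNoetherian.noetherian J), map_natCast]
    have h2 : J.spanFinrank ≤ s.card := by
      refine (Submodule.spanFinrank_span_le_ncard_of_finite (Finset.finite_toSet _)).trans ?_
      rw [Set.ncard_coe_finset]; exact Finset.card_image_le
    have h3 := IsLocalRing.maximalIdeal_height_eq_ringKrullDim (R := A)
    rw [← IsRegularLocalRing.spanFinrank_maximalIdeal] at h3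
    rw [hscard] at h2
    have h4 : ((maximalIdeal A).spanFinrank : ℕ∞) ≤ (J.spanFinrank : ℕ∞) := by
      rw [← show (maximalIdeal A).height = ((maximalIdeal A).spanFinrank : ℕ∞) from WithBot.coe_inj.1 (h3.trans rfl), ← e]
      exact h1
    have := Nat.cast_le.1 h4
    omega
  have hin : σ ∈ P.inertia G := fun a => hP.1.2 (hmem a)
  rw [hram P hP.1.1 hPne] at hin
  exact hσ (Subgroup.mem_bot.1 hin)

end Groth.Agent.S15793
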