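import Groth.Statements.S15794
import Mathlib
import Groth.Prelude
import Groth.Agent.CommAlg4.GaloisFree
import Groth.Agent.CommAlg4.InvRing
import Groth.Agent.WildLib5.Coprod
import Groth.Agent.CAlgH3.RegularHom
import Groth.Agent.CAlgH3.Factorial
import Groth.Agent.DimLib.Algebra

set_option linter.all false

set_option autoImplicit false
universe u v w
open WildQuot

open Groth.Agent IsLocalRing

namespace Groth.Agent.S15794

theorem not_flat {p : ℕ} [Fact p.Prime] {A : Type u} [CommRing A] [IsRegularLocalRing A]
    [IsAdicComplete (maximalIdeal A) A] (hdim : 2 ≤ ringKrullDim A)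
    {k : Type v} [Field k] [Algebra k A] (hk : Function.Surjective (residue A ∘ algebraMap k A))
    {G : Type w} [Group G] [Finite G] [MulSemiringAction G A] (hcard : Nat.card G = p)
    (hGk : ∀ (σ : G) (c : k), σ • algebraMap k A c = algebraMap k A c)
    (hram : ∀ P : Ideal A, P.IsPrime → P ≠ maximalIdeal A → P.inertia G = ⊥) :
    ¬ Module.Flat (FixedPoints.subring A G) A := by
  intro hflat
  haveI : IsDomain A := CAlgH3.isDomain_of_isRegularLocalRing A
  obtain ⟨hN, hF, -⟩ := CommAlg4.InvRing.exists_param (A := A) (G := G) hk hGk
  haveI := CommAlg4.InvRing.isLocalRing (A := A) (G := G)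
  haveI : Module.Free (FixedPoints.subring A G) A :=
    Module.free_of_flat_of_isLocalRing (R := FixedPoints.subring A G) (P := A)
  haveI : SMulCommClass G (FixedPoints.subring A G) A := ⟨fun g b a => by
    show g • ((b : A) * a) = (b : A) * g • a
    rw [smul_mul', b.2 g]⟩
  have hinj : Function.Injective (algebraMap (FixedPoints.subring A G) A) := Subtype.val_injective
  have hsub := CommAlg4.GaloisFree.subsingleton_of_forall_inertia (R := FixedPoints.subring A G) (A := A) (H := G) hinj
    (fun a ha => ⟨⟨a, ha⟩, rfl⟩)
    (fun y => by
      obtain ⟨c, hc⟩ := hk y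
      exact ⟨⟨algebraMap k A c, fun σ => hGk σ c⟩, hc⟩)
    (fun q hq hq1 P hP hPq => hram P hP fun e => by
      haveI : Algebra.IsIntegral (FixedPoints.subring A G) A := Algebra.IsIntegral.of_finite _ _
      have hm : q = maximalIdeal (FixedPoints.subring A G) := by
        rw [← hPq, e]
        exact IsLocalRing.eq_maximalIdeal (Ideal.isMaximal_comap_of_isIntegral_of_isMaximal (R := FixedPoints.subring A G) (maximalIdeal A))
      have h1 := IsLocalRing.maximalIdeal_height_eq_ringKrullDim (R := FixedPoints.subring A G)
      rw [DimLib.ringKrullDim_eq_of_isIntegral hinj, ← hm] at h1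
      have h2 : ((2 : ℕ∞) : WithBot ℕ∞) ≤ ((1 : ℕ∞) : WithBot ℕ∞) :=
        (le_of_le_of_eq hdim h1.symm).trans (WithBot.coe_le_coe.2 hq1)
      exact absurd (WithBot.coe_le_coe.1 h2) (by decide))
  have : Nat.card G = 1 := Nat.card_eq_one_iff_unique.2 ⟨hsub, ⟨1⟩⟩
  exact (Fact.out : p.Prime).ne_one (hcard.symm.trans this)

/-- Let `A` be a complete regular local ring of Krull dimension at least `2` and prime characteristic
`p`, with maximal ideal `m`; let `k` be a field with a ring map `k → A` whose composite with `A →
A/m` is onto; let `G` be a group of order `p` acting on `A` by ring automorphisms fixing the image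
of `k` and ramified precisely at the origin (for every prime `P ≠ m`, the inertia subgroup of `P`
(the elements of `G` fixing every element modulo `P`) is trivial). Then `A` is not a flat module
over the ring of invariants `A^G`. (The published statement also asserts that `A^G ⊂ A` is local and
finite of degree `p` with trivial residue field extension; this row omits those clauses.) -/
theorem result
    (p : ℕ) [Fact p.Prime] (A : Type u) [CommRing A] [IsRegularLocalRing A] [CharP A p]
    [IsAdicComplete (IsLocalRing.maximalIdeal A) A] (hdim : 2 ≤ ringKrullDim A)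
    (k : Type v) [Field k] [Algebra k A]
    (hk : Function.Surjective (IsLocalRing.residue A ∘ algebraMap k A))
    (G : Type w) [Group G] [Finite G] [MulSemiringAction G A] (hcard : Nat.card G = p)
    (hGk : ∀ (σ : G) (c : k), σ • algebraMap k A c = algebraMap k A c)
    (hram : ∀ P : Ideal A, P.IsPrime → P ≠ IsLocalRing.maximalIdeal A → P.inertia G = ⊥) :
    ¬ Module.Flat (FixedPoints.subring A G) A := by
  exact not_flat hdim hk hcard hGk hram

end Groth.Agent.S15794
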