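import Groth.Statements.S15796
import Mathlib

set_option autoImplicit false
universe u v
open WildQuot

namespace Groth.Agent.S15796

/-- Let `A` be a Noetherian local ring of Krull dimension `n` whose maximal ideal `m` is generated by
`u_1, …, u_n`, and let a finite group `G` act on `A` by ring automorphisms. If some `σ ∈ G` maps
some `u_i` into the ideal generated by the `u_j` with `j ≠ i`, then the system `u` is not weakly
admissible: for some choice `σ_1, …, σ_n ∈ G` the radical of `(σ_1 u_1, …, σ_n u_n)` does not
contain `m`. (The published statement is for a linear action on `k[[u_1, …, u_n]]` whose matrix has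
a zero diagonal entry; this row assumes instead that some `σ u_i` lies in the ideal generated by the
other `u_j`.) -/
theorem result
    (A : Type u) [CommRing A] [IsLocalRing A] [IsNoetherianRing A]
    (G : Type v) [Group G] [Finite G] [MulSemiringAction G A]
    (n : ℕ) (hn : ringKrullDim A = n) (u : Fin n → A)
    (hu : Ideal.span (Set.range u) = IsLocalRing.maximalIdeal A)
    (σ : G) (i : Fin n) (hσ : σ • u i ∈ Ideal.span (u '' {j | j ≠ i})) :
    ∃ τ : Fin n → G,
      ¬ IsLocalRing.maximalIdeal A ≤ (Ideal.span (Set.range fun j => τ j • u j)).radical := by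
  classical
  refine ⟨Function.update (fun _ => (1 : G)) i σ, fun h => ?_⟩
  let s : Finset A := (Finset.univ.erase i).image u
  have hle : Ideal.span (Set.range fun j => Function.update (fun _ => (1 : G)) i σ j • u j)
      ≤ Ideal.span (s : Set A) := by
    rw [Ideal.span_le]
    rintro _ ⟨j, rfl⟩
    by_cases hj : j = i
    · subst hj
      simp only [Function.update_self]
      refine Ideal.span_mono ?_ hσ
      rintro _ ⟨l, hl, rfl⟩
      exact Finset.mem_coe.mpr (Finset.mem_image_of_mem _ (Finset.mem_erase.mpr ⟨hl, Finset.mem_univ _⟩))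
    · simp only [Function.update_of_ne hj, one_smul]
      exact Ideal.subset_span (Finset.mem_coe.mpr (Finset.mem_image_of_mem _
        (Finset.mem_erase.mpr ⟨hj, Finset.mem_univ _⟩)))
  have hne : Ideal.span (s : Set A) ≠ ⊤ := by
    refine ne_top_of_le_ne_top (IsLocalRing.maximalIdeal.isMaximal A).ne_top ?_
    rw [← hu]
    refine Ideal.span_mono ?_
    intro z hz
    obtain ⟨l, _, rfl⟩ := Finset.mem_image.mp (Finset.mem_coe.mp hz)
    exact Set.mem_range_self l
  have hmin : IsLocalRing.maximalIdeal A ∈ (Ideal.span (s : Set A)).minimalPrimes := by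
    refine ⟨⟨inferInstance, IsLocalRing.le_maximalIdeal hne⟩, fun Q hQ _ => ?_⟩
    exact h.trans ((Ideal.radical_mono hle).trans (hQ.1.radical_le_iff.mpr hQ.2))
  have h1 := Ideal.height_le_card_of_mem_minimalPrimes_span_finset hmin
  have h2 : ((IsLocalRing.maximalIdeal A).height : WithBot ℕ∞) = n := by
    rw [IsLocalRing.maximalIdeal_height_eq_ringKrullDim, hn]
  have h3 : s.card ≤ n - 1 := Finset.card_image_le.trans (by simp)
  have h4 : (IsLocalRing.maximalIdeal A).height = (n : ℕ∞) := WithBot.coe_injective h2
  rw [h4] at h1
  have := i.2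
  have : n ≤ s.card := by exact_mod_cast h1
  omega

end Groth.Agent.S15796
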