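import Groth.Statements.S15797
import Mathlib
import Groth.Prelude
import Groth.Agent.CAlgH3.Parameters

set_option linter.all false

set_option autoImplicit false
universe u v
open WildQuot

open Groth.Agent

namespace Groth.Agent.S15797

theorem ringKrullDim_eq_zero_of_forall_isMaximal {B : Type u} [CommRing B] [Nontrivial B]
    (h : ∀ P : Ideal B, P.IsPrime → P.IsMaximal) : ringKrullDim B = 0 := by
  haveI : Ring.KrullDimLE 0 B := Ring.krullDimLE_zero_iff.2 h
  exact ringKrullDimZero_iff_ringKrullDim_eq_zero.1 inferInstance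

/-- Length is additive in a product of generators regular modulo the rest. -/
theorem length_mul_ge {A : Type u} [CommRing A] (J : Ideal A) (x y : A) (hx : IsSMulRegular (A ⧸ J) x) :
    Module.length A (A ⧸ (J ⊔ Ideal.span {x})) + Module.length A (A ⧸ (J ⊔ Ideal.span {y})) ≤
      Module.length A (A ⧸ (J ⊔ Ideal.span {x * y})) := by
  let J' := J ⊔ Ideal.span {x * y}
  let f : (A ⧸ (J ⊔ Ideal.span {y})) →ₗ[A] A ⧸ J' :=
    Submodule.mapQ (J ⊔ Ideal.span {y}) J' (LinearMap.mulLeft A x) (sup_le
      (fun z hz => Submodule.mem_sup_left (J.mul_mem_left x hz))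
      ((Ideal.span_singleton_le_iff_mem _).mpr
        (Submodule.mem_sup_right (Ideal.mem_span_singleton_self _))))
  let g : (A ⧸ J') →ₗ[A] A ⧸ (J ⊔ Ideal.span {x}) :=
    Submodule.mapQ J' (J ⊔ Ideal.span {x}) LinearMap.id (sup_le
      (fun z hz => Submodule.mem_sup_left hz)
      ((Ideal.span_singleton_le_iff_mem _).mpr
        (Submodule.mem_sup_right (Ideal.mem_span_singleton.mpr (dvd_mul_right x y)))))
  have hg : Function.Surjective g := fun z => by
    obtain ⟨a, rfl⟩ := Submodule.Quotient.mk_surjective _ z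
    exact ⟨Submodule.Quotient.mk a, rfl⟩
  have hf : Function.Injective f := by
    rw [← LinearMap.ker_eq_bot, eq_bot_iff]
    intro z hz
    obtain ⟨b, rfl⟩ := Submodule.Quotient.mk_surjective _ z
    rw [LinearMap.mem_ker] at hz
    change Submodule.Quotient.mk (x * b) = 0 at hz
    rw [Submodule.Quotient.mk_eq_zero] at hz
    obtain ⟨j, hj, c, hc, hjc⟩ := Submodule.mem_sup.1 hz
    obtain ⟨d, rfl⟩ := Ideal.mem_span_singleton.1 hc
    have hb : b - y * d ∈ J := by
      have h0 : x • (Ideal.Quotient.mk J (b - y * d)) = 0 := by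
        rw [← Ideal.Quotient.mk_eq_mk, ← Submodule.Quotient.mk_smul, Submodule.Quotient.mk_eq_zero]
        show x * (b - y * d) ∈ J
        rw [show x * (b - y * d) = j by linear_combination -hjc]
        exact hj
      exact Ideal.Quotient.eq_zero_iff_mem.1 (hx (show x • _ = x • (0 : A ⧸ J) by rw [h0, smul_zero]))
    rw [Submodule.mem_bot, Submodule.Quotient.mk_eq_zero, ← sub_add_cancel b (y * d)]
    exact add_mem (Submodule.mem_sup_left hb) (Submodule.mem_sup_right (Ideal.mem_span_singleton.2 (dvd_mul_right y d)))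
  have hex : Function.Exact f g := by
    refine fun z => ⟨fun hz => ?_, ?_⟩
    · obtain ⟨a, rfl⟩ := Submodule.Quotient.mk_surjective _ z
      change Submodule.Quotient.mk a = 0 at hz
      rw [Submodule.Quotient.mk_eq_zero] at hz
      obtain ⟨j, hj, c, hc, rfl⟩ := Submodule.mem_sup.mp hz
      obtain ⟨b, rfl⟩ := Ideal.mem_span_singleton.mp hc
      refine ⟨Submodule.Quotient.mk b, (Submodule.Quotient.eq J').mpr ?_⟩
      refine Submodule.mem_sup_left ?_
      simpa using J.neg_mem hj
    · rintro ⟨w, rfl⟩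
      obtain ⟨b, rfl⟩ := Submodule.Quotient.mk_surjective _ w
      change Submodule.Quotient.mk (x * b) = 0
      exact (Submodule.Quotient.mk_eq_zero _).mpr (Submodule.mem_sup_right
        (Ideal.mem_span_singleton.mpr (dvd_mul_right x b)))
  rw [Module.length_eq_add_of_exact f g hf hg hex, add_comm]

theorem length_prod_ge {A : Type u} [CommRing A] {ι : Type*} (J : Ideal A) (s : Finset ι) (a : ι → A)
    (B : ℕ∞) (hreg : ∀ i ∈ s, IsSMulRegular (A ⧸ J) (a i))
    (h : ∀ i ∈ s, B ≤ Module.length A (A ⧸ (J ⊔ Ideal.span {a i}))) :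
    s.card * B ≤ Module.length A (A ⧸ (J ⊔ Ideal.span {∏ i ∈ s, a i})) := by
  classical
  induction s using Finset.induction_on with
  | empty => simp
  | insert i s hi ih =>
    rw [Finset.prod_insert hi, Finset.card_insert_of_notMem hi, Nat.cast_succ, add_one_mul,
      add_comm ((s.card : ℕ∞) * B)]
    refine le_trans ?_ (length_mul_ge J _ _ (hreg i (Finset.mem_insert_self i s)))
    exact add_le_add (h i (Finset.mem_insert_self i s))
      (ih (fun k hk => hreg k (Finset.mem_insert_of_mem hk)) fun k hk => h k (Finset.mem_insert_of_mem hk))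

/-- Let `A` be a regular local ring of Krull dimension `n` with maximal ideal `m` generated by `u_1, …,
u_n`, let a finite group `G` of order `g` act on `A` by ring automorphisms, and suppose `u` is
weakly admissible: for every choice `σ_1, …, σ_n ∈ G` the radical of `(σ_1 u_1, …, σ_n u_n)`
contains `m`. With `x_i = ∏_{σ ∈ G} σ u_i` the norms, the length of `A / (x_1, …, x_n)` is at least
`g ^ n` (so the finite flat map from `k[[x_1, …, x_n]]` has degree at least `g ^ n`). (The published
statement is for a complete regular local ring containing a `G`-fixed field of representatives; this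
row does not assume those.) -/
theorem result
    (A : Type u) [CommRing A] [IsRegularLocalRing A]
    (G : Type v) [Group G] [Fintype G] [MulSemiringAction G A]
    (n : ℕ) (hn : ringKrullDim A = n) (u : Fin n → A)
    (hu : Ideal.span (Set.range u) = IsLocalRing.maximalIdeal A)
    (hwa : ∀ τ : Fin n → G,
      IsLocalRing.maximalIdeal A ≤ (Ideal.span (Set.range fun i => τ i • u i)).radical) :
    ((Fintype.card G ^ n : ℕ) : ℕ∞) ≤
      Module.length A (A ⧸ Ideal.span (Set.range fun i => ∏ σ : G, σ • u i)) := by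
  classical
  let x : Fin n → A := fun i => ∏ σ : G, σ • u i
  let g : Finset (Fin n) → (Fin n → G) → Fin n → A := fun T τ i => if i ∈ T then x i else τ i • u i
  have hmem : ∀ (σ : G) i, σ • u i ∈ IsLocalRing.maximalIdeal A := fun σ i => by
    rw [IsLocalRing.mem_maximalIdeal, mem_nonunits_iff]
    intro h
    have h2 : IsUnit ((MulSemiringAction.toRingHom G A σ⁻¹) (σ • u i)) := h.map _
    rw [MulSemiringAction.toRingHom_apply, inv_smul_smul] at h2
    exact (IsLocalRing.mem_maximalIdeal _).1 (hu ▸ Ideal.subset_span ⟨i, rfl⟩) h2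
  have hxmem : ∀ i, x i ∈ IsLocalRing.maximalIdeal A := fun i =>
    (IsLocalRing.maximalIdeal.isMaximal A).isPrime.prod_mem_iff.2 ⟨1, Finset.mem_univ _, hmem 1 i⟩
  have hgm : ∀ T τ i, g T τ i ∈ IsLocalRing.maximalIdeal A := fun T τ i => by
    by_cases h : i ∈ T <;> simp [g, h, hxmem, hmem]
  haveI := CAlgH3.isCohenMacaulayLocalRing_of_regular A
  have hdim0 : ∀ T τ, ringKrullDim (A ⧸ Ideal.span (Set.range (g T τ))) = 0 := fun T τ => by
    have hle : Ideal.span (Set.range (g T τ)) ≤ IsLocalRing.maximalIdeal A :=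
      Ideal.span_le.2 (by rintro _ ⟨i, rfl⟩; exact hgm T τ i)
    haveI : Nontrivial (A ⧸ Ideal.span (Set.range (g T τ))) := Ideal.Quotient.nontrivial_iff.2
      fun h => (IsLocalRing.maximalIdeal.isMaximal A).ne_top (top_le_iff.1 (h ▸ hle))
    refine (ringKrullDim_eq_zero_of_forall_isMaximal fun P hP => ?_)
    have hmax : IsLocalRing.maximalIdeal A ≤ P.comap (Ideal.Quotient.mk _) := by
      have : ∀ i, ∃ σ : G, σ • u i ∈ P.comap (Ideal.Quotient.mk _) := fun i => by
        have h : g T τ i ∈ P.comap (Ideal.Quotient.mk _) := by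
          rw [Ideal.mem_comap, Ideal.Quotient.eq_zero_iff_mem.2 (Ideal.subset_span (Set.mem_range_self i))]
          exact P.zero_mem
        by_cases hi : i ∈ T
        · simp only [g, if_pos hi, x] at h
          obtain ⟨σ, -, hσ⟩ := (Ideal.IsPrime.comap (Ideal.Quotient.mk _)).prod_mem_iff.1 h
          exact ⟨σ, hσ⟩
        · exact ⟨τ i, by simpa [g, if_neg hi] using h⟩
      choose τ' hτ' using this
      exact (hwa τ').trans ((Ideal.radical_mono (Ideal.span_le.2 (by rintro _ ⟨i, rfl⟩; exact hτ' i))).trans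
        (Ideal.IsPrime.comap (Ideal.Quotient.mk _)).radical.le)
    have heq := (IsLocalRing.maximalIdeal.isMaximal A).eq_of_le (Ideal.IsPrime.comap (Ideal.Quotient.mk _)).ne_top hmax
    rw [← Ideal.map_comap_of_surjective _ Ideal.Quotient.mk_surjective P, ← heq]
    exact (Ideal.map_eq_top_or_isMaximal_of_surjective _ Ideal.Quotient.mk_surjective (IsLocalRing.maximalIdeal.isMaximal A)).resolve_left
      (fun h => hP.ne_top (by rw [← Ideal.map_comap_of_surjective _ Ideal.Quotient.mk_surjective P, ← heq]; exact h))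
  have hreg : ∀ T τ j, IsSMulRegular (A ⧸ Ideal.span (g T τ '' ↑(Finset.univ.erase j))) (g T τ j) := fun T τ j =>
    CAlgH3.isSMulRegular_of_isSystemOfParameters (g T τ) (hgm T τ) (by rw [hn, Fintype.card_fin]) (hdim0 T τ) _ j
      (Finset.notMem_erase _ _)
  suffices key : ∀ T : Finset (Fin n), ∀ τ : Fin n → G,
      ((Fintype.card G ^ T.card : ℕ) : ℕ∞) ≤ Module.length A (A ⧸ Ideal.span (Set.range (g T τ))) by
    have h := key Finset.univ 1
    rwa [show g Finset.univ 1 = x from funext fun i => if_pos (Finset.mem_univ i), Finset.card_univ, Fintype.card_fin] at h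
  intro T
  induction T using Finset.induction_on with
  | empty =>
    intro τ
    rw [Finset.card_empty, pow_zero, Nat.cast_one]
    haveI : Nontrivial (A ⧸ Ideal.span (Set.range (g ∅ τ))) := Ideal.Quotient.nontrivial_iff.2
      fun h => (IsLocalRing.maximalIdeal.isMaximal A).ne_top (top_le_iff.1
        (h ▸ Ideal.span_le.2 (by rintro _ ⟨i, rfl⟩; exact hgm ∅ τ i)))
    exact Order.one_le_iff_pos.2 (Module.length_pos (R := A))
  | insert j T hj ih =>
    intro τ
    set J : Ideal A := Ideal.span (g T τ '' ↑(Finset.univ.erase j)) with hJ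
    have hF : ∀ (S : Finset (Fin n)) (τ' : Fin n → G), (∀ i, i ≠ j → (i ∈ S ↔ i ∈ T) ∧ τ' i = τ i) →
        g S τ' '' ↑(Finset.univ.erase j) = g T τ '' ↑(Finset.univ.erase j) ∧
        Ideal.span (Set.range (g S τ')) = J ⊔ Ideal.span {g S τ' j} := fun S τ' h => by
      have h1 : g S τ' '' ↑(Finset.univ.erase j) = g T τ '' ↑(Finset.univ.erase j) := Set.image_congr fun i hi => by
        have hij : i ≠ j := Finset.ne_of_mem_erase hi
        simp [g, (h i hij).1, (h i hij).2]
      refine ⟨h1, ?_⟩
      rw [hJ, ← h1, ← Ideal.span_union, ← Set.image_singleton (f := g S τ'), ← Set.image_union]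
      congr 1
      ext y; simp [em']
    rw [(hF (insert j T) τ (fun i hij => ⟨by simp [hij], rfl⟩)).2, Finset.card_insert_of_notMem hj, pow_succ',
      Nat.cast_mul, show g (insert j T) τ j = ∏ σ : G, σ • u j from if_pos (Finset.mem_insert_self j T), ← Finset.card_univ]
    refine length_prod_ge J Finset.univ (fun σ => σ • u j) _ (fun σ _ => ?_) (fun σ _ => ?_)
    · obtain ⟨h1, h2⟩ := hF T (Function.update τ j σ) (fun i hij => ⟨Iff.rfl, by simp [hij]⟩)
      have h3 := hreg T (Function.update τ j σ) j
      rw [h1, show g T (Function.update τ j σ) j = σ • u j by simp [g, hj]] at h3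
      exact h3
    · obtain ⟨h1, h2⟩ := hF T (Function.update τ j σ) (fun i hij => ⟨Iff.rfl, by simp [hij]⟩)
      rw [show σ • u j = g T (Function.update τ j σ) j by simp [g, hj], ← h2]
      exact ih _

end Groth.Agent.S15797
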