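import Groth.Statements.S15798
import Mathlib
import Groth.Prelude
import Groth.Agent.CommAlg4.GaloisFree
import Groth.Agent.CommAlg4.InvRing
import Groth.Agent.WildLib5.Coprod
import Groth.Agent.CAlgH3.RegularHom
import Groth.Agent.CAlgH3.Factorial
import Groth.Agent.DimLib.Algebra
import Groth.Agent.S15794

set_option linter.all false

set_option autoImplicit false
universe u v w
open WildQuot

open Groth.Agent IsLocalRing

namespace Groth.Agent.S15798

/-- Let `A` be a complete regular local ring of Krull dimension at least `2` and prime characteristic
`p`, with maximal ideal `m`; let `k` be a field with a ring map `k → A` whose composite with `A →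
A/m` is onto; let `G` be a group of order `p` acting on `A` by ring automorphisms fixing the image
of `k` and ramified precisely at the origin (for every prime `P ≠ m`, the inertia subgroup of `P`
(the elements of `G` fixing every element modulo `P`) is trivial). Then the invariant ring `A^G` is
Noetherian, `A` is a finite `A^G`-module, `A^G` is an integrally closed domain of the same Krull
dimension as `A`, `A^G` is complete and separated for the adic topology of `m ∩ A^G`, and `A^G` is
not a regular local ring. (The published statement also asserts that `A^G` has depth `2`, that the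
extension has degree `p`, and that the singular locus of `Spec A^G` is the closed point; this row
omits those clauses.) -/
theorem result
    (p : ℕ) [Fact p.Prime] (A : Type u) [CommRing A] [IsRegularLocalRing A] [CharP A p]
    [IsAdicComplete (IsLocalRing.maximalIdeal A) A] (hdim : 2 ≤ ringKrullDim A)
    (k : Type v) [Field k] [Algebra k A]
    (hk : Function.Surjective (IsLocalRing.residue A ∘ algebraMap k A))
    (G : Type w) [Group G] [Finite G] [MulSemiringAction G A] (hcard : Nat.card G = p)
    (hGk : ∀ (σ : G) (c : k), σ • algebraMap k A c = algebraMap k A c)
    (hram : ∀ P : Ideal A, P.IsPrime → P ≠ IsLocalRing.maximalIdeal A → P.inertia G = ⊥) :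
    IsNoetherianRing (FixedPoints.subring A G) ∧ Module.Finite (FixedPoints.subring A G) A ∧
      IsIntegrallyClosed (FixedPoints.subring A G) ∧
      ringKrullDim (FixedPoints.subring A G) = ringKrullDim A ∧
      IsAdicComplete (Ideal.comap (FixedPoints.subring A G).subtype (IsLocalRing.maximalIdeal A))
        (FixedPoints.subring A G) ∧
      ¬ IsRegularLocalRing (FixedPoints.subring A G) := by
  haveI : IsDomain A := CAlgH3.isDomain_of_isRegularLocalRing A
  haveI : UniqueFactorizationMonoid A := CAlgH3.ufm_of_regular A
  obtain ⟨hN, hF, hC⟩ := CommAlg4.InvRing.exists_param (A := A) (G := G) hk hGk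
  haveI := CommAlg4.InvRing.isLocalRing (A := A) (G := G)
  haveI : Algebra.IsIntegral (FixedPoints.subring A G) A := Algebra.IsIntegral.of_finite _ _
  have hinj : Function.Injective (algebraMap (FixedPoints.subring A G) A) := Subtype.val_injective
  refine ⟨hN, hF, CommAlg4.InvRing.isIntegrallyClosed, (DimLib.ringKrullDim_eq_of_isIntegral hinj).symm ▸ rfl, ?_, fun hreg => ?_⟩
  · have he : Ideal.comap (FixedPoints.subring A G).subtype (maximalIdeal A) = maximalIdeal (FixedPoints.subring A G) := by
      ext b
      rw [Ideal.mem_comap, CommAlg4.InvRing.mem_maximalIdeal_iff]
      rfl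
    rw [he]
    exact hC
  · haveI := hreg
    haveI := WildLib5.free_of_regular_finite (R := FixedPoints.subring A G) A hinj
    exact Groth.Agent.S15794.not_flat hdim hk hcard hGk hram inferInstance

end Groth.Agent.S15798
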