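import Groth.Statements.S15803
import Groth.Agent.CommAlg4.InertiaGen
-- import your own Groth.Agent.* helpers here

set_option autoImplicit false
universe u v w
open WildQuot

namespace Groth.Agent.S15803

/-- Let `R` be a regular local ring and `A` a normal local domain, finite over `R` (with `R → A`
injective) and with the same residue field; let a finite group `H` act faithfully on `A` by
`R`-algebra automorphisms with ring of invariants exactly `R` (so `Frac(A)/Frac(R)` is Galois with
group `H`); let `p` be a prime and suppose that every nontrivial inertia subgroup of a height-one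
prime of `A` has order `p` and is normal in `H`. Then `H` is commutative and every element satisfies
`h ^ p = 1`: `H` is an elementary abelian `p`-group (of order the degree of `Frac(A)` over
`Frac(R)`). (The published statement is for `A` a complete regular local ring with an action
ramified precisely at the origin, `R = k[[x_1, …, x_n]]` a norm subring and `H` the Galois group of
`Frac(A)/Frac(R)`, when that extension is Galois; this row assumes only the hypotheses listed
above.) -/
theorem result
    (p : ℕ) [Fact p.Prime] (R : Type u) [CommRing R] [IsRegularLocalRing R]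
    (A : Type v) [CommRing A] [IsDomain A] [IsIntegrallyClosed A] [IsLocalRing A]
    [Algebra R A] [Module.Finite R A] (hinj : Function.Injective (algebraMap R A))
    (hres : Function.Surjective (IsLocalRing.residue A ∘ algebraMap R A))
    (H : Type w) [Group H] [Finite H] [MulSemiringAction H A] [SMulCommClass H R A] [FaithfulSMul H A]
    (hfix : ∀ a : A, (∀ h : H, h • a = a) → a ∈ Set.range (algebraMap R A))
    (hMR2 : ∀ P : Ideal A, P.IsPrime → P.height = 1 → P.inertia H ≠ ⊥ →
      Nat.card (P.inertia H) = p ∧ (P.inertia H).Normal) :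
    (∀ g h : H, g * h = h * g) ∧ ∀ h : H, h ^ p = 1 := by
  classical
  have htop := Groth.Agent.CommAlg4.InertiaGen.iSup_inertia_eq_top R A hinj hres H hfix
  have hcomm : ∀ (P Q : {P : Ideal A // P.IsPrime ∧ P.height = 1}) (g h : H),
      g ∈ P.1.inertia H → h ∈ Q.1.inertia H → g * h = h * g := by
    intro P Q g h hg hh
    by_cases hP : P.1.inertia H = ⊥
    · rw [hP, Subgroup.mem_bot] at hg
      simp [hg]
    by_cases hQ : Q.1.inertia H = ⊥
    · rw [hQ, Subgroup.mem_bot] at hh
      simp [hh]
    obtain ⟨hPc, hPn⟩ := hMR2 P.1 P.2.1 P.2.2 hP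
    obtain ⟨hQc, hQn⟩ := hMR2 Q.1 Q.2.1 Q.2.2 hQ
    by_cases hd : P.1.inertia H ⊓ Q.1.inertia H = ⊥
    · exact Subgroup.commute_of_normal_of_disjoint _ _ hPn hQn (disjoint_iff.2 hd) g h hg hh
    · have heq : Q.1.inertia H ≤ P.1.inertia H := by
        haveI : Fact (Nat.card (Q.1.inertia H)).Prime := ⟨hQc ▸ Fact.out⟩
        rcases ((P.1.inertia H).subgroupOf (Q.1.inertia H)).eq_bot_or_eq_top_of_prime_card with h0 | h1
        · rw [Subgroup.subgroupOf_eq_bot, disjoint_iff] at h0
          exact absurd h0 hd
        · exact Subgroup.subgroupOf_eq_top.1 h1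
      haveI : IsCyclic (P.1.inertia H) := isCyclic_of_prime_card hPc
      exact congrArg Subtype.val
        (IsCyclic.commGroup.mul_comm (⟨g, hg⟩ : P.1.inertia H) ⟨h, heq hh⟩)
  have hone : ∀ (P : {P : Ideal A // P.IsPrime ∧ P.height = 1}) (g : H), g ∈ P.1.inertia H → g ^ p = 1 := by
    intro P g hg
    by_cases hP : P.1.inertia H = ⊥
    · rw [hP, Subgroup.mem_bot] at hg
      simp [hg]
    · have h1 : (⟨g, hg⟩ : P.1.inertia H) ^ p = 1 := by
        rw [← (hMR2 P.1 P.2.1 P.2.2 hP).1]; exact pow_card_eq_one'
      exact congrArg Subtype.val h1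
  have hcenter : ∀ g : H, g ∈ Subgroup.center H := by
    have hle : ∀ P : {P : Ideal A // P.IsPrime ∧ P.height = 1}, P.1.inertia H ≤ Subgroup.center H := by
      intro P g hg
      rw [Subgroup.mem_center_iff]
      intro x
      have hx : x ∈ Subgroup.centralizer ({g} : Set H) := by
        have hle' : (⊤ : Subgroup H) ≤ Subgroup.centralizer ({g} : Set H) := by
          rw [← htop]
          refine iSup_le fun Q y hy => ?_
          rw [Subgroup.mem_centralizer_iff]
          rintro _ rfl
          exact hcomm P Q _ y hg hy
        exact hle' (Subgroup.mem_top x)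
      rw [Subgroup.mem_centralizer_iff] at hx
      exact (hx g rfl).symm
    intro g
    have : (⊤ : Subgroup H) ≤ Subgroup.center H := htop ▸ iSup_le hle
    exact this (Subgroup.mem_top g)
  have habel : ∀ g h : H, g * h = h * g := fun g h => Subgroup.mem_center_iff.1 (hcenter h) g
  refine ⟨habel, fun h => ?_⟩
  let K : Subgroup H :=
    { carrier := {x | x ^ p = 1}
      one_mem' := one_pow p
      mul_mem' := fun {a b} (ha : a ^ p = 1) (hb : b ^ p = 1) => by
        show (a * b) ^ p = 1
        rw [Commute.mul_pow (habel a b), ha, hb, one_mul]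
      inv_mem' := fun {a} (ha : a ^ p = 1) => by
        show a⁻¹ ^ p = 1
        rw [inv_pow, ha, inv_one] }
  have hK : (⊤ : Subgroup H) ≤ K := htop ▸ iSup_le fun P g hg => hone P g hg
  exact hK (Subgroup.mem_top h)

end Groth.Agent.S15803
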