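import Groth.Statements.S15804
import Mathlib
import Groth.Prelude
import Groth.Agent.CommAlg4.GaloisPurity

set_option linter.all false

set_option autoImplicit false
universe u v w
open WildQuot

open Groth.Agent

namespace Groth.Agent.S15804

/-- Let `R` be a regular local ring and `A` a normal local domain, finite over `R` (with `R → A`
injective) and with the same residue field; let a finite group `H` act faithfully on `A` by
`R`-algebra automorphisms with ring of invariants exactly `R` (so `Frac(A)/Frac(R)` is Galois with
group `H`); assume `A` has Krull dimension `2`, `H` has order `p ^ 2` for a prime `p`, and `Γ ≤ H`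
is a subgroup of order `p` whose intersection with the inertia subgroup of every non-maximal prime
of `A` is trivial (the action of `Γ` is ramified precisely at the origin). Then every nontrivial
inertia subgroup of a height-one prime of `A` has order `p`, and `H` is commutative with every
element satisfying `h ^ p = 1`, i.e. elementary abelian of order `p ^ 2`. (The published statement
is for `A` a complete regular local ring with an action ramified precisely at the origin, `R =
k[[x_1, …, x_n]]` a norm subring and `H` the Galois group of `Frac(A)/Frac(R)`, when that extension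
is Galois; this row assumes only the hypotheses listed above.) -/
theorem result
    (p : ℕ) [Fact p.Prime] (R : Type u) [CommRing R] [IsRegularLocalRing R]
    (A : Type v) [CommRing A] [IsDomain A] [IsIntegrallyClosed A] [IsLocalRing A]
    [Algebra R A] [Module.Finite R A] (hinj : Function.Injective (algebraMap R A))
    (hres : Function.Surjective (IsLocalRing.residue A ∘ algebraMap R A))
    (H : Type w) [Group H] [Finite H] [MulSemiringAction H A] [SMulCommClass H R A] [FaithfulSMul H A]
    (hfix : ∀ a : A, (∀ h : H, h • a = a) → a ∈ Set.range (algebraMap R A))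
    (hdim : ringKrullDim A = 2) (hcard : Nat.card H = p ^ 2)
    (Γ : Subgroup H) (hΓ : Nat.card Γ = p)
    (hram : ∀ P : Ideal A, P.IsPrime → P ≠ IsLocalRing.maximalIdeal A → P.inertia H ⊓ Γ = ⊥) :
    (∀ P : Ideal A, P.IsPrime → P.height = 1 → P.inertia H ≠ ⊥ → Nat.card (P.inertia H) = p) ∧
      (∀ g h : H, g * h = h * g) ∧ ∀ h : H, h ^ p = 1 := by
  classical
  haveI : IsDomain R := hinj.isDomain _
  have hp := (Fact.out : p.Prime).one_lt
  haveI : IsNoetherianRing A := IsNoetherianRing.of_finite R A
  have hd : (IsLocalRing.maximalIdeal R).spanFinrank = 2 := by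
    have h1 := IsRegularLocalRing.spanFinrank_maximalIdeal (R := R)
    rw [DimLib.ringKrullDim_eq_of_isIntegral hinj, hdim] at h1
    exact_mod_cast h1
  have hm2 : (IsLocalRing.maximalIdeal A).height = 2 := by
    have := IsLocalRing.maximalIdeal_height_eq_ringKrullDim (R := A)
    rw [hdim] at this
    exact WithBot.coe_inj.1 this
  have hne : ∀ P : Ideal A, P.height = 1 → P ≠ IsLocalRing.maximalIdeal A := fun P h e => by
    rw [e, hm2] at h; exact absurd h (by decide)
  have hint : ∀ P : Ideal A, P.IsPrime → P.height = 1 → P.inertia H ≠ ⊥ → Nat.card (P.inertia H) = p := by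
    intro P hP hP1 hI
    have hinf := hram P hP (hne P hP1)
    have h1 : Nat.card (P.inertia H × Γ) ≤ Nat.card H := Nat.card_le_card_of_injective (fun x => x.1.1 * x.2.1) (by
      intro x y h
      have h2 : y.1.1⁻¹ * x.1.1 = y.2.1 * x.2.1⁻¹ := by
        rw [eq_mul_inv_iff_mul_eq, mul_assoc, inv_mul_eq_iff_eq_mul]; exact h
      have h3 : y.1.1⁻¹ * x.1.1 ∈ P.inertia H ⊓ Γ :=
        Subgroup.mem_inf.2 ⟨Subgroup.mul_mem _ (Subgroup.inv_mem _ y.1.2) x.1.2, by rw [h2]; exact Subgroup.mul_mem _ y.2.2 (Subgroup.inv_mem _ x.2.2)⟩
      rw [hinf, Subgroup.mem_bot] at h3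
      rw [h3, eq_comm, mul_inv_eq_one] at h2
      rw [inv_mul_eq_one] at h3
      exact Prod.ext (Subtype.ext h3.symm) (Subtype.ext h2.symm))
    rw [Nat.card_prod, hΓ, hcard, sq] at h1
    have h4 := Nat.le_of_mul_le_mul_right h1 (by omega)
    obtain ⟨k, hk, hk'⟩ := (Nat.dvd_prime_pow (Fact.out : p.Prime)).1 (hcard ▸ Subgroup.card_subgroup_dvd_card (P.inertia H))
    match k, hk' with
    | 0, h => exact absurd (Subgroup.card_eq_one.1 (by simpa using h)) hI
    | 1, h => simpa using h
    | k + 2, h =>
      exfalso
      rw [h] at h4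
      have : p ^ 1 < p ^ (k + 2) := Nat.pow_lt_pow_right hp (by omega)
      rw [pow_one] at this
      omega
  have hcomm : ∀ g h : H, g * h = h * g := fun g h => (IsPGroup.commGroupOfCardEqPrimeSq (p := p) hcard).mul_comm g h
  refine ⟨hint, hcomm, fun h => ?_⟩
  by_contra hh
  have hord : orderOf h = Nat.card H := by
    obtain ⟨k, hk, hk'⟩ := (Nat.dvd_prime_pow (Fact.out : p.Prime)).1 (hcard ▸ orderOf_dvd_natCard h)
    match k, hk, hk' with
    | 0, _, h0 =>
      have h1 : h = 1 := orderOf_eq_one_iff.1 (by simpa using h0)
      exact absurd (by rw [h1, one_pow]) hh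
    | 1, _, h0 => exact absurd (by rw [← pow_one p, ← h0, pow_orderOf_eq_one]) hh
    | 2, _, h0 => rw [h0, hcard]
    | k + 3, hk, _ => omega
  haveI : IsCyclic H := isCyclic_of_orderOf_eq_card h hord
  let _ : Fintype H := Fintype.ofFinite H
  have hall : ∀ q : R, Prime q → ∀ P : Ideal A, P.IsPrime → P.comap (algebraMap R A) = Ideal.span {q} → P.inertia H = ⊥ := by
    intro q hq P hP hPc
    by_contra hI
    have hPm : P ≠ IsLocalRing.maximalIdeal A := fun e => by
      have h1 : IsLocalRing.maximalIdeal R ≤ Ideal.span {q} := by
        rw [← hPc, e]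
        exact (IsLocalRing.eq_maximalIdeal (Ideal.isMaximal_comap_of_isIntegral_of_isMaximal (R := R) (IsLocalRing.maximalIdeal A))).ge
      have h2 := le_antisymm h1 (IsLocalRing.le_maximalIdeal (by rw [Ne, Ideal.span_singleton_eq_top]; exact hq.not_unit))
      rw [h2, ← Ideal.submodule_span_eq] at hd
      have h3 := Submodule.spanFinrank_span_le_ncard_of_finite (R := R) (Set.finite_singleton q)
      rw [hd, Set.ncard_singleton] at h3
      omega
    have hP1 : P.height = 1 := by
      refine le_antisymm ?_ (Order.one_le_iff_pos.2 ?_)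
      · have hlt : P < IsLocalRing.maximalIdeal A := lt_of_le_of_ne (IsLocalRing.le_maximalIdeal hP.ne_top) hPm
        have h := Ideal.height_strict_mono_of_isPrime hlt
        rw [hm2] at h
        exact Order.le_of_lt_add_one h
      · haveI : (⊥ : Ideal A).IsPrime := Ideal.isPrime_bot
        have hlt : (⊥ : Ideal A) < P := bot_lt_iff_ne_bot.2 fun h0 => by
          have h1 : algebraMap R A q ∈ P := by rw [← Ideal.mem_comap, hPc]; exact Ideal.mem_span_singleton_self q
          rw [h0, Ideal.mem_bot] at h1
          exact hq.ne_zero (hinj (h1.trans (map_zero _).symm))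
        exact lt_of_le_of_lt bot_le (Ideal.height_strict_mono_of_isPrime hlt)
    have hS : ∀ K : Subgroup H, Nat.card K = p → (K : Set H) = {x | x ^ p = 1} := fun K hK => by
      refine Set.eq_of_subset_of_ncard_le (fun x hx => ?_) ?_
      · have h1 : (⟨x, hx⟩ : K) ^ p = 1 := by rw [← hK]; exact pow_card_eq_one'
        exact congrArg Subtype.val h1
      · rw [← Nat.card_coe_set_eq (K : Set H), SetLike.coe_sort_coe, hK]
        have h0 := IsCyclic.card_pow_eq_one_le (α := H) (n := p) (by omega)
        rw [Set.ncard_eq_toFinset_card']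
        simpa using h0
    have heq : P.inertia H = Γ := SetLike.coe_injective ((hS _ (hint P hP hP1 hI)).trans (hS Γ hΓ).symm)
    have := hram P hP hPm
    rw [heq, inf_idem] at this
    rw [this, Subgroup.card_bot] at hΓ
    omega
  have := CommAlg4.GaloisPurity.subsingleton_of_forall_inertia hinj hfix hres hd hall
  exact hh (by rw [Subsingleton.elim h 1, one_pow])

end Groth.Agent.S15804
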