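import Groth.Statements.S15805
import Groth.Agent.WildAS.Shift

set_option autoImplicit false
universe u v
open WildQuot

namespace Groth.Agent.S15805

theorem symmetric_form {R A G : Type*} [CommRing R] [CommRing A] [Algebra R A] [Group G] [Finite G]
    [MulSemiringAction G A] [SMulCommClass G R A] (τ : A →ₗ[R] R) (hτ : ∀ (h : G) (b : A), τ (h • b) = τ b)
    (hsurj : ∀ ψ : A →ₗ[R] R, ∃ y, ∀ b, τ (b * y) = ψ b) (hinj : ∀ y, (∀ b, τ (b * y) = 0) → y = 0) :
    ∃ φ : SkewMonoidAlgebra A G →ₗ[R] R,
      (∀ x y : SkewMonoidAlgebra A G, φ (x * y) = φ (y * x)) ∧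
      Function.Injective (fun y : SkewMonoidAlgebra A G => fun x : SkewMonoidAlgebra A G => φ (x * y)) ∧
      ∀ ψ : SkewMonoidAlgebra A G →ₗ[R] R, ∃ y : SkewMonoidAlgebra A G, ∀ x, ψ x = φ (x * y) := by
  classical
  let φ : SkewMonoidAlgebra A G →ₗ[R] R :=
    { toFun := fun x => τ (x.coeff 1)
      map_add' := fun x y => by simp
      map_smul' := fun r x => by simp }
  have hmul : ∀ (h : G) (α : A) (d : SkewMonoidAlgebra A G),
      φ (SkewMonoidAlgebra.single h⁻¹ α * d) = τ (α * h⁻¹ • d.coeff h) := by
    intro h α d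
    induction d using SkewMonoidAlgebra.induction_on with
    | zero => simp
    | single h' β =>
      change τ ((SkewMonoidAlgebra.single h⁻¹ α * SkewMonoidAlgebra.single h' β).coeff 1) = _
      rw [SkewMonoidAlgebra.single_mul_single, SkewMonoidAlgebra.coeff_single_apply,
        SkewMonoidAlgebra.coeff_single_apply]
      by_cases e : h' = h
      · subst e; simp
      · rw [if_neg (by rw [inv_mul_eq_one]; exact Ne.symm e), if_neg e]; simp
    | add x y hx hy => rw [mul_add, map_add, hx, hy]; simp [smul_add, mul_add]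
  refine ⟨φ, ?_, ?_, ?_⟩
  · intro x
    induction x using SkewMonoidAlgebra.induction_on with
    | zero => simp
    | single h α =>
      intro y
      induction y using SkewMonoidAlgebra.induction_on with
      | zero => simp
      | single h' β =>
        change τ ((SkewMonoidAlgebra.single h α * SkewMonoidAlgebra.single h' β).coeff 1)
          = τ ((SkewMonoidAlgebra.single h' β * SkewMonoidAlgebra.single h α).coeff 1)
        rw [SkewMonoidAlgebra.single_mul_single, SkewMonoidAlgebra.single_mul_single,
          SkewMonoidAlgebra.coeff_single_apply, SkewMonoidAlgebra.coeff_single_apply]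
        by_cases e : h * h' = 1
        · rw [if_pos e, if_pos (mul_eq_one_comm.mp e), ← hτ h (β * h' • α), smul_mul', ← mul_smul, e,
            one_smul, mul_comm]
        · rw [if_neg e, if_neg (fun e' => e (mul_eq_one_comm.mp e'))]
      | add y z hy hz => rw [mul_add, add_mul, map_add, map_add, hy, hz]
    | add x z hx hz => intro y; rw [mul_add, add_mul, map_add, map_add, hx, hz]
  · intro y y' hy
    refine SkewMonoidAlgebra.coeff_injective (Finsupp.ext fun h => ?_)
    have h0 : h⁻¹ • y.coeff h - h⁻¹ • y'.coeff h = 0 := by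
      refine hinj _ fun b => ?_
      have h1 := congrFun hy (SkewMonoidAlgebra.single h⁻¹ b)
      simp only [hmul] at h1
      change τ (b * _) = 0
      rw [mul_sub, map_sub, h1, sub_self]
    have h2 := congrArg (h • ·) (sub_eq_zero.mp h0)
    simpa using h2
  · intro ψ
    let f : G → (A →ₗ[R] R) := fun h =>
      { toFun := fun α => ψ (SkewMonoidAlgebra.single h⁻¹ α)
        map_add' := fun x y => by rw [SkewMonoidAlgebra.single_add, map_add]
        map_smul' := fun r x => by rw [← SkewMonoidAlgebra.smul_single, map_smul]; rfl }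
    choose Y hY using fun h => hsurj (f h)
    have : Fintype G := Fintype.ofFinite G
    refine ⟨∑ h : G, SkewMonoidAlgebra.single h (h • Y h), fun x => ?_⟩
    induction x using SkewMonoidAlgebra.induction_on with
    | zero => simp
    | single h' α =>
      rw [← inv_inv h', hmul]
      have hc : (∑ h : G, SkewMonoidAlgebra.single h (h • Y h)).coeff h'⁻¹ = h'⁻¹ • Y h'⁻¹ := by
        have : ∀ (s : Finset G), (∑ h ∈ s, SkewMonoidAlgebra.single h (h • Y h)).coeff h'⁻¹
            = ∑ h ∈ s, (SkewMonoidAlgebra.single h (h • Y h)).coeff h'⁻¹ := by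
          intro s
          induction s using Finset.induction_on with
          | empty => simp
          | insert b s hb ih => rw [Finset.sum_insert hb, Finset.sum_insert hb, ← ih]; simp
        rw [this, Finset.sum_eq_single h'⁻¹]
        · simp
        · intro b _ hb; rw [SkewMonoidAlgebra.coeff_single_apply, if_neg hb]
        · simp
      rw [hc, inv_smul_smul]
      exact (hY h'⁻¹ α).symm
    | add x y hx hy => rw [add_mul, map_add, map_add, hx, hy]

open MvPolynomial in
/-- Let `k` be a field of characteristic `p > 0`, `R = k[[x_1, …, x_n]]`, `a_1, …, a_n ∈ R` with zero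
constant term and not all zero, and `A = R[u_1, …, u_n] / (u_i ^ p - a_i ^ (p-1) u_i - x_i : i =
1..n)`. Let `G` be a group of order `p` acting on `A` by `R`-algebra automorphisms, generated by an
element `g` acting by `u_i ↦ u_i + a_i`. Then the skew group ring `A∗G` (free `A`-module on `G` with
`(a g)(b h) = a g(b) gh`) is a symmetric `R`-algebra: there is an `R`-linear form `φ : A∗G → R` with
`φ(xy) = φ(yx)` for all `x, y`, such that `y ↦ (x ↦ φ(x y))` is injective and reaches every
`R`-linear form on `A∗G` (so `Hom_R(A∗G, R) ≅ A∗G` as bimodules). -/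
theorem result
    (p : ℕ) [Fact p.Prime] (k : Type u) [Field k] [CharP k p] (n : ℕ)
    (a : Fin n → MvPowerSeries (Fin n) k)
    (ham : ∀ i, MvPowerSeries.constantCoeff (a i) = 0) (hne : ∃ i, a i ≠ 0) :
    let R := MvPowerSeries (Fin n) k
    let I : Ideal (MvPolynomial (Fin n) R) :=
      Ideal.span (Set.range fun i : Fin n =>
        X i ^ p - C (a i ^ (p - 1)) * X i - C (MvPowerSeries.X i))
    let A := MvPolynomial (Fin n) R ⧸ I
    ∀ (G : Type v) [Group G] [Finite G] [MulSemiringAction G A] [SMulCommClass G R A]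
      (g : G), Nat.card G = p → (∀ h : G, h ∈ Subgroup.zpowers g) →
      (∀ i, g • (Ideal.Quotient.mk I (X i)) = Ideal.Quotient.mk I (X i) + algebraMap R A (a i)) →
      ∃ φ : SkewMonoidAlgebra A G →ₗ[R] R,
        (∀ x y : SkewMonoidAlgebra A G, φ (x * y) = φ (y * x)) ∧
        Function.Injective (fun y : SkewMonoidAlgebra A G => fun x : SkewMonoidAlgebra A G => φ (x * y)) ∧
        ∀ ψ : SkewMonoidAlgebra A G →ₗ[R] R, ∃ y : SkewMonoidAlgebra A G, ∀ x, ψ x = φ (x * y) := by
  intro R I A G _ _ _ _ g hcard hgen hg
  have hp : 2 ≤ p := (Fact.out : p.Prime).two_le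
  refine symmetric_form (WildAS.top (fun i => a i ^ (p - 1)) (fun i => MvPowerSeries.X i) hp) ?_
    (WildAS.exists_top_mul_eq _ _ hp) (WildAS.eq_zero_of_top_mul_eq_zero _ _ hp)
  have hτg := fun b : A => WildAS.top_comp_translation (fun i => a i ^ (p - 1)) (fun i => MvPowerSeries.X i) hp
    (MulSemiringAction.toAlgHom R A g) a (fun i => hg i) b
  intro h
  obtain ⟨j, rfl⟩ := mem_powers_iff_mem_zpowers.mpr (hgen h)
  show ∀ b : A, WildAS.top (fun i => a i ^ (p - 1)) (fun i => MvPowerSeries.X i) hp (g ^ j • b) = _
  induction j with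
  | zero => intro b; rw [pow_zero, one_smul]
  | succ j ih => intro b; rw [pow_succ, mul_smul, ih]; exact hτg b

end Groth.Agent.S15805
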