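import Mathlib.AlgebraicGeometry.Morphisms.Finite
import Mathlib.AlgebraicGeometry.Morphisms.Flat
import Mathlib.AlgebraicGeometry.Noetherian
import Mathlib.RingTheory.Ideal.AssociatedPrime.Basic
import Groth.Agent.FlatMor12.RegularExtend

set_option autoImplicit false
universe u
namespace CategoryTheory
end CategoryTheory
namespace AlgebraicGeometry
end AlgebraicGeometry
open CategoryTheory AlgebraicGeometry
namespace WildQuot
end WildQuot
open WildQuot

namespace Groth.Agent.S15806

theorem depthOne_preimage {X S : Scheme.{u}} [IsLocallyNoetherian S] (f : X ⟶ S) [Flat f] (U : S.Opens)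
    (hU : ∀ s : S, IsLocalRing.maximalIdeal (S.presheaf.stalk s) ∈
        associatedPrimes (S.presheaf.stalk s) (S.presheaf.stalk s) → s ∈ U) :
    Groth.Agent.FlatMor12.RegularExtend.DepthOne (f ⁻¹ᵁ U) := by
  intro z hz
  set A := S.presheaf.stalk (f z)
  obtain ⟨a, ha, hreg⟩ : ∃ a ∈ IsLocalRing.maximalIdeal A, IsSMulRegular A a := by
    by_contra h
    push Not at h
    have hsub : (IsLocalRing.maximalIdeal A : Set A) ⊆ ⋃ p ∈ associatedPrimes A A, (p : Set A) := by
      rw [biUnion_associatedPrimes_eq_compl_regular A A]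
      exact fun a ha => h a ha
    obtain ⟨p, hp, hmp⟩ := (Ideal.subset_union_prime_finite (associatedPrimes.finite A A) ⊤ ⊤
      (fun p hp _ _ => hp.isPrime)).1 hsub
    refine hz (hU (f z) ?_)
    rwa [(IsLocalRing.maximalIdeal.isMaximal A).eq_of_le hp.isPrime.ne_top hmp]
  letI := (f.stalkMap z).hom.toAlgebra
  haveI : Module.Flat A (X.presheaf.stalk z) := Flat.stalkMap f z
  refine ⟨algebraMap A (X.presheaf.stalk z) a, map_nonunit (f.stalkMap z).hom a ha, ?_⟩
  have h1 : IsSMulRegular (X.presheaf.stalk z) a := hreg.of_flat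
  exact fun x y hxy => h1 (by simpa [Algebra.smul_def] using hxy)

/-- Let `S` be a Noetherian scheme, `G_1 → S` and `G_2 → S` finite flat morphisms, and `U ⊆ S` an open
subset containing every associated point of `S`, i.e. every point whose local ring has the maximal
ideal as an associated prime (for `S` Noetherian this says exactly that `U` is dense and contains
all points at which `S` does not satisfy Serre's condition `S_1`, which is the printed hypothesis).
If two `S`-morphisms `φ, ψ : G_1 → G_2` agree on the preimage of `U`, then `φ = ψ`. -/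
theorem result
    (S G₁ G₂ : Scheme.{u}) [AlgebraicGeometry.IsNoetherian S] (f₁ : G₁ ⟶ S) (f₂ : G₂ ⟶ S)
    [AlgebraicGeometry.IsFinite f₁] [AlgebraicGeometry.Flat f₁]
    [AlgebraicGeometry.IsFinite f₂] [AlgebraicGeometry.Flat f₂]
    (U : S.Opens)
    (hU : ∀ s : S, IsLocalRing.maximalIdeal (S.presheaf.stalk s) ∈
        associatedPrimes (S.presheaf.stalk s) (S.presheaf.stalk s) → s ∈ U)
    (φ ψ : G₁ ⟶ G₂) (hφ : φ ≫ f₂ = f₁) (hψ : ψ ≫ f₂ = f₁)
    (h : (f₁ ⁻¹ᵁ U).ι ≫ φ = (f₁ ⁻¹ᵁ U).ι ≫ ψ) : φ = ψ := by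
  haveI : IsLocallyNoetherian G₁ := LocallyOfFiniteType.isLocallyNoetherian f₁
  haveI : QuasiCompact (f₁ ⁻¹ᵁ U).ι := inferInstance
  haveI := Groth.Agent.FlatMor12.RegularExtend.isSchemeTheoreticallyDominant_ι _ (depthOne_preimage f₁ U hU)
  exact Groth.Agent.FlatMor12.RegularExtend.ext_of_isSchemeTheoreticallyDominant f₂
    (hφ.trans hψ.symm) (f₁ ⁻¹ᵁ U).ι h

end Groth.Agent.S15806
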