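import Groth.Statements.S19997
import Mathlib
import Groth.Prelude
import Groth.Agent.WildAS.Basic
import Groth.Agent.CAlgH3.Factorial
import Groth.Agent.CommAlg4.ASMinorCI

set_option linter.all false

set_option autoImplicit false
universe u
open WildQuot

open MvPolynomial

namespace Groth.Agent.S19997

theorem setup {p : ℕ} [Fact p.Prime] {k : Type u} [Field k] [CharP k p] {n : ℕ} (hn : 2 ≤ n)
    (a : Fin n → MvPowerSeries (Fin n) k) (μ : MvPowerSeries (Fin n) k)
    (ham : ∀ i, MvPowerSeries.constantCoeff (a i) = 0) (hcop : ∀ i j, i ≠ j → IsRelPrime (a i) (a j)) :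
    CharP (MvPowerSeries (Fin n) k) p ∧
    IsDomain (Groth.Agent.CommAlg4.ASMinor.AA a μ (fun i => (MvPowerSeries.X i : MvPowerSeries (Fin n) k)) p) ∧
    Function.Injective (algebraMap (MvPowerSeries (Fin n) k)
      (Groth.Agent.CommAlg4.ASMinor.AA a μ (fun i => (MvPowerSeries.X i : MvPowerSeries (Fin n) k)) p)) ∧
    (∀ i, a i ≠ 0) ∧ IsNoetherianRing (MvPowerSeries (Fin n) k) := by
  have hp := (Fact.out : p.Prime).two_le
  have hc : ∀ i, MvPowerSeries.constantCoeff (Groth.Agent.CommAlg4.ASAut.cs p (fun i => μ * a i) i) = 0 := fun i => by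
    rw [Groth.Agent.CommAlg4.ASAut.cs, map_pow, map_mul, ham, mul_zero, zero_pow (by omega)]
  refine ⟨charP_of_injective_ringHom (f := MvPowerSeries.C) MvPowerSeries.C_injective p,
    Groth.Agent.WildAS.isDomain _ hp hc, Groth.Agent.WildAS.injective _ _ hp, fun i h => ?_, Groth.Agent.WildAS.isNoetherianRing_base⟩
  obtain ⟨j, hj⟩ := Fintype.exists_ne_of_one_lt_card (by simp; omega) i
  have := hcop i j hj.symm
  rw [h, isRelPrime_zero_left, MvPowerSeries.isUnit_iff_constantCoeff, ham] at this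
  exact not_isUnit_zero this

theorem core {p : ℕ} [Fact p.Prime] {k : Type u} [Field k] [CharP k p] {n : ℕ} (hn : 2 ≤ n)
    (a : Fin n → MvPowerSeries (Fin n) k) (μ : MvPowerSeries (Fin n) k)
    (ham : ∀ i, MvPowerSeries.constantCoeff (a i) = 0) (hcop : ∀ i j, i ≠ j → IsRelPrime (a i) (a j))
    (hμ : μ ≠ 0) (i₀ : Fin n)
    (σ : Groth.Agent.CommAlg4.ASMinor.AA a μ (fun i => (MvPowerSeries.X i : MvPowerSeries (Fin n) k)) p ≃ₐ[MvPowerSeries (Fin n) k]
      Groth.Agent.CommAlg4.ASMinor.AA a μ (fun i => (MvPowerSeries.X i : MvPowerSeries (Fin n) k)) p)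
    (hσ : ∀ i, σ (Groth.Agent.WildAS.gen p _ _ i) = Groth.Agent.WildAS.gen p _ _ i + algebraMap _ _ (μ * a i))
    (t) (ht : σ t = t) :
    ∃ N : ℕ, algebraMap (MvPowerSeries (Fin n) k) (Groth.Agent.CommAlg4.ASMinor.AA a μ (fun i => (MvPowerSeries.X i : MvPowerSeries (Fin n) k)) p) (μ * a i₀) ^ N * t ∈
      Algebra.adjoin (MvPowerSeries (Fin n) k) (Set.range (Groth.Agent.CommAlg4.ASMinor.zm p a μ (fun i => (MvPowerSeries.X i : MvPowerSeries (Fin n) k)) i₀)) := by
  haveI : IsDomain (MvPowerSeries (Fin n) k) := NoZeroDivisors.to_isDomain _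
  obtain ⟨h1, h2, h3, h4, h5⟩ := setup (p := p) hn a μ ham hcop
  have hσ' : ∀ y, σ y = Groth.Agent.CommAlg4.ASAut.trans p (fun i => μ * a i) _ 1 y := by
    refine AlgHom.congr_fun (φ₁ := σ.toAlgHom) (Ideal.Quotient.algHom_ext _ (MvPolynomial.algHom_ext fun i => ?_))
    show σ (Groth.Agent.WildAS.gen p _ _ i) = Groth.Agent.CommAlg4.ASAut.trans p (fun i => μ * a i) _ 1 (Groth.Agent.WildAS.gen p _ _ i)
    rw [hσ, Groth.Agent.CommAlg4.ASAut.trans_gen, Pi.one_apply, map_one, one_mul]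
  obtain ⟨N, hN⟩ := Groth.Agent.CommAlg4.ASMinor.exists_pow_mul_mem_of_fixed a μ _ i₀ h3 (mul_ne_zero hμ (h4 i₀)) t ((hσ' t).symm.trans ht)
  refine ⟨N, ?_⟩
  rw [map_mul, mul_pow, mul_assoc]
  exact mul_mem (pow_mem (Subalgebra.algebraMap_mem _ _) _) hN

open MvPolynomial in
/-- Let `k` be a field of characteristic `p > 0`, `n ≥ 2`, `R = k[[x_1, …, x_n]]`, `a_1, …, a_n ∈ R`
with zero constant term and pairwise coprime, `μ ∈ R` nonzero and coprime to each `a_i`, `A = R[u_1,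
…, u_n] / (u_i ^ p - (μ a_i) ^ (p-1) u_i - x_i : i = 1..n)`, and `σ` the `R`-algebra automorphism of
`A` with `σ u_i = u_i + μ a_i` for every `i` (it generates a group `G` of order `p`). Fix an index
`i₀` and let `A_ci ⊆ A` be the `R`-subalgebra generated by the minor elements `z_j = a_{i₀} u_j -
a_j u_{i₀}`, `j ≠ i₀` (these are `σ`-invariant). Then `A_ci[1/(μ a_{i₀})] = A^G[1/(μ a_{i₀})]`: for
every `σ`-invariant `t ∈ A` some power `(μ a_{i₀}) ^ N t` lies in `A_ci`. (The published statement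
uses the first index for `i₀`.) -/
theorem result
    (p : ℕ) [Fact p.Prime] (k : Type u) [Field k] [CharP k p] (n : ℕ) (hn : 2 ≤ n)
    (a : Fin n → MvPowerSeries (Fin n) k) (μ : MvPowerSeries (Fin n) k)
    (ham : ∀ i, MvPowerSeries.constantCoeff (a i) = 0) (hcop : ∀ i j, i ≠ j → IsRelPrime (a i) (a j))
    (hμ : μ ≠ 0) (hμa : ∀ i, IsRelPrime μ (a i)) (i₀ : Fin n) :
    let R := MvPowerSeries (Fin n) k
    let I : Ideal (MvPolynomial (Fin n) R) :=
      Ideal.span (Set.range fun i : Fin n =>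
        X i ^ p - C ((μ * a i) ^ (p - 1)) * X i - C (MvPowerSeries.X i))
    let A := MvPolynomial (Fin n) R ⧸ I
    let u : Fin n → A := fun i => Ideal.Quotient.mk I (X i)
    let z : {j : Fin n // j ≠ i₀} → A := fun j =>
      algebraMap R A (a i₀) * u j.1 - algebraMap R A (a j.1) * u i₀
    ∀ σ : A ≃ₐ[R] A, (∀ i, σ (u i) = u i + algebraMap R A (μ * a i)) →
      ∀ t : A, σ t = t →
        ∃ N : ℕ, algebraMap R A (μ * a i₀) ^ N * t ∈ Algebra.adjoin R (Set.range z) := by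
  intro R I A u z σ hσ t ht
  exact core hn a μ ham hcop hμ i₀ σ hσ t ht

end Groth.Agent.S19997
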