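import Groth.Statements.S15808
import Mathlib
import Groth.Prelude
import Groth.Agent.WildAS.Basic
import Groth.Agent.CAlgH3.Factorial
import Groth.Agent.CommAlg4.ASMinorCI
import Groth.Agent.S19997

set_option linter.all false

set_option autoImplicit false
universe u
open WildQuot

open MvPolynomial

namespace Groth.Agent.S15808

open Groth.Agent.CommAlg4 in
theorem normal_away {R : Type u} [CommRing R] [IsDomain R] [IsNoetherianRing R] {n : ℕ} {p : ℕ} [Fact p.Prime] [CharP R p]
    (a : Fin n → R) (μ : R) (x : Fin n → R) (i₀ : Fin n)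
    [IsDomain (ASMinor.AA a μ x p)] [IsIntegrallyClosed (ASMinor.AA a μ x p)]
    (hinj : Function.Injective (algebraMap R (ASMinor.AA a μ x p)))
    (h0 : μ * a i₀ ≠ 0) :
    IsDomain (ASMinor.BB a μ x i₀ p) ∧
      IsIntegrallyClosed (Localization.Away (algebraMap R (ASMinor.BB a μ x i₀ p) (μ * a i₀))) := by
  set B := ASMinor.BB a μ x i₀ p
  set A := ASMinor.AA a μ x p
  let ψ := ASMinor.psi a μ x i₀ hinj
  have hψ : Function.Injective ψ := ASMinor.psi_injective a μ x i₀ hinj (right_ne_zero_of_mul h0)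
  haveI : IsDomain B := hψ.isDomain ψ.toRingHom
  refine ⟨inferInstance, ?_⟩
  set w : B := algebraMap R B (μ * a i₀) with hw
  have hw0 : w ≠ 0 := fun h => h0 (hinj (by rw [map_zero, ← AlgHom.commutes ψ, ← hw, h, map_zero]))
  set L := Localization.Away w
  have hle : Submonoid.powers w ≤ nonZeroDivisors B := powers_le_nonZeroDivisors_of_noZeroDivisors hw0
  haveI : IsDomain L := IsLocalization.isDomain_localization hle
  let K := FractionRing L
  rw [isIntegrallyClosed_iff K]
  intro ξ hξ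
  let ιA := algebraMap A (FractionRing A)
  have hιA : Function.Injective ιA := IsFractionRing.injective _ _
  have hψw : ψ w = algebraMap R A (μ * a i₀) := AlgHom.commutes ψ _
  have hu : IsUnit ((ιA.comp ψ.toRingHom) w) :=
    (Ne.isUnit ((map_ne_zero_iff ιA hιA).2 ((map_ne_zero_iff ψ hψ).2 hw0)))
  let F₁ : L →+* FractionRing A := IsLocalization.Away.lift w hu
  have hF₁ : ∀ b : B, F₁ (algebraMap B L b) = ιA (ψ b) := fun b => IsLocalization.Away.lift_eq w hu b
  have hF₁i : Function.Injective F₁ := by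
    rw [injective_iff_map_eq_zero]
    intro y hy
    obtain ⟨m, b, hb⟩ := IsLocalization.Away.surj w y
    have h1 := congrArg F₁ hb
    rw [map_mul, hy, zero_mul, hF₁] at h1
    rw [(map_eq_zero_iff ψ hψ).1 ((map_eq_zero_iff ιA hιA).1 h1.symm), map_zero] at hb
    exact (((IsLocalization.Away.algebraMap_isUnit w).pow m).mul_left_eq_zero).1 hb
  let Φ : K →+* FractionRing A := IsFractionRing.lift hF₁i
  have hΦ : ∀ y : L, Φ (algebraMap L K y) = F₁ y := fun y => IsFractionRing.lift_algebraMap _ y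
  obtain ⟨⟨m, M, rfl⟩, hM⟩ := IsIntegral.exists_multiple_integral_of_isLocalization (Submonoid.powers w) ξ hξ
  rw [Submonoid.smul_def, Algebra.smul_def] at hM
  have hint : IsIntegral A (Φ (algebraMap B K (w ^ M) * ξ)) :=
    hM.map_of_comp_eq ψ.toRingHom Φ (RingHom.ext fun b => by
      show ιA (ψ b) = Φ (algebraMap B K b)
      rw [IsScalarTower.algebraMap_apply B L K, hΦ, hF₁])
  obtain ⟨y, hy⟩ := IsIntegrallyClosed.isIntegral_iff.1 hint
  obtain ⟨⟨bn, c, hc⟩, hbc⟩ := IsLocalization.surj (nonZeroDivisors L) ξ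
  obtain ⟨mb, b', hb'⟩ := IsLocalization.Away.surj w bn
  obtain ⟨mc, c', hc'⟩ := IsLocalization.Away.surj w c
  simp only at hbc
  -- clear denominators
  have hrel : ψ (w ^ M) * ψ b' * ψ (w ^ mc) = y * ψ c' * ψ (w ^ mb) := by
    refine hιA ?_
    simp only [map_mul, ← hF₁]
    rw [← hb', ← hc', map_mul, map_mul, map_pow, map_pow, map_pow, map_pow, map_pow, map_pow, show ιA y = Φ (algebraMap B K (w ^ M) * ξ) from hy, ← hΦ, ← hΦ bn, ← hΦ c,
      ← hbc, map_mul, map_mul, IsScalarTower.algebraMap_apply B L K, map_pow, map_pow, map_pow]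
    simp only [map_pow, hΦ]
    ring
  haveI := ASMinor.charP_alg (fun i => μ * a i) x hinj
  let σ := ASAut.trans p (fun i => μ * a i) x 1
  have hfix : ∀ b, σ (ψ b) = ψ b := fun b => by
    have hle' : Algebra.adjoin R (Set.range (ASMinor.zm p a μ x i₀)) ≤ AlgHom.equalizer σ (AlgHom.id R _) :=
      Algebra.adjoin_le (by
        rintro _ ⟨j, rfl⟩
        show σ _ = ASMinor.zm p a μ x i₀ j
        simp only [σ, ASMinor.zm, map_sub, map_mul, AlgHom.commutes, ASAut.trans_gen, Pi.one_apply, map_one]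
        ring)
    exact hle' (by rw [← ASMinor.psi_range a μ x i₀ hinj]; exact ⟨b, rfl⟩)
  have hc0 : ψ c' * ψ (w ^ mb) ≠ 0 := mul_ne_zero ((map_ne_zero_iff ψ hψ).2 (fun h => by
      rw [h, map_zero] at hc'
      exact nonZeroDivisors.ne_zero hc (((IsLocalization.Away.algebraMap_isUnit w).pow mc).mul_left_eq_zero.1 hc')))
    ((map_ne_zero_iff ψ hψ).2 (pow_ne_zero _ hw0))
  have hσy : σ y = y := by
    refine mul_right_cancel₀ hc0 ?_
    rw [← mul_assoc, ← mul_assoc, ← hrel]
    calc σ y * ψ c' * ψ (w ^ mb) = σ (y * ψ c' * ψ (w ^ mb)) := by rw [map_mul, map_mul, hfix, hfix]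
      _ = _ := by rw [← hrel, map_mul, map_mul, hfix, hfix, hfix]
  obtain ⟨N, hN⟩ := ASMinor.exists_pow_mul_mem_of_fixed a μ x i₀ hinj h0 y hσy
  rw [← ASMinor.psi_range a μ x i₀ hinj] at hN
  obtain ⟨e, he⟩ := hN
  obtain ⟨v, hv⟩ := (IsLocalization.Away.algebraMap_isUnit (S := L) w).pow (N + M)
  refine ⟨(↑v⁻¹ : L) * algebraMap B L (algebraMap R B μ ^ N * e), ?_⟩
  have hwu : algebraMap L K (algebraMap B L (algebraMap R B μ ^ N * e)) = algebraMap L K (v : L) * ξ := Φ.injective (by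
    rw [hΦ, hF₁, hv, ← map_pow (algebraMap B L), map_mul Φ, hΦ, hF₁, map_mul ψ, map_pow, AlgHom.commutes, show ψ e = _ from he]
    rw [map_mul, map_mul ιA, map_pow ιA (algebraMap R A (a i₀)), show ιA y = Φ (algebraMap B K (w ^ M) * ξ) from hy,
      IsScalarTower.algebraMap_apply B L K, map_mul, hΦ, hF₁]
    simp only [map_pow, hψw, map_mul, mul_pow, pow_add]
    ring)
  rw [map_mul, hwu, ← mul_assoc, ← map_mul, Units.inv_mul, map_one, one_mul]

open MvPolynomial in
/-- Let `k` be a field of characteristic `p > 0`, `n ≥ 2`, `R = k[[x_1, …, x_n]]`, `a_1, …, a_n ∈ R`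
with zero constant term and pairwise coprime, `μ ∈ R` nonzero and coprime to each `a_i`; fix an
index `i₀` and let `B = R[Z_j : j ≠ i₀] / (Z_j ^ p - (μ a_{i₀} a_j) ^ (p-1) Z_j - (a_{i₀} ^ p x_j -
a_j ^ p x_{i₀}) : j ≠ i₀)`, the complete-intersection ring of the minor elements through `u_{i₀}`.
Then `B` is a free `R`-module of rank `p ^ (n-1)`, `B` is an integral domain, and the localisation
`B[1/(μ a_{i₀})]` is integrally closed. (The published statement uses the first index for `i₀`; this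
row allows any index.) -/
theorem result
    (p : ℕ) [Fact p.Prime] (k : Type u) [Field k] [CharP k p] (n : ℕ) (hn : 2 ≤ n)
    (a : Fin n → MvPowerSeries (Fin n) k) (μ : MvPowerSeries (Fin n) k)
    (ham : ∀ i, MvPowerSeries.constantCoeff (a i) = 0) (hcop : ∀ i j, i ≠ j → IsRelPrime (a i) (a j))
    (hμ : μ ≠ 0) (hμa : ∀ i, IsRelPrime μ (a i)) (i₀ : Fin n) :
    let R := MvPowerSeries (Fin n) k
    let r : {j : Fin n // j ≠ i₀} → MvPolynomial {j : Fin n // j ≠ i₀} R := fun j =>
      X j ^ p - C ((μ * a i₀ * a j.1) ^ (p - 1)) * X j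
        - C (a i₀ ^ p * MvPowerSeries.X j.1 - a j.1 ^ p * MvPowerSeries.X i₀)
    let B := MvPolynomial {j : Fin n // j ≠ i₀} R ⧸ Ideal.span (Set.range r)
    Module.Free R B ∧ Module.finrank R B = p ^ (n - 1) ∧ IsDomain B ∧
      IsIntegrallyClosed (Localization.Away (algebraMap R B (μ * a i₀))) := by
  classical
  intro R r B
  haveI : IsDomain (MvPowerSeries (Fin n) k) := NoZeroDivisors.to_isDomain _
  obtain ⟨h1, h2, h3, h4, h5⟩ := Groth.Agent.S19997.setup (p := p) hn a μ ham hcop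
  have hp := (Fact.out : p.Prime).two_le
  let x : Fin n → MvPowerSeries (Fin n) k := fun i => MvPowerSeries.X i
  have hc : ∀ i, MvPowerSeries.constantCoeff (Groth.Agent.CommAlg4.ASAut.cs p (fun i => μ * a i) i) = 0 := fun i => by
    rw [Groth.Agent.CommAlg4.ASAut.cs, map_pow, map_mul, ham, mul_zero, zero_pow (by omega)]
  haveI : IsRegularLocalRing (Groth.Agent.CommAlg4.ASMinor.AA a μ x p) := Groth.Agent.WildAS.isRegularLocalRing _ hp hc
  haveI : UniqueFactorizationMonoid (Groth.Agent.CommAlg4.ASMinor.AA a μ x p) := Groth.Agent.CAlgH3.ufm_of_regular _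
  refine ⟨Groth.Agent.WildAS.free (Groth.Agent.CommAlg4.ASMinor.cB a μ i₀ p) (Groth.Agent.CommAlg4.ASMinor.xB a x i₀ p) hp, ?_,
    normal_away a μ x i₀ h3 (mul_ne_zero hμ (h4 i₀))⟩
  refine (Groth.Agent.WildAS.finrank_eq (Groth.Agent.CommAlg4.ASMinor.cB a μ i₀ p) (Groth.Agent.CommAlg4.ASMinor.xB a x i₀ p) hp).trans ?_
  rw [Fintype.card_subtype_compl, Fintype.card_subtype_eq, Fintype.card_fin]

end Groth.Agent.S15808
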