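import Groth.Statements.S15809
import Groth.Agent.CodimOneIso.Scheme
import Mathlib.AlgebraicGeometry.Morphisms.UniversallyOpen
import Mathlib.AlgebraicGeometry.Noetherian

set_option autoImplicit false
set_option linter.style.haveILetI false
universe u
open CategoryTheory MonoidalCategory CartesianMonoidalCategory AlgebraicGeometry Limits
open WildQuot

namespace Groth.Agent.S15809

/-- Let `S` be a Noetherian scheme, `G` a finite flat `S`-group scheme and `Y` a finite flat `S`-scheme
with an action of `G`; let `Ψ : G ×_S Y → Y ×_S Y` be `(g, y) ↦ (g y, y)`. Suppose that for every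
point `s ∈ S` of codimension at most `1` (local ring of dimension `≤ 1`) the fibre `Y_s` is a torsor
under `G_s`: it is nonempty and the base change of `Ψ` to `Spec κ(s)` is an isomorphism. Then `Y` is
a `G`-torsor: `Ψ` is an isomorphism and `Y → S` is surjective (so the finite flat cover `Y → S`
itself trivialises `Y`). -/
theorem result
    (S : Scheme.{u}) [AlgebraicGeometry.IsNoetherian S]
    (G Y : Over S) [GrpObj G]
    [AlgebraicGeometry.IsFinite G.hom] [AlgebraicGeometry.Flat G.hom]
    [AlgebraicGeometry.IsFinite Y.hom] [AlgebraicGeometry.Flat Y.hom]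
    (a : AlgGrp.Action G Y)
    (hfib : ∀ s : S, ringKrullDim (S.presheaf.stalk s) ≤ 1 →
      s ∈ Set.range Y.hom.base ∧
      IsIso (pullback.map (G ⊗ Y).hom (S.fromSpecResidueField s) (Y ⊗ Y).hom (S.fromSpecResidueField s)
        (CartesianMonoidalCategory.lift a.act (CartesianMonoidalCategory.snd G Y)).left
        (𝟙 _) (𝟙 S)
        ((Category.comp_id _).trans
          (Over.w (CartesianMonoidalCategory.lift a.act (CartesianMonoidalCategory.snd G Y))).symm)
        ((Category.comp_id _).trans (Category.id_comp _).symm))) :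
    IsIso (CartesianMonoidalCategory.lift a.act (CartesianMonoidalCategory.snd G Y)).left ∧
      Function.Surjective Y.hom.base := by
  let Ψ := CartesianMonoidalCategory.lift a.act (CartesianMonoidalCategory.snd G Y)
  have hw : Ψ.left ≫ (Y ⊗ Y).hom = (G ⊗ Y).hom := Over.w Ψ
  haveI : AlgebraicGeometry.IsFinite (Y ⊗ Y).hom := by
    show AlgebraicGeometry.IsFinite (pullback.fst Y.hom Y.hom ≫ Y.hom); infer_instance
  haveI : AlgebraicGeometry.Flat (Y ⊗ Y).hom := by
    show AlgebraicGeometry.Flat (pullback.fst Y.hom Y.hom ≫ Y.hom); infer_instance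
  haveI : AlgebraicGeometry.IsFinite (Ψ.left ≫ (Y ⊗ Y).hom) := by
    rw [hw]; show AlgebraicGeometry.IsFinite (pullback.fst G.hom Y.hom ≫ G.hom); infer_instance
  haveI : AlgebraicGeometry.Flat (Ψ.left ≫ (Y ⊗ Y).hom) := by
    rw [hw]; show AlgebraicGeometry.Flat (pullback.fst G.hom Y.hom ≫ G.hom); infer_instance
  refine ⟨CodimOneIso.isIso_of_fibres_codimOne Ψ.left (Y ⊗ Y).hom fun s hs => ?_, ?_⟩
  · obtain ⟨-, hiso⟩ := hfib s hs
    let M := pullback.map (G ⊗ Y).hom (S.fromSpecResidueField s) (Y ⊗ Y).hom (S.fromSpecResidueField s)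
      Ψ.left (𝟙 _) (𝟙 S) ((Category.comp_id _).trans (Over.w Ψ).symm)
      ((Category.comp_id _).trans (Category.id_comp _).symm)
    haveI : IsIso M := hiso
    have hbig : IsPullback (pullback.fst (G ⊗ Y).hom (S.fromSpecResidueField s))
        (M ≫ pullback.snd (Y ⊗ Y).hom (S.fromSpecResidueField s)) (Ψ.left ≫ (Y ⊗ Y).hom)
        (S.fromSpecResidueField s) := by
      rw [hw, show M ≫ pullback.snd (Y ⊗ Y).hom (S.fromSpecResidueField s) =
        pullback.snd (G ⊗ Y).hom (S.fromSpecResidueField s) from (pullback.lift_snd _ _ _).trans (Category.comp_id _)]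
      exact IsPullback.of_hasPullback _ _
    have hsq : IsPullback (pullback.fst (G ⊗ Y).hom (S.fromSpecResidueField s)) M Ψ.left
        (pullback.fst (Y ⊗ Y).hom (S.fromSpecResidueField s)) :=
      IsPullback.of_bot hbig (pullback.lift_fst _ _ _).symm (IsPullback.of_hasPullback _ _)
    show IsIso (pullback.snd Ψ.left (pullback.fst (Y ⊗ Y).hom (S.fromSpecResidueField s)))
    rw [← hsq.isoPullback_inv_snd]
    infer_instance
  · intro t
    by_contra ht
    obtain ⟨U, hU, htU, -⟩ := exists_isAffineOpen_mem_and_subset (U := (⊤ : S.Opens)) (x := t) trivial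
    obtain ⟨q, hq, hqle⟩ := Ideal.exists_minimalPrimes_le (bot_le : ⊥ ≤ (hU.primeIdealOf ⟨t, htU⟩).asIdeal)
    let η : PrimeSpectrum Γ(S, U) := ⟨q, hq.1.1⟩
    have hmem : hU.fromSpec.base η ∈ U := by
      have := Set.mem_range_self (f := hU.fromSpec.base) η
      rwa [hU.range_fromSpec] at this
    have hsp : hU.fromSpec.base η ⤳ t := by
      have h1 : η ⤳ hU.primeIdealOf ⟨t, htU⟩ := (PrimeSpectrum.le_iff_specializes _ _).1 hqle
      have h2 := h1.map hU.fromSpec.continuous
      rwa [hU.fromSpec_primeIdealOf] at h2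
    have hdim : ringKrullDim (S.presheaf.stalk (hU.fromSpec.base η)) ≤ 1 := by
      let _ : Algebra Γ(S, U) (S.presheaf.stalk (hU.fromSpec.base η)) := (S.presheaf.germ U _ hmem).hom.toAlgebra
      haveI : η.asIdeal.IsPrime := η.isPrime
      haveI : IsLocalization.AtPrime (S.presheaf.stalk (hU.fromSpec.base η)) η.asIdeal := hU.isLocalization_stalk' η hmem
      rw [IsLocalization.AtPrime.ringKrullDim_eq_height η.asIdeal]
      have : η.asIdeal.height = 0 := Ideal.height_eq_zero_iff.2 hq
      simp [this]
    obtain ⟨hη, -⟩ := hfib _ hdim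
    exact ht ((Y.hom.isClosedMap.isClosed_range).stableUnderSpecialization hsp hη)
end Groth.Agent.S15809
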