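import Groth.Statements.S1581
import Groth.Agent.Et18.Descent

set_option autoImplicit false
set_option backward.isDefEq.respectTransparency.types false
universe u
open CategoryTheory CategoryTheory.Limits AlgebraicGeometry
open Variety Groth.Agent

namespace Groth.Agent.S1581

/-- Let X be a scheme over a field k and K a field extension of k. If X_K is proper over K then X is
proper over k. -/
theorem result (k : Type u) [Field k] (X : Scheme.{u}) [X.Over (Spec (CommRingCat.of k))] (K : Type u) [Field K] [Algebra k K]
    [IsProper (Curv2.bcSnd k X K)] : IsProper (X ↘ (Spec (CommRingCat.of k))) := by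
  have := Et18.descends_isProper.{u}
  have hf : Et18.FPQC (Spec.map (CommRingCat.ofHom (algebraMap k K))) := by
    refine ⟨⟨?_, ?_⟩, inferInstance⟩
    · exact ⟨fun x => ⟨Classical.arbitrary _, Subsingleton.elim _ _⟩⟩
    · rw [Flat.SpecMap_iff]
      exact RingHom.flat_algebraMap_iff.2 inferInstance
  exact MorphismProperty.of_pullback_snd_of_descendsAlong (P := @IsProper) (Q := Et18.FPQC.{u}) hf
    (inferInstanceAs (IsProper (Curv2.bcSnd k X K)))

end Groth.Agent.S1581
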