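import Groth.Statements.S15810
import Mathlib
import Groth.Prelude
import Groth.Agent.WildAS.Basic
import Groth.Agent.CAlgH3.Factorial
import Groth.Agent.S19997
import Groth.Agent.CommAlg4.ASOrth

set_option linter.all false

set_option autoImplicit false
universe u
open WildQuot

open MvPolynomial

namespace Groth.Agent.S15810

open Groth.Agent.CommAlg4 in
theorem core {p : ℕ} [Fact p.Prime] {k : Type u} [Field k] [CharP k p] {n : ℕ} (hn : 2 ≤ n)
    (a : Fin n → MvPowerSeries (Fin n) k) (μ : MvPowerSeries (Fin n) k)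
    (ham : ∀ i, MvPowerSeries.constantCoeff (a i) = 0) (hcop : ∀ i j, i ≠ j → IsRelPrime (a i) (a j))
    (hμ : μ ≠ 0) (s : Fin n → ZMod p) (hs : s ≠ 0) :
    let R := MvPowerSeries (Fin n) k
    let x : Fin n → R := fun i => MvPowerSeries.X i
    let A := ASAut.A p (fun i => μ * a i) x
    let u : Fin n → A := Groth.Agent.WildAS.gen p (ASAut.cs p fun i => μ * a i) x
    let c : Fin n → R := fun i => algebraMap k R (ZMod.castHom (dvd_refl p) k (s i))
    let α : R := ∏ i ∈ Finset.univ.filter (fun i => s i ≠ 0), a i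
    let αi : Fin n → R := fun i => ∏ j ∈ (Finset.univ.filter (fun j => s j ≠ 0)).erase i, a j
    let z : A := ∑ i ∈ Finset.univ.filter (fun i => s i ≠ 0), algebraMap R A (c i * αi i) * u i
    let f : Polynomial R := Polynomial.X ^ p - Polynomial.C ((μ * α) ^ (p - 1)) * Polynomial.X
      - Polynomial.C (∑ i ∈ Finset.univ.filter (fun i => s i ≠ 0), c i * αi i ^ p * MvPowerSeries.X i)
    ∀ σ : Fin n → (A ≃ₐ[R] A),
      (∀ i j, σ i (u j) = u j + (if i = j then algebraMap R A (μ * a i) else 0)) →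
      (∀ t : A, (∀ ν : Fin n → ZMod p, ∑ i, ν i * s i = 0 →
          (List.ofFn (fun i : Fin n => σ i ^ (ν i).val)).prod t = t) ↔
        t ∈ (Polynomial.aeval z : Polynomial R →ₐ[R] A).range) ∧
      RingHom.ker (Polynomial.aeval z : Polynomial R →ₐ[R] A) = Ideal.span {f} := by
  classical
  intro R x A u c α αi z f σ hσ
  haveI : IsDomain (MvPowerSeries (Fin n) k) := NoZeroDivisors.to_isDomain _
  obtain ⟨h1, h2, h3, h4, h5⟩ := Groth.Agent.S19997.setup (p := p) hn a μ ham hcop
  haveI : IsRegularLocalRing (MvPowerSeries (Fin n) k) := (Groth.Agent.CAlgH.isRegularLocalRing_mvPowerSeries k n).1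
  haveI : UniqueFactorizationMonoid (MvPowerSeries (Fin n) k) := Groth.Agent.CAlgH3.ufm_of_regular _
  haveI : NeZero p := ⟨(Fact.out : p.Prime).ne_zero⟩
  have hc : c = fun i => ASOrth.cc (R := MvPowerSeries (Fin n) k) s i := funext fun i =>
    RingHom.congr_fun (RingHom.ext_zmod ((algebraMap k R).comp (ZMod.castHom (dvd_refl p) k)) _) (s i)
  have hz : z = ASOrth.zs a μ x s := by simp only [z, hc]; rfl
  have hf : f = ASOrth.fs (p := p) a μ x s := by simp only [f, hc]; rfl
  have hσ' : ∀ i, σ i = ASAut.transEquiv p (fun i => μ * a i) x (Pi.single i 1) := fun i => by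
    refine AlgEquiv.ext (AlgHom.congr_fun (φ₁ := (σ i).toAlgHom) (φ₂ := ASAut.trans p (fun i => μ * a i) x (Pi.single i 1))
      (Ideal.Quotient.algHom_ext _ (MvPolynomial.algHom_ext fun j => ?_)))
    show σ i (u j) = ASAut.trans p (fun i => μ * a i) x (Pi.single i 1) (u j)
    rw [hσ, ASAut.trans_gen]
    rcases eq_or_ne i j with rfl | hij
    · rw [if_pos rfl, Pi.single_eq_same, map_one, one_mul]
    · rw [if_neg hij, Pi.single_eq_of_ne hij.symm, map_zero, zero_mul, map_zero]
  have hprod : ∀ ν : Fin n → ZMod p, (List.ofFn (fun i : Fin n => σ i ^ (ν i).val)).prod =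
      ASAut.transEquiv p (fun i => μ * a i) x ν := fun ν => by
    have hfn : (fun i : Fin n => σ i ^ (ν i).val) =
        ASAut.transEquiv p (fun i => μ * a i) x ∘ fun i => (Pi.single i (ν i) : Fin n → ZMod p) := funext fun i => by
      rw [hσ', ← ASAut.transEquiv_nsmul, Function.comp_apply]
      congr 1
      rw [← Pi.single_smul', nsmul_eq_mul, mul_one, ZMod.natCast_zmod_val]
    rw [hfn, ← List.map_ofFn]
    have key : ∀ L : List (Fin n → ZMod p), (L.map (ASAut.transEquiv p (fun i => μ * a i) x)).prod =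
        ASAut.transEquiv p (fun i => μ * a i) x L.sum := by
      intro L
      induction L with
      | nil => exact (ASAut.transEquiv_zero p (fun i => μ * a i) x).symm
      | cons d L ih => rw [List.map_cons, List.prod_cons, List.sum_cons, ih, ASAut.transEquiv_add]
    rw [key, List.sum_ofFn, Finset.univ_sum_single]
  refine ⟨fun t => ⟨fun ht => ?_, fun ht ν hν => ?_⟩, ?_⟩
  · rw [hz]
    exact ASOrth.mem_range_of_fixed a μ x s h3 hs hμ h4 hcop t fun ν hν => by
      have := ht ν hν; rwa [hprod] at this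
  · rw [hprod]
    obtain ⟨P, rfl⟩ := ht
    show ASAut.trans p (fun i => μ * a i) x ν (Polynomial.aeval z P) = Polynomial.aeval z P
    rw [← Polynomial.aeval_algHom_apply, hz, ASOrth.trans_zs, hν, map_zero, zero_mul, map_zero, add_zero]
  · rw [hz, hf]
    exact ASOrth.ker_aeval a μ x s h3 hs hμ h4

open MvPolynomial in
/-- Let `k` be a field of characteristic `p > 0`, `n ≥ 2`, `R = k[[x_1, …, x_n]]`, `a_1, …, a_n ∈ R`
with zero constant term and pairwise coprime, `μ ∈ R` nonzero and coprime to each `a_i`, `A = R[u_1,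
…, u_n] / (u_i ^ p - (μ a_i) ^ (p-1) u_i - x_i : i = 1..n)`, and `σ_1, …, σ_n` the `R`-algebra
automorphisms of `A` with `σ_i u_j = u_j + δ_{ij} μ a_i` (they generate an elementary abelian group
`H` of order `p ^ n`). For a nonzero vector `s ∈ (ℤ/p)^n` let `H_s = {ν : Σ ν_i s_i = 0}`, `α =
∏_{s_i ≠ 0} a_i`, `α_i = ∏_{j ≠ i, s_j ≠ 0} a_j`, `z_s = Σ_{s_i ≠ 0} s_i α_i u_i` and `f_s(T) = T ^
p - (μ α) ^ (p-1) T - Σ_{s_i ≠ 0} s_i α_i ^ p x_i`. Then an element of `A` is fixed by `∏_i σ_i ^
{ν_i}` for every `ν ∈ H_s` if and only if it is a polynomial over `R` in `z_s`, and the kernel of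
`R[T] → A`, `T ↦ z_s`, is generated by `f_s`: the ring of invariants of `H_s` is `R[T]/(f_s)`, in
particular free of rank `p` over `R`. -/
theorem result
    (p : ℕ) [Fact p.Prime] (k : Type u) [Field k] [CharP k p] (n : ℕ) (hn : 2 ≤ n)
    (a : Fin n → MvPowerSeries (Fin n) k) (μ : MvPowerSeries (Fin n) k)
    (ham : ∀ i, MvPowerSeries.constantCoeff (a i) = 0) (hcop : ∀ i j, i ≠ j → IsRelPrime (a i) (a j))
    (hμ : μ ≠ 0) (hμa : ∀ i, IsRelPrime μ (a i))
    (s : Fin n → ZMod p) (hs : s ≠ 0) :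
    let R := MvPowerSeries (Fin n) k
    let I : Ideal (MvPolynomial (Fin n) R) :=
      Ideal.span (Set.range fun i : Fin n =>
        X i ^ p - C ((μ * a i) ^ (p - 1)) * X i - C (MvPowerSeries.X i))
    let A := MvPolynomial (Fin n) R ⧸ I
    let u : Fin n → A := fun i => Ideal.Quotient.mk I (X i)
    let c : Fin n → R := fun i => algebraMap k R (ZMod.castHom (dvd_refl p) k (s i))
    let α : R := ∏ i ∈ Finset.univ.filter (fun i => s i ≠ 0), a i
    let αi : Fin n → R := fun i => ∏ j ∈ (Finset.univ.filter (fun j => s j ≠ 0)).erase i, a j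
    let z : A := ∑ i ∈ Finset.univ.filter (fun i => s i ≠ 0), algebraMap R A (c i * αi i) * u i
    let f : Polynomial R := Polynomial.X ^ p - Polynomial.C ((μ * α) ^ (p - 1)) * Polynomial.X
      - Polynomial.C (∑ i ∈ Finset.univ.filter (fun i => s i ≠ 0), c i * αi i ^ p * MvPowerSeries.X i)
    ∀ σ : Fin n → (A ≃ₐ[R] A),
      (∀ i j, σ i (u j) = u j + (if i = j then algebraMap R A (μ * a i) else 0)) →
      (∀ t : A, (∀ ν : Fin n → ZMod p, ∑ i, ν i * s i = 0 →
          (List.ofFn (fun i : Fin n => σ i ^ (ν i).val)).prod t = t) ↔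
        t ∈ (Polynomial.aeval z : Polynomial R →ₐ[R] A).range) ∧
      RingHom.ker (Polynomial.aeval z : Polynomial R →ₐ[R] A) = Ideal.span {f} := by
  intro R I A u c α αi z f σ hσ
  exact core hn a μ ham hcop hμ s hs σ hσ

end Groth.Agent.S15810
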