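import Groth.Statements.S15811
import Mathlib

set_option autoImplicit false
universe u
open WildQuot

namespace Groth.Agent.S15811

/-- Let `R` be an integrally closed domain of prime characteristic `p` with fraction field `K`, and `α ∈
R`. Then `α ≠ 0` and the polynomial `T ^ p - α T` splits into linear factors over `K` — which says
that the finite flat group scheme `Spec R[T]/(T ^ p - α T)` of order `p` has constant generic fibre
(its `p` roots are then distinct) — if and only if `α = a ^ (p-1)` for some nonzero `a ∈ R`. (The
published statement is that the generic fibre of the finite flat group scheme of order `p` with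
parameters `α, β` satisfying `α β = 0`, whose underlying scheme is `Spec R[T]/(T ^ p - α T)`, is
constant if and only if `β = 0` and `α` is the `(p-1)`-th power of a nonzero element of `R`; this
row states the polynomial condition, in which `α ≠ 0` already forces `β = 0` over a domain.) -/
theorem result
    (p : ℕ) [Fact p.Prime] (R : Type u) [CommRing R] [IsDomain R] [IsIntegrallyClosed R]
    [CharP R p] (α : R) :
    (α ≠ 0 ∧ (Polynomial.map (algebraMap R (FractionRing R))
        (Polynomial.X ^ p - Polynomial.C α * Polynomial.X)).Splits) ↔
      ∃ a : R, a ≠ 0 ∧ α = a ^ (p - 1) := by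
  set K := FractionRing R
  have hp := (Fact.out : p.Prime)
  have hinj := IsFractionRing.injective R K
  constructor
  · rintro ⟨hα, hs⟩
    have hK : CharP K p := charP_of_injective_algebraMap hinj p
    set f : Polynomial K := Polynomial.X ^ p - Polynomial.C (algebraMap R K α) * Polynomial.X with hf
    have hmap : Polynomial.map (algebraMap R K) (Polynomial.X ^ p - Polynomial.C α * Polynomial.X) = f := by
      simp [hf]
    rw [hmap] at hs
    have hlt : (-(Polynomial.C (algebraMap R K α) * Polynomial.X)).degree < (p : WithBot ℕ) := by
      rw [Polynomial.degree_neg]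
      exact lt_of_le_of_lt (Polynomial.degree_C_mul_X_le _) (by exact_mod_cast hp.one_lt)
    have hmonic : f.Monic := by
      rw [hf, sub_eq_add_neg]; exact Polynomial.monic_X_pow_add hlt
    have hdeg : f.natDegree = p := by
      refine Polynomial.natDegree_eq_of_degree_eq_some ?_
      rw [hf, sub_eq_add_neg, Polynomial.degree_add_eq_left_of_degree_lt] <;>
        rw [Polynomial.degree_X_pow]
      exact hlt
    have hsep : f.Separable := by
      have hder : Polynomial.derivative f = Polynomial.C (-algebraMap R K α) := by
        simp [hf, Polynomial.derivative_X_pow, CharP.cast_eq_zero]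
      rw [Polynomial.separable_def, hder]
      have hu := Polynomial.isUnit_C.mpr
        (IsUnit.mk0 _ (neg_ne_zero.mpr ((map_ne_zero_iff _ hinj).mpr hα)))
      obtain ⟨b, hb⟩ := isUnit_iff_exists_inv'.mp hu
      exact ⟨0, b, by rw [zero_mul, zero_add, hb]⟩
    classical
    have hcard : f.roots.toFinset.card = p := by
      rw [Multiset.toFinset_card_of_nodup (Polynomial.nodup_roots hsep),
        ← hs.natDegree_eq_card_roots, hdeg]
    obtain ⟨r, hr, hr0⟩ := Finset.exists_mem_ne (by rw [hcard]; exact hp.one_lt) (0 : K)
    rw [Multiset.mem_toFinset, Polynomial.mem_roots hmonic.ne_zero] at hr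
    have hr' : r ^ (p - 1) = algebraMap R K α := by
      have h1 : r ^ p - algebraMap R K α * r = 0 := by simpa [hf, Polynomial.IsRoot] using hr
      have h2 : r ^ p = r ^ (p - 1) * r := by rw [← pow_succ, Nat.sub_add_cancel hp.one_le]
      rw [h2, ← sub_mul] at h1
      exact sub_eq_zero.mp ((mul_eq_zero.mp h1).resolve_right hr0)
    obtain ⟨b, hb⟩ := (IsIntegrallyClosed.isIntegral_iff).mp
      (IsIntegral.of_pow (R := R) (show 0 < p - 1 by have := hp.two_le; omega)
        (hr' ▸ isIntegral_algebraMap : IsIntegral R (r ^ (p - 1))))
    refine ⟨b, fun h => hr0 (by rw [← hb, h, map_zero]), hinj ?_⟩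
    rw [map_pow, hb, hr']
  · rintro ⟨a, ha, rfl⟩
    refine ⟨pow_ne_zero _ ha, ?_⟩
    set b := algebraMap R K a with hb
    have hb0 : b ≠ 0 := (map_ne_zero_iff _ hinj).mpr ha
    have hK : CharP K p := charP_of_injective_algebraMap hinj p
    let g : Polynomial K := Polynomial.X ^ p - Polynomial.C (b ^ (p - 1)) * Polynomial.X
    have hmap : Polynomial.map (algebraMap R K)
        (Polynomial.X ^ p - Polynomial.C (a ^ (p - 1)) * Polynomial.X) = g := by
      simp [g, hb]
    rw [hmap, Polynomial.splits_iff_card_roots]
    have hlt : (-(Polynomial.C (b ^ (p - 1)) * Polynomial.X)).degree < (p : WithBot ℕ) := by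
      rw [Polynomial.degree_neg]
      exact lt_of_le_of_lt (Polynomial.degree_C_mul_X_le _) (by exact_mod_cast hp.one_lt)
    have hne : g ≠ 0 := by
      refine Polynomial.Monic.ne_zero ?_
      simp only [g, sub_eq_add_neg]
      exact Polynomial.monic_X_pow_add hlt
    have hdeg : g.natDegree = p := by
      refine Polynomial.natDegree_eq_of_degree_eq_some ?_
      simp only [g, sub_eq_add_neg]
      rw [Polynomial.degree_add_eq_left_of_degree_lt] <;> rw [Polynomial.degree_X_pow]
      exact hlt
    classical
    refine le_antisymm (Polynomial.card_roots' g) ?_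
    rw [hdeg]
    let e : ZMod p → K := fun j => ZMod.castHom (dvd_refl p) K j * b
    have he : Function.Injective e := fun i j h =>
      (ZMod.castHom (dvd_refl p) K).injective (mul_right_cancel₀ hb0 h)
    have hsub : Finset.univ.image e ⊆ g.roots.toFinset := by
      intro z hz
      obtain ⟨j, -, rfl⟩ := Finset.mem_image.mp hz
      rw [Multiset.mem_toFinset, Polynomial.mem_roots hne]
      have hj : (ZMod.castHom (dvd_refl p) K j) ^ p = ZMod.castHom (dvd_refl p) K j := by
        rw [← map_pow, ZMod.pow_card]
      have h2 : b ^ p = b ^ (p - 1) * b := by rw [← pow_succ, Nat.sub_add_cancel hp.one_le]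
      simp only [g, e, Polynomial.IsRoot, Polynomial.eval_sub, Polynomial.eval_mul, Polynomial.eval_pow,
        Polynomial.eval_X, Polynomial.eval_C, mul_pow, hj, h2]
      ring
    calc p = (Finset.univ.image e).card := by rw [Finset.card_image_of_injective _ he]; simp
      _ ≤ g.roots.toFinset.card := Finset.card_le_card hsub
      _ ≤ Multiset.card g.roots := Multiset.toFinset_card_le _

end Groth.Agent.S15811
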