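import Groth.Statements.S15813
import Mathlib
import Groth.Prelude
import Groth.Agent.CommAlg4.PSAut

set_option linter.all false

set_option autoImplicit false
universe u
open WildQuot

open PowerSeries

namespace Groth.Agent.S15813

theorem mem_range_of_pow_eq {F : Type u} [Field F] {p : ℕ} [Fact p.Prime] [CharP F p] (d : F) (h : d ^ p = d) :
    ∃ c : ZMod p, ZMod.castHom (dvd_refl p) F c = d := by
  by_contra hd
  push Not at hd
  have hp := (Fact.out : p.Prime).one_lt
  have h0 : (Polynomial.X ^ p - Polynomial.X : Polynomial F) = 0 := by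
    refine Polynomial.eq_zero_of_natDegree_lt_card_of_eval_eq_zero _
      (f := fun o : Option (ZMod p) => o.elim d (ZMod.castHom (dvd_refl p) F)) ?_ ?_ ?_
    · rintro (_ | a) (_ | b) h1
      · rfl
      · exact absurd h1.symm (hd b)
      · exact absurd h1 (hd a)
      · exact congrArg some ((ZMod.castHom (dvd_refl p) F).injective h1)
    · rintro (_ | a)
      · simp [h]
      · simp only [Option.elim, Polynomial.eval_sub, Polynomial.eval_pow, Polynomial.eval_X, ← map_pow, ZMod.pow_card, sub_self]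
    · rw [FiniteField.X_pow_card_sub_X_natDegree_eq F hp, Fintype.card_option, ZMod.card]; omega
  exact FiniteField.X_pow_card_sub_X_ne_zero F hp h0

/-- Let `k` be a field of characteristic `p > 0`, `A = k[[u]]`, and `σ` a `k`-algebra automorphism of
`A` of order exactly `p`, with ramification break `m`: `σ u - u` has order `m + 1`. Let `x = ∏_{i <
p} σ^i u` be the norm of `u`, let `f ∈ A` be `σ`-invariant with nonzero constant term (a unit of the
invariant ring `k[[x]]`), let `μ > 0` be prime to `p`, and let `z ∈ Frac(A)` satisfy the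
Artin–Schreier equation `z ^ p - z = f / x ^ μ`. Then `μ = m`. (The published statement also records
that `Frac(A) = Frac(A^σ)(z)`; that follows from the equation since `p` does not divide `μ`, so it
is not repeated as a hypothesis.) -/
theorem result
    (p : ℕ) [Fact p.Prime] (k : Type u) [Field k] [CharP k p]
    (σ : PowerSeries k ≃ₐ[k] PowerSeries k) (hσp : σ ^ p = 1) (hσ1 : σ ≠ 1)
    (m : ℕ) (hm : (σ PowerSeries.X - PowerSeries.X).order = ((m + 1 : ℕ) : ℕ∞))
    (f : PowerSeries k) (hfσ : σ f = f) (hf0 : PowerSeries.constantCoeff f ≠ 0)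
    (μ : ℕ) (hμ : 0 < μ) (hpμ : ¬ p ∣ μ)
    (z : FractionRing (PowerSeries k))
    (hz : z ^ p - z = algebraMap (PowerSeries k) (FractionRing (PowerSeries k)) f /
      algebraMap (PowerSeries k) (FractionRing (PowerSeries k))
        (∏ i ∈ Finset.range p, (σ ^ i) PowerSeries.X) ^ μ) :
    μ = m := by
  have hp := (Fact.out : p.Prime).two_le
  set ι := algebraMap k⟦X⟧ (FractionRing k⟦X⟧) with hι
  have hinj : Function.Injective ι := IsFractionRing.injective _ _
  set x := ∏ i ∈ Finset.range p, (σ ^ i) X with hx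
  obtain ⟨W, hW, hW0⟩ : ∃ W, x = X ^ p * W ∧ constantCoeff W = 1 := Groth.Agent.CommAlg4.PSAut.norm_shape σ hσp
  have hxσ : σ x = x := Groth.Agent.CommAlg4.PSAut.norm_fixed σ hσp
  have hW0' : W ≠ 0 := fun h => by rw [h, map_zero] at hW0; exact zero_ne_one hW0
  have hx0 : x ≠ 0 := by rw [hW]; exact mul_ne_zero (pow_ne_zero _ X_ne_zero) hW0'
  rw [eq_div_iff (pow_ne_zero _ ((map_ne_zero_iff ι hinj).2 hx0))] at hz
  obtain ⟨⟨a, b, hb⟩, hab⟩ := IsLocalization.surj (nonZeroDivisors k⟦X⟧) z
  have hb0 : b ≠ 0 := nonZeroDivisors.ne_zero hb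
  have ha0 : a ≠ 0 := fun h => by
    have : z = 0 := by simpa [h, hb0] using hab
    rw [this, zero_pow (by omega), sub_zero, zero_mul] at hz
    exact hf0 (by rw [(map_eq_zero_iff ι hinj).1 hz.symm, map_zero])
  obtain ⟨w, hw, hw0⟩ : ∃ w, z * ι w = 1 ∧ constantCoeff w = 0 := by
    rcases le_or_gt b.order.toNat a.order.toNat with hle | hlt
    · exfalso
      have hUb : IsUnit (divXPowOrder b) := isUnit_iff_constantCoeff.2 (isUnit_iff_ne_zero.2
        (fun h => hb0 (constantCoeff_divXPowOrder_eq_zero_iff.1 h)))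
      have hdvd : b ∣ a := by
        refine dvd_trans ?_ ((pow_dvd_pow X hle).trans X_pow_order_dvd)
        conv_lhs => rw [← X_pow_order_mul_divXPowOrder (f := b)]
        exact (mul_dvd_mul_left _ hUb.dvd).trans (mul_one _).dvd
      obtain ⟨g, rfl⟩ := hdvd
      have hzg : z = ι g := mul_right_cancel₀ ((map_ne_zero_iff ι hinj).2 hb0) (hab.trans (by rw [map_mul, mul_comm]))
      rw [hzg, ← map_pow, ← map_sub, ← map_pow, ← map_mul] at hz
      have := congrArg constantCoeff (hinj hz)
      rw [map_mul, map_pow, hW, map_mul, map_pow, constantCoeff_X, zero_pow (by omega : p ≠ 0), zero_mul,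
        zero_pow (by omega : μ ≠ 0), mul_zero] at this
      exact hf0 this.symm
    · obtain ⟨U, hU⟩ : IsUnit (divXPowOrder a) := isUnit_iff_constantCoeff.2 (isUnit_iff_ne_zero.2
        (fun h => ha0 (constantCoeff_divXPowOrder_eq_zero_iff.1 h)))
      refine ⟨X ^ (b.order.toNat - a.order.toNat) * (divXPowOrder b * (↑U⁻¹ : k⟦X⟧)), ?_, by
        rw [map_mul, map_pow, constantCoeff_X, zero_pow (by omega), zero_mul]⟩
      have hw : a * (X ^ (b.order.toNat - a.order.toNat) * (divXPowOrder b * (↑U⁻¹ : k⟦X⟧))) = b := by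
        conv_lhs => arg 1; rw [← X_pow_order_mul_divXPowOrder (f := a), ← hU]
        calc _ = X ^ (a.order.toNat + (b.order.toNat - a.order.toNat)) * divXPowOrder b * ((U : k⟦X⟧) * (↑U⁻¹ : k⟦X⟧)) := by
              rw [pow_add]; ring
          _ = b := by rw [Units.mul_inv, mul_one, Nat.add_sub_cancel' hlt.le, X_pow_order_mul_divXPowOrder]
      refine mul_right_cancel₀ ((map_ne_zero_iff ι hinj).2 hb0) ?_
      rw [one_mul, mul_right_comm, hab, ← map_mul, hw]
  have hιw : ι w ≠ 0 := fun h => by simp [h] at hw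
  have hzw : z = (ι w)⁻¹ := eq_inv_of_mul_eq_one_left hw
  have heq : (1 - w ^ (p - 1)) * x ^ μ = f * w ^ p := hinj (by
    rw [map_mul, map_mul, map_sub, map_one, map_pow, map_pow, map_pow]
    rw [← hz, hzw, inv_pow]
    obtain ⟨q, rfl⟩ : ∃ q, p = q + 1 := ⟨p - 1, by omega⟩
    simp only [Nat.add_sub_cancel]
    field_simp
    ring)
  have hμw : w.order = (μ : ℕ∞) := by
    have hw1 : w ≠ 0 := fun h => hιw (by rw [h, map_zero])
    have h1 := congrArg order heq
    rw [order_mul, order_mul, order_pow, order_pow, hW,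
      order_zero_of_unit (f := f) (isUnit_iff_constantCoeff.2 (isUnit_iff_ne_zero.2 hf0)),
      order_zero_of_unit (f := 1 - w ^ (p - 1)) (isUnit_iff_constantCoeff.2 (by
        rw [map_sub, map_one, map_pow, hw0, zero_pow (by omega), sub_zero]; exact isUnit_one)),
      Groth.Agent.CommAlg4.PSAut.order_X_pow_mul p W (by rw [hW0]; exact one_ne_zero), ← coe_toNat_order hw1,
      zero_add, zero_add, nsmul_eq_mul, nsmul_eq_mul] at h1
    rw [← coe_toNat_order hw1]
    have h2 : μ * p = p * w.order.toNat := by exact_mod_cast h1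
    exact_mod_cast (Nat.eq_of_mul_eq_mul_left (by omega : 0 < p) (by rw [← h2, mul_comm])).symm
  have hwne : w ≠ 0 := fun h => hιw (by rw [h, map_zero])
  have heq' : (1 - σ w ^ (p - 1)) * x ^ μ = f * σ w ^ p := by
    have := congrArg σ heq
    rwa [map_mul, map_mul, map_sub, map_one, map_pow, map_pow, map_pow, hfσ, hxσ] at this
  have hιw' : ι (σ w) ≠ 0 := (map_ne_zero_iff ι hinj).2 ((map_ne_zero_iff σ σ.injective).2 hwne)
  set z' := (ι (σ w))⁻¹ with hz'
  have hz2 : (z' ^ p - z') * ι x ^ μ = ι f := by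
    have h1 := congrArg ι heq'
    rw [map_mul, map_mul, map_sub, map_one, map_pow, map_pow, map_pow] at h1
    obtain ⟨q, rfl⟩ : ∃ q, p = q + 1 := ⟨p - 1, by omega⟩
    simp only [Nat.add_sub_cancel] at h1
    rw [hz', inv_pow]
    field_simp
    linear_combination (ι (σ w)) * h1
  haveI : CharP k⟦X⟧ p := charP_of_injective_algebraMap (algebraMap k k⟦X⟧).injective p
  haveI : CharP (FractionRing k⟦X⟧) p := charP_of_injective_ringHom hinj p
  have hd : (z' - z) ^ p = z' - z := by
    have h1 := mul_right_cancel₀ (pow_ne_zero _ ((map_ne_zero_iff ι hinj).2 hx0)) (hz2.trans hz.symm)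
    rw [sub_pow_char]; linear_combination h1
  obtain ⟨c, hc⟩ := mem_range_of_pow_eq (z' - z) hd
  have hc2 : ZMod.castHom (dvd_refl p) k⟦X⟧ c * (w * σ w) = w - σ w := hinj (by
    rw [map_mul, map_mul, map_sub, show ι (ZMod.castHom (dvd_refl p) k⟦X⟧ c) = z' - z from
      (RingHom.congr_fun (RingHom.ext_zmod (ι.comp (ZMod.castHom (dvd_refl p) k⟦X⟧)) (ZMod.castHom (dvd_refl p) _)) c).trans hc,
      hz', hzw]
    field_simp)
  obtain ⟨v, hv, hv0⟩ := Groth.Agent.CommAlg4.PSAut.delta_of_not_dvd σ hσp hm μ hpμ w (divXPowOrder w)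
    (by conv_lhs => rw [← X_pow_order_mul_divXPowOrder (f := w), hμw, ENat.toNat_coe])
    (fun h => hwne (constantCoeff_divXPowOrder_eq_zero_iff.1 h))
  have hne : σ w - w ≠ 0 := by
    rw [hv]; exact mul_ne_zero (pow_ne_zero _ X_ne_zero) (fun h => hv0 (by rw [h, map_zero]))
  have hcu : IsUnit (ZMod.castHom (dvd_refl p) k⟦X⟧ c) := by
    refine (Ne.isUnit ?_).map _
    intro h; rw [h, map_zero, zero_mul] at hc2
    exact hne (by rw [← neg_sub, ← hc2, neg_zero])
  have h1 := congrArg order hc2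
  have hσw : (σ w).order = (μ : ℕ∞) := by
    conv_lhs => rw [← sub_add_cancel (σ w) w]
    have hlt : w.order ≠ (σ w - w).order := by
      rw [hv, Groth.Agent.CommAlg4.PSAut.order_X_pow_mul _ _ hv0, hμw]
      obtain ⟨-, -, -, hm1⟩ := Groth.Agent.CommAlg4.PSAut.shape σ hσp hm
      intro h; have := Nat.cast_inj.1 h; omega
    rw [order_add_of_order_ne _ _ hlt.symm, hv, Groth.Agent.CommAlg4.PSAut.order_X_pow_mul _ _ hv0, hμw]
    exact inf_eq_right.2 (by exact_mod_cast Nat.le_add_right μ m)
  rw [order_mul, order_mul, order_zero_of_unit hcu, zero_add, hσw, hμw, ← neg_sub, order_neg, hv,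
    Groth.Agent.CommAlg4.PSAut.order_X_pow_mul _ _ hv0] at h1
  have : μ + μ = μ + m := by exact_mod_cast h1
  omega

end Groth.Agent.S15813
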