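import Groth.Statements.S15816
import Groth.Agent.Koszul15.Scale
import Groth.Agent.S15821
-- import your own Groth.Agent.* helpers here

set_option autoImplicit false
universe u
open CategoryTheory
open scoped TensorProduct
open Koszul

namespace Groth.Agent.S15816

/-- Let A be a commutative ring, f = (f_1, …, f_n) a sequence in A that is regular in the weak sense
(f_1 is a non-zero-divisor of A and each f_i is a non-zero-divisor modulo (f_1, …, f_{i-1})), with
Koszul complex K(f) and differentials ∂^q, and let x be a non-zero-divisor of A. Then for every
integer q < 0 the q-th cohomology module of the Koszul complex of (x f_1, …, x f_n) is isomorphic as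
an A-module to Ker(∂^q) ⊗_A A/(x) (existence of an A-linear isomorphism; mapping-cone model of the
Koszul complex). -/
theorem result (A : Type u) [CommRing A] (l : List A)
    (hl : RingTheory.Sequence.IsWeaklyRegular A l) (x : A) (hx : x ∈ nonZeroDivisors A) (q : ℤ) (hq : q < 0) :
    Nonempty ((Koszul.koszul A (l.map (fun f => x * f))).homology q ≅
      ModuleCat.of A (↥(LinearMap.ker ((Koszul.koszul A l).d q (q + 1)).hom) ⊗[A] (A ⧸ Ideal.span {x}))) := by
  obtain ⟨h⟩ := Groth.Agent.Koszul15.nonempty_homology_scale hx l q
  refine ⟨h.trans (LinearEquiv.toModuleIso ?_)⟩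
  have hex : LinearMap.range ((Koszul.koszul A l).d (q - 1) q).hom =
      LinearMap.ker ((Koszul.koszul A l).d q (q + 1)).hom := by
    have hK : LCI.IsKoszulRegularSeq A l := (Groth.Agent.S15821.result A l hl).1
    have h0 := hK q (by omega)
    rw [← HomologicalComplex.exactAt_iff_isZero_homology,
      HomologicalComplex.exactAt_iff' _ (q - 1) q (q + 1) (by simp) (by simp),
      ShortComplex.moduleCat_exact_iff_range_eq_ker] at h0
    exact h0
  refine (Submodule.quotEquivOfEq _ (Ideal.span {x} • ⊤) ?_).trans
    (TensorProduct.tensorQuotEquivQuotSMul _ (Ideal.span {x})).symm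
  rw [hex]
  apply Submodule.map_injective_of_injective
    (LinearMap.ker ((Koszul.koszul A l).d q (q + 1)).hom).injective_subtype
  rw [Submodule.map_smul'', Submodule.map_top, Submodule.range_subtype, Submodule.map_comap_eq,
    Submodule.range_subtype, inf_eq_right]
  exact Submodule.smul_le_right

end Groth.Agent.S15816
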