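import Groth.Statements.S15818
import Mathlib.CategoryTheory.Limits.Types.Pullbacks
import Mathlib.Algebra.Category.ModuleCat.Limits
-- import your own Groth.Agent.* helpers here

set_option autoImplicit false
universe u
open CategoryTheory
open Koszul

namespace Groth.Agent.S15818

/-- Let A be a commutative ring, f = (f_1, …, f_n) a finite sequence in A with Koszul complex K = K(f)
(mapping-cone model) and differentials ∂, q an integer, Z = Ker(∂^q) and B = Im(∂^{q-1}), so B ⊆ Z
inside K^q (this inclusion is carried as the hypothesis hBZ). Let x be a non-zero-divisor of A which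
moreover acts injectively on the cohomology module Z/B (for Noetherian A this says that x lies in no
associated prime of Z/B, which is how the published statement phrases it; the published argument
uses exactly the injectivity). Then the commuting square of quotient projections with corners Z/xB
(top left; it is isomorphic to the q-th cohomology of the Koszul complex of (x f_1, …, x f_n)), Z/xZ
= Z ⊗ A/(x) (top right), Z/B (bottom left) and Z/(B + xZ) = (Z/B) ⊗ A/(x) (bottom right) is
cartesian in the category of A-modules. All four corners are written as quotients of Z by the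
preimages of the submodules xB, xZ, B, B + xZ of K^q. -/
theorem result (A : Type u) [CommRing A] (l : List A) (q : ℤ)
    (K : CochainComplex (ModuleCat.{u} A) ℤ) (hK : K = Koszul.koszul A l)
    (hBZ : LinearMap.range (K.d (q - 1) q).hom ≤ LinearMap.ker (K.d q (q + 1)).hom)
    (x : A) (hx : x ∈ nonZeroDivisors A)
    (hxH : IsSMulRegular (↥(LinearMap.ker (K.d q (q + 1)).hom) ⧸ Submodule.comap (LinearMap.ker (K.d q (q + 1)).hom).subtype (LinearMap.range (K.d (q - 1) q).hom)) x) :
    IsPullback
      (ModuleCat.ofHom (Submodule.factor (Submodule.comap_mono (Submodule.smul_mono le_rfl hBZ) :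
        Submodule.comap (LinearMap.ker (K.d q (q + 1)).hom).subtype (Ideal.span {x} • LinearMap.range (K.d (q - 1) q).hom) ≤
          Submodule.comap (LinearMap.ker (K.d q (q + 1)).hom).subtype (Ideal.span {x} • LinearMap.ker (K.d q (q + 1)).hom))))
      (ModuleCat.ofHom (Submodule.factor (Submodule.comap_mono (Submodule.smul_le_right) :
        Submodule.comap (LinearMap.ker (K.d q (q + 1)).hom).subtype (Ideal.span {x} • LinearMap.range (K.d (q - 1) q).hom) ≤
          Submodule.comap (LinearMap.ker (K.d q (q + 1)).hom).subtype (LinearMap.range (K.d (q - 1) q).hom))))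
      (ModuleCat.ofHom (Submodule.factor (Submodule.comap_mono le_sup_right :
        Submodule.comap (LinearMap.ker (K.d q (q + 1)).hom).subtype (Ideal.span {x} • LinearMap.ker (K.d q (q + 1)).hom) ≤
          Submodule.comap (LinearMap.ker (K.d q (q + 1)).hom).subtype (LinearMap.range (K.d (q - 1) q).hom ⊔ Ideal.span {x} • LinearMap.ker (K.d q (q + 1)).hom))))
      (ModuleCat.ofHom (Submodule.factor (Submodule.comap_mono le_sup_left :
        Submodule.comap (LinearMap.ker (K.d q (q + 1)).hom).subtype (LinearMap.range (K.d (q - 1) q).hom) ≤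
          Submodule.comap (LinearMap.ker (K.d q (q + 1)).hom).subtype (LinearMap.range (K.d (q - 1) q).hom ⊔ Ideal.span {x} • LinearMap.ker (K.d q (q + 1)).hom)))) := by
  refine IsPullback.of_map (forget (ModuleCat.{u} A)) ?_ ?_
  · ext z
    rfl
  rw [CategoryTheory.Limits.Types.isPullback_iff]
  refine ⟨?_, ?_, ?_⟩
  · ext z
    obtain ⟨z, rfl⟩ := Submodule.Quotient.mk_surjective _ z
    rfl
  · intro z₁ z₂
    obtain ⟨z₁, rfl⟩ := Submodule.Quotient.mk_surjective _ z₁
    obtain ⟨z₂, rfl⟩ := Submodule.Quotient.mk_surjective _ z₂
    rintro ⟨h1, h2⟩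
    have h1' := (Submodule.Quotient.eq _).mp h1
    have h2' := (Submodule.Quotient.eq _).mp h2
    simp only [Submodule.mem_comap, Submodule.coe_subtype, Submodule.ideal_span_singleton_smul] at h1' h2'
    obtain ⟨w, hw, hw'⟩ := (Submodule.mem_smul_pointwise_iff_exists _ _ _).mp h1'
    refine (Submodule.Quotient.eq _).mpr ?_
    simp only [Submodule.mem_comap, Submodule.coe_subtype, Submodule.ideal_span_singleton_smul]
    refine (Submodule.mem_smul_pointwise_iff_exists _ _ _).mpr ⟨w, ?_, hw'⟩
    have h0 : (Submodule.Quotient.mk ⟨w, hw⟩ : ↥(LinearMap.ker (K.d q (q + 1)).hom) ⧸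
        Submodule.comap (LinearMap.ker (K.d q (q + 1)).hom).subtype
          (LinearMap.range (K.d (q - 1) q).hom)) = 0 := by
      refine hxH ?_
      simp only [smul_zero]
      rw [← Submodule.Quotient.mk_smul, Submodule.Quotient.mk_eq_zero]
      show x • w ∈ LinearMap.range (K.d (q - 1) q).hom
      rw [hw']
      exact h2'
    have h0' := (Submodule.Quotient.mk_eq_zero _).mp h0
    exact h0'
  · intro z₂ z₃
    obtain ⟨z₂, rfl⟩ := Submodule.Quotient.mk_surjective _ z₂
    obtain ⟨z₃, rfl⟩ := Submodule.Quotient.mk_surjective _ z₃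
    intro h
    have h' := (Submodule.Quotient.eq _).mp h
    simp only [Submodule.mem_comap, Submodule.coe_subtype] at h'
    obtain ⟨b, hb, w, hw, hbw⟩ := Submodule.mem_sup.mp h'
    refine ⟨Submodule.Quotient.mk (z₂ - ⟨w, Submodule.smul_le_right hw⟩), ?_, ?_⟩
    · refine (Submodule.Quotient.eq _).mpr ?_
      simpa using neg_mem hw
    · refine (Submodule.Quotient.eq _).mpr ?_
      simp only [Submodule.mem_comap, Submodule.coe_subtype, Submodule.coe_sub]
      simp only [LinearMap.id_coe, id_eq, Submodule.coe_sub] at hbw ⊢
      have : (↑z₂ : K.X q) - w - ↑z₃ = b := by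
        rw [sub_right_comm, ← hbw, add_sub_cancel_right]
      rw [this]
      exact hb

end Groth.Agent.S15818
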