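import Groth.Statements.S15822
import Groth.Agent.CAlgH.KoszulEuler.Koszul
import Groth.Agent.Misc15.KoszulElem
import Groth.Agent.Koszul15.Scale
import Groth.Agent.CohDer1.KoszulTensor
import Mathlib
-- import your own Groth.Agent.* helpers here

set_option autoImplicit false
set_option backward.isDefEq.respectTransparency false
set_option backward.isDefEq.respectTransparency.types false
universe u
open CategoryTheory
open Koszul

namespace Groth.Agent.S15822

open CochainComplex Groth.Agent.Misc15.Koszul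
open CohIII (koszulCx)

variable {A : Type u} [CommRing A]

/-- Exchange of two iterated cones, degreewise. -/
noncomputable def swapFun (a b : A) (K : CochainComplex (ModuleCat.{u} A) ℤ) (i : ℤ) :
    (mappingCone (a • 𝟙 (mappingCone (b • 𝟙 K)))).X i →ₗ[A]
      (mappingCone (b • 𝟙 (mappingCone (a • 𝟙 K)))).X i where
  toFun x := cmk _ (i + 1) rfl
    (cmk _ (i + 1 + 1) rfl (-cfst _ (i + 1 + 1) rfl (cfst _ (i + 1) rfl x)) (cfst _ (i + 1) rfl (csnd _ x)))
    (cmk _ (i + 1) rfl (csnd _ (cfst _ (i + 1) rfl x)) (csnd _ (csnd _ x)))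
  map_add' x y := by
    refine cone_ext _ (i + 1) rfl ?_ ?_
    · simp only [cfst_cmk, cfst_add]
      exact cone_ext _ (i + 1 + 1) rfl (by simp [cfst_cmk, cfst_add, csnd_add, add_comm])
        (by simp [csnd_cmk, cfst_add, csnd_add])
    · simp only [csnd_cmk, csnd_add]
      exact cone_ext _ (i + 1) rfl (by simp [cfst_cmk, cfst_add, csnd_add])
        (by simp [csnd_cmk, cfst_add, csnd_add])
  map_smul' r x := by
    refine cone_ext _ (i + 1) rfl ?_ ?_
    · simp only [cfst_cmk, cfst_smul, RingHom.id_apply]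
      exact cone_ext _ (i + 1 + 1) rfl (by simp [cfst_cmk, cfst_smul, csnd_smul])
        (by simp [csnd_cmk, cfst_smul, csnd_smul])
    · simp only [csnd_cmk, csnd_smul, RingHom.id_apply]
      exact cone_ext _ (i + 1) rfl (by simp [cfst_cmk, cfst_smul, csnd_smul])
        (by simp [csnd_cmk, cfst_smul, csnd_smul])

theorem cfst_neg {K L : CochainComplex (ModuleCat.{u} A) ℤ} (φ : K ⟶ L) {i : ℤ} (j : ℤ) (hij : i + 1 = j)
    (x : (mappingCone φ).X i) : cfst φ j hij (-x) = -cfst φ j hij x := map_neg _ _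

theorem csnd_neg {K L : CochainComplex (ModuleCat.{u} A) ℤ} (φ : K ⟶ L) {i : ℤ}
    (x : (mappingCone φ).X i) : csnd φ (-x) = -csnd φ x := map_neg _ _

theorem swapFun_swapFun (a b : A) (K : CochainComplex (ModuleCat.{u} A) ℤ) (i : ℤ) (x) :
    swapFun b a K i (swapFun a b K i x) = x := by
  refine cone_ext _ (i + 1) rfl ?_ ?_
  · exact cone_ext _ (i + 1 + 1) rfl (by simp [swapFun, cfst_cmk, csnd_cmk]) (by simp [swapFun, cfst_cmk, csnd_cmk])
  · exact cone_ext _ (i + 1) rfl (by simp [swapFun, cfst_cmk, csnd_cmk]) (by simp [swapFun, cfst_cmk, csnd_cmk])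

/-- Exchange of two iterated cones. -/
noncomputable def swapIso (a b : A) (K : CochainComplex (ModuleCat.{u} A) ℤ) :
    mappingCone (a • 𝟙 (mappingCone (b • 𝟙 K))) ≅ mappingCone (b • 𝟙 (mappingCone (a • 𝟙 K))) :=
  HomologicalComplex.Hom.isoOfComponents
    (fun i => ({ swapFun a b K i with
      invFun := swapFun b a K i
      left_inv := swapFun_swapFun a b K i
      right_inv := swapFun_swapFun b a K i } : _ ≃ₗ[A] _).toModuleIso)
    fun i j hij => by
      change i + 1 = j at hij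
      subst hij
      refine ModuleCat.hom_ext (LinearMap.ext fun x => ?_)
      refine cone_ext _ (i + 1 + 1) rfl ?_ ?_
      · refine cone_ext _ (i + 1 + 1 + 1) rfl ?_ ?_
        · simp [swapFun, cfst_cmk, csnd_cmk, cfst_d _ (i + 1) (i + 1 + 1) rfl rfl,
            cfst_d _ (i + 1 + 1) (i + 1 + 1 + 1) rfl rfl, csnd_d _ (i + 1) rfl, cfst_neg, csnd_neg, smul_id_f]
        · simp [swapFun, cfst_cmk, csnd_cmk, cfst_d _ (i + 1) (i + 1 + 1) rfl rfl,
            cfst_d _ (i + 1 + 1) (i + 1 + 1 + 1) rfl rfl, csnd_d _ (i + 1) rfl, csnd_d _ (i + 1 + 1) rfl,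
            cfst_neg, csnd_neg, cfst_add, csnd_add, cfst_smul, csnd_smul, smul_id_f]
          try abel
      · refine cone_ext _ (i + 1 + 1) rfl ?_ ?_
        · simp [swapFun, cfst_cmk, csnd_cmk, cfst_d _ (i + 1) (i + 1 + 1) rfl rfl,
            csnd_d _ (i + 1) rfl, csnd_d _ (i + 1 + 1) rfl, cfst_neg, csnd_neg, cfst_add, csnd_add, cfst_smul,
            csnd_smul, smul_id_f]
          try abel
        · simp [swapFun, cfst_cmk, csnd_cmk, cfst_d _ (i + 1) (i + 1 + 1) rfl rfl,
            csnd_d _ (i + 1) rfl, csnd_d _ (i + 1 + 1) rfl, cfst_neg, csnd_neg, cfst_add, csnd_add, cfst_smul,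
            csnd_smul, smul_id_f]
          try abel

theorem perm_iso (M : ModuleCat.{u} A) {l l' : List A} (h : l.Perm l') :
    Nonempty (koszulCx M l ≅ koszulCx M l') := by
  induction h with
  | nil => exact ⟨Iso.refl _⟩
  | cons a _ ih =>
    obtain ⟨e⟩ := ih
    exact ⟨Groth.Agent.CohDer1.KoszulTensor.coneCongr e a⟩
  | swap a b l => exact ⟨swapIso b a (koszulCx M l)⟩
  | trans _ _ ih ih' => exact ⟨ih.some ≪≫ ih'.some⟩

/-- Cycles modulo boundaries. -/
abbrev Q (C : CochainComplex (ModuleCat.{u} A) ℤ) (m : ℤ) : Type u :=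
  ↥(LinearMap.ker (C.d m (m + 1)).hom) ⧸
    Submodule.comap (LinearMap.ker (C.d m (m + 1)).hom).subtype (LinearMap.range (C.d (m - 1) m).hom)

theorem cone_nullHtpy_homology {C : CochainComplex (ModuleCat.{u} A) ℤ} {c : A} (hc : NullHtpy C c) (m : ℤ) :
    Nonempty (↑((mappingCone (c • 𝟙 C)).homology m) ≃ₗ[A] (↑(C.homology (m + 1)) × ↑(C.homology m))) := by
  obtain ⟨h, hh⟩ := hc
  obtain ⟨e⟩ := Groth.Agent.Koszul15.nonempty_homology_quot (mappingCone (c • 𝟙 C)) m
  obtain ⟨e₁⟩ := Groth.Agent.Koszul15.nonempty_homology_quot C (m + 1)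
  obtain ⟨e₂⟩ := Groth.Agent.Koszul15.nonempty_homology_quot C m
  have hcyc : ∀ x : LinearMap.ker ((mappingCone (c • 𝟙 C)).d m (m + 1)).hom,
      (C.d (m + 1) (m + 1 + 1)).hom (cfst _ (m + 1) rfl x.1) = 0 ∧
      (C.d m (m + 1)).hom (csnd _ x.1 + h (m + 1) m rfl (cfst _ (m + 1) rfl x.1)) = 0 := fun x => by
    have h1 : (C.d (m + 1) (m + 1 + 1)).hom (cfst _ (m + 1) rfl x.1) = 0 := by
      have := cfst_d (c • 𝟙 C) (m + 1) (m + 1 + 1) rfl rfl x.1
      rw [LinearMap.mem_ker.1 x.2, cfst_zero] at this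
      exact neg_eq_zero.1 this.symm
    refine ⟨h1, ?_⟩
    have h2 := csnd_d (c • 𝟙 C) (m + 1) rfl x.1
    rw [LinearMap.mem_ker.1 x.2, csnd_zero, smul_id_f] at h2
    have h3 := hh m (m + 1) (m + 1 + 1) rfl rfl (cfst (c • 𝟙 C) (m + 1) rfl x.1)
    rw [h1, map_zero, add_zero] at h3
    rw [map_add, h3]; exact (add_comm _ _).trans h2.symm
  let φ : LinearMap.ker ((mappingCone (c • 𝟙 C)).d m (m + 1)).hom →ₗ[A] Q C (m + 1) × Q C m :=
    { toFun := fun x => (Submodule.Quotient.mk ⟨cfst _ (m + 1) rfl x.1, (hcyc x).1⟩,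
        Submodule.Quotient.mk ⟨csnd _ x.1 + h (m + 1) m rfl (cfst _ (m + 1) rfl x.1), (hcyc x).2⟩)
      map_add' := fun x y => Prod.ext
        (congrArg Submodule.Quotient.mk (Subtype.ext (cfst_add _ _ _ _ _)))
        (congrArg Submodule.Quotient.mk (Subtype.ext (by
          simp only [Submodule.coe_add, cfst_add, csnd_add, map_add]; abel)))
      map_smul' := fun r x => Prod.ext
        (congrArg Submodule.Quotient.mk (Subtype.ext (cfst_smul _ _ _ _ _)))
        (congrArg Submodule.Quotient.mk (Subtype.ext (by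
          simp only [Submodule.coe_smul, cfst_smul, csnd_smul, map_smul, smul_add, RingHom.id_apply]))) }
  have hsurj : Function.Surjective φ := by
    rintro ⟨u, v⟩
    obtain ⟨⟨p, hp⟩, rfl⟩ := Submodule.Quotient.mk_surjective _ u
    obtain ⟨⟨t, ht⟩, rfl⟩ := Submodule.Quotient.mk_surjective _ v
    have hp' : (C.d (m + 1) (m + 1 + 1)).hom p = 0 := hp
    have ht' : (C.d m (m + 1)).hom t = 0 := ht
    refine ⟨⟨cmk _ (m + 1) rfl p (t - h (m + 1) m rfl p), ?_⟩, Prod.ext ?_ ?_⟩
    · refine cone_ext _ (m + 1 + 1) rfl ?_ ?_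
      · rw [cfst_d _ (m + 1) (m + 1 + 1) rfl rfl, cfst_cmk, hp', neg_zero, cfst_zero]
      · rw [csnd_d _ (m + 1) rfl, cfst_cmk, csnd_cmk, smul_id_f, map_sub, ht', csnd_zero]
        have h3 := hh m (m + 1) (m + 1 + 1) rfl rfl p
        rw [hp', map_zero, add_zero] at h3
        rw [h3]; abel
    · exact congrArg Submodule.Quotient.mk (Subtype.ext (cfst_cmk _ _ _ _ _))
    · exact congrArg Submodule.Quotient.mk (Subtype.ext (by
        show csnd _ _ + h (m + 1) m rfl (cfst _ _ _ _) = t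
        simp [csnd_cmk, cfst_cmk]))
  have hker : LinearMap.ker φ = Submodule.comap (LinearMap.ker ((mappingCone (c • 𝟙 C)).d m (m + 1)).hom).subtype
      (LinearMap.range ((mappingCone (c • 𝟙 C)).d (m - 1) m).hom) := by
    have e0 : m - 1 + 1 = m := by ring
    ext ⟨x, hx⟩
    constructor
    · intro hk
      obtain ⟨a, ha⟩ := (Submodule.Quotient.mk_eq_zero _).1 (congrArg Prod.fst hk)
      obtain ⟨b, hb⟩ := (Submodule.Quotient.mk_eq_zero _).1 (congrArg Prod.snd hk)
      revert a
      rw [show m + 1 - 1 = m from by ring]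
      intro a ha
      change (C.d m (m + 1)).hom a = cfst _ (m + 1) rfl x at ha
      change (C.d (m - 1) m).hom b = csnd _ x + h (m + 1) m rfl (cfst _ (m + 1) rfl x) at hb
      refine ⟨cmk _ m e0 (-a) (b + h m (m - 1) e0 a), cone_ext _ (m + 1) rfl ?_ ?_⟩
      · show cfst _ (m + 1) rfl (((mappingCone (c • 𝟙 C)).d (m - 1) m).hom _) = cfst _ (m + 1) rfl x
        rw [cfst_d _ m (m + 1) e0 rfl, cfst_cmk, map_neg, neg_neg, ha]
      · show csnd _ (((mappingCone (c • 𝟙 C)).d (m - 1) m).hom _) = csnd _ x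
        rw [csnd_d _ m e0, cfst_cmk, csnd_cmk, smul_id_f, map_add, hb]
        have h3 := hh (m - 1) m (m + 1) e0 rfl a
        rw [ha] at h3
        rw [smul_neg, ← h3]; abel
    · rintro ⟨y, hy⟩
      change ((mappingCone (c • 𝟙 C)).d (m - 1) m).hom y = x at hy
      refine Prod.ext ((Submodule.Quotient.mk_eq_zero _).2 ?_) ((Submodule.Quotient.mk_eq_zero _).2 ?_)
      · show cfst _ (m + 1) rfl x ∈ LinearMap.range (C.d (m + 1 - 1) (m + 1)).hom
        rw [show m + 1 - 1 = m from by ring]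
        exact ⟨-cfst _ m e0 y, by rw [← hy, cfst_d _ m (m + 1) e0 rfl, map_neg]⟩
      · refine ⟨csnd _ y + h m (m - 1) e0 (cfst _ m e0 y), ?_⟩
        show (C.d (m - 1) m).hom _ = csnd _ x + h (m + 1) m rfl (cfst _ (m + 1) rfl x)
        rw [← hy, csnd_d _ m e0, cfst_d _ m (m + 1) e0 rfl, smul_id_f, map_neg,
          ← hh (m - 1) m (m + 1) e0 rfl (cfst _ m e0 y), map_add]
        abel
  exact ⟨e.toLinearEquiv.trans (((Submodule.quotEquivOfEq _ _ hker.symm).trans
    (φ.quotKerEquivOfSurjective hsurj)).trans (e₁.toLinearEquiv.symm.prodCongr e₂.toLinearEquiv.symm))⟩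

theorem nullHtpy_append (M : ModuleCat.{u} A) (xs : List A) {y : A} (hy : y ∈ Ideal.span {a | a ∈ xs}) :
    ∀ l : List A, NullHtpy (koszulCx M (l ++ xs)) y
  | [] => nullHtpy_of_mem_span M xs hy
  | f :: l => nullHtpy_cone f (nullHtpy_append M xs hy l)

/-- Linear equivalence from an equality of degrees. -/
noncomputable def degCast (C : CochainComplex (ModuleCat.{u} A) ℤ) {a b : ℤ} (h : a = b) :
    ↑(C.homology a) ≃ₗ[A] ↑(C.homology b) :=
  CategoryTheory.Iso.toLinearEquiv (R := A) (eqToIso (congrArg (fun i : ℤ => C.homology i) h))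

theorem exists_index (M : ModuleCat.{u} A) (xs : List A) : ∀ ys : List A,
    (∀ y ∈ ys, y ∈ Ideal.span {a | a ∈ xs}) →
    ∃ (ι : Type) (_ : Fintype ι) (w : ι → ℕ), (∀ j, Nat.card {i // w i = j} = ys.length.choose j) ∧
      ∀ m : ℤ, Nonempty (↑((koszulCx M (ys ++ xs)).homology m) ≃ₗ[A]
        ((i : ι) → ↑((koszulCx M xs).homology (m + (w i : ℤ))))) := by
  intro ys
  induction ys with
  | nil =>
    intro _
    refine ⟨Unit, inferInstance, fun _ => 0, fun j => ?_, fun m => ?_⟩
    · rcases eq_or_ne j 0 with rfl | hj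
      · simp [Nat.card_unique]
      · have : IsEmpty {i : Unit // (0 : ℕ) = j} := ⟨fun i => hj i.2.symm⟩
        rw [Nat.card_of_isEmpty, List.length_nil, Nat.choose_eq_zero_of_lt (Nat.pos_of_ne_zero hj)]
    · exact ⟨(LinearEquiv.funUnique Unit A ↑((koszulCx M xs).homology m)).symm.trans
        (LinearEquiv.piCongrRight fun _ => degCast _ (by simp))⟩
  | cons y ys ih =>
    intro hy
    obtain ⟨ι, hι, w, hw, hE⟩ := ih fun z hz => hy z (List.mem_cons_of_mem _ hz)
    refine ⟨ι ⊕ ι, inferInstance, Sum.elim (fun i => w i + 1) w, fun j => ?_, fun m => ?_⟩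
    · rw [Nat.card_congr (Equiv.subtypeSum), Nat.card_sum]
      cases j with
      | zero =>
        have : IsEmpty {a : ι // Sum.elim (fun i => w i + 1) w (Sum.inl a) = 0} :=
          ⟨fun i => Nat.succ_ne_zero _ i.2⟩
        rw [Nat.card_of_isEmpty, zero_add]
        simpa using hw 0
      | succ j =>
        simp only [Sum.elim_inl, Sum.elim_inr, List.length_cons, Nat.add_right_cancel_iff]
        rw [hw, hw, Nat.choose_succ_succ']
    · obtain ⟨e⟩ := cone_nullHtpy_homology
        (nullHtpy_append M xs (hy y List.mem_cons_self) ys) m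
      obtain ⟨e₁⟩ := hE (m + 1)
      obtain ⟨e₂⟩ := hE m
      exact ⟨e.trans ((((e₁.trans (LinearEquiv.piCongrRight fun i => degCast _ (by
        simp only [Sum.elim_inl, Nat.cast_add, Nat.cast_one]; ring))).prodCongr e₂).trans
          (LinearEquiv.sumPiEquivProdPi A ι ι
            (fun s => ↑((koszulCx M xs).homology (m + (Sum.elim (fun i => w i + 1) w s : ℕ))))).symm))⟩


set_option maxHeartbeats 1000000 in
/-- Let A be a commutative ring, M an A-module, x = (x_1, …, x_s) a sequence in A and y_1, …, y_r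
elements of the ideal (x_1, …, x_s). Then for every integer m, the m-th cohomology module of the
complex K(x_1, …, x_s, y_1, …, y_r) ⊗_A M (Koszul complex of the concatenated sequence in the
iterated mapping-cone model, tensored termwise with M) is isomorphic as an A-module to the direct
sum over j = 0, …, r of (r choose j) copies of the (m + j)-th cohomology module of K(x_1, …, x_s)
⊗_A M (existence of an A-linear isomorphism). In the published indexing: H^{-q}(K(x, y) ⊗ M) ≅
⊕_{i+j=q} H^{-i}(K(x) ⊗ M) ⊗ ∧^j A^r. -/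
theorem result (A : Type u) [CommRing A] (M : ModuleCat.{u} A)
    (xs ys : List A) (hy : ∀ y ∈ ys, y ∈ Ideal.span {a | a ∈ xs}) (m : ℤ) :
    Nonempty ((DRing.tensorCx (Koszul.koszul A (xs ++ ys)) M).homology m ≅
      ModuleCat.of A ((j : Fin (ys.length + 1)) → Fin (ys.length.choose j) →
        (DRing.tensorCx (Koszul.koszul A xs) M).homology (m + j))) := by
  obtain ⟨t⟩ := CAlgH.KoszulEuler.nonempty_tensor_iso M (xs ++ ys)
  obtain ⟨t'⟩ := CAlgH.KoszulEuler.nonempty_tensor_iso M xs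
  obtain ⟨p⟩ := perm_iso M (List.perm_append_comm (l₁ := xs) (l₂ := ys))
  obtain ⟨ι, hι, w, hw, hE⟩ := exists_index M xs ys hy
  obtain ⟨e⟩ := hE m
  classical
  have hlt : ∀ i, w i < ys.length + 1 := fun i => by
    by_contra hcon
    have h0 : Nat.card {a // w a = w i} = 0 := by rw [hw, Nat.choose_eq_zero_of_lt (by omega)]
    have : Nonempty {a // w a = w i} := ⟨⟨i, rfl⟩⟩
    exact Nat.card_pos.ne' h0
  let f : ι → Fin (ys.length + 1) := fun i => ⟨w i, hlt i⟩
  have hc : ∀ j : Fin (ys.length + 1), Fintype.card {i // f i = j} = ys.length.choose j := fun j => by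
    rw [← Nat.card_eq_fintype_card, ← hw j]
    exact Nat.card_congr (Equiv.subtypeEquivRight fun i => Fin.ext_iff)
  let σ : (Σ j : Fin (ys.length + 1), Fin (ys.length.choose j)) ≃ ι :=
    (Equiv.sigmaCongrRight fun j => (finCongr (hc j)).symm.trans (Fintype.equivFin _).symm).trans
      (Equiv.sigmaFiberEquiv f)
  have hσ : ∀ x, w (σ x) = (x.1 : ℕ) := fun x =>
    congrArg Fin.val ((Fintype.equivFin {i // f i = x.1}).symm ((finCongr (hc x.1)).symm x.2)).2
  have e0 := (HomologicalComplex.homologyMapIso (t ≪≫ p) m).toLinearEquiv.trans e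
  have g : ∀ x : (Σ j : Fin (ys.length + 1), Fin (ys.length.choose j)),
      ↑((CohIII.koszulCx M xs).homology (m + (w (σ x) : ℤ))) ≃ₗ[A]
        ↑((DRing.tensorCx (Koszul.koszul A xs) M).homology (m + ((x.1 : ℕ) : ℤ))) := fun x =>
    (degCast _ (by rw [hσ x])).trans
      (HomologicalComplex.homologyMapIso t' (m + ((x.1 : ℕ) : ℤ))).toLinearEquiv.symm
  have e3 := LinearEquiv.piCurry A (fun (j : Fin (ys.length + 1)) (_ : Fin (ys.length.choose j)) =>
    ↑((DRing.tensorCx (Koszul.koszul A xs) M).homology (m + ((j : ℕ) : ℤ))))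
  exact ⟨(e0.trans (((LinearEquiv.piCongrLeft A (fun i => ↑((CohIII.koszulCx M xs).homology (m + (w i : ℤ)))) σ).symm.trans
    (LinearEquiv.piCongrRight g)).trans e3)).toModuleIso⟩

end Groth.Agent.S15822
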