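import Groth.Statements.S15823
import Groth.Agent.HTor16.DiagTensor

set_option autoImplicit false
universe u
open CategoryTheory CategoryTheory.Limits AlgebraicGeometry
attribute [local instance] HasDerivedCategory.standard
open RegImm

namespace Groth.Agent.S15823

/-- Let k be a field and X a scheme with a smooth morphism f : X → Spec k, and let i₁ : Y₁ → X and i₂ :
Y₂ → X be closed immersions which are regular (ideals locally generated by regular sequences). Write
X ×_k X for the fibre product of f with itself, Δ : X → X ×_k X for the diagonal, Y₁ ×_k Y₂ for the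
fibre product of the structure morphisms i₁ ≫ f and i₂ ≫ f, and i₁ × i₂ : Y₁ ×_k Y₂ → X ×_k X for
the induced closed immersion. Assume that the total left derived functors − ⊗^L i₂_*O_{Y₂} on D(O_X)
and LΔ^* : D(O_{X ×_k X}) → D(O_X) exist. Then the objects i₁_*O_{Y₁} ⊗^L i₂_*O_{Y₂} and LΔ^*((i₁ ×
i₂)_* O_{Y₁ ×_k Y₂}) of D(O_X) are isomorphic (existence of an isomorphism; the direct image along
the closed immersion i₁ × i₂ is the underived one, which is exact). (The published statement allows
n subschemes and the n-fold product; this row is the case n = 2.) -/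
theorem result (k : Type u) [Field k]
    {X Y₁ Y₂ : Scheme.{u}} (f : X ⟶ Spec (CommRingCat.of k)) [Smooth f]
    (i₁ : Y₁ ⟶ X) (i₂ : Y₂ ⟶ X) [IsClosedImmersion i₁] [IsClosedImmersion i₂]
    (h₁ : RegImm.IsRegularImmersion RegImm.Kind.regular i₁) (h₂ : RegImm.IsRegularImmersion RegImm.Kind.regular i₂)
    [DCoh.HasLTensorMod ((Scheme.Modules.pushforward i₂).obj (Coh.structureModule Y₂))]
    [DCoh.HasLpull (pullback.diagonal f)] :
    Nonempty ((DCoh.LTensorMod ((Scheme.Modules.pushforward i₂).obj (Coh.structureModule Y₂))).obj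
        (DCoh.inD X ((Scheme.Modules.pushforward i₁).obj (Coh.structureModule Y₁))) ≅
      (DCoh.Lpull (pullback.diagonal f)).obj (DCoh.inD (pullback f f)
        ((Scheme.Modules.pushforward (pullback.map (i₁ ≫ f) (i₂ ≫ f) f f i₁ i₂ (𝟙 (Spec (CommRingCat.of k))) (Category.comp_id _) (Category.comp_id _))).obj
          (Coh.structureModule (pullback (i₁ ≫ f) (i₂ ≫ f)))))) := by
  obtain ⟨u⟩ := Groth.Agent.HTor16.nonempty_push_prod_iso f i₁ i₂
  haveI : IsIntegral (Spec (CommRingCat.of k)) := inferInstance
  haveI : Subsingleton ↥(Spec (CommRingCat.of k)) := inferInstanceAs (Subsingleton (PrimeSpectrum k))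
  have hfl : FlatMod.IsFlatOver f ((Scheme.Modules.pushforward i₁).obj (Coh.structureModule Y₁)) := fun x => by
    have h : IsField ((Spec (CommRingCat.of k)).presheaf.stalk (f.base x)) := by
      rw [Subsingleton.elim (f.base x) (genericPoint ↥(Spec (CommRingCat.of k)))]
      exact Field.toIsField (Spec (CommRingCat.of k)).functionField
    letI := h.toField
    letI := FlatMod.moduleStalkOver f ((Scheme.Modules.pushforward i₁).obj (Coh.structureModule Y₁)) x
    exact Module.Flat.of_free
  obtain ⟨e⟩ := Groth.Agent.HTor16.nonempty_Lpull_diagonal f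
    ((Scheme.Modules.pushforward i₁).obj (Coh.structureModule Y₁))
    ((Scheme.Modules.pushforward i₂).obj (Coh.structureModule Y₂)) hfl
  exact ⟨e ≪≫ (DCoh.Lpull (pullback.diagonal f)).mapIso
    ((DerivedCategory.singleFunctor _ 0).mapIso u.symm)⟩

end Groth.Agent.S15823
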