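import Groth.Statements.S15824
import Groth.Agent.CAlgH3.CMRing
import Groth.Agent.CAlgH.RegImmStalk

set_option autoImplicit false
universe u
open CategoryTheory AlgebraicGeometry
open RegImm

namespace Groth.Agent.S15824

open IsLocalRing RingTheory.Sequence CAlgH3

theorem cm_quotient {R : Type u} [CommRing R] [IsLocalRing R] [IsNoetherianRing R] :
    ∀ (rs : List R) (M : Type u) [AddCommGroup M] [Module R M] [Module.Finite R M],
      _root_.LocCoh.IsCohenMacaulayModule R M → (∀ r ∈ rs, r ∈ maximalIdeal R) → IsWeaklyRegular M rs →
        _root_.LocCoh.IsCohenMacaulayModule R (M ⧸ (Ideal.ofList rs • ⊤ : Submodule R M)) := by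
  intro rs
  induction rs with
  | nil =>
    intro M _ _ _ h _ _
    exact (isCohenMacaulayModule_congr (Submodule.quotEquivOfEqBot _ (by simp)).symm).1 h
  | cons r rs ih =>
    intro M _ _ _ h hm hreg
    rw [isWeaklyRegular_cons_iff] at hreg
    exact (isCohenMacaulayModule_congr (Submodule.quotOfListConsSMulTopEquivQuotSMulTopInner M r rs).symm).1
      (ih (QuotSMulTop r M) ((isCohenMacaulayModule_quotSMulTop_iff (hm r List.mem_cons_self) hreg.1).2 h)
        (fun a ha => hm a (List.mem_cons_of_mem _ ha)) hreg.2)


/-- Let X be a locally Noetherian scheme all of whose local rings are Cohen–Macaulay, and i : Z → X a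
closed immersion which is regular (around every point, on some affine open of X the ideal of Z is
generated by a regular sequence). Then Z has no embedded points (each associated point of Z is
generic in an irreducible component): for every point z of Z, if the maximal ideal of O_{Z,z} is an
associated prime of O_{Z,z} (as a module over itself), then O_{Z,z} has Krull dimension 0. (The
published statement takes X Noetherian and Z a local complete intersection subscheme; the assertion
is local on X and uses only that the ideal of Z is locally generated by a regular sequence.) -/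
theorem result {X Z : Scheme.{u}}
    [IsLocallyNoetherian X] (hCM : ∀ x : X, LocCoh.IsCohenMacaulayLocalRing (X.presheaf.stalk x))
    (i : Z ⟶ X) [IsClosedImmersion i] (hi : RegImm.IsRegularImmersion RegImm.Kind.regular i) (z : Z)
    (hz : IsAssociatedPrime (IsLocalRing.maximalIdeal (Z.presheaf.stalk z)) (Z.presheaf.stalk z)) :
    ringKrullDim (Z.presheaf.stalk z) = 0 := by
  obtain ⟨rs, hrs, hker⟩ := CAlgH.RegImmStalk.exists_isRegular_ker_stalkMap i hi z
  haveI := hCM (i z)
  have hm : ∀ r ∈ rs, r ∈ maximalIdeal _ := fun r hr =>
    IsLocalRing.le_maximalIdeal (RingHom.ker_ne_top (i.stalkMap z).hom)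
      (hker ▸ Ideal.subset_span hr)
  let J := RingHom.ker (i.stalkMap z).hom
  haveI : IsLocalRing (X.presheaf.stalk (i z) ⧸ J) :=
    haveI := Ideal.Quotient.nontrivial_iff.2 (RingHom.ker_ne_top (i.stalkMap z).hom)
    .of_surjective' (Ideal.Quotient.mk J) Ideal.Quotient.mk_surjective
  have h1 : _root_.LocCoh.IsCohenMacaulayLocalRing (X.presheaf.stalk (i z) ⧸ J) :=
    (isCohenMacaulayLocalRing_quotient_iff J).2 <| (isCohenMacaulayModule_congr
      (Submodule.quotEquivOfEq _ _ (by rw [smul_eq_mul, Ideal.mul_top]; exact hker.symm))).1
      (cm_quotient rs _ ((isCohenMacaulayLocalRing_iff _).1 inferInstance) hm hrs.toIsWeaklyRegular)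
  haveI := isCohenMacaulayLocalRing_of_ringEquiv (h := h1)
    (RingHom.quotientKerEquivOfSurjective (i.stalkMap_surjective z))
  have h2 := depth_le_ringKrullDim_quotient (R := Z.presheaf.stalk z) (M := Z.presheaf.stalk z) hz
  rw [← (isCohenMacaulayLocalRing_iff_depth (Z.presheaf.stalk z)).1 inferInstance] at h2
  letI := Ideal.Quotient.field (maximalIdeal (Z.presheaf.stalk z))
  rw [ringKrullDim_eq_zero_of_field] at h2
  exact le_antisymm h2 ringKrullDim_nonneg_of_nontrivial

end Groth.Agent.S15824
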