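import Groth.Statements.S15826
import Groth.Agent.RegImmH1.Conormal
import Groth.Agent.DCat.PullPerf

set_option autoImplicit false
set_option backward.isDefEq.respectTransparency.types false
set_option backward.isDefEq.respectTransparency false
universe u
open CategoryTheory AlgebraicGeometry Opposite
open RegImm

open TensorProduct

namespace Groth.Agent.S15826

open OmegaLib Thick15

/-- Let X be a scheme, E a finite locally free O_X-module of rank n and s : E → O_X a regular section,
meaning that around every point of X there is an affine open U and a basis e_1, …, e_n of E(U) over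
Γ(X, U) such that s(e_1), …, s(e_n) is a weakly regular sequence in Γ(X, U) (each a non-zero-divisor
modulo the previous ones). Let i : Y → X be a closed immersion whose ideal sheaf I_Y is the image of
s: t : E → I_Y is an epimorphism of O_X-modules with t followed by the inclusion I_Y → O_X equal to
s. Then the pulled-back map i^*t : i^*E → i^*I_Y is an isomorphism of O_Y-modules; its target is the
conormal sheaf C_{Y/X} = I_Y/I_Y², so E|_Y ≅ C_{Y/X} via s and, dually, N_{Y/X} ≅ E^∨|_Y. (The
published statement calls s regular when its image is a regular ideal sheaf locally generated by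
rank-many sections; the local bases mapping to regular sequences used here are how the published
proofs read that condition.) -/
theorem result {X Y : Scheme.{u}} (n : ℕ) (E : X.Modules)
    (hE : FlatMod.IsFinLocFreeOfRank n E) (s : E ⟶ Coh.structureModule X)
    (hs : ∀ x : X, ∃ U : X.affineOpens, x ∈ U.1 ∧
      ∃ b : Module.Basis (Fin n) Γ(X, U.1) (E.val.obj (op U.1)),
        @RingTheory.Sequence.IsWeaklyRegular Γ(X, U.1) Γ(X, U.1) _ _ _ (List.ofFn fun k => (s.val.app (op U.1)).hom (b k)))
    (i : Y ⟶ X) [IsClosedImmersion i] (t : E ⟶ ClSub.idealMod i.ker) [Epi t]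
    (hts : t ≫ ClSub.idealModι i.ker = s) :
    IsIso ((Scheme.Modules.pullback i).map t) := by
  haveI : Coh.IsQCoh E := DCat.PullPerf.isQCoh_of_finLocFree fun x => by
    obtain ⟨U, hx, e⟩ := hE x
    exact ⟨U, n, hx, e⟩
  haveI : (Scheme.Modules.pullback i).PreservesEpimorphisms :=
    Functor.preservesEpimorphisms_of_adjunction (Scheme.Modules.pullbackPushforwardAdjunction i)
  haveI : Epi ((Scheme.Modules.pullback i).map t) := inferInstance
  suffices Mono ((Scheme.Modules.pullback i).map t) from isIso_of_mono_of_epi _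
  refine mono_of_stalks_injective _ fun y => (injective_iff_map_eq_zero _).2 fun v hv => ?_
  letI := (i.stalkMap y).hom.toAlgebra
  obtain ⟨ι, hιinj, hι⟩ := exists_idealStalkMap i.ker (i y)
  obtain ⟨EI, hEI⟩ := exists_pullback_stalk_equiv i (ClSub.idealMod i.ker) y
  obtain ⟨P, hPs, hP, hPl⟩ := RegImmH1.exists_pullStalk i E y
  obtain ⟨m, rfl⟩ := hPs v
  let T := (DerSch.stalkFunctor X (i y)).map t
  have hnat : (DerSch.stalkFunctor Y y).map ((Scheme.Modules.pullback i).map t) (P m) = EI (1 ⊗ₜ T m) := by
    obtain ⟨U, hU, a, rfl⟩ := exists_gm _ m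
    rw [hP, map_gm, map_gm, hEI, pullSect_naturality]
  obtain ⟨⟨U, hU⟩, hxU, b, hreg⟩ := hs (i y)
  let e : Fin n → (DerSch.stalkFunctor X (i y)).obj E := fun k => gm E U (i y) hxU (b k)
  have hspan : ⊤ ≤ Submodule.span (X.presheaf.stalk (i y)) (Set.range e) :=
    Props12.span_germ_eq_top E hU (s := fun k => b k) b.span_eq.ge hxU
  let f : Fin n → X.presheaf.stalk (i y) := fun k => ι (T (e k))
  have hf : ∀ k, f k = X.presheaf.germ U (i y) hxU ((s.app U) (b k)) := fun k => by
    show ι (T (gm E U (i y) hxU (b k))) = _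
    rw [map_gm, hι, ← hts]
    rfl
  have hH1 : CAlgX.IsH1Regular f := by
    letI := X.presheaf.algebra_section_stalk ⟨i y, hxU⟩
    haveI := hU.isLocalization_stalk ⟨i y, hxU⟩
    haveI : Module.Flat Γ(X, U) (X.presheaf.stalk (i y)) :=
      IsLocalization.flat _ (hU.primeIdealOf ⟨i y, hxU⟩).asIdeal.primeCompl
    rw [show f = fun k => algebraMap Γ(X, U) (X.presheaf.stalk (i y)) ((s.app U) (b k)) from funext hf]
    exact SDiv28.RegSeq.isH1Regular_map (S := X.presheaf.stalk (i y))
      (SDiv28.RegSeq.isH1Regular_of_kreg (SDiv28.RegSeq.kreg_of_regular hreg))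
  have hcomb : ∀ x, ∃ c : Fin n → X.presheaf.stalk (i y), x = ∑ k, c k • e k := fun x => by
    obtain ⟨c, hc⟩ := (Submodule.mem_span_range_iff_exists_fun (X.presheaf.stalk (i y))).1
      (hspan (Submodule.mem_top (x := x)))
    exact ⟨c, hc.symm⟩
  have hιT : ∀ c : Fin n → X.presheaf.stalk (i y), ι (T (∑ k, c k • e k)) = ∑ k, c k * f k := fun c => by
    rw [map_sum, map_sum]
    exact Finset.sum_congr rfl fun k _ => by rw [map_smul, map_smul]; rfl
  have hker : RingHom.ker (i.stalkMap y).hom = Ideal.span (Set.range f) := by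
    refine le_antisymm (fun a ha => ?_) (Ideal.span_le.2 ?_)
    · obtain ⟨w, hw⟩ := (mem_range_idealStalkMap i y hι a).2 ha
      have hTs : Function.Surjective T :=
        (ModuleCat.epi_iff_surjective _).1 (inferInstanceAs (Epi ((DerSch.stalkFunctor X (i y)).map t)))
      obtain ⟨x, rfl⟩ := hTs w
      obtain ⟨c, rfl⟩ := hcomb x
      rw [← hw, hιT]
      exact Ideal.sum_mem _ fun k _ => Ideal.mul_mem_left _ _ (Ideal.subset_span ⟨k, rfl⟩)
    · rintro _ ⟨k, rfl⟩
      exact (mem_range_idealStalkMap i y hι (f k)).1 ⟨_, rfl⟩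
  have h1 : (1 : Y.presheaf.stalk y) ⊗ₜ[X.presheaf.stalk (i y)] T m = 0 :=
    EI.injective ((hnat.symm.trans hv).trans (map_zero EI).symm)
  have h2 : ι (T m) ∈ Ideal.span (Set.range f) ^ 2 := by
    rw [← hker, pow_two]
    refine Submodule.smul_induction_on
      (p := fun x => ι x ∈ RingHom.ker (i.stalkMap y).hom * RingHom.ker (i.stalkMap y).hom)
      (mem_ker_smul_of_one_tmul_eq_zero (i.stalkMap_surjective y) h1) (fun r hr x _ => ?_) (fun p q hp hq => ?_)
    · rw [map_smul, smul_eq_mul]
      exact Ideal.mul_mem_mul hr ((mem_range_idealStalkMap i y hι _).1 ⟨x, rfl⟩)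
    · rw [map_add]; exact Ideal.add_mem _ hp hq
  obtain ⟨c, rfl⟩ := hcomb m
  rw [hιT] at h2
  obtain ⟨d, hd, hdc⟩ := RegImmH1.exists_coeff_of_mem_sq f h2
  rw [map_sum]
  refine Finset.sum_eq_zero fun k _ => ?_
  have h3 := RegImmH1.relation_mem hH1 (a := c - d)
    (by simp only [Pi.sub_apply, sub_mul, Finset.sum_sub_distrib, hdc, sub_self]) k
  have h4 : c k ∈ Ideal.span (Set.range f) := by simpa using add_mem h3 (hd k)
  rw [← hker, RingHom.mem_ker] at h4
  rw [hPl, show (i.stalkMap y) (c k) = 0 from h4, zero_smul]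

end Groth.Agent.S15826
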