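import Mathlib.Topology.Algebra.Nonarchimedean.Basic
import Mathlib.Tactic.Group
import Mathlib.Topology.Algebra.OpenSubgroup
import Mathlib.Topology.Algebra.Nonarchimedean.Basic

set_option autoImplicit false
universe u
namespace TopGrp
end TopGrp
open TopGrp

namespace Groth.Agent.S15832

/-- For a group T with a topology, let B be the family of two-sided translates x Γ y, where Γ runs over
the subgroups of T open in the given topology and x, y over T; the topology generated by B makes T a
topological group in which every neighbourhood of the identity contains a subgroup open for that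
topology. (The published statement is for the free topological product of two Noohi groups whose
open subgroups form a basis of neighbourhoods of the identity; the argument uses only the group
structure and the chosen family of subgroups, so the row is stated for an arbitrary group with a
topology. The published conventions include Hausdorffness in the word topological group; this row
does not assert it, and the published argument does not prove it.) -/
theorem result (T : Type u) [Group T]
    [TopologicalSpace T] :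
    @NonarchimedeanGroup T _ (TopologicalSpace.generateFrom
      {S : Set T | ∃ (Γ : OpenSubgroup T) (x y : T), S = (fun g : T => x * g * y) '' (Γ : Set T)}) := by
  let B : Set (Set T) :=
    {S : Set T | ∃ (Γ : OpenSubgroup T) (x y : T), S = (fun g : T => x * g * y) '' (Γ : Set T)}
  letI τ : TopologicalSpace T := TopologicalSpace.generateFrom B
  have hopen : ∀ S ∈ B, @IsOpen T τ S := fun S hS => TopologicalSpace.isOpen_generateFrom_of_mem hS
  have hmul : ContinuousMul T := by
    refine ⟨continuous_generateFrom_iff.2 ?_⟩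
    rintro S ⟨Γ, x, y, rfl⟩
    rw [isOpen_iff_forall_mem_open]
    rintro ⟨a, b⟩ ⟨γ, hγ, hab⟩
    refine ⟨((fun g : T => x * g * (y * b⁻¹)) '' (Γ : Set T)) ×ˢ
      ((fun g : T => b * y⁻¹ * g * y) '' (Γ : Set T)), ?_, ?_, ⟨?_, ?_⟩⟩
    · rintro ⟨p, q⟩ ⟨⟨g, hg, rfl⟩, ⟨g', hg', rfl⟩⟩
      exact ⟨g * g', mul_mem hg hg', by group⟩
    · exact (hopen _ ⟨Γ, _, _, rfl⟩).prod (hopen _ ⟨Γ, _, _, rfl⟩)
    · refine ⟨γ, hγ, ?_⟩
      simp only at hab ⊢
      rw [← mul_assoc, hab]
      group
    · exact ⟨1, one_mem Γ, by group⟩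
  have hinv : ContinuousInv T := by
    refine ⟨continuous_generateFrom_iff.2 ?_⟩
    rintro S ⟨Γ, x, y, rfl⟩
    refine hopen _ ⟨Γ, y⁻¹, x⁻¹, ?_⟩
    ext a
    constructor
    · rintro ⟨g, hg, h⟩
      refine ⟨g⁻¹, inv_mem hg, ?_⟩
      simp only at h ⊢
      rw [← inv_inv a, ← h]
      group
    · rintro ⟨g, hg, rfl⟩
      exact ⟨g⁻¹, inv_mem hg, by group⟩
  haveI : IsTopologicalGroup T := { hmul, hinv with }
  refine ⟨fun U hU => ?_⟩
  obtain ⟨V, ⟨f, ⟨hf, hfB⟩, rfl⟩, h1, hVU⟩ :=
    (TopologicalSpace.isTopologicalBasis_of_subbasis rfl).mem_nhds_iff.1 hU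
  refine hf.induction_on (motive := fun f _ => f ⊆ B → (1 : T) ∈ ⋂₀ f →
      ∃ K : OpenSubgroup T, (K : Set T) ⊆ ⋂₀ f) _ ?_ ?_ hfB h1 |>.imp fun K hK => hK.trans hVU
  · intro _ _
    exact ⟨⊤, by simp⟩
  · intro S f _ _ ih hsub hmem
    rw [Set.sInter_insert] at hmem ⊢
    obtain ⟨K, hK⟩ := ih ((Set.subset_insert _ _).trans hsub) hmem.2
    obtain ⟨Γ, x, y, hS⟩ := hsub (Set.mem_insert _ _)
    let C : Subgroup T :=
      { carrier := S
        one_mem' := hmem.1
        mul_mem' := by
          obtain ⟨γ, hγ, he⟩ := hS ▸ hmem.1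
          intro p q hp hq
          rw [hS] at hp hq ⊢
          obtain ⟨g, hg, rfl⟩ := hp
          obtain ⟨g', hg', rfl⟩ := hq
          refine ⟨g * γ⁻¹ * g', mul_mem (mul_mem hg (inv_mem hγ)) hg', ?_⟩
          simp only at he ⊢
          have : γ⁻¹ = y * x := by
            rw [← mul_one y, ← inv_inj, inv_inv]
            calc γ = x⁻¹ * (x * γ * y) * y⁻¹ := by group
              _ = _ := by rw [he]; group
          rw [this]; group
        inv_mem' := by
          obtain ⟨γ, hγ, he⟩ := hS ▸ hmem.1
          intro p hp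
          rw [hS] at hp ⊢
          obtain ⟨g, hg, rfl⟩ := hp
          refine ⟨γ * g⁻¹ * γ, mul_mem (mul_mem hγ (inv_mem hg)) hγ, ?_⟩
          simp only at he ⊢
          have : γ = x⁻¹ * y⁻¹ := by
            calc γ = x⁻¹ * (x * γ * y) * y⁻¹ := by group
              _ = _ := by rw [he]; group
          rw [this]; group }
    exact ⟨⟨C, hopen S (hsub (Set.mem_insert _ _))⟩ ⊓ K, fun p hp => ⟨hp.1, hK hp.2⟩⟩

end Groth.Agent.S15832
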