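import Groth.Statements.S15833
import Mathlib.AlgebraicGeometry.Morphisms.ClosedImmersion

set_option autoImplicit false
universe u
open EtBase

namespace Groth.Agent.S15833

open CategoryTheory CategoryTheory.Limits AlgebraicGeometry in
/-- Let i : X₀ ⟶ X be a surjective closed immersion of schemes and f : Y ⟶ X a morphism. Then f
satisfies the valuative criterion (existence and uniqueness of a lift in every valuative square,
over arbitrary valuation rings) if and only if its base change Y ×_X X₀ ⟶ X₀ does. (The published
statement takes X locally Noetherian and connected, X₀ the reduced closed subscheme with the same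
underlying space and f étale, and combines this step with the equivalence between étale schemes over
X and over X₀ to identify the geometric coverings, i.e. the étale morphisms satisfying the valuative
criterion, of X and of X₀; the argument for this step uses only that X₀ ⟶ X is a surjective closed
immersion and that valuation rings are reduced.) -/
theorem result {X X₀ Y : Scheme.{u}} (i : X₀ ⟶ X)
    [IsClosedImmersion i] [Surjective i] (f : Y ⟶ X) :
    ValuativeCriterion f ↔ ValuativeCriterion (pullback.snd f i) := by
  have hfac : ∀ (R : Type u) [CommRing R] [IsDomain R] (j : Spec (CommRingCat.of R) ⟶ X),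
      ∃ j₀ : Spec (CommRingCat.of R) ⟶ X₀, j₀ ≫ i = j := by
    intro R _ _ j
    haveI : IsIso (pullback.fst j i) := isIso_of_isClosedImmersion_of_surjective _
    exact ⟨inv (pullback.fst j i) ≫ pullback.snd j i, by
      rw [Category.assoc, ← pullback.condition, IsIso.inv_hom_id_assoc]⟩
  constructor
  · intro h S
    have w : (S.i₁ ≫ pullback.fst f i) ≫ f =
        Spec.map (CommRingCat.ofHom (algebraMap S.R S.K)) ≫ (S.i₂ ≫ i) := by
      rw [Category.assoc, pullback.condition, ← Category.assoc, S.commSq.w, Category.assoc]
    obtain ⟨u⟩ := h ⟨S.R, S.K, S.i₁ ≫ pullback.fst f i, S.i₂ ≫ i, ⟨w⟩⟩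
    refine ⟨{
      default := ⟨pullback.lift u.default.l S.i₂ u.default.fac_right, ?_, pullback.lift_snd _ _ _⟩
      uniq := ?_ }⟩
    · apply pullback.hom_ext
      · rw [Category.assoc, pullback.lift_fst]; exact u.default.fac_left
      · rw [Category.assoc, pullback.lift_snd]; exact S.commSq.w.symm
    · intro a
      apply CommSq.LiftStruct.ext
      apply pullback.hom_ext
      · rw [pullback.lift_fst]
        exact congrArg CommSq.LiftStruct.l (u.uniq ⟨a.l ≫ pullback.fst f i,
          by rw [← Category.assoc, a.fac_left],
          by rw [Category.assoc, pullback.condition, ← Category.assoc, a.fac_right]⟩)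
      · rw [pullback.lift_snd, a.fac_right]
  · intro h S
    obtain ⟨j₀, hj₀⟩ := hfac S.R S.i₂
    have w : S.i₁ ≫ f = (Spec.map (CommRingCat.ofHom (algebraMap S.R S.K)) ≫ j₀) ≫ i := by
      rw [Category.assoc, hj₀, S.commSq.w]
    obtain ⟨u⟩ := h ⟨S.R, S.K, pullback.lift S.i₁ _ w, j₀, ⟨pullback.lift_snd _ _ _⟩⟩
    refine ⟨{
      default := ⟨u.default.l ≫ pullback.fst f i, ?_, ?_⟩
      uniq := ?_ }⟩
    · rw [← Category.assoc, u.default.fac_left, pullback.lift_fst]
    · rw [Category.assoc, pullback.condition, ← Category.assoc, u.default.fac_right]
      exact hj₀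
    · intro a
      have ha : a.l ≫ f = j₀ ≫ i := by rw [a.fac_right, hj₀]
      apply CommSq.LiftStruct.ext
      have := congrArg (fun m => CommSq.LiftStruct.l m ≫ pullback.fst f i)
        (u.uniq ⟨pullback.lift a.l j₀ ha,
          by
            apply pullback.hom_ext
            · rw [Category.assoc, pullback.lift_fst, pullback.lift_fst, a.fac_left]
            · rw [Category.assoc, pullback.lift_snd, pullback.lift_snd],
          pullback.lift_snd _ _ _⟩)
      exact (pullback.lift_fst a.l j₀ ha).symm.trans this

end Groth.Agent.S15833
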