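import Groth.Statements.S15835
import Mathlib

set_option linter.all false

set_option autoImplicit false
universe u
open SprIso

open TensorProduct

namespace Groth.Agent.S15835

/-- Over a commutative ring R of prime characteristic p, let n ≥ 1 and let p^m be the largest power of p
dividing n. The locus of n × n matrices with characteristic polynomial t^n is stable under adding a
scalar matrix a·1 with n·a = 0 exactly when a^(p^m) = 0: for X with characteristic polynomial t^n
and such an a, the matrix X + a·1 has characteristic polynomial t^n if and only if a^(p^m) = 0.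
(Stated on points with values in an arbitrary ring of characteristic p; the scheme-theoretic
assertion about the nilpotent scheme of SL_n is this statement for all such rings.) -/
theorem result (p : ℕ) [Fact p.Prime] (R : Type u) [CommRing R]
    [CharP R p] (n : ℕ) (hn : 0 < n) (X : Matrix (Fin n) (Fin n) R) (hX : X.charpoly = Polynomial.X ^ n)
    (a : R) (ha : (n : R) * a = 0) :
    (X + Matrix.scalar (Fin n) a).charpoly = Polynomial.X ^ n ↔ a ^ (p ^ padicValNat p n) = 0 := by
  have hp := Fact.out (p := p.Prime)
  have : Nontrivial R := CharP.nontrivial_of_char_ne_one hp.ne_one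
  set q := p ^ padicValNat p n with hq
  obtain ⟨r, hr⟩ : q ∣ n := pow_padicValNat_dvd
  have hpr : ¬ p ∣ r := by
    intro ⟨s, hs⟩
    exact pow_succ_padicValNat_not_dvd hn.ne' ⟨s, by rw [pow_succ, ← hq, hr, hs, mul_assoc]⟩
  have hr0 : 0 < r := by
    rcases Nat.eq_zero_or_pos r with rfl | h
    · simp at hr; omega
    · exact h
  have hru : IsUnit (r : R) := (CharP.isUnit_natCast_iff hp).2 hpr
  have key : (X + Matrix.scalar (Fin n) a).charpoly = (Polynomial.X ^ q - Polynomial.C (a ^ q)) ^ r := by
    rw [show X + Matrix.scalar (Fin n) a = X - Matrix.scalar (Fin n) (-a) by rw [map_neg, sub_neg_eq_add],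
      Matrix.charpoly_sub_scalar, hX, Polynomial.X_pow_comp, map_neg, ← sub_eq_add_neg, map_pow, hq,
      ← sub_pow_char_pow, ← pow_mul, ← hr]
  rw [key]
  constructor
  · intro h
    have h2 := congrArg (fun P => Polynomial.coeff P (q * (r - 1))) h
    simp only [Polynomial.coeff_X_pow] at h2
    have hq0 : 0 < q := pow_pos hp.pos _
    rw [if_neg (fun e => by rw [hr, Nat.mul_left_cancel_iff hq0] at e; omega)] at h2
    have e : (Polynomial.X ^ q - Polynomial.C (a ^ q)) ^ r =
        Polynomial.expand R q ((Polynomial.X - Polynomial.C (a ^ q)) ^ r) := by simp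
    rw [e, mul_comm q, Polynomial.coeff_expand_mul hq0, sub_eq_add_neg, ← map_neg,
      Polynomial.coeff_X_add_C_pow, show r - (r - 1) = 1 by omega, pow_one,
      Nat.choose_symm_of_eq_add (show r = (r - 1) + 1 by omega), Nat.choose_one_right, neg_mul, neg_eq_zero] at h2
    exact (IsUnit.mul_left_eq_zero hru).1 h2
  · intro h
    rw [h, map_zero, sub_zero, ← pow_mul, ← hr]

end Groth.Agent.S15835
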