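import Groth.Statements.S15836
import Mathlib
import Groth.Prelude
import Groth.Agent.CommAlg4.Swan

set_option linter.all false

set_option autoImplicit false
universe u
open SprIso

open Polynomial TensorProduct

namespace Groth.Agent.S15836

lemma sn_of_normal (A : Type u) [CommRing A] [IsDomain A] [IsIntegrallyClosed A] :
    Groth.Agent.CommAlg4.Swan.SN A := by
  intro x y h
  have huniq : ∀ a b : A, a ^ 2 = b ^ 2 → a ^ 3 = b ^ 3 → a = b := by
    intro a b h2 h3
    by_cases ha : a = 0
    · subst ha
      exact ((pow_eq_zero_iff two_ne_zero).1 (by simpa using h2.symm)).symm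
    · refine mul_left_cancel₀ (pow_ne_zero 2 ha) ?_
      calc a ^ 2 * a = a ^ 3 := by ring
        _ = b ^ 3 := h3
        _ = b ^ 2 * b := by ring
        _ = a ^ 2 * b := by rw [h2]
  suffices ∃ a : A, x = a ^ 2 ∧ y = a ^ 3 by
    obtain ⟨a, ha⟩ := this
    exact ⟨a, ha, fun b hb => huniq b a (hb.1.symm.trans ha.1) (hb.2.symm.trans ha.2)⟩
  by_cases hx : x = 0
  · subst hx
    exact ⟨0, by simp, by simpa using h.symm⟩
  let F := FractionRing A
  have hx' : algebraMap A F x ≠ 0 := by simpa using hx
  set q : F := algebraMap A F y / algebraMap A F x with hq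
  have hq2 : q ^ 2 = algebraMap A F x := by
    rw [hq, div_pow, div_eq_iff (pow_ne_zero 2 hx'), ← map_pow, ← map_pow, ← map_mul, ← h]
    ring_nf
  have hint : IsIntegral A q :=
    ⟨Polynomial.X ^ 2 - Polynomial.C x, Polynomial.monic_X_pow_sub_C x two_ne_zero, by simp [hq2]⟩
  obtain ⟨a, ha⟩ := IsIntegrallyClosed.isIntegral_iff.1 hint
  refine ⟨a, ?_, ?_⟩
  · apply IsFractionRing.injective A F
    rw [map_pow, ha, hq2]
  · apply IsFractionRing.injective A F
    rw [map_pow, ha, pow_succ, hq2, hq, mul_div_cancel₀ _ hx']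

lemma free_of_hom {A : Type u} [CommRing A] [IsDomain A] [IsIntegrallyClosed A] (φ : A →+* A[X])
    (h1 : ∀ a, (φ a).eval 1 = a) (h0 : ∀ a, (φ a).coeff 0 = 0 ∨ IsUnit ((φ a).coeff 0))
    (M : Type u) [AddCommGroup M] [Module A M] [Module.Invertible A M] : Module.Free A M := by
  classical
  obtain ⟨z, hz⟩ := (Module.Invertible.linearEquiv A M).surjective 1
  obtain ⟨S, rfl⟩ := TensorProduct.exists_finset z
  rw [map_sum] at hz
  let e := S.equivFin.symm
  let f : Fin S.card → Module.Dual A M := fun i => (e i).1.1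
  let m : Fin S.card → M := fun i => (e i).1.2
  have hone : ∑ i, f i (m i) = 1 := by
    rw [← hz, ← Finset.sum_coe_sort S]
    exact Equiv.sum_comp e (fun x : S => x.1.1 x.1.2)
  have hx : ∀ x : M, ∑ i, f i x • m i = x := fun x => by
    simp only [fun i => Groth.Agent.CommAlg4.Swan.dual_comm (f i) x (m i), ← Finset.sum_smul, hone, one_smul]
  have hP : ∀ i j a b, f i (m j) * f a (m b) = f i (m b) * f a (m j) := fun i j a b => by
    have h := congrArg (f a) (Groth.Agent.CommAlg4.Swan.dual_comm (f i) (m j) (m b))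
    simpa using h
  have hone' : ∑ i, φ (f i (m i)) = 1 := by rw [← map_sum, hone, map_one]
  obtain ⟨i₀, hi₀⟩ : ∃ i, IsUnit ((φ (f i (m i))).coeff 0) := by
    by_contra h
    push Not at h
    have := congrArg (fun q : A[X] => q.coeff 0) hone'
    simp only [finsetSum_coeff, coeff_one_zero] at this
    rw [Finset.sum_eq_zero fun i _ => (h0 _).resolve_right (h i)] at this
    exact zero_ne_one this
  obtain ⟨a, b, hab⟩ := Groth.Agent.CommAlg4.Swan.exists_factor_of_seminormal (sn_of_normal A)
    (fun i j => φ (f i (m j))) (fun i j a b => by simp only [← map_mul, hP]) hi₀ hone'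
  let a1 := fun i => (a i).eval 1
  let b1 := fun i => (b i).eval 1
  have hab1 : ∀ i j, a1 i * b1 j = f i (m j) := fun i j => by
    simp only [a1, b1, ← eval_mul, hab, h1]
  let ψ : A →ₗ[A] M := LinearMap.toSpanSingleton A M (∑ i, a1 i • m i)
  have hsurj : Function.Surjective ψ := fun x => by
    refine ⟨∑ j, f j x * b1 j, ?_⟩
    rw [LinearMap.toSpanSingleton_apply, Finset.sum_smul]
    conv_rhs => rw [← hx x]
    refine Finset.sum_congr rfl fun j _ => ?_
    rw [mul_smul]
    congr 1
    conv_rhs => rw [← hx (m j)]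
    rw [Finset.smul_sum]
    exact Finset.sum_congr rfl fun i _ => by rw [smul_smul, mul_comm, hab1]
  exact Module.Invertible.free_iff_linearEquiv.mpr
    ⟨(LinearEquiv.ofBijective ψ (Module.Invertible.bijective_of_surjective hsurj)).symm⟩

/-- Let k be a field and C a closed subscheme of affine n-space over k which is stable under the scaling
action of the affine line, i.e. C = Spec A with A = k[x_1, …, x_n]/I for an ideal I generated by
homogeneous polynomials, and assume C is normal (A is an integrally closed domain). Then Pic(C) = 0: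
every invertible A-module is free. -/
theorem result (k : Type u) [Field k] (n : ℕ)
    (I : Ideal (MvPolynomial (Fin n) k))
    (hI : ∃ s : Set (MvPolynomial (Fin n) k), (∀ f ∈ s, ∃ d : ℕ, f.IsHomogeneous d) ∧ I = Ideal.span s)
    [IsDomain (MvPolynomial (Fin n) k ⧸ I)] [IsIntegrallyClosed (MvPolynomial (Fin n) k ⧸ I)]
    (M : Type u) [AddCommGroup M] [Module (MvPolynomial (Fin n) k ⧸ I) M]
    [Module.Invertible (MvPolynomial (Fin n) k ⧸ I) M] :
    Module.Free (MvPolynomial (Fin n) k ⧸ I) M := by
  obtain ⟨s, hs, hIs⟩ := hI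
  let π : MvPolynomial (Fin n) k →+* (MvPolynomial (Fin n) k ⧸ I) := Ideal.Quotient.mk I
  let g : MvPolynomial (Fin n) k →+* (MvPolynomial (Fin n) k ⧸ I)[X] :=
    MvPolynomial.eval₂Hom (Polynomial.C.comp (π.comp MvPolynomial.C))
      (fun i => Polynomial.C (π (MvPolynomial.X i)) * Polynomial.X)
  have hg : ∀ p : MvPolynomial (Fin n) k, ∀ d, p.IsHomogeneous d → g p = Polynomial.C (π p) * Polynomial.X ^ d := by
    intro p d hp
    conv_rhs => rw [p.as_sum]
    conv_lhs => rw [p.as_sum]
    rw [map_sum, map_sum, map_sum, Finset.sum_mul]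
    refine Finset.sum_congr rfl fun v hv => ?_
    have hd : v.sum (fun _ e => e) = d := by
      have := hp (MvPolynomial.mem_support_iff.1 hv)
      simpa [Finsupp.weight_apply] using this
    simp only [g, MvPolynomial.coe_eval₂Hom, MvPolynomial.eval₂_monomial, RingHom.comp_apply]
    rw [MvPolynomial.monomial_eq, map_mul, map_mul, ← hd]
    simp only [Finsupp.prod, Finsupp.sum, map_prod, map_pow, mul_pow, Finset.prod_mul_distrib,
      Finset.prod_pow_eq_pow_sum]
    have key : ∀ (R : Type u) [CommSemiring R] (c T : R) (a : Fin n → R),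
        c * ∏ x ∈ v.support, (a x * T) ^ v x = (c * ∏ x ∈ v.support, a x ^ v x) * T ^ ∑ x ∈ v.support, v x := by
      intro R _ c T a
      simp only [mul_pow, Finset.prod_mul_distrib, Finset.prod_pow_eq_pow_sum, mul_assoc]
    exact key _ _ _ (fun i => Polynomial.C (π (MvPolynomial.X i)))
  have hker : ∀ p ∈ I, g p = 0 := by
    intro p hp
    have : I ≤ RingHom.ker g := hIs.le.trans <| Ideal.span_le.2 fun q hq => by
      obtain ⟨d, hd⟩ := hs q hq
      have hq0 : π q = 0 := Ideal.Quotient.eq_zero_iff_mem.2 (hIs.ge (Ideal.subset_span hq))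
      simp [RingHom.mem_ker, hg q d hd, hq0]
    exact this hp
  let φ : (MvPolynomial (Fin n) k ⧸ I) →+* (MvPolynomial (Fin n) k ⧸ I)[X] := Ideal.Quotient.lift I g hker
  refine free_of_hom φ (fun a => ?_) (fun a => ?_) M
  · obtain ⟨p, rfl⟩ := Ideal.Quotient.mk_surjective a
    change (g p).eval 1 = π p
    have : (Polynomial.evalRingHom 1).comp g = π := by
      apply MvPolynomial.ringHom_ext <;> intro i <;> simp [g]
    exact DFunLike.congr_fun this p
  · obtain ⟨p, rfl⟩ := Ideal.Quotient.mk_surjective a
    change (g p).coeff 0 = 0 ∨ IsUnit ((g p).coeff 0)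
    have : (Polynomial.constantCoeff).comp g = (π.comp MvPolynomial.C).comp MvPolynomial.constantCoeff := by
      apply MvPolynomial.ringHom_ext <;> intro i <;> simp [g]
    have h2 := DFunLike.congr_fun this p
    simp only [RingHom.comp_apply, Polynomial.constantCoeff_apply] at h2
    rw [h2]
    rcases eq_or_ne (MvPolynomial.constantCoeff p) 0 with h | h
    · left; simp [h]
    · right; exact (h.isUnit.map (π.comp MvPolynomial.C))

end Groth.Agent.S15836
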