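import Groth.Statements.S15837
import Groth.Agent.SGA3cLib.TransporterFP
import Groth.Agent.H8Lim.Unramified

set_option autoImplicit false
universe u
open CategoryTheory MonoidalCategory CartesianMonoidalCategory MonObj GrpObj AlgebraicGeometry
open SprIso

namespace Groth.Agent.S15837

/-- Let S be a scheme, G an S-group scheme of finite presentation acting on an S-scheme X which is
affine and of finite presentation over S, and Y a closed subscheme of X which is finite, flat and of
finite presentation over S. Then the functorial stabilizer of Y in G — whose points with values in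
an S-scheme T are the points g of G such that g acts as the identity on every point of Y with values
in a scheme over T — is represented by a closed subscheme of G whose inclusion is of finite
presentation. -/
theorem result (S : Scheme.{u}) (G X Y : Over S) [GrpObj G]
    [LocallyOfFinitePresentation G.hom] [QuasiCompact G.hom] [QuasiSeparated G.hom]
    [IsAffineHom X.hom] [LocallyOfFinitePresentation X.hom] (a : AlgGrp.Action G X)
    (i : Y ⟶ X) [IsClosedImmersion i.left] [IsFinite Y.hom] [Flat Y.hom] [LocallyOfFinitePresentation Y.hom] :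
    ∃ (Z : Over S) (j : Z ⟶ G), IsClosedImmersion j.left ∧ LocallyOfFinitePresentation j.left ∧
      ∀ (T : Over S) (g : T ⟶ G), (∃ z : T ⟶ Z, z ≫ j = g) ↔
        ∀ (T' : Over S) (t : T' ⟶ T) (y : T' ⟶ Y), lift (t ≫ g) (y ≫ i) ≫ a.act = y ≫ i := by
  let Δ : X ⟶ X ⊗ X := lift (𝟙 X) (𝟙 X)
  have hΔ : Δ.left = Limits.pullback.diagonal X.hom := by
    apply Limits.pullback.hom_ext
    · rw [Limits.pullback.diagonal_fst]; exact congrArg (fun t : X ⟶ X => t.left) (lift_fst (𝟙 X) (𝟙 X))
    · rw [Limits.pullback.diagonal_snd]; exact congrArg (fun t : X ⟶ X => t.left) (lift_snd (𝟙 X) (𝟙 X))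
  have hci : IsClosedImmersion Δ.left := by rw [hΔ]; exact IsSeparated.isClosedImmersion_diagonal
  have hlfp : LocallyOfFinitePresentation Δ.left := by
    rw [hΔ]; exact H8Lim.locallyOfFinitePresentation_diagonal X.hom
  obtain ⟨Z, j, hj, hjfp, hZ⟩ := SGA3cLib.TransporterFP.exists_transporter (X := Y) (P := G)
    SGA3cLib.TransporterFP.pure_snd_of_finite
    (lift (lift (snd Y G) (fst Y G ≫ i) ≫ a.act) (fst Y G ≫ i)) Δ
  refine ⟨Z, j, hj, hjfp hlfp, fun T g => (hZ T g).trans (forall₃_congr fun T' t y => ?_)⟩
  have e : lift y (t ≫ g) ≫ lift (snd Y G) (fst Y G ≫ i) ≫ a.act = lift (t ≫ g) (y ≫ i) ≫ a.act := by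
    rw [← Category.assoc, comp_lift, lift_snd, lift_fst_assoc]
  constructor
  · rintro ⟨x', hx'⟩
    have h1 := congrArg (· ≫ fst X X) hx'
    have h2 := congrArg (· ≫ snd X X) hx'
    simp [Δ] at h1 h2
    rw [← e, h1, h2]
  · intro h
    refine ⟨y ≫ i, ?_⟩
    rw [comp_lift, e, h]
    simp [Δ]
end Groth.Agent.S15837
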