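import Groth.Statements.S15838
import Mathlib
import Groth.Prelude
import Groth.Agent.FlatCrit.Tor

set_option linter.all false

set_option autoImplicit false
universe u
open scoped TensorProduct
open SprIso

open CategoryTheory CategoryTheory.Limits AlgebraicGeometry
open scoped TensorProduct

namespace Groth.Agent.S15838

theorem adjoin_baseChange_commute {k V R : Type*} [Field k] [AddCommGroup V] [Module k V] [CommRing R] [Algebra k R]
    {X Y : Module.End k V} (hY : Y ∈ Algebra.adjoin k {X}) {h : Module.End R (R ⊗[k] V)}
    (hX : Commute h (X.baseChange R)) : Commute h (Y.baseChange R) := by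
  induction hY using Algebra.adjoin_induction with
  | mem x hx => rw [Set.mem_singleton_iff.1 hx]; exact hX
  | algebraMap c =>
    have : (algebraMap k (Module.End k V) c).baseChange R = algebraMap R (Module.End R (R ⊗[k] V)) (algebraMap k R c) := by
      refine TensorProduct.AlgebraTensorModule.ext fun r x => ?_
      simp [Module.algebraMap_end_apply, TensorProduct.tmul_smul, algebraMap_smul]
    rw [this]; exact (Algebra.commutes _ h).symm
  | add x y _ _ hx hy => rw [LinearMap.baseChange_add]; exact hx.add_right hy
  | mul x y _ _ hx hy => rw [LinearMap.baseChange_mul]; exact hx.mul_right hy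

/-- General linear group case: this is the case G = GL(V), to which the general case reduces along a
closed embedding. Let k be a perfect field and V a finite-dimensional k-vector space. If an
invertible endomorphism g of V has multiplicative Jordan decomposition g = t u (t semisimple, u
unipotent, t and u commuting), then the scheme-theoretic centralizer of g in GL(V) is the
centralizer of u inside the centralizer of t: for every commutative k-algebra R, an R-linear
endomorphism h of R ⊗ V commutes with g_R if and only if it commutes with both t_R and u_R.
Likewise, if an endomorphism X of V has additive Jordan decomposition X = Y + N (Y semisimple, N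
nilpotent, commuting), then h commutes with X_R if and only if it commutes with both Y_R and N_R. -/
theorem result (k : Type u) [Field k] [PerfectField k]
    (V : Type u) [AddCommGroup V] [Module k V] [FiniteDimensional k V]
    (R : Type u) [CommRing R] [Algebra k R] (h : Module.End R (R ⊗[k] V)) :
    (∀ (g t u : Module.End k V), IsUnit g → t.IsSemisimple → IsNilpotent (u - 1) → Commute t u → g = t * u →
      (Commute h (g.baseChange R) ↔ Commute h (t.baseChange R) ∧ Commute h (u.baseChange R))) ∧
    (∀ (X Y N : Module.End k V), Y.IsSemisimple → IsNilpotent N → Commute Y N → X = Y + N →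
      (Commute h (X.baseChange R) ↔ Commute h (Y.baseChange R) ∧ Commute h (N.baseChange R))) := by
  have key : ∀ (X Y N : Module.End k V), Y.IsSemisimple → IsNilpotent N → Commute Y N → X = Y + N → Y ∈ Algebra.adjoin k {X} := by
    intro X Y N hY hN hc hX
    obtain ⟨n₀, hn₀, s₀, hs₀, hnn, hss, he⟩ := X.exists_isNilpotent_isSemisimple
    have hcomm : Commute n₀ s₀ := Algebra.commute_of_mem_adjoin_singleton_of_commute hn₀ (Algebra.commute_of_mem_adjoin_self hs₀).symm |>.symm
    have := Module.End.isNilpotent_isSemisimple_unique hN hY hnn hss hc.symm hcomm (by rw [← he, hX, add_comm])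
    exact this.2 ▸ hs₀
  refine ⟨fun g t u hg ht hu htu hgtu => ?_, fun X Y N hY hN hc hX => ?_⟩
  · constructor
    · intro hh
      have hc : Commute t (t * (u - 1)) := (Commute.refl t).mul_right (htu.sub_right (Commute.one_right t))
      have hN : IsNilpotent (t * (u - 1)) := (htu.sub_right (Commute.one_right t)).isNilpotent_mul_left hu
      have ht' := adjoin_baseChange_commute (key g t _ ht hN hc (by rw [hgtu, mul_sub, mul_one]; abel)) hh
      refine ⟨ht', ?_⟩
      have htu' : IsUnit t := by
        have hcg : Commute g (-(t * (u - 1))) := by
          rw [hgtu]; exact (hc.mul_left (htu.symm.mul_right ((Commute.refl u).sub_right (Commute.one_right u)))).neg_right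
        have := IsNilpotent.isUnit_add_right_of_commute hN.neg hg hcg.symm
        rwa [add_comm, show g + -(t * (u - 1)) = t by rw [hgtu, mul_sub, mul_one]; abel] at this
      obtain ⟨t', ht't⟩ := htu'
      have he : u = (↑t'⁻¹ : Module.End k V) * g := by rw [hgtu, ← ht't, ← mul_assoc, Units.inv_mul, one_mul]
      have hinv : Commute h ((↑t'⁻¹ : Module.End k V).baseChange R) := by
        let T : (Module.End R (R ⊗[k] V))ˣ := ⟨(↑t' : Module.End k V).baseChange R, (↑t'⁻¹ : Module.End k V).baseChange R,
          by rw [← LinearMap.baseChange_mul, Units.mul_inv, LinearMap.baseChange_one], by rw [← LinearMap.baseChange_mul, Units.inv_mul, LinearMap.baseChange_one]⟩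
        exact Commute.units_inv_right (u := T) (by simpa [T, ht't] using ht')
      rw [he, LinearMap.baseChange_mul]
      exact hinv.mul_right hh
    · rintro ⟨h1, h2⟩
      rw [hgtu, LinearMap.baseChange_mul]; exact h1.mul_right h2
  · constructor
    · intro hh
      have hY' := adjoin_baseChange_commute (key X Y N hY hN hc hX) hh
      refine ⟨hY', ?_⟩
      rw [show N = X - Y by rw [hX]; abel, LinearMap.baseChange_sub]
      refine LinearMap.ext fun y => ?_
      have ea := LinearMap.congr_fun hh.eq y
      have eb := LinearMap.congr_fun hY'.eq y
      simp only [Module.End.mul_apply, LinearMap.sub_apply, map_sub] at ea eb ⊢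
      rw [ea, eb]
    · rintro ⟨h1, h2⟩
      rw [hX, LinearMap.baseChange_add]; exact h1.add_right h2

end Groth.Agent.S15838
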