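import Groth.Statements.S15839
import Groth.Agent.H8Lim.Unramified
import Mathlib.AlgebraicGeometry.Morphisms.Separated

set_option autoImplicit false
universe u
open CategoryTheory MonoidalCategory CartesianMonoidalCategory MonObj GrpObj AlgebraicGeometry
open SprIso

namespace Groth.Agent.S15839

/-- Let S be a scheme, G an S-group scheme which is affine and of finite presentation over S, and g a
section of G over S. Then the centralizer of g — the subfunctor of G whose points with values in an
S-scheme T are the points x of G with x g_T = g_T x — is represented by a closed subscheme of G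
whose inclusion is of finite presentation. -/
theorem result (S : Scheme.{u}) (G : Over S) [GrpObj G]
    [IsAffineHom G.hom] [LocallyOfFinitePresentation G.hom] (g : 𝟙_ (Over S) ⟶ G) :
    ∃ (Z : Over S) (j : Z ⟶ G), IsClosedImmersion j.left ∧ LocallyOfFinitePresentation j.left ∧
      ∀ (T : Over S) (x : T ⟶ G), (∃ z : T ⟶ Z, z ≫ j = x) ↔
        x * (toUnit T ≫ g) = (toUnit T ≫ g) * x := by
  classical
  let a : G ⟶ G := 𝟙 G * (toUnit G ≫ g)
  let b : G ⟶ G := (toUnit G ≫ g) * 𝟙 G
  let l : G.left ⟶ Limits.pullback G.hom G.hom := Limits.pullback.lift a.left b.left (by rw [Over.w a, Over.w b])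
  let Z : Over S := Over.mk (Limits.pullback.fst l (Limits.pullback.diagonal G.hom) ≫ G.hom)
  let j : Z ⟶ G := Over.homMk (Limits.pullback.fst l (Limits.pullback.diagonal G.hom)) rfl
  have : LocallyOfFinitePresentation (Limits.pullback.diagonal G.hom) :=
    H8Lim.locallyOfFinitePresentation_diagonal G.hom
  refine ⟨Z, j, ?_, ?_, fun T x => ?_⟩
  · exact MorphismProperty.pullback_fst l _ (inferInstanceAs (IsClosedImmersion (Limits.pullback.diagonal G.hom)))
  · exact MorphismProperty.pullback_fst l _ (inferInstanceAs (LocallyOfFinitePresentation (Limits.pullback.diagonal G.hom)))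
  · have ha : x ≫ a = x * (toUnit T ≫ g) := by
      simp only [a, MonObj.comp_mul, Category.comp_id, comp_toUnit_assoc]
    have hb : x ≫ b = (toUnit T ≫ g) * x := by
      simp only [b, MonObj.comp_mul, Category.comp_id, comp_toUnit_assoc]
    rw [← ha, ← hb]
    constructor
    · rintro ⟨z, rfl⟩
      apply Over.OverMorphism.ext
      have h := congrArg (fun φ => z.left ≫ φ) (Limits.pullback.condition (f := l) (g := Limits.pullback.diagonal G.hom))
      have h1 := congrArg (fun φ => φ ≫ Limits.pullback.fst G.hom G.hom) h
      have h2 := congrArg (fun φ => φ ≫ Limits.pullback.snd G.hom G.hom) h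
      simp only [l, Category.assoc, Limits.pullback.lift_fst, Limits.pullback.lift_snd,
        Limits.pullback.diagonal_fst, Limits.pullback.diagonal_snd, Category.comp_id] at h1 h2
      simp only [j, Over.comp_left, Over.homMk_left, Category.assoc]
      exact h1.trans h2.symm
    · intro hx
      have hx' : x.left ≫ a.left = x.left ≫ b.left := by
        simpa only [Over.comp_left] using congrArg CommaMorphism.left hx
      let zl : T.left ⟶ Z.left := Limits.pullback.lift x.left (x.left ≫ a.left) (by
        apply Limits.pullback.hom_ext
        · simp only [Category.assoc]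
          erw [Limits.pullback.lift_fst, Limits.pullback.diagonal_fst, Category.comp_id]
        · simp only [Category.assoc]
          erw [Limits.pullback.lift_snd, Limits.pullback.diagonal_snd, Category.comp_id]
          exact hx'.symm)
      have hzl : zl ≫ Limits.pullback.fst l (Limits.pullback.diagonal G.hom) = x.left :=
        Limits.pullback.lift_fst _ _ _
      refine ⟨Over.homMk zl ?_, ?_⟩
      · show zl ≫ Limits.pullback.fst l (Limits.pullback.diagonal G.hom) ≫ G.hom = T.hom
        rw [← Category.assoc, hzl, Over.w x]
      · apply Over.OverMorphism.ext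
        exact hzl

end Groth.Agent.S15839
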