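import Groth.Statements.S15840
import Mathlib

set_option linter.all false

set_option autoImplicit false
universe u
open SprIso

open TensorProduct

namespace Groth.Agent.S15840

/-- For G = SL_n (n = r + 1) over a field of characteristic p > 0, write n = m p^e with m prime to p, so
that the identity component of the centre of G is μ_{p^e} embedded diagonally. The character of the
i-th exterior power of the standard representation takes the value C(n, i) α^i at a point α of
μ_{p^e}, and this is constant: for every commutative ring R of characteristic p and every α in R
with α^(p^e) = 1 one has C(n, i) α^i = C(n, i) in R, for all i. -/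
theorem result (p : ℕ) [Fact p.Prime] (R : Type u) [CommRing R]
    [CharP R p] (n : ℕ) (hn : 0 < n) (α : R) (hα : α ^ (p ^ padicValNat p n) = 1) (i : ℕ) :
    (n.choose i : R) * α ^ i = (n.choose i : R) := by
  have hp := Fact.out (p := p.Prime)
  by_cases h : p ∣ n.choose i
  · rw [(CharP.cast_eq_zero_iff R p _).2 h, zero_mul]
  obtain ⟨j, hj⟩ : p ^ padicValNat p n ∣ i := by
    rcases i with _ | i
    · exact dvd_zero _
    have e : n * (n - 1).choose i = n.choose (i + 1) * (i + 1) := by
      have := Nat.add_one_mul_choose_eq (n - 1) i
      simp only [Nat.succ_eq_add_one, show n - 1 + 1 = n by omega] at this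
      exact this
    exact (Nat.Coprime.pow_left _ (hp.coprime_iff_not_dvd.2 h)).dvd_of_dvd_mul_left
      (e ▸ Dvd.dvd.mul_right pow_padicValNat_dvd _)
  rw [hj, pow_mul, hα, one_pow, mul_one]

end Groth.Agent.S15840
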