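import Groth.Statements.S15841
import Mathlib.LinearAlgebra.RootSystem.Base
import Mathlib.RingTheory.TensorProduct.Basic
import Mathlib.Tactic.Abel
import Mathlib.Tactic.Ring

set_option linter.all false

set_option autoImplicit false
universe u
open scoped TensorProduct
open SprIso

open scoped TensorProduct

namespace Groth.Agent.S15841

theorem coxeter_aux {ι M N : Type u} [AddCommGroup M] [AddCommGroup N]
    (P : RootPairing ι ℤ M N) (s : Set ι)
    (hsc : ∀ i ∈ s, ∃ ω : M, P.coroot' i ω = 1 ∧ ∀ j ∈ s, j ≠ i → P.coroot' j ω = 0)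
    (k : Type u) [Field k] :
    ∀ (l : List ι), l.Nodup → (∀ i ∈ l, i ∈ s) → ∀ H : k ⊗[ℤ] N,
      ((l.map (fun i => ((P.coreflection i : N ≃ₗ[ℤ] N) : N →ₗ[ℤ] N))).prod).baseChange k H = H →
      ∀ i ∈ l, (P.root' i).baseChange k H = 0 := by
  set W : List ι → (N →ₗ[ℤ] N) := fun l => (l.map (fun i => ((P.coreflection i : N ≃ₗ[ℤ] N) : N →ₗ[ℤ] N))).prod
  let φ : ι → (k ⊗[ℤ] N →ₗ[k] k) := fun i => (TensorProduct.AlgebraTensorModule.rid ℤ k k).toLinearMap ∘ₗ LinearMap.baseChange k (P.root' i)
  let ψ : M → (k ⊗[ℤ] N →ₗ[k] k) := fun ω => (TensorProduct.AlgebraTensorModule.rid ℤ k k).toLinearMap ∘ₗ LinearMap.baseChange k (P.toLinearMap ω)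
  have href : ∀ i (H : k ⊗[ℤ] N), ((P.coreflection i : N ≃ₗ[ℤ] N) : N →ₗ[ℤ] N).baseChange k H =
      H - φ i H • ((1 : k) ⊗ₜ[ℤ] P.coroot i) := by
    intro i H
    induction H using TensorProduct.induction_on with
    | zero => simp
    | add a b ha hb => rw [map_add, ha, hb, map_add, add_smul]; abel
    | tmul c n =>
      simp [φ, RootPairing.coreflection_apply, TensorProduct.tmul_sub, TensorProduct.smul_tmul', TensorProduct.tmul_smul, ← TensorProduct.smul_tmul', smul_eq_mul, mul_smul]
      simp [TensorProduct.smul_tmul', smul_eq_mul, mul_comm]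
  have hψc : ∀ ω i, ψ ω ((1 : k) ⊗ₜ[ℤ] P.coroot i) = (P.coroot' i ω : k) := fun ω i => by
    simp [ψ, RootPairing.coroot']
  have hW : ∀ i l (H : k ⊗[ℤ] N), (W (i :: l)).baseChange k H =
      ((P.coreflection i : N ≃ₗ[ℤ] N) : N →ₗ[ℤ] N).baseChange k ((W l).baseChange k H) := fun i l H => by
    simp only [W, List.map_cons, List.prod_cons, Module.End.mul_eq_comp, LinearMap.baseChange_comp]
    rfl
  have hnil : ∀ H : k ⊗[ℤ] N, (W []).baseChange k H = H := fun H => by
    simp [W, Module.End.one_eq_id]
  have hinv : ∀ (l : List ι) ω, (∀ j ∈ l, P.coroot' j ω = 0) → ∀ H, ψ ω ((W l).baseChange k H) = ψ ω H := by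
    intro l
    induction l with
    | nil => intro ω _ H; rw [hnil]
    | cons i l ih =>
      intro ω h H
      rw [hW, href, map_sub, map_smul, hψc, h i List.mem_cons_self, ih ω (fun j hj => h j (List.mem_cons_of_mem _ hj))]
      simp
  intro l
  induction l with
  | nil => intro _ _ H _ i hi; simp at hi
  | cons a l ih =>
    intro hnd hs H hH i hi
    rw [List.nodup_cons] at hnd
    obtain ⟨ω, hω1, hω0⟩ := hsc a (hs a List.mem_cons_self)
    change (W (a :: l)).baseChange k H = H at hH
    rw [hW, href] at hH
    have h1 := congrArg (ψ ω) hH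
    rw [map_sub, map_smul, hψc, hω1, hinv l ω (fun j hj => hω0 j (hs j (List.mem_cons_of_mem _ hj)) fun e => hnd.1 (e ▸ hj))] at h1
    have h2 : φ a ((W l).baseChange k H) = 0 := by simpa using h1
    rw [h2, zero_smul, sub_zero] at hH
    rcases List.mem_cons.1 hi with rfl | hi
    · rw [hH] at h2
      exact (TensorProduct.AlgebraTensorModule.rid ℤ k k).map_eq_zero_iff.1 h2
    · exact ih hnd.2 (fun j hj => hs j (List.mem_cons_of_mem _ hj)) H hH i hi

/-- For a connected reductive group G with maximal torus T whose derived group is simply connected, and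
a Coxeter element w (the product of the simple reflections, each once, in any order), an element of
Lie T = k ⊗ X_*(T) fixed by Ad(w) is killed by the differential of every simple root, i.e. lies in
the centre of Lie G. In root-datum form: let P be a root pairing over ℤ with character lattice M and
cocharacter lattice N, b a base, and suppose each simple coroot has a dual character ω_i in M with
⟨ω_i, α_i^∨⟩ = 1 and ⟨ω_i, α_j^∨⟩ = 0 for every other simple j (the simply connected derived group
hypothesis). If l lists the simple roots without repetition, w^∨ is the composite of the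
coreflections along l acting on N, k is a field and H in k ⊗ N satisfies w^∨_k H = H, then (α_i)_k H
= 0 for every simple root α_i, where (α_i)_k is the base change to k of the functional ⟨α_i, −⟩ on
N. (Stated for an arbitrary field k; the published setting is an algebraically closed field, and the
argument does not depend on k.) -/
theorem result {ι M N : Type u} [AddCommGroup M] [AddCommGroup N]
    (P : RootPairing ι ℤ M N) (b : P.Base)
    (hsc : ∀ i ∈ b.support, ∃ ω : M, P.coroot' i ω = 1 ∧ ∀ j ∈ b.support, j ≠ i → P.coroot' j ω = 0)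
    (l : List ι) (hl : l.Nodup) (hlb : ∀ i : ι, i ∈ l ↔ i ∈ b.support)
    (k : Type u) [Field k] (H : k ⊗[ℤ] N)
    (hH : ((l.map (fun i => ((P.coreflection i : N ≃ₗ[ℤ] N) : N →ₗ[ℤ] N))).prod).baseChange k H = H) :
    ∀ i ∈ b.support, (P.root' i).baseChange k H = 0 := by
  exact fun i hi => coxeter_aux P (b.support : Set ι) hsc k l hl (fun j hj => (hlb j).1 hj) H hH i ((hlb i).2 hi)

end Groth.Agent.S15841
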