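import Groth.Statements.S15842
import Mathlib

set_option linter.all false

set_option autoImplicit false
universe u
open SprIso

open scoped DirectSum
open Polynomial

namespace Groth.Agent.S15842

/-- Columns `v, g v, …, g^(n-1) v`. -/
def krylov {R : Type*} [CommRing R] {n : ℕ} (g : Matrix (Fin n) (Fin n) R) (v : Fin n → R) : Matrix (Fin n) (Fin n) R :=
  Matrix.of fun i k => ((g ^ (k : ℕ)).mulVec v) i

theorem krylov_mulVec {R : Type*} [CommRing R] {n : ℕ} (g : Matrix (Fin n) (Fin n) R) (v c : Fin n → R) :
    (krylov g v).mulVec c = (∑ k, c k • g ^ (k : ℕ)).mulVec v := by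
  rw [Matrix.sum_mulVec]
  funext i
  simp [krylov, Matrix.mulVec, dotProduct, Finset.sum_apply, mul_comm, Matrix.smul_apply, Finset.mul_sum, mul_left_comm]

theorem krylov_map {R S : Type*} [CommRing R] [CommRing S] (φ : R →+* S) {n : ℕ} (g : Matrix (Fin n) (Fin n) R) (v : Fin n → R) :
    krylov (g.map φ) (φ ∘ v) = (krylov g v).map φ := by
  ext i k
  simp only [krylov, Matrix.map_apply, Matrix.of_apply]
  rw [RingHom.map_mulVec, ← RingHom.mapMatrix_apply φ g, ← map_pow, RingHom.mapMatrix_apply]

theorem commute_sum {R : Type*} [CommRing R] {n : ℕ} (g : Matrix (Fin n) (Fin n) R) (c : Fin n → R) (m : ℕ) :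
    (∑ k, c k • g ^ (k : ℕ)) * g ^ m = g ^ m * ∑ k, c k • g ^ (k : ℕ) :=
  (Commute.sum_left _ _ _ fun k _ => ((Commute.refl g).pow_pow _ _).smul_left _).eq

/-- The commutant of a matrix is polynomial in it, up to the Krylov determinant. -/
theorem det_smul_eq {R : Type*} [CommRing R] {n : ℕ} (g : Matrix (Fin n) (Fin n) R) (v : Fin n → R)
    (x : Matrix (Fin n) (Fin n) R) (hx : x * g = g * x) :
    (krylov g v).det • ((krylov g v).det • x) =
      (krylov g v).det • ∑ k, ((krylov g v).adjugate.mulVec (x.mulVec v)) k • g ^ (k : ℕ) := by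
  set C := krylov g v
  set c := C.adjugate.mulVec (x.mulVec v)
  have h0 : (∑ k, c k • g ^ (k : ℕ)).mulVec v = C.det • x.mulVec v := by
    rw [← krylov_mulVec g v c]
    show C.mulVec (C.adjugate.mulVec (x.mulVec v)) = _
    rw [Matrix.mulVec_mulVec, Matrix.mul_adjugate, Matrix.smul_mulVec, Matrix.one_mulVec]
  have hcomm : ∀ m : ℕ, x * g ^ m = g ^ m * x := fun m => ((show Commute x g from hx).pow_right m).eq
  have hkey : (C.det • x) * C = (∑ k, c k • g ^ (k : ℕ)) * C := by
    refine Matrix.ext fun i l => ?_
    have h2 : (C.det • x).mulVec ((g ^ (l : ℕ)).mulVec v) = (∑ k, c k • g ^ (k : ℕ)).mulVec ((g ^ (l : ℕ)).mulVec v) := by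
      rw [Matrix.mulVec_mulVec, Matrix.mulVec_mulVec, commute_sum, ← Matrix.mulVec_mulVec _ (g ^ (l : ℕ)), h0,
        Matrix.smul_mul, Matrix.smul_mulVec, hcomm, ← Matrix.mulVec_mulVec, Matrix.mulVec_smul]
    exact congrFun h2 i
  have := congrArg (· * C.adjugate) hkey
  simp only [mul_assoc, Matrix.mul_adjugate, Matrix.mul_smul, mul_one] at this
  exact this

/-- A matrix over a field with commutant of dimension `n` has a cyclic vector. -/
theorem exists_cyclic {K : Type u} [Field K] {n : ℕ} (A : Matrix (Fin n) (Fin n) K)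
    (h : Module.finrank K (Subalgebra.centralizer K ({A} : Set (Matrix (Fin n) (Fin n) K))) = n) :
    ∃ v : Fin n → K, IsUnit (krylov A v).det := by
  classical
  let f : Module.End K (Fin n → K) := Matrix.toLin' A
  let M := Module.AEval' f
  let of' : (Fin n → K) ≃ₗ[K] M := Module.AEval'.of f
  have haev : ∀ (P : K[X]) (w : Fin n → K), P • of' w = of' ((aeval A P).mulVec w) := by
    intro P w
    show P • Module.AEval.of K (Fin n → K) f w = _
    rw [← Module.AEval.of_aeval_smul]
    show _ = Module.AEval.of K (Fin n → K) f ((aeval A P).mulVec w)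
    congr 1
    have := aeval_algHom_apply (Matrix.toLinAlgEquiv' (R := K) (n := Fin n)).toAlgHom A P
    show aeval f P w = _
    rw [show f = (Matrix.toLinAlgEquiv' (R := K) (n := Fin n)).toAlgHom A from rfl, this]
    rfl
  have htor : Module.IsTorsion K[X] M := by
    intro x
    obtain ⟨w, rfl⟩ := of'.surjective x
    refine ⟨⟨A.charpoly, mem_nonZeroDivisors_of_ne_zero A.charpoly_monic.ne_zero⟩, ?_⟩
    show A.charpoly • of' w = 0
    rw [haev, Matrix.aeval_self_charpoly, Matrix.zero_mulVec, map_zero]
  obtain ⟨ι, hι, q, hq, e, ⟨E₀⟩⟩ := Module.equiv_directSum_of_isTorsion htor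
  let V : ι → Type u := fun i => K[X] ⧸ Ideal.span {q i ^ e i}
  let E : M ≃ₗ[K[X]] (∀ i, V i) := E₀.trans (DirectSum.linearEquivFunOnFintype K[X] ι V)
  have hVfin : Module.finrank K (∀ i, V i) = n := by
    rw [← ((of'.trans (E.restrictScalars K)).finrank_eq), Module.finrank_fin_fun]
  haveI : Module.Finite K (∀ i, V i) := Module.Finite.equiv (of'.trans (E.restrictScalars K))
  have hcop : ∀ i j, i ≠ j → e i ≠ 0 → e i ≤ e j → ¬ Associated (q i) (q j) := by
    intro i₀ j₀ hij hei hle hass
    let mul0 : K[X] →ₗ[K[X]] V j₀ := (Ideal.span {q j₀ ^ e j₀}).mkQ ∘ₗ LinearMap.mulRight K[X] (q j₀ ^ (e j₀ - e i₀))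
    have hker : Ideal.span {q i₀ ^ e i₀} ≤ LinearMap.ker mul0 := by
      rw [Ideal.span_singleton_eq_span_singleton.2 (hass.pow_pow (n := e i₀))]
      intro z hz
      obtain ⟨d, rfl⟩ := Ideal.mem_span_singleton'.1 hz
      rw [LinearMap.mem_ker]
      refine (Submodule.Quotient.mk_eq_zero _).2 (Ideal.mem_span_singleton'.2 ⟨d, ?_⟩)
      show d * q j₀ ^ e j₀ = d * q j₀ ^ e i₀ * q j₀ ^ (e j₀ - e i₀)
      rw [mul_assoc, ← pow_add, Nat.add_sub_cancel' hle]
    let T : V i₀ →ₗ[K[X]] V j₀ := (Ideal.span {q i₀ ^ e i₀}).liftQ mul0 hker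
    have hT1 : T (Ideal.Quotient.mk _ 1) ≠ 0 := by
      intro h0
      have h1 : (1 : K[X]) * q j₀ ^ (e j₀ - e i₀) ∈ Ideal.span {q j₀ ^ e j₀} := (Submodule.Quotient.mk_eq_zero _).1 h0
      rw [one_mul, Ideal.mem_span_singleton, pow_dvd_pow_iff (hq j₀).ne_zero (hq j₀).not_isUnit] at h1
      omega
    let Φ : ((∀ i, V i) × K) → ((∀ i, V i) →ₗ[K[X]] (∀ i, V i)) := fun at' =>
      LinearMap.pi (fun i => LinearMap.mulLeft K[X] (at'.1 i) ∘ₗ LinearMap.proj i) +
        LinearMap.single K[X] V j₀ ∘ₗ (at'.2 • T) ∘ₗ LinearMap.proj i₀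
    let Ψ : ((∀ i, V i) × K) →ₗ[K] Subalgebra.centralizer K ({A} : Set (Matrix (Fin n) (Fin n) K)) :=
      { toFun := fun at' => ⟨LinearMap.toMatrix' ((of'.trans (E.restrictScalars K)).symm.toLinearMap ∘ₗ
            (Φ at').restrictScalars K ∘ₗ (of'.trans (E.restrictScalars K)).toLinearMap), by
          rw [Subalgebra.mem_centralizer_iff]
          intro B hB
          rw [Set.mem_singleton_iff.1 hB]
          apply Matrix.toLin'.injective
          rw [Matrix.toLin'_mul, Matrix.toLin'_mul, Matrix.toLin'_toMatrix']
          refine LinearMap.ext fun w => ?_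
          show A.mulVec _ = (of'.trans (E.restrictScalars K)).symm (Φ at' (E (of' (A.mulVec w))))
          have hXA : ∀ z, of' (A.mulVec z) = (X : K[X]) • of' z := fun z => by rw [haev, aeval_X]
          rw [hXA, map_smul, map_smul]
          apply (of'.trans (E.restrictScalars K)).injective
          rw [LinearEquiv.apply_symm_apply]
          show E (of' (A.mulVec _)) = _
          rw [hXA, map_smul]
          congr 1
          exact (of'.trans (E.restrictScalars K)).apply_symm_apply _⟩
        map_add' := fun a b => Subtype.ext (by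
          show LinearMap.toMatrix' _ = LinearMap.toMatrix' _ + LinearMap.toMatrix' _
          rw [← map_add]
          congr 1
          refine LinearMap.ext fun w => ?_
          simp only [LinearMap.comp_apply, LinearMap.add_apply, LinearMap.coe_restrictScalars, ← map_add]
          congr 1
          funext i
          simp [Φ, add_mul, add_smul, Pi.single_add]
          abel)
        map_smul' := fun c a => Subtype.ext (by
          show LinearMap.toMatrix' _ = c • LinearMap.toMatrix' _
          rw [← map_smul]
          congr 1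
          refine LinearMap.ext fun w => ?_
          simp only [LinearMap.comp_apply, LinearMap.smul_apply, LinearMap.coe_restrictScalars]
          rw [← map_smul]
          congr 1
          funext i
          simp [Φ, smul_mul_assoc, mul_smul, Pi.single_smul]) }
    have hinj : Function.Injective Ψ := by
      rw [injective_iff_map_eq_zero]
      intro at' h0
      have hΦ : Φ at' = 0 := LinearMap.ext fun y => by
        have h1 := congrArg Subtype.val h0
        have h2 : ((of'.trans (E.restrictScalars K)).symm.toLinearMap ∘ₗ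
            (Φ at').restrictScalars K ∘ₗ (of'.trans (E.restrictScalars K)).toLinearMap) = 0 :=
          LinearMap.toMatrix'.injective (h1.trans (map_zero _).symm)
        have h3 := LinearMap.congr_fun h2 ((of'.trans (E.restrictScalars K)).symm y)
        simp only [LinearMap.comp_apply, LinearEquiv.coe_coe, LinearEquiv.apply_symm_apply, LinearMap.zero_apply,
          LinearEquiv.map_eq_zero_iff, LinearMap.coe_restrictScalars] at h3
        exact h3
      have hs : ∀ i k, Φ at' (Pi.single i (Ideal.Quotient.mk _ 1)) k = 0 := fun i k => by rw [hΦ]; rfl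
      have ha : at'.1 = 0 := funext fun i => by
        have h1 := hs i i
        by_cases hi : i = i₀
        · subst hi
          simpa [Φ, Pi.single_eq_of_ne hij] using h1
        · simpa [Φ, Pi.single_eq_of_ne (Ne.symm hi)] using h1
      refine Prod.ext ha ?_
      have h1 := hs i₀ j₀
      simp [Φ, ha] at h1
      exact h1.resolve_right hT1
    have := LinearMap.finrank_le_finrank_of_injective hinj
    rw [Module.finrank_prod, hVfin, Module.finrank_self, h] at this
    omega
  have hpair : Pairwise (Function.onFun IsCoprime fun i => Ideal.span {q i ^ e i}) := by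
    intro i j hij
    show IsCoprime (Ideal.span {q i ^ e i}) (Ideal.span {q j ^ e j})
    rw [Ideal.isCoprime_span_singleton_iff]
    rcases Nat.eq_zero_or_pos (e i) with hi | hi
    · rw [hi, pow_zero]; exact isCoprime_one_left
    rcases Nat.eq_zero_or_pos (e j) with hj | hj
    · rw [hj, pow_zero]; exact isCoprime_one_right
    refine IsCoprime.pow ((hq i).coprime_iff_not_dvd.2 fun hd => ?_)
    have hass := (hq i).associated_of_dvd (hq j) hd
    rcases le_total (e i) (e j) with hle | hle
    · exact hcop i j hij hi.ne' hle hass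
    · exact hcop j i hij.symm hj.ne' hle hass.symm
  let one' : ∀ i, V i := fun i => Ideal.Quotient.mk _ 1
  refine ⟨of'.symm (E.symm one'), ?_⟩
  rw [← Matrix.isUnit_iff_isUnit_det, ← Matrix.mulVec_surjective_iff_isUnit]
  intro w
  choose z hz using fun i => Ideal.Quotient.mk_surjective (I := Ideal.span {q i ^ e i}) (E (of' w) i)
  obtain ⟨P, hP⟩ := Ideal.exists_forall_sub_mem_ideal hpair z
  have hPw : P • one' = E (of' w) := funext fun i => by
    rw [← hz i]
    show Ideal.Quotient.mk _ (P • (1 : K[X])) = _
    rw [smul_eq_mul, mul_one]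
    exact Ideal.Quotient.eq.2 (hP i)
  have hw : (aeval A P).mulVec (of'.symm (E.symm one')) = w := of'.injective (by
    rw [← haev, LinearEquiv.apply_symm_apply, ← map_smul, hPw, LinearEquiv.symm_apply_apply])
  refine ⟨fun k => (P %ₘ A.charpoly).coeff k, ?_⟩
  rw [krylov_mulVec]
  rcases Nat.eq_zero_or_pos n with hn | hn
  · subst hn; exact Subsingleton.elim _ _
  have hdeg : (P %ₘ A.charpoly).natDegree < n := by
    have h1 := natDegree_modByMonic_lt P A.charpoly_monic (fun h => by
      have := congrArg natDegree h
      rw [A.charpoly_natDegree_eq_dim] at this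
      simp at this; omega)
    rwa [A.charpoly_natDegree_eq_dim, Fintype.card_fin] at h1
  rw [Fin.sum_univ_eq_sum_range (fun k => (P %ₘ A.charpoly).coeff k • A ^ k), ← aeval_eq_sum_range' hdeg,
    aeval_modByMonic_eq_self_of_root A.aeval_self_charpoly]
  exact hw

/-- For every prime there is a vector with Krylov determinant off it. -/
theorem exists_det_notMem {A : Type u} [CommRing A] {n : ℕ} (g : Matrix (Fin n) (Fin n) A)
    (hreg : ∀ (K : Type u) [Field K] (φ : A →+* K),
      Module.finrank K (Subalgebra.centralizer K ({g.map φ} : Set (Matrix (Fin n) (Fin n) K))) = n)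
    (p : Ideal A) [p.IsPrime] : ∃ v : Fin n → A, (krylov g v).det ∉ p := by
  classical
  let φ := algebraMap A p.ResidueField
  obtain ⟨v₀, hv₀⟩ := exists_cyclic (g.map φ) (hreg p.ResidueField φ)
  obtain ⟨⟨t, ht⟩, hint⟩ := IsLocalization.exist_integer_multiples (nonZeroDivisors (A ⧸ p)) (Finset.univ : Finset (Fin n)) v₀
  choose w hw using fun i => hint i (Finset.mem_univ i)
  obtain ⟨t', rfl⟩ := Ideal.Quotient.mk_surjective t
  choose w' hw' using fun i => Ideal.Quotient.mk_surjective (I := p) (w i)
  refine ⟨w', fun hmem => ?_⟩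
  have ht0 : φ t' ≠ 0 := by
    intro h0
    refine nonZeroDivisors.ne_zero ht ?_
    exact Ideal.Quotient.eq_zero_iff_mem.2 ((Ideal.algebraMap_residueField_eq_zero).1 h0)
  have hv : φ ∘ w' = φ t' • v₀ := funext fun i => by
    show algebraMap A p.ResidueField (w' i) = algebraMap A p.ResidueField t' * v₀ i
    rw [IsScalarTower.algebraMap_apply A (A ⧸ p) p.ResidueField, IsScalarTower.algebraMap_apply A (A ⧸ p) p.ResidueField t']
    show algebraMap (A ⧸ p) p.ResidueField (Ideal.Quotient.mk p (w' i)) = _
    rw [hw' i, hw i, Algebra.smul_def]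
    rfl
  have hdet : (krylov (g.map φ) (φ ∘ w')).det = 0 := by
    rw [krylov_map, ← RingHom.mapMatrix_apply, ← RingHom.map_det]
    exact Ideal.algebraMap_residueField_eq_zero.2 hmem
  rw [hv, show krylov (g.map φ) (φ t' • v₀) = φ t' • krylov (g.map φ) v₀ from by
    ext i k; simp [krylov, Matrix.mulVec_smul], Matrix.det_smul] at hdet
  exact mul_ne_zero (pow_ne_zero _ ht0) hv₀.ne_zero hdet

/-- General linear group case: this is the case G = GL_n (its derived group SL_n is simply connected and
every prime is good for it, so the hypotheses on the fundamental group and on the characteristic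
that the general statement needs hold over every base, and strong regularity is regularity). Let A
be a commutative ring and g an n × n matrix over A — a section of GL_n when invertible, or of its
Lie algebra gl_n = M_n in general, the centralizer being in both cases the invertible matrices
commuting with g — which is fiberwise regular, i.e. at every field-valued point A → K the commutant
of g_K in M_n(K) has dimension n, the rank of GL_n. Then the centralizer of g in GL_n is
commutative: for every commutative A-algebra B and all invertible x, y ∈ M_n(B) commuting with g_B,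
x y = y x. -/
theorem result (A : Type u) [CommRing A] (n : ℕ)
    (g : Matrix (Fin n) (Fin n) A)
    (hreg : ∀ (K : Type u) [Field K] (φ : A →+* K),
      Module.finrank K (Subalgebra.centralizer K ({g.map φ} : Set (Matrix (Fin n) (Fin n) K))) = n)
    (B : Type u) [CommRing B] [Algebra A B] (x y : Matrix (Fin n) (Fin n) B) (hx : IsUnit x) (hy : IsUnit y)
    (hxg : x * g.map (algebraMap A B) = g.map (algebraMap A B) * x)
    (hyg : y * g.map (algebraMap A B) = g.map (algebraMap A B) * y) :
    x * y = y * x := by
  refine Matrix.ext fun i j => ?_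
  set d := (x * y) i j - (y * x) i j
  suffices hann : (Submodule.span A {d}).annihilator = ⊤ by
    have : (1 : A) ∈ (Submodule.span A {d}).annihilator := by rw [hann]; trivial
    simpa [Submodule.mem_annihilator_span_singleton, d, sub_eq_zero] using this
  by_contra hne
  obtain ⟨p, hp, hle⟩ := Ideal.exists_le_maximal _ hne
  haveI := hp.isPrime
  obtain ⟨v, hv⟩ := exists_det_notMem g hreg p
  set a := (krylov g v).det
  refine hv (hp.isPrime.mem_of_pow_mem 4 (hle ((Submodule.mem_annihilator_span_singleton d (a ^ 4)).2 ?_)))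
  let G := g.map (algebraMap A B)
  let vB : Fin n → B := algebraMap A B ∘ v
  have hδ : (krylov G vB).det = algebraMap A B a := by
    rw [krylov_map, ← RingHom.mapMatrix_apply, ← RingHom.map_det]
  have hx' := det_smul_eq G vB x hxg
  have hy' := det_smul_eq G vB y hyg
  set δ := (krylov G vB).det
  set cx := (krylov G vB).adjugate.mulVec (x.mulVec vB)
  set cy := (krylov G vB).adjugate.mulVec (y.mulVec vB)
  have hcomm : Commute (δ • ∑ k, cx k • G ^ (k : ℕ)) (δ • ∑ k, cy k • G ^ (k : ℕ)) :=
    ((Commute.sum_left _ _ _ fun k _ => Commute.sum_right _ _ _ fun l _ =>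
      (((Commute.refl G).pow_pow _ _).smul_left _).smul_right _).smul_left _).smul_right _
  rw [← hx', ← hy'] at hcomm
  have h4 := congrFun (congrFun hcomm.eq i) j
  simp only [Matrix.smul_mul, Matrix.mul_smul, Matrix.smul_apply, smul_eq_mul] at h4
  rw [Algebra.smul_def, map_pow, ← hδ]
  show δ ^ 4 * ((x * y) i j - (y * x) i j) = 0
  linear_combination h4

end Groth.Agent.S15842
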