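import Groth.Statements.S15843
import Mathlib
import Groth.Agent.S15842

set_option linter.all false

set_option autoImplicit false
universe u
open SprIso

open scoped DirectSum
open Polynomial

namespace Groth.Agent.S15843

/-- The flatness assertion, for a section of the group and equally for a section of its Lie algebra, in
the case G = GL_n (its derived group SL_n is simply connected and every prime is good for it, so the
hypotheses on the fundamental group and on the characteristic that the general statement needs hold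
over every base, and strong regularity is regularity). Let A be a commutative ring and g an n × n
matrix over A — a section of GL_n when invertible, of its Lie algebra gl_n in general; in both cases
the centralizer in GL_n is the scheme of invertible matrices commuting with g — which is fiberwise
regular (at every field-valued point A → K the commutant of g_K in M_n(K) has dimension n). Then the
centralizer Z_{GL_n}(g) is flat over A; concretely, with X the generic n × n matrix over A[x_ij],
the ring obtained from A[x_ij] by dividing by the entries of X g − g X and inverting det X is a flat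
A-module. -/
theorem result (A : Type u) [CommRing A] (n : ℕ)
    (g : Matrix (Fin n) (Fin n) A)
    (hreg : ∀ (K : Type u) [Field K] (φ : A →+* K),
      Module.finrank K (Subalgebra.centralizer K ({g.map φ} : Set (Matrix (Fin n) (Fin n) K))) = n) :
    Module.Flat A (Localization.Away
      (Ideal.Quotient.mk (Ideal.span (Set.range fun ij : Fin n × Fin n =>
        (Matrix.mvPolynomialX (Fin n) (Fin n) A * g.map MvPolynomial.C -
          g.map MvPolynomial.C * Matrix.mvPolynomialX (Fin n) (Fin n) A :
            Matrix (Fin n) (Fin n) (MvPolynomial (Fin n × Fin n) A)) ij.1 ij.2))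
        (Matrix.mvPolynomialX (Fin n) (Fin n) A).det)) := by
  classical
  set Xg : Matrix (Fin n) (Fin n) (MvPolynomial (Fin n × Fin n) A) := Matrix.mvPolynomialX (Fin n) (Fin n) A
  set I : Ideal (MvPolynomial (Fin n × Fin n) A) := Ideal.span (Set.range fun ij : Fin n × Fin n => (Xg * g.map MvPolynomial.C - g.map MvPolynomial.C * Xg : Matrix (Fin n) (Fin n) (MvPolynomial (Fin n × Fin n) A)) ij.1 ij.2) with hI
  suffices hQ : Module.Flat A (MvPolynomial (Fin n × Fin n) A ⧸ I) from
    Module.Flat.trans A (MvPolynomial (Fin n × Fin n) A ⧸ I) _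
  let Qr := MvPolynomial (Fin n × Fin n) A ⧸ I
  let s : Set A := Set.range fun v : Fin n → A => (Groth.Agent.S15842.krylov g v).det
  have spn : Ideal.span s = ⊤ := by
    by_contra hne
    obtain ⟨p, hp, hle⟩ := Ideal.exists_le_maximal _ hne
    haveI := hp.isPrime
    obtain ⟨v, hv⟩ := Groth.Agent.S15842.exists_det_notMem g hreg p
    exact hv (hle (Ideal.subset_span ⟨v, rfl⟩))
  haveI : ∀ r : s, IsLocalizedModule.Away r.1
      (IsScalarTower.toAlgHom A Qr (Localization.Away (algebraMap A Qr r.1))).toLinearMap := fun r => by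
    refine isLocalizedModule_iff_isLocalization.2 ?_
    rw [Algebra.algebraMapSubmonoid_powers]
    infer_instance
  refine Module.flat_of_isLocalized_span (R := A) (S := A) (M := Qr) s spn (fun r => Localization.Away (algebraMap A Qr r.1))
    (fun r => (IsScalarTower.toAlgHom A Qr (Localization.Away (algebraMap A Qr r.1))).toLinearMap) ?_
  rintro ⟨a, v, rfl⟩
  set a := (Groth.Agent.S15842.krylov g v).det
  let Aa := Localization.Away a
  let S := MvPolynomial (Fin n) Aa
  let Qa := Localization.Away (algebraMap A Qr a)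
  let φS := algebraMap A S
  let GS := g.map φS
  let P : Matrix (Fin n) (Fin n) S := ∑ k, (MvPolynomial.X k : S) • GS ^ (k : ℕ)
  let ψ₀ : MvPolynomial (Fin n × Fin n) A →ₐ[A] S := MvPolynomial.aeval fun ij => P ij.1 ij.2
  have hψX : Xg.map ψ₀ = P := by ext i j; simp [ψ₀, Xg, Matrix.mvPolynomialX]
  have hψg : (g.map MvPolynomial.C).map ψ₀ = GS := by
    ext i j; simp [ψ₀, GS, φS]
  have hψI : ∀ z ∈ I, ψ₀ z = 0 := by
    intro z hz
    refine (Ideal.span_le (I := RingHom.ker ψ₀)).2 ?_ hz
    rintro _ ⟨ij, rfl⟩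
    rw [SetLike.mem_coe, RingHom.mem_ker]
    have : (Xg * g.map MvPolynomial.C - g.map MvPolynomial.C * Xg).map ψ₀ = 0 := by
      rw [← AlgHom.mapMatrix_apply, map_sub, map_mul, map_mul, AlgHom.mapMatrix_apply, AlgHom.mapMatrix_apply, hψX, hψg, sub_eq_zero]
      simpa using Groth.Agent.S15842.commute_sum GS (fun k => (MvPolynomial.X k : S)) 1
    exact congrFun (congrFun this ij.1) ij.2
  let ψ : Qr →ₐ[A] S := Ideal.Quotient.liftₐ I ψ₀ hψI
  have haS : IsUnit (φS a) := by
    show IsUnit (algebraMap A S a)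
    rw [IsScalarTower.algebraMap_apply A Aa S]
    exact (IsLocalization.Away.algebraMap_isUnit a).map _
  let Ψ : Qa →ₐ[A] S := IsLocalization.liftAlgHom (M := Submonoid.powers (algebraMap A Qr a)) (f := ψ) (by
    rintro ⟨_, m, rfl⟩
    show IsUnit (ψ (algebraMap A Qr a ^ m))
    rw [map_pow, AlgHom.commutes]
    exact haS.pow m)
  have hΨ : ∀ z, Ψ (algebraMap Qr Qa z) = ψ z := fun z => IsLocalization.lift_eq _ z
  let φQ := algebraMap A Qa
  have hua : IsUnit (φQ a) := by
    show IsUnit (algebraMap A Qa a)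
    rw [IsScalarTower.algebraMap_apply A Qr Qa]
    exact IsLocalization.Away.algebraMap_isUnit _
  let GQ := g.map φQ
  let vQ : Fin n → Qa := φQ ∘ v
  let XQ : Matrix (Fin n) (Fin n) Qa := Xg.map ((algebraMap Qr Qa).comp (Ideal.Quotient.mk I))
  have hXQg : XQ * GQ = GQ * XQ := by
    have h1 : (Xg * g.map MvPolynomial.C - g.map MvPolynomial.C * Xg).map ((algebraMap Qr Qa).comp (Ideal.Quotient.mk I)) = 0 := by
      refine Matrix.ext fun i j => ?_
      rw [Matrix.map_apply, RingHom.comp_apply, Ideal.Quotient.eq_zero_iff_mem.2 (show _ ∈ I from Ideal.subset_span ⟨(i, j), rfl⟩), map_zero]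
      rfl
    rw [← RingHom.mapMatrix_apply, map_sub, map_mul, map_mul, RingHom.mapMatrix_apply, RingHom.mapMatrix_apply, sub_eq_zero] at h1
    have h2 : (g.map MvPolynomial.C).map ((algebraMap Qr Qa).comp (Ideal.Quotient.mk I)) = GQ := by
      ext i j; rfl
    rwa [h2] at h1
  have hδ : (Groth.Agent.S15842.krylov GQ vQ).det = φQ a := by
    rw [Groth.Agent.S15842.krylov_map, ← RingHom.mapMatrix_apply, ← RingHom.map_det]
  obtain ⟨u, hu⟩ : ∃ u, φQ a * u = 1 := hua.exists_right_inv
  let co : Fin n → Qa := u • (Groth.Agent.S15842.krylov GQ vQ).adjugate.mulVec (XQ.mulVec vQ)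
  let AtoQ : Aa →ₐ[A] Qa := IsLocalization.liftAlgHom (M := Submonoid.powers a) (f := Algebra.ofId A Qa) (by
    rintro ⟨_, m, rfl⟩
    show IsUnit (algebraMap A Qa (a ^ m))
    rw [map_pow]; exact hua.pow m)
  let Φ : S →ₐ[A] Qa :=
    { MvPolynomial.eval₂Hom AtoQ.toRingHom co with
      commutes' := fun r => by
        show MvPolynomial.eval₂Hom AtoQ.toRingHom co (algebraMap A S r) = _
        rw [IsScalarTower.algebraMap_apply A Aa S, MvPolynomial.algebraMap_eq, MvPolynomial.eval₂Hom_C]
        exact AtoQ.commutes r }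
  have hΦX : ∀ k, Φ (MvPolynomial.X k) = co k := fun k => MvPolynomial.eval₂Hom_X' _ _ k
  have hΦG : GS.map Φ = GQ := by ext i j; exact Φ.commutes _
  have hΦP : P.map Φ = XQ := by
    rw [← AlgHom.mapMatrix_apply, map_sum]
    have h1 := congrArg (fun Z : Matrix (Fin n) (Fin n) Qa => (u * u) • Z) (Groth.Agent.S15842.det_smul_eq GQ vQ XQ hXQg)
    simp only [hδ, smul_smul, Finset.smul_sum] at h1
    rw [show u * u * (φQ a * φQ a) = 1 by linear_combination (φQ a * u + 1) * hu, one_smul] at h1
    rw [h1]
    refine Finset.sum_congr rfl fun k _ => ?_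
    ext i j
    have hpow : (GS ^ (k : ℕ)).map Φ = GQ ^ (k : ℕ) := by
      rw [← AlgHom.mapMatrix_apply, map_pow, AlgHom.mapMatrix_apply, hΦG]
    simp only [AlgHom.mapMatrix_apply, Matrix.map_apply, Matrix.smul_apply, smul_eq_mul, map_mul, hΦX, ← hpow, co, Pi.smul_apply]
    linear_combination (-(((Groth.Agent.S15842.krylov GQ vQ).adjugate.mulVec (XQ.mulVec vQ)) k * Φ ((GS ^ (k : ℕ)) i j) * u)) * hu
  have h12 : Φ.comp Ψ = AlgHom.id A Qa := by
    refine IsLocalization.algHom_ext (Submonoid.powers (algebraMap A Qr a)) (Ideal.Quotient.algHom_ext A (MvPolynomial.algHom_ext fun ij => ?_))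
    show Φ (Ψ (algebraMap Qr Qa (Ideal.Quotient.mk I (MvPolynomial.X ij)))) = algebraMap Qr Qa (Ideal.Quotient.mk I (MvPolynomial.X ij))
    rw [hΨ]
    show Φ (ψ₀ (MvPolynomial.X ij)) = _
    simp only [ψ₀, MvPolynomial.aeval_X]
    exact congrFun (congrFun hΦP ij.1) ij.2
  have h21 : Ψ.comp Φ = AlgHom.id A S := by
    have hX : ∀ k, Ψ (Φ (MvPolynomial.X k)) = MvPolynomial.X k := by
      intro k
      rw [hΦX]
      let vS : Fin n → S := φS ∘ v
      have hG : GQ.map Ψ = GS := Matrix.ext fun i j => Ψ.commutes _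
      have hv : Ψ ∘ vQ = vS := funext fun i => Ψ.commutes _
      have hXS : XQ.map Ψ = P := by
        rw [← hψX]
        exact Matrix.ext fun i j => hΨ _
      have hK : (Groth.Agent.S15842.krylov GQ vQ).map Ψ = Groth.Agent.S15842.krylov GS vS := by
        rw [← hG, ← hv]; exact (Groth.Agent.S15842.krylov_map Ψ.toRingHom GQ vQ).symm
      have hcalc : Ψ ∘ ((Groth.Agent.S15842.krylov GQ vQ).adjugate.mulVec (XQ.mulVec vQ)) = φS a • MvPolynomial.X := by
        have e1 : ∀ (M : Matrix (Fin n) (Fin n) Qa) (w : Fin n → Qa), Ψ ∘ M.mulVec w = (M.map Ψ).mulVec (Ψ ∘ w) := fun M w =>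
          funext fun i => RingHom.map_mulVec Ψ.toRingHom M w i
        rw [e1, e1, hXS, hv, ← AlgHom.mapMatrix_apply, AlgHom.map_adjugate, AlgHom.mapMatrix_apply, hK]
        show (Groth.Agent.S15842.krylov GS vS).adjugate.mulVec ((∑ l, (MvPolynomial.X l : S) • GS ^ (l : ℕ)).mulVec vS) = _
        rw [← Groth.Agent.S15842.krylov_mulVec, Matrix.mulVec_mulVec, Matrix.adjugate_mul, Matrix.smul_mulVec, Matrix.one_mulVec]
        congr 1
        rw [Groth.Agent.S15842.krylov_map, ← RingHom.mapMatrix_apply, ← RingHom.map_det]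
      have hu' : φS a * Ψ u = 1 := by
        have := congrArg Ψ hu
        rwa [map_mul, Ψ.commutes, map_one] at this
      show Ψ (u * _) = _
      rw [map_mul, show Ψ (((Groth.Agent.S15842.krylov GQ vQ).adjugate.mulVec (XQ.mulVec vQ)) k) = φS a * MvPolynomial.X k from congrFun hcalc k,
        ← mul_assoc, mul_comm (Ψ u), hu', one_mul]
    refine AlgHom.coe_ringHom_injective (MvPolynomial.ringHom_ext (fun r => ?_) hX)
    show Ψ (Φ (MvPolynomial.C r)) = MvPolynomial.C r
    have : ((Ψ.comp Φ).comp (IsScalarTower.toAlgHom A Aa S)) = IsScalarTower.toAlgHom A Aa S :=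
      IsLocalization.algHom_ext (Submonoid.powers a) (Subsingleton.elim _ _)
    exact AlgHom.congr_fun this r
  haveI : Module.Flat A S := Module.Flat.trans A Aa S
  exact Module.Flat.of_linearEquiv (AlgEquiv.ofAlgHom Ψ Φ h21 h12).toLinearEquiv

end Groth.Agent.S15843
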