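import Groth.Statements.S15845
import Mathlib
import Groth.Prelude

set_option linter.all false

set_option autoImplicit false
universe u
open SprIso


namespace Groth.Agent.S15845

/-- General linear group case: this is the case G = GL_n with its upper-triangular Borel subgroup B
(derived group SL_n simply connected, all primes good, so the hypotheses on the characteristic
hold), together with the companion statement for a regular nilpotent element of Lie B. Let k be a
field and u an n × n upper-triangular matrix over k whose diagonal entries are all equal and whose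
superdiagonal entries u_{i,i+1} are all non-zero — for diagonal 1 this is a regular unipotent
element of B(k), for diagonal 0 a regular nilpotent element of Lie B. Then the centralizer of u in
GL_n is contained in B and is the product of the centre with the centralizer in the unipotent
radical: for every commutative k-algebra R and every invertible x ∈ M_n(R) commuting with u_R, x is
upper triangular and its diagonal entries are all equal. (The smoothness of the centralizer in the
unipotent radical, also part of the published statement, is not stated here.) -/
theorem result (k : Type u) [Field k] (n : ℕ)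
    (u : Matrix (Fin n) (Fin n) k) (htri : ∀ i j : Fin n, j < i → u i j = 0) (hdiag : ∀ i j : Fin n, u i i = u j j)
    (hreg : ∀ (i j : Fin n), j.val = i.val + 1 → u i j ≠ 0)
    (R : Type u) [CommRing R] [Algebra k R] (x : Matrix (Fin n) (Fin n) R) (hx : IsUnit x)
    (hxu : x * u.map (algebraMap k R) = u.map (algebraMap k R) * x) :
    (∀ i j : Fin n, j < i → x i j = 0) ∧ (∀ i j : Fin n, x i i = x j j) := by
  classical
  let φ := algebraMap k R
  have key : ∀ i j, ∑ l, x i l * φ (u l j) = ∑ l, φ (u i l) * x l j := fun i j => by
    have := congrFun (congrFun hxu i) j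
    simpa [Matrix.mul_apply, Matrix.map_apply, φ] using this
  have split : ∀ i j, (∑ l ∈ Finset.univ.erase j, x i l * φ (u l j)) + x i j * φ (u j j) =
      (∑ l ∈ Finset.univ.erase i, φ (u i l) * x l j) + φ (u i i) * x i j := fun i j => by
    rw [Finset.sum_erase_add _ _ (Finset.mem_univ j), Finset.sum_erase_add _ _ (Finset.mem_univ i)]
    exact key i j
  have red : ∀ i j, ∑ l ∈ Finset.univ.erase j, x i l * φ (u l j) = ∑ l ∈ Finset.univ.erase i, φ (u i l) * x l j := fun i j => by
    have := split i j
    rw [hdiag j i, mul_comm (x i j)] at this
    exact add_right_cancel this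
  have h1 : ∀ (j : ℕ) (c : Fin n), c.1 = j → ∀ i : Fin n, c < i → x i c = 0 := by
    intro j
    induction j using Nat.strong_induction_on with
    | _ j ih =>
      intro c hc
      have hdown : ∀ (d : ℕ) (i : Fin n), n - i.1 = d → c < i → x i c = 0 := by
        intro d
        induction d using Nat.strong_induction_on with
        | _ d ihd =>
          intro i hid hci
          have hci' : c.1 < i.1 := hci
          let i' : Fin n := ⟨i.1 - 1, by omega⟩
          have hl : ∑ l ∈ Finset.univ.erase c, x i' l * φ (u l c) = 0 := by
            refine Finset.sum_eq_zero fun l hl => ?_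
            obtain ⟨hlc, -⟩ := Finset.mem_erase.1 hl
            rcases lt_or_gt_of_ne hlc with h | h
            · rw [ih l.1 (hc ▸ h) l rfl i' (show l.1 < i.1 - 1 by have : l.1 < c.1 := h; omega), zero_mul]
            · rw [htri l c h, map_zero, mul_zero]
          rw [red i' c, Finset.sum_eq_single i] at hl
          · have hu : IsUnit (φ (u i' i)) := (isUnit_iff_ne_zero.2 (hreg i' i (show i.1 = i.1 - 1 + 1 by omega))).map φ
            exact hu.mul_right_eq_zero.1 hl
          · intro l hl' hli
            obtain ⟨hli', -⟩ := Finset.mem_erase.1 hl'
            rcases lt_or_gt_of_ne hli' with h | h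
            · rw [htri i' l h, map_zero, zero_mul]
            · have h' : i.1 - 1 < l.1 := h
              have hne : l.1 ≠ i.1 := fun e => hli (Fin.ext e)
              rw [ihd (n - l.1) (by omega) l rfl (show c.1 < l.1 by omega), mul_zero]
          · intro h
            exact absurd (Finset.mem_erase.2 ⟨fun e => by have : i.1 = i.1 - 1 := congrArg Fin.val e; omega, Finset.mem_univ _⟩) h
      exact fun i hi => hdown _ i rfl hi
  have hlow : ∀ i j : Fin n, j < i → x i j = 0 := fun i j h => h1 _ j rfl i h
  refine ⟨hlow, ?_⟩
  have hstep : ∀ i j : Fin n, j.val = i.val + 1 → x i i = x j j := by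
    intro i j hij
    have h := red i j
    rw [Finset.sum_eq_single i, Finset.sum_eq_single j] at h
    · rw [mul_comm] at h
      exact ((isUnit_iff_ne_zero.2 (hreg i j hij)).map φ).mul_left_cancel h
    · intro l hl hlj
      obtain ⟨hli, -⟩ := Finset.mem_erase.1 hl
      rcases lt_or_gt_of_ne hli with h' | h'
      · rw [htri i l h', map_zero, zero_mul]
      · have e1 : i.1 < l.1 := h'
        have e2 : l.1 ≠ j.1 := fun e => hlj (Fin.ext e)
        rw [hlow l j (show j.1 < l.1 by omega), mul_zero]
    · intro hh; exact absurd (Finset.mem_erase.2 ⟨fun e => by have := congrArg Fin.val e; omega, Finset.mem_univ _⟩) hh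
    · intro l hl hli
      obtain ⟨hlj, -⟩ := Finset.mem_erase.1 hl
      rcases lt_or_gt_of_ne hlj with h' | h'
      · have e1 : l.1 < j.1 := h'
        have e2 : l.1 ≠ i.1 := fun e => hli (Fin.ext e)
        rw [hlow i l (show l.1 < i.1 by omega), zero_mul]
      · rw [htri l j h', map_zero, mul_zero]
    · intro hh; exact absurd (Finset.mem_erase.2 ⟨fun e => by have := congrArg Fin.val e; omega, Finset.mem_univ _⟩) hh
  intro i
  have hall : ∀ (m : ℕ) (a : Fin n), a.1 = m → ∀ h0 : 0 < n, x a a = x ⟨0, h0⟩ ⟨0, h0⟩ := by
    intro m
    induction m with
    | zero => intro a ha h0; rw [show a = ⟨0, h0⟩ from Fin.ext ha]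
    | succ m ih =>
      intro a ha h0
      rw [← hstep ⟨m, by omega⟩ a (by simpa using ha)]
      exact ih _ rfl h0
  intro j
  rw [hall _ i rfl (by have := i.2; omega), hall _ j rfl (by have := i.2; omega)]

end Groth.Agent.S15845
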