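import Groth.Statements.S15848
import Groth.Agent.Surf15.TorsFreePush
-- import your own Groth.Agent.* helpers here

set_option autoImplicit false
universe u
open CategoryTheory CategoryTheory.Limits AlgebraicGeometry
open Surf

open TopologicalSpace
open Groth.Agent.Coherent Groth.Agent.PicLib Groth.Agent.AmpleLib Groth.Agent.EulerLib Groth.Agent.CurveRR24 Groth.Agent.DimLib Groth.Agent.Surf15
set_option linter.style.haveILetI false
set_option backward.isDefEq.respectTransparency.types false

namespace Groth.Agent.S15848

/-- Let k be an algebraically closed field of characteristic zero and S a smooth surface over k (an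
integral k-scheme, smooth over k, of dimension two). Let j : C → S be a closed immersion with C
integral of dimension one, M a coherent O_C-module whose stalks are torsion-free modules over the
local rings of C, F a finite locally free O_S-module and f : F → j_*M an epimorphism of O_S-modules.
Then the kernel of f, the elementary transformation of F along f, is a finite locally free
O_S-module. (The published setting takes S projective; the argument is local on S and projectivity
is not assumed here.) -/
theorem result
    (k : Type u) [Field k] [IsAlgClosed k] [CharZero k]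
    (S : Scheme.{u}) [S.Over (Spec (CommRingCat.of k))] [IsIntegral S]
    [Smooth (S ↘ Spec (CommRingCat.of k))] (hdim : topologicalKrullDim S = 2)
    (C : Scheme.{u}) (j : C ⟶ S) [IsClosedImmersion j] [IsIntegral C]
    (hC : topologicalKrullDim C = 1)
    (M : C.Modules) (hM : Coh.IsCoh M) (hMtf : TorSh.IsTorsionFree M)
    (F : S.Modules) (hF : FlatMod.IsFinLocFree F)
    (f : F ⟶ (Coh.push j).obj M) [Epi f] :
    FlatMod.IsFinLocFree (kernel f) := by
  classical
  let p := S ↘ Spec (CommRingCat.of k)
  haveI : IsLocallyNoetherian S := LocallyOfFiniteType.isLocallyNoetherian p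
  haveI : IsLocallyNoetherian C := LocallyOfFiniteType.isLocallyNoetherian (j ≫ p)
  have hX : topologicalKrullDim S = ((2 : ℕ) : WithBot ℕ∞) := hdim
  have hη : DimLib.ptDim p (genericPoint S) = 2 := by
    have h := DimLib.topologicalKrullDim_eq_ptDim_genericPoint p
    rw [hX] at h
    exact_mod_cast h.symm
  haveI := hM.1
  have hF' := CohBC.isCoh_of_isFinLocFree hF
  haveI := hF'.1
  have hpc : Coh.IsCoh ((Coh.push j).obj M) := Coherent.isCoh_push_finite j hM
  have hK : Coh.IsCoh (kernel f) := isCoh_kernel f hF' hpc.1
  refine (RefHullLib.isFinLocFree_iff_free_stalks hK).2 fun x => ?_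
  have hS : (ShortComplex.mk (kernel.ι f) f (kernel.condition f)).ShortExact :=
    { exact := ShortComplex.exact_kernel f }
  have hSt := hS.map_of_exact (DerSch.stalkFunctor S x)
  let φ : F.presheaf.stalk x →ₗ[S.presheaf.stalk x] ((Coh.push j).obj M).presheaf.stalk x :=
    ((DerSch.stalkFunctor S x).map f).hom
  let ι : (kernel f).presheaf.stalk x →ₗ[S.presheaf.stalk x] F.presheaf.stalk x :=
    ((DerSch.stalkFunctor S x).map (kernel.ι f)).hom
  have hι : Function.Injective ι := (ModuleCat.mono_iff_injective _).1 hSt.mono_f
  have hφ : Function.Surjective φ := (ModuleCat.epi_iff_surjective _).1 hSt.epi_g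
  have hex : Function.Exact ι φ := LinearMap.exact_iff.2
    (ShortComplex.Exact.moduleCat_range_eq_ker hSt.exact).symm
  haveI := Props12.free_stalk_of_isFinLocFree F hF x
  haveI := AssSch12.finite_stalk hF' x
  haveI := AssSch12.finite_stalk hK x
  haveI := AssSch12.finite_stalk hpc x
  haveI : IsRegularLocalRing (S.presheaf.stalk x) :=
    VarietyLib.isRegularLocalRing_stalk_of_smooth k _ p x
  refine CAlgH3.free_of_le_depth _ _ rfl _ ?_
  have hdR := Surf15.spanFinrank_le_two hη x
  rcases subsingleton_or_nontrivial (F.presheaf.stalk x) with hP | hP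
  · haveI : Subsingleton ((kernel f).presheaf.stalk x) := hι.subsingleton
    rw [CAlgH3.depth_eq_top_of_subsingleton]; exact le_top
  have h3 := (LocCoh.idealDepth_shortExact (IsLocalRing.maximalIdeal (S.presheaf.stalk x)) ((kernel f).presheaf.stalk x)
    (F.presheaf.stalk x) (((Coh.push j).obj M).presheaf.stalk x) ι φ hι hφ hex).2.2
  change min (LocCoh.depth (S.presheaf.stalk x) (F.presheaf.stalk x))
    (LocCoh.depth (S.presheaf.stalk x) (((Coh.push j).obj M).presheaf.stalk x) + 1) ≤ _ at h3
  refine le_trans ?_ h3
  rw [(CAlgH3.depth_free _).trans CAlgH3.depth_eq_spanFinrank]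
  refine le_min le_rfl ?_
  rcases Nat.lt_or_ge (IsLocalRing.maximalIdeal (S.presheaf.stalk x)).spanFinrank 2 with h1 | h1
  · exact le_trans (by exact_mod_cast Nat.lt_succ_iff.1 h1) le_add_self
  rw [le_antisymm hdR.1 h1]
  show ((1 + 1 : ℕ) : ℕ∞) ≤ _
  rw [CAlgH3.natCast_add_one_le_iff, Nat.cast_one]
  rcases subsingleton_or_nontrivial (((Coh.push j).obj M).presheaf.stalk x) with hM0 | hM0
  · rw [CAlgH3.depth_eq_top_of_subsingleton]; exact le_top
  refine (CommAlg6.one_le_depth_iff _).2 ?_
  exact Surf15.maximalIdeal_notMem_associatedPrimes_push j hC M hMtf x (hdR.2 h1)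

end Groth.Agent.S15848
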