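import Groth.Statements.S15849
import Groth.Agent.Mod22.RankOneSlope
import Groth.Agent.Lef23.Restrict
import Groth.Agent.GenSmoothLib.TangentRank
import Groth.Agent.VarietyLib.SmoothStalk
import Groth.Agent.CAlgH3.RegularCore
-- import your own Groth.Agent.* helpers here

set_option autoImplicit false
universe u
open CategoryTheory CategoryTheory.Limits AlgebraicGeometry
open ShStab

namespace Groth.Agent.S15849

open CategoryTheory CategoryTheory.Limits AlgebraicGeometry Polynomial StabCat TopologicalSpace
open Groth.Agent.Coherent Groth.Agent.EulerLib Groth.Agent.DimLib Groth.Agent.Mod22.RankOneSlope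
open Groth.Agent.AssSch12

set_option linter.style.haveILetI false
set_option backward.isDefEq.respectTransparency.types false
set_option maxHeartbeats 1000000

theorem isIso_restrict_of_stalks {X : Scheme.{u}} (U : X.Opens) {F G : X.Modules} (φ : F ⟶ G)
    (h : ∀ x ∈ U, Function.Bijective ((DerSch.stalkFunctor X x).map φ)) :
    IsIso ((Scheme.Modules.restrictFunctor U.ι).map φ) := by
  refine Scheme.Modules.Hom.isIso_iff_isIso_app.2 fun V => (ConcreteCategory.isIso_iff_bijective _).2 ?_
  change Function.Bijective (φ.app (U.ι ''ᵁ V))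
  refine TopCat.Presheaf.app_bijective_of_stalkFunctor_map_bijective
    (F := ⟨F.presheaf, F.isSheaf⟩) (G := ⟨G.presheaf, G.isSheaf⟩) ⟨φ.mapPresheaf⟩ _ fun x hx => h x ?_
  obtain ⟨w, -, rfl⟩ := hx
  exact w.2

/-- An extension split over a submodule of the quotient that is everything off finitely many deep points splits. -/
theorem exists_retraction {X : Scheme.{u}} [IsLocallyNoetherian X] {O V N F : X.Modules} (a : O ⟶ V) (b : V ⟶ N)
    (w : a ≫ b = 0) (hex : (ShortComplex.mk a b w).ShortExact) (ι : F ⟶ V) [Mono (ι ≫ b)] (U : X.Opens)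
    (hs : ∀ y ∈ U, Function.Surjective ((DerSch.stalkFunctor X y).map (ι ≫ b)))
    [IsIso ((Scheme.Modules.restrictAdjunction U.ι).unit.app O)] : ∃ r : V ⟶ O, a ≫ r = 𝟙 O := by
  haveI : Mono a := hex.mono_f
  let g : O ⊞ F ⟶ V := biprod.desc a ι
  haveI : IsIso ((Scheme.Modules.restrictFunctor U.ι).map g) := by
    refine isIso_restrict_of_stalks U g fun y hy => ?_
    let St := DerSch.stalkFunctor X y
    have hT := (ShortComplex.ShortExact.moduleCat_exact_iff_function_exact _).1 (hex.exact.map St)
    have hdec : ∀ p, St.map g p =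
        St.map a (St.map (biprod.fst : O ⊞ F ⟶ O) p) + St.map ι (St.map (biprod.snd : O ⊞ F ⟶ F) p) := fun p => by
      have e : g = biprod.fst ≫ a + biprod.snd ≫ ι := by apply biprod.hom_ext' <;> simp [g]
      rw [e, Functor.map_add, Functor.map_comp, Functor.map_comp]
      rfl
    have hbg : ∀ p, St.map b (St.map g p) = St.map (ι ≫ b) (St.map (biprod.snd : O ⊞ F ⟶ F) p) := fun p => by
      rw [stalk_comp_apply, stalk_comp_apply]
      exact congrArg (fun φ => St.map φ p) (by apply biprod.hom_ext' <;> simp [g, w])
    refine ⟨(injective_iff_map_eq_zero (St.map g).hom).2 fun p hp => ?_, fun v => ?_⟩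
    · have h1 : St.map (biprod.snd : O ⊞ F ⟶ F) p = 0 :=
        (ModuleCat.mono_iff_injective (St.map (ι ≫ b))).1 inferInstance
          (((hbg p).symm.trans ((congrArg (St.map b) hp).trans (map_zero _))).trans (map_zero _).symm)
      have h2 : St.map (biprod.fst : O ⊞ F ⟶ O) p = 0 :=
        (ModuleCat.mono_iff_injective (St.map a)).1 inferInstance (by
          have := hdec p
          rw [h1, map_zero, add_zero, hp] at this
          exact this.symm.trans (map_zero _).symm)
      have e : (𝟙 (O ⊞ F)) = biprod.fst ≫ biprod.inl + biprod.snd ≫ biprod.inr := biprod.total.symm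
      refine (stalk_id_apply (O ⊞ F) p).symm.trans ?_
      rw [e, Functor.map_add, Functor.map_comp, Functor.map_comp]
      show St.map biprod.inl (St.map biprod.fst p) + St.map biprod.inr (St.map biprod.snd p) = 0
      rw [h1, h2, map_zero, map_zero, add_zero]
    · obtain ⟨f, hf⟩ := hs y hy (St.map b v)
      have h0 : St.map b (v - St.map ι f) = 0 := by
        rw [map_sub, stalk_comp_apply, hf, sub_self]
      obtain ⟨o, ho⟩ := (hT _).1 h0
      refine ⟨St.map biprod.inl o + St.map biprod.inr f, ?_⟩
      rw [map_add, stalk_comp_apply, stalk_comp_apply, biprod.inl_desc, biprod.inr_desc]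
      exact (congrArg (· + St.map ι f) ho).trans (sub_add_cancel v _)
  let R := Scheme.Modules.restrictFunctor U.ι
  let P := Scheme.Modules.pushforward U.ι
  let η := (Scheme.Modules.restrictAdjunction U.ι).unit
  refine ⟨η.app V ≫ P.map (inv (R.map g) ≫ R.map biprod.fst) ≫ inv (η.app O), ?_⟩
  have h1 : R.map a ≫ inv (R.map g) ≫ R.map (biprod.fst : O ⊞ F ⟶ O) = 𝟙 _ := by
    rw [show R.map a = R.map (biprod.inl : O ⟶ O ⊞ F) ≫ R.map g by rw [← R.map_comp, biprod.inl_desc],
      Category.assoc, IsIso.hom_inv_id_assoc, ← R.map_comp, biprod.inl_fst, R.map_id]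
  have hn : a ≫ η.app V = η.app O ≫ P.map (R.map a) := η.naturality a
  rw [← Category.assoc, hn, Category.assoc, ← P.map_comp_assoc, h1, P.map_id, Category.id_comp,
    IsIso.hom_inv_id]

/-- Let k be an algebraically closed field of characteristic zero and S a smooth projective surface over
k (integral, smooth over k, of dimension two, with a closed immersion over k into some projective
space) whose Picard group is infinite cyclic, generated by the class of an ample invertible sheaf L.
Let N ⊆ L be a coherent subsheaf whose quotient L/N has support of dimension at most zero (N is L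
twisted by the ideal sheaf of a finite subscheme, possibly empty), and let V be a coherent
O_S-module with torsion-free stalks in a short exact sequence 0 → O_S → V → N → 0 that does not
split. Then V is slope-stable of dimension two with respect to L: V has no coherent subsheaf with
one-dimensional support, and every coherent subsheaf whose multiplicity lies strictly between 0 and
that of V has normalised slope of its Hilbert polynomial strictly smaller than that of V. (The
published statement does not ask the extension to be non-split; for the split extension V = O_S ⊕ N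
the subsheaf N has larger slope than V, and the printed argument uses that the sequence does not
split, so non-splitness is assumed here.) -/
theorem result
    (k : Type u) [Field k] [IsAlgClosed k] [CharZero k]
    (S : Scheme.{u}) [S.Over (Spec (CommRingCat.of k))] [IsIntegral S]
    [Smooth (S ↘ Spec (CommRingCat.of k))] (hdim : topologicalKrullDim S = 2)
    [IsProper (S ↘ Spec (CommRingCat.of k))]
    (hproj : ∃ (n : ℕ) (ι : S ⟶ CohB1.ProjSpace n k), IsClosedImmersion ι ∧
      ι ≫ CohB1.ProjSpace.toSpec n k = S ↘ Spec (CommRingCat.of k))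
    (L : S.Modules) (hLi : PicF.IsInvertible L) (hLa : CohB1.IsAmple L)
    [PicGrp.Law S] (hgen : ∀ c : PicLoc.PicSet S, ∃ n : ℤ, c = PicGrp.cls L hLi ^ n)
    (hfree : ∀ n : ℤ, PicGrp.cls L hLi ^ n = 1 → n = 0)
    (N : S.Modules) (ι : N ⟶ L) [Mono ι] (hN : Coh.IsCoh N)
    (hZ : topologicalKrullDim (CohB1.support (cokernel ι)) ≤ 0)
    (V : S.Modules) (hV : Coh.IsCoh V) (hVtf : TorSh.IsTorsionFree V)
    (a : Coh.structureModule S ⟶ V) (b : V ⟶ N) (w : a ≫ b = 0)
    (hex : (ShortComplex.mk a b w).ShortExact)
    (hns : ∀ r : V ⟶ Coh.structureModule S, a ≫ r ≠ 𝟙 (Coh.structureModule S)) :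
    ShStab.IsMuStable k S L V 2 := by
  haveI := isNoetherian_of_proper (k := k) (X := S)
  haveI := isSeparated_of_proper (X := S) k
  have hreg : ∀ x : S, IsRegularLocalRing (S.presheaf.stalk x) := fun x =>
    VarietyLib.isRegularLocalRing_stalk_of_smooth k S (S ↘ Spec (CommRingCat.of k)) x
  haveI : Mono a := hex.mono_f
  have hOi := AmpleLib.isInvertible_structureModule (X := S)
  have hOc : Coh.IsCoh (Coh.structureModule S) := Coherent.isCoh_structureModule S
  have hO0 : ¬ IsZero (Coh.structureModule S) := fun h => one_ne_zero (α := Γ(S, ⊤))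
    (congrArg (fun φ : Coh.structureModule S ⟶ Coh.structureModule S => φ.app ⊤ (1 : Γ(S, ⊤)))
      ((IsZero.iff_id_eq_zero _).1 h))
  have hV0 : ¬ IsZero V := fun h => hO0 (IsZero.of_mono a h)
  have hLc : Coh.IsCoh L := CohBC.isCoh_of_isFinLocFree (Coherent.isFinLocFree_of_invertible hLi)
  have hN0 : ¬ IsZero N := fun h => by
    haveI : IsIso (cokernel.π ι) := by
      have : ι = 0 := h.eq_of_src _ _
      subst this
      infer_instance
    have hsL : CohB1.support L = Set.univ := support_eq_univ hLc (isTorsionFree_of_invertible hLi) fun hz =>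
      one_ne_zero (α := Γ(S, ⊤)) (by
        obtain ⟨U, hU, e, he⟩ := PicLib.exists_isGen hLi (genericPoint S)
        haveI : Nonempty U.toScheme := ⟨⟨genericPoint S, hU⟩⟩
        have h0 : e = 0 := congrArg (fun φ : L ⟶ L => φ.app U e) ((IsZero.iff_id_eq_zero L).1 hz)
        have h1 : (1 : Γ(S, U)) = 0 := (he U le_rfl).1 (by
          show (1 : Γ(S, U)) • resM L le_rfl e = (0 : Γ(S, U)) • resM L le_rfl e
          rw [h0, map_zero, smul_zero, smul_zero])
        exact absurd h1 one_ne_zero)
    rw [← support_eq_of_iso (asIso (cokernel.π ι)), hsL, dim_univ hdim] at hZ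
    exact absurd hZ (not_le.2 (by exact_mod_cast (by omega : 0 < 2)))
  have hO2 : topologicalKrullDim (CohB1.support (Coh.structureModule S)) = (2 : ℕ) := by
    rw [support_eq_univ hOc (isTorsionFree_of_invertible hOi) hO0, dim_univ hdim]
  refine ⟨hV, hV0, by rw [support_eq_univ hV hVtf hV0, dim_univ hdim], ?_, ?_⟩
  · intro F i hi hF h
    haveI := hi
    by_cases hF0 : IsZero F
    · have he : CohB1.support F = ∅ := Set.subset_empty_iff.1 (support_of_isZero hF0 ∅)
      have hlt := dim_empty_lt (X := S) 1
      rw [he] at h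
      generalize topologicalKrullDim (∅ : Set S) = x at h hlt
      cases x with
      | bot => exact absurd h (by simp)
      | coe c =>
        have hc : c < 1 := by exact_mod_cast hlt
        rw [Order.lt_one_iff_nonpos, nonpos_iff_eq_zero] at hc
        subst hc
        exact absurd h (by decide)
    · rw [support_eq_univ hF (Surf15.isTorsionFree_of_mono i hVtf) hF0, dim_univ hdim] at h
      exact absurd h (by decide)
  intro F i hi hF pF pE hpF hpE hpos hlt
  haveI := hi
  have hPO := isHilbPoly_hp k hLa _ hOc
  have hPN := isHilbPoly_hp k hLa _ hN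
  have hPL := isHilbPoly_hp k hLa _ hLc
  let PO := hp k hLa _ hOc
  have ha : 0 < alpha 2 PO := alpha_pos k hLa hOc hPO hO2
  have hsh := alpha_comp_shift (natDegree_le k hOc hdim hLi hPO) ((1 : ℕ) : ℚ)
  rw [← poly_of_mk_eq_pow k (hL := hLi) hLi hPL hPO (pow_one _).symm, Nat.cast_one, one_mul] at hsh
  obtain ⟨RZ, hRZ, hZc, -, hN2, hN1, -⟩ := alpha_two_of_sub k hdim hLa hLi ι hN hN0 hPN hPL
  have hRZ0 : alpha 1 RZ = 0 :=
    alpha_eq_zero_of_dim_lt k hLi hZc hRZ (lt_of_le_of_lt hZ (by exact_mod_cast Nat.one_pos))
  have hE : pE = PO + hp k hLa _ hN := hilb_ses k hLa hex hOc hV hN hPO hpE hPN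
  have hE2 : alpha 2 pE = 2 * alpha 2 PO := by rw [hE, alpha_add, hN2, hsh.1]; ring
  have hE1 : alpha 1 pE = 2 * alpha 1 PO + alpha 2 PO := by rw [hE, alpha_add, hN1, hsh.2, hRZ0]; ring
  show alpha 1 pF / alpha 2 pF < alpha 1 pE / alpha 2 pE
  have hF0 : ¬ IsZero F := fun h => by
    rw [hilb_zero k hLa h hpF] at hpos
    simp [alpha] at hpos
  have finish : alpha 2 pF = alpha 2 PO → alpha 1 pF ≤ alpha 1 PO →
      alpha 1 pF / alpha 2 pF < alpha 1 pE / alpha 2 pE := fun h2 h1 => by
    rw [h2, hE2, hE1, div_lt_div_iff₀ ha (by linarith)]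
    nlinarith
  let φ := i ≫ b
  by_cases hφ : φ = 0
  · let l := hex.exact.lift i hφ
    haveI : Mono l := by
      haveI : Mono (l ≫ a) := by rw [show l ≫ a = i from hex.exact.lift_f _ _]; infer_instance
      exact mono_of_mono l a
    obtain ⟨R, hR, -, -, h2, h1, hR0⟩ := alpha_two_of_sub k hdim hLa hOi l hF hF0 hpF hPO
    exact finish h2 (by linarith)
  have hK : Coh.IsCoh (kernel φ) := isCoh_kernel φ hF hN.1
  by_cases hKz : IsZero (kernel φ)
  · haveI : Mono φ := Preadditive.mono_of_isZero_kernel _ hKz
    let q := φ ≫ ι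
    obtain ⟨R, hR, hc, hd1, h2, h1, hR0⟩ := alpha_two_of_sub k hdim hLa hLi q hF hF0 hpF hPL
    rw [hsh.1] at h2
    rw [hsh.2] at h1
    refine finish h2 ?_
    by_cases hd0 : topologicalKrullDim (CohB1.support (cokernel q)) ≤ (0 : ℕ)
    · exfalso
      let U : S.Opens := ⟨(CohB1.support (cokernel q))ᶜ,
        (isClosed_support _ (locallyFinGen_of_isFT _ hc.2)).isOpen_compl⟩
      have hdepth : ∀ x : S, x ∉ U →
          (2 : ℕ∞) ≤ LocCoh.depth (S.presheaf.stalk x) (S.presheaf.stalk x) := fun x hx => by
        have hx' : x ∈ CohB1.support (cokernel q) := not_not.1 hx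
        have hpt : ptDim (S ↘ Spec (CommRingCat.of k)) x = 0 := by
          rw [topologicalKrullDim_closed_eq_iSup (S ↘ Spec (CommRingCat.of k))
            (isClosed_support _ (locallyFinGen_of_isFT _ hc.2))] at hd0
          have := (le_iSup (fun z : CohB1.support (cokernel q) =>
            (ptDim (S ↘ Spec (CommRingCat.of k)) z.1 : WithBot ℕ∞)) ⟨x, hx'⟩).trans hd0
          exact Nat.le_zero.1 (by exact_mod_cast this)
        haveI := hreg x
        haveI := CAlgH3.isCohenMacaulayLocalRing_of_regular (S.presheaf.stalk x)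
        have hdimx := GenSmoothLib.ringKrullDim_stalk_of_isClosed (S ↘ Spec (CommRingCat.of k)) x
          ((ptDim_eq_zero_iff (S ↘ Spec (CommRingCat.of k)) x).1 hpt)
        rw [← DimLib.topologicalKrullDim_eq_ptDim_of_isGenericPoint (S ↘ Spec (CommRingCat.of k))
          (genericPoint_spec S), dim_univ hdim] at hdimx
        have hcm := LocCoh.IsCohenMacaulayLocalRing.supportDim_eq_depth (R := S.presheaf.stalk x)
        rw [Module.supportDim_self_eq_ringKrullDim, hdimx] at hcm
        exact le_of_eq (WithBot.coe_inj.1 hcm)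
      haveI := Lef23.isIso_unit_structure U hdepth
      obtain ⟨r, hr⟩ := exists_retraction a b w hex i U fun y hy v => by
        let St := DerSch.stalkFunctor S y
        obtain ⟨u, hu⟩ : ∃ u, St.map q u = St.map ι v := by
          have hT := (ShortComplex.ShortExact.moduleCat_exact_iff_function_exact _).1
            ((ShortComplex.exact_cokernel q).map St)
          refine (hT _).1 ?_
          have hs : Subsingleton ((St).obj (cokernel q)) := not_not.1 hy
          exact hs.elim _ _
        refine ⟨u, (ModuleCat.mono_iff_injective (St.map ι)).1 inferInstance ?_⟩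
        rw [stalk_comp_apply]
        exact hu
      exact hns r hr
    · obtain ⟨ξ, hξT, hξ⟩ := exists_curve k (isClosed_support _ (locallyFinGen_of_isFT _ hc.2)) hd1 hd0
      have hC := isHilbPoly_hp k hLa _ (isCoh_clM ξ)
      have hge := alpha_ge_clM k hLa hξ hc hd1 hξT hR hC
      have hge' := alpha_clM_ge k hdim hLa hreg hgen hξ hPO hC
      linarith
  · exfalso
    let l := hex.exact.lift (kernel.ι φ ≫ i) (by rw [Category.assoc]; exact kernel.condition φ)
    haveI : Mono l := by
      haveI : Mono (l ≫ a) := by rw [show l ≫ a = _ from hex.exact.lift_f _ _]; infer_instance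
      exact mono_of_mono l a
    have hPK := isHilbPoly_hp k hLa _ hK
    obtain ⟨-, -, -, -, hK2, -, -⟩ := alpha_two_of_sub k hdim hLa hOi l hK hKz hPK hPO
    have hI := isCoh_image φ hF hN
    have hPI := isHilbPoly_hp k hLa _ hI
    obtain ⟨-, -, -, -, hI2, -, -⟩ := alpha_two_of_sub k hdim hLa hLi (Abelian.image.ι φ ≫ ι) hI
      (image_ne_zero hφ) hPI hPL
    let T : ShortComplex S.Modules := ShortComplex.mk (kernel.ι φ) (Abelian.factorThruImage φ) (by
      rw [← cancel_mono (Abelian.image.ι φ), Category.assoc, Abelian.image.fac, kernel.condition, Limits.zero_comp])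
    have hT : T.ShortExact :=
      { mono_f := inferInstanceAs (Mono (kernel.ι φ))
        epi_g := inferInstanceAs (Epi (Abelian.factorThruImage φ))
        exact := ShortComplex.exact_of_f_is_kernel _ (isKernelOfComp (f := Abelian.factorThruImage φ)
          (Abelian.image.ι φ) φ (kernelIsKernel φ) T.zero (Abelian.image.fac φ)) }
    have hFadd := hilb_ses k hLa hT hK hF hI hPK hpF hPI
    have : alpha 2 pF = alpha 2 (hp k hLa _ hK) + alpha 2 (hp k hLa _ hI) := by rw [hFadd, alpha_add]
    rw [hsh.1] at hI2
    linarith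


end Groth.Agent.S15849
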