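import Groth.Statements.S6577
import Groth.Agent.DualMod3.Apps
import Groth.Agent.SerreDual.ExtShRep
import Groth.Agent.SerreDual.TraceBijective
import Groth.Agent.SerreDual.PushEquiv
import Groth.Agent.FlatMor12.HomQCoh
import Groth.Agent.EGA43.InjFibre.Scheme
-- import your own Groth.Agent.* helpers here

set_option autoImplicit false
universe u
open CategoryTheory CategoryTheory.Limits AlgebraicGeometry
attribute [local instance] HasDerivedCategory.standard
open Curves

namespace Groth.Agent.S6577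

open Groth.Agent.Coherent Groth.Agent.SerreDual Groth.Agent.EulerLib

set_option linter.style.haveILetI false
set_option linter.unusedSectionVars false
set_option backward.isDefEq.respectTransparency.types false

variable {k : Type u} [Field k] {X : Scheme.{u}} [X.Over (Spec (CommRingCat.of k))]

theorem nonempty_iso_of_rep_qcoh {r : ℕ} {ω ω' : X.Modules} (hω : Coh.IsQCoh ω) (hω' : Coh.IsQCoh ω')
    (t : Coh.HH X ω r →ₗ[k] k) (t' : Coh.HH X ω' r →ₗ[k] k)
    (h : ∀ F : X.Modules, Coh.IsQCoh F → Rep t F) (h' : ∀ F : X.Modules, Coh.IsQCoh F → Rep t' F) :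
    Nonempty (ω ≅ ω') := by
  obtain ⟨a, ha⟩ := (h' ω hω).2 t
  obtain ⟨b, hb⟩ := (h ω' hω').2 t'
  refine ⟨⟨a, b, (h ω hω).1 ?_, (h' ω' hω').1 ?_⟩⟩
  · rw [theta_comp, hb]
    show t' ∘ₗ hmap k a r = t ∘ₗ hmap k (𝟙 ω) r
    rw [hmap_id, LinearMap.comp_id]
    exact ha
  · rw [theta_comp, ha]
    show t ∘ₗ hmap k b r = t' ∘ₗ hmap k (𝟙 ω') r
    rw [hmap_id, LinearMap.comp_id]
    exact hb

/-- Let X be proper over the field k of dimension ≤ 1, i : Y → X a closed immersion, and ω_X, ω_Y the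
dualizing modules of X and of Y over k (degree -1 cohomology sheaves of the shriek of O for the
structure morphisms, assuming the derived pushforwards on D_QCoh and their right adjoints exist).
Then i_*ω_Y ≅ Hom_{O_X}(i_*O_Y, ω_X), where the sheaf Hom is taken as the right adjoint of i_*O_Y ⊗
− (assumed to exist). (Existence of an isomorphism only.) -/
theorem result (k : Type u) [Field k] (X : Scheme.{u}) [X.Over (Spec (CommRingCat.of k))] [IsProper (X ↘ (Spec (CommRingCat.of k)))] (hdim : topologicalKrullDim X ≤ 1)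
    [DCoh.HasRpush (X ↘ (Spec (CommRingCat.of k)))] (h : DCoh.RpushPreservesQCoh (X ↘ (Spec (CommRingCat.of k)))) [DCoh.HasShriek (X ↘ (Spec (CommRingCat.of k))) h]
    (OY : DCoh.DQCoh (Spec (CommRingCat.of k))) (hOY : Nonempty (OY.obj ≅ DCoh.inD (Spec (CommRingCat.of k)) (Coh.structureModule (Spec (CommRingCat.of k)))))
    {Y : Scheme.{u}} (i : Y ⟶ X) [IsClosedImmersion i]
    [DCoh.HasRpush (i ≫ (X ↘ (Spec (CommRingCat.of k))))] (hY : DCoh.RpushPreservesQCoh (i ≫ (X ↘ (Spec (CommRingCat.of k))))) [DCoh.HasShriek (i ≫ (X ↘ (Spec (CommRingCat.of k)))) hY]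
    [DCoh.HasSheafHom ((Coh.push i).obj (Coh.structureModule Y))] :
    Nonempty ((Coh.push i).obj (DCoh.dualizingMod (i ≫ (X ↘ (Spec (CommRingCat.of k)))) hY OY 1) ≅
      (DCoh.sheafHom ((Coh.push i).obj (Coh.structureModule Y))).obj (DCoh.dualizingMod (X ↘ (Spec (CommRingCat.of k))) h OY 1)) := by
  haveI : IsNoetherian X := isNoetherian_of_proper (k := k) (X := X)
  letI : Y.Over (Spec (CommRingCat.of k)) := ⟨i ≫ (X ↘ (Spec (CommRingCat.of k)))⟩
  haveI : IsProper (Y ↘ Spec (CommRingCat.of k)) :=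
    inferInstanceAs (IsProper (i ≫ (X ↘ (Spec (CommRingCat.of k)))))
  haveI : IsNoetherian Y := isNoetherian_of_proper (k := k) (X := Y)
  have hdimY : topologicalKrullDim Y ≤ (1 : ℕ) :=
    i.isClosedEmbedding.isInducing.topologicalKrullDim_le.trans hdim
  set ωX := DCoh.dualizingMod (X ↘ (Spec (CommRingCat.of k))) h OY 1 with hωX
  set ωY := DCoh.dualizingMod (i ≫ (X ↘ (Spec (CommRingCat.of k)))) hY OY 1 with hωY
  obtain ⟨tX, htX⟩ := DualMod3.exists_rep k X h OY hOY (d := 1) hdim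
  haveI : DCoh.HasRpush (Y ↘ Spec (CommRingCat.of k)) := inferInstanceAs (DCoh.HasRpush (i ≫ (X ↘ (Spec (CommRingCat.of k)))))
  haveI : DCoh.HasShriek (Y ↘ Spec (CommRingCat.of k)) hY := inferInstanceAs (DCoh.HasShriek (i ≫ (X ↘ (Spec (CommRingCat.of k)))) hY)
  obtain ⟨tY, htY⟩ := DualMod3.exists_rep k Y hY OY hOY (d := 1) hdimY
  let P := (Coh.push i).obj (Coh.structureModule Y)
  have hP : Coh.IsCoh P := isCoh_push_finite i (Coherent.isCoh_structureModule Y)
  haveI : Coh.IsQCoh P := hP.1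
  haveI : Coh.IsQCoh ωX := (DualMod3.isCoh k X h OY hOY 1).1
  let M := (shriekR i).obj ωX
  haveI : Coh.IsQCoh (internalHom P ωX) := FlatMor12.isQCoh_internalHom_of_isFP (isFP_of_isCoh hP)
  haveI hMq : Coh.IsQCoh M := EGA43.InjFibre.isQCoh_pullback i (internalHom P ωX)
  haveI : ∀ (F : Y.Modules) [Coh.IsQCoh F], Coh.IsQCoh ((Coh.push i).obj F) := fun F _ => Coherent.isQCoh_push i F
  let c : (Coh.push i).obj M ⟶ ωX := (shriekAdj i).counit.app ωX
  let t' : Coh.HH Y M 1 →ₗ[k] k := tX ∘ₗ hmap k c 1 ∘ₗ (hpush i k rfl M 1).toLinearMap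
  have ht' : ∀ F : Y.Modules, Coh.IsQCoh F → Rep t' F := fun F hF => by
    haveI := hF
    let e := ((shriekAdj i).homEquiv F ωX).symm
    have he : Function.Bijective fun φ : F ⟶ M => theta tX ((Coh.push i).obj F) (e φ) ∘ₗ (hpush i k rfl F 1).toLinearMap :=
      (hpush i k rfl F 1).dualMap.bijective.comp ((htX _ inferInstance).comp e.bijective)
    refine (congrArg Function.Bijective (funext fun φ => LinearMap.ext fun x => ?_)).mpr he
    show t' (hmap k φ 1 x) = tX (hmap k (e φ) 1 (hpush i k rfl F 1 x))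
    show tX (hmap k c 1 (hpush i k rfl M 1 (hmap k φ 1 x))) = _
    rw [hpush_natural, show e φ = (Coh.push i).map φ ≫ c from (shriekAdj i).homEquiv_counit F ωX φ, hmap_comp,
      LinearMap.comp_apply]
  obtain ⟨eY⟩ := nonempty_iso_of_rep_qcoh (DualMod3.isCoh k Y hY OY hOY 1).1 hMq tY t' htY ht'
  exact ⟨(Coh.push i).mapIso eY ≪≫ ((internalHomPushIso i).app ωX).symm ≪≫
    ((tensorHomAdj P).rightAdjointUniq (Adjunction.ofIsLeftAdjoint _)).app ωX⟩

end Groth.Agent.S6577
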