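import Groth.Statements.S15851
import Groth.Agent.PnCanon5.Duality
import Groth.Agent.DelPezzo19.Fibre
import Groth.Agent.Mod22.ExtPush
import Groth.Agent.S6577
import Groth.Agent.S19958
import Groth.Agent.Surf15.HomShIso
import Groth.Agent.SerreDual.ExtShBasic
import Groth.Agent.SerreDual.ExtShCoherent
-- import your own Groth.Agent.* helpers here

set_option autoImplicit false
universe u
open CategoryTheory CategoryTheory.Limits AlgebraicGeometry
attribute [local instance] HasDerivedCategory.standard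
open Surf

namespace Groth.Agent.S15851

open CategoryTheory.Abelian Groth.Agent.Coherent Groth.Agent.SerreDual Groth.Agent.EulerLib
attribute [local instance] HasDerivedCategory.standard

set_option linter.style.haveILetI false
set_option backward.isDefEq.respectTransparency.types false

theorem nonempty_internalHom_congr {X : Scheme.{u}} (F : X.Modules) {G G' : X.Modules} (e : G ≅ G') :
    Nonempty (internalHom F G ≅ internalHom F G') := ⟨(internalHomFunctor F).mapIso e⟩

/-- The dualizing module of a proper scheme with its trace, for a given chosen right adjoint. -/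
theorem exists_rep_qcoh (k : Type u) [Field k] (S : Scheme.{u}) [S.Over (Spec (CommRingCat.of k))]
    [IsProper (S ↘ Spec (CommRingCat.of k))] [DCoh.HasRpush (S ↘ Spec (CommRingCat.of k))]
    {d : ℕ} (hd : topologicalKrullDim S ≤ d) {ω : S.Modules} (hω : Coh.IsCoh ω)
    (t : Coh.HH S ω d →ₗ[k] k) (ht : ∀ F : S.Modules, Coh.IsCoh F → Rep t F) :
    ∀ F : S.Modules, Coh.IsQCoh F → Rep t F := by
  haveI := isNoetherian_of_proper (k := k) (X := S)
  haveI := isSeparated_of_proper (X := S) k
  obtain ⟨A, hA⟩ := Dual22Lib.RepLib.exists_repObj (S ↘ Spec (CommRingCat.of k)) (DualLib.DualCoh.PS k)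
  obtain ⟨t₂, ht₂⟩ := DualMod3.exists_rep_of_repObj k S hd hA
  have hW : Coh.IsCoh (DCoh.HD A (-(d : ℤ))) := DualLib.DualCoh.isCohD_rep k S hA _
  obtain ⟨a, ha⟩ := (ht₂ ω hω.1).2 t
  obtain ⟨c, hc⟩ := (ht (DCoh.HD A (-(d : ℤ))) hW).2 t₂
  have hac : a ≫ c = 𝟙 ω := (ht ω hω).1 (by
    rw [theta_comp, hc]
    show t₂ ∘ₗ hmap k a d = t ∘ₗ hmap k (𝟙 ω) d
    rw [hmap_id, LinearMap.comp_id]
    exact ha)
  have hca : c ≫ a = 𝟙 _ := (ht₂ _ hW.1).1 (by
    rw [theta_comp, ha]
    show t ∘ₗ hmap k c d = t₂ ∘ₗ hmap k (𝟙 _) d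
    rw [hmap_id, LinearMap.comp_id]
    exact hc)
  let e : ω ≅ DCoh.HD A (-(d : ℤ)) := ⟨a, c, hac, hca⟩
  intro F hF
  have hb : Function.Bijective fun φ : F ⟶ ω => theta t₂ F (φ ≫ a) :=
    (ht₂ F hF).comp (e.homToEquiv).bijective
  refine (congrArg Function.Bijective (funext fun φ => ?_)).mpr hb
  rw [theta_comp]
  show t ∘ₗ hmap k φ d = (theta t₂ ω a) ∘ₗ hmap k φ d
  exact congrArg (· ∘ₗ hmap k φ d) ha.symm

/-- Let k be an algebraically closed field of characteristic zero, S a smooth projective surface over k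
(integral, smooth over k, of dimension two, with a closed immersion over k into some projective
space) and ω an O_S-module which is a second exterior power of the sheaf of differentials of S over
k (the canonical sheaf). Let j : C → S be a closed immersion with C integral of dimension one and A
a coherent O_C-module with torsion-free stalks and one-dimensional generic stalk (a rank-one
torsion-free sheaf on C). Put A^* = Ext^1_{O_S}(j_*A, ω), the value at ω of the first right derived
functor of the sheaf Hom functor Hom_{O_S}(j_*A, -) (taken as the right adjoint of j_*A ⊗ -). Then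
Ext^1_{O_S}(A^*, ω) is isomorphic to j_*A: the operation A ↦ A^* is an involution up to isomorphism
(existence of an isomorphism only). (The instance binders on sheaf Hom functors and injective
resolutions always hold.) -/
theorem result
    (k : Type u) [Field k] [IsAlgClosed k] [CharZero k]
    (S : Scheme.{u}) [S.Over (Spec (CommRingCat.of k))] [IsIntegral S]
    [Smooth (S ↘ Spec (CommRingCat.of k))] (hdim : topologicalKrullDim S = 2)
    [IsProper (S ↘ Spec (CommRingCat.of k))]
    (hproj : ∃ (n : ℕ) (ι : S ⟶ CohB1.ProjSpace n k), IsClosedImmersion ι ∧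
      ι ≫ CohB1.ProjSpace.toSpec n k = S ↘ Spec (CommRingCat.of k))
    [HasInjectiveResolutions S.Modules]
    (ω : S.Modules) (hω : Canon.IsTopDiff (S ↘ Spec (CommRingCat.of k)) 2 ω)
    (C : Scheme.{u}) (j : C ⟶ S) [IsClosedImmersion j] [IsIntegral C]
    (hC : topologicalKrullDim C = 1)
    (M : C.Modules) (hM : Coh.IsCoh M) (hMtf : TorSh.IsTorsionFree M)
    (hrk : Module.finrank (C.presheaf.stalk (genericPoint C)) (M.presheaf.stalk (genericPoint C)) = 1)
    [DCoh.HasSheafHom ((Coh.push j).obj M)] [(DCoh.sheafHom ((Coh.push j).obj M)).Additive]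
    [DCoh.HasSheafHom (((DCoh.sheafHom ((Coh.push j).obj M)).rightDerived 1).obj ω)]
    [(DCoh.sheafHom (((DCoh.sheafHom ((Coh.push j).obj M)).rightDerived 1).obj ω)).Additive] :
    Nonempty (((DCoh.sheafHom (((DCoh.sheafHom ((Coh.push j).obj M)).rightDerived 1).obj ω)).rightDerived 1).obj ω ≅ (Coh.push j).obj M) := by
  obtain ⟨N, ι, hι, hιk⟩ := hproj
  haveI := hι
  haveI := DelPezzo19.smoothOfRelativeDimension_of_dim (S ↘ Spec (CommRingCat.of k)) 2 hdim
  haveI : ConnectedSpace S := inferInstance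
  haveI := isNoetherian_of_proper (k := k) (X := S)
  haveI := isSeparated_of_proper (X := S) k
  haveI : IsGrothendieckAbelian.{u} S.Modules := DCat.schemeModules_isGrothendieckAbelian S
  haveI := DCat.hasRpush (S ↘ Spec (CommRingCat.of k))
  obtain ⟨-, hωi, t, ht0⟩ := PnCanon5.exists_trace_topForms k 2 N ι hιk ω hω
  have hωc : Coh.IsCoh ω := CohBC.isCoh_of_isFinLocFree (SerreDual.isFinLocFree_of_invertible hωi)
  haveI := hωc.1
  have ht := exists_rep_qcoh k S hdim.le hωc t ht0
  have hCM : ∀ x : S, LocCoh.IsCohenMacaulayLocalRing (S.presheaf.stalk x) := fun x =>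
    haveI := VarietyLib.isRegularLocalRing_stalk_of_smooth k S (S ↘ Spec (CommRingCat.of k)) x
    CAlgH3.isCohenMacaulayLocalRing_of_regular _
  have heq : ∀ x : S, IsClosed ({x} : Set S) → ringKrullDim (S.presheaf.stalk x) = (2 : ℕ) := fun x hx => by
    rw [GenSmoothLib.ringKrullDim_stalk_of_isClosed (S ↘ Spec (CommRingCat.of k)) x hx,
      ← DimLib.topologicalKrullDim_eq_ptDim_of_isGenericPoint (S ↘ Spec (CommRingCat.of k))
        (genericPoint_spec S), Nat.cast_ofNat, ← hdim]
    exact (Homeomorph.Set.univ S).isHomeomorph.topologicalKrullDim_eq _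
  let J := injectiveResolution ω
  letI : C.Over (Spec (CommRingCat.of k)) := ⟨j ≫ (S ↘ Spec (CommRingCat.of k))⟩
  haveI : IsProper (C ↘ Spec (CommRingCat.of k)) :=
    inferInstanceAs (IsProper (j ≫ (S ↘ Spec (CommRingCat.of k))))
  haveI := isNoetherian_of_proper (k := k) (X := C)
  haveI := isSeparated_of_proper (X := C) k
  have hO : Coh.IsCoh ((Coh.push j).obj (Coh.structureModule C)) :=
    isCoh_push_finite j (Coherent.isCoh_structureModule C)
  have hq : Coh.IsQCoh ((homCx ((Coh.push j).obj (Coh.structureModule C)) J).homology 1) :=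
    (SerreDual.isCoh_homology hO hωc J 1).1
  obtain ⟨h0, hω', t', ht'⟩ := Mod22.ExtPush.exists_dualizing j J k 2 (by exact_mod_cast hdim) hCM heq t ht
    (by norm_num) (by rw [hC]; norm_num) hq
  haveI := DCat.hasRpush (C ↘ Spec (CommRingCat.of k))
  have hf : DCoh.RpushPreservesQCoh (C ↘ Spec (CommRingCat.of k)) := fun K hK => DQCoh.isQCohD_Rpush _ K hK
  haveI : DCoh.HasShriek (C ↘ Spec (CommRingCat.of k)) hf :=
    Dual22Lib.AdjGeom.isLeftAdjoint_RpushQ (C ↘ Spec (CommRingCat.of k)) hf
  let OY : DCoh.DQCoh (Spec (CommRingCat.of k)) :=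
    ⟨DCoh.inD (Spec (CommRingCat.of k)) (Coh.structureModule (Spec (CommRingCat.of k))),
      haveI : Coh.IsQCoh (Coh.structureModule (Spec (CommRingCat.of k))) := Coherent.isQCoh_structureModule
      FlatBC14.isQCohD_inD _⟩
  let ωD := DCoh.dualizingMod (C ↘ Spec (CommRingCat.of k)) hf OY 1
  obtain ⟨tD, htD⟩ := DualMod3.exists_rep k C hf OY ⟨Iso.refl _⟩ (d := 1) hC.le
  obtain ⟨w⟩ := S6577.nonempty_iso_of_rep_qcoh hω' (DualMod3.isCoh k C hf OY ⟨Iso.refl _⟩ 1).1 t' tD ht' htD
  obtain ⟨η, -, hη⟩ := S19958.result k C hC hf OY ⟨Iso.refl _⟩ M hM hMtf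
  haveI := hη
  let H := RefHull.homSh M ωD
  obtain ⟨u₁⟩ := Surf15.nonempty_homSh_iso M ωD
  obtain ⟨u₂⟩ := Surf15.nonempty_homSh_iso H ωD
  obtain ⟨v₁⟩ := nonempty_internalHom_congr M w
  obtain ⟨v₂⟩ := nonempty_internalHom_congr H w
  obtain ⟨b₁⟩ := Mod22.ExtPush.nonempty_homology_one_iso_push j J M h0
  obtain ⟨b₂⟩ := Mod22.ExtPush.nonempty_homology_one_iso_push j J H h0
  have der : ∀ (F : S.Modules) [DCoh.HasSheafHom F] [(DCoh.sheafHom F).Additive],
      Nonempty (((DCoh.sheafHom F).rightDerived 1).obj ω ≅ (homCx F J).homology 1) := fun F _ _ => by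
    haveI : (internalHomFunctor F).Additive := additive_internalHomFunctor F
    exact ⟨J.isoRightDerivedObj (DCoh.sheafHom F) 1 ≪≫
      (HomologicalComplex.homologyFunctor S.Modules (ComplexShape.up ℕ) 1).mapIso
        ((NatIso.mapHomologicalComplex (Coherent.sheafHomIso F) (ComplexShape.up ℕ)).app J.cocomplex)⟩
  obtain ⟨d₁⟩ := der ((Coh.push j).obj M)
  obtain ⟨d₂⟩ := der (((DCoh.sheafHom ((Coh.push j).obj M)).rightDerived 1).obj ω)
  obtain ⟨g⟩ := SerreDual.nonempty_homology_congr
    (d₁ ≪≫ b₁ ≪≫ (Scheme.Modules.pushforward j).mapIso (v₁ ≪≫ u₁.symm)) J 1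
  exact ⟨d₂ ≪≫ g ≪≫ b₂ ≪≫ (Scheme.Modules.pushforward j).mapIso (v₂ ≪≫ u₂.symm ≪≫ (asIso η).symm)⟩

end Groth.Agent.S15851
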