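import Groth.Statements.S15852
import Groth.Agent.PnCanon5.Duality
import Groth.Agent.DelPezzo19.Fibre
import Groth.Agent.SerreDual.ExtShGlobal
import Groth.Agent.SerreDual.ExtShDivisor
import Groth.Agent.SerreDual.ExtShRep
import Groth.Agent.SerreDual.PushEquiv
import Groth.Agent.RefHullLib.ClassLaw
import Groth.Agent.EGA43.InjFibre.Scheme
-- import your own Groth.Agent.* helpers here

set_option autoImplicit false
universe u
open CategoryTheory CategoryTheory.Limits AlgebraicGeometry
open Surf

namespace Groth.Agent.S15852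

open CategoryTheory.Abelian Groth.Agent.Coherent Groth.Agent.SerreDual Groth.Agent.EulerLib

set_option linter.style.haveILetI false
set_option backward.isDefEq.respectTransparency.types false

/-- Let k be an algebraically closed field of characteristic zero, S a smooth projective surface over k
(integral, smooth over k, of dimension two, with a closed immersion over k into some projective
space) and ω an O_S-module which is a second exterior power of the sheaf of differentials of S over
k. Let j : C → S be a closed immersion with C integral of dimension one and A a coherent O_C-module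
with torsion-free stalks and one-dimensional generic stalk, and put A^* = Ext^1_{O_S}(j_*A, ω), the
first right derived functor of the sheaf Hom functor Hom_{O_S}(j_*A, -) (the right adjoint of j_*A ⊗
-) evaluated at ω. Then the group Ext^1_{O_S}(j_*A, ω), computed in the category of all O_S-modules
with its k-linear structure (the Ext instance is the stated hypothesis; it holds), is k-linearly
isomorphic to H^0(S, A^*), and also to the k-dual of H^1(S, j_*A) = H^1(C, A). (Existence of
k-linear isomorphisms only.) -/
theorem result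
    (k : Type u) [Field k] [IsAlgClosed k] [CharZero k]
    (S : Scheme.{u}) [S.Over (Spec (CommRingCat.of k))] [IsIntegral S]
    [Smooth (S ↘ Spec (CommRingCat.of k))] (hdim : topologicalKrullDim S = 2)
    [IsProper (S ↘ Spec (CommRingCat.of k))]
    (hproj : ∃ (n : ℕ) (ι : S ⟶ CohB1.ProjSpace n k), IsClosedImmersion ι ∧
      ι ≫ CohB1.ProjSpace.toSpec n k = S ↘ Spec (CommRingCat.of k))
    [HasInjectiveResolutions S.Modules] [HasExt.{u} S.Modules]
    (ω : S.Modules) (hω : Canon.IsTopDiff (S ↘ Spec (CommRingCat.of k)) 2 ω)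
    (C : Scheme.{u}) (j : C ⟶ S) [IsClosedImmersion j] [IsIntegral C]
    (hC : topologicalKrullDim C = 1)
    (M : C.Modules) (hM : Coh.IsCoh M) (hMtf : TorSh.IsTorsionFree M)
    (hrk : Module.finrank (C.presheaf.stalk (genericPoint C)) (M.presheaf.stalk (genericPoint C)) = 1)
    [DCoh.HasSheafHom ((Coh.push j).obj M)] [(DCoh.sheafHom ((Coh.push j).obj M)).Additive] :
    Nonempty (Abelian.Ext ((Coh.push j).obj M) ω 1 ≃ₗ[k]
        Coh.HH S (((DCoh.sheafHom ((Coh.push j).obj M)).rightDerived 1).obj ω) 0) ∧
      Nonempty (Abelian.Ext ((Coh.push j).obj M) ω 1 ≃ₗ[k]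
        Module.Dual k (Coh.HH S ((Coh.push j).obj M) 1)) := by
  obtain ⟨N, ι, hι, hιk⟩ := hproj
  haveI := hι
  haveI := DelPezzo19.smoothOfRelativeDimension_of_dim (S ↘ Spec (CommRingCat.of k)) 2 hdim
  haveI : ConnectedSpace S := inferInstance
  haveI := isNoetherian_of_proper (k := k) (X := S)
  haveI := isSeparated_of_proper (X := S) k
  haveI : IsGrothendieckAbelian.{u} S.Modules := DCat.schemeModules_isGrothendieckAbelian S
  obtain ⟨-, hωi, t, ht⟩ := PnCanon5.exists_trace_topForms k 2 N ι hιk ω hω
  have hωc : Coh.IsCoh ω := CohBC.isCoh_of_isFinLocFree (SerreDual.isFinLocFree_of_invertible hωi)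
  obtain ⟨A, hA⟩ := (isProper_and_ample_of_closedImmersion ι hιk).2
  have hCM : ∀ x : S, IsClosed ({x} : Set S) →
      LocCoh.IsCohenMacaulayLocalRing (S.presheaf.stalk x) ∧ ringKrullDim (S.presheaf.stalk x) = (2 : ℕ) :=
    fun x hx => ⟨haveI := VarietyLib.isRegularLocalRing_stalk_of_smooth k S (S ↘ Spec (CommRingCat.of k)) x
      CAlgH3.isCohenMacaulayLocalRing_of_regular _, by
      rw [GenSmoothLib.ringKrullDim_stalk_of_isClosed (S ↘ Spec (CommRingCat.of k)) x hx,
        ← DimLib.topologicalKrullDim_eq_ptDim_of_isGenericPoint (S ↘ Spec (CommRingCat.of k))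
          (genericPoint_spec S), Nat.cast_ofNat, ← hdim]
      exact (Homeomorph.Set.univ S).isHomeomorph.topologicalKrullDim_eq _⟩
  let G := (Coh.push j).obj M
  have hG : Coh.IsCoh G := isCoh_push_finite j hM
  obtain ⟨e2⟩ := (SerreDual.duality_cm (k := k) hA (n := 2) hdim.le hCM hωc t ht G hG 1).1 1 rfl
  refine ⟨?_, ⟨e2⟩⟩
  letI : C.Over (Spec (CommRingCat.of k)) := ⟨j ≫ (S ↘ Spec (CommRingCat.of k))⟩
  haveI : IsProper (C ↘ Spec (CommRingCat.of k)) :=
    inferInstanceAs (IsProper (j ≫ (S ↘ Spec (CommRingCat.of k))))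
  haveI := isNoetherian_of_proper (k := k) (X := C)
  haveI := isSeparated_of_proper (X := C) k
  let W := internalHom G ω
  have hW : Coh.IsCoh W := Existence.isCoh_internalHom hG hωc
  have hWz : IsZero W := by
    rw [IsZero.iff_id_eq_zero]
    apply ((tensorHomAdj G).homEquiv W ω).symm.injective
    let P := CohB1.tensorMod M ((Scheme.Modules.pullback j).obj W)
    let e : (tensE G).obj W ≅ (Scheme.Modules.pushforward j).obj P := @asIso _ _ _ _ _ (DCat.ClosedPush.isIso_projMap j M W)
    haveI := hM.1
    haveI := hW.1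
    haveI : Coh.IsQCoh ((Scheme.Modules.pullback j).obj W) := EGA43.InjFibre.isQCoh_pullback j W
    haveI : Coh.IsQCoh P := Coherent.isQCoh_tensorMod _ _
    haveI : Subsingleton (Coh.HH C P 2) :=
      subsingleton_HH_of_dim _ (d := 1) (by rw [hC]; norm_cast) (by omega)
    haveI : Subsingleton (Coh.HH S ((tensE G).obj W) 2) :=
      ((SerreDual.hmapIso k e 2).trans (hpush j k rfl P 2).symm).toEquiv.subsingleton
    exact (ht ((tensE G).obj W) (RefHullLib.isCoh_tensorMod hG hW)).1
      (LinearMap.ext fun x => by rw [Subsingleton.elim x 0, map_zero, map_zero])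
  let J := injectiveResolution ω
  haveI := isIso_zeroHom G J
  have h0 : ∀ q, q < 1 → ∀ p, Subsingleton (Coh.HH S ((homCx G J).homology q) (p + 1)) := fun q hq p => by
    obtain rfl : q = 0 := by omega
    have hz : IsZero ((homCx G J).homology 0) := hWz.of_iso (asIso (zeroHom G J)).symm
    haveI : Coh.IsQCoh ((homCx G J).homology 0) :=
      (isCoh_of_iso (asIso (zeroHom G J)) hW).1
    refine subsingleton_of_forall_eq 0 fun x => ?_
    have hx : hmap k (𝟙 ((homCx G J).homology 0)) (p + 1) x = x := by rw [hmap_id]; rfl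
    rw [← hx, (IsZero.iff_id_eq_zero _).1 hz, hmap_zero, LinearMap.zero_apply]
  obtain ⟨e1⟩ := SerreDual.nonempty_ext_linearEquiv_homology k J 1 h0
  haveI : (internalHomFunctor G).Additive := additive_internalHomFunctor G
  exact ⟨e1.trans (SerreDual.hmapIso k (J.isoRightDerivedObj (DCoh.sheafHom G) 1 ≪≫
    (HomologicalComplex.homologyFunctor S.Modules (ComplexShape.up ℕ) 1).mapIso
      ((NatIso.mapHomologicalComplex (Coherent.sheafHomIso G) (ComplexShape.up ℕ)).app J.cocomplex)).symm 0)⟩

end Groth.Agent.S15852
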