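import Groth.Statements.S15853
import Groth.Agent.Mod22.RankOneSlope
import Groth.Agent.Lef23.Restrict
import Groth.Agent.S15210
import Groth.Agent.Surf15.RiemannRoch
import Groth.Agent.Surf15.SerreDualMain
import Groth.Agent.PnCanon5.Duality
import Groth.Agent.DelPezzo19.Fibre
import Groth.Agent.CurveRR24.Section
import Groth.Agent.RefHullLib.Extend
import Groth.Agent.RefHullLib.TensorGen
import Groth.Agent.RefHullLib.RankOne
import Groth.Agent.RefHullLib.LowDim
import Groth.Agent.RefHullLib.Ord
import Groth.Agent.GenSmoothLib.TangentRank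
import Groth.Agent.VarietyLib.SmoothStalk
import Groth.Agent.CAlgH3.RegularCore
-- import your own Groth.Agent.* helpers here

set_option autoImplicit false
universe u
open CategoryTheory CategoryTheory.Limits AlgebraicGeometry Polynomial
open ShStab

namespace Groth.Agent.S15853

open CategoryTheory CategoryTheory.Limits AlgebraicGeometry Polynomial StabCat TopologicalSpace
open Groth.Agent.Coherent Groth.Agent.EulerLib Groth.Agent.DimLib Groth.Agent.Mod22.RankOneSlope
open Groth.Agent.AssSch12 Groth.Agent.PicLib Groth.Agent.AmpleLib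
open scoped ZeroObject

set_option linter.style.haveILetI false
set_option backward.isDefEq.respectTransparency.types false
set_option maxHeartbeats 1000000

section

variable (k : Type u) [Field k] [IsAlgClosed k] {S : Scheme.{u}} [S.Over (Spec (CommRingCat.of k))]
  [IsProper (S ↘ Spec (CommRingCat.of k))] [IsIntegral S] [Smooth (S ↘ Spec (CommRingCat.of k))]
  (hdim : topologicalKrullDim S = 2)

include k hdim in
theorem two_le_depth {x : S} (hx : ptDim (S ↘ Spec (CommRingCat.of k)) x = 0) :
    (2 : ℕ∞) ≤ LocCoh.depth (S.presheaf.stalk x) (S.presheaf.stalk x) := by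
  haveI := VarietyLib.isRegularLocalRing_stalk_of_smooth k S (S ↘ Spec (CommRingCat.of k)) x
  haveI := CAlgH3.isCohenMacaulayLocalRing_of_regular (S.presheaf.stalk x)
  have hdimx := GenSmoothLib.ringKrullDim_stalk_of_isClosed (S ↘ Spec (CommRingCat.of k)) x
    ((ptDim_eq_zero_iff (S ↘ Spec (CommRingCat.of k)) x).1 hx)
  rw [← DimLib.topologicalKrullDim_eq_ptDim_of_isGenericPoint (S ↘ Spec (CommRingCat.of k))
    (genericPoint_spec S), dim_univ hdim] at hdimx
  have hcm := LocCoh.IsCohenMacaulayLocalRing.supportDim_eq_depth (R := S.presheaf.stalk x)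
  rw [Module.supportDim_self_eq_ringKrullDim, hdimx] at hcm
  exact le_of_eq (WithBot.coe_inj.1 hcm)

include k hdim in
/-- A map out of the structure sheaf into a torsion-free module, bijective off finitely many points, is surjective. -/
theorem epi_of_finite_cokernel {F : S.Modules} (hF : Coh.IsCoh F) (ht : TorSh.IsTorsionFree F)
    (a : Coh.structureModule S ⟶ F) [Mono a]
    (hd : topologicalKrullDim (CohB1.support (cokernel a)) ≤ (0 : ℕ))
    (hη : genericPoint S ∉ CohB1.support (cokernel a)) : Epi a := by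
  haveI := isNoetherian_of_proper (k := k) (X := S)
  have hc := isCoh_cokernel a (Coherent.isCoh_structureModule S).1 hF
  let U : S.Opens := ⟨(CohB1.support (cokernel a))ᶜ,
    (isClosed_support _ (locallyFinGen_of_isFT _ hc.2)).isOpen_compl⟩
  have hdepth : ∀ x : S, x ∉ U →
      (2 : ℕ∞) ≤ LocCoh.depth (S.presheaf.stalk x) (S.presheaf.stalk x) := fun x hx => by
    refine two_le_depth k hdim ?_
    rw [topologicalKrullDim_closed_eq_iSup (S ↘ Spec (CommRingCat.of k))
      (isClosed_support _ (locallyFinGen_of_isFT _ hc.2))] at hd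
    have := (le_iSup (fun z : CohB1.support (cokernel a) =>
      (ptDim (S ↘ Spec (CommRingCat.of k)) z.1 : WithBot ℕ∞)) ⟨x, not_not.1 hx⟩).trans hd
    exact Nat.le_zero.1 (by exact_mod_cast this)
  haveI := Lef23.isIso_unit_structure U hdepth
  have hbij : ∀ y ∈ U, Function.Bijective ((DerSch.stalkFunctor S y).map a) := fun y hy => by
    refine ⟨(ModuleCat.mono_iff_injective _).1 inferInstance, fun v => ?_⟩
    have hT := (ShortComplex.ShortExact.moduleCat_exact_iff_function_exact _).1
      ((ShortComplex.exact_cokernel a).map (DerSch.stalkFunctor S y))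
    refine (hT _).1 ?_
    have hs : Subsingleton ((DerSch.stalkFunctor S y).obj (cokernel a)) := not_not.1 hy
    exact hs.elim _ _
  let R := Scheme.Modules.restrictFunctor U.ι
  let P := Scheme.Modules.pushforward U.ι
  let η := (Scheme.Modules.restrictAdjunction U.ι).unit
  haveI : IsIso (R.map a) := by
    refine Scheme.Modules.Hom.isIso_iff_isIso_app.2 fun V => (ConcreteCategory.isIso_iff_bijective _).2 ?_
    change Function.Bijective (a.app (U.ι ''ᵁ V))
    refine TopCat.Presheaf.app_bijective_of_stalkFunctor_map_bijective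
      (F := ⟨(Coh.structureModule S).presheaf, (Coh.structureModule S).isSheaf⟩) (G := ⟨F.presheaf, F.isSheaf⟩)
      ⟨a.mapPresheaf⟩ _ fun x hx => hbij x ?_
    obtain ⟨w, -, rfl⟩ := hx
    exact w.2
  let r : F ⟶ Coh.structureModule S := η.app F ≫ P.map (inv (R.map a)) ≫ inv (η.app (Coh.structureModule S))
  have hr : a ≫ r = 𝟙 _ := by
    have hn : a ≫ η.app F = η.app (Coh.structureModule S) ≫ P.map (R.map a) := η.naturality a
    rw [← Category.assoc, hn, Category.assoc, ← P.map_comp_assoc, IsIso.hom_inv_id, P.map_id, Category.id_comp,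
      IsIso.hom_inv_id]
  -- the complement of `a` is torsion in a torsion-free module
  let e : F ⟶ F := 𝟙 F - r ≫ a
  have he : a ≫ e = 0 := by rw [Preadditive.comp_sub, ← Category.assoc, hr, Category.comp_id, Category.id_comp, sub_self]
  have hI : Coh.IsCoh (Abelian.image e) := isCoh_image e hF hF
  have hz : IsZero (Abelian.image e) := by
    refine isZero_of_torsionFree hI.1 (Surf15.isTorsionFree_of_mono (Abelian.image.ι e) ht) fun hmem => hη ?_
    haveI : Epi (cokernel.desc a (Abelian.factorThruImage e) (by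
        rw [← cancel_mono (Abelian.image.ι e), Category.assoc, Abelian.image.fac, he, Limits.zero_comp])) :=
      epi_of_epi_fac (cokernel.π_desc _ _ _)
    exact support_subset_of_epi (cokernel.desc a (Abelian.factorThruImage e) _) hmem
  have h0 : e = 0 := by
    rw [← Abelian.image.fac e, hz.eq_of_src (Abelian.image.ι e) 0, Limits.comp_zero]
  haveI : IsSplitEpi a := IsSplitEpi.mk' ⟨r, by rw [eq_comm, ← sub_eq_zero]; exact h0⟩
  infer_instance

variable {L : S.Modules}

include k hdim in
theorem stalk_dim_le_one {ξ : S} (hξ : topologicalKrullDim (closure {ξ} : Set S) = (1 : ℕ)) :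
    ringKrullDim (S.presheaf.stalk ξ) ≤ 1 := by
  haveI := isNoetherian_of_proper (k := k) (X := S)
  have hcod : Order.coheight ξ ≤ 1 := by
    refine (Order.coheight_le_coe_iff (n := 1)).2 fun ζ hζ => ?_
    rw [Nat.cast_one, Order.lt_one_iff_nonpos, nonpos_iff_eq_zero, Order.coheight_eq_zero]
    intro z hz
    by_contra hzz
    have hζη : ζ ≠ genericPoint S := fun h => hzz (h ▸ ((genericPoint_spec S).specializes trivial))
    have hlt : topologicalKrullDim (closure {ζ} : Set S) < (2 : ℕ) :=
      dim_lt_of_notMem isClosed_closure (Set.subset_univ _) isClosed_univ (genericPoint_closure S)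
        (fun hmem => hζη (((genericPoint_spec S).specializes trivial).antisymm
          (specializes_iff_mem_closure.2 hmem)).eq.symm) (dim_univ hdim).le
    have hsp : ζ ⤳ ξ := hζ.le
    exact absurd hξ (ne_of_lt (dim_lt_of_notMem isClosed_closure
      (isClosed_closure.closure_subset_iff.2 (Set.singleton_subset_iff.2 (specializes_iff_mem_closure.1 hsp)))
      isClosed_closure rfl (fun hmem => hζ.not_ge (specializes_iff_mem_closure.2 hmem)) (le_one_of_lt hlt)))
  rw [ringKrullDim_stalk_eq_coheight]
  exact_mod_cast hcod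

/-- `O^n`. -/
noncomputable def pow' (S : Scheme.{u}) : ℕ → S.Modules
  | 0 => 0
  | n + 1 => pow' S n ⊞ Coh.structureModule S

include k hdim in
/-- The top coefficient is the generic rank times that of the structure sheaf. -/
theorem alpha_two_eq_finrank (hL : CohB1.IsAmple L) {M : S.Modules} (hM : Coh.IsCoh M) {P PO : ℚ[X]}
    (hP : ShStab.IsHilbPoly k S L M P) (hPO : ShStab.IsHilbPoly k S L (Coh.structureModule S) PO) :
    alpha 2 P =
      (Module.finrank (S.presheaf.stalk (genericPoint S)) (M.presheaf.stalk (genericPoint S)) : ℚ) * alpha 2 PO := by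
  haveI := isNoetherian_of_proper (k := k) (X := S)
  let η := genericPoint S
  let St := DerSch.stalkFunctor S η
  let _ : Field (S.presheaf.stalk η) := inferInstanceAs (Field S.functionField)
  let c : Fin 2 → InvCl S := fun _ => InvCl.mk L hL.1
  let ψ : S.Modules → ℤ := fun N => interDeg c (chiCl k N)
  have hd : ∀ N : S.Modules, topologicalKrullDim (CohB1.support N) ≤ (2 : ℕ) := fun N =>
    (dim_mono (Set.subset_univ _)).trans (dim_univ hdim).le
  have hα : ∀ (N : S.Modules), Coh.IsCoh N → ∀ PN : ℚ[X], ShStab.IsHilbPoly k S L N PN → alpha 2 PN = (ψ N : ℚ) :=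
    fun N hN PN hPN => (alpha_eq_interDeg k hL.1 hN hPN (hd N)).2
  have hψ : ∀ T : ShortComplex S.Modules, T.ShortExact → Coh.IsCoh T.X₁ → Coh.IsCoh T.X₂ → Coh.IsCoh T.X₃ →
      ψ T.X₂ = ψ T.X₁ + ψ T.X₃ := fun T hT h₁ h₂ h₃ => by
    show interDeg c (chiCl k T.X₂) = _
    rw [chiCl_additive k T hT h₁ h₂ h₃, interDeg_add_fun]
  have hpow : ∀ n, Coh.IsCoh (pow' S n) ∧ ψ (pow' S n) = n * ψ (Coh.structureModule S) ∧
      Module.Finite (S.presheaf.stalk η) ((St).obj (pow' S n)) ∧
      Module.finrank (S.presheaf.stalk η) ((St).obj (pow' S n)) = n := by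
    intro n
    induction n with
    | zero =>
      have hz : IsZero (pow' S 0) := isZero_zero _
      haveI : Subsingleton ((St).obj (pow' S 0)) := ModuleCat.subsingleton_of_isZero (St.map_isZero hz)
      refine ⟨isCoh_of_isZero hz, ?_, inferInstance, Module.finrank_zero_of_subsingleton⟩
      show interDeg c _ = _
      rw [Nat.cast_zero, zero_mul]
      refine interDeg_eq_zero c (finDeg_chiCl k (isCoh_of_isZero hz) ?_)
      rw [Set.subset_empty_iff.1 (support_of_isZero hz ∅)]
      exact dim_empty_lt 2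
    | succ n ih =>
      obtain ⟨hc, he, hf, hr⟩ := ih
      have hs := (ShortComplex.Splitting.ofHasBinaryBiproduct (pow' S n) (Coh.structureModule S)).shortExact
      have hO := Coherent.isCoh_structureModule S
      have hc' : Coh.IsCoh (pow' S (n + 1)) := isCoh_X₂ hs hc hO
      haveI : PreservesBinaryBiproducts St := preservesBinaryBiproducts_of_preservesBiproducts St
      let u : (St).obj (pow' S (n + 1)) ≅ ModuleCat.of _ ((St).obj (pow' S n) × (St).obj (Coh.structureModule S)) :=
        St.mapBiprod _ _ ≪≫ ModuleCat.biprodIsoProd _ _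
      haveI := hf
      haveI : Module.Finite (S.presheaf.stalk η) ((St).obj (Coh.structureModule S)) := AssSch12.finite_stalk hO η
      refine ⟨hc', ?_, Module.Finite.equiv u.toLinearEquiv.symm, ?_⟩
      · show ψ (pow' S n ⊞ Coh.structureModule S) = _
        rw [hψ _ hs hc hc' hO]
        show ψ (pow' S n) + ψ (Coh.structureModule S) = _
        rw [he]; push_cast; ring
      · rw [u.toLinearEquiv.finrank_eq]
        show Module.finrank _ ((St).obj (pow' S n) × (St).obj (Coh.structureModule S)) = _
        rw [Module.finrank_prod, hr]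
        exact congrArg (n + ·) (PicTau27.finrank_stalk_invertible AmpleLib.isInvertible_structureModule η)
  obtain ⟨hGc, hGψ, hGf, hGr⟩ := hpow (Module.finrank (S.presheaf.stalk η) (M.presheaf.stalk η))
  haveI : Module.Finite (S.presheaf.stalk η) ((St).obj M) := AssSch12.finite_stalk hM η
  haveI := hGf
  haveI : Module.Finite (S.presheaf.stalk η)
      ((pow' S (Module.finrank (S.presheaf.stalk η) (M.presheaf.stalk η))).presheaf.stalk η) := hGf
  haveI : Module.Finite (S.presheaf.stalk η) (M.presheaf.stalk η) := AssSch12.finite_stalk hM η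
  let e : (St).obj M ≃ₗ[S.presheaf.stalk η] (St).obj (pow' S (Module.finrank (S.presheaf.stalk η) (M.presheaf.stalk η))) :=
    (LinearEquiv.ofFinrankEq (R := S.presheaf.stalk η) (M.presheaf.stalk η)
      ((pow' S (Module.finrank (S.presheaf.stalk η) (M.presheaf.stalk η))).presheaf.stalk η) hGr.symm)
  have hk : Killed η 1 (pow' S (Module.finrank (S.presheaf.stalk η) (M.presheaf.stalk η))) := fun r hr m => by
    have : r = 0 := by
      rw [pow_one, IsLocalRing.maximalIdeal_eq_bot] at hr
      exact hr
    subst this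
    exact zero_smul _ m
  have := eq_of_stalk_iso (ψ := ψ) hψ (y := η) (Z := Set.univ) (fun N hN _ hη =>
    interDeg_eq_zero c (finDeg_chiCl k hN (lt_of_le_of_lt (dim_le_one hdim hN hη)
      (by exact_mod_cast (by omega : (1 : ℕ) < 2))))) hM hGc (Set.subset_univ _) (Set.subset_univ _)
    e.toModuleIso hk
  rw [hα M hM P hP, hα _ (Coherent.isCoh_structureModule S) PO hPO, this, hGψ]
  push_cast
  rfl

end

/-- Let k be an algebraically closed field of characteristic zero and S a K3 surface over k — a smooth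
projective surface (integral, smooth over k, of dimension two, with a closed immersion over k into
some projective space) whose structure sheaf is a second exterior power of its sheaf of
differentials and with H^1(S, O_S) = 0 — whose Picard group is infinite cyclic, generated by the
class of an ample invertible sheaf L. Let V be a coherent O_S-module with torsion-free stalks,
stable of dimension two with respect to L, and let P be its Hilbert polynomial with respect to L,
P(m) = χ(V ⊗ L^m). Assume: the leading coefficient of P is twice that of the Hilbert polynomial of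
O_S (V has rank two); the coefficients of m and of m^2 in P agree (on such a surface this says
c_1(V)·L = L^2, i.e. the first Chern class of V is the class of L); and P(0) = χ(V) ≥ 1
(equivalently c_2(V) ≤ L^2/2 + 3). Then V is an extension of L ⊗ I_Z by O_S for some finite
subscheme Z: there are a coherent subsheaf N ⊆ L with L/N supported in dimension at most zero and a
short exact sequence 0 → O_S → V → N → 0, which moreover does not split. -/
theorem result
    (k : Type u) [Field k] [IsAlgClosed k] [CharZero k]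
    (S : Scheme.{u}) [S.Over (Spec (CommRingCat.of k))] [IsIntegral S]
    [Smooth (S ↘ Spec (CommRingCat.of k))] (hdim : topologicalKrullDim S = 2)
    [IsProper (S ↘ Spec (CommRingCat.of k))]
    (hproj : ∃ (n : ℕ) (ι : S ⟶ CohB1.ProjSpace n k), IsClosedImmersion ι ∧
      ι ≫ CohB1.ProjSpace.toSpec n k = S ↘ Spec (CommRingCat.of k))
    (hK : Canon.IsTopDiff (S ↘ Spec (CommRingCat.of k)) 2 (Coh.structureModule S))
    (hq : Module.finrank k (Coh.HH S (Coh.structureModule S) 1) = 0)
    (L : S.Modules) (hLi : PicF.IsInvertible L) (hLa : CohB1.IsAmple L)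
    [PicGrp.Law S] (hgen : ∀ c : PicLoc.PicSet S, ∃ n : ℤ, c = PicGrp.cls L hLi ^ n)
    (hfree : ∀ n : ℤ, PicGrp.cls L hLi ^ n = 1 → n = 0)
    (V : S.Modules) (hV : Coh.IsCoh V) (hVtf : TorSh.IsTorsionFree V)
    (hst : ShStab.IsStable k S L V 2)
    (P PO : ℚ[X]) (hP : ShStab.IsHilbPoly k S L V P)
    (hPO : ShStab.IsHilbPoly k S L (Coh.structureModule S) PO)
    (hrk : P.coeff 2 = 2 * PO.coeff 2) (hc1 : P.coeff 1 = P.coeff 2) (hchi : 1 ≤ P.coeff 0) :
    ∃ (N : S.Modules) (ι : N ⟶ L) (_ : Mono ι) (_ : Coh.IsCoh N)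
      (_ : topologicalKrullDim (CohB1.support (cokernel ι)) ≤ 0)
      (a : Coh.structureModule S ⟶ V) (b : V ⟶ N) (w : a ≫ b = 0),
      (ShortComplex.mk a b w).ShortExact ∧
        ∀ r : V ⟶ Coh.structureModule S, a ≫ r ≠ 𝟙 (Coh.structureModule S) := by
  obtain ⟨nS, ιS, hιS, hιSk⟩ := hproj
  haveI := hιS
  haveI := DelPezzo19.smoothOfRelativeDimension_of_dim (S ↘ Spec (CommRingCat.of k)) 2 hdim
  haveI : ConnectedSpace S := inferInstance
  haveI := isNoetherian_of_proper (k := k) (X := S)
  haveI := isSeparated_of_proper (X := S) k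
  have hreg : ∀ x : S, IsRegularLocalRing (S.presheaf.stalk x) := fun x =>
    VarietyLib.isRegularLocalRing_stalk_of_smooth k S (S ↘ Spec (CommRingCat.of k)) x
  have hX : topologicalKrullDim S = ((2 : ℕ) : WithBot ℕ∞) := hdim
  have hOi := AmpleLib.isInvertible_structureModule (X := S)
  have hOc : Coh.IsCoh (Coh.structureModule S) := Coherent.isCoh_structureModule S
  have hLc : Coh.IsCoh L := CohBC.isCoh_of_isFinLocFree (Coherent.isFinLocFree_of_invertible hLi)
  have hO0 : ¬ IsZero (Coh.structureModule S) := fun h => one_ne_zero (α := Γ(S, ⊤))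
    (congrArg (fun φ : Coh.structureModule S ⟶ Coh.structureModule S => φ.app ⊤ (1 : Γ(S, ⊤)))
      ((IsZero.iff_id_eq_zero _).1 h))
  obtain ⟨-, hV0, hVp, hVst⟩ := hst
  have hVmu := S15210.result k S L hLa 2 (by norm_num) hX V
    (stable_to_semistable k ⟨hV, hV0, hVp, hVst⟩)
  have hPO' := hPO
  -- numerical invariants
  have hb : alpha 1 PO = 0 := by
    have hrr : ∀ m : ℕ, 2 * PO.eval (m : ℚ) =
        (Surf15.B k (InvCl.mk L hLi) (InvCl.mk L hLi) : ℚ) * (m : ℚ) ^ 2 + 2 * (Curv2.euler k S (Coh.structureModule S) : ℚ) := fun m => by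
      have h := Surf15.riemannRoch_cl k hX hK hOi (InvCl.mk L hLi ^ m)
      rw [eval_eq_chiCl k hLi hOi hPO m]
      have e1 : InvCl.mk (Coh.structureModule S) hOi * InvCl.mk L hLi ^ m = InvCl.mk L hLi ^ m := one_mul _
      have e2 : InvCl.mk (Coh.structureModule S) hOi = (1 : InvCl S) := rfl
      rw [e1]
      rw [e2, Surf15.B_one_right k hX.le, Surf15.B_pow_left k hX.le, Surf15.B_comm k,
        Surf15.B_pow_left k hX.le, chiCl_one, sub_zero] at h
      have h' := congrArg (Int.cast (R := ℚ)) h
      push_cast at h'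
      rw [h']
      ring
    have hp : C (2 : ℚ) * PO = C ((Surf15.B k (InvCl.mk L hLi) (InvCl.mk L hLi) : ℚ)) * Polynomial.X ^ 2 +
        C (2 * (Curv2.euler k S (Coh.structureModule S) : ℚ)) := poly_ext fun m => by
      simp only [Polynomial.eval_mul, Polynomial.eval_C, Polynomial.eval_add, Polynomial.eval_pow, Polynomial.eval_X]
      exact hrr m
    have h1 := congrArg (fun Q : ℚ[X] => Q.coeff 1) hp
    simp only [Polynomial.coeff_C_mul, Polynomial.coeff_add, Polynomial.coeff_X_pow, Polynomial.coeff_C] at h1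
    norm_num at h1
    simp [alpha, h1]
  have ha : 0 < alpha 2 PO := alpha_pos k hLa hOc hPO (by
    rw [support_eq_univ hOc (isTorsionFree_of_invertible hOi) hO0, dim_univ hdim])
  have hP2 : alpha 2 P = 2 * alpha 2 PO := by simp only [alpha, hrk]; ring
  have hP1 : alpha 1 P = alpha 2 PO := by simp [alpha, hc1, hrk]
  have slope : ∀ (W : S.Modules) (i : W ⟶ V), Mono i → Coh.IsCoh W → ∀ pW : ℚ[X],
      ShStab.IsHilbPoly k S L W pW → alpha 1 pW * alpha 2 P ≤ alpha 2 pW * alpha 1 P := fun W i hi hW pW hpW =>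
    haveI := hi
    slope_sub k hLa hVp hVmu i hW hpW hP
  have hPL := isHilbPoly_hp k hLa _ hLc
  have hsh := alpha_comp_shift (natDegree_le k hOc hdim hLi hPO) ((1 : ℕ) : ℚ)
  rw [← poly_of_mk_eq_pow k (hL := hLi) hLi hPL hPO (pow_one _).symm, Nat.cast_one, one_mul, hb, zero_add] at hsh
  -- no maps to the structure sheaf
  have hhom : ∀ φ : V ⟶ Coh.structureModule S, φ = 0 := fun φ => by
    by_contra hφ
    have hI := isCoh_image φ hV hOc
    have hPI := isHilbPoly_hp k hLa _ hI
    obtain ⟨RI, -, -, -, hI2, hI1, hRI⟩ := alpha_two_of_sub k hdim hLa hOi (Abelian.image.ι φ) hI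
      (image_ne_zero hφ) hPI hPO
    have hKc : Coh.IsCoh (kernel φ) := isCoh_kernel φ hV hOc.1
    have hPK := isHilbPoly_hp k hLa _ hKc
    let T : ShortComplex S.Modules := ShortComplex.mk (kernel.ι φ) (Abelian.factorThruImage φ) (by
      rw [← cancel_mono (Abelian.image.ι φ), Category.assoc, Abelian.image.fac, kernel.condition, Limits.zero_comp])
    have hT : T.ShortExact :=
      { mono_f := inferInstanceAs (Mono (kernel.ι φ))
        epi_g := inferInstanceAs (Epi (Abelian.factorThruImage φ))
        exact := ShortComplex.exact_of_f_is_kernel _ (isKernelOfComp (f := Abelian.factorThruImage φ)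
          (Abelian.image.ι φ) φ (kernelIsKernel φ) T.zero (Abelian.image.fac φ)) }
    have hadd : P = hp k hLa _ hKc + hp k hLa _ hI := hilb_ses k hLa hT hKc hV hI hPK hP hPI
    have h2 := slope _ (kernel.ι φ) inferInstance hKc _ hPK
    have e2 : alpha 2 P = alpha 2 (hp k hLa _ hKc) + alpha 2 (hp k hLa _ hI) := by rw [hadd, alpha_add]
    have e1 : alpha 1 P = alpha 1 (hp k hLa _ hKc) + alpha 1 (hp k hLa _ hI) := by rw [hadd, alpha_add]
    have hK2 : alpha 2 (hp k hLa _ hKc) = alpha 2 PO := by linarith
    have hK1 : alpha 2 PO ≤ alpha 1 (hp k hLa _ hKc) := by linarith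
    rw [hP2, hP1, hK2] at h2
    nlinarith
  -- a section
  obtain ⟨-, -, t, ht⟩ := PnCanon5.exists_trace_topForms k 2 nS ιS hιSk (Coh.structureModule S) hK
  have hh2 : Module.finrank k (Coh.HH S V 2) = 0 := by
    haveI : Module.Finite k (Coh.HH S V 2) :=
      (finite_HH_iff k V 2).2 (finCoh_of_isProper (S ↘ Spec (CommRingCat.of k)) _ hV 2)
    have hsub : Subsingleton (Coh.HH S V 2 →ₗ[k] k) := subsingleton_of_forall_eq 0 fun ψ => by
      obtain ⟨φ, rfl⟩ := (ht V hV).2 ψ
      rw [hhom φ, map_zero]
    rw [← Subspace.dual_finrank_eq]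
    exact Module.finrank_zero_of_subsingleton
  have hh0 : 0 < Module.finrank k (Coh.HH S V 0) := by
    have he : (1 : ℚ) ≤ (Curv2.euler k S (ShStab.twist S L V 0) : ℚ) := by
      rw [hP 0]
      rw [Nat.cast_zero, ← Polynomial.coeff_zero_eq_eval_zero]
      exact hchi
    have he' : (1 : ℤ) ≤ Curv2.euler k S (ShStab.twist S L V 0) := by exact_mod_cast he
    rw [euler_twist_eq k hLi, pow_zero, chiCl_one, Surf15.euler_three k hX.le hV.1, hh2] at he'
    omega
  obtain ⟨s, hs⟩ : ∃ s : Γ(V, ⊤), s ≠ 0 := by
    haveI := Module.nontrivial_of_finrank_pos hh0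
    obtain ⟨z, hz⟩ := exists_ne (0 : Coh.HH S V 0)
    exact ⟨CurveRR24.hhZero k V z, fun h => hz ((CurveRR24.hhZero k V).map_eq_zero_iff.1 h)⟩
  let a := Coherent.unitDesc V s
  have ha0 : a ≠ 0 := fun h => hs (by
    have := Coherent.unitVal_unitDesc V s ⊤
    rw [resM_self, show Coherent.unitDesc V s = 0 from h] at this
    exact this.symm.trans rfl)
  haveI hamono : Mono a := Preadditive.mono_of_isZero_kernel _ (by
    by_contra hk
    have hkc : Coh.IsCoh (kernel a) := isCoh_kernel a hOc hV.1
    have hη := generic_notMem_cokernel hOi (kernel.ι a) hkc hk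
    have hI := isCoh_image a hOc hV
    refine image_ne_zero ha0 (isZero_of_torsionFree hI.1
      (Surf15.isTorsionFree_of_mono (Abelian.image.ι a) hVtf) fun hmem => hη ?_)
    haveI : Epi (cokernel.desc (kernel.ι a) (Abelian.factorThruImage a) (by
        rw [← cancel_mono (Abelian.image.ι a), Category.assoc, Abelian.image.fac, kernel.condition,
          Limits.zero_comp])) := epi_of_epi_fac (cokernel.π_desc _ _ _)
    exact support_subset_of_epi (cokernel.desc (kernel.ι a) (Abelian.factorThruImage a) _) hmem)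
  let Q := cokernel a
  let b : V ⟶ Q := cokernel.π a
  have hex : (ShortComplex.mk a b (cokernel.condition a)).ShortExact := shortExact_cokernel a
  have hQc : Coh.IsCoh Q := isCoh_cokernel a hOc.1 hV
  have hPQ := isHilbPoly_hp k hLa _ hQc
  have hPadd : P = PO + hp k hLa _ hQc := hilb_ses k hLa hex hOc hV hQc hPO hP hPQ
  have hQ2 : alpha 2 (hp k hLa _ hQc) = alpha 2 PO := by
    have : alpha 2 P = alpha 2 PO + alpha 2 (hp k hLa _ hQc) := by rw [hPadd, alpha_add]
    linarith
  have hQ1 : alpha 1 (hp k hLa _ hQc) = alpha 2 PO := by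
    have : alpha 1 P = alpha 1 PO + alpha 1 (hp k hLa _ hQc) := by rw [hPadd, alpha_add]
    linarith
  -- the bidual of the quotient
  let D := RefHull.ddual Q
  let β : Q ⟶ D := RefHull.bidualMap Q
  have hDc : Coh.IsCoh D := RefHullLib.isCoh_ddual hQc
  let ηS := genericPoint S
  let _ : Field (S.presheaf.stalk ηS) := inferInstanceAs (Field S.functionField)
  have hβη : Function.Bijective (RefHull.stalkMapₗ β ηS) := RefHullLib.bijective_stalk_bidualMap_genericPoint hQc
  -- the kernel of the bidual map is torsion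
  have hKβ : IsZero (kernel β) := by
    by_contra hk
    have hkc : Coh.IsCoh (kernel β) := isCoh_kernel β hQc hDc.1
    have hkη : ηS ∉ CohB1.support (kernel β) := fun h => h (subsingleton_of_forall_eq 0 fun x => by
      have h0 : (DerSch.stalkFunctor S ηS).map β ((DerSch.stalkFunctor S ηS).map (kernel.ι β) x) = 0 := by
        rw [stalk_comp_apply, kernel.condition]
        exact stalk_zero_apply _
      have h1 : (DerSch.stalkFunctor S ηS).map (kernel.ι β) x = 0 := hβη.1 (h0.trans (map_zero _).symm)
      exact (ModuleCat.mono_iff_injective ((DerSch.stalkFunctor S ηS).map (kernel.ι β))).1 inferInstance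
        (h1.trans (map_zero _).symm))
    let F := kernel (b ≫ β)
    have hFc : Coh.IsCoh F := isCoh_kernel _ hV hDc.1
    let l : Coh.structureModule S ⟶ F := kernel.lift _ a (by rw [cokernel.condition_assoc, Limits.zero_comp])
    have hlι : l ≫ kernel.ι (b ≫ β) = a := kernel.lift_ι _ _ _
    haveI : Mono l := by
      haveI : Mono (l ≫ kernel.ι (b ≫ β)) := by rw [hlι]; infer_instance
      exact mono_of_mono l (kernel.ι _)
    have hFt := Surf15.isTorsionFree_of_mono (kernel.ι (b ≫ β)) hVtf
    have hcc : Coh.IsCoh (cokernel l) := isCoh_cokernel l hOc.1 hFc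
    have hcη : ηS ∉ CohB1.support (cokernel l) := fun h => h (subsingleton_of_forall_eq 0 fun x => by
      let St := DerSch.stalkFunctor S ηS
      obtain ⟨f, rfl⟩ := (ModuleCat.epi_iff_surjective (St.map (cokernel.π l))).1 inferInstance x
      have h0 : St.map β (St.map b (St.map (kernel.ι (b ≫ β)) f)) = 0 := by
        rw [stalk_comp_apply, stalk_comp_apply]
        rw [show (kernel.ι (b ≫ β) ≫ b ≫ β) = 0 from kernel.condition _]
        exact stalk_zero_apply _
      have h1 : St.map b (St.map (kernel.ι (b ≫ β)) f) = 0 := hβη.1 (h0.trans (map_zero _).symm)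
      obtain ⟨o, ho⟩ := ((ShortComplex.ShortExact.moduleCat_exact_iff_function_exact _).1
        (hex.exact.map St) _).1 h1
      have h2 : f = St.map l o :=
        (ModuleCat.mono_iff_injective (St.map (kernel.ι (b ≫ β)))).1 inferInstance (by
          rw [stalk_comp_apply, hlι]; exact ho.symm)
      rw [h2, stalk_comp_apply, cokernel.condition]
      exact stalk_zero_apply _)
    have hc1' := dim_le_one hdim hcc hcη
    have hPF := isHilbPoly_hp k hLa _ hFc
    have hPc := isHilbPoly_hp k hLa _ hcc
    have hFadd : hp k hLa _ hFc = PO + hp k hLa _ hcc :=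
      hilb_ses k hLa (shortExact_cokernel l) hOc hFc hcc hPO hPF hPc
    by_cases hd0 : topologicalKrullDim (CohB1.support (cokernel l)) ≤ (0 : ℕ)
    · haveI := epi_of_finite_cokernel k hdim hFc hFt l hd0 hcη
      refine hk (IsZero.of_mono_eq_zero (kernel.ι β) ?_)
      obtain ⟨A, π, hπ, v, hv⟩ := surjective_up_to_refinements_of_epi b (kernel.ι β)
      let w := kernel.lift (b ≫ β) v (by rw [← Category.assoc, ← hv, Category.assoc, kernel.condition, Limits.comp_zero])
      obtain ⟨A', π', hπ', o, ho⟩ := surjective_up_to_refinements_of_epi l w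
      rw [← cancel_epi π, ← cancel_epi π', hv, Limits.comp_zero, Limits.comp_zero,
        show v = w ≫ kernel.ι (b ≫ β) from (kernel.lift_ι _ _ _).symm, Category.assoc, ← Category.assoc π' w, ho,
        Category.assoc, reassoc_of% hlι, cokernel.condition, Limits.comp_zero]
    · obtain ⟨ξ, hξT, hξ⟩ := exists_curve k (isClosed_support _ (locallyFinGen_of_isFT _ hcc.2)) hc1' hd0
      have hC := isHilbPoly_hp k hLa _ (isCoh_clM ξ)
      have h1 := alpha_ge_clM k hLa hξ hcc hc1' hξT hPc hC
      have h2 := alpha_clM_ge k hdim hLa hreg hgen hξ hPO hC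
      have h3 := slope F (kernel.ι _) inferInstance hFc _ hPF
      have h4 : alpha 2 (hp k hLa _ hcc) = 0 :=
        alpha_eq_zero_of_dim_lt k hLi hcc hPc (lt_of_le_of_lt hc1' (by exact_mod_cast (by omega : (1 : ℕ) < 2)))
      rw [hFadd, alpha_add, alpha_add, h4, hb, hP2, hP1] at h3
      nlinarith
  haveI : Mono β := Preadditive.mono_of_isZero_kernel _ hKβ
  haveI := AssSch12.finite_stalk hQc ηS
  haveI := AssSch12.finite_stalk hDc ηS
  have hQr : Module.finrank (S.presheaf.stalk ηS) (Q.presheaf.stalk ηS) = 1 := by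
    have h := alpha_two_eq_finrank k hdim hLa hQc hPQ hPO
    rw [hQ2] at h
    have h' : ((Module.finrank (S.presheaf.stalk ηS) (Q.presheaf.stalk ηS) : ℕ) : ℚ) = 1 := by
      have := mul_right_cancel₀ ha.ne' ((one_mul (alpha 2 PO)).trans h)
      exact this.symm
    exact_mod_cast h'
  have hDr : Module.finrank (S.presheaf.stalk ηS) (D.presheaf.stalk ηS) = 1 :=
    (LinearEquiv.ofBijective (RefHull.stalkMapₗ β ηS) hβη).finrank_eq.symm.trans hQr
  have hDrk : RefHull.GenInvertible D := by
    obtain ⟨t₀, ht₀⟩ := (finrank_eq_one_iff' (K := S.presheaf.stalk ηS) (V := D.presheaf.stalk ηS)).1 hDr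
    refine RefHullLib.genInvertible_of_bijective_genericPoint hDc t₀ ⟨fun x y h => ?_, fun v => ht₀.2 v⟩
    exact smul_left_injective (S.presheaf.stalk ηS) ht₀.1 h
  have hDi : PicF.IsInvertible D := RefHullLib.isInvertible_of_isReflexive_of_genInvertible
    (fun x => haveI := hreg x; CAlgH3.ufm_of_regular (S.presheaf.stalk x)) hDc
    (RefHullLib.isReflexiveAt_ddual hQc) hDrk
  have hQt : TorSh.IsTorsionFree Q := Surf15.isTorsionFree_of_mono β (isTorsionFree_of_invertible hDi)
  have hPD := isHilbPoly_hp k hLa _ hDc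
  have hQ0 : ¬ IsZero Q := fun h => by
    have h2 := hQ2
    rw [hilb_zero k hLa h hPQ] at h2
    simp [alpha] at h2
    simp [alpha] at ha
    linarith
  obtain ⟨R, hR, hRc, hR1, -, hQD, -⟩ := alpha_two_of_sub k hdim hLa hDi β hQc hQ0 hPQ hPD
  have hR0 : topologicalKrullDim (CohB1.support (cokernel β)) ≤ (0 : ℕ) := by
    by_contra hd0
    obtain ⟨ξ, hξT, hξ⟩ := exists_curve k (isClosed_support _ (locallyFinGen_of_isFT _ hRc.2)) hR1 hd0
    haveI := hreg ξ
    haveI := hQt ξ
    haveI := AssSch12.finite_stalk hQc ξ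
    have hsur : Function.Surjective (RefHull.stalkMapₗ β ξ) := RefHullLib.stalk_bidualMap_surjective hQc ξ
      (RefHullLib.free_of_torsionFree_of_dim_le_one (stalk_dim_le_one k hdim hξ)
        RefHullLib.isTorsionFree_quotient_torsion)
    exact hξT (subsingleton_of_forall_eq 0 fun x => by
      obtain ⟨d, rfl⟩ := (ModuleCat.epi_iff_surjective
        ((DerSch.stalkFunctor S ξ).map (cokernel.π β))).1 inferInstance x
      obtain ⟨q, rfl⟩ := hsur d
      refine (stalk_comp_apply β (cokernel.π β) q).trans ?_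
      rw [cokernel.condition]
      exact stalk_zero_apply _)
  have hR10 : alpha 1 R = 0 :=
    alpha_eq_zero_of_dim_lt k hLi hRc hR (lt_of_le_of_lt hR0 (by exact_mod_cast Nat.one_pos))
  obtain ⟨z, hz⟩ := hgen (PicGrp.cls D hDi)
  cases z with
  | negSucc n =>
    exfalso
    have hz' : PicGrp.cls D hDi * PicGrp.cls L hLi ^ (n + 1) = 1 := by
      rw [hz, zpow_negSucc, inv_mul_cancel]
    have hv := congrArg Subtype.val hz'
    rw [PicGrp.mul_val, PicGrp.cls_pow_val, PicGrp.cls_val, PicGrp.mulCl_cl, PicGrp.one_val] at hv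
    obtain ⟨e⟩ := (PicGrp.cl_eq_cl_iff _ _).1 hv
    have hmk : InvCl.mk D hDi * InvCl.mk L hLi ^ (n + 1) = 1 := by
      rw [← InvCl.mk_tensorPow hLi (n + 1), InvCl.mk_mul]
      exact InvCl.mk_eq _ _ e
    have hs' := alpha_comp_shift (natDegree_le k hDc hdim hLi hPD) ((n + 1 : ℕ) : ℚ)
    rw [← poly_of_mk_mul_pow k hDi hPD hPO hmk, hb] at hs'
    rw [hQ1, hR10, sub_zero] at hQD
    have e3 : (0 : ℚ) ≤ ((n + 1 : ℕ) : ℚ) := Nat.cast_nonneg _
    nlinarith [hs'.1, hs'.2]
  | ofNat n =>
    have hz' : PicGrp.cls D hDi = PicGrp.cls L hLi ^ n := by simpa using hz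
    obtain ⟨e⟩ := (PicGrp.cl_eq_cl_iff _ _).1 ((congrArg Subtype.val hz').trans (PicGrp.cls_pow_val hLi n))
    have hmk : InvCl.mk D hDi = InvCl.mk L hLi ^ n :=
      (InvCl.mk_eq hDi (AmpleLib.isInvertible_tensorPow hLi n) e).trans (InvCl.mk_tensorPow hLi n)
    have e1 := (alpha_comp_shift (natDegree_le k hOc hdim hLi hPO) n).2
    rw [← poly_of_mk_eq_pow k hDi hPD hPO hmk, hb, zero_add] at e1
    have hn : (n : ℚ) = 1 := by
      rw [hQ1, hR10, sub_zero, e1] at hQD
      exact mul_right_cancel₀ ha.ne' (hQD.symm.trans (one_mul _).symm)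
    have hn' : n = 1 := by exact_mod_cast hn
    subst hn'
    let eL : D ≅ L := e ≪≫ AmpleLib.unitTensorIso L
    refine ⟨Q, β ≫ eL.hom, inferInstance, hQc, ?_, a, b, cokernel.condition a, hex, fun r hr => ?_⟩
    · refine le_trans (le_of_eq ?_) (by exact_mod_cast hR0)
      rw [support_eq_of_iso (cokernelCompIsIso β eL.hom)]
    let sec : Q ⟶ V := cokernel.desc a (𝟙 V - r ≫ a) (by
      rw [Preadditive.comp_sub, Category.comp_id, ← Category.assoc, hr, Category.id_comp, sub_self])
    have hsec : sec ≫ b = 𝟙 Q := by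
      apply coequalizer.hom_ext
      show cokernel.π a ≫ sec ≫ b = cokernel.π a ≫ 𝟙 Q
      rw [cokernel.π_desc_assoc, Preadditive.sub_comp, Category.id_comp, Category.assoc, cokernel.condition,
        Limits.comp_zero, sub_zero, Category.comp_id]
    haveI : Mono sec := mono_of_mono_fac hsec
    have h := slope Q sec inferInstance hQc _ hPQ
    rw [hQ1, hQ2, hP2, hP1] at h
    nlinarith

end Groth.Agent.S15853
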