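import Groth.Statements.S15854
import Groth.Agent.Mod22.RankOneHull
import Groth.Agent.SerreDual.TwistEquiv
-- import your own Groth.Agent.* helpers here

set_option autoImplicit false
universe u
open CategoryTheory CategoryTheory.Limits AlgebraicGeometry Polynomial
open ShStab

namespace Groth.Agent.S15854

open CategoryTheory CategoryTheory.Limits AlgebraicGeometry Polynomial StabCat TopologicalSpace
open Groth.Agent.Coherent Groth.Agent.EulerLib Groth.Agent.DimLib Groth.Agent.Mod22.RankOneSlope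
open Groth.Agent.Mod22.RankOneHull Groth.Agent.AssSch12 Groth.Agent.PicLib Groth.Agent.AmpleLib

set_option linter.style.haveILetI false
set_option backward.isDefEq.respectTransparency.types false
set_option maxHeartbeats 1000000

/-- Let k be an algebraically closed field of characteristic zero and S a K3 surface over k — a smooth
projective surface (integral, smooth over k, of dimension two, with a closed immersion over k into
some projective space) whose structure sheaf is a second exterior power of its sheaf of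
differentials and with H^1(S, O_S) = 0 — whose Picard group is infinite cyclic, generated by the
class of an ample invertible sheaf L. Let V be a locally free O_S-module of rank two, stable of
dimension two with respect to L, with Hilbert polynomial P, P(m) = χ(V ⊗ L^m), such that the
coefficients of m and m^2 in P agree (c_1(V)·L = L^2, i.e. the first Chern class of V is the class
of L), and let n be a natural number with P(n) = χ(V ⊗ L^n) ≥ 1 (by Riemann–Roch this is the bound
c_2(V) ≤ (n^2 + n + 1/2) L^2 + 3). Then V is an extension of type m for some m ≤ n: there are a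
natural number m ≤ n, an invertible O_S-module M whose class is the inverse of the class of L^{⊗m},
a coherent subsheaf N ⊆ L^{⊗(m+1)} whose quotient is supported in dimension at most zero (N is
L^{⊗(m+1)} twisted by the ideal of a finite subscheme Z_m), and a short exact sequence 0 → M → V → N
→ 0. (The published statement also records the length of Z_m as c_2 + m(m+1)L^2; that Chern-class
bookkeeping is not restated here. The published statement also assumes the lower bound c_2 >
((n-1)^2 + (n-1) + 1/2) L^2 + 3 with n ≥ 1; the argument uses only the upper bound, and neither the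
lower bound nor n ≥ 1 is assumed here.) -/
theorem result
    (k : Type u) [Field k] [IsAlgClosed k] [CharZero k]
    (S : Scheme.{u}) [S.Over (Spec (CommRingCat.of k))] [IsIntegral S]
    [Smooth (S ↘ Spec (CommRingCat.of k))] (hdim : topologicalKrullDim S = 2)
    [IsProper (S ↘ Spec (CommRingCat.of k))]
    (hproj : ∃ (n : ℕ) (ι : S ⟶ CohB1.ProjSpace n k), IsClosedImmersion ι ∧
      ι ≫ CohB1.ProjSpace.toSpec n k = S ↘ Spec (CommRingCat.of k))
    (hK : Canon.IsTopDiff (S ↘ Spec (CommRingCat.of k)) 2 (Coh.structureModule S))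
    (hq : Module.finrank k (Coh.HH S (Coh.structureModule S) 1) = 0)
    (L : S.Modules) (hLi : PicF.IsInvertible L) (hLa : CohB1.IsAmple L)
    [PicGrp.Law S] (hgen : ∀ c : PicLoc.PicSet S, ∃ n : ℤ, c = PicGrp.cls L hLi ^ n)
    (hfree : ∀ n : ℤ, PicGrp.cls L hLi ^ n = 1 → n = 0)
    (V : S.Modules) (hV : FlatMod.IsFinLocFreeOfRank 2 V)
    (hst : ShStab.IsStable k S L V 2)
    (P : ℚ[X]) (hP : ShStab.IsHilbPoly k S L V P) (hc1 : P.coeff 1 = P.coeff 2)
    (n : ℕ) (hn : 1 ≤ P.eval (n : ℚ)) :
    ∃ (m : ℕ) (_ : m ≤ n) (M : S.Modules) (hM : PicF.IsInvertible M)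
      (_ : PicGrp.cls M hM * PicGrp.cls L hLi ^ m = 1)
      (N : S.Modules) (ι : N ⟶ CohB1.tensorPow L (m + 1)) (_ : Mono ι) (_ : Coh.IsCoh N)
      (_ : topologicalKrullDim (CohB1.support (cokernel ι)) ≤ 0)
      (a : M ⟶ V) (b : V ⟶ N) (w : a ≫ b = 0),
      (ShortComplex.mk a b w).ShortExact := by
  obtain ⟨nS, ιS, hιS, hιSk⟩ := hproj
  haveI := hιS
  haveI := DelPezzo19.smoothOfRelativeDimension_of_dim (S ↘ Spec (CommRingCat.of k)) 2 hdim
  haveI : ConnectedSpace S := inferInstance
  haveI := isNoetherian_of_proper (k := k) (X := S)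
  haveI := isSeparated_of_proper (X := S) k
  have hX : topologicalKrullDim S = ((2 : ℕ) : WithBot ℕ∞) := hdim
  have hOi := AmpleLib.isInvertible_structureModule (X := S)
  have hOc : Coh.IsCoh (Coh.structureModule S) := Coherent.isCoh_structureModule S
  have hVf := VarietyLib.isFinLocFree_of_rank hV
  have hVc : Coh.IsCoh V := CohBC.isCoh_of_isFinLocFree hVf
  have hVfree : ∀ x : S, Module.Free (S.presheaf.stalk x) (V.presheaf.stalk x) := fun x =>
    haveI := hVc.1
    Props12.free_stalk_of_isFinLocFree V hVf x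
  have hVt : TorSh.IsTorsionFree V := fun x => by haveI := hVfree x; infer_instance
  have hVr : ∀ x, RefHull.IsReflexiveAt V x := fun x => by
    haveI := hVfree x
    haveI := AssSch12.finite_stalk hVc x
    show Module.IsReflexive _ _
    infer_instance
  obtain ⟨-, hV0, hVp, hVst⟩ := hst
  have hVmu := S15210.result k S L hLa 2 (by norm_num) hX V
    (stable_to_semistable k ⟨hVc, hV0, hVp, hVst⟩)
  have hPO := isHilbPoly_hp k hLa _ hOc
  let PO := hp k hLa _ hOc
  have hb : alpha 1 PO = 0 := alpha_one_structure k hdim hLa hK hPO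
  let η := genericPoint S
  have ha : 0 < alpha 2 PO := alpha_pos k hLa hOc hPO (by
    rw [support_eq_univ hOc (isTorsionFree_of_invertible hOi) (fun h => one_ne_zero (α := Γ(S, ⊤))
      (congrArg (fun φ : Coh.structureModule S ⟶ Coh.structureModule S => φ.app ⊤ (1 : Γ(S, ⊤)))
        ((IsZero.iff_id_eq_zero _).1 h))), dim_univ hdim])
  have hP2 : alpha 2 P = 2 * alpha 2 PO := by
    rw [S15853.alpha_two_eq_finrank k hdim hLa hVc hP hPO, VarietyLib.finrank_stalk_of_rank hV]
    norm_num [PO]
  have hP1 : alpha 1 P = alpha 2 PO := by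
    have h2 : alpha 2 P = 2 * P.coeff 2 := by simp [alpha]
    have h1 : alpha 1 P = P.coeff 1 := by simp [alpha]
    rw [h1, hc1]; linarith
  have slope : ∀ (W : S.Modules) (i : W ⟶ V), Mono i → Coh.IsCoh W → ∀ pW : ℚ[X],
      ShStab.IsHilbPoly k S L W pW → alpha 1 pW * alpha 2 P ≤ alpha 2 pW * alpha 1 P := fun W i hi hW pW hpW =>
    haveI := hi
    slope_sub k hLa hVp hVmu i hW hpW hP
  -- the inverse of `L^n`
  have hLn := AmpleLib.isInvertible_tensorPow hLi n
  obtain ⟨J, hJ, hJc⟩ := PicGrp.exists_eq_cls ((PicGrp.cls L hLi ^ n)⁻¹)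
  have hJmul : PicGrp.cls J hJ * PicGrp.cls L hLi ^ n = 1 := by rw [← hJc, inv_mul_cancel]
  have hv := congrArg Subtype.val hJmul
  rw [PicGrp.mul_val, PicGrp.cls_pow_val, PicGrp.cls_val, PicGrp.mulCl_cl, PicGrp.one_val] at hv
  obtain ⟨eJ⟩ := (PicGrp.cl_eq_cl_iff _ _).1 hv
  have hJc' := CohBC.isCoh_of_isFinLocFree (Coherent.isFinLocFree_of_invertible hJ)
  have hPJ := isHilbPoly_hp k hLa _ hJc'
  obtain ⟨zJ, hzJ, hJ1, hJ2⟩ := exists_degree k hdim hLa hgen hJ hPJ hPO
  have hzJn : zJ = -(n : ℤ) := by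
    have h1 : PicGrp.cls L hLi ^ (zJ + (n : ℤ)) = 1 := by
      rw [zpow_add, zpow_natCast, ← hzJ, hJmul]
    have := hfree _ h1
    omega
  rw [hzJn, hb, zero_add, Int.cast_neg, Int.cast_natCast] at hJ1
  let Tn := SerreDual.twistF (CohB1.tensorPow L n)
  let TJ := SerreDual.twistF J
  obtain ⟨u⟩ := SerreDual.exists_cancelIso hLn hJ (tensorComm _ _ ≪≫ eJ)
  haveI hTJ : TJ.IsEquivalence := SerreDual.isEquivalence_twistF hLn hJ (tensorComm _ _ ≪≫ eJ)
  let uO : TJ.obj (Coh.structureModule S) ≅ J := unitTensorIso J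
  let uV : TJ.obj (Tn.obj V) ≅ V := u.app V
  -- no maps from the twist to the structure sheaf
  have hVnc : Coh.IsCoh (Tn.obj V) := isCoh_twist hLn hVc
  have hhom : ∀ φ₀ : Tn.obj V ⟶ Coh.structureModule S, φ₀ = 0 := fun φ₀ => by
    by_contra hφ0
    let φ : V ⟶ J := uV.inv ≫ TJ.map φ₀ ≫ uO.hom
    have hφ : φ ≠ 0 := fun h => hφ0 (TJ.map_injective (by
      rw [TJ.map_zero]
      have := congrArg (fun ψ => uV.hom ≫ ψ ≫ uO.inv) h
      simpa [φ] using this))
    have hI := isCoh_image φ hVc hJc'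
    have hPI := isHilbPoly_hp k hLa _ hI
    obtain ⟨RI, -, -, -, hI2, hI1, hRI⟩ := alpha_two_of_sub k hdim hLa hJ (Abelian.image.ι φ) hI
      (image_ne_zero hφ) hPI hPJ
    have hKc : Coh.IsCoh (kernel φ) := isCoh_kernel φ hVc hJc'.1
    have hPK := isHilbPoly_hp k hLa _ hKc
    let T : ShortComplex S.Modules := ShortComplex.mk (kernel.ι φ) (Abelian.factorThruImage φ) (by
      rw [← cancel_mono (Abelian.image.ι φ), Category.assoc, Abelian.image.fac, kernel.condition, Limits.zero_comp])
    have hT : T.ShortExact :=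
      { mono_f := inferInstanceAs (Mono (kernel.ι φ))
        epi_g := inferInstanceAs (Epi (Abelian.factorThruImage φ))
        exact := ShortComplex.exact_of_f_is_kernel _ (isKernelOfComp (f := Abelian.factorThruImage φ)
          (Abelian.image.ι φ) φ (kernelIsKernel φ) T.zero (Abelian.image.fac φ)) }
    have hadd : P = hp k hLa _ hKc + hp k hLa _ hI := hilb_ses k hLa hT hKc hVc hI hPK hP hPI
    have h2 := slope _ (kernel.ι φ) inferInstance hKc _ hPK
    have e2 : alpha 2 P = alpha 2 (hp k hLa _ hKc) + alpha 2 (hp k hLa _ hI) := by rw [hadd, alpha_add]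
    have e1 : alpha 1 P = alpha 1 (hp k hLa _ hKc) + alpha 1 (hp k hLa _ hI) := by rw [hadd, alpha_add]
    have hK2 : alpha 2 (hp k hLa _ hKc) = alpha 2 PO := by linarith
    have hn0 : (0 : ℚ) ≤ (n : ℚ) * alpha 2 PO := mul_nonneg (Nat.cast_nonneg n) ha.le
    have hK1 : alpha 2 PO ≤ alpha 1 (hp k hLa _ hKc) := by linarith
    rw [hP2, hP1, hK2] at h2
    nlinarith
  -- a section of the twist
  obtain ⟨-, -, t, ht⟩ := PnCanon5.exists_trace_topForms k 2 nS ιS hιSk (Coh.structureModule S) hK
  have hh2 : Module.finrank k (Coh.HH S (Tn.obj V) 2) = 0 := by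
    haveI : Module.Finite k (Coh.HH S (Tn.obj V) 2) :=
      (finite_HH_iff k (Tn.obj V) 2).2 (finCoh_of_isProper (S ↘ Spec (CommRingCat.of k)) _ hVnc 2)
    have hsub : Subsingleton (Coh.HH S (Tn.obj V) 2 →ₗ[k] k) := subsingleton_of_forall_eq 0 fun ψ => by
      obtain ⟨φ, rfl⟩ := (ht _ hVnc).2 ψ
      rw [hhom φ, map_zero]
    rw [← Subspace.dual_finrank_eq]
    exact Module.finrank_zero_of_subsingleton
  have hh0 : 0 < Module.finrank k (Coh.HH S (Tn.obj V) 0) := by
    have he : (1 : ℚ) ≤ (Curv2.euler k S (Tn.obj V) : ℚ) := by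
      show (1 : ℚ) ≤ (Curv2.euler k S (ShStab.twist S L V n) : ℚ)
      rw [hP n]
      exact hn
    have he' : (1 : ℤ) ≤ Curv2.euler k S (Tn.obj V) := by exact_mod_cast he
    rw [Surf15.euler_three k hX.le hVnc.1, hh2] at he'
    omega
  obtain ⟨s, hs⟩ : ∃ s : Γ(Tn.obj V, ⊤), s ≠ 0 := by
    haveI := Module.nontrivial_of_finrank_pos hh0
    obtain ⟨z, hz⟩ := exists_ne (0 : Coh.HH S (Tn.obj V) 0)
    exact ⟨CurveRR24.hhZero k (Tn.obj V) z, fun h => hz ((CurveRR24.hhZero k (Tn.obj V)).map_eq_zero_iff.1 h)⟩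
  let a₁ := Coherent.unitDesc (Tn.obj V) s
  have ha1 : a₁ ≠ 0 := fun h => hs (by
    have := Coherent.unitVal_unitDesc (Tn.obj V) s ⊤
    rw [resM_self, show Coherent.unitDesc (Tn.obj V) s = 0 from h] at this
    exact this.symm.trans rfl)
  let a : J ⟶ V := uO.inv ≫ TJ.map a₁ ≫ uV.hom
  have ha0 : a ≠ 0 := fun h => ha1 (TJ.map_injective (by
    rw [TJ.map_zero]
    have := congrArg (fun ψ => uO.hom ≫ ψ ≫ uV.inv) h
    simpa [a] using this))
  haveI hamono : Mono a := Preadditive.mono_of_isZero_kernel _ (by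
    by_contra hk
    have hkc : Coh.IsCoh (kernel a) := isCoh_kernel a hJc' hVc.1
    have hη := generic_notMem_cokernel hJ (kernel.ι a) hkc hk
    have hI := isCoh_image a hJc' hVc
    refine image_ne_zero ha0 (isZero_of_torsionFree hI.1
      (Surf15.isTorsionFree_of_mono (Abelian.image.ι a) hVt) fun hmem => hη ?_)
    haveI : Epi (cokernel.desc (kernel.ι a) (Abelian.factorThruImage a) (by
        rw [← cancel_mono (Abelian.image.ι a), Category.assoc, Abelian.image.fac, kernel.condition,
          Limits.zero_comp])) := epi_of_epi_fac (cokernel.π_desc _ _ _)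
    exact support_subset_of_epi (cokernel.desc (kernel.ι a) (Abelian.factorThruImage a) _) hmem)
  -- saturation
  let Q₀ := cokernel a
  have hQ₀ : Coh.IsCoh Q₀ := isCoh_cokernel a hJc'.1 hVc
  let D₀ := RefHull.ddual Q₀
  have hD₀ : Coh.IsCoh D₀ := RefHullLib.isCoh_ddual hQ₀
  let β₀ := RefHull.bidualMap Q₀
  have hβ₀ := RefHullLib.bijective_stalk_bidualMap_genericPoint hQ₀
  let f : V ⟶ D₀ := cokernel.π a ≫ β₀
  let F := kernel f
  let κ : F ⟶ V := kernel.ι f
  have hFc : Coh.IsCoh F := isCoh_kernel f hVc hD₀.1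
  let l : J ⟶ F := kernel.lift f a (by rw [cokernel.condition_assoc, Limits.zero_comp])
  have hlκ : l ≫ κ = a := kernel.lift_ι _ _ _
  haveI : Mono l := mono_of_mono_fac hlκ
  have hlη : Function.Surjective ((DerSch.stalkFunctor S η).map l) := fun x => by
    let St := DerSch.stalkFunctor S η
    have h0 : St.map β₀ (St.map (cokernel.π a) (St.map κ x)) = 0 := by
      rw [stalk_comp_apply, stalk_comp_apply, kernel.condition]
      exact stalk_zero_apply _
    have h1 : St.map (cokernel.π a) (St.map κ x) = 0 := hβ₀.1 (h0.trans (map_zero _).symm)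
    obtain ⟨o, ho⟩ := ((ShortComplex.ShortExact.moduleCat_exact_iff_function_exact _).1
      ((ShortComplex.exact_cokernel a).map St) _).1 h1
    exact ⟨o, (ModuleCat.mono_iff_injective (St.map κ)).1 inferInstance (by
      rw [stalk_comp_apply, hlκ]; exact ho)⟩
  have hFr : Module.finrank (S.presheaf.stalk η) (F.presheaf.stalk η) = 1 := by
    refine (LinearEquiv.ofBijective (RefHull.stalkMapₗ l η)
      ⟨(ModuleCat.mono_iff_injective ((DerSch.stalkFunctor S η).map l)).1 inferInstance, hlη⟩).finrank_eq.symm.trans ?_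
    exact PicTau27.finrank_stalk_invertible hJ η
  have hFi : PicF.IsInvertible F :=
    isInvertible_kernel k hVc hVr hD₀ (RefHullLib.isReflexiveAt_ddual hQ₀) f hFr
  have hPF := isHilbPoly_hp k hLa _ hFc
  obtain ⟨z, hz, hF1, hF2⟩ := exists_degree k hdim hLa hgen hFi hPF hPO
  rw [hb, zero_add] at hF1
  have hzn : -(n : ℤ) ≤ z := by
    obtain ⟨R, -, -, -, -, hJF, hR⟩ := alpha_two_of_sub k hdim hLa hFi l hJc' (fun h => ha0 (h.eq_of_src _ _)) hPJ hPF
    rw [hJ1, hF1] at hJF
    have : (-(n : ℚ)) ≤ (z : ℚ) := by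
      by_contra hc
      push Not at hc
      nlinarith
    exact_mod_cast this
  have hz0 : z ≤ 0 := by
    have h := slope F κ inferInstance hFc _ hPF
    rw [hF1, hF2, hP2, hP1] at h
    by_contra hc
    have : (1 : ℚ) ≤ (z : ℚ) := by exact_mod_cast (show (1 : ℤ) ≤ z by omega)
    nlinarith [mul_le_mul_of_nonneg_right this (mul_self_nonneg (alpha 2 PO))]
  obtain ⟨m, hm⟩ : ∃ m : ℕ, z = -(m : ℤ) := ⟨(-z).toNat, by omega⟩
  -- the quotient
  let N := cokernel κ
  let b : V ⟶ N := cokernel.π κ
  have hex : (ShortComplex.mk κ b (cokernel.condition κ)).ShortExact := shortExact_cokernel κ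
  have hNc : Coh.IsCoh N := isCoh_cokernel κ hFc.1 hVc
  have hPN := isHilbPoly_hp k hLa _ hNc
  have hadd : P = hp k hLa _ hFc + hp k hLa _ hNc := hilb_ses k hLa hex hFc hVc hNc hPF hP hPN
  have hN2 : alpha 2 (hp k hLa _ hNc) = alpha 2 PO := by
    have : alpha 2 P = alpha 2 (hp k hLa _ hFc) + alpha 2 (hp k hLa _ hNc) := by rw [hadd, alpha_add]
    linarith
  have hN1 : alpha 1 (hp k hLa _ hNc) = ((m : ℚ) + 1) * alpha 2 PO := by
    have : alpha 1 P = alpha 1 (hp k hLa _ hFc) + alpha 1 (hp k hLa _ hNc) := by rw [hadd, alpha_add]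
    rw [hm, Int.cast_neg, Int.cast_natCast] at hF1
    linarith
  have hNt : TorSh.IsTorsionFree N := by
    haveI : Mono (Abelian.factorThruCoimage f) := inferInstance
    exact Surf15.isTorsionFree_of_mono (Abelian.factorThruCoimage f) fun x => by
      haveI := AssSch12.finite_stalk hD₀ x
      haveI : Module.IsReflexive (S.presheaf.stalk x) (D₀.presheaf.stalk x) := RefHullLib.isReflexiveAt_ddual hQ₀ x
      infer_instance
  have hNr : Module.finrank (S.presheaf.stalk η) (N.presheaf.stalk η) = 1 := by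
    have h := S15853.alpha_two_eq_finrank k hdim hLa hNc hPN hPO
    rw [hN2] at h
    have h' := (mul_right_cancel₀ ha.ne' ((one_mul (alpha 2 PO)).trans h)).symm
    exact_mod_cast h'
  have hDi := isInvertible_ddual k hNc hNr
  haveI := mono_bidual hNc hNt
  have hR0 := dim_cokernel_bidual k hdim hNc
  have hDc := RefHullLib.isCoh_ddual hNc
  have hPD := isHilbPoly_hp k hLa _ hDc
  obtain ⟨zD, hzD, hD1, -⟩ := exists_degree k hdim hLa hgen hDi hPD hPO
  have hN0 : ¬ IsZero N := fun h => by
    have h2 := hN2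
    rw [hilb_zero k hLa h hPN] at h2
    simp [alpha] at h2
    simp [alpha] at ha
    linarith
  obtain ⟨R, hR, hRc, -, -, hND, -⟩ := alpha_two_of_sub k hdim hLa hDi (RefHull.bidualMap N) hNc hN0 hPN hPD
  have hR10 : alpha 1 R = 0 :=
    alpha_eq_zero_of_dim_lt k hLi hRc hR (lt_of_le_of_lt hR0 (by exact_mod_cast Nat.one_pos))
  rw [hN1, hR10, sub_zero, hD1, hb, zero_add] at hND
  have hzD' : zD = ((m + 1 : ℕ) : ℤ) := by
    have h1 : ((zD : ℤ) : ℚ) = ((m + 1 : ℕ) : ℚ) := by
      push_cast
      exact (mul_right_cancel₀ ha.ne' hND).symm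
    exact_mod_cast h1
  rw [hzD', zpow_natCast] at hzD
  obtain ⟨eD⟩ := (PicGrp.cl_eq_cl_iff _ _).1 ((congrArg Subtype.val hzD).trans (PicGrp.cls_pow_val hLi (m + 1)))
  refine ⟨m, by omega, F, hFi, ?_, N, RefHull.bidualMap N ≫ eD.hom, inferInstance, hNc, ?_, κ, b,
    cokernel.condition κ, hex⟩
  · rw [hz, hm, zpow_neg, zpow_natCast, inv_mul_cancel]
  · refine le_trans (le_of_eq ?_) (by exact_mod_cast hR0)
    rw [support_eq_of_iso (cokernelCompIsIso (RefHull.bidualMap N) eD.hom)]


end Groth.Agent.S15854
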