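import Groth.Statements.S15855
import Groth.Agent.S15851
import Groth.Agent.Mod22.GGDual
import Groth.Agent.Coherent.ClosedEquiv
import Groth.Agent.Coherent.DevissageIdeal
import Groth.Agent.Surf15.HomShIso
import Groth.Agent.SDiv28.WeakAssPoints
import Groth.Agent.AssSch12.Uniq
import Groth.Agent.Surf15.MultCurve
-- import your own Groth.Agent.* helpers here

set_option autoImplicit false
universe u
open CategoryTheory CategoryTheory.Limits AlgebraicGeometry
attribute [local instance] HasDerivedCategory.standard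
open Surf

namespace Groth.Agent.S15855

open CategoryTheory.Abelian Groth.Agent.Coherent Groth.Agent.SerreDual Groth.Agent.EulerLib
open Groth.Agent.PicLib Groth.Agent.AmpleLib
attribute [local instance] HasDerivedCategory.standard

set_option linter.style.haveILetI false
set_option backward.isDefEq.respectTransparency.types false
set_option maxHeartbeats 1000000

theorem isGloballyGenerated_push {C S : Scheme.{u}} (j : C ⟶ S) [IsClosedImmersion j] {M : C.Modules}
    (hM : Curv2.IsGloballyGenerated M) : Curv2.IsGloballyGenerated ((Scheme.Modules.pushforward j).obj M) := by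
  let N := (Scheme.Modules.pushforward j).obj M
  let adj := Scheme.Modules.pullbackPushforwardAdjunction j
  let E : freeMod S Γ(N, (⊤ : S.Opens)) ⟶ N := Desc19b.evalGlobal N
  let E' := (adj.homEquiv _ M).symm E
  obtain ⟨J, q, hq⟩ := hM
  haveI : Epi (show freeMod C J ⟶ M from q) := hq
  haveI : Epi E' := Preadditive.epi_of_cancel_zero _ fun {Q : C.Modules} (h : M ⟶ Q) hh => by
    have hE : E ≫ (Scheme.Modules.pushforward j).map h = 0 := by
      have := adj.homEquiv_naturality_right E' h
      rw [hh, Adjunction.homEquiv_unit, Functor.map_zero, comp_zero, Equiv.apply_symm_apply] at this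
      exact this.symm
    refine Desc19b.eq_zero_of_app_top (show freeMod C J ⟶ M from q) _ fun w => ?_
    show ((Scheme.Modules.pushforward j).map h).app ⊤ w = 0
    rw [← Desc19b.evalGlobal_basis N w]
    exact congrArg (fun φ => Scheme.Modules.Hom.app φ ⊤ (freeBasisVec w ⊤)) hE
  haveI : (Scheme.Modules.pushforward j).IsLeftAdjoint := (shriekAdj j).isLeftAdjoint
  have e1 : Epi (clUnit j (freeMod S Γ(N, (⊤ : S.Opens)))) := epi_clUnit j
  have e2 : Epi ((Scheme.Modules.pushforward j).map E') := inferInstance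
  refine ⟨_, E, ?_⟩
  have hfac : clUnit j _ ≫ (Scheme.Modules.pushforward j).map E' = E :=
    ((adj.homEquiv_unit _ _ E').symm).trans ((adj.homEquiv _ M).apply_symm_apply E)
  rw [← hfac]
  exact @epi_comp _ _ _ _ _ _ e1 _ e2

theorem isTorsionFree_of_iso {X : Scheme.{u}} {F E : X.Modules} (i : F ≅ E)
    (h : TorSh.IsTorsionFree E) : TorSh.IsTorsionFree F := Surf15.isTorsionFree_of_mono i.hom h

theorem isGloballyGenerated_of_iso {X : Scheme.{u}} {F E : X.Modules} (e : F ≅ E)
    (h : Curv2.IsGloballyGenerated F) : Curv2.IsGloballyGenerated E := by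
  obtain ⟨J, q, hq⟩ := h
  exact ⟨J, q ≫ e.hom, @epi_comp _ _ _ _ _ q hq _ inferInstance⟩

/-- A killed module with a mono into a direct image is a direct image. -/
theorem nonempty_iso_push {C S : Scheme.{u}} (j : C ⟶ S) [IsClosedImmersion j] {F : S.Modules} {G : C.Modules}
    (a : F ⟶ (Scheme.Modules.pushforward j).obj G) [Mono a] (hF : Coh.IsCoh F) :
    ∃ (e : (Scheme.Modules.pushforward j).obj ((Scheme.Modules.pullback j).obj F) ≅ F)
      (a₀ : (Scheme.Modules.pullback j).obj F ⟶ G), Mono a₀ ∧ Coh.IsCoh ((Scheme.Modules.pullback j).obj F) ∧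
      (Scheme.Modules.pushforward j).map a₀ = e.hom ≫ a := by
  have hk : ClSub.KilledByIdeal j.ker F := Coherent.killedByIdeal_of_mono j G a
  haveI := isIso_clUnit j hk
  let e : (Scheme.Modules.pushforward j).obj ((Scheme.Modules.pullback j).obj F) ≅ F := (asIso (clUnit j F)).symm
  obtain ⟨a₀, ha₀⟩ := (pushFF j).map_surjective (e.hom ≫ a)
  refine ⟨e, a₀, ?_, isCoh_pullback_of_killed j hk hF, ha₀⟩
  haveI : Mono ((Scheme.Modules.pushforward j).map a₀) := by rw [ha₀]; infer_instance
  haveI := (pushFF j).faithful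
  exact (Scheme.Modules.pushforward j).mono_of_mono_map ‹_›

/-- Let k be an algebraically closed field of characteristic zero, S a smooth projective surface over k
(integral, smooth over k, of dimension two, with a closed immersion over k into some projective
space), ω an O_S-module which is a second exterior power of the sheaf of differentials of S over k,
j : C → S a closed immersion with C integral of dimension one, and A a coherent O_C-module with
torsion-free stalks and one-dimensional generic stalk, with H^0(S, j_*A) ≠ 0 and H^1(S, j_*A) ≠ 0.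
For a coherent O_S-module F write F^* = Ext^1_{O_S}(F, ω) (first right derived functor of the sheaf
Hom functor Hom_{O_S}(F, -), the right adjoint of F ⊗ -, at ω). Let A' ⊆ j_*A be the base-point-free
part of A: a globally generated coherent subsheaf such that H^0(S, A') → H^0(S, j_*A) is surjective
(the image of the evaluation map). Let B ⊆ A'^* be, likewise, a globally generated coherent subsheaf
with H^0(S, B) → H^0(S, A'^*) surjective, and put A'' = B^*. Then both A'' and A''^* are globally
generated (quotients of free O_S-modules). -/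
theorem result
    (k : Type u) [Field k] [IsAlgClosed k] [CharZero k]
    (S : Scheme.{u}) [S.Over (Spec (CommRingCat.of k))] [IsIntegral S]
    [Smooth (S ↘ Spec (CommRingCat.of k))] (hdim : topologicalKrullDim S = 2)
    [IsProper (S ↘ Spec (CommRingCat.of k))]
    (hproj : ∃ (n : ℕ) (ι : S ⟶ CohB1.ProjSpace n k), IsClosedImmersion ι ∧
      ι ≫ CohB1.ProjSpace.toSpec n k = S ↘ Spec (CommRingCat.of k))
    [HasInjectiveResolutions S.Modules]
    (ω : S.Modules) (hω : Canon.IsTopDiff (S ↘ Spec (CommRingCat.of k)) 2 ω)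
    (C : Scheme.{u}) (j : C ⟶ S) [IsClosedImmersion j] [IsIntegral C]
    (hC : topologicalKrullDim C = 1)
    (M : C.Modules) (hM : Coh.IsCoh M) (hMtf : TorSh.IsTorsionFree M)
    (hrk : Module.finrank (C.presheaf.stalk (genericPoint C)) (M.presheaf.stalk (genericPoint C)) = 1)
    (h0 : 0 < Module.finrank k (Coh.HH S ((Coh.push j).obj M) 0)) (h1 : 0 < Module.finrank k (Coh.HH S ((Coh.push j).obj M) 1))
    (A' : S.Modules) (ι₁ : A' ⟶ ((Coh.push j).obj M)) [Mono ι₁] (hA'c : Coh.IsCoh A')
    (hA'g : Curv2.IsGloballyGenerated A') (hA'0 : Function.Surjective (Canon.HHlin k ι₁ 0))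
    [DCoh.HasSheafHom A'] [(DCoh.sheafHom A').Additive]
    (B : S.Modules) (ι₂ : B ⟶ ((DCoh.sheafHom A').rightDerived 1).obj ω) [Mono ι₂] (hBc : Coh.IsCoh B)
    (hBg : Curv2.IsGloballyGenerated B) (hB0 : Function.Surjective (Canon.HHlin k ι₂ 0))
    [DCoh.HasSheafHom B] [(DCoh.sheafHom B).Additive]
    [DCoh.HasSheafHom (((DCoh.sheafHom B).rightDerived 1).obj ω)] [(DCoh.sheafHom (((DCoh.sheafHom B).rightDerived 1).obj ω)).Additive] :
    Curv2.IsGloballyGenerated (((DCoh.sheafHom B).rightDerived 1).obj ω) ∧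
      Curv2.IsGloballyGenerated (((DCoh.sheafHom (((DCoh.sheafHom B).rightDerived 1).obj ω)).rightDerived 1).obj ω) := by
  obtain ⟨N, ι, hι, hιk⟩ := hproj
  haveI := hι
  haveI := DelPezzo19.smoothOfRelativeDimension_of_dim (S ↘ Spec (CommRingCat.of k)) 2 hdim
  haveI : ConnectedSpace S := inferInstance
  haveI := isNoetherian_of_proper (k := k) (X := S)
  haveI := isSeparated_of_proper (X := S) k
  haveI : IsGrothendieckAbelian.{u} S.Modules := DCat.schemeModules_isGrothendieckAbelian S
  haveI := DCat.hasRpush (S ↘ Spec (CommRingCat.of k))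
  obtain ⟨-, hωi, t, ht0⟩ := PnCanon5.exists_trace_topForms k 2 N ι hιk ω hω
  have hωc : Coh.IsCoh ω := CohBC.isCoh_of_isFinLocFree (SerreDual.isFinLocFree_of_invertible hωi)
  haveI := hωc.1
  have ht := S15851.exists_rep_qcoh k S hdim.le hωc t ht0
  have hCM : ∀ x : S, LocCoh.IsCohenMacaulayLocalRing (S.presheaf.stalk x) := fun x =>
    haveI := VarietyLib.isRegularLocalRing_stalk_of_smooth k S (S ↘ Spec (CommRingCat.of k)) x
    CAlgH3.isCohenMacaulayLocalRing_of_regular _
  have heq : ∀ x : S, IsClosed ({x} : Set S) → ringKrullDim (S.presheaf.stalk x) = (2 : ℕ) := fun x hx => by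
    rw [GenSmoothLib.ringKrullDim_stalk_of_isClosed (S ↘ Spec (CommRingCat.of k)) x hx,
      ← DimLib.topologicalKrullDim_eq_ptDim_of_isGenericPoint (S ↘ Spec (CommRingCat.of k))
        (genericPoint_spec S), Nat.cast_ofNat, ← hdim]
    exact (Homeomorph.Set.univ S).isHomeomorph.topologicalKrullDim_eq _
  let J := injectiveResolution ω
  letI : C.Over (Spec (CommRingCat.of k)) := ⟨j ≫ (S ↘ Spec (CommRingCat.of k))⟩
  haveI : IsProper (C ↘ Spec (CommRingCat.of k)) :=
    inferInstanceAs (IsProper (j ≫ (S ↘ Spec (CommRingCat.of k))))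
  haveI := isNoetherian_of_proper (k := k) (X := C)
  haveI := isSeparated_of_proper (X := C) k
  have hO : Coh.IsCoh ((Coh.push j).obj (Coh.structureModule C)) :=
    isCoh_push_finite j (Coherent.isCoh_structureModule C)
  obtain ⟨h0', hω', t', ht'⟩ := Mod22.ExtPush.exists_dualizing j J k 2 (by exact_mod_cast hdim) hCM heq t ht
    (by norm_num) (by rw [hC]; norm_num) (SerreDual.isCoh_homology hO hωc J 1).1
  let ω₁ := (Mod22.ExtPush.shriekCx j J).homology 1
  have hω₁ : TorSh.IsTorsionFree ω₁ := TFPush7.isTorsionFree_omega (t := t') ht' hC hω'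
  have hω₁c : Coh.IsCoh ω₁ := SerreDual.isCoh_dualizing ht' hC hω'
  have der : ∀ (F : S.Modules) [DCoh.HasSheafHom F] [(DCoh.sheafHom F).Additive],
      Nonempty (((DCoh.sheafHom F).rightDerived 1).obj ω ≅ (homCx F J).homology 1) := fun F _ _ => by
    haveI : (internalHomFunctor F).Additive := additive_internalHomFunctor F
    exact ⟨J.isoRightDerivedObj (DCoh.sheafHom F) 1 ≪≫
      (HomologicalComplex.homologyFunctor S.Modules (ComplexShape.up ℕ) 1).mapIso
        ((NatIso.mapHomologicalComplex (Coherent.sheafHomIso F) (ComplexShape.up ℕ)).app J.cocomplex)⟩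
  have dual : ∀ {F : S.Modules} [DCoh.HasSheafHom F] [(DCoh.sheafHom F).Additive] {F₀ : C.Modules},
      ((Scheme.Modules.pushforward j).obj F₀ ≅ F) →
      Nonempty (((DCoh.sheafHom F).rightDerived 1).obj ω ≅
        (Scheme.Modules.pushforward j).obj (internalHom F₀ ω₁)) := fun {F} _ _ {F₀} e => by
    obtain ⟨d⟩ := der F
    obtain ⟨g⟩ := SerreDual.nonempty_homology_congr e.symm J 1
    obtain ⟨b⟩ := Mod22.ExtPush.nonempty_homology_one_iso_push j J F₀ h0'
    exact ⟨d ≪≫ g ≪≫ b⟩
  obtain ⟨eA, a₀, ha₀, hA₀, -⟩ := nonempty_iso_push j ι₁ hA'c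
  let A₀ := (Scheme.Modules.pullback j).obj A'
  obtain ⟨dA⟩ := dual eA
  obtain ⟨eB, b₀, hb₀, hB₀, hb₀e⟩ := nonempty_iso_push j (ι₂ ≫ dA.hom) hBc
  let B₀ := (Scheme.Modules.pullback j).obj B
  have hA₀g : Curv2.IsGloballyGenerated A₀ := Desc19b.isGloballyGenerated_pullback j hA'g
  have hB₀g : Curv2.IsGloballyGenerated B₀ := Desc19b.isGloballyGenerated_pullback j hBg
  -- all sections of `Hom(A₀, ω₁)` come from `B₀`
  have hsec : Function.Surjective (b₀.app ⊤) := fun θ => by
    obtain ⟨z, hz⟩ := hB0 ((CurveRR24.hhZero k _).symm (dA.inv.app ⊤ θ))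
    have h2 : ι₂.app ⊤ (CurveRR24.hhZero k B z) = dA.inv.app ⊤ θ := by
      refine ((Mod22.GGDual.hhZero_natural k ι₂ z).symm.trans ?_).trans
        ((CurveRR24.hhZero k _).apply_symm_apply (dA.inv.app ⊤ θ))
      rw [hmap_eq]
      exact congrArg (CurveRR24.hhZero k _) hz
    refine ⟨eB.inv.app ⊤ (CurveRR24.hhZero k B z), ?_⟩
    show ((Scheme.Modules.pushforward j).map b₀).app ⊤ _ = θ
    rw [hb₀e]
    show dA.hom.app ⊤ (ι₂.app ⊤ (eB.hom.app ⊤ (eB.inv.app ⊤ (CurveRR24.hhZero k B z)))) = θ
    have h3 : eB.hom.app ⊤ (eB.inv.app ⊤ (CurveRR24.hhZero k B z)) = CurveRR24.hhZero k B z :=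
      congrArg (fun φ : B ⟶ B => φ.app ⊤ (CurveRR24.hhZero k B z)) eB.inv_hom_id
    rw [h3, h2]
    exact congrArg (fun φ => φ.app ⊤ θ) dA.inv_hom_id
  -- the generic stalk
  let η := genericPoint C
  have hgen : Function.Surjective (RefHull.stalkMapₗ (Mod22.GGDual.transpose b₀) η) := by
    let τ := Mod22.GGDual.transpose b₀
    let _ : Field (C.presheaf.stalk η) := inferInstanceAs (Field C.functionField)
    obtain ⟨uA⟩ := Surf15.nonempty_homSh_iso A₀ ω₁
    obtain ⟨uB⟩ := Surf15.nonempty_homSh_iso B₀ ω₁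
    have hD : Coh.IsCoh (internalHom B₀ ω₁) := Existence.isCoh_internalHom hB₀ hω₁c
    have hDt : TorSh.IsTorsionFree (internalHom B₀ ω₁) := isTorsionFree_of_iso uB.symm fun x =>
      RefHullLib.isTorsionFree_homSh (locallyFinGen_of_isFT _ hB₀.2) hω₁ x
    haveI : Module.Finite (C.presheaf.stalk η) (M.presheaf.stalk η) := finite_stalk_of_isFT hM.1 hM.2 η
    haveI : Module.Finite (C.presheaf.stalk η) (A₀.presheaf.stalk η) := finite_stalk_of_isFT hA₀.1 hA₀.2 η
    haveI : Module.Finite (C.presheaf.stalk η) (B₀.presheaf.stalk η) := finite_stalk_of_isFT hB₀.1 hB₀.2 η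
    haveI : Module.Finite (C.presheaf.stalk η) (ω₁.presheaf.stalk η) := finite_stalk_of_isFT hω₁c.1 hω₁c.2 η
    haveI := ha₀
    haveI := hb₀
    have h1 : Module.finrank (C.presheaf.stalk η) (A₀.presheaf.stalk η) ≤ 1 := hrk ▸
      LinearMap.finrank_le_finrank_of_injective (f := RefHull.stalkMapₗ a₀ η)
        (TFPush7.stalkMap_injective_of_mono a₀ η)
    have hwr := TFPush7.finrank_generic (t := t') ht' hC hω'
    let vA := LinearEquiv.ofBijective _ (RefHullLib.evalStalk_bijective_of_isCoh (G := ω₁) hA₀ η)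
    let vB := LinearEquiv.ofBijective _ (RefHullLib.evalStalk_bijective_of_isCoh (G := ω₁) hB₀ η)
    have h2 : Module.finrank (C.presheaf.stalk η) (B₀.presheaf.stalk η) ≤ 1 := by
      have := LinearMap.finrank_le_finrank_of_injective
        (f := vA.toLinearMap ∘ₗ RefHull.stalkMapₗ (b₀ ≫ uA.inv) η)
        (vA.injective.comp (TFPush7.stalkMap_injective_of_mono (b₀ ≫ uA.inv) η))
      refine this.trans ?_
      rw [Module.finrank_linearMap, hwr, mul_one]
      exact h1
    haveI : Module.Finite (C.presheaf.stalk η) ((internalHom B₀ ω₁).presheaf.stalk η) :=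
      finite_stalk_of_isFT hD.1 hD.2 η
    have h3 : Module.finrank (C.presheaf.stalk η) ((internalHom B₀ ω₁).presheaf.stalk η) ≤ 1 := by
      refine (LinearMap.finrank_le_finrank_of_injective
        (f := vB.toLinearMap ∘ₗ RefHull.stalkMapₗ uB.inv η)
        (vB.injective.comp (TFPush7.stalkMap_injective_of_mono uB.inv η))).trans ?_
      rw [Module.finrank_linearMap, hwr, mul_one]
      exact h2
    by_cases hτ : RefHull.stalkMapₗ τ η = 0
    · have hass : AssSch.Ass (internalHom B₀ ω₁) ⊆ {η} := fun x hx => by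
        haveI := hDt x
        exact SDiv28.eq_genericPoint_of_mem_ass_of_noZeroSMulDivisors _
          ⟨fun {c m} hcm => smul_eq_zero.1 hcm⟩ hx
      have hz : ∀ (U : C.Opens) (a : Γ(A₀, U)), τ.app U a = 0 := fun U a =>
        AssSch12.eq_zero_of_germ_generic hD.1 hass _ fun hη => by
          rw [← RefHull.stalkMapₗ_germ, hτ]
          rfl
      have hb : b₀ = 0 := Scheme.Modules.hom_ext _ _ fun U => ConcreteCategory.hom_ext _ _ fun b =>
        locHom_ext (φ := secHom _) (ψ := secHom _) fun W hW a => by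
          have h := Mod22.GGDual.ev_transpose b₀ a W le_rfl (resM B₀ hW b)
          rw [show (Mod22.GGDual.transpose b₀).app W a = 0 from hz W a, resM_self, app_resM, resM_internalHom] at h
          exact h.symm
      have hB0z : IsZero B₀ := (IsZero.iff_id_eq_zero _).2 ((cancel_mono b₀).1 (by rw [hb, comp_zero, comp_zero]))
      have hDz : IsZero (internalHom B₀ ω₁) := by
        rw [IsZero.iff_id_eq_zero]
        apply ((tensorHomAdj B₀).homEquiv _ _).symm.injective
        exact (AmpleLib.hom_ext fun U b θ => by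
          have hbz : b = 0 := congrArg (fun φ : B₀ ⟶ B₀ => φ.app U b) ((IsZero.iff_id_eq_zero _).1 hB0z)
          rw [hbz, tmul_zero_left, map_zero, map_zero])
      exact fun v => ⟨0, (map_zero _).trans (@Subsingleton.elim _
        (DualLib.OmegaStalk.subsingleton_stalk_of_isZero hDz η) _ _)⟩
    · rw [← LinearMap.range_eq_top]
      apply Submodule.eq_top_of_finrank_eq
      have hpos : 0 < Module.finrank (C.presheaf.stalk η) (LinearMap.range (RefHull.stalkMapₗ τ η)) := by
        rw [Nat.pos_iff_ne_zero, Ne, Submodule.finrank_eq_zero, LinearMap.range_eq_bot]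
        exact hτ
      have := Submodule.finrank_le (LinearMap.range (RefHull.stalkMapₗ τ η))
      exact le_antisymm this (le_trans h3 hpos)
  have hgg := Mod22.GGDual.isGloballyGenerated_internalHom hC hω' t' ht' hA₀ hA₀g hB₀ b₀ hsec hgen
  obtain ⟨dB⟩ := dual eB
  refine ⟨isGloballyGenerated_of_iso dB.symm (isGloballyGenerated_push j hgg), ?_⟩
  obtain ⟨dBB⟩ := dual dB.symm
  obtain ⟨u₁⟩ := Surf15.nonempty_homSh_iso B₀ ω₁
  let H := RefHull.homSh B₀ ω₁
  obtain ⟨g₁⟩ := SerreDual.nonempty_homology_congr (dB ≪≫ (Scheme.Modules.pushforward j).mapIso u₁.symm) J 1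
  obtain ⟨b₁⟩ := Mod22.ExtPush.nonempty_homology_one_iso_push j J H h0'
  obtain ⟨d₁⟩ := der (((DCoh.sheafHom B).rightDerived 1).obj ω)
  obtain ⟨u₂⟩ := Surf15.nonempty_homSh_iso H ω₁
  obtain ⟨uA⟩ := Surf15.nonempty_homSh_iso A₀ ω₁
  haveI := hb₀
  have hB₀t : TorSh.IsTorsionFree B₀ := Surf15.isTorsionFree_of_mono b₀
    (isTorsionFree_of_iso uA.symm fun x =>
      RefHullLib.isTorsionFree_homSh (locallyFinGen_of_isFT _ hA₀.2) hω₁ x)
  haveI := TFPush7.isIso_toBidual (t := t') ht' hC hω' hB₀ hB₀t
  exact isGloballyGenerated_of_iso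
    ((Scheme.Modules.pushforward j).mapIso (asIso (TFPush7.toBidual B₀ ω₁) ≪≫ u₂) ≪≫ b₁.symm ≪≫ g₁.symm ≪≫ d₁.symm)
    (isGloballyGenerated_push j hB₀g)

end Groth.Agent.S15855
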