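import Groth.Statements.S15856
import Groth.Agent.Mod22.RankOneHull
import Groth.Agent.Mod22.K3Vanish
import Groth.Agent.SerreDual.TwistEquiv
import Groth.Agent.Et18.ExtRealize
import Groth.Agent.ModStalk.Exact
import Groth.Agent.RefHullLib.LowDim
import Groth.Prelude.Def_CurvBase
import Mathlib.Algebra.Homology.DerivedCategory.Ext.Map
import Mathlib.Algebra.Homology.DerivedCategory.Ext.EnoughProjectives
import Mathlib.Algebra.Category.ModuleCat.Ext.HasExt
-- import your own Groth.Agent.* helpers here

set_option autoImplicit false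
universe u
open CategoryTheory CategoryTheory.Limits AlgebraicGeometry
open ShStab

namespace Groth.Agent.S15856

open CategoryTheory CategoryTheory.Limits AlgebraicGeometry TopologicalSpace
open CategoryTheory.Abelian
open Groth.Agent.Coherent Groth.Agent.EulerLib Groth.Agent.DimLib Groth.Agent.AmpleLib Groth.Agent.AssSch12
open Groth.Agent.Mod22 Groth.Agent.PicLib

set_option linter.style.haveILetI false
set_option backward.isDefEq.respectTransparency.types false
set_option maxHeartbeats 1000000

section Algebra

variable {R : Type u} [CommRing R]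

/-- With projective middle term every class is a multiple of the class of the extension. -/
theorem exists_smul_extClass {T : ShortComplex (ModuleCat.{u} R)} (hT : T.ShortExact) [Projective T.X₂]
    (hend : ∀ f : T.X₁ ⟶ T.X₁, ∃ r : R, f = r • 𝟙 T.X₁) (y : Ext.{u} T.X₃ T.X₁ 1) :
    ∃ r : R, y = r • hT.extClass := by
  obtain ⟨z, hz⟩ := Ext.contravariant_sequence_exact₃ hT T.X₁ y (Ext.eq_zero_of_projective _)
    (n₀ := 0) (by omega)
  obtain ⟨f, rfl⟩ := (Ext.mk₀_bijective _ _).2 z
  obtain ⟨r, rfl⟩ := hend f
  exact ⟨r, by rw [Ext.smul_eq_comp_mk₀]; exact hz.symm⟩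

/-- With vanishing class the quotient of a projective module is projective. -/
theorem projective_of_extClass_eq_zero {T : ShortComplex (ModuleCat.{u} R)} (hT : T.ShortExact)
    [Module.Projective R T.X₂] (h : hT.extClass = 0) : Module.Projective R T.X₃ := by
  obtain ⟨z, hz⟩ := Ext.covariant_sequence_exact₃ T.X₃ hT (Ext.mk₀ (𝟙 T.X₃)) (zero_add 1)
    (by rw [h, Ext.comp_zero])
  obtain ⟨f, rfl⟩ := (Ext.mk₀_bijective _ _).2 z
  rw [Ext.mk₀_comp_mk₀] at hz
  refine Module.Projective.of_split f.hom T.g.hom ?_
  have h' := (Ext.mk₀_bijective _ _).1 hz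
  exact congrArg ModuleCat.Hom.hom h'

/-- An endomorphism of a free module of rank one is a scalar. -/
theorem exists_smul_of_rank_one [Nontrivial R] {M : ModuleCat.{u} R} [Module.Free R M]
    [Module.Finite R M] (h : Module.finrank R M = 1) (f : M ⟶ M) : ∃ r : R, f = r • 𝟙 M := by
  let b : Module.Basis (Fin 1) R M := Module.finBasisOfFinrankEq R M h
  refine ⟨b.repr (f.hom (b 0)) 0, ModuleCat.hom_ext (b.ext fun i => ?_)⟩
  rw [Fin.eq_zero i]
  show f.hom (b 0) = b.repr (f.hom (b 0)) 0 • b 0
  conv_lhs => rw [← b.sum_repr (f.hom (b 0))]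
  simp

end Algebra

variable (k : Type u) [Field k] {S : Scheme.{u}} [S.Over (Spec (CommRingCat.of k))]

/-- At a closed point every germ is congruent to a constant. -/
theorem exists_const [IsAlgClosed k] [IsProper (S ↘ Spec (CommRingCat.of k))] {x : S}
    (hx : IsClosed ({x} : Set S)) (r : S.presheaf.stalk x) :
    ∃ c : k, r - Curv2.stalkMap k S x c ∈ IsLocalRing.maximalIdeal (S.presheaf.stalk x) := by
  let _ := Curv2.resAlgebra k S x
  haveI := CurveRR24.finite_resField hx k
  obtain ⟨c, hc⟩ := (IsAlgClosed.algebraMap_bijective_of_isIntegral (k := k) (K := S.residueField x)).2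
    ((S.residue x) r)
  refine ⟨c, Ideal.Quotient.eq_zero_iff_mem.1 ?_⟩
  show IsLocalRing.residue _ (r - Curv2.stalkMap k S x c) = 0
  rw [map_sub, sub_eq_zero]
  exact hc.symm

/-- The stalk of a scalar. -/
theorem stalk_smul_id (x : S) (L : S.Modules) (c : k) :
    (DerSch.stalkFunctor S x).map (c • 𝟙 L) =
      Curv2.stalkMap k S x c • 𝟙 ((DerSch.stalkFunctor S x).obj L) := by
  refine ModuleCat.hom_ext (LinearMap.ext fun m => ?_)
  obtain ⟨U, hxU, s, rfl⟩ := L.presheaf.exists_germ_eq (x := x) m
  show (DerSch.stalkFunctor S x).map (c • 𝟙 L) (L.presheaf.germ U x hxU s) =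
    Curv2.stalkMap k S x c • L.presheaf.germ U x hxU s
  rw [DerSch.stalkFunctor_map_germ, KLin.smul_id]
  show L.presheaf.germ U x hxU ((Formal.smulModΓ L _).app U s) = _
  rw [KLin.smulModΓ_app_apply, QCohLoc.germ_smul' (M := L) hxU]
  congr 1
  exact TopCat.Presheaf.germ_res_apply S.presheaf (homOfLE le_top) x hxU _

/-- Let k be an algebraically closed field of characteristic zero and S a K3 surface over k — a smooth
projective surface (integral, smooth over k, of dimension two, with a closed immersion over k into
some projective space) whose structure sheaf is a second exterior power of its sheaf of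
differentials and with H^1(S, O_S) = 0 — whose Picard group is infinite cyclic, generated by the
class of an ample invertible sheaf G. Let L and L' be invertible O_S-modules and N ⊆ L' a coherent
subsheaf whose quotient L'/N is supported in dimension at most zero (N is L' twisted by the ideal
sheaf of a finite subscheme Z). If the group Ext^1_{O_S}(N, L), computed in the category of all
O_S-modules with its k-linear structure (the Ext instance is the stated hypothesis; it holds), has
k-dimension at least 2, then there is a short exact sequence 0 → L → V → N → 0 which does not split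
and whose middle term V is not a finite locally free O_S-module. -/
theorem result
    (k : Type u) [Field k] [IsAlgClosed k] [CharZero k]
    (S : Scheme.{u}) [S.Over (Spec (CommRingCat.of k))] [IsIntegral S]
    [Smooth (S ↘ Spec (CommRingCat.of k))] (hdim : topologicalKrullDim S = 2)
    [IsProper (S ↘ Spec (CommRingCat.of k))]
    (hproj : ∃ (n : ℕ) (ι : S ⟶ CohB1.ProjSpace n k), IsClosedImmersion ι ∧
      ι ≫ CohB1.ProjSpace.toSpec n k = S ↘ Spec (CommRingCat.of k))
    (hK : Canon.IsTopDiff (S ↘ Spec (CommRingCat.of k)) 2 (Coh.structureModule S))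
    (hq : Module.finrank k (Coh.HH S (Coh.structureModule S) 1) = 0)
    (G : S.Modules) (hGi : PicF.IsInvertible G) (hGa : CohB1.IsAmple G)
    [PicGrp.Law S] (hgen : ∀ c : PicLoc.PicSet S, ∃ n : ℤ, c = PicGrp.cls G hGi ^ n)
    (hfree : ∀ n : ℤ, PicGrp.cls G hGi ^ n = 1 → n = 0)
    [HasExt.{u} S.Modules]
    (L L' : S.Modules) (hL : PicF.IsInvertible L) (hL' : PicF.IsInvertible L')
    (N : S.Modules) (ι : N ⟶ L') [Mono ι] (hN : Coh.IsCoh N)
    (hZ : topologicalKrullDim (CohB1.support (cokernel ι)) ≤ 0)
    (h2 : 2 ≤ Module.finrank k (Abelian.Ext N L 1)) :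
    ∃ (V : S.Modules) (a : L ⟶ V) (b : V ⟶ N) (w : a ≫ b = 0),
      (ShortComplex.mk a b w).ShortExact ∧ (∀ r : V ⟶ L, a ≫ r ≠ 𝟙 L) ∧
        ¬ FlatMod.IsFinLocFree V := by
  obtain ⟨nS, ιS, hιS, hιSk⟩ := hproj
  haveI := hιS
  haveI := DelPezzo19.smoothOfRelativeDimension_of_dim (S ↘ Spec (CommRingCat.of k)) 2 hdim
  haveI := isNoetherian_of_proper (k := k) (X := S)
  have hX : topologicalKrullDim S = ((2 : ℕ) : WithBot ℕ∞) := hdim
  have hgen' := K3Vanish.mk_of_cls hGi hgen
  have hLc := CohBC.isCoh_of_isFinLocFree (Coherent.isFinLocFree_of_invertible hL)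
  haveI := hLc.1
  have hL'c := CohBC.isCoh_of_isFinLocFree (Coherent.isFinLocFree_of_invertible hL')
  haveI := hL'c.1
  let η := genericPoint S
  by_cases hfreeN : ∀ x : S, Module.Free (S.presheaf.stalk x) (N.presheaf.stalk x)
  · exfalso
    let _ : Field (S.presheaf.stalk η) := inferInstanceAs (Field S.functionField)
    have hη : η ∉ CohB1.support (cokernel ι) := fun h => by
      have h1 := (dim_mono (closure_subset_support (isCoh_cokernel ι hN.1 hL'c) h)).trans hZ
      rw [genericPoint_closure, RankOneSlope.dim_univ hdim] at h1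
      exact absurd h1 (by exact_mod_cast (by omega : ¬ (2 : ℕ) ≤ 0))
    have hinj : Function.Injective ((DerSch.stalkFunctor S η).map ι) :=
      (ModuleCat.mono_iff_injective _).1 inferInstance
    have hsurj : Function.Surjective ((DerSch.stalkFunctor S η).map ι) := fun v =>
      ((ShortComplex.ShortExact.moduleCat_exact_iff_function_exact _).1
        ((ShortComplex.exact_cokernel ι).map (DerSch.stalkFunctor S η)) v).1
        ((not_not.1 hη).elim _ _)
    have hr : Module.finrank (S.presheaf.stalk η) (N.presheaf.stalk η) = 1 :=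
      (LinearEquiv.ofBijective ((DerSch.stalkFunctor S η).map ι).hom ⟨hinj, hsurj⟩).finrank_eq.trans
        (PicTau27.finrank_stalk_invertible hL' η)
    haveI := AssSch12.finite_stalk hN η
    obtain ⟨t₀, ht₀⟩ := (finrank_eq_one_iff' (K := S.presheaf.stalk η) (V := N.presheaf.stalk η)).1 hr
    have hNr : ∀ x, RefHull.IsReflexiveAt N x := fun x => by
      haveI := hfreeN x
      haveI := AssSch12.finite_stalk hN x
      show Module.IsReflexive _ _
      infer_instance
    have hNi : PicF.IsInvertible N := RefHullLib.isInvertible_of_isReflexive_of_genInvertible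
      (fun x => haveI := RankOneHull.regular k x; CAlgH3.ufm_of_regular (S.presheaf.stalk x)) hN hNr
      (RefHullLib.genInvertible_of_bijective_genericPoint hN t₀
        ⟨fun x y h => smul_left_injective (S.presheaf.stalk η) ht₀.1 h, fun v => ht₀.2 v⟩)
    obtain ⟨M, ⟨e⟩⟩ := VarietyLib.exists_isInverseOf hNi
    have hM : PicF.IsInvertible M :=
      PicM.isInvertible_of_tensor hNi (glocus_isInvertible_of_iso e.symm isInvertible_structureModule)
    haveI := SerreDual.subsingleton_ext_of_invertible hNi hM e L 1
      (K3Vanish.subsingleton_h1 k hX hK hq hGa hgen' (isInvertible_tensorMod hL hM))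
    rw [Module.finrank_zero_of_subsingleton] at h2
    omega
  · obtain ⟨x, hx⟩ := not_forall.1 hfreeN
    let F := DerSch.stalkFunctor S x
    let R := S.presheaf.stalk x
    let ρ := Curv2.stalkMap k S x
    have hxs : x ∈ CohB1.support (cokernel ι) := by
      by_contra h
      refine hx ?_
      have hsurj : Function.Surjective (F.map ι) := fun v =>
        ((ShortComplex.ShortExact.moduleCat_exact_iff_function_exact _).1
          ((ShortComplex.exact_cokernel ι).map F) v).1 ((not_not.1 h).elim _ _)
      haveI := Props12.free_stalk_of_isFinLocFree (X := S) L' (Coherent.isFinLocFree_of_invertible hL') x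
      haveI : Module.Free R (F.obj L') := ‹Module.Free R (L'.presheaf.stalk x)›
      exact Module.Free.of_equiv (LinearEquiv.ofBijective (F.map ι).hom
        ⟨(ModuleCat.mono_iff_injective _).1 inferInstance, hsurj⟩).symm
    have hxc : IsClosed ({x} : Set S) := by
      refine (ptDim_eq_zero_iff (S ↘ Spec (CommRingCat.of k)) x).1 ?_
      have h1 := (dim_mono (closure_subset_support (isCoh_cokernel ι hN.1 hL'c) hxs)).trans hZ
      rw [VarietyLib.dim_closure_eq_ptDim k] at h1
      exact Nat.le_zero.1 (by exact_mod_cast h1)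
    haveI : IsNoetherianRing R := inferInstance
    haveI : HasExt.{u} (ModuleCat.{u} R) := inferInstance
    haveI := AssSch12.finite_stalk hN x
    haveI := Props12.free_stalk_of_isFinLocFree (X := S) L (Coherent.isFinLocFree_of_invertible hL) x
    haveI := AssSch12.finite_stalk hLc x
    have hend : ∀ f : F.obj L ⟶ F.obj L, ∃ r : R, f = r • 𝟙 (F.obj L) := fun f =>
      haveI : Module.Free R (F.obj L) := ‹Module.Free R (L.presheaf.stalk x)›
      haveI : Module.Finite R (F.obj L) := ‹Module.Finite R (L.presheaf.stalk x)›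
      exists_smul_of_rank_one (PicTau27.finrank_stalk_invertible hL x) f
    by_contra hcon
    push Not at hcon
    -- every class has a free middle term at `x`
    have key : ∀ y : Ext N L 1, y ≠ 0 →
        ∀ z : Ext (F.obj N) (F.obj L) 1, ∃ r : R, z = r • y.mapExactFunctor F := by
      intro y hy
      obtain ⟨V, u, v, w, h, rfl⟩ := Et18.ExtRealize.exists_extClass_eq y
      have hns : ∀ r : V ⟶ L, u ≫ r ≠ 𝟙 L := fun r hr => hy (by
        have := h.extClass_comp_assoc (Ext.mk₀ r) (h := rfl)
        rw [Ext.mk₀_comp_mk₀, hr, Ext.comp_mk₀_id] at this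
        exact this)
      have hVf := hcon V u v w h hns
      haveI := (CohBC.isCoh_of_isFinLocFree hVf).1
      haveI := Props12.free_stalk_of_isFinLocFree V hVf x
      haveI : Module.Projective R (F.obj V) := inferInstanceAs (Module.Projective R (V.presheaf.stalk x))
      haveI : Projective ((ShortComplex.mk u v w).map F).X₂ :=
        (IsProjective.iff_projective (R := R) (F.obj V)).1 inferInstance
      intro z
      rw [Ext.mapExactFunctor_extClass]
      exact exists_smul_extClass (h.map_of_exact F) hend z
    have hsm : ∀ (c : k) (y : Ext N L 1), (c • y).mapExactFunctor F = ρ c • y.mapExactFunctor F :=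
      fun c y => by
        rw [Ext.smul_eq_comp_mk₀, Ext.mapExactFunctor_comp, Ext.mapExactFunctor_mk₀, stalk_smul_id,
          Ext.smul_eq_comp_mk₀ (R := R)]
    obtain ⟨e₁, he₁⟩ : ∃ e₁ : Ext N L 1, e₁ ≠ 0 := by
      by_contra h
      push Not at h
      haveI : Subsingleton (Ext N L 1) := subsingleton_of_forall_eq 0 h
      rw [Module.finrank_zero_of_subsingleton] at h2
      omega
    obtain ⟨e₂, he₂⟩ : ∃ e₂ : Ext N L 1, ∀ c : k, e₂ ≠ c • e₁ := by
      by_contra h
      push Not at h
      have := finrank_le_one e₁ fun y => (h y).imp fun c hc => hc.symm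
      omega
    have h₁ := key e₁ he₁
    obtain ⟨r, hr⟩ := h₁ (e₂.mapExactFunctor F)
    obtain ⟨c, hc⟩ := exists_const k hxc r
    let e := e₂ + (-c) • e₁
    have he : e ≠ 0 := fun h => he₂ c (by
      have h' : e₂ + (-c) • e₁ = 0 := h
      rwa [neg_smul, ← sub_eq_add_neg, sub_eq_zero] at h')
    have h₃ := key e he
    obtain ⟨s, hs⟩ := h₃ (e₁.mapExactFunctor F)
    have hx0 : e₁.mapExactFunctor F = 0 := by
      have he' : e.mapExactFunctor F = (r - ρ c) • e₁.mapExactFunctor F := by
        show (e₂ + (-c) • e₁).mapExactFunctor F = _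
        rw [Ext.mapExactFunctor_add, hsm, hr, map_neg, neg_smul, ← sub_eq_add_neg, sub_smul]
      rw [he', smul_smul] at hs
      have hu : IsUnit (1 - s * (r - ρ c)) :=
        IsLocalRing.isUnit_one_sub_self_of_mem_nonunits _ (Ideal.mul_mem_left _ s hc)
      refine hu.smul_eq_zero.1 ?_
      rw [sub_smul, one_smul, ← hs, sub_self]
    obtain ⟨V, u, v, w, h, hcl⟩ := Et18.ExtRealize.exists_extClass_eq e₁
    have hns : ∀ r : V ⟶ L, u ≫ r ≠ 𝟙 L := fun r hr => he₁ (by
      have := h.extClass_comp_assoc (Ext.mk₀ r) (h := rfl)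
      rw [Ext.mk₀_comp_mk₀, hr, Ext.comp_mk₀_id] at this
      exact hcl.symm.trans this)
    have hVf := hcon V u v w h hns
    haveI := (CohBC.isCoh_of_isFinLocFree hVf).1
    haveI := Props12.free_stalk_of_isFinLocFree V hVf x
    haveI : Module.Projective R ((ShortComplex.mk u v w).map F).X₂ :=
      inferInstanceAs (Module.Projective R (V.presheaf.stalk x))
    haveI hP : Module.Projective R (N.presheaf.stalk x) :=
      projective_of_extClass_eq_zero (h.map_of_exact F) (by
        rw [← Ext.mapExactFunctor_extClass F h, hcl]; exact hx0)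
    exact hx Module.free_of_flat_of_isLocalRing
end Groth.Agent.S15856
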