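import Groth.Statements.S15859
import Groth.Agent.HTor16.FlatBCExact
import Groth.Agent.IntCM8.Main
import Groth.Agent.Mumford23.H1
import Groth.Agent.EulerLib.SupportVanishing
import Groth.Agent.Coherent.CohBC.EulerFamily
import Groth.Agent.Coherent.CohOps

set_option autoImplicit false
set_option maxHeartbeats 1600000
universe u
open CategoryTheory CategoryTheory.Limits AlgebraicGeometry
open Surf

namespace Groth.Agent.S15859

open Groth.Agent Groth.Agent.Coherent Groth.Agent.EulerLib TopologicalSpace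

variable (k : Type u) [Field k] {X : Scheme.{u}} [X.Over (Spec (CommRingCat.of k))]
  [IsProper (X ↘ Spec (CommRingCat.of k))]

theorem isCoh_pull {Y : Scheme.{u}} (f : X ⟶ Y) {F : Y.Modules} (hF : Coh.IsCoh F) :
    Coh.IsCoh ((Scheme.Modules.pullback f).obj F) :=
  ⟨haveI := hF.1; EGA43.InjFibre.isQCoh_pullback f F, Groth.Agent.Coherent.isFT_pullback_qcoh f hF.1 hF.2⟩

/-- Sheaves with zero-dimensional support. -/
theorem small {F : X.Modules} (hF : Coh.IsCoh F) (hdim : topologicalKrullDim (CohB1.support F) ≤ 0) :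
    (∀ q : ℕ, 0 < q → Subsingleton (Coh.HH X F q)) ∧ Curv2.euler k X F = Module.finrank k (Coh.HH X F 0) := by
  haveI := isNoetherian_of_proper (X := X) k
  haveI := isSeparated_of_proper (X := X) k
  have hcl : IsClosed (CohB1.support F) := Coherent.isClosed_support F (Coherent.locallyFinGen_of_isFT F hF.2)
  have hv : ∀ q : ℕ, 0 < q → Subsingleton (Coh.HH X F q) := fun q hq =>
    subsingleton_HH_of_support ⟨_, hcl⟩ F hF.1 subset_rfl q (lt_of_le_of_lt hdim (by exact_mod_cast hq))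
  refine ⟨hv, ?_⟩
  rw [euler_eq_sum k X F 0 hv]
  simp

variable {T : ShortComplex X.Modules} (hT : T.ShortExact)

include hT in
theorem finrank_h0_le_add (h₁ : Coh.IsCoh T.X₁) (h₂ : Coh.IsCoh T.X₂) (h₃ : Coh.IsCoh T.X₃) :
    Module.finrank k (Coh.HH X T.X₂ 0) ≤ Module.finrank k (Coh.HH X T.X₁ 0) + Module.finrank k (Coh.HH X T.X₃ 0) := by

  rw [(EulerLib.HHBaseEquiv k T.X₁ 0).finrank_eq, (EulerLib.HHBaseEquiv k T.X₂ 0).finrank_eq,
    (EulerLib.HHBaseEquiv k T.X₃ 0).finrank_eq]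
  haveI := Mumford23.finite_HA k h₁ 0
  haveI := Mumford23.finite_HA k h₂ 0
  haveI := Mumford23.finite_HA k h₃ 0
  let g := postA (baseHom k X) T.g (⊤ : X.Opens) 0
  let f := postA (baseHom k X) T.f (⊤ : X.Opens) 0
  have hker : LinearMap.ker g ≤ LinearMap.range f := fun x hx => (exact_postA (baseHom k X) hT ⊤ 0 x).1 hx
  have h1 := Submodule.finrank_mono hker
  have h2 := LinearMap.finrank_range_le f
  have h3 := LinearMap.finrank_range_add_finrank_ker g
  have h4 := Submodule.finrank_le (LinearMap.range g)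
  omega

include hT in
theorem add_le_finrank_h0 (h₁ : Coh.IsCoh T.X₁) (h₂ : Coh.IsCoh T.X₂) (h₃ : Coh.IsCoh T.X₃)
    (hv : Subsingleton (Coh.HH X T.X₃ 1))
    (he : Module.finrank k (Coh.HH X T.X₁ 1) = Module.finrank k (Coh.HH X T.X₂ 1)) :
    Module.finrank k (Coh.HH X T.X₁ 0) + Module.finrank k (Coh.HH X T.X₃ 0) ≤ Module.finrank k (Coh.HH X T.X₂ 0) := by

  have hs := (Mumford23.finrank_H1_step k hT h₁ h₂ hv).2.2 he.symm
  rw [(EulerLib.HHBaseEquiv k T.X₁ 0).finrank_eq, (EulerLib.HHBaseEquiv k T.X₂ 0).finrank_eq,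
    (EulerLib.HHBaseEquiv k T.X₃ 0).finrank_eq]
  haveI := Mumford23.finite_HA k h₁ 0
  haveI := Mumford23.finite_HA k h₂ 0
  haveI := Mumford23.finite_HA k h₃ 0
  let g := postA (baseHom k X) T.g (⊤ : X.Opens) 0
  let f := postA (baseHom k X) T.f (⊤ : X.Opens) 0
  have hg : Function.Surjective g := fun y => by
    obtain ⟨a, ha⟩ := hs (secH (X := X.toTopCat) (Coh.toAb T.X₃) (⊤ : X.Opens) y)
    obtain ⟨b, rfl⟩ := (secH (X := X.toTopCat) (Coh.toAb T.X₂) (⊤ : X.Opens)).surjective a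
    refine ⟨b, (secH (X := X.toTopCat) (Coh.toAb T.X₃) (⊤ : X.Opens)).injective ?_⟩
    exact (secH_postH (X := X.toTopCat) (F := Coh.toAb T.X₂) (G := Coh.toAb T.X₃)
      ((toAbFunctor X).map T.g) (⊤ : X.Opens) b).trans ha
  have hker : LinearMap.range f ≤ LinearMap.ker g := fun x hx => (exact_postA (baseHom k X) hT ⊤ 0 x).2 hx
  have h1 := Submodule.finrank_mono hker
  have h2 := LinearMap.finrank_range_of_inj (f := f) (EulerLib.postA_zero_injective _ hT ⊤)
  have h3 := LinearMap.finrank_range_add_finrank_ker g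
  rw [LinearMap.range_eq_top.2 hg, finrank_top] at h3
  omega

theorem map_w {Y : Scheme.{u}} (F : Y.Modules ⥤ X.Modules) [F.PreservesZeroMorphisms] (T : ShortComplex Y.Modules)
    (h : (T.map F).ShortExact) (h₁ : Coh.IsCoh (F.obj T.X₁)) (h₂ : Coh.IsCoh (F.obj T.X₂)) (h₃ : Coh.IsCoh (F.obj T.X₃)) :
    Module.finrank k (Coh.HH X (F.obj T.X₂) 0) ≤ Module.finrank k (Coh.HH X (F.obj T.X₁) 0) + Module.finrank k (Coh.HH X (F.obj T.X₃) 0) ∧
    Module.finrank k (Coh.HH X (F.obj T.X₁) 0) ≤ Module.finrank k (Coh.HH X (F.obj T.X₂) 0) ∧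
    (Subsingleton (Coh.HH X (F.obj T.X₃) 1) → Module.finrank k (Coh.HH X (F.obj T.X₁) 1) = Module.finrank k (Coh.HH X (F.obj T.X₂) 1) →
      Module.finrank k (Coh.HH X (F.obj T.X₁) 0) + Module.finrank k (Coh.HH X (F.obj T.X₃) 0) ≤ Module.finrank k (Coh.HH X (F.obj T.X₂) 0)) := by
  refine ⟨finrank_h0_le_add k (T := T.map F) h h₁ h₂ h₃, ?_, fun hv he => add_le_finrank_h0 k (T := T.map F) h h₁ h₂ h₃ hv he⟩
  haveI : Mono (F.map T.f) := h.mono_f
  exact Mumford23.finrank_H0_le k h₂ (F.map T.f)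

/-- Let k be an algebraically closed field of characteristic zero, S a smooth projective surface over k
(integral, smooth over k, of dimension two, with a closed immersion over k into some projective
space) and P an integral one-dimensional k-scheme locally of finite type (a curve, not necessarily
proper). Let 𝒜, 𝒜', 𝒜'' be coherent O-modules on S ×_k P, flat over P, with monomorphisms 𝒜' → 𝒜 and
𝒜' → 𝒜'' whose cokernels 𝒬 and 𝒬~ are flat over P, the fibres of 𝒬~ being supported in dimension at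
most zero (so they have constant length). For a k-point p of P write F_p for the pull-back of a
module F along the section S → S ×_k P at p (identity on S, p on the second factor), a module on S.
Suppose that at some k-point p₀ one has dim H^0(S, 𝒜'_{p₀}) = dim H^0(S, 𝒜_{p₀}) and dim H^1(S,
𝒜'_{p₀}) = dim H^1(S, 𝒜''_{p₀}), and that dim H^0(S, 𝒜''_p) ≥ dim H^0(S, 𝒜''_{p₀}) for every k-point
p. Then dim H^0(S, 𝒜_p) ≥ dim H^0(S, 𝒜_{p₀}) for every k-point p. (The published statement also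
assumes that the fibres 𝒜_p, 𝒜'_p, 𝒜''_p are rank-one torsion-free sheaves on curves C_p ⊆ S, using
this only to see that the fibrewise maps are injective; that follows here from the flatness of the
cokernels, so the assumption is not made.) -/
theorem result
    (k : Type u) [Field k] [IsAlgClosed k] [CharZero k]
    (S : Scheme.{u}) [S.Over (Spec (CommRingCat.of k))] [IsIntegral S]
    [Smooth (S ↘ Spec (CommRingCat.of k))] (hdim : topologicalKrullDim S = 2)
    [IsProper (S ↘ Spec (CommRingCat.of k))]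
    (hproj : ∃ (n : ℕ) (ι : S ⟶ CohB1.ProjSpace n k), IsClosedImmersion ι ∧
      ι ≫ CohB1.ProjSpace.toSpec n k = (S ↘ Spec (CommRingCat.of k)))
    (P : Scheme.{u}) (pP : P ⟶ Spec (CommRingCat.of k)) [IsIntegral P] [LocallyOfFiniteType pP]
    (hP : topologicalKrullDim P = 1)
    (𝒜 𝒜' 𝒜'' : (pullback (S ↘ Spec (CommRingCat.of k)) pP).Modules) (h𝒜 : Coh.IsCoh 𝒜) (h𝒜' : Coh.IsCoh 𝒜') (h𝒜'' : Coh.IsCoh 𝒜'')
    (hfl : FlatMod.IsFlatOver (pullback.snd (S ↘ Spec (CommRingCat.of k)) pP) 𝒜)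
    (hfl' : FlatMod.IsFlatOver (pullback.snd (S ↘ Spec (CommRingCat.of k)) pP) 𝒜')
    (hfl'' : FlatMod.IsFlatOver (pullback.snd (S ↘ Spec (CommRingCat.of k)) pP) 𝒜'')
    (α : 𝒜' ⟶ 𝒜) (β : 𝒜' ⟶ 𝒜'') [Mono α] [Mono β]
    (hQ : FlatMod.IsFlatOver (pullback.snd (S ↘ Spec (CommRingCat.of k)) pP) (cokernel α))
    (hQ' : FlatMod.IsFlatOver (pullback.snd (S ↘ Spec (CommRingCat.of k)) pP) (cokernel β))
    (hQ'0 : ∀ (t : Spec (CommRingCat.of k) ⟶ P) (_ : t ≫ pP = 𝟙 _)
      (s : S ⟶ pullback (S ↘ Spec (CommRingCat.of k)) pP) (_ : s ≫ pullback.fst (S ↘ Spec (CommRingCat.of k)) pP = 𝟙 S)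
      (_ : s ≫ pullback.snd (S ↘ Spec (CommRingCat.of k)) pP = (S ↘ Spec (CommRingCat.of k)) ≫ t),
      topologicalKrullDim (CohB1.support ((Scheme.Modules.pullback s).obj (cokernel β))) ≤ 0)
    (t₀ : Spec (CommRingCat.of k) ⟶ P) (ht₀ : t₀ ≫ pP = 𝟙 _)
    (s₀ : S ⟶ pullback (S ↘ Spec (CommRingCat.of k)) pP) (hs₀ : s₀ ≫ pullback.fst (S ↘ Spec (CommRingCat.of k)) pP = 𝟙 S)
    (hs₀' : s₀ ≫ pullback.snd (S ↘ Spec (CommRingCat.of k)) pP = (S ↘ Spec (CommRingCat.of k)) ≫ t₀)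
    (h0 : Module.finrank k (Coh.HH S ((Scheme.Modules.pullback s₀).obj 𝒜') 0) =
      Module.finrank k (Coh.HH S ((Scheme.Modules.pullback s₀).obj 𝒜) 0))
    (h1 : Module.finrank k (Coh.HH S ((Scheme.Modules.pullback s₀).obj 𝒜') 1) =
      Module.finrank k (Coh.HH S ((Scheme.Modules.pullback s₀).obj 𝒜'') 1))
    (hup : ∀ (t : Spec (CommRingCat.of k) ⟶ P) (_ : t ≫ pP = 𝟙 _)
      (s : S ⟶ pullback (S ↘ Spec (CommRingCat.of k)) pP) (_ : s ≫ pullback.fst (S ↘ Spec (CommRingCat.of k)) pP = 𝟙 S)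
      (_ : s ≫ pullback.snd (S ↘ Spec (CommRingCat.of k)) pP = (S ↘ Spec (CommRingCat.of k)) ≫ t),
      Module.finrank k (Coh.HH S ((Scheme.Modules.pullback s₀).obj 𝒜'') 0) ≤
        Module.finrank k (Coh.HH S ((Scheme.Modules.pullback s).obj 𝒜'') 0))
    (t : Spec (CommRingCat.of k) ⟶ P) (ht : t ≫ pP = 𝟙 _)
    (s : S ⟶ pullback (S ↘ Spec (CommRingCat.of k)) pP) (hs : s ≫ pullback.fst (S ↘ Spec (CommRingCat.of k)) pP = 𝟙 S)
    (hs' : s ≫ pullback.snd (S ↘ Spec (CommRingCat.of k)) pP = (S ↘ Spec (CommRingCat.of k)) ≫ t) :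
    Module.finrank k (Coh.HH S ((Scheme.Modules.pullback s₀).obj 𝒜) 0) ≤
      Module.finrank k (Coh.HH S ((Scheme.Modules.pullback s).obj 𝒜) 0) := by
  haveI : IsNoetherian S := isNoetherian_of_proper (X := S) k
  haveI : IsLocallyNoetherian P := LocallyOfFiniteType.isLocallyNoetherian pP
  haveI : IsLocallyNoetherian (pullback (S ↘ Spec (CommRingCat.of k)) pP) :=
    LocallyOfFiniteType.isLocallyNoetherian (pullback.snd (S ↘ Spec (CommRingCat.of k)) pP)
  have hQc : Coh.IsCoh (cokernel β) := Coherent.isCoh_cokernel β h𝒜'.1 h𝒜''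
  let Tα : ShortComplex (pullback (S ↘ Spec (CommRingCat.of k)) pP).Modules :=
    ShortComplex.mk α (cokernel.π α) (cokernel.condition α)
  let Tβ : ShortComplex (pullback (S ↘ Spec (CommRingCat.of k)) pP).Modules :=
    ShortComplex.mk β (cokernel.π β) (cokernel.condition β)
  have hTα : Tα.ShortExact := { exact := ShortComplex.exact_cokernel α }
  have hTβ : Tβ.ShortExact := { exact := ShortComplex.exact_cokernel β }
  have key : ∀ (t : Spec (CommRingCat.of k) ⟶ P) (ht : t ≫ pP = 𝟙 _)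
      (s : S ⟶ pullback (S ↘ Spec (CommRingCat.of k)) pP) (_ : s ≫ pullback.fst (S ↘ Spec (CommRingCat.of k)) pP = 𝟙 S)
      (_ : s ≫ pullback.snd (S ↘ Spec (CommRingCat.of k)) pP = (S ↘ Spec (CommRingCat.of k)) ≫ t),
      s = Pic13.sliceAt k S pP t ht := fun t ht s h h' =>
    pullback.hom_ext (h.trans (pullback.lift_fst _ _ _).symm) (h'.trans (pullback.lift_snd _ _ _).symm)
  have e₀ := key t₀ ht₀ s₀ hs₀ hs₀'
  have e := key t ht s hs hs'
  have hex : ∀ (t : Spec (CommRingCat.of k) ⟶ P) (ht : t ≫ pP = 𝟙 _)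
      (T : ShortComplex (pullback (S ↘ Spec (CommRingCat.of k)) pP).Modules), T.ShortExact →
      FlatMod.IsFlatOver (pullback.snd (S ↘ Spec (CommRingCat.of k)) pP) T.X₃ →
      (T.map (Scheme.Modules.pullback (Pic13.sliceAt k S pP t ht))).ShortExact := fun t ht T hT h₃ =>
    HTor16.shortExact_pullback_of_flatOver (CohBC.isPullback_slice k S pP t ht) T hT h₃
  subst e₀ e
  have hc : ∀ (t : Spec (CommRingCat.of k) ⟶ P) (ht : t ≫ pP = 𝟙 _)
      {M : (pullback (S ↘ Spec (CommRingCat.of k)) pP).Modules}, Coh.IsCoh M →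
      Coh.IsCoh ((Scheme.Modules.pullback (Pic13.sliceAt k S pP t ht)).obj M) := fun t ht _ hM => isCoh_pull _ hM
  have sm := fun (t : Spec (CommRingCat.of k) ⟶ P) (ht : t ≫ pP = 𝟙 _) =>
    small k (hc t ht hQc) (hQ'0 t ht _ (pullback.lift_fst _ _ _) (pullback.lift_snd _ _ _))
  haveI : PreconnectedSpace P := inferInstance
  have hl := CohBC.euler_fibreMod_eq (k := k) (X := S) pP (G := cokernel β) hQc hQ' t t₀ ht ht₀
  rw [Pic13.fibreMod, Pic13.fibreMod, (sm t ht).2, (sm t₀ ht₀).2, Nat.cast_inj] at hl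
  have hAc : Coh.IsCoh (cokernel α) := Coherent.isCoh_cokernel α h𝒜'.1 h𝒜
  have hA := (map_w k (Scheme.Modules.pullback (Pic13.sliceAt k S pP t ht)) Tα (hex t ht Tα hTα hQ)
    (hc t ht h𝒜') (hc t ht h𝒜) (hc t ht hAc)).2.1
  have hB := (map_w k (Scheme.Modules.pullback (Pic13.sliceAt k S pP t ht)) Tβ (hex t ht Tβ hTβ hQ')
    (hc t ht h𝒜') (hc t ht h𝒜'') (hc t ht hQc)).1
  have hC := (map_w k (Scheme.Modules.pullback (Pic13.sliceAt k S pP t₀ ht₀)) Tβ (hex t₀ ht₀ Tβ hTβ hQ')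
    (hc t₀ ht₀ h𝒜') (hc t₀ ht₀ h𝒜'') (hc t₀ ht₀ hQc)).2.2 ((sm t₀ ht₀).1 1 one_pos) h1
  simp only [Tα, Tβ] at hA hB hC
  have hD := hup t ht _ hs hs'
  omega

end Groth.Agent.S15859
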