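import Groth.Statements.S15860
import Groth.Agent.SurfBl13.PlanePoint
import Groth.Agent.SurfBl13.EndPush
import Groth.Agent.BlowUpCoh.EulerPush

set_option autoImplicit false
set_option linter.style.haveILetI false
set_option backward.isDefEq.respectTransparency.types false
set_option maxHeartbeats 4000000
open CategoryTheory CategoryTheory.Limits AlgebraicGeometry
open BlowUp
open Groth.Agent.Coherent Groth.Agent.PicLib Groth.Agent.AmpleLib Groth.Agent.EulerLib Groth.Agent.CurveRR24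

namespace Groth.Agent.S15860

/-- Case of a non-positive coefficient of the exceptional divisor. Let σ : X ⟶ P² be the blow-up of the
complex projective plane at a closed point (universal property), I_E the ideal of the exceptional
curve and H = σ^*O(1). For an integer p and a natural number b write M = σ^*O(p) ⊗ I_E ^ b (the line
bundle pH − bE) and C(n,2) for the binomial coefficient, taken to be 0 when n < 2. Then the
dimensions h^i = dim H^i(X, M) are: if b ≤ p, h^0 = C(p+2,2) − C(b+1,2) and h^1 = h^2 = 0; if p = b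
− 1, h^0 = h^1 = h^2 = 0; if p ≤ b − 2, h^0 = 0, h^1 = C(b+1,2) − C(p+2,2) and h^2 = C(−p−1,2). (The
structure of scheme over C on X is the composite through σ.) -/
theorem result
    (x : ↥(CohB1.ProjSpace 2 ℂ)) (hx : IsClosed ({x} : Set ↥(CohB1.ProjSpace 2 ℂ)))
    {X : Scheme.{0}} [X.Over (Spec (CommRingCat.of ℂ))] (σ : X ⟶ CohB1.ProjSpace 2 ℂ)
    (hσk : σ ≫ CohB1.ProjSpace.toSpec 2 ℂ = X ↘ Spec (CommRingCat.of ℂ))
    (hσ : BlowUp.IsBlowUp σ (Scheme.IdealSheafData.vanishingIdeal ⟨{x}, hx⟩)) (p : ℤ) (b : ℕ) :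
    ((b : ℤ) ≤ p →
      (Module.finrank ℂ (Coh.HH X (CohB1.tensorMod ((Scheme.Modules.pullback σ).obj (Twist.twistProjSpace 2 ℂ p))
        (ClSub.idealMod ((BlowUp.exceptional σ (Scheme.IdealSheafData.vanishingIdeal ⟨{x}, hx⟩)) ^ b))) 0) : ℤ) = ((p + 2).toNat.choose 2 : ℤ) - ((b + 1).choose 2 : ℤ) ∧
      Module.finrank ℂ (Coh.HH X (CohB1.tensorMod ((Scheme.Modules.pullback σ).obj (Twist.twistProjSpace 2 ℂ p))
        (ClSub.idealMod ((BlowUp.exceptional σ (Scheme.IdealSheafData.vanishingIdeal ⟨{x}, hx⟩)) ^ b))) 1) = 0 ∧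
      Module.finrank ℂ (Coh.HH X (CohB1.tensorMod ((Scheme.Modules.pullback σ).obj (Twist.twistProjSpace 2 ℂ p))
        (ClSub.idealMod ((BlowUp.exceptional σ (Scheme.IdealSheafData.vanishingIdeal ⟨{x}, hx⟩)) ^ b))) 2) = 0) ∧
    (p = (b : ℤ) - 1 →
      Module.finrank ℂ (Coh.HH X (CohB1.tensorMod ((Scheme.Modules.pullback σ).obj (Twist.twistProjSpace 2 ℂ p))
        (ClSub.idealMod ((BlowUp.exceptional σ (Scheme.IdealSheafData.vanishingIdeal ⟨{x}, hx⟩)) ^ b))) 0) = 0 ∧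
      Module.finrank ℂ (Coh.HH X (CohB1.tensorMod ((Scheme.Modules.pullback σ).obj (Twist.twistProjSpace 2 ℂ p))
        (ClSub.idealMod ((BlowUp.exceptional σ (Scheme.IdealSheafData.vanishingIdeal ⟨{x}, hx⟩)) ^ b))) 1) = 0 ∧
      Module.finrank ℂ (Coh.HH X (CohB1.tensorMod ((Scheme.Modules.pullback σ).obj (Twist.twistProjSpace 2 ℂ p))
        (ClSub.idealMod ((BlowUp.exceptional σ (Scheme.IdealSheafData.vanishingIdeal ⟨{x}, hx⟩)) ^ b))) 2) = 0) ∧
    (p ≤ (b : ℤ) - 2 →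
      Module.finrank ℂ (Coh.HH X (CohB1.tensorMod ((Scheme.Modules.pullback σ).obj (Twist.twistProjSpace 2 ℂ p))
        (ClSub.idealMod ((BlowUp.exceptional σ (Scheme.IdealSheafData.vanishingIdeal ⟨{x}, hx⟩)) ^ b))) 0) = 0 ∧
      (Module.finrank ℂ (Coh.HH X (CohB1.tensorMod ((Scheme.Modules.pullback σ).obj (Twist.twistProjSpace 2 ℂ p))
        (ClSub.idealMod ((BlowUp.exceptional σ (Scheme.IdealSheafData.vanishingIdeal ⟨{x}, hx⟩)) ^ b))) 1) : ℤ) = ((b + 1).choose 2 : ℤ) - ((p + 2).toNat.choose 2 : ℤ) ∧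
      Module.finrank ℂ (Coh.HH X (CohB1.tensorMod ((Scheme.Modules.pullback σ).obj (Twist.twistProjSpace 2 ℂ p))
        (ClSub.idealMod ((BlowUp.exceptional σ (Scheme.IdealSheafData.vanishingIdeal ⟨{x}, hx⟩)) ^ b))) 2) = (-p - 1).toNat.choose 2) := by
  let I : (CohB1.ProjSpace 2 ℂ).IdealSheafData := Scheme.IdealSheafData.vanishingIdeal ⟨{x}, hx⟩
  have hI := BlowUpPlane.koszulBasis_point ℂ x hx
  haveI : IsProper σ := BlowUpLib.isProper_of_isBlowUp hσ (BlowUpCoh.isFiniteType_of_koszulBasis hI)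
  have hL : PicF.IsInvertible (Twist.twistProjSpace 2 ℂ p) :=
    TwistLib.G.isInvertible_twist (UPLib.exists_degOne (HypLib.hgen (R := ℂ) 2)) p
  have hLF : FlatMod.IsFinLocFree (Twist.twistProjSpace 2 ℂ p) := fun y =>
    let ⟨U, hy, e⟩ := PicLib.isFinLocFreeOfRank_one hL y; ⟨U, 1, hy, e⟩
  haveI := MorProj.isQCoh_idealMod ((I.comap σ) ^ b)
  haveI := isQCoh_of_isInvertible (PicLoc.isInvertible_pullback σ hL)
  haveI : Coh.IsQCoh (CohB1.tensorMod ((Scheme.Modules.pullback σ).obj (Twist.twistProjSpace 2 ℂ p))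
      (ClSub.idealMod ((I.comap σ) ^ b))) := isQCoh_tensorMod _ _
  obtain ⟨T⟩ := BlowUpCoh.exists_twistPow (I.comap σ) b
  obtain ⟨e⟩ := BlowUpCoh.nonempty_pushforward_idealPow hσ hI b
  have he : ∀ q : ℕ, Module.finrank ℂ (Coh.HH X (CohB1.tensorMod ((Scheme.Modules.pullback σ).obj (Twist.twistProjSpace 2 ℂ p))
      (ClSub.idealMod ((BlowUp.exceptional σ (Scheme.IdealSheafData.vanishingIdeal ⟨{x}, hx⟩)) ^ b))) q) =
      Module.finrank ℂ (Coh.HH (CohB1.ProjSpace 2 ℂ) (CohB1.tensorMod (Twist.twistProjSpace 2 ℂ p) (ClSub.idealMod ((Scheme.IdealSheafData.vanishingIdeal (⟨{x}, hx⟩ : TopologicalSpace.Closeds (CohB1.ProjSpace 2 ℂ))) ^ b))) q) := by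
    intro q
    obtain ⟨ψ⟩ := SurfBl13.nonempty_HH_push_equiv σ ℂ hσk
      (CohB1.tensorMod ((Scheme.Modules.pullback σ).obj (Twist.twistProjSpace 2 ℂ p)) (ClSub.idealMod ((I.comap σ) ^ b)))
      (fun i hi => BlowUpCoh.isZero_rpushAb_tensor_pullback σ hLF _ i (BlowUpCoh.isZero_rpushAb hσ hI T (by omega) i hi)) q
    exact ψ.finrank_eq.trans (CurveRR24.finrank_HH_congr ℂ
      (((projIso (f := σ) hLF).app _).symm ≪≫ (tensE (Twist.twistProjSpace 2 ℂ p)).mapIso e) q)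
  rw [he 0, he 1, he 2]
  have hc := SurfBl13.plane_point_cohomology ℂ x hx p b
  dsimp only at hc
  change (_ ∧ _) ∧ _ at hc
  obtain ⟨⟨h0a, h0b⟩, h2, h1⟩ := hc
  refine ⟨fun h => ?_, fun h => ?_, fun h => ?_⟩
  · have := h0a (by omega)
    have hn : (-p - 1).toNat.choose 2 = 0 := Nat.choose_eq_zero_of_lt (by omega)
    refine ⟨?_, ?_, ?_⟩ <;> omega
  · have := h0b (by omega)
    have := h0a (by omega)
    have hn : (-p - 1).toNat.choose 2 = 0 := Nat.choose_eq_zero_of_lt (by omega)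
    refine ⟨?_, ?_, ?_⟩ <;> omega
  · have := h0b (by omega)
    refine ⟨?_, ?_, ?_⟩ <;> omega

end Groth.Agent.S15860
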