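import Groth.Statements.S15868
import Groth.Agent.SurfBl13.Thick
import Groth.Agent.SurfBl13.Finite
import Groth.Agent.Resolve13.PointExc
import Groth.Agent.Models7.NodeResolve.BlowUp
-- import your own Groth.Agent.* helpers here

set_option autoImplicit false
set_option linter.style.haveILetI false
set_option backward.isDefEq.respectTransparency.types false
set_option maxHeartbeats 4000000
open CategoryTheory CategoryTheory.Limits AlgebraicGeometry
open SurfBl
open Groth.Agent.Coherent Groth.Agent.PicLib Groth.Agent.AmpleLib Groth.Agent.EulerLib Groth.Agent.CurveRR24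

namespace Groth.Agent.S15868

/-- The exceptional divisor over one of the points is a line with conormal module of degree one. -/
theorem exists_line {S X : Scheme.{0}} [IsLocallyNoetherian S] (b : X ⟶ S) (Z : TopologicalSpace.Closeds S)
    (hb : BlowUp.IsBlowUp b (Scheme.IdealSheafData.vanishingIdeal Z)) (z : S) (hz : IsClosed ({z} : Set S))
    (hzZ : z ∈ Z) (hrest : IsClosed ((Z : Set S) \ {z})) (hreg : IsRegularLocalRing (S.presheaf.stalk z))
    (hd : ringKrullDim (S.presheaf.stalk z) = 2)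
    (hE : BlowUp.IsEffCartierIdeal ((Scheme.IdealSheafData.vanishingIdeal ⟨{z}, hz⟩).comap b)) :
    ∃ (K : Type) (_ : Field K)
      (e : CohB1.ProjSpace 1 K ≅ ((Scheme.IdealSheafData.vanishingIdeal ⟨{z}, hz⟩).comap b).subscheme),
      Models7.P1Deg.HasDeg e ((Scheme.Modules.pullback
        ((Scheme.IdealSheafData.vanishingIdeal ⟨{z}, hz⟩).comap b).subschemeι).obj
        (ClSub.idealMod ((Scheme.IdealSheafData.vanishingIdeal ⟨{z}, hz⟩).comap b))) 1 := by
  let E := (Scheme.IdealSheafData.vanishingIdeal ⟨{z}, hz⟩).comap b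
  let U : S.Opens := ⟨((Z : Set S) \ {z})ᶜ, hrest.isOpen_compl⟩
  have hzU : z ∈ U := fun h => h.2 rfl
  let z' : U.toScheme := ⟨z, hzU⟩
  have hz' : IsClosed ({z'} : Set U.toScheme) := by
    have h : ({z'} : Set U.toScheme) = U.ι ⁻¹' {z} := by
      ext w
      exact ⟨fun h => congrArg Subtype.val h, fun h => Subtype.ext h⟩
    rw [h]
    exact hz.preimage U.ι.continuous
  have hI : (Scheme.IdealSheafData.vanishingIdeal Z).comap U.ι =
      Scheme.IdealSheafData.vanishingIdeal ⟨{z'}, hz'⟩ := by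
    rw [Models7.NodeResolve.comap_vanishingIdeal_etale]
    refine congrArg Scheme.IdealSheafData.vanishingIdeal (TopologicalSpace.Closeds.ext (Set.ext fun w => ?_))
    exact ⟨fun hw => Subtype.ext (by_contra fun hne => w.2 ⟨hw, hne⟩), fun hw => by
      show U.ι w ∈ (Z : Set S)
      rw [show U.ι w = z from congrArg Subtype.val (Set.mem_singleton_iff.1 hw)]
      exact hzZ⟩
  have hI' : (Scheme.IdealSheafData.vanishingIdeal ⟨{z}, hz⟩).comap U.ι =
      Scheme.IdealSheafData.vanishingIdeal ⟨{z'}, hz'⟩ := by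
    rw [Models7.NodeResolve.comap_vanishingIdeal_etale]
    refine congrArg Scheme.IdealSheafData.vanishingIdeal (TopologicalSpace.Closeds.ext (Set.ext fun w => ?_))
    exact ⟨fun hw => Subtype.ext hw, fun hw => congrArg Subtype.val (Set.mem_singleton_iff.1 hw)⟩
  let O : X.Opens := b ⁻¹ᵁ U
  let iS := asIso (U.ι.stalkMap z')
  haveI : IsRegularLocalRing (S.presheaf.stalk (U.ι z')) := hreg
  haveI : IsRegularLocalRing (U.toScheme.presheaf.stalk z') :=
    IsRegularLocalRing.of_ringEquiv iS.commRingCatIsoToRingEquiv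
  have hd' : ringKrullDim (U.toScheme.presheaf.stalk z') = 2 :=
    (ringKrullDim_eq_of_ringEquiv iS.commRingCatIsoToRingEquiv).symm.trans hd
  have hb' := BlowUpLib.isBlowUp_restrict hb U
  rw [hI] at hb'
  obtain ⟨E₀, ι, hι, hexc, -, -, hker⟩ := Resolve13.exists_excCurve_point z' hz' hd' (b ∣_ U) hb'
  haveI := hι
  have hkerE : ι.ker = E.comap O.ι := by
    rw [hker, ← hI', BlowUpCoh.comap_restrict]
  obtain ⟨-, K, hK, e₀, ⟨φ⟩⟩ := hexc
  -- the divisor lies over `U`
  let q : (E.comap O.ι).subscheme ⟶ E.subscheme := (E.comapIso O.ι).hom ≫ Limits.pullback.snd _ _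
  have hq : q ≫ E.subschemeι = (E.comap O.ι).subschemeι ≫ O.ι := by
    rw [← E.comapIso_hom_fst O.ι]
    simp only [q, Category.assoc, pullback.condition]
  haveI : Surjective (Limits.pullback.snd O.ι E.subschemeι) := by
    refine ⟨fun w => ?_⟩
    have hw : E.subschemeι w ∈ (E.support : Set X) := E.range_subschemeι.le ⟨w, rfl⟩
    rw [Scheme.IdealSheafData.support_comap] at hw
    have hwU : E.subschemeι w ∈ O := by
      show b (E.subschemeι w) ∈ U
      rw [show b (E.subschemeι w) = z from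
        Set.mem_singleton_iff.1 ((Scheme.IdealSheafData.coe_support_vanishingIdeal _).le hw)]
      exact hzU
    obtain ⟨p, -, hp⟩ := Scheme.Pullback.exists_preimage_pullback
      (f := O.ι) (g := E.subschemeι) (⟨E.subschemeι w, hwU⟩ : O.toScheme) w rfl
    exact ⟨p, hp⟩
  haveI : IsIso (Limits.pullback.snd O.ι E.subschemeι) := by
    haveI : Epi (Limits.pullback.snd O.ι E.subschemeι).base :=
      (TopCat.epi_iff_surjective _).2 (Limits.pullback.snd O.ι E.subschemeι).surjective
    exact IsOpenImmersion.isIso _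
  haveI : IsIso q := inferInstanceAs (IsIso ((E.comapIso O.ι).hom ≫ Limits.pullback.snd _ _))
  let m : CohB1.ProjSpace 1 K ≅ E.subscheme :=
    e₀ ≪≫ asIso ι.toImage ≪≫ eqToIso (congrArg Scheme.IdealSheafData.subscheme hkerE) ≪≫ asIso q
  refine ⟨K, hK, m, ?_⟩
  have haux : ∀ {A B : O.toScheme.IdealSheafData} (h : A = B),
      eqToHom (congrArg Scheme.IdealSheafData.subscheme h) ≫ B.subschemeι = A.subschemeι := by
    intro A B h; subst h; simp
  have hm : m.hom ≫ E.subschemeι = (e₀.hom ≫ ι) ≫ O.ι := by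
    simp only [m, Iso.trans_hom, asIso_hom, eqToIso.hom, Category.assoc, hq]
    rw [← Category.assoc (eqToHom _), haux hkerE, ← Category.assoc ι.toImage]
    exact congrArg (fun f => e₀.hom ≫ f ≫ O.ι) ι.toImage_imageι
  have hEO : BlowUp.IsEffCartierIdeal (E.comap O.ι) := by
    have h := hb'.1
    rw [← hI', BlowUpCoh.comap_restrict] at h
    exact h
  obtain ⟨ψ⟩ := Inters29.nonempty_pullback_idealMod_iso O.ι E hE hEO
  exact ⟨((Scheme.Modules.pullbackComp m.hom E.subschemeι).app _) ≪≫
    ((Scheme.Modules.pullbackCongr hm).app _) ≪≫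
    ((Scheme.Modules.pullbackComp (e₀.hom ≫ ι) O.ι).symm.app _) ≪≫
    (Scheme.Modules.pullback (e₀.hom ≫ ι)).mapIso (ψ ≪≫ eqToIso (congrArg ClSub.idealMod hkerE.symm)) ≪≫ φ⟩


/-- Let S be a smooth projective surface over the complex numbers (integral, smooth of relative
dimension 2 over C, admitting a closed immersion over C into some P^n), P_1, …, P_s distinct closed
points, σ : S' ⟶ S the blow-up of S at the reduced finite set {P_1, …, P_s} (universal property; S'
is viewed over C through σ) and I the inverse image ideal of the ideal of {P_1, …, P_s}, so that the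
closed subscheme E(n) of I^n is the (n−1)-st infinitesimal thickening of the exceptional divisor E =
E(1). Let L be an invertible O_{S'}-module and write L_n = L|_{E(n)}. Then for every n ≥ 1 the
connecting map H^0(E(n), L_n) ⟶ H^1(E, L|_E(n)) of the exact sequence 0 ⟶ L|_E(n) ⟶ L_{n+1} ⟶ L_n ⟶
0, where L|_E(n) = (L ⊗ I^n)|_E, vanishes; equivalently the restriction H^0(E(n+1), L_{n+1}) ⟶
H^0(E(n), L_n) is surjective. Stated here as the equivalent identity of (finite) dimensions dim
H^0(S', L ⊗ O/I^{n+1}) = dim H^0(S', (L ⊗ I^n) ⊗ O/I) + dim H^0(S', L ⊗ O/I^n). -/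
theorem result
    (S : Scheme.{0}) [S.Over (Spec (CommRingCat.of ℂ))] [IsIntegral S]
    [SmoothOfRelativeDimension 2 (S ↘ Spec (CommRingCat.of ℂ))]
    (hproj : ∃ (n : ℕ) (ι : S ⟶ CohB1.ProjSpace n ℂ), IsClosedImmersion ι ∧
      ι ≫ CohB1.ProjSpace.toSpec n ℂ = S ↘ Spec (CommRingCat.of ℂ))
    (s : ℕ) (P : Fin s → ↥S) (hP : Function.Injective P) (hPc : ∀ i, IsClosed ({P i} : Set ↥S))
    (hZ : IsClosed (Set.range P))
    {S' : Scheme.{0}} [S'.Over (Spec (CommRingCat.of ℂ))] (σ : S' ⟶ S)
    (hσk : σ ≫ (S ↘ Spec (CommRingCat.of ℂ)) = S' ↘ Spec (CommRingCat.of ℂ))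
    (hσ : BlowUp.IsBlowUp σ (Scheme.IdealSheafData.vanishingIdeal ⟨Set.range P, hZ⟩))
    (L : S'.Modules) (hL : PicF.IsInvertible L) (n : ℕ) (hn : 1 ≤ n) :
    Module.finrank ℂ (Coh.HH S' (CohB1.tensorMod L (ClSub.quotMod ((BlowUp.exceptional σ (Scheme.IdealSheafData.vanishingIdeal ⟨Set.range P, hZ⟩)) ^ (n + 1)))) 0) =
      Module.finrank ℂ (Coh.HH S' (CohB1.tensorMod (CohB1.tensorMod L (ClSub.idealMod ((BlowUp.exceptional σ (Scheme.IdealSheafData.vanishingIdeal ⟨Set.range P, hZ⟩)) ^ n))) (ClSub.quotMod (BlowUp.exceptional σ (Scheme.IdealSheafData.vanishingIdeal ⟨Set.range P, hZ⟩)))) 0) +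
      Module.finrank ℂ (Coh.HH S' (CohB1.tensorMod L (ClSub.quotMod ((BlowUp.exceptional σ (Scheme.IdealSheafData.vanishingIdeal ⟨Set.range P, hZ⟩)) ^ n))) 0) := by
  classical
  haveI : IsProper (S ↘ Spec (CommRingCat.of ℂ)) := by
    obtain ⟨N, ι, hι, hw⟩ := hproj
    haveI := Coherent.isProper_projSpace_toSpec (n := N) (R := ℂ)
    rw [← hw]; infer_instance
  haveI : Smooth (S ↘ Spec (CommRingCat.of ℂ)) := SmoothOfRelativeDimension.smooth 2 _
  haveI : IsLocallyNoetherian S := LocallyOfFiniteType.isLocallyNoetherian (S ↘ Spec (CommRingCat.of ℂ))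
  haveI : IsProper σ := SurfBl13.isProper_blowUp σ hσ
  haveI : IsProper (S' ↘ Spec (CommRingCat.of ℂ)) := by rw [← hσk]; infer_instance
  haveI := isNoetherian_of_proper ℂ (X := S')
  have hpts := SurfBl13.points_range (k := ℂ) S P hPc hZ
  let E : Fin s → S'.IdealSheafData := fun i => (Scheme.IdealSheafData.vanishingIdeal ⟨{P i}, hPc i⟩).comap σ
  have hJ : BlowUp.exceptional σ (Scheme.IdealSheafData.vanishingIdeal (X := S) ⟨Set.range P, hZ⟩) = ∏ i, E i := by
    show (Scheme.IdealSheafData.vanishingIdeal (X := S) ⟨Set.range P, hZ⟩).comap σ = _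
    rw [SurfBl13.vanishingIdeal_range_eq_prod P hP hPc hZ, SurfBl13.comap_finset_prod]
  have hprodE : BlowUp.IsEffCartierIdeal (∏ i, E i) := hJ ▸ hσ.1
  have hE : ∀ i, BlowUp.IsEffCartierIdeal (E i) := fun i =>
    SDiv28.isEffCartier_left_of_mul (J := ∏ j ∈ Finset.univ.erase i, E j)
      (by rw [Finset.mul_prod_erase _ _ (Finset.mem_univ i)]; exact hprodE)
  have hsupp : ∀ (T : Finset (Fin s)) (m : ℕ),
      ((∏ i ∈ T, E i ^ m).support : Set S') ⊆ σ ⁻¹' (P '' (T : Set (Fin s))) := by
    intro T m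
    induction T using Finset.induction_on with
    | empty => simp [Scheme.IdealSheafData.one_eq_top]
    | insert a T ha ih =>
      rw [Finset.prod_insert ha, Scheme.IdealSheafData.support_mul, Finset.coe_insert, Set.image_insert_eq]
      rintro y (hy | hy)
      · refine Or.inl ?_
        have h : y ∈ ((E a).support : Set S') := by
          cases m with
          | zero => simp [Scheme.IdealSheafData.one_eq_top] at hy
          | succ m => rwa [Scheme.IdealSheafData.support_pow _ _ m.succ_ne_zero] at hy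
        rw [Scheme.IdealSheafData.support_comap] at h
        exact (Scheme.IdealSheafData.coe_support_vanishingIdeal _).le h
      · exact Or.inr (ih hy)
  have hEs : ∀ (i : Fin s) (m : ℕ), ((E i ^ m).support : Set S') ⊆ σ ⁻¹' {P i} := fun i m => by
    have h := hsupp {i} m
    rwa [Finset.prod_singleton, Finset.coe_singleton, Set.image_singleton] at h
  have hdis : ∀ (a : Fin s) (T : Finset (Fin s)) (m l : ℕ), a ∉ T →
      Disjoint ((∏ i ∈ T, E i ^ m).support : Set S') ((E a ^ l).support : Set S') := fun a T m l ha =>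
    Set.disjoint_left.2 fun y hy hya => by
      obtain ⟨i, hi, hiy⟩ := hsupp T m hy
      exact ha (hP (hiy.trans (hEs a l hya)) ▸ hi)
  let h0 : S'.Modules → ℕ := fun M => Module.finrank ℂ (Coh.HH S' M 0)
  have hsum : ∀ {M : S'.Modules} (_ : PicF.IsInvertible M) (m : ℕ) (T : Finset (Fin s)),
      h0 (CohB1.tensorMod (ClSub.quotMod (∏ i ∈ T, E i ^ m)) M) =
        ∑ i ∈ T, h0 (CohB1.tensorMod (ClSub.quotMod (E i ^ m)) M) := by
    intro M hM m T
    induction T using Finset.induction_on with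
    | empty =>
      rw [Finset.sum_empty, Finset.prod_empty]
      haveI : Subsingleton Γ(CohB1.tensorMod (ClSub.quotMod (1 : S'.IdealSheafData)) M, ⊤) := by
        refine subsingleton_sections_of_disjoint _ ⊤ (Set.disjoint_left.2 fun y _ hy => ?_)
        have h := KTop28.support_tensorMod_subset M (ClSub.quotMod (1 : S'.IdealSheafData))
          ((Coherent.support_eq_of_iso (tensorComm _ _)).le hy)
        simpa [Scheme.IdealSheafData.one_eq_top] using support_quotMod_subset _ h
      haveI : Subsingleton (Coh.HH S' (CohB1.tensorMod (ClSub.quotMod (1 : S'.IdealSheafData)) M) 0) :=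
        (CurveRR24.hhZero ℂ _).toEquiv.subsingleton_congr.2 (show Subsingleton Γ(CohB1.tensorMod (ClSub.quotMod (1 : S'.IdealSheafData)) M, ⊤) from inferInstance)
      exact Module.finrank_zero_of_subsingleton
    | insert a T ha ih =>
      rw [Finset.prod_insert ha, Finset.sum_insert ha, ← ih]
      refine (SurfBl13.h0_disjoint ℂ (Inters29.isEffCartier_pow (hE a) m)
        (Inters29.isEffCartier_prod T _ fun i => Inters29.isEffCartier_pow (hE i) m) (hdis a T m m ha).symm hM).trans ?_
      exact add_comm _ _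
  have hpow : ∀ m : ℕ, (∏ i, E i) ^ m = ∏ i, E i ^ m := fun m => (Finset.prod_pow _ _ _).symm
  rw [hJ, hpow (n + 1), hpow n]
  have hIn : PicF.IsInvertible (ClSub.idealMod (∏ i, E i ^ n)) :=
    FlatMor12.IdealModGen.isInvertible_idealMod _ (Inters29.isEffCartier_prod _ _ fun i => Inters29.isEffCartier_pow (hE i) n)
  have hN : PicF.IsInvertible (CohB1.tensorMod (ClSub.idealMod (∏ i, E i ^ n)) L) := isInvertible_tensorMod hIn hL
  have hlhs := hsum hL (n + 1) Finset.univ
  have hrhs := hsum hL n Finset.univ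
  have hmid := hsum hN 1 Finset.univ
  simp only [pow_one] at hmid
  rw [CurveRR24.finrank_HH_congr ℂ (tensorComm L _) 0, CurveRR24.finrank_HH_congr ℂ
      (tensorComm _ (ClSub.quotMod (∏ i, E i)) ≪≫ AmpleLib.tensorIso (Iso.refl _) (tensorComm L _)) 0,
    CurveRR24.finrank_HH_congr ℂ (tensorComm L _) 0]
  refine hlhs.trans (((Finset.sum_congr rfl fun i _ => ?_).trans Finset.sum_add_distrib).trans
    (congrArg₂ (· + ·) hmid hrhs).symm)
  obtain ⟨hc, hr, hreg, hd⟩ := hpts (P i) ⟨i, rfl⟩
  obtain ⟨K, hK, e, he⟩ := exists_line σ ⟨Set.range P, hZ⟩ hσ (P i) (hPc i) ⟨i, rfl⟩ hr hreg hd (hE i)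
  refine (SurfBl13.h0_step ℂ (hE i) e he hL n hn).trans (congrArg (· + _) ?_)
  -- the twist by the other divisors is invisible
  have hK' := Inters29.isEffCartier_prod (Finset.univ.erase i) (fun j => E j ^ n)
    fun j => Inters29.isEffCartier_pow (hE j) n
  have hn' := Inters29.isEffCartier_pow (hE i) n
  have hi := FlatMor12.IdealModGen.isInvertible_idealMod _ hn'
  obtain ⟨m⟩ := Inters29.nonempty_mul_iso (∏ j ∈ Finset.univ.erase i, E j ^ n) (E i ^ n) hK' hn'
  obtain ⟨r⟩ := SurfBl13.twist_disjoint_iso hK' (hE i) (by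
    have h := hdis i (Finset.univ.erase i) n 1 (Finset.notMem_erase i _)
    rwa [pow_one] at h) (isInvertible_tensorMod hi hL)
  obtain ⟨α⟩ := exists_assocIso' (ClSub.idealMod (∏ j ∈ Finset.univ.erase i, E j ^ n)) hi hL
  exact CurveRR24.finrank_HH_congr ℂ (r.symm ≪≫ AmpleLib.tensorIso (Iso.refl _) (α.symm ≪≫
    AmpleLib.tensorIso (m ≪≫ eqToIso (congrArg ClSub.idealMod
      ((Finset.prod_erase_mul _ _ (Finset.mem_univ i))))) (Iso.refl L))) 0

end Groth.Agent.S15868
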