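import Groth.Statements.S15861
import Groth.Agent.SurfBl13.PlaneBlow
import Groth.Agent.PnCanon5.Chart

set_option autoImplicit false
set_option linter.style.haveILetI false
set_option backward.isDefEq.respectTransparency.types false
set_option maxHeartbeats 4000000
open CategoryTheory CategoryTheory.Limits AlgebraicGeometry
open BlowUp
open Groth.Agent.Coherent Groth.Agent.PicLib Groth.Agent.AmpleLib Groth.Agent.EulerLib Groth.Agent.CurveRR24

namespace Groth.Agent.S15861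

/-- Case of a non-negative coefficient of the exceptional divisor. Let σ : X ⟶ P² be the blow-up of the
complex projective plane at a closed point (universal property), I_E the ideal of the exceptional
curve, H = σ^*O(1), and L an O_X-module with L ⊗ I_E ≅ O_X (L is O_X(E)). For an integer p and a
natural number b write M = σ^*O(p) ⊗ L^{⊗b} (the line bundle pH + bE) and C(n,2) for the binomial
coefficient, taken to be 0 when n < 2. Then the dimensions h^i = dim H^i(X, M) are: if p + b ≥ 0,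
h^0 = C(p+2,2), h^1 = C(b,2) − C(−p−1,2) and h^2 = 0; if p + b = −1, h^0 = h^1 = h^2 = 0; if p + b ≤
−2, h^0 = h^1 = 0 and h^2 = C(−p−1,2) − C(b,2). (The structure of scheme over C on X is the
composite through σ.) -/
theorem result
    (x : ↥(CohB1.ProjSpace 2 ℂ)) (hx : IsClosed ({x} : Set ↥(CohB1.ProjSpace 2 ℂ)))
    {X : Scheme.{0}} [X.Over (Spec (CommRingCat.of ℂ))] (σ : X ⟶ CohB1.ProjSpace 2 ℂ)
    (hσk : σ ≫ CohB1.ProjSpace.toSpec 2 ℂ = X ↘ Spec (CommRingCat.of ℂ))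
    (hσ : BlowUp.IsBlowUp σ (Scheme.IdealSheafData.vanishingIdeal ⟨{x}, hx⟩))
    (L : X.Modules) (hL : ClSub.IsInverseOf L (ClSub.idealMod (BlowUp.exceptional σ (Scheme.IdealSheafData.vanishingIdeal ⟨{x}, hx⟩))))
    (p : ℤ) (b : ℕ) :
    (0 ≤ p + b →
      Module.finrank ℂ (Coh.HH X (CohB1.tensorMod ((Scheme.Modules.pullback σ).obj (Twist.twistProjSpace 2 ℂ p)) (CohB1.tensorPow L b)) 0) = (p + 2).toNat.choose 2 ∧
      (Module.finrank ℂ (Coh.HH X (CohB1.tensorMod ((Scheme.Modules.pullback σ).obj (Twist.twistProjSpace 2 ℂ p)) (CohB1.tensorPow L b)) 1) : ℤ) = (b.choose 2 : ℤ) - ((-p - 1).toNat.choose 2 : ℤ) ∧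
      Module.finrank ℂ (Coh.HH X (CohB1.tensorMod ((Scheme.Modules.pullback σ).obj (Twist.twistProjSpace 2 ℂ p)) (CohB1.tensorPow L b)) 2) = 0) ∧
    (p + b = -1 →
      Module.finrank ℂ (Coh.HH X (CohB1.tensorMod ((Scheme.Modules.pullback σ).obj (Twist.twistProjSpace 2 ℂ p)) (CohB1.tensorPow L b)) 0) = 0 ∧
      Module.finrank ℂ (Coh.HH X (CohB1.tensorMod ((Scheme.Modules.pullback σ).obj (Twist.twistProjSpace 2 ℂ p)) (CohB1.tensorPow L b)) 1) = 0 ∧
      Module.finrank ℂ (Coh.HH X (CohB1.tensorMod ((Scheme.Modules.pullback σ).obj (Twist.twistProjSpace 2 ℂ p)) (CohB1.tensorPow L b)) 2) = 0) ∧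
    (p + b ≤ -2 →
      Module.finrank ℂ (Coh.HH X (CohB1.tensorMod ((Scheme.Modules.pullback σ).obj (Twist.twistProjSpace 2 ℂ p)) (CohB1.tensorPow L b)) 0) = 0 ∧
      Module.finrank ℂ (Coh.HH X (CohB1.tensorMod ((Scheme.Modules.pullback σ).obj (Twist.twistProjSpace 2 ℂ p)) (CohB1.tensorPow L b)) 1) = 0 ∧
      (Module.finrank ℂ (Coh.HH X (CohB1.tensorMod ((Scheme.Modules.pullback σ).obj (Twist.twistProjSpace 2 ℂ p)) (CohB1.tensorPow L b)) 2) : ℤ) = ((-p - 1).toNat.choose 2 : ℤ) - (b.choose 2 : ℤ)) := by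
  haveI hsm : SmoothOfRelativeDimension 2 (CohB1.ProjSpace 2 ℂ ↘ Spec (CommRingCat.of ℂ)) :=
    PnCanon5.smoothOfRelativeDimension_toSpec 2 ℂ
  haveI : Smooth (CohB1.ProjSpace 2 ℂ ↘ Spec (CommRingCat.of ℂ)) := SmoothOfRelativeDimension.smooth 2 _
  haveI : IsLocallyNoetherian (CohB1.ProjSpace 2 ℂ) :=
    LocallyOfFiniteType.isLocallyNoetherian (CohB1.ProjSpace 2 ℂ ↘ Spec (CommRingCat.of ℂ))
  have hpts : SurfBl13.Points (⟨{x}, hx⟩ : TopologicalSpace.Closeds (CohB1.ProjSpace 2 ℂ)) := by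
    intro z hz
    obtain rfl : z = x := hz
    obtain ⟨h1, h2⟩ := SurfBl13.regular_of_surface ℂ (CohB1.ProjSpace 2 ℂ ↘ Spec (CommRingCat.of ℂ)) z hx
    refine ⟨hx, ?_, h1, h2⟩
    show IsClosed (({z} : Set (CohB1.ProjSpace 2 ℂ)) \ {z})
    rw [Set.sdiff_self]
    exact isClosed_empty
  obtain ⟨hc, hr, hreg, hd⟩ := hpts x rfl
  have hline := S15868.exists_line σ ⟨{x}, hx⟩ hσ x hx rfl hr hreg hd hσ.1
  have hp := SurfBl13.planeBlow_cohomology ℂ σ x hx hσk hσ hpts hline L hL p b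
  dsimp only at hp
  obtain ⟨h0, hχ, h2, h1⟩ := hp
  simp only [BlowUp.exceptional] at *
  refine ⟨fun hn => ?_, fun hn => ?_, fun hn => ?_⟩
  · have := h2 (by omega)
    refine ⟨?_, ?_, ?_⟩ <;> omega
  · have := h2 (by omega)
    have := h1 (by omega)
    have hz : (p + 2).toNat.choose 2 = 0 := Nat.choose_eq_zero_of_lt (by omega)
    refine ⟨?_, ?_, ?_⟩ <;> omega
  · have := h1 (by omega)
    have hz : (p + 2).toNat.choose 2 = 0 := Nat.choose_eq_zero_of_lt (by omega)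
    refine ⟨?_, ?_, ?_⟩ <;> omega

end Groth.Agent.S15861
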