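import Groth.Statements.S15862
import Groth.Agent.SurfBl13.AmpleBl
import Groth.Agent.LocImm12.BlowUpProjective
import Groth.Agent.AmpleLib.Local
-- import your own Groth.Agent.* helpers here

set_option autoImplicit false
set_option linter.style.haveILetI false
set_option backward.isDefEq.respectTransparency.types false
set_option maxHeartbeats 4000000
open CategoryTheory CategoryTheory.Limits AlgebraicGeometry
open SurfBl
open Groth.Agent.Coherent Groth.Agent.PicLib Groth.Agent.AmpleLib Groth.Agent.EulerLib Groth.Agent.CurveRR24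

namespace Groth.Agent.S15862

/-- Let S be a smooth projective surface over the complex numbers (an integral scheme, smooth of
relative dimension 2 over C, with a closed immersion ι over C into some projective space P^n) and H
= ι^*O(1) the corresponding very ample invertible module. Let P_1, …, P_s be distinct closed points
of S, σ : S' ⟶ S the blow-up of S at the reduced finite set {P_1, …, P_s} (universal property) and
I_{E_i} the inverse image ideal of the ideal of P_i (the ideal of the exceptional curve over P_i).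
For every natural number N and positive natural numbers a_1, …, a_s with a_1 + ⋯ + a_s < N, the
invertible module σ^*(H^{⊗N}) ⊗ I_{E_1}^{a_1} ⊗ ⋯ ⊗ I_{E_s}^{a_s} is ample on S'. Equivalently: for
positive rationals δ_i with Σ δ_i < 1 the Q-divisor H − Σ δ_i E_i lies in the ample cone of the
blown-up surface. -/
theorem result
    (S : Scheme.{0}) [S.Over (Spec (CommRingCat.of ℂ))] [IsIntegral S]
    [SmoothOfRelativeDimension 2 (S ↘ Spec (CommRingCat.of ℂ))]
    (n : ℕ) (ι : S ⟶ CohB1.ProjSpace n ℂ) [IsClosedImmersion ι]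
    (hι : ι ≫ CohB1.ProjSpace.toSpec n ℂ = S ↘ Spec (CommRingCat.of ℂ))
    (s : ℕ) (P : Fin s → ↥S) (hP : Function.Injective P) (hPc : ∀ i, IsClosed ({P i} : Set ↥S))
    (hZ : IsClosed (Set.range P))
    {S' : Scheme.{0}} (σ : S' ⟶ S) (hσ : BlowUp.IsBlowUp σ (Scheme.IdealSheafData.vanishingIdeal ⟨Set.range P, hZ⟩))
    (N : ℕ) (a : Fin s → ℕ) (ha : ∀ i, 0 < a i) (hN : ∑ i, a i < N) :
    CohB1.IsAmple (CohB1.tensorMod
      ((Scheme.Modules.pullback σ).obj (CohB1.tensorPow ((Scheme.Modules.pullback ι).obj (Twist.twistProjSpace n ℂ 1)) N))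
      (FGA.tensorList (List.ofFn fun i : Fin s =>
        ClSub.idealMod ((Scheme.IdealSheafData.vanishingIdeal ⟨{P i}, hPc i⟩).comap σ ^ a i)))) := by
  classical
  haveI := Coherent.isProper_projSpace_toSpec (n := n) (R := ℂ)
  haveI : IsProper (S ↘ Spec (CommRingCat.of ℂ)) := by rw [← hι]; infer_instance
  haveI : Smooth (S ↘ Spec (CommRingCat.of ℂ)) := SmoothOfRelativeDimension.smooth 2 _
  haveI : IsLocallyNoetherian S := LocallyOfFiniteType.isLocallyNoetherian (S ↘ Spec (CommRingCat.of ℂ))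
  haveI : CompactSpace S := QuasiCompact.compactSpace_of_compactSpace (S ↘ Spec (CommRingCat.of ℂ))
  haveI : IsProper σ := SurfBl13.isProper_blowUp σ hσ
  haveI : IsLocallyNoetherian S' := LocallyOfFiniteType.isLocallyNoetherian σ
  let E : Fin s → S'.IdealSheafData := fun i => (Scheme.IdealSheafData.vanishingIdeal ⟨{P i}, hPc i⟩).comap σ
  have hJ : (Scheme.IdealSheafData.vanishingIdeal (X := S) ⟨Set.range P, hZ⟩).comap σ = ∏ i, E i := by
    rw [SurfBl13.vanishingIdeal_range_eq_prod P hP hPc hZ, SurfBl13.comap_finset_prod]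
  have hprodE : BlowUp.IsEffCartierIdeal (∏ i, E i) := hJ ▸ hσ.1
  have hE : ∀ i, BlowUp.IsEffCartierIdeal (E i) := fun i =>
    SDiv28.isEffCartier_left_of_mul (J := ∏ j ∈ Finset.univ.erase i, E j)
      (by rw [Finset.mul_prod_erase _ _ (Finset.mem_univ i)]; exact hprodE)
  let H := (Scheme.Modules.pullback ι).obj (GrTwist.twist (CohB1.polyGrading n ℂ) ((1 : ℕ) : ℤ))
  have hHamp : CohB1.IsAmple H := SurfBl13.isAmple_pullback_one ι
  have hHi : PicF.IsInvertible H := hHamp.1
  let h := (Scheme.Modules.pullback σ).obj H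
  have hh : PicF.IsInvertible h := PicLoc.isInvertible_pullback σ hHi
  obtain ⟨m₀, hm₀⟩ := eventually_isAmple_tensor_pullback σ hHamp
    (LocImm12.isRelAmple_idealMod_of_isBlowUp hσ (FlatMorAdm.isFiniteTypeIdeal_of_noetherian _))
  have hA : CohB1.IsAmple (CohB1.tensorMod
      (ClSub.idealMod ((Scheme.IdealSheafData.vanishingIdeal (X := S) ⟨Set.range P, hZ⟩).comap σ))
      (CohB1.tensorPow h m₀)) := hm₀ m₀ le_rfl
  -- the classes
  let g : PicM S' := PicM.of hh
  let e : Fin s → PicM S' := fun i => Inters29.idealCl (E i) (hE i)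
  have hA' : PicM.of hA.1 = (∏ i, e i) * g ^ m₀ := by
    refine ((PicM.of_mul (FlatMor12.IdealModGen.isInvertible_idealMod _ hσ.1)
      (isInvertible_tensorPow hh m₀)).symm).trans (congrArg₂ (· * ·) ?_ (PicM.of_tensorPow hh m₀))
    exact (Inters29.idealCl_congr hJ hσ.1 (Inters29.isEffCartier_prod _ E hE)).trans
      (Inters29.idealCl_prod _ E hE)
  have hgen : ∀ i, SurfBl13.GenCls (e i * g) := fun i =>
    ⟨_, isInvertible_tensorMod (FlatMor12.IdealModGen.isInvertible_idealMod _ (hE i)) hh, rfl,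
      fun x => SurfBl13.exists_section_mem_glocus ι hι (hPc i) σ (hE i) x⟩
  have hgen0 : SurfBl13.GenCls g := by
    refine ⟨h, hh, rfl, fun x => ?_⟩
    obtain ⟨p, hp, hpy⟩ := UPLib.exists_degOne (HypLib.hgen (R := ℂ) n) (ι (σ x))
    refine ⟨PicLib.pullSec σ (PicLib.pullSec ι (UPLib.sec p hp)), (glocus_pullSec σ hHi _).ge ?_⟩
    exact (UPLib.preimage_basicOpen_eq (HypLib.hgen n) ι hp).ge hpy
  -- the module of the statement
  let G₁ := (Scheme.Modules.pullback σ).obj
    (CohB1.tensorPow ((Scheme.Modules.pullback ι).obj (Twist.twistProjSpace n ℂ 1)) N)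
  have hG₁ : PicF.IsInvertible G₁ := PicLoc.isInvertible_pullback σ (isInvertible_tensorPow hHi N)
  have hG₁c : PicM.of hG₁ = g ^ N :=
    ((PicM.pull_of σ (isInvertible_tensorPow hHi N)).symm.trans
      ((congrArg (PicM.pull σ) (PicM.of_tensorPow hHi N)).trans (map_pow _ _ _))).trans
      (congrArg (· ^ N) (PicM.pull_of σ hHi))
  obtain ⟨hG₂, hG₂c⟩ := SurfBl13.exists_ofFn_class s (fun i => ClSub.idealMod (E i ^ a i))
    (fun i => FlatMor12.IdealModGen.isInvertible_idealMod _ (Inters29.isEffCartier_pow (hE i) (a i)))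
  have hG := isInvertible_tensorMod hG₁ hG₂
  have hGc : PicM.of hG = g ^ N * ∏ i, e i ^ a i := by
    rw [← PicM.of_mul hG₁ hG₂, hG₁c, hG₂c]
    exact congrArg (g ^ N * ·) (Finset.prod_congr rfl fun i _ => Inters29.idealCl_pow (hE i) (a i))
  -- a high power is ample times generated
  let M := m₀ + 1
  let r := N * M - (m₀ + ∑ i, (a i * M - 1))
  have hR : SurfBl13.GenCls (g ^ r * ∏ i, (e i * g) ^ (a i * M - 1)) :=
    (hgen0.pow r).mul (SurfBl13.GenCls.prod _ _ fun i => (hgen i).pow _)
  obtain ⟨R, hRi, hRc, hRg⟩ := hR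
  have hnum : m₀ + ∑ i, (a i * M - 1) + r = N * M := by
    have h1 : ∑ i, (a i * M - 1) ≤ (∑ i, a i) * M := by
      rw [Finset.sum_mul]
      exact Finset.sum_le_sum fun i _ => Nat.sub_le _ _
    have h2 : (∑ i, a i + 1) * M ≤ N * M := Nat.mul_le_mul_right _ hN
    rw [Nat.add_mul, Nat.one_mul] at h2
    omega
  have hkey : PicM.of (isInvertible_tensorPow hG M) = PicM.of (isInvertible_tensorMod hA.1 hRi) := by
    rw [PicM.of_tensorPow hG M, hGc, ← PicM.of_mul hA.1 hRi, hA', ← hRc]
    have he : ∀ i, e i ^ (a i * M) = e i * e i ^ (a i * M - 1) := fun i => by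
      rw [← pow_succ', Nat.sub_add_cancel (Nat.one_le_iff_ne_zero.2 (Nat.mul_ne_zero (ha i).ne' (Nat.succ_ne_zero m₀)))]
    have hs : ∀ i, (e i * g) ^ (a i * M - 1) = e i ^ (a i * M - 1) * g ^ (a i * M - 1) := fun i => mul_pow _ _ _
    simp only [mul_pow, ← pow_mul, ← Finset.prod_pow, he, hs, Finset.prod_mul_distrib, Finset.prod_pow_eq_pow_sum]
    rw [← hnum, pow_add, pow_add]
    simp only [mul_comm, mul_left_comm, mul_assoc]
  obtain ⟨iso⟩ := (PicM.of_eq_iff _ _).1 hkey
  have hamp : CohB1.IsAmple (CohB1.tensorMod _ R) := isAmple_tensor_of_generated hA hRi fun x => by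
    obtain ⟨t, ht⟩ := hRg x
    exact ⟨1, one_pos, powSec t 1, (glocus_powSec hRi t 0).ge ht⟩
  exact (isAmple_pow_iff hG M (Nat.succ_pos m₀)).1 (isAmple_of_iso iso.symm hamp)

end Groth.Agent.S15862
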