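import Groth.Statements.S15866
import Groth.Agent.SurfBl13.Mult
import Groth.Agent.SurfBl13.Point
import Groth.Agent.Coherent.RelExact14.EulerH0
-- import your own Groth.Agent.* helpers here

set_option autoImplicit false
open CategoryTheory CategoryTheory.Limits AlgebraicGeometry
open SurfBl

namespace Groth.Agent.S15866

set_option backward.isDefEq.respectTransparency.types false in
set_option maxHeartbeats 2000000 in
/-- Let S be a smooth projective surface over the complex numbers (integral, smooth of relative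
dimension 2 over C) with a closed immersion ι over C into some projective space P^n, H = ι^*O(1) the
very ample invertible module, C ⊆ S an integral curve (an integral closed subscheme of dimension
one, closed immersion j over C), P a closed point of S with ideal m_P, and m a natural number such
that the ideal of C is contained in m_P^m, i.e. C has multiplicity at least m at P. Then H·C ≥ m,
where H·C is the degree of H|_C on C, written χ(C, j^*H) − χ(C, O_C). (The published statement is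
for a curve C ⊆ S; this row takes C integral.) -/
theorem result
    (S : Scheme.{0}) [S.Over (Spec (CommRingCat.of ℂ))] [IsIntegral S]
    [SmoothOfRelativeDimension 2 (S ↘ Spec (CommRingCat.of ℂ))]
    (n : ℕ) (ι : S ⟶ CohB1.ProjSpace n ℂ) [IsClosedImmersion ι]
    (hι : ι ≫ CohB1.ProjSpace.toSpec n ℂ = S ↘ Spec (CommRingCat.of ℂ))
    (C : Scheme.{0}) [C.Over (Spec (CommRingCat.of ℂ))] [IsIntegral C] (hdimC : topologicalKrullDim ↥C = 1)
    (j : C ⟶ S) [IsClosedImmersion j] (hj : j ≫ (S ↘ Spec (CommRingCat.of ℂ)) = C ↘ Spec (CommRingCat.of ℂ))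
    (P : ↥S) (hP : IsClosed ({P} : Set ↥S)) (m : ℕ)
    (hm : j.ker ≤ Scheme.IdealSheafData.vanishingIdeal ⟨{P}, hP⟩ ^ m) :
    (m : ℤ) ≤ Curv2.deg ℂ C ((Scheme.Modules.pullback j).obj
      ((Scheme.Modules.pullback ι).obj (Twist.twistProjSpace n ℂ 1))) 1 := by
  classical
  haveI := Groth.Agent.Coherent.isProper_projSpace_toSpec (n := n) (R := ℂ)
  haveI : IsProper (S ↘ Spec (CommRingCat.of ℂ)) := by rw [← hι]; infer_instance
  haveI : IsProper (C ↘ Spec (CommRingCat.of ℂ)) := by rw [← hj]; infer_instance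
  haveI : Smooth (S ↘ Spec (CommRingCat.of ℂ)) := SmoothOfRelativeDimension.smooth 2 _
  haveI : IsLocallyNoetherian S := LocallyOfFiniteType.isLocallyNoetherian (S ↘ Spec (CommRingCat.of ℂ))
  haveI : CompactSpace C := QuasiCompact.compactSpace_of_compactSpace (C ↘ Spec (CommRingCat.of ℂ))
  haveI : IsLocallyNoetherian C := LocallyOfFiniteType.isLocallyNoetherian (C ↘ Spec (CommRingCat.of ℂ))
  obtain ⟨p, hp, hpP⟩ : ∃ p : C, IsClosed ({p} : Set C) ∧ (m ≠ 0 → j p = P) := by
    by_cases hm0 : m = 0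
    · obtain ⟨p, -, hp⟩ := (isClosed_univ (X := C)).exists_closed_singleton ⟨genericPoint C, trivial⟩
      exact ⟨p, hp, fun h => absurd hm0 h⟩
    · have h1 : j.ker ≤ Scheme.IdealSheafData.vanishingIdeal ⟨{P}, hP⟩ := hm.trans fun U => by
        rw [Scheme.IdealSheafData.ideal_pow]
        exact Ideal.pow_le_self hm0
      have h2 : P ∈ j.ker.support := Scheme.IdealSheafData.support_antitone h1
        ((Scheme.IdealSheafData.coe_support_vanishingIdeal _).ge (Set.mem_singleton P))
      have h3 : (j.ker.support : Set S) = Set.range j := by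
        rw [Scheme.Hom.support_ker]
        exact j.isClosedEmbedding.isClosed_range.closure_eq
      obtain ⟨p, hp⟩ := h3.le h2
      refine ⟨p, ?_, fun _ => hp⟩
      have : ({p} : Set C) = j ⁻¹' {P} := by
        ext w
        exact ⟨fun h => (congrArg j (Set.mem_singleton_iff.1 h)).trans hp,
          fun h => j.isClosedEmbedding.injective ((Set.mem_singleton_iff.1 h).trans hp.symm)⟩
      rw [this]
      exact hP.preimage j.continuous
  let O1 := Twist.twistProjSpace n ℂ 1
  let M := (Scheme.Modules.pullback j).obj ((Scheme.Modules.pullback ι).obj O1)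
  have hspan : (HomogeneousIdeal.irrelevant (CohB1.polyGrading n ℂ)).toIdeal =
      Ideal.span (Set.range (MvPolynomial.X (R := ℂ)) : Set (MvPolynomial (Fin (n + 1)) ℂ)) := by
    refine le_antisymm (Groth.Agent.ProjLib.irrelevant_le_span_X n _) (Ideal.span_le.2 ?_)
    rintro _ ⟨l, rfl⟩
    exact HomogeneousIdeal.mem_irrelevant_of_mem (CohB1.polyGrading n _) Nat.one_pos
      (MvPolynomial.isHomogeneous_X _ l)
  have hcov' : ∀ x : ProjectiveSpectrum (CohB1.polyGrading n ℂ),
      ∃ l, MvPolynomial.X l ∉ x.asHomogeneousIdeal.toIdeal := fun x => by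
    by_contra h
    push Not at h
    refine x.not_irrelevant_le ?_
    show (HomogeneousIdeal.irrelevant (CohB1.polyGrading n ℂ)).toIdeal ≤ x.asHomogeneousIdeal.toIdeal
    rw [hspan, Ideal.span_le]
    rintro _ ⟨l, rfl⟩
    exact h l
  have hX : ∀ l, MvPolynomial.X l ∈ CohB1.polyGrading n ℂ 1 := fun l => MvPolynomial.isHomogeneous_X _ l
  have hcov : ∀ x : ProjectiveSpectrum (CohB1.polyGrading n ℂ),
      ∃ g ∈ CohB1.polyGrading n ℂ 1, g ∉ x.asHomogeneousIdeal.toIdeal := fun x => by
    obtain ⟨l, hl⟩ := hcov' x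
    exact ⟨_, hX l, hl⟩
  have hO1 : PicF.IsInvertible O1 := Groth.Agent.TwistLib.G.isInvertible_twist hcov 1
  have hM : PicF.IsInvertible M :=
    PicLoc.isInvertible_pullback j (PicLoc.isInvertible_pullback ι hO1)
  have key : ∀ y : C, ∃ s : Γ(M, ⊤), y ∈ Groth.Agent.AmpleLib.glocus M s ∧
      IsAffineOpen (Groth.Agent.AmpleLib.glocus M s) := by
    intro y
    obtain ⟨l, hl⟩ := hcov' (ι (j y))
    let a : Γ(O1, ⊤) := GrTwist.globalOf (CohB1.polyGrading n ℂ)
      ⟨(MvPolynomial.X l) ^ 1, by simpa using hX l⟩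
    have ha : Groth.Agent.AmpleLib.glocus O1 a = Proj.basicOpen (CohB1.polyGrading n ℂ) (MvPolynomial.X l) :=
      Groth.Agent.TwistLib.G.glocus_globalOf_one hcov (hX l)
    refine ⟨Groth.Agent.PicLib.pullSec j (Groth.Agent.PicLib.pullSec ι a), ?_⟩
    have h1 : Groth.Agent.AmpleLib.glocus M (Groth.Agent.PicLib.pullSec j (Groth.Agent.PicLib.pullSec ι a)) =
        j ⁻¹ᵁ (ι ⁻¹ᵁ Proj.basicOpen (CohB1.polyGrading n ℂ) (MvPolynomial.X l)) :=
      (Groth.Agent.AmpleLib.glocus_pullSec j (PicLoc.isInvertible_pullback ι hO1) _).trans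
        (congrArg (j ⁻¹ᵁ ·) ((Groth.Agent.AmpleLib.glocus_pullSec ι hO1 a).trans (congrArg (ι ⁻¹ᵁ ·) ha)))
    rw [h1]
    have haff0 : IsAffineOpen (X := CohB1.ProjSpace n ℂ)
        (Proj.basicOpen (CohB1.polyGrading n ℂ) (MvPolynomial.X l)) :=
      Proj.isAffineOpen_basicOpen _ _ (hX l) one_pos
    exact ⟨hl, (haff0.preimage ι).preimage j⟩
  obtain ⟨s₀, hp₀, haff⟩ := key p
  obtain ⟨q, hq₀⟩ : ∃ q, q ∉ Groth.Agent.AmpleLib.glocus M s₀ := by
    by_contra h
    push Not at h
    rw [show Groth.Agent.AmpleLib.glocus M s₀ = ⊤ from top_le_iff.1 fun y _ => h y] at haff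
    exact Groth.Agent.SurfBl13.not_isAffineOpen_top ℂ hdimC haff
  obtain ⟨s₁, hq₁, -⟩ := key q
  obtain ⟨s', hs', hps'⟩ := Groth.Agent.SurfBl13.exists_section_vanishing_at ℂ hp hM hp₀ hq₀ hq₁
  have hjp : IsClosed ({j p} : Set S) := by
    rw [← Set.image_singleton]
    exact j.isClosedEmbedding.isClosedMap _ hp
  obtain ⟨hreg, hd⟩ := Groth.Agent.SurfBl13.regular_of_surface ℂ (S ↘ Spec (CommRingCat.of ℂ)) (j p) hjp
  refine Groth.Agent.SurfBl13.le_deg_of_mult ℂ hdimC.le hM hs' hps' (j.stalkMap p).hom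
    (j.stalkMap_surjective p) hd.ge ?_
  by_cases hm0 : m = 0
  · subst hm0
    rw [pow_zero, Ideal.one_eq_top]
    exact le_top
  obtain ⟨U, hU, hpU, -⟩ := exists_isAffineOpen_mem_and_subset (x := j p) (U := ⊤) trivial
  rw [Groth.Agent.CAlgH.CIImmersion.ker_stalkMap_eq j p hU hpU, ← Scheme.Hom.ker_apply j ⟨U, hU⟩]
  refine (Ideal.map_mono (hm ⟨U, hU⟩)).trans ?_
  rw [Scheme.IdealSheafData.ideal_pow, Pi.pow_apply, Ideal.map_pow]
  refine Ideal.pow_right_mono (Ideal.map_le_iff_le_comap.2 fun a ha => ?_) m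
  intro hu
  have hpmem : j p ∈ (⟨{P}, hP⟩ : TopologicalSpace.Closeds S) := Set.mem_singleton_iff.2 (hpP hm0)
  exact (Scheme.mem_zeroLocus_iff _ _ _).1
    (((Scheme.IdealSheafData.vanishingIdeal ⟨{P}, hP⟩).coe_support_inter ⟨U, hU⟩).le
      ⟨(Scheme.IdealSheafData.coe_support_vanishingIdeal _).ge hpmem, hpU⟩).1 a ha
    ((S.mem_basicOpen a (j p) hpU).2 hu)

end Groth.Agent.S15866
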