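import Groth.Statements.S15869
import Groth.Agent.S15868
import Groth.Agent.SurfBl13.R1Euler
import Groth.Agent.Inters29.Kernel
import Groth.Agent.Coherent.FibreVanish
import Groth.Agent.KLLib.Basic

set_option autoImplicit false
set_option linter.style.haveILetI false
set_option backward.isDefEq.respectTransparency.types false
set_option maxHeartbeats 4000000
open CategoryTheory CategoryTheory.Limits AlgebraicGeometry
open SurfBl
open Groth.Agent.Coherent Groth.Agent.PicLib Groth.Agent.AmpleLib Groth.Agent.EulerLib Groth.Agent.CurveRR24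

namespace Groth.Agent.S15869

/-- The first higher direct image, in dimension form, for non-negative multiples of the exceptional
curves. Let S be a smooth projective surface over the complex numbers (integral, smooth of relative
dimension 2 over C, admitting a closed immersion over C into some P^n), P_1, …, P_s distinct closed
points, σ : S' ⟶ S the blow-up of S at the reduced finite set {P_1, …, P_s} (universal property) and
I_{E_i} the inverse image ideal of the ideal of P_i (the ideal of the exceptional curve E_i). Let M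
be an invertible O_S-module (a divisor D on S), L_i an O_{S'}-module with L_i ⊗ I_{E_i} ≅ O_{S'} (so
L_i = O(E_i)), b_1, …, b_s natural numbers, and L = σ^*M ⊗ L_1^{⊗ b_1} ⊗ ⋯ ⊗ L_s^{⊗ b_s}, the line
bundle σ^*D + Σ b_i E_i. Then R¹σ_*L is supported at the points P_i with b_i ≥ 2, where its stalk
has length C(b_i, 2) = b_i(b_i − 1)/2; consequently dim_C H^0(S, R¹σ_*L) = Σ_i C(b_i, 2), the
binomial coefficient being 0 when b_i < 2. Only this dimension formula is stated (R¹σ_* of
O-modules, with the existence of injective resolutions as instance hypothesis). (The published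
statement gives the stalk as O_S/m_{P_i}^{b_i − 2}, of length C(b_i − 1, 2), and only for b_i > 2;
the correct length is C(b_i, 2), that of O_S/m_{P_i}^{b_i − 1}, already non-zero for b_i = 2: on the
blown-up plane h¹(O(2E)) = 1 and h¹(O(3E)) = 3. Only the length is asserted; for b_i ≥ 3 the stalk
maps onto H¹(E_i, O(−b_i)), of dimension b_i − 1, so it is not a cyclic module.) -/
theorem result
    (S : Scheme.{0}) [S.Over (Spec (CommRingCat.of ℂ))] [IsIntegral S]
    [SmoothOfRelativeDimension 2 (S ↘ Spec (CommRingCat.of ℂ))]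
    (hproj : ∃ (n : ℕ) (ι : S ⟶ CohB1.ProjSpace n ℂ), IsClosedImmersion ι ∧
      ι ≫ CohB1.ProjSpace.toSpec n ℂ = S ↘ Spec (CommRingCat.of ℂ))
    (s : ℕ) (P : Fin s → ↥S) (hP : Function.Injective P) (hPc : ∀ i, IsClosed ({P i} : Set ↥S))
    (hZ : IsClosed (Set.range P))
    {S' : Scheme.{0}} (σ : S' ⟶ S) (hσ : BlowUp.IsBlowUp σ (Scheme.IdealSheafData.vanishingIdeal ⟨Set.range P, hZ⟩))
    (M : S.Modules) (hM : PicF.IsInvertible M)
    (L : Fin s → S'.Modules)
    (hL : ∀ i, ClSub.IsInverseOf (L i) (ClSub.idealMod ((Scheme.IdealSheafData.vanishingIdeal ⟨{P i}, hPc i⟩).comap σ)))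
    (b : Fin s → ℕ) [HasInjectiveResolutions S'.Modules] :
    Module.finrank ℂ (Coh.HH S ((Coh.Rpush σ 1).obj
      (CohB1.tensorMod ((Scheme.Modules.pullback σ).obj M) (FGA.multiTwist L b))) 0) =
      ∑ i, (b i).choose 2 := by
  classical
  haveI : IsProper (S ↘ Spec (CommRingCat.of ℂ)) := by
    obtain ⟨N, ι, hι, hw⟩ := hproj
    haveI := Coherent.isProper_projSpace_toSpec (n := N) (R := ℂ)
    rw [← hw]; infer_instance
  haveI : Smooth (S ↘ Spec (CommRingCat.of ℂ)) := SmoothOfRelativeDimension.smooth 2 _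
  haveI : IsLocallyNoetherian S := LocallyOfFiniteType.isLocallyNoetherian (S ↘ Spec (CommRingCat.of ℂ))
  haveI : IsProper σ := SurfBl13.isProper_blowUp σ hσ
  letI : S'.Over (Spec (CommRingCat.of ℂ)) := ⟨σ ≫ (S ↘ Spec (CommRingCat.of ℂ))⟩
  haveI : IsProper (S' ↘ Spec (CommRingCat.of ℂ)) :=
    inferInstanceAs (IsProper (σ ≫ (S ↘ Spec (CommRingCat.of ℂ))))
  haveI := isNoetherian_of_proper ℂ (X := S')
  haveI := isNoetherian_of_proper ℂ (X := S)
  haveI := isSeparated_of_proper (X := S') ℂ
  have hpts := SurfBl13.points_range (k := ℂ) S P hPc hZ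
  let Z : TopologicalSpace.Closeds S := ⟨Set.range P, hZ⟩
  let E : Fin s → S'.IdealSheafData := fun i => (Scheme.IdealSheafData.vanishingIdeal ⟨{P i}, hPc i⟩).comap σ
  have hJ : (Scheme.IdealSheafData.vanishingIdeal (X := S) ⟨Set.range P, hZ⟩).comap σ = ∏ i, E i := by
    rw [SurfBl13.vanishingIdeal_range_eq_prod P hP hPc hZ, SurfBl13.comap_finset_prod]
  have hprodE : BlowUp.IsEffCartierIdeal (∏ i, E i) := hJ ▸ hσ.1
  have hE : ∀ i, BlowUp.IsEffCartierIdeal (E i) := fun i =>
    SDiv28.isEffCartier_left_of_mul (J := ∏ j ∈ Finset.univ.erase i, E j)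
      (by rw [Finset.mul_prod_erase _ _ (Finset.mem_univ i)]; exact hprodE)
  have hI : ∀ i, PicF.IsInvertible (ClSub.idealMod (E i)) := fun i =>
    FlatMor12.IdealModGen.isInvertible_idealMod _ (hE i)
  have hEs : ∀ i, ((E i).support : Set S') ⊆ σ ⁻¹' {P i} := fun i y hy => by
    rw [Scheme.IdealSheafData.support_comap] at hy
    exact (Scheme.IdealSheafData.coe_support_vanishingIdeal _).le hy
  -- the inverse modules
  have hLi : ∀ i, PicF.IsInvertible (L i) := fun i => by
    obtain ⟨φ⟩ := hL i
    refine PicM.isInvertible_of_tensor (hI i) ?_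
    exact KLLib.isInvertible_of_iso (tensorComm _ _ ≪≫ φ).symm isInvertible_structureModule
  let lam : Fin s → PicM S' := fun i => PicM.of (hLi i)
  let iot : Fin s → PicM S' := fun i => PicM.of (hI i)
  have hli : ∀ i, lam i * iot i = 1 := fun i => (PicM.of_eq_one_iff (isInvertible_tensorMod (hLi i) (hI i))).2 (hL i)
  let μ : PicM S' := PicM.pull σ (PicM.of hM)
  -- the lines
  have hline : ∀ i, ∃ (K : Type) (_ : Field K) (e : CohB1.ProjSpace 1 K ≅ (E i).subscheme),
      Models7.P1Deg.HasDeg e ((Scheme.Modules.pullback (E i).subschemeι).obj (ClSub.idealMod (E i))) 1 := fun i => by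
    obtain ⟨hc, hr, hreg, hd⟩ := hpts (P i) ⟨i, rfl⟩
    exact S15868.exists_line σ ⟨Set.range P, hZ⟩ hσ (P i) (hPc i) ⟨i, rfl⟩ hr hreg hd (hE i)
  have hne : ∀ i, Nonempty (E i).subscheme := fun i => by
    obtain ⟨K, _, e, -⟩ := hline i
    haveI : IsIntegral (CohB1.ProjSpace 1 K) := CurveLib.isIntegral_projSpace K 1
    exact ⟨e.hom (Classical.arbitrary _)⟩
  -- restrictions of the classes
  have hdisj : ∀ i j, j ≠ i → PicM.pull (E i).subschemeι (lam j) = 1 := fun i j hji => by
    have htop : (E j).comap (E i).subschemeι = 1 := by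
      rw [Scheme.IdealSheafData.one_eq_top, ← Scheme.IdealSheafData.support_eq_bot_iff]
      refine TopologicalSpace.Closeds.ext (Set.eq_empty_iff_forall_notMem.2 fun z hz => ?_)
      rw [Scheme.IdealSheafData.support_comap] at hz
      exact hji (hP ((hEs j hz).symm.trans (hEs i ((E i).range_subschemeι.le ⟨z, rfl⟩))))
    have h1top : BlowUp.IsEffCartierIdeal ((E j).comap (E i).subschemeι) := htop ▸ Inters29.isEffCartier_one
    obtain ⟨p1⟩ := Inters29.nonempty_pullback_idealMod_iso (E i).subschemeι (E j) (hE j) h1top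
    obtain ⟨p2⟩ := (PicM.of_eq_one_iff (FlatMor12.IdealModGen.isInvertible_idealMod _ h1top)).1
      ((Inters29.idealCl_congr htop h1top Inters29.isEffCartier_one).trans Inters29.idealCl_one)
    have hi : PicM.pull (E i).subschemeι (iot j) = 1 := (PicM.of_eq_one_iff (PicLoc.isInvertible_pullback _ (hI j))).2 ⟨p1 ≪≫ p2⟩
    have h := congrArg (PicM.pull (E i).subschemeι) (hli j)
    rwa [map_mul, map_one, hi, mul_one] at h
  have hres : ∀ (c : Fin s → ℕ) (i : Fin s), PicM.pull (E i).subschemeι (μ * ∏ j, lam j ^ c j) =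
      PicM.pull (E i).subschemeι (lam i) ^ c i := fun c i => by
    haveI := hne i
    rw [map_mul, SurfBl13.pull_fibre_eq_one σ (hPc i), one_mul, map_prod,
      Finset.prod_eq_single i (fun j _ hji => by rw [map_pow, hdisj i j hji, one_pow])
        (fun h => absurd (Finset.mem_univ i) h), map_pow]
  -- the sections and the Euler characteristic on a line
  have hlineA : ∀ (i : Fin s) (c : ℕ) (N : (E i).subscheme.Modules) (hN : PicF.IsInvertible N),
      PicM.of hN = PicM.pull (E i).subschemeι (lam i) ^ c →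
      Curv2.euler ℂ S' ((Coh.push (E i).subschemeι).obj N) = 1 - (c : ℤ) ∧
        (0 < c → IsZero ((Coh.push σ).obj ((Coh.push (E i).subschemeι).obj N))) := by
    intro i c N hN hcl
    obtain ⟨K, _, e, he⟩ := hline i
    letI : (E i).subscheme.Over (Spec (CommRingCat.of ℂ)) :=
      ⟨(E i).subschemeι ≫ (S' ↘ Spec (CommRingCat.of ℂ))⟩
    haveI : IsProper ((E i).subscheme ↘ Spec (CommRingCat.of ℂ)) :=
      inferInstanceAs (IsProper ((E i).subschemeι ≫ (S' ↘ Spec (CommRingCat.of ℂ))))
    have hLι := PicLoc.isInvertible_pullback (E i).subschemeι (hLi i)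
    have hIι := PicLoc.isInvertible_pullback (E i).subschemeι (hI i)
    have h1 := congrArg (PicM.pull (E i).subschemeι) (hli i)
    rw [map_mul, map_one] at h1
    obtain ⟨φ⟩ := (PicM.of_eq_one_iff (isInvertible_tensorMod hLι hIι)).1 h1
    have hdL := Models7.P1Deg.HasDeg.inverse e hLι hIι φ he
    obtain ⟨ψ⟩ := (PicM.of_eq_iff hN (isInvertible_tensorPow hLι c)).1 (hcl.trans (PicM.of_tensorPow hLι c).symm)
    have hd : Models7.P1Deg.HasDeg e N (-(c : ℤ)) := by
      have h := (hdL.pow e hLι c).of_iso e ψ.symm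
      rwa [mul_neg, mul_one] at h
    haveI : Coh.IsQCoh N := isQCoh_of_isInvertible hN
    refine ⟨?_, fun hc => ?_⟩
    · rw [← AbCubeLib.euler_push ℂ (E i).subschemeι rfl N, SurfBl13.euler_line ℂ e hN hd]
      ring
    · refine SurfBl13.isZero_push_fibre σ (z := P i) (E i) (hEs i) N ?_
      haveI := SurfBl13.subsingleton_sections_of_deg_neg e hN hd (by omega)
      exact ((CurveRR24.hhZero ℂ N).toEquiv.subsingleton_congr).1 inferInstance
  -- induction on the multiplicities
  have hkey : ∀ (n : ℕ) (c : Fin s → ℕ), ∑ i, c i = n → ∀ (A : S'.Modules) (hA : PicF.IsInvertible A),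
      PicM.of hA = μ * ∏ i, lam i ^ c i →
      Curv2.euler ℂ S' A + ((∑ i, (c i).choose 2 : ℕ) : ℤ) =
          Curv2.euler ℂ S' ((Scheme.Modules.pullback σ).obj M) ∧
        Nonempty ((Coh.push σ).obj A ≅ (Coh.push σ).obj ((Scheme.Modules.pullback σ).obj M)) := by
    intro n
    induction n with
    | zero =>
      intro c hc A hA hcl
      have hc0 : ∀ i, c i = 0 := fun i => (Finset.sum_eq_zero_iff.1 hc) i (Finset.mem_univ i)
      simp only [hc0, pow_zero, Finset.prod_const_one, mul_one] at hcl
      obtain ⟨ψ⟩ := (PicM.of_eq_iff hA (PicLoc.isInvertible_pullback σ hM)).1 hcl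
      refine ⟨?_, ⟨(Coh.push σ).mapIso ψ⟩⟩
      simp only [hc0, Nat.choose_zero_succ, Finset.sum_const_zero, Nat.cast_zero, add_zero]
      exact EulerLib.euler_congr ℂ S' ψ
    | succ n ih =>
      intro c hc A hA hcl
      obtain ⟨i, -, hi⟩ := Finset.exists_ne_zero_of_sum_ne_zero (hc ▸ n.succ_ne_zero : ∑ i, c i ≠ 0)
      obtain ⟨m, hm⟩ := Nat.exists_eq_succ_of_ne_zero hi
      let c' := Function.update c i m
      have hc'i : c' i = m := Function.update_self i m c
      have hoff : ∀ j ∈ Finset.univ.erase i, c' j = c j := fun j hj =>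
        Function.update_of_ne (Finset.ne_of_mem_erase hj) m c
      have hcs : ∑ j, c' j = n := by
        have h1 : c i + ∑ j ∈ Finset.univ.erase i, c j = n + 1 :=
          (Finset.add_sum_erase _ _ (Finset.mem_univ i)).trans hc
        have h2 : ∑ j ∈ Finset.univ.erase i, c' j = ∑ j ∈ Finset.univ.erase i, c j := Finset.sum_congr rfl hoff
        have h3 : c' i + ∑ j ∈ Finset.univ.erase i, c' j = ∑ j, c' j :=
          Finset.add_sum_erase _ _ (Finset.mem_univ i)
        omega
      have hch : (∑ j, (c j).choose 2 : ℕ) = (∑ j, (c' j).choose 2) + m := by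
        rw [← Finset.add_sum_erase (f := fun j => (c j).choose 2) _ (Finset.mem_univ i),
          ← Finset.add_sum_erase (f := fun j => (c' j).choose 2) _ (Finset.mem_univ i)]
        rw [Finset.sum_congr rfl (fun j hj => by rw [hoff j hj] :
          ∀ j ∈ Finset.univ.erase i, (c' j).choose 2 = (c j).choose 2), hc'i, hm]
        have hcm : (m + 1).choose 2 = m + m.choose 2 := by
          rw [Nat.choose_succ_succ' m 1, Nat.choose_one_right]
        show (m + 1).choose 2 + _ = _
        omega
      have hA' := isInvertible_tensorMod (hI i) hA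
      have hcl' : PicM.of hA' = μ * ∏ j, lam j ^ c' j := by
        rw [← PicM.of_mul (hI i) hA, hcl, ← Finset.mul_prod_erase _ _ (Finset.mem_univ i),
          ← Finset.mul_prod_erase (f := fun j => lam j ^ c' j) _ (Finset.mem_univ i),
          Finset.prod_congr rfl (fun j hj => by rw [hoff j hj] :
            ∀ j ∈ Finset.univ.erase i, lam j ^ c' j = lam j ^ c j), hc'i, hm, pow_succ]
        calc iot i * (μ * (lam i ^ m * lam i * ∏ j ∈ Finset.univ.erase i, lam j ^ c j))
            = (lam i * iot i) * (μ * (lam i ^ m * ∏ j ∈ Finset.univ.erase i, lam j ^ c j)) := by ac_rfl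
          _ = _ := by rw [hli i, one_mul]
      obtain ⟨hχ, ⟨η⟩⟩ := ih c' hcs _ hA' hcl'
      let T := twistSeq (ShortComplex.mk (ClSub.idealModι (E i)) (ClSub.toSubscheme (E i))
        (kernel.condition (ClSub.toSubscheme (E i)))) A
      have hT : T.ShortExact := twistSeq_shortExact hA (shortExact_ideal (E i))
      obtain ⟨q⟩ := SurfBl13.quot_tensor_iso (E i) hA
      obtain ⟨hχ3, hz3⟩ := hlineA i (c i) _ (PicLoc.isInvertible_pullback (E i).subschemeι hA) (by
        rw [← PicM.pull_of _ hA, hcl, hres])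
      have hC := isCoh_structureModule S'
      have h2 := euler_additive ℂ S' T hT (isCoh_twist hA (CurveRR24.isCoh_of_isInvertible ℂ (hI i)))
        (isCoh_twist hA hC) (isCoh_twist hA (isCoh_quotMod (E i)))
      have e2 : T.X₂ ≅ A := unitTensorIso A
      rw [EulerLib.euler_congr ℂ S' e2, EulerLib.euler_congr ℂ S' (show T.X₃ ≅ _ from q), hχ3] at h2
      refine ⟨?_, ?_⟩
      · rw [h2, hch, hm]
        push_cast
        change Curv2.euler ℂ S' T.X₁ + _ = _ at hχ
        push_cast at hχ
        omega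
      · haveI : PreservesFiniteLimits (Coh.push σ) :=
          have : (Coh.push σ).IsRightAdjoint := (Scheme.Modules.pullbackPushforwardAdjunction σ).isRightAdjoint
          ⟨fun _ _ _ => inferInstance⟩
        haveI := hT.mono_f
        have hex := hT.exact.map_of_mono_of_preservesKernel (Coh.push σ) hT.mono_f inferInstance
        haveI : Epi (T.map (Coh.push σ)).f := hex.epi_f
          (((hz3 (by omega)).of_iso ((Coh.push σ).mapIso (show T.X₃ ≅ _ from q))).eq_of_tgt _ _)
        haveI : Mono (T.map (Coh.push σ)).f := inferInstanceAs (Mono ((Coh.push σ).map T.f))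
        haveI := isIso_of_mono_of_epi (T.map (Coh.push σ)).f
        exact ⟨((Coh.push σ).mapIso e2.symm) ≪≫ (asIso (T.map (Coh.push σ)).f).symm ≪≫ η⟩
  -- the module
  obtain ⟨hN, hNcl⟩ := Inters29.exists_multiTwist_class L hLi b
  let A := CohB1.tensorMod ((Scheme.Modules.pullback σ).obj M) (FGA.multiTwist L b)
  have hA : PicF.IsInvertible A := isInvertible_tensorMod (PicLoc.isInvertible_pullback σ hM) hN
  obtain ⟨hχ, ⟨η⟩⟩ := hkey _ b rfl A hA (by
    rw [← PicM.of_mul (PicLoc.isInvertible_pullback σ hM) hN, hNcl]; rfl)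
  obtain ⟨⟨η0⟩, hχ0⟩ := SurfBl13.euler_pullback σ ℂ rfl hpts hσ hM
  have hN2 : ∀ (V : S'.Modules), Coh.IsQCoh V → IsZero ((Coh.Rpush σ 2).obj V) :=
    fun V hV => SurfBl13.isZero_rpush_two σ hpts hσ V hV
  have hAc : Coh.IsCoh A := CurveRR24.isCoh_of_isInvertible ℂ hA
  obtain ⟨d, hd⟩ := EulerLib.exists_dim_le (X := S') ℂ (CohB1.support A)
  have hl := VarietyLib.euler_eq_rhoEuler ℂ σ rfl (N := 2) (by norm_num) hN2 (d + 1) A hAc
    (lt_of_le_of_lt hd (by exact_mod_cast Nat.lt_succ_self d))
  rw [VarietyLib.rhoEuler, Finset.sum_range_succ, Finset.sum_range_one] at hl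
  simp only [pow_zero, one_mul, pow_one, neg_one_mul] at hl
  have h00 : Curv2.euler ℂ S ((Coh.Rpush σ 0).obj A) = Curv2.euler ℂ S M := by
    haveI : PreservesFiniteLimits (Coh.push σ) :=
      have : (Coh.push σ).IsRightAdjoint := (Scheme.Modules.pullbackPushforwardAdjunction σ).isRightAdjoint
      ⟨fun _ _ _ => inferInstance⟩
    exact EulerLib.euler_congr ℂ S ((Coh.push σ).rightDerivedZeroIsoSelf.app A ≪≫ η ≪≫ η0)
  have hR : Curv2.euler ℂ S ((Coh.Rpush σ 1).obj A) =
      (Module.finrank ℂ (Coh.HH S ((Coh.Rpush σ 1).obj A) 0) : ℤ) := by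
    rw [Curv2.euler, finsum_eq_single _ 0 fun q hq => ?_]
    · simp
    · haveI := Coherent.subsingleton_HH_of_support_finite ((Coh.Rpush σ 1).obj A) (Set.range P) (Set.finite_range P)
        (fun z hz => by obtain ⟨i, rfl⟩ := hz; exact hPc i)
        (SurfBl13.support_rpush_subset σ hσ A hAc.1 1 one_pos) q (Nat.pos_of_ne_zero hq)
      rw [Module.finrank_zero_of_subsingleton, Nat.cast_zero, mul_zero]
  rw [h00, hR] at hl
  rw [hχ0] at hχ
  show Module.finrank ℂ (Coh.HH S ((Coh.Rpush σ 1).obj A) 0) = _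
  omega

end Groth.Agent.S15869
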