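import Groth.Statements.S15870
import Groth.Agent.NonAb.SchTorsor
import Groth.Agent.AlgSpLib.FppfLocal
import Groth.Agent.FlatMorSmoothSect.Scheme
import Groth.Agent.Et18.IntegralCover

set_option autoImplicit false
set_option linter.all false
universe u
open CategoryTheory MonoidalCategory CartesianMonoidalCategory MonObj GrpObj AlgebraicGeometry
open NonAbH1

namespace Groth.Agent.S15870

/-- Let π : S' → S be finite locally free (finite, flat, locally of finite presentation), G a smooth
S'-group scheme and E an fppf G-torsor over S'. Then E trivializes fppf locally on S: some fppf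
covering family of S consists of morphisms U → S such that E has a section over U ×_S S' → S'. (The
published statement is for a variable S-scheme T, torsors over S' ×_S T and G a group algebraic
space; this row is the case T = S with G a scheme, to which the general case reduces by base change
of π.) -/
theorem result
    {S S' : Scheme.{u}} (π : S' ⟶ S) [IsFinite π] [Flat π] [LocallyOfFinitePresentation π]
    (G : Over S') [GrpObj G] [Smooth G.hom]
    (E : NonAbH1.TorsorSch G Scheme.fppfPrecoverage) :
    ∃ R ∈ Scheme.fppfPrecoverage S, ∀ ⦃U : Scheme.{u}⦄ (g : U ⟶ S), R g →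
      NonAbH1.HasSectionOver E.X (Limits.pullback.snd g π) := by
  have hfpqc := NonAbLib.fppf_isTorsorFor_fpqc E.isTorsor
  have : Smooth E.X.hom := NonAbLib.property_hom @Smooth inferInstance hfpqc ‹Smooth G.hom›
  have : Surjective E.X.hom := NonAbLib.surjective_hom E.act hfpqc
  choose x hx using fun t : S' => E.X.hom.surjective t
  choose U g t ht htt h hh using fun s : S' => FlatMorSmoothSect.exists_section_etale_locally E.X.hom (x s)
  have hcov : ∀ s, ∃ i, s ∈ Set.range (g i) := fun s => ⟨s, t s, (htt s).trans (hx s)⟩
  choose V p hp hv hsplit using fun v : S =>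
    haveI := ht
    Groth.Agent.Et18.exists_cover_lift π U g hcov v
  refine ⟨Presieve.ofArrows V p, ?_, fun W q hq => ?_⟩
  · refine (Scheme.ofArrows_mem_precoverage_iff (P := @Flat ⊓ @LocallyOfFinitePresentation)).2
      ⟨fun v => ⟨v, hv v⟩, fun v => ?_⟩
    haveI := hp v
    exact ⟨inferInstance, inferInstance⟩
  · obtain ⟨v⟩ := hq
    obtain ⟨Idx, W, hdis, hsup, hW⟩ :=
      hsplit v (Limits.pullback.snd (p v) π) (Limits.pullback.fst (p v) π) (IsPullback.of_hasPullback (p v) π).flip
    choose i k hk using hW
    let 𝒰 := (Limits.pullback (p v) π).openCoverOfIsOpenCover W hsup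
    let σ : ∀ a, (W a : Scheme.{u}) ⟶ E.X.left := fun a => k a ≫ h (i a)
    refine ⟨𝒰.glueMorphisms σ fun a b => ?_, 𝒰.hom_ext _ _ fun a => ?_⟩
    · change Limits.pullback.fst (W a).ι (W b).ι ≫ σ a = Limits.pullback.snd (W a).ι (W b).ι ≫ σ b
      rcases eq_or_ne a b with rfl | hab
      · have e : Limits.pullback.fst (W a).ι (W a).ι = Limits.pullback.snd (W a).ι (W a).ι :=
          (cancel_mono (W a).ι).1 Limits.pullback.condition
        rw [e]
      · haveI : IsEmpty ↥(Limits.pullback (W a).ι (W b).ι) := ⟨fun z => by
          have h1 : (Limits.pullback.fst (W a).ι (W b).ι ≫ (W a).ι) z ∈ W a := by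
            rw [Scheme.Hom.comp_apply]
            exact (Limits.pullback.fst (W a).ι (W b).ι z).2
          have h2 : (Limits.pullback.fst (W a).ι (W b).ι ≫ (W a).ι) z ∈ W b := by
            rw [Limits.pullback.condition, Scheme.Hom.comp_apply]
            exact (Limits.pullback.snd (W a).ι (W b).ι z).2
          exact (hdis a b hab).le_bot ⟨h1, h2⟩⟩
        exact (isInitialOfIsEmpty (X := Limits.pullback (W a).ι (W b).ι)).hom_ext _ _
    · rw [← Category.assoc, Scheme.Cover.ι_glueMorphisms]
      show (k a ≫ h (i a)) ≫ E.X.hom = (W a).ι ≫ Limits.pullback.snd (p v) π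
      rw [Category.assoc, hh, hk]

end Groth.Agent.S15870
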