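import Groth.Statements.S15874
import Groth.Agent.NonAb.EtaleGroup

set_option autoImplicit false
universe u
open CategoryTheory MonoidalCategory CartesianMonoidalCategory MonObj GrpObj AlgebraicGeometry
open NonAbH1

namespace Groth.Agent.S15874

/-- Let G be an étale k-group scheme and S a normal integral k-scheme with generic point η. Then an fppf
torsor over S under G whose base change to Spec κ(η) is trivial is itself trivial: the kernel of
H¹(S, G) → H¹(κ(η), G) on classes of torsors that are schemes is the base point. (The published
statement takes S merely integral; the connected étale double cover of a nodal cubic over an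
algebraically closed field is a non-trivial torsor under the constant group of order 2 that is
trivial at the generic point, so S is taken normal here, which is what the published proof uses.) -/
theorem result (k : Type u) [Field k]
    (G : Over (Spec (CommRingCat.of k))) [GrpObj G] [Etale G.hom]
    (S : Scheme.{u}) [IsIntegral S] (hS : Pi1.IsNormalScheme S) (s : S ⟶ Spec (CommRingCat.of k))
    (c : NonAbH1.H1Sch (Red.bc s G) Scheme.fppfPrecoverage)
    (hc : NonAbH1.H1Sch.bcMap (S.fromSpecResidueField (genericPoint S)) (Red.bc s G) Scheme.fppfPrecoverage c = 1) :
    c = 1 := by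
  induction c using Quot.ind with
  | mk E =>
    rw [show Quot.mk _ E = E.cl from rfl] at hc ⊢
    rw [← NonAbH1.TorsorSch.cl_bc, NonAbLib.schCl_eq_one_iff] at hc
    obtain ⟨x, hx⟩ := hc
    obtain ⟨σ, hσ, -⟩ := (NonAbLib.existsUnique_section_of_point s E.act hS E.isTorsor).2
      (x ≫ Limits.pullback.fst E.X.hom (S.fromSpecResidueField (genericPoint S))) (by
        refine (Category.assoc _ _ _).trans ((congrArg (x ≫ ·) Limits.pullback.condition).trans
          ((Category.assoc _ _ _).symm.trans ?_))
        exact (congrArg (· ≫ S.fromSpecResidueField (genericPoint S)) hx).trans (Category.id_comp _))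
    exact (NonAbLib.schCl_eq_one_iff E).mpr ⟨σ, hσ⟩

end Groth.Agent.S15874
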