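import Groth.Statements.S15875
import Groth.Agent.AlgGrpLib.TorusIsogenyIff

set_option autoImplicit false
set_option linter.style.haveILetI false
set_option backward.isDefEq.respectTransparency.types false
universe u
open CategoryTheory MonoidalCategory CartesianMonoidalCategory MonObj GrpObj AlgebraicGeometry
open AGF

namespace Groth.Agent.S15875

theorem quasiCompact_of_kernelPair {X Y : Scheme.{u}} (f : X ⟶ Y) [UniversallyOpen f] [Surjective f]
    [QuasiCompact (Limits.pullback.fst f f)] : QuasiCompact f := by
  haveI : QuasiCompact (Limits.pullback.snd f f) := by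
    rw [← Limits.pullbackSymmetry_hom_comp_fst f f]
    infer_instance
  rw [quasiCompact_iff_forall_isAffineOpen]
  intro U hU
  have hc : IsCompact (U : Set Y) := hU.isCompact
  -- compact open neighbourhoods inside the preimage
  have hcov : (U : Set Y) ⊆ ⋃ (W : {W : X.affineOpens // W.1 ≤ f ⁻¹ᵁ U}), f '' (W.1.1 : Set X) := by
    intro y hy
    obtain ⟨x, rfl⟩ := f.surjective y
    obtain ⟨_, ⟨W, hW, rfl⟩, hxW, hWU⟩ :=
      X.isBasis_affineOpens.exists_subset_of_mem_open (show x ∈ (↑(f ⁻¹ᵁ U) : Set X) from hy) (f ⁻¹ᵁ U).isOpen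
    exact Set.mem_iUnion.2 ⟨⟨⟨W, hW⟩, hWU⟩, x, hxW, rfl⟩
  obtain ⟨t, ht⟩ := hc.elim_finite_subcover _ (fun W => f.isOpenMap _ W.1.1.isOpen) hcov
  let W' : X.Opens := ⨆ W ∈ t, W.1.1
  have hW'c : IsCompact (W' : Set X) := by
    simp only [W', TopologicalSpace.Opens.coe_iSup]
    exact t.isCompact_biUnion fun W _ => W.1.2.isCompact
  have himg := ((Limits.pullback.snd f f).isCompact_preimage (U := W') hW'c).image
    (Limits.pullback.fst f f).continuous
  convert himg using 1
  ext x
  constructor
  · intro hx
    obtain ⟨W, hWt, w, hw, hwx⟩ := Set.mem_iUnion₂.1 (ht hx)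
    obtain ⟨z, hz1, hz2⟩ := Scheme.Pullback.exists_preimage_pullback x w hwx.symm
    refine ⟨z, ?_, hz1⟩
    show (Limits.pullback.snd f f) z ∈ W'
    rw [hz2]
    exact TopologicalSpace.Opens.mem_iSup.2 ⟨W, TopologicalSpace.Opens.mem_iSup.2 ⟨hWt, hw⟩⟩
  · rintro ⟨z, hz, rfl⟩
    obtain ⟨W, hW⟩ := TopologicalSpace.Opens.mem_iSup.1 (show (Limits.pullback.snd f f) z ∈ W' from hz)
    obtain ⟨_, hzW⟩ := TopologicalSpace.Opens.mem_iSup.1 hW
    have := W.2 hzW
    show f ((Limits.pullback.fst f f) z) ∈ U
    rw [← Scheme.Hom.comp_apply, Limits.pullback.condition, Scheme.Hom.comp_apply]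
    exact this


/-- Let k'/k be a finite purely inseparable field extension, G a k-group locally of finite type, q :
G_{k'} → Ḡ a faithfully flat homomorphism onto a k'-group Ḡ locally of finite type with
quasi-compact kernel N, and (R, q_R) a Weil restriction of Ḡ to k carrying a group structure for
which q_R is a homomorphism. Then the comparison morphism i : G → R corresponding to q is
quasi-compact. (The published statement allows any finite extension k'/k and adds that the kernel of
i is quasi-compact as well; the published proof goes through the purely inseparable case of the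
kernel of the counit of Weil restriction, so k'/k is taken purely inseparable here.) -/
theorem result (k k' : Type u) [Field k] [Field k'] [Algebra k k']
    [Module.Finite k k'] [IsPurelyInseparable k k']
    (G : Over (Spec (CommRingCat.of k))) [GrpObj G] [LocallyOfFiniteType G.hom]
    (Gbar : Over (Spec (CommRingCat.of k'))) [GrpObj Gbar] [LocallyOfFiniteType Gbar.hom]
    (q : Red.bc (Spec.map (CommRingCat.ofHom (algebraMap k k'))) G ⟶ Gbar) [IsMonHom q] [Surjective q.left] [Flat q.left]
    (N : Over (Spec (CommRingCat.of k'))) (iN : N ⟶ Red.bc (Spec.map (CommRingCat.ofHom (algebraMap k k'))) G) (hN : AlgGrp.IsKernel iN q) [CompactSpace N.left]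
    (R : Over (Spec (CommRingCat.of k))) [GrpObj R] (qR : Red.bc (Spec.map (CommRingCat.ofHom (algebraMap k k'))) R ⟶ Gbar) [IsMonHom qR]
    (hR : WeilRes.IsWeilRes (Spec.map (CommRingCat.ofHom (algebraMap k k'))) Gbar R qR) :
    QuasiCompact (hR.lift G q).left := by
  let σ := Spec.map (CommRingCat.ofHom (algebraMap k k'))
  let F := Over.pullback σ
  let i := hR.lift G q
  have hfac : F.map i ≫ qR = q := hR.restr_lift G q
  haveI : IsSeparated Gbar.hom := SGA3xLib.isSeparated_of_grpObj Gbar
  haveI : IsSeparated (Red.bc σ R).hom := SGA3xLib.isSeparated_of_grpObj _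
  haveI hlftG : LocallyOfFiniteType (Red.bc σ G).hom :=
    inferInstanceAs (LocallyOfFiniteType (Limits.pullback.snd G.hom σ))
  haveI : LocallyOfFinitePresentation (Red.bc σ G).hom := inferInstance
  haveI : LocallyOfFinitePresentation q.left := by
    haveI : LocallyOfFinitePresentation (q.left ≫ Gbar.hom) := by rw [Over.w q]; infer_instance
    exact H8Lim.lfp_cancel_right q.left Gbar.hom
  haveI : UniversallyOpen q.left := inferInstance
  haveI hqc : QuasiCompact q.left := by
    let K := UnipStruct.kerObj q
    have hK : AlgGrp.IsKernel (UnipStruct.kerι q) q := UnipStruct.isKernel_kerι q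
    haveI : Mono (UnipStruct.kerι q) := AlgGrpLib.kernel_mono hK
    let e : N.left ≅ K.left := (Over.forget _).mapIso (hN.isoIsPullback _ _ hK)
    haveI : CompactSpace K.left := e.hom.homeomorph.compactSpace
    haveI : QuasiCompact K.hom := HasAffineProperty.iff_of_isAffine.mpr ‹CompactSpace K.left›
    have h : IsPullback (fst (Red.bc σ G) K).left (((Red.bc σ G) ◁ UnipStruct.kerι q) ≫ μ).left q.left q.left :=
      (AlgGrpLib.TorusIsog.isPullback_kernelPair q hK).map (Over.forget _)
    haveI hfst : QuasiCompact (fst (Red.bc σ G) K).left :=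
      inferInstanceAs (QuasiCompact (Limits.pullback.fst (Red.bc σ G).hom K.hom))
    haveI : QuasiCompact (Limits.pullback.fst q.left q.left) := by
      rw [← h.isoPullback_inv_fst]
      infer_instance
    exact quasiCompact_of_kernelPair q.left
  have hleft : (F.map i).left ≫ qR.left = q.left := by rw [← Over.comp_left, hfac]
  haveI : IsSeparated qR.left := by
    haveI : IsSeparated (qR.left ≫ Gbar.hom) := by rw [Over.w qR]; infer_instance
    exact IsSeparated.of_comp qR.left Gbar.hom
  haveI : QuasiCompact ((F.map i).left ≫ qR.left) := by rw [hleft]; infer_instance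
  haveI : QuasiCompact (F.map i).left := QuasiCompact.of_comp (F.map i).left qR.left
  have hw : (F.map i).left ≫ Limits.pullback.fst R.hom σ = Limits.pullback.fst G.hom σ ≫ i.left :=
    Limits.pullback.lift_fst _ _ _
  haveI : Surjective σ := ⟨fun x => ⟨IsLocalRing.closedPoint k', Subsingleton.elim _ _⟩⟩
  haveI : IsAffineHom σ := inferInstance
  rw [quasiCompact_iff_forall_isAffineOpen]
  intro U hU
  haveI : QuasiCompact (Limits.pullback.fst G.hom σ ≫ i.left) := by rw [← hw]; infer_instance
  have hc := (Limits.pullback.fst G.hom σ ≫ i.left).isCompact_preimage (U := U) hU.isCompact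
  have := hc.image (Limits.pullback.fst G.hom σ).continuous
  convert this using 1
  exact (Set.image_preimage_eq _ (Limits.pullback.fst G.hom σ).surjective).symm

end Groth.Agent.S15875
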