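import Groth.Statements.S15878
import Groth.Agent.AGFQuot23.WeilKerTorus
import Groth.Agent.AlgGrpLib.AffineToProper
import Groth.Agent.AlgSpLib.FppfSource
import Groth.Agent.Et18.Descent
import Groth.Agent.FlatLocal.Descent
import Groth.Agent.H8Lim.FinitePresentation

set_option autoImplicit false
set_option linter.style.haveILetI false
set_option backward.isDefEq.respectTransparency.types false
set_option maxHeartbeats 1000000
universe u
open CategoryTheory MonoidalCategory CartesianMonoidalCategory MonObj GrpObj AlgebraicGeometry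
open AGF

namespace Groth.Agent.S15878

section
open CategoryTheory.Limits

theorem main (k k' : Type u) [Field k] [Field k'] [Algebra k k'] [Module.Finite k k'] [IsPurelyInseparable k k']
    {G R H Q : Over (Spec (CommRingCat.of k))} [GrpObj G] [GrpObj R] [GrpObj H] [GrpObj Q] [LocallyOfFiniteType G.hom]
    {Gbar : Over (Spec (CommRingCat.of k'))} [GrpObj Gbar] [LocallyOfFiniteType Gbar.hom]
    {q : Red.bc (AGFQuot23.WeilKer.σ k k') G ⟶ Gbar} [Surjective q.left] [Flat q.left]
    {qR : Red.bc (AGFQuot23.WeilKer.σ k k') R ⟶ Gbar} [IsMonHom qR]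
    (hR : WeilRes.IsWeilRes (AGFQuot23.WeilKer.σ k k') Gbar R qR)
    {i : G ⟶ R} (hi : (Over.pullback (AGFQuot23.WeilKer.σ k k')).map i ≫ qR = q)
    {π : R ⟶ Q} [IsMonHom π] [Surjective π.left] [Flat π.left] [LocallyOfFinitePresentation π.left]
    (hiπ : i ≫ π = 1) :
    IsAffine Q.left ∧ (∀ s : ↥(Spec (CommRingCat.of k)),
      Red.HasNoSubtorus (AlgebraicClosure ((Spec (CommRingCat.of k)).residueField s)) (Red.geomFibre s Q)) := by
  let σ := AGFQuot23.WeilKer.σ k k'
  let F := Over.pullback σ
  -- the kernel of the counit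
  obtain ⟨K, _, iK, hiKm, hiKc, hK, -⟩ := AlgGrpLib.AffineToProper.exists_kernel qR
  haveI := hiKm
  haveI hsepG : IsSeparated Gbar.hom := SGA3xLib.isSeparated_of_grpObj Gbar
  obtain ⟨hKa, hKf⟩ := AGFQuot23.WeilKer.affine_lft_kernel hR hK
  haveI := hKa; haveI := hKf
  obtain ⟨m, hm⟩ := AGFQuot23.WeilKer.exists_pow_id_eq_one hR hK
  let G1 := Red.bc σ G
  haveI : LocallyOfFiniteType G1.hom := inferInstanceAs (LocallyOfFiniteType (Limits.pullback.snd G.hom σ))
  haveI : LocallyOfFinitePresentation q.left := by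
    haveI : LocallyOfFinitePresentation (q.left ≫ Gbar.hom) := by rw [Over.w q]; infer_instance
    exact H8Lim.lfp_cancel_right q.left Gbar.hom
  let ρ : K ⟶ Red.bc σ Q := iK ≫ F.map π
  haveI : IsMonHom (F.map π) := inferInstance
  haveI : IsMonHom ρ := inferInstanceAs (IsMonHom (iK ≫ F.map π))
  let Ψ : K ⊗ G1 ⟶ Red.bc σ R := (fst K G1 ≫ iK) * (snd K G1 ≫ F.map i)
  have hΨq : Ψ ≫ qR = snd K G1 ≫ q := by
    rw [MonObj.mul_comp, Category.assoc, Category.assoc, AlgGrpLib.kernel_comp hK, hi, MonObj.comp_one, _root_.one_mul]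
  have hsq : IsPullback Ψ (snd K G1) qR q := by
    have hex : ∀ s : PullbackCone qR q, ∃ n : s.pt ⟶ K, n ≫ iK = s.fst * (s.snd ≫ F.map i)⁻¹ := fun s => by
      apply AlgGrpLib.exists_lift_kernel hK
      rw [MonObj.mul_comp, GrpObj.inv_comp, Category.assoc, hi, s.condition, mul_inv_cancel]
    choose n hn using hex
    haveI : Mono iK := AlgGrpLib.kernel_mono hK
    refine ⟨⟨hΨq⟩, ⟨PullbackCone.IsLimit.mk hΨq (fun s => lift (n s) s.snd) (fun s => ?_) (fun s => lift_snd _ _)
      (fun s t h1 h2 => ?_)⟩⟩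
    · rw [MonObj.comp_mul, lift_fst_assoc, lift_snd_assoc, hn, inv_mul_cancel_right]
    · apply CartesianMonoidalCategory.hom_ext
      · rw [lift_fst, ← cancel_mono iK, hn, ← h1, ← h2, MonObj.comp_mul, Category.assoc, Category.assoc,
          mul_inv_cancel_right]
      · rw [lift_snd, h2]
  have hsq' : IsPullback Ψ.left (snd K G1).left qR.left q.left := hsq.map (Over.forget _)
  haveI : Surjective Ψ.left := MorphismProperty.of_isPullback (P := @Surjective) hsq'.flip ‹Surjective q.left›
  haveI : Flat Ψ.left := MorphismProperty.of_isPullback (P := @Flat) hsq'.flip ‹Flat q.left›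
  haveI : LocallyOfFinitePresentation Ψ.left :=
    MorphismProperty.of_isPullback (P := @LocallyOfFinitePresentation) hsq'.flip ‹LocallyOfFinitePresentation q.left›
  have hΨπ : Ψ ≫ F.map π = fst K G1 ≫ ρ := by
    rw [MonObj.mul_comp, Category.assoc, Category.assoc, ← Functor.map_comp, hiπ, CategoryTheory.Functor.map_one,
      MonObj.comp_one, _root_.mul_one]
  have hmap : IsPullback (Limits.pullback.fst R.hom σ) (F.map π).left π.left (Limits.pullback.fst Q.hom σ) := by
    refine IsPullback.of_bot ?_ (Limits.pullback.lift_fst _ _ _).symm (IsPullback.of_hasPullback Q.hom σ)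
    have h := IsPullback.of_hasPullback R.hom σ
    have e1 : (F.map π).left ≫ Limits.pullback.snd Q.hom σ = Limits.pullback.snd R.hom σ := Over.w (F.map π)
    rw [e1, Over.w π]
    exact h
  haveI : Surjective (F.map π).left := MorphismProperty.of_isPullback (P := @Surjective) hmap ‹Surjective π.left›
  haveI : Flat (F.map π).left := MorphismProperty.of_isPullback (P := @Flat) hmap ‹Flat π.left›
  haveI : LocallyOfFinitePresentation (F.map π).left :=
    MorphismProperty.of_isPullback (P := @LocallyOfFinitePresentation) hmap ‹LocallyOfFinitePresentation π.left›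
  let c := Ψ.left ≫ (F.map π).left
  have hc : c = (fst K G1).left ≫ ρ.left := congrArg CommaMorphism.left hΨπ
  haveI : LocallyOfFiniteType (Red.bc σ Q).hom := by
    apply AlgSpLib.lft_of_comp_fppf c (Red.bc σ Q).hom
    rw [show c ≫ (Red.bc σ Q).hom = (K ⊗ G1).hom from Over.w (Ψ ≫ F.map π)]
    exact inferInstanceAs (LocallyOfFiniteType (Limits.pullback.fst K.hom G1.hom ≫ K.hom))
  haveI : Surjective ρ.left := by
    haveI : Surjective ((fst K G1).left ≫ ρ.left) := by rw [← hc]; infer_instance
    exact Surjective.of_comp (fst K G1).left ρ.left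
  haveI : Flat ρ.left := by
    haveI : Flat (fst K G1).left := inferInstanceAs (Flat (Limits.pullback.fst K.hom G1.hom))
    haveI : Surjective (fst K G1).left := by
      haveI : Surjective G1.hom := ⟨fun x => ⟨(η[G1] : 𝟙_ _ ⟶ G1).left x, Subsingleton.elim (α := PrimeSpectrum k') _ _⟩⟩
      exact inferInstanceAs (Surjective (Limits.pullback.fst K.hom G1.hom))
    haveI : Flat ((fst K G1).left ≫ ρ.left) := by rw [← hc]; infer_instance
    exact FlatLocal.flat_of_comp (fst K G1).left ρ.left
  haveI hQa' : IsAffine (Red.bc σ Q).left := AlgGrpLib.AffineToProper.isAffine_of_flat_surjective ρ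
  haveI : IsFinite σ := (IsFinite.SpecMap_iff _).2 (RingHom.finite_algebraMap.2 inferInstance)
  haveI : Flat σ := (HasRingHomProperty.Spec_iff).2 (RingHom.flat_algebraMap_iff.2 inferInstance)
  haveI : Surjective σ := ⟨fun x => ⟨IsLocalRing.closedPoint k', Subsingleton.elim (α := PrimeSpectrum k) _ _⟩⟩
  have hQa : IsAffine Q.left := by
    haveI := Et18.descends_isAffineHom.{u}
    haveI : IsAffineHom (Limits.pullback.fst σ Q.hom) := by
      rw [← Limits.pullbackSymmetry_hom_comp_snd σ Q.hom]
      haveI : IsAffineHom (Limits.pullback.snd Q.hom σ) := inferInstanceAs (IsAffineHom (Red.bc σ Q).hom)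
      infer_instance
    haveI : IsAffineHom Q.hom := MorphismProperty.of_pullback_fst_of_descendsAlong (P := @IsAffineHom)
      (Q := @Surjective ⊓ @Flat ⊓ @QuasiCompact) (f := σ) (g := Q.hom) ⟨⟨inferInstance, inferInstance⟩, inferInstance⟩
      ‹IsAffineHom (Limits.pullback.fst σ Q.hom)›
    exact isAffine_of_isAffineHom Q.hom
  -- killed
  have hQ1 : (𝟙 (Red.bc σ Q) : Red.bc σ Q ⟶ _) ^ (ringExpChar k') ^ m = 1 := by
    haveI : Surjective c := inferInstanceAs (Surjective (Ψ.left ≫ (F.map π).left))
    haveI : Flat c := inferInstanceAs (Flat (Ψ.left ≫ (F.map π).left))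
    haveI : LocallyOfFinitePresentation c := inferInstanceAs (LocallyOfFinitePresentation (Ψ.left ≫ (F.map π).left))
    haveI : Epi (fst K G1 ≫ ρ).left := by
      rw [Over.comp_left, ← hc]
      infer_instance
    haveI : Epi (fst K G1 ≫ ρ) := Over.epi_of_epi_left _
    have hρ : ρ ^ (ringExpChar k') ^ m = 1 := by
      have hpow : ∀ n : ℕ, ((𝟙 K : K ⟶ K) ^ n) ≫ ρ = ρ ^ n := fun n => by
        induction n with
        | zero => rw [_root_.pow_zero, _root_.pow_zero, MonObj.one_comp]
        | succ n ih => rw [pow_succ, pow_succ, MonObj.mul_comp, ih, Category.id_comp]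
      rw [← hpow, hm, MonObj.one_comp]
    rw [← cancel_epi (fst K G1 ≫ ρ), AGFQuot23.NilpKill.comp_pow', Category.comp_id, MonObj.comp_one,
      ← AGFQuot23.NilpKill.comp_pow', hρ, MonObj.comp_one]
  have hQk : (𝟙 Q : Q ⟶ Q) ^ (ringExpChar k) ^ m = 1 := by
    have he : ringExpChar k' = ringExpChar k := by
      obtain ⟨e, he⟩ := ExpChar.exists k
      haveI := he
      haveI : ExpChar k' e := expChar_of_injective_ringHom (algebraMap k k').injective e
      rw [ringExpChar.eq k e, ringExpChar.eq k' e]
    let φ : (Q ⟶ Q) →* (Red.bc σ Q ⟶ Red.bc σ Q) :=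
      { toFun := fun g => F.map g
        map_one' := CategoryTheory.Functor.map_one _
        map_mul' := fun g h => CategoryTheory.Functor.map_mul _ g h }
    have h1 : φ ((𝟙 Q : Q ⟶ Q) ^ (ringExpChar k) ^ m) = φ 1 := by
      rw [map_pow, map_one, show φ (𝟙 Q) = 𝟙 _ from F.map_id Q, ← he]
      exact hQ1
    refine Over.OverMorphism.ext ?_
    have h2 := congrArg (fun g => g.left ≫ Limits.pullback.fst Q.hom σ) h1
    have h3 : ∀ g : Q ⟶ Q, (φ g).left ≫ Limits.pullback.fst Q.hom σ = Limits.pullback.fst Q.hom σ ≫ g.left :=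
      fun g => Limits.pullback.lift_fst _ _ _
    simp only [h3] at h2
    haveI : Epi (Limits.pullback.fst Q.hom σ) := Flat.epi_of_flat_of_surjective _
    exact (cancel_epi _).1 h2
  exact ⟨hQa, AGFQuot23.WeilKer.hasNoSubtorus_geomFibre_of_killed Q m hQk⟩

end

/-- With k'/k finite purely inseparable, G a k-group locally of finite type, q : G_{k'} → Ḡ a faithfully
flat homomorphism with quasi-compact kernel onto a commutative k'-group locally of finite type, (R,
q_R) a Weil restriction of Ḡ to k with q_R a homomorphism, H the image of the comparison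
homomorphism i : G → R (H a closed subgroup of R through which i factors by a faithfully flat
homomorphism), and π : R → Q the fppf quotient group of R by H: Q is affine and its geometric fibre
has no non-trivial subtorus. (The published statement says that Q is a commutative unipotent
k-group; the absence of geometric subtori is the weaker property recorded here, and commutativity is
inherited from R.) -/
theorem result (k k' : Type u) [Field k] [Field k']
    [Algebra k k'] [Module.Finite k k'] [IsPurelyInseparable k k']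
    (G : Over (Spec (CommRingCat.of k))) [GrpObj G] [LocallyOfFiniteType G.hom]
    (Gbar : Over (Spec (CommRingCat.of k'))) [GrpObj Gbar] [LocallyOfFiniteType Gbar.hom]
    (q : Red.bc (Spec.map (CommRingCat.ofHom (algebraMap k k'))) G ⟶ Gbar) [IsMonHom q] [Surjective q.left] [Flat q.left]
    (N : Over (Spec (CommRingCat.of k'))) (iN : N ⟶ Red.bc (Spec.map (CommRingCat.ofHom (algebraMap k k'))) G) (hN : AlgGrp.IsKernel iN q) [CompactSpace N.left]
    (R : Over (Spec (CommRingCat.of k))) [GrpObj R] (qR : Red.bc (Spec.map (CommRingCat.ofHom (algebraMap k k'))) R ⟶ Gbar) [IsMonHom qR]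
    (hR : WeilRes.IsWeilRes (Spec.map (CommRingCat.ofHom (algebraMap k k'))) Gbar R qR)
    (H : Over (Spec (CommRingCat.of k))) [GrpObj H] (j : H ⟶ R) [IsMonHom j] [IsClosedImmersion j.left]
    (p : G ⟶ H) [IsMonHom p] [Surjective p.left] [Flat p.left] (hfac : p ≫ j = hR.lift G q)
    [IsCommMonObj Gbar]
    (Q : Over (Spec (CommRingCat.of k))) [GrpObj Q] (π : R ⟶ Q) [IsMonHom π] (hQ : RedSub.IsQuotient j π) :
    IsAffine Q.left ∧ (∀ s : ↥(Spec (CommRingCat.of k)), Red.HasNoSubtorus (AlgebraicClosure ((Spec (CommRingCat.of k)).residueField s)) (Red.geomFibre s Q)) := by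
  obtain ⟨hπs, hπf, hπp, hsq⟩ := hQ
  haveI := hπs; haveI := hπf; haveI := hπp
  have hjπ : j ≫ π = 1 := by
    have h := congrArg (lift (1 : H ⟶ R) (𝟙 H) ≫ ·) hsq.w
    have e : lift (1 : H ⟶ R) (𝟙 H) ≫ (R ◁ j) ≫ μ[R] = j := by
      rw [← Category.assoc, lift_whiskerLeft, Category.id_comp, ← Hom.mul_def, _root_.one_mul]
    have h' : (lift (1 : H ⟶ R) (𝟙 H) ≫ fst R H) ≫ π = (lift (1 : H ⟶ R) (𝟙 H) ≫ (R ◁ j) ≫ μ[R]) ≫ π := by
      simpa only [Category.assoc] using h
    rw [e, lift_fst, MonObj.one_comp] at h'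
    exact h'.symm
  refine main (G := G) (R := R) (H := H) (Q := Q) k k' hR (i := hR.lift G q) (hR.restr_lift G q) (π := π) ?_
  rw [← hfac, Category.assoc, hjπ, MonObj.comp_one]

end Groth.Agent.S15878
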