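import Groth.Statements.S1588
import Groth.Agent.NodeLib7.BigField
-- import your own Groth.Agent.* helpers here

set_option autoImplicit false
set_option backward.isDefEq.respectTransparency false
universe u
open CategoryTheory CategoryTheory.Limits AlgebraicGeometry
open Curves TensorProduct

namespace Groth.Agent.S1588

/-- Let K be a field extension of k, X locally of finite type over k of dimension one, and y a point of
X_K with image x in X. Then x is a node of X (in particular closed) if and only if y is a node of
X_K. -/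
theorem result (k : Type u) [Field k] (X : Scheme.{u}) [X.Over (Spec (CommRingCat.of k))] [LocallyOfFiniteType (X ↘ (Spec (CommRingCat.of k)))]
    (hdim : topologicalKrullDim X = 1) (K : Type u) [Field K] [Algebra k K] (y : Curv2.bc k X K) :
    Curv2.IsNode k X (Curv2.bcFst k X K y) ↔ @Curv2.IsNode K _ (Curv2.bc k X K) ⟨Curv2.bcSnd k X K⟩ y := by
  letI iO : (Curv2.bc k X K).Over (Spec (CommRingCat.of K)) := ⟨Curv2.bcSnd k X K⟩
  haveI : LocallyOfFiniteType (Curv2.bc k X K ↘ Spec (CommRingCat.of K)) :=
    inferInstanceAs (LocallyOfFiniteType (Curv2.bcSnd k X K))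
  constructor
  · intro hx
    letI := Curv2.stalkAlgebra k X ((Curv2.bcFst k X K) y)
    letI iS := Curv2.stalkAlgebra K (Curv2.bc k X K) y
    obtain ⟨hc, hsep, u, v, a, b, c, hd⟩ := (Groth.Agent.NodeLib7.isNode_iff k X _).1 hx
    haveI := (Groth.Agent.NodeLib7.isClosed_iff_finite k X _).1 hc
    haveI := hsep
    obtain ⟨P, hPp, hP, hPn, e, he⟩ := Groth.Agent.NodeLib7.exists_localization_compat k X K y
    obtain ⟨⟨hfin, hsepB⟩, hdata⟩ := Groth.Agent.NodeLib7.nodeData_baseChange P hP
    obtain ⟨u', v', a', b', c', hd'⟩ := hdata hd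
    letI iB : Algebra K (Localization.AtPrime P) := ((algebraMap _ (Localization.AtPrime P)).comp
      (Algebra.TensorProduct.includeRight : K →ₐ[k] X.presheaf.stalk ((Curv2.bcFst k X K) y) ⊗[k] K).toRingHom).toAlgebra
    let ε : IsLocalRing.ResidueField (Localization.AtPrime P) ≃ₐ[K]
        IsLocalRing.ResidueField ((Curv2.bc k X K).presheaf.stalk y) :=
      { IsLocalRing.ResidueField.mapEquiv e.symm with
        commutes' := fun t => by
          show IsLocalRing.ResidueField.map (e.symm : _ →+* _)
            (IsLocalRing.residue _ (algebraMap K (Localization.AtPrime P) t)) =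
            IsLocalRing.residue _ (algebraMap K ((Curv2.bc k X K).presheaf.stalk y) t)
          rw [IsLocalRing.ResidueField.map_residue]
          congr 1
          exact (RingEquiv.symm_apply_eq e).2 (he t).symm }
    letI iA : Algebra (Localization.AtPrime P) ((Curv2.bc k X K).presheaf.stalk y) := e.symm.toRingHom.toAlgebra
    haveI : Module.Flat (Localization.AtPrime P) ((Curv2.bc k X K).presheaf.stalk y) :=
      RingHom.Flat.of_bijective (f := e.symm.toRingHom) e.symm.bijective
    haveI : IsLocalHom (algebraMap (Localization.AtPrime P) ((Curv2.bc k X K).presheaf.stalk y)) :=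
      IsLocalHom.of_surjective (algebraMap (Localization.AtPrime P) ((Curv2.bc k X K).presheaf.stalk y)) e.symm.surjective
    refine (Groth.Agent.NodeLib7.isNode_iff K (Curv2.bc k X K) y).2 ⟨?_, ?_, _, _, _, _, _,
      hd'.map (IsLocalRing.map_maximalIdeal_of_surjective _ e.symm.surjective)⟩
    · exact (Groth.Agent.NodeLib7.isClosed_iff_finite K (Curv2.bc k X K) y).2 (Module.Finite.equiv ε.toLinearEquiv)
    · haveI := hsepB
      exact AlgEquiv.Algebra.isSeparable ε
  · rintro ⟨-, w, rfl, hw⟩
    obtain ⟨z, hz, hord⟩ := Groth.Agent.NodeLib7.exists_point_bc k X (Ω := AlgebraicClosure K) w hw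
    rw [← hz]
    exact Groth.Agent.NodeLib7.isNode_of_ordDoublePt k X hdim.le z hord

end Groth.Agent.S1588
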