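import Groth.Statements.S15881
import Groth.Agent.BLTorsor.Unique

set_option autoImplicit false
universe u
open CategoryTheory MonoidalCategory CartesianMonoidalCategory MonObj GrpObj AlgebraicGeometry
open NonAbH1

namespace Groth.Agent.S15881

/-- With φ : A → A' and t as in the glueing set-up (A/t^m → A'/t^m bijective for all m, φ bijective on
t-power torsion), G a flat A-group scheme with quasi-affine underlying scheme, and P, P' fppf
G-torsors over A: an equivariant isomorphism of the base changes to A[1/t] and one of the base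
changes to A', which agree over A'[1/t] under the canonical identifications of iterated base
changes, are the base changes of a unique equivariant isomorphism P ≅ P' over A. (The hypothesis h
is the evident commutativity of the square of base rings.) -/
theorem result (A A' : Type u) [CommRing A] [CommRing A']
    (φ : A →+* A') (t : A)
    (hq : ∀ m : ℕ, Function.Bijective (Ideal.quotientMap (Ideal.map φ (Ideal.span {t} ^ m)) φ Ideal.le_comap_map))
    (htor : ∀ a' : A', (∃ m : ℕ, φ t ^ m * a' = 0) → ∃! a : A, (∃ m : ℕ, t ^ m * a = 0) ∧ φ a = a')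
    (h : Spec.map (CommRingCat.ofHom (Localization.awayMap φ t)) ≫
        Spec.map (CommRingCat.ofHom (algebraMap A (Localization.Away t))) =
      Spec.map (CommRingCat.ofHom (algebraMap A' (Localization.Away (φ t)))) ≫ Spec.map (CommRingCat.ofHom φ))
    (G : Over (Spec (CommRingCat.of A))) [GrpObj G] [Flat G.hom] [G.left.IsQuasiAffine]
    (P P' : NonAbH1.TorsorSch G Scheme.fppfPrecoverage)
    (αU : NonAbH1.EquivIso (P.act.bc (Spec.map (CommRingCat.ofHom (algebraMap A (Localization.Away t))))) (P'.act.bc (Spec.map (CommRingCat.ofHom (algebraMap A (Localization.Away t))))))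
    (α' : NonAbH1.EquivIso (P.act.bc (Spec.map (CommRingCat.ofHom φ))) (P'.act.bc (Spec.map (CommRingCat.ofHom φ))))
    (hagree : (NonAbH1.EquivIso.bc (Spec.map (CommRingCat.ofHom (Localization.awayMap φ t))) αU).iso.hom ≫ (ActBC.bcCompIso (Spec.map (CommRingCat.ofHom (Localization.awayMap φ t))) (Spec.map (CommRingCat.ofHom (algebraMap A (Localization.Away t)))) P'.X h).hom =
      (ActBC.bcCompIso (Spec.map (CommRingCat.ofHom (Localization.awayMap φ t))) (Spec.map (CommRingCat.ofHom (algebraMap A (Localization.Away t)))) P.X h).hom ≫ (ActBC.bcCompIso (Spec.map (CommRingCat.ofHom (algebraMap A' (Localization.Away (φ t))))) (Spec.map (CommRingCat.ofHom φ)) P.X rfl).inv ≫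
        (NonAbH1.EquivIso.bc (Spec.map (CommRingCat.ofHom (algebraMap A' (Localization.Away (φ t))))) α').iso.hom ≫ (ActBC.bcCompIso (Spec.map (CommRingCat.ofHom (algebraMap A' (Localization.Away (φ t))))) (Spec.map (CommRingCat.ofHom φ)) P'.X rfl).hom) :
    ∃! α : NonAbH1.EquivIso P.act P'.act,
      (NonAbH1.EquivIso.bc (Spec.map (CommRingCat.ofHom (algebraMap A (Localization.Away t)))) α).iso = αU.iso ∧ (NonAbH1.EquivIso.bc (Spec.map (CommRingCat.ofHom φ)) α).iso = α'.iso := by
  letI : Algebra A A' := φ.toAlgebra
  have hu : IsUnit ((Algebra.TensorProduct.includeLeftRingHom :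
      A' →+* TensorProduct A A' (Localization.Away t)) (φ t)) := by
    have h1 : (Algebra.TensorProduct.includeLeftRingHom : A' →+* TensorProduct A A' (Localization.Away t)) (φ t) =
        Algebra.TensorProduct.includeRight (R := A) (A := A') (algebraMap A (Localization.Away t) t) := by
      show (φ t) ⊗ₜ[A] (1 : Localization.Away t) = (1 : A') ⊗ₜ[A] algebraMap A (Localization.Away t) t
      rw [Algebra.algebraMap_eq_smul_one t, ← TensorProduct.smul_tmul, Algebra.smul_def, _root_.mul_one]
      rfl
    rw [h1]
    exact (IsLocalization.Away.algebraMap_isUnit t).map _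
  let χ : Localization.Away (φ t) →+* TensorProduct A A' (Localization.Away t) :=
    IsLocalization.Away.lift (φ t) hu
  have hχV : χ.comp (algebraMap A' (Localization.Away (φ t))) =
      (Groth.Agent.BLTorsor.incV (R' := A') t).toRingHom :=
    RingHom.ext fun x => IsLocalization.Away.lift_eq (φ t) hu x
  have hχU : χ.comp (Localization.awayMap φ t) = (Groth.Agent.BLTorsor.incU (R' := A') t).toRingHom := by
    refine IsLocalization.ringHom_ext (Submonoid.powers t) (RingHom.ext fun a => ?_)
    show χ (Localization.awayMap φ t (algebraMap A _ a)) =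
      Groth.Agent.BLTorsor.incU (R' := A') t (algebraMap A _ a)
    rw [AlgHom.commutes, Localization.awayMap, IsLocalization.Away.map, IsLocalization.map_eq]
    exact ((RingHom.congr_fun hχV (φ a)).trans (AlgHom.commutes (Groth.Agent.BLTorsor.incV (R' := A') t) a))
  refine Groth.Agent.BLTorsor.existsUnique_equivIso (R' := A') (f := t)
    (Groth.Agent.BLTorsor.glueingPair_of_hyps hq htor) P P' αU α' ?_
  have hwU : Spec.map (CommRingCat.ofHom χ) ≫ Spec.map (CommRingCat.ofHom (Localization.awayMap φ t)) =
      (Groth.Agent.BLTorsor.wU A' t).left := by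
    rw [← Spec.map_comp, ← CommRingCat.ofHom_comp, hχU]
    rfl
  have hwV : Spec.map (CommRingCat.ofHom χ) ≫ Spec.map (CommRingCat.ofHom (algebraMap A' (Localization.Away (φ t)))) =
      (Groth.Agent.BLTorsor.wV A' t).left := by
    rw [← Spec.map_comp, ← CommRingCat.ofHom_comp, hχV]
    rfl
  exact Groth.Agent.BLTorsor.push_eq_of_bc_agree _ _ _ _ h αU.iso.hom α'.iso.hom hagree
    ((CartesianMonoidalCategory.fst (Groth.Agent.BLTorsor.objW A' t) P.X).left ≫ Spec.map (CommRingCat.ofHom χ))
    _ _ _ _
    ((Category.assoc _ _ _).trans (congrArg (fun m => _ ≫ m) hwU))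
    ((Category.assoc _ _ _).trans (congrArg (fun m => _ ≫ m) hwV)) _

end Groth.Agent.S15881
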