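import Groth.Statements.S15883

set_option autoImplicit false
universe u
open CategoryTheory AlgebraicGeometry Opposite
open BMCoh

namespace Groth.Agent.S15883

variable {V : ObjectProperty Scheme.{u}} [BMCoh.IsConstructible V] {R : Type u} [CommRing R]
  {A : BMCoh.Coefs R}

theorem key (T : BMCoh.TheoryOn V R A) {X Y W : BMCoh.Obj V} (iX : X ⟶ W) (iY : Y ⟶ W)
    (h : Set.range iY.hom = (Set.range iX.hom)ᶜ) (M : A.Cat) (j n : ℤ) :
    ∃ p : T.gp X M j n ⟶ T.gp W M j n, (∀ b, (T.pull iX M j n).hom (p.hom b) = b) ∧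
      Function.Exact p.hom (T.pull iY M j n).hom := by
  have hcl : IsClosedImmersion iX.hom := by
    refine IsClosedImmersion.iff_isPreimmersion.2 ⟨inferInstance, ?_⟩
    rw [← isOpen_compl_iff, ← h]
    exact iY.hom.isOpenEmbedding.isOpen_range
  have h0 : BMCoh.relCodim X.scheme W.scheme = 0 := by
    rw [BMCoh.relCodim, iX.dim_eq, sub_self]
  have hi : j = j + 2 * BMCoh.relCodim X.scheme W.scheme := by omega
  have hn : n = n + BMCoh.relCodim X.scheme W.scheme := by omega
  refine ⟨T.push iX.hom M j n j n hi hn, fun b => ?_, ?_⟩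
  · have hxx : BMCoh.relCodim X.scheme X.scheme = 0 := sub_self _
    have e := T.push_pull iX.hom (𝟙 X.scheme) iX (𝟙 X)
      (IsKernelPair.id_of_mono iX.hom) M j n j n hi hn (by omega) (by omega)
    rw [T.push_id] at e
    have e2 : T.push iX.hom M j n j n hi hn ≫ T.pull iX M j n = 𝟙 _ :=
      e.trans ((Category.comp_id _).trans (by simp))
    exact congr($(e2).hom b)
  · let D : BMCoh.Decomp W := ⟨X, Y, iX.hom, hcl, iY, h⟩
    obtain ⟨k, rfl⟩ : ∃ k, j = k + 1 := ⟨j - 1, by omega⟩
    exact T.exact_push_pull D M k n (k + 1) n hi hn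


/-- Let T be a twisted Borel–Moore cohomology theory with coefficients in A (a full subcategory of
R-modules containing R) on a constructible class V of Noetherian schemes, and let i_X : X → W and
i_Y : Y → W be morphisms of V — open immersions with dim X = dim W = dim Y — whose images are
complementary in W, so that W is the disjoint union of X and Y. Then for every coefficient module M
and all integers i, n the map H^i(W, M(n)) → H^i(X, M(n)) × H^i(Y, M(n)) whose components are the
restriction maps along i_X and i_Y is bijective. -/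
theorem result (V : ObjectProperty Scheme.{u}) [BMCoh.IsConstructible V] (R : Type u) [CommRing R] (A : BMCoh.Coefs R) (T : BMCoh.TheoryOn V R A) {X Y W : BMCoh.Obj V} (iX : X ⟶ W) (iY : Y ⟶ W) (h : Set.range iX.hom = (Set.range iY.hom)ᶜ) (M : A.Cat) (i n : ℤ) : Function.Bijective (fun a : T.gp W M i n => ((T.pull iX M i n).hom a, (T.pull iY M i n).hom a)) := by
  classical
  obtain ⟨p, hp, hpex⟩ := key T iX iY (by rw [h, compl_compl]) M i n
  obtain ⟨q, hq, hqex⟩ := key T iY iX h M i n
  refine ⟨fun a b hab => ?_, fun ⟨x, y⟩ => ⟨p.hom x + q.hom y, ?_⟩⟩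
  · obtain ⟨h1, h2⟩ := Prod.ext_iff.1 hab
    obtain ⟨c, hc⟩ := (hpex (a - b)).1 (by rw [map_sub]; exact sub_eq_zero.2 h2)
    have : c = 0 := by
      rw [← hp c, hc, map_sub]; exact sub_eq_zero.2 h1
    rw [this, map_zero] at hc
    exact sub_eq_zero.1 hc.symm
  · have a1 : (T.pull iX M i n).hom (q.hom y) = 0 := hqex.apply_apply_eq_zero y
    have a2 : (T.pull iY M i n).hom (p.hom x) = 0 := hpex.apply_apply_eq_zero x
    simp only [map_add, hp, hq, a1, a2, add_zero, zero_add]

end Groth.Agent.S15883
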