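import Groth.Statements.S15888
import Groth.Agent.BMLib.Total

set_option autoImplicit false
universe u
open CategoryTheory AlgebraicGeometry Opposite
open BMCoh

namespace Groth.Agent.S15888

/-- Let T be a twisted Borel–Moore cohomology theory with coefficients in A on a constructible class V
of Noetherian schemes, X an object of V whose underlying scheme is integral, and f : U → X a
morphism of V (an open immersion with dim U = dim X) whose image is a big open subset: every point
of X outside the image has codimension at least 2 in X, that is, its closure has dimension less than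
dim X − 1. Then for every coefficient module M and every integer n the restriction map H^2(X, M(n))
→ H^2(U, M(n)) along f is bijective. (The published remark is made for the rank-one Tate-twisted
coefficients of an ℓ-adic theory; the exactness-and-vanishing argument it indicates involves neither
the coefficient module nor the twist, and the statement is made here for all of them.) -/
theorem result (V : ObjectProperty Scheme.{u}) [BMCoh.IsConstructible V] (R : Type u) [CommRing R] (A : BMCoh.Coefs R) (T : BMCoh.TheoryOn V R A) {U X : BMCoh.Obj V} [IsIntegral X.scheme] (f : U ⟶ X) (hbig : ∀ x : X.scheme, x ∉ Set.range f.hom → 2 ≤ WeilCoh.codim X.scheme x) (M : A.Cat) (n : ℤ) : Function.Bijective (T.pull f M 2 n).hom := by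
  open Groth.Agent.BMLib in
  classical
  let O := f.hom.opensRange
  have hO : BMCoh.ContainsFj X 1 O := fun y hy => by
    by_contra hn
    have := hbig y hn
    omega
  have hdO := dim_eq_of_containsFj X hO
  let e : U ⟶ X.res O := ⟨IsOpenImmersion.lift O.ι f.hom (by rw [Scheme.Opens.range_ι]; rfl), by
    have : IsOpenImmersion (IsOpenImmersion.lift O.ι f.hom (by rw [Scheme.Opens.range_ι]; rfl) ≫ O.ι) := by
      rw [IsOpenImmersion.lift_fac]; infer_instance
    exact IsOpenImmersion.of_comp _ O.ι, f.dim_eq.trans hdO.symm⟩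
  have hef : e ≫ X.resι O hdO = f := BMCoh.Hom.ext (IsOpenImmersion.lift_fac _ _ _)
  have hsur : Function.Surjective e.hom := fun z => by
    obtain ⟨w, hw⟩ := z.2
    refine ⟨w, O.ι.isEmbedding.injective ?_⟩
    show (e ≫ X.resι O hdO).hom w = _
    rw [hef]
    exact hw
  have : Epi e.hom.base := (TopCat.epi_iff_surjective _).2 hsur
  have : IsIso e.hom := IsOpenImmersion.isIso e.hom
  have hX := toFj_bijective (X := X) (j := 1) M 2 n T (by norm_num)
  have hU := toFj_bijective (X := U) (j := 1) M 2 n T (by norm_num)
  refine ⟨(injective_iff_map_eq_zero _).2 fun a ha => hX.1 ?_, fun v' => ?_⟩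
  · rw [map_zero]
    refine (toFj_eq_cls T.toPreTheory M 2 n hO a).trans ?_
    rw [show (T.pull (X.resι O hdO) M 2 n).hom a = 0 from
      (pull_bijective_of_isIso T.toPreTheory M 2 n e).1 (by
        rw [map_zero, pull_pull, hef]; exact ha)]
    exact map_zero _
  · obtain ⟨v, rfl⟩ := (pull_bijective_of_isIso T.toPreTheory M 2 n e).2 v'
    obtain ⟨a, ha⟩ := hX.2 (cls T.toPreTheory M 2 n hO v)
    refine ⟨a, (sub_eq_zero.1 (hU.1 ?_)).symm⟩
    rw [map_zero]
    rw [toFj_eq_cls T.toPreTheory M 2 n hO a] at ha
    have h0 : cls T.toPreTheory M 2 n hO (v - (T.pull (X.resι O hdO) M 2 n).hom a) = 0 := by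
      unfold cls at ha ⊢
      rw [map_sub, ha, sub_self]
    obtain ⟨Y, hle, hY, hd, hz⟩ := cls_eq_zero T.toPreTheory M 2 n hO _ h0
    have hY' : BMCoh.ContainsFj U 1 (f.hom ⁻¹ᵁ Y) := fun w hw => hY _ ((codim_open f w).symm.trans_le hw)
    have hdY := dim_eq_of_containsFj U hY'
    let l : U.res (f.hom ⁻¹ᵁ Y) ⟶ X.res Y := ⟨f.hom ∣_ Y, inferInstance,
      hdY.trans (f.dim_eq.trans (dim_eq_of_containsFj X hY).symm)⟩
    have hl : l ≫ X.resLE hle hd = U.resι (f.hom ⁻¹ᵁ Y) hdY ≫ e := by
      refine BMCoh.Hom.ext ?_
      rw [← cancel_mono O.ι, BMCoh.comp_hom, BMCoh.comp_hom, Category.assoc, Category.assoc,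
        show e.hom ≫ O.ι = f.hom from IsOpenImmersion.lift_fac _ _ _]
      show (f.hom ∣_ Y) ≫ X.scheme.homOfLE hle ≫ O.ι = _
      rw [Scheme.homOfLE_ι, morphismRestrict_ι]
      rfl
    have hd0 : (T.pull e M 2 n).hom v - (T.pull f M 2 n).hom a =
        (T.pull e M 2 n).hom (v - (T.pull (X.resι O hdO) M 2 n).hom a) := by
      rw [map_sub, pull_pull, hef]
    rw [hd0, toFj_eq_cls T.toPreTheory M 2 n hY', pull_pull, ← hl, ← pull_pull, hz, map_zero]
    exact map_zero _

end Groth.Agent.S15888
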