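import Groth.Statements.S15893
import Groth.Prelude.Def_CartDual2

set_option autoImplicit false
universe u v w
open CartDual

namespace Groth.Agent.S15893

/-- Let R be a commutative ring and A, B commutative and cocommutative Hopf algebras over R, each
finitely generated and projective as an R-module (finite locally free commutative group schemes G =
Spec A, H = Spec B over Spec R). Then Cartier duality is a fully faithful contravariant functor: the
map sending a bialgebra homomorphism f : A → B (a homomorphism of group schemes H → G) to its
transpose between the dual Hopf algebras, Hom_R(B, R) → Hom_R(A, R) (the dual homomorphism G^D →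
H^D), is a bijection between bialgebra homomorphisms A → B and bialgebra homomorphisms Hom_R(B, R) →
Hom_R(A, R). (The published statement also asserts that the canonical map to the double dual is an
isomorphism, which makes duality an involutory anti-equivalence; that part is not restated here. The
published notes work over a Noetherian base ring; the row allows any commutative base ring.) -/
theorem result (R : Type u) [CommRing R] (A : Type v) (B : Type w)
    [CommRing A] [HopfAlgebra R A] [Coalgebra.IsCocomm R A] [Module.Finite R A] [Module.Projective R A]
    [CommRing B] [HopfAlgebra R B] [Coalgebra.IsCocomm R B] [Module.Finite R B] [Module.Projective R B] :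
    Function.Bijective (fun f : A →ₐc[R] B => CartDual.transpose R f) := by
  have hsep : ∀ {M : Type w} [AddCommGroup M] [Module R M] [Module.Finite R M] [Module.Projective R M] (m m' : M),
      (∀ x : M →ₗ[R] R, x m = x m') → m = m' := fun m m' h =>
    (Module.evalEquiv R _).injective (LinearMap.ext h)
  refine ⟨fun f g h => ?_, fun φ => ?_⟩
  · refine DFunLike.ext _ _ fun a => hsep _ _ fun x => ?_
    exact congrArg (fun y : CartDual.D R A => y a) (DFunLike.congr_fun h (WithConv.toConv x))
  · have hbij : Function.Bijective (CartDual.eval R B) := by
      refine ⟨fun m m' h => hsep _ _ fun x => congrArg (fun y : CartDual.D R (CartDual.D R B) => y (WithConv.toConv x)) h,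
        fun y => ?_⟩
      obtain ⟨b, hb⟩ := (Module.evalEquiv R B).surjective (y.ofConv ∘ₗ (WithConv.linearEquiv R (B →ₗ[R] R)).symm.toLinearMap)
      refine ⟨b, WithConv.ext (LinearMap.ext fun x => ?_)⟩
      exact LinearMap.congr_fun hb x.ofConv
    let E := @BialgEquiv.ofBijective R B (CartDual.D R (CartDual.D R B)) _ _ _ _ _ (CartDual.eval R B) hbij
    refine ⟨(E.symm : CartDual.D R (CartDual.D R B) →ₐc[R] B).comp ((CartDual.transpose R φ).comp (CartDual.eval R A)), ?_⟩
    refine DFunLike.ext _ _ fun x => WithConv.ext (LinearMap.ext fun a => ?_)
    show x (E.symm (CartDual.transpose R φ (CartDual.eval R A a))) = φ x a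
    have := congrArg (fun y : CartDual.D R (CartDual.D R B) => y x)
      (E.apply_symm_apply (CartDual.transpose R φ (CartDual.eval R A a)))
    exact this

end Groth.Agent.S15893
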