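import Groth.Statements.S15894


set_option autoImplicit false
universe u
open scoped TensorProduct
open Versch

namespace Groth.Agent.S15894

/-- Let p be a prime, R a commutative ring of characteristic p and A = R[ℤ/p] the group algebra of the
cyclic group of order p, the Hopf algebra of the group scheme μ_p of p-th roots of unity over Spec
R. Let v : A → A ⊗_R R^(Frob) be the comorphism of the Verschiebung V : μ_p^(p) → μ_p (the ring map
whose transpose under the canonical pairing is the relative Frobenius of the dual Hopf algebra).
Then v(c·g) = g ⊗ c for every group element g and every scalar c ∈ R, the scalar being moved into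
the Frobenius-twisted factor through the identity of underlying rings: under the identification
μ_p^(p) = μ_p the Verschiebung of μ_p is the identity. -/
theorem result (p : ℕ) [Fact p.Prime] (R : Type u) [CommRing R] [CharP R p]
    (v : MonoidAlgebra R (Multiplicative (ZMod p)) →+* FrobAlg.BaseChange p R (MonoidAlgebra R (Multiplicative (ZMod p))))
    (hv : Versch.IsVerschiebung p R (MonoidAlgebra R (Multiplicative (ZMod p))) v)
    (g : Multiplicative (ZMod p)) (c : R) :
    v (MonoidAlgebra.single g c) = MonoidAlgebra.single g (1 : R) ⊗ₜ[R] FrobAlg.toTwist p R c := by
  have hvv := (Versch.isVerschiebung_iff p R _ v).1 hv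
  refine Versch.evTw_injective p R _ fun x => ?_
  rw [hvv, Versch.evTw_tmul', ← map_mul]
  congr 1
  have key : ∀ j : ℕ, (x ^ j) (MonoidAlgebra.single g c) = x (MonoidAlgebra.single g 1) ^ j * c := by
    intro j
    induction j generalizing c with
    | zero => simp [CartDual.coe_apply]
    | succ j ih =>
      rw [pow_succ, LinearMap.convMul_apply, MonoidAlgebra.comul_single]
      simp only [CommSemiring.comul_apply, TensorProduct.map_tmul, LinearMap.mul'_apply,
        MonoidAlgebra.lsingle_apply]
      have hc : x (MonoidAlgebra.single g c) = c * x (MonoidAlgebra.single g 1) := by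
        rw [show (MonoidAlgebra.single g c : MonoidAlgebra R (Multiplicative (ZMod p))) = c • MonoidAlgebra.single g 1 by simp,
          CartDual.coe_apply, map_smul, smul_eq_mul, CartDual.coe_apply]
      rw [← CartDual.coe_apply, ← CartDual.coe_apply, ih 1, hc, pow_succ]
      ring
  exact key p

end Groth.Agent.S15894
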