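import Groth.Statements.S15895


set_option autoImplicit false
universe u
open scoped TensorProduct
open Versch

namespace Groth.Agent.S15895

/-- Let p be a prime, R a commutative ring of characteristic p and B = Hom_R(R[ℤ/p], R) the dual Hopf
algebra of the group algebra of the cyclic group of order p: the Hopf algebra of the constant group
scheme ℤ/p over Spec R (the Cartier dual of μ_p). Let v : B → B ⊗_R R^(Frob) be the comorphism of
the Verschiebung V : (ℤ/p)^(p) → ℤ/p (the ring map whose transpose under the canonical pairing is
the relative Frobenius of the dual Hopf algebra of B). Then V is the trivial homomorphism: v is the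
composite of the counit ε : B → R, the identity of underlying rings R → R^(Frob) and the inclusion
of the twisted factor R^(Frob) → B ⊗_R R^(Frob), i.e. v(b) = 1 ⊗ ε(b). -/
theorem result (p : ℕ) [Fact p.Prime] (R : Type u) [CommRing R]
    [CharP R p] (v : CartDual.D R (MonoidAlgebra R (Multiplicative (ZMod p))) →+* FrobAlg.BaseChange p R (CartDual.D R (MonoidAlgebra R (Multiplicative (ZMod p)))))
    (hv : Versch.IsVerschiebung p R (CartDual.D R (MonoidAlgebra R (Multiplicative (ZMod p)))) v) :
    v = ((Algebra.TensorProduct.includeRight (R := R) (A := CartDual.D R (MonoidAlgebra R (Multiplicative (ZMod p))))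
            (B := FrobAlg.Twist p R)).toRingHom.comp (FrobAlg.toTwist p R).toRingHom).comp
          (Bialgebra.counitAlgHom R (CartDual.D R (MonoidAlgebra R (Multiplicative (ZMod p))))).toRingHom := by
  classical
  let G := Multiplicative (ZMod p)
  let A := MonoidAlgebra R G
  let B := CartDual.D R A
  refine RingHom.ext fun b => ?_
  refine Versch.evTw_injective p R B fun x => ?_
  refine ((Versch.isVerschiebung_iff p R B v).1 hv b x).trans ?_
  show _ = Versch.evTw p R B x ((1 : B) ⊗ₜ[R] FrobAlg.toTwist p R (Bialgebra.counitAlgHom R B b))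
  rw [Versch.evTw_tmul', ← map_mul]
  congr 1
  let e : G → CartDual.D R B := fun g => WithConv.toConv
    ((LinearMap.applyₗ (MonoidAlgebra.single g (1 : R))) ∘ₗ (CartDual.toDual R A).toLinearMap)
  have he : ∀ g (y : B), e g y = y (MonoidAlgebra.single g 1) := fun g y => rfl
  have hemul : ∀ g h, e g * e h = e (g * h) := by
    intro g h
    refine WithConv.ext (LinearMap.ext fun y => ?_)
    show (e g * e h) y = y (MonoidAlgebra.single (g * h) 1)
    have key : ∀ t : B ⊗[R] B, LinearMap.mul' R R (TensorProduct.map (e g).ofConv (e h).ofConv t) =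
        CartDual.ev₂ R A t (MonoidAlgebra.single g 1 ⊗ₜ MonoidAlgebra.single h 1) := fun t => by
      induction t with
      | zero => simp
      | tmul a c => rw [TensorProduct.map_tmul, LinearMap.mul'_apply]; exact (CartDual.ev₂_tmul R A a c _ _).symm
      | add a c ha hc => simp [map_add, ha, hc]
    rw [LinearMap.convMul_apply, key, CartDual.ev₂_coalgebra_comul_tmul, MonoidAlgebra.single_mul_single, one_mul]
  have he1 : e 1 = 1 := by
    refine WithConv.ext (LinearMap.ext fun y => ?_)
    show e 1 y = (1 : CartDual.D R B) y
    rw [he, LinearMap.convOne_apply, CartDual.coalgebra_counit_apply, Algebra.algebraMap_self, RingHom.id_apply,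
      MonoidAlgebra.one_def]
  have hep : ∀ g, e g ^ p = 1 := by
    intro g
    have : ∀ j : ℕ, e g ^ j = e (g ^ j) := fun j => by
      induction j with
      | zero => rw [pow_zero, pow_zero, he1]
      | succ j ih => rw [pow_succ, ih, hemul, pow_succ]
    rw [this, show g ^ p = 1 by
      have := pow_card_eq_one (G := G) (x := g)
      simpa [G, Fintype.card_multiplicative, ZMod.card] using this, he1]
  let bG := MonoidAlgebra.basis G R
  let δ : G → B := fun g => WithConv.toConv (bG.coord g)
  have hδ : ∀ g h, δ g (MonoidAlgebra.single h 1) = if h = g then 1 else 0 := fun g h => by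
    show bG.coord g (MonoidAlgebra.single h 1) = _
    rw [← MonoidAlgebra.basis_apply]
    simp only [bG, Module.Basis.coord_apply, Module.Basis.repr_self, Finsupp.single_apply]
  have hb : ∀ y : B, y = ∑ g, y (MonoidAlgebra.single g 1) • δ g := fun y => by
    refine WithConv.ext (bG.ext fun h => ?_)
    rw [MonoidAlgebra.basis_apply]
    show y (MonoidAlgebra.single h 1) = _
    rw [← CartDual.coe_apply, ← he h (∑ g, _), CartDual.coe_apply (x := e h), map_sum]
    simp only [map_smul, smul_eq_mul]
    simp [← CartDual.coe_apply, he, hδ]
    rw [Finset.sum_ite_eq]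
    simp
  have hx : x = ∑ g, x (δ g) • e g := by
    refine WithConv.ext (LinearMap.ext fun y => ?_)
    conv_lhs => rw [hb y]
    simp only [map_sum, map_smul, WithConv.ofConv_sum, LinearMap.sum_apply, WithConv.ofConv_smul,
      LinearMap.smul_apply, smul_eq_mul, CartDual.coe_apply]
    exact Finset.sum_congr rfl fun g _ => mul_comm _ _
  have hx1 : x 1 = ∑ g, x (δ g) := by
    conv_lhs => rw [hx]
    simp only [CartDual.coe_apply, WithConv.ofConv_sum, LinearMap.sum_apply, WithConv.ofConv_smul,
      LinearMap.smul_apply]
    refine Finset.sum_congr rfl fun g _ => ?_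
    rw [← CartDual.coe_apply, he, LinearMap.convOne_apply, MonoidAlgebra.counit_single]
    simp [CartDual.coe_apply]
  have hxp : x ^ p = (x 1 ^ p) • (1 : CartDual.D R B) := by
    conv_lhs => rw [hx]
    rw [sum_pow_char p, hx1, sum_pow_char p, Finset.sum_smul]
    exact Finset.sum_congr rfl fun g _ => by rw [smul_pow, hep]
  rw [hxp, CartDual.coe_apply, WithConv.ofConv_smul, LinearMap.smul_apply, ← CartDual.coe_apply,
    LinearMap.convOne_apply, smul_eq_mul]
  rfl

end Groth.Agent.S15895
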