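import Groth.Statements.S15896
import Groth.Agent.HopfQuot.UnitComponentDual
import Groth.Agent.S15062

set_option autoImplicit false
universe u
open scoped TensorProduct
open Hopf

namespace Groth.Agent.S15896
open Groth.Agent Groth.Agent.HopfQuot TensorProduct

/-- Let R be a henselian Noetherian local ring and A a commutative and cocommutative Hopf algebra over R
which is finitely generated and projective as an R-module (a finite flat commutative R-group G =
Spec A). Let e ∈ A be an idempotent with ε(e) = 1 such that the ideal (1 − e) is a Hopf ideal and A⁰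
= A/(1 − e) is a local ring, projective over R, with cocommutative quotient structure (G⁰ = Spec A⁰
is the connected component of the unit section). Let B = Hom_R(A⁰, R) be the dual Hopf algebra (the
Cartier dual (G⁰)^D) and e' ∈ B an idempotent with ε(e') = 1 and B/(1 − e') local (the unit
component of (G⁰)^D). Say that x ∈ B is invariant when (id ⊗ (multiplication by e'))(Δ x) = x ⊗ e',
i.e. x is invariant under translation by the unit component of (G⁰)^D, so that the invariant
elements form the Hopf algebra of the maximal étale quotient of (G⁰)^D; the ideal in A⁰ of the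
closed subgroup G_μ ⊆ G⁰ ⊆ G consists of the elements annihilated by every invariant x (G_μ is the
Cartier dual of the étale quotient of (G⁰)^D, a connected multiplicative subgroup of G). Then G_μ is
the largest connected multiplicative closed subgroup of G: for every Hopf ideal J of A such that A/J
is a local ring, projective over R, cocommutative, and has étale dual Hopf algebra Hom_R(A/J, R) (H
= Spec A/J a connected closed subgroup with étale Cartier dual), every a ∈ A whose image in A⁰ is
annihilated by all invariant x lies in J, i.e. H ⊆ G_μ. -/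
theorem result (R : Type u) [CommRing R]
    [HenselianLocalRing R] [IsNoetherianRing R] (A : Type u) [CommRing A] [HopfAlgebra R A] [Coalgebra.IsCocomm R A]
    [Module.Finite R A] [Module.Projective R A] (e : A) (he : IsIdempotentElem e)
    (hε : Bialgebra.counitAlgHom R A e = 1) [(Ideal.span ({1 - e} : Set A)).IsHopfIdeal R] [IsLocalRing (A ⧸ Ideal.span ({1 - e} : Set A))]
    [Module.Projective R (A ⧸ Ideal.span ({1 - e} : Set A))] [Coalgebra.IsCocomm R (A ⧸ Ideal.span ({1 - e} : Set A))]
    (e' : CartDual.D R (A ⧸ Ideal.span ({1 - e} : Set A))) (he' : IsIdempotentElem e')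
    (hε' : Bialgebra.counitAlgHom R (CartDual.D R (A ⧸ Ideal.span ({1 - e} : Set A))) e' = 1)
    [IsLocalRing (CartDual.D R (A ⧸ Ideal.span ({1 - e} : Set A)) ⧸ Ideal.span ({1 - e'} : Set (CartDual.D R (A ⧸ Ideal.span ({1 - e} : Set A)))))]
    (J : Ideal A) [J.IsHopfIdeal R] [IsLocalRing (A ⧸ J)] [Module.Projective R (A ⧸ J)]
    [Coalgebra.IsCocomm R (A ⧸ J)] [Algebra.Etale R (CartDual.D R (A ⧸ J))]
    (a : A) (ha : ∀ x : CartDual.D R (A ⧸ Ideal.span ({1 - e} : Set A)), LinearMap.lTensor (CartDual.D R (A ⧸ Ideal.span ({1 - e} : Set A))) (LinearMap.mulLeft R e') (Coalgebra.comul (R := R) x) = x ⊗ₜ[R] e' → x (Ideal.Quotient.mk (Ideal.span ({1 - e} : Set A)) a) = 0) :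
    a ∈ J := by
  haveI : Module.Finite R (A ⧸ J) :=
    Module.Finite.of_surjective (Ideal.Quotient.mkₐ R J).toLinearMap Ideal.Quotient.mk_surjective
  haveI : Module.Finite R (A ⧸ Ideal.span ({1 - e} : Set A)) :=
    Module.Finite.of_surjective (Ideal.Quotient.mkₐ R _).toLinearMap Ideal.Quotient.mk_surjective
  have h1 : Ideal.Quotient.mk J e = 1 :=
    UnitComp.eq_one_of_apply (Bialgebra.counitAlgHom R (A ⧸ J)) (he.map _) hε
  let g : (A ⧸ Ideal.span ({1 - e} : Set A)) →ₐ[R] A ⧸ J :=
    Ideal.Quotient.liftₐ _ (Ideal.Quotient.mkₐ R J) fun x hx => by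
      obtain ⟨c, rfl⟩ := Ideal.mem_span_singleton'.1 hx
      show Ideal.Quotient.mk J (c * (1 - e)) = 0
      rw [map_mul, map_sub, map_one, h1, sub_self, mul_zero]
  have hgε : (Bialgebra.counitAlgHom R _).comp g = Bialgebra.counitAlgHom R _ := by
    refine AlgHom.ext fun y => ?_
    obtain ⟨y, rfl⟩ := Ideal.Quotient.mk_surjective y
    rfl
  have hgΔ : (Algebra.TensorProduct.map g g).comp (Bialgebra.comulAlgHom R _) =
      (Bialgebra.comulAlgHom R _).comp g := by
    refine AlgHom.ext fun y => ?_
    obtain ⟨y, rfl⟩ := Ideal.Quotient.mk_surjective y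
    show Algebra.TensorProduct.map g g (TensorProduct.map _ _ (Coalgebra.comul (R := R) y)) =
      TensorProduct.map _ _ (Coalgebra.comul (R := R) y)
    generalize Coalgebra.comul (R := R) y = t
    induction t using TensorProduct.induction_on with
    | zero => simp
    | add p q hp hq => simp only [map_add, hp, hq]
    | tmul p q => rfl
  let T := CartDual.transpose R (BialgHom.ofAlgHom g hgε hgΔ)
  have key : ∀ y : CartDual.D R (A ⧸ J), y (Ideal.Quotient.mk J a) = 0 := by
    intro y
    have hmem := (S15062.result R (CartDual.D R (A ⧸ Ideal.span ({1 - e} : Set A))) e' he' hε').1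
      (CartDual.D R (A ⧸ J)) T y
    exact ha (T y) ((UnitComp.invariant_iff he' (T y)).1 hmem)
  refine Ideal.Quotient.eq_zero_iff_mem.1 ((Module.forall_dual_apply_eq_zero_iff R _).1 fun φ => ?_)
  exact key (WithConv.toConv φ)

end Groth.Agent.S15896
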