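import Groth.Statements.S15902
import Groth.Agent.InjMod14.Kosz.LciNear
import Groth.Agent.FlatMor12.FlatFun.GenPtsStage

set_option autoImplicit false
universe u
open CategoryTheory AlgebraicGeometry Opposite
open KoszSh

namespace Groth.Agent.S15902

/-- Let X be a locally Noetherian scheme all of whose local rings are Cohen–Macaulay, i : Y → X a closed
immersion and c a natural number such that Y is a local complete intersection of codimension c in
the following sense: around every point of Y there is an affine open of X on which c sections
generate the ideal sheaf of Y, and for every point y of Y the ideal of Y in the local ring O_{X,y}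
(the kernel of O_{X,y} → O_{Y,y}) has height at least c. Then around every point of Y there is an
affine open U of X and sections f_1, …, f_c ∈ Γ(X, U) which generate the ideal of Y on U and form a
weakly regular sequence in Γ(X, U); consequently, on the open subscheme U, for every cosection s :
O_U^c → O_U sending the k-th standard basis section to f_k and every Koszul complex K(O_U^c, s) of
s, the homology sheaves of K(O_U^c, s) vanish in every degree q ≥ 1, so that K(O_U^c, s) is a finite
free resolution of the restriction of i_*O_Y to U. (The published statement takes Y a local complete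
intersection in a smooth variety X over a field, the ideal being generated near each closed point by
codim(Y, X) elements, and asserts the existence of such a neighbourhood with a free Koszul
resolution; the hypotheses here are what that gives at every point of Y over a Cohen–Macaulay base,
the existence of the Koszul complex is not asserted, and the resolution property is stated for every
Koszul complex of the local free pair.) -/
theorem result {X Y : Scheme.{u}}
    [IsLocallyNoetherian X] (hCM : ∀ x : X, LocCoh.IsCohenMacaulayLocalRing (X.presheaf.stalk x))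
    (i : Y ⟶ X) [IsClosedImmersion i] (c : ℕ)
    (hgen : ∀ y : Y, ∃ U : X.affineOpens, i.base y ∈ U.1 ∧ ∃ g : Fin c → Γ(X, U.1), i.ker.ideal U = Ideal.span (Set.range g))
    (hht : ∀ y : Y, (c : ℕ∞) ≤ (RingHom.ker (i.stalkMap y).hom).height) :
    ∀ y : Y, ∃ U : X.affineOpens, i.base y ∈ U.1 ∧ ∃ f : Fin c → Γ(X, U.1),
      i.ker.ideal U = Ideal.span (Set.range f) ∧ RingTheory.Sequence.IsWeaklyRegular Γ(X, U.1) (List.ofFn f) ∧
      ∀ (s : FlatMod.freeMod (↑U.1) c ⟶ Coh.structureModule (↑U.1)),
        (∀ k : Fin c, KoszSh.secForm s ⊤ ((Limits.Sigma.ι (fun _ : Fin c => Coh.structureModule (↑U.1)) k).app ⊤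
            (OmegaSh.strSect (↑U.1) ⊤ 1)) = U.1.topIso.inv (f k)) →
        ∀ (C : KoszSh.Cx (FlatMod.freeMod (↑U.1) c) s) (q : ℕ), 1 ≤ q → Limits.IsZero (C.K.homology q) := by
  intro y
  obtain ⟨U, hyU, g, hg⟩ := hgen y
  obtain ⟨V, hyV, f, hfid, hfreg⟩ := InjMod14.Kosz.exists_basicOpen_regular hCM i y (hht y) U hyU g hg
  refine ⟨V, hyV, f, hfid, hfreg, fun s hs C q hq => ?_⟩
  haveI : Coh.IsQCoh (FlatMod.freeMod (↑V.1) c) :=
    CAlgH3.LocFreeFactor.isQCoh_of_finLocFree (FlatMor12.FlatFun.isFinLocFree_freeMod _ _)
  haveI : IsAffine (↑V.1 : Scheme.{u}) := V.2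
  refine InjMod14.Kosz.isZero_homology_of_regular (n := c) (fun x => ?_) C q hq
  let T : (↑V.1 : Scheme.{u}).affineOpens := ⟨⊤, isAffineOpen_top _⟩
  let b := InjMod14.Kosz.sigmaBasis (L := fun _ : Fin c => Coh.structureModule (↑V.1 : Scheme.{u})) (V := T.1)
    (fun _ => AmpleLib.oneSec T.1) (fun _ => InjMod14.Kosz.isGen_oneSec T.1)
  refine ⟨T, trivial, b, ?_⟩
  have e : (fun k => KoszSh.secForm s T.1 (b k)) = fun k => V.1.topIso.inv (f k) := funext fun k => by
    refine Eq.trans ?_ (hs k)
    rw [InjMod14.Kosz.sigmaBasis_apply]
    rfl
  rw [e]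
  exact InjMod14.Kosz.isWeaklyRegular_map_bijective V.1.topIso.inv.hom
    (ConcreteCategory.bijective_of_isIso V.1.topIso.inv) f hfreg

end Groth.Agent.S15902
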