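import Groth.Statements.S15906
import Groth.Agent.DPLat.Conic
-- import your own Groth.Agent.* helpers here

set_option autoImplicit false
open Surf

open Groth.Agent
namespace Groth.Agent.S15906

open W4c3severiratdp in
/-- Work in the lattice of vectors (a; b_1, …, b_δ), standing for divisor classes a ℓ − Σ b_i e_i on the
blow-up of the projective plane at δ points written in a standard basis, with intersection form a a'
− Σ b_i b_i' and canonical class K = (−3; −1, …, −1); a conic class is a class Q with Q·Q = 0 and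
K·Q = −2, an exceptional class (the class of a (−1)-curve) is a class E with E·E = −1 and K·E = −1,
and the Weyl group W_δ is the group of additive automorphisms of the lattice preserving the form and
fixing K. For δ = 8, a class (a; b_1, …, b_8) is a conic class if and only if, up to a permutation
of b_1, …, b_8, it is one of the fifteen vectors (1; 1, 0, 0, 0, 0, 0, 0, 0), (2; 1, 1, 1, 1, 0, 0,
0, 0), (3; 2, 1, 1, 1, 1, 1, 0, 0), (4; 2, 2, 2, 1, 1, 1, 1, 0), (4; 3, 1, 1, 1, 1, 1, 1, 1), (5; 2,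
2, 2, 2, 2, 2, 1, 0), (5; 3, 2, 2, 2, 1, 1, 1, 1), (6; 3, 3, 2, 2, 2, 2, 1, 1), (7; 3, 3, 3, 3, 2,
2, 2, 1), (7; 4, 3, 2, 2, 2, 2, 2, 2), (8; 4, 3, 3, 3, 3, 2, 2, 2), (8; 3, 3, 3, 3, 3, 3, 3, 1), (9;
4, 4, 3, 3, 3, 3, 3, 2), (10; 4, 4, 4, 4, 3, 3, 3, 3), (11; 4, 4, 4, 4, 4, 4, 4, 3). (One line of
the published table is illegible in the available copy; the fifteen vectors here are the complete
solution set of the two defining equations a² = Σ b_i², 3a − Σ b_i = 2.) -/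
theorem result (v : DP 8) :
    IsConic v ↔
      ∃ t ∈ ({![1, 1, 0, 0, 0, 0, 0, 0, 0],
        ![2, 1, 1, 1, 1, 0, 0, 0, 0],
        ![3, 2, 1, 1, 1, 1, 1, 0, 0],
        ![4, 2, 2, 2, 1, 1, 1, 1, 0],
        ![4, 3, 1, 1, 1, 1, 1, 1, 1],
        ![5, 2, 2, 2, 2, 2, 2, 1, 0],
        ![5, 3, 2, 2, 2, 1, 1, 1, 1],
        ![6, 3, 3, 2, 2, 2, 2, 1, 1],
        ![7, 3, 3, 3, 3, 2, 2, 2, 1],
        ![7, 4, 3, 2, 2, 2, 2, 2, 2],
        ![8, 4, 3, 3, 3, 3, 2, 2, 2],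
        ![8, 3, 3, 3, 3, 3, 3, 3, 1],
        ![9, 4, 4, 3, 3, 3, 3, 3, 2],
        ![10, 4, 4, 4, 4, 3, 3, 3, 3],
        ![11, 4, 4, 4, 4, 4, 4, 4, 3]} : Set (DP 8)),
        ∃ σ : Equiv.Perm (Fin 8), v 0 = t 0 ∧ ∀ i : Fin 8, v (σ i).succ = t i.succ := by
  classical
  have hset : ∀ t : W4c3severiratdp.DP 8, t ∈ ({![1, 1, 0, 0, 0, 0, 0, 0, 0],
        ![2, 1, 1, 1, 1, 0, 0, 0, 0], ![3, 2, 1, 1, 1, 1, 1, 0, 0], ![4, 2, 2, 2, 1, 1, 1, 1, 0],
        ![4, 3, 1, 1, 1, 1, 1, 1, 1], ![5, 2, 2, 2, 2, 2, 2, 1, 0], ![5, 3, 2, 2, 2, 1, 1, 1, 1],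
        ![6, 3, 3, 2, 2, 2, 2, 1, 1], ![7, 3, 3, 3, 3, 2, 2, 2, 1], ![7, 4, 3, 2, 2, 2, 2, 2, 2],
        ![8, 4, 3, 3, 3, 3, 2, 2, 2], ![8, 3, 3, 3, 3, 3, 3, 3, 1], ![9, 4, 4, 3, 3, 3, 3, 3, 2],
        ![10, 4, 4, 4, 4, 3, 3, 3, 3], ![11, 4, 4, 4, 4, 4, 4, 4, 3]} : Set (W4c3severiratdp.DP 8)) ↔ DPLat.vec t ∈ DPLat.conicTable := by
    intro t
    simp only [Set.mem_insert_iff, Set.mem_singleton_iff, DPLat.conicTable, List.mem_cons, List.not_mem_nil, or_false]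
    repeat' apply or_congr
    all_goals
      exact ⟨fun h => h ▸ by simp [DPLat.vec, List.ofFn_succ], fun h => DPLat.vec_injective (h.trans (by simp [DPLat.vec, List.ofFn_succ]))⟩
  constructor
  · intro hv
    obtain ⟨σ, -, hdesc⟩ := DPLat.exists_sorted 0 (fun i : Fin 8 => v i.succ)
    let w := DPLat.permEquiv σ v
    have hw : IsConic w := DPLat.isConic_map (DPLat.isWeyl_permEquiv σ) hv
    have h := List.all_eq_true.1 DPLat.table_complete (DPLat.vec w)
      (DPLat.vec_mem_classesD (by norm_num) hw.1 hw.2 (DPLat.bound_conic le_rfl hw) (fun i j hi hij => by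
        show DPLat.permEquiv σ v j.succ ≤ DPLat.permEquiv σ v i.succ
        rw [DPLat.permEquiv_succ, DPLat.permEquiv_succ]; exact hdesc i j hi hij))
    refine ⟨w, (hset w).2 (List.contains_iff_mem.1 h), σ, (DPLat.permEquiv_zero σ v).symm, fun i => (DPLat.permEquiv_succ σ v i).symm⟩
  · rintro ⟨t, ht, σ, h0, hs⟩
    have h := List.all_eq_true.1 DPLat.table_sound _ ((hset t).1 ht)
    simp only [Bool.and_eq_true, beq_iff_eq, DPLat.bil_vec] at h
    have hte : t = DPLat.permEquiv σ v := by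
      funext i
      cases i using Fin.cases with
      | zero => rw [DPLat.permEquiv_zero, h0]
      | succ i => rw [DPLat.permEquiv_succ, hs]
    have hg := DPLat.isWeyl_symm (DPLat.isWeyl_permEquiv σ)
    have := DPLat.isConic_map hg (show IsConic t from ⟨h.1.2, h.2⟩)
    rwa [hte, LinearEquiv.symm_apply_apply] at this

end Groth.Agent.S15906
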