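import Groth.Statements.S15907
import Groth.Agent.DPLat.Conic
-- import your own Groth.Agent.* helpers here

set_option autoImplicit false
open Surf

open Groth.Agent
namespace Groth.Agent.S15907

open W4c3severiratdp in
/-- Work in the lattice of vectors (a; b_1, …, b_δ), standing for divisor classes a ℓ − Σ b_i e_i on the
blow-up of the projective plane at δ points written in a standard basis, with intersection form a a'
− Σ b_i b_i' and canonical class K = (−3; −1, …, −1); a conic class is a class Q with Q·Q = 0 and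
K·Q = −2, an exceptional class (the class of a (−1)-curve) is a class E with E·E = −1 and K·E = −1,
and the Weyl group W_δ is the group of additive automorphisms of the lattice preserving the form and
fixing K. For 2 ≤ δ ≤ 8 the intersection product Q_1·Q_2 determines the W_δ-orbit of an ordered pair
(Q_1, Q_2) of conic classes, the only exception being δ = 8 with Q_1·Q_2 = 4: if (Q_1, Q_2) and
(Q_1', Q_2') are ordered pairs of conic classes with Q_1·Q_2 = Q_1'·Q_2', and not both δ = 8 and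
Q_1·Q_2 = 4, then some element of W_δ carries Q_1 to Q_1' and Q_2 to Q_2'. -/
theorem result (δ : ℕ) (h2 : 2 ≤ δ) (h8 : δ ≤ 8)
    (v₁ v₂ w₁ w₂ : DP δ) (hv₁ : IsConic v₁) (hv₂ : IsConic v₂) (hw₁ : IsConic w₁) (hw₂ : IsConic w₂)
    (heq : form v₁ v₂ = form w₁ w₂) (hexc : ¬ (δ = 8 ∧ form v₁ v₂ = 4)) :
    ∃ g : DP δ ≃ₗ[ℤ] DP δ, IsWeyl g ∧ g v₁ = w₁ ∧ g v₂ = w₂ := by
  obtain ⟨a, ha, hac⟩ := DPLat.exists_std h2 h8 hv₁
  obtain ⟨b, hb, hbc⟩ := DPLat.exists_std h2 h8 hw₁
  obtain ⟨a', ha', hafix, ha2⟩ := DPLat.exists_rel h2 h8 hac (DPLat.isConic_map ha hv₂)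
  obtain ⟨b', hb', hbfix, hb2⟩ := DPLat.exists_rel h2 h8 hbc (DPLat.isConic_map hb hw₂)
  rw [ha.1] at ha2
  rw [hb.1, ← heq] at hb2
  have e₁ : a' (a v₁) = b' (b w₁) := by rw [hafix, hbfix]; exact DPLat.vec_injective (hac.trans hbc.symm)
  have e₂ : a' (a v₂) = b' (b w₂) := by
    refine DPLat.vec_injective ?_
    rcases ha2 with h | ⟨h₁, h₂, -⟩
    · rcases hb2 with h' | ⟨h₁, h₂, -⟩
      · exact h.trans h'.symm
      · exact absurd ⟨h₁, h₂⟩ hexc
    · exact absurd ⟨h₁, h₂⟩ hexc
  refine ⟨(a.trans a').trans (b.trans b').symm, DPLat.isWeyl_trans (DPLat.isWeyl_trans ha ha') (DPLat.isWeyl_symm (DPLat.isWeyl_trans hb hb')), ?_, ?_⟩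
  · rw [LinearEquiv.trans_apply, LinearEquiv.symm_apply_eq]
    exact e₁
  · rw [LinearEquiv.trans_apply, LinearEquiv.symm_apply_eq]
    exact e₂

end Groth.Agent.S15907
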