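import Groth.Statements.S15908
import Groth.Agent.DPLat.Conic
-- import your own Groth.Agent.* helpers here

set_option autoImplicit false
open Surf

open Groth.Agent
namespace Groth.Agent.S15908

open W4c3severiratdp in
/-- Work in the lattice of vectors (a; b_1, …, b_δ), standing for divisor classes a ℓ − Σ b_i e_i on the
blow-up of the projective plane at δ points written in a standard basis, with intersection form a a'
− Σ b_i b_i' and canonical class K = (−3; −1, …, −1); a conic class is a class Q with Q·Q = 0 and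
K·Q = −2, an exceptional class (the class of a (−1)-curve) is a class E with E·E = −1 and K·E = −1,
and the Weyl group W_δ is the group of additive automorphisms of the lattice preserving the form and
fixing K. For δ = 8 the ordered pairs (Q_1, Q_2) of conic classes with Q_1·Q_2 = 4 form exactly two
W_8-orbits: there are two such pairs that no element of W_8 carries one to the other, and every such
pair is carried by an element of W_8 to one of these two. -/
theorem result :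
    ∃ p₁ p₂ q₁ q₂ : DP 8, IsConic p₁ ∧ IsConic p₂ ∧ IsConic q₁ ∧ IsConic q₂ ∧ form p₁ p₂ = 4 ∧ form q₁ q₂ = 4 ∧
      (¬ ∃ g : DP 8 ≃ₗ[ℤ] DP 8, IsWeyl g ∧ g p₁ = q₁ ∧ g p₂ = q₂) ∧
      ∀ v₁ v₂ : DP 8, IsConic v₁ → IsConic v₂ → form v₁ v₂ = 4 →
        ∃ g : DP 8 ≃ₗ[ℤ] DP 8, IsWeyl g ∧ ((g v₁ = p₁ ∧ g v₂ = p₂) ∨ (g v₁ = q₁ ∧ g v₂ = q₂)) := by
  obtain ⟨c, hc⟩ := DPLat.exists_vec_of_length (δ := 8) (r := DPLat.c0 8) (by decide)
  obtain ⟨p₂, hp₂⟩ := DPLat.exists_vec_of_length (δ := 8) (r := (DPLat.conicRep 4).take 9) (by decide)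
  obtain ⟨q₂, hq₂⟩ := DPLat.exists_vec_of_length (δ := 8) (r := DPLat.conicRep') (by decide)
  have hK : ∀ x : DP 8, IsConic x ↔ DPLat.bil (DPLat.vec x) (DPLat.vec x) = 0 ∧ DPLat.bil (DPLat.vec (canon 8)) (DPLat.vec x) = -2 := by
    intro x; rw [DPLat.bil_vec, DPLat.bil_vec]; exact Iff.rfl
  refine ⟨c, p₂, c, q₂, (hK c).2 ?_, (hK p₂).2 ?_, (hK c).2 ?_, (hK q₂).2 ?_, ?_, ?_, ?_, ?_⟩
  · rw [hc]; decide +kernel
  · rw [hp₂]; decide +kernel
  · rw [hc]; decide +kernel
  · rw [hq₂]; decide +kernel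
  · rw [← DPLat.bil_vec, hc, hp₂]; decide +kernel
  · rw [← DPLat.bil_vec, hc, hq₂]; decide +kernel
  · -- `c - q₂` is even, `c - p₂` is not
    rintro ⟨g, -, h₁, h₂⟩
    have hev : c - p₂ = (2 : ℤ) • (![-2, 0, -1, -1, -1, -1, -1, -1, 0] : DP 8) := by
      refine DPLat.vec_injective ?_
      have : DPLat.vec (c - p₂) = List.zipWith (· - ·) (DPLat.vec c) (DPLat.vec p₂) := by
        refine List.ext_getElem (by simp [DPLat.vec]) fun i _ _ => ?_
        simp only [DPLat.vec, List.getElem_zipWith, List.getElem_ofFn, Pi.sub_apply]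
      rw [this, hc, hp₂]
      decide +kernel
    have h3 : c - q₂ = (2 : ℤ) • g ![-2, 0, -1, -1, -1, -1, -1, -1, 0] := by
      rw [← map_smul, ← hev, map_sub, h₁, h₂]
    have hodd : DPLat.vec (c - q₂) = List.zipWith (· - ·) (DPLat.vec c) (DPLat.vec q₂) := by
      refine List.ext_getElem (by simp [DPLat.vec]) fun i _ _ => ?_
      simp only [DPLat.vec, List.getElem_zipWith, List.getElem_ofFn, Pi.sub_apply]
    rw [hc, hq₂, h3] at hodd
    have hall : ∀ b ∈ DPLat.vec ((2 : ℤ) • g (![-2, 0, -1, -1, -1, -1, -1, -1, 0] : DP 8)), (2 : ℤ) ∣ b := by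
      intro b hb
      obtain ⟨k, rfl⟩ := (List.mem_ofFn).1 hb
      exact ⟨g ![-2, 0, -1, -1, -1, -1, -1, -1, 0] k, rfl⟩
    rw [hodd] at hall
    exact absurd hall (by decide +kernel)
  · intro v₁ v₂ hv₁ hv₂ h4
    obtain ⟨a, ha, hac⟩ := DPLat.exists_std (by norm_num) le_rfl hv₁
    obtain ⟨a', ha', hfix, h⟩ := DPLat.exists_rel (by norm_num) le_rfl hc (DPLat.isConic_map ha hv₂)
    have e : a v₁ = c := DPLat.vec_injective (hac.trans hc.symm)
    rw [← e, ha.1, h4] at h
    refine ⟨a.trans a', DPLat.isWeyl_trans ha ha', ?_⟩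
    have e₁ : a' (a v₁) = c := by rw [e]; exact hfix
    rcases h with h | ⟨-, -, h⟩
    · exact Or.inl ⟨e₁, DPLat.vec_injective (h.trans hp₂.symm)⟩
    · exact Or.inr ⟨e₁, DPLat.vec_injective (h.trans hq₂.symm)⟩

end Groth.Agent.S15908
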