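import Groth.Statements.S15909
import Groth.Agent.DPLat.Exc
-- import your own Groth.Agent.* helpers here

set_option autoImplicit false
open Surf

open Groth.Agent
namespace Groth.Agent.S15909

open W4c3severiratdp in
/-- Work in the lattice of vectors (a; b_1, …, b_δ), standing for divisor classes a ℓ − Σ b_i e_i on the
blow-up of the projective plane at δ points written in a standard basis, with intersection form a a'
− Σ b_i b_i' and canonical class K = (−3; −1, …, −1); a conic class is a class Q with Q·Q = 0 and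
K·Q = −2, an exceptional class (the class of a (−1)-curve) is a class E with E·E = −1 and K·E = −1,
and the Weyl group W_δ is the group of additive automorphisms of the lattice preserving the form and
fixing K. Let δ = 8 (a del Pezzo surface of degree one) and let L be an exceptional class. If L_1
and L_2 are exceptional classes with L_1·L = L_2·L, then L_1 and L_2 lie in the same orbit of the
stabilizer of L in W_8. -/
theorem result (L L₁ L₂ : DP 8) (hL : IsExc L) (hL₁ : IsExc L₁)
    (hL₂ : IsExc L₂) (h : form L₁ L = form L₂ L) :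
    ∃ g : DP 8 ≃ₗ[ℤ] DP 8, IsWeyl g ∧ g L = L ∧ g L₁ = L₂ := by
  obtain ⟨g₀, hg₀, h₀⟩ := DPLat.exists_exc_std hL
  obtain ⟨a, ha, fa, p, hp, hpk, hpv⟩ := DPLat.exists_exc_rel h₀ (DPLat.isExc_map hg₀ hL₁)
  obtain ⟨b, hb, fb, q, hq, hqk, hqv⟩ := DPLat.exists_exc_rel h₀ (DPLat.isExc_map hg₀ hL₂)
  have hk : p.1 = q.1 := by rw [hpk, hqk, hg₀.1, hg₀.1, DPLat.form_comm, h, DPLat.form_comm]
  have he := List.all_eq_true.1 (List.all_eq_true.1 DPLat.excReps_functional p hp) q hq
  simp only [hk, bne_self_eq_false, Bool.false_or, beq_iff_eq] at he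
  have hab : a (g₀ L₁) = b (g₀ L₂) := DPLat.vec_injective (by rw [hpv, hqv, he])
  refine ⟨((g₀.trans a).trans b.symm).trans g₀.symm, ?_, ?_, ?_⟩
  · exact DPLat.isWeyl_trans (DPLat.isWeyl_trans (DPLat.isWeyl_trans hg₀ ha) (DPLat.isWeyl_symm hb))
      (DPLat.isWeyl_symm hg₀)
  · simp only [LinearEquiv.trans_apply, fa]
    rw [LinearEquiv.symm_apply_eq, LinearEquiv.symm_apply_eq, fb]
  · simp only [LinearEquiv.trans_apply, hab, LinearEquiv.symm_apply_apply]

end Groth.Agent.S15909
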