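import Groth.Statements.S1591
import Groth.Agent.Clifford24.Nodal.Crit

set_option autoImplicit false
universe u
open CategoryTheory CategoryTheory.Limits AlgebraicGeometry
open Curves

namespace Groth.Agent.S1591

/-- Let f : X → S be flat and locally of finite presentation. There is a largest open subscheme U of X
on which f is at-worst-nodal of relative dimension one, and its formation commutes with base change:
for every g : S' → S the preimage of U in X ×_S S' is the largest open on which the base change of f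
is at-worst-nodal of relative dimension one. -/
theorem result {X S : Scheme.{u}} (f : X ⟶ S) [Flat f] [LocallyOfFinitePresentation f] :
    ∃ U : X.Opens, (Curv2.IsNodalFamily (U.ι ≫ f) ∧ ∀ V : X.Opens, Curv2.IsNodalFamily (V.ι ≫ f) → V ≤ U) ∧
      ∀ (S' : Scheme.{u}) (g : S' ⟶ S),
        Curv2.IsNodalFamily ((pullback.fst f g ⁻¹ᵁ U).ι ≫ pullback.snd f g) ∧
        ∀ V : (pullback f g).Opens, Curv2.IsNodalFamily (V.ι ≫ pullback.snd f g) → V ≤ pullback.fst f g ⁻¹ᵁ U := by
  let U : X.Opens := ⟨{x | Clifford24.Nodal.HasChart f x}, Clifford24.Nodal.isOpen_hasChart f⟩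
  refine ⟨U, ⟨(Clifford24.Nodal.isNodalFamily_iff _).2 ⟨inferInstance, inferInstance, fun u => ?_⟩,
    fun V hV x hx => ?_⟩, fun S' g => ⟨(Clifford24.Nodal.isNodalFamily_iff _).2
      ⟨inferInstance, inferInstance, fun u => ?_⟩, fun V hV x hx => ?_⟩⟩
  · exact Clifford24.Nodal.HasChart.precomp U.ι (show Clifford24.Nodal.HasChart f (U.ι u) from u.2)
  · exact Clifford24.Nodal.HasChart.image (y := ⟨x, hx⟩) V.ι (((Clifford24.Nodal.isNodalFamily_iff _).1 hV).2.2 _)
  · exact Clifford24.Nodal.HasChart.precomp _ (Clifford24.Nodal.HasChart.baseChange g _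
      (show Clifford24.Nodal.HasChart f (pullback.fst f g ((pullback.fst f g ⁻¹ᵁ U).ι u)) from u.2))
  · exact Clifford24.Nodal.hasChart_of_baseChange f g x
      (Clifford24.Nodal.HasChart.image (y := ⟨x, hx⟩) V.ι (((Clifford24.Nodal.isNodalFamily_iff _).1 hV).2.2 _))

end Groth.Agent.S1591
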