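import Groth.Statements.S16293
import Groth.Agent.S16291
import Groth.Agent.S1656
import Groth.Agent.DualMod3.Vanish
import Groth.Agent.LocCoh.Gorenstein
import Groth.Agent.CurveRR24.AlgClosed
import Groth.Agent.CurveRR24.Ample
import Groth.Agent.CurveRR24.Sky
import Groth.Agent.CurveRR24.DegOneApps
import Groth.Agent.NormSeq24.H0Count
import Groth.Agent.Surf15.Connected
import Groth.Agent.Props12.KerReduced
import Groth.Agent.CommAlg4.SupportZero
-- import your own Groth.Agent.* helpers here

set_option autoImplicit false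
universe u
open CategoryTheory CategoryTheory.Limits AlgebraicGeometry
attribute [local instance] HasDerivedCategory.standard
open Curves

set_option backward.isDefEq.respectTransparency false
set_option backward.defeqAttrib.useBackward true
set_option linter.style.haveILetI false
set_option maxHeartbeats 1000000
open Groth.Agent.Coherent Groth.Agent.EulerLib Groth.Agent.CurveRR24

namespace Groth.Agent.S16293

/-- A finite set of closed points, reduced, has as many functions as points. -/
theorem h0_quotMod_points (k : Type u) [Field k] [IsAlgClosed k] (X : Scheme.{u}) [X.Over (Spec (CommRingCat.of k))]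
    [IsProper (X ↘ Spec (CommRingCat.of k))] (D : Set X) (hfin : D.Finite) (hcl : IsClosed D)
    (hpts : ∀ x ∈ D, IsClosed ({x} : Set X)) :
    Module.finrank k (Coh.HH X (ClSub.quotMod (Scheme.IdealSheafData.vanishingIdeal (⟨D, hcl⟩ : TopologicalSpace.Closeds X))) 0) =
      Nat.card D := by
  let J := Scheme.IdealSheafData.vanishingIdeal (⟨D, hcl⟩ : TopologicalSpace.Closeds X)
  haveI : AlgebraicGeometry.IsReduced J.subscheme := Props12.isReduced_subscheme_vanishingIdeal _
  letI : J.subscheme.Over (Spec (CommRingCat.of k)) := ⟨J.subschemeι ≫ (X ↘ Spec (CommRingCat.of k))⟩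
  haveI : IsProper (J.subscheme ↘ Spec (CommRingCat.of k)) :=
    inferInstanceAs (IsProper (J.subschemeι ≫ (X ↘ Spec (CommRingCat.of k))))
  have hr : Set.range J.subschemeι = D := by
    rw [J.range_subschemeι, Scheme.IdealSheafData.coe_support_vanishingIdeal]
    rfl
  rw [Surf15.finrank_h0_quotMod k J rfl, NormSeq24.finrank_h0_eq_card_components]
  have hinj : Function.Injective J.subschemeι := J.subschemeι.isEmbedding.injective
  haveI : T1Space J.subscheme := ⟨fun y => by
    have := (hpts _ (hr ▸ Set.mem_range_self y : J.subschemeι y ∈ D)).preimage J.subschemeι.continuous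
    rwa [show J.subschemeι ⁻¹' {J.subschemeι y} = {y} from Set.ext fun z => hinj.eq_iff] at this⟩
  haveI : Finite J.subscheme := Set.finite_univ_iff.1 (Set.Finite.of_finite_image
    (by rw [Set.image_univ, hr]; exact hfin) hinj.injOn)
  haveI : DiscreteTopology J.subscheme := inferInstance
  rw [← Nat.card_congr (Equiv.ofBijective (ConnectedComponents.mk (α := J.subscheme))
    ⟨fun a b hab => (ConnectedComponents.coe_eq_coe'.1 hab : a ∈ connectedComponent b) |> fun h => by
      rwa [connectedComponent_eq_singleton, Set.mem_singleton_iff] at h, ConnectedComponents.surjective_coe⟩)]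
  exact Nat.card_congr ((Equiv.ofInjective _ hinj).trans (Equiv.setCongr hr))

/-- Let k be an algebraically closed field and (X, D) a stable n-pointed curve over k, taken in the
form: X is proper and connected over k, of dimension 1, with at-worst-nodal singularities; D ⊆ X is
a finite closed set of n points each having an open neighbourhood smooth over k; ω_X is the
dualizing module of X (degree -1 cohomology sheaf of f^! O for the structure morphism f, for any
choice of the data Rf_* on D_QCoh with its right adjoint); L_D is an invertible module with L_D ⊗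
I_D ≅ O_X for the ideal sheaf I_D of D with its reduced structure; and ω_X(D) := ω_X ⊗ L_D is ample.
Let g = dim_k H^1(X, O_X). Then for every l ≥ 2, dim_k H^0(X, ω_X(D)^{⊗l}) = l(2g - 2 + n) + 1 - g;
in particular for l = 3 it is 5g - 5 + 3n. -/
theorem result (k : Type u) [Field k] [IsAlgClosed k] (X : Scheme.{u}) [X.Over (Spec (CommRingCat.of k))]
    [IsProper (X ↘ (Spec (CommRingCat.of k)))] [ConnectedSpace X] (hdim : topologicalKrullDim X = 1) (hX : Curv2.AtWorstNodal k X)
    [DCoh.HasRpush (X ↘ (Spec (CommRingCat.of k)))] (h : DCoh.RpushPreservesQCoh (X ↘ (Spec (CommRingCat.of k)))) [DCoh.HasShriek (X ↘ (Spec (CommRingCat.of k))) h]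
    (OY : DCoh.DQCoh (Spec (CommRingCat.of k))) (hOY : Nonempty (OY.obj ≅ DCoh.inD (Spec (CommRingCat.of k)) (Coh.structureModule (Spec (CommRingCat.of k)))))
    (D : Set X) (hDfin : D.Finite) (hDcl : IsClosed D) (hDsm : ∀ x ∈ D, ∃ U : X.Opens, x ∈ U ∧ Smooth (U.ι ≫ (X ↘ (Spec (CommRingCat.of k)))))
    (LD : X.Modules) (hLD : PicF.IsInvertible LD)
    (hinv : ClSub.IsInverseOf LD (ClSub.idealMod (Scheme.IdealSheafData.vanishingIdeal (⟨D, hDcl⟩ : TopologicalSpace.Closeds X))))
    (hst : CohB1.IsAmple (CohB1.tensorMod (DCoh.dualizingMod (X ↘ (Spec (CommRingCat.of k))) h OY 1) LD))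
    (l : ℕ) (hl : 2 ≤ l) :
    (Module.finrank k (Coh.HH X (CohB1.tensorPow (CohB1.tensorMod (DCoh.dualizingMod (X ↘ (Spec (CommRingCat.of k))) h OY 1) LD) l) 0) : ℤ) =
      (l : ℤ) * (2 * (Curv2.genus k X : ℤ) - 2 + (Nat.card D : ℤ)) + 1 - (Curv2.genus k X : ℤ) := by
  haveI := EulerLib.isNoetherian_of_proper k (X := X)
  haveI := isSeparated_of_proper (X := X) k
  haveI := NodeLib7.geometricallyReduced_of_atWorstNodal k X hX
  haveI : IsReduced X := GeometricallyReduced.geometrically_isReduced (f := X ↘ Spec (CommRingCat.of k))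
    (𝟙 _) (𝟙 X) (X ↘ Spec (CommRingCat.of k)) (IsPullback.of_horiz_isIso ⟨by simp⟩)
  have h0 : Module.finrank k (Coh.HH X (Coh.structureModule X) 0) = 1 := CurveRR24.h0_structure k
  have hCM : ∀ x : X, LocCoh.IsCohenMacaulayLocalRing (X.presheaf.stalk x) := fun x => by
    haveI := NodeLib7.gor_stalk_of_atWorstNodal k X hX x
    exact Groth.Agent.LocCoh.isCohenMacaulayLocalRing_of_gorenstein
  have hω := S1656.result k X hCM (fun Z hZ => DualMod3.components_dim_one hdim hZ) h OY hOY
  obtain ⟨t, hrep⟩ := DualMod3.exists_rep k X h OY hOY (d := 1) hdim.le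
  have h1 := DualMod3.subsingleton_h1_pow_of_ample X k t hrep hLD hinv hst (m := l) hl
  obtain ⟨hW, -⟩ := DualMod3.exists_mono_pow_one hLD hinv hst.1
  generalize DCoh.dualizingMod (X ↘ (Spec (CommRingCat.of k))) h OY 1 = W at hst h1 hW hω t hrep ⊢
  let I := Scheme.IdealSheafData.vanishingIdeal (⟨D, hDcl⟩ : TopologicalSpace.Closeds X)
  have hI : PicF.IsInvertible (ClSub.idealMod I) := H0Growth23.isInvertible_of_isInverseOf hLD hinv
  obtain ⟨e⟩ := hinv
  have hq : Coh.IsCoh (ClSub.quotMod I) := CurveRR24.isCoh_quotMod I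
  have hsupp : CohB1.support (ClSub.quotMod I) ⊆ D := by
    refine (CurveRR24.support_quotMod_subset I).trans ?_
    rw [show (I.support : Set X) = D from by rw [Scheme.IdealSheafData.coe_support_vanishingIdeal]; rfl]
  have hpts : ∀ x ∈ D, IsClosed ({x} : Set X) := by
    haveI : JacobsonSpace X := LocallyOfFiniteType.jacobsonSpace (X ↘ Spec (CommRingCat.of k))
    have hc : IsClosed (D ∩ closedPoints X) := by
      rw [← Set.biUnion_of_singleton (D ∩ closedPoints X)]
      exact (hDfin.inter_of_left _).isClosed_biUnion fun y hy => hy.2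
    intro x hx
    have hsub : D ⊆ D ∩ closedPoints X :=
      (closure_inter_closedPoints hDcl).ge.trans hc.closure_eq.le
    exact (hsub hx).2
  have hq1 : Subsingleton (Coh.HH X (ClSub.quotMod I) 1) :=
    subsingleton_HH_of_support ⟨D, hDcl⟩ _ hq.1 hsupp 1
      (lt_of_le_of_lt (VarietyLib.dim_le_zero_of_closed_points hDcl hpts) (by exact_mod_cast zero_lt_one))
  have hdegI : Curv2.deg k X (ClSub.idealMod I) 1 = -(Nat.card D : ℤ) := by
    have hadd := euler_additive k X _ (CurveRR24.shortExact_ideal I) (CurveRR24.isCoh_idealMod' I)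
      (isCoh_structureModule X) hq
    have hqe := euler_eq_h0_sub_h1 k hdim.le _ hq.1
    rw [@Module.finrank_zero_of_subsingleton k (Coh.HH X (ClSub.quotMod I) 1) _ _ _ _ hq1,
      h0_quotMod_points k X D hDfin hDcl hpts] at hqe
    change Curv2.euler k X (Coh.structureModule X) = Curv2.euler k X (ClSub.idealMod I) + Curv2.euler k X (ClSub.quotMod I) at hadd
    simp only [Curv2.deg, Nat.cast_one, one_mul]
    omega
  have hdegLD : Curv2.deg k X LD 1 = (Nat.card D : ℤ) := by
    have := CurveRR24.deg_inverse k hdim.le hLD hI e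
    omega
  have hdegM : Curv2.deg k X (CohB1.tensorMod W LD) 1 =
      2 * (Curv2.genus k X : ℤ) - 2 + (Nat.card D : ℤ) := by
    rw [deg_tensor k hdim.le hW hLD, hdegLD]
    have hs := euler_structure k (X := X) hdim.le
    rw [h0] at hs
    simp only [Curv2.deg, Nat.cast_one, one_mul]
    push_cast at hs
    omega
  have hMl : Coh.IsQCoh (CohB1.tensorPow (CohB1.tensorMod W LD) l) :=
    AmpleLib.isQCoh_of_isInvertible (AmpleLib.isInvertible_tensorPow hst.1 l)
  have hs := euler_structure k (X := X) hdim.le
  rw [h0] at hs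
  have hdeg : ∀ n : ℕ, Curv2.deg k X (CohB1.tensorPow (CohB1.tensorMod W LD) n) 1 =
      n * Curv2.deg k X (CohB1.tensorMod W LD) 1 := fun n => by
    induction n with
    | zero =>
      show Curv2.deg k X (Coh.structureModule X) 1 = _
      rw [deg_structure]; simp
    | succ n ih =>
      show Curv2.deg k X (CohB1.tensorMod (CohB1.tensorPow (CohB1.tensorMod W LD) n) (CohB1.tensorMod W LD)) 1 = _
      rw [deg_tensor k hdim.le (AmpleLib.isInvertible_tensorPow hst.1 n) hst.1, ih]
      push_cast; ring
  replace hdeg := hdeg l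
  simp only [Curv2.deg, Nat.cast_one, one_mul] at hdeg hdegM
  rw [euler_eq_h0_sub_h1 k hdim.le _ hMl, @Module.finrank_zero_of_subsingleton k _ _ _ _ _ h1, hdegM] at hdeg
  push_cast at hs hdeg
  linarith

end Groth.Agent.S16293
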