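import Groth.Statements.S15917
import Groth.Agent.TFPush7.TreeGrow

set_option linter.style.haveILetI false
set_option backward.isDefEq.respectTransparency false
set_option backward.isDefEq.respectTransparency.types false
set_option maxHeartbeats 1000000

set_option autoImplicit false
universe u
open CategoryTheory CategoryTheory.Limits AlgebraicGeometry TopologicalSpace
open Curves

namespace Groth.Agent.S15917

/-- Let k be an algebraically closed field of characteristic zero and C a rational tree over k: a
connected, reduced scheme, proper over k of dimension one, with at-worst-nodal singularities and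
H¹(C, O_C) = 0 (equivalently, all components are smooth rational curves and the dual graph is a
tree). Let F be a finite locally free O_C-module and R ⊆ C a closed subscheme that is reduced and
connected and whose support is a union of irreducible components of C. If for every irreducible
component Z of C not contained in R (taken with its reduced structure, i.e. every integral closed
one-dimensional subscheme Z whose support is not inside R) the restriction F|_Z is generated by
global sections, then h¹(C, F) = h¹(R, F|_R). -/
theorem result (k : Type u) [Field k] [IsAlgClosed k] [CharZero k]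
    (C : Scheme.{u}) [C.Over (Spec (CommRingCat.of k))] [IsProper (C ↘ (Spec (CommRingCat.of k)))] [IsReduced C] [ConnectedSpace C]
    (hdim : topologicalKrullDim C = 1) (hnodal : Curv2.AtWorstNodal k C)
    (hg : Subsingleton (Coh.HH C (Coh.structureModule C) 1))
    (F : C.Modules) (hF : FlatMod.IsFinLocFree F)
    (R : C.IdealSheafData) [IsReduced R.subscheme] [ConnectedSpace R.subscheme]
    (hRunion : ∀ x ∈ (R.support : Set C), ∃ Z : C.IdealSheafData, IsIntegral Z.subscheme ∧
      topologicalKrullDim (Z.support : Set C) = 1 ∧ (Z.support : Set C) ⊆ R.support ∧ x ∈ (Z.support : Set C))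
    (hgg : ∀ Z : C.IdealSheafData, IsIntegral Z.subscheme → topologicalKrullDim (Z.support : Set C) = 1 →
      ¬ ((Z.support : Set C) ⊆ R.support) → Curv2.IsGloballyGenerated ((Scheme.Modules.pullback Z.subschemeι).obj F)) :
    letI : R.subscheme.Over (Spec (CommRingCat.of k)) := ⟨R.subschemeι ≫ (C ↘ (Spec (CommRingCat.of k)))⟩
    Module.finrank k (Coh.HH C F 1) =
      Module.finrank k (Coh.HH R.subscheme ((Scheme.Modules.pullback R.subschemeι).obj F) 1) := by
  haveI := Groth.Agent.EulerLib.isNoetherian_of_proper k (X := C)
  obtain ⟨T, rfl⟩ : ∃ T, R = Scheme.IdealSheafData.vanishingIdeal T :=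
    ⟨_, Groth.Agent.DualMod3.eq_vanishingIdeal R⟩
  simp only [Scheme.IdealSheafData.coe_support_vanishingIdeal] at hRunion hgg
  have hgC : Curv2.genus k C = 0 := Module.finrank_zero_of_subsingleton
  have hT : _root_.IsConnected (T : Set C) := by
    rw [← Groth.Agent.Subcurves24.range_red T]
    exact isConnected_range (Scheme.IdealSheafData.vanishingIdeal T).subschemeι.continuous
  obtain ⟨x, hx⟩ := hT.nonempty
  obtain ⟨Z, -, hZd, hZT, -⟩ := hRunion x hx
  refine Groth.Agent.TFPush7.TreeGrow.finrank_h1_eq k hdim hgC hF
    (Groth.Agent.Coherent.CohBC.isCoh_of_isFinLocFree hF) T hT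
    (le_antisymm (Topology.IsInducing.subtypeVal.topologicalKrullDim_le.trans hdim.le)
      (hZd.ge.trans (Groth.Agent.EulerLib.dim_mono hZT)))
    fun D hD hDT => hgg (Scheme.IdealSheafData.vanishingIdeal D)
      (Groth.Agent.VarietyLib.isIntegral_vanishingIdeal D hD.1) ?_ (by
        rwa [Scheme.IdealSheafData.coe_support_vanishingIdeal])
  rw [Scheme.IdealSheafData.coe_support_vanishingIdeal]
  exact Groth.Agent.DualMod3.components_dim_one hdim hD

end Groth.Agent.S15917
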