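import Groth.Statements.S15918
import Groth.Agent.TFPush7.TreeSeq

set_option linter.style.haveILetI false
set_option backward.isDefEq.respectTransparency false
set_option backward.isDefEq.respectTransparency.types false
set_option maxHeartbeats 1000000

set_option autoImplicit false
universe u
open CategoryTheory CategoryTheory.Limits AlgebraicGeometry TopologicalSpace
open Curves

namespace Groth.Agent.S15918

/-- Let k be an algebraically closed field of characteristic zero and C a rational tree over k: a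
connected, reduced scheme, proper over k of dimension one, with at-worst-nodal singularities and
H¹(C, O_C) = 0. Let F be a finite locally free O_C-module. Suppose C = C_1 ∪ C_2 with C_1, C_2
reduced closed subschemes whose supports are unions of irreducible components of C having no
irreducible component in common, and let P = C_1 ∩ C_2 be the finite set of nodes where they meet,
taken as a reduced closed subscheme of C_1 with ideal I_P. If H¹(C_1, F|_{C_1} ⊗ I_P) = 0 then h¹(C,
F) = h¹(C_2, F|_{C_2}). -/
theorem result (k : Type u) [Field k] [IsAlgClosed k] [CharZero k]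
    (C : Scheme.{u}) [C.Over (Spec (CommRingCat.of k))] [IsProper (C ↘ (Spec (CommRingCat.of k)))] [IsReduced C] [ConnectedSpace C]
    (hdim : topologicalKrullDim C = 1) (hnodal : Curv2.AtWorstNodal k C)
    (hg : Subsingleton (Coh.HH C (Coh.structureModule C) 1))
    (F : C.Modules) (hF : FlatMod.IsFinLocFree F)
    (C₁ C₂ : C.IdealSheafData) [IsReduced C₁.subscheme] [IsReduced C₂.subscheme]
    (hunion₁ : ∀ x ∈ (C₁.support : Set C), ∃ Z : C.IdealSheafData, IsIntegral Z.subscheme ∧
      topologicalKrullDim (Z.support : Set C) = 1 ∧ (Z.support : Set C) ⊆ C₁.support ∧ x ∈ (Z.support : Set C))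
    (hunion₂ : ∀ x ∈ (C₂.support : Set C), ∃ Z : C.IdealSheafData, IsIntegral Z.subscheme ∧
      topologicalKrullDim (Z.support : Set C) = 1 ∧ (Z.support : Set C) ⊆ C₂.support ∧ x ∈ (Z.support : Set C))
    (hcover : (C₁.support : Set C) ∪ C₂.support = Set.univ)
    (hnocommon : ∀ Z : C.IdealSheafData, IsIntegral Z.subscheme → topologicalKrullDim (Z.support : Set C) = 1 →
      ¬ ((Z.support : Set C) ⊆ C₁.support ∧ (Z.support : Set C) ⊆ C₂.support))
    (P : C₁.subscheme.IdealSheafData) [IsReduced P.subscheme]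
    (hP : ∀ x : C₁.subscheme, x ∈ (P.support : Set C₁.subscheme) ↔ C₁.subschemeι x ∈ (C₂.support : Set C))
    (hvan : Subsingleton (Coh.HH C₁.subscheme
        (CohB1.tensorMod ((Scheme.Modules.pullback C₁.subschemeι).obj F) (ClSub.idealMod P)) 1)) :
    letI : C₂.subscheme.Over (Spec (CommRingCat.of k)) := ⟨C₂.subschemeι ≫ (C ↘ (Spec (CommRingCat.of k)))⟩
    Module.finrank k (Coh.HH C F 1) =
      Module.finrank k (Coh.HH C₂.subscheme ((Scheme.Modules.pullback C₂.subschemeι).obj F) 1) := by
  haveI := Groth.Agent.EulerLib.isNoetherian_of_proper k (X := C)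
  obtain ⟨T₁, rfl⟩ : ∃ T, C₁ = Scheme.IdealSheafData.vanishingIdeal T :=
    ⟨_, Groth.Agent.DualMod3.eq_vanishingIdeal C₁⟩
  obtain ⟨T₂, rfl⟩ : ∃ T, C₂ = Scheme.IdealSheafData.vanishingIdeal T :=
    ⟨_, Groth.Agent.DualMod3.eq_vanishingIdeal C₂⟩
  simp only [Scheme.IdealSheafData.coe_support_vanishingIdeal] at hunion₁ hunion₂ hcover hnocommon hP
  have key : ∀ (T T' : TopologicalSpace.Closeds C),
      (∀ x ∈ (T : Set C), ∃ Z : C.IdealSheafData, IsIntegral Z.subscheme ∧
        topologicalKrullDim (Z.support : Set C) = 1 ∧ (Z.support : Set C) ⊆ T ∧ x ∈ (Z.support : Set C)) →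
      (∀ Z : C.IdealSheafData, IsIntegral Z.subscheme → topologicalKrullDim (Z.support : Set C) = 1 →
        (Z.support : Set C) ⊆ T → ¬ (Z.support : Set C) ⊆ T') →
      (T : Set C) ⊆ closure ((T : Set C) ∩ (T' : Set C)ᶜ) := fun T T' hu hn x hx => by
    obtain ⟨Z, hZi, hZd, hZT, hxZ⟩ := hu x hx
    obtain ⟨η, hη⟩ : ∃ η, IsGenericPoint η (Z.support : Set C) := by
      refine QuasiSober.sober ?_ Z.support.isClosed
      rw [← Scheme.IdealSheafData.range_subschemeι, ← Set.image_univ]
      exact (IrreducibleSpace.isIrreducible_univ _).image _ Z.subschemeι.continuous.continuousOn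
    have hηT' : η ∉ (T' : Set C) := fun h => hn Z hZi hZd hZT
      (hη.def ▸ closure_minimal (Set.singleton_subset_iff.2 h) T'.isClosed)
    exact closure_mono (Set.singleton_subset_iff.2 (show η ∈ (T : Set C) ∩ (T' : Set C)ᶜ from ⟨hZT hη.mem, hηT'⟩))
      (hη.def.symm ▸ hxZ)
  exact Groth.Agent.TFPush7.TreeSeq.finrank_h1_eq k hdim hnodal hF
    (Groth.Agent.Coherent.CohBC.isCoh_of_isFinLocFree hF) T₁ T₂ hcover
    ((key T₁ T₂ hunion₁ fun Z a b c d => hnocommon Z a b ⟨c, d⟩).trans (closure_mono Set.inter_subset_right))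
    (key T₂ T₁ hunion₂ fun Z a b c d => hnocommon Z a b ⟨d, c⟩) P hP hvan

end Groth.Agent.S15918
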