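import Groth.Statements.S15921
import Groth.Agent.DualMod3.NodeBranch
import Groth.Agent.DualMod3.GorInv
import Groth.Agent.S16293
import Groth.Agent.Surf15.Connected
-- import your own Groth.Agent.* helpers here

set_option autoImplicit false
universe u
open CategoryTheory CategoryTheory.Limits AlgebraicGeometry
attribute [local instance] HasDerivedCategory.standard
open Curves

set_option backward.isDefEq.respectTransparency false
set_option linter.style.haveILetI false
set_option maxHeartbeats 1000000
open Groth.Agent

namespace Groth.Agent.S15921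

/-- Let k be an algebraically closed field and X a nodal curve over k (proper over k, of dimension one,
with H^0(X, O_X) = k and at-worst-nodal singularities), ω_X its dualizing module (the degree -1
cohomology sheaf of f^! O for f : X → Spec k, assuming Rf_* on D_QCoh and its right adjoint exist),
and Y ⊊ X a connected reduced closed subscheme of dimension one (a connected proper subcurve). Let
δ_Y be the number of points of Y lying in the closure of X ∖ Y. Then deg(ω_X|_Y) = -2χ(Y, O_Y) +
δ_Y, that is, 2g_Y - 2 + δ_Y where g_Y = 1 - χ(Y, O_Y). -/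
theorem result (k : Type u) [Field k] [IsAlgClosed k] (X : Scheme.{u}) [X.Over (Spec (CommRingCat.of k))] [IsProper (X ↘ (Spec (CommRingCat.of k)))] (hdim : topologicalKrullDim X = 1)
    (h0 : Module.finrank k (Coh.HH X (Coh.structureModule X) 0) = 1) (hX : Curv2.AtWorstNodal k X)
    [DCoh.HasRpush (X ↘ (Spec (CommRingCat.of k)))] (h : DCoh.RpushPreservesQCoh (X ↘ (Spec (CommRingCat.of k)))) [DCoh.HasShriek (X ↘ (Spec (CommRingCat.of k))) h]
    (OY : DCoh.DQCoh (Spec (CommRingCat.of k))) (hOY : Nonempty (OY.obj ≅ DCoh.inD (Spec (CommRingCat.of k)) (Coh.structureModule (Spec (CommRingCat.of k)))))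
    (J : X.IdealSheafData) [IsReduced J.subscheme] [ConnectedSpace J.subscheme]
    (hJ1 : topologicalKrullDim J.subscheme = 1) (hJne : J ≠ ⊥) :
    @Curv2.deg k _ J.subscheme ⟨J.subschemeι ≫ (X ↘ (Spec (CommRingCat.of k)))⟩ ((Scheme.Modules.pullback J.subschemeι).obj (DCoh.dualizingMod (X ↘ (Spec (CommRingCat.of k))) h OY 1)) 1 =
      -2 * @Curv2.euler k _ J.subscheme ⟨J.subschemeι ≫ (X ↘ (Spec (CommRingCat.of k)))⟩ (Coh.structureModule J.subscheme) +
        (Nat.card ((J.support : Set X) ∩ closure ((J.support : Set X)ᶜ) : Set X) : ℤ) := by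
  haveI := EulerLib.isNoetherian_of_proper k (X := X)
  haveI := NodeLib7.geometricallyReduced_of_atWorstNodal k X hX
  haveI : AlgebraicGeometry.IsReduced X := GeometricallyReduced.geometrically_isReduced (f := X ↘ Spec (CommRingCat.of k))
    (𝟙 _) (𝟙 X) (X ↘ Spec (CommRingCat.of k)) (IsPullback.of_horiz_isIso ⟨by simp⟩)
  haveI : ConnectedSpace X := LefPen24.connectedSpace_of_finrank k h0
  have hequi : ∀ Z ∈ irreducibleComponents (X : Type u), topologicalKrullDim Z = 1 :=
    fun Z hZ => DualMod3.components_dim_one hdim hZ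
  have hW := DualMod3.isInvertible_dualizingMod k X hequi (NodeLib7.gor_stalk_of_atWorstNodal k X hX) h OY hOY
  obtain ⟨⟨t, hrep⟩, hWe⟩ := DualMod3.dualizing_data k hdim h OY hOY
  generalize DCoh.dualizingMod (X ↘ (Spec (CommRingCat.of k))) h OY 1 = W at *
  rw [DualMod3.deg_adjunction k hdim.le hW t hrep hWe J hJ1]
  congr 1
  have hr : Set.range J.subschemeι = (J.support : Set X) := J.range_subschemeι
  have hT1 : topologicalKrullDim (J.support : Set X) = 1 := by
    rw [← hJ1, ← hr]
    exact (J.subschemeι.isEmbedding.toHomeomorph.isHomeomorph.topologicalKrullDim_eq _).symm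
  have hdense := DualMod3.subset_closure_interior hdim.le J.support (hr ▸ isPreconnected_range J.subschemeι.continuous) hT1
  have hsum := DualMod3.sup_vanishing_eq k hdim hequi hX J.support hdense
  have hJe := DualMod3.eq_vanishingIdeal J
  unfold DualMod3.delta
  rw [show J ⊔ Scheme.IdealSheafData.vanishingIdeal (⟨closure ((J.support : Set X)ᶜ), isClosed_closure⟩ : TopologicalSpace.Closeds X) =
    Subcurves24.red J.support ⊔ Subcurves24.red (DualMod3.compl (J.support : Set X)) from congrArg (· ⊔ _) hJe, hsum]
  have hpts : ∀ y ∈ (J.support : Set X) ∩ closure ((J.support : Set X)ᶜ), IsClosed ({y} : Set X) := fun y hy =>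
    TF7.isClosed_singleton_of_notGeneric hdim.le fun hg =>
      DualMod3.genericPoint_not_mem_compl J.support (C := ⟨closure {y}, isClosed_closure⟩) hg (η := y) rfl hy.1 hy.2
  have hfin : ((J.support : Set X) ∩ closure ((J.support : Set X)ᶜ)).Finite := by
    obtain ⟨S, hS, hScl, hSirr, hTeq⟩ := TopologicalSpace.NoetherianSpace.exists_finite_set_isClosed_irreducible
      (J.support.isClosed.inter (isClosed_closure (s := (J.support : Set X)ᶜ)))
    rw [hTeq]
    refine hS.sUnion fun C hC => ?_
    have hg := (hSirr C hC).isGenericPoint_genericPoint (hScl C hC)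
    rw [← hg.def, (hpts _ (hTeq ▸ ⟨C, hC, hg.mem⟩)).closure_eq]
    exact Set.finite_singleton _
  have hc := S16293.h0_quotMod_points k X _ hfin (J.support.isClosed.inter isClosed_closure) hpts
  exact_mod_cast hc


end Groth.Agent.S15921
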