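import Groth.Statements.S15922
import Groth.Agent.CurveRR24.AlgClosed
import Groth.Agent.Surf15.MultCurve
import Groth.Agent.SplitP1.Split
-- import your own Groth.Agent.* helpers here

set_option autoImplicit false
universe u
open CategoryTheory CategoryTheory.Limits AlgebraicGeometry
open Curves

set_option backward.isDefEq.respectTransparency.types false
namespace Groth.Agent.S15922

/-- Let k be an algebraically closed field, X a curve over k (proper over k, reduced, connected, every
irreducible component of dimension one) and P a closed point of X, with m_P the ideal sheaf of the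
reduced point P viewed as an O_X-module. Then m_P is a torsion-free sheaf of rank one and degree -1:
regular elements of each local ring O_{X,x} act injectively on the stalk of m_P at x, the stalk at
every generic point of an irreducible component has dimension one over the local ring there, and
χ(X, m_P) - χ(X, O_X) = -1. -/
theorem result (k : Type u) [Field k] [IsAlgClosed k] (X : Scheme.{u}) [X.Over (Spec (CommRingCat.of k))] [IsProper (X ↘ (Spec (CommRingCat.of k)))] [IsReduced X] [ConnectedSpace X]
    (hequi : ∀ Z ∈ irreducibleComponents (X : Type u), topologicalKrullDim Z = 1)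
    (P : X) (hP : IsClosed ({P} : Set X)) :
    TorSh.IsTorsionFree (ClSub.idealMod (Scheme.IdealSheafData.vanishingIdeal ⟨{P}, hP⟩)) ∧
    (∀ η : X, closure ({η} : Set X) ∈ irreducibleComponents (X : Type u) →
      Module.finrank (X.presheaf.stalk η) ((ClSub.idealMod (Scheme.IdealSheafData.vanishingIdeal ⟨{P}, hP⟩)).presheaf.stalk η) = 1) ∧
    Curv2.deg k X (ClSub.idealMod (Scheme.IdealSheafData.vanishingIdeal ⟨{P}, hP⟩)) 1 = -1 := by
  haveI := Groth.Agent.EulerLib.isNoetherian_of_proper (X := X) k
  let I := Groth.Agent.CurveRR24.ptIdeal P hP
  have hO : PicF.IsInvertible (Coh.structureModule X) := Groth.Agent.AmpleLib.isInvertible_structureModule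
  have hb : ∀ x : X, Nonempty (Module.Basis (Fin 1) (X.presheaf.stalk x) ((Coh.structureModule X).presheaf.stalk x)) :=
    fun x => Groth.Agent.SplitP1.nonempty_basis_stalk (Groth.Agent.PicLib.isFinLocFreeOfRank_one hO) x
  refine ⟨?_, fun η hη => ?_, ?_⟩
  · haveI : Mono (ClSub.idealModι I) := (Groth.Agent.CurveRR24.shortExact_ideal I).mono_f
    refine Groth.Agent.Surf15.isTorsionFree_of_mono (ClSub.idealModι I) fun x => ?_
    obtain ⟨b⟩ := hb x
    exact b.equivFun.injective.moduleIsTorsionFree _ b.equivFun.map_smul
  · have hne : η ≠ P := by
      intro h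
      subst h
      have hd := hequi _ hη
      rw [hP.closure_eq] at hd
      have h0 := topologicalKrullDim_zero_of_discreteTopology ({η} : Set X)
      rw [hd] at h0
      exact absurd h0 (by decide)
    have hS := (Groth.Agent.CurveRR24.shortExact_ideal I).map_of_exact (DerSch.stalkFunctor X η)
    haveI : Subsingleton ((ClSub.quotMod I).presheaf.stalk η) := by
      by_contra h
      exact hne (Groth.Agent.CurveRR24.support_ptQuot hP
        (show η ∈ CohB1.support (ClSub.quotMod I) from h))
    have hz : IsZero (((DerSch.stalkFunctor X η).obj (ClSub.quotMod I))) :=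
      ModuleCat.isZero_of_iff_subsingleton.2 this
    haveI : Epi ((DerSch.stalkFunctor X η).map (ClSub.idealModι I)) := hS.exact.epi_f (hz.eq_of_tgt _ _)
    haveI : Mono ((DerSch.stalkFunctor X η).map (ClSub.idealModι I)) := hS.mono_f
    let e := (@asIso _ _ _ _ ((DerSch.stalkFunctor X η).map (ClSub.idealModι I)) (isIso_of_mono_of_epi _)).toLinearEquiv
    obtain ⟨b⟩ := hb η
    exact e.finrank_eq.trans ((Module.finrank_eq_card_basis b).trans (Fintype.card_fin 1))
  · have h := Groth.Agent.CurveRR24.deg_ptIdeal k hP
    rw [Groth.Agent.CurveRR24.finrank_resField k hP] at h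
    exact h

end Groth.Agent.S15922
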