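import Groth.Statements.S15923
import Groth.Agent.CurveRR24.SmoothNhd
import Groth.Agent.VarCurve23.RegularCompletion
import Groth.Agent.DualLib.RelDualizingModule
-- import your own Groth.Agent.* helpers here

set_option autoImplicit false
universe u
open CategoryTheory CategoryTheory.Limits AlgebraicGeometry
open Curves

set_option backward.isDefEq.respectTransparency.types false
namespace Groth.Agent.S15923

/-- Let k be an algebraically closed field, X a curve over k (proper over k, reduced, connected, every
irreducible component of dimension one) and P a closed point of X, with m_P the ideal sheaf of the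
reduced point P as an O_X-module. Then m_P is invertible (locally on X isomorphic to the structure
sheaf) exactly when some open neighbourhood of P is smooth over k. -/
theorem result (k : Type u) [Field k] [IsAlgClosed k] (X : Scheme.{u}) [X.Over (Spec (CommRingCat.of k))] [IsProper (X ↘ (Spec (CommRingCat.of k)))] [IsReduced X] [ConnectedSpace X]
    (hequi : ∀ Z ∈ irreducibleComponents (X : Type u), topologicalKrullDim Z = 1)
    (P : X) (hP : IsClosed ({P} : Set X)) :
    PicF.IsInvertible (ClSub.idealMod (Scheme.IdealSheafData.vanishingIdeal ⟨{P}, hP⟩)) ↔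
      ∃ U : X.Opens, P ∈ U ∧ Smooth (U.ι ≫ (X ↘ (Spec (CommRingCat.of k)))) := by
  haveI := Groth.Agent.EulerLib.isNoetherian_of_proper (X := X) k
  haveI : JacobsonSpace X := LocallyOfFiniteType.jacobsonSpace (X ↘ (Spec (CommRingCat.of k)))
  have hX1 : topologicalKrullDim X ≤ 1 :=
    Groth.Agent.DualLib.RelMod.dim_le_of_components (r := 1) (n := 1) rfl hequi
  have hd : ringKrullDim (X.presheaf.stalk P) = 1 := by
    let Z := irreducibleComponent P
    obtain ⟨η, hη⟩ := QuasiSober.sober (isIrreducible_irreducibleComponent (x := P)) isClosed_irreducibleComponent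
    refine Groth.Agent.VarCurve23.ringKrullDim_stalk_eq_one hX1 (hη.specializes mem_irreducibleComponent) ?_
    intro h
    subst h
    have h1 := hequi _ (irreducibleComponent_mem_irreducibleComponents η)
    rw [← hη.def, hP.closure_eq] at h1
    have h0 := topologicalKrullDim_zero_of_discreteTopology ({η} : Set X)
    rw [h1] at h0
    exact absurd h0 (by decide)
  constructor
  · intro hI
    obtain ⟨U, hPU, g, hg⟩ := Groth.Agent.PicLib.exists_isGen hI P
    have hm := Groth.Agent.CurveRR24.span_germ_gen hP hPU hg
    refine Groth.Agent.CurveRR24.exists_smooth_nhd_of_regular _ hP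
      (IsRegularLocalRing.of_spanFinrank_maximalIdeal_le (X.presheaf.stalk P) ?_)
    rw [hd]
    erw [hm]
    exact_mod_cast (Submodule.spanFinrank_span_le_ncard_of_finite (Set.finite_singleton _)).trans
      (le_of_eq (Set.ncard_singleton _))
  · rintro ⟨U, hPU, hU⟩
    have hreg : IsRegularLocalRing ((U : Scheme.{u}).presheaf.stalk ⟨P, hPU⟩) :=
      Groth.Agent.VarietyLib.isRegularLocalRing_stalk_of_smooth k _ (U.ι ≫ (X ↘ (Spec (CommRingCat.of k)))) ⟨P, hPU⟩
    haveI := hreg
    exact Groth.Agent.CurveRR24.isInvertible_ptIdeal_of_regular k hP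
      (IsRegularLocalRing.of_ringEquiv (U.stalkIso ⟨P, hPU⟩).commRingCatIsoToRingEquiv) hd

end Groth.Agent.S15923
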