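import Groth.Statements.S15924
import Groth.Agent.TFPush7.SepNode
import Groth.Agent.InjMod14.Kosz.Divisor
import Groth.Agent.TwistLib.G.Map
-- import your own Groth.Agent.* helpers here

set_option autoImplicit false
set_option linter.style.haveILetI false
set_option backward.isDefEq.respectTransparency false
set_option backward.isDefEq.respectTransparency.types false
set_option maxHeartbeats 1000000
universe u
open CategoryTheory CategoryTheory.Limits AlgebraicGeometry
open Curves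

namespace Groth.Agent.S15924

/-- Let k be an algebraically closed field, X a curve over k (proper over k, reduced, connected, every
irreducible component of dimension one) and P a separating node of X, i.e. a closed point which is a
node and whose complement X ∖ {P} is not connected. Then the ideal sheaf m_P of the reduced point P,
as an O_X-module, is not simple: it admits an idempotent endomorphism other than 0 and the identity.
(The converse, simplicity of m_P when P is not a separating node, also holds but is not part of this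
statement.) -/
theorem result (k : Type u) [Field k] [IsAlgClosed k] (X : Scheme.{u}) [X.Over (Spec (CommRingCat.of k))] [IsProper (X ↘ (Spec (CommRingCat.of k)))] [IsReduced X] [ConnectedSpace X]
    (hequi : ∀ Z ∈ irreducibleComponents (X : Type u), topologicalKrullDim Z = 1)
    (P : X) (hP : IsClosed ({P} : Set X)) (hnode : Curv2.IsNode k X P) (hsep : ¬ IsPreconnected (({P} : Set X)ᶜ)) :
    ∃ e : ClSub.idealMod (Scheme.IdealSheafData.vanishingIdeal ⟨{P}, hP⟩) ⟶ ClSub.idealMod (Scheme.IdealSheafData.vanishingIdeal ⟨{P}, hP⟩),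
      e ≫ e = e ∧ e ≠ 0 ∧ e ≠ 𝟙 _ := by
  classical
  haveI := Groth.Agent.CurveRR24.isLocallyNoetherian_of_proper k (X := X)
  rw [_root_.IsPreconnected] at hsep
  push Not at hsep
  obtain ⟨u₀, v₀, hu₀, hv₀, hcov, hsu, hsv, hsuv⟩ := hsep
  let A' : Set X := u₀ \ {P}
  let B' : Set X := v₀ \ {P}
  have hA' : IsOpen A' := hu₀.sdiff hP
  have hB' : IsOpen B' := hv₀.sdiff hP
  have hAB : ∀ y, y ∈ A' → y ∉ B' := fun y ha hb =>
    (Set.eq_empty_iff_forall_notMem.1 hsuv) y ⟨ha.2, ha.1, hb.1⟩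
  have hABc : ∀ y, y ≠ P → y ∈ A' ∨ y ∈ B' := fun y hy =>
    (hcov (show y ∈ ({P} : Set X)ᶜ from hy)).imp (fun h => ⟨h, hy⟩) fun h => ⟨h, hy⟩
  have hcl : ∀ (S S' : Set X), IsOpen S → IsOpen S' → (∀ y, y ∈ S → y ∉ S') → (∀ y, y ≠ P → y ∈ S ∨ y ∈ S') →
      P ∉ S → S.Nonempty → S'.Nonempty → P ∈ closure S := fun S S' hS hS' hd hc hPS hne hne' => by
    by_contra h
    have hsub : closure S ⊆ S := fun y hy => by
      by_cases hyP : y = P
      · exact absurd (hyP ▸ hy) h
      · refine (hc y hyP).resolve_right fun hy' => ?_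
        obtain ⟨z, hz, hz'⟩ := mem_closure_iff.1 hy S' hS' hy'
        exact hd z hz' hz
    have hclopen : IsClopen S := ⟨closure_eq_iff_isClosed.1 (hsub.antisymm subset_closure), hS⟩
    rcases isClopen_iff.1 hclopen with h0 | h1
    · exact hne.ne_empty h0
    · exact hPS (h1 ▸ Set.mem_univ P)
  have hneA : A'.Nonempty := hsu.mono fun y hy => ⟨hy.2, hy.1⟩
  have hneB : B'.Nonempty := hsv.mono fun y hy => ⟨hy.2, hy.1⟩
  have hPA : P ∈ closure A' := hcl A' B' hA' hB' hAB hABc (fun h => h.2 rfl) hneA hneB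
  have hPB : P ∈ closure B' := hcl B' A' hB' hA' (fun y hb ha => hAB y ha hb) (fun y hy => (hABc y hy).symm)
    (fun h => h.2 rfl) hneB hneA
  let ZA : TopologicalSpace.Closeds X := ⟨B'ᶜ, hB'.isClosed_compl⟩
  let ZB : TopologicalSpace.Closeds X := ⟨A'ᶜ, hA'.isClosed_compl⟩
  let IA := Scheme.IdealSheafData.vanishingIdeal ZA
  let IB := Scheme.IdealSheafData.vanishingIdeal ZB
  let IP := Scheme.IdealSheafData.vanishingIdeal ⟨{P}, hP⟩
  have hleA : IA ≤ IP := Scheme.IdealSheafData.vanishingIdeal_antimono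
    (Set.singleton_subset_iff.2 (show P ∈ B'ᶜ from fun h => h.2 rfl))
  have hleB : IB ≤ IP := Scheme.IdealSheafData.vanishingIdeal_antimono
    (Set.singleton_subset_iff.2 (show P ∈ A'ᶜ from fun h => h.2 rfl))
  -- on affine opens the ideal of the node is the direct sum of the two ideals
  have hkey : ∀ U : X.affineOpens, IA.ideal U ⊔ IB.ideal U = IP.ideal U ∧ IA.ideal U ⊓ IB.ideal U = ⊥ ∧
      (P ∈ U.1 → IA.ideal U ≠ ⊥ ∧ IB.ideal U ≠ ⊥) := by
    intro U
    haveI : IsNoetherianRing Γ(X, U.1) := IsLocallyNoetherian.component_noetherian U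
    simp only [IA, IB, IP, Scheme.IdealSheafData.vanishingIdeal_ideal]
    let f := U.2.fromSpec
    have hr : ∀ q, f q ∈ U.1 := fun q => U.2.range_fromSpec.le ⟨q, rfl⟩
    have hinf : PrimeSpectrum.vanishingIdeal (f ⁻¹' (B'ᶜ)) ⊓ PrimeSpectrum.vanishingIdeal (f ⁻¹' (A'ᶜ)) = ⊥ := by
      refine eq_bot_iff.2 fun x hx => ?_
      rw [Ideal.mem_bot]
      refine IsNilpotent.eq_zero (nilradical_eq_sInf Γ(X, U.1) ▸ Submodule.mem_sInf.2 fun q hq => ?_ :
        x ∈ nilradical Γ(X, U.1))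
      by_cases h : f ⟨q, hq⟩ ∈ B'
      · exact (PrimeSpectrum.mem_vanishingIdeal _ _).1 hx.2 ⟨q, hq⟩ (fun hA => hAB _ hA h)
      · exact (PrimeSpectrum.mem_vanishingIdeal _ _).1 hx.1 ⟨q, hq⟩ h
    by_cases hPU : P ∈ U.1
    swap
    · refine ⟨?_, hinf, fun h => absurd h hPU⟩
      have hbot : f ⁻¹' ({P} : Set X) = ∅ := Set.eq_empty_of_forall_notMem fun q hq => hPU (hq ▸ hr q)
      show _ = PrimeSpectrum.vanishingIdeal (f ⁻¹' ({P} : Set X))
      rw [hbot, PrimeSpectrum.vanishingIdeal_empty]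
      by_contra h
      obtain ⟨m, hm, hle⟩ := Ideal.exists_le_maximal _ h
      have hmem : ∀ S : Set X, IsClosed S → PrimeSpectrum.vanishingIdeal (f ⁻¹' S) ≤ m → f ⟨m, hm.isPrime⟩ ∈ S :=
        fun S hS hle => by
          have : (⟨m, hm.isPrime⟩ : PrimeSpectrum _) ∈
              PrimeSpectrum.zeroLocus (PrimeSpectrum.vanishingIdeal (f ⁻¹' S) : Set Γ(X, U.1)) := hle
          rwa [PrimeSpectrum.zeroLocus_vanishingIdeal_eq_closure, (hS.preimage f.continuous).closure_eq] at this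
      have h1 := hmem _ hB'.isClosed_compl (le_sup_left.trans hle)
      have h2 := hmem _ hA'.isClosed_compl (le_sup_right.trans hle)
      exact (hABc _ fun h => hPU (h ▸ hr _)).elim h2 h1
    · let p := U.2.primeIdealOf ⟨P, hPU⟩
      have hfp : f p = P := U.2.fromSpec_primeIdealOf _
      have hpm : p.asIdeal.IsMaximal := U.2.primeIdealOf_isMaximal_of_isClosed ⟨P, hPU⟩ hP
      letI := TopCat.Presheaf.algebra_section_stalk X.presheaf (⟨P, hPU⟩ : U.1)
      haveI : IsLocalization.AtPrime (X.presheaf.stalk P) p.asIdeal := U.2.isLocalization_stalk ⟨P, hPU⟩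
      haveI := Groth.Agent.NodeLib7.isNoetherianRing_stalk k X P
      obtain ⟨-, -, a₁, a₂, a₃, a₄, a₅, hd⟩ := (Groth.Agent.NodeLib7.isNode_iff k X P).1 hnode
      obtain ⟨t, ht, htz⟩ := hd.reg
      obtain ⟨e⟩ := Groth.Agent.TFPush7.exists_cross k hnode
      have hn : ∀ S : Set X, P ∈ closure S → ∀ s ∉ p.asIdeal, ∃ q, s ∉ q.asIdeal ∧ f q ∈ S := fun S hS s hs => by
        have hPs : P ∈ X.basicOpen s := by
          by_contra h
          exact hs ((Groth.Agent.AssSch12.mem_primeAt_iff U.2 hPU s).2 h)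
        obtain ⟨y, hy, hyS⟩ := mem_closure_iff.1 hS _ (X.basicOpen s).isOpen hPs
        have hyU := X.basicOpen_le s hy
        exact ⟨U.2.primeIdealOf ⟨y, hyU⟩, fun h => (Groth.Agent.AssSch12.mem_primeAt_iff U.2 hyU s).1 h hy,
          by rw [show f (U.2.primeIdealOf ⟨y, hyU⟩) = y from U.2.fromSpec_primeIdealOf _]; exact hyS⟩
      have hu : f ⁻¹' (B'ᶜ) ∪ f ⁻¹' (A'ᶜ) = Set.univ := Set.eq_univ_of_forall fun q => by
        by_cases h : f q ∈ B'
        · exact Or.inr fun hA => hAB _ hA h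
        · exact Or.inl h
      have hi : f ⁻¹' (B'ᶜ) ∩ f ⁻¹' (A'ᶜ) = {p} := Set.ext fun q => by
        refine ⟨fun hq => U.2.fromSpec.isOpenEmbedding.injective ?_, fun hq => ?_⟩
        · show f q = f p
          rw [hfp]
          by_contra hne
          exact (hABc _ hne).elim hq.2 hq.1
        · rw [Set.mem_singleton_iff.1 hq]
          exact ⟨fun h => (show f p ∈ B' from h).2 hfp, fun h => (show f p ∈ A' from h).2 hfp⟩
      have hn1 : ∀ s ∉ p.asIdeal, ∃ q, s ∉ q.asIdeal ∧ q ∉ f ⁻¹' (B'ᶜ) := fun s hs =>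
        let ⟨q, h1, h2⟩ := hn B' hPB s hs
        ⟨q, h1, fun h => h h2⟩
      have hn2 : ∀ s ∉ p.asIdeal, ∃ q, s ∉ q.asIdeal ∧ q ∉ f ⁻¹' (A'ᶜ) := fun s hs =>
        let ⟨q, h1, h2⟩ := hn A' hPA s hs
        ⟨q, h1, fun h => h h2⟩
      have hsum := Groth.Agent.TFPush7.vanishingIdeal_sup_eq p hpm (X.presheaf.stalk P) e
        ⟨t, ht, mem_nonZeroDivisors_iff_left.2 htz⟩ _ _ (hB'.isClosed_compl.preimage f.continuous)
        (hA'.isClosed_compl.preimage f.continuous) hu hi hn1 hn2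
      have hsing : PrimeSpectrum.vanishingIdeal (f ⁻¹' ({P} : Set X)) = p.asIdeal := by
        have : f ⁻¹' ({P} : Set X) = {p} := Set.ext fun q =>
          ⟨fun hq => U.2.fromSpec.isOpenEmbedding.injective ((show f q = P from hq).trans hfp.symm),
            fun hq => by rw [Set.mem_singleton_iff.1 hq]; exact hfp⟩
        rw [this, PrimeSpectrum.vanishingIdeal_singleton]
      refine ⟨hsum.trans hsing.symm, hinf, fun _ => ⟨fun h0 => ?_, fun h0 => ?_⟩⟩
      · obtain ⟨q, -, hq⟩ := hn1 1 (fun h => hpm.ne_top ((Ideal.eq_top_iff_one _).2 h))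
        refine hq ((hB'.isClosed_compl.preimage f.continuous).closure_eq ▸ ?_)
        rw [← PrimeSpectrum.zeroLocus_vanishingIdeal_eq_closure]
        exact (show PrimeSpectrum.vanishingIdeal (f ⁻¹' B'ᶜ) ≤ q.asIdeal from h0.le.trans bot_le)
      · obtain ⟨q, -, hq⟩ := hn2 1 (fun h => hpm.ne_top ((Ideal.eq_top_iff_one _).2 h))
        refine hq ((hA'.isClosed_compl.preimage f.continuous).closure_eq ▸ ?_)
        rw [← PrimeSpectrum.zeroLocus_vanishingIdeal_eq_closure]
        exact (show PrimeSpectrum.vanishingIdeal (f ⁻¹' A'ᶜ) ≤ q.asIdeal from h0.le.trans bot_le)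
  -- the two inclusions
  have hincl : ∀ J : X.IdealSheafData, J ≤ IP → ClSub.idealModι J ≫ ClSub.toSubscheme IP = 0 := fun J hJ => by
    refine Groth.Agent.InjMod14.Kosz.hom_ext_affine _ _ fun U c => ?_
    show IP.subschemeι.app U.1 (Groth.Agent.InjMod14.Kosz.ival J U.1 c) = 0
    rw [← RingHom.mem_ker, IP.ker_subschemeι_app U]
    exact hJ U (Groth.Agent.InjMod14.Kosz.ival_mem J U c)
  let ιA : ClSub.idealMod IA ⟶ ClSub.idealMod IP :=
    kernel.lift (ClSub.toSubscheme IP) (ClSub.idealModι IA) (hincl IA hleA)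
  let ιB : ClSub.idealMod IB ⟶ ClSub.idealMod IP :=
    kernel.lift (ClSub.toSubscheme IP) (ClSub.idealModι IB) (hincl IB hleB)
  let φ : ClSub.idealMod IA ⊞ ClSub.idealMod IB ⟶ ClSub.idealMod IP := biprod.desc ιA ιB
  have hvA : ∀ (U : X.Opens) c, Groth.Agent.InjMod14.Kosz.ival IP U (ιA.app U c) =
      Groth.Agent.InjMod14.Kosz.ival IA U c := fun U c => by
    show (ιA ≫ ClSub.idealModι IP).app U c = _
    rw [show ιA ≫ ClSub.idealModι IP = ClSub.idealModι IA from kernel.lift_ι _ _ _]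
    rfl
  have hvB : ∀ (U : X.Opens) c, Groth.Agent.InjMod14.Kosz.ival IP U (ιB.app U c) =
      Groth.Agent.InjMod14.Kosz.ival IB U c := fun U c => by
    show (ιB ≫ ClSub.idealModι IP).app U c = _
    rw [show ιB ≫ ClSub.idealModι IP = ClSub.idealModι IB from kernel.lift_ι _ _ _]
    rfl
  have hmonoI : ∀ J : X.IdealSheafData, Mono (ClSub.idealModι J) := fun J => by
    unfold ClSub.idealModι ClSub.idealMod; infer_instance
  have hivinj : ∀ (J : X.IdealSheafData) (U : X.Opens), Function.Injective (Groth.Agent.InjMod14.Kosz.ival J U) :=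
    fun J U => by
      haveI := hmonoI J
      exact Groth.Agent.Coherent.app_injective_of_mono (ClSub.idealModι J) U
  haveI : IsIso φ := by
    refine Groth.Agent.TwistLib.G.isIso_of_bijective_on_basis _ (fun V => IsAffineOpen V) (fun V x hx => ?_)
      fun V hV => ?_
    · obtain ⟨W, hW, hxW, hWV⟩ := exists_isAffineOpen_mem_and_subset (x := x) (U := V) hx
      exact ⟨W, hW, hxW, hWV⟩
    obtain ⟨hsup, hinf, -⟩ := hkey ⟨V, hV⟩
    have hφ : ∀ z, Groth.Agent.InjMod14.Kosz.ival IP V (φ.app V z) =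
        Groth.Agent.InjMod14.Kosz.ival IA V ((biprod.fst : _ ⊞ ClSub.idealMod IB ⟶ _).app V z) +
          Groth.Agent.InjMod14.Kosz.ival IB V ((biprod.snd : ClSub.idealMod IA ⊞ _ ⟶ _).app V z) := fun z => by
      have hdesc : φ = biprod.fst ≫ ιA + biprod.snd ≫ ιB := biprod.desc_eq
      rw [hdesc, Scheme.Modules.Hom.add_app]
      simp only [← hvA, ← hvB]
      exact map_add ((ClSub.idealModι IP).app V).hom _ _
    refine ⟨(injective_iff_map_eq_zero _).2 fun z hz => ?_, fun w => ?_⟩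
    · have h1 := hφ z
      rw [hz, show Groth.Agent.InjMod14.Kosz.ival IP V 0 = 0 from map_zero _, eq_comm, add_eq_zero_iff_eq_neg] at h1
      have hA0 : Groth.Agent.InjMod14.Kosz.ival IA V ((biprod.fst : _ ⊞ ClSub.idealMod IB ⟶ _).app V z) ∈
          IA.ideal ⟨V, hV⟩ ⊓ IB.ideal ⟨V, hV⟩ :=
        ⟨Groth.Agent.InjMod14.Kosz.ival_mem IA ⟨V, hV⟩ _,
          h1 ▸ neg_mem (Groth.Agent.InjMod14.Kosz.ival_mem IB ⟨V, hV⟩ _)⟩
      rw [hinf, Ideal.mem_bot] at hA0
      have hB0 := h1.symm.trans hA0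
      rw [neg_eq_zero] at hB0
      have ha := hivinj IA V (hA0.trans (map_zero ((ClSub.idealModι IA).app V).hom).symm)
      have hb := hivinj IB V (hB0.trans (map_zero ((ClSub.idealModι IB).app V).hom).symm)
      have htot : z = (biprod.inl : _ ⟶ ClSub.idealMod IA ⊞ ClSub.idealMod IB).app V
          ((biprod.fst : _ ⊞ ClSub.idealMod IB ⟶ _).app V z) +
          (biprod.inr : _ ⟶ ClSub.idealMod IA ⊞ ClSub.idealMod IB).app V
          ((biprod.snd : ClSub.idealMod IA ⊞ _ ⟶ _).app V z) := by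
        have h := congrArg (fun t : (ClSub.idealMod IA ⊞ ClSub.idealMod IB ⟶ _) => t.app V z)
          (biprod.total (X := ClSub.idealMod IA) (Y := ClSub.idealMod IB))
        simp only [Scheme.Modules.Hom.add_app] at h
        exact h.symm
      rw [htot, ha, hb, map_zero, map_zero, add_zero]
    · have hw : Groth.Agent.InjMod14.Kosz.ival IP V w ∈ IA.ideal ⟨V, hV⟩ ⊔ IB.ideal ⟨V, hV⟩ :=
        hsup.symm ▸ Groth.Agent.InjMod14.Kosz.ival_mem IP ⟨V, hV⟩ w
      obtain ⟨a, ha, b, hb, hab⟩ := Submodule.mem_sup.1 hw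
      obtain ⟨ca, rfl⟩ := Groth.Agent.InjMod14.Kosz.exists_ival IA ⟨V, hV⟩ ha
      obtain ⟨cb, rfl⟩ := Groth.Agent.InjMod14.Kosz.exists_ival IB ⟨V, hV⟩ hb
      refine ⟨(biprod.inl : _ ⟶ ClSub.idealMod IA ⊞ ClSub.idealMod IB).app V ca +
          (biprod.inr : _ ⟶ ClSub.idealMod IA ⊞ ClSub.idealMod IB).app V cb, hivinj IP V ?_⟩
      rw [map_add, show φ.app V ((biprod.inl : _ ⟶ ClSub.idealMod IA ⊞ ClSub.idealMod IB).app V ca) = ιA.app V ca from
          congrArg (fun t : (ClSub.idealMod IA ⟶ ClSub.idealMod IP) => t.app V ca) (biprod.inl_desc ιA ιB),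
        show φ.app V ((biprod.inr : _ ⟶ ClSub.idealMod IA ⊞ ClSub.idealMod IB).app V cb) = ιB.app V cb from
          congrArg (fun t : (ClSub.idealMod IB ⟶ ClSub.idealMod IP) => t.app V cb) (biprod.inr_desc ιA ιB)]
      refine (map_add ((ClSub.idealModι IP).app V).hom _ _).trans ?_
      rw [← hab, ← hvA, ← hvB]
      rfl
  let e := inv φ ≫ biprod.fst ≫ ιA
  have hAe : ιA ≫ inv φ = biprod.inl := by rw [IsIso.comp_inv_eq, biprod.inl_desc]
  have hBe : ιB ≫ inv φ = biprod.inr := by rw [IsIso.comp_inv_eq, biprod.inr_desc]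
  obtain ⟨W, hW, hPW, -⟩ := exists_isAffineOpen_mem_and_subset (x := P) (U := (⊤ : X.Opens)) trivial
  obtain ⟨-, -, hne⟩ := hkey ⟨W, hW⟩
  have hnz : ∀ (J : X.IdealSheafData) (ι' : ClSub.idealMod J ⟶ ClSub.idealMod IP),
      (∀ (U : X.Opens) c, Groth.Agent.InjMod14.Kosz.ival IP U (ι'.app U c) =
        Groth.Agent.InjMod14.Kosz.ival J U c) → J.ideal ⟨W, hW⟩ ≠ ⊥ → ι' ≠ 0 := fun J ι' hv hJ h0 => by
    refine hJ (eq_bot_iff.2 fun a ha => ?_)
    obtain ⟨c, rfl⟩ := Groth.Agent.InjMod14.Kosz.exists_ival J ⟨W, hW⟩ ha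
    rw [Ideal.mem_bot, ← hv, h0]
    exact map_zero ((ClSub.idealModι IP).app W).hom
  refine ⟨e, ?_, fun h => ?_, fun h => ?_⟩
  · simp only [e, Category.assoc, reassoc_of% hAe, biprod.inl_fst_assoc]
  · refine hnz IA ιA hvA (hne hPW).1 ?_
    have h' := congrArg (fun t => ιA ≫ t) h
    simp only [e, reassoc_of% hAe, biprod.inl_fst_assoc, comp_zero] at h'
    exact h'
  · refine hnz IB ιB hvB (hne hPW).2 ?_
    have h' := congrArg (fun t => ιB ≫ t) h
    simp only [e, reassoc_of% hBe, biprod.inr_fst_assoc, zero_comp, Category.comp_id] at h'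
    exact h'.symm


end Groth.Agent.S15924
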