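import Groth.Statements.S18771
import Groth.Agent.TFPush7.StalkSub
import Groth.Agent.TFNodal7.Main
import Groth.Agent.RefHullLib.LowDim
import Groth.Agent.Coherent.CohBC.PushStructure
-- import your own Groth.Agent.* helpers here

set_option autoImplicit false
set_option linter.style.haveILetI false
set_option backward.isDefEq.respectTransparency.types false
universe u
open CategoryTheory CategoryTheory.Limits AlgebraicGeometry
open TFNodal

namespace Groth.Agent.S18771

open Groth.Agent IsLocalRing

section Algebra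

variable {O : Type u} [CommRing O] [IsLocalRing O] {a b : ℕ} {M : Type u} [AddCommGroup M] [Module O M]
  (eF : M ≃ₗ[O] ((Fin a → O) × (Fin b → maximalIdeal O)))

/-- The coordinates of a module of type `(a, b)`. -/
noncomputable def coord : M →ₗ[O] (Fin a → O) × (Fin b → O) :=
  (LinearMap.prodMap LinearMap.id
    (LinearMap.pi fun i => (maximalIdeal O).subtype ∘ₗ LinearMap.proj i)) ∘ₗ eF.toLinearMap

theorem coord_injective : Function.Injective (coord eF) := fun v w h => eF.injective
  (Prod.ext (congrArg Prod.fst h :) (funext fun i => Subtype.ext (congrFun (congrArg Prod.snd h :) i)))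

theorem mem_range_coord (T : (Fin a → O) × (Fin b → O)) :
    T ∈ LinearMap.range (coord eF) ↔ ∀ i, T.2 i ∈ maximalIdeal O := by
  constructor
  · rintro ⟨v, rfl⟩ i
    exact ((eF v).2 i).2
  · intro h
    exact ⟨eF.symm (T.1, fun i => ⟨T.2 i, h i⟩), by simp [coord]; rfl⟩

/-- Scaling by an element of the maximal ideal lands in the module. -/
noncomputable def scale (c : maximalIdeal O) : (Fin a → O) × (Fin b → O) →ₗ[O] M :=
  eF.symm.toLinearMap ∘ₗ LinearMap.prodMap ((c : O) • LinearMap.id)
    (LinearMap.pi fun i => (LinearMap.toSpanSingleton O (maximalIdeal O) c) ∘ₗ LinearMap.proj i)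

theorem coord_scale (c : maximalIdeal O) (T : (Fin a → O) × (Fin b → O)) :
    coord eF (scale eF c T) = (c : O) • T := by
  simp only [coord, scale, LinearMap.comp_apply, LinearEquiv.coe_coe, LinearEquiv.apply_symm_apply]
  refine Prod.ext rfl (funext fun i => ?_)
  exact mul_comm _ _

/-- The functionals extending to the free hull. -/
noncomputable def hullDual : Submodule O (Module.Dual O M) := LinearMap.range (coord eF).dualMap

theorem smul_mem_hullDual : (maximalIdeal O) ^ 1 • (⊤ : Submodule O (Module.Dual O M)) ≤ hullDual eF := by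
  rw [pow_one]
  refine Submodule.smul_le.2 fun c hc φ _ => ⟨φ ∘ₗ scale eF ⟨c, hc⟩, LinearMap.ext fun v => ?_⟩
  have h : scale eF ⟨c, hc⟩ (coord eF v) = c • v :=
    coord_injective eF ((coord_scale eF _ _).trans ((coord eF).map_smul c v).symm)
  rw [LinearMap.dualMap_apply, LinearMap.comp_apply, h, map_smul, LinearMap.smul_apply]

theorem dualMap_coord_injective {t : O} (ht : t ∈ maximalIdeal O) (ht' : t ∈ nonZeroDivisors O) :
    Function.Injective (coord eF).dualMap := by
  refine (injective_iff_map_eq_zero _).2 fun f hf => LinearMap.ext fun T => ?_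
  have h := LinearMap.congr_fun hf (scale eF ⟨t, ht⟩ T)
  rw [LinearMap.dualMap_apply, coord_scale, map_smul, smul_eq_mul] at h
  exact (mem_nonZeroDivisors_iff.1 ht').1 _ h

/-- The dual of the functionals extending to the free hull is the free hull. -/
theorem exists_hull {t : O} (ht : t ∈ maximalIdeal O) (ht' : t ∈ nonZeroDivisors O) :
    ∃ q : Module.Dual O (hullDual eF) ≃ₗ[O] (Fin a → O) × (Fin b → O),
      ∀ (v : M) (ξ : Module.Dual O (hullDual eF)), (∀ θ : hullDual eF, ξ θ = θ.1 v) → q ξ = coord eF v := by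
  let q₀ : Module.Dual O ((Fin a → O) × (Fin b → O)) ≃ₗ[O] hullDual eF :=
    LinearEquiv.ofInjective (coord eF).dualMap (dualMap_coord_injective eF ht ht')
  refine ⟨q₀.dualMap.trans (Module.evalEquiv O _).symm, fun v ξ hξ => ?_⟩
  rw [LinearEquiv.trans_apply, LinearEquiv.symm_apply_eq]
  refine LinearMap.ext fun f => ?_
  rw [LinearEquiv.dualMap_apply, hξ]
  rfl

/-- The colength of the module in its free hull. -/
theorem length_hull : Module.length O (((Fin a → O) × (Fin b → O)) ⧸ LinearMap.range (coord eF)) = (b : ℕ∞) := by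
  let ψ : (Fin a → O) × (Fin b → O) →ₗ[O] (Fin b → O ⧸ maximalIdeal O) :=
    (LinearMap.pi fun i => Submodule.mkQ (maximalIdeal O) ∘ₗ LinearMap.proj i) ∘ₗ LinearMap.snd O _ _
  have hψ : Function.Surjective ψ := fun w =>
    ⟨(0, fun i => (Submodule.mkQ_surjective (maximalIdeal O) (w i)).choose),
      funext fun i => (Submodule.mkQ_surjective (maximalIdeal O) (w i)).choose_spec⟩
  have hker : LinearMap.range (coord eF) = LinearMap.ker ψ := by
    ext T
    rw [mem_range_coord, LinearMap.mem_ker]
    exact ⟨fun h => funext fun i => (Submodule.Quotient.mk_eq_zero _).2 (h i),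
      fun h i => (Submodule.Quotient.mk_eq_zero _).1 (congrFun h i)⟩
  rw [((Submodule.quotEquivOfEq _ _ hker).trans (ψ.quotKerEquivOfSurjective hψ)).length_eq,
    Module.length_pi_of_fintype]
  haveI : IsSimpleModule O (O ⧸ maximalIdeal O) :=
    isSimpleModule_iff_isCoatom.2 (Ideal.isMaximal_def.1 (IsLocalRing.maximalIdeal.isMaximal O))
  simp [Module.length_eq_one_iff.2 this]

end Algebra

/-- Let k be algebraically closed of characteristic zero, X a connected proper curve over k (dimension
one) whose closed points are smooth points or nodes, and π : Y → X its normalization, given as a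
finite morphism from a smooth k-scheme that is an isomorphism over the complement U of the nodes
with dense preimage of U; let F be a coherent O_X-module, torsion free of rank r with type a(x) at
each node x (stalk free of rank r off the nodes, isomorphic to O_x^{a(x)} ⊕ m_x^{r − a(x)} at a node
x). Then there are a locally free O_X-module G of rank r and a monomorphism j : F → G whose cokernel
has zero stalk off the nodes and, at each node x, stalk annihilated by the maximal ideal m_x and of
length r − a(x) (so G/F is the direct sum over the nodes of k(x)^{r − a(x)}). -/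
theorem result (k : Type u) [Field k] [IsAlgClosed k] [CharZero k]
    (X : Scheme.{u}) [X.Over (Spec (CommRingCat.of k))] [IsProper (X ↘ Spec (CommRingCat.of k))]
    [ConnectedSpace X] (hdim : topologicalKrullDim X = 1) (hnod : Curv2.AtWorstNodal k X)
    (Y : Scheme.{u}) (π : Y ⟶ X) [IsFinite π] [Smooth (π ≫ (X ↘ Spec (CommRingCat.of k)))]
    (U : X.Opens) (hU : ∀ x : X, x ∈ U ↔ ¬ Curv2.IsNode k X x) (hUiso : IsIso (π ∣_ U))
    (hUd : Dense ((π ⁻¹ᵁ U : Y.Opens) : Set Y))
    (r : ℕ) (F : X.Modules) (hF : Coh.IsCoh F) (a : X → ℕ)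
    (hfree : ∀ x : X, ¬ Curv2.IsNode k X x →
      Nonempty (F.presheaf.stalk x ≃ₗ[X.presheaf.stalk x] (Fin r → X.presheaf.stalk x)))
    (htype : ∀ x : X, Curv2.IsNode k X x → a x ≤ r ∧
      Nonempty (F.presheaf.stalk x ≃ₗ[X.presheaf.stalk x]
        ((Fin (a x) → X.presheaf.stalk x) × (Fin (r - a x) → IsLocalRing.maximalIdeal (X.presheaf.stalk x))))) :
    ∃ (G : X.Modules) (j : F ⟶ G), FlatMod.IsFinLocFreeOfRank r G ∧ Mono j ∧
      (∀ x : X, ¬ Curv2.IsNode k X x → Subsingleton ((cokernel j).presheaf.stalk x)) ∧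
      (∀ x : X, Curv2.IsNode k X x →
        IsLocalRing.maximalIdeal (X.presheaf.stalk x) • (⊤ : Submodule (X.presheaf.stalk x) ((cokernel j).presheaf.stalk x)) = ⊥ ∧
        Module.length (X.presheaf.stalk x) ((cokernel j).presheaf.stalk x) = ((r - a x : ℕ) : ℕ∞)) := by
  classical
  haveI := CurveRR24.isLocallyNoetherian_of_proper k (X := X)
  obtain ⟨hfin, hcl⟩ := Hyper24.finite_compl_dense k hdim.le (TFNodal7.dense_U k hdim hnod hU)
  let S : Finset X := hfin.toFinset
  have hmem : ∀ x, x ∈ S ↔ Curv2.IsNode k X x := fun x => by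
    simp only [S, Set.Finite.mem_toFinset, Set.mem_compl_iff, SetLike.mem_coe, hU, not_not]
  have hScl : ∀ x ∈ S, IsClosed ({x} : Set X) := fun x hx => hcl x (hfin.mem_toFinset.1 hx)
  have hfree' : ∀ x, x ∉ S → Module.Free (X.presheaf.stalk x) (F.presheaf.stalk x) := fun x hx =>
    let ⟨e⟩ := hfree x fun h => hx ((hmem x).2 h)
    Module.Free.of_equiv e.symm
  let L : ∀ x, Submodule (X.presheaf.stalk x) (Module.Dual (X.presheaf.stalk x) (F.presheaf.stalk x)) := fun x =>
    if h : Curv2.IsNode k X x then hullDual (htype x h).2.some else ⊤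
  obtain ⟨G, j, hG, he, hb⟩ := TFPush7.exists_dual_over hF S hScl hfree' L fun x hx => ⟨1, by
    simp only [L, dif_pos ((hmem x).1 hx)]
    exact smul_mem_hullDual _⟩
  have key : ∀ x (hx : Curv2.IsNode k X x),
      ∃ q : G.presheaf.stalk x ≃ₗ[X.presheaf.stalk x]
        (Fin (a x) → X.presheaf.stalk x) × (Fin (r - a x) → X.presheaf.stalk x),
        ∀ v, q (RefHull.stalkMapₗ j x v) = coord (htype x hx).2.some v := fun x hx => by
    obtain ⟨-, -, t, ht, ht'⟩ := TFNodal7.node_facts k hdim hnod hU hx
    obtain ⟨e, he⟩ := he x ((hmem x).2 hx)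
    obtain ⟨q, hq⟩ := exists_hull (htype x hx).2.some ht ht'
    have hL : L x = hullDual (htype x hx).2.some := dif_pos hx
    refine ⟨e.trans ((LinearEquiv.ofEq _ _ hL).symm.dualMap.trans q), fun v => ?_⟩
    rw [LinearEquiv.trans_apply, LinearEquiv.trans_apply]
    refine hq v _ fun θ => ?_
    rw [LinearEquiv.dualMap_apply, he]
    rfl
  refine ⟨G, j, ?_, TFNodal7.mono_of_stk_injective j fun x => ?_, fun x hx => ?_, fun x hx => ?_⟩
  · have hfr : ∀ x, Module.Free (X.presheaf.stalk x) (G.presheaf.stalk x) ∧
        Module.finrank (X.presheaf.stalk x) (G.presheaf.stalk x) = r := fun x => by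
      by_cases hx : Curv2.IsNode k X x
      · obtain ⟨q, -⟩ := key x hx
        refine ⟨Module.Free.of_equiv q.symm, ?_⟩
        rw [q.finrank_eq, Module.finrank_prod, Module.finrank_fin_fun, Module.finrank_fin_fun]
        have := (htype x hx).1
        omega
      · obtain ⟨e⟩ := hfree x hx
        let e' := e.symm.trans (LinearEquiv.ofBijective _ (hb x fun h => hx ((hmem x).1 h)))
        exact ⟨Module.Free.of_equiv e', e'.finrank_eq.symm.trans (Module.finrank_fin_fun _)⟩
    intro x
    haveI := hG.1
    obtain ⟨W, m, hxW, ⟨e⟩⟩ := (RefHullLib.isFinLocFree_iff_free_stalks hG).2 (fun x => (hfr x).1) x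
    obtain rfl : m = r := (Coherent.CohBC.finrank_stalk_of_free G hxW e).symm.trans (hfr x).2
    exact ⟨W, hxW, ⟨e⟩⟩
  · by_cases hx : Curv2.IsNode k X x
    · obtain ⟨q, hq⟩ := key x hx
      intro v w h
      exact coord_injective (htype x hx).2.some ((hq v).symm.trans ((congrArg q h).trans (hq w)))
    · exact (hb x fun h => hx ((hmem x).1 h)).1
  · obtain ⟨e, -⟩ := TFNodal7.exists_cokernel_stalk j x
    refine @Equiv.subsingleton _ _ e.symm.toEquiv ?_
    exact Submodule.Quotient.subsingleton_iff.2 (LinearMap.range_eq_top.2 (hb x fun h => hx ((hmem x).1 h)).2)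
  · obtain ⟨e, -⟩ := TFNodal7.exists_cokernel_stalk j x
    obtain ⟨q, hq⟩ := key x hx
    have hmap : (LinearMap.range (RefHull.stalkMapₗ j x)).map q.toLinearMap =
        LinearMap.range (coord (htype x hx).2.some) := by
      rw [← LinearMap.range_comp]
      exact congrArg LinearMap.range (LinearMap.ext hq)
    let e' := e.symm.trans (Submodule.Quotient.equiv _ _ q hmap)
    refine ⟨?_, e'.length_eq.trans (length_hull _)⟩
    refine eq_bot_iff.2 (Submodule.smul_le.2 fun c hc z _ => (Submodule.mem_bot _).2 (e'.injective ?_))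
    refine Eq.trans (e'.map_smul c z) (Eq.trans ?_ e'.map_zero.symm)
    obtain ⟨T, hT⟩ := Submodule.Quotient.mk_surjective _ (e' z)
    rw [← hT, ← Submodule.Quotient.mk_smul, Submodule.Quotient.mk_eq_zero, mem_range_coord]
    exact fun i => (maximalIdeal _).mul_mem_right _ hc

end Groth.Agent.S18771
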