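import Groth.Statements.S15925
import Groth.Agent.TFPush7.RankOneAlg
import Groth.Agent.TFPush7.RankOneNodal
import Groth.Agent.TFPush7.IsoNhd
import Groth.Agent.S18771
import Groth.Agent.TFFree28.Basic
import Groth.Agent.VarietyLib.SmoothStalk
import Groth.Agent.DualLib.RelDualizingModule
import Groth.Agent.Hyper24.BiratH1
import Groth.Agent.KRRPBLib.Basic
import Groth.Agent.VarietyLib.TensorExact

set_option autoImplicit false
set_option linter.style.haveILetI false
set_option backward.isDefEq.respectTransparency false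
set_option backward.isDefEq.respectTransparency.types false
set_option maxHeartbeats 1000000
universe u
open CategoryTheory CategoryTheory.Limits AlgebraicGeometry
open Curves

namespace Groth.Agent.S15925

open IsLocalRing Groth.Agent

/-- A free module embedded in the ring with a regular element in the image is free of rank one. -/
theorem nonempty_equiv_of_free {A : Type u} [CommRing A] [Nontrivial A] {L : Type u} [AddCommGroup L] [Module A L]
    [Module.Free A L] (ι : L →ₗ[A] A) (hι : Function.Injective ι)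
    (hL : ∃ t ∈ nonZeroDivisors A, t ∈ LinearMap.range ι) : Nonempty (L ≃ₗ[A] A) := by
  let b := Module.Free.chooseBasis A L
  obtain ⟨t, ht, v, hv⟩ := hL
  haveI : Subsingleton (Module.Free.ChooseBasisIndex A L) := ⟨fun i j => by
    by_contra hij
    have h : ι (b j) • b i = ι (b i) • b j := hι (by rw [map_smul, map_smul, smul_eq_mul, smul_eq_mul, mul_comm])
    have h' := congrArg (fun z => b.repr z i) h
    simp only [map_smul, Finsupp.smul_apply, Module.Basis.repr_self, smul_eq_mul, Finsupp.single_eq_same,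
      Finsupp.single_eq_of_ne hij, mul_one, mul_zero] at h'
    exact b.ne_zero j (hι (h'.trans (map_zero ι).symm))⟩
  haveI : Nonempty (Module.Free.ChooseBasisIndex A L) := by
    by_contra he
    rw [not_nonempty_iff] at he
    haveI := b.repr.toEquiv.subsingleton
    rw [Subsingleton.elim v 0, map_zero] at hv
    exact zero_notMem_nonZeroDivisors (hv ▸ ht)
  haveI := uniqueOfSubsingleton (Classical.arbitrary (Module.Free.ChooseBasisIndex A L))
  exact ⟨b.repr.trans (Finsupp.LinearEquiv.finsuppUnique A A _)⟩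

theorem stalkMapₗ_comp' {X : Scheme.{u}} {A B C : X.Modules} (φ : A ⟶ B) (ψ : B ⟶ C) (y : X)
    (v : A.presheaf.stalk y) :
    RefHull.stalkMapₗ (φ ≫ ψ) y v = RefHull.stalkMapₗ ψ y (RefHull.stalkMapₗ φ y v) := by
  obtain ⟨W, hW, t, rfl⟩ := A.presheaf.exists_germ_eq v
  rw [RefHull.stalkMapₗ_germ, RefHull.stalkMapₗ_germ, RefHull.stalkMapₗ_germ]
  rfl

/-- Two monomorphisms with the same stalk images have isomorphic sources. -/
theorem nonempty_iso_of_ranges {X : Scheme.{u}} {A B C : X.Modules} (j : A ⟶ C) (θ : B ⟶ C) [Mono j] [Mono θ]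
    (h : ∀ x, LinearMap.range (RefHull.stalkMapₗ j x) = LinearMap.range (RefHull.stalkMapₗ θ x)) :
    Nonempty (A ≅ B) := by
  have key : ∀ {A B : X.Modules} (j : A ⟶ C) (θ : B ⟶ C),
      (∀ x, LinearMap.range (RefHull.stalkMapₗ θ x) ≤ LinearMap.range (RefHull.stalkMapₗ j x)) →
        θ ≫ cokernel.π j = 0 := fun {A B} j θ hle => by
    refine VarietyLib.eq_zero_of_stalks _ fun x (v : B.presheaf.stalk x) => ?_
    obtain ⟨w, hw⟩ := hle x (LinearMap.mem_range_self _ v)
    show RefHull.stalkMapₗ (θ ≫ cokernel.π j) x v = 0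
    refine (stalkMapₗ_comp' θ (cokernel.π j) x v).trans ?_
    erw [← hw]
    rw [← stalkMapₗ_comp', cokernel.condition]
    obtain ⟨W, hW, t, rfl⟩ := A.presheaf.exists_germ_eq w
    rw [RefHull.stalkMapₗ_germ]
    exact map_zero _
  let φ := Abelian.monoLift j θ (key j θ fun x => (h x).ge)
  let ψ := Abelian.monoLift θ j (key θ j fun x => (h x).le)
  refine ⟨⟨ψ, φ, ?_, ?_⟩⟩
  · rw [← cancel_mono j, Category.assoc, Abelian.monoLift_comp, Abelian.monoLift_comp, Category.id_comp]
  · rw [← cancel_mono θ, Category.assoc, Abelian.monoLift_comp, Abelian.monoLift_comp, Category.id_comp]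

/-- Let k be an algebraically closed field, X a nodal curve over k (proper over k, connected, every
irreducible component of dimension one, at-worst-nodal singularities) and L a coherent torsion-free
O_X-module of rank one (regular elements of each local ring act injectively on the stalk; the stalk
at each generic point of an irreducible component has dimension one). Let S be the set of points of
X at which L is not invertible, i.e. which have no open neighbourhood on which L is isomorphic to
the structure sheaf. Then there is an invertible O_X-module M with L ≅ I_S ⊗ M, where I_S is the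
ideal sheaf of the reduced closed subscheme on the closure of S, viewed as an O_X-module. (S is a
finite set of nodes P_1, …, P_m, so I_S ⊗ M is the tensor product m_{P_1} ⊗ ⋯ ⊗ m_{P_m} ⊗ M of the
ideal sheaves of these points with M, which is the published form; existence of an isomorphism
only.) -/
theorem result (k : Type u) [Field k] [IsAlgClosed k] (X : Scheme.{u}) [X.Over (Spec (CommRingCat.of k))] [IsProper (X ↘ (Spec (CommRingCat.of k)))] [ConnectedSpace X]
    (hequi : ∀ Z ∈ irreducibleComponents (X : Type u), topologicalKrullDim Z = 1) (hX : Curv2.AtWorstNodal k X)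
    (L : X.Modules) (hLc : Coh.IsCoh L) (hLt : TorSh.IsTorsionFree L)
    (hrk : ∀ η : X, closure ({η} : Set X) ∈ irreducibleComponents (X : Type u) → Module.finrank (X.presheaf.stalk η) (L.presheaf.stalk η) = 1) :
    ∃ M : X.Modules, PicF.IsInvertible M ∧
      Nonempty (L ≅ CohB1.tensorMod (ClSub.idealMod (Scheme.IdealSheafData.vanishingIdeal
        ⟨closure {P : X | ¬ ∃ U : X.Opens, P ∈ U ∧ Nonempty (L.restrict U.ι ≅ Coh.structureModule (↑U : Scheme.{u}))}, isClosed_closure⟩)) M) := by
  classical
  haveI := CurveRR24.isLocallyNoetherian_of_proper k (X := X)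
  haveI : ∀ z : X, _root_.IsReduced (X.presheaf.stalk z) := NodeLib7.isReduced_stalk_of_atWorstNodal k X hX
  haveI : AlgebraicGeometry.IsReduced X := isReduced_of_isReduced_stalk X
  haveI := hLc.1
  have hdim : topologicalKrullDim X ≤ 1 := DualLib.RelMod.dim_le_of_components (r := 1) (n := 1) rfl hequi
  let Sset : Set X := {P : X | ¬ ∃ U : X.Opens, P ∈ U ∧ Nonempty (L.restrict U.ι ≅ Coh.structureModule (↑U : Scheme.{u}))}
  let Uo : X.Opens := ⟨Ssetᶜ, isOpen_iff_forall_mem_open.2 fun P hP => by
    obtain ⟨U, hPU, hU⟩ := not_not.1 hP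
    exact ⟨U, fun z hz => not_not.2 ⟨U, hz, hU⟩, U.2, hPU⟩⟩
  have hbO : ∀ x : X, Nonempty (Module.Basis (Fin 1) (X.presheaf.stalk x) ((Coh.structureModule X).presheaf.stalk x)) :=
    fun x => SplitP1.nonempty_basis_stalk (PicLib.isFinLocFreeOfRank_one AmpleLib.isInvertible_structureModule) x
  have hout : ∀ x, (L.presheaf.stalk x ≃ₗ[X.presheaf.stalk x] X.presheaf.stalk x) → x ∉ Sset := fun x e hx => by
    obtain ⟨b⟩ := hbO x
    obtain ⟨U, hxU, -, ⟨φ⟩⟩ := TFPush7.exists_nhd_iso_of_stalk_iso hLc (Coherent.isCoh_structureModule X)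
      (e.trans (b.equivFun.trans (LinearEquiv.funUnique (Fin 1) _ _)).symm) (O := ⊤) (x := x) trivial
    exact hx ⟨U, hxU, ⟨φ ≪≫ Scheme.Modules.restrictUnitIso U.ι⟩⟩
  have hbas : ∀ x, x ∉ Sset → Nonempty (Module.Basis (Fin 1) (X.presheaf.stalk x) (L.presheaf.stalk x)) := fun x hx => by
    obtain ⟨U, hxU, ⟨e⟩⟩ := not_not.1 hx
    exact TFPush7.basis_of_restrict_iso hxU (e ≪≫ (PicLib.freeModOneIso _).symm)
  have hUd : Dense (Uo : Set X) := fun x => by
    obtain ⟨η, hη⟩ := QuasiSober.sober (isIrreducible_irreducibleComponent (x := x)) isClosed_irreducibleComponent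
    have hcomp : closure ({η} : Set X) ∈ irreducibleComponents (X : Type u) :=
      hη.def.symm ▸ irreducibleComponent_mem_irreducibleComponents x
    have hmax : ∀ z, z ⤳ η → z = η := fun z hz =>
      (hz.antisymm (specializes_iff_mem_closure.2 (hcomp.2 isIrreducible_singleton.closure
        hz.closure_subset (subset_closure rfl)))).eq
    letI : Field (X.presheaf.stalk η) := (AlgSpLib.isField_stalk_of_maximal η hmax).toField
    have hr := hrk η hcomp
    haveI : Module.Finite (X.presheaf.stalk η) (L.presheaf.stalk η) := Module.finite_of_finrank_eq_succ hr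
    exact closure_mono (Set.singleton_subset_iff.2 (show η ∈ (Uo : Set X) from hout η
        ((Module.finBasisOfFinrankEq _ _ hr).equivFun.trans (LinearEquiv.funUnique (Fin 1) _ _))))
      (by rw [hη.def]; exact mem_irreducibleComponent)
  obtain ⟨hfin', hcl'⟩ := Hyper24.finite_compl_dense k hdim hUd
  have hfin : Sset.Finite := hfin'.subset fun z hz h => h hz
  have hcl : ∀ x ∈ Sset, IsClosed ({x} : Set X) := fun x hx => hcl' x fun h => h hx
  let S : Finset X := hfin.toFinset
  have hmem : ∀ x, x ∈ S ↔ x ∈ Sset := fun x => hfin.mem_toFinset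
  have hSclosed : IsClosed Sset := by
    rw [← isOpen_compl_iff]; exact Uo.2
  -- at the points of `S` the stalk is the maximal ideal of a node
  have hnode : ∀ x ∈ Sset, Nonempty (L.presheaf.stalk x ≃ₗ[X.presheaf.stalk x] maximalIdeal (X.presheaf.stalk x)) ∧
      ∃ t ∈ maximalIdeal (X.presheaf.stalk x), t ∈ nonZeroDivisors (X.presheaf.stalk x) := fun x hx => by
    haveI : Module.Finite (X.presheaf.stalk x) (L.presheaf.stalk x) :=
      Coherent.finite_stalk_of_isFT hLc.1 hLc.2 x
    haveI := hLt x
    obtain ⟨ι, hι, hιr⟩ := TFPush7.exists_embedding (A := X.presheaf.stalk x) (L := L.presheaf.stalk x)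
      (fun a ha v hv => (Module.IsTorsionFree.isSMulRegular (isRegular_iff_mem_nonZeroDivisors.2 ha))
        (hv.trans (smul_zero a).symm))
      (TFPush7.exists_rankOne_loc L hLc.1 hrk x)
    rcases hX x (hcl x hx) with ⟨U, hxU, hU⟩ | hn
    · haveI := hU
      haveI := VarietyLib.isRegularLocalRing_stalk_of_smooth k _ (U.ι ≫ (X ↘ Spec (CommRingCat.of k))) ⟨x, hxU⟩
      haveI : IsRegularLocalRing (X.presheaf.stalk x) :=
        IsRegularLocalRing.of_ringEquiv (U.stalkIso ⟨x, hxU⟩).commRingCatIsoToRingEquiv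
      haveI := TFFree28.free_of_isTorsionFree (X.presheaf.stalk x)
        ((CurvesLib24.stalk_dim_le_topologicalKrullDim x).trans hdim) (L.presheaf.stalk x)
      obtain ⟨e⟩ := nonempty_equiv_of_free ι hι hιr
      exact absurd hx (hout x e)
    · haveI := NodeLib7.isNoetherianRing_stalk k X x
      obtain ⟨-, -, u, v, a, b, c, hd⟩ := (NodeLib7.isNode_iff k X x).1 hn
      obtain ⟨t, ht, htz⟩ := hd.reg
      obtain ⟨E⟩ := TFPush7.exists_cross k hn
      rcases TFPush7.free_or_maximalIdeal E ⟨t, ht, mem_nonZeroDivisors_iff_left.2 htz⟩ ι hι hιr with ⟨⟨e⟩⟩ | he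
      · exact absurd hx (hout x e)
      · exact ⟨he, t, ht, mem_nonZeroDivisors_iff_left.2 htz⟩
  have htype : ∀ x ∈ Sset, Nonempty (L.presheaf.stalk x ≃ₗ[X.presheaf.stalk x]
      ((Fin 0 → X.presheaf.stalk x) × (Fin 1 → maximalIdeal (X.presheaf.stalk x)))) := fun x hx => by
    obtain ⟨e⟩ := (hnode x hx).1
    exact ⟨e.trans ((LinearEquiv.funUnique (Fin 1) (X.presheaf.stalk x) _).symm.trans
      (LinearEquiv.ofBijective (LinearMap.inr (X.presheaf.stalk x) (Fin 0 → X.presheaf.stalk x) _)
        ⟨LinearMap.inr_injective, fun z => ⟨z.2, Prod.ext (Subsingleton.elim _ _) rfl⟩⟩))⟩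
  let Λ : ∀ x, Submodule (X.presheaf.stalk x) (Module.Dual (X.presheaf.stalk x) (L.presheaf.stalk x)) := fun x =>
    if h : x ∈ Sset then S18771.hullDual (htype x h).some else ⊤
  obtain ⟨G, j, hG, he, hb⟩ := TFPush7.exists_dual_over hLc S (fun x hx => hcl x ((hmem x).1 hx))
    (fun x hx => let ⟨b⟩ := hbas x (fun h => hx ((hmem x).2 h)); Module.Free.of_basis b) Λ fun x hx => ⟨1, by
      simp only [Λ, dif_pos ((hmem x).1 hx)]
      exact S18771.smul_mem_hullDual _⟩
  have key : ∀ x (hx : x ∈ Sset),
      ∃ q : G.presheaf.stalk x ≃ₗ[X.presheaf.stalk x] (Fin 0 → X.presheaf.stalk x) × (Fin 1 → X.presheaf.stalk x),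
        ∀ v, q (RefHull.stalkMapₗ j x v) = S18771.coord (htype x hx).some v := fun x hx => by
    obtain ⟨-, t, ht, ht'⟩ := hnode x hx
    obtain ⟨e, he⟩ := he x ((hmem x).2 hx)
    obtain ⟨q, hq⟩ := S18771.exists_hull (htype x hx).some ht ht'
    have hL : Λ x = S18771.hullDual (htype x hx).some := dif_pos hx
    refine ⟨e.trans ((LinearEquiv.ofEq _ _ hL).symm.dualMap.trans q), fun v => ?_⟩
    rw [LinearEquiv.trans_apply, LinearEquiv.trans_apply]
    refine hq v _ fun θ => ?_
    rw [LinearEquiv.dualMap_apply, he]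
    rfl
  have hfr : ∀ x, Module.Free (X.presheaf.stalk x) (G.presheaf.stalk x) ∧
      Module.finrank (X.presheaf.stalk x) (G.presheaf.stalk x) = 1 := fun x => by
    by_cases hx : x ∈ Sset
    · obtain ⟨q, -⟩ := key x hx
      refine ⟨Module.Free.of_equiv q.symm, ?_⟩
      rw [q.finrank_eq, Module.finrank_prod, Module.finrank_fin_fun, Module.finrank_fin_fun]
    · obtain ⟨b⟩ := hbas x hx
      let b' := b.map (LinearEquiv.ofBijective _ (hb x fun h => hx ((hmem x).1 h)))
      exact ⟨Module.Free.of_basis b', (Module.finrank_eq_card_basis b').trans (Fintype.card_fin 1)⟩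
  have hGinv : PicF.IsInvertible G := KRRPBLib.isInvertible_of_rankOne fun x => by
    haveI := hG.1
    obtain ⟨W, m, hxW, ⟨e⟩⟩ := (RefHullLib.isFinLocFree_iff_free_stalks hG).2 (fun x => (hfr x).1) x
    obtain rfl : m = 1 := (Coherent.CohBC.finrank_stalk_of_free G hxW e).symm.trans (hfr x).2
    exact ⟨W, hxW, ⟨e⟩⟩
  haveI : Mono j := OmegaLib.mono_of_stalks_injective j fun x => by
    by_cases hx : x ∈ Sset
    · obtain ⟨q, hq⟩ := key x hx
      intro v w h
      exact S18771.coord_injective (htype x hx).some ((hq v).symm.trans ((congrArg q h).trans (hq w)))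
    · exact (hb x fun h => hx ((hmem x).1 h)).1
  refine ⟨G, hGinv, ?_⟩
  let I := Scheme.IdealSheafData.vanishingIdeal ⟨closure Sset, isClosed_closure⟩
  have hsupp : (I.support : Set X) = Sset := (Scheme.IdealSheafData.coe_support_vanishingIdeal _).trans
    hSclosed.closure_eq
  haveI : Mono (AmpleLib.twistMul I G) := by
    haveI := AmpleLib.mono_idealModι I
    haveI := EulerLib.mono_tensorMap hGinv (ClSub.idealModι I)
    exact mono_comp _ _
  refine nonempty_iso_of_ranges j (AmpleLib.twistMul I G) fun x => ?_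
  by_cases hx : x ∈ Sset
  · obtain ⟨q, hq⟩ := key x hx
    have hj : LinearMap.range (RefHull.stalkMapₗ j x) =
        maximalIdeal (X.presheaf.stalk x) • (⊤ : Submodule (X.presheaf.stalk x) (G.presheaf.stalk x)) := by
      refine le_antisymm ?_ (Submodule.smul_le.2 fun c hc w _ => ?_)
      · rintro _ ⟨v, rfl⟩
        have hT := (S18771.mem_range_coord (htype x hx).some _).1 ⟨v, rfl⟩ 0
        have hv : RefHull.stalkMapₗ j x v =
            (S18771.coord (htype x hx).some v).2 0 • q.symm ((0 : Fin 0 → X.presheaf.stalk x), fun _ => 1) := by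
          rw [← map_smul, LinearEquiv.eq_symm_apply, hq]
          refine Prod.ext (Subsingleton.elim _ _) (funext fun i => ?_)
          obtain rfl : i = 0 := Subsingleton.elim _ _
          exact (mul_one _).symm
        rw [hv]
        exact Submodule.smul_mem_smul hT Submodule.mem_top
      · obtain ⟨v, hv⟩ := (S18771.mem_range_coord (htype x hx).some (q (c • w))).2 fun i => by
          rw [map_smul]
          exact Ideal.mul_mem_right _ _ hc
        exact ⟨v, q.injective ((hq v).trans hv)⟩
    rw [hj]
    refine le_antisymm ?_ (TFPush7.range_twistMul_le I G hGinv (show x ∈ (I.support : Set X) from hsupp.symm ▸ hx))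
    refine TFPush7.le_range_twistMul G (N := ⟨(Sset \ {x})ᶜ, ?_⟩) (fun h => h.2 rfl) fun z hz hzZ => ?_
    · rw [isOpen_compl_iff, ← Set.biUnion_of_singleton (Sset \ {x})]
      exact hfin.sdiff.isClosed_biUnion fun z hz => hcl z hz.1
    · by_contra hne
      exact hz ⟨(Set.ext_iff.1 hSclosed.closure_eq z).1 hzZ, hne⟩
  · rw [LinearMap.range_eq_top.2 (hb x fun h => hx ((hmem x).1 h)).2, TFPush7.range_twistMul_eq_top I G]
    exact fun h => hx ((Set.ext_iff.1 hsupp x).1 h)

end Groth.Agent.S15925
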