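import Groth.Statements.S15926
import Groth.Agent.S15925
import Groth.Agent.TFPush7.TensorDeg
import Groth.Agent.CurveRR24.RR
import Groth.Agent.CurveRR24.Degree
import Groth.Agent.VarietyLib.CurveDegree

set_option autoImplicit false
set_option linter.style.haveILetI false
set_option backward.isDefEq.respectTransparency false
set_option backward.isDefEq.respectTransparency.types false
set_option maxHeartbeats 1000000
universe u
open CategoryTheory CategoryTheory.Limits AlgebraicGeometry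
open Curves

namespace Groth.Agent.S15926

open Groth.Agent Groth.Agent.AmpleLib Groth.Agent.EulerLib

variable (k : Type u) [Field k] [IsAlgClosed k] (X : Scheme.{u}) [X.Over (Spec (CommRingCat.of k))]
  [IsProper (X ↘ (Spec (CommRingCat.of k)))] [ConnectedSpace X]

/-- A rank one torsion-free module as the kernel of a map from an invertible module onto a small module. -/
theorem exists_seq (hequi : ∀ Z ∈ irreducibleComponents (X : Type u), topologicalKrullDim Z = 1)
    (hX : Curv2.AtWorstNodal k X) (L : X.Modules) (hLc : Coh.IsCoh L) (hLt : TorSh.IsTorsionFree L)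
    (hrk : ∀ η : X, closure ({η} : Set X) ∈ irreducibleComponents (X : Type u) →
      Module.finrank (X.presheaf.stalk η) (L.presheaf.stalk η) = 1) :
    ∃ S : ShortComplex X.Modules, S.ShortExact ∧ Nonempty (L ≅ S.X₁) ∧ PicF.IsInvertible S.X₂ ∧ Coh.IsCoh S.X₁ ∧
      Coh.IsCoh S.X₃ ∧ topologicalKrullDim (CohB1.support S.X₃) < ((1 : ℕ) : WithBot ℕ∞) ∧
      ∀ x, (∃ U : X.Opens, x ∈ U ∧ Nonempty (L.restrict U.ι ≅ Coh.structureModule (↑U : Scheme.{u}))) →
        Subsingleton (S.X₃.presheaf.stalk x) := by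
  haveI := CurveRR24.isLocallyNoetherian_of_proper k (X := X)
  haveI : ∀ z : X, _root_.IsReduced (X.presheaf.stalk z) := NodeLib7.isReduced_stalk_of_atWorstNodal k X hX
  haveI : AlgebraicGeometry.IsReduced X := isReduced_of_isReduced_stalk X
  obtain ⟨G, hG, ⟨e⟩⟩ := S15925.result k X hequi hX L hLc hLt hrk
  obtain ⟨hcl, hlt⟩ := TFPush7.dim_nonInvertible_lt k hequi L hLc hrk
  set I := Scheme.IdealSheafData.vanishingIdeal (⟨closure {P : X | ¬ ∃ U : X.Opens, P ∈ U ∧
    Nonempty (L.restrict U.ι ≅ Coh.structureModule (↑U : Scheme.{u}))}, isClosed_closure⟩ : TopologicalSpace.Closeds X)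
  have hsupp : (CohB1.support (CohB1.tensorMod (ClSub.quotMod I) G)) ⊆
      {P : X | ¬ ∃ U : X.Opens, P ∈ U ∧ Nonempty (L.restrict U.ι ≅ Coh.structureModule (↑U : Scheme.{u}))} := by
    rw [EulerLib.support_twist hG]
    refine (CurveRR24.support_quotMod_subset I).trans (subset_of_eq ?_)
    exact (Scheme.IdealSheafData.coe_support_vanishingIdeal _).trans hcl.closure_eq
  refine ⟨twistSeq _ G, twistSeq_shortExact hG (CurveRR24.shortExact_ideal I), ⟨e⟩, ?_, isCoh_twist hG (CurveRR24.isCoh_idealMod' I),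
    isCoh_twist hG (CurveRR24.isCoh_quotMod I), lt_of_le_of_lt (EulerLib.dim_mono hsupp) hlt, fun x hx => ?_⟩
  · intro y
    obtain ⟨U, hy, ⟨e'⟩⟩ := hG y
    exact ⟨U, hy, ⟨(Scheme.Modules.restrictFunctor U.ι).mapIso (unitTensorIso G) ≪≫ e'⟩⟩
  · by_contra h
    exact hsupp (show x ∈ CohB1.support (CohB1.tensorMod (ClSub.quotMod I) G) from h) hx

/-- Let k be an algebraically closed field, X a nodal curve over k (proper over k, connected, every
irreducible component of dimension one, at-worst-nodal singularities), and L, M coherent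
torsion-free O_X-modules of rank one (regular elements of each local ring act injectively on the
stalk; the stalk at each generic point of an irreducible component has dimension one) such that
every point of X has an open neighbourhood on which L or M is isomorphic to the structure sheaf (M
is invertible wherever L is not). Then deg(L ⊗ M) = deg(L) + deg(M), degrees of rank-one sheaves
being χ(X, −) − χ(X, O_X). (L ⊗ M is again torsion-free of rank one; that clause is not part of this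
statement.) -/
theorem result (k : Type u) [Field k] [IsAlgClosed k] (X : Scheme.{u}) [X.Over (Spec (CommRingCat.of k))] [IsProper (X ↘ (Spec (CommRingCat.of k)))] [ConnectedSpace X]
    (hequi : ∀ Z ∈ irreducibleComponents (X : Type u), topologicalKrullDim Z = 1) (hX : Curv2.AtWorstNodal k X)
    (L M : X.Modules) (hLc : Coh.IsCoh L) (hMc : Coh.IsCoh M) (hLt : TorSh.IsTorsionFree L) (hMt : TorSh.IsTorsionFree M)
    (hLr : ∀ η : X, closure ({η} : Set X) ∈ irreducibleComponents (X : Type u) → Module.finrank (X.presheaf.stalk η) (L.presheaf.stalk η) = 1)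
    (hMr : ∀ η : X, closure ({η} : Set X) ∈ irreducibleComponents (X : Type u) → Module.finrank (X.presheaf.stalk η) (M.presheaf.stalk η) = 1)
    (hLM : ∀ P : X, (∃ U : X.Opens, P ∈ U ∧ Nonempty (L.restrict U.ι ≅ Coh.structureModule (↑U : Scheme.{u}))) ∨ (∃ U : X.Opens, P ∈ U ∧ Nonempty (M.restrict U.ι ≅ Coh.structureModule (↑U : Scheme.{u})))) :
    Curv2.deg k X (CohB1.tensorMod L M) 1 = Curv2.deg k X L 1 + Curv2.deg k X M 1 := by
  haveI := CurveRR24.isLocallyNoetherian_of_proper k (X := X)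
  haveI := EulerLib.isSeparated_of_proper (X := X) k
  haveI := hLc.1
  have hdim : topologicalKrullDim X ≤ 1 := DualLib.RelMod.dim_le_of_components (r := 1) (n := 1) rfl hequi
  obtain ⟨S, hS, ⟨eL⟩, hS₂, hS₁c, hS₃c, hS₃d, hS₃⟩ := exists_seq k X hequi hX L hLc hLt hLr
  obtain ⟨T, hT, ⟨eM⟩, hT₂, hT₁c, hT₃c, hT₃d, hT₃⟩ := exists_seq k X hequi hX M hMc hMt hMr
  have hS₂c := SplitP1.isCoh_of_rank (PicLib.isFinLocFreeOfRank_one hS₂)
  have hT₂c := SplitP1.isCoh_of_rank (PicLib.isFinLocFreeOfRank_one hT₂)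
  -- `T ⊗ L`
  obtain ⟨A, hA, hA₁, hA₂, hA₃⟩ := TFPush7.exists_tensorSeq_of_or hT L fun x => by
    rcases hLM x with ⟨U, hxU, ⟨e⟩⟩ | h
    · obtain ⟨b⟩ := TFPush7.basis_of_restrict_iso hxU (e ≪≫ (PicLib.freeModOneIso _).symm)
      haveI := Module.Free.of_basis b
      exact Or.inl inferInstance
    · exact Or.inr (hT₃ x h)
  -- `S ⊗ T.X₂` and `S ⊗ T.X₃`
  obtain ⟨B, hB, hB₁, hB₂, hB₃⟩ := VarietyLib.exists_tensorSeq hS T.X₂
    (VarietyLib.flat_stalk_of_rank (PicLib.isFinLocFreeOfRank_one hT₂))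
  obtain ⟨C, hC, hC₁, hC₂, hC₃⟩ := TFPush7.exists_tensorSeq_of_or hS T.X₃ fun x => by
    rcases hLM x with h | h
    · exact Or.inr (hS₃ x h)
    · haveI := hT₃ x h
      haveI := Module.Free.of_subsingleton (X.presheaf.stalk x) (T.X₃.presheaf.stalk x)
      exact Or.inl inferInstance
  have add : ∀ (Z : ShortComplex X.Modules), Z.ShortExact → ∀ {P₁ P₂ P₃ : X.Modules}, Z.X₁ = P₁ → Z.X₂ = P₂ →
      Z.X₃ = P₃ → Coh.IsCoh P₁ → Coh.IsCoh P₂ → Coh.IsCoh P₃ →
      Curv2.euler k X P₂ = Curv2.euler k X P₁ + Curv2.euler k X P₃ := by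
    intro Z hZ P₁ P₂ P₃ h₁ h₂ h₃ c₁ c₂ c₃
    subst h₁; subst h₂; subst h₃
    exact euler_additive k X Z hZ c₁ c₂ c₃
  have eA := add A hA hA₁ hA₂ hA₃ (VarietyLib.isCoh_tensor' hT₁c hLc) (VarietyLib.isCoh_tensor' hT₂c hLc)
    (VarietyLib.isCoh_tensor' hT₃c hLc)
  have eB := add B hB hB₁ hB₂ hB₃ (VarietyLib.isCoh_tensor' hS₁c hT₂c) (VarietyLib.isCoh_tensor' hS₂c hT₂c)
    (VarietyLib.isCoh_tensor' hS₃c hT₂c)
  have eC := add C hC hC₁ hC₂ hC₃ (VarietyLib.isCoh_tensor' hS₁c hT₃c) (VarietyLib.isCoh_tensor' hS₂c hT₃c)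
    (VarietyLib.isCoh_tensor' hS₃c hT₃c)
  have eS := add S hS rfl rfl rfl hS₁c hS₂c hS₃c
  have eT := add T hT rfl rfl rfl hT₁c hT₂c hT₃c
  have e0 : Curv2.euler k X (CohB1.tensorMod S.X₃ T.X₃) = 0 := euler_of_isZero k X
    (TFPush7.isZero_tensorMod_of_or _ _ fun x => (hLM x).imp (hS₃ x) (hT₃ x))
  have eB₂ := CurveRR24.deg_tensor k hdim hS₂ hT₂
  have eB₃ := CurveRR24.euler_twist_of_small k hS₃c hT₂ hS₃d
  have eC₂ : Curv2.euler k X (CohB1.tensorMod S.X₂ T.X₃) = Curv2.euler k X T.X₃ :=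
    (euler_congr k X (tensorComm _ _)).trans (CurveRR24.euler_twist_of_small k hT₃c hS₂ hT₃d)
  rw [euler_congr k X (tensorComm T.X₂ L ≪≫ tensorIso eL (Iso.refl _)),
    euler_congr k X (tensorComm T.X₃ L ≪≫ tensorIso eL (Iso.refl _))] at eA
  rw [eB₃] at eB
  rw [e0, eC₂, add_zero] at eC
  simp only [Curv2.deg, Nat.cast_one, one_mul] at eB₂ ⊢
  rw [euler_congr k X eL, euler_congr k X eM,
    euler_congr k X (tensorComm L M ≪≫ tensorIso eM (Iso.refl _))]
  linarith

end Groth.Agent.S15926
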