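import Groth.Statements.S1593
import Groth.Agent.Clifford24.Nodal.Crit
import Groth.Agent.FlatLocal.Descent
import Groth.Agent.S0114

set_option autoImplicit false
universe u
open CategoryTheory CategoryTheory.Limits AlgebraicGeometry
open Curves

namespace Groth.Agent.S1593

/-- Being an at-worst-nodal family of curves is étale local on the source: let f : X → S be a morphism
and g_i : U_i → X a jointly surjective family of étale morphisms. If every composite g_i ≫ f is
at-worst-nodal of relative dimension one, then so is f. -/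
theorem result {X S : Scheme.{u}} (f : X ⟶ S) (ι : Type u) (U : ι → Scheme.{u})
    (g : ∀ i, U i ⟶ X) [∀ i, Etale (g i)] (hsurj : ∀ x : X, ∃ i, x ∈ Set.range (g i).base)
    (h : ∀ i, Curv2.IsNodalFamily (g i ≫ f)) : Curv2.IsNodalFamily f := by
  have h' := fun i => (Clifford24.Nodal.isNodalFamily_iff (g i ≫ f)).1 (h i)
  let q : (∐ U) ⟶ X := Limits.Sigma.desc g
  have hq : ∀ i, Limits.Sigma.ι U i ≫ q = g i := fun i => Limits.Sigma.ι_desc _ _
  haveI : Etale q := IsZariskiLocalAtSource.sigmaDesc fun i => inferInstance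
  haveI : Surjective q := ⟨fun x => by
    obtain ⟨i, u, hu⟩ := hsurj x
    exact ⟨Limits.Sigma.ι U i u, (congrArg (fun m : U i ⟶ X => m u) (hq i)).trans hu⟩⟩
  have e : q ≫ f = Limits.Sigma.desc (fun i => g i ≫ f) := Limits.Sigma.hom_ext _ _ fun i => by
    rw [Limits.Sigma.ι_desc, ← Category.assoc, hq]
  haveI : Flat (q ≫ f) := by
    rw [e]; exact IsZariskiLocalAtSource.sigmaDesc fun i => (h' i).1
  haveI : LocallyOfFinitePresentation (q ≫ f) := by
    rw [e]; exact IsZariskiLocalAtSource.sigmaDesc fun i => (h' i).2.1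
  haveI : Flat f := FlatLocal.flat_of_comp q f
  haveI : LocallyOfFinitePresentation f := Groth.Agent.S0114.result q f
  refine (Clifford24.Nodal.isNodalFamily_iff f).2 ⟨inferInstance, inferInstance, fun x => ?_⟩
  obtain ⟨i, u, rfl⟩ := hsurj x
  exact ((h' i).2.2 u).image (g i)

end Groth.Agent.S1593
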