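import Groth.Statements.S15931
import Groth.Agent.BMLib.Exact

set_option autoImplicit false
universe u
open CategoryTheory AlgebraicGeometry Opposite
open BMCoh

namespace Groth.Agent.S15931

/-- Let T be a twisted Borel–Moore cohomology theory with coefficients in A (a full subcategory of
R-modules containing R) on a constructible class V of Noetherian schemes, X an object of V and j a
natural number; H^i(F_kX, M(n)) denotes the colimit of H^i(U, M(n)) over the open subschemes U of X
containing every point of codimension at most k (codimension of a point = dim X minus the dimension
of its closure), and H^i(x, M(n)) the group of a point x (colimit over the nonempty opens of its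
reduced closure). A push-forward datum for X at level j consists of maps ι_x : H^i(x, M(n)) →
H^{i+2j}(F_jX, M(n+j)) for every point x of codimension j, every coefficient module M and all i, n,
such that for every open U of X containing the points of codimension at most j (of the dimension of
X), every nonempty open W of the reduced closure of x (of its dimension) and every proper morphism f
: W → U compatible with the two inclusions into X, the composite H^i(W) → H^i(x) → H^{i+2j}(F_jX) is
the push-forward along f followed by the canonical map from H^{i+2j}(U). There is at most one such
datum. -/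
theorem result (V : ObjectProperty Scheme.{u}) [BMCoh.IsConstructible V] (R : Type u) [CommRing R] (A : BMCoh.Coefs R) (T : BMCoh.TheoryOn V R A) (X : BMCoh.Obj V) (j : ℕ) : Subsingleton (T.PushData X j) := by
  classical
  refine ⟨fun P P' => ?_⟩
  have key : ∀ (x : X.cdPt j) (M : A.Cat) (i n i' n' : ℤ) (hi : i' = i + 2 * (j : ℤ))
      (hn : n' = n + (j : ℤ)) (a : T.ptGp X x.1 M i n),
      (P.cpt x M i n i' n' hi hn).hom a = (P'.cpt x M i n i' n' hi hn).hom a := by
    intro x M i n i' n' hi hn a
    obtain ⟨Y, -, hY, h, b, hb⟩ := Groth.Agent.BMLib.exists_glue T.toPreTheory M i n
      ({x} : Finset (X.cdPt j)) ⟨x, Finset.mem_singleton_self x⟩ (Y₀ := ⊤) (fun _ _ => trivial)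
      (Function.update (fun z : X.cdPt j => (0 : T.ptGp X z.1 M i n)) x a)
    have hb' := hb x (Finset.mem_singleton_self x)
    rw [Function.update_self] at hb'
    have hc := h.relCodim_zObj
    rw [← hb', Groth.Agent.BMLib.push_cpt_germ P h hY hi hn (by omega) (by omega),
      Groth.Agent.BMLib.push_cpt_germ P' h hY hi hn (by omega) (by omega)]
  obtain ⟨c, _⟩ := P
  obtain ⟨c', _⟩ := P'
  obtain rfl : c = c' := by
    funext x M i n i' n' hi hn
    exact ModuleCat.hom_ext (LinearMap.ext fun a => key x M i n i' n' hi hn a)
  rfl

end Groth.Agent.S15931
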