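import Groth.Statements.S15932
import Groth.Agent.BMLib.Exact

set_option autoImplicit false
universe u
open CategoryTheory AlgebraicGeometry Opposite
open BMCoh

namespace Groth.Agent.S15932

/-- Let T be a twisted Borel–Moore cohomology theory with coefficients in A (a full subcategory of
R-modules containing R) on a constructible class V of Noetherian schemes, X an object of V and j a
natural number; H^i(F_kX, M(n)) denotes the colimit of H^i(U, M(n)) over the open subschemes U of X
containing every point of codimension at most k (codimension of a point = dim X minus the dimension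
of its closure), and H^i(x, M(n)) the group of a point x (colimit over the nonempty opens of its
reduced closure). A residue datum for X at level j consists of maps ∂_x : H^i(F_jX, M(n)) →
H^{i'}(x, M(n')), (i', n') = (i + 1 − 2(j+1), n − (j+1)), for every point x of codimension j + 1,
every coefficient module M and all i, n, each class having only finitely many nonzero ∂_x, such
that: for every object Y with a morphism of V into X, every decomposition of Y into a closed part Z
and an open complement U' of the dimension of Y, every nonempty open W of the reduced closure of x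
(of its dimension) with a morphism of V into Z over X, and every open U of X containing the points
of codimension at most j (of the dimension of X) with a morphism of V into U' over X, the composite
H^i(U') → H^i(U) → H^i(F_jX) → H^{i'}(x) equals the residue map of the decomposition followed by
restriction to W and the canonical map H^{i'}(W) → H^{i'}(x). There is at most one such datum. -/
theorem result (V : ObjectProperty Scheme.{u}) [BMCoh.IsConstructible V] (R : Type u) [CommRing R] (A : BMCoh.Coefs R) (T : BMCoh.TheoryOn V R A) (X : BMCoh.Obj V) (j : ℕ) : Subsingleton (T.ResData X j) := by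
  classical
  refine ⟨fun Q Q' => ?_⟩
  have key : ∀ (x : X.cdPt (j + 1)) (M : A.Cat) (i n i' n' : ℤ)
      (hi : i' = i + 1 - 2 * ((j : ℤ) + 1)) (hn : n' = n - ((j : ℤ) + 1))
      (a : T.fjGp X j M i n),
      (Q.cpt x M i n i' n' hi hn).hom a = (Q'.cpt x M i n i' n' hi hn).hom a := by
    intro x M i n i' n' hi hn a
    obtain ⟨U, hU, y, rfl⟩ := Groth.Agent.BMLib.exists_cls T.toPreTheory M i n a
    by_cases hx : x.1 ∈ U
    · rw [Groth.Agent.BMLib.res_cpt_cls_eq_zero Q hU hi hn hx y,
        Groth.Agent.BMLib.res_cpt_cls_eq_zero Q' hU hi hn hx y]
    rcases Groth.Agent.BMLib.exists_good hU (Y₀ := ⊤) (fun _ _ => trivial) with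
      hU1 | ⟨s, Y, -, hY, h, hs, hcU⟩
    · exact absurd (hU1 x.1 x.2.le) hx
    · have hYj := BMCoh.containsFj_mono X (Nat.le_succ j) Y hY
      have hd := Groth.Agent.BMLib.dim_inf hU hYj
      have hUY : BMCoh.ContainsFj X j (U ⊓ Y) := fun z hz => ⟨hU z hz, hYj z hz⟩
      have hdU := (Groth.Agent.BMLib.dim_eq_of_containsFj X hUY).trans
        (Groth.Agent.BMLib.dim_eq_of_containsFj X hU).symm
      have hc : (h.decomp hcU hd).codim = ((j + 1 : ℕ) : ℤ) := h.decomp_codim hcU hd
      rw [← Groth.Agent.BMLib.cls_pull T.toPreTheory M i n (inf_le_left : U ⊓ Y ≤ U) hU hUY hdU y,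
        Groth.Agent.BMLib.res_cpt_cls Q h hcU hd hUY hi hn (by omega) (by omega) ((hs x).2 hx),
        Groth.Agent.BMLib.res_cpt_cls Q' h hcU hd hUY hi hn (by omega) (by omega) ((hs x).2 hx)]
  obtain ⟨c, _, _⟩ := Q
  obtain ⟨c', _, _⟩ := Q'
  obtain rfl : c = c' := by
    funext x M i n i' n' hi hn
    exact ModuleCat.hom_ext (LinearMap.ext fun a => key x M i n i' n' hi hn a)
  rfl

end Groth.Agent.S15932
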