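import Groth.Statements.S15937
import Groth.Agent.DefSp24.CompScheme

-- import your own Groth.Agent.* helpers here

set_option autoImplicit false
universe u
open CategoryTheory CategoryTheory.Limits AlgebraicGeometry
open IntTh

set_option backward.isDefEq.respectTransparency.types false
set_option backward.isDefEq.respectTransparency.types false
namespace Groth.Agent.S15937

/-- Let X ⟶ S, Y ⟶ S and Z ⟶ S be locally projective, flat, surjective and locally of finite
presentation, with fibres of local dimension n, n − c and n − c − c′ at every point respectively (c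
+ c′ ≤ n), where i : Y ⟶ X and i′ : Z ⟶ Y are closed immersions over S that are regular of constant
codimensions c and c′ (locally cut out by regular sequences of those lengths). Let b′ : M′ ⟶ P¹_Y be
a blowing-up of P¹_Y in Z × {∞} and b : M ⟶ P¹_X a blowing-up of P¹_X in the image of Z × {∞} (the
deformations to the normal cone of i′ and of i′ followed by i), both given through the universal
property. Then every morphism j : M′ ⟶ M whose composite with b equals b′ followed by the morphism
P¹_Y ⟶ P¹_X induced by i (there is exactly one such j) is a closed immersion and a regular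
immersion, locally cut out by a regular sequence. -/
theorem result
    {S X Y Z M M' : Scheme.{u}} (f : X ⟶ S) (n c c' : ℕ) (hc : c + c' ≤ n)
    (hfproj : RedSub.IsLocallyProjective (Over.mk f))
    [Flat f] [Surjective f] [LocallyOfFinitePresentation f]
    (hfdim : ∀ x : ↥X, FlatMor.fibreDimAt f x = n)
    (i : Y ⟶ X) [IsClosedImmersion i]
    (hi : RegImm.IsRegularImmersionOfCodim RegImm.Kind.regular c i)
    (hgproj : RedSub.IsLocallyProjective (Over.mk (i ≫ f)))
    [Flat (i ≫ f)] [Surjective (i ≫ f)] [LocallyOfFinitePresentation (i ≫ f)]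
    (hgdim : ∀ y : ↥Y, FlatMor.fibreDimAt (i ≫ f) y = ((n - c : ℕ) : WithBot ℕ∞))
    (i' : Z ⟶ Y) [IsClosedImmersion i']
    (hi' : RegImm.IsRegularImmersionOfCodim RegImm.Kind.regular c' i')
    (hhproj : RedSub.IsLocallyProjective (Over.mk (i' ≫ i ≫ f)))
    [Flat (i' ≫ i ≫ f)] [Surjective (i' ≫ i ≫ f)] [LocallyOfFinitePresentation (i' ≫ i ≫ f)]
    (hhdim : ∀ z : ↥Z, FlatMor.fibreDimAt (i' ≫ i ≫ f) z = ((n - c - c' : ℕ) : WithBot ℕ∞))
    (b' : M' ⟶ CohB1.ProjSpaceOver 1 Y) (hb' : BlowUp.IsBlowUp b' (i' ≫ P1.sect Y 1).ker)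
    (b : M ⟶ CohB1.ProjSpaceOver 1 X) (hb : BlowUp.IsBlowUp b (i' ≫ i ≫ P1.sect X 1).ker)
    (j : M' ⟶ M) (hj : j ≫ b = b' ≫ P1.toP1 i) :
    IsClosedImmersion j ∧ RegImm.IsRegularImmersion RegImm.Kind.regular j := by
  exact Groth.Agent.DefSp24.isRegularImmersion_map i i' hi hi' b'
    (show BlowUp.IsBlowUp b' (KRR28.centre i').ker from hb') b
    (show BlowUp.IsBlowUp b (KRR28.centre (i' ≫ i)).ker by
      unfold KRR28.centre; rw [Category.assoc]; exact hb) j hj

end Groth.Agent.S15937
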