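import Groth.Statements.S15938
import Groth.Agent.S15936
import Groth.Agent.FlatMor12.ScalarFibres
import Groth.Agent.AbSchLib.GlobalSections
import Groth.Agent.Desc19b.QDesc.EffectiveIso
import Groth.Agent.PicLib.PullbackGen
import Groth.Agent.AbSchLib.SmoothReduced
import Groth.Agent.KRRPBLib.Basic
-- import your own Groth.Agent.* helpers here

set_option autoImplicit false
universe u
open CategoryTheory CategoryTheory.Limits AlgebraicGeometry
open Canon

set_option backward.isDefEq.respectTransparency false
set_option backward.isDefEq.respectTransparency.types false
open CategoryTheory.Limits Opposite TopologicalSpace Groth.Agent.Coherent Groth.Agent.PicLib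

namespace Groth.Agent.S15938

/-- For `O = f_* O` the unit at an invertible module is an isomorphism. -/
theorem isIso_unit_of_bijective_app {X Y : Scheme.{u}} (f : X ⟶ Y) (hf : ∀ U : Y.Opens, Function.Bijective (f.app U))
    {L : Y.Modules} (hL : PicF.IsInvertible L) :
    IsIso ((Scheme.Modules.pullbackPushforwardAdjunction f).unit.app L) :=
  Scheme.Modules.Hom.isIso_iff_isIso_app.mpr fun V =>
    (ConcreteCategory.isIso_iff_bijective _).mpr (bijective_pullSec f hf hL V)

/-- Let S be a locally Noetherian scheme, f : X ⟶ S locally projective and smooth of relative dimension
n with non-empty geometrically connected fibres, ω an n-th exterior power of the relative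
differentials (the relative canonical sheaf K_{X/S}), and m ≥ 1 such that the evaluation map f^* f_*
K^{⊗m} ⟶ K^{⊗m} is an isomorphism. Then the formation of f_* K^{⊗m} commutes with base change: for
every morphism g : S′ ⟶ S with S′ locally Noetherian, writing f′ : X ×_S S′ ⟶ S′ and g′ : X ×_S S′ ⟶
X for the projections, the base-change morphism g^* f_* K^{⊗m} ⟶ f′_* g′^* K^{⊗m} (adjoint to g′^*
of the evaluation map, through the canonical identifications of iterated pullbacks) is an
isomorphism. (The published statement has f projective and smooth, of possibly varying relative
dimension; this row takes f locally projective of constant relative dimension n and base changes by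
locally Noetherian schemes.) -/
theorem result
    {X S : Scheme.{u}} [IsLocallyNoetherian S] (f : X ⟶ S)
    (hproj : RedSub.IsLocallyProjective (Over.mk f))
    (n : ℕ) [SmoothOfRelativeDimension n f] [GeometricallyConnected f]
    (ω : X.Modules) (hω : Canon.IsTopDiff f n ω) (m : ℕ) (hm : 1 ≤ m)
    (hev : IsIso ((Scheme.Modules.pullbackPushforwardAdjunction f).counit.app (CohB1.tensorPow ω m)))
    {S' : Scheme.{u}} [IsLocallyNoetherian S'] (g : S' ⟶ S) :
    IsIso (((Scheme.Modules.pullbackPushforwardAdjunction (pullback.snd f g)).homEquiv _ _)
      ((Scheme.Modules.pullbackComp (pullback.snd f g) g).hom.app _ ≫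
        (Scheme.Modules.pullbackCongr (pullback.condition (f := f) (g := g))).inv.app _ ≫
        (Scheme.Modules.pullbackComp (pullback.fst f g) f).inv.app _ ≫
        (Scheme.Modules.pullback (pullback.fst f g)).map
          ((Scheme.Modules.pullbackPushforwardAdjunction f).counit.app (CohB1.tensorPow ω m)))) := by
  have hM := Groth.Agent.S15936.result f hproj n ω hω m hm hev
  haveI := Groth.Agent.Canon15.isProper_of_isLocallyProjective f hproj
  haveI : Smooth f := SmoothOfRelativeDimension.smooth n f
  haveI : IsProper (pullback.snd f g) := MorphismProperty.pullback_snd _ _ inferInstance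
  haveI : Smooth (pullback.snd f g) := MorphismProperty.pullback_snd _ _ inferInstance
  haveI : GeometricallyConnected (pullback.snd f g) := MorphismProperty.pullback_snd _ _ inferInstance
  have hfib : ∀ s : S', IsIso ((pullback.snd f g).fiberToSpecResidueField s).appTop := fun s => by
    haveI : IsProper ((pullback.snd f g).fiberToSpecResidueField s) := MorphismProperty.pullback_snd _ _ inferInstance
    haveI : Smooth ((pullback.snd f g).fiberToSpecResidueField s) := MorphismProperty.pullback_snd _ _ inferInstance
    haveI : GeometricallyConnected ((pullback.snd f g).fiberToSpecResidueField s) :=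
      MorphismProperty.pullback_snd _ _ inferInstance
    haveI : GeometricallyReduced ((pullback.snd f g).fiberToSpecResidueField s) :=
      Groth.Agent.AbSchLib.geometricallyReduced_of_smooth _
    exact (ConcreteCategory.isIso_iff_bijective _).2
      (Groth.Agent.AbSchLib.bijective_appTop_of_field (S'.residueField s) ((pullback.snd f g).fiberToSpecResidueField s))
  have hb : ∀ U : S'.Opens, Function.Bijective ((pullback.snd f g).app U) := fun U =>
    haveI := Groth.Agent.FlatMor12.ScalarFibres.isIso_app (pullback.snd f g) hfib U
    ConcreteCategory.bijective_of_isIso _
  haveI := isIso_unit_of_bijective_app (pullback.snd f g) hb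
    (PicLoc.isInvertible_pullback g (Groth.Agent.KRRPBLib.isInvertible_of_rankOne hM))
  rw [Adjunction.homEquiv_unit]
  haveI := hev
  infer_instance

end Groth.Agent.S15938
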