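import Groth.Statements.S15939
import Mathlib
import Groth.Prelude

set_option linter.all false

set_option autoImplicit false
universe u
open CAlg


namespace Groth.Agent.S15939

section
variable {κ A : Type u} [Field κ] [CommRing A] [Algebra κ A]

theorem adjoin_eq_top_of_simple (h : IsSimpleOrder (Subalgebra κ A)) {x : A} (hx : x ∉ (algebraMap κ A).range) :
    Algebra.adjoin κ {x} = ⊤ := by
  refine (h.eq_bot_or_eq_top _).resolve_left fun hb => hx ?_
  have := Algebra.subset_adjoin (R := κ) (Set.mem_singleton x)
  rw [hb] at this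
  exact Algebra.mem_bot.1 this

theorem surj_of_simple (h : IsSimpleOrder (Subalgebra κ A)) {B : Type*} [CommRing B] [Algebra κ B] (f : B →ₐ[κ] A)
    {x : A} (hx : x ∉ (algebraMap κ A).range) (hmem : ∃ b, f b = x) : Function.Surjective f := by
  rw [← AlgHom.range_eq_top, eq_top_iff, ← adjoin_eq_top_of_simple h hx, Algebra.adjoin_le_iff, Set.singleton_subset_iff]
  exact hmem

theorem field_case {K : Type u} [Field K] [Algebra κ K] [FiniteDimensional κ K] (h : IsSimpleOrder (Subalgebra κ K)) :
    Algebra.IsSeparable κ K ∨ ∃ (p : ℕ) (a : κ), p.Prime ∧ CharP κ p ∧ (∀ b : κ, b ^ p ≠ a) ∧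
      Nonempty (K ≃ₐ[κ] AdjoinRoot (Polynomial.X ^ p - Polynomial.C a)) := by
  classical
  rcases h.eq_bot_or_eq_top (separableClosure κ K).toSubalgebra with hb | ht
  swap
  · exact Or.inl ((separableClosure.eq_top_iff (F := κ) (E := K)).1
      (IntermediateField.toSubalgebra_injective (ht.trans (IntermediateField.top_toSubalgebra).symm)))
  have hpi : IsPurelyInseparable κ K := separableClosure.eq_bot_iff.1
    (IntermediateField.toSubalgebra_injective (hb.trans (IntermediateField.bot_toSubalgebra).symm))
  obtain ⟨q, hq⟩ := ExpChar.exists κ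
  cases hq with
  | zero =>
    left
    infer_instance
  | prime hp =>
    right
    rename_i hchar
    haveI := Fact.mk hp
    haveI : CharP K q := charP_of_injective_algebraMap (algebraMap κ K).injective q
    have hne : ∃ x : K, x ∉ (algebraMap κ K).range := by
      by_contra hall
      push Not at hall
      haveI := h.toNontrivial
      exact bot_ne_top (α := Subalgebra κ K) (eq_top_iff.2 fun x _ => Algebra.mem_bot.2 (hall x))
    obtain ⟨x, hx⟩ := hne
    have hex := (isPurelyInseparable_iff_pow_mem κ q).1 hpi x
    have hn := Nat.find_spec hex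
    obtain ⟨m, hm⟩ : ∃ m, Nat.find hex = m + 1 := Nat.exists_eq_succ_of_ne_zero fun h0 => by
      rw [h0] at hn; simp at hn; exact hx (by simpa using hn)
    let y := x ^ q ^ m
    have hy : y ∉ (algebraMap κ K).range := Nat.find_min hex (by omega)
    rw [hm, pow_succ, pow_mul] at hn
    obtain ⟨a, ha⟩ := hn
    have hnp : ∀ b : κ, b ^ q ≠ a := fun b hb' => by
      apply hy
      refine ⟨b, frobenius_inj K q ?_⟩
      simp only [frobenius_def, ← map_pow, hb', ha, y]
    refine ⟨q, a, hp, hchar, hnp, ?_⟩
    haveI := Fact.mk (X_pow_sub_C_irreducible_of_prime hp hnp)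
    let f : AdjoinRoot (Polynomial.X ^ q - Polynomial.C a) →ₐ[κ] K :=
      AdjoinRoot.liftAlgHom _ (Algebra.ofId κ K) y (by simp [ha, y])
    exact ⟨(AlgEquiv.ofBijective f ⟨f.toRingHom.injective, surj_of_simple h f hy ⟨AdjoinRoot.root _, by simp [f]⟩⟩).symm⟩
end

open Polynomial in
/-- Let κ be a field and A a commutative κ-algebra whose only κ-subalgebras are the image of κ and A
itself, these two being different. Then A is finite-dimensional over κ, and A is isomorphic as a
κ-algebra to the dual numbers over κ, or to κ × κ, or A is a field which is either separable over κ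
or isomorphic to κ[X]/(X^p - a) with p the (positive) characteristic of κ and a an element of κ that
is not a p-th power. (The published statement also records that these four cases exclude one
another; that part is not restated.) -/
theorem result (κ A : Type u) [Field κ] [CommRing A] [Algebra κ A]
    (h : IsSimpleOrder (Subalgebra κ A)) :
    FiniteDimensional κ A ∧
    (Nonempty (A ≃ₐ[κ] DualNumber κ) ∨ Nonempty (A ≃ₐ[κ] (κ × κ)) ∨
      (IsField A ∧ (Algebra.IsSeparable κ A ∨
        ∃ (p : ℕ) (a : κ), p.Prime ∧ CharP κ p ∧ (∀ b : κ, b ^ p ≠ a) ∧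
          Nonempty (A ≃ₐ[κ] AdjoinRoot (X ^ p - C a))))) := by
  classical
  haveI := h.toNontrivial
  haveI hnt : Nontrivial A := by
    by_contra hn
    rw [not_nontrivial_iff_subsingleton] at hn
    exact bot_ne_top (α := Subalgebra κ A) (eq_top_iff.2 fun x _ => by rw [Subsingleton.elim x 0]; exact zero_mem _)
  obtain ⟨x, hx⟩ : ∃ x : A, x ∉ (algebraMap κ A).range := by
    by_contra hall
    push Not at hall
    exact bot_ne_top (α := Subalgebra κ A) (eq_top_iff.2 fun x _ => Algebra.mem_bot.2 (hall x))
  have hinj : Function.Injective (algebraMap κ A) := (algebraMap κ A).injective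
  have hint : IsIntegral κ x := by
    rw [← isAlgebraic_iff_isIntegral]
    by_contra htr
    have hpinj : Function.Injective (Polynomial.aeval (R := κ) x) := transcendental_iff_injective.1 htr
    have hx2 : x ^ 2 ∉ (algebraMap κ A).range := by
      rintro ⟨c, hc⟩
      have h2 : (Polynomial.C c : Polynomial κ) = Polynomial.X ^ 2 := hpinj (by simp [hc])
      simpa using congrArg Polynomial.natDegree h2
    have hmem : x ∈ Algebra.adjoin κ {x ^ 2} := by rw [adjoin_eq_top_of_simple h hx2]; trivial
    rw [Algebra.adjoin_singleton_eq_range_aeval] at hmem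
    obtain ⟨P, hP⟩ := hmem
    have h2 : Polynomial.expand κ 2 P = Polynomial.X := hpinj (by
      show Polynomial.aeval x _ = Polynomial.aeval x _
      rw [Polynomial.expand_aeval, Polynomial.aeval_X]; exact hP)
    have := congrArg Polynomial.natDegree h2
    rw [Polynomial.natDegree_expand, Polynomial.natDegree_X] at this
    omega
  haveI hfd : FiniteDimensional κ A := by
    have h1 := hint.fg_adjoin_singleton
    rw [adjoin_eq_top_of_simple h hx, Algebra.top_toSubmodule] at h1
    exact ⟨h1⟩
  refine ⟨hfd, ?_⟩
  by_cases hred : IsReduced A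
  swap
  · left
    obtain ⟨y, hy, hy0⟩ : ∃ y : A, y * y = 0 ∧ y ≠ 0 := by
      by_contra hall
      push Not at hall
      refine hred ((isReduced_iff_pow_one_lt 2 one_lt_two).2 fun z hz => hall z (by rwa [sq] at hz))
    have hyn : y ∉ (algebraMap κ A).range := by
      rintro ⟨c, rfl⟩
      rw [← map_mul, map_eq_zero_iff _ hinj, mul_self_eq_zero] at hy
      exact hy0 (by rw [hy, map_zero])
    let f : DualNumber κ →ₐ[κ] A := DualNumber.lift ⟨(Algebra.ofId κ A, y), hy, fun c => Commute.all _ _⟩
    refine ⟨(AlgEquiv.ofBijective f ⟨(injective_iff_map_eq_zero f).2 fun z hz => ?_, surj_of_simple h f hyn ⟨DualNumber.eps, by simp [f]⟩⟩).symm⟩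
    have hz' : algebraMap κ A z.fst + algebraMap κ A z.snd * y = 0 := by
      rw [← hz]; simp [f, DualNumber.lift_apply_apply]
    have h1 : z.snd = 0 := by
      by_contra hs
      apply hyn
      refine ⟨-(z.snd⁻¹ * z.fst), ?_⟩
      have : algebraMap κ A z.snd⁻¹ * algebraMap κ A z.snd = 1 := by rw [← map_mul, inv_mul_cancel₀ hs, map_one]
      rw [map_neg, map_mul]
      linear_combination y * this - algebraMap κ A z.snd⁻¹ * hz'
    rw [h1, map_zero, zero_mul, add_zero, map_eq_zero_iff _ hinj] at hz'
    exact TrivSqZeroExt.ext hz' h1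
  by_cases hf : IsField A
  · right; right
    refine ⟨hf, ?_⟩
    letI := hf.toField
    exact field_case h
  · right; left
    obtain ⟨z, hz0, hznu⟩ : ∃ z : A, z ≠ 0 ∧ ¬ IsUnit z := by
      obtain ⟨z, hz, hz'⟩ := Ring.exists_not_isUnit_of_not_isField hf
      exact ⟨z, hz, hz'⟩
    haveI : IsArtinianRing A := IsArtinianRing.of_finite κ A
    obtain ⟨n, w, hw⟩ := IsArtinian.exists_pow_succ_smul_dvd z (1 : A)
    simp only [smul_eq_mul, mul_one, Nat.succ_eq_add_one] at hw
    have hz2 : z = z * z * w := by
      have hnil : IsNilpotent (z - z * z * w) := by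
        refine ⟨n + 1, ?_⟩
        rw [show z - z * z * w = z * (1 - z * w) by ring, mul_pow, pow_succ (1 - z * w) n]
        have : z ^ (n + 1) * (1 - z * w) = 0 := by linear_combination z * hw.symm
        linear_combination (1 - z * w) ^ n * this
      exact sub_eq_zero.1 hnil.eq_zero
    let e := z * w
    have he : e * e = e := by
      show z * w * (z * w) = z * w
      linear_combination -w * hz2
    have hen : e ∉ (algebraMap κ A).range := by
      rintro ⟨c, hc⟩
      rw [← hc, ← map_mul] at he
      rcases (mul_eq_left₀ (a := c) (b := c)) with hcc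
      by_cases hc0 : c = 0
      · have he0 : z * w = 0 := by rw [show z * w = e from rfl, ← hc, hc0, map_zero]
        exact hz0 (by rw [hz2, mul_assoc, he0, mul_zero])
      · have hc1 : c = 1 := (hcc hc0).1 (hinj he)
        exact hznu (IsUnit.of_mul_eq_one w (show z * w = 1 by rw [show z * w = e from rfl, ← hc, hc1, map_one]))
    have hneq : ∀ c d : κ, algebraMap κ A c * e + algebraMap κ A d * (1 - e) = 0 → c = 0 ∧ d = 0 := by
      intro c d hcd
      have h1 : algebraMap κ A (c - d) * e = -algebraMap κ A d := by rw [map_sub]; linear_combination hcd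
      have hcd' : c = d := by
        by_contra hne
        refine hen ⟨-((c - d)⁻¹ * d), ?_⟩
        have h2 : algebraMap κ A (c - d)⁻¹ * algebraMap κ A (c - d) = 1 := by rw [← map_mul, inv_mul_cancel₀ (sub_ne_zero.2 hne), map_one]
        rw [map_neg, map_mul]
        linear_combination e * h2 - algebraMap κ A (c - d)⁻¹ * h1
      subst hcd'
      rw [sub_self, map_zero, zero_mul, eq_comm, neg_eq_zero, map_eq_zero_iff _ hinj] at h1
      exact ⟨h1, h1⟩
    let f : κ × κ →ₐ[κ] A := AlgHom.mk
      { toFun := fun c => algebraMap κ A c.1 * e + algebraMap κ A c.2 * (1 - e)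
        map_one' := by simp
        map_zero' := by simp
        map_add' := fun c d => by simp only [Prod.fst_add, Prod.snd_add, map_add]; ring
        map_mul' := fun c d => by
          simp only [Prod.fst_mul, Prod.snd_mul, map_mul]
          linear_combination (algebraMap κ A c.1 * algebraMap κ A d.2 + algebraMap κ A c.2 * algebraMap κ A d.1 -
            algebraMap κ A c.1 * algebraMap κ A d.1 - algebraMap κ A c.2 * algebraMap κ A d.2) * he }
      (fun c => by show algebraMap κ A c * e + algebraMap κ A c * (1 - e) = _; ring)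
    exact ⟨(AlgEquiv.ofBijective f ⟨(injective_iff_map_eq_zero f).2 fun c hc => Prod.ext (hneq _ _ hc).1 (hneq _ _ hc).2,
      surj_of_simple h f hen ⟨(1, 0), by simp [f]⟩⟩).symm⟩

end Groth.Agent.S15939
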