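import Groth.Statements.S1594
import Groth.Agent.Clifford24.Nodal.Crit
import Groth.Agent.AlgSpLib.FppfLocal
import Mathlib.RingTheory.Finiteness.Descent

set_option autoImplicit false
universe u
open CategoryTheory CategoryTheory.Limits AlgebraicGeometry
open Curves

namespace Groth.Agent.S1594

/-- (2) implies (1), for a covering by one flat quasi-compact surjective morphism: let f : X → S and g :
S' → S flat, quasi-compact and surjective. If the base change X ×_S S' → S' is at-worst-nodal of
relative dimension one then so is f. -/
theorem result {X S S' : Scheme.{u}} (f : X ⟶ S) (g : S' ⟶ S) [Flat g] [QuasiCompact g] [Surjective g]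
    (h : Curv2.IsNodalFamily (pullback.snd f g)) : Curv2.IsNodalFamily f := by
  obtain ⟨h1, h2, h3⟩ := (Clifford24.Nodal.isNodalFamily_iff _).1 h
  haveI hflat : MorphismProperty.DescendsAlong @Flat (@Surjective ⊓ @Flat ⊓ @QuasiCompact) :=
    HasRingHomProperty.descendsAlong_flat AlgSpLib.flat_codescendsAlong
  haveI hlfp : MorphismProperty.DescendsAlong @LocallyOfFinitePresentation (@Surjective ⊓ @Flat ⊓ @QuasiCompact) :=
    HasRingHomProperty.descendsAlong_flat RingHom.FinitePresentation.codescendsAlong_faithfullyFlat
  have hg : (@Surjective ⊓ @Flat ⊓ @QuasiCompact : MorphismProperty Scheme.{u}) g :=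
    ⟨⟨inferInstance, inferInstance⟩, inferInstance⟩
  haveI : Flat f := MorphismProperty.of_isPullback_of_descendsAlong (IsPullback.of_hasPullback f g).flip hg h1
  haveI : LocallyOfFinitePresentation f :=
    MorphismProperty.of_isPullback_of_descendsAlong (IsPullback.of_hasPullback f g).flip hg h2
  refine (Clifford24.Nodal.isNodalFamily_iff f).2 ⟨inferInstance, inferInstance, fun x => ?_⟩
  obtain ⟨x', rfl⟩ := (MorphismProperty.pullback_fst (P := @Surjective) f g ‹Surjective g›).surj x
  exact Clifford24.Nodal.hasChart_of_baseChange f g x' (h3 x')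

end Groth.Agent.S1594
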