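import Groth.Prelude.Def_HTop2
import Groth.Agent.HTop16.SN

set_option autoImplicit false
universe u
namespace HTop
end HTop
open HTop

namespace Groth.Agent.S15940

open CategoryTheory AlgebraicGeometry in
/-- Let ν : X' → X be a seminormalization of the scheme X, that is, a universal homeomorphism inducing
isomorphisms on all residue fields which is initial among such morphisms with target X. If X is
seminormal then ν is an isomorphism. (The published statement is the equivalence: ν is an
isomorphism if and only if X is seminormal; the other direction rests on the source of a
seminormalization being seminormal, which the predicate used here does not record, and is not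
restated.) -/
theorem result {X' X : Scheme.{u}} (ν : X' ⟶ X)
    (hν : HTop.IsSeminormalization ν) (hX : HTop.IsSeminormal X) : IsIso ν := by
  obtain ⟨s, hs⟩ := HTop16.exists_section hX ν hν.1.1 hν.1.2
  exact ⟨s, (hν.2 X' ν hν.1.1 hν.1.2).unique (by rw [Category.assoc, hs, Category.comp_id])
    (Category.id_comp _), hs⟩

end Groth.Agent.S15940
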