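import Groth.Statements.S15942
import Mathlib
import Groth.Agent.EtLib9.StalkSpread

set_option autoImplicit false
set_option backward.isDefEq.respectTransparency false
universe u
open Neron
open CategoryTheory CategoryTheory.Limits AlgebraicGeometry

namespace Groth.Agent.S15942

open CategoryTheory AlgebraicGeometry in
/-- Let S be a Dedekind scheme (integral, Noetherian, separated, of dimension one, with regular local
rings), K its function field with generic point (genericPoint S) : Spec K → S, and G → S a smooth separated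
S-scheme. Suppose that for every closed point p of S the base change G_p = G ×_S Spec O_{S,p} is a
Néron lft-model of its generic fibre over Spec O_{S,p}: for every smooth scheme Y over Spec O_{S,p},
restricting to generic fibres is a bijection from morphisms Y → G_p over Spec O_{S,p} onto morphisms
of generic fibres over K. Then G is a Néron lft-model of its generic fibre over S: for every smooth
S-scheme Y, restriction along (genericPoint S) is a bijection from S-morphisms Y → G onto K-morphisms Y_η → G_η.
(The published statement is for a smooth separated group scheme; the group structure plays no part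
in the property or in its proof and is not assumed here.) -/
theorem result
    {S : Scheme.{u}} [IsIntegral S] [IsNoetherian S] [S.IsSeparated]
    (hreg : ∀ s : S, IsRegularLocalRing (S.presheaf.stalk s)) (hdim : topologicalKrullDim S = 1)
    (G : Over S) [Smooth G.hom] [IsSeparated G.hom]
    (hloc : ∀ p : S, IsClosed ({p} : Set S) →
      ∀ Y : Over (Spec (S.presheaf.stalk p)), Smooth Y.hom →
        Function.Bijective (fun g : Y ⟶ (Over.pullback (S.fromSpecStalk p)).obj G =>
          (Over.pullback (Spec.map (S.presheaf.stalkSpecializes (genericPoint_specializes p)))).map g)) :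
    ∀ Y : Over S, Smooth Y.hom →
      Function.Bijective (fun g : Y ⟶ G => (Over.pullback (S.fromSpecStalk (genericPoint S))).map g) := by
  classical
  haveI : LocallyOfFiniteType G.hom := inferInstance
  have htj : ∀ s : S, (Spec.map (S.presheaf.stalkSpecializes (genericPoint_specializes s))) ≫ (S.fromSpecStalk s) = (S.fromSpecStalk (genericPoint S)) := fun s => Scheme.SpecMap_stalkSpecializes_fromSpecStalk _
  -- points which are not closed are generic
  have hclosed : ∀ s : S, s = (genericPoint S) ∨ IsClosed ({s} : Set S) := by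
    intro s
    by_contra hs
    push Not at hs
    obtain ⟨hs1, hs2⟩ := hs
    obtain ⟨s', hs', hne⟩ : ∃ s', s ⤳ s' ∧ s' ≠ s := by
      by_contra h
      push Not at h
      refine hs2 (closure_eq_iff_isClosed.1 (Set.Subset.antisymm ?_ subset_closure))
      exact fun s' hs' => h s' (specializes_iff_mem_closure.2 hs')
    let Z : S → TopologicalSpace.IrreducibleCloseds S := fun x =>
      ⟨closure {x}, isIrreducible_singleton.closure, isClosed_closure⟩
    have hlt : ∀ x y : S, y ⤳ x → x ≠ y → Z x < Z y := fun x y h hne' => by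
      refine lt_of_le_of_ne (closure_minimal (Set.singleton_subset_iff.2
        (specializes_iff_mem_closure.1 h)) isClosed_closure) fun he => hne' ?_
      refine (Specializes.antisymm h ?_).eq.symm
      rw [specializes_iff_mem_closure]
      have h' : closure ({x} : Set S) = closure {y} := congrArg (fun z : TopologicalSpace.IrreducibleCloseds S => (z : Set S)) he
      rw [h']
      exact subset_closure rfl
    let c : LTSeries (TopologicalSpace.IrreducibleCloseds S) :=
      ⟨2, ![Z s', Z s, Z (genericPoint S)], fun i => by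
        fin_cases i
        · exact hlt s' s hs' hne
        · exact hlt s (genericPoint S) (genericPoint_specializes s) hs1⟩
    have hc : ((2 : ℕ) : WithBot ℕ∞) ≤ topologicalKrullDim S := Order.LTSeries.length_le_krullDim c
    rw [hdim] at hc
    exact absurd (by exact_mod_cast hc : (2 : ℕ) ≤ 1) (by norm_num)
  -- uniqueness
  have hinj : ∀ W : Over S, Smooth W.hom → ∀ a b : W.left ⟶ G.left, a ≫ G.hom = W.hom → b ≫ G.hom = W.hom →
      pullback.fst W.hom ((S.fromSpecStalk (genericPoint S))) ≫ a = pullback.fst W.hom ((S.fromSpecStalk (genericPoint S))) ≫ b → a = b := by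
    intro W hW a b ha hb hab
    refine StalkSpread.hom_ext G.hom a b (ha.trans hb.symm) fun x => ?_
    suffices h : pullback.fst W.hom ((S.fromSpecStalk (W.hom x))) ≫ a = pullback.fst W.hom ((S.fromSpecStalk (W.hom x))) ≫ b by
      have h' := congrArg (fun z => pullback.lift (W.left.fromSpecStalk x) (Spec.map (W.hom.stalkMap x))
        (Scheme.SpecMap_stalkMap_fromSpecStalk W.hom).symm ≫ z) h
      simp only [← Category.assoc, pullback.lift_fst] at h'
      exact h'
    generalize W.hom x = p
    rcases hclosed p with rfl | hp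
    · exact hab
    · let a' : W ⟶ G := Over.homMk a ha
      let b' : W ⟶ G := Over.homMk b hb
      haveI := hW
      have h1 : (Over.pullback ((S.fromSpecStalk p))).map a' = (Over.pullback ((S.fromSpecStalk p))).map b' := by
        refine (hloc p hp ((Over.pullback ((S.fromSpecStalk p))).obj W) (inferInstanceAs (Smooth (pullback.snd _ _)))).1 ?_
        ext : 1
        refine pullback.hom_ext (pullback.hom_ext ?_ ?_) ?_
        · have h2 := congrArg (fun z => pullback.lift
            (pullback.fst (pullback.snd W.hom ((S.fromSpecStalk p))) ((Spec.map (S.presheaf.stalkSpecializes (genericPoint_specializes p)))) ≫ pullback.fst _ _)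
            (pullback.snd (pullback.snd W.hom ((S.fromSpecStalk p))) ((Spec.map (S.presheaf.stalkSpecializes (genericPoint_specializes p)))))
            (by rw [Category.assoc, pullback.condition, pullback.condition_assoc, htj]) ≫ z) hab
          simpa [a', b'] using h2
        · simp [a', b']
        · simp [a', b']
      have h3 := congrArg (fun z => z.left ≫ pullback.fst _ _) h1
      simpa [a', b'] using h3
  intro Y hY
  haveI := hY
  refine ⟨fun g₁ g₂ hg => Over.OverMorphism.ext (hinj Y hY g₁.left g₂.left (Over.w g₁) (Over.w g₂) ?_), fun g => ?_⟩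
  · simpa using congrArg (fun z => z.left ≫ pullback.fst _ _) hg
  -- existence over each local ring of the base
  have hext : ∀ s : S, ∃ h : pullback Y.hom ((S.fromSpecStalk s)) ⟶ G.left, h ≫ G.hom = pullback.fst _ _ ≫ Y.hom ∧
      ∀ (Q : Scheme.{u}) (q : Q ⟶ pullback Y.hom ((S.fromSpecStalk (genericPoint S)))) (q' : Q ⟶ pullback Y.hom ((S.fromSpecStalk s))),
        q' ≫ pullback.fst _ _ = q ≫ pullback.fst _ _ → q' ≫ h = q ≫ g.left ≫ pullback.fst _ _ := by
    intro p
    rcases hclosed p with rfl | hp
    · refine ⟨g.left ≫ pullback.fst _ _, ?_, fun Q q q' h => ?_⟩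
      · have hw : g.left ≫ pullback.snd G.hom ((S.fromSpecStalk (genericPoint S))) = pullback.snd Y.hom ((S.fromSpecStalk (genericPoint S))) := Over.w g
        simp only [Category.assoc, pullback.condition, reassoc_of% hw]
      · have : q' = q := by
          refine pullback.hom_ext h ?_
          rw [← cancel_mono ((S.fromSpecStalk (genericPoint S))), Category.assoc, Category.assoc, ← pullback.condition, reassoc_of% h]
        rw [this]
    · have hw : g.left ≫ pullback.snd G.hom ((S.fromSpecStalk (genericPoint S))) = pullback.snd Y.hom ((S.fromSpecStalk (genericPoint S))) := Over.w g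
      let α : pullback (pullback.snd Y.hom ((S.fromSpecStalk p))) ((Spec.map (S.presheaf.stalkSpecializes (genericPoint_specializes p)))) ⟶ pullback Y.hom ((S.fromSpecStalk (genericPoint S))) :=
        pullback.lift (pullback.fst _ _ ≫ pullback.fst _ _) (pullback.snd _ _)
          (by rw [Category.assoc, pullback.condition, pullback.condition_assoc, htj])
      let gp : (Over.pullback ((Spec.map (S.presheaf.stalkSpecializes (genericPoint_specializes p))))).obj ((Over.pullback ((S.fromSpecStalk p))).obj Y) ⟶
          (Over.pullback ((Spec.map (S.presheaf.stalkSpecializes (genericPoint_specializes p))))).obj ((Over.pullback ((S.fromSpecStalk p))).obj G) :=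
        Over.homMk (pullback.lift (pullback.lift (α ≫ g.left ≫ pullback.fst _ _) (pullback.snd _ _ ≫ (Spec.map (S.presheaf.stalkSpecializes (genericPoint_specializes p))))
          (by
            rw [Category.assoc, Category.assoc, Category.assoc, pullback.condition, reassoc_of% hw,
              htj, pullback.lift_snd_assoc]
            rfl))
          (pullback.snd _ _) (by simp)) (by simp)
      obtain ⟨h, hh⟩ := (hloc p hp ((Over.pullback ((S.fromSpecStalk p))).obj Y) (inferInstanceAs (Smooth (pullback.snd _ _)))).2 gp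
      refine ⟨h.left ≫ pullback.fst _ _, ?_, fun Q q q' hq => ?_⟩
      · have hw' : h.left ≫ pullback.snd G.hom ((S.fromSpecStalk p)) = pullback.snd Y.hom ((S.fromSpecStalk p)) := Over.w h
        simp only [Category.assoc, pullback.condition, reassoc_of% hw']
      · let q'' : Q ⟶ pullback (pullback.snd Y.hom ((S.fromSpecStalk p))) ((Spec.map (S.presheaf.stalkSpecializes (genericPoint_specializes p)))) :=
          pullback.lift q' (q ≫ pullback.snd _ _) (by
            rw [← cancel_mono ((S.fromSpecStalk p)), Category.assoc, Category.assoc, Category.assoc, htj,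
              ← pullback.condition, ← pullback.condition, reassoc_of% hq])
        have h1 := congrArg (fun z => q'' ≫ z.left ≫ pullback.fst _ _ ≫ pullback.fst _ _) hh
        have h2 : q'' ≫ α = q := by
          refine pullback.hom_ext ?_ ?_ <;> simp [q'', α, hq]
        simpa [gp, q'', reassoc_of% h2] using h1
  choose E hE1 hE2 using hext
  -- local extensions
  have hlocY : ∀ y : Y.left, ∃ (U : Y.left.Opens) (_ : y ∈ U) (f : U.toScheme ⟶ G.left),
      f ≫ G.hom = U.ι ≫ Y.hom ∧ ∀ (Q : Scheme.{u}) (q : Q ⟶ pullback Y.hom ((S.fromSpecStalk (genericPoint S)))) (k : Q ⟶ U.toScheme),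
        k ≫ U.ι = q ≫ pullback.fst _ _ → k ≫ f = q ≫ g.left ≫ pullback.fst _ _ := by
    intro y
    let l : Spec (Y.left.presheaf.stalk y) ⟶ pullback Y.hom ((S.fromSpecStalk (Y.hom y))) :=
      pullback.lift (Y.left.fromSpecStalk y) (Spec.map (Y.hom.stalkMap y))
        (Scheme.SpecMap_stalkMap_fromSpecStalk Y.hom).symm
    obtain ⟨U₀, hy₀, f, hfm, hf⟩ := StalkSpread.exists_extension Y.hom G.hom y (l ≫ E (Y.hom y))
      (by rw [Category.assoc, hE1, pullback.lift_fst_assoc])
    haveI : IsLocallyNoetherian Y.left := LocallyOfFiniteType.isLocallyNoetherian Y.hom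
    obtain ⟨V, hV, hyV, hVU⟩ := exists_isAffineOpen_mem_and_subset (x := y) (U := U₀) hy₀
    let P := pullback V.ι (pullback.fst Y.hom ((S.fromSpecStalk (genericPoint S))))
    let a : P ⟶ G.left := pullback.fst _ _ ≫ Y.left.homOfLE hVU ≫ f
    let b : P ⟶ G.left := pullback.snd _ _ ≫ g.left ≫ pullback.fst _ _
    have hw : g.left ≫ pullback.snd G.hom ((S.fromSpecStalk (genericPoint S))) = pullback.snd Y.hom ((S.fromSpecStalk (genericPoint S))) := Over.w g
    have hab : a ≫ G.hom = b ≫ G.hom := by
      simp only [a, b, Category.assoc, hf, Scheme.homOfLE_ι_assoc]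
      rw [pullback.condition (f := G.hom), reassoc_of% hw, ← pullback.condition (f := Y.hom),
        pullback.condition_assoc]
    have hnear : ∀ w : P, pullback.fst V.ι _ w ⤳ (⟨y, hyV⟩ : V.toScheme) →
        ∃ O : P.Opens, w ∈ O ∧ O.ι ≫ a = O.ι ≫ b := by
      intro w hw'
      refine StalkSpread.exists_nbhd_eq G.hom a b hab w ?_
      have hsp : V.ι (pullback.fst V.ι _ w) ⤳ y := hw'.map V.ι.continuous
      let k : Spec (P.presheaf.stalk w) ⟶ Spec (Y.left.presheaf.stalk y) :=
        Spec.map (Y.left.presheaf.stalkSpecializes hsp ≫ (pullback.fst V.ι _ ≫ V.ι).stalkMap w)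
      have hk : k ≫ Y.left.fromSpecStalk y = P.fromSpecStalk w ≫ pullback.fst V.ι _ ≫ V.ι := by
        simp only [k, Spec.map_comp, Category.assoc]
        rw [Scheme.SpecMap_stalkSpecializes_fromSpecStalk]
        exact Scheme.SpecMap_stalkMap_fromSpecStalk _
      have hk' : k ≫ U₀.fromSpecStalkOfMem y hy₀ = P.fromSpecStalk w ≫ pullback.fst V.ι _ ≫ Y.left.homOfLE hVU := by
        rw [← cancel_mono U₀.ι]
        simp [hk]
      have h1 := hE2 (Y.hom y) _ (P.fromSpecStalk w ≫ pullback.snd _ _) (k ≫ l)
        (by simp [l, hk, pullback.condition])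
      simp only [a, b]
      rw [← reassoc_of% hk', hfm]
      simpa using h1
    let O : Set P := {w | ∃ W : P.Opens, w ∈ W ∧ W.ι ≫ a = W.ι ≫ b}
    let C : Set V.toScheme := pullback.fst V.ι (pullback.fst Y.hom ((S.fromSpecStalk (genericPoint S)))) '' Oᶜ
    have hyC : (⟨y, hyV⟩ : V.toScheme) ∉ closure C := by
      intro hyC
      haveI : IsAffine V.toScheme := hV
      haveI : IsNoetherian V.toScheme := { }
      haveI hN : TopologicalSpace.NoetherianSpace P :=
        (Scheme.Hom.isEmbedding (pullback.fst V.ι (pullback.fst Y.hom (S.fromSpecStalk (genericPoint S))))).isInducing.noetherianSpace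
      have hO : IsOpen O := by
        rw [isOpen_iff_forall_mem_open]
        rintro w ⟨W, hw', hW'⟩
        exact ⟨W, fun z hz => ⟨W, hz, hW'⟩, W.2, hw'⟩
      obtain ⟨S₀, hfin, hcl, hirr, hU⟩ :=
        TopologicalSpace.NoetherianSpace.exists_finite_set_isClosed_irreducible hO.isClosed_compl
      simp only [C, hU, Set.sUnion_eq_biUnion, Set.image_iUnion, hfin.closure_biUnion, Set.mem_iUnion] at hyC
      obtain ⟨Z, hZ, hyZ⟩ := hyC
      obtain ⟨w, hw'⟩ := QuasiSober.sober (hirr Z hZ) (hcl Z hZ)
      have h1 : pullback.fst V.ι _ w ⤳ (⟨y, hyV⟩ : V.toScheme) := by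
        rw [specializes_iff_mem_closure]
        refine closure_minimal ?_ isClosed_closure hyZ
        rintro _ ⟨z, hz, rfl⟩
        exact specializes_iff_mem_closure.1 ((hw'.specializes hz).map (Scheme.Hom.continuous _))
      obtain ⟨W, hwW, hWe⟩ := hnear w h1
      exact (hU.ge ⟨Z, hZ, hw'.mem⟩) ⟨W, hwW, hWe⟩
    let U₁ : V.toScheme.Opens := ⟨(closure C)ᶜ, isClosed_closure.isOpen_compl⟩
    refine ⟨V.ι ''ᵁ U₁, ⟨⟨y, hyV⟩, hyC, rfl⟩,
      Y.left.homOfLE ((V.ι_image_le U₁).trans hVU) ≫ f, by simp [hf], ?_⟩
    intro Q q k hk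
    let k₁ : Q ⟶ V.toScheme := k ≫ Y.left.homOfLE (V.ι_image_le U₁)
    let kP : Q ⟶ P := pullback.lift k₁ q (by simp [k₁, hk])
    have hkP : ∀ z : Q, kP z ∈ O := by
      intro z
      by_contra hz
      have h1 : k₁ z ∈ C := ⟨kP z, hz, by rw [← Scheme.Hom.comp_apply, pullback.lift_fst]⟩
      obtain ⟨v, hv, hve⟩ := (k z).2
      have h2 : k₁ z = v := V.ι.isOpenEmbedding.injective (Eq.trans (by
        rw [← Scheme.Hom.comp_apply, Category.assoc, Scheme.homOfLE_ι]
        rfl) hve.symm)
      exact hv (h2 ▸ subset_closure h1)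
    choose W hW hWe using hkP
    have h3 : kP ≫ a = kP ≫ b := (Q.openCoverOfIsOpenCover (fun z => kP ⁻¹ᵁ W z)
      (.mk (top_le_iff.1 fun z _ => TopologicalSpace.Opens.mem_iSup.2 ⟨z, hW z⟩))).hom_ext _ _ fun z => by
      show (kP ⁻¹ᵁ W z).ι ≫ kP ≫ a = (kP ⁻¹ᵁ W z).ι ≫ kP ≫ b
      rw [← morphismRestrict_ι_assoc, ← morphismRestrict_ι_assoc, hWe z]
    simpa [kP, k₁, a, b] using h3
  choose U hyU F hF1 hF2 using hlocY
  let 𝒰 := Y.left.openCoverOfIsOpenCover U
    (.mk (top_le_iff.1 fun y _ => TopologicalSpace.Opens.mem_iSup.2 ⟨y, hyU y⟩))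
  let Gl : Y.left ⟶ G.left := 𝒰.glueMorphisms F (by
    intro y₁ y₂
    let W : Over S := Over.mk (pullback.fst (U y₁).ι (U y₂).ι ≫ (U y₁).ι ≫ Y.hom)
    refine hinj W (inferInstanceAs (Smooth (pullback.fst (U y₁).ι (U y₂).ι ≫ (U y₁).ι ≫ Y.hom))) _ _
      (by rw [Category.assoc, hF1]; rfl) (by rw [Category.assoc, hF1]; exact (pullback.condition_assoc _).symm) ?_
    let q : pullback W.hom (S.fromSpecStalk (genericPoint S)) ⟶ pullback Y.hom (S.fromSpecStalk (genericPoint S)) :=
      pullback.lift (pullback.fst _ _ ≫ pullback.fst (U y₁).ι (U y₂).ι ≫ (U y₁).ι) (pullback.snd _ _)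
        (by rw [Category.assoc, Category.assoc]; exact pullback.condition)
    have e1 := hF2 y₁ _ q (pullback.fst _ _ ≫ pullback.fst _ _) (by simp [q])
    have e2 := hF2 y₂ _ q (pullback.fst _ _ ≫ pullback.snd _ _) (by simp [q, pullback.condition])
    have e3 : pullback.fst W.hom (S.fromSpecStalk (genericPoint S)) ≫ pullback.fst (U y₁).ι (U y₂).ι ≫ F y₁ =
        pullback.fst _ _ ≫ pullback.snd (U y₁).ι (U y₂).ι ≫ F y₂ := by
      simpa using e1.trans e2.symm
    exact e3)
  have hGl : ∀ y, (U y).ι ≫ Gl = F y := fun y => 𝒰.ι_glueMorphisms F _ y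
  have hGlS : Gl ≫ G.hom = Y.hom := 𝒰.hom_ext _ _ fun y => by
    show (U y).ι ≫ Gl ≫ G.hom = (U y).ι ≫ Y.hom
    rw [reassoc_of% (hGl y), hF1]
  refine ⟨Over.homMk Gl hGlS, Over.OverMorphism.ext (pullback.hom_ext ?_ ?_)⟩
  · simp only [Over.pullback_map_left, Over.homMk_left, pullback.lift_fst]
    refine Scheme.Cover.hom_ext (𝒰.pullback₁ (pullback.fst Y.hom (S.fromSpecStalk (genericPoint S)))) _ _ fun y => ?_
    have e := hF2 y _ (pullback.fst (pullback.fst Y.hom (S.fromSpecStalk (genericPoint S))) (U y).ι)
      (pullback.snd _ _) pullback.condition.symm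
    rw [← hGl y, ← pullback.condition_assoc] at e
    exact e
  · have hw : g.left ≫ pullback.snd G.hom (S.fromSpecStalk (genericPoint S)) = pullback.snd _ _ := Over.w g
    simp [hw]
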