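import Groth.Statements.S15944
import Groth.Agent.FlatMorPush.Props

set_option autoImplicit false
universe u
open Pinch
set_option backward.isDefEq.respectTransparency.types false

namespace Groth.Agent.S15944

open CategoryTheory AlgebraicGeometry in
/-- Let Y be a scheme, f : X → Y a morphism, t : T → Y a scheme affine over Y, ξ : Z → T a morphism with
Z affine over Y via ξ followed by t, and ι : Z → X a closed immersion over Y; assume every point of
Y has an affine open neighbourhood U together with an affine open V of X inside the preimage of U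
containing the image under ι of the part of Z over U; assume moreover that Y is locally Noetherian,
f and t are of finite type and ξ is finite, and let X → P ← T be a push-out of ι and ξ in the
category of schemes, with p : P → Y the induced morphism. Then p is of finite type, and if X and T
are proper over Y then so is P. -/
theorem result {X Y T Z : Scheme.{u}} (f : X ⟶ Y) (t : T ⟶ Y) (ξ : Z ⟶ T) (ι : Z ⟶ X)
    [IsAffineHom t] [IsAffineHom (ξ ≫ t)] [IsClosedImmersion ι] (hsq : ι ≫ f = ξ ≫ t)
    (hstd : ∀ y : Y, ∃ U : Y.Opens, IsAffineOpen U ∧ y ∈ U ∧ ∃ V : X.Opens, IsAffineOpen V ∧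
      V ≤ f ⁻¹ᵁ U ∧ ∀ z : Z, (ξ ≫ t).base z ∈ U → ι.base z ∈ V)
    [IsLocallyNoetherian Y] [LocallyOfFiniteType f] [QuasiCompact f] [LocallyOfFiniteType t] [QuasiCompact t]
    [IsFinite ξ] {P : Scheme.{u}} (a : X ⟶ P) (b : T ⟶ P) (hP : IsPushout ι ξ a b)
    (p : P ⟶ Y) (hap : a ≫ p = f) (hbp : b ≫ p = t) :
    (LocallyOfFiniteType p ∧ QuasiCompact p) ∧ (IsProper f → IsProper t → IsProper p) := by
  have := FlatMorPush.hasPairs_of_standard f t hsq hstd
  let e := (FlatMorPush.isPushout ι ξ).isoIsPushout _ _ hP
  have hea : FlatMorPush.inl ι ξ ≫ e.hom = a := (FlatMorPush.isPushout ι ξ).inl_isoIsPushout_hom _ _ hP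
  have heb : FlatMorPush.inr ι ξ ≫ e.hom = b := (FlatMorPush.isPushout ι ξ).inr_isoIsPushout_hom _ _ hP
  have := FlatMorPush.surjective_coprod' (i := ι) (j := ξ)
  have := FlatMorPush.isFinite_inl (i := ι) (j := ξ)
  have := FlatMorPush.isClosedImmersion_inr ι ξ
  let m := Limits.coprod.desc (FlatMorPush.inl ι ξ) (FlatMorPush.inr ι ξ)
  have hm : m ≫ e.hom ≫ p = Limits.coprod.desc f t := by
    rw [Limits.coprod.desc_comp, ← Category.assoc, hea, hap, ← Category.assoc, heb, hbp]
  have hfac : Limits.coprod.desc f t = Limits.coprod.map f t ≫ Limits.coprod.desc (𝟙 Y) (𝟙 Y) := by simp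
  have hft : LocallyOfFiniteType p := by
    have : LocallyOfFiniteType (FlatMorPush.inl ι ξ ≫ e.hom ≫ p) := by
      rw [← Category.assoc, hea, hap]; infer_instance
    have : LocallyOfFiniteType (FlatMorPush.inr ι ξ ≫ e.hom ≫ p) := by
      rw [← Category.assoc, heb, hbp]; infer_instance
    exact (MorphismProperty.cancel_left_of_respectsIso @LocallyOfFiniteType e.hom p).mp
      (FlatMorPush.locallyOfFiniteType_out (e.hom ≫ p))
  have hqc : QuasiCompact p := by
    have : QuasiCompact (Limits.coprod.map f t) := IsZariskiLocalAtTarget.coprodMap f t ‹_› ‹_›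
    have : QuasiCompact (m ≫ e.hom ≫ p) := by rw [hm, hfac]; infer_instance
    have : QuasiCompact (e.hom ≫ p) := (quasiCompact_iff _).2 fun K hK hK' => by
      have h1 := ((quasiCompact_iff _).1 this K hK hK').image m.continuous
      rwa [Scheme.Hom.comp_base, TopCat.coe_comp, Set.preimage_comp,
        Set.image_preimage_eq _ m.surjective] at h1
    exact (MorphismProperty.cancel_left_of_respectsIso @QuasiCompact e.hom p).mp this
  refine ⟨⟨hft, hqc⟩, fun hf ht => ?_⟩
  have : IsSeparated (Limits.coprod.map f t) := IsZariskiLocalAtTarget.coprodMap f t hf.toIsSeparated ht.toIsSeparated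
  have : UniversallyClosed (Limits.coprod.map f t) :=
    IsZariskiLocalAtTarget.coprodMap f t hf.toUniversallyClosed ht.toUniversallyClosed
  have : IsSeparated (m ≫ e.hom ≫ p) := by rw [hm, hfac]; infer_instance
  have : UniversallyClosed (m ≫ e.hom ≫ p) := by rw [hm, hfac]; infer_instance
  have hs : IsSeparated (e.hom ≫ p) := Stk19b.SepQuot.isSeparated_of_comp m _
  have hu : UniversallyClosed (e.hom ≫ p) := UniversallyClosed.of_comp_surjective m _
  have : IsSeparated p := (MorphismProperty.cancel_left_of_respectsIso @IsSeparated e.hom p).mp hs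
  have : UniversallyClosed p :=
    (MorphismProperty.cancel_left_of_respectsIso @UniversallyClosed e.hom p).mp hu
  exact { }

end Groth.Agent.S15944
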