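import Groth.Statements.S15945
import Groth.Agent.FlatMorPush.Props

set_option autoImplicit false
universe u
open Pinch
set_option backward.isDefEq.respectTransparency.types false

namespace Groth.Agent.S15945

open CategoryTheory AlgebraicGeometry in
/-- Let Y be a scheme, f : X → Y a morphism, t : T → Y a scheme affine over Y, ξ : Z → T a morphism with
Z affine over Y via ξ followed by t, and ι : Z → X a closed immersion over Y; assume every point of
Y has an affine open neighbourhood U together with an affine open V of X inside the preimage of U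
containing the image under ι of the part of Z over U; assume moreover that Y is locally Noetherian,
f and t are of finite type and ξ is finite, and let X → P ← T be a push-out of ι and ξ in the
category of schemes. Then X → P is finite, the square is also cartesian (Z is identified with X ×_P
T), and T → P is a closed immersion. -/
theorem result {X Y T Z : Scheme.{u}} (f : X ⟶ Y) (t : T ⟶ Y) (ξ : Z ⟶ T) (ι : Z ⟶ X)
    [IsAffineHom t] [IsAffineHom (ξ ≫ t)] [IsClosedImmersion ι] (hsq : ι ≫ f = ξ ≫ t)
    (hstd : ∀ y : Y, ∃ U : Y.Opens, IsAffineOpen U ∧ y ∈ U ∧ ∃ V : X.Opens, IsAffineOpen V ∧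
      V ≤ f ⁻¹ᵁ U ∧ ∀ z : Z, (ξ ≫ t).base z ∈ U → ι.base z ∈ V)
    [IsLocallyNoetherian Y] [LocallyOfFiniteType f] [QuasiCompact f] [LocallyOfFiniteType t] [QuasiCompact t]
    [IsFinite ξ] {P : Scheme.{u}} (a : X ⟶ P) (b : T ⟶ P) (hP : IsPushout ι ξ a b) :
    IsFinite a ∧ IsPullback ι ξ a b ∧ IsClosedImmersion b := by
  have := FlatMorPush.hasPairs_of_standard f t hsq hstd
  let e := (FlatMorPush.isPushout ι ξ).isoIsPushout _ _ hP
  have hea : FlatMorPush.inl ι ξ ≫ e.hom = a := (FlatMorPush.isPushout ι ξ).inl_isoIsPushout_hom _ _ hP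
  have heb : FlatMorPush.inr ι ξ ≫ e.hom = b := (FlatMorPush.isPushout ι ξ).inr_isoIsPushout_hom _ _ hP
  have := FlatMorPush.isFinite_inl (i := ι) (j := ξ)
  have := FlatMorPush.isClosedImmersion_inr ι ξ
  refine ⟨by rw [← hea]; infer_instance, ?_, by rw [← heb]; infer_instance⟩
  exact (FlatMorPush.isPullback ι ξ).of_iso (Iso.refl _) (Iso.refl _) (Iso.refl _) e
    (by simp) (by simp) (by simpa using hea) (by simpa using heb)

end Groth.Agent.S15945
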