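import Groth.Prelude.Def_HTop2
import Groth.Prelude.Def_Flat
import Mathlib.RingTheory.Localization.Away.Basic
import Mathlib.AlgebraicGeometry.AffineScheme
import Mathlib.RingTheory.Nilpotent.Defs
import Mathlib.AlgebraicGeometry.Properties
import Groth.Agent.HTop16.Local

set_option autoImplicit false
universe u
namespace CategoryTheory
end CategoryTheory
namespace AlgebraicGeometry
end AlgebraicGeometry
open CategoryTheory AlgebraicGeometry
namespace HTop
end HTop
open HTop

namespace Groth.Agent.S7420

/-- A scheme `X` is seminormal if and only if `O_X(U)` is seminormal for every affine open `U ⊆ X`; the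
same holds with 'seminormal' replaced by 'absolutely weakly normal'. -/
theorem result (X : Scheme.{u}) :
    (HTop.IsSeminormal X ↔ ∀ U : X.affineOpens, HTop.IsSeminormalRing Γ(X, U)) ∧
    (HTop.IsAWN X ↔ ∀ U : X.affineOpens, HTop.IsAWNRing Γ(X, U)) := by
  exact ⟨⟨fun h U => HTop16.isSeminormal_affine X h U,
    fun h x => (HTop16.exists_affine_mem X x).imp fun U hU => ⟨hU, h U⟩⟩,
    ⟨fun h U => HTop16.isAWN_affine X h U,
      fun h x => (HTop16.exists_affine_mem X x).imp fun U hU => ⟨hU, h U⟩⟩⟩

end Groth.Agent.S7420
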