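import Groth.Statements.S15948
import Groth.Agent.SN24.Square

-- import your own Groth.Agent.* helpers here

set_option autoImplicit false
universe u
open Curves

set_option backward.isDefEq.respectTransparency.types false
open Groth.Agent
set_option backward.isDefEq.respectTransparency.types false
namespace Groth.Agent.S15948

open CategoryTheory AlgebraicGeometry Limits in
/-- Let κ be a field, C a seminormal reduced scheme of finite type over κ whose irreducible components
all have dimension one, and ν : C̃ → C its normalisation (C̃ has integrally closed local domains, ν
is finite over κ and restricts to an isomorphism over a dense open subset of C whose preimage is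
dense in C̃). Let D → C be the reduced closed subscheme whose underlying set is the set of points at
which the local ring of C is not regular. Then the square with vertices C̃ ×_C D, C̃, D and C is a
push-out in the category of schemes, and moreover every fibre of ν is a reduced scheme. -/
theorem result {κ : Type u} [Field κ] {C Cn D : Scheme.{u}}
    (g : C ⟶ Spec (CommRingCat.of κ)) [LocallyOfFiniteType g] [QuasiCompact g] [IsReduced C]
    (hdimC : ∀ W ∈ irreducibleComponents (C : Type u), topologicalKrullDim W = 1)
    (hsn : HTop.IsSeminormal C)
    (ν : Cn ⟶ C) [IsFinite ν] (hn : Pi1.IsNormalScheme Cn)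
    (hbir : ∃ U : C.Opens, Dense (U : Set C) ∧ Dense ((ν ⁻¹ᵁ U : Cn.Opens) : Set Cn) ∧ IsIso (ν ∣_ U))
    (d : D ⟶ C) [IsClosedImmersion d] [IsReduced D]
    (hd : Set.range d.base = {x : C | ¬ IsRegularLocalRing (C.presheaf.stalk x)}) :
    IsPushout (pullback.fst ν d) (pullback.snd ν d) ν d ∧ ∀ x : C, IsReduced (ν.fiber x) := by
  obtain ⟨U, hU, hU', hiso⟩ := hbir
  exact SN24.main g (NormSeq24.dim_le_one hdimC) hsn ν hn U hU hU' d hd

end Groth.Agent.S15948
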