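import Groth.Statements.S15949
import Groth.Agent.RatCurve29.Basic
import Groth.Agent.REqLib.ProjLineGen
import Groth.Agent.Coherent.ProjSpaceBase
import Groth.Agent.SGA3xLib.SepFibre
import Groth.Agent.RedSepLib.Immersion
import Groth.Agent.S7520
import Groth.Agent.GrpdLib.SmoothOverField
set_option backward.isDefEq.respectTransparency.types false

set_option autoImplicit false
universe u
open AlgGrp

namespace Groth.Agent.S15949

open CategoryTheory MonoidalCategory CartesianMonoidalCategory MonObj AlgebraicGeometry in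
/-- Auxiliary step: let κ be an arbitrary field, G a group scheme over κ which is smooth over κ, and φ :
P¹_κ → G a morphism over κ. Then φ is constant: there is a κ-rational point g of G such that φ is
the structure morphism P¹_κ → Spec κ followed by g. (The published proof states this step for any
smooth group scheme over a field in the course of proving the main proposition.) -/
theorem result (κ : Type u) [Field κ]
    (G : Over (Spec (CommRingCat.of κ))) [GrpObj G] [Smooth G.hom]
    (φ : CohB1.ProjSpaceOver 1 (Spec (CommRingCat.of κ)) ⟶ G.left)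
    (hφ : φ ≫ G.hom = CohB1.ProjSpaceOver.toBase 1 (Spec (CommRingCat.of κ))) :
    ∃ g : Spec (CommRingCat.of κ) ⟶ G.left, g ≫ G.hom = 𝟙 _ ∧
      φ = CohB1.ProjSpaceOver.toBase 1 (Spec (CommRingCat.of κ)) ≫ g := by
  let K := AlgebraicClosure κ
  let s : Spec (CommRingCat.of K) ⟶ Spec (CommRingCat.of κ) := Spec.map (CommRingCat.ofHom (algebraMap κ K))
  obtain ⟨e, he⟩ := Groth.Agent.REqLib.exists_projOverIso κ
  let ψ : CohB1.ProjSpace 1 κ ⟶ G.left := e.inv ≫ φ
  have hψ : ψ ≫ G.hom = CohB1.ProjSpace.toSpec 1 κ := by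
    rw [Category.assoc, hφ, ← he, Iso.inv_hom_id_assoc]
  let π : CohB1.ProjSpace 1 K ⟶ CohB1.ProjSpace 1 κ := Proj.map (Groth.Agent.Coherent.polyGradedMap 1 κ K) (Groth.Agent.Coherent.polyGradedMap_irrelevant 1 κ K)
  have hsq : IsPullback π (CohB1.ProjSpace.toSpec 1 K) (CohB1.ProjSpace.toSpec 1 κ) s :=
    Groth.Agent.Coherent.isPullback_projSpace 1 κ K
  haveI : Flat s := Groth.Agent.GrpdLib.flat_to_field s κ (Iso.refl _)
  haveI : Surjective s := ⟨fun y => ⟨IsLocalRing.closedPoint K, Subsingleton.elim (α := PrimeSpectrum κ) _ _⟩⟩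
  haveI : QuasiCompact s := inferInstance
  haveI : Flat π := MorphismProperty.of_isPullback (P := @Flat) hsq.flip ‹_›
  haveI : Surjective π := MorphismProperty.of_isPullback (P := @Surjective) hsq.flip ‹_›
  haveI : QuasiCompact π := MorphismProperty.of_isPullback (P := @QuasiCompact) hsq.flip ‹_›
  haveI : Epi π := Flat.epi_of_flat_of_surjective π
  -- the base change to the algebraic closure
  let GK : Over (Spec (CommRingCat.of K)) := Over.mk (Limits.pullback.snd G.hom s)
  letI : GrpObj GK := @CategoryTheory.Over.grpObjMkPullbackSnd _ _ _ _ _ _ G.hom s ‹GrpObj G›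
  haveI : LocallyOfFiniteType GK.hom := inferInstanceAs (LocallyOfFiniteType (Limits.pullback.snd G.hom s))
  let P : Over (Spec (CommRingCat.of K)) := Over.mk (CohB1.ProjSpace.toSpec 1 K)
  let φK : P ⟶ GK := Over.homMk (Limits.pullback.lift (π ≫ ψ) (CohB1.ProjSpace.toSpec 1 K)
    ((Category.assoc _ _ _).trans ((congrArg (π ≫ ·) hψ).trans hsq.w))) (Limits.pullback.lift_snd _ _ _)
  obtain ⟨G₀, _, i, _, _, _, hrange, _, _⟩ := Groth.Agent.S7520.result K GK
  haveI : IsSeparated GK.hom := Groth.Agent.SGA3xLib.isSeparated_of_grpObj GK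
  haveI : IsSeparated (i.left ≫ GK.hom) := inferInstance
  haveI : IsSeparated G₀.hom := by rw [← Over.w i]; infer_instance
  haveI : LocallyOfFiniteType G₀.hom := by rw [← Over.w i]; infer_instance
  haveI : QuasiCompact G₀.hom := by rwa [quasiCompact_iff_compactSpace]
  haveI := Groth.Agent.CurveLib.isIntegral_projSpace K 1
  haveI : IrreducibleSpace (CohB1.ProjSpace 1 K) := inferInstance
  haveI : LocallyOfFiniteType P.hom := inferInstanceAs (LocallyOfFiniteType (CohB1.ProjSpace.toSpec 1 K))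
  haveI : JacobsonSpace P.left := LocallyOfFiniteType.jacobsonSpace P.hom
  haveI : Nonempty P.left := inferInstanceAs (Nonempty (CohB1.ProjSpace 1 K))
  obtain ⟨c, -, hc⟩ := nonempty_inter_closedPoints (Z := (Set.univ : Set P.left)) Set.univ_nonempty
    isOpen_univ.isLocallyClosed
  let q := (pointEquivClosedPoint P.hom).symm ⟨c, hc⟩
  let o : 𝟙_ (Over (Spec (CommRingCat.of K))) ⟶ P := Over.homMk q.1 q.2
  let φ' : P ⟶ GK := φK * (toUnit P ≫ (o ≫ φK)⁻¹)
  have ho : o ≫ φ' = 1 := by
    rw [MonObj.comp_mul, ← Category.assoc, toUnit_unique (o ≫ toUnit P) (𝟙 _), Category.id_comp, mul_inv_cancel]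
  have hr : Set.range φ'.left ⊆ Set.range i.left := by
    rw [hrange]
    have hc' : _root_.IsPreconnected (Set.range φ'.left) := by
      haveI : PreconnectedSpace P.left := inferInstanceAs (PreconnectedSpace (CohB1.ProjSpace 1 K))
      exact isPreconnected_range φ'.left.continuous
    refine hc'.subset_connectedComponent ⟨o.left (IsLocalRing.closedPoint K), ?_⟩
    rw [← Scheme.Hom.comp_apply, ← Over.comp_left, ho, Hom.one_def]
    exact congrArg (fun m : 𝟙_ (Over (Spec (CommRingCat.of K))) ⟶ GK => m.left (IsLocalRing.closedPoint K))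
      (show toUnit (𝟙_ (Over (Spec (CommRingCat.of K)))) ≫ η[GK] = η[GK] by
        rw [toUnit_unique (toUnit _) (𝟙 _), Category.id_comp])
  haveI : IsReduced P.left := inferInstanceAs (IsReduced (CohB1.ProjSpace 1 K))
  obtain ⟨z, hz⟩ := Groth.Agent.RedSepLib.exists_lift_of_range_subset φ'.left i.left hr
  obtain ⟨g₀, hg₀⟩ := Groth.Agent.RatCurve29.projLine_const G₀ z (by
    rw [← Over.w i, reassoc_of% hz]; exact Over.w φ')
  -- `φK` factors through the structure map
  have hconst : ∃ h : Spec (CommRingCat.of K) ⟶ GK.left, φK.left = CohB1.ProjSpace.toSpec 1 K ≫ h := by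
    let gp : 𝟙_ (Over (Spec (CommRingCat.of K))) ⟶ GK := Over.homMk (g₀ ≫ i.left) (by
      have h1 : (CohB1.ProjSpace.toSpec 1 K ≫ g₀) ≫ G₀.hom = CohB1.ProjSpace.toSpec 1 K ≫ 𝟙 _ := by
        rw [← hg₀, Category.comp_id, ← Over.w i, reassoc_of% hz]; exact Over.w φ'
      rw [Category.assoc, Over.w i]
      have h2 := congrArg (q.1 ≫ ·) h1
      simp only [Category.assoc, reassoc_of% q.2, Category.comp_id] at h2
      have h3 : q.1 ≫ CohB1.ProjSpace.toSpec 1 K = 𝟙 _ := q.2
      simp only [reassoc_of% h3, Category.id_comp] at h2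
      exact h2.trans h3)
    have h4 : φ' = toUnit P ≫ gp := Over.OverMorphism.ext (by
      rw [← hz, hg₀, Category.assoc]; rfl)
    refine ⟨(gp * (o ≫ φK)).left, ?_⟩
    have h5 : φK = toUnit P ≫ (gp * (o ≫ φK)) := by
      rw [MonObj.comp_mul, ← h4, _root_.mul_assoc, ← MonObj.comp_mul, inv_mul_cancel, MonObj.comp_one,
        _root_.mul_one]
    exact congrArg CommaMorphism.left h5
  obtain ⟨h, hh⟩ := hconst
  -- a rational point of `P¹`
  let x₀ : Spec (CommRingCat.of κ) ⟶ CohB1.ProjSpace 1 κ :=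
    Spec.map (CommRingCat.ofHom (MvPolynomial.aeval (R := κ) (fun _ : PUnit.{u + 1} => (0 : κ))).toRingHom) ≫
      Groth.Agent.NeronLib.chart κ 0
  have hx₀ : x₀ ≫ CohB1.ProjSpace.toSpec 1 κ = 𝟙 _ := by
    rw [Category.assoc, Groth.Agent.NeronLib.chart_toSpec, ← Spec.map_comp, ← Spec.map_id]
    congr 1
    exact CommRingCat.hom_ext (RingHom.ext fun r =>
      (MvPolynomial.aeval (R := κ) (fun _ : PUnit.{u + 1} => (0 : κ))).commutes r)
  refine ⟨x₀ ≫ ψ, by rw [Category.assoc, hψ, hx₀], ?_⟩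
  rw [← cancel_epi e.inv, ← he, Category.assoc, Iso.inv_hom_id_assoc]
  show ψ = CohB1.ProjSpace.toSpec 1 κ ≫ x₀ ≫ ψ
  rw [← cancel_epi π]
  have h6 : π ≫ ψ = CohB1.ProjSpace.toSpec 1 K ≫ h ≫ Limits.pullback.fst G.hom s := by
    rw [← Category.assoc (CohB1.ProjSpace.toSpec 1 K)]
    exact ((Limits.pullback.lift_fst _ _ _).symm).trans (congrArg (· ≫ Limits.pullback.fst G.hom s) hh)
  let xK : Spec (CommRingCat.of K) ⟶ CohB1.ProjSpace 1 K :=
    hsq.lift (s ≫ x₀) (𝟙 _) (by rw [Category.assoc, hx₀, Category.comp_id, Category.id_comp])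
  have hxK2 : xK ≫ CohB1.ProjSpace.toSpec 1 K = 𝟙 _ := hsq.lift_snd _ _ _
  have h7 : s ≫ x₀ ≫ ψ = h ≫ Limits.pullback.fst G.hom s := by
    have := congrArg (xK ≫ ·) h6
    simp only [reassoc_of% hxK2] at this
    rw [← this, ← Category.assoc, ← hsq.lift_fst (s ≫ x₀) (𝟙 _) _, Category.assoc]
  rw [h6, ← h7, ← Category.assoc, ← Category.assoc π, hsq.w, Category.assoc]

end Groth.Agent.S15949
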