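import Groth.Statements.S15954
import Groth.Agent.FlatMorPush.BaseChangeRet

set_option autoImplicit false
universe u
open Pinch

set_option backward.isDefEq.respectTransparency.types false

namespace Groth.Agent.S15954

open CategoryTheory AlgebraicGeometry in
/-- Let Y be a scheme, f : X → Y a morphism, t : T → Y a scheme affine over Y, ξ : Z → T a morphism with
Z affine over Y via ξ followed by t, and ι : Z → X a closed immersion over Y; assume every point of
Y has an affine open neighbourhood U together with an affine open V of X inside the preimage of U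
containing the image under ι of the part of Z over U; assume moreover that Y is locally Noetherian,
f and t are of finite type and ξ is finite, and let X → P ← T be a push-out of ι and ξ in the
category of schemes; assume finally that ξ is faithfully flat and that over every affine open U of Y
the cokernel of the map from functions on t⁻¹(U) to functions on the part of Z over U is a
projective module over the functions on U. Let p : P → Y be the induced morphism. Then the push-out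
commutes with every base change: for every morphism Y' → Y the square obtained by pulling back Z →
X, Z → T, X → P and T → P along Y' → Y is a push-out square in the category of schemes. -/
theorem result {X Y T Z : Scheme.{u}} (f : X ⟶ Y) (t : T ⟶ Y) (ξ : Z ⟶ T) (ι : Z ⟶ X)
    [IsAffineHom t] [IsAffineHom (ξ ≫ t)] [IsClosedImmersion ι] (hsq : ι ≫ f = ξ ≫ t)
    (hstd : ∀ y : Y, ∃ U : Y.Opens, IsAffineOpen U ∧ y ∈ U ∧ ∃ V : X.Opens, IsAffineOpen V ∧
      V ≤ f ⁻¹ᵁ U ∧ ∀ z : Z, (ξ ≫ t).base z ∈ U → ι.base z ∈ V)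
    [IsLocallyNoetherian Y] [LocallyOfFiniteType f] [QuasiCompact f] [LocallyOfFiniteType t] [QuasiCompact t]
    [IsFinite ξ] {P : Scheme.{u}} (a : X ⟶ P) (b : T ⟶ P) (hP : IsPushout ι ξ a b)
    [Flat ξ] [Surjective ξ]
    (hv : ∀ U : Y.affineOpens, @Pinch.CokerProjective Γ(Y, U) Γ(Z, (ξ ≫ t) ⁻¹ᵁ U) Γ(T, t ⁻¹ᵁ U) _ _ _
      ((ξ ≫ t).app U).hom.toAlgebra (ξ.app (t ⁻¹ᵁ U)).hom)
    (p : P ⟶ Y) (hap : a ≫ p = f) (hbp : b ≫ p = t) {Y' : Scheme.{u}} (g : Y' ⟶ Y) :
    IsPushout ((Over.pullback g).map (Over.homMk ι hsq : Over.mk (ξ ≫ t) ⟶ Over.mk f)).left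
      ((Over.pullback g).map (Over.homMk ξ rfl : Over.mk (ξ ≫ t) ⟶ Over.mk t)).left
      ((Over.pullback g).map (Over.homMk a hap : Over.mk f ⟶ Over.mk p)).left
      ((Over.pullback g).map (Over.homMk b hbp : Over.mk t ⟶ Over.mk p)).left := by
  classical
  have : IsAffineHom ξ := inferInstance
  have := FlatMorPush.hasPairs_of_standard f t hsq hstd
  let e := (FlatMorPush.isPushout ι ξ).isoIsPushout _ _ hP
  have ha : FlatMorPush.inl ι ξ ≫ e.hom = a := (FlatMorPush.isPushout ι ξ).inl_isoIsPushout_hom _ _ hP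
  have hb : FlatMorPush.inr ι ξ ≫ e.hom = b := (FlatMorPush.isPushout ι ξ).inr_isoIsPushout_hom _ _ hP
  let mk : FlatMorPush.Pair ι ξ → FlatMorPush.SqChart ι ξ a b := fun k =>
    { C := _, A := _, B := _, D := _, S := k.sq, e := FlatMorPush.ι k ≫ e.hom, uX := k.hU.fromSpec,
      uY := k.hV.fromSpec, uZ := k.hW.fromSpec,
      hX := (FlatMorPush.isPullback_inl k).of_iso (Iso.refl _) (Iso.refl _) (Iso.refl _) e
        (by simp) (by simp) (by simp) (by simpa using ha)
      hY := (FlatMorPush.isPullback_inr k).of_iso (Iso.refl _) (Iso.refl _) (Iso.refl _) e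
        (by simp) (by simp) (by simp) (by simpa using hb)
      hZX := k.sp_p, hZY := k.sp_q }
  have hφ : ∀ (k : FlatMorPush.Pair ι ξ) (U : Y.Opens) (hU : IsAffineOpen U), k.U ≤ f ⁻¹ᵁ U →
      ∀ hVU : k.V ≤ t ⁻¹ᵁ U, ∃ φ : Γ(Y, U) →+* k.C,
        KerEval.sp φ ≫ hU.fromSpec = (FlatMorPush.ι k ≫ e.hom) ≫ p ∧
          k.sq.f.comp φ = (t.appLE U k.V hVU).hom := by
    intro k U hU hUU hVU
    have hf : KerEval.sp k.sq.g ≫ (FlatMorPush.ι k ≫ e.hom) ≫ p = k.hU.fromSpec ≫ f := by
      rw [← hap, ← ha]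
      simp only [← Category.assoc, ← FlatMorPush.fromSpec_inl]
    have ht : KerEval.sp k.sq.f ≫ (FlatMorPush.ι k ≫ e.hom) ≫ p = k.hV.fromSpec ≫ t := by
      rw [← hbp, ← hb]
      simp only [← Category.assoc, ← FlatMorPush.fromSpec_inr]
    obtain ⟨φ, hφ⟩ := KerEval.Sq.exists_factor hU ((FlatMorPush.ι k ≫ e.hom) ≫ p) (by
      rintro _ ⟨w, rfl⟩
      rcases k.sq.exists_point w with ⟨y, rfl⟩ | ⟨-, -, -, x, rfl⟩
      · change (KerEval.sp k.sq.f ≫ (FlatMorPush.ι k ≫ e.hom) ≫ p) y ∈ U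
        rw [ht]
        exact hVU (k.hV.range_fromSpec.subset ⟨y, rfl⟩)
      · change (KerEval.sp k.sq.g ≫ (FlatMorPush.ι k ≫ e.hom) ≫ p) x ∈ U
        rw [hf]
        exact hUU (k.hU.range_fromSpec.subset ⟨x, rfl⟩))
    refine ⟨φ, hφ, ?_⟩
    have h : KerEval.sp (k.sq.f.comp φ) = KerEval.sp (t.appLE U k.V hVU).hom := by
      rw [← cancel_mono hU.fromSpec, KerEval.sp_comp, Category.assoc, hφ, ht]
      exact (IsAffineOpen.SpecMap_appLE_fromSpec t hU k.hV hVU).symm
    exact congrArg CommRingCat.Hom.hom (Spec.map_injective h)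
  let P' := (Over.pullback g).obj (Over.mk p)
  refine FlatMorPush.isPushout_baseChange_ret (i := ι) (j := ξ) (a := a) (b := b)
    (pX := Limits.pullback.fst f g) (pY := Limits.pullback.fst t g)
    (pZ := Limits.pullback.fst (ξ ≫ t) g) (hP := IsPullback.of_hasPullback p g)
    (fun w => ?_) ?_ ?_ ?_ ?_ ?_
  · obtain ⟨k, w₀, hw⟩ := FlatMorPush.exists_mem_range (e.inv w)
    have hwk : w = (FlatMorPush.ι k ≫ e.hom) w₀ := by
      rw [Scheme.Hom.comp_apply, hw, ← Scheme.Hom.comp_apply, Iso.inv_hom_id]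
      rfl
    have hY : ∀ y : T, w = b y → ∃ (c : FlatMorPush.SqChart ι ξ a b) (U : Y.Opens)
        (hU : IsAffineOpen U) (φ : Γ(Y, U) →+* c.C),
        w ∈ Set.range c.e ∧ KerEval.sp φ ≫ hU.fromSpec = c.e ≫ p ∧
        ∃ ret : c.B →+ c.C, (∀ x, ret (c.S.g x) = x) ∧
          ∀ x y, ret (c.S.g (φ x) * y) = φ x * ret y := by
      intro y hy
      obtain ⟨U, hU, hyU, V, hV, hVU, hz⟩ := hstd (t y)
      let m : FlatMorPush.Pair ι ξ := ⟨V, t ⁻¹ᵁ U, hV, hU.preimage t,
        TopologicalSpace.Opens.ext (Set.ext fun z => ⟨fun h => by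
          have : (ι ≫ f) z ∈ U := hVU h
          rw [hsq] at this
          exact this, fun h => hz z h⟩)⟩
      obtain ⟨φ, h1, h2⟩ := hφ m U hU hVU le_rfl
      refine ⟨mk m, U, hU, φ, ?_, h1, m.sq.exists_ret φ
        (EGA43.app_injective_of_flat_surjective ξ (t ⁻¹ᵁ U)) ?_⟩
      · obtain ⟨z, hz⟩ := (FlatMorPush.inr_mem_range_ι (k := m)).2 hyU
        refine ⟨z, ?_⟩
        change (FlatMorPush.ι m ≫ e.hom) z = w
        rw [Scheme.Hom.comp_apply, hz, ← Scheme.Hom.comp_apply, hb, hy]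
      · rw [h2, ← Scheme.Hom.app_eq_appLE]
        have := hv ⟨U, hU⟩
        rw [Scheme.Hom.comp_app] at this
        exact this
    rcases k.sq.exists_point w₀ with ⟨y₀, rfl⟩ | ⟨-, -, -, x₀, rfl⟩
    · refine hY (k.hV.fromSpec y₀) ?_
      rw [hwk]
      change (KerEval.sp k.sq.f ≫ FlatMorPush.ι k ≫ e.hom) y₀ = (k.hV.fromSpec ≫ b) y₀
      rw [← Category.assoc, ← FlatMorPush.fromSpec_inr, Category.assoc, hb]
    have hwx : w = a (k.hU.fromSpec x₀) := by
      rw [hwk]
      change (KerEval.sp k.sq.g ≫ FlatMorPush.ι k ≫ e.hom) x₀ = (k.hU.fromSpec ≫ a) x₀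
      rw [← Category.assoc, ← FlatMorPush.fromSpec_inl, Category.assoc, ha]
    by_cases hx : k.hU.fromSpec x₀ ∈ Set.range ι
    · obtain ⟨z, hz⟩ := hx
      refine hY (ξ z) ?_
      rw [hwx, ← hz, ← Scheme.Hom.comp_apply, hP.w, Scheme.Hom.comp_apply]
    · obtain ⟨U, hU, hxU, -⟩ := exists_isAffineOpen_mem_and_subset
        (x := f (k.hU.fromSpec x₀)) (U := ⊤) trivial
      obtain ⟨m, hm, hmO, hmV⟩ := FlatMorPush.exists_away ι ξ (f ⁻¹ᵁ U) hxU hx
      obtain ⟨φ, h1, -⟩ := hφ m U hU hmO (hmV.le.trans bot_le)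
      have : Subsingleton Γ(T, m.V) := by rw [hmV]; infer_instance
      have : Subsingleton Γ(Z, ξ ⁻¹ᵁ m.V) := by
        rw [hmV, show ξ ⁻¹ᵁ (⊥ : T.Opens) = ⊥ from rfl]; infer_instance
      refine ⟨mk m, U, hU, φ, ?_, h1, m.sq.exists_ret_of_subsingleton φ⟩
      obtain ⟨z, hz⟩ := (FlatMorPush.inl_mem_range_ι (k := m)).2 hm
      refine ⟨z, ?_⟩
      change (FlatMorPush.ι m ≫ e.hom) z = w
      rw [Scheme.Hom.comp_apply, hz, ← Scheme.Hom.comp_apply, ha, hwx]
  · refine IsPullback.of_bot ?_ (Limits.pullback.lift_fst _ _ _).symm (IsPullback.of_hasPullback p g)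
    erw [Limits.pullback.lift_snd]
    rw [hap]
    exact IsPullback.of_hasPullback f g
  · refine IsPullback.of_bot ?_ (Limits.pullback.lift_fst _ _ _).symm (IsPullback.of_hasPullback p g)
    erw [Limits.pullback.lift_snd]
    rw [hbp]
    exact IsPullback.of_hasPullback t g
  · refine IsPullback.of_bot ?_ (Limits.pullback.lift_fst _ _ _).symm (IsPullback.of_hasPullback f g)
    erw [Limits.pullback.lift_snd]
    rw [hsq]
    exact IsPullback.of_hasPullback (ξ ≫ t) g
  · exact Limits.pullback.lift_fst _ _ _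
  · have h : (Over.homMk ι hsq : Over.mk (ξ ≫ t) ⟶ Over.mk f) ≫ (Over.homMk a hap : Over.mk f ⟶ Over.mk p) =
        (Over.homMk ξ rfl : Over.mk (ξ ≫ t) ⟶ Over.mk t) ≫ (Over.homMk b hbp : Over.mk t ⟶ Over.mk p) :=
      Over.OverMorphism.ext hP.w
    have h' := congrArg CommaMorphism.left ((Over.pullback g).congr_map h)
    simpa only [Functor.map_comp, Over.comp_left] using h'

end Groth.Agent.S15954
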