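import Groth.Statements.S1596
import Groth.Agent.Clifford24.SmoothFamilyO
import Groth.Agent.NodeLib7.NodalStalks
import Groth.Agent.CohExch.ChartMain
import Groth.Agent.AbSchLib.GlobalSections

set_option autoImplicit false
universe u
open CategoryTheory CategoryTheory.Limits AlgebraicGeometry
open Curves

namespace Groth.Agent.S1596

open Groth.Agent TopologicalSpace
set_option backward.isDefEq.respectTransparency false
set_option linter.style.haveILetI false
set_option maxHeartbeats 1000000

theorem dim_le_one {Z : Type u} [TopologicalSpace Z] (h : ∀ C ∈ irreducibleComponents Z, topologicalKrullDim C = 1) :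
    topologicalKrullDim Z ≤ (1 : ℕ) := by
  show Order.krullDim (IrreducibleCloseds Z) ≤ (1 : ℕ)
  rw [Nat.cast_one, Order.krullDim_le_one_iff]
  intro b
  by_contra hb
  simp only [not_or, not_isMin_iff, not_isMax_iff] at hb
  obtain ⟨⟨a, hab⟩, c, hbc⟩ := hb
  obtain ⟨C, hC, hcC⟩ := exists_mem_irreducibleComponents_subset_of_isIrreducible (c : Set Z) c.isIrreducible
  let R : (D : TopologicalSpace.IrreducibleCloseds Z) → (D : Set Z) ⊆ C → TopologicalSpace.IrreducibleCloseds C :=
    fun D hD => ⟨Subtype.val ⁻¹' (D : Set Z), by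
      refine ⟨?_, ?_⟩
      · obtain ⟨z, hz⟩ := D.isIrreducible.1; exact ⟨⟨z, hD hz⟩, hz⟩
      · intro u v hu hv hu' hv'
        obtain ⟨u', hu'o, rfl⟩ := isOpen_induced_iff.1 hu
        obtain ⟨v', hv'o, rfl⟩ := isOpen_induced_iff.1 hv
        obtain ⟨⟨w, _⟩, hw, hwu⟩ := hu'
        obtain ⟨⟨w', _⟩, hw', hwv⟩ := hv'
        obtain ⟨z, hz, hzuv⟩ := D.isIrreducible.2 u' v' hu'o hv'o ⟨w, hw, hwu⟩ ⟨w', hw', hwv⟩
        exact ⟨⟨z, hD hz⟩, hz, hzuv⟩, D.isClosed.preimage continuous_subtype_val⟩
  have hlt : ∀ D E hD hE, D < E → R D hD < R E hE := fun D E hD hE h => by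
    obtain ⟨z, hzE, hzD⟩ := Set.exists_of_ssubset (SetLike.coe_ssubset_coe.2 h)
    exact lt_of_le_of_ne (fun w hw => h.le hw) fun e =>
      hzD ((Set.ext_iff.1 (congrArg SetLike.coe e) ⟨z, hE hzE⟩).2 hzE)
  have hb' : (b : Set Z) ⊆ C := fun z hz => hcC (hbc.le hz)
  have ha' : (a : Set Z) ⊆ C := fun z hz => hb' (hab.le hz)
  rcases Order.krullDim_le_one_iff.1 (le_of_eq (h C hC)) (R b hb') with hm | hm
  · exact hm.not_lt (hlt a b ha' hb' hab)
  · exact hm.not_lt (hlt b c hb' hcC hbc)

/-- Let f : X → S be a proper morphism of schemes that is at-worst-nodal of relative dimension one with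
geometrically connected fibres. Then R¹f_*O_X is a finite locally free O_S-module and R^q f_*O_X = 0
for every q ≥ 2. The published statement also includes the compatibility of these direct images with
base change, which is not asserted here. (Existence of injective resolutions in the category of
O_X-modules is carried as an instance binder.) -/
theorem result {X S : Scheme.{u}} (f : X ⟶ S) [IsProper f] (hf : Curv2.IsNodalFamily f)
    [GeometricallyConnected f] [HasInjectiveResolutions X.Modules] :
    FlatMod.IsFinLocFree ((Coh.Rpush f 1).obj (Coh.structureModule X)) ∧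
      ∀ q : ℕ, 2 ≤ q → IsZero ((Coh.Rpush f q).obj (Coh.structureModule X)) := by
  haveI := hf.1
  haveI := hf.2.1
  haveI hqc := Coherent.isQCoh_structureModule (X := X)
  have hy : ∀ y : S, Function.Bijective (algebraMap (S.residueField y) Γ(f.fiber y, ⊤)) := fun y => by
    letI : (f.fiber y).Over (Spec (CommRingCat.of (S.residueField y))) := ⟨f.fiberToSpecResidueField y⟩
    haveI : IsProper (f.fiberToSpecResidueField y) := MorphismProperty.pullback_snd (P := @IsProper) _ _ inferInstance
    haveI : LocallyOfFiniteType ((f.fiber y) ↘ Spec (CommRingCat.of (S.residueField y))) :=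
      inferInstanceAs (LocallyOfFiniteType (f.fiberToSpecResidueField y))
    haveI : GeometricallyReduced (f.fiberToSpecResidueField y) :=
      NodeLib7.geometricallyReduced_of_atWorstNodal _ _ (hf.2.2 y).2
    haveI : GeometricallyConnected (f.fiberToSpecResidueField y) :=
      MorphismProperty.pullback_snd (P := @GeometricallyConnected) _ _ inferInstance
    exact (AbSchLib.bijective_appTop_of_field _ (f.fiberToSpecResidueField y)).comp
      (ConcreteCategory.bijective_of_isIso (Scheme.ΓSpecIso (S.residueField y)).inv)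
  have hd : ∀ y : S, topologicalKrullDim (f.fiber y) ≤ (1 : ℕ) := fun y => dim_le_one (hf.2.2 y).1
  have hfp := Clifford24.isFP_structure (X := X)
  have hfl := Clifford24.isFlatOver_structure f
  have hq : ∀ q : ℕ, 2 ≤ q → ∀ y : S, Subsingleton (CohIII.fiberH f (Coh.structureModule X) y q) := fun q hq y =>
    CohExch.subsingleton_fiberH_of_dim hfp 1 y (hd y) q hq
  refine ⟨fun y => ?_, fun q h => CohExch.isZero_rpush_of_fibres hfp hfl q (hq q h)⟩
  obtain ⟨C, hC, h0, h1⟩ := Clifford24.exists_chart_structure f hy y (hq 2 le_rfl y)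
  refine C.exists_trivial_nhd 1 ?_ ?_ hC
  · simpa using h1
  · simpa using h0

end Groth.Agent.S1596
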