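import Groth.Prelude.Def_HTop2
import Mathlib.AlgebraicGeometry.Restrict
import Groth.Agent.HTop16.SN

set_option autoImplicit false
universe u
namespace HTop
end HTop
open HTop

namespace Groth.Agent.S15961

open CategoryTheory AlgebraicGeometry in
/-- Let ν : X' → X be a seminormalization of the scheme X (X' seminormal, ν a universal homeomorphism
inducing isomorphisms on residue fields and initial among such morphisms to X) and let U be an open
subscheme of X. Then the restriction of ν over U, ν⁻¹(U) → U, is a seminormalization of U. (The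
published lemma also treats U → X a localisation; that case is not restated.) -/
theorem result {X' X : Scheme.{u}} (ν : X' ⟶ X)
    (hν : HTop.IsSeminormalization ν) (hX' : HTop.IsSeminormal X') (U : X.Opens) :
    HTop.IsSeminormalization (ν ∣_ U) := by
  obtain ⟨h1, h2, h3⟩ := (S0415.result ν).1 hν.1.1
  have hU : FlatMor.IsUnivHomeo (ν ∣_ U) :=
    (S0415.result _).2 ⟨IsZariskiLocalAtTarget.restrict (P := @IsIntegralHom) h1 _,
      IsZariskiLocalAtTarget.restrict (P := @UniversallyInjective) h2 _,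
      IsZariskiLocalAtTarget.restrict (P := @Surjective) h3 _⟩
  have hT : HTop.IsSeminormal (ν ⁻¹ᵁ U : Scheme.{u}) := by
    intro t
    obtain ⟨V, hV⟩ := HTop16.exists_affine_mem (ν ⁻¹ᵁ U : Scheme.{u}) t
    exact ⟨V, hV, HTop16.seminormal_of_equiv ((ν ⁻¹ᵁ U).ι.appIso V.1).commRingCatIsoToRingEquiv
      (HTop16.isSeminormal_affine X' hX' ⟨(ν ⁻¹ᵁ U).ι ''ᵁ V.1, V.2.image_of_isOpenImmersion _⟩)⟩
  haveI : AlgebraicGeometry.IsReduced (ν ⁻¹ᵁ U : Scheme.{u}) :=
    HTop16.isReduced_of_affines _ fun V =>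
      HTop16.isReduced_of_seminormal (HTop16.isSeminormal_affine _ hT V)
  refine ⟨⟨hU, HTop16.res_cancel (g := U.ι) (by
    rw [morphismRestrict_ι]; exact HTop16.res_comp (HTop16.res_of_isOpenImmersion _) hν.1.2)
    (HTop16.res_of_isOpenImmersion _)⟩, fun Y π hπ hres => ?_⟩
  let sq := IsPullback.of_hasPullback π (ν ∣_ U)
  have hπ' : FlatMor.IsUnivHomeo (Limits.pullback.snd π (ν ∣_ U)) := by
    obtain ⟨a, b, c⟩ := (S0415.result π).1 hπ
    exact (S0415.result _).2 ⟨MorphismProperty.pullback_snd _ _ a,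
      MorphismProperty.pullback_snd _ _ b, MorphismProperty.pullback_snd _ _ c⟩
  haveI := ((S0415.result _).1 hπ').2.1
  obtain ⟨s, hs⟩ := HTop16.exists_section hT _ hπ' (HTop16.res_pullback sq hres)
  have e : (s ≫ Limits.pullback.fst π (ν ∣_ U)) ≫ π = ν ∣_ U := by
    rw [Category.assoc, Limits.pullback.condition, ← Category.assoc, hs, Category.id_comp]
  exact ⟨_, e, fun g hg => HTop16.hom_ext_of_uh hπ g _ (hg.trans e.symm)⟩

end Groth.Agent.S15961
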