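import Groth.Prelude.Def_HTop2
import Groth.Prelude.Def_Pi1
import Mathlib.AlgebraicGeometry.Morphisms.Integral
import Mathlib.AlgebraicGeometry.Morphisms.Finite
import Mathlib.AlgebraicGeometry.Morphisms.SchemeTheoreticallyDominant
import Mathlib.AlgebraicGeometry.Noetherian
import Mathlib.AlgebraicGeometry.Properties
import Groth.Agent.HTop16.NormalSN

set_option autoImplicit false
universe u
namespace HTop
end HTop
open HTop

namespace Groth.Agent.S15963

open CategoryTheory AlgebraicGeometry in
/-- Let S be a reduced Noetherian scheme, π : S̃ → S its normalisation (S̃ has integrally closed local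
domains, π is integral and an isomorphism over a dense open subset of S with dense preimage), ν : X'
→ S a seminormalization of S (X' seminormal, ν a universal homeomorphism with residue-field
isomorphisms, initial among such) and g : S̃ → X' a morphism with g followed by ν equal to π. Then ν
and g are scheme-theoretically dominant (the structure sheaf maps injectively into the direct
image), and if π is finite then so are ν and g. -/
theorem result {S Sn X' : Scheme.{u}}
    [IsNoetherian S] [IsReduced S]
    (π : Sn ⟶ S) [IsIntegralHom π] (hn : Pi1.IsNormalScheme Sn)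
    (hbir : ∃ U : S.Opens, Dense (U : Set S) ∧ Dense ((π ⁻¹ᵁ U : Sn.Opens) : Set Sn) ∧ IsIso (π ∣_ U))
    (ν : X' ⟶ S) (hν : HTop.IsSeminormalization ν) (hX' : HTop.IsSeminormal X')
    (g : Sn ⟶ X') (hg : g ≫ ν = π) :
    (IsSchemeTheoreticallyDominant ν ∧ IsSchemeTheoreticallyDominant g) ∧
      (IsFinite π → IsFinite ν ∧ IsFinite g) := by
  haveI : IsReduced X' := Groth.Agent.HTop16.isReduced_of_affines X' fun V =>
    Groth.Agent.HTop16.isReduced_of_seminormal (Groth.Agent.HTop16.isSeminormal_affine X' hX' V)
  obtain ⟨a, b, c⟩ := (S0415.result ν).1 hν.1.1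
  haveI := a
  haveI := c
  haveI : IsSchemeTheoreticallyDominant ν := .of_isDominant ν
  obtain ⟨U, hU, -, hiso⟩ := hbir
  haveI : IsDominant (g ≫ ν) := hg ▸ Groth.Agent.HTop16.isDominant_of_isIso_restrict π U hU hiso
  haveI : IsDominant g := Groth.Agent.HTop16.isDominant_cancel g ν hν.1.1 inferInstance
  haveI : IsSchemeTheoreticallyDominant g := .of_isDominant g
  refine ⟨⟨inferInstance, inferInstance⟩, fun hfin => ?_⟩
  haveI : IsFinite (g ≫ ν) := hg ▸ hfin
  haveI : IsFinite g := IsFinite.of_comp g ν
  exact ⟨Groth.Agent.HTop16.isFinite_of_integral_comp g ν, inferInstance⟩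

end Groth.Agent.S15963
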