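import Groth.Statements.S15978
import Groth.Agent.S2568
import Groth.Agent.FEtFF.NormalGeomUnibranch
import Groth.Agent.EGA43.Chevalley.SetDim
import Groth.Agent.EGA43.FibDepth.Points
import Groth.Agent.DimLib.Components
import Groth.Agent.CycLib28.AlgEqCurve
import Groth.Agent.RelVALib.ChowPn
-- import your own Groth.Agent.* helpers here

set_option autoImplicit false
universe u
open IntSh

namespace Groth.Agent.S15978

open CategoryTheory CategoryTheory.Limits AlgebraicGeometry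
open Groth.Agent

lemma trdeg_comp_immersion {P Y W : Scheme.{u}} (g : P ⟶ Y) (ι : W ⟶ P) [IsPreimmersion ι] (w : W) :
    DimLib.trdegHom ((ι ≫ g).residueFieldMap w).hom = DimLib.trdegHom (g.residueFieldMap (ι w)).hom := by
  haveI := DimLib.isIso_residueFieldMap_of_isPreimmersion ι w
  let e : P.residueField (ι w) ≃+* W.residueField w := (asIso (ι.residueFieldMap w)).commRingCatIsoToRingEquiv
  rw [Scheme.residueFieldMap_comp]
  exact DimLib.trdegHom_comp_ringEquiv (g.residueFieldMap (ι w)).hom e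

/-- Jacobson: closed sets are determined by their closed points. -/
lemma subset_of_closedPoints {P : Type*} [TopologicalSpace P] [JacobsonSpace P] {A B : Set P}
    (hA : IsLocallyClosed A) (hB : IsClosed B) (h : ∀ p ∈ A, IsClosed ({p} : Set P) → p ∈ B) : A ⊆ B := by
  refine subset_closure.trans ?_
  rw [← JacobsonSpace.closure_inter_closedPoints_eq_closure hA]
  exact closure_minimal (fun p hp => h p hp.1 hp.2) hB

/-- A closed integral piece dominating a normal base with equidimensional fibres is open over it, and its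
fibre-maximal points have transcendence degree d. -/
lemma openPiece {k : Type u} [Field k] {P Y : Scheme.{u}} (g : P ⟶ Y) [LocallyOfFiniteType g] [IsIntegral Y]
    (hN : Pi1.IsNormalScheme Y) (d : ℕ) {Z : Set P} (hZc : IsClosed Z) (hZi : IsIrreducible Z)
    (hZs : g.base '' Z = Set.univ) (hZd : ∀ y : Y, topologicalKrullDim ↥(Z ∩ g.base ⁻¹' {y}) = d) :
    (∀ O : Set P, IsOpen O → IsOpen (g.base '' (Z ∩ O))) ∧
      ∀ z ∈ Z, ∃ z' ∈ Z, z' ⤳ z ∧ g z' = g z ∧ DimLib.trdegHom (g.residueFieldMap z').hom = d := by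
  let I := Scheme.IdealSheafData.vanishingIdeal (X := P) ⟨Z, hZc⟩
  let ι := I.subschemeι
  have hr : Set.range ι.base = Z := by
    rw [show Set.range ι.base = (I.support : Set P) from I.range_subschemeι]
    simp [I]
  haveI : IrreducibleSpace I.subscheme := by
    haveI : Nonempty I.subscheme := by
      obtain ⟨z, hz⟩ := hZi.nonempty
      obtain ⟨w, -⟩ := hr.ge hz
      exact ⟨w⟩
    refine @IrreducibleSpace.mk _ _ ⟨?_⟩ inferInstance
    rintro U V hU hV ⟨a, -, ha⟩ ⟨b, -, hb⟩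
    obtain ⟨U', hU', rfl⟩ := ι.isEmbedding.isInducing.isOpen_iff.1 hU
    obtain ⟨V', hV', rfl⟩ := ι.isEmbedding.isInducing.isOpen_iff.1 hV
    obtain ⟨c, hcZ, hcU, hcV⟩ := hZi.isPreirreducible U' V' hU' hV' ⟨_, hr.le ⟨a, rfl⟩, ha⟩ ⟨_, hr.le ⟨b, rfl⟩, hb⟩
    obtain ⟨w, rfl⟩ := hr.ge hcZ
    exact ⟨w, Set.mem_univ _, hcU, hcV⟩
  let h := ι ≫ g
  have hhs : Function.Surjective h.base := fun y => by
    obtain ⟨z, hz, hzy⟩ := hZs.ge (Set.mem_univ y)
    obtain ⟨w, rfl⟩ := hr.ge hz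
    exact ⟨w, hzy⟩
  haveI : IsDominant h := ⟨hhs.denseRange⟩
  have himg : ∀ y, h.base ⁻¹' {y} = ι.base ⁻¹' (Z ∩ g.base ⁻¹' {y}) := fun y => by
    ext w
    exact ⟨fun hw => ⟨hr.le ⟨w, rfl⟩, hw⟩, fun hw => hw.2⟩
  have hdimy : ∀ y, topologicalKrullDim ↥(h.base ⁻¹' {y}) = d := fun y => by
    have e := (ι.isEmbedding.homeomorphImage (h.base ⁻¹' {y})).isHomeomorph.topologicalKrullDim_eq
    rw [e, himg, Set.image_preimage_eq_inter_range, hr, Set.inter_eq_left.2 Set.inter_subset_left]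
    exact hZd y
  have hfib : ∀ y, topologicalKrullDim ↥(h.fiber y) = d := fun y => by
    rw [(h.fiberHomeo y).isHomeomorph.topologicalKrullDim_eq]
    exact hdimy y
  have hgen : DimLib.trdegHom (h.residueFieldMap (genericPoint I.subscheme)).hom = d := by
    have e := EGA43.Chevalley.topologicalKrullDim_closure_inter_fibre h (genericPoint I.subscheme)
    rw [(genericPoint_spec I.subscheme).def, Set.univ_inter, hdimy] at e
    exact_mod_cast e.symm
  have hat : ∀ x, FlatMor.fibreDimAt h x = (d : WithBot ℕ∞) := fun x => by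
    have hle : FlatMor.fibreDimAt h x ≤ (d : WithBot ℕ∞) := by
      refine (iInf_le _ ⟨⊤, trivial⟩).trans ?_
      refine le_of_le_of_eq ?_ (hfib (h x))
      exact Topology.IsInducing.subtypeVal.topologicalKrullDim_le
    refine le_antisymm hle ?_
    have h1 := EGA43.Chevalley.le_fibreDimAt h x
    obtain ⟨m, hm, hmd⟩ : ∃ m : ℕ, FlatMor.fibreDimAt h x = (m : WithBot ℕ∞) ∧ m ≤ d := by
      rcases hh : FlatMor.fibreDimAt h x with _ | _ | m
      · rw [hh] at h1; exact absurd h1 (WithBot.bot_lt_coe _).not_ge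
      · rw [hh] at hle
        exact absurd (WithBot.coe_le_coe.1 hle) (ENat.natCast_lt_top d).not_ge
      · refine ⟨m, rfl, ?_⟩
        rw [hh] at hle
        exact Nat.cast_le.1 (show (m : WithBot ℕ∞) ≤ (d : WithBot ℕ∞) from hle)
    have h2 := EGA43.Chevalley.trdegHom_le_fibreDimAt h (genericPoint_specializes x) m hm.le
    rw [hgen] at h2
    rw [hm]
    exact_mod_cast h2
  constructor
  · intro O hO
    haveI : UniversallyOpen h := S2568.result (fun y => by
      haveI := (hN y).1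
      haveI := (hN y).2
      exact FEtFF.isGeomUnibranch_of_normal _) h (fun x => by rw [hat, hfib])
    have e : g.base '' (Z ∩ O) = h.base '' (ι.base ⁻¹' O) := by
      rw [← hr, Set.inter_comm, ← Set.image_preimage_eq_inter_range, ← Set.image_comp]
      rfl
    rw [e]
    exact h.isOpenMap _ (hO.preimage ι.continuous)
  · intro z hz
    obtain ⟨w, rfl⟩ := hr.ge hz
    obtain ⟨w', hw', hmax, hgw⟩ : ∃ w', w' ⤳ w ∧ (∀ v, v ⤳ w' → h v = h w' → v = w') ∧ h w' = h w := by
      haveI : LocallyOfFiniteType (h.fiberToSpecResidueField (h w)) :=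
        MorphismProperty.pullback_snd (P := @LocallyOfFiniteType) _ _ inferInstance
      obtain ⟨η, hη, hηm⟩ := DimLib.exists_maximal_specializes (X := h.fiber (h w)) (h.asFiber w)
      have hηy : ∀ v : h.fiber (h w), h (h.fiberι (h w) v) = h w := fun v =>
        (h.range_fiberι (h w)).le ⟨v, rfl⟩
      refine ⟨h.fiberι (h w) η, ?_, fun v hv hve => ?_, hηy η⟩
      · have := hη.map (h.fiberι (h w)).continuous
        rwa [h.fiberι_asFiber] at this
      · obtain ⟨v', rfl⟩ : v ∈ Set.range (h.fiberι (h w)) :=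
          (h.range_fiberι (h w)).ge (show h v = h w from hve.trans (hηy η))
        exact congrArg _ (hηm v' ((h.fiberι (h w)).isEmbedding.isInducing.specializes_iff.1 hv)).symm
    refine ⟨ι w', hr.le ⟨w', rfl⟩, hw'.map ι.continuous, hgw, ?_⟩
    have h3 := EGA43.Chevalley.fibreDimAt_eq_of_maximal h w' (fun v hv hve => hmax v hv hve)
    rw [hat] at h3
    have h4 : DimLib.trdegHom (h.residueFieldMap w').hom = d := by exact_mod_cast h3.symm
    rw [← h4]
    exact (Groth.Agent.S15978.trdeg_comp_immersion g ι w').symm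

/-- Let k be an algebraically closed field, X an integral scheme admitting a closed immersion into a
projective space over k, Y an integral normal scheme proper over k, and Z_1, …, Z_n closed
irreducible subsets of X ×_k Y each mapping onto Y under the second projection with all fibres of
the same Krull dimension d (a family of effective d-cycles of X parametrised by Y). Let B ⊆ Y be a
connected closed subset and F ⊆ X the image under the first projection of S ∩ p_2⁻¹(B), where S = ⋃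
Z_i. If F has Krull dimension d, then S ∩ p_2⁻¹(B) = p_1⁻¹(F) ∩ p_2⁻¹(B). (The published statement
is over an arbitrary field with Y a normal variety; for k = ℝ and X = Y = Spec ℂ one point of X ×_k
Y is such a family with d = 0 and B = Y, while p_1⁻¹(F) ∩ p_2⁻¹(B) has two points, and the published
proof uses irreducibility of products of irreducible closed subsets and a proper birational
flattening of Y; so k is taken algebraically closed and Y proper over k here.) -/
theorem result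
    {k : Type u} [Field k] [IsAlgClosed k] {X Y : Scheme.{u}}
    (sX : X ⟶ Spec (CommRingCat.of k)) (sY : Y ⟶ Spec (CommRingCat.of k))
    [IsIntegral X] (hX : RelProj.IsHProjective sX)
    [IsIntegral Y] [IsProper sY] (hN : Pi1.IsNormalScheme Y)
    (d : ℕ) {n : ℕ} (Z : Fin n → Set ↥(pullback sX sY))
    (hZc : ∀ i, IsClosed (Z i)) (hZi : ∀ i, IsIrreducible (Z i))
    (hZs : ∀ i, (pullback.snd sX sY).base '' Z i = Set.univ)
    (hZd : ∀ i (y : Y), topologicalKrullDim ↥(Z i ∩ (pullback.snd sX sY).base ⁻¹' {y}) = d)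
    (B : Set Y) (hB : IsClosed B) (hBc : _root_.IsPreconnected B)
    (hFd : topologicalKrullDim
        ↥((pullback.fst sX sY).base '' ((⋃ i, Z i) ∩ (pullback.snd sX sY).base ⁻¹' B)) = d) :
    (⋃ i, Z i) ∩ (pullback.snd sX sY).base ⁻¹' B =
      (pullback.fst sX sY).base ⁻¹'
          ((pullback.fst sX sY).base '' ((⋃ i, Z i) ∩ (pullback.snd sX sY).base ⁻¹' B)) ∩
        (pullback.snd sX sY).base ⁻¹' B := by
  classical
  haveI : IsProper sX := by
    obtain ⟨m, i, hi, e⟩ := hX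
    haveI := hi
    haveI : IsProper (CohB1.ProjSpaceOver.toBase m (Spec (CommRingCat.of k))) := Groth.Agent.RelVALib.isProper_toBase m _
    exact e ▸ inferInstance
  let p₁ := pullback.fst sX sY
  let p₂ := pullback.snd sX sY
  haveI : IsProper p₁ := MorphismProperty.pullback_fst (P := @IsProper) _ _ inferInstance
  haveI : IsProper p₂ := MorphismProperty.pullback_snd (P := @IsProper) _ _ inferInstance
  haveI : JacobsonSpace X := LocallyOfFiniteType.jacobsonSpace sX
  haveI : JacobsonSpace Y := LocallyOfFiniteType.jacobsonSpace sY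
  haveI : JacobsonSpace ↥(pullback sX sY) := LocallyOfFiniteType.jacobsonSpace (p₁ ≫ sX)
  haveI : CompactSpace X := QuasiCompact.compactSpace_of_compactSpace sX
  haveI : IsLocallyNoetherian X := LocallyOfFiniteType.isLocallyNoetherian sX
  haveI : IsNoetherian X := {}
  let S : Set ↥(pullback sX sY) := ⋃ i, Z i
  have hS : IsClosed S := isClosed_iUnion_of_finite hZc
  let F : Set X := p₁.base '' (S ∩ p₂.base ⁻¹' B)
  have hSB : IsClosed (S ∩ p₂.base ⁻¹' B) := hS.inter (hB.preimage p₂.continuous)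
  have hF : IsClosed F := p₁.isClosedMap _ hSB
  refine Set.Subset.antisymm (fun p hp => ⟨⟨p, hp, rfl⟩, hp.2⟩) ?_
  show p₁.base ⁻¹' F ∩ p₂.base ⁻¹' B ⊆ S ∩ p₂.base ⁻¹' B
  refine subset_of_closedPoints ((hF.preimage p₁.continuous).inter (hB.preimage p₂.continuous)).isLocallyClosed hSB ?_
  intro p ⟨hpF, hpB⟩ hpc
  refine ⟨?_, hpB⟩
  let cl := fun (a : ↥(pullback sX sY)) (ha : IsClosed ({a} : Set ↥(pullback sX sY))) =>
    Groth.Agent.DimLib.isClosed_singleton_image (k := k) sY p₂ ha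
  -- slices over rational points of Y
  have key : ∀ (y : Y), IsClosed ({y} : Set Y) → ∃ s : X ⟶ pullback sX sY, IsClosedImmersion s ∧ s ≫ p₁ = 𝟙 X ∧
      ∀ v, p₂ v = y → v = s (p₁ v) ∧ p₂ (s (p₁ v)) = y := by
    intro y hy
    let t := pointOfClosedPoint sY y hy
    have ht : t ≫ sY = 𝟙 _ := pointOfClosedPoint_comp _ _ _
    let s := AlgEqCyc.slice sX sY t ht
    have hs : s ≫ p₁ = 𝟙 X := pullback.lift_fst _ _ _
    refine ⟨s, ?_, hs, fun v hv => ?_⟩
    · haveI : IsClosedImmersion (s ≫ p₁) := hs ▸ inferInstance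
      exact IsClosedImmersion.of_comp s p₁
    · have sq : IsPullback s sX p₂ t := by
        refine IsPullback.of_right ?_ (pullback.lift_snd _ _ _) (IsPullback.of_hasPullback sX sY)
        rw [ht, show s ≫ pullback.fst sX sY = 𝟙 X from hs]
        exact IsPullback.of_horiz_isIso ⟨by simp⟩
      obtain ⟨z, hz, -⟩ := Scheme.Pullback.exists_preimage_pullback (f := p₂) (g := t) v (IsLocalRing.closedPoint k)
        (hv.trans (pointOfClosedPoint_apply sY y hy _).symm)
      have hz' : s (sq.isoPullback.inv z) = v := by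
        rw [← Scheme.Hom.comp_apply, sq.isoPullback_inv_fst]; exact hz
      have he : p₁ v = sq.isoPullback.inv z := by
        rw [← hz', ← Scheme.Hom.comp_apply, hs]; rfl
      rw [he, hz']
      exact ⟨rfl, hv⟩
  -- maximal points of the fibres
  have hmaxpt : ∀ z ∈ S, IsClosed ({p₂ z} : Set Y) → ∃ i, ∃ z' ∈ Z i, z' ⤳ z ∧ p₂ z' = p₂ z ∧ Groth.Agent.DimLib.ptDim sX (p₁ z') = d := by
    intro z hz hzc
    obtain ⟨i, hzi⟩ := Set.mem_iUnion.1 hz
    obtain ⟨z', hz'Z, hz', hz'y, htr⟩ := (openPiece (k := k) p₂ hN d (hZc i) (hZi i) (hZs i) (hZd i)).2 z hzi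
    refine ⟨i, z', hz'Z, hz', hz'y, ?_⟩
    obtain ⟨s, hscl, hs, hsp⟩ := key _ hzc
    haveI := hscl
    have h1 := Groth.Agent.DimLib.ptDim_comp sY p₂ z'
    rw [(Groth.Agent.DimLib.ptDim_eq_zero_iff sY (p₂ z')).2 (show IsClosed ({p₂ z'} : Set Y) by rw [hz'y]; exact hzc),
      htr, zero_add] at h1
    rw [← h1]
    have h2 := Groth.Agent.DimLib.ptDim_comp_preimmersion (k := k) (p₂ ≫ sY) s (p₁ z')
    have h3 : s ≫ p₂ ≫ sY = sX := by
      rw [show p₂ ≫ sY = p₁ ≫ sX from pullback.condition.symm, reassoc_of% hs]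
    rw [h3, ← (hsp z' hz'y).1] at h2
    exact h2
  have hdimF : ∀ x ∈ F, Groth.Agent.DimLib.ptDim sX x ≤ d := fun x hx => by
    have h := Groth.Agent.DimLib.topologicalKrullDim_closed_eq_iSup sX hF
    have h' : (Groth.Agent.DimLib.ptDim sX x : WithBot ℕ∞) ≤ (d : WithBot ℕ∞) :=
      ((le_iSup (fun x : F => (Groth.Agent.DimLib.ptDim sX x.1 : WithBot ℕ∞)) ⟨x, hx⟩).trans_eq h.symm).trans hFd.le
    exact_mod_cast h'
  set x := p₁ p with hxdef
  set y := p₂ p with hydef
  have hxc : IsClosed ({x} : Set X) := p₁.isClosedMap.closure_image_subset {p} |> fun _ => by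
    simpa using p₁.isClosedMap _ hpc
  have hyc : IsClosed ({y} : Set Y) := by simpa using p₂.isClosedMap _ hpc
  -- a d-dimensional piece of F through x
  obtain ⟨z, ⟨⟨hzS, hzB⟩, hzx⟩, hzc⟩ := nonempty_inter_closedPoints
    (Z := (S ∩ p₂.base ⁻¹' B) ∩ p₁.base ⁻¹' {x})
    (by obtain ⟨z, hz, e⟩ := hpF; exact ⟨z, hz, e⟩) (hSB.inter (hxc.preimage p₁.continuous)).isLocallyClosed
  have hy0 : IsClosed ({p₂ z} : Set Y) := by simpa using p₂.isClosedMap _ hzc
  obtain ⟨i₀, z', hz'Z, hz'z, hz'y, hz'd⟩ := hmaxpt z hzS hy0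
  set c := p₁ z' with hcdef
  have hcx : c ⤳ x := hzx ▸ hz'z.map p₁.continuous
  have hcF : c ∈ F := ⟨z', ⟨Set.mem_iUnion.2 ⟨i₀, hz'Z⟩, show p₂ z' ∈ B from hz'y.symm ▸ hzB⟩, rfl⟩
  obtain ⟨C, hCfin, hCcl, hCirr, hCeq⟩ := TopologicalSpace.NoetherianSpace.exists_finite_set_isClosed_irreducible hF
  let T : Set X := ⋃ t ∈ {t ∈ C | c ∉ t}, t
  have hT : IsClosed T := (hCfin.subset fun t ht => ht.1).isClosed_biUnion fun t ht => hCcl t ht.1
  have hcT : c ∉ T := fun hh => by
    obtain ⟨t, ht, hct⟩ := Set.mem_iUnion₂.1 hh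
    exact ht.2 hct
  have hFT : ∀ a ∈ F, a ∉ T → c ⤳ a := fun a ha haT => by
    obtain ⟨t, ht, hat⟩ := Set.mem_sUnion.1 (hCeq ▸ ha)
    have hct : c ∈ t := by
      by_contra hct
      exact haT (Set.mem_biUnion (x := t) ⟨ht, hct⟩ hat)
    obtain ⟨g, hg⟩ := QuasiSober.sober (hCirr t ht) (hCcl t ht)
    have hgF : g ∈ F := hCeq ▸ Set.mem_sUnion_of_mem hg.mem ht
    have : g = c := Groth.Agent.DimLib.eq_of_specializes_of_ptDim_le sX (hg.specializes hct)
      ((hdimF g hgF).trans hz'd.ge)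
    exact this ▸ hg.specializes hat
  let A : Set Y := B ∩ ⋂ a ∈ {a : X | c ⤳ a ∧ IsClosed ({a} : Set X)}, p₂.base '' (S ∩ p₁.base ⁻¹' {a})
  have hA : IsClosed A := hB.inter (isClosed_biInter fun a ha => p₂.isClosedMap _ (hS.inter (ha.2.preimage p₁.continuous)))
  let O : Set Y := ⋃ i, p₂.base '' (Z i ∩ p₁.base ⁻¹' Tᶜ)
  have hO : IsOpen O := isOpen_iUnion fun i =>
    (openPiece (k := k) p₂ hN d (hZc i) (hZi i) (hZs i) (hZd i)).1 _ (hT.isOpen_compl.preimage p₁.continuous)
  have hAO : A ⊆ O := fun y' hy' => by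
    obtain ⟨a, ⟨hca, haT⟩, hac⟩ := nonempty_inter_closedPoints (Z := closure {c} ∩ Tᶜ)
      ⟨c, subset_closure rfl, hcT⟩ (isClosed_closure.isLocallyClosed.inter hT.isOpen_compl.isLocallyClosed)
    obtain ⟨w, ⟨hwS, hwa⟩, hwy⟩ := Set.mem_iInter₂.1 hy'.2 a ⟨specializes_iff_mem_closure.2 hca, hac⟩
    obtain ⟨i, hwi⟩ := Set.mem_iUnion.1 hwS
    refine Set.mem_iUnion.2 ⟨i, w, ⟨hwi, ?_⟩, hwy⟩
    show p₁ w ∈ Tᶜ
    rw [show p₁ w = a from hwa]
    exact haT
  -- a closed y' seeing the generic point c sees the whole piece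
  have hsee : ∀ (y' : Y), IsClosed ({y'} : Set Y) → y' ∈ B → ∀ w ∈ S, p₂ w = y' → p₁ w = c → y' ∈ A := by
    intro y' hy'c hy'B w hwS hwy hwc
    refine ⟨hy'B, Set.mem_iInter₂.2 fun a ha => ?_⟩
    obtain ⟨s, hscl, hs, hsp⟩ := key y' hy'c
    have hsc : s c ⤳ s a := ha.1.map s.continuous
    have hw' : w = s c := hwc ▸ (hsp w hwy).1
    have hy'' : p₂ (s a) = y' := by
      have h := (hsc.map p₂.continuous)
      rw [← hw', hwy] at h
      exact (h.mem_closed hy'c rfl)
    refine ⟨s a, ⟨(hw' ▸ hsc).mem_closed hS hwS, ?_⟩, hy''⟩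
    show p₁ (s a) = a
    rw [← Scheme.Hom.comp_apply, hs]; rfl
  have hOA : B ∩ O ⊆ A := by
    refine subset_of_closedPoints (hB.isLocallyClosed.inter hO.isLocallyClosed) hA ?_
    rintro y' ⟨hy'B, hy'O⟩ hy'c
    obtain ⟨i, w, ⟨hwi, hwT⟩, hwy⟩ := Set.mem_iUnion.1 hy'O
    have hwS : w ∈ S := Set.mem_iUnion.2 ⟨i, hwi⟩
    obtain ⟨j, w', hw'Z, hw'w, hw'y, hw'd⟩ := hmaxpt w hwS (show IsClosed ({p₂ w} : Set Y) from hwy.symm ▸ hy'c)
    have hw'S : w' ∈ S := Set.mem_iUnion.2 ⟨j, hw'Z⟩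
    have hw'yy : p₂ w' = y' := hw'y.trans hwy
    have hw'T : p₁ w' ∉ T := fun hh => hwT ((hw'w.map p₁.continuous).mem_closed hT hh)
    have hw'F : p₁ w' ∈ F := ⟨w', ⟨hw'S, show p₂ w' ∈ B from hw'yy.symm ▸ hy'B⟩, rfl⟩
    have hc' : p₁ w' = c :=
      (Groth.Agent.DimLib.eq_of_specializes_of_ptDim_le sX (hFT _ hw'F hw'T) (hz'd.trans hw'd.symm).le).symm
    exact hsee y' hy'c hy'B w' hw'S hw'yy hc'
  have hne : (B ∩ A).Nonempty :=
    ⟨p₂ z, hzB, hsee _ hy0 hzB z' (Set.mem_iUnion.2 ⟨i₀, hz'Z⟩) hz'y rfl⟩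
  have hyA : y ∈ A := by
    by_contra hyA
    have h1 : (B ∩ O).Nonempty := hne.mono fun a ha => ⟨ha.1, hAO ha.2⟩
    obtain ⟨b, hb, hbO, hbA⟩ := hBc O Aᶜ hO hA.isOpen_compl
      (fun b hb => by
        by_cases hbA : b ∈ A
        · exact Or.inl (hAO hbA)
        · exact Or.inr hbA) h1 ⟨y, hpB, hyA⟩
    exact hbA (hOA ⟨hb, hbO⟩)
  obtain ⟨w, ⟨hwS, hwx⟩, hwy⟩ := Set.mem_iInter₂.1 hyA.2 x ⟨hcx, hxc⟩
  obtain ⟨s, -, hs, hsp⟩ := key y hyc
  have e1 := (hsp w hwy).1
  have e2 := (hsp p rfl).1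
  rw [show p₁ w = x from hwx] at e1
  rw [← hxdef, ← e1] at e2
  exact e2 ▸ hwS

end Groth.Agent.S15978
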