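import Groth.Statements.S15979
import Groth.Agent.QFac29.Local
import Groth.Agent.CAlgMisc2.Normal

set_option autoImplicit false
set_option backward.isDefEq.respectTransparency false
universe u
open IntSh

namespace Groth.Agent.S15979

open CategoryTheory CategoryTheory.Limits AlgebraicGeometry IsLocalRing

/-- in a normal Noetherian domain, an element with zero set `V(q)` generates the elements of `q`-order at least its own -/
theorem mem_span_of_zero_set {A O : Type u} [CommRing A] [IsDomain A] [IsNoetherianRing A] [IsIntegrallyClosed A]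
    [CommRing O] [IsLocalRing O] [Algebra A O] (q : Ideal A) [q.IsPrime] [IsLocalization.AtPrime O q] (hq : q.height = 1)
    {b : A} (hb0 : b ≠ 0) (hb : ∀ P : Ideal A, P.IsPrime → b ∈ P → q ≤ P) {N : ℕ}
    (hgen : Ideal.span {algebraMap A O b} = maximalIdeal O ^ N) {r : A}
    (hr : algebraMap A O r ∈ maximalIdeal O ^ N) : r ∈ Ideal.span ({b} : Set A) := by
  let K := FractionRing A
  obtain ⟨c, hc⟩ := CAlgMisc2.mem_range_of_forall_height_one (algebraMap A K r / algebraMap A K b) (fun P hPp hP => by
    have hbK : algebraMap A K b ≠ 0 := fun h => hb0 (IsFractionRing.injective A K (h.trans (map_zero _).symm))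
    by_cases hbP : b ∈ P
    · have hle := hb P hPp hbP
      have heq : q = P := by
        by_contra hne
        haveI : q.FiniteHeight := Ideal.finiteHeight_iff_lt.2 (Or.inr (by rw [hq]; exact ENat.coe_lt_top 1))
        have := Ideal.height_strict_mono_of_isPrime (lt_of_le_of_ne hle hne)
        rw [hq, hP] at this
        exact lt_irrefl _ this
      subst heq
      rw [← hgen, Ideal.mem_span_singleton'] at hr
      obtain ⟨z, hz⟩ := hr
      obtain ⟨⟨c, s⟩, hcs⟩ := IsLocalization.surj q.primeCompl z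
      have h1 : algebraMap A O (r * s.1) = algebraMap A O (c * b) := by
        simp only [] at hcs
        rw [map_mul, map_mul, ← hz, ← hcs]; ring
      obtain ⟨o, ho⟩ := (IsLocalization.eq_iff_exists q.primeCompl O).1 h1
      refine ⟨o.1 * c, o.1 * s.1, fun h => (‹q.IsPrime›.mem_or_mem h).elim o.2 s.2, ?_⟩
      rw [div_mul_eq_mul_div, div_eq_iff hbK, ← map_mul, ← map_mul]
      congr 1
      linear_combination ho
    · exact ⟨r, b, hbP, by rw [div_mul_cancel₀ _ hbK]⟩)
  refine Ideal.mem_span_singleton'.2 ⟨c, IsFractionRing.injective A K ?_⟩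
  rw [map_mul, hc, div_mul_cancel₀]
  exact fun h => hb0 (IsFractionRing.injective A K (h.trans (map_zero _).symm))

/-- a point cut out locally by functions carries an effective Cartier divisor with the same support -/
theorem exists_cartier_of_local {Y : Scheme.{u}} [IsNoetherian Y] [IsIntegral Y] (hYn : Pi1.IsNormalScheme Y)
    {η : Y} (hη : ringKrullDim (Y.presheaf.stalk η) = 1)
    (hloc : ∀ y : Y, IsClosed ({y} : Set Y) → η ⤳ y → ∃ (W : Y.Opens) (_ : IsAffineOpen W) (_ : y ∈ W)
      (a : Γ(Y, W)), ∀ w ∈ W, (w ∈ Y.basicOpen a ↔ ¬ η ⤳ w)) :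
    ∃ J : Y.IdealSheafData, FGA.IsEffCartier J ∧ (J.support : Set Y) = closure {η} := by
  classical
  let O := Y.presheaf.stalk η
  haveI := (hYn η).1
  haveI := (hYn η).2
  haveI : IsNoetherianRing O := inferInstance
  have hnf : ¬ IsField O := fun h => by
    rw [ringKrullDim_eq_zero_of_isField h] at hη
    exact zero_ne_one hη
  haveI : Ring.KrullDimLE 1 O := Ring.krullDimLE_iff.2 hη.le
  have hprim : ∀ P : Ideal O, P ≠ ⊥ → P.IsPrime → P = maximalIdeal O := fun P h1 h2 =>
    IsLocalRing.eq_maximalIdeal (Ring.krullDimLE_one_iff_of_noZeroDivisors.1 inferInstance P h1 h2)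
  haveI : IsDiscreteValuationRing O := by
    have h := (IsDiscreteValuationRing.TFAE O hnf).out 0 3
      (a := IsDiscreteValuationRing O) (b := IsIntegrallyClosed O ∧ ∃! P : Ideal O, P ≠ ⊥ ∧ P.IsPrime) (h₁ := rfl) (h₂ := rfl)
    exact h.2 ⟨inferInstance, maximalIdeal O,
      ⟨fun h => hnf (IsLocalRing.isField_iff_maximalIdeal_eq.2 h), inferInstance⟩, fun P hP => hprim P hP.1 hP.2⟩
  -- finitely many closed points suffice
  let Pt := {y : Y // IsClosed ({y} : Set Y) ∧ η ⤳ y}
  choose W hW hyW a ha using fun y : Pt => hloc y.1 y.2.1 y.2.2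
  have hcov : closure ({η} : Set Y) ⊆ ⋃ y : Pt, (W y : Set Y) := by
    intro w hw
    obtain ⟨z, hz, hzc⟩ := (isClosed_closure (s := ({w} : Set Y))).exists_closed_singleton ⟨w, subset_closure rfl⟩
    have hηz : η ⤳ z := specializes_iff_mem_closure.2 (closure_minimal (Set.singleton_subset_iff.2 hw) isClosed_closure hz)
    exact Set.mem_iUnion.2 ⟨⟨z, hzc, hηz⟩, (specializes_iff_mem_closure.2 hz).mem_open (W _).2 (hyW ⟨z, hzc, hηz⟩)⟩
  obtain ⟨T, hT⟩ := (TopologicalSpace.NoetherianSpace.isCompact (closure ({η} : Set Y))).elim_finite_subcover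
    (fun y : Pt => (W y : Set Y)) (fun y => (W y).2) hcov
  have hηW : ∀ y : Pt, η ∈ W y := fun y => y.2.2.mem_open (W y).2 (hyW y)
  let g : Pt → O := fun y => Y.presheaf.germ (W y) η (hηW y) (a y)
  have hgm : ∀ y, g y ∈ maximalIdeal O := fun y => (mem_maximalIdeal _).2 fun h =>
    ((ha y η (hηW y)).1 ((Scheme.mem_basicOpen _ _ _ _).2 h)) specializes_rfl
  have ha0 : ∀ y : Pt, a y ≠ 0 := by
    intro y h0
    have hgW : genericPoint Y ∈ W y := (genericPoint_specializes η).mem_open (W y).2 (hηW y)
    have h1 := (ha y (genericPoint Y) hgW).2 fun h => by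
      have heq := (h.antisymm (genericPoint_specializes η)).eq
      subst heq
      exact hnf (Field.toIsField Y.functionField)
    rw [h0] at h1
    simp at h1
  have hg0 : ∀ y, g y ≠ 0 := fun y h => ha0 y (germ_injective_of_isIntegral Y η (hηW y) (h.trans (map_zero _).symm))
  obtain ⟨π, hπ⟩ := IsDiscreteValuationRing.exists_irreducible O
  choose e he using fun y => IsDiscreteValuationRing.associated_pow_irreducible (hg0 y) hπ
  have hespan : ∀ y, Ideal.span {g y} = maximalIdeal O ^ (e y) := fun y => by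
    rw [Irreducible.maximalIdeal_eq hπ, Ideal.span_singleton_pow]
    exact Ideal.span_singleton_eq_span_singleton.2 (he y)
  have hepos : ∀ y, 0 < e y := fun y => Nat.pos_of_ne_zero fun h0 => by
    have := hespan y
    rw [h0, pow_zero, Ideal.one_eq_top, Ideal.span_singleton_eq_top] at this
    exact (mem_maximalIdeal _).1 (hgm y) this
  let M := ∏ y ∈ T, e y
  have hM : 0 < M := Finset.prod_pos fun y _ => hepos y
  let Q : CommRingCat.{u} := CommRingCat.of (O ⧸ maximalIdeal O ^ M)
  haveI : Nontrivial (O ⧸ maximalIdeal O ^ M) := Ideal.Quotient.nontrivial_iff.2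
    (ne_top_of_le_ne_top (maximalIdeal.isMaximal O).ne_top (Ideal.pow_le_self hM.ne'))
  let mk : Y.presheaf.stalk η ⟶ Q := CommRingCat.ofHom (Ideal.Quotient.mk (maximalIdeal O ^ M))
  let φ : Spec Q ⟶ Y := Spec.map mk ≫ Y.fromSpecStalk η
  have hφη : ∀ z, φ z = η := by
    intro z
    show Y.fromSpecStalk η (Spec.map mk z) = η
    have hm : Spec.map mk z = closedPoint O := PrimeSpectrum.ext <|
      ((maximalIdeal.isMaximal O).eq_of_le (Spec.map mk z).isPrime.ne_top fun u hu => by
        refine (Spec.map mk z).isPrime.mem_of_pow_mem M ?_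
        show mk (u ^ M) ∈ z.asIdeal
        rw [show mk (u ^ M) = 0 from Ideal.Quotient.eq_zero_iff_mem.2 (Ideal.pow_mem_pow hu M)]
        exact z.asIdeal.zero_mem).symm
    rw [hm]
    exact Scheme.fromSpecStalk_closedPoint
  haveI : QuasiCompact φ := quasiCompact_of_compactSpace φ
  have hsupp : (φ.ker.support : Set Y) = closure {η} := by
    rw [Scheme.Hom.support_ker]
    congr 1
    refine Set.eq_singleton_iff_unique_mem.2 ⟨?_, fun w ⟨z, hz⟩ => hz ▸ hφη z⟩
    obtain ⟨z⟩ := (inferInstance : Nonempty (PrimeSpectrum (O ⧸ maximalIdeal O ^ M)))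
    exact ⟨z, hφη z⟩
  refine ⟨φ.ker, fun y => ?_, hsupp⟩
  by_cases hy : η ⤳ y
  · obtain ⟨t, htT, hyt⟩ := Set.mem_iUnion₂.1 (hT (specializes_iff_mem_closure.1 hy))
    obtain ⟨k, hk⟩ := Finset.dvd_prod_of_mem e htT
    have hMk : M = e t * k := hk
    haveI : Nonempty (W t) := ⟨⟨η, hηW t⟩⟩
    refine ⟨⟨W t, hW t⟩, hyt, a t ^ k, pow_mem (mem_nonZeroDivisors_of_ne_zero (ha0 t)) k, ?_⟩
    haveI : IsNoetherianRing Γ(Y, W t) := IsLocallyNoetherian.component_noetherian ⟨W t, hW t⟩
    haveI : IsIntegrallyClosed Γ(Y, W t) := H8Lim.isIntegrallyClosed_of_isAffineOpen (fun x => (hYn x).2) (hW t)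
    letI := TopCat.Presheaf.algebra_section_stalk Y.presheaf ⟨η, hηW t⟩
    let qη := (hW t).primeIdealOf ⟨η, hηW t⟩
    haveI : IsLocalization.AtPrime O qη.asIdeal := (hW t).isLocalization_stalk ⟨η, hηW t⟩
    have hq1 : qη.asIdeal.height = 1 := by
      have := IsLocalization.AtPrime.ringKrullDim_eq_height qη.asIdeal O
      rw [hη] at this
      exact (WithBot.coe_injective (this.symm.trans rfl))
    have hker : ∀ r : Γ(Y, W t), r ∈ φ.ker.ideal ⟨W t, hW t⟩ ↔
        Y.presheaf.germ (W t) η (hηW t) r ∈ maximalIdeal O ^ M := by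
      intro r
      rw [Scheme.Hom.ker_apply, RingHom.mem_ker, ← Ideal.Quotient.eq_zero_iff_mem]
      have htop : φ ⁻¹ᵁ W t = ⊤ := eq_top_iff.2 fun z _ => show φ z ∈ W t by rw [hφη]; exact hηW t
      have hpre : Y.fromSpecStalk η ⁻¹ᵁ W t = ⊤ := eq_top_iff.2 fun z _ => by
        show Y.fromSpecStalk η z ∈ W t
        have : Y.fromSpecStalk η z ∈ Set.range (Y.fromSpecStalk η) := ⟨z, rfl⟩
        rw [Scheme.range_fromSpecStalk] at this
        exact this.mem_open (W t).2 (hηW t)
      have hgerm : φ.appLE (W t) ⊤ htop.ge ≫ (Scheme.ΓSpecIso Q).hom = Y.presheaf.germ (W t) η (hηW t) ≫ mk := by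
        rw [show φ.appLE (W t) ⊤ htop.ge = (Y.fromSpecStalk η).appLE (W t) ⊤ hpre.ge ≫ (Spec.map mk).appLE ⊤ ⊤ le_top from
          (Scheme.Hom.appLE_comp_appLE _ _ _ _ _ _ _).symm]
        simp only [Scheme.Hom.appLE, Scheme.fromSpecStalk_app (hηW t), Category.assoc, ← Functor.map_comp_assoc]
        congr 1
        have hid : ∀ (S : Scheme.{u}) (i : Opposite.op (⊤ : S.Opens) ⟶ Opposite.op ⊤), S.presheaf.map i = 𝟙 _ := fun S i => by
          rw [Subsingleton.elim i (𝟙 _)]; exact S.presheaf.map_id _
        erw [hid, Category.id_comp, hid, Category.id_comp]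
        exact (Iso.inv_comp_eq _).2 (Scheme.ΓSpecIso_naturality mk)
      have h2 := congrArg (fun f => f r) hgerm
      simp only [CommRingCat.comp_apply] at h2
      constructor
      · intro h
        refine h2.symm.trans ?_
        have : φ.appLE (W t) ⊤ htop.ge r = 0 := by
          rw [Scheme.Hom.appLE, CommRingCat.comp_apply, h, map_zero]
        rw [this, map_zero]
      · intro h
        have h3 : φ.appLE (W t) ⊤ htop.ge r = 0 :=
          (Scheme.ΓSpecIso Q).commRingCatIsoToRingEquiv.injective ((h2.trans h).trans (map_zero _).symm)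
        rw [Scheme.Hom.appLE, CommRingCat.comp_apply] at h3
        haveI : IsIso ((Spec Q).presheaf.map (homOfLE htop.ge).op) := by
          have : IsIso (homOfLE htop.ge) := ⟨homOfLE htop.le, Subsingleton.elim _ _, Subsingleton.elim _ _⟩
          infer_instance
        exact (asIso ((Spec Q).presheaf.map (homOfLE htop.ge).op)).commRingCatIsoToRingEquiv.injective
          (h3.trans (map_zero _).symm)
    have hgen : Ideal.span {algebraMap Γ(Y, W t) O (a t ^ k)} = maximalIdeal O ^ M := by
      rw [hMk, pow_mul, ← hespan t, Ideal.span_singleton_pow, map_pow]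
      rfl
    refine le_antisymm (fun r hr => ?_) ((Ideal.span_singleton_le_iff_mem _).2 ((hker _).2
      (hgen.le (Ideal.mem_span_singleton_self _))))
    refine mem_span_of_zero_set qη.asIdeal hq1 (pow_ne_zero k (ha0 t)) (fun P hP hmem => ?_) hgen ((hker r).1 hr)
    have hat := hP.mem_of_pow_mem k hmem
    let w := (hW t).fromSpec ⟨P, hP⟩
    have hw : w ∈ W t := (hW t).range_fromSpec.le (Set.mem_range_self _)
    have hηw : η ⤳ w := by
      by_contra hne
      have h1 := (ha t w hw).2 hne
      rw [show w = (hW t).fromSpec ⟨P, hP⟩ from rfl, ← (hW t).fromSpec_image_basicOpen] at h1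
      obtain ⟨P', hP', he'⟩ := h1
      rw [(hW t).fromSpec.isOpenEmbedding.injective he'] at hP'
      exact hP' hat
    exact (PrimeSpectrum.le_iff_specializes qη ⟨P, hP⟩).2
      ((hW t).fromSpec.isOpenEmbedding.isEmbedding.isInducing.specializes_iff.1
        (((hW t).fromSpec_primeIdealOf ⟨η, hηW t⟩).symm ▸ hηw))
  · obtain ⟨V, hV, hyV, hVD⟩ := exists_isAffineOpen_mem_and_subset (x := y)
      (U := (⟨(closure {η})ᶜ, isClosed_closure.isOpen_compl⟩ : Y.Opens))
      (show y ∉ closure {η} from fun h => hy (specializes_iff_mem_closure.2 h))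
    refine ⟨⟨V, hV⟩, hyV, 1, one_mem _, ?_⟩
    rw [Ideal.span_singleton_one, eq_top_iff]
    rintro r -
    rw [Scheme.Hom.ker_apply, RingHom.mem_ker]
    have hbot : φ ⁻¹ᵁ V = ⊥ := eq_bot_iff.2 fun z hz => hVD (show φ z ∈ V from hz) (hφη z ▸ subset_closure rfl)
    haveI : Subsingleton Γ(Spec Q, φ ⁻¹ᵁ V) := by
      rw [hbot]; exact CommRingCat.subsingleton_of_isTerminal (TopCat.Sheaf.isTerminalOfEmpty (Spec Q).sheaf)
    exact Subsingleton.elim _ _

/-- Let π : X → Y be a surjective locally projective morphism between normal separated Noetherian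
integral schemes which is equidimensional in the sense that all fibres π⁻¹(y), y ∈ Y, have the same
Krull dimension d. If X is ℚ-factorial, so is Y. Here a normal Noetherian integral scheme is called
ℚ-factorial when for every point ξ whose local ring has dimension one the prime divisor given by the
closure of ξ is, as a set, the support of some effective Cartier divisor (equivalently: some
positive multiple of every Weil divisor is Cartier). -/
theorem result
    {X Y : Scheme.{u}} [IsNoetherian X] [IsNoetherian Y] [IsIntegral X] [IsIntegral Y]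
    [X.IsSeparated] [Y.IsSeparated]
    (hXn : Pi1.IsNormalScheme X) (hYn : Pi1.IsNormalScheme Y)
    (π : X ⟶ Y) (hπ : RelProj.IsLocallyProjective π) [Surjective π]
    (d : ℕ) (hd : ∀ y : Y, topologicalKrullDim (↥(π.fiber y) : Type u) = d)
    (hX : ∀ ξ : X, ringKrullDim (X.presheaf.stalk ξ) = 1 →
      ∃ I : X.IdealSheafData, FGA.IsEffCartier I ∧ (I.support : Set X) = closure {ξ}) :
    ∀ η : Y, ringKrullDim (Y.presheaf.stalk η) = 1 →
      ∃ J : Y.IdealSheafData, FGA.IsEffCartier J ∧ (J.support : Set Y) = closure {η} := by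
  intro η hη
  exact exists_cartier_of_local hYn hη fun y hy hyη => QFac29.exists_local_equation hYn π hπ d hd hX hη hy hyη

end Groth.Agent.S15979
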