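import Groth.Statements.S15981
import Groth.Agent.KTop28.Basic
import Groth.Agent.KPr28.Push
import Groth.Agent.AlgSpLib.FiniteComps

set_option autoImplicit false
universe u
open IntSh

namespace Groth.Agent.S15981

open CategoryTheory CategoryTheory.Limits AlgebraicGeometry TopologicalSpace
open Groth.Agent Groth.Agent.Coherent

section
variable {X : Scheme.{u}}

local notation "cl" => KZero.clSub (fun M : X.Modules => Coh.IsCoh M)
local notation "pt" => CycLib28.InterSheaf.pointSheaf

abbrev Gen (X : Scheme.{u}) := {x : X // ringKrullDim (X.presheaf.stalk x) = 0}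

theorem one_le_dim {x : X} (h : ringKrullDim (X.presheaf.stalk x) ≠ 0) :
    (1 : WithBot ℕ∞) ≤ ringKrullDim (X.presheaf.stalk x) := by
  rw [ringKrullDim_stalk_eq_coheight] at h ⊢
  have h' : Order.coheight x ≠ 0 := fun e => h (by rw [e]; rfl)
  exact WithBot.coe_le_coe.2 (ENat.one_le_iff_ne_zero.2 h')

theorem eq_of_gen {y x : X} (hx : ringKrullDim (X.presheaf.stalk x) = 0) (h : y ⤳ x) : y = x :=
  ((AlgSpLib.ringKrullDim_stalk_eq_zero_iff x).1 hx) y h

variable [IsNoetherian X]

theorem finite_gen : Finite (Gen X) := by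
  haveI : NoetherianSpace ↥(⊤ : X.Opens) :=
    Topology.IsInducing.subtypeVal.noetherianSpace
  have h := (AlgSpLib.finite_components_iff_finite_maxPts (⊤ : X.Opens)).1
    NoetherianSpace.finite_irreducibleComponents
  exact (h.subset fun x hx => ⟨trivial, (AlgSpLib.ringKrullDim_stalk_eq_zero_iff x).1 hx⟩).to_subtype

theorem len_ne_top {F : X.Modules} (hF : Coh.IsCoh F) (x : Gen X) :
    CycLib28.K0.len x.1 F ≠ ⊤ := by
  haveI : Ring.KrullDimLE 0 (X.presheaf.stalk x.1) := Ring.krullDimLE_iff.2 x.2.le
  haveI : IsArtinianRing (X.presheaf.stalk x.1) := IsNoetherianRing.isArtinianRing_of_krullDimLE_zero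
  haveI : Module.Finite (X.presheaf.stalk x.1) ((DerSch.stalkFunctor X x.1).obj F) := AssSch12.finite_stalk hF x.1
  exact Module.length_ne_top

theorem exists_lift {G : Type u} [AddCommGroup G] (f : X.Modules → G)
    (hf : ∀ S : ShortComplex X.Modules, S.ShortExact → Coh.IsCoh S.X₁ → Coh.IsCoh S.X₂ → Coh.IsCoh S.X₃ →
      f S.X₂ = f S.X₁ + f S.X₃) :
    ∃ F : SGA6.Kcoh X →+ G, ∀ E, Coh.IsCoh E → F (cl E) = f E := by
  refine ⟨QuotientAddGroup.lift _ (FreeAbelianGroup.lift fun E => f E.1) ?_, fun E hE => ?_⟩
  · refine (AddSubgroup.closure_le _).2 ?_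
    rintro _ ⟨S, h₁, h₂, h₃, hS, rfl⟩
    simp [hf S hS h₁ h₂ h₃]
  · rw [KZero.clSub, dif_pos hE]
    exact FreeAbelianGroup.lift_apply_of _ _

theorem main :
    (∃ rk : SGA6.Kcoh X →+ (Gen X → ℤ),
        ∀ F : X.Modules, Coh.IsCoh F →
          rk (cl F) = fun x => ((CycLib28.K0.len x.1 F).toNat : ℤ)) ∧
    ∀ rk : SGA6.Kcoh X →+ (Gen X → ℤ),
      (∀ F : X.Modules, Coh.IsCoh F → rk (cl F) = fun x => ((CycLib28.K0.len x.1 F).toNat : ℤ)) →
        Function.Surjective rk ∧
          rk.ker = AddSubgroup.closure {c : SGA6.Kcoh X | ∃ F : X.Modules, Coh.IsCoh F ∧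
            (∀ x ∈ CohB1.support F, (1 : WithBot ℕ∞) ≤ ringKrullDim (X.presheaf.stalk x)) ∧
            c = cl F} := by
  refine ⟨?_, ?_⟩
  · have hf : ∀ S : ShortComplex X.Modules, S.ShortExact → Coh.IsCoh S.X₁ → Coh.IsCoh S.X₂ → Coh.IsCoh S.X₃ →
        (fun x : Gen X => ((CycLib28.K0.len x.1 S.X₂).toNat : ℤ)) =
          (fun x : Gen X => ((CycLib28.K0.len x.1 S.X₁).toNat : ℤ)) +
            fun x : Gen X => ((CycLib28.K0.len x.1 S.X₃).toNat : ℤ) := fun S hS h₁ _ h₃ => by
      funext x
      rw [Pi.add_apply, CycLib28.K0.len_add hS, ENat.toNat_add (len_ne_top h₁ x) (len_ne_top h₃ x)]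
      exact Nat.cast_add _ _
    exact exists_lift (G := Gen X → ℤ) (fun F => fun x : Gen X => ((CycLib28.K0.len x.1 F).toNat : ℤ)) hf
  intro rk hrk
  classical
  haveI := finite_gen (X := X)
  haveI := Fintype.ofFinite (Gen X)
  have hpt : ∀ (y : X), rk (cl (pt y)) = fun x : Gen X => if x.1 = y then 1 else 0 := fun y => by
    rw [hrk _ (CycLib28.InterSheaf.isCoh_pointSheaf y)]
    funext x
    by_cases h : x.1 = y
    · subst h; simp [KTop28.len_pointSheaf_self]
    · haveI := KTop28.subsingleton_pointSheaf (y := y) (x := x.1) fun hs => h (eq_of_gen x.2 hs).symm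
      rw [if_neg h, show CycLib28.K0.len x.1 (pt y) = 0 from Module.length_eq_zero_iff.2 inferInstance]
      rfl
  let sec : (Gen X → ℤ) →+ SGA6.Kcoh X :=
    { toFun := fun f => ∑ t : Gen X, f t • cl (pt t.1)
      map_zero' := by simp
      map_add' := fun f g => by simp [add_smul, Finset.sum_add_distrib] }
  have hsec : ∀ f, rk (sec f) = f := fun f => by
    funext x
    show rk (∑ t : Gen X, f t • cl (pt t.1)) x = _
    rw [map_sum, Finset.sum_apply]
    simp only [map_zsmul, hpt, Pi.smul_apply, Subtype.coe_inj]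
    simp
  refine ⟨fun f => ⟨sec f, hsec f⟩, le_antisymm (fun c hc => ?_) ((AddSubgroup.closure_le _).2 ?_)⟩
  · let N := AddSubgroup.closure {c : SGA6.Kcoh X | ∃ F : X.Modules, Coh.IsCoh F ∧
            (∀ x ∈ CohB1.support F, (1 : WithBot ℕ∞) ≤ ringKrullDim (X.presheaf.stalk x)) ∧
            c = cl F}
    let ψ : SGA6.Kcoh X →+ SGA6.Kcoh X := AddMonoidHom.id _ - sec.comp rk
    have key : ∀ c, c ∈ N.comap ψ := by
      intro c
      induction c using KPr28.k0_induction with
      | h0 => exact zero_mem _
      | hneg x hx => exact neg_mem hx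
      | hadd x y hx hy => exact add_mem hx hy
      | hcl F hF =>
        refine (AddSubgroup.closure_le _).2 ?_ (KTop28.cl_mem_closure_points F hF)
        rintro _ ⟨y, -, rfl⟩
        show cl (pt y) - sec (rk (cl (pt y))) ∈ N
        rw [hpt]
        by_cases hy : ringKrullDim (X.presheaf.stalk y) = 0
        · have : sec (fun x : Gen X => if x.1 = y then (1 : ℤ) else 0) = cl (pt y) := by
            show ∑ t : Gen X, (if t.1 = y then (1 : ℤ) else 0) • cl (pt t.1) = _
            rw [Finset.sum_eq_single (⟨y, hy⟩ : Gen X) (fun t _ ht => by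
              rw [if_neg fun h => ht (Subtype.ext h), zero_smul]) (fun h => absurd (Finset.mem_univ _) h),
              if_pos rfl, one_smul]
          rw [this, sub_self]
          exact zero_mem _
        · have : (fun x : Gen X => if x.1 = y then (1 : ℤ) else 0) = 0 :=
            funext fun t => if_neg (show ¬ t.1 = y from fun h => hy (h ▸ t.2))
          rw [this, map_zero, sub_zero]
          refine AddSubgroup.subset_closure ⟨_, CycLib28.InterSheaf.isCoh_pointSheaf y, fun x hx => ?_, rfl⟩
          refine one_le_dim fun h0 => ?_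
          have hs : y ⤳ x := CycLib28.InterSheaf.specializes_of_nontrivial_pointSheaf y x
            (not_subsingleton_iff_nontrivial.1 hx)
          exact hy (eq_of_gen h0 hs ▸ h0)
    have := key c
    rw [AddSubgroup.mem_comap] at this
    simpa [ψ, AddMonoidHom.mem_ker.1 hc] using this
  · rintro _ ⟨F, hF, hsupp, rfl⟩
    show rk (cl F) = 0
    rw [hrk F hF]
    funext x
    have : Subsingleton (F.presheaf.stalk x.1) := by
      by_contra hn
      exact absurd (x.2 ▸ hsupp x.1 hn) (by decide)
    haveI : Subsingleton ((DerSch.stalkFunctor X x.1).obj F) := this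
    rw [show CycLib28.K0.len x.1 F = 0 from Module.length_eq_zero_iff.2 inferInstance]
    rfl

end

open CategoryTheory CategoryTheory.Limits AlgebraicGeometry in
/-- Let X be a reduced Noetherian scheme and η_i the generic points of its irreducible components (the
points with zero-dimensional local ring). Sending the class of a coherent O_X-module F to the family
of lengths of its stalks F_{η_i} over O_{X,η_i} is a well defined homomorphism rk from the
Grothendieck group of coherent O_X-modules to the group of integer-valued functions on the η_i;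
every such rk is surjective and its kernel is the subgroup generated by the classes of coherent
modules whose support contains no η_i (the first step of the coniveau filtration), so that rk
identifies the zeroth graded piece of that filtration with the free abelian group on the irreducible
components. -/
theorem result
    {X : Scheme.{u}} [IsNoetherian X] [IsReduced X] :
    (∃ rk : SGA6.Kcoh X →+ ({x : X // ringKrullDim (X.presheaf.stalk x) = 0} → ℤ),
        ∀ F : X.Modules, Coh.IsCoh F →
          rk (KZero.clSub (fun M : X.Modules => Coh.IsCoh M) F) =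
            fun x => ((Module.length (X.presheaf.stalk x.1) (F.presheaf.stalk x.1)).toNat : ℤ)) ∧
    ∀ rk : SGA6.Kcoh X →+ ({x : X // ringKrullDim (X.presheaf.stalk x) = 0} → ℤ),
      (∀ F : X.Modules, Coh.IsCoh F →
          rk (KZero.clSub (fun M : X.Modules => Coh.IsCoh M) F) =
            fun x => ((Module.length (X.presheaf.stalk x.1) (F.presheaf.stalk x.1)).toNat : ℤ)) →
        Function.Surjective rk ∧
          rk.ker = AddSubgroup.closure {c : SGA6.Kcoh X | ∃ F : X.Modules, Coh.IsCoh F ∧
            (∀ x ∈ CohB1.support F, (1 : WithBot ℕ∞) ≤ ringKrullDim (X.presheaf.stalk x)) ∧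
            c = KZero.clSub (fun M : X.Modules => Coh.IsCoh M) F} := by
  exact main

end Groth.Agent.S15981
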