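import Groth.Statements.S15983
import Mathlib
-- import your own Groth.Agent.* helpers here

set_option autoImplicit false
universe u v
open W4c3dlvarstrsh

namespace Groth.Agent.S15983
open Matrix in
/-- Echelon form: `π j` is the top nonzero row of column `j`, and `π` is injective. -/
def Ech {F : Type u} [Field F] {n : ℕ} (h : Matrix (Fin n) (Fin n) F) (π : Fin n → Fin n) : Prop :=
  Function.Injective π ∧ (∀ j, h (π j) j ≠ 0) ∧ ∀ i j, π j < i → h i j = 0

lemma blk_mono {m : ℕ} (J : Finset (Fin m)) : Monotone (blockOf J) := by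
  intro i j hij
  refine Finset.card_le_card fun k hk => ?_
  simp only [Finset.mem_filter, Finset.mem_univ, true_and] at hk ⊢
  exact ⟨lt_of_lt_of_le hk.1 hij, hk.2⟩

lemma blk_succ {m : ℕ} {J : Finset (Fin m)} {a : Fin m} (ha : a ∈ J) :
    blockOf J a.succ = blockOf J a.castSucc := by
  refine congrArg Finset.card (Finset.filter_congr fun k _ => ⟨fun hk => ⟨?_, hk.2⟩, fun hk => ⟨?_, hk.2⟩⟩)
  · have : k.val ≠ a.val := fun e => hk.2 (by rwa [Fin.ext e])
    simp only [Fin.val_succ, Fin.val_castSucc] at hk ⊢; omega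
  · simp only [Fin.val_succ, Fin.val_castSucc] at hk ⊢; omega

lemma mem_of_blk {m : ℕ} {J : Finset (Fin m)} {i j : Fin (m + 1)}
    (h : blockOf J i = blockOf J j) {a : Fin m} (h1 : i.val ≤ a.val) (h2 : a.val < j.val) : a ∈ J := by
  by_contra hc
  apply lt_irrefl (blockOf J i)
  conv_rhs => rw [h]
  refine Finset.card_lt_card ⟨fun k hk => ?_, fun hs => ?_⟩
  · simp only [Finset.mem_filter, Finset.mem_univ, true_and] at hk ⊢
    exact ⟨by omega, hk.2⟩
  · have := hs (Finset.mem_filter.2 ⟨Finset.mem_univ a, h2, hc⟩)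
    simp only [Finset.mem_filter, Finset.mem_univ, true_and] at this
    omega

lemma blk_empty {m : ℕ} : Function.Injective (blockOf (∅ : Finset (Fin m))) := by
  have key : ∀ i j : Fin (m + 1), i < j → blockOf (∅ : Finset (Fin m)) i ≠ blockOf ∅ j := by
    intro i j hij e
    exact absurd (mem_of_blk e (a := ⟨i.val, by omega⟩) le_rfl hij) (Finset.notMem_empty _)
  intro i j e
  rcases lt_trichotomy i j with h | h | h
  · exact absurd e (key _ _ h)
  · exact h
  · exact absurd e.symm (key _ _ h)

lemma parabolic_mono {F : Type u} [Field F] {m : ℕ} {J J' : Finset (Fin m)} (hJ : J ⊆ J') :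
    parabolic F J ≤ parabolic F J' := by
  intro g hg i j hlt
  apply hg
  have hji : j < i := lt_of_not_ge fun h => absurd (blk_mono J' h) (not_le.2 hlt)
  refine Finset.card_lt_card ⟨fun k hk => ?_, fun hs => ?_⟩
  · simp only [Finset.mem_filter, Finset.mem_univ, true_and] at hk ⊢
    exact ⟨lt_trans hk.1 hji, hk.2⟩
  · apply not_le.2 hlt
    refine Finset.card_le_card fun k hk => ?_
    simp only [Finset.mem_filter, Finset.mem_univ, true_and] at hk ⊢
    have := hs (Finset.mem_filter.2 ⟨Finset.mem_univ k, hk.1, fun h => hk.2 (hJ h)⟩)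
    simp only [Finset.mem_filter, Finset.mem_univ, true_and] at this
    exact ⟨this.1, hk.2⟩

/-- weakly: increasing inside the blocks -/
def Inc {m : ℕ} (J : Finset (Fin m)) (π : Fin (m + 1) → Fin (m + 1)) : Prop :=
  ∀ a ∈ J, π a.castSucc < π a.succ

lemma inc_block {m : ℕ} {J : Finset (Fin m)} {π : Fin (m + 1) → Fin (m + 1)} (h : Inc J π) :
    ∀ i j, i < j → blockOf J i = blockOf J j → π i < π j := by
  intro i j
  induction j using Fin.induction with
  | zero => intro h; exact absurd h (Fin.not_lt_zero _)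
  | succ a ih =>
    intro hij e
    have ha : a ∈ J := mem_of_blk e (Fin.lt_def.1 hij |> fun h => by simp only [Fin.val_succ] at h; omega) (by simp)
    rcases (Fin.le_castSucc_iff.2 hij).lt_or_eq with h' | h'
    · exact lt_trans (ih h' (e.trans (blk_succ ha))) (h a ha)
    · rw [h']; exact h a ha

/-- Two echelon increasing representatives of a coset agree modulo the Borel subgroup. -/
lemma ech_unique {F : Type u} [Field F] {m : ℕ} {J : Finset (Fin m)}
    {h h' : GL (Fin (m + 1)) F} {π π' : Fin (m + 1) → Fin (m + 1)}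
    (he : Ech (h : Matrix (Fin (m+1)) (Fin (m+1)) F) π) (he' : Ech (h' : Matrix (Fin (m+1)) (Fin (m+1)) F) π')
    (hi : Inc J π) (hi' : Inc J π') (hp : h⁻¹ * h' ∈ parabolic F J) :
    π = π' ∧ h⁻¹ * h' ∈ parabolic F ∅ := by
  set p : GL (Fin (m + 1)) F := h⁻¹ * h' with hpdef
  set P : Matrix (Fin (m+1)) (Fin (m+1)) F := ↑p with hP
  have hh : (h' : Matrix (Fin (m+1)) (Fin (m+1)) F) = (h : Matrix (Fin (m+1)) (Fin (m+1)) F) * P := by
    rw [hP, hpdef, ← Units.val_mul, mul_inv_cancel_left]
  have hne : ∀ j, ∃ l, P l j ≠ 0 := by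
    intro j
    by_contra hc
    push Not at hc
    have := he'.2.1 j
    rw [hh, Matrix.mul_apply] at this
    exact this (Finset.sum_eq_zero fun l _ => by rw [hc l, mul_zero])
  -- top of column `j` of `h'`
  have hsig : ∀ j, ∃ l, π l = π' j ∧ P l j ≠ 0 ∧ ∀ l', P l' j ≠ 0 → π l' ≤ π l := by
    intro j
    obtain ⟨l0, hl0⟩ := hne j
    classical
    obtain ⟨l, hl, hmax⟩ := (Finset.univ.filter fun l => P l j ≠ 0).exists_max_image π
      ⟨l0, Finset.mem_filter.2 ⟨Finset.mem_univ _, hl0⟩⟩
    simp only [Finset.mem_filter, Finset.mem_univ, true_and] at hl hmax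
    have hval : (h' : Matrix (Fin (m+1)) (Fin (m+1)) F) (π l) j = (h : Matrix (Fin (m+1)) (Fin (m+1)) F) (π l) l * P l j := by
      rw [hh, Matrix.mul_apply, Finset.sum_eq_single l]
      · intro l' _ hne'
        by_cases hz : P l' j = 0
        · rw [hz, mul_zero]
        · rw [he.2.2 (π l) l' (lt_of_le_of_ne (hmax l' hz) fun e => hne' (he.1 e)), zero_mul]
      · intro hc; exact absurd (Finset.mem_univ l) hc
    refine ⟨l, le_antisymm ?_ ?_, hl, hmax⟩
    · by_contra hc
      exact mul_ne_zero (he.2.1 l) hl (hval ▸ he'.2.2 _ j (not_le.1 hc))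
    · by_contra hc
      apply he'.2.1 j
      rw [hh, Matrix.mul_apply]
      refine Finset.sum_eq_zero fun l' _ => ?_
      by_cases hz : P l' j = 0
      · rw [hz, mul_zero]
      · rw [he.2.2 (π' j) l' (lt_of_le_of_lt (hmax l' hz) (not_le.1 hc)), zero_mul]
  choose σ hσ hσne hσmax using hsig
  have hσinj : Function.Injective σ := fun a b e => he'.1 (by rw [← hσ a, ← hσ b, e])
  have hle : ∀ j, blockOf J (σ j) ≤ blockOf J j := by
    intro j
    by_contra hc
    exact hσne j (hp (not_le.1 hc))
  have heq : ∀ j, blockOf J (σ j) = blockOf J j := by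
    intro j
    exact (Finset.sum_eq_sum_iff_of_le fun j _ => hle j).1
      (Function.Bijective.sum_comp (Finite.injective_iff_bijective.1 hσinj) (blockOf J)) j (Finset.mem_univ j)
  have hmono : StrictMono σ := by
    intro i j hij
    rcases (blk_mono J hij.le).lt_or_eq with h1 | h1
    · rw [← heq i, ← heq j] at h1
      exact lt_of_not_ge fun hc => absurd (blk_mono J hc) (not_le.2 h1)
    · have h2 : π (σ i) < π (σ j) := by rw [hσ, hσ]; exact inc_block hi' i j hij h1
      rcases lt_trichotomy (σ i) (σ j) with h3 | h3 | h3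
      · exact h3
      · exact absurd h2 (by rw [h3]; exact lt_irrefl _)
      · exact absurd (inc_block hi _ _ h3 (by rw [heq i, heq j, h1])) (not_lt.2 h2.le)
  have hid : σ = id := by
    exact (StrictMono.range_inj (f := σ) (g := id) hmono strictMono_id).1
      (by rw [Set.range_id]; exact (Finite.injective_iff_surjective.1 hσinj).range_eq)
  refine ⟨funext fun j => by rw [← hσ j, hid]; rfl, ?_⟩
  intro l j hlt
  by_contra hc
  have hjl : j < l := lt_of_not_ge fun hge => absurd (blk_mono ∅ hge) (not_le.2 hlt)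
  have hb : blockOf J l ≤ blockOf J j := by
    by_contra hb
    exact hc (hp (not_le.1 hb))
  have h1 := hσmax j l hc
  rw [hid] at h1
  exact not_lt.2 h1 (inc_block hi j l hjl (le_antisymm (blk_mono J hjl.le) hb))

/-- Every coset of the Borel subgroup has an echelon representative. -/
lemma exists_ech {F : Type u} [Field F] [Fintype F] {m : ℕ} (g : GL (Fin (m + 1)) F) :
    ∃ h : GL (Fin (m + 1)) F, g⁻¹ * h ∈ parabolic F ∅ ∧ ∃ π, Ech (h : Matrix (Fin (m+1)) (Fin (m+1)) F) π := by
  classical
  have htop : ∀ (h : GL (Fin (m + 1)) F) (j : Fin (m+1)), ∃ t,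
      (h : Matrix (Fin (m+1)) (Fin (m+1)) F) t j ≠ 0 ∧ ∀ i, t < i → (h : Matrix (Fin (m+1)) (Fin (m+1)) F) i j = 0 := by
    intro h j
    have hne : (Finset.univ.filter fun i => (h : Matrix (Fin (m+1)) (Fin (m+1)) F) i j ≠ 0).Nonempty := by
      by_contra hc
      rw [Finset.not_nonempty_iff_eq_empty, Finset.filter_eq_empty_iff] at hc
      push Not at hc
      have := Matrix.det_eq_zero_of_column_eq_zero (A := (h : Matrix (Fin (m+1)) (Fin (m+1)) F)) j (fun i => hc (Finset.mem_univ i))
      exact (Matrix.isUnit_iff_isUnit_det _).1 h.isUnit |>.ne_zero this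
    refine ⟨_, (Finset.mem_filter.1 (Finset.max'_mem _ hne)).2, fun i hi => ?_⟩
    by_contra hc
    exact not_lt.2 (Finset.le_max' _ i (Finset.mem_filter.2 ⟨Finset.mem_univ _, hc⟩)) hi
  choose τ hτ1 hτ2 using htop
  obtain ⟨h, hh, hmin⟩ := (Finset.univ.filter fun h => g⁻¹ * h ∈ parabolic F (∅ : Finset (Fin m))).exists_min_image
    (fun h => ∑ j, (τ h j).val) ⟨g, Finset.mem_filter.2 ⟨Finset.mem_univ _, by rw [inv_mul_cancel]; exact one_mem _⟩⟩
  simp only [Finset.mem_filter, Finset.mem_univ, true_and] at hh hmin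
  refine ⟨h, hh, τ h, ?_, hτ1 h, fun i j => hτ2 h j i⟩
  intro l j e
  by_contra hne
  wlog hlj : l < j generalizing l j with H
  · exact H e.symm (Ne.symm hne) (lt_of_le_of_ne (not_lt.1 hlj) (Ne.symm hne))
  set H0 : Matrix (Fin (m+1)) (Fin (m+1)) F := ↑h with hH0
  set c : F := -(H0 (τ h j) j / H0 (τ h j) l) with hc
  let b : GL (Fin (m + 1)) F := Matrix.GeneralLinearGroup.mkOfDetNeZero (Matrix.transvection l j c)
    (by rw [Matrix.det_transvection_of_ne _ _ hne]; exact one_ne_zero)
  have hb : b ∈ parabolic F (∅ : Finset (Fin m)) := by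
    intro x y hxy
    have hyx : y < x := lt_of_not_ge fun hge => absurd (blk_mono ∅ hge) (not_le.2 hxy)
    show Matrix.transvection l j c x y = 0
    simp only [Matrix.transvection, Matrix.add_apply, Matrix.one_apply_ne hyx.ne', zero_add, Matrix.single_apply]
    rw [if_neg]
    rintro ⟨rfl, rfl⟩
    exact absurd hlj (not_lt.2 hyx.le)
  have hcol : ∀ x y, ((h * b : GL (Fin (m + 1)) F) : Matrix (Fin (m+1)) (Fin (m+1)) F) x y =
      if y = j then H0 x j + c * H0 x l else H0 x y := by
    intro x y
    show (H0 * Matrix.transvection l j c) x y = _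
    split_ifs with hy
    · subst hy; rw [Matrix.mul_transvection_apply_same]
    · rw [Matrix.mul_transvection_apply_of_ne (hb := hy)]
  have h2 := hmin (h * b) (by rw [← mul_assoc]; exact mul_mem hh hb)
  apply not_lt.2 h2
  refine Finset.sum_lt_sum (fun y _ => ?_) ⟨j, Finset.mem_univ j, ?_⟩
  · by_contra hgt
    apply hτ1 (h * b) y
    have hgt' : τ h y < τ (h * b) y := not_le.1 hgt
    rw [hcol, hH0]
    split_ifs with hy
    · subst hy; rw [hτ2 h _ _ hgt', hτ2 h l _ (e ▸ hgt'), mul_zero, add_zero]
    · exact hτ2 h _ _ hgt'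
  · show τ (h * b) j < τ h j
    by_contra hgt
    rcases (not_lt.1 hgt).lt_or_eq with h3 | h3
    · apply hτ1 (h * b) j
      rw [hcol, if_pos rfl, hH0, hτ2 h _ _ h3, hτ2 h l _ (e ▸ h3), mul_zero, add_zero]
    · apply hτ1 (h * b) j
      have : H0 (τ h j) l ≠ 0 := e ▸ hτ1 h l
      rw [hcol, if_pos rfl, ← h3, hc]
      field_simp
      ring

/-- The combinatorial core: every coset of `P_J` has a unique increasing echelon `B`-coset, which has the largest weight. -/
lemma exists_weight (F : Type u) [Field F] [Fintype F] (m : ℕ) :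
    ∃ (μ : GL (Fin (m + 1)) F → ℕ) (A : GL (Fin (m + 1)) F → Finset (Fin m)),
      (∀ g b, b ∈ parabolic F (∅ : Finset (Fin m)) → μ (g * b) = μ g ∧ A (g * b) = A g) ∧
      ∀ (g : GL (Fin (m + 1)) F) (J : Finset (Fin m)), ∃ x, g⁻¹ * x ∈ parabolic F J ∧
        J ⊆ A x ∧ μ g ≤ μ x ∧ (¬ J ⊆ A g → μ g < μ x) ∧ ∀ y, g⁻¹ * y ∈ parabolic F J → J ⊆ A y → y⁻¹ * x ∈ parabolic F (∅ : Finset (Fin m)) := by
  classical
  have hex := fun g => exists_ech (F := F) (m := m) g
  choose e he π hπ using hex
  have hincE : ∀ q : Fin (m + 1) → Fin (m + 1), Inc (∅ : Finset (Fin m)) q := fun q a ha => absurd ha (Finset.notMem_empty a)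
  have hwell : ∀ (g x : GL (Fin (m + 1)) F), g⁻¹ * x ∈ parabolic F (∅ : Finset (Fin m)) → ∀ q, Ech (x : Matrix (Fin (m+1)) (Fin (m+1)) F) q → π g = q := by
    intro g x hx q hq
    refine (ech_unique (hπ g) hq (hincE _) (hincE _) ?_).1
    have := mul_mem (inv_mem (he g)) hx
    rwa [mul_inv_rev, inv_inv, mul_assoc, mul_inv_cancel_left] at this
  have hinv : ∀ (g b : GL (Fin (m + 1)) F), b ∈ parabolic F (∅ : Finset (Fin m)) → π (g * b) = π g := by
    intro g b hb
    refine (hwell g (e (g * b)) ?_ _ (hπ _)).symm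
    have := mul_mem hb (he (g * b))
    rwa [mul_inv_rev, mul_assoc, mul_inv_cancel_left] at this
  let wt : (Fin (m + 1) → Fin (m + 1)) → ℕ := fun q => ∑ j, j.val * (q j).val
  refine ⟨fun g => wt (π g), fun g => Finset.univ.filter fun a => π g a.castSucc < π g a.succ,
    fun g b hb => ⟨by simp only [hinv g b hb], by simp only [hinv g b hb]⟩, fun g J => ?_⟩
  have hJ : ∀ x, J ⊆ (Finset.univ.filter fun a => π x a.castSucc < π x a.succ) ↔ Inc J (π x) := by
    intro x
    simp only [Finset.subset_iff, Finset.mem_filter, Finset.mem_univ, true_and, Inc]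
  simp only [hJ]
  obtain ⟨x, hx, hmax⟩ := (Finset.univ.filter fun x => g⁻¹ * x ∈ parabolic F J).exists_max_image
    (fun x => wt (π x)) ⟨g, Finset.mem_filter.2 ⟨Finset.mem_univ _, by rw [inv_mul_cancel]; exact one_mem _⟩⟩
  simp only [Finset.mem_filter, Finset.mem_univ, true_and] at hx hmax
  have hmaxinc : ∀ y, g⁻¹ * y ∈ parabolic F J → (∀ z, g⁻¹ * z ∈ parabolic F J → wt (π z) ≤ wt (π y)) → Inc J (π y) := by
    intro y hy hym a ha
    by_contra hc
    set s : Equiv.Perm (Fin (m + 1)) := Equiv.swap a.castSucc a.succ with hs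
    have hval : a.castSucc < a.succ := Fin.castSucc_lt_succ
    have hlt : π y a.succ < π y a.castSucc :=
      lt_of_le_of_ne (not_lt.1 hc) fun e' => hval.ne' ((hπ y).1 e')
    have hms : s.toPEquiv.toMatrix * s.toPEquiv.toMatrix = (1 : Matrix (Fin (m+1)) (Fin (m+1)) F) := by
      rw [← PEquiv.toMatrix_trans, ← Equiv.toPEquiv_trans, hs, ← Equiv.Perm.mul_def, Equiv.swap_mul_self]
      ext i j; simp [Matrix.one_apply, PEquiv.toMatrix_apply]
    let S : GL (Fin (m + 1)) F := ⟨s.toPEquiv.toMatrix, s.toPEquiv.toMatrix, hms, hms⟩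
    have hS : S ∈ parabolic F J := by
      intro i j hlt'
      show (s.toPEquiv.toMatrix : Matrix (Fin (m+1)) (Fin (m+1)) F) i j = 0
      rw [PEquiv.toMatrix_apply, if_neg]
      simp only [Equiv.toPEquiv_apply, Option.mem_def, Option.some.injEq]
      intro hij
      rw [← hij, hs, Equiv.swap_apply_def] at hlt'
      split_ifs at hlt' with h1 h2
      · subst h1; rw [blk_succ ha] at hlt'; exact lt_irrefl _ hlt'
      · subst h2; rw [blk_succ ha] at hlt'; exact lt_irrefl _ hlt'
      · exact lt_irrefl _ hlt'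
    have hey : g⁻¹ * e y ∈ parabolic F J := by
      have := mul_mem hy (parabolic_mono (Finset.empty_subset J) (he y))
      rwa [mul_assoc, mul_inv_cancel_left] at this
    have hech : Ech ((e y * S : GL (Fin (m + 1)) F) : Matrix (Fin (m+1)) (Fin (m+1)) F) (π y ∘ s) := by
      have hM : ∀ i j, ((e y * S : GL (Fin (m + 1)) F) : Matrix (Fin (m+1)) (Fin (m+1)) F) i j =
          (e y : Matrix (Fin (m+1)) (Fin (m+1)) F) i (s j) := by
        intro i j
        show ((e y : Matrix (Fin (m+1)) (Fin (m+1)) F) * (s.toPEquiv.toMatrix : Matrix (Fin (m+1)) (Fin (m+1)) F)) i j = _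
        rw [PEquiv.mul_toMatrix_toPEquiv, Matrix.submatrix_apply, id, hs, Equiv.symm_swap]
      exact ⟨(hπ y).1.comp s.injective, fun j => by rw [hM]; exact (hπ y).2.1 _,
        fun i j hij => by rw [hM]; exact (hπ y).2.2 _ _ hij⟩
    have hz := hym (e y * S) (by rw [← mul_assoc]; exact mul_mem hey hS)
    rw [hwell _ (e y * S) (by rw [inv_mul_cancel]; exact one_mem _) _ hech] at hz
    apply not_lt.2 hz
    simp only [wt, Function.comp_apply]
    have h1 : ∀ q : Fin (m + 1) → ℕ, ∑ j, j.val * q j =
        a.castSucc.val * q a.castSucc + a.succ.val * q a.succ + ∑ j ∈ (Finset.univ.erase a.castSucc).erase a.succ, j.val * q j := by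
      intro q
      rw [add_assoc, Finset.add_sum_erase _ (fun j : Fin (m + 1) => j.val * q j) (Finset.mem_erase.2 ⟨hval.ne', Finset.mem_univ _⟩),
        Finset.add_sum_erase _ (fun j : Fin (m + 1) => j.val * q j) (Finset.mem_univ _)]
    rw [h1 fun j => (π y j).val, h1 fun j => (π y (s j)).val]
    have hrest : ∑ j ∈ (Finset.univ.erase a.castSucc).erase a.succ, j.val * (π y (s j)).val =
        ∑ j ∈ (Finset.univ.erase a.castSucc).erase a.succ, j.val * (π y j).val := by
      refine Finset.sum_congr rfl fun j hj => ?_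
      simp only [Finset.mem_erase] at hj
      rw [hs, Equiv.swap_apply_of_ne_of_ne hj.2.1 hj.1]
    rw [hrest]
    simp only [hs, Equiv.swap_apply_left, Equiv.swap_apply_right, Fin.val_succ, Fin.val_castSucc]
    have hl : (π y a.succ).val < (π y a.castSucc).val := hlt
    rw [add_one_mul, add_one_mul]
    omega
  have hxi := hmaxinc x hx hmax
  have hgB : ∀ y, g⁻¹ * y ∈ parabolic F J → Inc J (π y) → y⁻¹ * x ∈ parabolic F (∅ : Finset (Fin m)) := by
    intro y hy hyi
    have hp : (e y)⁻¹ * e x ∈ parabolic F J := by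
      have := mul_mem (mul_mem (inv_mem (parabolic_mono (Finset.empty_subset J) (he y))) (mul_mem (inv_mem hy) hx))
        (parabolic_mono (Finset.empty_subset J) (he x))
      convert this using 1; group
    have := mul_mem (mul_mem (he y) (ech_unique (hπ y) (hπ x) hyi hxi hp).2) (inv_mem (he x))
    convert this using 1; group
  refine ⟨x, hx, hxi, hmax g (by rw [inv_mul_cancel]; exact one_mem _), fun hg => ?_, hgB⟩
  refine lt_of_le_of_ne (hmax g (by rw [inv_mul_cancel]; exact one_mem _)) fun heq => hg ?_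
  exact hmaxinc g (by rw [inv_mul_cancel]; exact one_mem _) fun z hz => heq ▸ hmax z hz

lemma sgn_eq {r : ℕ} (T : Finset (Fin r)) (a b : Fin r) (hb : b ∉ T) :
    sgn (insert b T) a = if b < a then - sgn T a else sgn T a := by
  simp only [sgn, Finset.filter_insert]
  split_ifs with h
  · rw [Finset.card_insert_of_notMem (fun hc => hb (Finset.mem_filter.1 hc).1), pow_succ]; ring
  · rfl

lemma sgn_flip {r : ℕ} (S : Finset (Fin r)) (a b : Fin r) (ha : a ∉ S) (hb : b ∉ S) (hab : a ≠ b) :
    sgn S a * sgn (insert a S) b = -(sgn S b * sgn (insert b S) a) := by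
  rw [sgn_eq S b a ha, sgn_eq S a b hb]
  rcases lt_or_gt_of_ne hab with h | h
  · rw [if_pos h, if_neg h.not_gt]; ring
  · rw [if_neg h.not_gt, if_pos h]; ring

lemma sgn_sq {r : ℕ} (S : Finset (Fin r)) (a : Fin r) : sgn S a * sgn S a = 1 := by
  rw [sgn, ← mul_pow]; norm_num

lemma delta_delta {F : Type u} [Field F] {R : Type v} [CommRing R] {m r c : ℕ}
    (f : Cochain F R (m := m) r (c + 2)) : delta c (delta (c + 1) f) = 0 := by
  funext T g
  simp only [delta, Pi.zero_apply]
  let F' : Finset (Fin r) → R := fun U => if h : U.card = c + 2 then f ⟨U, h⟩ g else 0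
  let t : Fin r × Fin r → R := fun p => if p.1 ∉ T.1 ∧ p.2 ∉ T.1 ∧ p.1 ≠ p.2 then
    (sgn T.1 p.1 : R) * ((sgn (insert p.1 T.1) p.2 : R) * F' (insert p.2 (insert p.1 T.1))) else 0
  trans ∑ p : Fin r × Fin r, t p
  · rw [Fintype.sum_prod_type]
    refine Finset.sum_congr rfl fun a _ => ?_
    by_cases ha : a ∈ T.1
    · rw [dif_neg (not_not.2 ha)]
      exact (Finset.sum_eq_zero fun b _ => if_neg (fun (h : a ∉ T.1 ∧ b ∉ T.1 ∧ a ≠ b) => h.1 ha)).symm
    · rw [dif_pos ha, Finset.mul_sum]
      refine Finset.sum_congr rfl fun b _ => ?_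
      by_cases hb : b ∈ insert a T.1
      · rw [dif_neg (not_not.2 hb), mul_zero]
        refine (if_neg (c := a ∉ T.1 ∧ b ∉ T.1 ∧ a ≠ b) fun h => ?_).symm
        rcases Finset.mem_insert.1 hb with h' | h'
        · exact h.2.2 h'.symm
        · exact h.2.1 h'
      · rw [dif_pos hb]
        have hb' := Finset.mem_insert.not.1 hb
        push Not at hb'
        simp only [t, F']
        rw [if_pos ⟨ha, hb'.2, hb'.1.symm⟩, dif_pos (by rw [Finset.card_insert_of_notMem hb, Finset.card_insert_of_notMem ha, T.2])]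
  · refine Finset.sum_involution (fun p _ => p.swap) ?_ ?_ (fun p _ => Finset.mem_univ _) (fun p _ => p.swap_swap)
    · rintro ⟨a, b⟩ _
      simp only [t, Prod.swap_prod_mk]
      by_cases h : a ∉ T.1 ∧ b ∉ T.1 ∧ a ≠ b
      · rw [if_pos h, if_pos ⟨h.2.1, h.1, h.2.2.symm⟩, Finset.insert_comm b a, ← mul_assoc, ← mul_assoc, ← add_mul,
          ← Int.cast_mul, ← Int.cast_mul, sgn_flip T.1 a b h.1 h.2.1 h.2.2, Int.cast_neg, neg_add_cancel, zero_mul]
      · rw [if_neg h, if_neg (fun h' => h ⟨h'.2.1, h'.1, h'.2.2.symm⟩), add_zero]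
    · rintro ⟨a, b⟩ _ hne e
      simp only [Prod.swap_prod_mk, Prod.mk.injEq] at e
      exact hne (if_neg (c := a ∉ T.1 ∧ b ∉ T.1 ∧ a ≠ b) fun h => h.2.2 e.2)



lemma delta_add {F : Type u} [Field F] {R : Type v} [CommRing R] {m r c : ℕ}
    (f g : Cochain F R (m := m) r (c + 1)) : delta c (f + g) = delta c f + delta c g := by
  funext T y
  show _ = delta c f T y + delta c g T y
  unfold delta
  rw [← Finset.sum_add_distrib]
  refine Finset.sum_congr rfl fun a _ => ?_
  by_cases ha : a ∈ T.1
  · simp only [dif_neg (not_not.2 ha)]; exact (add_zero (0 : R)).symm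
  · simp only [dif_pos ha]; exact mul_add _ _ _

lemma delta_sub {F : Type u} [Field F] {R : Type v} [CommRing R] {m r c : ℕ}
    (f g : Cochain F R (m := m) r (c + 1)) : delta c (f - g) = delta c f - delta c g := by
  funext T y
  show _ = delta c f T y - delta c g T y
  unfold delta
  rw [← Finset.sum_sub_distrib]
  refine Finset.sum_congr rfl fun a _ => ?_
  by_cases ha : a ∈ T.1
  · simp only [dif_neg (not_not.2 ha)]; exact (sub_zero (0 : R)).symm
  · simp only [dif_pos ha]; exact mul_sub _ _ _

lemma isInduced_delta {F : Type u} [Field F] {R : Type v} [CommRing R] {m r c : ℕ} {ω : Fin r ↪ Fin m}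
    {f : Cochain F R (m := m) r (c + 1)} (hf : IsInduced ω f) : IsInduced ω (delta c f) := by
  intro T y p hp
  refine Finset.sum_congr rfl fun a _ => ?_
  by_cases ha : a ∈ T.1
  · simp only [dif_neg (not_not.2 ha)]
  · simp only [dif_pos ha]
    have hmem : p ∈ parabolic F ((insert a T.1).map ω) :=
      parabolic_mono (Finset.map_subset_map.2 (Finset.subset_insert a T.1)) hp
    exact congrArg _ (hf ⟨insert a T.1, by rw [Finset.card_insert_of_notMem ha, T.2]⟩ y p hmem)

lemma isInduced_add {F : Type u} [Field F] {R : Type v} [CommRing R] {m r c : ℕ} {ω : Fin r ↪ Fin m}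
    {f g : Cochain F R (m := m) r c} (hf : IsInduced ω f) (hg : IsInduced ω g) : IsInduced ω (f + g) :=
  fun T y p hp => congrArg₂ (· + ·) (hf T y p hp) (hg T y p hp)

lemma isInduced_sub {F : Type u} [Field F] {R : Type v} [CommRing R] {m r c : ℕ} {ω : Fin r ↪ Fin m}
    {f g : Cochain F R (m := m) r c} (hf : IsInduced ω f) (hg : IsInduced ω g) : IsInduced ω (f - g) :=
  fun T y p hp => congrArg₂ (· - ·) (hf T y p hp) (hg T y p hp)

set_option maxHeartbeats 800000 in
/-- Let F be a finite field, R a commutative ring, and ω a word of r pairwise distinct simple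
reflections of GL_{m+1}. For each level ℓ, consider the families, indexed by the subwords of ω with
ℓ letters, of R-valued functions on GL_{m+1}(F), each invariant under right translation by the
standard parabolic subgroup of its subword (the permutation module of that parabolic over R), and
the differential lowering the level by one given by the alternating sum of the inclusions (a letter
is deleted with the sign of its position). Then for every c with c + 1 ≤ r, every such invariant
family at level c + 1 killed by the differential is the differential of an invariant family at level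
c + 2; when c + 1 = r this is injectivity of the first differential, and when c + 1 < r it is
exactness of the complex at its middle terms. (The published statement has coefficients the integers
modulo a prime power; the same argument gives any commutative coefficient ring, as stated here. Its
description of the cokernel at the last term is definitional in this formulation and is not
restated.) -/
theorem result
    (F : Type u) [Field F] [Fintype F] (R : Type v) [CommRing R]
    (m r : ℕ) (ω : Fin r ↪ Fin m) (c : ℕ) (hc : c + 1 ≤ r)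
    (f : W4c3dlvarstrsh.Cochain F R (m := m) r (c + 1))
    (hf : W4c3dlvarstrsh.IsInduced ω f) (hd : W4c3dlvarstrsh.delta c f = 0) :
    ∃ g : W4c3dlvarstrsh.Cochain F R (m := m) r (c + 2),
      W4c3dlvarstrsh.IsInduced ω g ∧ W4c3dlvarstrsh.delta (c + 1) g = f := by
  classical
  obtain ⟨μ, A, hAinv, hrep⟩ := exists_weight F m
  choose x hx hxA hxle hxlt hxB using hrep
  -- reduce to functions supported in weight `< M`, by induction on `M`
  suffices key : ∀ M, ∀ φ : Cochain F R (m := m) r (c + 1), IsInduced ω φ → delta c φ = 0 →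
      (∀ T g, M ≤ μ g → φ T g = 0) →
      ∃ g : Cochain F R (m := m) r (c + 2), IsInduced ω g ∧ delta (c + 1) g = φ by
    refine key ((Finset.univ.sup μ) + 1) f hf hd fun T g hg => absurd hg (not_le.2 ?_)
    exact Nat.lt_succ_of_le (Finset.le_sup (Finset.mem_univ g))
  intro M
  induction M with
  | zero =>
    intro φ hφ hdφ hsupp
    refine ⟨0, fun T g p _ => rfl, ?_⟩
    funext T g
    rw [hsupp T g (Nat.zero_le _)]
    simp [delta]
  | succ M ih =>
    intro φ hφ hdφ hsupp
    -- the letters at which `y` is ascending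
    let A' : GL (Fin (m + 1)) F → Finset (Fin r) := fun y => Finset.univ.filter fun a => ω a ∈ A y
    have hA' : ∀ (T : Finset (Fin r)) y, T.map ω ⊆ A y ↔ T ⊆ A' y := by
      intro T y
      simp only [A', Finset.subset_iff, Finset.mem_filter, Finset.mem_univ, true_and, Finset.mem_map, forall_exists_index, and_imp, forall_apply_eq_imp_iff₂]
    let φ' : Finset (Fin r) → GL (Fin (m + 1)) F → R := fun S y => if h : S.card = c + 1 then φ ⟨S, h⟩ y else 0
    have hφB : ∀ S y b, b ∈ parabolic F (∅ : Finset (Fin m)) → φ' S (y * b) = φ' S y := by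
      intro S y b hb
      simp only [φ']
      split_ifs with h
      · exact hφ ⟨S, h⟩ y b (parabolic_mono (Finset.empty_subset _) hb)
      · rfl
    have hvan : ∀ S y, M ≤ μ y → ¬ S ⊆ A' y → φ' S y = 0 := by
      intro S y hy hS
      simp only [φ']
      split_ifs with h
      · have h1 := hxlt y (S.map ω) (fun hc => hS ((hA' S y).1 hc))
        rw [← hφ ⟨S, h⟩ y (y⁻¹ * x y (S.map ω)) (hx y (S.map ω)), mul_inv_cancel_left]
        exact hsupp _ _ (by omega)
      · rfl
    let hv : Finset (Fin r) → GL (Fin (m + 1)) F → R := fun U y =>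
      if h : (A' y).Nonempty then
        (if (A' y).min' h ∈ U then (sgn (U.erase ((A' y).min' h)) ((A' y).min' h) : R) * φ' (U.erase ((A' y).min' h)) y else 0)
      else 0
    have hhvB : ∀ U y b, b ∈ parabolic F (∅ : Finset (Fin m)) → hv U (y * b) = hv U y := by
      intro U y b hb
      have : A' (y * b) = A' y := by simp only [A', (hAinv y b hb).2]
      simp only [hv, this, hφB _ _ _ hb]
    let h : Cochain F R (m := m) r (c + 2) := fun U y =>
      if μ (x y (U.1.map ω)) = M then hv U.1 (x y (U.1.map ω)) else 0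
    have hh : IsInduced ω h := by
      intro U y p hp
      simp only [h]
      have h1 : y⁻¹ * x (y * p) (U.1.map ω) ∈ parabolic F (U.1.map ω) := by
        have := mul_mem hp (hx (y * p) (U.1.map ω))
        rwa [mul_inv_rev, mul_assoc, mul_inv_cancel_left] at this
      have h2 := hxB y (U.1.map ω) _ h1 (hxA _ _)
      rw [← mul_inv_cancel_left (x (y * p) (U.1.map ω)) (x y (U.1.map ω)), (hAinv _ _ h2).1, hhvB _ _ _ h2]
    have hval : ∀ T y, M ≤ μ y → delta (c + 1) h T y = φ T y := by
      intro T y hy
      by_cases hyM : μ y = M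
      swap
      · rw [hsupp T y (by omega)]
        refine Finset.sum_eq_zero fun a _ => ?_
        by_cases ha : a ∈ T.1
        · rw [dif_neg (not_not.2 ha)]
        · rw [dif_pos ha]
          simp only [h]
          rw [if_neg, mul_zero]
          have := hxle y ((insert a T.1).map ω)
          omega
      have hterm : ∀ (U : {U : Finset (Fin r) // U.card = c + 2}), h U y = if U.1 ⊆ A' y then hv U.1 y else 0 := by
        intro U
        simp only [h]
        by_cases hU : U.1 ⊆ A' y
        · have h2 := hxB y (U.1.map ω) y (by rw [inv_mul_cancel]; exact one_mem _) ((hA' _ _).2 hU)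
          rw [if_pos hU, ← mul_inv_cancel_left y (x y (U.1.map ω)), (hAinv _ _ h2).1, hhvB _ _ _ h2, if_pos hyM]
        · have := hxlt y (U.1.map ω) (fun hc => hU ((hA' _ _).1 hc))
          rw [if_neg hU, if_neg (by omega)]
      have hT : φ T y = φ' T.1 y := by simp only [φ', dif_pos T.2]
      rw [hT]
      simp only [delta, hterm]
      by_cases hTA : T.1 ⊆ A' y
      swap
      · rw [hvan _ _ hy hTA]
        refine Finset.sum_eq_zero fun a _ => ?_
        by_cases ha : a ∈ T.1
        · rw [dif_neg (not_not.2 ha)]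
        · rw [dif_pos ha, if_neg (fun hins => hTA (fun t ht => hins (Finset.mem_insert_of_mem ht))), mul_zero]
      have hne : (A' y).Nonempty := (Finset.card_pos.1 (by rw [T.2]; omega) : T.1.Nonempty).mono hTA
      simp only [hv, dif_pos hne]
      set a0 := (A' y).min' hne with ha0
      have ha0A : a0 ∈ A' y := Finset.min'_mem _ _
      by_cases h0 : a0 ∈ T.1
      · -- use the cycle condition at `T - a0`
        have hS : (T.1.erase a0).card = c := by rw [Finset.card_erase_of_mem h0, T.2]; rfl
        have hc0 : delta c φ ⟨T.1.erase a0, hS⟩ y = 0 := by rw [hdφ]; rfl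
        obtain ⟨S, hSdef⟩ : ∃ S, S = T.1.erase a0 := ⟨_, rfl⟩
        rw [← hSdef] at hS
        simp only [← hSdef] at hc0
        have hTS : insert a0 S = T.1 := hSdef ▸ Finset.insert_erase h0
        have hc1 : ∑ a, (if a ∉ S then (sgn S a : R) * φ' (insert a S) y else 0) = 0 := by
          simp only [delta] at hc0
          refine Eq.trans (Finset.sum_congr rfl fun a _ => ?_) hc0
          by_cases ha : a ∈ S
          · rw [dif_neg (not_not.2 ha), if_neg (not_not.2 ha)]
          · rw [dif_pos ha, if_pos ha]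
            simp only [φ', dif_pos (show (insert a S).card = c + 1 by rw [Finset.card_insert_of_notMem ha, hS])]
            try rfl
        rw [← Finset.add_sum_erase _ _ (Finset.mem_univ a0), if_pos (hSdef ▸ Finset.notMem_erase a0 T.1), hTS] at hc1
        rw [← Finset.add_sum_erase _ _ (Finset.mem_univ a0), dif_neg (not_not.2 h0), zero_add]
        have hmul := congrArg (fun z => (sgn S a0 : R) * z) hc1
        simp only [mul_add, mul_zero, ← mul_assoc, ← Int.cast_mul, sgn_sq, Int.cast_one, one_mul, Finset.mul_sum] at hmul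
        rw [eq_neg_of_add_eq_zero_left hmul, ← Finset.sum_neg_distrib]
        refine Finset.sum_congr rfl fun a ha => ?_
        have hane : a ≠ a0 := (Finset.mem_erase.1 ha).1
        by_cases haT : a ∈ T.1
        · rw [dif_neg (not_not.2 haT), if_neg (not_not.2 (hSdef ▸ Finset.mem_erase.2 ⟨hane, haT⟩)), mul_zero, neg_zero]
        · have haS : a ∉ S := fun hh => haT (Finset.mem_erase.1 (hSdef ▸ hh)).2
          rw [dif_pos haT, if_pos haS]
          by_cases haA : a ∈ A' y
          · rw [if_pos (Finset.insert_subset haA hTA), if_pos (Finset.mem_insert_of_mem h0),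
              Finset.erase_insert_of_ne hane, ← hSdef, ← mul_assoc, ← mul_assoc, ← neg_mul, ← Int.cast_mul, ← Int.cast_mul, ← Int.cast_neg]
            congr 2
            have e1 := sgn_flip S a0 a (hSdef ▸ Finset.notMem_erase a0 T.1) haS hane.symm
            rw [hTS] at e1
            have e2 := sgn_sq S a0
            calc sgn T.1 a * sgn (insert a S) a0
                = (sgn S a0 * sgn S a0) * (sgn T.1 a * sgn (insert a S) a0) := by rw [e2, one_mul]
              _ = sgn S a0 * ((sgn S a0 * sgn T.1 a) * sgn (insert a S) a0) := by ring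
              _ = sgn S a0 * (-(sgn S a * (sgn (insert a S) a0 * sgn (insert a S) a0))) := by rw [e1]; ring
              _ = -(sgn S a0 * sgn S a) := by rw [sgn_sq]; ring
          · rw [if_neg (fun hh => haA (hh (Finset.mem_insert_self a T.1))), mul_zero,
              hvan (insert a S) y hy (fun hh => haA (hh (Finset.mem_insert_self a S))), mul_zero, mul_zero, neg_zero]
      · -- only the cone point contributes
        rw [Finset.sum_eq_single a0]
        · rw [dif_pos h0, if_pos (Finset.insert_subset ha0A hTA), if_pos (Finset.mem_insert_self _ _),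
            Finset.erase_insert h0, ← mul_assoc, ← Int.cast_mul, sgn_sq, Int.cast_one, one_mul]
        · intro a _ hane
          by_cases ha : a ∈ T.1
          · rw [dif_neg (not_not.2 ha)]
          · rw [dif_pos ha]
            have hmem : a0 ∉ insert a T.1 := fun hm => (Finset.mem_insert.1 hm).elim (fun h' => hane h'.symm) h0
            rw [if_neg hmem, ite_self, mul_zero]
        · intro hc'; exact absurd (Finset.mem_univ a0) hc'
    -- the remainder lives in lower weight
    obtain ⟨g1, hg1, hg2⟩ := ih (φ - delta (c + 1) h) (isInduced_sub hφ (isInduced_delta hh))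
      (by rw [delta_sub, hdφ, delta_delta, sub_zero])
      (fun T y hy => sub_eq_zero.2 (hval T y hy).symm)
    refine ⟨h + g1, isInduced_add hh hg1, ?_⟩
    rw [delta_add, hg2, add_sub_cancel]

end Groth.Agent.S15983
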