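import Groth.Statements.S15987


set_option autoImplicit false
universe u v
open Deform

namespace Groth.Agent.S15987

open TrivSqZeroExt in
/-- Let k be a field, A a commutative k-algebra and q_i : A → k (i ∈ ι) k-algebra maps (marked k-points
of Spec A). The k-algebra automorphisms φ of the ring of dual numbers A[ε] that fix ε (so are
k[ε]-linear), are the identity modulo ε, and satisfy q_i((φ x)_ε) = q_i(x_ε) for all i and x
(compatibility with the trivial lifts A[ε] → k[ε] of the marked points) are in bijection with the
k-derivations D : A → A such that q_i ∘ D = 0 for every i, the bijection sending φ to a ↦ (φ(a))_ε.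
(The source identifies the right-hand side with the global vector fields vanishing at the marked
points; the condition the computation yields is q_i ∘ D = 0, which is the same for Spec A smooth
over k but is weaker in general, e.g. for A = k[x]/(x^2) with 2 invertible in k.) -/
theorem result
    (k : Type u) [Field k] (A : Type u) [CommRing A] [Algebra k A] {ι : Type v} (q : ι → (A →ₐ[k] k)) :
    ∃ e : {φ : DualNumber A ≃ₐ[k] DualNumber A //
            φ DualNumber.eps = DualNumber.eps ∧ (∀ x, (φ x).fst = x.fst) ∧
              ∀ i x, q i (φ x).snd = q i x.snd} ≃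
          {D : Derivation k A A // ∀ i a, q i (D a) = 0},
      ∀ φ (a : A), (e φ).1 a = (φ.1 (inl a : DualNumber A)).snd := by
  let mkD : {D : Derivation k A A // ∀ i a, q i (D a) = 0} → (DualNumber A ≃ₐ[k] DualNumber A) := fun D =>
    { toFun := fun x => inl x.fst + inr (x.snd + D.1 x.fst)
      invFun := fun x => inl x.fst + inr (x.snd - D.1 x.fst)
      left_inv := fun x => by ext <;> simp
      right_inv := fun x => by ext <;> simp
      map_mul' := fun x y => by
        ext
        · simp
        · simp [smul_eq_mul]; ring
      map_add' := fun x y => by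
        ext
        · simp
        · simp; ring
      commutes' := fun c => by
        ext <;> simp [TrivSqZeroExt.algebraMap_eq_inl'] }
  have hD : ∀ D x, mkD D x = inl x.fst + inr (x.snd + D.1 x.fst) := fun _ _ => rfl
  have hsnd : ∀ (φ : DualNumber A ≃ₐ[k] DualNumber A), φ DualNumber.eps = DualNumber.eps → (∀ x, (φ x).fst = x.fst) →
      ∀ x : DualNumber A, (φ x).snd = (φ (inl x.fst : DualNumber A)).snd + x.snd := by
    intro φ h1 h2 x
    have h : x = (inl x.fst : DualNumber A) + inl x.snd * DualNumber.eps := by ext <;> simp
    conv_lhs => rw [h]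
    simp [h1, h2]
  refine ⟨{ toFun := fun φ => ⟨Derivation.mk'
              { toFun := fun a => (φ.1 (inl a : DualNumber A)).snd
                map_add' := fun a b => by simp [inl_add]
                map_smul' := fun c a => ?_ } ?_, ?_⟩
            invFun := fun D => ⟨mkD D, ?_, ?_, ?_⟩
            left_inv := ?_, right_inv := ?_ }, fun φ a => rfl⟩
  · show (φ.1 (inl (c • a) : DualNumber A)).snd = c • (φ.1 (inl a : DualNumber A)).snd
    rw [inl_smul, map_smul, snd_smul]
  · intro a b
    simp [inl_mul, φ.2.2.1, smul_eq_mul]
    ring
  · intro i a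
    simpa using φ.2.2.2 i (inl a)
  · rw [hD]; ext <;> simp
  · intro x; rw [hD]; simp
  · intro i x; rw [hD]; simp [D.2]
  · intro φ
    refine Subtype.ext (AlgEquiv.ext fun x => ?_)
    rw [hD]
    refine TrivSqZeroExt.ext ?_ ?_
    · simp [φ.2.2.1]
    · rw [hsnd φ.1 φ.2.1 φ.2.2.1 x]; simp [add_comm]
  · intro D
    refine Subtype.ext (Derivation.ext fun a => ?_)
    simp [hD]

end Groth.Agent.S15987
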