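import Groth.Statements.S15988


set_option autoImplicit false
universe u v
open Deform

namespace Groth.Agent.S15988

open TrivSqZeroExt in
/-- Let k be a field, A a smooth commutative k-algebra, q_i : A → k (i ∈ ι, ι finite) pairwise distinct
k-algebra maps, and q'_i : A[ε] → k[ε] k-algebra maps with q'_i(ε) = ε which reduce to q_i modulo ε
(marked points of a first-order deformation with underlying trivial deformation). Then some
k-algebra automorphism φ of A[ε] with φ(ε) = ε and φ = id modulo ε carries every q'_i to the trivial
lift of q_i: q'_i(φ x) = (q_i(x_0), q_i(x_ε)) for all i and x. Together with the triviality of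
first-order deformations of a smooth affine scheme this gives the source's statement that
first-order deformations of a smooth affine scheme with marked points are trivial. (The published
statement does not say that the finitely many marked points are distinct; for two coincident points
with different lifts no such automorphism exists, so the points are taken pairwise distinct here,
and the source's non-singular is read as smooth over k.) -/
theorem result
    (k : Type u) [Field k] (A : Type u) [CommRing A] [Algebra k A] [Algebra.Smooth k A]
    {ι : Type v} [Finite ι] (q : ι → (A →ₐ[k] k)) (hq : Function.Injective q)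
    (q' : ι → (DualNumber A →ₐ[k] DualNumber k))
    (hε : ∀ i, q' i DualNumber.eps = DualNumber.eps) (hq' : ∀ i x, (q' i x).fst = q i x.fst) :
    ∃ φ : DualNumber A ≃ₐ[k] DualNumber A,
      φ DualNumber.eps = DualNumber.eps ∧ (∀ x, (φ x).fst = x.fst) ∧
        ∀ i x, (q' i (φ x)).fst = q i x.fst ∧ (q' i (φ x)).snd = q i x.snd := by
  classical
  let δ : ι → A → k := fun i a => (q' i (inl a : DualNumber A)).snd
  have hsnd : ∀ i (x : DualNumber A), (q' i x).snd = δ i x.fst + q i x.snd := by
    intro i x
    have h : x = (inl x.fst : DualNumber A) + inl x.snd * DualNumber.eps := by ext <;> simp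
    conv_lhs => rw [h]
    simp [hε, hq', δ]
  letI algι : Algebra A (ι → k) := (Pi.algHom k (fun _ : ι => k) q).toRingHom.toAlgebra
  have halg : ∀ (a : A) i, algebraMap A (ι → k) a i = q i a := fun _ _ => rfl
  haveI : IsScalarTower k A (ι → k) := IsScalarTower.of_algebraMap_eq fun c => funext fun i => by
    rw [halg]; simp
  have hsurj : Function.Surjective (Algebra.linearMap A (ι → k)) := by
    cases nonempty_fintype ι
    have hone : ∀ i : ι, ∃ a : A, ∀ j, q j a = if j = i then 1 else 0 := by
      intro i
      have hb : ∀ j : ι, j ≠ i → ∃ c : A, q i c = 1 ∧ q j c = 0 := by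
        intro j hj
        obtain ⟨b, hb⟩ : ∃ b, q i b ≠ q j b := by
          by_contra! h
          exact hj (hq (AlgHom.ext h)).symm
        exact ⟨(q i b - q j b)⁻¹ • (b - algebraMap k A (q j b)), by simp [sub_ne_zero.2 hb], by simp⟩
      choose c hc1 hc2 using hb
      refine ⟨∏ j : {j // j ≠ i}, c j.1 j.2, fun j => ?_⟩
      rw [map_prod]
      split_ifs with h
      · subst h; exact Finset.prod_eq_one fun x _ => hc1 x.1 x.2
      · exact Finset.prod_eq_zero (Finset.mem_univ (⟨j, h⟩ : {j // j ≠ i})) (hc2 j h)
    choose e he using hone
    intro v
    refine ⟨∑ i, algebraMap k A (v i) * e i, funext fun j => ?_⟩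
    rw [Algebra.linearMap_apply, halg, map_sum]
    simp [he]
  let Δ : Derivation k A (ι → k) := Derivation.mk'
    { toFun := fun a i => - δ i a
      map_add' := fun a b => funext fun i => by simp [δ, inl_add]; ring
      map_smul' := fun c a => funext fun i => by simp [δ, inl_smul] } (by
      intro a b
      funext i
      simp [δ, inl_mul, hq', Algebra.smul_def, halg, smul_eq_mul]
      ring)
  obtain ⟨L, hL⟩ := Module.projective_lifting_property (Algebra.linearMap A (ι → k)) Δ.liftKaehlerDifferential hsurj
  let D : Derivation k A A := L.compDer (KaehlerDifferential.D k A)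
  have hD : ∀ i a, q i (D a) = - δ i a := by
    intro i a
    have h := congrFun (LinearMap.congr_fun hL (KaehlerDifferential.D k A a)) i
    rw [Derivation.liftKaehlerDifferential_comp_D] at h
    exact h
  let φ : DualNumber A ≃ₐ[k] DualNumber A :=
    { toFun := fun x => inl x.fst + inr (x.snd + D x.fst)
      invFun := fun x => inl x.fst + inr (x.snd - D x.fst)
      left_inv := fun x => by ext <;> simp
      right_inv := fun x => by ext <;> simp
      map_mul' := fun x y => by
        ext
        · simp
        · simp [smul_eq_mul]; ring
      map_add' := fun x y => by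
        ext
        · simp
        · simp; ring
      commutes' := fun c => by
        ext <;> simp [TrivSqZeroExt.algebraMap_eq_inl'] }
  have hφ : ∀ x, φ x = inl x.fst + inr (x.snd + D x.fst) := fun _ => rfl
  refine ⟨φ, by rw [hφ]; ext <;> simp, fun x => by rw [hφ]; simp, fun i x => ⟨by rw [hq', hφ]; simp, ?_⟩⟩
  rw [hsnd, hφ]
  simp [hD]

end Groth.Agent.S15988
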