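import Groth.Statements.S15989
import Groth.Agent.Cubic5.Twist

set_option autoImplicit false
universe u
open ModFun

namespace Groth.Agent.S15989

open AlgebraicGeometry CategoryTheory in
/-- Over an algebraically closed field k, the moduli problem of curves of genus 1 (proper smooth
geometrically irreducible C → T with one-dimensional geometric fibres of genus 1, modulo isomorphism
over T, on all k-schemes T) is not representable: no k-scheme M carries a universal family. (The
published statement asserts non-representability for every genus g and every number n of marked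
points, which fails for g = 0 and n = 3: three disjoint sections identify every family with the
projective line over the base marked at 0, 1 and ∞, so that functor is represented by a point; its
argument is carried out in genus 1 with one marked point, and the unpointed genus-1 case stated here
is what that argument, with the same isotrivial family, proves.) -/
theorem result (k : Type u) [Field k] [IsAlgClosed k]
    (M : Over (Spec (CommRingCat.of k))) :
    ¬ ModFun.IsFineModuli ⊤ (ModFun.Mg (Spec (CommRingCat.of k)) 1) M := by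
  rintro ⟨ξ, hξok, huniv⟩
  let K := RatFunc k
  let T : Over (Spec (CommRingCat.of k)) :=
    Over.mk (Spec.map (CommRingCat.ofHom (algebraMap k K)))
  let s : T ⟶ T := Over.homMk (Spec.map (CommRingCat.ofHom (Cubic5.cube k))) (by
    simp only [T, Over.mk_hom, Over.mk_left]
    rw [← Spec.map_comp, ← CommRingCat.ofHom_comp]
    congr 2
    exact RingHom.ext fun a => Cubic5.cube_C k a)
  let C0 : Over T.left := Over.mk (Cubic5.curveToSpec (1 : K) 1 1 (Cubic5.lam k))
  let C2 : Over T.left :=
    Over.mk (Cubic5.curveToSpec (1 : K) RatFunc.X (RatFunc.X ^ 2) (Cubic5.lam k * RatFunc.X))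
  have hok0 : (ModFun.Mg (Spec (CommRingCat.of k)) 1).ok T C0 :=
    ⟨trivial, Cubic5.isCurveOfGenus_curve (Cubic5.good_one k)⟩
  have hok2 : (ModFun.Mg (Spec (CommRingCat.of k)) 1).ok T C2 :=
    ⟨trivial, Cubic5.isCurveOfGenus_curve (Cubic5.good_twist k)⟩
  obtain ⟨g0, ⟨e0⟩, hu0⟩ := huniv T C0 trivial hok0
  obtain ⟨g2, ⟨e2⟩, hu2⟩ := huniv T C2 trivial hok2
  have key : ∀ (g : T ⟶ M) (C : Over T.left), ((Over.pullback g.left).obj ξ ≅ C) →
      (∃ f : C0.left ⟶ C.left, IsPullback f C0.hom C.hom s.left) → s ≫ g = g0 := by
    intro g C e hf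
    obtain ⟨f, hf⟩ := hf
    let i : (Over.pullback s.left).obj C ≅ C0 :=
      Over.isoMk hf.isoPullback.symm (IsPullback.isoPullback_inv_snd hf)
    exact hu0 (s ≫ g)
      ⟨(Over.pullbackComp s.left g.left).app ξ ≪≫ (Over.pullback s.left).mapIso e ≪≫ i⟩
  have h0 : s ≫ g0 = g0 := key g0 C0 e0 (Cubic5.exists_isPullback_one k)
  have h2 : s ≫ g2 = g0 := key g2 C2 e2 (Cubic5.exists_isPullback_twist k)
  haveI : Flat (Spec.map (CommRingCat.ofHom (Cubic5.cube k))) := by
    rw [HasRingHomProperty.Spec_iff (P := @Flat)]
    exact Cubic5.flat_field _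
  haveI : Surjective (Spec.map (CommRingCat.ofHom (Cubic5.cube k))) :=
    ⟨fun x => ⟨(⊥ : PrimeSpectrum K), @Subsingleton.elim (PrimeSpectrum K) _ _ _⟩⟩
  haveI : Epi s.left := Flat.epi_of_flat_of_surjective (Spec.map (CommRingCat.ofHom (Cubic5.cube k)))
  have hg : g0 = g2 := Over.OverMorphism.ext
    ((cancel_epi s.left).1 (congrArg CommaMorphism.left (h0.trans h2.symm)))
  subst hg
  let e : C0 ≅ C2 := e0.symm ≪≫ e2
  obtain ⟨σ, hσ⟩ := Cubic5.exists_section_one k
  refine Cubic5.no_section_twist k (σ ≫ e.hom.left) ?_
  rw [Category.assoc]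
  exact (congrArg (σ ≫ ·) (Over.w e.hom)).trans hσ

end Groth.Agent.S15989
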