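import Groth.Statements.S15993
import Groth.Agent.FlatMor12.RegularExtend
import Mathlib.AlgebraicGeometry.Morphisms.FlatDescent

set_option autoImplicit false
open CategoryTheory AlgebraicGeometry
universe u
open EtHull

set_option backward.isDefEq.respectTransparency.types false
set_option backward.isDefEq.respectTransparency false

open CategoryTheory.Limits

namespace Groth.Agent.S15993


/-- Let f : X → S be a morphism of schemes which is faithfully flat (flat and surjective), quasi-compact
and separated, and schematically birational in the following sense: there are schematically dense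
opens U of S and V of X, with the inclusion V → X quasi-compact, such that f maps V into U and the
induced morphism V → U is an isomorphism. Then f is an isomorphism. (The source states this for
algebraic spaces and puts no quasi-compactness condition on the dense opens. Its proof base-changes
along f and uses that the inverse image of V in X ×_S X is again schematically dense, which holds
when V → X is quasi-compact, for instance when X is locally Noetherian, and fails in general: over
the Boolean ring of eventually constant sequences of elements of the field with two elements, the
spectrum of the ring of eventually two-periodic sequences is faithfully flat and affine, and it is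
an isomorphism above the open set of principal points, which is schematically dense on both sides,
yet it is not an isomorphism, the point at infinity being doubled. So V is taken retrocompact in X
here, and X, S are schemes.) -/
theorem result {X S : Scheme.{u}} (f : X ⟶ S)
    [Flat f] [Surjective f] [QuasiCompact f] [IsSeparated f]
    (U : S.Opens) (V : X.Opens) [QuasiCompact V.ι]
    (hU : CInt.IsSchematicallyDense U) (hV : CInt.IsSchematicallyDense V)
    (hle : V ≤ f ⁻¹ᵁ U) (hiso : IsIso (f.resLE U V hle)) : IsIso f := by
  have hdom : IsSchemeTheoreticallyDominant V.ι := by
    refine ⟨Scheme.IdealSheafData.ext (funext fun W => ?_)⟩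
    rw [Scheme.Hom.ker_apply, Scheme.IdealSheafData.ideal_bot, Pi.bot_apply, ← RingHom.injective_iff_ker_eq_bot,
      Scheme.Opens.ι_app]
    have e : V.ι ''ᵁ V.ι ⁻¹ᵁ W.1 = W.1 ⊓ V := by
      rw [V.ι.image_preimage_eq_opensRange_inf, V.opensRange_ι, inf_comm]
    intro a b h
    apply hV W.1
    have h1 := congrArg (X.presheaf.map (homOfLE e.ge).op) h
    erw [← CommRingCat.comp_apply, ← CommRingCat.comp_apply] at h1
    rw [← Functor.map_comp] at h1
    erw [← CommRingCat.comp_apply] at h1
    rw [← Functor.map_comp] at h1
    exact h1
  let j := pullback.snd V.ι (pullback.fst f f)
  haveI : IsOpenImmersion j := inferInstance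
  haveI : Flat (j ≫ pullback.snd f f) := inferInstance
  let k := pullback.snd V.ι (j ≫ pullback.snd f f)
  obtain ⟨a, ha⟩ : ∃ a, (k ≫ j) ≫ pullback.fst f f = a ≫ V.ι :=
    ⟨k ≫ pullback.fst V.ι (pullback.fst f f), by simp only [j, Category.assoc, pullback.condition]⟩
  obtain ⟨b, hb⟩ : ∃ b, (k ≫ j) ≫ pullback.snd f f = b ≫ V.ι :=
    ⟨pullback.fst V.ι (j ≫ pullback.snd f f), by simp only [k, Category.assoc, pullback.condition]⟩
  have hab : a = b := by
    haveI := hiso
    rw [← cancel_mono (f.resLE U V hle), ← cancel_mono U.ι, Category.assoc, Category.assoc,
      Scheme.Hom.resLE_comp_ι, ← Category.assoc a, ← ha, ← Category.assoc b, ← hb, Category.assoc, Category.assoc,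
      Category.assoc, Category.assoc, pullback.condition]
  have h12 : pullback.fst f f = pullback.snd f f :=
    Groth.Agent.FlatMor12.RegularExtend.ext_of_isSchemeTheoreticallyDominant f pullback.condition (k ≫ j)
      (by rw [ha, hb, hab])
  haveI : Mono f := ⟨fun {W} g h e => by
    rw [← pullback.lift_fst g h e, h12, pullback.lift_snd]⟩
  haveI : IsIso (pullback.fst f f) := inferInstance
  exact MorphismProperty.of_pullback_fst_of_descendsAlong
    (P := MorphismProperty.isomorphisms Scheme.{u}) (Q := @Surjective ⊓ @Flat ⊓ @QuasiCompact)
    (f := f) (g := f) ⟨⟨inferInstance, inferInstance⟩, inferInstance⟩ (inferInstanceAs (IsIso (pullback.fst f f)))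

end Groth.Agent.S15993
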