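import Groth.Statements.S15994
import Groth.Agent.Et18.EtaleInf

set_option autoImplicit false
open CategoryTheory AlgebraicGeometry
universe u
open EtHull

set_option backward.isDefEq.respectTransparency.types false
set_option linter.style.haveILetI false

namespace Groth.Agent.Et18.EtaleHull

open CategoryTheory.Limits
open Groth.Agent.FlatMorWeight (IsMaximalPt)

variable {X S : Scheme.{u}} {f : X ⟶ S} [AlgebraicGeometry.IsNoetherian S] [Flat f] [LocallyOfFinitePresentation f]
  [QuasiCompact f]

omit [Flat f] in
lemma isNoetherian_self_sq : AlgebraicGeometry.IsNoetherian (pullback f f) := by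
  haveI : LocallyOfFiniteType (pullback.fst f f ≫ f) := inferInstance
  haveI : IsLocallyNoetherian (pullback f f) := LocallyOfFiniteType.isLocallyNoetherian (pullback.fst f f ≫ f)
  haveI : CompactSpace ↥(pullback f f) := QuasiCompact.compactSpace_of_compactSpace (pullback.fst f f ≫ f)
  exact {}

lemma deg_le (A : EtaleInf.Adm f f f (𝟙 X) (𝟙 X)) :
    A.deg ≤ {z : ↥(pullback f f) | IsMaximalPt z}.ncard := by
  haveI := A.etale
  haveI := A.affine
  haveI := EtaleInf.isNoetherian_over A.g
  haveI := isNoetherian_self_sq (f := f)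
  obtain ⟨hAo, hAd⟩ := A.isOpen_range
  haveI : Etale (pullback.fst A.g A.g) := MorphismProperty.pullback_fst _ _ A.etale
  haveI : Etale (pullback.snd A.g A.g) := MorphismProperty.pullback_snd _ _ A.etale
  let m : pullback f f ⟶ pullback A.g A.g :=
    pullback.map f f A.g A.g A.u A.u (𝟙 S) (by rw [Category.comp_id, A.hu]) (by rw [Category.comp_id, A.hu])
  have hfin : {z : ↥(pullback f f) | IsMaximalPt z}.Finite := EtaleInf.finite_maximal _
  refine le_trans ?_ (Set.ncard_image_le (f := m) hfin)
  refine Set.ncard_le_ncard (fun z hz => ?_) (hfin.image m)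
  replace hz : IsMaximalPt z := hz
  have hr : z ∈ Set.range m := by
    rw [Scheme.Pullback.range_map]
    exact ⟨EtaleInf.maximal_mem_of_dense _ hAo hAd _ (hz.map_flat _),
      EtaleInf.maximal_mem_of_dense _ hAo hAd _ (hz.map_flat _)⟩
  obtain ⟨w, hw⟩ := hr
  obtain ⟨ζ, hζ, hζw⟩ := EtaleInf.exists_max (pullback f f) w
  refine ⟨ζ, hζ, hz _ ?_⟩
  rw [← hw]
  exact hζw.map m.continuous

/-- The etale affine hull. -/
theorem exists_hull [Surjective f] (hS : ∀ s : S, CAlg2.IsGeomUnibranch (S.presheaf.stalk s))
    (hemb : AssSch.NoEmbedded (Coh.structureModule S)) :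
    ∃ T : EtaleInf.Adm f f f (𝟙 X) (𝟙 X), ∀ (E : Scheme.{u}) (g : E ⟶ S) (u : X ⟶ E), Etale g → IsAffineHom g →
      u ≫ g = f → ∃ w : T.E ⟶ E, T.u ≫ w = u ∧ w ≫ g = T.g := by
  let N := {z : ↥(pullback f f) | IsMaximalPt z}.ncard
  have key : ∀ A : EtaleInf.Adm f f f (𝟙 X) (𝟙 X), ∃ T : EtaleInf.Adm f f f (𝟙 X) (𝟙 X),
      ∀ (E : Scheme.{u}) (g : E ⟶ S) (u : X ⟶ E), Etale g → IsAffineHom g →
        u ≫ g = f → ∃ w : T.E ⟶ E, T.u ≫ w = u ∧ w ≫ g = T.g := by
    intro A
    induction hk : N - A.deg using Nat.strong_induction_on generalizing A with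
    | _ k ih =>
      induction hl : A.bad using Nat.strong_induction_on generalizing A with
      | _ l ih' =>
        by_cases htop : ∀ (E : Scheme.{u}) (g : E ⟶ S) (u : X ⟶ E), Etale g → IsAffineHom g →
          u ≫ g = f → ∃ w : A.E ⟶ E, A.u ≫ w = u ∧ w ≫ g = A.g
        · exact ⟨A, htop⟩
        push Not at htop
        obtain ⟨B, gB, uB, hBe, hBa, hB, hno⟩ := htop
        haveI := A.etale
        haveI := A.affine
        obtain ⟨E, g, u, cA, cB, hge, hga, hdom, hug, huA, huB, hgA, hgB, -⟩ :=
          EtaleSup.exists_sup hS hemb f A.E B A.g gB A.u uB A.hu hB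
        let C : EtaleInf.Adm f f f (𝟙 X) (𝟙 X) :=
          { E := E, g := g, u := u, v₁ := u, v₂ := u, etale := hge, affine := hga, dom := hdom, hu := hug
            hv₁ := Category.id_comp u, hv₂ := Category.id_comp u, hg₁ := hug, hg₂ := hug }
        have hniso : ¬ IsIso cA := by
          intro hi
          refine hno (inv cA ≫ cB) ?_ ?_
          · rw [← huA, Category.assoc, IsIso.hom_inv_id_assoc, huB]
          · rw [Category.assoc, hgB, IsIso.inv_comp_eq, hgA]
        rcases A.refine_lt C cA hgA huA hniso with hlt | ⟨heq, hlt⟩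
        · exact ih (N - C.deg) (by have := deg_le C; omega) C rfl
        · exact ih' C.bad (by omega) C (by omega) rfl
  haveI : IsSchemeTheoreticallyDominant f := Desc19b.isSchemeTheoreticallyDominant_of_flat f
  exact key
    { E := S, g := 𝟙 S, u := f, v₁ := f, v₂ := f, etale := inferInstance, affine := inferInstance
      dom := inferInstance, hu := Category.comp_id f, hv₁ := Category.id_comp f, hv₂ := Category.id_comp f
      hg₁ := Category.comp_id f, hg₂ := Category.comp_id f }

end Groth.Agent.Et18.EtaleHull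

namespace Groth.Agent.S15994

/-- Let S be a Noetherian scheme all of whose local rings are geometrically unibranch and whose
structure sheaf has no embedded associated points, and let f : X → S be flat, surjective and of
finite presentation. Then there is a factorization X → E₀ → S of f with E₀ → S étale and affine and
X → E₀ schematically dominant (the étale affine hull of X over S), and it is initial among all
factorizations of f through étale affine S-schemes: for every factorization X → E → S of f with E →
S étale and affine there is a unique morphism E₀ → E compatible with the maps from X and to S. In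
particular it is the largest factorization with X → E schematically dominant. (The source allows X
to be an algebraic space; X is a scheme here.) -/
theorem result {X S : Scheme.{u}} [IsNoetherian S]
    (hS : ∀ s : S, CAlg2.IsGeomUnibranch (S.presheaf.stalk s))
    (hemb : AssSch.NoEmbedded (Coh.structureModule S))
    (f : X ⟶ S) [Flat f] [Surjective f] [LocallyOfFinitePresentation f] [QuasiCompact f]
    [QuasiSeparated f] :
    ∃ (E₀ : Scheme.{u}) (g₀ : E₀ ⟶ S) (u₀ : X ⟶ E₀), Etale g₀ ∧ IsAffineHom g₀ ∧
      IsSchemeTheoreticallyDominant u₀ ∧ u₀ ≫ g₀ = f ∧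
      ∀ (E : Scheme.{u}) (g : E ⟶ S) (u : X ⟶ E), Etale g → IsAffineHom g → u ≫ g = f →
        ∃! v : E₀ ⟶ E, u₀ ≫ v = u ∧ v ≫ g = g₀ := by
  obtain ⟨T, hT⟩ := Groth.Agent.Et18.EtaleHull.exists_hull (f := f) hS hemb
  refine ⟨T.E, T.g, T.u, T.etale, T.affine, T.dom, T.hu, fun E g u hg hga hu => ?_⟩
  obtain ⟨w, hwu, hwg⟩ := hT E g u hg hga hu
  refine ⟨w, ⟨hwu, hwg⟩, fun v hv => ?_⟩
  haveI := T.dom
  haveI := hga
  exact Groth.Agent.FlatMor12.RegularExtend.ext_of_isSchemeTheoreticallyDominant g
    (hv.2.trans hwg.symm) T.u (hv.1.trans hwu.symm)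

end Groth.Agent.S15994
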