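import Groth.Statements.S1600
import Groth.Agent.H8Lim.BiratNormal
import Groth.Agent.Models7.PointBlowUpIso
import Groth.Agent.Coherent.ProperFinite
import Groth.Agent.Coherent.SecBridge
import Groth.Agent.Coherent.RpushCoh
import Groth.Agent.AlgSpLib.EtaleAscend
import Groth.Agent.FlatMorGeneric.Scheme
-- import your own Groth.Agent.* helpers here

set_option autoImplicit false
set_option backward.isDefEq.respectTransparency.types false
universe u
open CategoryTheory CategoryTheory.Limits AlgebraicGeometry
open Resolve

namespace Groth.Agent.S1600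

/-- Let A be a Noetherian domain such that Spec A admits an alteration f : X → Spec A with X regular.
Then the integral closure of A in its fraction field is a finite A-module (A is N-1), and some
nonempty open subset of Spec A consists of points whose local ring is regular. (The published
statement is for any Noetherian integral scheme; it is stated here for an affine one.) -/
theorem result (A : Type u) [CommRing A] [IsDomain A] [IsNoetherianRing A]
    (X : Scheme.{u}) (f : X ⟶ Spec (CommRingCat.of A)) (hf : Curv2.IsAlteration f)
    (hreg : ∀ x : X, IsRegularLocalRing (X.presheaf.stalk x)) :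
    CAlg.IsN1 A ∧ ∃ U : (Spec (CommRingCat.of A)).Opens, (U : Set (Spec (CommRingCat.of A))).Nonempty ∧
      ∀ y ∈ U, IsRegularLocalRing ((Spec (CommRingCat.of A)).presheaf.stalk y) := by
  classical
  obtain ⟨hp, hi, -, hd, -⟩ := hf
  haveI := hp; haveI := hi; haveI := hd
  have hnorm : Pi1.IsNormalScheme X := Agent.Models7.isNormalScheme_of_regular hreg
  haveI : Surjective f := ⟨fun y => by
    have h : Set.range f.base = Set.univ := by
      rw [← f.denseRange.closure_range, (f.isClosedMap.isClosed_range).closure_eq]
    exact h.ge (Set.mem_univ y)⟩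
  constructor
  · let η := genericPoint X
    let φ : A →+* X.functionField := (X.presheaf.germ ⊤ η trivial).hom.comp (Coh.toGlobal f)
    have hφ : Function.Injective φ := by
      rw [injective_iff_map_eq_zero]
      intro a ha
      by_contra ha0
      obtain ⟨p, hp⟩ : ∃ p : PrimeSpectrum A, a ∉ p.asIdeal := ⟨⟨⊥, Ideal.isPrime_bot⟩, ha0⟩
      obtain ⟨x, hx⟩ := f.surjective p
      have h0 : Coh.toGlobal f a = 0 := germ_injective_of_isIntegral X η (U := ⊤) trivial (ha.trans (map_zero _).symm)
      have hxa : x ∈ f ⁻¹ᵁ PrimeSpectrum.basicOpen a := by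
        show f x ∈ PrimeSpectrum.basicOpen a
        rw [hx]; exact hp
      rw [show f ⁻¹ᵁ PrimeSpectrum.basicOpen a = X.basicOpen (Coh.toGlobal f a) by
        rw [← basicOpen_eq_of_affine (R := CommRingCat.of A) a, Scheme.preimage_basicOpen]; rfl, h0] at hxa
      erw [Scheme.basicOpen_zero] at hxa
      exact hxa
    letI : Algebra A X.functionField := φ.toAlgebra
    haveI : FaithfulSMul A X.functionField := (faithfulSMul_iff_algebraMap_injective A _).2 hφ
    let ι : FractionRing A →+* X.functionField := IsFractionRing.lift hφ
    let ι' : FractionRing A →ₐ[A] X.functionField := { ι with commutes' := IsFractionRing.lift_algebraMap hφ }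
    haveI : Module.Finite A (Agent.Coherent.GA (Coh.toGlobal f) (Coh.structureModule X)) := by
      haveI : IsLocallyNoetherian X := LocallyOfFiniteType.isLocallyNoetherian f
      haveI := Agent.Coherent.finCoh_of_isProper f (Coh.structureModule X) (Agent.Coherent.isCoh_structureModule X) 0
      exact Module.Finite.equiv (Agent.Coherent.secA (Coh.toGlobal f) (Coh.structureModule X))
    let g : Agent.Coherent.GA (Coh.toGlobal f) (Coh.structureModule X) →ₗ[A] X.functionField :=
      { toFun := fun s => (X.presheaf.germ ⊤ η trivial).hom (show Γ(X, ⊤) from s)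
        map_add' := fun s t => map_add (X.presheaf.germ ⊤ η trivial).hom _ _
        map_smul' := fun a s => by
          show (X.presheaf.germ ⊤ η trivial).hom ((show Γ(X, ⊤) from Coh.toGlobal f a) * (show Γ(X, ⊤) from s)) = φ a * _
          rw [map_mul]; rfl }
    haveI : Module.Finite A (LinearMap.range g) := Module.Finite.range g
    haveI : IsNoetherian A (LinearMap.range g) := isNoetherian_of_isNoetherianRing_of_finite A _
    have hmem : ∀ z : integralClosure A (FractionRing A), ι' z.1 ∈ LinearMap.range g := fun z => by
      have hz : _root_.IsIntegral A (ι' z.1) := z.2.map ι'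
      obtain ⟨s, hs⟩ := Agent.H8Lim.mem_range_germ_of_local (X := X) (O := ⊤) trivial (ι' z.1) fun x _ => by
        haveI := (hnorm x).1
        haveI := (hnorm x).2
        letI : Algebra A (X.presheaf.stalk x) := ((X.presheaf.germ ⊤ x trivial).hom.comp (Coh.toGlobal f)).toAlgebra
        haveI : IsScalarTower A (X.presheaf.stalk x) X.functionField := IsScalarTower.of_algebraMap_eq fun a =>
          (TopCat.Presheaf.germ_stalkSpecializes_apply X.presheaf (U := ⊤) (y := x) trivial
            ((genericPoint_spec X).specializes trivial) (Coh.toGlobal f a)).symm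
        obtain ⟨t, ht⟩ := IsIntegrallyClosed.isIntegral_iff.1 (hz.tower_top (A := X.presheaf.stalk x))
        obtain ⟨W, hW, s, rfl⟩ := X.presheaf.germ_exist t
        refine ⟨W, ((genericPoint_spec X).specializes trivial).mem_open W.2 hW, le_top, hW, s, ?_⟩
        rw [← ht]
        exact (TopCat.Presheaf.germ_stalkSpecializes_apply X.presheaf hW
          ((genericPoint_spec X).specializes trivial) s).symm
      exact ⟨s, hs⟩
    exact Module.Finite.of_injective ((ι'.toLinearMap.comp (integralClosure A (FractionRing A)).val.toLinearMap).codRestrict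
      (LinearMap.range g) hmem) fun z w h => Subtype.ext (ι'.toRingHom.injective (congrArg Subtype.val h))
  · haveI : IsReduced (Spec (CommRingCat.of A)) := inferInstance
    obtain ⟨U, hU, hflat, -⟩ := Agent.FlatMorGeneric.exists_dense_flat_lfp (f := f)
    haveI := hflat
    haveI : Surjective (f ∣_ U) := IsZariskiLocalAtTarget.restrict ‹Surjective f› U
    refine ⟨U, hU.nonempty, fun y hy => ?_⟩
    have h := Agent.AlgSpLib.regular_stalks_of_flat_surjective (f ∣_ U) (fun x => by
      haveI := hreg ((f ⁻¹ᵁ U).ι x)
      exact IsRegularLocalRing.of_ringEquiv (asIso ((f ⁻¹ᵁ U).ι.stalkMap x)).commRingCatIsoToRingEquiv) ⟨y, hy⟩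
    haveI := h
    exact IsRegularLocalRing.of_ringEquiv (asIso (U.ι.stalkMap ⟨y, hy⟩)).commRingCatIsoToRingEquiv.symm

end Groth.Agent.S1600
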