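import Groth.Statements.S16002
import Groth.Agent.VB5.Higgs
import Groth.Agent.SGA3cLib.CentralDescent
import Groth.Agent.AbVarLib.GeomIntegralSmooth

set_option autoImplicit false
set_option linter.all false
open CategoryTheory AlgebraicGeometry CategoryTheory.Limits
open VBCurve

namespace Groth.Agent.S16002

/-- Let X be a smooth proper integral curve over the complex numbers and (L_i)_{i ∈ ι} a family of
invertible O_X-modules. A tuple is a finite locally free O_X-module E of rank r ≥ 1 with maps φ_i :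
E → E ⊗ L_i; a submodule j : G → E (a monomorphism) is invariant when for every i some χ : G → G ⊗
L_i followed by j ⊗ L_i equals j followed by φ_i; the tuple is semistable when deg G · r ≤ deg E · n
for every invariant finite locally free submodule G of rank n ≥ 1, degrees being χ − rank · χ(O_X).
If (E, φ) and (F, ψ) are semistable tuples of ranks r ≥ 1 and s ≥ 1 over the same family (L_i) and f
: E → F is a nonzero module map with f followed by ψ_i equal to φ_i followed by f ⊗ L_i for every i,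
then the slope of E is at most that of F: deg E · s ≤ deg F · r. (The published lemma has finitely
many pairwise commuting twisting maps and morphisms compatible up to one nonzero scalar; the
commutation is not used, the index set is arbitrary here, and the scalar case reduces to this one by
rescaling the ψ_i.) -/
theorem result
    (X : Scheme.{0}) [X.Over (Spec (CommRingCat.of ℂ))] [IsIntegral X]
    [IsProper (X ↘ Spec (CommRingCat.of ℂ))] [Smooth (X ↘ Spec (CommRingCat.of ℂ))]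
    (hdim : topologicalKrullDim X = 1)
    (ι : Type) (L : ι → X.Modules) (hL : ∀ i, PicF.IsInvertible (L i))
    (r s : ℕ) (hr : 0 < r) (hs : 0 < s)
    (E F : X.Modules) (hE : FlatMod.IsFinLocFreeOfRank r E) (hF : FlatMod.IsFinLocFreeOfRank s F)
    (φ : ∀ i, E ⟶ CohB1.tensorMod E (L i)) (ψ : ∀ i, F ⟶ CohB1.tensorMod F (L i))
    (hEss : (∀ (G : X.Modules) (n : ℕ) (j : G ⟶ E), Mono j → 0 < n → FlatMod.IsFinLocFreeOfRank n G →
      (∀ i, ∃ χ : G ⟶ CohB1.tensorMod G (L i), χ ≫ (CohB1.sheafifyMod X).map (MonoidalCategoryStruct.whiskerRight (C := CohB1.PMod X) j.val (CohB1.toPMod (L i))) = j ≫ φ i) →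
      Curv2.deg ℂ X G n * (r : ℤ) ≤ Curv2.deg ℂ X E r * (n : ℤ)))
    (hFss : (∀ (G : X.Modules) (n : ℕ) (j : G ⟶ F), Mono j → 0 < n → FlatMod.IsFinLocFreeOfRank n G →
      (∀ i, ∃ χ : G ⟶ CohB1.tensorMod G (L i), χ ≫ (CohB1.sheafifyMod X).map (MonoidalCategoryStruct.whiskerRight (C := CohB1.PMod X) j.val (CohB1.toPMod (L i))) = j ≫ ψ i) →
      Curv2.deg ℂ X G n * (s : ℤ) ≤ Curv2.deg ℂ X F s * (n : ℤ)))
    (f : E ⟶ F) (hf : ∀ i, f ≫ ψ i = φ i ≫ (CohB1.sheafifyMod X).map (MonoidalCategoryStruct.whiskerRight (C := CohB1.PMod X) f.val (CohB1.toPMod (L i)))) (hne : f ≠ 0) :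
    Curv2.deg ℂ X E r * (s : ℤ) ≤ Curv2.deg ℂ X F s * (r : ℤ) := by
  haveI : GeometricallyConnected (X ↘ Spec (CommRingCat.of ℂ)) :=
    SGA3cLib.CentralDescent.geometricallyConnected_of_isAlgClosed _
  haveI : GeometricallyIntegral (X ↘ Spec (CommRingCat.of ℂ)) := AbVarLib.geometricallyIntegral_of_smooth _
  haveI := CurveRR24.isLocallyNoetherian_of_proper ℂ (X := X)
  have hn := VB5.isIntegrallyClosed_stalk ℂ (X := X)
  obtain ⟨I, p, j, hp, hj, hpj, hI, hI0⟩ := VB5.exists_image ℂ hdim hn hE hF f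
  haveI := hp; haveI := hj
  have hc : (0 : ℤ) < (VB5.grk I : ℤ) := by exact_mod_cast hI0 hne
  have hEc := SplitP1.isCoh_of_rank hE
  have hK := Coherent.isCoh_kernel p hEc hI.1
  have h1 : VB5.gdeg ℂ (kernel p) * (r : ℤ) ≤ VB5.gdeg ℂ E * (VB5.grk (kernel p) : ℤ) := by
    rcases Nat.eq_zero_or_pos (VB5.grk (kernel p)) with h0 | hpos
    · rw [(VB5.zero_rank_sub ℂ hdim hn hE (kernel.ι p) hK h0).2, h0]; simp
    · have hKf := (VB5.sub_bundle hdim.le hn hE (kernel.ι p) hK).2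
      have := hEss _ _ (kernel.ι p) inferInstance hpos hKf fun i =>
        (let ⟨χ, hχ⟩ := (VB5.inv_image (hL i) (φ i) (ψ i) f (VB5.to_tens' (hf i)) p j hpj).1; ⟨χ, VB5.of_tens hχ⟩)
      rwa [VB5.deg_eq_gdeg ℂ hKf, VB5.deg_eq_gdeg ℂ hE] at this
  obtain ⟨-, hIf⟩ := VB5.sub_bundle hdim.le hn hF j hI
  have h2 := hFss I _ j hj (hI0 hne) hIf fun i => (let ⟨χ, hχ⟩ := (VB5.inv_image (hL i) (φ i) (ψ i) f (VB5.to_tens' (hf i)) p j hpj).2; ⟨χ, VB5.of_tens hχ⟩)
  rw [VB5.deg_eq_gdeg ℂ hIf, VB5.deg_eq_gdeg ℂ hF] at h2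
  rw [VB5.deg_eq_gdeg ℂ hE, VB5.deg_eq_gdeg ℂ hF]
  have hd := VB5.gdeg_additive ℂ (EulerLib.shortExact_kernel p) hK hEc hI
  have hr' := VB5.grk_additive (EulerLib.shortExact_kernel p) hEc
  change VB5.gdeg ℂ E = VB5.gdeg ℂ (kernel p) + VB5.gdeg ℂ I at hd
  change VB5.grk E = VB5.grk (kernel p) + VB5.grk I at hr'
  rw [VB5.grk_eq hE] at hr'
  have hr'' : (r : ℤ) = (VB5.grk (kernel p) : ℤ) + (VB5.grk I : ℤ) := by exact_mod_cast hr'
  have hq : VB5.gdeg ℂ E * (VB5.grk I : ℤ) ≤ VB5.gdeg ℂ I * (r : ℤ) := by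
    rw [hd, hr''] at h1 ⊢
    linarith
  refine le_of_mul_le_mul_right ?_ hc
  nlinarith [mul_le_mul_of_nonneg_right hq (Int.natCast_nonneg s), mul_le_mul_of_nonneg_right h2 (Int.natCast_nonneg r)]

end Groth.Agent.S16002
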