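import Groth.Statements.S16003
import Groth.Agent.VB5.Higgs
import Groth.Agent.SGA3cLib.CentralDescent
import Groth.Agent.AbVarLib.GeomIntegralSmooth

set_option autoImplicit false
set_option linter.all false
open CategoryTheory AlgebraicGeometry CategoryTheory.Limits
open VBCurve

namespace Groth.Agent.S16003

/-- Let X be a smooth proper integral curve over the complex numbers and L an invertible O_X-module; an
L-valued pair is a finite locally free O_X-module E of rank r ≥ 1 with a map φ : E → E ⊗ L; a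
submodule j : G → E (a monomorphism) is φ-invariant when some χ : G → G ⊗ L followed by j ⊗ L equals
j followed by φ; the pair is semistable when deg G · r ≤ deg E · n for every φ-invariant finite
locally free submodule G of rank n ≥ 1, degrees being χ − rank · χ(O_X). If (E, φ) is a semistable
pair and φ is not zero, then L has non-negative degree. (The published statement is for tuples of
finitely many commuting twisting maps; this is the assertion for the one map φ.) -/
theorem result
    (X : Scheme.{0}) [X.Over (Spec (CommRingCat.of ℂ))] [IsIntegral X]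
    [IsProper (X ↘ Spec (CommRingCat.of ℂ))] [Smooth (X ↘ Spec (CommRingCat.of ℂ))]
    (hdim : topologicalKrullDim X = 1)
    (L : X.Modules) (hL : PicF.IsInvertible L)
    (r : ℕ) (hr : 0 < r) (E : X.Modules) (hE : FlatMod.IsFinLocFreeOfRank r E)
    (φ : E ⟶ CohB1.tensorMod E L)
    (hss : (∀ (G : X.Modules) (n : ℕ) (j : G ⟶ E) (χ : G ⟶ CohB1.tensorMod G L), Mono j → 0 < n →
      FlatMod.IsFinLocFreeOfRank n G →
      χ ≫ (CohB1.sheafifyMod X).map (MonoidalCategoryStruct.whiskerRight (C := CohB1.PMod X) j.val (CohB1.toPMod L)) = j ≫ φ →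
      Curv2.deg ℂ X G n * (r : ℤ) ≤ Curv2.deg ℂ X E r * (n : ℤ)))
    (hφ : φ ≠ 0) :
    0 ≤ Curv2.deg ℂ X L 1 := by
  haveI : GeometricallyConnected (X ↘ Spec (CommRingCat.of ℂ)) :=
    SGA3cLib.CentralDescent.geometricallyConnected_of_isAlgClosed _
  haveI : GeometricallyIntegral (X ↘ Spec (CommRingCat.of ℂ)) := AbVarLib.geometricallyIntegral_of_smooth _
  haveI := CurveRR24.isLocallyNoetherian_of_proper ℂ (X := X)
  have hn := VB5.isIntegrallyClosed_stalk ℂ (X := X)
  by_contra hneg
  rw [not_le, VB5.deg_eq_gdeg ℂ (PicLib.isFinLocFreeOfRank_one hL)] at hneg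
  have hss' : VB5.SSH ℂ φ := (VB5.ssh_iff ℂ hdim hn hE φ).2 fun G n j hj hn' hG hinv => by
    obtain ⟨χ, hχ⟩ := hinv
    exact hss G n j χ hj hn' hG (VB5.of_tens hχ)
  have hEss := VB5.ss_of_ssh hL ℂ hdim hn hr hE φ hss' hneg.le
  have hEL := Clifford24.isFinLocFreeOfRank_tensorMod hE hL
  have hELss := hEss.twist ℂ hdim hn hE hL
  obtain ⟨I, p, j, hp, hj, -, hI, hI0⟩ := VB5.exists_image ℂ hdim hn hE hEL φ
  have hc : (0 : ℤ) < (VB5.grk I : ℤ) := by exact_mod_cast hI0 hφ
  have h1 := hEss.quot ℂ (SplitP1.isCoh_of_rank hE) p hI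
  have h2 := hELss I j hj hI
  rw [VB5.grk_eq hE] at h1
  rw [VB5.grk_eq hEL, VB5.gdeg_twist ℂ hdim hn hL r hE] at h2
  have h3 : (r : ℤ) * VB5.gdeg ℂ L * (VB5.grk I : ℤ) < 0 :=
    mul_neg_of_neg_of_pos (mul_neg_of_pos_of_neg (by exact_mod_cast hr) hneg) hc
  linarith

end Groth.Agent.S16003
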