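import Groth.Statements.S16005
import Groth.Agent.VB5.Higgs
import Groth.Agent.SGA3cLib.CentralDescent
import Groth.Agent.AbVarLib.GeomIntegralSmooth

set_option autoImplicit false
set_option linter.all false
open CategoryTheory AlgebraicGeometry CategoryTheory.Limits
open VBCurve

namespace Groth.Agent.S16005

/-- Let X be a smooth proper integral curve over the complex numbers and L an invertible O_X-module; an
L-valued pair is a finite locally free O_X-module E of rank r ≥ 1 with a map φ : E → E ⊗ L; a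
submodule j : G → E (a monomorphism) is φ-invariant when some χ : G → G ⊗ L followed by j ⊗ L equals
j followed by φ; the pair is semistable when deg G · r ≤ deg E · n for every φ-invariant finite
locally free submodule G of rank n ≥ 1, degrees being χ − rank · χ(O_X). Let (E, φ) be a pair and ψ
: E → E an endomorphism commuting with φ (ψ followed by φ equals φ followed by ψ ⊗ L); a submodule
is ψ-invariant when ψ restricts to an endomorphism of it. Then (E, φ, ψ) is semistable, meaning deg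
G · r ≤ deg E · n for every finite locally free submodule G of rank n ≥ 1 that is both φ-invariant
and ψ-invariant, if and only if the pair (E, φ) is semistable. (The published statement takes L to
be the canonical sheaf; the row allows any invertible L.) -/
theorem result
    (X : Scheme.{0}) [X.Over (Spec (CommRingCat.of ℂ))] [IsIntegral X]
    [IsProper (X ↘ Spec (CommRingCat.of ℂ))] [Smooth (X ↘ Spec (CommRingCat.of ℂ))]
    (hdim : topologicalKrullDim X = 1)
    (L : X.Modules) (hL : PicF.IsInvertible L)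
    (r : ℕ) (hr : 0 < r) (E : X.Modules) (hE : FlatMod.IsFinLocFreeOfRank r E)
    (φ : E ⟶ CohB1.tensorMod E L) (ψ : E ⟶ E)
    (hcomm : ψ ≫ φ = φ ≫ (CohB1.sheafifyMod X).map (MonoidalCategoryStruct.whiskerRight (C := CohB1.PMod X) ψ.val (CohB1.toPMod L))) :
    (∀ (G : X.Modules) (n : ℕ) (j : G ⟶ E) (χ : G ⟶ CohB1.tensorMod G L) (ψ' : G ⟶ G), Mono j → 0 < n →
      FlatMod.IsFinLocFreeOfRank n G →
      χ ≫ (CohB1.sheafifyMod X).map (MonoidalCategoryStruct.whiskerRight (C := CohB1.PMod X) j.val (CohB1.toPMod L)) = j ≫ φ → ψ' ≫ j = j ≫ ψ →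
      Curv2.deg ℂ X G n * (r : ℤ) ≤ Curv2.deg ℂ X E r * (n : ℤ)) ↔
    (∀ (G : X.Modules) (n : ℕ) (j : G ⟶ E) (χ : G ⟶ CohB1.tensorMod G L), Mono j → 0 < n →
      FlatMod.IsFinLocFreeOfRank n G →
      χ ≫ (CohB1.sheafifyMod X).map (MonoidalCategoryStruct.whiskerRight (C := CohB1.PMod X) j.val (CohB1.toPMod L)) = j ≫ φ →
      Curv2.deg ℂ X G n * (r : ℤ) ≤ Curv2.deg ℂ X E r * (n : ℤ)) := by
  haveI : GeometricallyConnected (X ↘ Spec (CommRingCat.of ℂ)) :=
    SGA3cLib.CentralDescent.geometricallyConnected_of_isAlgClosed _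
  haveI : GeometricallyIntegral (X ↘ Spec (CommRingCat.of ℂ)) := AbVarLib.geometricallyIntegral_of_smooth _
  haveI := CurveRR24.isLocallyNoetherian_of_proper ℂ (X := X)
  have hn := VB5.isIntegrallyClosed_stalk ℂ (X := X)
  refine ⟨fun h => ?_, fun h G n j χ ψ' hj hn' hG hχ _ => h G n j χ hj hn' hG hχ⟩
  suffices hss : VB5.SSH ℂ φ from
    fun G n j χ hj hn' hG hχ => (VB5.ssh_iff ℂ hdim hn hE φ).1 hss G n j hj hn' hG ⟨χ, VB5.to_tens hχ⟩
  have hid : VB5.Inv φ (𝟙 E) := ⟨φ, by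
    rw [Category.id_comp, show VB5.tens (𝟙 E) L = 𝟙 _ from AmpleLib.hom_ext fun U a b => by
      rw [AmpleLib.tensorMap_tmul]; rfl, Category.comp_id]⟩
  obtain ⟨E₁, i, hi, hE₁c, hinv, hpos, hE₁, hmax⟩ :=
    VB5.exists_max_sub ℂ hdim hn hr hE (fun _ j => VB5.Inv φ j) hid
  haveI := hi
  haveI := EulerLib.isNoetherian_of_proper ℂ (X := X)
  have hEc := SplitP1.isCoh_of_rank hE
  have hr1 : (0 : ℤ) < (VB5.grk E₁ : ℤ) := by exact_mod_cast hpos
  suffices hz : i ≫ ψ ≫ cokernel.π i = 0 by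
    have hS := EulerLib.shortExact_cokernel i
    let ψ' : E₁ ⟶ E₁ := hS.fIsKernel.lift (KernelFork.ofι (i ≫ ψ) (by rw [Category.assoc]; exact hz))
    have hψ' : ψ' ≫ i = i ≫ ψ := hS.fIsKernel.fac (KernelFork.ofι (i ≫ ψ) _) WalkingParallelPair.zero
    obtain ⟨χ, hχ⟩ := hinv
    have h1 := h E₁ _ i χ ψ' hi hpos hE₁ (VB5.of_tens hχ) hψ'
    rw [VB5.deg_eq_gdeg ℂ hE₁, VB5.deg_eq_gdeg ℂ hE] at h1
    intro G j hj hG hGi
    rw [VB5.grk_eq hE]
    refine le_of_mul_le_mul_right ?_ hr1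
    nlinarith [mul_le_mul_of_nonneg_right (hmax G j hj hG hGi).1 (Int.natCast_nonneg r),
      mul_le_mul_of_nonneg_right h1 (Int.natCast_nonneg (VB5.grk G))]
  obtain ⟨χ, hχ⟩ := hinv
  have hS := EulerLib.shortExact_cokernel i
  obtain ⟨φ', hφ'⟩ : ∃ φ' : cokernel i ⟶ CohB1.tensorMod (cokernel i) L,
      cokernel.π i ≫ φ' = φ ≫ VB5.tens (cokernel.π i) L := VB5.exists_quot_field hL hS φ ⟨χ, hχ⟩
  let f := i ≫ ψ ≫ cokernel.π i
  have hQ := Coherent.isCoh_cokernel i hE₁c.1 hEc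
  have hK := Coherent.isCoh_kernel f hE₁c hQ.1
  have hI : Coh.IsCoh (Abelian.coimage f) := Coherent.isCoh_cokernel (kernel.ι f) hK.1 hE₁c
  let p := Abelian.coimage.π f
  let j := Abelian.factorThruCoimage f
  haveI : Mono j := inferInstanceAs (Mono (Abelian.factorThruCoimage f))
  haveI : Epi p := inferInstanceAs (Epi (Abelian.coimage.π f))
  have hcomm' : ψ ≫ φ = φ ≫ VB5.tens ψ L := VB5.to_tens' hcomm
  have hf : f ≫ φ' = χ ≫ VB5.tens f L := by
    simp only [f, VB5.tens_comp, Category.assoc]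
    rw [hφ', ← Category.assoc ψ, hcomm', ← Category.assoc χ, hχ, Category.assoc, Category.assoc]
  obtain ⟨hKi, hIi⟩ := VB5.inv_image hL χ φ' f hf p j (Abelian.coimage.fac f)
  have hKp := Coherent.isCoh_kernel p hE₁c hI.1
  have h1 := (hmax (kernel p) (kernel.ι p ≫ i) (mono_comp _ _) hKp (VB5.inv_comp hL i hχ _ hKi)).1
  have hP := VB5.inv_preimage hL hS φ φ' hφ' j hIi
  let π := cokernel.π i ≫ cokernel.π j
  haveI : Epi π := epi_comp _ _
  have hC := Coherent.isCoh_cokernel j hI.1 hQ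
  have hPc := Coherent.isCoh_kernel π hEc hC.1
  obtain ⟨h2, h3⟩ := hmax (kernel π) (kernel.ι π) inferInstance hPc hP
  have r1 := VB5.grk_additive hS hEc
  have r2 := VB5.grk_additive (EulerLib.shortExact_cokernel j) hQ
  have r3 := VB5.grk_additive (EulerLib.shortExact_kernel π) hEc
  have r4 := VB5.grk_additive (EulerLib.shortExact_kernel p) hE₁c
  have d1 := VB5.gdeg_additive ℂ hS hE₁c hEc hQ
  have d2 := VB5.gdeg_additive ℂ (EulerLib.shortExact_cokernel j) hI hQ hC
  have d3 := VB5.gdeg_additive ℂ (EulerLib.shortExact_kernel π) hPc hEc hC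
  have d4 := VB5.gdeg_additive ℂ (EulerLib.shortExact_kernel p) hKp hE₁c hI
  change VB5.grk E = VB5.grk E₁ + VB5.grk (cokernel i) at r1
  change VB5.grk (cokernel i) = VB5.grk (Abelian.coimage f) + VB5.grk (cokernel j) at r2
  change VB5.grk E = VB5.grk (kernel π) + VB5.grk (cokernel j) at r3
  change VB5.grk E₁ = VB5.grk (kernel p) + VB5.grk (Abelian.coimage f) at r4
  change VB5.gdeg ℂ E = VB5.gdeg ℂ E₁ + VB5.gdeg ℂ (cokernel i) at d1
  change VB5.gdeg ℂ (cokernel i) = VB5.gdeg ℂ (Abelian.coimage f) + VB5.gdeg ℂ (cokernel j) at d2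
  change VB5.gdeg ℂ E = VB5.gdeg ℂ (kernel π) + VB5.gdeg ℂ (cokernel j) at d3
  change VB5.gdeg ℂ E₁ = VB5.gdeg ℂ (kernel p) + VB5.gdeg ℂ (Abelian.coimage f) at d4
  rw [show VB5.gdeg ℂ (kernel π) = VB5.gdeg ℂ E₁ + VB5.gdeg ℂ (Abelian.coimage f) by omega,
    show VB5.grk (kernel π) = VB5.grk E₁ + VB5.grk (Abelian.coimage f) by omega] at h2 h3
  have r4' : (VB5.grk E₁ : ℤ) = (VB5.grk (kernel p) : ℤ) + (VB5.grk (Abelian.coimage f) : ℤ) := by exact_mod_cast r4
  have heq : VB5.gdeg ℂ (Abelian.coimage f) * (VB5.grk E₁ : ℤ) =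
      VB5.gdeg ℂ E₁ * (VB5.grk (Abelian.coimage f) : ℤ) := by
    push_cast at h2
    have a : VB5.gdeg ℂ (kernel p) = VB5.gdeg ℂ E₁ - VB5.gdeg ℂ (Abelian.coimage f) := by omega
    rw [a, show (VB5.grk (kernel p) : ℤ) = (VB5.grk E₁ : ℤ) - (VB5.grk (Abelian.coimage f) : ℤ) by omega] at h1
    linarith
  have hc0 : VB5.grk (Abelian.coimage f) = 0 := by
    by_contra hc
    have := h3 (by omega) (by push_cast; linear_combination heq)
    omega
  rw [hc0, Nat.cast_zero, mul_zero] at heq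
  have hz := (VB5.torsion_deg ℂ hdim hI hc0).2 ((mul_eq_zero.1 heq).resolve_right hr1.ne')
  show f = 0
  rw [← Abelian.coimage.fac f, hz.eq_of_tgt (Abelian.coimage.π f) 0, zero_comp]

end Groth.Agent.S16005
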