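import Groth.Statements.S16006
import Groth.Agent.VB5.RankTwo
import Groth.Agent.VB5.Higgs
import Groth.Agent.SGA3cLib.CentralDescent
import Groth.Agent.AbVarLib.GeomIntegralSmooth

set_option autoImplicit false
set_option linter.all false
open CategoryTheory AlgebraicGeometry CategoryTheory.Limits
open VBCurve

namespace Groth.Agent.S16006

/-- Let X be a smooth proper integral curve of genus 1 over the complex numbers (genus = dim H¹(O_X))
and L an invertible O_X-module of degree 0 such that L ⊗ L is not isomorphic to O_X; an L-valued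
pair is a finite locally free O_X-module E of rank r ≥ 1 with a map φ : E → E ⊗ L; a submodule j : G
→ E (a monomorphism) is φ-invariant when some χ : G → G ⊗ L followed by j ⊗ L equals j followed by
φ; the pair is semistable when deg G · r ≤ deg E · n for every φ-invariant finite locally free
submodule G of rank n ≥ 1, degrees being χ − rank · χ(O_X), and it is stable when deg G · r < deg E
· n for every φ-invariant finite locally free submodule G of rank n with 1 ≤ n < r. If (E, φ) is a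
stable pair of rank 2, then E is slope-stable as a module of rank 2: deg G · 2 < deg E · n for every
finite locally free submodule G of rank n with 1 ≤ n < 2, φ-invariant or not. (The published
statement assumes only that L is not isomorphic to O_X. For L of order two and E = O_X ⊕ L, the
isomorphism φ : E → E ⊗ L = (O_X ⊗ L) ⊕ (L ⊗ L) that maps the summand O_X of E onto the summand L ⊗
L ≅ O_X and the summand L onto O_X ⊗ L ≅ L leaves no rank-one submodule of degree 0 invariant, so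
(E, φ) is a stable pair while E is not stable; the published argument derives L ⊗ L ≅ O_X in the
split case, so the row assumes L ⊗ L ≄ O_X.) -/
theorem result
    (X : Scheme.{0}) [X.Over (Spec (CommRingCat.of ℂ))] [IsIntegral X]
    [IsProper (X ↘ Spec (CommRingCat.of ℂ))] [Smooth (X ↘ Spec (CommRingCat.of ℂ))]
    (hdim : topologicalKrullDim X = 1)
    (hg : Curv2.genus ℂ X = 1)
    (L : X.Modules) (hL : PicF.IsInvertible L) (hL0 : Curv2.deg ℂ X L 1 = 0)
    (hL2 : ¬ Nonempty (CohB1.tensorMod L L ≅ Coh.structureModule X))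
    (E : X.Modules) (hE : FlatMod.IsFinLocFreeOfRank 2 E)
    (φ : E ⟶ CohB1.tensorMod E L)
    (hst : (∀ (G : X.Modules) (n : ℕ) (j : G ⟶ E) (χ : G ⟶ CohB1.tensorMod G L), Mono j → 0 < n → n < 2 →
      FlatMod.IsFinLocFreeOfRank n G →
      χ ≫ (CohB1.sheafifyMod X).map (MonoidalCategoryStruct.whiskerRight (C := CohB1.PMod X) j.val (CohB1.toPMod L)) = j ≫ φ →
      Curv2.deg ℂ X G n * (2 : ℤ) < Curv2.deg ℂ X E 2 * (n : ℤ))) :
    ∀ (G : X.Modules) (n : ℕ) (j : G ⟶ E), Mono j → 0 < n → n < 2 → FlatMod.IsFinLocFreeOfRank n G →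
      Curv2.deg ℂ X G n * (2 : ℤ) < Curv2.deg ℂ X E 2 * (n : ℤ) := by
  haveI : GeometricallyConnected (X ↘ Spec (CommRingCat.of ℂ)) :=
    SGA3cLib.CentralDescent.geometricallyConnected_of_isAlgClosed _
  haveI : GeometricallyIntegral (X ↘ Spec (CommRingCat.of ℂ)) := AbVarLib.geometricallyIntegral_of_smooth _
  haveI := CurveRR24.isLocallyNoetherian_of_proper ℂ (X := X)
  have hn := VB5.isIntegrallyClosed_stalk ℂ (X := X)
  have cancelIso : ∀ {Q A : X.Modules}, PicF.IsInvertible Q → PicF.IsInvertible A →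
      Nonempty (Q ≅ CohB1.tensorMod Q A) → Nonempty (A ≅ Coh.structureModule X) := by
    rintro Q A hQ hA ⟨i⟩
    obtain ⟨M, hM, ⟨e⟩⟩ := CurveRR24.exists_inverse ℂ hQ
    obtain ⟨as⟩ := EulerLib.exists_assocIso' M hQ hA
    exact ⟨(AmpleLib.unitTensorIso A).symm ≪≫
      AmpleLib.tensorIso ((AmpleLib.tensorComm M Q ≪≫ e).symm) (Iso.refl A) ≪≫ as ≪≫
      AmpleLib.tensorIso (Iso.refl M) i.symm ≪≫ AmpleLib.tensorComm M Q ≪≫ e⟩
  intro G n j hj h0 h2 hG
  obtain rfl : n = 1 := by omega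
  by_contra hlt
  rw [VB5.deg_eq_gdeg ℂ hG, VB5.deg_eq_gdeg ℂ hE] at hlt
  push_cast at hlt
  rw [VB5.deg_line ℂ hL] at hL0
  obtain ⟨L₀, i, hi, hL₀, hQ1, hmax⟩ := VB5.exists_max_line_sub ℂ hdim (by norm_num) hE
  have hQ : PicF.IsInvertible (cokernel i) := VB5.invertible_of_rank_one hQ1
  have hG1 := hmax G j (VB5.invertible_of_rank_one hG) (fun h => VB5.not_isZero_of_grk hG Nat.one_pos
    (by rw [h] at hj; exact IsZero.of_mono_zero G E))
  have hsplit := VB5.gdeg_split ℂ hdim hE i (VB5.isCoh_of_line hL₀)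
  have notInv : ∀ {A : X.Modules} (a : A ⟶ E), Mono a → PicF.IsInvertible A →
      VB5.gdeg ℂ E ≤ 2 * VB5.gdeg ℂ A → ¬ VB5.Inv φ a := by
    rintro A a ha hA hd ⟨χ, hχ⟩
    have := hst A 1 a χ ha Nat.one_pos (by norm_num) (PicLib.isFinLocFreeOfRank_one hA) (VB5.of_tens hχ)
    rw [VB5.deg_line ℂ hA, VB5.deg_eq_gdeg ℂ hE] at this
    push_cast at this
    omega
  have hS := EulerLib.shortExact_cokernel i
  have hu : i ≫ φ ≫ VB5.tens (cokernel.π i) L ≠ 0 := fun h =>
    notInv i hi hL₀ (by omega) (VB5.inv_of_zero hL hS φ h)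
  have hQL := AmpleLib.isInvertible_tensorMod hQ hL
  obtain ⟨hle, -, heq⟩ := VB5.line_map ℂ hdim hn hL₀ hQL _ hu
  rw [VB5.gdeg_tensor_line ℂ hdim hQ hL, hL0, add_zero] at hle heq
  have hdeq : VB5.gdeg ℂ L₀ = VB5.gdeg ℂ (cokernel i) := by omega
  haveI := heq hdeq
  let u := asIso (i ≫ φ ≫ VB5.tens (cokernel.π i) L)
  by_cases hsp : IsSplitEpi (cokernel.π i)
  · obtain ⟨⟨σ, hσ⟩⟩ := hsp.exists_splitEpi
    let s := ShortComplex.Splitting.ofExactOfSection _ hS.exact σ hσ hS.mono_f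
    let T := ShortComplex.mk s.s s.r s.s_r
    let sT : T.Splitting := { r := cokernel.π i, s := i, f_r := hσ, s_g := s.f_r, id := (add_comm _ _).trans s.id }
    have hT : T.ShortExact := sT.shortExact
    haveI := hT.mono_f
    have hv : s.s ≫ φ ≫ VB5.tens s.r L ≠ 0 := fun h =>
      notInv s.s hT.mono_f hQ (show VB5.gdeg ℂ E ≤ 2 * VB5.gdeg ℂ (cokernel i) by omega) (VB5.inv_of_zero hL hT φ h)
    have hLL := AmpleLib.isInvertible_tensorMod hL₀ hL
    obtain ⟨-, -, heq'⟩ := VB5.line_map ℂ hdim hn (A := cokernel i) hQ hLL _ hv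
    haveI := heq' (by rw [VB5.gdeg_tensor_line ℂ hdim hL₀ hL, hL0, add_zero]; omega)
    obtain ⟨as⟩ := EulerLib.exists_assocIso' (cokernel i) hL hL
    exact hL2 (cancelIso hQ (AmpleLib.isInvertible_tensorMod hL hL)
      ⟨asIso (s.s ≫ φ ≫ VB5.tens s.r L) ≪≫ AmpleLib.tensorIso u (Iso.refl L) ≪≫ as⟩)
  · obtain ⟨-, heqΩ⟩ := VB5.gdeg_le_of_nonsplit ℂ hdim hS hL₀ hQ hsp
    obtain ⟨a⟩ := heqΩ (show VB5.gdeg ℂ L₀ = VB5.gdeg ℂ (cokernel i) + _ by rw [hg, hdeq]; norm_num)
    obtain ⟨o⟩ := VB5.nonempty_omega_iso ℂ hdim hg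
    obtain ⟨eL⟩ := cancelIso hQ hL ⟨(AmpleLib.unitTensorIso (cokernel i)).symm ≪≫ AmpleLib.tensorComm _ _ ≪≫
      AmpleLib.tensorIso (Iso.refl (cokernel i)) o ≪≫ a.symm ≪≫ u⟩
    exact hL2 ⟨AmpleLib.tensorIso eL eL ≪≫ AmpleLib.unitTensorIso _⟩

end Groth.Agent.S16006
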