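import Groth.Statements.S1601
import Mathlib

set_option linter.all false

set_option autoImplicit false
universe u
open Resolve

open MvPolynomial

namespace Groth.Agent.S1601

theorem natDegree_aeval_le {κ : Type*} [Field κ] {σ : Type*} (p : σ → Polynomial κ)
    (hp : ∀ a, (p a).natDegree ≤ 1) (q : MvPolynomial σ κ) :
    (aeval p q).natDegree ≤ q.totalDegree := by
  rw [aeval_def, eval₂_eq]
  refine Polynomial.natDegree_sum_le_of_forall_le _ _ fun d hd => ?_
  refine le_trans (le_trans Polynomial.natDegree_mul_le ?_) (le_totalDegree hd)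
  rw [Polynomial.algebraMap_eq, Polynomial.natDegree_C, zero_add]
  refine le_trans (Polynomial.natDegree_prod_le _ _) (Finset.sum_le_sum fun a _ => ?_)
  exact le_trans Polynomial.natDegree_pow_le (by have := hp a; nlinarith)

theorem lin_totalDegree_le {κ : Type*} [Field κ] (g h i : κ) :
    (C g + C h * X 0 + C i * X 1 : MvPolynomial (Fin 2) κ).totalDegree ≤ 1 := by
  refine (totalDegree_add _ _).trans (max_le ((totalDegree_add _ _).trans (max_le ?_ ?_)) ?_)
  · simp
  all_goals exact (totalDegree_mul _ _).trans (by simp)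

theorem exists_line {κ : Type*} [Field κ] (g h i : κ) (hne : h ≠ 0 ∨ i ≠ 0) :
    ∃ π : MvPolynomial (Fin 2) κ →ₐ[κ] Polynomial κ, Function.Surjective π ∧
      (∀ q, π q = 0 ↔ (C g + C h * X 0 + C i * X 1) ∣ q) ∧
      (∀ q, (π q).natDegree ≤ q.totalDegree) := by
  obtain ⟨p, o, hpo, hs⟩ : ∃ (p : Fin 2 → Polynomial κ) (o : Fin 2), p o = Polynomial.X ∧
      (aeval p (C g + C h * X 0 + C i * X 1 : MvPolynomial (Fin 2) κ) = 0 ∧ (∀ a, (p a).natDegree ≤ 1) ∧
        ∀ a, (C g + C h * X 0 + C i * X 1 : MvPolynomial (Fin 2) κ) ∣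
          (X a - Polynomial.aeval (X o : MvPolynomial (Fin 2) κ) (p a))) := by
    have haux : ∀ c r : κ, (Polynomial.C c + Polynomial.C r * Polynomial.X).natDegree ≤ 1 :=
      fun c r => by compute_degree
    rcases hne with hh | hi
    · refine ⟨![Polynomial.C (-g / h) + Polynomial.C (-i / h) * Polynomial.X, Polynomial.X], 1,
        rfl, ?_, ?_, ?_⟩
      · simp only [map_add, map_mul, aeval_C, aeval_X, Polynomial.algebraMap_eq,
          Matrix.cons_val_zero, Matrix.cons_val_one]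
        rw [mul_add, ← mul_assoc, ← Polynomial.C_mul, ← Polynomial.C_mul,
          mul_div_cancel₀ _ hh, mul_div_cancel₀ _ hh, Polynomial.C_neg, Polynomial.C_neg]
        ring
      · intro a; fin_cases a <;> [exact haux _ _; simp]
      · intro a; fin_cases a
        · refine ⟨C h⁻¹, ?_⟩
          have h1 : C h * C h⁻¹ = (1 : MvPolynomial (Fin 2) κ) := by
            rw [← map_mul, mul_inv_cancel₀ hh, map_one]
          simp only [div_eq_mul_inv, Fin.zero_eta, Matrix.cons_val_zero, map_add, map_mul, map_neg,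
            Polynomial.aeval_C, Polynomial.aeval_X, MvPolynomial.algebraMap_eq]
          linear_combination (-(X 0 : MvPolynomial (Fin 2) κ)) * h1
        · simp
    · refine ⟨![Polynomial.X, Polynomial.C (-g / i) + Polynomial.C (-h / i) * Polynomial.X], 0,
        rfl, ?_, ?_, ?_⟩
      · simp only [map_add, map_mul, aeval_C, aeval_X, Polynomial.algebraMap_eq,
          Matrix.cons_val_zero, Matrix.cons_val_one]
        rw [mul_add, ← mul_assoc, ← Polynomial.C_mul, ← Polynomial.C_mul,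
          mul_div_cancel₀ _ hi, mul_div_cancel₀ _ hi, Polynomial.C_neg, Polynomial.C_neg]
        ring
      · intro a; fin_cases a <;> [simp; exact haux _ _]
      · intro a; fin_cases a
        · simp
        · refine ⟨C i⁻¹, ?_⟩
          have h1 : C i * C i⁻¹ = (1 : MvPolynomial (Fin 2) κ) := by
            rw [← map_mul, mul_inv_cancel₀ hi, map_one]
          simp only [div_eq_mul_inv, Fin.mk_one, Matrix.cons_val_one, Matrix.cons_val_zero, map_add, map_mul, map_neg,
            Polynomial.aeval_C, Polynomial.aeval_X, MvPolynomial.algebraMap_eq]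
          linear_combination (-(X 1 : MvPolynomial (Fin 2) κ)) * h1
  obtain ⟨h0, hd, hdvd⟩ := hs
  refine ⟨aeval p, fun P => ⟨Polynomial.aeval (X o : MvPolynomial (Fin 2) κ) P, ?_⟩,
    fun q => ⟨fun hq => ?_, ?_⟩, natDegree_aeval_le p hd⟩
  · rw [← Polynomial.aeval_algHom_apply, aeval_X, hpo, Polynomial.aeval_X_left_apply]
  · let J := Ideal.span {(C g + C h * X 0 + C i * X 1 : MvPolynomial (Fin 2) κ)}
    have e : (Ideal.Quotient.mkₐ κ J).comp ((Polynomial.aeval (X o : MvPolynomial (Fin 2) κ)).comp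
        (aeval p)) = Ideal.Quotient.mkₐ κ J := algHom_ext fun a => by
      simp only [AlgHom.comp_apply, aeval_X, Ideal.Quotient.mkₐ_eq_mk]
      exact ((Ideal.Quotient.mk_eq_mk_iff_sub_mem _ _).mpr
        (Ideal.mem_span_singleton.mpr (hdvd a))).symm
    have := DFunLike.congr_fun e q
    simp only [AlgHom.comp_apply, hq, map_zero] at this
    exact Ideal.mem_span_singleton.mp (Ideal.Quotient.eq_zero_iff_mem.mp this.symm)
  · rintro ⟨r, rfl⟩; rw [map_mul, h0, zero_mul]

theorem mem_of_sq_mem_sq {R : Type*} [CommRing R] [IsDomain R] {P : Type*} [CommRing P] [IsDomain P]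
    [IsPrincipalIdealRing P] (π : R →+* P) (hπ : Function.Surjective π) (l : R) (hl : l ≠ 0)
    (hker : ∀ q, π q = 0 ↔ l ∣ q) (I : Ideal R) (h : l ^ 2 ∈ I ^ 2) : l ∈ I := by
  have hl0 : π l = 0 := (hker l).mpr dvd_rfl
  let J : Ideal R := Submodule.comap (LinearMap.mulLeft R l) I
  have hJ : ∀ j, j ∈ J ↔ l * j ∈ I := fun j => Iff.rfl
  obtain ⟨p, hp⟩ := (IsPrincipalIdealRing.principal (I.map π)).principal
  have hpm : p ∈ I.map π := by rw [hp]; exact Submodule.mem_span_singleton_self p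
  obtain ⟨g, hg, hgp⟩ := (Ideal.mem_map_iff_of_surjective π hπ).mp hpm
  have hI : I ≤ Ideal.span {g} ⊔ Ideal.span {l} * J := by
    intro x hx
    have : π x ∈ Ideal.span {p} := by
      rw [← Ideal.submodule_span_eq, ← hp]; exact Ideal.mem_map_of_mem π hx
    obtain ⟨t, ht⟩ := Ideal.mem_span_singleton.mp this
    obtain ⟨r, rfl⟩ := hπ t
    obtain ⟨j, hj⟩ := (hker (x - g * r)).mp (by rw [map_sub, map_mul, hgp, ← ht, sub_self])
    have hjJ : j ∈ J := by rw [hJ, ← hj]; exact I.sub_mem hx (I.mul_mem_right _ hg)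
    rw [Submodule.mem_sup]
    exact ⟨g * r, Ideal.mem_span_singleton.mpr ⟨r, rfl⟩, l * j,
      Ideal.mul_mem_mul (Ideal.mem_span_singleton_self l) hjJ, by rw [← hj]; ring⟩
  have h2 : l ^ 2 ∈ Ideal.span {g ^ 2} ⊔ Ideal.span {g} * (Ideal.span {l} * J) ⊔
      (Ideal.span {l} * J) ^ 2 := by
    have hle : I ^ 2 ≤ Ideal.span {g ^ 2} ⊔ Ideal.span {g} * (Ideal.span {l} * J) ⊔
        (Ideal.span {l} * J) ^ 2 := by
      refine (Ideal.pow_right_mono hI 2).trans ?_
      rw [sq, Ideal.sup_mul, Ideal.mul_sup, Ideal.mul_sup, Ideal.span_singleton_mul_span_singleton,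
        ← sq g, mul_comm (Ideal.span {l} * J) (Ideal.span {g}), ← sq (Ideal.span {l} * J)]
      refine sup_le (le_sup_of_le_left le_rfl) (sup_le (le_sup_of_le_left le_sup_right) le_sup_right)
    exact hle h
  obtain ⟨u, hu, w, hw, huw⟩ := Submodule.mem_sup.mp h2
  obtain ⟨u1, hu1, u2, hu2, rfl⟩ := Submodule.mem_sup.mp hu
  obtain ⟨r, rfl⟩ := Ideal.mem_span_singleton.mp hu1
  obtain ⟨lj, hlj, rfl⟩ := Ideal.mem_span_singleton_mul.mp hu2
  obtain ⟨j, hj, rfl⟩ := Ideal.mem_span_singleton_mul.mp hlj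
  rw [mul_pow, Ideal.span_singleton_pow, Ideal.mem_span_singleton_mul] at hw
  obtain ⟨j2, hj2, rfl⟩ := hw
  by_cases hp0 : p = 0
  · obtain ⟨g1, rfl⟩ := (hker g).mp (hgp.trans hp0)
    have hg1 : g1 ∈ J := hg
    have e : (1 : R) = g1 ^ 2 * r + g1 * j + j2 := by
      apply mul_left_cancel₀ (pow_ne_zero 2 hl)
      linear_combination -huw
    have h1 : (1 : R) ∈ J := e ▸ J.add_mem (J.add_mem (J.mul_mem_right _ (Ideal.pow_mem_of_mem J hg1 2 two_pos))
      (J.mul_mem_left _ hj)) (Ideal.pow_le_self two_ne_zero hj2)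
    simpa [hJ] using h1
  · have hr : π r = 0 := by
      have := congrArg π huw
      simp only [map_add, map_mul, map_pow, hl0, hgp, zero_mul, mul_zero, add_zero, ne_eq,
        OfNat.ofNat_ne_zero, not_false_eq_true, zero_pow] at this
      exact (mul_eq_zero.mp this).resolve_left (pow_ne_zero 2 hp0)
    obtain ⟨r1, rfl⟩ := (hker r).mp hr
    have e1 : l = g * (g * r1 + j) + l * j2 := by
      apply mul_left_cancel₀ hl
      linear_combination -huw
    have hr2 : π (g * r1 + j) = 0 := by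
      have := congrArg π e1
      rw [map_add, map_mul, map_mul π l, hl0, zero_mul, add_zero, hgp] at this
      exact (mul_eq_zero.mp this.symm).resolve_left hp0
    obtain ⟨r2, hr2⟩ := (hker _).mp hr2
    rw [e1, hr2]
    exact I.add_mem (I.mul_mem_right _ hg) ((hJ j2).mp (Ideal.pow_le_self two_ne_zero hj2))

theorem exists_lin_mem {κ : Type*} [Field κ] (K : Type*) [Field K] [Algebra κ K] [IsAlgClosed K]
    (I : Ideal (MvPolynomial (Fin 2) κ)) (a d f : κ) (hne : (a, d, f) ≠ (0, 0, 0))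
    (h2 : (2 : κ) = 0 ∨ (d = 0 ∧ f = 0))
    (hmem : (C a + C d * X 0 ^ 2 + C f * X 1 ^ 2 : MvPolynomial (Fin 2) κ) ∈ I ^ 2) :
    ∃ g h i : κ, (g, h, i) ≠ (0, 0, 0) ∧ C g + C h * X 0 + C i * X 1 ∈ I := by
  obtain ⟨α, hα⟩ := IsAlgClosed.exists_pow_nat_eq (algebraMap κ K a) two_pos
  obtain ⟨δ, hδ⟩ := IsAlgClosed.exists_pow_nat_eq (algebraMap κ K d) two_pos
  obtain ⟨ε, hε⟩ := IsAlgClosed.exists_pow_nat_eq (algebraMap κ K f) two_pos
  have hsq : map (algebraMap κ K) (C a + C d * X 0 ^ 2 + C f * X 1 ^ 2 : MvPolynomial (Fin 2) κ) =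
      (C α + C δ * X 0 + C ε * X 1) ^ 2 := by
    have hc : (2 : MvPolynomial (Fin 2) K) = 0 ∨ (δ = 0 ∧ ε = 0) := by
      rcases h2 with h | ⟨hd, hf⟩
      · left
        have := congrArg (C (σ := Fin 2)) (congrArg (algebraMap κ K) h)
        simpa only [map_ofNat, map_zero] using this
      · right; subst hd hf; exact ⟨by simpa using hδ, by simpa using hε⟩
    simp only [map_add, map_mul, map_pow, map_C, map_X, ← hα, ← hδ, ← hε]
    rcases hc with h | ⟨rfl, rfl⟩
    · linear_combination -((C α * C δ * X 0 + C α * C ε * X 1 + C δ * C ε * X 0 * X 1 : MvPolynomial (Fin 2) K)) * h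
    · simp
  let Ī := I.map (map (algebraMap κ K))
  have hĪ : (C α + C δ * X 0 + C ε * X 1 : MvPolynomial (Fin 2) K) ^ 2 ∈ Ī ^ 2 := by
    rw [← hsq, ← Ideal.map_pow]; exact Ideal.mem_map_of_mem _ hmem
  have hmemĪ : (C α + C δ * X 0 + C ε * X 1 : MvPolynomial (Fin 2) K) ∈ Ī := by
    by_cases hde : δ ≠ 0 ∨ ε ≠ 0
    · obtain ⟨π, hπ, hker, -⟩ := exists_line α δ ε hde
      refine mem_of_sq_mem_sq π.toRingHom hπ _ ?_ hker Ī hĪ
      intro h0
      obtain ⟨P, hP⟩ := hπ Polynomial.X
      have h5 : ∀ q, π q = 0 → q = 0 := fun q hq => by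
        have := (hker q).mp hq; rw [h0, zero_dvd_iff] at this; exact this
      rcases hde with h | h
      · exact h (by simpa [coeff_X', coeff_C, Finsupp.single_eq_single_iff, (Finsupp.single_ne_zero.mpr (one_ne_zero (α := ℕ))).symm] using congrArg (coeff (Finsupp.single 0 1)) h0)
      · exact h (by simpa [coeff_X', coeff_C, Finsupp.single_eq_single_iff, (Finsupp.single_ne_zero.mpr (one_ne_zero (α := ℕ))).symm] using congrArg (coeff (Finsupp.single 1 1)) h0)
    · push Not at hde
      obtain ⟨rfl, rfl⟩ := hde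
      simp only [map_zero, zero_mul, add_zero] at hĪ ⊢
      by_cases hα0 : α = 0
      · simp [hα0]
      · have hu : IsUnit (C α : MvPolynomial (Fin 2) K) := (IsUnit.mk0 α hα0).map C
        rw [Ideal.eq_top_of_isUnit_mem _ (Ideal.pow_le_self two_ne_zero hĪ) (hu.pow 2)]
        trivial
  obtain ⟨φ, hφ⟩ : ∃ φ : K →ₗ[κ] κ, (φ α, φ δ, φ ε) ≠ (0, 0, 0) := by
    by_contra hno
    push Not at hno
    simp only [Prod.mk.injEq] at hno
    have hα0 : α = 0 := (Module.forall_dual_apply_eq_zero_iff κ α).mp fun φ => (hno φ).1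
    have hδ0 : δ = 0 := (Module.forall_dual_apply_eq_zero_iff κ δ).mp fun φ => (hno φ).2.1
    have hε0 : ε = 0 := (Module.forall_dual_apply_eq_zero_iff κ ε).mp fun φ => (hno φ).2.2
    subst hα0 hδ0 hε0
    simp at hα hδ hε
    exact hne (by simp [(map_eq_zero _).mp hα.symm, (map_eq_zero _).mp hδ.symm, (map_eq_zero _).mp hε.symm])
  refine ⟨φ α, φ δ, φ ε, hφ, ?_⟩
  let Ψ : MvPolynomial (Fin 2) K → MvPolynomial (Fin 2) κ := fun q =>
    ∑ m ∈ q.support, monomial m (φ (coeff m q))
  have hΨ : ∀ q m, coeff m (Ψ q) = φ (coeff m q) := by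
    intro q m
    simp only [Ψ, coeff_sum, coeff_monomial, Finset.sum_ite_eq']
    split
    · rfl
    · next hm => rw [notMem_support_iff.mp hm, map_zero]
  have key : ∀ q ∈ Ī, ∀ c, Ψ (c * q) ∈ I := by
    intro q hq
    refine Submodule.span_induction ?_ ?_ ?_ ?_ hq
    · rintro _ ⟨g, hg, rfl⟩ c
      have : Ψ (c * map (algebraMap κ K) g) = Ψ c * g := by
        ext m
        simp only [hΨ, coeff_mul, coeff_map, map_sum]
        refine Finset.sum_congr rfl fun x _ => ?_
        rw [mul_comm, ← Algebra.smul_def, map_smul, smul_eq_mul, mul_comm]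
      rw [this]; exact I.mul_mem_left _ hg
    · intro c
      have : Ψ (c * 0) = 0 := by ext m; simp [hΨ]
      rw [this]; exact I.zero_mem
    · intro x y _ _ hx hy c
      have : Ψ (c * (x + y)) = Ψ (c * x) + Ψ (c * y) := by
        ext m; simp [hΨ, mul_add, coeff_add]
      rw [this]; exact I.add_mem (hx c) (hy c)
    · intro r x _ hx c
      rw [smul_eq_mul, ← mul_assoc]; exact hx _
  have h1 := key _ hmemĪ 1
  have e : Ψ (1 * (C α + C δ * X 0 + C ε * X 1)) = C (φ α) + C (φ δ) * X 0 + C (φ ε) * X 1 := by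
    ext m
    simp only [hΨ, one_mul, coeff_add, coeff_C, coeff_C_mul, coeff_X', map_add, apply_ite φ,
      mul_ite, mul_one, mul_zero, map_zero]
  rwa [e] at h1

/-- Let κ be a field and I an ideal of κ[x, y] whose colength is greater than one (the quotient is not
of dimension at most one over κ). If a nonzero polynomial a + bx + cy + dx^2 + exy + fy^2 lies in
I^2, then it equals j (g + hx + iy)^2 for some scalars j, g, h, i. -/
theorem result (κ : Type u) [Field κ] (I : Ideal (MvPolynomial (Fin 2) κ))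
    (hI : ¬ (Module.Finite κ (MvPolynomial (Fin 2) κ ⧸ I) ∧ Module.finrank κ (MvPolynomial (Fin 2) κ ⧸ I) ≤ 1))
    (a b c d e f : κ) (hne : (a, b, c, d, e, f) ≠ (0, 0, 0, 0, 0, 0))
    (hmem : (MvPolynomial.C a + MvPolynomial.C b * MvPolynomial.X 0 + MvPolynomial.C c * MvPolynomial.X 1 +
      MvPolynomial.C d * MvPolynomial.X 0 ^ 2 + MvPolynomial.C e * MvPolynomial.X 0 * MvPolynomial.X 1 +
      MvPolynomial.C f * MvPolynomial.X 1 ^ 2 : MvPolynomial (Fin 2) κ) ∈ I ^ 2) :
    ∃ j g h i : κ, (MvPolynomial.C a + MvPolynomial.C b * MvPolynomial.X 0 + MvPolynomial.C c * MvPolynomial.X 1 +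
      MvPolynomial.C d * MvPolynomial.X 0 ^ 2 + MvPolynomial.C e * MvPolynomial.X 0 * MvPolynomial.X 1 +
      MvPolynomial.C f * MvPolynomial.X 1 ^ 2 : MvPolynomial (Fin 2) κ) =
      MvPolynomial.C j * (MvPolynomial.C g + MvPolynomial.C h * MvPolynomial.X 0 + MvPolynomial.C i * MvPolynomial.X 1) ^ 2 := by
  classical
  set F : MvPolynomial (Fin 2) κ := C a + C b * X 0 + C c * X 1 + C d * X 0 ^ 2 + C e * X 0 * X 1 + C f * X 1 ^ 2
    with hF
  have hder : ∀ v : Fin 2, pderiv v F ∈ I := by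
    intro v
    have : ∀ q ∈ I ^ 2, q ∈ I ∧ pderiv v q ∈ I := by
      intro q hq
      rw [sq] at hq
      refine Submodule.mul_induction_on hq (fun x hx y hy => ⟨I.mul_mem_left _ hy, ?_⟩)
        (fun x y hx hy => ⟨I.add_mem hx.1 hy.1, by rw [map_add]; exact I.add_mem hx.2 hy.2⟩)
      rw [pderiv_mul]
      exact I.add_mem (I.mul_mem_left _ hy) (I.mul_mem_right _ hx)
    exact (this F hmem).2
  have hd0 : pderiv 0 F = C b + C (2 * d) * X 0 + C e * X 1 := by
    simp [hF, pderiv_X, Pi.single_apply, map_mul, map_ofNat]; ring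
  have hd1 : pderiv 1 F = C c + C e * X 0 + C (2 * f) * X 1 := by
    simp [hF, pderiv_X, Pi.single_apply, map_mul, map_ofNat]; ring
  have hlin : ∃ g h i : κ, (g, h, i) ≠ (0, 0, 0) ∧ C g + C h * X 0 + C i * X 1 ∈ I := by
    by_cases h0 : (b, 2 * d, e) = (0, 0, 0)
    swap
    · exact ⟨_, _, _, h0, hd0 ▸ hder 0⟩
    by_cases h1 : (c, e, 2 * f) = (0, 0, 0)
    swap
    · exact ⟨_, _, _, h1, hd1 ▸ hder 1⟩
    simp only [Prod.mk.injEq] at h0 h1
    obtain ⟨hb, hd, he⟩ := h0
    obtain ⟨hc, -, hf2⟩ := h1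
    refine exists_lin_mem (AlgebraicClosure κ) I a d f ?_ ?_ ?_
    · intro h; simp only [Prod.mk.injEq] at h
      exact hne (by simp [hb, hc, he, h.1, h.2.1, h.2.2])
    · by_cases h2 : (2 : κ) = 0
      · exact Or.inl h2
      · exact Or.inr ⟨(mul_eq_zero.mp hd).resolve_left h2, (mul_eq_zero.mp hf2).resolve_left h2⟩
    · rw [hb, hc, he] at hF
      rw [hF] at hmem
      simpa using hmem
  obtain ⟨g, h, i, hghi, hl⟩ := hlin
  by_cases hhi : h ≠ 0 ∨ i ≠ 0
  swap
  · exfalso
    push Not at hhi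
    obtain ⟨rfl, rfl⟩ := hhi
    have hg : g ≠ 0 := fun hg => hghi (by rw [hg])
    simp only [map_zero, zero_mul, add_zero] at hl
    have hT := Ideal.eq_top_of_isUnit_mem I hl ((IsUnit.mk0 g hg).map C)
    haveI : Subsingleton (MvPolynomial (Fin 2) κ ⧸ I) := Ideal.Quotient.subsingleton_iff.mpr hT
    exact hI ⟨inferInstance, by rw [Module.finrank_zero_of_subsingleton]; omega⟩
  obtain ⟨π, hπ, hker, hdeg⟩ := exists_line g h i hhi
  set l : MvPolynomial (Fin 2) κ := C g + C h * X 0 + C i * X 1 with hl'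
  have hl1 : l.totalDegree ≤ 1 := lin_totalDegree_le g h i
  obtain ⟨p, hp⟩ := (IsPrincipalIdealRing.principal (I.map π.toRingHom)).principal
  rw [Ideal.submodule_span_eq] at hp
  have hmap : ∀ q, q ∈ I → p ∣ π q := fun q hq => Ideal.mem_span_singleton.mp (hp ▸ Ideal.mem_map_of_mem π.toRingHom hq)
  have hpdeg : p = 0 ∨ 2 ≤ p.natDegree := by
    by_contra hcon
    push Not at hcon
    obtain ⟨hp0, hp2⟩ := hcon
    let ψ : MvPolynomial (Fin 2) κ →ₐ[κ] AdjoinRoot p := (AdjoinRoot.mkₐ p).comp π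
    have hψ : Function.Surjective ψ := AdjoinRoot.mk_surjective.comp hπ
    have hk : RingHom.ker ψ = I := by
      ext q
      rw [RingHom.mem_ker]
      change AdjoinRoot.mk p (π q) = 0 ↔ _
      rw [AdjoinRoot.mk_eq_zero]
      refine ⟨fun hq => ?_, hmap q⟩
      have : π q ∈ I.map π.toRingHom := hp ▸ Ideal.mem_span_singleton.mpr hq
      obtain ⟨q', hq', he'⟩ := (Ideal.mem_map_iff_of_surjective π.toRingHom hπ).mp this
      obtain ⟨r, hr⟩ := (hker (q - q')).mp (by rw [map_sub]; exact sub_eq_zero.mpr he'.symm)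
      have : q = q' + l * r := by rw [← hr]; ring
      exact this ▸ I.add_mem hq' (I.mul_mem_right _ hl)
    let eI : (MvPolynomial (Fin 2) κ ⧸ I) ≃ₐ[κ] AdjoinRoot p :=
      (Ideal.quotientEquivAlgOfEq κ hk.symm).trans (Ideal.quotientKerAlgEquivOfSurjective hψ)
    haveI : Module.Finite κ (AdjoinRoot p) := (AdjoinRoot.powerBasis hp0).finite
    refine hI ⟨Module.Finite.equiv eI.toLinearEquiv.symm, ?_⟩
    rw [eI.toLinearEquiv.finrank_eq, (AdjoinRoot.powerBasis hp0).finrank,
      AdjoinRoot.powerBasis_dim]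
    omega
  have hFdeg : F.totalDegree ≤ 2 := by
    refine (totalDegree_add _ _).trans (max_le ((totalDegree_add _ _).trans (max_le
      ((totalDegree_add _ _).trans (max_le ((totalDegree_add _ _).trans (max_le
      ((totalDegree_add _ _).trans (max_le ?_ ?_)) ?_)) ?_)) ?_)) ?_)
    · simp
    · exact (totalDegree_mul _ _).trans (by simp)
    · exact (totalDegree_mul _ _).trans (by simp)
    · exact (totalDegree_mul _ _).trans (by simp)
    · refine (totalDegree_mul _ _).trans ?_
      have := totalDegree_mul (C e) (X 0 : MvPolynomial (Fin 2) κ)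
      simp at this ⊢; omega
    · exact (totalDegree_mul _ _).trans (by simp)
  have hF0 : F ≠ 0 := by
    intro h0
    have h00 := fun m => congrArg (coeff m) h0
    apply hne
    have ha := h00 0
    have hb := h00 (Finsupp.single 0 1)
    have hc := h00 (Finsupp.single 1 1)
    have hd := h00 (Finsupp.single 0 2)
    have he := h00 (Finsupp.single 0 1 + Finsupp.single 1 1)
    have hf := h00 (Finsupp.single 1 2)
    have eXY : C e * X 0 * X 1 = monomial (Finsupp.single (0 : Fin 2) 1 + Finsupp.single 1 1) e := by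
      rw [mul_assoc, X, X, monomial_mul, C_mul_monomial]; simp
    simp only [hF] at ha hb hc hd he hf
    rw [eXY] at ha hb hc hd he hf
    simp only [C_mul_X_pow_eq_monomial, C_mul_X_eq_monomial] at ha hb hc hd he hf
    simp [coeff_monomial, coeff_C, Finsupp.ext_iff, Fin.forall_fin_two, Finsupp.single_apply] at ha hb hc hd he hf
    simp [ha, hb, hc, hd, he, hf]
  have hπF : π F = 0 := by
    obtain ⟨t, ht⟩ : p ^ 2 ∣ π F := by
      have : π F ∈ Ideal.span {p ^ 2} := by
        rw [← Ideal.span_singleton_pow, ← hp, ← Ideal.map_pow]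
        exact Ideal.mem_map_of_mem π.toRingHom hmem
      exact Ideal.mem_span_singleton.mp this
    rcases hpdeg with rfl | hp2
    · simpa using ht
    · by_contra hne'
      have hp0 : p ≠ 0 := by rintro rfl; simp at hp2
      have ht0 : t ≠ 0 := by rintro rfl; simp at ht; exact hne' ht
      have := (hdeg F).trans hFdeg
      rw [ht, Polynomial.natDegree_mul (pow_ne_zero 2 hp0) ht0, Polynomial.natDegree_pow] at this
      omega
  obtain ⟨M, hM⟩ := (hker F).mp hπF
  have hl0 : l ≠ 0 := fun h0 => hF0 (by rw [hM, h0, zero_mul])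
  have hM0 : M ≠ 0 := fun h0 => hF0 (by rw [hM, h0, mul_zero])
  have hMI : M ∈ I := by
    obtain ⟨v, x, hx, hvl⟩ : ∃ (v : Fin 2) (x : κ), x ≠ 0 ∧ pderiv v l = C x := by
      rcases hhi with hh | hh
      · exact ⟨0, h, hh, by simp [hl', pderiv_X, Pi.single_apply]⟩
      · exact ⟨1, i, hh, by simp [hl', pderiv_X, Pi.single_apply]⟩
    have := hder v
    rw [hM, pderiv_mul, hvl] at this
    have h2 : C x * M ∈ I := (Submodule.add_mem_iff_left I (I.mul_mem_right _ hl)).mp this
    have h3 := I.mul_mem_left (C x⁻¹) h2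
    rwa [← mul_assoc, ← map_mul, inv_mul_cancel₀ hx, map_one, one_mul] at h3
  have hldeg : l.totalDegree = 1 := by
    refine le_antisymm hl1 (Nat.one_le_iff_ne_zero.mpr fun h0 => ?_)
    rw [totalDegree_eq_zero_iff_eq_C] at h0
    rcases hhi with hh | hh
    · apply hh
      simpa [hl', coeff_X', coeff_C, Finsupp.single_eq_single_iff] using congrArg (coeff (Finsupp.single 0 1)) h0
    · apply hh
      simpa [hl', coeff_X', coeff_C, Finsupp.single_eq_single_iff] using congrArg (coeff (Finsupp.single 1 1)) h0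
  have hMdeg : M.totalDegree ≤ 1 := by
    rw [hM, totalDegree_mul_of_isDomain hl0 hM0, hldeg] at hFdeg; omega
  have hπM : π M = 0 := by
    obtain ⟨t, ht⟩ := hmap M hMI
    rcases hpdeg with rfl | hp2
    · simpa using ht
    · by_contra hne'
      have hp0 : p ≠ 0 := by rintro rfl; simp at hp2
      have ht0 : t ≠ 0 := by rintro rfl; simp at ht; exact hne' ht
      have := (hdeg M).trans hMdeg
      rw [ht, Polynomial.natDegree_mul hp0 ht0] at this
      omega
  obtain ⟨c', hc'⟩ := (hker M).mp hπM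
  have hc0 : c' ≠ 0 := fun h0 => hM0 (by rw [hc', h0, mul_zero])
  have hcd : c'.totalDegree = 0 := by
    rw [hc', totalDegree_mul_of_isDomain hl0 hc0, hldeg] at hMdeg; omega
  refine ⟨coeff 0 c', g, h, i, ?_⟩
  rw [← totalDegree_eq_zero_iff_eq_C.mp hcd, ← hl', hM, hc']
  ring

end Groth.Agent.S1601
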