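import Groth.Statements.S16013
import Groth.Agent.Constell5.Basic
import Groth.Agent.S16012

set_option autoImplicit false
universe u v w x
open W4c3ghconstell

namespace Groth.Agent.S16013

/-- Let k be an algebraically closed field of characteristic zero, A a commutative Hopf algebra over k
which is a finitely generated domain and linearly reductive (the coordinate ring of a connected
reductive group G; irreducible representations of G are indexed by the simple subcoalgebras D of A),
R a Noetherian commutative k-algebra with a multiplicative A-coaction (an affine G-scheme X = Spec
R), and M an R-module with a compatible A-coaction (a G-equivariant quasi-coherent module on X)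
which is finite over R, is the sum of its isotypic components M_D, and has dim_k M_D = h(D) < ∞ for
every simple subcoalgebra D. Fix a weight θ from simple subcoalgebras to ℚ, negative at only
finitely many D, with Σ_D θ(D) h(D) = 0 (a convergent real series) and with θ(D) ≠ 0, h(D) ≠ 0 for
some D; the weight of a k-subspace N of M is the real series Σ_D θ(D) · dim_k (N ∩ M_D). Let D₀ be
the line spanned by 1 in A (the trivial representation), and suppose h(D₀) = 1, θ(D) < 0 exactly for
D = D₀, and θ(D) ≠ 0 whenever h(D) ≠ 0. If M is generated as an R-module by its one-dimensional
invariant part M_{D₀} (so M is cyclic on an invariant vector, an equivariant quotient of R with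
isotypic dimensions h), then M is θ-stable: M has weight 0 and every non-zero proper R-submodule of
M stable under the coaction has weight > 0. (The published statement identifies the moduli functor
of θ-stable objects with the invariant Hilbert functor; this row is the converse direction of that
identification on a single object, to which its proof reduces. The forward direction, that a
θ-stable object is generated by M_{D₀}, is the single-negative-weight case of the generation
statement for θ-stable objects and is not restated here. The published converse has no condition at
the D with θ(D) = 0, and fails without it: for the multiplicative group acting on R = k[x,y]/(x,y)²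
with x of weight 1 and y of weight −1, M = R with h = 1 at the weights −1, 0, 1 and θ = 0, −1, 1
there is generated by 1, yet the line spanned by y is a non-zero proper equivariant submodule of
weight 0. The printed argument establishes the statement under the extra condition; multiplicities
are recorded as dimensions of isotypic components, a rescaling of θ.) -/
theorem result (k : Type u) [Field k] [IsAlgClosed k] [CharZero k]
    (A : Type v) [CommRing A] [IsDomain A] [HopfAlgebra k A] [Algebra.FiniteType k A]
    (hred : HopfRep.IsLinearlyReductive k A)
    (R : Type w) [CommRing R] [Algebra k R] [IsNoetherianRing R] [HopfRep.Comod k A R] [GLin.IsCoactAlg k A R]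
    (M : Type x) [AddCommGroup M] [Module k M] [Module R M] [IsScalarTower k R M]
    [HopfRep.Comod k A M] [TameAct.IsHopfMod k A R M]
    (h : W4c3ghconstell.SimpSub k A → ℕ) (θ : W4c3ghconstell.SimpSub k A → ℚ)
    (hfin : {D | θ D < 0}.Finite) (hsum : HasSum (fun D => (θ D : ℝ) * (h D : ℝ)) 0)
    (hne : ∃ D, θ D ≠ 0 ∧ h D ≠ 0)
    (hM : W4c3ghconstell.IsConstellation k A R M h)
    (D₀ : W4c3ghconstell.SimpSub k A) (hD₀ : D₀.1 = Submodule.span k {(1 : A)})
    (h1 : h D₀ = 1) (hneg : ∀ D, θ D < 0 ↔ D = D₀)
    (hθ : ∀ D, h D ≠ 0 → θ D ≠ 0)
    (hgen : W4c3ghconstell.genIn k A R M {D₀} ⊤ = ⊤) :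
    W4c3ghconstell.IsThetaStable k A R M θ := by
  have hset : {D | θ D < 0} = {D₀} := Set.ext fun D => by simp [hneg D]
  refine S16012.result k A hred R M h θ hfin hsum hne hM hθ (Constell5.theta_top hM hsum)
    fun N hN hb ht hgenN => ?_
  exfalso
  rw [hset] at hgenN
  haveI := (hM.2.2 D₀).1
  have hz : N.restrictScalars k ⊓ W4c3ghconstell.isoComp M D₀.1 ≠ ⊥ := fun e => hb (by
    rw [← hgenN, eq_bot_iff, W4c3ghconstell.genIn, Submodule.span_le, Set.biUnion_singleton, e]
    intro y hy
    simpa using hy)
  have hfull : N.restrictScalars k ⊓ W4c3ghconstell.isoComp M D₀.1 = W4c3ghconstell.isoComp M D₀.1 := by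
    refine Submodule.eq_of_le_of_finrank_le inf_le_right ?_
    rw [(hM.2.2 D₀).2, h1]
    haveI : Module.Finite k ↥(N.restrictScalars k ⊓ W4c3ghconstell.isoComp M D₀.1) :=
      Submodule.finiteDimensional_of_le inf_le_right
    exact Nat.one_le_iff_ne_zero.2 fun e => hz (Submodule.finrank_eq_zero.1 e)
  refine ht ?_
  rw [← hgenN, ← hgen]
  unfold W4c3ghconstell.genIn
  rw [Set.biUnion_singleton, Set.biUnion_singleton, hfull, Submodule.restrictScalars_top, top_inf_eq]

end Groth.Agent.S16013
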