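import Groth.Statements.S16017
import Mathlib

set_option linter.all false

set_option autoImplicit false
universe u
open W4c3ghconstell

open TensorProduct

namespace Groth.Agent.S16017

/-- Let ι index the irreducible representations, θ : ι → ℚ a weight negative at only finitely many
indices (the finite set D₋), h h' : ι → ℕ with h' ≤ h pointwise (the isotypic dimensions of an
object and of a sub-object) and Σ_i θ_i h_i summable. For a finite set D of indices put S_D = Σ_{i ∉
D} θ_i h_i, d = #(D ∖ D₋), and θ̃_D = Σ_{i ∈ D} θ_i h'_i + (S_D / d) · Σ_{i ∈ D ∖ D₋} h'_i / h_i,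
the modified weight attached to the parameters chosen for D (for D ⊇ D₋ the first sum is the
negative part plus the part over D ∖ D₋). Then θ̃_D tends to Σ_i θ_i h'_i as D grows through the
finite subsets of ι. (Here D runs over all finite sets of indices and a quotient by zero is zero;
the source lets D run over the finite subsets of the locus θ ≠ 0 containing D₋, and the same tail
estimate gives both.) -/
theorem result {ι : Type u} [DecidableEq ι] (θ : ι → ℚ) (h h' : ι → ℕ)
    (hle : ∀ i, h' i ≤ h i) (hfin : {i | θ i < 0}.Finite)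
    (hsum : Summable (fun i => (θ i : ℝ) * (h i : ℝ))) :
    Filter.Tendsto
      (fun D : Finset ι =>
        (∑ i ∈ D, (θ i : ℝ) * (h' i : ℝ)) +
          ((∑' i, if i ∈ D then (0 : ℝ) else (θ i : ℝ) * (h i : ℝ)) / ((D \ hfin.toFinset).card : ℝ)) *
            ∑ i ∈ D \ hfin.toFinset, ((h' i : ℝ) / (h i : ℝ)))
      Filter.atTop (nhds (∑' i, (θ i : ℝ) * (h' i : ℝ))) := by
  have hs' : Summable (fun i => (θ i : ℝ) * (h' i : ℝ)) := by
    refine Summable.of_norm_bounded hsum.abs fun i => ?_
    rw [Real.norm_eq_abs, abs_mul, abs_mul, Nat.abs_cast, Nat.abs_cast]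
    exact mul_le_mul_of_nonneg_left (Nat.cast_le.2 (hle i)) (abs_nonneg _)
  have hS : Filter.Tendsto (fun D : Finset ι => ∑' i, if i ∈ D then (0 : ℝ) else (θ i : ℝ) * (h i : ℝ))
      Filter.atTop (nhds 0) := by
    have e : ∀ D : Finset ι, (∑' i, if i ∈ D then (0 : ℝ) else (θ i : ℝ) * (h i : ℝ)) =
        (∑' i, (θ i : ℝ) * (h i : ℝ)) - ∑ i ∈ D, (θ i : ℝ) * (h i : ℝ) := fun D => by
      have hD : HasSum (fun i => if i ∈ D then (θ i : ℝ) * (h i : ℝ) else 0)
          (∑ i ∈ D, (θ i : ℝ) * (h i : ℝ)) := by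
        have := hasSum_sum_of_ne_finset_zero (L := SummationFilter.unconditional ι) (s := D)
          (f := fun i => if i ∈ D then (θ i : ℝ) * (h i : ℝ) else 0) (fun i hi => if_neg hi)
        rwa [Finset.sum_congr rfl (fun i hi => if_pos hi)] at this
      rw [← (hsum.hasSum.sub hD).tsum_eq]
      exact tsum_congr fun i => by split_ifs <;> simp
    simp only [e]
    have := (tendsto_const_nhds (x := ∑' i, (θ i : ℝ) * (h i : ℝ))).sub hsum.hasSum
    simpa using this
  have h2 : Filter.Tendsto (fun D : Finset ι =>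
      ((∑' i, if i ∈ D then (0 : ℝ) else (θ i : ℝ) * (h i : ℝ)) / ((D \ hfin.toFinset).card : ℝ)) *
            ∑ i ∈ D \ hfin.toFinset, ((h' i : ℝ) / (h i : ℝ))) Filter.atTop (nhds 0) := by
    refine squeeze_zero_norm (fun D => ?_) (by simpa using hS.norm)
    rw [norm_mul, norm_div, Real.norm_natCast, div_mul_comm]
    refine mul_le_of_le_one_left (norm_nonneg _) (div_le_one_of_le₀ ?_ (Nat.cast_nonneg _))
    refine (norm_sum_le _ _).trans ((Finset.sum_le_sum fun i _ => ?_).trans_eq (by simp : ∑ _i ∈ D \ hfin.toFinset, (1 : ℝ) = _))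
    rw [norm_div, Real.norm_natCast, Real.norm_natCast]
    exact div_le_one_of_le₀ (Nat.cast_le.2 (hle i)) (Nat.cast_nonneg _)
  have h1 : Filter.Tendsto (fun D : Finset ι => ∑ i ∈ D, (θ i : ℝ) * (h' i : ℝ)) Filter.atTop
      (nhds (∑' i, (θ i : ℝ) * (h' i : ℝ))) := hs'.hasSum
  simpa using h1.add h2

end Groth.Agent.S16017
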