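import Groth.Statements.S16029
import Groth.Agent.AlgGrpLib.AffineHullMain
-- import your own Groth.Agent.* helpers here

set_option autoImplicit false
universe u
open CategoryTheory CategoryTheory.Limits AlgebraicGeometry MonoidalCategory MonObj
open GrpSch

namespace Groth.Agent.S16029

/-- Over a field k, let G be a group scheme of finite type, G' an affine group scheme and u : G ⟶ G' a
homomorphism which is schematically dominant (its kernel ideal sheaf vanishes). Then u is faithfully
flat and G' is of finite type over k. -/
theorem result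
    (k : Type u) [Field k] (G G' : Over (Spec (CommRingCat.of k))) [GrpObj G] [GrpObj G']
    [LocallyOfFiniteType G.hom] [QuasiCompact G.hom] [IsAffine G'.left]
    (u : G ⟶ G') [IsMonHom u] (hdom : u.left.ker = ⊥) :
    Flat u.left ∧ Surjective u.left ∧ LocallyOfFiniteType G'.hom := by
  haveI : CompactSpace G.left := QuasiCompact.compactSpace_of_compactSpace G.hom
  haveI : QuasiCompact (u.left ≫ G'.hom) := by rw [Over.w u]; infer_instance
  haveI : QuasiCompact u.left := QuasiCompact.of_comp u.left G'.hom
  have hinj : Function.Injective u.left.appTop := by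
    rw [injective_iff_map_eq_zero]
    intro x hx
    have h1 : x ∈ u.left.ker.ideal ⟨⊤, isAffineOpen_top G'.left⟩ := by
      rw [Scheme.Hom.ker_apply]; exact hx
    rw [hdom, Scheme.IdealSheafData.ideal_bot] at h1
    exact h1
  obtain ⟨A, _, _, e, _, _⟩ := Groth.Agent.HopfQuot.exists_spec (k := k) G'
  haveI : IsIso e.left := inferInstanceAs (IsIso ((Over.forget _).map e))
  haveI : IsIso (CategoryTheory.inv e).left := inferInstanceAs (IsIso ((Over.forget _).map (CategoryTheory.inv e)))
  haveI : IsMonHom (CategoryTheory.inv e) := inferInstanceAs (IsMonHom (asIso e).inv)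
  let r : G ⟶ Groth.Agent.HopfQuot.spec (k := k) A := u ≫ CategoryTheory.inv e
  have hr : Function.Injective r.left.appTop := by
    rw [show r.left = u.left ≫ (CategoryTheory.inv e).left from rfl, Scheme.Hom.comp_appTop]
    haveI : IsIso (CategoryTheory.inv e).left.appTop :=
      inferInstanceAs (IsIso (Scheme.Γ.map (CategoryTheory.inv e).left.op))
    exact hinj.comp (ConcreteCategory.bijective_of_isIso _).1
  obtain ⟨hft, hs, hf⟩ := Groth.Agent.AlgGrpLib.AffineHull.finiteType_and_ff r hr
  have hue : u = r ≫ e := by simp [r]
  haveI : LocallyOfFiniteType (Groth.Agent.HopfQuot.spec (k := k) A).hom :=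
    (HasRingHomProperty.Spec_iff (P := @LocallyOfFiniteType) (φ := CommRingCat.ofHom (algebraMap k A))).2
      (RingHom.finiteType_algebraMap.2 hft)
  haveI := hs; haveI := hf
  refine ⟨?_, ?_, ?_⟩
  · rw [hue, Over.comp_left]; exact MorphismProperty.comp_mem @Flat _ _ hf inferInstance
  · rw [hue, Over.comp_left]; infer_instance
  · rw [← Over.w (CategoryTheory.inv e)]; infer_instance

end Groth.Agent.S16029
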