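import Groth.Statements.S1603
import Groth.Agent.Hyper24.BiratH1

set_option autoImplicit false
universe u
open CategoryTheory CategoryTheory.Limits AlgebraicGeometry
open Curves

namespace Groth.Agent.S1603

set_option backward.isDefEq.respectTransparency.types false
open Groth.Agent
set_option maxHeartbeats 1000000
open Groth.Agent.Coherent Groth.Agent.EulerLib Groth.Agent.CAlgH3.ModCohSeq TopologicalSpace

/-- An affine morphism which is bijective on sections over affine opens is an isomorphism. -/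
theorem isIso_of_bijective_app {X Y : Scheme.{u}} (f : Y ⟶ X) [IsAffineHom f]
    (h : ∀ V : X.Opens, IsAffineOpen V → Function.Bijective (f.app V)) : IsIso f := by
  show MorphismProperty.isomorphisms Scheme f
  refine HasAffineProperty.of_iSup_eq_top (fun V : X.affineOpens => V) (iSup_affineOpens_eq_top X) fun V =>
    ⟨V.2.preimage f, ?_⟩
  rw [Scheme.Hom.appTop, morphismRestrict_app]
  refine IsIso.comp_isIso' ?_ (by exact Functor.map_isIso _ _)
  refine (ConcreteCategory.isIso_iff_bijective _).2 (h _ ?_)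
  rw [Scheme.Opens.ι_image_top]
  exact V.2

/-- In the situation of the first part assume moreover that X is reduced, that H^0(X, O_X) → H^0(X',
O_{X'}) is surjective and that the two H^1 have the same dimension. Then f is an isomorphism. -/
theorem result (k : Type u) [Field k] (X X' : Scheme.{u}) [X.Over (Spec (CommRingCat.of k))] [X'.Over (Spec (CommRingCat.of k))]
    [IsProper (X ↘ (Spec (CommRingCat.of k)))] [IsReduced X] (hdim : topologicalKrullDim X ≤ 1) (f : X' ⟶ X) [IsProper f] (hf : f ≫ (X ↘ (Spec (CommRingCat.of k))) = X' ↘ (Spec (CommRingCat.of k)))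
    (U : X.Opens) (hU : Dense (U : Set X)) (hU' : Dense ((f ⁻¹ᵁ U : X'.Opens) : Set X')) (hfU : IsIso (f ∣_ U))
    (h0 : Function.Surjective (f.app ⊤).hom) (h1 : Curv2.genus k X' = Curv2.genus k X) : IsIso f := by
  haveI := Hyper24.isFinite_of_isIso_restrict k hdim f hU hU' hfU hf
  haveI := hfU
  haveI := CurveRR24.isLocallyNoetherian_of_proper k (X := X)
  haveI : IsLocallyNoetherian X' := LocallyOfFiniteType.isLocallyNoetherian f
  haveI : Coh.IsQCoh (Coh.structureModule X') := (isCoh_structureModule X').1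
  obtain ⟨hZ, hc⟩ := Hyper24.finite_compl_dense k hdim hU
  let φ := ClSub.unitToPush f
  have hinj : ∀ V : X.Opens, Function.Injective (f.app V) := fun V => by
    refine (injective_iff_map_eq_zero (f.app V).hom).2 fun a ha => ?_
    refine eq_zero_of_basicOpen_eq_bot a (Opens.ext (Set.eq_empty_iff_forall_notMem.2 fun z hz => ?_))
    obtain ⟨w, hw, hwU⟩ := hU.inter_open_nonempty _ (X.basicOpen a).2 ⟨z, hz⟩
    have hwV : w ∈ V := X.basicOpen_le a hw
    haveI := BlowUpLib.isIso_app_of_le f U (inf_le_right : V ⊓ U ≤ U)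
    have h0 : X.presheaf.map (homOfLE (inf_le_left : V ⊓ U ≤ V)).op a = 0 := by
      apply (ConcreteCategory.bijective_of_isIso (f.app (V ⊓ U))).1
      rw [map_zero]
      exact (ConcreteCategory.congr_hom (f.naturality (homOfLE (inf_le_left : V ⊓ U ≤ V)).op) a).trans
        ((congrArg _ ha).trans (map_zero (X'.presheaf.map _).hom))
    have h1 : w ∈ X.basicOpen (X.presheaf.map (homOfLE (inf_le_left : V ⊓ U ≤ V)).op a) := by
      rw [Scheme.basicOpen_res]; exact ⟨⟨hwV, hwU⟩, hw⟩
    rw [h0, Scheme.basicOpen_zero] at h1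
    exact h1
  have hsurjU : CohB1.support (cokernel φ) ⊆ (U : Set X)ᶜ :=
    Hyper24.support_cokernel_unitToPush f inferInstance
  haveI : Mono φ := by
    haveI := (isCoh_structureModule X).1
    obtain ⟨I, p, i, w₁, w₂, hpi, -, -, -⟩ := Hyper24.exists_image_ses φ
    refine Preadditive.mono_of_cancel_zero φ fun {T} g hg => Scheme.Modules.hom_ext _ _ fun V => ?_
    ext t
    exact hinj V ((ConcreteCategory.congr_hom (congrArg (fun ψ : T ⟶ _ => ψ.app V) hg) t).trans (map_zero _).symm)
  let S : ShortComplex X.Modules := ShortComplex.mk φ (cokernel.π φ) (cokernel.condition φ)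
  have hS : S.ShortExact :=
    { exact := ShortComplex.exact_cokernel φ, mono_f := inferInstanceAs (Mono φ),
      epi_g := inferInstanceAs (Epi (cokernel.π φ)) }
  have hP := Hyper24.isCoh_push_structure k f
  haveI := CurveRR24.finite_HH_of_isCoh k (isCoh_structureModule X) 1
  haveI := CurveRR24.finite_HH_of_isCoh k hP 1
  haveI : Module.Finite k (HA (baseHom k X) S.X₁ (⊤ : X.Opens) 1) := Module.Finite.equiv (HHBaseEquiv k S.X₁ 1)
  haveI : Module.Finite k (HA (baseHom k X) S.X₂ (⊤ : X.Opens) 1) := Module.Finite.equiv (HHBaseEquiv k S.X₂ 1)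
  haveI a3 : Subsingleton (HA (baseHom k X) S.X₃ (⊤ : X.Opens) 1) :=
    (V_iff_HMod _ 1).1 (subsingleton_HH_of_support_finite (cokernel φ) _ hZ hc hsurjU 1 one_pos)
  have hsurj1 : Function.Surjective (postA (baseHom k X) S.f (⊤ : X.Opens) 1) := fun x =>
    (exact_postA (baseHom k X) hS ⊤ 1 x).1 (Subsingleton.elim _ _)
  have hrk : Module.finrank k (HA (baseHom k X) S.X₁ (⊤ : X.Opens) 1) =
      Module.finrank k (HA (baseHom k X) S.X₂ (⊤ : X.Opens) 1) := by
    rw [← (HHBaseEquiv k S.X₁ 1).finrank_eq, ← (HHBaseEquiv k S.X₂ 1).finrank_eq]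
    exact h1.symm.trans (H0Growth23.finrank_HH_push k f hf _ (acyclicOverBasis_affine f _) 1)
  have hinj1 : Function.Injective (postA (baseHom k X) S.f (⊤ : X.Opens) 1) :=
    (LinearMap.injective_iff_surjective_of_finrank_eq_finrank hrk).2 hsurj1
  have htop : ∀ c : Γ(S.X₃, (⊤ : X.Opens)), c = 0 := fun c => by
    obtain ⟨x, rfl⟩ := (secH (X := X.toTopCat) (Coh.toAb S.X₃) (⊤ : X.Opens)).surjective c
    have hδ : deltaA (baseHom k X) hS ⊤ 0 x = 0 :=
      hinj1 (((exact_deltaA_postA (baseHom k X) hS ⊤ 0 _).2 ⟨x, rfl⟩).trans (map_zero _).symm)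
    obtain ⟨y, rfl⟩ := (exact_postA_deltaA (baseHom k X) hS ⊤ 0 x).1 hδ
    obtain ⟨a, ha⟩ := h0 (secH (X := X.toTopCat) (Coh.toAb S.X₂) (⊤ : X.Opens) y)
    refine (secH_postH (X := X.toTopCat) (F := Coh.toAb S.X₂) (G := Coh.toAb S.X₃)
      ((toAbFunctor X).map S.g) (⊤ : X.Opens) y).trans ?_
    rw [← ha]
    exact sections_zero (S := S) ⊤ a
  have hfl := isFlasque_of_support_finite (cokernel φ) _ hZ hc hsurjU
  refine isIso_of_bijective_app f fun V _ => ⟨hinj V, fun b => ?_⟩
  refine sections_exact (S := S) hS b ?_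
  obtain ⟨c, hc'⟩ := (AddCommGrpCat.epi_iff_surjective _).1 (hfl.epi (homOfLE (le_top : V ≤ ⊤)).op) (S.g.app V b)
  rw [← hc', htop c]
  exact map_zero _

end Groth.Agent.S1603
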