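import Groth.Statements.S16031
import Groth.Agent.FlatMorPush.FiniteSet
import Groth.Agent.FlatMorPush.Props

set_option autoImplicit false
universe u
open CategoryTheory CategoryTheory.Limits AlgebraicGeometry
open FlatMor

set_option backward.isDefEq.respectTransparency.types false

namespace Groth.Agent.S16031

open Groth.Agent.FlatMorPush (HasPairs Po hasPairs_of_isClosedImmersion)

/-- Let θ₁ : Y ⟶ X₁ and θ₂ : Y ⟶ X₂ be closed immersions of schemes and let X, with φ₁ : X₁ ⟶ X and φ₂ :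
X₂ ⟶ X, be their pushout in the category of schemes. If a finite set E of points of X has each
preimage φᵢ⁻¹(E) contained in an affine open of Xᵢ, then E is contained in an affine open of X. -/
theorem result
    {Y X₁ X₂ X : Scheme.{u}} (θ₁ : Y ⟶ X₁) (θ₂ : Y ⟶ X₂) [IsClosedImmersion θ₁] [IsClosedImmersion θ₂]
    (φ₁ : X₁ ⟶ X) (φ₂ : X₂ ⟶ X) (hX : IsPushout θ₁ θ₂ φ₁ φ₂)
    (E : Set ↥X) (hE : E.Finite)
    (h₁ : ∃ U₁ : X₁.Opens, IsAffineOpen U₁ ∧ φ₁ ⁻¹' E ⊆ (U₁ : Set ↥X₁))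
    (h₂ : ∃ U₂ : X₂.Opens, IsAffineOpen U₂ ∧ φ₂ ⁻¹' E ⊆ (U₂ : Set ↥X₂)) :
    ∃ U : X.Opens, IsAffineOpen U ∧ E ⊆ (U : Set ↥X) := by
  have : HasPairs θ₁ θ₂ := hasPairs_of_isClosedImmersion θ₁ θ₂
  let e : Po θ₁ θ₂ ≅ X := (FlatMorPush.isPushout θ₁ θ₂).isoIsPushout _ _ hX
  have h1 : FlatMorPush.inl θ₁ θ₂ ≫ e.hom = φ₁ := (FlatMorPush.isPushout θ₁ θ₂).inl_isoIsPushout_hom _ _ hX
  have h2 : FlatMorPush.inr θ₁ θ₂ ≫ e.hom = φ₂ := (FlatMorPush.isPushout θ₁ θ₂).inr_isoIsPushout_hom _ _ hX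
  have := FlatMorPush.isClosedImmersion_inr θ₁ θ₂
  have := FlatMorPush.isClosedImmersion_inl θ₁ θ₂
  have : IsClosedImmersion φ₁ := h1 ▸ inferInstance
  have : IsClosedImmersion φ₂ := h2 ▸ inferInstance
  obtain ⟨U₁, hU₁, hE₁⟩ := h₁
  obtain ⟨U₂, hU₂, hE₂⟩ := h₂
  obtain ⟨k, hk₁, hk₂, -, -⟩ := FlatMorPush.exists_pair_finite θ₁ θ₂ hU₁ hU₂
    (hE.preimage φ₁.isClosedEmbedding.injective.injOn) hE₁
    (hE.preimage φ₂.isClosedEmbedding.injective.injOn) hE₂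
    (fun z => by
      show φ₁ (θ₁ z) ∈ E ↔ φ₂ (θ₂ z) ∈ E
      rw [show φ₁ (θ₁ z) = φ₂ (θ₂ z) from congrArg (fun m : Y ⟶ X => m z) hX.w])
  refine ⟨(FlatMorPush.ι k ≫ e.hom).opensRange, isAffineOpen_opensRange _, fun x hx => ?_⟩
  obtain ⟨w, rfl⟩ := e.hom.surjective x
  suffices w ∈ (FlatMorPush.ι k).opensRange by
    obtain ⟨c, rfl⟩ := this
    exact ⟨c, rfl⟩
  obtain ⟨l, w₀, rfl⟩ := FlatMorPush.exists_mem_range w
  rcases l.sq.exists_point w₀ with ⟨y, rfl⟩ | ⟨-, -, -, x, rfl⟩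
  · have hy : FlatMorPush.ι l (KerEval.sp l.sq.f y) = FlatMorPush.inr θ₁ θ₂ (l.hV.fromSpec y) :=
      (congrArg (fun m : _ ⟶ Po θ₁ θ₂ => m y) (FlatMorPush.fromSpec_inr l)).symm
    have hx' := (congrArg (fun t => e.hom t ∈ E) hy).mp hx
    refine (congrArg (fun t => t ∈ (FlatMorPush.ι k).opensRange) hy).mpr ?_
    refine FlatMorPush.inr_mem_range_ι.mpr (hk₂ ?_)
    show φ₂ _ ∈ E
    rw [← h2]
    exact hx'
  · have hy : FlatMorPush.ι l (KerEval.sp l.sq.g x) = FlatMorPush.inl θ₁ θ₂ (l.hU.fromSpec x) :=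
      (congrArg (fun m : _ ⟶ Po θ₁ θ₂ => m x) (FlatMorPush.fromSpec_inl l)).symm
    have hx' := (congrArg (fun t => e.hom t ∈ E) hy).mp hx
    refine (congrArg (fun t => t ∈ (FlatMorPush.ι k).opensRange) hy).mpr ?_
    refine FlatMorPush.inl_mem_range_ι.mpr (hk₁ ?_)
    show φ₁ _ ∈ E
    rw [← h1]
    exact hx'

end Groth.Agent.S16031
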