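import Groth.Statements.S16033
import Groth.Agent.AlgGrpLib.AffineHullMain
import Groth.Agent.AlgGrpLib.SubgroupCalc
import Groth.Agent.SGA7Aut29.AntiPow
import Groth.Agent.Et18.Descent
import Groth.Agent.S11412
import Groth.Agent.S19702
import Groth.Agent.S18067
-- import your own Groth.Agent.* helpers here

set_option autoImplicit false
set_option backward.isDefEq.respectTransparency false
set_option backward.isDefEq.respectTransparency.types false
open CategoryTheory CategoryTheory.Limits MonoidalCategory CartesianMonoidalCategory MonObj GrpObj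
universe u
open CategoryTheory CategoryTheory.Limits AlgebraicGeometry MonoidalCategory MonObj
open GrpSch

namespace Groth.Agent.S16033


variable {S : Scheme.{u}} {G Q N : Over S} [GrpObj G] [GrpObj Q] [GrpObj N] [IsCommMonObj G] [IsCommMonObj Q]
  [IsCommMonObj N] (ρ : G ⟶ Q) [IsMonHom ρ] (i : N ⟶ G) [IsMonHom i]

theorem hom_pow {T A B : Over S} [GrpObj A] [GrpObj B] (g : A ⟶ B) [IsMonHom g] (f : T ⟶ A) (n : ℕ) :
    (f ^ n) ≫ g = (f ≫ g) ^ n := (Groth.Agent.AbCubeLib.pow_comp_hom f g n)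

theorem isPullback_right {P : Over S} {p₁ : P ⟶ G} {p₂ : P ⟶ Q} (n : ℕ)
    (hP : IsPullback p₁ p₂ ρ ((𝟙 Q : Q ⟶ Q) ^ n)) (hk : AlgGrp.IsKernel i ρ) (φ : G ⊗ N ⟶ P)
    (h1 : φ ≫ p₁ = (fst G N) ^ n * (snd G N ≫ i)) (h2 : φ ≫ p₂ = fst G N ≫ ρ) :
    IsPullback φ (fst G N) p₂ ρ := by
  haveI := Groth.Agent.AlgGrpLib.kernel_mono hk
  have key : ∀ s : PullbackCone p₂ ρ, ∃ x : s.pt ⟶ N, x ≫ i = (s.snd ^ n)⁻¹ * (s.fst ≫ p₁) := fun s => by
    refine Groth.Agent.AlgGrpLib.exists_lift_kernel hk ?_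
    rw [MonObj.mul_comp, GrpObj.inv_comp, hom_pow, Category.assoc, hP.w, ← Category.assoc, s.condition,
      Groth.Agent.SGA7Aut29.comp_pow_id, inv_mul_cancel]
  choose x hx using key
  refine IsPullback.of_isLimit' ⟨h2⟩ (PullbackCone.IsLimit.mk _ (fun s => lift s.snd (x s))
    (fun s => hP.hom_ext ?_ ?_) (fun s => lift_fst _ _) fun s m hm1 hm2 => ?_)
  · rw [Category.assoc, h1, MonObj.comp_mul, MonObj.comp_pow, lift_fst, lift_snd_assoc, hx, mul_inv_cancel_left]
  · rw [Category.assoc, h2, lift_fst_assoc, s.condition]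
  · refine CartesianMonoidalCategory.hom_ext _ _ (by rw [lift_fst]; exact hm2) ?_
    rw [lift_snd, ← cancel_mono i, hx, ← hm1]
    simp only [Category.assoc, h1, MonObj.comp_mul, MonObj.comp_pow, hm2, inv_mul_cancel_left]

theorem isPullback_top {P : Over S} {p₁ : P ⟶ G} {p₂ : P ⟶ Q} (n : ℕ)
    (hP : IsPullback p₁ p₂ ρ ((𝟙 Q : Q ⟶ Q) ^ n)) (hk : AlgGrp.IsKernel i ρ) (φ : G ⊗ N ⟶ P)
    (h1 : φ ≫ p₁ = (fst G N) ^ n * (snd G N ≫ i)) (h2 : φ ≫ p₂ = fst G N ≫ ρ)
    (c : G ⟶ P) (hc1 : c ≫ p₁ = (𝟙 G) ^ n) (hc2 : c ≫ p₂ = ρ) :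
    IsPullback (fst G N * (snd G N ≫ i)) (lift (fst G N) (snd G N ^ n)) c φ := by
  haveI := Groth.Agent.AlgGrpLib.kernel_mono hk
  have hiρ := Groth.Agent.AlgGrpLib.kernel_comp hk
  have key : ∀ s : PullbackCone c φ, ∃ y : s.pt ⟶ N, y ≫ i = (s.snd ≫ fst G N)⁻¹ * s.fst := fun s => by
    refine Groth.Agent.AlgGrpLib.exists_lift_kernel hk ?_
    have h := congrArg (· ≫ p₂) s.condition
    simp only [Category.assoc, hc2, h2] at h
    rw [MonObj.mul_comp, GrpObj.inv_comp, Category.assoc, h, inv_mul_cancel]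
  choose y hy using key
  have hw : (fst G N * (snd G N ≫ i)) ≫ c = lift (fst G N) (snd G N ^ n) ≫ φ := by
    refine hP.hom_ext ?_ ?_
    · rw [Category.assoc, Category.assoc, hc1, h1, MonObj.comp_mul, MonObj.comp_pow, MonObj.comp_pow, lift_fst,
        lift_snd_assoc, Category.comp_id, mul_pow, hom_pow]
    · rw [Category.assoc, Category.assoc, hc2, h2, lift_fst_assoc, MonObj.mul_comp, Category.assoc, hiρ, MonObj.comp_one,
        _root_.mul_one]
  refine IsPullback.of_isLimit' ⟨hw⟩ (PullbackCone.IsLimit.mk _ (fun s => lift (s.snd ≫ fst G N) (y s)) (fun s => ?_)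
    (fun s => ?_) fun s m hm1 hm2 => ?_)
  · rw [MonObj.comp_mul, lift_fst, lift_snd_assoc, hy, mul_inv_cancel_left]
  · refine CartesianMonoidalCategory.hom_ext _ _ (by simp) ?_
    have h := congrArg (· ≫ p₁) s.condition
    simp only [Category.assoc, hc1, h1, MonObj.comp_pow, MonObj.comp_mul, Category.comp_id] at h
    rw [Category.assoc, lift_snd, MonObj.comp_pow, lift_snd, ← cancel_mono i, hom_pow, hy, mul_pow, inv_pow, h,
      inv_mul_cancel_left, Category.assoc]
  · refine CartesianMonoidalCategory.hom_ext _ _ ?_ ?_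
    · rw [lift_fst, ← hm2, Category.assoc, lift_fst]
    · rw [lift_snd, ← cancel_mono i, hy, ← hm1, ← hm2, MonObj.comp_mul, Category.assoc, Category.assoc, lift_fst,
        inv_mul_cancel_left]

theorem isPullback_pow (n : ℕ) :
    IsPullback (lift (fst G N) (snd G N ^ n)) (snd G N) (snd G N) ((𝟙 N : N ⟶ N) ^ n) := by
  refine IsPullback.of_isLimit' ⟨by rw [lift_snd, MonObj.comp_pow, Category.comp_id]⟩
    (PullbackCone.IsLimit.mk _ (fun s => lift (s.fst ≫ fst G N) s.snd) (fun s => ?_) (fun s => lift_snd _ _)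
      fun s m hm1 hm2 => ?_)
  · refine CartesianMonoidalCategory.hom_ext _ _ (by simp) ?_
    rw [Category.assoc, lift_snd, MonObj.comp_pow, lift_snd, s.condition, MonObj.comp_pow, Category.comp_id]
  · refine CartesianMonoidalCategory.hom_ext _ _ ?_ (by rw [lift_snd]; exact hm2)
    rw [lift_fst, ← hm1, Category.assoc, lift_fst]

end Groth.Agent.S16033

namespace Groth.Agent.S16033

/-- For a commutative group scheme G of finite type over a field and an integer n > 0, the n-th power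
homomorphism n_G : G ⟶ G is an affine morphism. -/
theorem result
    (k : Type u) [Field k] (G : Over (Spec (CommRingCat.of k))) [GrpObj G] [IsCommMonObj G]
    [LocallyOfFiniteType G.hom] [QuasiCompact G.hom] (n : ℕ) (hn : 0 < n) :
    IsAffineHom ((𝟙 G ^ n : G ⟶ G).left) := by
  haveI : CompactSpace G.left := QuasiCompact.compactSpace_of_compactSpace G.hom
  haveI : IsLocallyNoetherian G.left := LocallyOfFiniteType.isLocallyNoetherian G.hom
  obtain ⟨gQ, hρ, hs, hf, hft⟩ := Groth.Agent.AlgGrpLib.AffineHull.affinization G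
  let Q := Groth.Agent.AlgGrpLib.affOf G
  let q : G ⟶ Q := Groth.Agent.AlgGrpLib.toAffOf G
  haveI : IsMonHom q := hρ
  haveI : Surjective q.left := hs
  haveI : Flat q.left := hf
  haveI : LocallyOfFiniteType Q.hom := hft
  haveI : QuasiCompact q.left := Groth.Agent.AlgGrpLib.quasiCompact_left q
  haveI : IsCommMonObj Q := by
    haveI : Surjective (q ⊗ₘ q).left :=
      MorphismProperty.pullbackMap (P := @Surjective) hs hs (Over.w q).symm (Over.w q).symm
    haveI : Flat (q ⊗ₘ q).left :=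
      MorphismProperty.pullbackMap (P := @Flat) hf hf (Over.w q).symm (Over.w q).symm
    haveI : QuasiCompact (q ⊗ₘ q).left :=
      MorphismProperty.pullbackMap (P := @QuasiCompact) ‹QuasiCompact q.left› ‹QuasiCompact q.left› (Over.w q).symm
        (Over.w q).symm
    haveI : Epi (q ⊗ₘ q).left := Flat.epi_of_flat_of_surjective _
    haveI : Epi (q ⊗ₘ q) := Over.epi_of_epi_left _
    exact ⟨by rw [← cancel_epi (q ⊗ₘ q), BraidedCategory.braiding_naturality_assoc, ← IsMonHom.mul_hom,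
      ← Category.assoc, IsCommMonObj.mul_comm]⟩
  let e : 𝟙_ (Over (Spec (CommRingCat.of k))) ⟶ Q := η[Q]
  let N := pullback q e
  let i : N ⟶ G := pullback.fst q e
  have hk : AlgGrp.IsKernel i q := by
    have h := IsPullback.of_hasPullback q e
    rw [toUnit_unique (pullback.snd q e) (toUnit _)] at h
    exact h
  obtain ⟨instN, hn'⟩ := Groth.Agent.AlgGrpLib.exists_grpObj_kernel q i hk
  haveI := hn'
  haveI : IsClosedImmersion e.left := by
    haveI : IsClosedImmersion (e.left ≫ Q.hom) := by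
      rw [Over.w]
      exact inferInstanceAs (IsClosedImmersion (𝟙 _))
    exact IsClosedImmersion.of_comp e.left Q.hom
  haveI : IsClosedImmersion i.left :=
    MorphismProperty.of_isPullback (P := @IsClosedImmersion) (hk.map (Over.forget _)).flip ‹_›
  haveI : LocallyOfFiniteType N.hom := by rw [← Over.w i]; infer_instance
  haveI : QuasiCompact N.hom := by rw [← Over.w i]; infer_instance
  have hNΓ : Function.Bijective ((Scheme.ΓSpecIso (CommRingCat.of k)).inv ≫ N.hom.appTop).hom :=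
    (Groth.Agent.AlgGrpLib.AffineHull.bijective_appTop_kernel G i hk).comp
      (ConcreteCategory.bijective_of_isIso (Scheme.ΓSpecIso (CommRingCat.of k)).inv)
  -- smoothness of the anti-affine kernel
  haveI : MorphismProperty.DescendsAlong @Smooth Groth.Agent.Et18.FPQC.{u} :=
    inferInstanceAs (MorphismProperty.DescendsAlong @Smooth (@Surjective ⊓ @Flat ⊓ @QuasiCompact))
  let f := Spec.map (CommRingCat.ofHom (algebraMap k (AlgebraicClosure k)))
  haveI : Surjective f := ⟨fun x => ⟨default, Subsingleton.elim (α := PrimeSpectrum k) _ _⟩⟩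
  haveI : Flat f := Groth.Agent.GrpdLib.flat_to_field _ k (Iso.refl _)
  haveI : LocallyOfFiniteType (Red.bc f N).hom := MorphismProperty.pullback_snd N.hom f ‹_›
  haveI : QuasiCompact (Red.bc f N).hom := MorphismProperty.pullback_snd N.hom f ‹_›
  obtain ⟨hsm, -⟩ := Groth.Agent.S11412.result (AlgebraicClosure k) (Red.bc f N)
    ((Groth.Agent.S19702.result k (AlgebraicClosure k) N).1 hNΓ)
  haveI : Smooth N.hom := MorphismProperty.of_isPullback_of_descendsAlong (P := @Smooth) (Q := Groth.Agent.Et18.FPQC.{u})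
    (IsPullback.of_hasPullback N.hom f).flip ⟨⟨‹Surjective f›, ‹Flat f›⟩, inferInstance⟩ hsm
  haveI : IsCommMonObj N := (Groth.Agent.S3293.result k N hNΓ).2
  obtain ⟨-, hfin⟩ := Groth.Agent.S18067.result k N hNΓ (n : ℤ) (by omega)
  rw [zpow_natCast] at hfin
  haveI : IsAffineHom ((𝟙 N : N ⟶ N) ^ n).left := hfin.toIsAffineHom
  -- the square
  let P := pullback q ((𝟙 Q : Q ⟶ Q) ^ n)
  have hP : IsPullback (pullback.fst q ((𝟙 Q : Q ⟶ Q) ^ n)) (pullback.snd _ _) q ((𝟙 Q : Q ⟶ Q) ^ n) :=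
    IsPullback.of_hasPullback _ _
  let φ : G ⊗ N ⟶ P := hP.lift ((fst G N) ^ n * (snd G N ≫ i)) (fst G N ≫ q) (by
    rw [MonObj.mul_comp, hom_pow, Category.assoc, Groth.Agent.AlgGrpLib.kernel_comp hk, MonObj.comp_one, _root_.mul_one,
      Groth.Agent.SGA7Aut29.comp_pow_id])
  let c : G ⟶ P := hP.lift ((𝟙 G) ^ n) q (by
    rw [hom_pow, Category.id_comp, Groth.Agent.SGA7Aut29.comp_pow_id])
  have h3 := (isPullback_right q i n hP hk φ (hP.lift_fst _ _ _) (hP.lift_snd _ _ _)).map (Over.forget _)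
  have h4 := (isPullback_top q i n hP hk φ (hP.lift_fst _ _ _) (hP.lift_snd _ _ _) c (hP.lift_fst _ _ _)
    (hP.lift_snd _ _ _)).map (Over.forget _)
  have h5 := (isPullback_pow (G := G) (N := N) n).map (Over.forget _)
  haveI : IsAffineHom (lift (fst G N) (snd G N ^ n)).left := MorphismProperty.of_isPullback (P := @IsAffineHom) h5.flip ‹_›
  haveI hφ₁ : Surjective φ.left := MorphismProperty.of_isPullback (P := @Surjective) h3.flip ‹_›
  haveI hφ₂ : Flat φ.left := MorphismProperty.of_isPullback (P := @Flat) h3.flip ‹_›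
  haveI hφ₃ : QuasiCompact φ.left := MorphismProperty.of_isPullback (P := @QuasiCompact) h3.flip ‹_›
  haveI := Groth.Agent.Et18.descends_isAffineHom.{u}
  haveI : IsAffineHom c.left := MorphismProperty.of_isPullback_of_descendsAlong (P := @IsAffineHom)
    (Q := Groth.Agent.Et18.FPQC.{u}) h4.flip ⟨⟨hφ₁, hφ₂⟩, hφ₃⟩ ‹_›
  haveI : IsAffineHom ((𝟙 Q : Q ⟶ Q) ^ n).left := inferInstance
  haveI : IsAffineHom (pullback.fst q ((𝟙 Q : Q ⟶ Q) ^ n)).left :=
    MorphismProperty.of_isPullback (P := @IsAffineHom) (hP.map (Over.forget _)).flip ‹_›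
  rw [show (𝟙 G ^ n : G ⟶ G) = c ≫ pullback.fst q ((𝟙 Q : Q ⟶ Q) ^ n) from (hP.lift_fst _ _ _).symm, Over.comp_left]
  infer_instance

end Groth.Agent.S16033
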