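import Groth.Statements.S5346
import Groth.Agent.SGA3cLib.NilLift

set_option autoImplicit false
universe u
open CategoryTheory CategoryTheory.Limits MonoidalCategory CartesianMonoidalCategory MonObj GrpObj AlgebraicGeometry
open SGA3

namespace Groth.Agent.S5346

set_option backward.isDefEq.respectTransparency.types false

/-- Let A be a local artinian ring with residue field k and i : Spec k → Spec A the closed point. (i) If
X is an A-scheme whose base change X ⊗_A k is locally of finite type (resp. of finite type) over k,
then X is locally of finite type (resp. of finite type) over A. (ii) If u : X → Y is a morphism of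
A-schemes whose base change u ⊗_A k is an immersion (resp. a closed immersion), then u is an
immersion (resp. a closed immersion). -/
theorem result (A : Type u) [CommRing A] [IsArtinianRing A] [IsLocalRing A] (X Y : Over (Spec (CommRingCat.of A))) (u : X ⟶ Y) :
    letI i : Spec (CommRingCat.of (IsLocalRing.ResidueField A)) ⟶ (Spec (CommRingCat.of A)) := Spec.map (CommRingCat.ofHom (IsLocalRing.residue A))
    (LocallyOfFiniteType (pullback.snd X.hom i) → LocallyOfFiniteType X.hom) ∧
    (LocallyOfFiniteType (pullback.snd X.hom i) → QuasiCompact (pullback.snd X.hom i) → QuasiCompact X.hom) ∧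
    (IsImmersion ((Over.pullback i).map u).left → IsImmersion u.left) ∧
    (IsClosedImmersion ((Over.pullback i).map u).left → IsClosedImmersion u.left) := by
  let i : Spec (CommRingCat.of (IsLocalRing.ResidueField A)) ⟶ Spec (CommRingCat.of A) :=
    Spec.map (CommRingCat.ofHom (IsLocalRing.residue A))
  have hm : IsNilpotent (IsLocalRing.maximalIdeal A) := by
    rw [← IsLocalRing.jacobson_eq_maximalIdeal (⊥ : Ideal A) bot_ne_top]
    exact IsArtinianRing.isNilpotent_jacobson_bot
  haveI : IsClosedImmersion i := IsClosedImmersion.spec_of_surjective _ IsLocalRing.residue_surjective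
  haveI : Surjective i := ⟨fun p => ⟨IsLocalRing.closedPoint (IsLocalRing.ResidueField A),
    Subsingleton.elim (α := PrimeSpectrum A) _ _⟩⟩
  haveI : Surjective (Limits.pullback.fst X.hom i) := MorphismProperty.pullback_fst (P := @Surjective) _ _ inferInstance
  haveI : Surjective (Limits.pullback.fst Y.hom i) := MorphismProperty.pullback_fst (P := @Surjective) _ _ inferInstance
  let eX := (Limits.pullback.fst X.hom i).isClosedEmbedding.toIsEmbedding.toHomeomorphOfSurjective
    (Limits.pullback.fst X.hom i).surjective
  let uk := ((Over.pullback i).map u).left
  have hsq : Limits.pullback.fst X.hom i ≫ u.left = uk ≫ Limits.pullback.fst Y.hom i :=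
    (Limits.pullback.lift_fst _ _ _).symm
  have hpre : IsPreimmersion uk → IsPreimmersion u.left := fun hk => by
    haveI : IsPreimmersion (Limits.pullback.fst X.hom i ≫ u.left) := by rw [hsq]; infer_instance
    haveI : SurjectiveOnStalks u.left := by
      refine SGA3cLib.surjectiveOnStalks_of_reduction A u.left Y.hom hm ?_
      change SurjectiveOnStalks (Limits.pullback.fst (u.left ≫ Y.hom) i ≫ u.left)
      rw [Over.w u]
      infer_instance
    refine ⟨?_⟩
    have h := (Limits.pullback.fst X.hom i ≫ u.left).isEmbedding.comp eX.symm.isEmbedding
    convert h using 1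
    ext x
    exact congrArg u.left.base (eX.apply_symm_apply x).symm
  have hrange : Set.range u.left.base = Limits.pullback.fst Y.hom i '' Set.range uk.base := by
    rw [← Set.range_comp, ← Function.Surjective.range_comp eX.surjective u.left.base]
    exact congrArg (fun f : _ ⟶ Y.left => Set.range f.base) hsq
  refine ⟨fun h => SGA3cLib.locallyOfFiniteType_of_reduction A X.hom hm h, fun _ hq => ?_, fun h => ?_, fun h => ?_⟩
  · rw [quasiCompact_iff_compactSpace] at hq ⊢
    exact (Limits.pullback.fst X.hom i).surjective.compactSpace (Limits.pullback.fst X.hom i).continuous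
  · haveI : IsImmersion uk := h
    haveI := hpre inferInstance
    refine ⟨?_⟩
    rw [hrange]
    exact uk.isLocallyClosed_range.image (Limits.pullback.fst Y.hom i).isClosedEmbedding.isInducing
      (by rw [(Limits.pullback.fst Y.hom i).surjective.range_eq]; exact isOpen_univ.isLocallyClosed)
  · haveI : IsClosedImmersion uk := h
    haveI := hpre inferInstance
    refine IsClosedImmersion.of_isPreimmersion _ ?_
    rw [hrange]
    exact (Limits.pullback.fst Y.hom i).isClosedMap _ uk.isClosedEmbedding.isClosed_range

end Groth.Agent.S5346
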