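import Groth.Statements.S3034
import Groth.Agent.GrpQLib.FlatKernel
import Groth.Agent.SGA3cLib.MonoClosed
import Groth.Agent.FlatMorThick.Topological
import Groth.Agent.S5346

set_option autoImplicit false
set_option backward.isDefEq.respectTransparency.types false
set_option linter.style.haveILetI false
universe u
open CategoryTheory MonoidalCategory CartesianMonoidalCategory MonObj GrpObj AlgebraicGeometry TensorProduct
open SGA3
open scoped CategoryTheory.Obj

namespace Groth.Agent.S3034

/-- Let A be a local artinian ring and u : G → H a quasi-compact homomorphism between group schemes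
locally of finite type over A, with G flat over A and the kernel of u flat over A. Then u factors as
a homomorphism p : G → C which is faithfully flat and locally of finite presentation followed by a
homomorphism i : C → H which is a closed immersion. (Stated here for G flat over A; the published
statement also covers non-flat G.) -/
theorem result (A : Type u) [CommRing A] [IsArtinianRing A] [IsLocalRing A]
    (G H : Over (Spec (CommRingCat.of A))) [GrpObj G] [GrpObj H] [LocallyOfFiniteType G.hom] [LocallyOfFiniteType H.hom]
    [Flat G.hom] (u : G ⟶ H) [IsMonHom u] [QuasiCompact u.left]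
    (hN : Flat (Limits.pullback.snd u.left (η[H] : 𝟙_ (Over (Spec (CommRingCat.of A))) ⟶ H).left)) :
    ∃ (C : Over (Spec (CommRingCat.of A))) (_ : GrpObj C) (p : G ⟶ C) (i : C ⟶ H), IsMonHom p ∧ IsMonHom i ∧ p ≫ i = u ∧
      Flat p.left ∧ Surjective p.left ∧ LocallyOfFinitePresentation p.left ∧ IsClosedImmersion i.left := by
  have hK : Flat (Limits.pullback u η[H]).hom := by
    have sq := (IsPullback.of_hasPullback u η[H]).map (Over.forget _)
    have e : (Limits.pullback.snd u η[H]).left = (Limits.pullback u η[H]).hom :=
      (Category.comp_id _).symm.trans (Over.w (Limits.pullback.snd u η[H]))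
    rw [← e]
    refine Eq.mp (congrArg (fun z => Flat z) sq.isoPullback_hom_snd) ?_
    exact (MorphismProperty.cancel_left_of_respectsIso @Flat sq.isoPullback.hom _).2 hN
  haveI : LocallyOfFinitePresentation G.hom := LocallyOfFinitePresentation.iff_locallyOfFiniteType.2 inferInstance
  obtain ⟨Q, gQ, p, i, hp, hi, hpi, h1, h2, h3, hm, hQ, -⟩ := Groth.Agent.GrpQLib.exists_image u hK
  haveI := hi
  haveI := hm
  haveI := hQ
  haveI := h1
  haveI : QuasiCompact (p.left ≫ i.left) := by rw [← Over.comp_left, hpi]; infer_instance
  haveI : QuasiCompact i.left := Groth.Agent.FlatMorThick.quasiCompact_of_comp_surjective p.left i.left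
  refine ⟨Q, gQ, p, i, hp, hi, hpi, h2, h1, h3, ?_⟩
  refine (Groth.Agent.S5346.result A Q H i).2.2.2 ?_
  let r : Spec (CommRingCat.of (IsLocalRing.ResidueField A)) ⟶ Spec (CommRingCat.of A) :=
    Spec.map (CommRingCat.ofHom (IsLocalRing.residue A))
  haveI : LocallyOfFiniteType ((Over.pullback r).obj Q).hom :=
    MorphismProperty.pullback_snd (P := @LocallyOfFiniteType) Q.hom r inferInstance
  haveI : LocallyOfFiniteType ((Over.pullback r).obj H).hom :=
    MorphismProperty.pullback_snd (P := @LocallyOfFiniteType) H.hom r inferInstance
  have sq : IsPullback (Limits.pullback.fst Q.hom r) ((Over.pullback r).map i).left i.left (Limits.pullback.fst H.hom r) := by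
    refine IsPullback.of_bot ?_ (Limits.pullback.lift_fst _ _ _).symm (IsPullback.of_hasPullback H.hom r)
    rw [Over.w i, show ((Over.pullback r).map i).left ≫ Limits.pullback.snd H.hom r = Limits.pullback.snd Q.hom r from
      Over.w ((Over.pullback r).map i)]
    exact IsPullback.of_hasPullback Q.hom r
  haveI : QuasiCompact ((Over.pullback r).map i).left := MorphismProperty.of_isPullback sq inferInstance
  haveI : Mono ((Over.pullback r).map i) := inferInstance
  exact Groth.Agent.SGA3cLib.isClosedImmersion_of_mono ((Over.pullback r).map i)

end Groth.Agent.S3034
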