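import Groth.Statements.S16037
import Groth.Agent.S3034
import Groth.Agent.S4362
import Groth.Agent.SGA3xLib.SepFibre
-- import your own Groth.Agent.* helpers here

set_option autoImplicit false
set_option backward.isDefEq.respectTransparency false
set_option backward.isDefEq.respectTransparency.types false
universe u
open CategoryTheory CategoryTheory.Limits AlgebraicGeometry MonoidalCategory MonObj
open GrpSch

namespace Groth.Agent.S16037


open CategoryTheory Limits AlgebraicGeometry in
/-- a schematically dominant morphism factors through no smaller closed subscheme -/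
theorem isIso_of_factor {G W Y : Scheme.{u}} (i : W ⟶ Y) [IsClosedImmersion i] (g : G ⟶ W) (f : G ⟶ Y)
    (h : g ≫ i = f) (hf : f.ker = ⊥) : IsIso i := by
  rw [IsClosedImmersion.isIso_iff_ker_eq_bot, eq_bot_iff, ← hf, ← h]
  exact g.le_ker_comp i

open CategoryTheory Limits AlgebraicGeometry in
theorem exists_factor {G C Y Z : Scheme.{u}} (i : C ⟶ Z) [IsClosedImmersion i] (g : G ⟶ C) (f : G ⟶ Y) (π : Y ⟶ Z)
    (h : g ≫ i = f ≫ π) (hf : f.ker = ⊥) : ∃ l : Y ⟶ C, l ≫ i = π := by
  haveI := isIso_of_factor (pullback.fst π i) (pullback.lift f g h.symm) f (pullback.lift_fst _ _ _) hf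
  exact ⟨inv (pullback.fst π i) ≫ pullback.snd π i, by rw [Category.assoc, ← pullback.condition, IsIso.inv_hom_id_assoc]⟩

open CategoryTheory Limits AlgebraicGeometry in
theorem ext_of_ker_eq_bot {S : Scheme.{u}} {G Y Z : Over S} [IsSeparated Z.hom] (f : G ⟶ Y) (a b : Y ⟶ Z)
    (h : f ≫ a = f ≫ b) (hf : f.left.ker = ⊥) : a = b := by
  let d := pullback.diagonal Z.hom
  let ab : Y.left ⟶ pullback Z.hom Z.hom := pullback.lift a.left b.left (by rw [Over.w, Over.w])
  obtain ⟨l, hl⟩ := exists_factor d (f.left ≫ a.left) f.left ab (by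
    refine pullback.hom_ext ?_ ?_
    · simp [d, ab]
    · simpa [d, ab] using congrArg (fun t => t.left) h) hf
  have h₁ : l = a.left := by simpa [d, ab] using congrArg (· ≫ pullback.fst Z.hom Z.hom) hl
  have h₂ : l = b.left := by simpa [d, ab] using congrArg (· ≫ pullback.snd Z.hom Z.hom) hl
  ext1
  exact h₁.symm.trans h₂

end Groth.Agent.S16037

namespace Groth.Agent.S16037

/-- Over a field k, let G be a group scheme of finite type, G' a group scheme which is a cofiltered
limit of group schemes of finite type (limit cone of homomorphisms), and u : G ⟶ G' a quasi-compact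
homomorphism which is schematically dominant. Then u is faithfully flat and G' is of finite type. -/
theorem result
    (k : Type u) [Field k] (G : Over (Spec (CommRingCat.of k))) [GrpObj G]
    [LocallyOfFiniteType G.hom] [QuasiCompact G.hom]
    (J : Type u) [SmallCategory J] [IsCofiltered J] (D : J ⥤ Over (Spec (CommRingCat.of k)))
    [∀ j, GrpObj (D.obj j)] [∀ (j j' : J) (φ : j ⟶ j'), IsMonHom (D.map φ)]
    (hD : ∀ j, LocallyOfFiniteType (D.obj j).hom ∧ QuasiCompact (D.obj j).hom)
    (c : Cone D) (hc : IsLimit c) [GrpObj c.pt] [∀ j, IsMonHom (M := c.pt) (N := D.obj j) (c.π.app j)]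
    (u : G ⟶ c.pt) [IsMonHom u] [QuasiCompact u.left] (hdom : u.left.ker = ⊥) :
    Flat u.left ∧ Surjective u.left ∧ LocallyOfFiniteType c.pt.hom ∧ QuasiCompact c.pt.hom := by
  classical
  haveI := fun j => (hD j).1
  haveI := fun j => (hD j).2
  haveI : ∀ j, IsSeparated (D.obj j).hom := fun j => Groth.Agent.SGA3xLib.isSeparated_of_grpObj _
  let f : ∀ j, G ⟶ D.obj j := fun j => u ≫ c.π.app j
  haveI : ∀ j, IsMonHom (f j) := fun j => inferInstance
  haveI : ∀ j, QuasiCompact (f j).left := fun j => by
    haveI : QuasiCompact ((f j).left ≫ (D.obj j).hom) := (Over.w (f j)).symm ▸ ‹QuasiCompact G.hom›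
    exact QuasiCompact.of_comp _ (D.obj j).hom
  haveI : Flat G.hom := inferInstance
  choose C hC p i hp hi hpi hpf hps hpl hci using fun j =>
    Groth.Agent.S3034.result k G (D.obj j) (f j)
      (inferInstanceAs (Flat (Y := Spec (CommRingCat.of k)) (pullback.snd (f j).left (η[D.obj j] : 𝟙_ (Over (Spec (CommRingCat.of k))) ⟶ D.obj j).left)))
  haveI : ∀ j, Flat (p j).left := hpf
  haveI : ∀ j, Surjective (p j).left := hps
  haveI : ∀ j, LocallyOfFinitePresentation (p j).left := hpl
  haveI := hci
  have hpiL : ∀ j, (p j).left ≫ (i j).left = (f j).left := fun j => congrArg (fun t => t.left) (hpi j)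
  haveI : ∀ j, IsSeparated (C j).hom := fun j => by
    rw [← Over.w (i j)]; infer_instance
  -- the equivalence relations
  let T := pullback G.hom G.hom
  haveI : IsLocallyNoetherian T := LocallyOfFiniteType.isLocallyNoetherian (pullback.fst G.hom G.hom ≫ G.hom)
  haveI : CompactSpace T := QuasiCompact.compactSpace_of_compactSpace (pullback.fst G.hom G.hom ≫ G.hom)
  haveI : IsNoetherian T := ⟨⟩
  haveI : WellFoundedGT T.IdealSheafData := Groth.Agent.S4362.result T
  let d : ∀ j, pullback (p j).left (p j).left ⟶ T := fun j =>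
    pullback.lift (pullback.fst _ _) (pullback.snd _ _) (by
      rw [← Over.w (p j), ← Category.assoc, pullback.condition, Category.assoc])
  haveI : ∀ j, IsClosedImmersion (d j) := fun j => by
    have : d j = pullback.mapDesc (p j).left (p j).left (C j).hom ≫
        pullback.map _ _ _ _ (𝟙 _) (𝟙 _) (𝟙 _) (by simp) (by simp) := by
      refine pullback.hom_ext ?_ ?_ <;> simp [d]
    rw [this]; infer_instance
  obtain ⟨j₀⟩ := (IsCofiltered.nonempty : Nonempty J)
  obtain ⟨_, ⟨j₀, rfl⟩, hmax⟩ := (wellFounded_gt (α := T.IdealSheafData)).has_min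
    (Set.range fun j => (d j).ker) ⟨_, j₀, rfl⟩
  have hcomp : ∀ {a b : J} (φ : a ⟶ b), ∃ l : C a ⟶ C b, p a ≫ l = p b := by
    intro a b φ
    haveI : Mono (i b) := (Over.forget _).mono_of_mono_map (show Mono (i b).left from inferInstance)
    have hw : f a ≫ D.map φ = f b := by simp [f]
    have hb : ∀ {Z : Scheme.{u}} (x y : Z ⟶ G.left), x ≫ (p a).left = y ≫ (p a).left →
        x ≫ (p b).left = y ≫ (p b).left := fun x y h => by
      rw [← cancel_mono (i b).left, Category.assoc, Category.assoc, hpiL, ← hw, Over.comp_left, ← hpiL]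
      simp only [← Category.assoc, h]
    refine ⟨Over.homMk (EffectiveEpi.desc (p a).left (p b).left hb) ?_, ?_⟩
    · rw [← cancel_epi (p a).left, ← Category.assoc, EffectiveEpi.fac (p a).left (p b).left hb, Over.w, Over.w]
    · ext1; exact EffectiveEpi.fac (p a).left (p b).left hb
  have hst : ∀ {j : J}, (j ⟶ j₀) → ∃ t : C j₀ ⟶ C j, p j₀ ≫ t = p j := by
    intro j φ
    obtain ⟨l, hl⟩ := hcomp φ
    let m : pullback (p j).left (p j).left ⟶ pullback (p j₀).left (p j₀).left :=
      pullback.lift (pullback.fst _ _) (pullback.snd _ _) (by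
        rw [← hl, Over.comp_left, ← Category.assoc, pullback.condition, Category.assoc])
    have hm : m ≫ d j₀ = d j := by refine pullback.hom_ext ?_ ?_ <;> simp [m, d]
    have hle : (d j₀).ker ≤ (d j).ker := hm ▸ m.le_ker_comp (d j₀)
    have heq : (d j₀).ker = (d j).ker := by
      rcases hle.eq_or_lt with h | h
      · exact h
      · exact absurd h (hmax _ ⟨j, rfl⟩)
    have hb : ∀ {Z : Scheme.{u}} (x y : Z ⟶ G.left), x ≫ (p j₀).left = y ≫ (p j₀).left →
        x ≫ (p j).left = y ≫ (p j).left := fun x y h => by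
      let z := pullback.lift x y h ≫ IsClosedImmersion.lift (d j) (d j₀) heq.ge
      have hz : z ≫ d j = pullback.lift x y h ≫ d j₀ := by
        rw [Category.assoc, IsClosedImmersion.lift_fac]
      have h1 : z ≫ pullback.fst _ _ = x := by
        simpa [d] using congrArg (· ≫ pullback.fst G.hom G.hom) hz
      have h2 : z ≫ pullback.snd _ _ = y := by
        simpa [d] using congrArg (· ≫ pullback.snd G.hom G.hom) hz
      rw [← h1, ← h2, Category.assoc z, Category.assoc z, pullback.condition]
    refine ⟨Over.homMk (EffectiveEpi.desc (p j₀).left (p j).left hb) ?_, ?_⟩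
    · rw [← cancel_epi (p j₀).left, ← Category.assoc, EffectiveEpi.fac, Over.w, Over.w]
    · ext1; exact EffectiveEpi.fac (p j₀).left (p j).left hb
  haveI : Epi (p j₀) := (Over.forget _).epi_of_epi_map (show Epi (p j₀).left from inferInstance)
  have hs : ∀ j, ∃ s : C j₀ ⟶ D.obj j, p j₀ ≫ s = f j := fun j => by
    obtain ⟨t, ht⟩ := hst (IsCofiltered.minToLeft j₀ j)
    exact ⟨t ≫ i _ ≫ D.map (IsCofiltered.minToRight j₀ j), by
      rw [reassoc_of% ht, reassoc_of% hpi (IsCofiltered.min j₀ j)]; simp [f]⟩
  choose s hs using hs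
  have hnat : ∀ (a b : J) (φ : a ⟶ b), s b = s a ≫ D.map φ := fun a b φ => by
    rw [← cancel_epi (p j₀), hs, ← Category.assoc, hs]
    simp [f]
  let cone : Cone D :=
    { pt := C j₀
      π := { app := s, naturality := fun a b φ => (Category.id_comp _).trans (hnat a b φ) } }
  let h : C j₀ ⟶ c.pt := hc.lift cone
  have hph : p j₀ ≫ h = u := hc.hom_ext fun j => by
    rw [Category.assoc, show h ≫ c.π.app j = s j from hc.fac cone j, hs]
  obtain ⟨l, hl⟩ := exists_factor (i j₀).left (p j₀).left u.left (c.π.app j₀).left (hpiL j₀) hdom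
  let q : c.pt ⟶ C j₀ := Over.homMk l (by rw [← Over.w (i j₀), ← Category.assoc, hl]; exact Over.w _)
  have huq : u ≫ q = p j₀ := by
    haveI : Mono (i j₀) := (Over.forget _).mono_of_mono_map (show Mono (i j₀).left from inferInstance)
    rw [← cancel_mono (i j₀), Category.assoc, show q ≫ i j₀ = c.π.app j₀ from Over.OverMorphism.ext hl, hpi]
  have hhq : h ≫ q = 𝟙 _ := by rw [← cancel_epi (p j₀), reassoc_of% hph, huq, Category.comp_id]
  have hqh : q ≫ h = 𝟙 _ := hc.hom_ext fun j => by
    refine ext_of_ker_eq_bot u _ _ ?_ hdom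
    rw [Category.id_comp, Category.assoc, reassoc_of% huq, show h ≫ c.π.app j = s j from hc.fac cone j, hs]
  haveI : IsIso h := ⟨q, hhq, hqh⟩
  haveI : IsIso h.left := inferInstanceAs (IsIso ((Over.forget _).map h))
  haveI : IsIso q := ⟨h, hqh, hhq⟩
  haveI : IsIso q.left := inferInstanceAs (IsIso ((Over.forget _).map q))
  haveI : LocallyOfFiniteType (C j₀).hom := by rw [← Over.w (i j₀)]; infer_instance
  haveI : QuasiCompact (C j₀).hom := by rw [← Over.w (i j₀)]; infer_instance
  refine ⟨?_, ?_, ?_, ?_⟩
  · rw [← hph, Over.comp_left]; infer_instance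
  · rw [← hph, Over.comp_left]; infer_instance
  · rw [← Over.w q]; infer_instance
  · rw [← Over.w q]; infer_instance

end Groth.Agent.S16037
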