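import Groth.Statements.S16039
import Groth.Agent.AlgSpLib.SchemeNhd
import Groth.Agent.AlgSpLib.EqvQuot
import Groth.Agent.AlgSpLib.DiagCrit
import Groth.Agent.AlgSpLib.NoethSpace
import Groth.Agent.Stk19b.Fppf.Bootstrap
import Groth.Agent.Et18.EtaleLocalRing
-- import your own Groth.Agent.* helpers here

set_option autoImplicit false
universe u
open CategoryTheory CategoryTheory.Limits AlgebraicGeometry
open AlgSp

namespace Groth.Agent.S16039

open Groth.Agent.AlgSpLib

set_option backward.isDefEq.respectTransparency.types false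
set_option backward.isDefEq.respectTransparency false

/-- morphisms locally of finite type to locally Noetherian schemes are locally of finite presentation -/
theorem lfp_of_lft {X Y : Scheme.{u}} (f : X ⟶ Y) [IsLocallyNoetherian Y] [hf : LocallyOfFiniteType f] :
    LocallyOfFinitePresentation f := by
  rw [HasRingHomProperty.iff_appLE (P := @LocallyOfFinitePresentation)]
  intro U V e
  have := IsLocallyNoetherian.component_noetherian U
  exact RingHom.FinitePresentation.of_finiteType.mp ((HasRingHomProperty.iff_appLE.mp hf) U V e)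

/-- flat morphisms do not decrease the dimension of local rings -/
theorem stalk_dim_le_of_flat {X Y : Scheme.{u}} (f : X ⟶ Y) [Flat f] (x : X) :
    ringKrullDim ↥(Y.presheaf.stalk (f x)) ≤ ringKrullDim ↥(X.presheaf.stalk x) := by
  have hf : (f.stalkMap x).hom.Flat := Flat.stalkMap f x
  algebraize [(f.stalkMap x).hom]
  haveI : IsLocalHom (algebraMap (Y.presheaf.stalk (f x)) (X.presheaf.stalk x)) :=
    inferInstanceAs <| IsLocalHom (f.stalkMap x).hom
  haveI : Module.FaithfullyFlat (Y.presheaf.stalk (f x)) (X.presheaf.stalk x) :=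
    Module.FaithfullyFlat.of_flat_of_isLocalHom
  refine iSup_le fun l => ?_
  obtain ⟨P, hP⟩ := PrimeSpectrum.comap_surjective_of_faithfullyFlat (B := ↥(X.presheaf.stalk x)) l.last
  haveI : P.asIdeal.LiesOver l.last.asIdeal := ⟨(congrArg PrimeSpectrum.asIdeal hP).symm⟩
  obtain ⟨L, hL, -, -⟩ := Ideal.exists_ltSeries_of_hasGoingDown l P.asIdeal
  rw [← hL]
  exact le_iSup (fun q : LTSeries (PrimeSpectrum ↥(X.presheaf.stalk x)) => (q.length : WithBot ℕ∞)) L

/-- Let S be a locally Noetherian scheme, Y and Z schemes locally of finite type over S and s, t : Z ⟶ Y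
a flat equivalence relation of finite type over S with (t, s) : Z ⟶ Y ×_S Y a closed immersion, and
let X = Y/Z be the fppf quotient sheaf. Then the largest open subspace of X which is a scheme
contains every point of codimension at most 1: for every point y of Y whose local ring has dimension
at most 1 there is an open immersion h_U ⟶ X from a scheme whose image contains the image of y. -/
theorem result
    (S : Scheme.{u}) [IsLocallyNoetherian S] {Z Y : Over S} (s t : Z ⟶ Y)
    [LocallyOfFiniteType Y.hom] [LocallyOfFiniteType Z.hom]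
    (hrel : AlgSp.IsEqvRel s t) [Flat s.left] [Flat t.left]
    [LocallyOfFiniteType s.left] [QuasiCompact s.left] [LocallyOfFiniteType t.left] [QuasiCompact t.left]
    (hsep : IsClosedImmersion (pullback.lift t.left s.left ((Over.w t).trans (Over.w s).symm) : Z.left ⟶ pullback Y.hom Y.hom))
    (y : ↥Y.left) (hy : ringKrullDim ↥(Y.left.presheaf.stalk y) ≤ 1) :
    ∃ (U : Over S) (j : (AlgSp.yon S).obj U ⟶ AlgSp.quotSp ((AlgSp.yon S).map s) ((AlgSp.yon S).map t)),
      AlgSp.RepWith @IsOpenImmersion j ∧
      AlgSp.Points.ofPt (AlgSp.quotSpπ ((AlgSp.yon S).map s) ((AlgSp.yon S).map t)) y ∈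
        Set.range (AlgSp.Points.map j) := by
  haveI : IsLocallyNoetherian Y.left := LocallyOfFiniteType.isLocallyNoetherian Y.hom
  haveI : LocallyOfFinitePresentation s.left := lfp_of_lft s.left
  haveI := etLocal_flat.{u}.localTarget
  haveI := etLocal_lfp.{u}.localTarget
  let F := quotSp ((yon S).map s) ((yon S).map t)
  let π : (yon S).obj Y ⟶ F := quotSpπ _ _
  have hF : IsAlgSpace F := Stk19b.Fppf.isAlgSpace_quotSp_of_isEqvRel hrel
  have hπf : RepWith @Flat π := repWith_quotSpπ hrel @Flat ‹_›
  have hπl : RepWith @LocallyOfFinitePresentation π := repWith_quotSpπ hrel @LocallyOfFinitePresentation ‹_›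
  have hπs : RepWith @Surjective π := repWith_surjective_quotSpπ hrel
  have sqK : IsPullback ((yon S).map t) ((yon S).map s) π π := isPullback_quotSpπ (isEqvRelSp_yon hrel)
  have hFsep : IsSeparatedSp F := by
    have : Sheaf.IsLocallySurjective (prod.map π π) :=
      isLocallySurjective_of_repWith (repWith_prod_map hπf hπf) (repWith_prod_map hπl hπl) (repWith_prod_map hπs hπs)
    exact repWith_of_isLocallySurjective hF.diag (prod.map π π) (isPullback_diag_prod_map sqK) _
      (repWith_prod_lift t s hsep)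
  have hY : IsAlgSpace ((yon S).obj Y) := IsAlgSpace.yon_obj Y
  have hYN : IsLocNoethSp ((yon S).obj Y) :=
    ⟨Y, 𝟙 _, repWith_of_isIso (P := @Etale) _, repWith_of_isIso (P := @Surjective) _, inferInstance⟩
  have hFN : IsLocNoethSp F := isLocNoethSp_of_surjective hF (surjective_map_of_repWith hπs)
    (locP_of_repWith etLocal_flat hY hπf) (locP_of_repWith etLocal_lfp hY hπl) hYN
  have hat : HasAt (fun U u => ringKrullDim ↥(U.presheaf.stalk u) ≤ 1) F (Points.ofPt π y) := by
    obtain ⟨U, a, ha, has⟩ := hF.atlas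
    obtain ⟨u, hu⟩ := surjective_ofPt a has (Points.ofPt π y)
    refine ⟨U, a, u, ha, hu, ?_⟩
    obtain ⟨Q, w, fst, sq, hw⟩ := exists_yon_of_repWith hπf a
    haveI : Flat w.left := hw
    obtain ⟨c, rfl⟩ := (yon S).map_surjective fst
    haveI : Etale c.left := ha.property _ _ _ sq.flip
    obtain ⟨q, hq1, hq2⟩ := (ofPt_eq_ofPt_iff sq y u).1 hu.symm
    refine le_trans (le_trans ?_ (Groth.Agent.Et18.ringKrullDim_stalk_eq_of_etale c.left q).le) (hq1 ▸ hy)
    exact hq2 ▸ stalk_dim_le_of_flat w.left q
  obtain ⟨X', j, hj, hrep, hyj⟩ := SchemeNhd.exists_scheme_nhd ⟨F, hF⟩ hFsep hFN (Points.ofPt π y) hat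
  obtain ⟨U, ⟨e⟩⟩ := exists_iso_yon_of_isRepresentable hrep
  refine ⟨U, e.hom ≫ j.hom, RepWith.comp (repWith_of_isIso (P := @IsOpenImmersion) _) hj, ?_⟩
  obtain ⟨z, hz⟩ := hyj
  exact ⟨Points.map e.inv z, by rw [← Points.map_comp, e.inv_hom_id_assoc]; exact hz⟩

end Groth.Agent.S16039
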