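import Groth.Statements.S1604
import Groth.Agent.VarietyLib.DivisorCut
import Groth.Agent.VarietyLib.CurveDegreeApps
import Groth.Agent.CurveRR24.Degree
import Groth.Agent.DimLib.Zero
import Groth.Agent.AbCubeLib.FiniteDegree

set_option autoImplicit false
universe u
open CategoryTheory CategoryTheory.Limits AlgebraicGeometry
open Variety
open Groth.Agent

namespace Groth.Agent.S1604

/-- Let X be proper of dimension at most one over k and D an effective Cartier divisor with ideal sheaf
I. Then D is finite over k, and for E finite locally free of rank n and any invertible module L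
inverse to I (so L plays the role of O_X(D)) one has deg(E ⊗ L) = n · dim_k H^0(X, O_D) + deg E. -/
theorem result (k : Type u) [Field k] (X : Scheme.{u}) [X.Over (Spec (CommRingCat.of k))] [IsProper (X ↘ (Spec (CommRingCat.of k)))] (hdim : topologicalKrullDim X ≤ 1)
    (D : X.IdealSheafData) (hD : BlowUp.IsEffCartierIdeal D)
    (L : X.Modules) (hL : PicF.IsInvertible L) (hLD : ClSub.IsInverseOf L (ClSub.idealMod D))
    (n : ℕ) (E : X.Modules) (hE : FlatMod.IsFinLocFreeOfRank n E) :
    IsFinite (D.subschemeι ≫ (X ↘ (Spec (CommRingCat.of k)))) ∧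
      Curv2.deg k X (CohB1.tensorMod E L) n = n * Module.finrank k (Coh.HH X (ClSub.quotMod D) 0) + Curv2.deg k X E n := by
  haveI := EulerLib.isNoetherian_of_proper (X := X) k
  have hd0 : topologicalKrullDim (D.support : Set X) ≤ ((0 : ℕ) : WithBot ℕ∞) :=
    VarietyLib.dim_support_le_of_effCartier k (hdim.trans (le_of_eq (by norm_num))) hD
  have hD0 : topologicalKrullDim D.subscheme ≤ 0 := by
    rw [Nat.cast_zero] at hd0
    refine le_trans (le_of_eq ?_) hd0
    rw [← D.range_subschemeι]
    exact IsHomeomorph.topologicalKrullDim_eq _ D.subschemeι.isClosedEmbedding.isEmbedding.toHomeomorph.isHomeomorph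
  have hfin : IsFinite (D.subschemeι ≫ (X ↘ Spec (CommRingCat.of k))) :=
    DimLib.isFinite_of_dim_le_zero _ hD0
  refine ⟨hfin, ?_⟩
  have hh := VarietyLib.deg_tensor_rank k hdim hE (PicLib.isFinLocFreeOfRank_one hL)
  rw [Nat.mul_one, Nat.cast_one, one_mul] at hh
  rw [hh]
  suffices h : Curv2.deg k X L 1 = Module.finrank k (Coh.HH X (ClSub.quotMod D) 0) by rw [h]
  let Q := ClSub.quotMod D
  letI : D.subscheme.Over (Spec (CommRingCat.of k)) := ⟨D.subschemeι ≫ (X ↘ Spec (CommRingCat.of k))⟩
  haveI : IsAffine D.subscheme := isAffine_of_isAffineHom (D.subschemeι ≫ (X ↘ Spec (CommRingCat.of k)))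
  haveI := EulerLib.isSeparated_of_proper (X := X) k
  haveI : Coh.IsQCoh (Coh.structureModule D.subscheme) := QCohLoc.isQCoh_structureModule _
  have hQ : Curv2.euler k X Q = (Module.finrank k (Coh.HH X Q 0) : ℤ) := by
    rw [show Curv2.euler k X Q = _ from (AbCubeLib.euler_push k D.subschemeι rfl (Coh.structureModule D.subscheme)).symm,
      Curv2.euler, finsum_eq_single _ 0 fun q hq => by
        haveI := Coherent.subsingleton_HH_of_isAffine (Coh.structureModule D.subscheme) q (Nat.pos_of_ne_zero hq)
        rw [Module.finrank_zero_of_subsingleton, Nat.cast_zero, mul_zero]]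
    rw [pow_zero, one_mul]
    exact congrArg Nat.cast (SerreDual.hpush D.subschemeι k rfl (Coh.structureModule D.subscheme) 0).finrank_eq
  have hc := VarietyLib.chiCl_effCartier_diff k hL hLD 1
  rw [mul_one, show (1 : EulerLib.InvCl X) = EulerLib.InvCl.mk (Coh.structureModule X) AmpleLib.isInvertible_structureModule from rfl,
    EulerLib.chiCl_mk, EulerLib.chiCl_mk, EulerLib.chiCl_mk, EulerLib.euler_congr k X (AmpleLib.unitTensorIso L),
    EulerLib.euler_congr k X (AmpleLib.unitTensorIso (Coh.structureModule X)),
    CurveRR24.euler_twist_of_small k (CurveRR24.isCoh_quotMod D) hL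
      (((EulerLib.dim_mono (CurveRR24.support_quotMod_subset D)).trans hd0).trans_lt (by norm_num)), hQ] at hc
  rw [Curv2.deg, Nat.cast_one, one_mul]
  exact hc

end Groth.Agent.S1604
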