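import Groth.Statements.S16040
import Groth.Agent.AlgSpLib.DedDescent

set_option autoImplicit false
universe u
open CategoryTheory CategoryTheory.Limits AlgebraicGeometry
open AlgSp

set_option backward.isDefEq.respectTransparency.types false
set_option backward.isDefEq.respectTransparency false
set_option linter.style.haveILetI false

namespace Groth.Agent.S16040

open Groth.Agent.AlgSpLib FpqcGlue

theorem isPullback_of_prod {S : Scheme.{u}} (G : AlgSp.Sp S) (T : Over S) {P : AlgSp.Sp S}
    (e : P ≅ G ⨯ (AlgSp.yon S).obj T) :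
    IsPullback (e.hom ≫ prod.fst) (e.hom ≫ prod.snd) ((isTerminal_yon_base S).some.from G)
      ((AlgSp.yon S).map (toB T)) := by
  have hp : IsPullback (prod.fst : G ⨯ (AlgSp.yon S).obj T ⟶ G) prod.snd ((isTerminal_yon_base S).some.from G)
      ((AlgSp.yon S).map (toB T)) := by
    rw [(isTerminal_yon_base S).some.hom_ext ((AlgSp.yon S).map (toB T)) ((isTerminal_yon_base S).some.from _)]
    exact IsPullback.of_is_product' (prodIsProd G ((AlgSp.yon S).obj T)) (isTerminal_yon_base S).some
  exact hp.of_iso e.symm (Iso.refl _) (Iso.refl _) (Iso.refl _) (by simp) (by simp) (by simp) (by simp)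

theorem fpqcSp_prod {S : Scheme.{u}} {G H : AlgSp.Sp S} (hG : FpqcSp G) (hH : FpqcSp H) : FpqcSp (G ⨯ H) := by
  refine ⟨fun {A B} c _ _ _ x y e => ?_, fun {A B} c _ _ _ s hs => ?_⟩
  · refine Limits.prod.hom_ext (hG.ext c _ _ ?_) (hH.ext c _ _ ?_)
    · rw [reassoc_of% e]
    · rw [reassoc_of% e]
  · obtain ⟨t₁, h₁⟩ := hG.glue c (s ≫ prod.fst) fun Z x y e => by rw [reassoc_of% (hs Z x y e)]
    obtain ⟨t₂, h₂⟩ := hH.glue c (s ≫ prod.snd) fun Z x y e => by rw [reassoc_of% (hs Z x y e)]
    refine ⟨prod.lift t₁ t₂, Limits.prod.hom_ext ?_ ?_⟩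
    · rw [Category.assoc, prod.lift_fst, h₁]
    · rw [Category.assoc, prod.lift_snd, h₂]


theorem range_fromSpec_residue {S : Scheme.{u}} (s : ↥S) :
    Set.range (Spec.map (CommRingCat.ofHom
        (Ideal.Quotient.mk (IsLocalRing.maximalIdeal ↑(S.presheaf.stalk s) ^ (0 + 1)))) ≫ S.fromSpecStalk s) ⊆ {s} := by
  set f := CommRingCat.ofHom (Ideal.Quotient.mk (IsLocalRing.maximalIdeal ↑(S.presheaf.stalk s) ^ (0 + 1)))
  rintro _ ⟨x, rfl⟩
  have hx : Spec.map f x = IsLocalRing.closedPoint _ := by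
    refine PrimeSpectrum.ext ((IsLocalRing.maximalIdeal.isMaximal _).eq_of_le (PrimeSpectrum.isPrime _).ne_top ?_).symm
    intro r hr
    show Ideal.Quotient.mk _ r ∈ x.asIdeal
    rw [Ideal.Quotient.eq_zero_iff_mem.2 (by rwa [zero_add, pow_one])]
    exact x.asIdeal.zero_mem
  show (Spec.map f ≫ S.fromSpecStalk s) x = s
  rw [Scheme.Hom.comp_apply, hx]
  exact Scheme.fromSpecStalk_closedPoint

/-- Let S be a Dedekind scheme and G an fppf sheaf over S which is an fpqc sheaf and is locally of
finite presentation (limit preserving). Suppose that the schematic closure of the generic fibre of G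
is representable — a flat S-scheme Ḡ with a monomorphism h_Ḡ ⟶ G through which every morphism from a
flat S-scheme factors —, that every infinitesimal neighbourhood G ×_S Spec(O_{S,s}/m_s^(n+1)) of
every fibre is representable, and that G ×_S T is representable by a scheme locally of finite
presentation over T for some faithfully flat quasi-compact T ⟶ S. Then G is representable. -/
theorem result
    (S : Scheme.{u}) [IsIntegral S] (hD : ∀ U : S.affineOpens, Nonempty (U : S.Opens) → IsDedekindDomain Γ(S, U))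
    (G : AlgSp.Sp S) (hfpqc : Presheaf.IsSheaf (Scheme.fpqcTopology.over S) G.obj)
    (hlfp : AlgSp.IsLimitPreserving G.obj)
    (hbar : ∃ (Gb : Over S) (j : (AlgSp.yon S).obj Gb ⟶ G), Flat Gb.hom ∧ Mono j ∧
      ∀ (T' : Over S), Flat T'.hom → ∀ a : (AlgSp.yon S).obj T' ⟶ G, ∃ b : T' ⟶ Gb, (AlgSp.yon S).map b ≫ j = a)
    (hinf : ∀ (s : ↥S) (n : ℕ), (G ⨯ (AlgSp.yon S).obj (Over.mk (Spec.map (CommRingCat.ofHom
        (Ideal.Quotient.mk (IsLocalRing.maximalIdeal ↑(S.presheaf.stalk s) ^ (n + 1)))) ≫ S.fromSpecStalk s))).obj.IsRepresentable)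
    (T : Over S) [Flat T.hom] [Surjective T.hom] [QuasiCompact T.hom]
    (X' : Over S) (q : X' ⟶ T) [LocallyOfFinitePresentation q.left]
    (e : (AlgSp.yon S).obj X' ≅ G ⨯ (AlgSp.yon S).obj T) (he : e.hom ≫ prod.snd = (AlgSp.yon S).map q) :
    G.obj.IsRepresentable := by
  classical
  obtain ⟨Gb, j, hflat, hmono, hj⟩ := hbar
  have hfp := FpqcSp.of_isSheaf hfpqc
  have sq := he ▸ isPullback_of_prod G T e
  -- the pieces over an affine open of the base
  have hloc : ∀ (V : S.Opens), IsAffineOpen V → ∀ z : AlgSp.Points (G ⨯ (AlgSp.yon S).obj (Over.mk V.ι)),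
      ∃ (A : Over S) (i : (AlgSp.yon S).obj A ⟶ G), AlgSp.RepWith @IsOpenImmersion i ∧
        AlgSp.Points.map prod.fst z ∈ Set.range (AlgSp.Points.map i) := by
    intro V hV z
    let B : Over S := Over.mk V.ι
    let G' : AlgSp.Sp S := G ⨯ (AlgSp.yon S).obj B
    haveI : IsOpenImmersion B.hom := inferInstanceAs (IsOpenImmersion V.ι)
    haveI : IsAffine B.left := hV
    haveI hne : Nonempty ↥B.left := by
      obtain ⟨y, -⟩ := (Points.schemeEquiv B).surjective (AlgSp.Points.map prod.snd z)
      exact ⟨y⟩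
    haveI : IsIntegral B.left := by
      haveI : Nonempty ↥V.toScheme := hne
      exact inferInstanceAs (IsIntegral V.toScheme)
    have hDB : ∀ U : B.left.affineOpens, Nonempty (U : B.left.Opens) → IsDedekindDomain Γ(B.left, U) := fun U hU =>
      hD ⟨_, U.2.image_of_isOpenImmersion V.ι⟩ (by
        obtain ⟨⟨x, hx⟩⟩ := hU
        exact ⟨⟨V.ι x, x, hx, rfl⟩⟩)
    have sqB : IsPullback (prod.fst : G' ⟶ G) prod.snd ((isTerminal_yon_base S).some.from G)
        ((AlgSp.yon S).map (toB B)) := by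
      have := isPullback_of_prod G B (Iso.refl (G ⨯ (AlgSp.yon S).obj B))
      simpa using this
    have hι : AlgSp.RepWith @IsOpenImmersion (prod.fst : G' ⟶ G) := RepWith.baseChange sqB.flip
      ((repWith_yon_map_iff (P := @IsOpenImmersion) (toB B)).2 ‹IsOpenImmersion B.hom›)
    haveI : Mono (prod.fst : G' ⟶ G) := mono_of_repWith (fun _ _ g (_ : IsOpenImmersion g) => (inferInstance : Mono g)) hι
    -- an affine cover of the part of the cover over the open
    let TV := pullback (toB T) (toB B)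
    have sqT := (IsPullback.of_hasPullback (toB T) (toB B)).map (Over.forget S)
    haveI : Flat (pullback.snd (toB T) (toB B)).left := MorphismProperty.of_isPullback (P := @Flat) sqT ‹Flat T.hom›
    haveI : Surjective (pullback.snd (toB T) (toB B)).left :=
      MorphismProperty.of_isPullback (P := @Surjective) sqT ‹Surjective T.hom›
    haveI : QuasiCompact (pullback.snd (toB T) (toB B)).left :=
      MorphismProperty.of_isPullback (P := @QuasiCompact) sqT ‹QuasiCompact T.hom›
    haveI : CompactSpace ↥TV.left := QuasiCompact.compactSpace_of_compactSpace (pullback.snd (toB T) (toB B)).left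
    let 𝒰 := TV.left.affineCover.finiteSubcover
    haveI : ∀ i, IsAffine (𝒰.X i) := fun i => inferInstanceAs (IsAffine (Spec _))
    let cT : (∐ 𝒰.X) ⟶ TV.left := Sigma.desc 𝒰.f
    haveI : Flat cT := IsZariskiLocalAtSource.sigmaDesc fun i => inferInstance
    haveI : Surjective cT := ⟨fun y => by
      obtain ⟨i, w, hw⟩ := 𝒰.exists_eq y
      exact ⟨Sigma.ι 𝒰.X i w, by rw [← Scheme.Hom.comp_apply, Sigma.ι_desc, hw]⟩⟩
    let T₀ : Over S := Over.mk (cT ≫ TV.hom)
    let c₀ : T₀ ⟶ TV := Over.homMk cT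
    let π₀ : T₀ ⟶ B := c₀ ≫ pullback.snd (toB T) (toB B)
    haveI : IsAffine T₀.left := inferInstanceAs (IsAffine (∐ 𝒰.X))
    haveI : Flat π₀.left := by
      show Flat (cT ≫ (pullback.snd (toB T) (toB B)).left)
      infer_instance
    haveI : Surjective π₀.left := by
      show Surjective (cT ≫ (pullback.snd (toB T) (toB B)).left)
      infer_instance
    let τ : T₀ ⟶ T := c₀ ≫ pullback.fst (toB T) (toB B)
    have hτ : τ ≫ toB T = π₀ ≫ toB B := by rw [Category.assoc, Category.assoc, pullback.condition]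
    -- the base change of the space
    let X₀ := pullback q τ
    haveI : LocallyOfFiniteType q.left := inferInstance
    haveI : LocallyOfFiniteType (pullback.snd q τ).left :=
      MorphismProperty.of_isPullback (P := @LocallyOfFiniteType) ((IsPullback.of_hasPullback q τ).map (Over.forget S))
        ‹LocallyOfFiniteType q.left›
    have sq0 := ((IsPullback.of_hasPullback q τ).map (AlgSp.yon S)).paste_horiz sq
    rw [← Functor.map_comp, hτ, Functor.map_comp] at sq0
    let a₀ := sqB.lift ((AlgSp.yon S).map (pullback.fst q τ) ≫ e.hom ≫ prod.fst)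
      ((AlgSp.yon S).map (pullback.snd q τ) ≫ (AlgSp.yon S).map π₀) ((isTerminal_yon_base S).some.hom_ext _ _)
    have sqa : IsPullback a₀ ((AlgSp.yon S).map (pullback.snd q τ)) (prod.snd : G' ⟶ (AlgSp.yon S).obj B)
        ((AlgSp.yon S).map π₀) := by
      refine IsPullback.of_right ?_ (sqB.lift_snd _ _ _) sqB
      rw [sqB.lift_fst]
      exact sq0
    -- the closure of the generic fibre
    let GbB := pullback (toB Gb) (toB B)
    let jB : (AlgSp.yon S).obj GbB ⟶ G' := sqB.lift ((AlgSp.yon S).map (pullback.fst (toB Gb) (toB B)) ≫ j)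
      ((AlgSp.yon S).map (pullback.snd (toB Gb) (toB B))) ((isTerminal_yon_base S).some.hom_ext _ _)
    haveI : Mono (toB B) := by
      haveI : Mono (toB B).left := inferInstanceAs (Mono V.ι)
      exact (Over.forget S).mono_of_mono_map this
    haveI : Mono jB := by
      haveI : Mono ((AlgSp.yon S).map (pullback.fst (toB Gb) (toB B)) ≫ j) := by
        haveI := hmono
        infer_instance
      exact mono_of_mono_fac (show jB ≫ (prod.fst : G' ⟶ G) = _ from sqB.lift_fst _ _ _)
    haveI : Flat GbB.hom := by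
      haveI : Flat (pullback.snd (toB Gb) (toB B)).left := MorphismProperty.of_isPullback (P := @Flat)
        ((IsPullback.of_hasPullback (toB Gb) (toB B)).map (Over.forget S)) hflat
      rw [← Over.w (pullback.snd (toB Gb) (toB B))]
      infer_instance
    have hjB : ∀ (T' : Over S), Flat T'.hom → ∀ b : (AlgSp.yon S).obj T' ⟶ G',
        ∃ k : T' ⟶ GbB, (AlgSp.yon S).map k ≫ jB = b := fun T' hT' b => by
      obtain ⟨k, hk⟩ := hj T' hT' (b ≫ prod.fst)
      obtain ⟨βT, hβT⟩ := (AlgSp.yon S).map_surjective (b ≫ prod.snd)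
      refine ⟨pullback.lift k βT (Over.mkIdTerminal.hom_ext _ _), ?_⟩
      rw [← cancel_mono (prod.fst : G' ⟶ G), Category.assoc,
        show jB ≫ (prod.fst : G' ⟶ G) = _ from sqB.lift_fst _ _ _, ← Functor.map_comp_assoc, pullback.lift_fst, hk]
    -- the closed fibres
    have hfib : ∀ s : ↥B.left, IsClosed ({s} : Set ↥B.left) →
        Nonempty (DedDescent.Fibre (prod.snd : G' ⟶ (AlgSp.yon S).obj B) s) := by
      intro s hs
      let s' : ↥S := V.ι s
      let cm := Spec.map (CommRingCat.ofHom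
        (Ideal.Quotient.mk (IsLocalRing.maximalIdeal ↑(S.presheaf.stalk s') ^ (0 + 1)))) ≫ S.fromSpecStalk s'
      let C : Over S := Over.mk cm
      obtain ⟨Gs, ⟨eGs⟩⟩ := exists_iso_yon_of_isRepresentable (hinf s' 0)
      obtain ⟨γ, hγ⟩ := (AlgSp.yon S).map_surjective (eGs.hom ≫ prod.snd)
      have sqC : IsPullback (eGs.hom ≫ prod.fst) ((AlgSp.yon S).map γ) ((isTerminal_yon_base S).some.from G)
          ((AlgSp.yon S).map (toB C)) := hγ ▸ isPullback_of_prod G C eGs
      have hrange : Set.range cm ⊆ {s'} := range_fromSpec_residue s'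
      let cb : C.left ⟶ B.left := IsOpenImmersion.lift V.ι cm
        (hrange.trans (by rw [Set.singleton_subset_iff]; exact ⟨s, rfl⟩))
      let cB : C ⟶ B := Over.homMk cb (IsOpenImmersion.lift_fac _ _ _)
      have hne : Nonempty ↥C.left := by
        haveI : Nontrivial (↑(S.presheaf.stalk s') ⧸ IsLocalRing.maximalIdeal ↑(S.presheaf.stalk s') ^ (0 + 1)) :=
          Ideal.Quotient.nontrivial_iff.2 (by rw [zero_add, pow_one]; exact Ideal.IsPrime.ne_top inferInstance)
        exact inferInstanceAs (Nonempty (PrimeSpectrum _))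
      have hcb : Set.range cb = {s} := by
        ext y
        have hy : ∀ x, cb x = s := fun x => V.ι.isOpenEmbedding.injective (by
          show (cb ≫ V.ι) x = s'
          exact (congrArg (fun g => g x) (IsOpenImmersion.lift_fac V.ι cm _)).trans (hrange ⟨x, rfl⟩))
        exact ⟨fun ⟨x, hx⟩ => hx ▸ hy x, fun h => ⟨hne.some, (hy _).trans h.symm⟩⟩
      haveI : IsClosedImmersion (Spec.map (CommRingCat.ofHom
          (Ideal.Quotient.mk (IsLocalRing.maximalIdeal ↑(S.presheaf.stalk s') ^ (0 + 1))))) :=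
        IsClosedImmersion.spec_of_surjective _ Ideal.Quotient.mk_surjective
      haveI : IsPreimmersion cb := by
        haveI : IsPreimmersion (cb ≫ V.ι) := by
          rw [IsOpenImmersion.lift_fac]
          infer_instance
        exact IsPreimmersion.of_comp cb V.ι
      obtain ⟨ρ, hρ⟩ : ∃ ρ : (AlgSp.yon S).obj Gs ⟶ G', ρ = sqB.lift (eGs.hom ≫ prod.fst)
        ((AlgSp.yon S).map (γ ≫ cB)) ((isTerminal_yon_base S).some.hom_ext _ _) := ⟨_, rfl⟩
      refine ⟨⟨C, cB, (IsClosedImmersion.of_isPreimmersion cb (hcb ▸ hs) :), hcb, Gs, ρ, γ, ?_⟩⟩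
      refine IsPullback.of_right ?_ (by rw [hρ, sqB.lift_snd, Functor.map_comp]) sqB
      rw [hρ, sqB.lift_fst, ← Functor.map_comp, show cB ≫ toB B = toB C from Over.mkIdTerminal.hom_ext _ _]
      exact sqC
    obtain ⟨A, i, hi, hzi⟩ := DedDescent.exists_pieces hDB (fpqcSp_prod hfp (FpqcSp.yon B))
      (prod.fst : G' ⟶ G) (fun Z βZ g => ⟨prod.lift g ((AlgSp.yon S).map βZ), prod.lift_fst _ _⟩) hlfp sqa jB hjB
      (fun s hs => (hfib s hs).some) z
    refine ⟨A, i ≫ prod.fst, RepWith.comp hi hι, ?_⟩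
    obtain ⟨w, hw⟩ := hzi
    exact ⟨w, by rw [AlgSp.Points.map_comp, hw]⟩
  -- glue
  have hall : ∀ x : ↥X'.left, ∃ (A : Over S) (i : (AlgSp.yon S).obj A ⟶ G), AlgSp.RepWith @IsOpenImmersion i ∧
      AlgSp.Points.ofPt (e.hom ≫ prod.fst) x ∈ Set.range (AlgSp.Points.map i) := by
    intro x
    obtain ⟨V, hV, hxV, -⟩ := exists_isAffineOpen_mem_and_subset (X := S) (x := X'.hom x) (U := ⊤) trivial
    have h1 : AlgSp.Points.map ((isTerminal_yon_base S).some.from G) (AlgSp.Points.ofPt (e.hom ≫ prod.fst) x) =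
        AlgSp.Points.map ((AlgSp.yon S).map (toB (Over.mk V.ι))) (AlgSp.Points.ofScheme (Over.mk V.ι) ⟨X'.hom x, hxV⟩) := by
      rw [AlgSp.Points.map_ofPt, (isTerminal_yon_base S).some.hom_ext (_ ≫ _) ((AlgSp.yon S).map (toB X')),
        AlgSp.Points.ofPt_eq_map_ofScheme, map_yon_map_ofScheme, map_yon_map_ofScheme]
      rfl
    have sqV := isPullback_of_prod G (Over.mk V.ι) (Iso.refl _)
    obtain ⟨z, hz, -⟩ := exists_point_of_isPullback sqV h1
    obtain ⟨A, i, hi, hzi⟩ := hloc V hV z
    refine ⟨A, i, hi, ?_⟩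
    rw [← hz]
    simpa using hzi
  choose A i hi hxi using hall
  haveI : Surjective (toB T).left := ‹Surjective T.hom›
  obtain ⟨X, ⟨eX⟩⟩ := exists_iso_yon_of_openCover (f := i) hi fun z => by
    obtain ⟨x, rfl⟩ := DVRDescent.surjective_ofPt_bc sq z
    exact ⟨x, hxi x⟩
  exact isRepresentable_of_iso_yon (F := G) eX

end Groth.Agent.S16040
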