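import Groth.Statements.S16042
import Groth.Agent.AlgSpLib.DVRDescent
import Groth.Agent.AlgSpLib.DedekindScheme

set_option autoImplicit false
universe u
open CategoryTheory CategoryTheory.Limits AlgebraicGeometry
open AlgSp

set_option backward.isDefEq.respectTransparency.types false
set_option backward.isDefEq.respectTransparency false

namespace Groth.Agent.S16042

open Groth.Agent.AlgSpLib

theorem mem_basicOpen_iff {A : Type u} [CommRing A] (r : A) (x : PrimeSpectrum A) :
    x ∈ (Spec (CommRingCat.of A)).basicOpen ((Scheme.ΓSpecIso (CommRingCat.of A)).inv r) ↔ r ∉ x.asIdeal := by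
  rw [basicOpen_eq_of_affine]
  exact Iff.rfl

theorem closedPoint_iff {A : Type u} [CommRing A] [IsDomain A] [IsDiscreteValuationRing A] {π : A} (hπ : Irreducible π)
    (x : PrimeSpectrum A) : π ∈ x.asIdeal ↔ x = IsLocalRing.closedPoint A := by
  constructor
  · intro h
    refine PrimeSpectrum.ext ?_
    show x.asIdeal = IsLocalRing.maximalIdeal A
    refine le_antisymm (IsLocalRing.le_maximalIdeal x.2.ne_top) ?_
    rw [hπ.maximalIdeal_eq, Ideal.span_singleton_le_iff_mem]
    exact h
  · rintro rfl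
    exact (IsLocalRing.mem_maximalIdeal π).2 hπ.not_isUnit

theorem eq_bot_of_notMem {A : Type u} [CommRing A] [IsDomain A] [IsDiscreteValuationRing A] {π : A} (hπ : Irreducible π)
    (x : PrimeSpectrum A) (h : π ∉ x.asIdeal) : x = ⊥ := by
  refine PrimeSpectrum.ext ?_
  by_contra hne
  exact h ((IsLocalRing.eq_maximalIdeal (x.2.isMaximal hne)).symm ▸ (IsLocalRing.mem_maximalIdeal π).2 hπ.not_isUnit)

/-- base change squares from products -/
theorem isPullback_of_prod {S : Scheme.{u}} (G : AlgSp.Sp S) (T : Over S) {P : AlgSp.Sp S}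
    (e : P ≅ G ⨯ (AlgSp.yon S).obj T) :
    IsPullback (e.hom ≫ prod.fst) (e.hom ≫ prod.snd) ((isTerminal_yon_base S).some.from G)
      ((AlgSp.yon S).map (FpqcGlue.toB T)) := by
  have hp : IsPullback (prod.fst : G ⨯ (AlgSp.yon S).obj T ⟶ G) prod.snd ((isTerminal_yon_base S).some.from G)
      ((AlgSp.yon S).map (FpqcGlue.toB T)) := by
    rw [(isTerminal_yon_base S).some.hom_ext ((AlgSp.yon S).map (FpqcGlue.toB T)) ((isTerminal_yon_base S).some.from _)]
    exact IsPullback.of_is_product' (prodIsProd G ((AlgSp.yon S).obj T)) (isTerminal_yon_base S).some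
  exact hp.of_iso e.symm (Iso.refl _) (Iso.refl _) (Iso.refl _) (by simp) (by simp) (by simp) (by simp)

theorem isDedekind_open (A : Type u) [CommRing A] [IsDomain A] [IsDiscreteValuationRing A] :
    ∀ U : (Spec (CommRingCat.of A)).affineOpens, Nonempty (U : (Spec (CommRingCat.of A)).Opens) →
      IsDedekindDomain Γ(Spec (CommRingCat.of A), U) := by
  intro U hne
  let S := Spec (CommRingCat.of A)
  obtain ⟨π, hπ⟩ := IsDiscreteValuationRing.exists_irreducible A
  let r₀ : Γ(S, ⊤) := (Scheme.ΓSpecIso (CommRingCat.of A)).inv π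
  haveI : IsIntegral S := inferInstanceAs (IsIntegral (Spec (CommRingCat.of A)))
  haveI : IsPrincipalIdealRing Γ(S, ⊤) := IsPrincipalIdealRing.of_surjective
    (Scheme.ΓSpecIso (CommRingCat.of A)).commRingCatIsoToRingEquiv.symm.toRingHom (RingEquiv.surjective _)
  haveI : IsDedekindDomain Γ(S, ⊤) := inferInstance
  have hU : (U : S.Opens) = ⊤ ∨ (U : S.Opens) = S.basicOpen r₀ := by
    by_cases hc : IsLocalRing.closedPoint A ∈ (U : S.Opens)
    · left
      exact eq_top_iff.2 fun x _ => (IsLocalRing.specializes_closedPoint x).mem_open U.1.isOpen hc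
    · right
      obtain ⟨⟨u, hu⟩⟩ := hne
      have key : ∀ x : ↥S, x ∈ (U : S.Opens) → π ∉ x.asIdeal := fun x hx h => hc (((closedPoint_iff hπ x).1 h) ▸ hx)
      ext x
      refine ⟨fun hx => (mem_basicOpen_iff π x).2 (key x hx), fun hx => ?_⟩
      rw [eq_bot_of_notMem hπ x ((mem_basicOpen_iff π x).1 hx), ← eq_bot_of_notMem hπ u (key u hu)]
      exact hu
  rcases hU with h | h
  · rw [h]; infer_instance
  · rw [h]
    haveI := (isAffineOpen_top S).isLocalization_basicOpen r₀
    haveI : Nonempty (S.basicOpen r₀) := h ▸ hne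
    exact IsLocalization.isDedekindDomain Γ(S, ⊤) (powers_le_nonZeroDivisors_of_noZeroDivisors
      (show r₀ ≠ 0 from fun h0 => by
        obtain ⟨x, hx⟩ := (‹Nonempty (S.basicOpen r₀)› : Nonempty _)
        rw [h0, Scheme.basicOpen_zero] at hx
        exact hx.elim)) _

/-- Let S be the spectrum of a discrete valuation ring A and G an fppf sheaf over S which is an fpqc
sheaf, whose schematic closure of the generic fibre is representable (a flat S-scheme Ḡ with a
monomorphism h_Ḡ ⟶ G through which every morphism from a flat S-scheme factors) and all of whose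
infinitesimal neighbourhoods of fibres G ×_S Spec(O_{S,s}/m_s^(n+1)) are representable. If G ×_S S'
is representable by a locally Noetherian scheme for S' the spectrum of a discrete valuation ring A'
flat and local over A, then G is representable by a locally Noetherian scheme. -/
theorem result
    (A : Type u) [CommRing A] [IsDomain A] [IsDiscreteValuationRing A]
    (G : AlgSp.Sp (Spec (CommRingCat.of A))) (hfpqc : Presheaf.IsSheaf (Scheme.fpqcTopology.over (Spec (CommRingCat.of A))) G.obj)
    (hbar : ∃ (Gb : Over (Spec (CommRingCat.of A))) (j : (AlgSp.yon (Spec (CommRingCat.of A))).obj Gb ⟶ G), Flat Gb.hom ∧ Mono j ∧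
      ∀ (T' : Over (Spec (CommRingCat.of A))), Flat T'.hom → ∀ a : (AlgSp.yon (Spec (CommRingCat.of A))).obj T' ⟶ G,
        ∃ b : T' ⟶ Gb, (AlgSp.yon (Spec (CommRingCat.of A))).map b ≫ j = a)
    (hinf : ∀ (s : ↥(Spec (CommRingCat.of A))) (n : ℕ), (G ⨯ (AlgSp.yon (Spec (CommRingCat.of A))).obj (Over.mk (Spec.map (CommRingCat.ofHom
        (Ideal.Quotient.mk (IsLocalRing.maximalIdeal ↑((Spec (CommRingCat.of A)).presheaf.stalk s) ^ (n + 1)))) ≫ (Spec (CommRingCat.of A)).fromSpecStalk s))).obj.IsRepresentable)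
    (A' : Type u) [CommRing A'] [IsDomain A'] [IsDiscreteValuationRing A'] [Algebra A A']
    [Module.Flat A A'] [IsLocalHom (algebraMap A A')]
    (X' : Over (Spec (CommRingCat.of A))) (q : X' ⟶ Over.mk (Spec.map (CommRingCat.ofHom (algebraMap A A')))) [IsLocallyNoetherian X'.left]
    (e : (AlgSp.yon (Spec (CommRingCat.of A))).obj X' ≅ G ⨯ (AlgSp.yon (Spec (CommRingCat.of A))).obj (Over.mk (Spec.map (CommRingCat.ofHom (algebraMap A A')))))
    (he : e.hom ≫ prod.snd = (AlgSp.yon (Spec (CommRingCat.of A))).map q) :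
    ∃ (X : Over (Spec (CommRingCat.of A))) (eX : (AlgSp.yon (Spec (CommRingCat.of A))).obj X ≅ G), IsLocallyNoetherian X.left := by
  let S := Spec (CommRingCat.of A)
  obtain ⟨Gb, j, hflat, hmono, hj⟩ := hbar
  haveI := hflat
  haveI := hmono
  obtain ⟨π, hπ⟩ := IsDiscreteValuationRing.exists_irreducible A
  let r₀ : Γ(S, ⊤) := (Scheme.ΓSpecIso (CommRingCat.of A)).inv π
  let s : ↥S := IsLocalRing.closedPoint A
  let T : Over S := Over.mk (Spec.map (CommRingCat.ofHom (algebraMap A A')))
  haveI : Module.FaithfullyFlat A A' := Module.FaithfullyFlat.of_flat_of_isLocalHom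
  haveI : Flat T.hom := (HasRingHomProperty.Spec_iff (P := @Flat)).2 (RingHom.flat_algebraMap_iff.2 ‹Module.Flat A A'›)
  haveI : Surjective T.hom := ⟨PrimeSpectrum.comap_surjective_of_faithfullyFlat⟩
  haveI : IsAffine T.left := inferInstanceAs (IsAffine (Spec (CommRingCat.of A')))
  have hs : IsClosed ({s} : Set ↥S) := IsLocalRing.isClosed_singleton_closedPoint A
  obtain ⟨h1, h2⟩ := DedScheme.closed_point_sub hs 0 rfl
  let C : Over S := Over.mk (Spec.map (CommRingCat.ofHom
    (Ideal.Quotient.mk (IsLocalRing.maximalIdeal ↑(S.presheaf.stalk s) ^ (0 + 1)))) ≫ S.fromSpecStalk s)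
  haveI : IsClosedImmersion C.hom := h1
  obtain ⟨Gs, ⟨eGs⟩⟩ := exists_iso_yon_of_isRepresentable (hinf s 0)
  obtain ⟨γ, hγ⟩ := (AlgSp.yon S).map_surjective (eGs.hom ≫ prod.snd)
  have sq : IsPullback (e.hom ≫ prod.fst) ((AlgSp.yon S).map q) ((isTerminal_yon_base S).some.from G)
      ((AlgSp.yon S).map (FpqcGlue.toB T)) := he ▸ isPullback_of_prod G T e
  have sqC : IsPullback (eGs.hom ≫ prod.fst) ((AlgSp.yon S).map γ) ((isTerminal_yon_base S).some.from G)
      ((AlgSp.yon S).map (FpqcGlue.toB C)) := hγ ▸ isPullback_of_prod G C eGs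
  have hspec : ∀ x : ↥S, x ∉ S.basicOpen r₀ ↔ x = s := fun x => by
    rw [mem_basicOpen_iff, not_not, closedPoint_iff hπ]
  have hgen : ∀ x ∈ S.basicOpen r₀, x = genericPoint ↥S := fun x hx => by
    rw [genericPoint_eq_bot_of_affine]
    exact eq_bot_of_notMem hπ x ((mem_basicOpen_iff π x).1 hx)
  have hr₀ : r₀ ≠ 0 := fun h => hπ.ne_zero ((Scheme.ΓSpecIso (CommRingCat.of A)).commRingCatIsoToRingEquiv.symm.injective (h.trans (map_zero _).symm))
  have hG := DVRDescent.main (isDedekind_open A) r₀ hr₀ s hgen hspec (FpqcGlue.FpqcSp.of_isSheaf hfpqc) sq j hj h2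
    _ γ sqC
  obtain ⟨X, ⟨eX⟩⟩ := exists_iso_yon_of_isRepresentable hG
  exact ⟨X, eX, DVRDescent.isLocallyNoetherian_of_bc sq eX⟩

end Groth.Agent.S16042
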