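import Groth.Statements.S16044
import Groth.Agent.PicLib.FlatSections
import Mathlib.RingTheory.Flat.TorsionFree
-- import your own Groth.Agent.* helpers here

set_option autoImplicit false
universe u
open CategoryTheory CategoryTheory.Limits AlgebraicGeometry
open GrpSch

open Opposite TopologicalSpace
set_option linter.style.haveILetI false
set_option backward.isDefEq.respectTransparency.types false

namespace Groth.Agent.S16044

section Closed

variable {A : CommRingCat.{u}} {κ : CommRingCat.{u}} (φ : A ⟶ κ) {X : Scheme.{u}} (f : X ⟶ Spec A) [Flat f]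

/-- A function vanishing on the closed fibre is a multiple of the parameter. -/
theorem exists_eq_mul (ϖ : A) (hreg : ϖ ∈ nonZeroDivisors A) (hsurj : Function.Surjective φ.hom)
    (hker : RingHom.ker φ.hom = Ideal.span {ϖ}) (a : Γ(X, ⊤))
    (ha : (pullback.fst f (Spec.map φ)).appTop a = 0) :
    ∃ b : Γ(X, ⊤), a = f.appTop ((Scheme.ΓSpecIso A).inv ϖ) * b := by
  set w : Γ(X, ⊤) := f.appTop ((Scheme.ΓSpecIso A).inv ϖ) with hw
  let ρ : ∀ V : X.Opens, Γ(X, ⊤) → Γ(X, V) := fun V x => X.presheaf.map (homOfLE (le_top : V ≤ ⊤)).op x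
  have key : ∀ V : X.affineOpens, ρ V.1 a ∈ Ideal.span {ρ V.1 w} ∧
      ∀ b : Γ(X, V.1), ρ V.1 w * b = 0 → b = 0 := by
    intro V
    constructor
    · let Q : CommRingCat.{u} := CommRingCat.of (Γ(X, V.1) ⧸ Ideal.span {ρ V.1 w})
      let mk : Γ(X, V.1) ⟶ Q := CommRingCat.ofHom (Ideal.Quotient.mk _)
      let q : Spec Q ⟶ X := Spec.map mk ≫ V.2.fromSpec
      have hq : ∀ x : Γ(X, ⊤), (Scheme.ΓSpecIso Q).hom (q.appTop x) = mk (ρ V.1 x) := by
        intro x
        have e1 : V.2.fromSpec.appTop x = (Scheme.ΓSpecIso Γ(X, V.1)).inv (ρ V.1 x) := by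
          rw [Scheme.Hom.appTop, V.2.fromSpec_app_of_le ⊤ le_top]
          rfl
        show (Scheme.ΓSpecIso Q).hom ((Spec.map mk).appTop (V.2.fromSpec.appTop x)) = _
        rw [e1]
        have e2 := ConcreteCategory.congr_hom (Scheme.ΓSpecIso_naturality mk) ((Scheme.ΓSpecIso Γ(X, V.1)).inv (ρ V.1 x))
        refine e2.trans ?_
        show mk ((Scheme.ΓSpecIso Γ(X, V.1)).hom ((Scheme.ΓSpecIso Γ(X, V.1)).inv (ρ V.1 x))) = _
        rw [Iso.inv_hom_id_apply]
      let ψ : A ⟶ Q := Spec.preimage (q ≫ f)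
      have hψ : ψ.hom ϖ = 0 := by
        have e : Spec.map ψ = q ≫ f := Spec.map_preimage _
        have e2 := ConcreteCategory.congr_hom (Scheme.ΓSpecIso_naturality ψ) ((Scheme.ΓSpecIso A).inv ϖ)
        rw [CommRingCat.comp_apply, CommRingCat.comp_apply, Iso.inv_hom_id_apply, e] at e2
        rw [← e2]
        show (Scheme.ΓSpecIso Q).hom (q.appTop w) = 0
        rw [hq]
        exact Ideal.Quotient.eq_zero_iff_mem.2 (Ideal.mem_span_singleton_self _)
      have hle : RingHom.ker φ.hom ≤ RingHom.ker ψ.hom := by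
        rw [hker, Ideal.span_singleton_le_iff_mem]
        exact hψ
      let χ : κ ⟶ Q := CommRingCat.ofHom (RingHom.liftOfSurjective φ.hom hsurj ⟨ψ.hom, hle⟩)
      have hχ : φ ≫ χ = ψ := CommRingCat.hom_ext (RingHom.liftOfSurjective_comp φ.hom hsurj _)
      let l : Spec Q ⟶ pullback f (Spec.map φ) :=
        pullback.lift q (Spec.map χ) (by rw [← Spec.map_comp, hχ, Spec.map_preimage])
      have h0 : q.appTop a = 0 := by
        rw [← pullback.lift_fst (f := f) (g := Spec.map φ) q (Spec.map χ)
          (by rw [← Spec.map_comp, hχ, Spec.map_preimage]), Scheme.Hom.comp_appTop, CommRingCat.comp_apply, ha,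
          map_zero]
      have h1 := hq a
      rw [h0, map_zero] at h1
      exact Ideal.Quotient.eq_zero_iff_mem.1 h1.symm
    · intro b hb
      have hflat := f.flat_appLE (isAffineOpen_top (Spec A)) V.2 (show V.1 ≤ f ⁻¹ᵁ ⊤ from le_top)
      let θ : A →+* Γ(X, V.1) := (f.appLE ⊤ V.1 le_top).hom.comp (Scheme.ΓSpecIso A).inv.hom
      have hθ : θ.Flat := RingHom.Flat.comp
        (RingHom.Flat.of_bijective (ConcreteCategory.bijective_of_isIso (Scheme.ΓSpecIso A).inv)) hflat
      letI := θ.toAlgebra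
      haveI : Module.Flat A Γ(X, V.1) := hθ
      refine (Module.Flat.isSMulRegular_of_nonZeroDivisors (M := Γ(X, V.1)) hreg).right_eq_zero_of_smul ?_
      rw [Algebra.smul_def]
      exact hb
  have hsp : ∀ V : X.affineOpens, ∃ b : Γ(X, V.1), ρ V.1 a = ρ V.1 w * b := fun V => by
    obtain ⟨b, hb⟩ := Ideal.mem_span_singleton'.1 (key V).1
    exact ⟨b, by rw [← hb, mul_comm]⟩
  choose sf hsf using hsp
  have hρ : ∀ {V W : X.Opens} (h : W ≤ V) (x : Γ(X, ⊤)),
      X.presheaf.map (homOfLE h).op (ρ V x) = ρ W x := fun {V W} h x => by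
    rw [← CommRingCat.comp_apply, ← X.presheaf.map_comp]
    rfl
  have hcompat : TopCat.Presheaf.IsCompatible X.sheaf.obj (fun V : X.affineOpens => V.1) sf := by
    intro V W
    refine TopCat.Presheaf.section_ext X.sheaf _ _ _ fun x hx => ?_
    obtain ⟨N, hN, hxN, hle⟩ := exists_isAffineOpen_mem_and_subset (x := x) (U := V.1 ⊓ W.1) hx
    have hle' : N ≤ V.1 ⊓ W.1 := hle
    let rV := X.presheaf.map (homOfLE (hle'.trans inf_le_left)).op
    let rW := X.presheaf.map (homOfLE (hle'.trans inf_le_right)).op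
    have e : rV (sf V) = rW (sf W) := by
      refine sub_eq_zero.1 ((key ⟨N, hN⟩).2 _ ?_)
      have eV : ρ N a = ρ N w * rV (sf V) := by
        rw [← hρ (hle'.trans inf_le_left) a, hsf V, map_mul, hρ]
      have eW : ρ N a = ρ N w * rW (sf W) := by
        rw [← hρ (hle'.trans inf_le_right) a, hsf W, map_mul, hρ]
      show ρ N w * _ = 0
      rw [mul_sub, ← eV, ← eW, sub_self]
    have e' := congrArg (X.presheaf.germ N x hxN) e
    simp only [rV, rW, TopCat.Presheaf.germ_res_apply] at e'
    refine (TopCat.Presheaf.germ_res_apply X.presheaf _ x hx (sf V)).trans ?_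
    exact e'.trans (TopCat.Presheaf.germ_res_apply X.presheaf _ x hx (sf W)).symm
  obtain ⟨b, hb, -⟩ := X.sheaf.existsUnique_gluing' (fun V : X.affineOpens => V.1) ⊤
    (fun V => homOfLE le_top) (le_of_eq (iSup_affineOpens_eq_top X).symm) sf hcompat
  obtain ⟨b', rfl⟩ : ∃ b' : Γ(X, ⊤), b' = b := ⟨b, rfl⟩
  refine ⟨b', X.sheaf.eq_of_locally_eq' (fun V : X.affineOpens => V.1) ⊤ (fun V => homOfLE le_top)
    (le_of_eq (iSup_affineOpens_eq_top X).symm) _ _ fun V => ?_⟩
  show ρ V.1 a = X.presheaf.map _ (w * b')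
  rw [map_mul, hsf V]
  exact congrArg (ρ V.1 w * ·) (hb V).symm

end Closed

/-- The comparison of global functions on the fibre is injective. -/
theorem injective_appTop {A κ : CommRingCat.{u}} (φ : A ⟶ κ) {X : Scheme.{u}} (f : X ⟶ Spec A)
    [Flat f] [QuasiCompact f] [QuasiSeparated f] (g : Spec Γ(X, ⊤) ⟶ Spec A) (hg : X.toSpecΓ ≫ g = f)
    (c : pullback f (Spec.map φ) ⟶ pullback g (Spec.map φ))
    (hc1 : c ≫ pullback.fst _ _ = pullback.fst _ _ ≫ X.toSpecΓ) (hc2 : c ≫ pullback.snd _ _ = pullback.snd _ _)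
    (hφ : φ.hom.Flat ∨ (Function.Surjective φ.hom ∧ ∃ ϖ ∈ nonZeroDivisors A, RingHom.ker φ.hom = Ideal.span {ϖ})) :
    Function.Injective c.appTop := by
  have hT : IsAffine (pullback g (Spec.map φ)) := inferInstance
  haveI : CompactSpace X := QuasiCompact.compactSpace_of_compactSpace f
  haveI : QuasiSeparatedSpace X := quasiSeparatedSpace_of_quasiSeparated f
  have hΓ : Function.Bijective X.toSpecΓ.appTop := by
    rw [Scheme.toSpecΓ_appTop]
    exact ConcreteCategory.bijective_of_isIso _
  rcases hφ with hflat | ⟨hsurj, ϖ, hreg, hker⟩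
  · haveI : Flat (Spec.map φ) := (HasRingHomProperty.Spec_iff (P := @Flat)).2 hflat
    have H : IsPullback (pullback.fst f (Spec.map φ)) c X.toSpecΓ (pullback.fst g (Spec.map φ)) :=
      IsPullback.of_bot (by rw [hc2, hg]; exact IsPullback.of_hasPullback f (Spec.map φ)) hc1.symm
        (IsPullback.of_hasPullback g (Spec.map φ))
    let e := (pullback g (Spec.map φ)).isoSpec
    have H' : IsPullback (pullback.fst f (Spec.map φ)) (c ≫ e.hom) X.toSpecΓ (e.inv ≫ pullback.fst g (Spec.map φ)) :=
      H.of_iso (Iso.refl _) (Iso.refl _) e (Iso.refl _) (by simp) (by simp) (by simp) (by simp)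
    have hb := PicLib.bijective_appTop_of_isPullback _ _ _ _ H' hΓ
    rw [Scheme.Hom.comp_appTop] at hb
    exact ((Function.Bijective.of_comp_iff _ (ConcreteCategory.bijective_of_isIso (e.hom.app ⊤))).1 hb).1
  · haveI : IsClosedImmersion (Spec.map φ) := IsClosedImmersion.spec_of_surjective φ hsurj
    haveI : IsClosedImmersion (pullback.fst g (Spec.map φ)) := inferInstance
    refine (injective_iff_map_eq_zero _).2 fun z hz => ?_
    have hs : Function.Surjective (pullback.fst g (Spec.map φ)).appTop :=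
      (IsClosedImmersion.isAffine_surjective_of_isAffine (pullback.fst g (Spec.map φ))).2
    obtain ⟨y, rfl⟩ := hs z
    have ha : (pullback.fst f (Spec.map φ)).appTop (X.toSpecΓ.appTop y) = 0 := by
      rw [← CommRingCat.comp_apply, ← Scheme.Hom.comp_appTop, ← hc1, Scheme.Hom.comp_appTop,
        CommRingCat.comp_apply, hz]
    obtain ⟨b, hb⟩ := exists_eq_mul φ f ϖ hreg hsurj hker _ ha
    obtain ⟨yb, rfl⟩ := hΓ.2 b
    have hy : y = g.appTop ((Scheme.ΓSpecIso A).inv ϖ) * yb := hΓ.1 (by
      rw [map_mul, hb, ← CommRingCat.comp_apply g.appTop, ← Scheme.Hom.comp_appTop, hg])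
    have h0 : (pullback.fst g (Spec.map φ)).appTop (g.appTop ((Scheme.ΓSpecIso A).inv ϖ)) = 0 := by
      rw [← CommRingCat.comp_apply, ← Scheme.Hom.comp_appTop, pullback.condition, Scheme.Hom.comp_appTop,
        CommRingCat.comp_apply]
      have : (Spec.map φ).appTop ((Scheme.ΓSpecIso A).inv ϖ) = 0 := by
        rw [← CommRingCat.comp_apply, ← Scheme.ΓSpecIso_inv_naturality, CommRingCat.comp_apply]
        have : φ.hom ϖ = 0 := by
          rw [← RingHom.mem_ker, hker]; exact Ideal.mem_span_singleton_self _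
        rw [show φ ϖ = 0 from this, map_zero]
      rw [this, map_zero]
    rw [hy, map_mul, h0, zero_mul]

/-- Let S be the spectrum of a discrete valuation ring and X a quasi-compact quasi-separated flat
S-scheme, with canonical morphism c : X ⟶ Spec Γ(X, O_X) over S. Then on each fibre over a point of
S the base change of c is schematically dominant (its kernel ideal sheaf vanishes). -/
theorem result
    (A : Type u) [CommRing A] [IsDomain A] [IsDiscreteValuationRing A]
    (X : Scheme.{u}) (f : X ⟶ Spec (CommRingCat.of A)) [Flat f] [QuasiCompact f] [QuasiSeparated f]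
    (g : Spec Γ(X, ⊤) ⟶ Spec (CommRingCat.of A)) (hg : X.toSpecΓ ≫ g = f) (s : ↥(Spec (CommRingCat.of A))) :
    (pullback.map f ((Spec (CommRingCat.of A)).fromSpecResidueField s) g ((Spec (CommRingCat.of A)).fromSpecResidueField s)
        X.toSpecΓ (𝟙 _) (𝟙 _) ((Category.comp_id f).trans hg.symm)
        ((Category.comp_id _).trans (Category.id_comp _).symm)).ker = ⊥ := by
  let R := CommRingCat.of A
  obtain ⟨φ, hφe⟩ : ∃ φ : R ⟶ (Spec R).residueField s, (Spec R).fromSpecResidueField s = Spec.map φ :=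
    ⟨_, (Spec.map_preimage _).symm⟩
  have hpt : RingHom.ker φ.hom = s.asIdeal := by
    have h1 : (Spec.map φ) (IsLocalRing.closedPoint ((Spec R).residueField s)) = s := by
      rw [← hφe]; exact Scheme.fromSpecResidueField_apply _ _
    have h3 : RingHom.ker φ.hom = (IsLocalRing.maximalIdeal ((Spec R).residueField s)).comap φ.hom := by
      rw [IsLocalRing.maximalIdeal_eq_bot]
      rfl
    exact h3.trans (congrArg PrimeSpectrum.asIdeal h1)
  have hφ : φ.hom.Flat ∨ (Function.Surjective φ.hom ∧
      ∃ ϖ ∈ nonZeroDivisors R, RingHom.ker φ.hom = Ideal.span {ϖ}) := by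
    by_cases hs : s.asIdeal = ⊥
    · left
      letI : Algebra A ((Spec R).residueField s) := φ.hom.toAlgebra
      haveI : Module.IsTorsionFree A ((Spec R).residueField s) :=
        Module.isTorsionFree_iff_algebraMap_injective.2 ((RingHom.injective_iff_ker_eq_bot φ.hom).2 (hpt.trans hs))
      exact (inferInstance : Module.Flat A ((Spec R).residueField s))
    · right
      have hmax : s.asIdeal.IsMaximal := s.isPrime.isMaximal hs
      obtain ⟨ϖ, hϖ⟩ := IsDiscreteValuationRing.exists_irreducible A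
      refine ⟨?_, ϖ, mem_nonZeroDivisors_of_ne_zero hϖ.ne_zero,
        hpt.trans ((IsLocalRing.eq_maximalIdeal hmax).trans hϖ.maximalIdeal_eq)⟩
      have hd : φ = StructureSheaf.toStalk R s ≫ (Spec R).residue s := Spec.map_injective (by
        rw [← hφe, Spec.map_comp, Scheme.fromSpecResidueField, Spec.fromSpecStalk_eq']; rfl)
      rw [hd]
      intro y
      obtain ⟨z, rfl⟩ := (Spec R).residue_surjective s y
      letI : Algebra A ((Spec R).presheaf.stalk s) := (StructureSheaf.toStalk R s).hom.toAlgebra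
      haveI : IsLocalization.AtPrime ((Spec R).presheaf.stalk s) s.asIdeal :=
        inferInstanceAs (IsLocalization.AtPrime ((Spec.structureSheaf R).presheaf.stalk s) s.asIdeal)
      obtain ⟨⟨r, t⟩, hrt⟩ := IsLocalization.surj s.asIdeal.primeCompl z
      have ht : IsUnit (t : A) := by
        by_contra hu
        exact t.2 ((IsLocalRing.eq_maximalIdeal hmax).ge ((IsLocalRing.mem_maximalIdeal (t : A)).2 hu))
      obtain ⟨u, hu⟩ := ht
      refine ⟨r * (↑u⁻¹ : A), ?_⟩
      show (Spec R).residue s (algebraMap A _ (r * (↑u⁻¹ : A))) = _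
      rw [map_mul (algebraMap A _), ← hrt, ← hu, mul_assoc, ← map_mul, Units.mul_inv, map_one, mul_one]
  haveI : QuasiCompact (pullback.map f ((Spec R).fromSpecResidueField s) g ((Spec R).fromSpecResidueField s)
      X.toSpecΓ (𝟙 _) (𝟙 _) ((Category.comp_id f).trans hg.symm)
        ((Category.comp_id _).trans (Category.id_comp _).symm)) := by
    have : CompactSpace ↥(pullback f ((Spec R).fromSpecResidueField s)) :=
      QuasiCompact.compactSpace_of_compactSpace (pullback.snd f ((Spec R).fromSpecResidueField s))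
    exact (quasiCompact_iff_compactSpace _).2 inferInstance
  haveI : IsAffine (pullback g ((Spec R).fromSpecResidueField s)) := inferInstance
  have key : Function.Injective (pullback.map f ((Spec R).fromSpecResidueField s) g
      ((Spec R).fromSpecResidueField s) X.toSpecΓ (𝟙 _) (𝟙 _) ((Category.comp_id f).trans hg.symm)
        ((Category.comp_id _).trans (Category.id_comp _).symm)).appTop := by
    generalize (Spec R).fromSpecResidueField s = h at hφe ⊢
    subst hφe
    exact injective_appTop φ f g hg _ (pullback.lift_fst _ _ _) ((pullback.lift_snd _ _ _).trans (Category.comp_id _)) hφ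
  refine Scheme.IdealSheafData.ext_of_isAffine ?_
  rw [Scheme.Hom.ker_apply, Scheme.IdealSheafData.ideal_bot, Pi.bot_apply]
  exact (RingHom.injective_iff_ker_eq_bot _).1 key

end Groth.Agent.S16044
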