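import Groth.Statements.S16045
import Groth.Agent.FlatMorPush.Transfer

set_option autoImplicit false
universe u
open CategoryTheory CategoryTheory.Limits AlgebraicGeometry
open FlatMor

set_option backward.isDefEq.respectTransparency.types false

namespace Groth.Agent.S16045

/-- Let θ₁ : Y ⟶ X₁ and θ₂ : Y ⟶ X₂ be closed immersions of schemes over S and X their pushout in
schemes over S. For a flat morphism g : S' ⟶ S, the square obtained by base change along g is a
pushout in schemes over S': pinching along a closed subscheme commutes with flat base change. -/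
theorem result
    {S S' : Scheme.{u}} (g : S' ⟶ S) [Flat g]
    {Y X₁ X₂ X : Over S} (θ₁ : Y ⟶ X₁) (θ₂ : Y ⟶ X₂) [IsClosedImmersion θ₁.left] [IsClosedImmersion θ₂.left]
    (φ₁ : X₁ ⟶ X) (φ₂ : X₂ ⟶ X) (hX : IsPushout θ₁ θ₂ φ₁ φ₂) :
    IsPushout ((Over.pullback g).map θ₁) ((Over.pullback g).map θ₂)
      ((Over.pullback g).map φ₁) ((Over.pullback g).map φ₂) := by
  have := FlatMorPush.hasPairs_of_isClosedImmersion θ₁.left θ₂.left
  -- the pushout of the underlying schemes
  let P := FlatMorPush.Po θ₁.left θ₂.left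
  have hPo := FlatMorPush.isPushout θ₁.left θ₂.left
  have hw : θ₁.left ≫ X₁.hom = θ₂.left ≫ X₂.hom := by rw [Over.w, Over.w]
  let r : P ⟶ S := hPo.desc X₁.hom X₂.hom hw
  let Q : Over S := Over.mk r
  let q₁ : X₁ ⟶ Q := Over.homMk (FlatMorPush.inl θ₁.left θ₂.left) (hPo.inl_desc _ _ hw)
  let q₂ : X₂ ⟶ Q := Over.homMk (FlatMorPush.inr θ₁.left θ₂.left) (hPo.inr_desc _ _ hw)
  have hQ : IsPushout θ₁ θ₂ q₁ q₂ := IsPushout.of_map (Over.forget S) (by ext; exact hPo.w) hPo
  let e := hQ.isoIsPushout _ _ hX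
  let eL : P ≅ X.left := (Over.forget S).mapIso e
  have he₁ : FlatMorPush.inl θ₁.left θ₂.left ≫ eL.hom = φ₁.left :=
    congrArg (fun t => t.left) (hQ.inl_isoIsPushout_hom _ _ hX)
  have he₂ : FlatMorPush.inr θ₁.left θ₂.left ≫ eL.hom = φ₂.left :=
    congrArg (fun t => t.left) (hQ.inr_isoIsPushout_hom _ _ hX)
  have hXs : IsPushout θ₁.left θ₂.left φ₁.left φ₂.left :=
    hPo.of_iso (Iso.refl _) (Iso.refl _) (Iso.refl _) eL (by simp) (by simp) (by simpa using he₁)
      (by simpa using he₂)
  -- base change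
  refine IsPushout.of_map (Over.forget S') ?_ ?_
  · rw [← Functor.map_comp, ← Functor.map_comp, hX.w]
  refine FlatMorPush.isPushout_baseChange (i := θ₁.left) (j := θ₂.left) (a := φ₁.left) (b := φ₂.left) (hP := IsPullback.of_hasPullback X.hom g)
    (pX := Limits.pullback.fst X₁.hom g) (pY := Limits.pullback.fst X₂.hom g) (pZ := Limits.pullback.fst Y.hom g)
    (fun p => ?_) ?_ ?_ ?_ ?_ ?_
  · obtain ⟨c, hp, -⟩ := FlatMorPush.exists_chart hXs p
    exact ⟨c, hp, Or.inl inferInstance⟩
  · refine IsPullback.of_bot ?_ (Limits.pullback.lift_fst _ _ _).symm (IsPullback.of_hasPullback X.hom g)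
    erw [Limits.pullback.lift_snd]
    simpa using (IsPullback.of_hasPullback X₁.hom g)
  · refine IsPullback.of_bot ?_ (Limits.pullback.lift_fst _ _ _).symm (IsPullback.of_hasPullback X.hom g)
    erw [Limits.pullback.lift_snd]
    simpa using (IsPullback.of_hasPullback X₂.hom g)
  · refine IsPullback.of_bot ?_ (Limits.pullback.lift_fst _ _ _).symm (IsPullback.of_hasPullback X₁.hom g)
    erw [Limits.pullback.lift_snd]
    simpa using (IsPullback.of_hasPullback Y.hom g)
  · exact Limits.pullback.lift_fst _ _ _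
  · simp only [← Functor.map_comp, hX.w]

end Groth.Agent.S16045
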