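import Groth.Statements.S16046
import Mathlib
-- import your own Groth.Agent.* helpers here

set_option autoImplicit false
universe u
open TensorProduct
open ValRing

namespace Groth.Agent.S16046

/-- Surjectivity assertion: let A ⊆ A' be valuation rings with fraction fields K ⊆ K', A' dominating A
and A dense in A' for the valuation topology, and L a finite extension of K; put L' = K' ⊗_K L. Then
every element of L' modulo its nilradical which is integral over A' is a finite sum Σ a'ᵢ·lᵢ with
a'ᵢ ∈ A' and lᵢ ∈ L integral over A. (The published statement also identifies the kernel of the map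
from the tensor product with the nilradical; that part is not stated here.) -/
theorem result
    (A K L A' K' : Type u) [CommRing A] [IsDomain A] [ValuationRing A] [Field K] [Algebra A K] [IsFractionRing A K]
    [Field L] [Algebra K L] [FiniteDimensional K L] [Algebra A L] [IsScalarTower A K L]
    [CommRing A'] [IsDomain A'] [ValuationRing A'] [Field K'] [Algebra A' K'] [IsFractionRing A' K']
    [Algebra A A'] [IsLocalHom (algebraMap A A')] (hinj : Function.Injective (algebraMap A A'))
    [Algebra K K'] [Algebra A K'] [IsScalarTower A A' K'] [IsScalarTower A K K']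
    (hdense : ∀ a' b' : A', b' ≠ 0 → ∃ a : A, b' ∣ a' - algebraMap A A' a)
    (x : (K' ⊗[K] L) ⧸ nilradical (K' ⊗[K] L))
    (hx : ((Ideal.Quotient.mk (nilradical (K' ⊗[K] L))).comp
            ((Algebra.TensorProduct.includeLeft : K' →ₐ[K] K' ⊗[K] L).toRingHom.comp (algebraMap A' K'))).IsIntegralElem x) :
    ∃ (n : ℕ) (a : Fin n → A') (l : Fin n → L), (∀ i, IsIntegral A (l i)) ∧
      x = Ideal.Quotient.mk (nilradical (K' ⊗[K] L)) (∑ i, algebraMap A' K' (a i) ⊗ₜ[K] l i) := by
  classical
  haveI : IsIntegrallyClosed A := inferInstance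
  haveI : IsIntegrallyClosed A' := inferInstance
  -- a nonzero element of `A'` is associated to one of `A`
  have assoc : ∀ v : A', v ≠ 0 → ∃ (a : A) (u : A'), IsUnit u ∧ algebraMap A A' a = v * u := by
    intro v hv
    by_cases hu : IsUnit v
    · exact ⟨1, ↑hu.unit⁻¹, (hu.unit⁻¹).isUnit, by simp⟩
    · obtain ⟨a, w, hw⟩ := hdense v (v * v) (mul_ne_zero hv hv)
      refine ⟨a, 1 - v * w, IsLocalRing.isUnit_one_sub_self_of_mem_nonunits _
        (mul_mem_nonunits_left hu), ?_⟩
      linear_combination -hw
  -- approximation of elements of `K'` by elements of `K`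
  have approx : ∀ (z : K') (c : A), c ≠ 0 → ∃ (q : K) (w : A'),
      z = algebraMap K K' q + algebraMap A' K' w * algebraMap A K' c := by
    intro z c hc
    obtain ⟨u, v, hv, rfl⟩ := IsFractionRing.div_surjective (A := A') z
    have hv0 : v ≠ 0 := nonZeroDivisors.ne_zero hv
    obtain ⟨a, e, he, hae⟩ := assoc v hv0
    have ha0 : a ≠ 0 := fun h => by
      rw [h, map_zero] at hae
      exact mul_ne_zero hv0 he.ne_zero hae.symm
    have hcA : algebraMap A A' (c * a) ≠ 0 := fun h => mul_ne_zero hc ha0 (hinj (h.trans (map_zero _).symm))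
    obtain ⟨b, w, hw⟩ := hdense (u * e) _ hcA
    refine ⟨algebraMap A K b / algebraMap A K a, w, ?_⟩
    have hv' : algebraMap A' K' v ≠ 0 := by
      simpa using (IsFractionRing.injective A' K').ne hv0
    have he' : algebraMap A' K' e ≠ 0 := by simpa using (IsFractionRing.injective A' K').ne he.ne_zero
    have hbK : ∀ r : A, algebraMap K K' (algebraMap A K r) = algebraMap A' K' (algebraMap A A' r) :=
      fun r => by rw [← IsScalarTower.algebraMap_apply, ← IsScalarTower.algebraMap_apply]
    rw [map_div₀, hbK, hbK, IsScalarTower.algebraMap_apply A A' K' c, hae, map_mul]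
    have h := congrArg (algebraMap A' K') hw
    simp only [map_sub, map_mul, hae] at h
    field_simp
    linear_combination h
  -- common multiplier of a basis
  let bL := Module.Free.chooseBasis K L
  have hmult : ∀ i, ∃ c : A, c ≠ 0 ∧ IsIntegral A (algebraMap A L c * bL i) := fun i => by
    have halg : IsAlgebraic A (bL i) :=
      (IsFractionRing.isAlgebraic_iff A K L).2 (Algebra.IsAlgebraic.isAlgebraic _)
    obtain ⟨c, hc, hci⟩ := halg.exists_integral_multiple
    exact ⟨c, hc, by rw [← Algebra.smul_def]; exact hci⟩
  choose c hc0 hci using hmult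
  obtain ⟨X, rfl⟩ := Ideal.Quotient.mk_surjective x
  let bK := Algebra.TensorProduct.basis K' bL
  have hexp : X = ∑ i, bK.repr X i ⊗ₜ[K] bL i := by
    conv_lhs => rw [← bK.sum_repr X]
    exact Finset.sum_congr rfl fun i _ => by
      rw [Algebra.TensorProduct.basis_apply, TensorProduct.smul_tmul', smul_eq_mul, mul_one]
  choose q w hqw using fun i => approx (bK.repr X i) (c i) (hc0 i)
  let y : L := ∑ i, q i • bL i
  let Z : K' ⊗[K] L := ∑ i, algebraMap A' K' (w i) ⊗ₜ[K] (algebraMap A L (c i) * bL i)
  have hsplit : X = (1 : K') ⊗ₜ[K] y + Z := by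
    conv_lhs => rw [hexp]
    simp only [y, Z, TensorProduct.tmul_sum, ← Finset.sum_add_distrib]
    refine Finset.sum_congr rfl fun i _ => ?_
    rw [← TensorProduct.smul_tmul, Algebra.smul_def, mul_one]
    have h1 : algebraMap A L (c i) * bL i = algebraMap A K (c i) • bL i := by
      rw [Algebra.smul_def, ← IsScalarTower.algebraMap_apply]
    rw [h1, ← TensorProduct.smul_tmul, ← TensorProduct.add_tmul, hqw i, Algebra.smul_def,
      ← IsScalarTower.algebraMap_apply]
    congr 1
    ring
  let N := nilradical (K' ⊗[K] L)
  let φ : A' →+* (K' ⊗[K] L) ⧸ N := (Ideal.Quotient.mk N).comp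
    ((Algebra.TensorProduct.includeLeft : K' →ₐ[K] K' ⊗[K] L).toRingHom.comp (algebraMap A' K'))
  have hLint : ∀ l : L, IsIntegral A l → φ.IsIntegralElem (Ideal.Quotient.mk N ((1 : K') ⊗ₜ[K] l)) := by
    intro l hl
    obtain ⟨P, hP, hP0⟩ := hl
    refine ⟨P.map (algebraMap A A'), hP.map _, ?_⟩
    have hcomp : φ.comp (algebraMap A A') = ((Ideal.Quotient.mk N).comp
        (Algebra.TensorProduct.includeRight : L →ₐ[K] K' ⊗[K] L).toRingHom).comp (algebraMap A L) := by
      ext a
      show Ideal.Quotient.mk N (algebraMap A' K' (algebraMap A A' a) ⊗ₜ[K] (1 : L)) =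
        Ideal.Quotient.mk N ((1 : K') ⊗ₜ[K] algebraMap A L a)
      rw [← IsScalarTower.algebraMap_apply, IsScalarTower.algebraMap_apply A K K',
        IsScalarTower.algebraMap_apply A K L]
      generalize algebraMap A K a = z
      rw [Algebra.algebraMap_eq_smul_one, Algebra.algebraMap_eq_smul_one, TensorProduct.smul_tmul]
    rw [Polynomial.eval₂_map, hcomp]
    have := congrArg ((Ideal.Quotient.mk N).comp
        (Algebra.TensorProduct.includeRight : L →ₐ[K] K' ⊗[K] L).toRingHom) hP0
    rw [map_zero, Polynomial.hom_eval₂] at this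
    exact this
  have hZ : φ.IsIntegralElem (Ideal.Quotient.mk N Z) := by
    letI := φ.toAlgebra
    simp only [Z, map_sum]
    refine IsIntegral.sum _ fun i _ => ?_
    rw [← mul_one (algebraMap A' K' (w i)), ← one_mul (algebraMap A L (c i) * bL i),
      ← Algebra.TensorProduct.tmul_mul_tmul, map_mul]
    exact IsIntegral.mul isIntegral_algebraMap (hLint _ (hci i))
  have hyφ : φ.IsIntegralElem (Ideal.Quotient.mk N ((1 : K') ⊗ₜ[K] y)) := by
    letI := φ.toAlgebra
    have hX : IsIntegral A' (Ideal.Quotient.mk N X) := hx
    have := hX.sub (show IsIntegral A' (Ideal.Quotient.mk N Z) from hZ)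
    rw [hsplit, map_add, add_sub_cancel_right] at this
    exact this
  -- `y` is integral over `A`
  have hy : IsIntegral A y := by
    let Ω := AlgebraicClosure K'
    have hP := IsIntegral.of_finite K y
    let P := minpoly K y
    have hroots : ∀ r ∈ (P.map (algebraMap K Ω)).roots, IsIntegral A' r := by
      intro r hr
      rw [Polynomial.mem_roots_map (minpoly.ne_zero hP)] at hr
      have hr' : Polynomial.aeval r P = 0 := hr
      obtain ⟨σ, hσ⟩ := IntermediateField.exists_algHom_of_splits_of_aeval
        (fun s : L => ⟨IsIntegral.of_finite K s, IsAlgClosed.splits ((minpoly K s).map (algebraMap K Ω))⟩) hr'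
      let ψ : K' ⊗[K] L →ₐ[K] Ω :=
        Algebra.TensorProduct.productMap (IsScalarTower.toAlgHom K K' Ω) σ
      have hker : ∀ n ∈ N, ψ.toRingHom n = 0 := by
        intro n hn
        obtain ⟨m, hm⟩ := hn
        show ψ n = 0
        have := congrArg ψ hm
        rw [map_pow, map_zero] at this
        exact eq_zero_of_pow_eq_zero this
      obtain ⟨Q, hQ, hQ0⟩ := hyφ
      refine ⟨Q, hQ, ?_⟩
      have h := congrArg (Ideal.Quotient.lift N ψ.toRingHom hker) hQ0
      rw [map_zero, Polynomial.hom_eval₂] at h
      have hc : (Ideal.Quotient.lift N ψ.toRingHom hker).comp φ = algebraMap A' Ω := by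
        ext a
        simp [φ, ψ, ← IsScalarTower.algebraMap_apply]
      rw [hc] at h
      change Polynomial.eval₂ (algebraMap A' Ω) (ψ ((1 : K') ⊗ₜ[K] y)) Q = 0 at h
      simpa [ψ, hσ] using h
    have hmon : (P.map (algebraMap K Ω)).Monic := (minpoly.monic hP).map _
    have hcoeff : ∀ j, IsIntegral A' (algebraMap K Ω (P.coeff j)) := by
      intro j
      rw [← Polynomial.coeff_map]
      have hsp := (IsAlgClosed.splits (P.map (algebraMap K Ω))).eq_prod_roots_of_monic hmon
      rw [hsp]
      have : (((P.map (algebraMap K Ω)).roots.map fun r => Polynomial.X - Polynomial.C r).prod) ∈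
          Polynomial.lifts (algebraMap (integralClosure A' Ω) Ω) := by
        refine multiset_prod_mem _ fun f hf => ?_
        obtain ⟨r, hr, rfl⟩ := Multiset.mem_map.1 hf
        rw [sub_eq_add_neg, ← map_neg]
        exact add_mem (Polynomial.X_mem_lifts _)
          (Polynomial.C'_mem_lifts ⟨-⟨r, hroots r hr⟩, by simp⟩)
      obtain ⟨v, hv⟩ := (Polynomial.lifts_iff_coeff_lifts _).1 this j
      rw [← hv]; exact v.2
    have hmem : ∀ j, ∃ a : A, algebraMap A K a = P.coeff j := by
      intro j
      have h1 : IsIntegral A' (algebraMap K K' (P.coeff j)) :=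
        (isIntegral_algebraMap_iff (algebraMap K' Ω).injective).1
          (by rw [← IsScalarTower.algebraMap_apply]; exact hcoeff j)
      obtain ⟨a', ha'⟩ := IsIntegrallyClosed.isIntegral_iff.1 h1
      obtain ⟨a, b, hb, hab⟩ := IsFractionRing.div_surjective (A := A) (P.coeff j)
      rcases ValuationRing.cond a b with ⟨e, he | he⟩
      · -- `b = a * e`
        by_cases ha : a = 0
        · exact ⟨0, by rw [← hab, ha]; simp⟩
        · have he0 : e ≠ 0 := fun h => nonZeroDivisors.ne_zero hb (by rw [← he, h, mul_zero])
          have heu : IsUnit e := by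
            refine (isUnit_map_iff (algebraMap A A') e).1 (IsUnit.of_mul_eq_one a' ?_)
            apply IsFractionRing.injective A' K'
            have hK : ∀ r : A, r ≠ 0 → algebraMap A K r ≠ 0 := fun r hr => by
              simpa using (IsFractionRing.injective A K).ne hr
            have : algebraMap A K e * P.coeff j = 1 := by
              rw [← hab, ← he, map_mul]
              have := hK a ha; have := hK e he0
              field_simp
            rw [map_mul, ha', map_one, ← IsScalarTower.algebraMap_apply A A' K',
              IsScalarTower.algebraMap_apply A K K', ← map_mul, this, map_one]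
          obtain ⟨e', he'⟩ := heu.exists_right_inv
          refine ⟨e', ?_⟩
          have hK : ∀ r : A, r ≠ 0 → algebraMap A K r ≠ 0 := fun r hr => by
            simpa using (IsFractionRing.injective A K).ne hr
          have h1 := congrArg (algebraMap A K) he'
          rw [map_mul, map_one] at h1
          rw [← hab, ← he, map_mul]
          have := hK a ha; have := hK e he0
          field_simp
          linear_combination h1
      · refine ⟨e, ?_⟩
        have hb' : algebraMap A K b ≠ 0 := by
          simpa using (IsFractionRing.injective A K).ne (nonZeroDivisors.ne_zero hb)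
        rw [← hab, ← he, map_mul]
        field_simp
    have hlift : P ∈ Polynomial.lifts (algebraMap A K) :=
      (Polynomial.lifts_iff_coeff_lifts _).2 fun j => hmem j
    obtain ⟨P0, hP0, -, hP0m⟩ := Polynomial.lifts_and_natDegree_eq_and_monic hlift (minpoly.monic hP)
    refine ⟨P0, hP0m, ?_⟩
    have := minpoly.aeval K y
    rw [show minpoly K y = P0.map (algebraMap A K) from hP0.symm, Polynomial.aeval_map_algebraMap] at this
    exact this
  let ι := Module.Free.ChooseBasisIndex K L
  let e := Fintype.equivFin ι
  refine ⟨Fintype.card ι + 1, Fin.cons 1 (fun j => w (e.symm j)),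
    Fin.cons y (fun j => algebraMap A L (c (e.symm j)) * bL (e.symm j)), ?_, ?_⟩
  · intro i
    refine Fin.cases ?_ (fun j => ?_) i
    · simpa using hy
    · simpa using hci _
  · congr 1
    rw [Fin.sum_univ_succ, hsplit]
    simp only [Fin.cons_zero, Fin.cons_succ, map_one]
    congr 1
    exact (e.symm.sum_comp fun i => algebraMap A' K' (w i) ⊗ₜ[K] (algebraMap A L (c i) * bL i)).symm

end Groth.Agent.S16046
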