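import Groth.Statements.S16048
import Groth.Agent.ArtFunLib.Endo
import Groth.Agent.ArtFunLib.PowerSeriesVersal
-- import your own Groth.Agent.* helpers here

set_option autoImplicit false
universe u v
open CategoryTheory
open ArtFun

namespace Groth.Agent.S16048

open Groth.Agent.ArtFunLib in
theorem aux {Λ : Type u} {k : Type u}
    [CommRing Λ] [Field k] [Algebra Λ k] [IsNoetherianRing Λ] [Module.Finite Λ k]
    [IsLocalRing Λ] [IsAdicComplete (IsLocalRing.maximalIdeal Λ) Λ]
    (hk : Function.Surjective (algebraMap Λ k))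
    {F : ArtFun.Art Λ k ⥤ Type v} (hF : ArtFun.HasHull F)
    (R : ArtFun.CRing Λ k) (n : ℕ) (e : R.carrier ≃ₐ[Λ] MvPowerSeries (Fin n) Λ)
    (ξ : ArtFun.Family R.carrier R.res F)
    (hξ : Function.Bijective (ξ.app (ArtFun.Art.dual Λ k))) :
    ArtFun.IsMiniversal ξ := by
  obtain ⟨H⟩ := hF
  obtain ⟨hHv, hHb⟩ := H.miniversal
  let L : ArtFun.CRing Λ k :=
    { carrier := Λ, res := Algebra.ofId Λ k, res_surjective := hk, isAdicComplete := inferInstance }
  have hι : R.res.comp (Algebra.ofId Λ R.carrier) = L.res := AlgHom.ext fun l => R.res.commutes l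
  let e' : R.carrier →ₐ[Λ] (psRing L n).carrier :=
    { toRingHom := e.toAlgHom.toRingHom
      commutes' := fun l => (e.commutes l).trans ((psC L n).commutes l) }
  have hv : ArtFun.IsVersal ((ArtFun.Family.self L.carrier L.res).along (Algebra.ofId Λ R.carrier) hι) :=
    isVersal_along_of_iso _ hι e' e.bijective (AlgHom.ext fun a => e.commutes a)
  have hsm : ∀ ⦃B A : ArtFun.Art Λ k⦄ (μ : B ⟶ A), Function.Surjective μ →
      ∀ φ : ArtFun.HomSet R.carrier R.res A, ∃ ψ, ArtFun.HomSet.map μ ψ = φ := by
    intro B A μ hμ φ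
    obtain ⟨ψ, hψ, _⟩ := hv μ hμ φ ⟨Algebra.ofId Λ B, AlgHom.ext fun l => B.res.commutes l⟩
      (Subtype.ext (AlgHom.ext fun l =>
        ((μ.toAlgHom.comp (Algebra.ofId Λ B)).commutes l).trans
          ((φ.1.comp (Algebra.ofId Λ R.carrier)).commutes l).symm))
    exact ⟨ψ, hψ⟩
  have hb : Function.Surjective (H.family.app (ArtFun.Art.base Λ k)) := fun y => by
    let i : ArtFun.Art.base Λ k ⟶ ArtFun.Art.dual Λ k :=
      ⟨(TrivSqZeroExt.inlAlgHom Λ k k : k →ₐ[Λ] TrivSqZeroExt k k),
        AlgHom.ext fun c => TrivSqZeroExt.fst_inl k c⟩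
    obtain ⟨u, hu⟩ := hHb.2 (F.map i y)
    refine ⟨ArtFun.HomSet.map (ArtFun.Art.toBase _) u, ?_⟩
    rw [H.family.natural, hu, map_map]
    exact (congrArg (fun f => F.map f y) (base_subsingleton _ (𝟙 _))).trans (map_id' F y)
  obtain ⟨g, hg, hgn⟩ := exists_along_eq R H.family hHv hb ξ.toFormalElt
  have key : ∀ A (φ : ArtFun.HomSet R.carrier R.res A), (H.family.along g hg).app A φ = ξ.app A φ :=
    fun A φ => family_ext R hgn A φ
  have hgsurj : Function.Surjective g := surjective_of_dual_injective g hg fun φ φ' e => hξ.1 <| by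
    rw [← key _ φ, ← key _ φ']
    exact app_congr H.family e
  have hker : Function.Injective g := by
    have := H.ring.isAdicComplete
    -- sections of `g`
    let G := fun n => ArtFun.CRing.truncMapOfHom g hg n
    have hGs : ∀ n, Function.Surjective (G n) := fun n z => by
      obtain ⟨a, rfl⟩ := truncHom_surjective R n z
      obtain ⟨x, rfl⟩ := hgsurj a
      exact ⟨(H.ring.truncHom n).1 x, rfl⟩
    obtain ⟨w₁, hw₁⟩ := hsm (G 1) (hGs 1) (R.truncHom 1)
    have step : ∀ m (w : ArtFun.HomSet R.carrier R.res (H.ring.trunc (m + 1))),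
        ∃ w', ArtFun.HomSet.map (H.ring.truncMap (m + 1)) w' = w :=
      fun m w => hsm _ (truncMap_surjective H.ring _) w
    choose next hnext using step
    let W : ∀ m, ArtFun.HomSet R.carrier R.res (H.ring.trunc (m + 1)) := fun m => Nat.rec
      (motive := fun m => ArtFun.HomSet R.carrier R.res (H.ring.trunc (m + 1))) w₁ next m
    obtain ⟨σ, hσ, hσn⟩ := exists_hom_of_compat H.ring
      (fun m => ArtFun.HomSet.map (H.ring.truncMap m) (W m))
      (fun m => congrArg (ArtFun.HomSet.map (H.ring.truncMap m)) (hnext m (W m)))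
    let θ : R.carrier →ₐ[Λ] R.carrier := g.comp σ
    have hθ : R.res.comp θ = R.res := by rw [← AlgHom.comp_assoc, hg, hσ]
    have hθ1 : ∀ x, θ x - x ∈ IsLocalRing.maximalIdeal R.carrier ^ 2 := fun x =>
      (truncHom_eq_iff R 1 _ _).1 (((congrArg (G 1).toAlgHom ((AlgHom.congr_fun (hσn 1) x).trans
        (congrArg (fun w : ArtFun.HomSet R.carrier R.res (H.ring.trunc 1) => w.1 x) (hnext 0 w₁))))).trans
          (congrArg (fun w : ArtFun.HomSet R.carrier R.res (R.trunc 1) => w.1 x) hw₁))
    have hσs : Function.Surjective σ := surjective_of_dual_injective σ hσ fun φ φ' e => by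
      -- precomposition with `g` is bijective on tangent vectors
      obtain ⟨a, ha⟩ := hξ.2 (H.family.app _ φ)
      obtain ⟨a', ha'⟩ := hξ.2 (H.family.app _ φ')
      rw [← key] at ha ha'
      have hφ : a.1.comp g = φ.1 := congrArg Subtype.val (hHb.1 ha)
      have hφ' : a'.1.comp g = φ'.1 := congrArg Subtype.val (hHb.1 ha')
      have hd : ∀ (χ : ArtFun.HomSet R.carrier R.res (ArtFun.Art.dual Λ k)) (x : R.carrier),
          χ.1 (θ x) = χ.1 x := fun χ x => by
        rw [← sub_eq_zero, ← map_sub]
        have hle : Ideal.map χ.1 (IsLocalRing.maximalIdeal R.carrier) ≤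
            IsLocalRing.maximalIdeal (ArtFun.Art.dual Λ k) :=
          map_le_max χ.1 R.res_surjective (ArtFun.Art.dual Λ k).res_surjective χ.2
        have := Ideal.mem_map_of_mem χ.1 (hθ1 x)
        rw [Ideal.map_pow] at this
        have h2 := Ideal.pow_right_mono hle 2 this
        rw [pow_two] at h2
        refine Submodule.mul_induction_on h2 (fun p hp q hq => ?_) fun p q hp hq => by rw [hp, hq, add_zero]
        have hfst : ∀ r ∈ IsLocalRing.maximalIdeal (ArtFun.Art.dual Λ k),
            TrivSqZeroExt.fst (show TrivSqZeroExt k k from r) = 0 := fun r hr =>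
          (mem_max_iff_of_surjective ((ArtFun.Art.dual Λ k).res : (ArtFun.Art.dual Λ k) →+* k)
            (ArtFun.Art.dual Λ k).res_surjective).1 hr
        refine TrivSqZeroExt.ext ?_ ?_
        · exact (TrivSqZeroExt.fst_mul _ _).trans (by rw [hfst p hp, zero_mul]; rfl)
        · exact (TrivSqZeroExt.snd_mul _ _).trans (by
            rw [hfst p hp, hfst q hq, MulOpposite.op_zero, zero_smul, zero_smul, add_zero]; rfl)
      have haa : a = a' := Subtype.ext (AlgHom.ext fun x => by
        have := AlgHom.congr_fun e x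
        rw [← hφ, ← hφ'] at this
        exact ((hd a x).symm.trans this).trans (hd a' x))
      exact Subtype.ext (by rw [← hφ, ← hφ', haa])
    have hR := R.isAdicComplete
    have hθs : Function.Surjective θ := hgsurj.comp hσs
    have hθi : Function.Injective θ := (bijective_of_surjective_endo θ.toRingHom hθs).1
    intro p q hpq
    obtain ⟨p, rfl⟩ := hσs p
    obtain ⟨q, rfl⟩ := hσs q
    exact congrArg σ (hθi hpq)
  let g' := AlgEquiv.ofBijective g ⟨hker, hgsurj⟩
  refine ⟨fun B A μ hμ φ y hy => ?_, hξ⟩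
  rw [← key] at hy
  obtain ⟨χ, hχ₁, hχ₂⟩ := hHv μ hμ ⟨φ.1.comp g, by rw [← AlgHom.comp_assoc, φ.2, hg]⟩ y hy
  let ψ : ArtFun.HomSet R.carrier R.res B := ⟨χ.1.comp g'.symm.toAlgHom, AlgHom.ext fun x => by
    obtain ⟨z, rfl⟩ := hgsurj x
    refine ((congrArg (fun w => B.res (χ.1 w)) (g'.symm_apply_apply z)).trans (AlgHom.congr_fun χ.2 z)).trans ?_
    exact (AlgHom.congr_fun hg z).symm⟩
  refine ⟨ψ, Subtype.ext (AlgHom.ext fun x => ?_), ?_⟩
  · obtain ⟨z, rfl⟩ := hgsurj x
    exact (congrArg (fun w => μ.toAlgHom (χ.1 w)) (g'.symm_apply_apply z)).trans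
      (congrArg (fun w : ArtFun.HomSet H.ring.carrier H.ring.res A => w.1 z) hχ₁)
  · rw [← key, ← hχ₂]
    exact app_congr H.family (AlgHom.ext fun z => congrArg χ.1 (g'.symm_apply_apply z))

/-- Let Λ be a complete local Noetherian ring with residue field k and F a functor on Artinian local
Λ-algebras with residue field k which admits a hull. A family ξ of F over a complete local
Noetherian Λ-algebra R with residue field k such that R is isomorphic over Λ to a power series ring
Λ[[t_1, …, t_n]] and the induced map on tangent spaces h_R(k[ε]) → F(k[ε]) is bijective is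
miniversal. (The source states this for the deformation functor of a rational double point over the
Witt vectors of an algebraically closed field, with the Kodaira–Spencer map as the tangent map and
the existence of a hull taken from Schlessinger's criteria; the argument uses only the existence of
a hull, so the hull is carried as a hypothesis and Λ is any complete local Noetherian ring with
residue field k.) -/
theorem result {Λ : Type u} {k : Type u}
    [CommRing Λ] [Field k] [Algebra Λ k] [IsNoetherianRing Λ] [Module.Finite Λ k]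
    [IsLocalRing Λ] [IsAdicComplete (IsLocalRing.maximalIdeal Λ) Λ]
    (hk : Function.Surjective (algebraMap Λ k))
    {F : ArtFun.Art Λ k ⥤ Type v} (hF : ArtFun.HasHull F)
    (R : ArtFun.CRing Λ k) (n : ℕ) (e : R.carrier ≃ₐ[Λ] MvPowerSeries (Fin n) Λ)
    (ξ : ArtFun.Family R.carrier R.res F)
    (hξ : Function.Bijective (ArtFun.TangentSpace.ofFamily ξ)) :
    ArtFun.IsMiniversal ξ := by
  exact aux hk hF R n e ξ hξ

end Groth.Agent.S16048
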