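import Groth.Statements.S16763
import Groth.Agent.SmoothLib.FibreMap

set_option autoImplicit false
set_option backward.isDefEq.respectTransparency.types false
universe u
open Unram17

namespace Groth.Agent.S16763

open AlgebraicGeometry CategoryTheory CategoryTheory.Limits in
/-- Let g : Y → S and h : X → S be locally of finite presentation, f : X → Y an S-morphism (f ≫ g = h),
and x a point of X with image s = h(x) such that h is flat at x. Then f is smooth at x (smooth on an
open neighbourhood of x) if and only if the induced morphism of fibres X_s → Y_s is smooth at the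
point of X_s lying over x. -/
theorem result {X Y S : Scheme.{u}} (g : Y ⟶ S) (h : X ⟶ S)
    [LocallyOfFinitePresentation g] [LocallyOfFinitePresentation h] (f : X ⟶ Y) (w : f ≫ g = h)
    (x : ↥X) (hflat : (h.stalkMap x).hom.Flat)
    (x' : ↥(h.fiber (h x))) (hx' : (h.fiberι (h x)) x' = x) :
    (∃ U : X.Opens, x ∈ U ∧ Smooth (U.ι ≫ f)) ↔
      ∃ V : (h.fiber (h x)).Opens, x' ∈ V ∧ Smooth (V.ι ≫ CohIII.fiberMapOver f h g w (h x)) := by
  subst w
  haveI : LocallyOfFinitePresentation f := H8Lim.lfp_cancel_right f g
  have H := SmoothLib.isPullback_fiberMapOver f g ((f ≫ g) x)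
  haveI : LocallyOfFinitePresentation (CohIII.fiberMapOver f (f ≫ g) g rfl ((f ≫ g) x)) :=
    MorphismProperty.of_isPullback H inferInstance
  constructor
  · intro hU
    exact SmoothLib.smooth_nhd_baseChange f _ H x' (hx'.symm ▸ hU)
  · rintro ⟨V, hx'V, hV⟩
    rw [SmoothLib.smooth_nhd_iff]
    have h0 := SmoothLib.flat_stalkMap_of_fiberMapOver_nhd f g x hflat x' hx' V hx'V inferInstance
    have h1 := SmoothLib.formallySmooth_stalkMap_of_nhd
      (CohIII.fiberMapOver f (f ≫ g) g rfl ((f ≫ g) x)) hx'V
    have h2 := SmoothLib.formallySmooth_stalkMap_of_baseChange f _ H x' (hx'.symm ▸ h0) h1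
    exact hx' ▸ h2

end Groth.Agent.S16763
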