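import Groth.Statements.S16051
import Mathlib.Tactic

set_option autoImplicit false
universe u
open LieAlg

namespace Groth.Agent.S16051

variable {O : Type u} [CommRing O]

/-- extension by zero of a matrix to `ℕ` indices -/
def ext0 {m : ℕ} (M : Matrix (Fin m) (Fin m) O) (a b : ℕ) : O :=
  if h : a < m ∧ b < m then M ⟨a, h.1⟩ ⟨b, h.2⟩ else 0

theorem ext0_fin {m : ℕ} (M : Matrix (Fin m) (Fin m) O) (a b : Fin m) : ext0 M a b = M a b := by
  rw [ext0, dif_pos ⟨a.2, b.2⟩]

/-- diagonal partial sums -/
def wsum (Y : ℕ → ℕ → O) : ℕ → ℕ → O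
  | 0, _ => 0
  | i + 1, 0 => Y i 0
  | i + 1, j + 1 => Y i (j + 1) + wsum Y i j

theorem wsum_add (Y Y' : ℕ → ℕ → O) : ∀ i j, wsum (Y + Y') i j = wsum Y i j + wsum Y' i j
  | 0, _ => by simp [wsum]
  | i + 1, 0 => by simp [wsum]
  | i + 1, j + 1 => by simp [wsum, wsum_add Y Y' i j]; ring

theorem wsum_smul (c : O) (Y : ℕ → ℕ → O) : ∀ i j, wsum (c • Y) i j = c * wsum Y i j
  | 0, _ => by simp [wsum]
  | i + 1, 0 => by simp [wsum]
  | i + 1, j + 1 => by simp [wsum, wsum_smul c Y i j]; ring

theorem wsum_succ_self (Y : ℕ → ℕ → O) : ∀ i, wsum Y (i + 1) i = ∑ a ∈ Finset.range (i + 1), Y a a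
  | 0 => by simp [wsum]
  | i + 1 => by rw [Finset.sum_range_succ, ← wsum_succ_self Y i, wsum, add_comm]

theorem wsum_eq_zero (Y : ℕ → ℕ → O) : ∀ i j, (∀ a < i, ∀ b < a, Y a b = 0) → j + 1 < i → wsum Y i j = 0
  | 0, _ => fun _ h => by omega
  | i + 1, 0 => fun hY h => by simpa [wsum] using hY i (by omega) 0 (by omega)
  | i + 1, j + 1 => fun hY h => by
    rw [wsum, hY i (by omega) (j + 1) (by omega), wsum_eq_zero Y i j (fun a ha => hY a (by omega)) (by omega), add_zero]

theorem wsum_image {n : ℕ} (Y Z : ℕ → ℕ → O)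
    (h : ∀ a b, a < n → b < n → Y a b = (if a + 1 < n then Z (a + 1) b else 0) - (if 0 < b then Z a (b - 1) else 0)) :
    ∀ i j, j < i → i ≤ n → wsum Y i j = if i < n then Z i j else 0
  | 0, _ => fun hj => by omega
  | i + 1, 0 => fun _ hi => by rw [wsum, h i 0 (by omega) (by omega), if_neg (lt_irrefl 0), sub_zero]
  | i + 1, j + 1 => fun hj hi => by
    rw [wsum, h i (j + 1) (by omega) (by omega), wsum_image Y Z h i j (by omega) (by omega),
      if_pos (show i < n by omega), if_pos (Nat.succ_pos j), Nat.add_sub_cancel, sub_add_cancel]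

theorem mem_sl {m : ℕ} (M : Matrix (Fin m) (Fin m) O) :
    M ∈ LieAlgebra.SpecialLinear.sl (Fin m) O ↔ Matrix.trace M = 0 := LinearMap.mem_ker

theorem ext0_fun_eq_trace {n : ℕ} (M : Matrix (Fin (n + 1)) (Fin (n + 1)) O) :
    (∑ a ∈ Finset.range n, ext0 M a a) + ext0 M n n = Matrix.trace M := by
  rw [← Finset.sum_range_succ (fun a => ext0 M a a), ← Fin.sum_univ_eq_sum_range (fun a => ext0 M a a)]
  exact Finset.sum_congr rfl fun i _ => ext0_fin M i i

theorem main (n : ℕ) (hn : 1 ≤ n) (x : LieAlgebra.SpecialLinear.sl (Fin (n + 1)) O)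
    (hx : ∀ i j : Fin (n + 1), (x : Matrix (Fin (n + 1)) (Fin (n + 1)) O) i j =
      if j.val = i.val + 1 ∧ j.val < n then 1 else 0) :
    Nonempty ((LieAlgebra.SpecialLinear.sl (Fin (n + 1)) O ⧸
      LinearMap.range (LieAlgebra.ad O (LieAlgebra.SpecialLinear.sl (Fin (n + 1)) O) x)) ≃ₗ[O]
      (Fin (n - 1) → O) × O × O × O) := by
  classical
  let L := LieAlgebra.SpecialLinear.sl (Fin (n + 1)) O
  have hmul : ∀ (Z : Matrix (Fin (n + 1)) (Fin (n + 1)) O) (a b : ℕ), a < n + 1 → b < n + 1 →
      ext0 (x.1 * Z - Z * x.1) a b =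
        (if a + 1 < n then ext0 Z (a + 1) b else 0) - (if 0 < b ∧ b < n then ext0 Z a (b - 1) else 0) := by
    intro Z a b ha hb
    rw [ext0, dif_pos ⟨ha, hb⟩, Matrix.sub_apply, Matrix.mul_apply, Matrix.mul_apply]
    congr 1
    · split_ifs with h
      · rw [ext0, dif_pos ⟨by omega, hb⟩, Finset.sum_eq_single (⟨a + 1, by omega⟩ : Fin (n + 1))]
        · rw [hx, if_pos ⟨rfl, h⟩, one_mul]
        · intro c _ hc
          rw [hx, if_neg (fun he => hc (Fin.ext he.1)), zero_mul]
        · simp
      · refine Finset.sum_eq_zero fun c _ => ?_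
        rw [hx, if_neg (fun he => h (by simp only at he; omega)), zero_mul]
    · split_ifs with h
      · rw [ext0, dif_pos ⟨ha, by omega⟩, Finset.sum_eq_single (⟨b - 1, by omega⟩ : Fin (n + 1))]
        · rw [hx, if_pos ⟨by simp only; omega, h.2⟩, mul_one]
        · intro c _ hc
          rw [hx, if_neg (fun he => hc (Fin.ext (by simp only at he ⊢; omega))), mul_zero]
        · simp
      · refine Finset.sum_eq_zero fun c _ => ?_
        rw [hx, if_neg (fun he => h (by simp only at he; omega)), mul_zero]
  have hadd : ∀ M M' : Matrix (Fin (n + 1)) (Fin (n + 1)) O, ext0 (M + M') = ext0 M + ext0 M' := fun M M' => by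
    ext a b; simp only [ext0, Pi.add_apply]; split_ifs <;> simp
  have hsmul : ∀ (c : O) (M : Matrix (Fin (n + 1)) (Fin (n + 1)) O), ext0 (c • M) = c • ext0 M := fun c M => by
    ext a b; simp only [ext0, Pi.smul_apply]; split_ifs <;> simp
  let Φ : L →ₗ[O] (Fin (n - 1) → O) × O × O × O :=
    { toFun := fun y => (fun j => wsum (ext0 y.1) n j, ext0 y.1 n 0, ext0 y.1 (n - 1) n, ext0 y.1 n n)
      map_add' := fun y y' => by
        rw [show ((y + y' : L) : Matrix (Fin (n + 1)) (Fin (n + 1)) O) = y.1 + y'.1 from rfl, hadd]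
        simp only [Pi.add_apply, Prod.mk_add_mk, wsum_add]
        rfl
      map_smul' := fun c y => by
        rw [show ((c • y : L) : Matrix (Fin (n + 1)) (Fin (n + 1)) O) = c • y.1 from rfl, hsmul]
        simp only [Pi.smul_apply, RingHom.id_apply, Prod.smul_mk, wsum_smul, smul_eq_mul]
        rfl }
  have hΦ : ∀ y : L, Φ y = (fun j : Fin (n - 1) => wsum (ext0 y.1) n j, ext0 y.1 n 0, ext0 y.1 (n - 1) n, ext0 y.1 n n) :=
    fun y => rfl
  have hrange : LinearMap.range (LieAlgebra.ad O L x) = LinearMap.ker Φ := by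
    apply le_antisymm
    · rintro _ ⟨z, rfl⟩
      rw [LinearMap.mem_ker, hΦ, show ((LieAlgebra.ad O L x z : L) : Matrix (Fin (n + 1)) (Fin (n + 1)) O)
        = x.1 * z.1 - z.1 * x.1 from rfl]
      refine Prod.ext (funext fun j => ?_) (Prod.ext ?_ (Prod.ext ?_ ?_))
      · change wsum _ n j = 0
        have hj := j.2
        rw [wsum_image (n := n) _ (ext0 z.1) (fun a b ha hb => by
          rw [hmul _ a b (by omega) (by omega)]
          congr 1
          by_cases h : 0 < b
          · rw [if_pos h, if_pos ⟨h, hb⟩]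
          · rw [if_neg h, if_neg (fun h' => h h'.1)]) n j (by omega) le_rfl, if_neg (lt_irrefl n)]
      · change ext0 _ n 0 = 0
        rw [hmul _ _ _ (by omega) (by omega), if_neg (by omega), if_neg (by omega), sub_zero]
      · change ext0 _ (n - 1) n = 0
        rw [hmul _ _ _ (by omega) (by omega), if_neg (by omega), if_neg (by omega), sub_zero]
      · change ext0 _ n n = 0
        rw [hmul _ _ _ (by omega) (by omega), if_neg (by omega), if_neg (by omega), sub_zero]
    · intro y hy
      rw [LinearMap.mem_ker, hΦ] at hy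
      simp only [Prod.mk_eq_zero] at hy
      obtain ⟨h1, h2, h3, h4⟩ := hy
      set Y := ext0 y.1 with hY
      have hwn : ∀ j, j < n → wsum Y n j = 0 := by
        intro j hj
        rcases Nat.lt_or_ge j (n - 1) with h | h
        · exact congrFun h1 ⟨j, h⟩
        · obtain ⟨m, rfl⟩ : ∃ m, n = m + 1 := ⟨n - 1, by omega⟩
          obtain rfl : j = m := by omega
          rw [wsum_succ_self]
          have := ext0_fun_eq_trace y.1
          rwa [(mem_sl y.1).mp y.2, ← hY, h4, add_zero] at this
      let W : Matrix (Fin (n + 1)) (Fin (n + 1)) O := fun a b =>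
        if a.1 < n ∧ b.1 < n then wsum Y a b
        else if a.1 < n then (if a.1 = 0 then 0 else Y (a.1 - 1) n)
        else if b.1 < n then (if b.1 = n - 1 then 0 else -Y n (b.1 + 1))
        else -∑ c ∈ Finset.range n, wsum Y c c
      have hW : Matrix.trace W = 0 := by
        rw [← ext0_fun_eq_trace]
        have e1 : ∀ a ∈ Finset.range n, ext0 W a a = wsum Y a a := fun a ha => by
          rw [Finset.mem_range] at ha
          rw [ext0, dif_pos ⟨by omega, by omega⟩]
          simp only [W, if_pos (And.intro ha ha)]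
        have e2 : ext0 W n n = -∑ c ∈ Finset.range n, wsum Y c c := by
          rw [ext0, dif_pos ⟨by omega, by omega⟩]
          simp [W]
        rw [Finset.sum_congr rfl e1, e2, add_neg_cancel]
      refine ⟨⟨W, (mem_sl W).mpr hW⟩, Subtype.ext ?_⟩
      change x.1 * W - W * x.1 = y.1
      ext a b
      rw [← ext0_fin (x.1 * W - W * x.1), ← ext0_fin y.1, ← hY, hmul _ _ _ a.2 b.2]
      obtain ⟨a, ha⟩ := a
      obtain ⟨b, hb⟩ := b
      change (if a + 1 < n then _ else _) - (if 0 < b ∧ b < n then _ else _) = Y a b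
      have hWe : ∀ c d, (hc : c < n + 1) → (hd : d < n + 1) → ext0 W c d = W ⟨c, hc⟩ ⟨d, hd⟩ :=
        fun c d hc hd => ext0_fin W ⟨c, hc⟩ ⟨d, hd⟩
      rcases Nat.lt_or_ge a n with ha' | ha'
      · rcases Nat.lt_or_ge b n with hb' | hb'
        · have key : wsum Y (a + 1) b = Y a b + (if 0 < b then wsum Y a (b - 1) else 0) := by
            cases b with
            | zero => simp [wsum]
            | succ b => simp [wsum]
          have hB : (if 0 < b ∧ b < n then ext0 W a (b - 1) else 0) = if 0 < b then wsum Y a (b - 1) else 0 := by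
            by_cases h : 0 < b
            · rw [if_pos ⟨h, hb'⟩, if_pos h, hWe a (b - 1) ha (by omega)]
              simp only [W]
              rw [if_pos ⟨ha', by omega⟩]
            · rw [if_neg h, if_neg (fun h' => h h'.1)]
          rw [hB]
          by_cases h : a + 1 < n
          · rw [if_pos h, hWe (a + 1) b (by omega) hb]
            simp only [W]
            rw [if_pos ⟨h, hb'⟩, key, add_sub_cancel_right]
          · rw [if_neg h]
            rw [show a + 1 = n by omega, hwn b hb'] at key
            linear_combination key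
        · obtain rfl : b = n := by omega
          rw [if_neg (show ¬ (0 < b ∧ b < b) by omega), sub_zero]
          by_cases h : a + 1 < b
          · rw [if_pos h, hWe (a + 1) b (by omega) hb]
            simp only [W]
            rw [if_neg (by omega), if_pos h, if_neg (by omega), Nat.add_sub_cancel]
          · rw [if_neg h, show a = b - 1 by omega, h3]
      · obtain rfl : a = n := by omega
        rw [if_neg (show ¬ (a + 1 < a) by omega), zero_sub]
        by_cases h : 0 < b ∧ b < a
        · rw [if_pos h, hWe a (b - 1) ha (by omega)]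
          simp only [W]
          rw [if_neg (by omega), if_neg (lt_irrefl a), if_pos (by omega), if_neg (by omega), neg_neg,
            show b - 1 + 1 = b by omega]
        · rw [if_neg h, neg_zero]
          rcases (show b = 0 ∨ b = a by omega) with rfl | rfl
          · exact h2.symm
          · exact h4.symm
  have hsurj : Function.Surjective Φ := by
    rintro ⟨c, u, v, w⟩
    let M : Matrix (Fin (n + 1)) (Fin (n + 1)) O := fun a b =>
      if h : a.1 = n - 1 ∧ b.1 < n - 1 then c ⟨b, h.2⟩
      else if a.1 = n ∧ b.1 = 0 then u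
      else if a.1 = n - 1 ∧ b.1 = n then v
      else if a.1 = n ∧ b.1 = n then w
      else if a.1 = 0 ∧ b.1 = 0 then -w
      else 0
    have hM : ∀ a b, (ha : a < n + 1) → (hb : b < n + 1) → ext0 M a b = M ⟨a, ha⟩ ⟨b, hb⟩ :=
      fun a b ha hb => ext0_fin M ⟨a, ha⟩ ⟨b, hb⟩
    have hnn : ext0 M n n = w := by
      rw [hM n n (by omega) (by omega)]; simp only [M]
      rw [dif_neg (by omega), if_neg (by omega), if_neg (by omega), if_pos (by simp)]
    have htr : Matrix.trace M = 0 := by
      rw [← ext0_fun_eq_trace, hnn]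
      rw [Finset.sum_eq_single 0]
      · rw [hM 0 0 (by omega) (by omega)]; simp only [M]
        rw [dif_neg (by omega), if_neg (by omega), if_neg (by omega), if_neg (by omega), if_pos (by simp), neg_add_cancel]
      · intro b hb hb0
        rw [Finset.mem_range] at hb
        rw [hM b b (by omega) (by omega)]; simp only [M]
        rw [dif_neg (by omega), if_neg (by omega), if_neg (by omega), if_neg (by omega), if_neg (by omega)]
      · simp; omega
    refine ⟨⟨M, (mem_sl M).mpr htr⟩, ?_⟩
    rw [hΦ]
    refine Prod.ext (funext fun j => ?_) (Prod.ext ?_ (Prod.ext ?_ hnn))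
    · obtain ⟨j, hj⟩ := j
      change wsum (ext0 M) n j = c ⟨j, hj⟩
      obtain ⟨m, rfl⟩ : ∃ m, n = m + 1 := ⟨n - 1, by omega⟩
      have hlow : ∀ a < m, ∀ b < a, ext0 M a b = 0 := fun a ha b hb => by
        rw [hM a b (by omega) (by omega)]; simp only [M]
        rw [dif_neg (by omega), if_neg (by omega), if_neg (by omega), if_neg (by omega), if_neg (by omega)]
      have hc : ext0 M m j = c ⟨j, hj⟩ := by
        rw [hM m j (by omega) (by omega)]; simp only [M]
        rw [dif_pos ⟨by omega, hj⟩]
      cases j with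
      | zero => simpa [wsum] using hc
      | succ j => rw [wsum, wsum_eq_zero _ m j hlow (by omega), add_zero, hc]
    · change ext0 M n 0 = u
      rw [hM n 0 (by omega) (by omega)]; simp only [M]
      rw [dif_neg (by omega), if_pos (by simp)]
    · change ext0 M (n - 1) n = v
      rw [hM (n - 1) n (by omega) (by omega)]; simp only [M]
      rw [dif_neg (by omega), if_neg (by omega), if_pos (by simp)]
  exact ⟨(Submodule.quotEquivOfEq _ _ hrange).trans (LinearMap.quotKerEquivOfSurjective Φ hsurj)⟩


/-- Let O be a discrete valuation ring of characteristic zero with residue field of characteristic p,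
let 1 ≤ n with n + 1 < p (type A_n with p above the Coxeter number), and let x ∈ sl_{n+1}(O) be the
standard subregular nilpotent element, the matrix with entries x_{i,i+1} = 1 for i + 1 < n and 0
elsewhere (one Jordan block of size n and one of size 1; in the source this is the sum of the root
vectors of the first n − 1 simple roots, completed there to an sl₂-triple). Then the quotient of
sl_{n+1}(O) by the image of ad_x is a free O-module of rank n + 2. (The source works over a complete
such ring with algebraically closed residue field; completeness and algebraic closedness are not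
used for this statement.) -/
theorem result (O : Type u) [CommRing O] [IsDomain O] [IsDiscreteValuationRing O]
    [CharZero O] (p : ℕ) [Fact p.Prime] [CharP (IsLocalRing.ResidueField O) p]
    (n : ℕ) (hn : 1 ≤ n) (hp : n + 1 < p)
    (x : LieAlgebra.SpecialLinear.sl (Fin (n + 1)) O)
    (hx : ∀ i j : Fin (n + 1), (x : Matrix (Fin (n + 1)) (Fin (n + 1)) O) i j =
      if j.val = i.val + 1 ∧ j.val < n then 1 else 0) :
    Module.Free O (LieAlgebra.SpecialLinear.sl (Fin (n + 1)) O ⧸
        LinearMap.range (LieAlgebra.ad O (LieAlgebra.SpecialLinear.sl (Fin (n + 1)) O) x)) ∧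
      Module.finrank O (LieAlgebra.SpecialLinear.sl (Fin (n + 1)) O ⧸
        LinearMap.range (LieAlgebra.ad O (LieAlgebra.SpecialLinear.sl (Fin (n + 1)) O) x)) = n + 2 := by
  obtain ⟨e⟩ := main n hn x hx
  refine ⟨Module.Free.of_equiv e.symm, ?_⟩
  rw [e.finrank_eq, Module.finrank_prod, Module.finrank_prod, Module.finrank_prod, Module.finrank_pi, Module.finrank_self,
    Fintype.card_fin]
  omega

end Groth.Agent.S16051
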