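import Groth.Statements.S16052
import Mathlib.Algebra.Group.Subgroup.ZPowers.Basic
import Mathlib.Data.Int.GCD
import Mathlib.Algebra.GCDMonoid.Finset
import Mathlib.RingTheory.Coprime.Lemmas
import Mathlib.Tactic
import Groth.Agent.CommAlg4.TameKummer

set_option linter.all false

set_option autoImplicit false
universe u
open Polynomial
open CAlg

open Polynomial IntermediateField

namespace Groth.Agent.S16052

theorem natCast_residue_ne_zero' {F : Type*} [Field F] (p : ℕ) [Fact p.Prime] [CharP F p] {m : ℕ}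
    (r : Fin m → ℕ) (hr : ∀ i, 1 ≤ r i) (hp : ∑ i, r i < p) :
    ((Finset.univ.lcm r : ℕ) : F) ≠ 0 := by
  intro h
  have hd := (CharP.cast_eq_zero_iff F p _).mp h
  have hpr : p ∣ ∏ i, r i := hd.trans (Finset.lcm_dvd fun i hi => Finset.dvd_prod_of_mem r hi)
  obtain ⟨i, -, hi⟩ := ((Fact.out : p.Prime).prime.dvd_finsetProd_iff _).mp hpr
  have := Nat.le_of_dvd (hr i) hi
  have := Finset.single_le_sum (f := r) (fun j _ => Nat.zero_le _) (Finset.mem_univ i)
  omega

/-- Let O be a henselian discrete valuation ring of characteristic zero with algebraically closed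
residue field of characteristic p, ϖ a uniformizer and K the fraction field. Let r_1, …, r_m ≥ 1 and
b_1, …, b_m ≥ 1 be integers with gcd(r_i, b_i) = 1 for each i and r_1 + ⋯ + r_m < p, and let v_1, …,
v_m be units of O. Then the splitting field over K of the polynomial ∏_i (y^{r_i} − v_i ϖ^{b_i}) has
degree lcm(r_1, …, r_m) over K. (In the source O is complete and this polynomial is the y-part of a
deformation y ↦ x² + z² + f(y) of an A_n-singularity with n + 1 = Σ r_i; the proposition goes on to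
identify the monodromy element, which is not stated here.) -/
theorem result (O : Type u) [CommRing O] [IsDomain O]
    [IsDiscreteValuationRing O] [HenselianLocalRing O] [CharZero O] [IsAlgClosed (IsLocalRing.ResidueField O)]
    (p : ℕ) [Fact p.Prime] [CharP (IsLocalRing.ResidueField O) p]
    (ϖ : O) (hϖ : Irreducible ϖ) (m : ℕ) (r b : Fin m → ℕ) (v : Fin m → Oˣ)
    (hr : ∀ i, 1 ≤ r i) (hb : ∀ i, 1 ≤ b i) (hrb : ∀ i, Nat.Coprime (r i) (b i)) (hp : ∑ i, r i < p) :
    Module.finrank (FractionRing O)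
        (∏ i, (X ^ (r i) - C (algebraMap O (FractionRing O) ((v i : O) * ϖ ^ (b i))))).SplittingField =
      Finset.univ.lcm r := by
  classical
  set L := Finset.univ.lcm r with hLdef
  have hL : 0 < L := Nat.pos_of_ne_zero (by
    rw [hLdef, Ne, Finset.lcm_eq_zero_iff]
    push Not
    intro i _
    exact Nat.one_le_iff_ne_zero.mp (hr i))
  have hLk := natCast_residue_ne_zero' (F := IsLocalRing.ResidueField O) p r hr hp
  have hdv : ∀ i, r i ∣ L := fun i => hLdef ▸ Finset.dvd_lcm (Finset.mem_univ i)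
  choose q hq using hdv
  have hrk : ∀ i, ((r i : ℕ) : IsLocalRing.ResidueField O) ≠ 0 := fun i h => hLk (by
    show (L : IsLocalRing.ResidueField O) = 0
    rw [hq i, Nat.cast_mul, h, zero_mul])
  let K := FractionRing O
  let Ω := AlgebraicClosure K
  obtain ⟨α, hα⟩ := IsAlgClosed.exists_pow_nat_eq (algebraMap O Ω ϖ) hL
  have hmemK : ∀ a : O, algebraMap O Ω a ∈ K⟮α⟯ := fun a => by
    rw [IsScalarTower.algebraMap_apply O K Ω]; exact K⟮α⟯.algebraMap_mem _
  choose wv hwv using fun i =>
    Groth.Agent.CommAlg4.TameKummer.exists_pow_eq_unit (hr i) (hrk i) (v i)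
  set g := ∏ i, (X ^ (r i) - C (algebraMap O K ((v i : O) * ϖ ^ (b i)))) with hg
  have hg0 : g ≠ 0 := Finset.prod_ne_zero_iff.mpr fun i _ => (monic_X_pow_sub_C _ (Nat.one_le_iff_ne_zero.mp (hr i))).ne_zero
  have hroots : ∀ x : Ω, x ∈ g.rootSet Ω ↔ ∃ i, x ^ r i = algebraMap O Ω ((v i : O) * ϖ ^ b i) := by
    intro x
    rw [mem_rootSet, and_iff_right hg0, hg, map_prod, Finset.prod_eq_zero_iff]
    simp [sub_eq_zero, ← IsScalarTower.algebraMap_apply]
  have hcand : ∀ i, (algebraMap O Ω (wv i : O) * α ^ (b i * q i)) ^ r i =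
      algebraMap O Ω ((v i : O) * ϖ ^ b i) := fun i => by
    have e1 : b i * q i * r i = L * b i := by rw [hq i]; ring
    rw [mul_pow, ← map_pow, hwv, ← pow_mul, map_mul, map_pow, ← hα, ← pow_mul, e1]
  have hw0 : ∀ i, algebraMap O Ω (wv i : O) ≠ 0 := fun i => ((wv i).isUnit.map (algebraMap O Ω)).ne_zero
  have hα0 : α ≠ 0 := fun h => by
    rw [h, zero_pow hL.ne', eq_comm, IsScalarTower.algebraMap_apply O K Ω, map_eq_zero,
      IsFractionRing.to_map_eq_zero_iff] at hα
    exact hϖ.ne_zero hα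
  refine (Groth.Agent.CommAlg4.TameKummer.main_of_adjoin_rootSet hL hLk hϖ α hα g
    (le_antisymm (IntermediateField.adjoin_le_iff.mpr fun x hx => ?_) (adjoin_simple_le_iff.mpr ?_))).1
  · obtain ⟨i, hi⟩ := (hroots x).mp hx
    set x' := algebraMap O Ω (wv i : O) * α ^ (b i * q i)
    have hx'0 : x' ≠ 0 := mul_ne_zero (hw0 i) (pow_ne_zero _ hα0)
    obtain ⟨ζ, hζ⟩ := Groth.Agent.CommAlg4.TameKummer.exists_primitiveRoot (hr i) (hrk i)
    have : NeZero (r i) := ⟨Nat.one_le_iff_ne_zero.mp (hr i)⟩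
    obtain ⟨j, -, hj⟩ := (hζ.map_of_injective (algebraMap K Ω).injective).eq_pow_of_pow_eq_one
      (ξ := x / x') (by rw [div_pow, hi, ← hcand i, div_self (pow_ne_zero _ hx'0)])
    rw [eq_div_iff hx'0] at hj
    rw [← hj, ← map_pow]
    exact mul_mem (K⟮α⟯.algebraMap_mem _) (mul_mem (hmemK _) (pow_mem (mem_adjoin_simple_self K α) _))
  · set E := IntermediateField.adjoin K (g.rootSet Ω)
    have hE : ∀ a : O, algebraMap O Ω a ∈ E := fun a => by
      rw [IsScalarTower.algebraMap_apply O K Ω]; exact E.algebraMap_mem _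
    let H : AddSubgroup ℤ :=
      { carrier := {n | α ^ n ∈ E}
        zero_mem' := by simpa using E.one_mem
        add_mem' := fun {a c} ha hc => by
          show α ^ (a + c) ∈ E
          rw [zpow_add₀ hα0]; exact mul_mem ha hc
        neg_mem' := fun {a} ha => by
          show α ^ (-a) ∈ E
          rw [zpow_neg]; exact inv_mem ha }
    have hLH : (L : ℤ) ∈ H := by
      show α ^ (L : ℤ) ∈ E
      rw [zpow_natCast, hα]; exact hE _
    have hbqH : ∀ i, ((b i * q i : ℕ) : ℤ) ∈ H := fun i => by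
      show α ^ ((b i * q i : ℕ) : ℤ) ∈ E
      rw [zpow_natCast]
      have h1 : algebraMap O Ω (wv i : O) * α ^ (b i * q i) ∈ E :=
        IntermediateField.subset_adjoin K _ ((hroots _).mpr ⟨i, hcand i⟩)
      simpa [hw0 i] using mul_mem (inv_mem (hE (wv i : O))) h1
    have hqH : ∀ i, (q i : ℤ) ∈ H := fun i => by
      obtain ⟨s, t, hst⟩ := Nat.isCoprime_iff_coprime.mpr (hrb i)
      have : (q i : ℤ) = s • (L : ℤ) + t • ((b i * q i : ℕ) : ℤ) := by
        have e1 : (L : ℤ) = (r i : ℤ) * q i := by exact_mod_cast hq i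
        rw [e1]; push_cast; simp only [smul_eq_mul]
        linear_combination (-(q i : ℤ)) * hst
      rw [this]
      exact H.add_mem (H.zsmul_mem hLH s) (H.zsmul_mem (hbqH i) t)
    obtain ⟨d, hd⟩ := Int.subgroup_cyclic H
    have hmem : ∀ n : ℤ, n ∈ H ↔ d ∣ n := fun n => by
      rw [hd, AddSubgroup.mem_closure_singleton]
      simp [dvd_def, eq_comm, mul_comm, smul_eq_mul]
    have hdn : d.natAbs ∣ 1 := by
      obtain ⟨c, hc⟩ : d.natAbs ∣ L := Int.natAbs_dvd_natAbs.mpr ((hmem _).mp hLH) |>.trans (by simp)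
      have hLc : L ∣ c := Finset.lcm_dvd fun i _ => by
        obtain ⟨e, he⟩ : d.natAbs ∣ q i := Int.natAbs_dvd_natAbs.mpr ((hmem _).mp (hqH i)) |>.trans (by simp)
        have hd0 : 0 < d.natAbs := Nat.pos_of_ne_zero fun h => by rw [hc, h, zero_mul] at hL; exact lt_irrefl 0 hL
        have : d.natAbs * c = d.natAbs * (r i * e) := by
          calc d.natAbs * c = L := hc.symm
            _ = r i * q i := hq i
            _ = d.natAbs * (r i * e) := by rw [he]; ring
        exact ⟨e, Nat.eq_of_mul_eq_mul_left hd0 this⟩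
      obtain ⟨f, hf⟩ := hLc
      refine ⟨f, Nat.eq_of_mul_eq_mul_left hL ?_⟩
      calc L * 1 = L := mul_one L
        _ = d.natAbs * c := hc
        _ = L * (d.natAbs * f) := by rw [hf]; ring
    have : (1 : ℤ) ∈ H := (hmem 1).mpr (Int.natAbs_dvd.mp (by exact_mod_cast hdn))
    simpa using (show α ^ (1 : ℤ) ∈ E from this)

end Groth.Agent.S16052
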