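import Groth.Statements.S16053
import Mathlib.Algebra.Group.Subgroup.ZPowers.Basic
import Mathlib.Data.Int.GCD
import Mathlib.Algebra.GCDMonoid.Finset
import Mathlib.RingTheory.Coprime.Lemmas
import Mathlib.Tactic
import Groth.Agent.CommAlg4.TameKummer

set_option linter.all false

set_option autoImplicit false
universe u
open Polynomial
open CAlg

open Polynomial IntermediateField

namespace Groth.Agent.S16053

theorem natCast_residue_ne_zero {F : Type*} [Field F] (p : ℕ) [CharP F p] {e : ℕ} (he : 0 < e) (hep : e < p) :
    (e : F) ≠ 0 := fun h => absurd (Nat.le_of_dvd he ((CharP.cast_eq_zero_iff F p e).mp h)) (by omega)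

/-- Let O be a henselian discrete valuation ring of characteristic zero with algebraically closed
residue field of characteristic p and fraction field K, and let f ∈ O[y] be a monic polynomial of
degree e with 1 ≤ e < p which is Eisenstein at the maximal ideal of O. Then the splitting field of f
over K has degree e over K and the Galois group of f over K is cyclic. (In the source O is complete,
e = n + 1 and f is the y-part y^{n+1} + u_n ϖ^{a_n} y^{n−1} + ⋯ + u_1 ϖ of an A_n-degeneration
meeting the discriminant transversally; the corollary's conclusion that monodromy acts through a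
Coxeter element is not stated here.) -/
theorem result (O : Type u) [CommRing O] [IsDomain O]
    [IsDiscreteValuationRing O] [HenselianLocalRing O] [CharZero O] [IsAlgClosed (IsLocalRing.ResidueField O)]
    (p : ℕ) [Fact p.Prime] [CharP (IsLocalRing.ResidueField O) p]
    (f : O[X]) (hmon : f.Monic) (e : ℕ) (hdeg : f.natDegree = e) (he : 1 ≤ e) (hep : e < p)
    (hf : f.IsEisensteinAt (IsLocalRing.maximalIdeal O)) :
    Module.finrank (FractionRing O) (f.map (algebraMap O (FractionRing O))).SplittingField = e ∧
      IsCyclic (f.map (algebraMap O (FractionRing O))).Gal := by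
  have hek := natCast_residue_ne_zero (F := IsLocalRing.ResidueField O) p he hep
  obtain ⟨ϖ, hϖ⟩ := IsDiscreteValuationRing.exists_irreducible O
  let K := FractionRing O
  let Ω := AlgebraicClosure K
  obtain ⟨α, hα⟩ := IsAlgClosed.exists_pow_nat_eq (algebraMap O Ω ϖ) he
  have hroot : ∀ x : Ω, x ∈ (f.map (algebraMap O K)).rootSet Ω → K⟮x⟯ = K⟮α⟯ := fun x hx => by
    rw [mem_rootSet, aeval_map_algebraMap] at hx
    exact Groth.Agent.CommAlg4.TameKummer.eisenstein_root_mem he hek hϖ α hα hmon hdeg hf hx.2
  refine Groth.Agent.CommAlg4.TameKummer.main_of_adjoin_rootSet he hek hϖ α hα _ (le_antisymm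
    (IntermediateField.adjoin_le_iff.mpr fun x hx => hroot x hx ▸ mem_adjoin_simple_self K x) ?_)
  obtain ⟨x, hx⟩ := IsAlgClosed.exists_aeval_eq_zero Ω (f.map (algebraMap O K)) (by
    rw [hmon.degree_map, degree_eq_natDegree hmon.ne_zero, hdeg]
    exact_mod_cast (by omega : e ≠ 0))
  have hxr : x ∈ (f.map (algebraMap O K)).rootSet Ω := mem_rootSet.mpr ⟨(hmon.map _).ne_zero, hx⟩
  rw [← hroot x hxr]
  exact adjoin_simple_le_iff.mpr (subset_adjoin K _ hxr)

end Groth.Agent.S16053
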