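import Groth.Statements.S16057
import Groth.Agent.GrPos9.ReesSerre
-- import your own Groth.Agent.* helpers here

set_option autoImplicit false
universe u
open GrLC
set_option maxHeartbeats 4000000

namespace Groth.Agent.S16057

/-- Let A be a Noetherian local ring with maximal ideal m, and I an ideal of A whose radical is m (an
m-primary ideal), and M a finitely generated A-module; let R(I) = ⊕_{n ≥ 0} Iⁿ Xⁿ ⊆ A[X] be the Rees
algebra, graded by the powers of X, with irrelevant ideal R(I)_+ = ⊕_{n ≥ 1} Iⁿ Xⁿ, and M* = ⊕_{n ≥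
0} IⁿM Xⁿ the Rees module of M, a graded R(I)-module; let P ∈ ℚ[t] be the Hilbert–Samuel polynomial
of M with respect to I, that is, P(n) = ℓ_A(M/IⁿM) for all sufficiently large n. Then for every
integer n ≥ 0, writing H^i_{R(I)_+}(M*)_n for the degree-n homogeneous piece of the i-th graded
local cohomology module of M* with support in R(I)_+ (computed from any *injective resolution of M*
in the category of graded R(I)-modules), a module over R(I)_0 = A: each H^i_{R(I)_+}(M*)_n has
finite length, only finitely many of them are nonzero, and P(n) − ℓ_A(M/IⁿM) = Σ_{i ≥ 0} (−1)^i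
ℓ(H^i_{R(I)_+}(M*)_n). -/
theorem result (A : Type u) [CommRing A]
    [IsNoetherianRing A] [IsLocalRing A] (I : Ideal A) (hI : I.radical = IsLocalRing.maximalIdeal A)
    (M : Type u) [AddCommGroup M] [Module A M] [Module.Finite A M] (P : Polynomial ℚ)
    (hP : ∃ N : ℕ, ∀ n : ℕ, N ≤ n →
      P.eval (n : ℚ) = ((Module.length A (M ⧸ (I ^ n • (⊤ : Submodule A M)))).toNat : ℚ))
    (E : GrLC.StarInjRes (Rees.degZ (reesAlgebra I)) (Rees.mdegZ (Rees.powFilt I M))) (n : ℕ) :
    (∀ i : ℕ, IsFiniteLength (GrLC.deg0 (Rees.degZ (reesAlgebra I))) (E.Hcomp (GrSyz.irrel (Rees.degZ (reesAlgebra I))) i (n : ℤ))) ∧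
      Set.Finite {i : ℕ | E.Hcomp (GrSyz.irrel (Rees.degZ (reesAlgebra I))) i (n : ℤ) ≠ ⊥} ∧
      P.eval (n : ℚ) - ((Module.length A (M ⧸ (I ^ n • (⊤ : Submodule A M)))).toNat : ℚ) =
        finsum (fun i : ℕ => (-1 : ℚ) ^ i *
          ((Module.length (GrLC.deg0 (Rees.degZ (reesAlgebra I))) (E.Hcomp (GrSyz.irrel (Rees.degZ (reesAlgebra I))) i (n : ℤ))).toNat : ℚ)) := by
  open Groth.Agent.GrPos9 Groth.Agent.GrPos9.ReesSerre in
  haveI := rees_finite I M
  let d := reesCoeffs I M
  have key := fun k : ℕ => d.main (rees_hpos I) (GrSyz.irrel (Rees.degZ (reesAlgebra I))) (rees_hP I) hI.ge P hP E k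
  obtain ⟨hfl, D, hD, heq⟩ := key n
  have hbot : ∀ i : ℕ, D < i →
      E.Hcomp (GrSyz.irrel (Rees.degZ (reesAlgebra I))) i (n : ℤ) = ⊥ := fun i hi => by
    haveI := hD i hi
    exact Subsingleton.elim _ _
  refine ⟨fun i => isFiniteLength_iff_isNoetherian_isArtinian.2 (hfl i), ?_, ?_⟩
  · refine (Set.finite_Iic D).subset fun i hi => ?_
    by_contra h
    exact hi (hbot i (not_le.1 h))
  · refine Eq.trans heq ?_
    symm
    refine finsum_eq_finset_sum_of_support_subset _ fun i hi => ?_
    rw [Finset.coe_range, Set.mem_Iio]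
    by_contra h
    refine hi ?_
    haveI : Subsingleton (E.Hcomp (GrSyz.irrel (Rees.degZ (reesAlgebra I))) i (n : ℤ)) := by
      haveI := hD i (by omega)
      infer_instance
    simp

end Groth.Agent.S16057
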