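import Groth.Statements.S16071
import Groth.Agent.HopfQuot.AlphaPCalc
import Mathlib.Data.Nat.Prime.Factorial

set_option autoImplicit false
universe u
open CartDual

namespace Groth.Agent.S16071
open Groth.Agent.HopfQuot TensorProduct CartDual

/-- Let p be a prime, R a commutative ring of characteristic p and A = R[X]/(X^p) the Hopf algebra of
α_p over Spec R, with X primitive. Then the Cartier dual of α_p is again α_p: there is a bialgebra
isomorphism e from the dual Hopf algebra Hom_R(A, R), with the transposed structure maps, to A,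
whose inverse sends X to the linear form dual to X with respect to the basis 1, X, …, X^{p-1} of A
(so e⁻¹(X) takes the value 1 on X and 0 on the other powers X^i, i < p). (Any commutative base ring
of characteristic p is allowed.) -/
theorem result (p : ℕ) [Fact p.Prime] (R : Type u) [CommRing R] [CharP R p] :
    ∃ e : CartDual.D R (AlphaP.A p R) ≃ₐc[R] AlphaP.A p R,
      ∀ i : ℕ, i < p → (e.symm (AlphaP.x p R)) (AlphaP.x p R ^ i) = if i = 1 then 1 else 0 := by
  haveI := AlphaCalc.nontrivial_base p R
  let y : CartDual.D R (AlphaP.A p R) := WithConv.toConv (AlphaCalc.L1 p R)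
  have hy1 : ∀ a b : CartDual.D R (AlphaP.A p R), ∀ z, (a * b) z =
      a (TensorProduct.rid R _ (b.ofConv.lTensor _ (Coalgebra.comul (R := R) z))) := by
    intro a b z
    rw [LinearMap.convMul_apply]
    generalize Coalgebra.comul (R := R) z = w
    induction w using TensorProduct.induction_on with
    | zero => simp
    | add u v hu hv => simp only [map_add, hu, hv]
    | tmul u v => simp [mul_comm]
  have hpow : ∀ j i : ℕ, i < p → (y ^ j) (AlphaP.x p R ^ i) = if i = j then (Nat.factorial j : R) else 0 := by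
    intro j
    induction j with
    | zero =>
      intro i _
      rw [pow_zero, LinearMap.convOne_def]
      show algebraMap R R (Coalgebra.counit (R := R) (AlphaP.x p R ^ i)) = _
      rw [Bialgebra.counit_pow, AlphaP.counit_x, Algebra.algebraMap_self, RingHom.id_apply, zero_pow_eq]
      simp
    | succ j ih =>
      intro i hi
      rw [pow_succ, hy1]
      show (y ^ j) (AlphaCalc.deriv p R (AlphaP.x p R ^ i)) = _
      rw [AlphaCalc.deriv_pow p R hi, map_smul, ih (i - 1) (by omega), smul_eq_mul]
      rcases Nat.eq_zero_or_pos i with rfl | hi0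
      · simp
      · by_cases h : i = j + 1
        · subst h
          rw [if_pos rfl, if_pos (by omega), Nat.factorial_succ, Nat.cast_mul]
        · rw [if_neg h, if_neg (by omega), mul_zero]
  have hext : ∀ a b : CartDual.D R (AlphaP.A p R), (∀ i, i < p → a (AlphaP.x p R ^ i) = b (AlphaP.x p R ^ i)) → a = b :=
    fun a b h => WithConv.ext ((AlphaP.basis p R).ext fun i => by rw [AlphaP.basis_apply]; exact h i i.2)
  have hyp : y ^ p = 0 := hext _ _ fun i hi => by
    rw [hpow p i hi, if_neg (by omega)]
    rfl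
  let f := AlphaP.lift p R y hyp
  have hfε : (Bialgebra.counitAlgHom R _).comp f = Bialgebra.counitAlgHom R _ := by
    refine AlphaP.algHom_ext ?_
    show Coalgebra.counit (R := R) (f (AlphaP.x p R)) = Coalgebra.counit (R := R) (AlphaP.x p R)
    rw [AlphaP.lift_x, AlphaP.counit_x, CartDual.coalgebra_counit_apply]
    exact AlphaCalc.L1_one p R
  have hfΔ : (Algebra.TensorProduct.map f f).comp (Bialgebra.comulAlgHom R _) = (Bialgebra.comulAlgHom R _).comp f := by
    refine AlphaP.algHom_ext ?_
    show Algebra.TensorProduct.map f f (Coalgebra.comul (R := R) (AlphaP.x p R)) =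
      Coalgebra.comul (R := R) (f (AlphaP.x p R))
    rw [AlphaP.comul_x, map_add, Algebra.TensorProduct.map_tmul, Algebra.TensorProduct.map_tmul, map_one,
      AlphaP.lift_x]
    apply (CartDual.ev₂ R _).injective
    apply ((AlphaP.basis p R).tensorProduct (AlphaP.basis p R)).ext
    rintro ⟨i, j⟩
    rw [Module.Basis.tensorProduct_apply, CartDual.comul_def, CartDual.ev₂_comul_tmul, map_add, LinearMap.add_apply,
      CartDual.ev₂_tmul, CartDual.ev₂_tmul, AlphaP.basis_apply, AlphaP.basis_apply, ← pow_add]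
    have hy : ∀ n, n < p → y (AlphaP.x p R ^ n) = if n = 1 then 1 else 0 := fun n hn => AlphaCalc.L1_pow p R hn
    have h1 : ∀ n, (1 : CartDual.D R (AlphaP.A p R)) (AlphaP.x p R ^ n) = if n = 0 then 1 else 0 := fun n => by
      show algebraMap R R (Coalgebra.counit (R := R) (AlphaP.x p R ^ n)) = _
      rw [Bialgebra.counit_pow, AlphaP.counit_x, Algebra.algebraMap_self, RingHom.id_apply, zero_pow_eq]
    rw [hy _ i.2, hy _ j.2, h1, h1]
    have hzero : (i : ℕ) + j ≠ 1 → y (AlphaP.x p R ^ ((i : ℕ) + j)) = 0 := fun hne => by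
      by_cases hlt : (i : ℕ) + j < p
      · rw [hy _ hlt, if_neg hne]
      · rw [AlphaP.x_pow_of_le p R (Nat.le_of_not_lt hlt)]; exact map_zero y.ofConv
    by_cases hi0 : (i : ℕ) = 0
    · rw [hi0, zero_add, hy _ j.2]
      by_cases hj0 : (j : ℕ) = 1 <;> simp [hj0]
    · by_cases hj0 : (j : ℕ) = 0
      · rw [hj0, add_zero, hy _ i.2]
        by_cases hi1 : (i : ℕ) = 1 <;> simp [hi1, hi0]
      · rw [hzero (by omega)]
        simp [hi0, hj0]
  have hfac : ∀ j, j < p → IsUnit (Nat.factorial j : R) := fun j hj => by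
    have hne : (Nat.factorial j : ZMod p) ≠ 0 := fun h0 => by
      have := (Nat.Prime.dvd_factorial (Fact.out : Nat.Prime p)).1 ((ZMod.natCast_eq_zero_iff _ _).1 h0)
      omega
    have := (IsUnit.mk0 _ hne).map (ZMod.castHom dvd_rfl R)
    rwa [map_natCast] at this
  have hf : ∀ (c : Fin p → R) (i : Fin p),
      (f (∑ j, c j • AlphaP.basis p R j)) (AlphaP.x p R ^ (i : ℕ)) = c i * (Nat.factorial i : R) := by
    intro c i
    rw [map_sum, CartDual.coe_apply, WithConv.ofConv_sum, LinearMap.sum_apply, Finset.sum_eq_single i]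
    · rw [map_smul, AlphaP.basis_apply, map_pow f, AlphaP.lift_x]
      show c i * (y ^ (i : ℕ)) (AlphaP.x p R ^ (i : ℕ)) = _
      rw [hpow _ _ i.2, if_pos rfl]
    · intro j _ hj
      rw [map_smul, AlphaP.basis_apply, map_pow f, AlphaP.lift_x]
      show c j * (y ^ (j : ℕ)) (AlphaP.x p R ^ (i : ℕ)) = 0
      rw [hpow _ _ i.2, if_neg (fun h => hj (Fin.ext h.symm)), mul_zero]
    · intro h; exact absurd (Finset.mem_univ i) h
  have hb : Function.Bijective (BialgHom.ofAlgHom f hfε hfΔ) := by
    refine ⟨fun a b h => ?_, fun d => ?_⟩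
    · have h' : f a = f b := h
      apply (AlphaP.basis p R).repr.injective
      refine Finsupp.ext fun i => ?_
      have hi : (f a) (AlphaP.x p R ^ (i : ℕ)) = (f b) (AlphaP.x p R ^ (i : ℕ)) := by rw [h']
      rw [← (AlphaP.basis p R).sum_repr a, ← (AlphaP.basis p R).sum_repr b, hf, hf] at hi
      exact (hfac i i.2).mul_right_cancel hi
    · refine ⟨∑ j : Fin p, (d (AlphaP.x p R ^ (j : ℕ)) * ((hfac j j.2).unit⁻¹ : Rˣ)) • AlphaP.basis p R j, ?_⟩
      refine hext _ _ fun i hi => ?_
      show (f (∑ j : Fin p, _)) (AlphaP.x p R ^ ((⟨i, hi⟩ : Fin p) : ℕ)) = _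
      rw [hf]
      rw [mul_assoc, IsUnit.val_inv_mul, mul_one]
  refine ⟨(BialgEquiv.ofBijective (BialgHom.ofAlgHom f hfε hfΔ) hb).symm, fun i hi => ?_⟩
  show (f (AlphaP.x p R)) (AlphaP.x p R ^ i) = _
  rw [AlphaP.lift_x]
  exact AlphaCalc.L1_pow p R hi

end Groth.Agent.S16071
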