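import Groth.Statements.S16072
import Groth.Agent.HopfQuot.AlphaPCalc
import Mathlib.RingTheory.Nilpotent.Lemmas

set_option autoImplicit false
universe u
open Hopf

namespace Groth.Agent.S16072
open Groth.Agent.HopfQuot

/-- Let p be a prime and R a commutative ring of characteristic p (p = 0 in R, R nonzero). Then the
constant group scheme ℤ/p and the group scheme μ_p of p-th roots of unity over Spec R are not
isomorphic: there is no R-bialgebra isomorphism between the Hopf algebra Maps(ℤ/p, R) of functions
on the cyclic group of order p and the group algebra R[ℤ/p]. (Any nonzero commutative base ring of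
characteristic p is allowed. The published statement allows any ring R with p·R = 0; over the zero
ring both Hopf algebras are the zero ring and hence isomorphic, so R is assumed nonzero here.) -/
theorem result (p : ℕ) [Fact p.Prime] (R : Type u) [CommRing R]
    [CharP R p] :
    IsEmpty (ConstGrp.F R (Multiplicative (ZMod p)) ≃ₐc[R] MonoidAlgebra R (Multiplicative (ZMod p))) := by
  haveI := AlphaCalc.nontrivial_base p R
  refine ⟨fun e => AlphaCalc.false_of_equiv (a := (1 : Multiplicative (ZMod p))) (b := Multiplicative.ofAdd 1)
    ?_ (Bialgebra.counitAlgHom R (MonoidAlgebra R (Multiplicative (ZMod p)))) ?_ (e.toAlgEquiv)⟩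
  · intro h
    exact one_ne_zero (congrArg Multiplicative.toAdd h).symm
  haveI : CharP (MonoidAlgebra R (Multiplicative (ZMod p))) p :=
    charP_of_injective_algebraMap (Bialgebra.algebraMap_injective (R := R) _) p
  have hg : ∀ g : Multiplicative (ZMod p), IsNilpotent (MonoidAlgebra.single g (1 : R) - 1) := fun g => ⟨p, by
    have hp1 : g ^ p = 1 := by
      apply Multiplicative.toAdd.injective
      rw [toAdd_pow, toAdd_one, nsmul_eq_mul, ZMod.natCast_self, zero_mul]
    rw [sub_pow_char, one_pow, MonoidAlgebra.single_pow, hp1, one_pow, ← MonoidAlgebra.one_def, sub_self]⟩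
  intro x
  rw [← mem_nilradical]
  induction x using MonoidAlgebra.induction_on with
  | of g =>
    rw [MonoidAlgebra.of_apply,
      show Bialgebra.counitAlgHom R _ (MonoidAlgebra.single g (1 : R)) = 1 by simp, map_one, mem_nilradical]
    exact hg g
  | add a b ha hb =>
    rw [map_add, map_add, add_sub_add_comm]
    exact add_mem ha hb
  | smul r a ha =>
    rw [map_smul, smul_eq_mul, map_mul, ← Algebra.smul_def, ← smul_sub, Algebra.smul_def]
    exact Ideal.mul_mem_left _ _ ha

end Groth.Agent.S16072
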