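import Groth.Statements.S16073
import Groth.Agent.HopfQuot.AlphaPCalc
import Mathlib.RingTheory.Nilpotent.Lemmas

set_option autoImplicit false
universe u
open Hopf

namespace Groth.Agent.S16073
open Groth.Agent.HopfQuot

/-- Let p be a prime and R a commutative ring of characteristic p (p = 0 in R, R nonzero). Then the
constant group scheme ℤ/p and α_p over Spec R are not isomorphic: there is no R-bialgebra
isomorphism between the Hopf algebra Maps(ℤ/p, R) of functions on the cyclic group of order p and
the Hopf algebra R[X]/(X^p) of α_p (X primitive). (Any nonzero commutative base ring of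
characteristic p is allowed. The published statement allows any ring R with p·R = 0; over the zero
ring both Hopf algebras are the zero ring and hence isomorphic, so R is assumed nonzero here.) -/
theorem result (p : ℕ) [Fact p.Prime] (R : Type u) [CommRing R] [CharP R p] :
    IsEmpty (ConstGrp.F R (Multiplicative (ZMod p)) ≃ₐc[R] AlphaP.A p R) := by
  haveI := AlphaCalc.nontrivial_base p R
  refine ⟨fun e => AlphaCalc.false_of_equiv (a := (1 : Multiplicative (ZMod p))) (b := Multiplicative.ofAdd 1)
    ?_ (Bialgebra.counitAlgHom R (AlphaP.A p R)) ?_ (e.toAlgEquiv)⟩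
  · intro h
    exact one_ne_zero (congrArg Multiplicative.toAdd h).symm
  intro a
  obtain ⟨f, rfl⟩ := AlphaP.mk_surjective p R a
  rw [← mem_nilradical]
  induction f using Polynomial.induction_on' with
  | add q r hq hr =>
    rw [map_add, map_add, map_add, add_sub_add_comm]
    exact add_mem hq hr
  | monomial n c =>
    rw [← Polynomial.C_mul_X_pow_eq_monomial, ← Polynomial.algebraMap_eq, map_mul, AlgHom.commutes, map_pow,
      AlphaP.mk_X, map_mul, AlgHom.commutes, map_pow, AlphaP.counitAlgHom_eq, AlphaP.counitAlg_x, map_mul, map_pow,
      map_zero, Algebra.algebraMap_self, RingHom.id_apply, ← mul_sub]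
    refine Ideal.mul_mem_left _ _ ?_
    rcases Nat.eq_zero_or_pos n with rfl | hn
    · simp
    · rw [zero_pow (by omega), sub_zero]
      exact Ideal.pow_mem_of_mem _ (mem_nilradical.2 ⟨p, AlphaP.x_pow p R⟩) _ hn

end Groth.Agent.S16073
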