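import Groth.Statements.S16074
import Groth.Agent.HopfQuot.AlphaPCalc
import Mathlib.RingTheory.Nilpotent.Lemmas

set_option autoImplicit false
universe u
open Hopf

namespace Groth.Agent.S16074
open Groth.Agent.HopfQuot

/-- Let p be a prime and R a commutative ring of characteristic p (p = 0 in R, R nonzero). Then μ_p and
α_p over Spec R are not isomorphic: there is no R-bialgebra isomorphism between the group algebra
R[ℤ/p] of the cyclic group of order p (group elements group-like) and the Hopf algebra R[X]/(X^p) of
α_p (X primitive), although the underlying R-algebras R[ℤ/p] = R[Y]/(Y^p) and R[X]/(X^p) are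
isomorphic. (Any nonzero commutative base ring of characteristic p is allowed. The published
statement allows any ring R with p·R = 0; over the zero ring both Hopf algebras are the zero ring
and hence isomorphic, so R is assumed nonzero here.) -/
theorem result (p : ℕ) [Fact p.Prime] (R : Type u) [CommRing R] [CharP R p] :
    IsEmpty (MonoidAlgebra R (Multiplicative (ZMod p)) ≃ₐc[R] AlphaP.A p R) := by
  haveI := AlphaCalc.nontrivial_base p R
  refine ⟨fun e => ?_⟩
  have hg : ∀ g : Multiplicative (ZMod p), IsNilpotent (AlphaCalc.L1 p R (e (MonoidAlgebra.single g 1))) := by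
    intro g
    refine AlphaCalc.isNilpotent_L1_of_grouplike p R ?_ ?_
    · rw [← CoalgHomClass.map_comp_comul_apply e, MonoidAlgebra.comul_single, CommSemiring.comul_apply]
      simp
    · rw [CoalgHomClass.counit_comp_apply e, MonoidAlgebra.counit_single]
      simp
  have hall : ∀ u : MonoidAlgebra R (Multiplicative (ZMod p)), IsNilpotent (AlphaCalc.L1 p R (e u)) := by
    intro u
    rw [← mem_nilradical]
    induction u using MonoidAlgebra.induction_on with
    | of g => rw [mem_nilradical, MonoidAlgebra.of_apply]; exact hg g
    | add a b ha hb => rw [map_add, map_add]; exact add_mem ha hb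
    | smul r a ha => rw [map_smul, map_smul, smul_eq_mul]; exact Ideal.mul_mem_left _ _ ha
  have h := hall (e.symm (AlphaP.x p R))
  rw [show e (e.symm (AlphaP.x p R)) = AlphaP.x p R from e.toAlgEquiv.apply_symm_apply _, AlphaCalc.L1_x] at h
  obtain ⟨n, hn⟩ := h
  rw [one_pow] at hn
  exact one_ne_zero hn

end Groth.Agent.S16074
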