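import Groth.Statements.S16075
import Groth.Agent.HopfQuot.AlphaPCalc

set_option autoImplicit false
universe u
open Hopf

namespace Groth.Agent.S16075
open Groth.Agent.HopfQuot TensorProduct

/-- Let p be a prime, T a commutative ring of characteristic p (p = 0 in T, T nonzero) and A =
T[X]/(X^p) the Hopf algebra of α_p over Spec T, with X primitive. Then the endomorphisms of the
T-group α_{p,T} are exactly the scalings: every T-bialgebra endomorphism f of A has f(X) = λ·X for a
unique λ ∈ T, and for every λ ∈ T there is a T-bialgebra endomorphism f of A with f(X) = λ·X. So the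
endomorphisms of α_{p,T} correspond bijectively to the elements of T. (Only this bijection is
stated; that it turns addition and composition of endomorphisms into addition and multiplication in
T, and its naturality in T, are not stated here. The zero ring, allowed as T in the published
statement, is excluded by the characteristic hypothesis here.) -/
theorem result (p : ℕ) [Fact p.Prime] (T : Type u) [CommRing T] [CharP T p] :
    (∀ f : AlphaP.A p T →ₐc[T] AlphaP.A p T, ∃! c : T, f (AlphaP.x p T) = c • AlphaP.x p T) ∧
      (∀ c : T, ∃ f : AlphaP.A p T →ₐc[T] AlphaP.A p T, f (AlphaP.x p T) = c • AlphaP.x p T) := by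
  haveI := AlphaCalc.nontrivial_base p T
  refine ⟨fun f => ⟨AlphaCalc.L1 p T (f (AlphaP.x p T)), ?_, fun l hl => ?_⟩, fun l => ?_⟩
  · refine AlphaCalc.eq_smul_x_of_primitive p T ?_
    rw [← CoalgHomClass.map_comp_comul_apply f, AlphaP.comul_x, map_add]
    simp
  · rw [show f (AlphaP.x p T) = l • AlphaP.x p T from hl, map_smul, AlphaCalc.L1_x, smul_eq_mul, mul_one]
  · have h : (l • AlphaP.x p T) ^ p = 0 := by rw [smul_pow, AlphaP.x_pow, smul_zero]
    refine ⟨BialgHom.ofAlgHom (AlphaP.lift p T (l • AlphaP.x p T) h) ?_ ?_, AlphaP.lift_x (p := p) (l • AlphaP.x p T) h⟩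
    · refine AlphaP.algHom_ext ?_
      show Coalgebra.counit (R := T) (AlphaP.lift p T (l • AlphaP.x p T) h (AlphaP.x p T)) = Coalgebra.counit (R := T) (AlphaP.x p T)
      rw [AlphaP.lift_x, map_smul, AlphaP.counit_x, smul_zero]
    · refine AlphaP.algHom_ext ?_
      show Algebra.TensorProduct.map _ _ (Coalgebra.comul (R := T) (AlphaP.x p T)) =
        Coalgebra.comul (R := T) (AlphaP.lift p T (l • AlphaP.x p T) h (AlphaP.x p T))
      rw [AlphaP.comul_x, map_add, Algebra.TensorProduct.map_tmul, Algebra.TensorProduct.map_tmul, map_one,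
        AlphaP.lift_x, map_smul, AlphaP.comul_x, smul_add, smul_tmul', tmul_smul]

end Groth.Agent.S16075
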