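import Groth.Statements.S16076


set_option autoImplicit false
universe u
open scoped TensorProduct
open Versch

namespace Groth.Agent.S16076

/-- Let p be a prime, R a commutative ring of characteristic p and A = R[X]/(X^p) the Hopf algebra of
α_p over Spec R, with X primitive. Let v : A → A ⊗_R R^(Frob) be the comorphism of the Verschiebung
V : α_p^(p) → α_p (the ring map whose transpose under the canonical pairing is the relative
Frobenius of the dual Hopf algebra Hom_R(A, R)). Then V is the trivial homomorphism: v is the
composite of the counit ε : A → R, the identity of underlying rings R → R^(Frob) and the inclusion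
of the twisted factor R^(Frob) → A ⊗_R R^(Frob), i.e. v(a) = 1 ⊗ ε(a). (Any commutative base ring of
characteristic p is allowed.) -/
theorem result (p : ℕ) [Fact p.Prime] (R : Type u) [CommRing R] [CharP R p]
    (v : AlphaP.A p R →+* FrobAlg.BaseChange p R (AlphaP.A p R))
    (hv : Versch.IsVerschiebung p R (AlphaP.A p R) v) :
    v = ((Algebra.TensorProduct.includeRight (R := R) (A := AlphaP.A p R) (B := FrobAlg.Twist p R)).toRingHom.comp
          (FrobAlg.toTwist p R).toRingHom).comp (Bialgebra.counitAlgHom R (AlphaP.A p R)).toRingHom := by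
  classical
  refine RingHom.ext fun a => Versch.evTw_injective p R _ fun x => ?_
  rw [(Versch.isVerschiebung_iff p R _ v).1 hv]
  show _ = Versch.evTw p R (AlphaP.A p R) x
    ((1 : AlphaP.A p R) ⊗ₜ[R] FrobAlg.toTwist p R (Bialgebra.counitAlgHom R (AlphaP.A p R) a))
  rw [Versch.evTw_tmul', ← map_mul]
  congr 1
  let y : CartDual.D R (AlphaP.A p R) := x - x 1 • 1
  have hy1 : y 1 = 0 := by
    simp [y, CartDual.coe_apply]
  have hyj : ∀ j i : ℕ, i < j → (y ^ j) (AlphaP.x p R ^ i) = 0 := by
    intro j
    induction j with
    | zero => intro i hi; omega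
    | succ j ih =>
      intro i hi
      rw [pow_succ, LinearMap.convMul_apply]
      have hc : Coalgebra.comul (R := R) (AlphaP.x p R ^ i) =
          (AlphaP.x p R ⊗ₜ[R] (1 : AlphaP.A p R) + 1 ⊗ₜ[R] AlphaP.x p R) ^ i := by
        rw [Bialgebra.comul_pow, AlphaP.comul_x]
      rw [hc, add_pow, map_sum, map_sum]
      refine Finset.sum_eq_zero fun m hm => ?_
      rw [Finset.mem_range] at hm
      rw [Algebra.TensorProduct.tmul_pow, Algebra.TensorProduct.tmul_pow, one_pow, one_pow,
        Algebra.TensorProduct.tmul_mul_tmul, mul_one, one_mul,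
        show ((i.choose m : ℕ) : AlphaP.A p R ⊗[R] AlphaP.A p R) = algebraMap R _ (i.choose m : R) by simp,
        mul_comm, ← Algebra.smul_def, map_smul, map_smul, TensorProduct.map_tmul, LinearMap.mul'_apply,
        ← CartDual.coe_apply, ← CartDual.coe_apply]
      rcases eq_or_ne m i with rfl | hmi
      · rw [Nat.sub_self, pow_zero, hy1, mul_zero, smul_zero]
      · rw [ih m (by omega), zero_mul, smul_zero]
  haveI : Nontrivial R := CharP.nontrivial_of_char_ne_one (v := p) (Fact.out (p := p.Prime)).ne_one
  have hyp : y ^ p = 0 := by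
    refine WithConv.ext ((AlphaP.basis p R).ext fun i => ?_)
    rw [AlphaP.basis_apply]
    simpa [CartDual.coe_apply] using hyj p i i.2
  have hxp : x ^ p = (x 1 ^ p) • (1 : CartDual.D R (AlphaP.A p R)) := by
    rw [show x = x 1 • 1 + y from (add_sub_cancel _ _).symm, add_pow_char _ _ p, hyp, add_zero, smul_pow, one_pow]
    congr 1
    simp [y, CartDual.coe_apply]
  rw [hxp, CartDual.coe_apply, WithConv.ofConv_smul, LinearMap.smul_apply, ← CartDual.coe_apply,
    LinearMap.convOne_apply, smul_eq_mul]
  rfl

end Groth.Agent.S16076
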