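import Groth.Statements.S16077
import Mathlib.FieldTheory.Perfect
import Mathlib.RingTheory.Henselian
import Mathlib.RingTheory.Kaehler.Basic
import Mathlib.RingTheory.MvPolynomial.Ideal
import Mathlib.RingTheory.MvPolynomial.IrreducibleQuadratic
import Mathlib.RingTheory.RegularLocalRing.Defs
import Mathlib.RingTheory.SimpleRing.Principal
import Mathlib.Tactic

set_option linter.all false

set_option autoImplicit false
universe u
open CAlg

open scoped TensorProduct

namespace Groth.Agent.S16077

/-- Let k be a perfect field of characteristic p > 0 and let e_1, …, e_r ≥ 1 and f_1, …, f_s ≥ 1 be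
natural numbers. If the k-algebras k[X_1, …, X_r]/(X_i^{p^{e_i}} : 1 ≤ i ≤ r) and k[X_1, …,
X_s]/(X_j^{p^{f_j}} : 1 ≤ j ≤ s) are isomorphic, then r = s and (f_j) is a permutation of (e_i):
there is a bijection σ between the index sets with f_{σ(i)} = e_i. Such truncated polynomial
algebras are the coordinate rings of the connected finite k-group schemes, and the row says that the
number of variables and the exponents are invariants of the group, indeed of its algebra. (Only this
invariance is stated here; the existence of such a presentation for every connected finite k-group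
is a separate statement.) -/
theorem result (p : ℕ) [Fact p.Prime] (k : Type u) [Field k]
    [CharP k p] [PerfectField k] (r s : ℕ) (e : Fin r → ℕ) (f : Fin s → ℕ) (he : ∀ i, 1 ≤ e i) (hf : ∀ j, 1 ≤ f j)
    (φ : (MvPolynomial (Fin r) k ⧸ Ideal.span (Set.range fun i : Fin r => (MvPolynomial.X i : MvPolynomial (Fin r) k) ^ p ^ e i)) ≃ₐ[k]
      (MvPolynomial (Fin s) k ⧸ Ideal.span (Set.range fun j : Fin s => (MvPolynomial.X j : MvPolynomial (Fin s) k) ^ p ^ f j))) :
    ∃ σ : Fin r ≃ Fin s, ∀ i : Fin r, f (σ i) = e i := by
  classical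
  have hp : p.Prime := Fact.out
  have dimV : ∀ (n : ℕ) (g : Fin n → ℕ) (j : ℕ), Module.finrank k (Submodule.span k (Set.range
      fun x : MvPolynomial (Fin n) k ⧸ Ideal.span (Set.range fun i : Fin n => (MvPolynomial.X i : MvPolynomial (Fin n) k) ^ p ^ g i) => x ^ p ^ j)) =
      p ^ ∑ i, (g i - j) := by
    intro n g j
    set I := Ideal.span (Set.range fun i : Fin n => (MvPolynomial.X i : MvPolynomial (Fin n) k) ^ p ^ g i)
    set π := Ideal.Quotient.mkₐ k I
    have hI : ∀ q : MvPolynomial (Fin n) k, q ∈ I ↔ ∀ c ∈ q.support, ∃ i, p ^ g i ≤ c i := by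
      intro q
      have : I = Ideal.span ((fun c => MvPolynomial.monomial c (1 : k)) '' Set.range fun i => Finsupp.single i (p ^ g i)) := by
        simp only [I, ← Set.range_comp, Function.comp_def, MvPolynomial.X_pow_eq_monomial]
      rw [this, MvPolynomial.mem_ideal_span_monomial_image]
      simp [Finsupp.single_le_iff]
    have key : ∀ c : Fin n → ℕ, (∀ i, p ^ j * c i < p ^ g i) ↔ ∀ i, c i < p ^ (g i - j) := by
      intro c
      refine forall_congr' fun i => ?_
      rcases le_or_gt j (g i) with h | h
      · conv_lhs => rw [← Nat.add_sub_cancel' h, pow_add]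
        exact Nat.mul_lt_mul_left (Nat.pow_pos hp.pos)
      · rw [Nat.sub_eq_zero_of_le h.le, pow_zero, Nat.lt_one_iff]
        refine ⟨fun hc => ?_, fun hc => by rw [hc, mul_zero]; exact Nat.pow_pos hp.pos⟩
        by_contra h0
        have h1 : p ^ j ≤ p ^ j * c i := Nat.le_mul_of_pos_right _ (Nat.pos_of_ne_zero h0)
        have h2 : p ^ g i ≤ p ^ j := Nat.pow_le_pow_right hp.pos h.le
        omega
    let ι := (i : Fin n) → Fin (p ^ (g i - j))
    let μ : (Fin n → ℕ) → (Fin n →₀ ℕ) := fun c => Finsupp.equivFunOnFinite.symm fun i => p ^ j * c i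
    let v : ι → MvPolynomial (Fin n) k ⧸ I := fun c => π (MvPolynomial.monomial (μ fun i => c i) 1)
    have hμ : Function.Injective fun c : ι => μ fun i => (c i : ℕ) := fun c c' h => funext fun i =>
      Fin.ext (Nat.eq_of_mul_eq_mul_left (Nat.pow_pos hp.pos) (congrFun (congrArg DFunLike.coe h) i))
    have hspan : Submodule.span k (Set.range fun x : MvPolynomial (Fin n) k ⧸ I => x ^ p ^ j) = Submodule.span k (Set.range v) := by
      apply le_antisymm
      · refine Submodule.span_le.mpr ?_
        rintro _ ⟨x, rfl⟩
        obtain ⟨q, rfl⟩ := Ideal.Quotient.mk_surjective x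
        show π q ^ p ^ j ∈ _
        haveI : CharP (MvPolynomial (Fin n) k) p := inferInstance
        rw [← map_pow]
        conv => arg 2; rw [q.as_sum, sum_pow_char_pow, map_sum]
        refine sum_mem fun c _ => ?_
        rw [MvPolynomial.monomial_pow, ← mul_one (q.coeff c ^ p ^ j), ← smul_eq_mul, ← MvPolynomial.smul_monomial, map_smul]
        refine Submodule.smul_mem _ _ ?_
        by_cases hc : ∀ i, c i < p ^ (g i - j)
        · refine Submodule.subset_span ⟨fun i => ⟨c i, hc i⟩, ?_⟩
          show π _ = π _
          congr 3; ext i; simp [μ]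
        · have : π (MvPolynomial.monomial (p ^ j • c) (1 : k)) = 0 := by
            apply Ideal.Quotient.eq_zero_iff_mem.mpr
            rw [hI]
            intro d hd
            rw [MvPolynomial.support_monomial, if_neg one_ne_zero, Finset.mem_singleton] at hd
            subst hd
            rw [← key] at hc; push Not at hc
            obtain ⟨i, hi⟩ := hc
            exact ⟨i, by simpa using hi⟩
          rw [this]; exact zero_mem _
      · refine Submodule.span_mono ?_
        rintro _ ⟨c, rfl⟩
        refine ⟨π (MvPolynomial.monomial (Finsupp.equivFunOnFinite.symm fun i => (c i : ℕ)) 1), ?_⟩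
        show π _ ^ p ^ j = π _
        rw [← map_pow, MvPolynomial.monomial_pow, one_pow]
        congr 3; ext i; simp [μ]
    have hli : LinearIndependent k v := by
      rw [Fintype.linearIndependent_iff]
      intro a ha c
      have hmem : ∑ c : ι, MvPolynomial.monomial (μ fun i => (c i : ℕ)) (a c) ∈ I := by
        apply Ideal.Quotient.eq_zero_iff_mem.mp
        show π _ = 0
        rw [map_sum, ← ha]
        refine Finset.sum_congr rfl fun c _ => ?_
        show π _ = a c • π _
        rw [← map_smul, MvPolynomial.smul_monomial, smul_eq_mul, mul_one]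
      by_contra hac
      obtain ⟨i, hi⟩ := (hI _).mp hmem (μ fun i => (c i : ℕ)) (by
        rw [MvPolynomial.mem_support_iff, MvPolynomial.coeff_sum, Finset.sum_eq_single c]
        · simpa using hac
        · intro b _ hb; rw [MvPolynomial.coeff_monomial, if_neg fun h => hb (hμ h)]
        · simp)
      exact absurd hi (not_le.mpr ((key fun i => (c i : ℕ)).mpr (fun i => (c i).2) i))
    rw [hspan, finrank_span_eq_card hli, Fintype.card_pi]
    simp [Finset.prod_pow_eq_pow_sum]
  have hsum : ∀ j, ∑ i, (e i - j) = ∑ i, (f i - j) := by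
    intro j
    apply Nat.pow_right_injective hp.two_le
    show p ^ _ = p ^ _
    rw [← dimV r e j, ← dimV s f j, ← φ.toLinearEquiv.finrank_map_eq]
    erw [Submodule.map_span]
    refine congrArg (fun S : Submodule k (MvPolynomial (Fin s) k ⧸ Ideal.span (Set.range fun j : Fin s => (MvPolynomial.X j : MvPolynomial (Fin s) k) ^ p ^ f j)) => Module.finrank k ↥S) (congrArg (Submodule.span k) ?_)
    ext y
    constructor
    · rintro ⟨_, ⟨x, rfl⟩, rfl⟩; exact ⟨φ x, (map_pow φ x _).symm⟩
    · rintro ⟨x, rfl⟩; exact ⟨_, ⟨φ.symm x, rfl⟩, by simp⟩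
  have hgt : ∀ (n : ℕ) (g : Fin n → ℕ) (j : ℕ), ∑ i, (g i - j) = ∑ i, (g i - (j + 1)) + Fintype.card {i // j < g i} := by
    intro n g j
    rw [Fintype.card_subtype, Finset.card_filter, ← Finset.sum_add_distrib]
    refine Finset.sum_congr rfl fun i _ => ?_
    split_ifs <;> omega
  have heq : ∀ (n : ℕ) (g : Fin n → ℕ) (t : ℕ),
      Fintype.card {i // t < g i} = Fintype.card {i // g i = t + 1} + Fintype.card {i // t + 1 < g i} := by
    intro n g t
    rw [Fintype.card_subtype, Fintype.card_subtype, Fintype.card_subtype, ← Finset.card_union_of_disjoint]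
    · congr 1; ext i; simp; omega
    · rw [Finset.disjoint_filter]; intro i _ h; omega
  have hfib : ∀ t, Fintype.card {i // e i = t} = Fintype.card {i // f i = t} := by
    intro t
    have hg : ∀ j, Fintype.card {i // j < e i} = Fintype.card {i // j < f i} := fun j => by
      have := hgt r e j; have := hgt s f j; have := hsum j; have := hsum (j + 1); omega
    rcases t with _ | t
    · haveI : IsEmpty {i // e i = 0} := ⟨fun ⟨i, hi⟩ => by have := he i; omega⟩
      haveI : IsEmpty {i // f i = 0} := ⟨fun ⟨i, hi⟩ => by have := hf i; omega⟩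
      rw [Fintype.card_eq_zero, Fintype.card_eq_zero]
    · have := heq r e t; have := heq s f t; have := hg t; have := hg (t + 1); omega
  exact ⟨Equiv.ofFiberEquiv fun t => Fintype.equivOfCardEq (hfib t), fun i => Equiv.ofFiberEquiv_map _ i⟩

end Groth.Agent.S16077
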