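import Groth.Statements.S16078
import Groth.Agent.HopfQuot.UnitComponent

set_option autoImplicit false
universe u
open scoped TensorProduct
open Hopf

namespace Groth.Agent.S16078
open Groth.Agent.HopfQuot

/-- Let R be a henselian Noetherian local ring, A and A'' commutative Hopf algebras over R which are
finite and flat as R-modules, and A'' → A an R-algebra homomorphism compatible with
comultiplications and counits making A faithfully flat over A'' (a faithfully flat homomorphism π :
G → G'' of finite flat R-groups); let J ⊆ A be the ideal generated by the image of the augmentation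
ideal of A'' (G' = Spec A/J = ker π, so that 1 → G' → G → G'' → 1 is exact). Let e ∈ A and e'' ∈ A''
be idempotents with ε(e) = 1, ε(e'') = 1 and A/(1 − e), A''/(1 − e'') local rings (the unit
components G⁰ and G''⁰), and let e' ∈ A be an element whose image in A/J is an idempotent, with
ε(e') = 1 and A/(J + (1 − e')) local (so G'⁰ = Spec (A/J)/(1 − e') is the unit component of G').
Suppose g : A''/(1 − e'') → A/(1 − e) is the ring homomorphism induced by A'' → A (the restriction
π⁰ : G⁰ → G''⁰ of π, which exists because G⁰ is connected). Then g is faithfully flat, and e ≡ e'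
modulo J, i.e. J + (1 − e) = J + (1 − e') and the kernel of π⁰, which is cut out in G⁰ by J, is
exactly G'⁰: the sequence 1 → G'⁰ → G⁰ → G''⁰ → 1 is exact. (The published statement also asserts
exactness of the maximal étale quotient G ↦ G^ét, not stated here.) -/
theorem result (R : Type u) [CommRing R] [HenselianLocalRing R]
    [IsNoetherianRing R] (A A'' : Type u) [CommRing A] [HopfAlgebra R A] [Module.Finite R A] [Module.Flat R A]
    [CommRing A''] [HopfAlgebra R A''] [Module.Finite R A''] [Module.Flat R A'']
    [Algebra A'' A] [IsScalarTower R A'' A] [Module.FaithfullyFlat A'' A]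
    (hΔ : (Bialgebra.comulAlgHom R A).comp (IsScalarTower.toAlgHom R A'' A) =
      (Algebra.TensorProduct.map (IsScalarTower.toAlgHom R A'' A) (IsScalarTower.toAlgHom R A'' A)).comp
        (Bialgebra.comulAlgHom R A''))
    (hε : (Bialgebra.counitAlgHom R A).comp (IsScalarTower.toAlgHom R A'' A) = Bialgebra.counitAlgHom R A'')
    (e : A) (he : IsIdempotentElem e) (heε : Bialgebra.counitAlgHom R A e = 1)
    [IsLocalRing (A ⧸ Ideal.span ({1 - e} : Set A))]
    (e'' : A'') (he'' : IsIdempotentElem e'') (he''ε : Bialgebra.counitAlgHom R A'' e'' = 1)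
    [IsLocalRing (A'' ⧸ Ideal.span ({1 - e''} : Set A''))]
    (e' : A) (he' : IsIdempotentElem (Ideal.Quotient.mk ((RingHom.ker (Bialgebra.counitAlgHom R A'')).map (algebraMap A'' A)) e'))
    (he'ε : Bialgebra.counitAlgHom R A e' = 1)
    [IsLocalRing (A ⧸ (((RingHom.ker (Bialgebra.counitAlgHom R A'')).map (algebraMap A'' A)) ⊔ Ideal.span ({1 - e'} : Set A)))]
    (g : (A'' ⧸ Ideal.span ({1 - e''} : Set A'')) →+* (A ⧸ Ideal.span ({1 - e} : Set A)))
    (hg : g.comp (Ideal.Quotient.mk (Ideal.span ({1 - e''} : Set A''))) =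
      (Ideal.Quotient.mk (Ideal.span ({1 - e} : Set A))).comp (algebraMap A'' A)) :
    g.FaithfullyFlat ∧
      Ideal.Quotient.mk ((RingHom.ker (Bialgebra.counitAlgHom R A'')).map (algebraMap A'' A)) e = Ideal.Quotient.mk ((RingHom.ker (Bialgebra.counitAlgHom R A'')).map (algebraMap A'' A)) e' := by
  set J := (RingHom.ker (Bialgebra.counitAlgHom R A'')).map (algebraMap A'' A) with hJ
  refine ⟨?_, ?_⟩
  · letI := g.toAlgebra
    haveI : IsScalarTower A'' (A'' ⧸ Ideal.span ({1 - e''} : Set A'')) (A ⧸ Ideal.span ({1 - e} : Set A)) :=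
      IsScalarTower.of_algebraMap_eq fun x => by
        show _ = g (Ideal.Quotient.mk _ x)
        rw [← RingHom.comp_apply, hg]
        rfl
    haveI : Module.Finite A'' A := Module.Finite.of_restrictScalars_finite R A'' A
    haveI : Module.Finite A'' (A ⧸ Ideal.span ({1 - e} : Set A)) :=
      Module.Finite.of_surjective (Ideal.Quotient.mkₐ A'' _).toLinearMap Ideal.Quotient.mk_surjective
    haveI : Module.Finite (A'' ⧸ Ideal.span ({1 - e''} : Set A'')) (A ⧸ Ideal.span ({1 - e} : Set A)) :=
      Module.Finite.of_restrictScalars_finite A'' _ _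
    haveI : IsLocalization.Away e'' (A'' ⧸ Ideal.span ({1 - e''} : Set A'')) :=
      IsLocalization.away_of_isIdempotentElem he'' Ideal.mk_ker Ideal.Quotient.mk_surjective
    haveI : Module.Flat A'' (A ⧸ Ideal.span ({1 - e} : Set A)) := UnitComp.flat_quot_idem he
    haveI : Module.Flat (A'' ⧸ Ideal.span ({1 - e''} : Set A'')) (A ⧸ Ideal.span ({1 - e} : Set A)) :=
      (Module.flat_iff_of_isLocalization (A'' ⧸ Ideal.span ({1 - e''} : Set A'')) (Submonoid.powers e'') _).2
        inferInstance
    exact UnitComp.faithfullyFlat_of_finite (A ⧸ Ideal.span ({1 - e} : Set A))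
  · have hJI : J ≤ RingHom.ker (Bialgebra.counitAlgHom R A) := by
      rw [hJ, Ideal.map_le_iff_le_comap]
      intro x hx
      exact (DFunLike.congr_fun hε x).trans hx
    have one_side : ∀ (x y : A), IsIdempotentElem (Ideal.Quotient.mk J x) → Bialgebra.counitAlgHom R A x = 1 →
        Bialgebra.counitAlgHom R A y = 1 → IsLocalRing (A ⧸ J ⊔ Ideal.span ({1 - y} : Set A)) →
        Ideal.Quotient.mk J x * Ideal.Quotient.mk J y = Ideal.Quotient.mk J y ∨
          ¬ IsIdempotentElem (Ideal.Quotient.mk J y) := by
      intro x y hx hxε hyε hloc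
      haveI := hloc
      by_cases hy : IsIdempotentElem (Ideal.Quotient.mk J y)
      swap
      · exact Or.inr hy
      refine Or.inl ?_
      let ε' : (A ⧸ J ⊔ Ideal.span ({1 - y} : Set A)) →ₐ[R] R :=
        Ideal.Quotient.liftₐ _ (Bialgebra.counitAlgHom R A) fun a ha => by
          refine sup_le hJI ?_ ha
          rw [Ideal.span_singleton_le_iff_mem, RingHom.mem_ker, map_sub, map_one, hyε, sub_self]
      have h1 : Ideal.Quotient.mk (J ⊔ Ideal.span ({1 - y} : Set A)) x = 1 :=
        UnitComp.eq_one_of_apply ε'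
          (hx.map (Ideal.Quotient.factor (le_sup_left : J ≤ J ⊔ Ideal.span ({1 - y} : Set A)))) hxε
      rw [← map_one (Ideal.Quotient.mk _), Ideal.Quotient.eq, Submodule.mem_sup] at h1
      obtain ⟨j, hj, k, hk, hjk⟩ := h1
      obtain ⟨c, rfl⟩ := Ideal.mem_span_singleton'.1 hk
      have hm := congrArg (Ideal.Quotient.mk J) hjk
      rw [map_add, map_sub, map_one, map_mul, map_sub, map_one, Ideal.Quotient.eq_zero_iff_mem.2 hj, zero_add] at hm
      linear_combination (-(Ideal.Quotient.mk J y)) * hm + (-(Ideal.Quotient.mk J c)) * hy.eq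
    haveI : IsLocalRing (A ⧸ J ⊔ Ideal.span ({1 - e} : Set A)) := by
      haveI : Nontrivial R := (algebraMap R (A ⧸ Ideal.span ({1 - e} : Set A))).domain_nontrivial
      haveI : Nontrivial (A ⧸ J ⊔ Ideal.span ({1 - e} : Set A)) := Ideal.Quotient.nontrivial_iff.2 fun h => by
        refine RingHom.ker_ne_top (Bialgebra.counitAlgHom R A).toRingHom (eq_top_iff.2 (h ▸ sup_le hJI ?_ : ⊤ ≤ RingHom.ker (Bialgebra.counitAlgHom R A)))
        rw [Ideal.span_singleton_le_iff_mem, RingHom.mem_ker, map_sub, map_one, heε, sub_self]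
      exact IsLocalRing.of_surjective' (Ideal.Quotient.factor le_sup_right) (Ideal.Quotient.factor_surjective _)
    have a1 := (one_side e e' (he.map _) heε he'ε inferInstance).resolve_right (not_not.2 he')
    have a2 := (one_side e' e he' he'ε heε inferInstance).resolve_right (not_not.2 (he.map _))
    rw [← a2, mul_comm, a1]

end Groth.Agent.S16078
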