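import Groth.Statements.S1608
import Groth.Agent.CAlgMisc2.KrullAkizuki

set_option autoImplicit false
set_option backward.isDefEq.respectTransparency.types false
universe u
open CategoryTheory CategoryTheory.Limits AlgebraicGeometry
open Variety
open scoped TensorProduct

namespace Groth.Agent.S1608

/-- The fibre over the closed point of a one-dimensional local ring. -/
theorem finite_fibre_local (A B : Type u) [CommRing A] [CommRing B] [Algebra A B] [IsLocalRing A]
    [IsNoetherianRing A] [Ring.KrullDimLE 1 A] [Algebra.FiniteType A B]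
    (hgen : ∀ P ∈ minimalPrimes B, ∀ (_ : P.IsPrime), Algebra.QuasiFiniteAt A P) :
    (PrimeSpectrum.comap (algebraMap A B) ⁻¹' {IsLocalRing.closedPoint A}).Finite := by
  classical
  have : IsNoetherianRing B := Algebra.FiniteType.isNoetherianRing A B
  have hall : PrimeSpectrum.comap (algebraMap A B) ⁻¹' {IsLocalRing.closedPoint A} ⊆
      ⋃ P ∈ minimalPrimes B, {Q : PrimeSpectrum B | Q ∈ PrimeSpectrum.comap (algebraMap A B) ⁻¹' {IsLocalRing.closedPoint A} ∧ P ≤ Q.asIdeal} := by
    intro Q hQ
    obtain ⟨P, hP, hPQ⟩ := Ideal.exists_minimalPrimes_le (I := (⊥ : Ideal B)) (J := Q.asIdeal) bot_le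
    exact Set.mem_iUnion₂.2 ⟨P, hP, hQ, hPQ⟩
  refine Set.Finite.subset (Set.Finite.biUnion (minimalPrimes.finite_of_isNoetherianRing B) fun P hP => ?_) hall
  have : P.IsPrime := Ideal.minimalPrimes_isPrime hP
  have := hgen P hP inferInstance
  let P0 := P.under A
  letI := Localization.AtPrime.algebraOfLiesOver P0 P
  have : Module.Finite P0.ResidueField P.ResidueField := inferInstance
  let R := A ⧸ P0
  let C := B ⧸ P
  let L := P.ResidueField
  letI : Algebra R L := ((algebraMap P0.ResidueField L).comp (algebraMap R P0.ResidueField)).toAlgebra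
  have : IsScalarTower R P0.ResidueField L := .of_algebraMap_eq' rfl
  have : IsScalarTower R C L := .of_algebraMap_eq fun r => by
    obtain ⟨a, rfl⟩ := Ideal.Quotient.mk_surjective r
    show algebraMap P0.ResidueField L (algebraMap R P0.ResidueField (algebraMap A R a)) =
      algebraMap C L (algebraMap B C (algebraMap A B a))
    rw [← IsScalarTower.algebraMap_apply A R P0.ResidueField, ← IsScalarTower.algebraMap_apply A P0.ResidueField L,
      ← IsScalarTower.algebraMap_apply A B C, ← IsScalarTower.algebraMap_apply A C L]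
  have : IsLocalRing R := IsLocalRing.of_surjective' (Ideal.Quotient.mk P0) Ideal.Quotient.mk_surjective
  have hinj : Function.Injective (algebraMap C L) := IsFractionRing.injective C L
  have : Algebra.FiniteType R C := Algebra.FiniteType.of_restrictScalars_finiteType A R C
  have key : ∀ (M : Ideal C), (∀ Q : PrimeSpectrum C,
      (Q.asIdeal.comap (algebraMap R C) = (IsLocalRing.maximalIdeal A).map (algebraMap A R)) → M ≤ Q.asIdeal) →
      Module.Finite R (C ⧸ M) →
      {Q : PrimeSpectrum B | Q ∈ PrimeSpectrum.comap (algebraMap A B) ⁻¹' {IsLocalRing.closedPoint A} ∧ P ≤ Q.asIdeal}.Finite := by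
    intro M hM hfin
    have hsmax : (IsLocalRing.maximalIdeal A).map (algebraMap A R) = IsLocalRing.maximalIdeal R := by
      have : IsLocalHom (algebraMap A R) := IsLocalHom.of_surjective _ Ideal.Quotient.mk_surjective
      refine le_antisymm ?_ fun r hr => ?_
      · rw [Ideal.map_le_iff_le_comap]; exact fun a ha h => ha (IsUnit.of_map (algebraMap A R) a h)
      · obtain ⟨a, rfl⟩ := Ideal.Quotient.mk_surjective r
        exact Ideal.mem_map_of_mem _ fun h => hr (h.map _)
    refine ((Algebra.QuasiFinite.finite_comap_preimage_singleton (S := C ⧸ M) (IsLocalRing.closedPoint R)).image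
      (fun Q => PrimeSpectrum.comap ((Ideal.Quotient.mk M).comp (Ideal.Quotient.mk P)) Q)).subset ?_
    rintro Q ⟨hQ, hPQ⟩
    let Q1 : PrimeSpectrum C := ⟨Q.asIdeal.map (Ideal.Quotient.mk P),
      Ideal.map_isPrime_of_surjective Ideal.Quotient.mk_surjective (by rwa [Ideal.mk_ker])⟩
    have hc1 : Q1.asIdeal.comap (Ideal.Quotient.mk P) = Q.asIdeal :=
      (Ideal.comap_map_of_surjective _ Ideal.Quotient.mk_surjective _).trans
        (sup_eq_left.2 (by rw [← RingHom.ker_eq_comap_bot, Ideal.mk_ker]; exact hPQ))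
    have hQ1 : Q1.asIdeal.comap (algebraMap R C) = IsLocalRing.maximalIdeal R := by
      ext r
      obtain ⟨a, rfl⟩ := Ideal.Quotient.mk_surjective r
      rw [← hsmax, Ideal.mem_comap]
      show algebraMap R C (algebraMap A R a) ∈ Q1.asIdeal ↔ algebraMap A R a ∈ _
      rw [← IsScalarTower.algebraMap_apply A R C, IsScalarTower.algebraMap_apply A B C]
      show algebraMap A B a ∈ Q1.asIdeal.comap (Ideal.Quotient.mk P) ↔ _
      rw [hc1]
      have hQa : Q.asIdeal.comap (algebraMap A B) = IsLocalRing.maximalIdeal A := congrArg PrimeSpectrum.asIdeal hQ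
      rw [← Ideal.mem_comap (f := algebraMap A B), hQa, ← Ideal.mem_comap (f := algebraMap A R),
        Ideal.comap_map_of_surjective (algebraMap A R) Ideal.Quotient.mk_surjective, sup_eq_left.2]
      exact IsLocalRing.le_maximalIdeal (Ideal.comap_ne_top _ bot_ne_top)
    have := Q1.isPrime
    have hMQ : M ≤ Q1.asIdeal := hM Q1 (hQ1.trans hsmax.symm)
    let Q2 : PrimeSpectrum (C ⧸ M) := ⟨Q1.asIdeal.map (Ideal.Quotient.mk M),
      Ideal.map_isPrime_of_surjective Ideal.Quotient.mk_surjective (by rwa [Ideal.mk_ker])⟩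
    have hc2 : Q2.asIdeal.comap (Ideal.Quotient.mk M) = Q1.asIdeal :=
      (Ideal.comap_map_of_surjective _ Ideal.Quotient.mk_surjective _).trans
        (sup_eq_left.2 (by rw [← RingHom.ker_eq_comap_bot, Ideal.mk_ker]; exact hMQ))
    refine ⟨Q2, PrimeSpectrum.ext ?_, PrimeSpectrum.ext ?_⟩
    · show Q2.asIdeal.comap ((Ideal.Quotient.mk M).comp (algebraMap R C)) = IsLocalRing.maximalIdeal R
      rw [← Ideal.comap_comap, hc2, hQ1]
    · show Q2.asIdeal.comap ((Ideal.Quotient.mk M).comp (Ideal.Quotient.mk P)) = Q.asIdeal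
      rw [← Ideal.comap_comap, hc2, hc1]
  have : Ring.KrullDimLE 1 R := Ring.krullDimLE_iff.2
    ((ringKrullDim_quotient_le P0).trans (Ring.krullDimLE_iff.1 inferInstance))
  by_cases hf : IsField R
  · have : Algebra.IsIntegral R C := ⟨fun c => by
      letI := hf.toField
      have h1 : IsAlgebraic P0.ResidueField (algebraMap C L c) := Algebra.IsAlgebraic.isAlgebraic _
      exact ((isAlgebraic_algHom_iff (IsScalarTower.toAlgHom R C L) hinj).1
        ((IsFractionRing.isAlgebraic_iff R P0.ResidueField L).2 h1)).isIntegral⟩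
    have : Module.Finite R C := Algebra.IsIntegral.finite
    exact key ⊥ (fun _ _ => bot_le) inferInstance
  · have hm0 : IsLocalRing.maximalIdeal A ≠ P0 := fun h => hf <| by
      have : P0.IsMaximal := h ▸ IsLocalRing.maximalIdeal.isMaximal A
      exact (Ideal.Quotient.maximal_ideal_iff_isField_quotient P0).1 this
    obtain ⟨a, ha, ha0⟩ := SetLike.exists_of_lt
      (lt_of_le_of_ne (IsLocalRing.le_maximalIdeal (Ideal.IsPrime.ne_top' (I := P0))) hm0.symm)
    have ht : algebraMap A R a ≠ 0 := fun h => ha0 (Ideal.Quotient.eq_zero_iff_mem.1 h)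
    have := Groth.Agent.CAlgMisc2.finite_quot (R := R) P0.ResidueField L C hinj (algebraMap A R a) ht
    refine key (Ideal.span {algebraMap R C (algebraMap A R a)}) (fun Q hQ => ?_) ?_
    · rw [Ideal.span_singleton_le_iff_mem, ← Ideal.mem_comap, hQ]
      exact Ideal.mem_map_of_mem _ ha
    · have e : (Ideal.span {algebraMap A R a} • ⊤ : Submodule R C) =
          (Ideal.span {algebraMap R C (algebraMap A R a)}).restrictScalars R := by
        rw [Ideal.smul_top_eq_map, Ideal.map_span, Set.image_singleton]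
      exact Module.Finite.equiv ((Submodule.quotEquivOfEq _ _ e).trans
        (Submodule.Quotient.restrictScalarsEquiv R _))

/-- Primes of a localised algebra. -/
theorem exists_prime_over (A B : Type u) [CommRing A] [CommRing B] [Algebra A B] (p : Ideal A) [p.IsPrime]
    (Q : Ideal B) [Q.IsPrime] (hQ : Q.comap (algebraMap A B) ≤ p) :
    ∃ P' : PrimeSpectrum (TensorProduct A (Localization.AtPrime p) B),
      P'.asIdeal.comap (Algebra.TensorProduct.includeRight : B →ₐ[A] TensorProduct A (Localization.AtPrime p) B) = Q ∧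
      ∀ P : Ideal (TensorProduct A (Localization.AtPrime p) B),
        Q ≤ P.comap (Algebra.TensorProduct.includeRight : B →ₐ[A] TensorProduct A (Localization.AtPrime p) B) →
          P'.asIdeal ≤ P := by
  let A' := Localization.AtPrime p
  let ι : B →ₐ[A] TensorProduct A A' B := Algebra.TensorProduct.includeRight
  have hu : ∀ s : p.primeCompl, IsUnit (algebraMap A Q.ResidueField s) := fun s => by
    rw [isUnit_iff_ne_zero, IsScalarTower.algebraMap_apply A B Q.ResidueField, ne_eq,
      Ideal.algebraMap_residueField_eq_zero]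
    exact fun h => s.2 (hQ h)
  let a : A' →ₐ[A] Q.ResidueField := IsLocalization.liftAlgHom (f := Algebra.ofId A Q.ResidueField) hu
  let L : TensorProduct A A' B →ₐ[A] Q.ResidueField := Algebra.TensorProduct.lift a
    (IsScalarTower.toAlgHom A B Q.ResidueField) fun _ _ => .all _ _
  have hL : ∀ b, L (ι b) = algebraMap B Q.ResidueField b := fun b => by
    show L ((1 : A') ⊗ₜ[A] b) = _
    rw [Algebra.TensorProduct.lift_tmul, map_one, one_mul]
    rfl
  refine ⟨PrimeSpectrum.comap L.toRingHom ⊥, Ideal.ext fun b => ?_, fun P hP x hx => ?_⟩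
  · show L (ι b) = 0 ↔ b ∈ Q
    rw [hL]; exact Ideal.algebraMap_residueField_eq_zero
  · have hrep : ∀ y : TensorProduct A A' B, ∃ (c : p.primeCompl) (b : B),
        algebraMap A _ (c : A) * y = ι b := by
      intro y
      induction y using TensorProduct.induction_on with
      | zero => exact ⟨1, 0, by simp⟩
      | tmul k b =>
        obtain ⟨⟨r, c⟩, hrc⟩ := IsLocalization.surj p.primeCompl k
        refine ⟨c, r • b, ?_⟩
        rw [← Algebra.smul_def, TensorProduct.smul_tmul']
        show ((c : A) • k) ⊗ₜ[A] b = (1 : A') ⊗ₜ[A] (r • b)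
        rw [← TensorProduct.smul_tmul, Algebra.smul_def, Algebra.smul_def, mul_one, mul_comm]
        exact congrArg (fun t => t ⊗ₜ[A] b) hrc
      | add y z hy hz =>
        obtain ⟨c, b, hb⟩ := hy
        obtain ⟨d, b', hb'⟩ := hz
        refine ⟨c * d, algebraMap A B (d : A) * b + algebraMap A B (c : A) * b', ?_⟩
        rw [map_add, map_mul ι, map_mul ι, AlgHom.commutes, AlgHom.commutes, ← hb, ← hb', Submonoid.coe_mul, map_mul]
        ring
    obtain ⟨c, b, hb⟩ := hrep x
    have hbP : ι b ∈ P := hP (by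
      have h0 : L x = 0 := hx
      have : L (ι b) = 0 := by rw [← hb, map_mul, h0, mul_zero]
      rw [hL] at this
      exact Ideal.algebraMap_residueField_eq_zero.1 this)
    rw [← hb] at hbP
    refine (Ideal.unit_mul_mem_iff_mem _ ?_).1 hbP
    rw [IsScalarTower.algebraMap_apply A A' (TensorProduct A A' B)]
    exact (IsLocalization.map_units A' c).map _

/-- Quasi-finiteness at a prime over a point of codimension at most one. -/
theorem quasiFiniteAt_of_codim (A B : Type u) [CommRing A] [CommRing B] [Algebra A B] [Algebra.FiniteType A B]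
    (q : Ideal B) [q.IsPrime] (hN : IsNoetherianRing (Localization.AtPrime (q.under A)))
    (hd : ringKrullDim (Localization.AtPrime (q.under A)) ≤ 1)
    (hgen : ∀ P ∈ minimalPrimes B, ∀ (_ : P.IsPrime), Algebra.QuasiFiniteAt A P) :
    Algebra.QuasiFiniteAt A q := by
  classical
  let p := q.under A
  let A' := Localization.AtPrime p
  let T := TensorProduct A A' B
  have : Ring.KrullDimLE 1 A' := Ring.krullDimLE_iff.2 hd
  let ι : B →ₐ[A] T := Algebra.TensorProduct.includeRight
  have hgen' : ∀ P ∈ minimalPrimes T, ∀ (_ : P.IsPrime), Algebra.QuasiFiniteAt A' P := by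
    intro P hP hPp
    let P1 : Ideal B := P.comap ι
    have : P1.IsPrime := Ideal.comap_isPrime ι P
    have hP1p : P1.comap (algebraMap A B) ≤ p := fun a ha => by
      by_contra hna
      refine hPp.ne_top (Ideal.eq_top_of_isUnit_mem _ (show ι (algebraMap A B a) ∈ P from ha) ?_)
      rw [AlgHom.commutes, IsScalarTower.algebraMap_apply A A' T]
      exact (IsLocalization.map_units A' (⟨a, hna⟩ : p.primeCompl)).map _
    have hP1 : P1 ∈ minimalPrimes B := by
      refine ⟨⟨inferInstance, bot_le⟩, fun J hJ hJP => ?_⟩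
      have : J.IsPrime := hJ.1
      obtain ⟨P', hPJ, hle⟩ := exists_prime_over A B p J ((Ideal.comap_mono hJP).trans hP1p)
      have hPP : P ≤ P'.asIdeal := hP.2 ⟨P'.isPrime, bot_le⟩ (hle P hJP)
      intro b hb
      rw [← hPJ]
      exact hPP hb
    have := hgen P1 hP1 inferInstance
    exact Algebra.QuasiFiniteAt.baseChange P1 P rfl
  have hfin := finite_fibre_local A' T hgen'
  have hpre : (PrimeSpectrum.comap (algebraMap A B) ⁻¹' {⟨p, inferInstance⟩}).Finite := by
    refine (hfin.image (PrimeSpectrum.comap ι.toRingHom)).subset fun Q hQ => ?_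
    have hQp : Q.asIdeal.comap (algebraMap A B) = p := congrArg PrimeSpectrum.asIdeal hQ
    obtain ⟨Q', hQ', -⟩ := exists_prime_over A B p Q.asIdeal hQp.le
    refine ⟨Q', PrimeSpectrum.ext ?_, PrimeSpectrum.ext hQ'⟩
    refine (Localization.AtPrime.eq_maximalIdeal_iff_under_eq (I := p)).1 ?_
    ext x
    show algebraMap A' T (algebraMap A A' x) ∈ Q'.asIdeal ↔ x ∈ p
    rw [← IsScalarTower.algebraMap_apply A A' T, ← AlgHom.commutes ι]
    refine Iff.trans ?_ (SetLike.ext_iff.1 hQp x)
    rw [← hQ']
    rfl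
  change Algebra.QuasiFiniteAt A (⟨q, inferInstance⟩ : PrimeSpectrum B).asIdeal
  rw [Algebra.quasiFiniteAt_iff_isOpen_singleton_fiber]
  have : IsJacobsonRing (p.Fiber B) := isJacobsonRing_of_finiteType (A := p.ResidueField)
  have : Finite (PrimeSpectrum (p.Fiber B)) :=
    (PrimeSpectrum.preimageEquivFiber A B ⟨p, inferInstance⟩).finite_iff.mp hpre
  have hd' := (PrimeSpectrum.preimageHomeomorphFiber A B ⟨p, inferInstance⟩).symm.discreteTopology
  exact @isOpen_discrete _ _ hd' _


/-- Let f : X → Y be locally of finite type, and let y ∈ Y be a point whose local ring is Noetherian of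
dimension at most one. Suppose f is quasi-finite at the generic point of each irreducible component
of X. Then f is quasi-finite at each point x of X with f(x) = y. -/
theorem result {X Y : Scheme.{u}} (f : X ⟶ Y) [LocallyOfFiniteType f]
    (y : Y) [IsNoetherianRing (Y.presheaf.stalk y)] (hy : ringKrullDim (Y.presheaf.stalk y) ≤ 1)
    (hgen : ∀ Z ∈ irreducibleComponents (X : Type u), ∀ η : X, IsGenericPoint η Z → f.QuasiFiniteAt η)
    (x : X) (hx : f.base x = y) : f.QuasiFiniteAt x := by
  classical
  obtain ⟨_, ⟨U, hU, rfl⟩, hyU, -⟩ := Y.isBasis_affineOpens.exists_subset_of_mem_open (Set.mem_univ (f.base x)) isOpen_univ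
  obtain ⟨_, ⟨V, hV, rfl⟩, hxV, hVU⟩ := X.isBasis_affineOpens.exists_subset_of_mem_open (show x ∈ f ⁻¹ᵁ U from hyU) (f ⁻¹ᵁ U).isOpen
  have hVU : V ≤ f ⁻¹ᵁ U := hVU
  have hU : IsAffineOpen U := hU
  have hV : IsAffineOpen V := hV
  let φ := (f.appLE U V hVU).hom
  algebraize [(f.appLE U V hVU).hom]
  have : Algebra.FiniteType Γ(Y, U) Γ(X, V) :=
    (HasRingHomProperty.iff_appLE (P := @LocallyOfFiniteType)).1 inferInstance ⟨U, hU⟩ ⟨V, hV⟩ hVU
  let q := (hV.primeIdealOf ⟨x, hxV⟩).asIdeal
  have hp : q.under Γ(Y, U) = (hU.primeIdealOf ⟨f.base x, hyU⟩).asIdeal := by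
    rw [← IsAffineOpen.comap_primeIdealOf_appLE (f := f) U hU V hV hVU hxV]
    rfl
  subst hx
  let := Y.presheaf.algebra_section_stalk ⟨f.base x, hyU⟩
  have := hU.isLocalization_stalk ⟨f.base x, hyU⟩
  have hloc : IsLocalization.AtPrime (Y.presheaf.stalk ((⟨f.base x, hyU⟩ : U) : Y)) (q.under Γ(Y, U)) := by
    convert this
  let eA : Y.presheaf.stalk (f.base x) ≃+* Localization.AtPrime (q.under Γ(Y, U)) :=
    (IsLocalization.algEquiv (q.under Γ(Y, U)).primeCompl
      (Y.presheaf.stalk ((⟨f.base x, hyU⟩ : U) : Y)) (Localization.AtPrime _)).toRingEquiv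
  have hq := quasiFiniteAt_of_codim Γ(Y, U) Γ(X, V) q (isNoetherianRing_of_ringEquiv _ eA)
    ((ringKrullDim_eq_of_ringEquiv eA).symm.trans_le hy) fun P hP hPp => by
      let η : X := hV.fromSpec ⟨P, hPp⟩
      have hηV : η ∈ V := hV.range_fromSpec.le ⟨_, rfl⟩
      have hmax : ∀ z : X, z ⤳ η → z = η := by
        intro z hz
        obtain ⟨Q, rfl⟩ : z ∈ Set.range hV.fromSpec := hV.range_fromSpec.ge (hz.mem_open V.isOpen hηV)
        have hQP : Q.asIdeal ≤ P :=
          (PrimeSpectrum.le_iff_specializes Q (⟨P, hPp⟩ : PrimeSpectrum Γ(X, V))).2 (hV.fromSpec.isOpenEmbedding.isInducing.specializes_iff.1 hz)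
        exact congrArg hV.fromSpec (PrimeSpectrum.ext (le_antisymm hQP (hP.2 ⟨Q.isPrime, bot_le⟩ hQP)))
      have hcomp : closure {η} ∈ irreducibleComponents (X : Type u) := by
        refine ⟨isIrreducible_singleton.closure, fun T hT hηT => ?_⟩
        have h2 : η ∈ T := hηT (subset_closure rfl)
        have hg := hT.isGenericPoint_genericPoint_closure
        rw [hmax _ (hg.specializes (subset_closure h2))] at hg
        exact subset_closure.trans hg.def.ge
      have h1 := (hgen _ hcomp η rfl).quasiFiniteAt hV hU hVU hηV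
      have e : hV.primeIdealOf ⟨η, hηV⟩ = ⟨P, hPp⟩ :=
        hV.fromSpec.isOpenEmbedding.injective (hV.fromSpec_primeIdealOf ⟨η, hηV⟩)
      simp only [e] at h1
      exact h1
  have hqq : (algebraMap Γ(Y, U) (Localization.AtPrime q)).QuasiFinite := RingHom.quasiFinite_algebraMap.2 hq
  algebraize [(X.presheaf.germ V x hxV).hom]
  have := hV.isLocalization_stalk ⟨x, hxV⟩
  let e := IsLocalization.algEquiv q.primeCompl
    (Localization.AtPrime q) (X.presheaf.stalk (⟨x, hxV⟩ : V.1))
  refine RingHom.QuasiFinite.of_comp (g := (Y.presheaf.germ U (f x) hyU).hom) ?_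
  have h2 := (RingHom.QuasiFinite.of_finite e.finite).comp hqq
  convert! h2 using 1
  rw [← CommRingCat.hom_comp, f.germ_stalkMap, ← X.presheaf.germ_res (homOfLE hVU) _ hxV,
    Scheme.Hom.app_eq_appLE, Scheme.Hom.appLE_map_assoc, CommRingCat.hom_comp,
    IsScalarTower.algebraMap_eq Γ(Y, U) Γ(X, V) (Localization.AtPrime q), ← RingHom.comp_assoc]
  congr 1
  exact e.toAlgHom.comp_algebraMap.symm

end Groth.Agent.S1608
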