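import Groth.Statements.S16083
import Groth.Agent.RefHullLib.Extend
import Groth.Agent.RefHullLib.LowDim
import Mathlib

set_option autoImplicit false
universe u
open CategoryTheory CategoryTheory.Limits AlgebraicGeometry TopologicalSpace
open SDiv

namespace Groth.Agent.S16083

/-- Suppose X is a normal scheme that is integral and locally Noetherian, write η for its generic point,
let F and G be coherent O_X-modules, and let T : G_η → F_η be an O_{X,η}-linear map of generic
stalks. Then T extends to a morphism G ⟶ F^** — there is a morphism ψ whose stalk map at η is T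
followed by the stalk map at η of the canonical map F ⟶ F^** — if and only if for every point x with
dim O_{X,x} = 1 the map T sends the image of G_x in G_η into the image of F_x in F_η. -/
theorem result (X : Scheme.{u}) [IsIntegral X] [IsLocallyNoetherian X]
    (hX : Pi1.IsNormalScheme X) (F G : X.Modules) (hF : Coh.IsCoh F) (hG : Coh.IsCoh G)
    (T : ↑(G.presheaf.stalk (genericPoint ↥X)) →ₗ[↑(X.presheaf.stalk (genericPoint ↥X))]
      ↑(F.presheaf.stalk (genericPoint ↥X))) :
    (∃ ψ : G ⟶ RefHull.ddual F, RefHull.stalkMapₗ ψ (genericPoint ↥X) =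
        (RefHull.stalkMapₗ (RefHull.bidualMap F) (genericPoint ↥X)).comp T) ↔
      ∀ x : ↥X, ringKrullDim ↑(X.presheaf.stalk x) = 1 →
        Set.MapsTo ⇑T
          (Set.range ⇑(G.presheaf.stalkSpecializes ((genericPoint_spec ↥X).specializes (Set.mem_univ x))).hom)
          (Set.range ⇑(F.presheaf.stalkSpecializes ((genericPoint_spec ↥X).specializes (Set.mem_univ x))).hom) := by
  have hη : Function.Bijective (RefHull.stalkMapₗ (RefHull.bidualMap F) (genericPoint ↥X)) :=
    RefHullLib.bijective_stalk_bidualMap_genericPoint hF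
  constructor
  · rintro ⟨ψ, hψ⟩ x hx w ⟨v, rfl⟩
    haveI := (hX x).1
    haveI := (hX x).2
    haveI := AssSch12.finite_stalk hF x
    haveI : IsRegularLocalRing (X.presheaf.stalk x) := CAlgH3.isRegularLocalRing_of_normal_dim_le_one hx.le
    haveI : Module.IsTorsionFree (X.presheaf.stalk x)
        (F.presheaf.stalk x ⧸ Submodule.torsion (X.presheaf.stalk x) (F.presheaf.stalk x)) :=
      RefHullLib.isTorsionFree_quotient_torsion
    obtain ⟨f, hf⟩ := RefHullLib.stalk_bidualMap_surjective hF x
      (RefHullLib.free_of_torsionFree_of_dim_le_one hx.le inferInstance) (RefHull.stalkMapₗ ψ x v)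
    refine ⟨f, hη.1 ?_⟩
    show RefHull.stalkMapₗ (RefHull.bidualMap F) (genericPoint ↥X) (RefHullLib.toGen F x f) = _
    rw [← RefHullLib.toGen_stalkMap, hf, RefHullLib.toGen_stalkMap, hψ]
    rfl
  · intro h
    refine RefHullLib.exists_hom_of_genericMap hX (RefHullLib.isCoh_ddual hF)
      (RefHullLib.isReflexiveAt_ddual hF) _ fun y hy v => ?_
    obtain ⟨f, hf⟩ := h y hy (Set.mem_range_self v)
    exact ⟨RefHull.stalkMapₗ (RefHull.bidualMap F) y f,
      (RefHullLib.toGen_stalkMap F _ y f).trans (congrArg _ hf)⟩
end Groth.Agent.S16083
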