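import Groth.Statements.S16085
import Groth.Agent.RefHullLib.ClassLaw
import Mathlib

set_option autoImplicit false
universe u
open CategoryTheory CategoryTheory.Limits AlgebraicGeometry TopologicalSpace
open SDiv

namespace Groth.Agent.S16085

/-- Let X be an integral locally Noetherian normal scheme. Sending (F, G) to the reflexive hull (F
⊗_{O_X} G)^** makes the isomorphism classes of rank one coherent reflexive O_X-modules into an
abelian group: on that set there are a commutative and associative composition law, a neutral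
element and inverses, such that the product of the classes of F and G is the class of the reflexive
hull of F ⊗_{O_X} G, the neutral element is the class of O_X, and the inverse of the class of F is
the class of its dual 𝓗om_{O_X}(F, O_X). -/
theorem result (X : Scheme.{u}) [IsIntegral X] [IsLocallyNoetherian X] (hX : Pi1.IsNormalScheme X) :
    ∃ (mul : {c : PicF.Cl X // ∃ F : X.Modules, PicF.cl F = c ∧ RefHull.IsRef1 F} →
          {c : PicF.Cl X // ∃ F : X.Modules, PicF.cl F = c ∧ RefHull.IsRef1 F} →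
            {c : PicF.Cl X // ∃ F : X.Modules, PicF.cl F = c ∧ RefHull.IsRef1 F})
      (one : {c : PicF.Cl X // ∃ F : X.Modules, PicF.cl F = c ∧ RefHull.IsRef1 F})
      (inv : {c : PicF.Cl X // ∃ F : X.Modules, PicF.cl F = c ∧ RefHull.IsRef1 F} →
          {c : PicF.Cl X // ∃ F : X.Modules, PicF.cl F = c ∧ RefHull.IsRef1 F}),
      (∀ a b, mul a b = mul b a) ∧ (∀ a b c, mul (mul a b) c = mul a (mul b c)) ∧ (∀ a, mul one a = a) ∧
        (∀ a, mul (inv a) a = one) ∧
        (∀ (F G : X.Modules) (hF : RefHull.IsRef1 F) (hG : RefHull.IsRef1 G),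
          (mul ⟨PicF.cl F, F, rfl, hF⟩ ⟨PicF.cl G, G, rfl, hG⟩).1 = PicF.cl (RefHull.ddual (CohB1.tensorMod F G))) ∧
        one.1 = PicF.cl (Coh.structureModule X) ∧
        (∀ (F : X.Modules) (hF : RefHull.IsRef1 F), (inv ⟨PicF.cl F, F, rfl, hF⟩).1 = PicF.cl (RefHull.dual F)) := by
  let R := {c : PicF.Cl X // ∃ F : X.Modules, PicF.cl F = c ∧ RefHull.IsRef1 F}
  have iso_cl : ∀ {F G : X.Modules}, Nonempty (F ≅ G) → PicF.cl F = PicF.cl G := fun h => Quot.sound h
  have hsec : ∀ (F : X.Modules), RefHull.IsRef1 F →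
      ∃ s : F.presheaf.stalk (genericPoint ↥X), s ≠ 0 := fun F hF => by
    obtain ⟨f, hf, -⟩ := RefHullLib.exists_ne_zero_genericPoint hF.2.2
    exact ⟨f, hf⟩
  let rep : R → X.Modules := fun c => c.2.choose
  have repcl : ∀ c : R, PicF.cl (rep c) = c.1 := fun c => c.2.choose_spec.1
  have repref : ∀ c : R, RefHull.IsRef1 (rep c) := fun c => c.2.choose_spec.2
  -- a class has divisor `D` when a representative has a section with that divisor
  let D : R → (X → ℤ) → Prop := fun c d => ∃ (F : X.Modules) (_ : RefHull.IsRef1 F),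
    PicF.cl F = c.1 ∧ RefHullLib.IsDiv F d
  have repdiv : ∀ (c : R) (d : X → ℤ), D c d → RefHullLib.IsDiv (rep c) d := by
    rintro c d ⟨F, hF, hcl, s, hs, hsd⟩
    obtain ⟨e⟩ : Nonempty (F ≅ rep c) := by
      have : Equivalence (fun L L' : X.Modules => Nonempty (L ≅ L')) :=
        ⟨fun _ => ⟨Iso.refl _⟩, fun ⟨e⟩ => ⟨e.symm⟩, fun ⟨e⟩ ⟨e'⟩ => ⟨e ≪≫ e'⟩⟩
      exact this.eqvGen_iff.1 (Quot.eqvGen_exact (hcl.trans (repcl c).symm))
    refine ⟨RefHull.stalkMapₗ e.hom _ s,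
      fun h => hs ((RefHullLib.stalkMap_iso_bijective e _).1 (h.trans (map_zero _).symm)), fun x hx => ?_⟩
    obtain ⟨tF, htF⟩ := RefHullLib.exists_gen_codimOne hX hF
      ((RefHullLib.ringKrullDim_eq_one_iff_coheight x).2 hx).le
    rw [RefHullLib.sOrd_iso e hF.1.1 (repref c).1.1 hx htF hs, hsd x hx]
  have Dext : ∀ (a b : R) (d : X → ℤ), D a d → D b d → a = b := by
    intro a b d ha hb
    obtain ⟨s, hs, hsd⟩ := repdiv a d ha
    obtain ⟨t, ht, htd⟩ := repdiv b d hb
    refine Subtype.ext ((repcl a).symm.trans ((iso_cl ?_).trans (repcl b)))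
    exact RefHullLib.nonempty_iso_of_isDiv hX (repref a) (repref b) hs ht fun x hx => by
      rw [hsd x hx, htd x hx]
  have Dex : ∀ a : R, ∃ d, D a d := fun a => by
    obtain ⟨s, hs⟩ := hsec _ (repref a)
    exact ⟨fun x => RefHullLib.sOrd (rep a) x s, _, repref a, repcl a, s, hs, fun _ _ => rfl⟩
  let mul : R → R → R := fun a b =>
    ⟨PicF.cl (RefHull.ddual (CohB1.tensorMod (rep a) (rep b))), _, rfl, by
      obtain ⟨s, hs⟩ := hsec _ (repref a)
      obtain ⟨t, ht⟩ := hsec _ (repref b)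
      exact (RefHullLib.exists_ddual_mul_section hX (repref a) (repref b) hs ht).1⟩
  let one : R := ⟨PicF.cl (Coh.structureModule X), _, rfl, RefHullLib.isRef1_structureModule⟩
  let inv : R → R := fun a => ⟨PicF.cl (RefHull.dual (rep a)), _, rfl, by
    obtain ⟨s, hs⟩ := hsec _ (repref a)
    exact (RefHullLib.exists_dual_section hX (repref a) hs).1⟩
  have Dmul : ∀ a b d e, D a d → D b e → D (mul a b) (d + e) := by
    intro a b d e ha hb
    obtain ⟨s, hs, hsd⟩ := repdiv a d ha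
    obtain ⟨t, ht, htd⟩ := repdiv b e hb
    obtain ⟨hR, w, hw, hwd⟩ := RefHullLib.exists_ddual_mul_section hX (repref a) (repref b) hs ht
    exact ⟨_, hR, rfl, w, hw, fun x hx => by rw [hwd x hx, hsd x hx, htd x hx]; rfl⟩
  have Done : D one 0 :=
    ⟨_, RefHullLib.isRef1_structureModule, rfl, _, RefHullLib.unitOne_ne_zero,
      fun x hx => RefHullLib.sOrd_unitOne hx⟩
  have Dinv : ∀ a d, D a d → D (inv a) (-d) := by
    intro a d ha
    obtain ⟨s, hs, hsd⟩ := repdiv a d ha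
    obtain ⟨hR, w, hw, hwd⟩ := RefHullLib.exists_dual_section hX (repref a) hs
    exact ⟨_, hR, rfl, w, hw, fun x hx => by rw [hwd x hx, hsd x hx]; rfl⟩
  refine ⟨mul, one, inv, fun a b => ?_, fun a b c => ?_, fun a => ?_, fun a => ?_,
    fun F G hF hG => ?_, rfl, fun F hF => ?_⟩
  · obtain ⟨d, hd⟩ := Dex a
    obtain ⟨e, he⟩ := Dex b
    exact Dext _ _ _ (Dmul a b d e hd he) (add_comm e d ▸ Dmul b a e d he hd)
  · obtain ⟨d, hd⟩ := Dex a
    obtain ⟨e, he⟩ := Dex b
    obtain ⟨k, hk⟩ := Dex c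
    exact Dext _ _ _ (Dmul _ c _ k (Dmul a b d e hd he) hk)
      ((add_assoc d e k).symm ▸ Dmul a _ d _ hd (Dmul b c e k he hk))
  · obtain ⟨d, hd⟩ := Dex a
    exact Dext _ _ _ (Dmul one a 0 d Done hd) ((zero_add d).symm ▸ hd)
  · obtain ⟨d, hd⟩ := Dex a
    exact Dext _ _ _ (Dmul (inv a) a _ d (Dinv a d hd) hd) ((neg_add_cancel d).symm ▸ Done)
  · obtain ⟨s, hs⟩ := hsec F hF
    obtain ⟨t, ht⟩ := hsec G hG
    obtain ⟨hR, w, hw, hwd⟩ := RefHullLib.exists_ddual_mul_section hX hF hG hs ht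
    exact congrArg Subtype.val (Dext _ ⟨_, _, rfl, hR⟩ _
      (Dmul ⟨_, F, rfl, hF⟩ ⟨_, G, rfl, hG⟩ _ _ ⟨F, hF, rfl, s, hs, fun _ _ => rfl⟩
        ⟨G, hG, rfl, t, ht, fun _ _ => rfl⟩) ⟨_, hR, rfl, w, hw, hwd⟩)
  · obtain ⟨s, hs⟩ := hsec F hF
    obtain ⟨hR, w, hw, hwd⟩ := RefHullLib.exists_dual_section hX hF hs
    exact congrArg Subtype.val (Dext _ ⟨_, _, rfl, hR⟩ _
      (Dinv ⟨_, F, rfl, hF⟩ _ ⟨F, hF, rfl, s, hs, fun _ _ => rfl⟩) ⟨_, hR, rfl, w, hw, hwd⟩)
end Groth.Agent.S16085
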