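import Groth.Statements.S16088
import Groth.Agent.VarietyLib.Dual
import Groth.Agent.VarietyLib.PullClass
import Groth.Agent.FlatMor12.IdealModGen

set_option autoImplicit false
universe u
open CategoryTheory CategoryTheory.Limits AlgebraicGeometry TopologicalSpace
open SDiv

namespace Groth.Agent.S16088

/-- Let S be a scheme, D ⊆ S an effective Cartier divisor with ideal sheaf 𝓓 and i : D ⟶ S its closed
immersion. The normal sheaf of D in S, the O_D-dual of the conormal sheaf i^*𝓓, is isomorphic to the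
restriction i^*(O_S(D)) to D of O_S(D) = 𝓗om_{O_S}(𝓓, O_S), the dual of the invertible ideal 𝓓.
Existence of an isomorphism of O_D-modules only; the canonical identification is not named here. -/
theorem result (S : Scheme.{u}) (𝓓 : S.IdealSheafData)
    (hD : BlowUp.IsEffCartierIdeal 𝓓) :
    Nonempty (RefHull.dual (Omega.conormal 𝓓.subschemeι) ≅
      (Scheme.Modules.pullback 𝓓.subschemeι).obj (RefHull.dual (ClSub.idealMod 𝓓))) := by
  have hI := FlatMor12.IdealModGen.isInvertible_idealMod 𝓓 hD
  have hdual : ∀ {Z : Scheme.{u}} {L : Z.Modules}, PicF.IsInvertible L → PicF.IsInvertible (RefHull.dual L) :=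
    fun {Z L} hL => PicLib.isInvertible_of_gens fun z => by
      obtain ⟨U, hzU, g, hg⟩ := PicLib.exists_isGen hL z
      exact ⟨U, hzU, _, VarietyLib.isGen_coordSec hg⟩
  have hC : Omega.conormal 𝓓.subschemeι = (Scheme.Modules.pullback 𝓓.subschemeι).obj (ClSub.idealMod 𝓓) := by
    show (Scheme.Modules.pullback 𝓓.subschemeι).obj (ClSub.idealMod 𝓓.subschemeι.ker) = _
    rw [Scheme.IdealSheafData.ker_subschemeι]
  rw [hC]
  have hP : PicF.IsInvertible ((Scheme.Modules.pullback 𝓓.subschemeι).obj (ClSub.idealMod 𝓓)) :=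
    PicLoc.isInvertible_pullback _ hI
  have hQ : PicF.IsInvertible ((Scheme.Modules.pullback 𝓓.subschemeι).obj (RefHull.dual (ClSub.idealMod 𝓓))) :=
    PicLoc.isInvertible_pullback _ (hdual hI)
  have h1 : EulerLib.InvCl.mk _ hP * EulerLib.InvCl.mk _ (hdual hP) = 1 := by
    obtain ⟨e⟩ := VarietyLib.isInverseOf_dual hP
    exact Quotient.sound ⟨e⟩
  have h2 : EulerLib.InvCl.mk _ hI * EulerLib.InvCl.mk _ (hdual hI) = 1 := by
    obtain ⟨e⟩ := VarietyLib.isInverseOf_dual hI
    exact Quotient.sound ⟨e⟩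
  have h3 := congrArg (VarietyLib.pullHom 𝓓.subschemeι) h2
  rw [map_mul, map_one, VarietyLib.pullHom_mk, VarietyLib.pullHom_mk] at h3
  exact Quotient.exact (show EulerLib.InvCl.mk _ (hdual hP) = EulerLib.InvCl.mk _ hQ from
    left_inv_eq_right_inv (a := EulerLib.InvCl.mk _ hP) ((mul_comm _ _).trans h1) h3)

end Groth.Agent.S16088
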