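import Groth.Statements.S16089
import Groth.Agent.Mod22.TopWedge
import Groth.Agent.Mod22.EffCartierOrd
import Groth.Agent.RefCh22.FrobPow
import Groth.Agent.CohGab24.Restrict
import Groth.Agent.CAlgH3.Factorial
-- import your own Groth.Agent.* helpers here

set_option autoImplicit false
universe u
open CategoryTheory CategoryTheory.Limits AlgebraicGeometry TopologicalSpace
open SDiv

namespace Groth.Agent.S16089

open Groth.Agent.Coherent Groth.Agent.PicLib Groth.Agent.RefHullLib Groth.Agent.Mod22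

set_option linter.style.haveILetI false
set_option linter.unusedSectionVars false
set_option backward.isDefEq.respectTransparency.types false

variable {X : Scheme.{u}} [IsIntegral X] [IsLocallyNoetherian X]

local notation "η" => genericPoint X

theorem finrank_stalk_of_restrict {U : X.Opens} (hU : (U : Set X).Nonempty) {M : X.Modules} {r : ℕ}
    (h : FlatMod.IsFinLocFreeOfRank r (M.restrict U.ι)) :
    Module.finrank (X.presheaf.stalk η) (M.presheaf.stalk η) = r := by
  have hη : η ∈ U := ((genericPoint_spec X).mem_open_set_iff U.isOpen).2 (by simpa using hU)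
  let z : U.toScheme := ⟨η, hη⟩
  obtain ⟨φ, e, he, -, -⟩ := exists_semilinear_restrict U.ι M z
  obtain ⟨c⟩ := SplitP1.nonempty_basis_stalk h z
  letI : RingHomInvPair (φ.symm : U.toScheme.presheaf.stalk z →+* X.presheaf.stalk (U.ι z)) (φ : X.presheaf.stalk (U.ι z) →+* U.toScheme.presheaf.stalk z) :=
    RingHomInvPair.of_ringEquiv φ.symm
  letI := RingHomInvPair.symm (φ.symm : U.toScheme.presheaf.stalk z →+* X.presheaf.stalk (U.ι z)) (φ : X.presheaf.stalk (U.ι z) →+* U.toScheme.presheaf.stalk z)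
  have hd : Module.finrank (X.presheaf.stalk (U.ι z)) (M.presheaf.stalk (U.ι z)) = r := by
    have h1 := Module.finrank_eq_card_basis c
    rw [Fintype.card_fin] at h1
    rw [← h1]
    exact congrArg Cardinal.toNat (rank_eq_of_equiv_equiv φ e φ.bijective he)
  exact hd

theorem exists_pow_section (hX : Pi1.IsNormalScheme X) {Q : X.Modules} (hQ : PicF.IsInvertible Q)
    {q : Q.presheaf.stalk η} (hq : q ≠ 0) : ∀ k : ℕ,
    ∃ w : (CohB1.tensorPow Q k).presheaf.stalk η, w ≠ 0 ∧ PicF.IsInvertible (CohB1.tensorPow Q k) ∧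
      ∀ x : X, Order.coheight x = 1 → sOrd (CohB1.tensorPow Q k) x w = (k : ℤ) * sOrd Q x q
  | 0 => ⟨AssSch12.unitOne η, unitOne_ne_zero, AmpleLib.isInvertible_structureModule, fun x hx => by
      rw [Nat.cast_zero, zero_mul]; exact sOrd_unitOne hx⟩
  | k + 1 => by
    obtain ⟨w, hw, hinv, ho⟩ := exists_pow_section hX hQ hq k
    have h1 := CAlgH3.InvertibleDivisor.isRef1 hinv
    obtain ⟨h2, v, hv, ov⟩ := exists_ddual_mul_section hX h1 (CAlgH3.InvertibleDivisor.isRef1 hQ) hw hq
    obtain ⟨e⟩ := RefCh22.refTensor_invertible h1 hQ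
    have hT : Coh.IsQCoh (CohB1.tensorPow Q (k + 1)) :=
      (PicLib.isCoh_of_isInvertible (AmpleLib.isInvertible_tensorMod hinv hQ)).1
    refine ⟨RefHull.stalkMapₗ e.hom η v, fun h => hv ((stalkMap_iso_bijective e _).1 (h.trans (map_zero _).symm)),
      AmpleLib.isInvertible_tensorMod hinv hQ, fun x hx => ?_⟩
    obtain ⟨t, ht⟩ := exists_gen_codimOne hX h2 ((ringKrullDim_eq_one_iff_coheight x).2 hx).le
    refine (sOrd_iso e h2.1.1 hT hx ht hv).trans ?_
    rw [show sOrd (RefPow.refTensor (CohB1.tensorPow Q k) Q) x v = _ from ov x hx, ho x hx]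
    push_cast; ring

theorem eq_of_mem_support {I : X.IdealSheafData} [IsIntegral I.subscheme] (hI : BlowUp.IsEffCartierIdeal I) {y : X}
    (hy : Order.coheight y = 1) (hs : y ∈ (I.support : Set X)) :
    y = I.subschemeι (genericPoint I.subscheme) := by
  obtain ⟨z, rfl⟩ := I.range_subschemeι.ge hs
  let d := I.subschemeι (genericPoint I.subscheme)
  have hdy : d ⤳ I.subschemeι z := (genericPoint_specializes z).map I.subschemeι.continuous
  have hd : d ≠ η := fun h => genericPoint_notMem_support hI (h ▸ I.range_subschemeι.le ⟨_, rfl⟩)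
  by_contra hne
  have h1 : (I.subschemeι z) < d := lt_of_le_not_ge (Scheme.le_iff_specializes.2 hdy) fun hge =>
    hne (hdy.antisymm (Scheme.le_iff_specializes.1 hge)).eq.symm
  have h2 : d < η := lt_of_le_not_ge (Scheme.le_iff_specializes.2 (genericPoint_specializes d)) fun hge =>
    hd ((genericPoint_specializes d).antisymm (Scheme.le_iff_specializes.1 hge)).eq.symm
  have h3 := Order.coheight_add_one_le h1
  have h4 := Order.coheight_add_one_le h2
  rw [hy] at h3
  have h5 : (1 : ℕ∞) + 1 ≤ 1 := le_trans (add_le_add (le_trans le_add_self h4) le_rfl) h3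
  exact absurd h5 (by norm_num)

/-- Suppose X is an integral regular scheme (locally Noetherian, with every local ring regular) whose
dimension is at most 2. Consider an effective Cartier divisor D ⊆ X with ideal sheaf 𝓓, whose
associated closed subscheme is integral, and write i : D ⟶ X for the closed immersion. Take G to be
a finite locally free O_D-module of rank s, and assume F ⟶ F' ⟶ i_*G ⟶ 0 is exact, where F and F'
are coherent O_X-modules that are both locally free of rank r on some common nonempty open subset.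
Then, for any r-th exterior power L of F and L' of F', the reflexive hulls L^** and L'^** are
invertible O_X-modules, and there is an integer k with 0 ≤ k ≤ min(s, r) such that L'^** ≅ L^** ⊗
O_X(D)^{⊗ k}, where O_X(D) = 𝓗om(𝓓, O_X). Although the published version assumes X has dimension
exactly 2, the proof only needs dimension at most 2. -/
theorem result (X : Scheme.{u}) [IsIntegral X] [IsLocallyNoetherian X]
    (hreg : ∀ x : ↥X, IsRegularLocalRing ↑(X.presheaf.stalk x)) (hdim : topologicalKrullDim ↥X ≤ 2)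
    (𝓓 : X.IdealSheafData) (hD : BlowUp.IsEffCartierIdeal 𝓓) (hDi : IsIntegral 𝓓.subscheme) (s : ℕ)
    (G : (𝓓.subscheme).Modules) (hG : FlatMod.IsFinLocFreeOfRank s G) (F F' : X.Modules) (hF : Coh.IsCoh F)
    (hF' : Coh.IsCoh F') (a : F ⟶ F') (b : F' ⟶ (Scheme.Modules.pushforward 𝓓.subschemeι).obj G) (w : a ≫ b = 0)
    (hex : (ShortComplex.mk a b w).Exact) (hb : Epi b) (r : ℕ)
    (hU : ∃ U : X.Opens, (U : Set ↥X).Nonempty ∧ FlatMod.IsFinLocFreeOfRank r (F.restrict U.ι) ∧
      FlatMod.IsFinLocFreeOfRank r (F'.restrict U.ι))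
    (L L' : X.Modules) (hL : ExtPow.IsExtPow r F L) (hL' : ExtPow.IsExtPow r F' L') :
    PicF.IsInvertible (RefHull.ddual L) ∧ PicF.IsInvertible (RefHull.ddual L') ∧
      ∃ k : ℕ, k ≤ min s r ∧
        Nonempty (RefHull.ddual L' ≅
          CohB1.tensorMod (RefHull.ddual L) (CohB1.tensorPow (RefHull.dual (ClSub.idealMod 𝓓)) k)) := by
  classical
  obtain ⟨U, hU, hFU, hF'U⟩ := hU
  have hX : Pi1.IsNormalScheme X := fun x => by haveI := hreg x; haveI := CAlgH3.ufm_of_regular (X.presheaf.stalk x); exact ⟨inferInstance, inferInstance⟩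
  have hufd : ∀ x : X, UniqueFactorizationMonoid (X.presheaf.stalk x) := fun x => by
    haveI := hreg x; exact CAlgH3.ufm_of_regular _
  letI : Field (X.presheaf.stalk (genericPoint X)) := isField_stalk_genericPoint.toField
  haveI := AssSch12.finite_stalk hF (genericPoint X)
  haveI := AssSch12.finite_stalk hF' (genericPoint X)
  let P := (Scheme.Modules.pushforward 𝓓.subschemeι).obj G
  have hexact : ∀ y : X, Function.Exact (RefHull.stalkMapₗ a y) (RefHull.stalkMapₗ b y) := fun y =>
    CohGab24.exact_stalk hex y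
  have hsurj : ∀ y : X, Function.Surjective (RefHull.stalkMapₗ b y) := fun y => by
    haveI := hb
    exact (ModuleCat.epi_iff_surjective ((DerSch.stalkFunctor X y).map b)).1 inferInstance
  have hoff : ∀ {y : X}, y ∉ (𝓓.support : Set X) → ∀ m : P.presheaf.stalk y, m = 0 := fun {y} hy m =>
    (CycLib28.subsingleton_stalk_push 𝓓.subschemeι G (fun h => hy (𝓓.range_subschemeι.le h))).elim _ _
  have haη : Function.Surjective (RefHull.stalkMapₗ a (genericPoint X)) := fun v =>
    (hexact _ v).1 (hoff (genericPoint_notMem_support hD) _)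
  have hrk := finrank_stalk_of_restrict hU hFU
  have hrk' := finrank_stalk_of_restrict hU hF'U
  let A : F.presheaf.stalk (genericPoint X) →ₗ[X.presheaf.stalk (genericPoint X)] F'.presheaf.stalk (genericPoint X) :=
    RefHull.stalkMapₗ a (genericPoint X)
  let Ae := LinearEquiv.ofBijective A
    ⟨(LinearMap.injective_iff_surjective_of_finrank_eq_finrank (hrk.trans hrk'.symm)).2 haη, haη⟩
  let β : Module.Basis (Fin r) (X.presheaf.stalk (genericPoint X)) (F.presheaf.stalk (genericPoint X)) :=
    Module.finBasisOfFinrankEq _ _ hrk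
  let β' := β.map Ae
  have hLc : Coh.IsCoh L := Hyper5.isCoh_of_isExtPow hF hL
  have hL'c : Coh.IsCoh L' := Hyper5.isCoh_of_isExtPow hF' hL'
  obtain ⟨φ, hφ⟩ := id hL
  obtain ⟨φ', hφ'⟩ := id hL'
  obtain ⟨e₀, he₀, hkey⟩ := exists_wedge hF.1 hL φ hφ β
  obtain ⟨e₀', he₀', hkey'⟩ := exists_wedge hF'.1 hL' φ' hφ' β'
  let μ := RefHull.stalkMapₗ (RefHull.bidualMap L) (genericPoint X) e₀
  let μ' := RefHull.stalkMapₗ (RefHull.bidualMap L') (genericPoint X) e₀'
  have hμ := bijective_smul_map (bijective_stalk_bidualMap_genericPoint hLc) he₀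
  have hμ' := bijective_smul_map (bijective_stalk_bidualMap_genericPoint hL'c) he₀'
  have hμ0 : μ ≠ 0 := fun h => one_ne_zero (α := X.presheaf.stalk (genericPoint X))
    (hμ.1 (by show _ • μ = _ • μ; rw [h, smul_zero, smul_zero]))
  have hμ'0 : μ' ≠ 0 := fun h => one_ne_zero (α := X.presheaf.stalk (genericPoint X))
    (hμ'.1 (by show _ • μ' = _ • μ'; rw [h, smul_zero, smul_zero]))
  have hR : RefHull.IsRef1 (RefHull.ddual L) :=
    ⟨isCoh_ddual hLc, isReflexive_ddual hLc, genInvertible_of_bijective_genericPoint (isCoh_ddual hLc) μ hμ⟩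
  have hR' : RefHull.IsRef1 (RefHull.ddual L') :=
    ⟨isCoh_ddual hL'c, isReflexive_ddual hL'c, genInvertible_of_bijective_genericPoint (isCoh_ddual hL'c) μ' hμ'⟩
  have hinv : PicF.IsInvertible (RefHull.ddual L) :=
    isInvertible_of_isReflexive_of_genInvertible hufd hR.1 ((isReflexive_iff_stalks hR.1).1 hR.2.1) hR.2.2
  have hinv' : PicF.IsInvertible (RefHull.ddual L') :=
    isInvertible_of_isReflexive_of_genInvertible hufd hR'.1 ((isReflexive_iff_stalks hR'.1).1 hR'.2.1) hR'.2.2
  refine ⟨hinv, hinv', ?_⟩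
  -- the change of the order at a point of codimension one
  have step : ∀ y : X, Order.coheight y = 1 → ∃ k : ℕ, k ≤ min s r ∧ (y ∉ (𝓓.support : Set X) → k = 0) ∧
      sOrd (RefHull.ddual L') y μ' = sOrd (RefHull.ddual L) y μ + (k : ℤ) := by
    intro y hy
    obtain ⟨hdom, hdvr⟩ := isDVR_of_coheight hX hy
    haveI := hdvr
    obtain ⟨π, hπ, s', hs', hoff', hkill, g, hg⟩ : ∃ π : X.presheaf.stalk y, Irreducible π ∧ ∃ s' : ℕ, s' ≤ s ∧
        (y ∉ (𝓓.support : Set X) → s' = 0) ∧ (∀ m : P.presheaf.stalk y, π • m = 0) ∧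
        ∃ g : Fin s' → P.presheaf.stalk y, Submodule.span (X.presheaf.stalk y) (Set.range g) = ⊤ := by
      by_cases hsup : y ∈ (𝓓.support : Set X)
      · obtain ⟨V, hyV, f, k, hfI, hf, -, -⟩ := exists_localEquation hD y
        obtain ⟨h1, h2⟩ := stalk_push_gens V hyV f hfI hsup hG
        exact ⟨_, irreducible_germ hX V hyV hy f hfI hf hsup, s, le_rfl, fun h => absurd hsup h, h1, h2⟩
      · obtain ⟨π, hπ⟩ := IsDiscreteValuationRing.exists_irreducible (X.presheaf.stalk y)
        exact ⟨π, hπ, 0, Nat.zero_le _, fun _ => rfl, fun m => hoff hsup _, fun i => i.elim0,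
          eq_top_iff.2 fun m _ => by rw [hoff hsup m]; exact zero_mem _⟩
    have hcomp : ∀ v, coordMap β' y (RefHull.stalkMapₗ a y v) = coordMap β y v := fun v => funext fun j => by
      show β'.repr (toGen F' y (RefHull.stalkMapₗ a y v)) j = β.repr (toGen F y v) j
      rw [toGen_stalkMap, Module.Basis.map_repr]
      show β.repr (Ae.symm (Ae (toGen F y v))) j = _
      rw [LinearEquiv.symm_apply_apply]
    choose h hh using fun i => hsurj y (g i)
    obtain ⟨e, e', k, u, hk, he, he', hd', hdet⟩ := exists_step (K := X.functionField) hπ (coordLat β y) (coordLat β' y)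
      (by
        rw [coordLat_eq_range, coordLat_eq_range]
        rintro _ ⟨v, rfl⟩
        exact ⟨_, hcomp v⟩)
      (fg_coordLat hF' β' y) (span_coordLat hF.1 β y) (fun x hx => by
        rw [coordLat_eq_range] at hx ⊢
        obtain ⟨m, rfl⟩ := hx
        obtain ⟨v, hv⟩ := (hexact y (π • m)).1 (by rw [map_smul]; exact hkill _)
        exact ⟨v, by rw [← hcomp, hv, map_smul]⟩)
      (fun i => coordMap β' y (h i)) (fun i => by rw [coordLat_eq_range]; exact LinearMap.mem_range_self _ _) (by
        rw [coordLat_eq_range, coordLat_eq_range]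
        refine le_antisymm (sup_le ?_ (Submodule.span_le.2 ?_)) ?_
        · rintro _ ⟨v, rfl⟩; exact ⟨_, hcomp v⟩
        · rintro _ ⟨i, rfl⟩; exact LinearMap.mem_range_self _ _
        · rintro _ ⟨m, rfl⟩
          obtain ⟨c, hc⟩ := Submodule.mem_span_range_iff_exists_fun _ |>.1
            (show RefHull.stalkMapₗ b y m ∈ Submodule.span (X.presheaf.stalk y) (Set.range g) from hg ▸ trivial)
          obtain ⟨v, hv⟩ := (hexact y (m - ∑ i, c i • h i)).1 (by
            rw [map_sub, map_sum, ← hc]; simp only [map_smul, hh, sub_self])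
          refine Submodule.mem_sup.2 ⟨_, LinearMap.mem_range_self _ v, _,
            Submodule.mem_span_range_iff_exists_fun _ |>.2 ⟨c, rfl⟩, ?_⟩
          rw [← hcomp, hv, map_sub, map_sum]
          simp only [map_smul, sub_add_cancel])
    have hu0 : algebraMap (X.presheaf.stalk y) X.functionField ((u : X.presheaf.stalk y) * π ^ k) ≠ 0 :=
      (map_ne_zero_iff _ (IsFractionRing.injective _ _)).2 (mul_ne_zero u.ne_zero (pow_ne_zero k hπ.ne_zero))
    have hd0 : Matrix.det (Matrix.of e) ≠ 0 := by rw [hdet]; exact mul_ne_zero hu0 hd'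
    refine ⟨k, hk.trans (min_le_min hs' le_rfl),
      fun h => Nat.le_zero.1 ((hk.trans (min_le_left _ _)).trans (hoff' h).le), ?_⟩
    rw [sOrd_ddual_wedge hX hF' hL'c φ' β' he₀' hkey' hy e' he' hd',
      sOrd_ddual_wedge hX hF hLc φ β he₀ hkey hy e he hd0, hdet, Scheme.ord_mul (x := y) hu0 hd',
      map_mul, map_pow]
    have hπ0 : algebraMap (X.presheaf.stalk y) X.functionField π ≠ 0 :=
      (map_ne_zero_iff _ (IsFractionRing.injective _ _)).2 hπ.ne_zero
    rw [Scheme.ord_mul (x := y) ((map_ne_zero_iff _ (IsFractionRing.injective _ _)).2 u.ne_zero) (pow_ne_zero k hπ0),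
      ord_unit hy u.isUnit, RefCh22.ord_pow hy hπ0, ord_irreducible hX hy hπ]
    ring
  let d := 𝓓.subschemeι (genericPoint 𝓓.subscheme)
  let k : ℕ := if h : Order.coheight d = 1 then (step d h).choose else 0
  have hk : k ≤ min s r := by
    simp only [k]
    split_ifs with h
    · exact (step d h).choose_spec.1
    · exact Nat.zero_le _
  refine ⟨k, hk, ?_⟩
  have hIinv := (Groth.Agent.S8914.result 𝓓).2 hD
  obtain ⟨σ, hσ, hσo⟩ := exists_idealSection hX hD
  obtain ⟨hQ1, q, hq, hqo⟩ := exists_dual_section hX (CAlgH3.InvertibleDivisor.isRef1 hIinv) hσ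
  have hQ : PicF.IsInvertible (RefHull.dual (ClSub.idealMod 𝓓)) :=
    isInvertible_of_isReflexive_of_genInvertible hufd hQ1.1 ((isReflexive_iff_stalks hQ1.1).1 hQ1.2.1) hQ1.2.2
  obtain ⟨w, hw, hwi, hwo⟩ := exists_pow_section hX hQ hq k
  obtain ⟨hT, v, hv, hvo⟩ := exists_ddual_mul_section hX hR (CAlgH3.InvertibleDivisor.isRef1 hwi) hμ0 hw
  obtain ⟨eT⟩ := RefCh22.refTensor_invertible hR hwi
  obtain ⟨eL⟩ : Nonempty (RefHull.ddual L' ≅ RefPow.refTensor (RefHull.ddual L)
      (CohB1.tensorPow (RefHull.dual (ClSub.idealMod 𝓓)) k)) := by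
    refine nonempty_iso_of_isDiv hX hR' hT hμ'0 hv fun y hy => ?_
    rw [hvo y hy, hwo y hy, hqo y hy]
    by_cases hsup : y ∈ (𝓓.support : Set X)
    · obtain rfl := eq_of_mem_support hD hy hsup
      rw [(hσo _ hy).1 hsup, (step _ hy).choose_spec.2.2]
      simp only [k, d, dif_pos hy]
      ring
    · obtain ⟨k₀, -, hk₀, ho⟩ := step y hy
      rw [(hσo y hy).2 hsup, ho, hk₀ hsup]
      push_cast
      ring
  exact ⟨eL ≪≫ eT⟩

end Groth.Agent.S16089
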