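import Groth.Statements.S16091
import Groth.Agent.FlatMor12.ProjFlatDeg
-- import your own Groth.Agent.* helpers here

set_option autoImplicit false
set_option backward.isDefEq.respectTransparency false
set_option backward.isDefEq.respectTransparency.types false
universe u
open CategoryTheory CategoryTheory.Limits AlgebraicGeometry TopologicalSpace Opposite
open scoped HomogeneousIdeal
noncomputable section
open SDiv

namespace Groth.Agent.S16091

/-- Let S be a scheme and 𝒜 a quasi-coherent graded O_S-algebra such that for all sufficiently large d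
the degree-d piece 𝒜_d is a flat O_S-module (over every affine open U the degree-d part of 𝒜(U) is a
flat module over Γ(U, O_S) acting through the structure map). Let p : P ⟶ S be the relative
homogeneous spectrum of 𝒜, given with its charts. Then p is flat, and for every integer n the
twisting module O_P(n), given with its chart identifications, is flat over S (every stalk O_P(n)_x
is flat over O_{S, p x}). -/
theorem result {S P : Scheme.{u}} (𝒜 : RelProj.QCGrAlg S)
    (hflat : ∃ d₀ : ℕ, ∀ d : ℕ, d₀ ≤ d → ∀ (U : S.Opens) (hU : IsAffineOpen U),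
      letI := (𝒜.str.app (op U)).hom.toAlgebra
      Module.Flat Γ(S, U) ↥(Submodule.span Γ(S, U) (𝒜.deg U hU d : Set (𝒜.presheaf.obj (op U)))))
    (p : P ⟶ S) (chart : ∀ (U : S.Opens) (hU : IsAffineOpen U), (((p ⁻¹ᵁ U : P.Opens) : Scheme.{u}) ≅ Proj (𝒜.deg U hU)))
    (hP : RelProj.IsRelProj 𝒜 p chart) :
    Flat p ∧
      ∀ (n : ℤ) (L : P.Modules)
        (lam : ∀ (U : S.Opens) (hU : IsAffineOpen U),
          L ⟶ (Scheme.Modules.pushforward (RelProj.emb p chart U hU)).obj (GrTwist.twist (𝒜.deg U hU) n)),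
        RelProj.IsRelTwist 𝒜 p chart n L lam → FlatMod.IsFlatOver p L := by
  obtain ⟨d₀, hd₀⟩ := hflat
  refine ⟨Groth.Agent.ProjLib.property_of_charts hP fun U hU => ?_, fun n L lam hL x => ?_⟩
  · letI := (𝒜.str.app (op U)).hom.toAlgebra
    have h0 : Groth.Agent.FlatMor12.ProjFlatDeg.HasStrZero (R := Γ(S, U)) (𝒜.deg U hU) := 𝒜.str_mem U hU
    haveI : AlgebraicGeometry.Flat (Groth.Agent.ProjLib.chartBase 𝒜 U hU ≫ U.ι) := by
      rw [Groth.Agent.ProjLib.chartBase_ι]
      exact Groth.Agent.FlatMor12.ProjFlatDeg.flat_toBase hU h0 ⟨d₀, fun e he => hd₀ e he U hU⟩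
    have sq : IsPullback (𝟙 _) (Groth.Agent.ProjLib.chartBase 𝒜 U hU)
        (Groth.Agent.ProjLib.chartBase 𝒜 U hU ≫ U.ι) U.ι :=
      IsPullback.of_horiz_isIso_mono ⟨by simp⟩
    exact MorphismProperty.of_isPullback (P := @AlgebraicGeometry.Flat.{u}) sq ‹_›
  · haveI : Coh.IsQCoh L := Groth.Agent.TwistLib.G.isQCoh_of_isRelTwist hL
    obtain ⟨U, hU, hxU, -⟩ := exists_isAffineOpen_mem_and_subset (x := p x) (U := (⊤ : S.Opens)) trivial
    letI := (𝒜.str.app (op U)).hom.toAlgebra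
    have h0 : Groth.Agent.FlatMor12.ProjFlatDeg.HasStrZero (R := Γ(S, U)) (𝒜.deg U hU) := 𝒜.str_mem U hU
    let em := RelProj.emb p chart U hU
    have hem : em ≫ p = Groth.Agent.FlatMor12.ProjFlatDeg.toBase hU h0 := by
      show ((chart U hU).inv ≫ (p ⁻¹ᵁ U).ι) ≫ p = _
      rw [Category.assoc, Iso.inv_comp_eq]
      exact (hP.chart_over U hU).symm
    have hy : em ((chart U hU).hom ⟨x, hxU⟩) = x := by
      show (((chart U hU).hom ≫ (chart U hU).inv ≫ (p ⁻¹ᵁ U).ι)) ⟨x, hxU⟩ = x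
      rw [Iso.hom_inv_id_assoc]; rfl
    obtain ⟨d, f, hd, hf, hfy⟩ := Groth.Agent.TwistLib.G.exists_pos_homogeneous_notMem _ ((chart U hU).hom ⟨x, hxU⟩)
    let V : P.Opens := em ''ᵁ Proj.basicOpen (𝒜.deg U hU) f
    have hxV : x ∈ V := ⟨_, hfy, hy⟩
    have hVU : V ≤ p ⁻¹ᵁ U := by
      rintro _ ⟨y, -, rfl⟩
      exact ((chart U hU).inv y).2
    have hW : em ⁻¹ᵁ V = Proj.basicOpen (𝒜.deg U hU) f := em.preimage_image_eq _
    have e : em ⁻¹ᵁ V ≤ Groth.Agent.FlatMor12.ProjFlatDeg.toBase hU h0 ⁻¹ᵁ U := by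
      rw [← hem]; exact em.preimage_mono hVU
    letI m1 := Groth.Agent.EGA43.QcohFlat.overModule p L U V hVU
    letI m2 := Module.compHom Γ(GrTwist.twist (𝒜.deg U hU) n, em ⁻¹ᵁ V)
      ((Groth.Agent.FlatMor12.ProjFlatDeg.toBase hU h0).appLE U (em ⁻¹ᵁ V) e).hom
    haveI := Groth.Agent.FlatMor12.ProjFlatDeg.flat_twist_sections hU h0 ⟨d₀, fun i hi => hd₀ i hi U hU⟩ n hd hf
      (em ⁻¹ᵁ V) hW e
    have hcomp : ∀ r : Γ(S, U), ((Groth.Agent.FlatMor12.ProjFlatDeg.toBase hU h0).appLE U (em ⁻¹ᵁ V) e).hom r =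
        (em.app V).hom ((p.appLE U V hVU).hom r) := fun r => by
      have key : ∀ (g : Proj (𝒜.deg U hU) ⟶ S), em ≫ p = g → ∀ (e' : em ⁻¹ᵁ V ≤ g ⁻¹ᵁ U),
          g.appLE U (em ⁻¹ᵁ V) e' = p.appLE U V hVU ≫ em.app V := by
        rintro g rfl e'
        rw [Scheme.Hom.app_eq_appLE, Scheme.Hom.appLE_comp_appLE]
      rw [key _ hem e]
      rfl
    let T : Γ(L, V) →ₗ[Γ(S, U)] Γ(GrTwist.twist (𝒜.deg U hU) n, em ⁻¹ᵁ V) :=
      { toFun := (lam U hU).app V
        map_add' := fun a b => map_add _ a b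
        map_smul' := fun r m => by
          refine ((lam U hU).app_smul _ m).trans ?_
          refine congrArg (fun c : Γ(Proj (𝒜.deg U hU), em ⁻¹ᵁ V) =>
            HSMul.hSMul (α := Γ(Proj (𝒜.deg U hU), em ⁻¹ᵁ V))
              (β := Γ(GrTwist.twist (𝒜.deg U hU) n, em ⁻¹ᵁ V)) c ((lam U hU).app V m)) ?_
          exact (hcomp r).symm }
    have hVaff : IsAffineOpen V := (Proj.isAffineOpen_basicOpen _ f hf hd).image_of_isOpenImmersion em
    exact (Groth.Agent.Props12.flat_sections_iff p L hU hVaff hVU).1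
      (Module.Flat.of_linearEquiv (LinearEquiv.ofBijective T (hL.bijective U hU V hVU))) x hxV

end Groth.Agent.S16091
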