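import Groth.Statements.S16092
import Groth.Agent.RefHullLib.ClassLaw
import Groth.Agent.AmpleLib.Ample
import Mathlib

set_option autoImplicit false
universe u
open CategoryTheory CategoryTheory.Limits AlgebraicGeometry TopologicalSpace
open SDiv

namespace Groth.Agent.S16092

/-- Let X be an integral scheme that is locally Noetherian, with generic point η, let L and N be
invertible O_X-modules and s ∈ L_η, t ∈ N_η nonzero rational sections, with orders ord_{x,L}(s),
ord_{x,N}(t) along the prime divisors, i.e. at the points x with dim O_{X,x} = 1, taken with respect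
to generators of the stalks. Then L ⊗_{O_X} N has a nonzero rational section w with ord_{x,L ⊗ N}(w)
= ord_{x,L}(s) + ord_{x,N}(t) at every such x; hence the Weil divisor class of L ⊗ N is the sum of
the classes of L and N. The published statement names w as the product s·t; here only the existence
of such a w is asserted. -/
theorem result (X : Scheme.{u}) [IsIntegral X] [IsLocallyNoetherian X] (L N : X.Modules)
    (hL : PicF.IsInvertible L) (hN : PicF.IsInvertible N) (s : Cyc.secFibre L (genericPoint ↥X)) (hs : s ≠ 0)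
    (t : Cyc.secFibre N (genericPoint ↥X)) (ht : t ≠ 0) :
    ∃ w : Cyc.secFibre (CohB1.tensorMod L N) (genericPoint ↥X), w ≠ 0 ∧
      ∀ (x : ↥X), ringKrullDim ↑(X.presheaf.stalk x) = 1 →
        Cyc.secOrdAt (CohB1.tensorMod L N) (genericPoint ↥X) x ((genericPoint_spec ↥X).specializes (Set.mem_univ x)) w =
          Cyc.secOrdAt L (genericPoint ↥X) x ((genericPoint_spec ↥X).specializes (Set.mem_univ x)) s +
            Cyc.secOrdAt N (genericPoint ↥X) x ((genericPoint_spec ↥X).specializes (Set.mem_univ x)) t := by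
  obtain ⟨s, rfl⟩ := Submodule.Quotient.mk_surjective _ s
  obtain ⟨t, rfl⟩ := Submodule.Quotient.mk_surjective _ t
  have hgI : ∀ {M : X.Modules}, PicF.IsInvertible M → RefHull.GenInvertible M := fun hM => by
    obtain ⟨U, hU, g, hg⟩ := PicLib.exists_isGen hM (genericPoint ↥X)
    exact RefHullLib.genInvertible_of_isGen hU hg
  have hgx : ∀ {M : X.Modules}, PicF.IsInvertible M → ∀ x : X, ∃ g : M.presheaf.stalk x,
      Function.Bijective fun a : X.presheaf.stalk x => a • g := fun hM x => by
    obtain ⟨U, hU, g, hg⟩ := PicLib.exists_isGen hM x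
    exact ⟨_, SDiv28.bijective_smul_germ_gen hg hU⟩
  have hqL := AmpleLib.isQCoh_of_isInvertible hL
  have hqN := AmpleLib.isQCoh_of_isInvertible hN
  obtain ⟨w, hw0, -, hw⟩ := RefHullLib.exists_mul_section hqL hqN (hgI hL) (hgI hN) (s := s) (t := t)
    (fun h => hs (by rw [h]; rfl)) (fun h => ht (by rw [h]; rfl))
  refine ⟨Submodule.Quotient.mk w,
    fun h => hw0 ((RefHullLib.fibreMk_bijective _).1 (h.trans (Submodule.Quotient.mk_zero _).symm)), fun x hx => ?_⟩
  obtain ⟨tL, htL⟩ := hgx hL x
  obtain ⟨tN, htN⟩ := hgx hN x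
  have hx1 := (RefHullLib.ringKrullDim_eq_one_iff_coheight x).1 hx
  obtain ⟨z, hz, φ, hφ, hord⟩ := hw x hx1 tL tN htL htN
  haveI := hqL
  haveI := hqN
  exact (RefHullLib.sOrd_eq (Coherent.isQCoh_tensorMod L N) hx1 hz φ w hφ).trans hord
end Groth.Agent.S16092
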