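import Groth.Statements.S16094
import Groth.Agent.InjMod14.Kosz.Twist

set_option autoImplicit false
universe u
open CategoryTheory AlgebraicGeometry Opposite
open KoszTw

namespace Groth.Agent.S16094

/-- Let X be a scheme, F a finite locally free O_X-module, L an invertible O_X-module, s : F → O_X and t
: F ⊗ L → O_X cosections and λ : O_X → L a global section such that λ(t(f ⊗ l)) = s(f) · l for all
sections f of F and l of L over every open. Let K(F, s) and K(F ⊗ L, t) be Koszul complexes of s and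
of t, with differentials ∂ and δ and degree-p terms K_p(F, s), K_p(F ⊗ L, t) the p-th exterior
powers of F and of F ⊗ L; fix q ≥ 0 and let θ : K_q(F ⊗ L, t) ≅ K_q(F, s) ⊗ L^{⊗q} be the
identification Λ^q(F ⊗ L) ≅ Λ^q F ⊗ L^{⊗q} that sends (f_1 ⊗ l_1) ∧ ⋯ ∧ (f_q ⊗ l_q) to (f_1 ∧ ⋯ ∧
f_q) ⊗ (l_1 ⊗ ⋯ ⊗ l_q) on sections over every affine open. Write L^{⊗(q+1)} as L^{⊗q} ⊗ L (no
associativity isomorphism is used). Then, as subobjects of (K_q(F, s) ⊗ L^{⊗q}) ⊗ L, the image of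
(∂_{q+1} ⊗ 1_{L^{⊗q}}) ⊗ 1_L : (K_{q+1}(F, s) ⊗ L^{⊗q}) ⊗ L → (K_q(F, s) ⊗ L^{⊗q}) ⊗ L equals the
image of the composite of K_{q+1}(F ⊗ L, t) ≅ K_{q+1}(F ⊗ L, t) ⊗ O_X, of δ_{q+1} ⊗ λ : K_{q+1}(F ⊗
L, t) ⊗ O_X → K_q(F ⊗ L, t) ⊗ L, and of θ ⊗ 1_L; in words, θ ⊗ 1_L identifies Im(δ_{q+1}) ⊗ λ(O_X)
with Im(∂_{q+1} ⊗ 1_{L^{⊗(q+1)}}). (The published statement is for an arbitrary integer twist n and
prints the right-hand side as Im(δ_{q+1}) ⊗ λ(O_X) ⊗ L^{⊗(n-q+1)}; the exponent that makes both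
sides subsheaves of Λ^q F ⊗ L^{⊗n}, and the one the argument yields, is n - q - 1, and that family
follows from the case n = q + 1 stated here by tensoring with the invertible module L^{⊗(n-q-1)},
negative tensor powers not being used here. The published hypothesis that s is non-zero is dropped:
the image identity needs no injectivity of λ.) -/
theorem result {X : Scheme.{u}} (F L : X.Modules)
    (hF : FlatMod.IsFinLocFree F) (hL : PicF.IsInvertible L)
    (s : F ⟶ Coh.structureModule X) (lam : Coh.structureModule X ⟶ L)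
    (t : CohB1.tensorMod F L ⟶ Coh.structureModule X) (htri : KoszTw.TwistTriangle s lam t)
    (C : KoszSh.Cx F s) (D : KoszSh.Cx (CohB1.tensorMod F L) t) (q : ℕ) (θ : KoszTw.CxDecData C D q) :
    Limits.imageSubobject (KoszTw.tensorMap (KoszTw.tensorMap (C.K.d (q + 1) q) (𝟙 (CohB1.tensorPow L q))) (𝟙 L)) =
      Limits.imageSubobject ((SecTwist.unitorR (D.K.X (q + 1))).inv ≫ KoszTw.tensorMap (D.K.d (q + 1) q) lam ≫
        KoszTw.tensorMap θ.iso.hom (𝟙 L)) := by
  open Groth.Agent Groth.Agent.PicLib Groth.Agent.AmpleLib Groth.Agent.InjMod14.Kosz in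
  have hloc : ∀ (W : X.Opens) (x : X), x ∈ W → ∃ V : X.affineOpens, x ∈ V.1 ∧ V.1 ≤ W ∧
      ∃ (g : ↥(⋀[Γ(X, V.1)]^(q + 1) Γ(F, V.1)) → Γ(CohB1.tensorMod (CohB1.tensorMod (C.K.X (q + 1)) (CohB1.tensorPow L q)) L, V.1))
        (g' : ↥(⋀[Γ(X, V.1)]^(q + 1) Γ(F, V.1)) → Γ(D.K.X (q + 1), V.1)),
        Function.Surjective g ∧ Function.Surjective g' ∧
        ∀ w, (KoszTw.tensorMap (KoszTw.tensorMap (C.K.d (q + 1) q) (𝟙 (CohB1.tensorPow L q))) (𝟙 L)).app V.1 (g w) =
          ((SecTwist.unitorR (D.K.X (q + 1))).inv ≫ KoszTw.tensorMap (D.K.d (q + 1) q) lam ≫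
            KoszTw.tensorMap θ.iso.hom (𝟙 L)).app V.1 (g' w) := by
    intro W x hx
    obtain ⟨V, hxV, hVW, ⟨l, hl⟩, n, ⟨b⟩⟩ := exists_basis_gen hF hL hx
    obtain ⟨c, hc, -, hs⟩ := exists_coef htri hl
    refine ⟨V, hxV, hVW, fun w => tmul (tmul ((C.loc (q + 1) V).symm w) (powSec l q)) l,
      fun w => (D.loc (q + 1) V).symm (powEquiv F hl (q + 1) w), ?_, ?_, fun w => ?_⟩
    · have h1 := bijective_tmul_gen (M := CohB1.tensorMod (C.K.X (q + 1)) (CohB1.tensorPow L q)) hl V.1 le_rfl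
      have h2 := bijective_tmul_gen (M := C.K.X (q + 1)) (isGen_powSec hl q) V.1 le_rfl
      simp only [Groth.Agent.PicLib.resM_self] at h1 h2
      exact h1.2.comp (h2.2.comp (C.loc (q + 1) V).symm.surjective)
    · exact (D.loc (q + 1) V).symm.surjective.comp (powEquiv F hl (q + 1)).surjective
    · have hl1 : (KoszTw.tensorMap (KoszTw.tensorMap (C.K.d (q + 1) q) (𝟙 (CohB1.tensorPow L q))) (𝟙 L)).app V.1
          (tmul (tmul ((C.loc (q + 1) V).symm w) (powSec l q)) l) =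
          tmul (tmul ((C.K.d (q + 1) q).app V.1 ((C.loc (q + 1) V).symm w)) (powSec l q)) l := by
        refine (KoszTw.tensorMap_tmul _ _ _ _ _).trans ?_
        exact congrArg (tmul · l) (KoszTw.tensorMap_tmul _ _ _ _ _)
      have hu : ∀ z : Γ(D.K.X (q + 1), V.1), (SecTwist.unitorR (D.K.X (q + 1))).inv.app V.1 z = tmul z (oneSec V.1) := by
        intro z
        have h1 := SecTwist.unitorR_tmul (D.K.X (q + 1)) V.1 z 1
        have h2 : z = (SecTwist.unitorR (D.K.X (q + 1))).hom.app V.1 (tmul z (oneSec V.1)) :=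
          ((one_smul Γ(X, V.1) z).symm).trans h1.symm
        refine (congrArg ((SecTwist.unitorR (D.K.X (q + 1))).inv.app V.1) h2).trans ?_
        exact ConcreteCategory.congr_hom (congrArg (fun φ => φ.app V.1) (SecTwist.unitorR (D.K.X (q + 1))).hom_inv_id) _
      have hl2 : ((SecTwist.unitorR (D.K.X (q + 1))).inv ≫ KoszTw.tensorMap (D.K.d (q + 1) q) lam ≫
            KoszTw.tensorMap θ.iso.hom (𝟙 L)).app V.1 ((D.loc (q + 1) V).symm (powEquiv F hl (q + 1) w)) =
          tmul (θ.iso.hom.app V.1 ((D.K.d (q + 1) q).app V.1 ((D.loc (q + 1) V).symm (powEquiv F hl (q + 1) w))))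
            (lam.app V.1 (oneSec V.1)) := by
        show (KoszTw.tensorMap θ.iso.hom (𝟙 L)).app V.1 ((KoszTw.tensorMap (D.K.d (q + 1) q) lam).app V.1
          ((SecTwist.unitorR (D.K.X (q + 1))).inv.app V.1 _)) = _
        rw [hu]
        refine (congrArg ((KoszTw.tensorMap θ.iso.hom (𝟙 L)).app V.1) (KoszTw.tensorMap_tmul _ _ _ _ _)).trans ?_
        exact KoszTw.tensorMap_tmul _ _ _ _ _
      have hlam : lam.app V.1 (oneSec V.1) = c • l := (hc 1).trans (by rw [one_mul])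
      rw [hl1, hl2, rule_twist D hl, decData_powEquiv θ hl, hlam, rule_dLin, hs, dLin_smul_form,
        LinearMap.smul_apply, map_smul, tmul_smul_left, tmul_smul_left, tmul_smul_right]
  refine le_antisymm (imageSubobject_le_of_sections _ _ fun W x hx => ?_)
    (imageSubobject_le_of_sections _ _ fun W x hx => ?_)
  · obtain ⟨V, h1, h2, g, g', hg, -, h⟩ := hloc W x hx
    exact ⟨V, h1, h2, fun z => by obtain ⟨w, rfl⟩ := hg z; exact ⟨g' w, (h w).symm⟩⟩
  · obtain ⟨V, h1, h2, g, g', -, hg', h⟩ := hloc W x hx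
    exact ⟨V, h1, h2, fun z => by obtain ⟨w, rfl⟩ := hg' z; exact ⟨g w, h w⟩⟩


end Groth.Agent.S16094
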