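import Groth.Statements.S16095
import Groth.Agent.BMLib.PointIso
import Groth.Agent.BMLib.NormBirat

set_option autoImplicit false
universe u
open CategoryTheory AlgebraicGeometry Opposite
open BMCoh

namespace Groth.Agent.S16095

/-- Let T be a pre-theory (the groups, proper push-forwards and residue maps of a twisted Borel–Moore
cohomology theory, with their conditions) with coefficients in A on a constructible class V of
Noetherian schemes, X an object, w a point of X, Y an integral object identified by e with the
normalisation of the reduced closure of w, and φ : Y → X the normalisation map followed by the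
inclusion of that closure, assumed proper (so that the normalisation map is finite). Let L be a
push-forward datum of groups of points along φ from the generic point of Y to w: maps H^i(η_Y, M(n))
→ H^i(w, M(n)) that, read through nonempty opens of the two reduced closures, are proper
push-forward along the restrictions of φ. Then each map L is bijective. (Only the push-forward
structure of T is used, so the result is stated for a pre-theory; properness of φ is a hypothesis,
automatic when the closure of w has finite normalisation.) -/
theorem result
    (V : ObjectProperty Scheme.{u}) [BMCoh.IsConstructible V] (R : Type u) [CommRing R]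
    (A : BMCoh.Coefs R) (T : BMCoh.PreTheory V R A) (X : BMCoh.Obj V) (w : X.scheme)
    [IsIntegral (X.ptSub w).scheme]
    [QuasiCompact ((X.ptSub w).scheme.fromSpecStalk (genericPoint (X.ptSub w).scheme))]
    [QuasiSeparated ((X.ptSub w).scheme.fromSpecStalk (genericPoint (X.ptSub w).scheme))]
    (Y : BMCoh.Obj V) [IsIntegral Y.scheme] (e : Y.scheme ≅ Curv2.normalization (X.ptSub w).scheme)
    (φ : Y.scheme ⟶ X.scheme) [IsProper φ]
    (hφ : φ = e.hom ≫ Curv2.normalizationι (X.ptSub w).scheme ≫ X.ptSubι w)
    (L : T.PtPush φ (genericPoint Y.scheme) w) (M : A.Cat) (i n : ℤ) :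
    Function.Bijective (L.cpt M i n).hom := by
  open Groth.Agent.BMLib in
  let P := (X.ptSub w).scheme
  let ν' : Y.scheme ⟶ P := e.hom ≫ Curv2.normalizationι P
  have hν' : ν' ≫ X.ptSubι w = φ := by
    rw [hφ]; exact Category.assoc _ _ _
  have : IsProper (ν' ≫ X.ptSubι w) := by rw [hν']; infer_instance
  have : IsProper ν' := IsProper.of_comp ν' (X.ptSubι w)
  have : IsProper (Curv2.normalizationι P) := by
    have hp : IsProper (e.inv ≫ ν') := inferInstance
    rwa [Iso.inv_hom_id_assoc] at hp
  have : IsIntegralHom (Curv2.normalizationι P) :=
    inferInstanceAs (IsIntegralHom (P.fromSpecStalk (genericPoint P)).fromNormalization)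
  have : IsFinite (Curv2.normalizationι P) := IsFinite.iff_isProper_and_isAffineHom.2 ⟨‹_›, inferInstance⟩
  obtain ⟨U, hUd, hiso⟩ := exists_isIso_normalization (X := P)
  let ι' := Y.ptSubι (genericPoint Y.scheme)
  have hs : Surjective ι' := ⟨fun z => by
    rw [← Set.mem_range, range_ptSubι, genericPoint_closure]
    exact trivial⟩
  have : IsIso ι' := isIso_of_isClosedImmersion_of_surjective ι'
  have hψ : ptMap φ (genericPoint Y.scheme) L.maps_pt = ι' ≫ ν' := by
    rw [← cancel_mono (X.ptSubι w), ptMap_ι, Category.assoc, hν']
  have : IsIso (ptMap φ (genericPoint Y.scheme) L.maps_pt ∣_ U) := by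
    rw [hψ, morphismRestrict_comp, morphismRestrict_comp]
    have : IsIso (Curv2.normalizationι P ∣_ U) := hiso
    have : ∀ {A B : Scheme.{u}} (f : A ⟶ B) [IsIso f] (O : B.Opens), IsIso (f ∣_ O) :=
      fun f _ O => inferInstance
    exact @IsIso.comp_isIso _ _ _ _ _ _ _ (this ι' _)
      (@IsIso.comp_isIso _ _ _ _ _ _ _ (this e.hom _) hiso)
  exact ptPush_bijective L L.maps_pt U hUd.nonempty M i n

end Groth.Agent.S16095
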