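import Groth.Statements.S16097
import Groth.Agent.BMLib.Differential

set_option autoImplicit false
universe u
open CategoryTheory AlgebraicGeometry Opposite
open BMCoh

namespace Groth.Agent.S16097

/-- Let T be a pre-theory (the groups, proper push-forwards and residue maps of a twisted Borel–Moore
cohomology theory, with their conditions) with coefficients in A on a constructible class V of
Noetherian schemes. Assume moreover that the residue maps of T are compatible with replacing the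
closed part of a decomposition by a closed subscheme with the same support: whenever D and D'' are
decompositions of one object whose open parts are identified over it (gU) and k is a surjective
closed immersion from the closed part of D'' to that of D over it, the residue map of D'' followed
by push-forward along k is the residue map of D (hypothesis hred. The published lemma states neither
this hypothesis nor the properness of φ below, that is the finiteness of the normalisation map,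
which it uses through the push-forward along that map; it reads the functoriality of the Gysin
sequences under a proper morphism f, asked of such a theory with closed part Z' = f⁻¹(Z), as
including this case, while the conditions of a pre-theory here ask that functoriality only when the
closed parts form a cartesian square). Let X be an object, w a point of X of codimension q, Y an
integral object identified by e with the normalisation of the reduced closure of w, φ : Y → X the
normalisation map followed by the inclusion of that closure, assumed proper, and η the generic point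
of Y, of codimension 0. Let P be push-forward data for X at level q (maps ι_x : H^i(x, M(n)) →
H^{i+2q}(F_qX, M(n+q)) for the points x of codimension q, agreeing with proper push-forward), Q
residue data for X at level q (maps ∂_x : H^{i₁}(F_qX, M(n₁)) → H^{i₂}(x, M(n₂)) for the points x of
codimension q + 1, agreeing with the residue maps of decompositions, finitely supported values), L a
push-forward datum of groups of points along φ from η to w, P' and Q' the corresponding data for Y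
at level 0, t a map from the points of codimension 1 of Y to the points of codimension q + 1 of X,
and F y, for each point y of codimension 1 of Y, a push-forward datum of groups of points along φ
from y to t y (in particular t y = φ(y)). The bidegrees (i₁, n₁) = (i + 2q, n + q), (i₂, n₂) = (i₁ +
1 − 2(q+1), n₁ − (q+1)) = (i₃ + 1 − 2, n₃ − 1) and (i₃, n₃) = (i, n) are integer variables carried
with these equations. Then for every a ∈ H^i(η, M(n)), applying L, then ι_w, then the total residue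
map ∂ of X at level q gives the same element of ⊕_x H^{i₂}(x, M(n₂)) (x of codimension q + 1 in X)
as applying ι'_η, then the total residue map ∂' of Y at level 0, then the sum map ⊕_y H^{i₂}(y,
M(n₂)) → ⊕_x H^{i₂}(x, M(n₂)) that sends the summand of y into the summand of t y by F y. (Stated
for a pre-theory: only push-forwards and residue maps with their conditions enter.) -/
theorem result
    (V : ObjectProperty Scheme.{u}) [BMCoh.IsConstructible V] (R : Type u) [CommRing R]
    (A : BMCoh.Coefs R) (T : BMCoh.PreTheory V R A)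
    (hred : ∀ (S : BMCoh.Obj V) (D D'' : BMCoh.Decomp S) (gU : D''.U ⟶ D.U)
      (k : D''.Z.scheme ⟶ D.Z.scheme) [IsClosedImmersion k] [AlgebraicGeometry.Surjective k],
      gU ≫ D.j = D''.j → k ≫ D.i = D''.i →
      ∀ (M : A.Cat) (i n i' n' : ℤ) (hi : i' = i + 1 - 2 * D.codim) (hn : n' = n - D.codim)
        (hi'' : i' = i + 1 - 2 * D''.codim) (hn'' : n' = n - D''.codim)
        (hk : i' = i' + 2 * BMCoh.relCodim D''.Z.scheme D.Z.scheme)
        (hk' : n' = n' + BMCoh.relCodim D''.Z.scheme D.Z.scheme),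
      T.pull gU M i n ≫ T.res D'' M i n i' n' hi'' hn'' ≫ T.push k M i' n' i' n' hk hk' =
        T.res D M i n i' n' hi hn)
    (X : BMCoh.Obj V) (q : ℕ) (w : X.cdPt q)
    [IsIntegral (X.ptSub w.1).scheme]
    [QuasiCompact ((X.ptSub w.1).scheme.fromSpecStalk (genericPoint (X.ptSub w.1).scheme))]
    [QuasiSeparated ((X.ptSub w.1).scheme.fromSpecStalk (genericPoint (X.ptSub w.1).scheme))]
    (Y : BMCoh.Obj V) [IsIntegral Y.scheme] (e : Y.scheme ≅ Curv2.normalization (X.ptSub w.1).scheme)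
    (φ : Y.scheme ⟶ X.scheme) [IsProper φ]
    (hφ : φ = e.hom ≫ Curv2.normalizationι (X.ptSub w.1).scheme ≫ X.ptSubι w.1)
    (hη : WeilCoh.codim Y.scheme (genericPoint Y.scheme) = 0)
    (P : T.PushData X q) (Q : T.ResData X q) (L : T.PtPush φ (genericPoint Y.scheme) w.1)
    (P' : T.PushData Y 0) (Q' : T.ResData Y 0) (t : Y.cdPt 1 → X.cdPt (q + 1))
    (F : ∀ y : Y.cdPt 1, T.PtPush φ y.1 (t y).1)
    (M : A.Cat) (i n i₁ n₁ i₂ n₂ i₃ n₃ : ℤ)
    (h1 : i₁ = i + 2 * (q : ℤ)) (h1' : n₁ = n + (q : ℤ))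
    (h2 : i₂ = i₁ + 1 - 2 * ((q : ℤ) + 1)) (h2' : n₂ = n₁ - ((q : ℤ) + 1))
    (h3 : i₃ = i + 2 * ((0 : ℕ) : ℤ)) (h3' : n₃ = n + ((0 : ℕ) : ℤ))
    (h4 : i₂ = i₃ + 1 - 2 * (((0 : ℕ) : ℤ) + 1)) (h4' : n₂ = n₃ - (((0 : ℕ) : ℤ) + 1))
    (a : T.ptGp Y (genericPoint Y.scheme) M i n) :
    (Q.tot M i₁ n₁ i₂ n₂ h2 h2').hom ((P.cpt w M i n i₁ n₁ h1 h1').hom ((L.cpt M i n).hom a)) =
      (BMCoh.PreTheory.PtPush.famTot t F M i₂ n₂).hom
        ((Q'.tot M i₃ n₃ i₂ n₂ h4 h4').hom
          ((P'.cpt ⟨genericPoint Y.scheme, hη⟩ M i n i₃ n₃ h3 h3').hom a)) := by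
  open Groth.Agent.BMLib in
  classical
  obtain rfl : i₃ = i := by simpa using h3
  obtain rfl : n₃ = n := by simpa using h3'
  let η := genericPoint Y.scheme
  have hφη : φ η = w.1 := L.maps_pt
  have hpd : WeilCoh.pdim X.scheme w.1 = WeilCoh.pdim Y.scheme η := by
    have e : (WeilCoh.dim (X.ptSub w.1).scheme : ℤ) - WeilCoh.dim (Y.ptSub η).scheme = 0 := L.codim_eq
    rw [dim_ptSub, dim_ptSub] at e
    omega
  have hdim : WeilCoh.dim Y.scheme + q = WeilCoh.dim X.scheme := by
    have e1 := pdim_add_codim X w.1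
    have e2 := pdim_add_codim Y η
    have e3 := w.2
    have e4 : WeilCoh.codim Y.scheme η = 0 := hη
    omega
  have ht : ∀ y : Y.cdPt 1, φ y.1 = (t y).1 := fun y => (F y).maps_pt
  have hgen : ∃ η : Y.scheme, (∀ y, η ⤳ y) ∧ WeilCoh.codim X.scheme (φ η) = q :=
    ⟨η, genericPoint_specializes, by rw [hφη]; exact w.2⟩
  obtain ⟨W, b₀, rfl⟩ := exists_rep T _ M i₃ n₃ (X := Y.ptSub η) a
  obtain ⟨W', W₀', hle', e', -⟩ := exists_test (φ := φ) hφη hpd W
  obtain ⟨O, hO, hOle⟩ := exists_open_le_ptIdx X w.1 W'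
  rw [w.2] at hO
  have hwO : w.1 ∈ O := hO w.1 w.2.le
  let W₁ := ptW X hwO
  let ψ := ptMap φ η hφη
  have hne : ((ψ ⁻¹ᵁ W₁.1 : (Y.ptSub η).scheme.Opens) : Set (Y.ptSub η).scheme).Nonempty := by
    obtain ⟨v, hv⟩ : η ∈ Set.range (Y.ptSubι η) := range_ptSubι Y η ▸ subset_closure rfl
    refine ⟨v, show X.ptSubι w.1 (ψ v) ∈ O from ?_⟩
    rw [show X.ptSubι w.1 (ψ v) = φ (Y.ptSubι η v) from congr($(ptMap_ι η hφη) v), hv, hφη]
    exact hwO
  let W₀ : BMCoh.ptIdx Y η := ⟨ψ ⁻¹ᵁ W₁.1, hne,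
    BMCoh.IsConstructible.dim_open (Y.ptSub η).mem (irreducibleSpace_ptSub Y η) _ hne⟩
  have hle : W₀ ≤ W := le_trans (fun v hv => by rw [e']; exact hOle hv) hle'
  have hV := containsFj_zero_preimage hgen hO
  have d0 : WeilCoh.dim ((Y.ptSub η).res W₀.1).scheme = WeilCoh.pdim Y.scheme η :=
    dim_open_ptSub Y η _ hne
  have d1 : WeilCoh.dim ((X.ptSub w.1).res W₁.1).scheme = WeilCoh.pdim X.scheme w.1 :=
    dim_open_ptSub X w.1 _ W₁.2.1
  have d2 : WeilCoh.dim (X.res O).scheme = WeilCoh.dim X.scheme := dim_eq_of_containsFj X hO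
  have d3 : WeilCoh.dim (Y.res (φ ⁻¹ᵁ O)).scheme = WeilCoh.dim Y.scheme := dim_eq_of_containsFj Y hV
  have p1 := pdim_add_codim Y η
  have p2 : WeilCoh.codim Y.scheme η = 0 := hη
  have p3 := pdim_add_codim X w.1
  have p4 := w.2
  have c01 : BMCoh.relCodim ((Y.ptSub η).res W₀.1).scheme ((X.ptSub w.1).res W₁.1).scheme = 0 := by
    unfold BMCoh.relCodim; omega
  have c1O : BMCoh.relCodim ((X.ptSub w.1).res W₁.1).scheme (X.res O).scheme = (q : ℤ) := by
    unfold BMCoh.relCodim; omega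
  have c0O : BMCoh.relCodim ((Y.ptSub η).res W₀.1).scheme (X.res O).scheme = (q : ℤ) := by
    unfold BMCoh.relCodim; omega
  have c0V : BMCoh.relCodim ((Y.ptSub η).res W₀.1).scheme (Y.res (φ ⁻¹ᵁ O)).scheme = ((0 : ℕ) : ℤ) := by
    unfold BMCoh.relCodim; omega
  have cVO : BMCoh.relCodim (Y.res (φ ⁻¹ᵁ O)).scheme (X.res O).scheme = (q : ℤ) :=
    relCodim_preimage_open hdim d2 d3
  rw [← ocolimι_pull T _ M i₃ n₃ (U' := W₀) (U := W) hle b₀]
  let b := (T.pull (idxHom (X := Y.ptSub η) _ hle) M i₃ n₃).hom b₀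
  obtain ⟨f, hf, hfe, hL⟩ := ptPush_cpt L hφη M i₃ n₃ W₀ W₁ rfl c01
  let g : ((X.ptSub w.1).res W₁.1).scheme ⟶ (X.res O).scheme := X.ptSubι w.1 ∣_ O
  have hg : g ≫ O.ι = W₁.1.ι ≫ X.ptSubι w.1 := morphismRestrict_ι _ _
  have hgp : IsProper g := inferInstanceAs (IsProper (X.ptSubι w.1 ∣_ O))
  have hf2r : Set.range (W₀.1.ι ≫ Y.ptSubι η) ⊆ Set.range (φ ⁻¹ᵁ O).ι := by
    rw [Scheme.Opens.range_ι]
    rintro _ ⟨v, rfl⟩
    show φ (Y.ptSubι η v.1) ∈ O
    rw [← show X.ptSubι w.1 (ψ v.1) = φ (Y.ptSubι η v.1) from congr($(ptMap_ι η hφη) v.1)]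
    exact v.2
  let f2 := IsOpenImmersion.lift (φ ⁻¹ᵁ O).ι (W₀.1.ι ≫ Y.ptSubι η) hf2r
  have hf2 : f2 ≫ (φ ⁻¹ᵁ O).ι = W₀.1.ι ≫ Y.ptSubι η := IsOpenImmersion.lift_fac _ _ _
  have hsq : f ≫ g = f2 ≫ (φ ∣_ O) := by
    rw [← cancel_mono O.ι]
    simp only [Category.assoc]
    rw [hg, reassoc_of% hfe, ptMap_ι, morphismRestrict_ι, reassoc_of% hf2]
  have hp : IsProper (f ≫ g) := inferInstance
  have hf2p : IsProper f2 := by
    rw [hsq] at hp
    exact IsProper.of_comp f2 (φ ∣_ O)
  have hw : (P.cpt w M i₃ n₃ i₁ n₁ h1 h1').hom ((L.cpt M i₃ n₃).hom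
      (((T.ptι Y η i₃ n₃ W₀).app M).hom b)) =
      cls T M i₁ n₁ hO ((T.push (φ ∣_ O) M i₃ n₃ i₁ n₁ (by rw [cVO]; exact h1)
        (by rw [cVO]; exact h1')).hom ((T.push f2 M i₃ n₃ i₃ n₃ (by rw [c0V]; simp)
          (by rw [c0V]; simp)).hom b)) := by
    rw [hL b]
    have e := congr($(P.cpt_spec w M i₃ n₃ i₁ n₁ h1 h1' (fjIdx X hO) W₁ g hg
      (by erw [c1O]; exact h1) (by erw [c1O]; exact h1')).hom
        ((T.push f M i₃ n₃ i₃ n₃ (by rw [c01]; ring) (by rw [c01]; ring)).hom b))
    refine e.trans (congrArg (cls T M i₁ n₁ hO) ?_)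
    have a1 := T.push_comp f g M i₃ n₃ i₃ n₃ i₁ n₁ (by rw [c01]; ring) (by rw [c01]; ring)
      (by rw [c1O]; exact h1) (by rw [c1O]; exact h1') (by rw [c0O]; exact h1) (by rw [c0O]; exact h1')
    have a2 := T.push_comp f2 (φ ∣_ O) M i₃ n₃ i₃ n₃ i₁ n₁ (by rw [c0V]; simp) (by rw [c0V]; simp)
      (by rw [cVO]; exact h1) (by rw [cVO]; exact h1') (by rw [c0O]; exact h1) (by rw [c0O]; exact h1')
    simp only [hsq] at a1
    exact congr($(a1.trans a2.symm).hom b)
  have hη' : (P'.cpt ⟨η, hη⟩ M i₃ n₃ i₃ n₃ h3 h3').hom (((T.ptι Y η i₃ n₃ W₀).app M).hom b) =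
      cls T M i₃ n₃ hV ((T.push f2 M i₃ n₃ i₃ n₃ (by rw [c0V]; simp) (by rw [c0V]; simp)).hom b) :=
    congr($(P'.cpt_spec ⟨η, hη⟩ M i₃ n₃ i₃ n₃ h3 h3' (fjIdx Y hV) W₀ f2 hf2
      (by erw [c0V]; simp) (by erw [c0V]; simp)).hom b)
  rw [hw, hη']
  exact tot_push hdim hgen t ht Q Q' F hred M i₃ n₃ i₁ n₁ i₂ n₂ h2 h2' h4 h4' hO hV _ _ _

end Groth.Agent.S16097
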