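import Groth.Statements.S16099
import Groth.Agent.FF.RiemannRoch
-- import your own Groth.Agent.* helpers here

set_option autoImplicit false
universe u
open FunFld

set_option backward.isDefEq.respectTransparency.types false
open Groth.Agent.FF
namespace Groth.Agent.S16099

/-- For a function field `K/k` of one variable of genus `g` and any place `P`, the `k`-space `K /
(O_{\{P\}} + O_P)` is finite-dimensional of dimension `g` (the number of Weierstrass gaps when `P`
is rational), where `O_{\{P\}}` is the ring of elements of `K` integral at every place other than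
`P` and `O_P` is the valuation ring of `P` (written as the elements integral at every place outside
the complement of `\{P\}`). (The published example is for a curve over an algebraically closed field
and is stated with completions at `P`; this is the equivalent form inside `K`, over any field `k`
algebraically closed in `K`.) -/
theorem result (k K : Type u) [Field k] [Field K]
    [Algebra k K] (hK : FunFld.IsFunctionField k K) (P : FunFld.Place k K) :
    FiniteDimensional k (K ⧸ (Subalgebra.toSubmodule (AdFn.SInt ({P} : Set (FunFld.Place k K))) ⊔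
        Subalgebra.toSubmodule (AdFn.SInt (({P} : Set (FunFld.Place k K))ᶜ)))) ∧
    Module.finrank k (K ⧸ (Subalgebra.toSubmodule (AdFn.SInt ({P} : Set (FunFld.Place k K))) ⊔
        Subalgebra.toSubmodule (AdFn.SInt (({P} : Set (FunFld.Place k K))ᶜ)))) = FunFld.genus k K := by
  classical
  let A := FunFld.adele k K
  have hmem : ∀ x : K, (Pi.single P x : FunFld.Place k K → K) ∈ A := fun x =>
    Filter.mem_cofinite.mpr ((Set.finite_singleton P).subset fun Q hQ => by
      by_contra hne
      apply hQ
      show Q.1 ((Pi.single P x : FunFld.Place k K → K) Q) ≤ 1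
      rw [Pi.single_eq_of_ne hne, map_zero]
      exact zero_le)
  let φ : K →ₗ[k] ↥A ⧸ FunFld.ADK (0 : FunFld.Divisor k K) :=
    (FunFld.ADK (0 : FunFld.Divisor k K)).mkQ ∘ₗ (LinearMap.single k (fun _ => K) P).codRestrict A hmem
  have hφ : Function.Surjective φ := by
    intro q
    obtain ⟨⟨a, ha⟩, rfl⟩ := Submodule.mkQ_surjective _ q
    have hfin := Filter.mem_cofinite.mp ha
    obtain ⟨y, hy1, hy2⟩ := strong_approximation' hK P (hfin.toFinset.erase P) (by simp) a (fun _ => 0)
    refine ⟨a P - y, (Submodule.Quotient.eq _).2 ?_⟩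
    show (Pi.single P (a P - y) - a : FunFld.Place k K → K) ∈
      FunFld.AD (0 : FunFld.Divisor k K) ⊔ LinearMap.range (FunFld.diag k K)
    refine Submodule.mem_sup.2 ⟨Pi.single P (a P - y) - a + FunFld.diag k K y, fun Q => ?_,
      -FunFld.diag k K y, ⟨-y, map_neg _ _⟩, add_neg_cancel_right _ _⟩
    show Q.1 ((Pi.single P (a P - y) : FunFld.Place k K → K) Q - a Q + y) ≤ WithZero.exp ((0 : FunFld.Divisor k K) Q)
    rw [Finsupp.zero_apply, WithZero.exp_zero]
    rcases eq_or_ne Q P with rfl | hne
    · rw [Pi.single_eq_same]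
      simp
    · rw [Pi.single_eq_of_ne hne, zero_sub, neg_add_eq_sub]
      by_cases hQ : Q.1 (a Q) ≤ 1
      · refine (Q.1.map_sub _ _).trans (max_le (hy2 Q hne ?_) hQ)
        simp [hQ]
      · have hQS : Q ∈ hfin.toFinset.erase P := Finset.mem_erase.2 ⟨hne, hfin.mem_toFinset.2 hQ⟩
        simpa using hy1 Q hQS
  have hker : LinearMap.ker φ = Subalgebra.toSubmodule (AdFn.SInt ({P} : Set (FunFld.Place k K))) ⊔
      Subalgebra.toSubmodule (AdFn.SInt (({P} : Set (FunFld.Place k K))ᶜ)) := by
    ext x
    rw [LinearMap.mem_ker]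
    constructor
    · intro hx
      have hx' : (Pi.single P x : FunFld.Place k K → K) ∈
          FunFld.AD (0 : FunFld.Divisor k K) ⊔ LinearMap.range (FunFld.diag k K) :=
        (Submodule.Quotient.mk_eq_zero (FunFld.ADK (0 : FunFld.Divisor k K))).1 hx
      obtain ⟨u, hu, _, ⟨z, rfl⟩, huz⟩ := Submodule.mem_sup.1 hx'
      have hval : ∀ Q, u Q + z = (Pi.single P x : FunFld.Place k K → K) Q := fun Q => congrFun huz Q
      refine Submodule.mem_sup.2 ⟨z, fun Q hQ => ?_, x - z, fun Q hQ => ?_, by abel⟩
      · have h := hval Q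
        rw [Pi.single_eq_of_ne (by simpa using hQ)] at h
        rw [eq_neg_of_add_eq_zero_right h, Valuation.map_neg]
        simpa using hu Q
      · obtain rfl : Q = P := by simpa using hQ
        have h := hval Q
        rw [Pi.single_eq_same] at h
        rw [← h, add_sub_cancel_right]
        simpa using hu Q
    · intro hx
      obtain ⟨z, hz, w, hw, rfl⟩ := Submodule.mem_sup.1 hx
      refine (Submodule.Quotient.mk_eq_zero _).2 (Submodule.mem_sup.2
        ⟨Pi.single P (z + w) - FunFld.diag k K z, fun Q => ?_, FunFld.diag k K z, ⟨z, rfl⟩, sub_add_cancel _ _⟩)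
      show Q.1 ((Pi.single P (z + w) : FunFld.Place k K → K) Q - z) ≤ WithZero.exp ((0 : FunFld.Divisor k K) Q)
      rw [Finsupp.zero_apply, WithZero.exp_zero]
      rcases eq_or_ne Q P with rfl | hne
      · rw [Pi.single_eq_same, add_sub_cancel_left]
        exact hw Q (by simp)
      · rw [Pi.single_eq_of_ne hne, zero_sub, Valuation.map_neg]
        exact hz Q (by simpa using hne)
  obtain ⟨hfd, hrk⟩ := quotient_ADK hK (0 : FunFld.Divisor k K)
  rw [← hker]
  let e := φ.quotKerEquivOfSurjective hφ
  refine ⟨Module.Finite.equiv e.symm, ?_⟩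
  rw [e.finrank_eq]
  have h0 : defect (0 : FunFld.Divisor k K) = 0 := by
    rw [defect, (finrank_L_zero hK).2]; simp [FunFld.Divisor.deg]
  rw [h0, sub_zero] at hrk
  exact_mod_cast hrk

end Groth.Agent.S16099
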