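import Groth.Statements.S16100
import Groth.Agent.CommAlg4.AdeleApprox
import Groth.Agent.S16099
-- import your own Groth.Agent.* helpers here

set_option autoImplicit false
universe u
open AdFn

namespace Groth.Agent.S16100

/-- For a function field `K/k` of one variable of genus `g` and any place `P` with completion `K_P` and
valuation ring `O_P ⊆ K_P`, the `k`-space `K_P / (O_{\{P\}} + O_P)`, where `O_{\{P\}} ⊆ K ⊆ K_P` is
the ring of elements of `K` integral at every place other than `P`, is finite-dimensional of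
dimension `g` (the number of Weierstrass gaps when `P` is rational). (The published example is for a
curve over an algebraically closed field; here any field `k` algebraically closed in `K` and any
place `P` are allowed.) -/
theorem result (k K : Type u) [Field k] [Field K]
    [Algebra k K] (hK : FunFld.IsFunctionField k K) (P : FunFld.Place k K) :
    FiniteDimensional k (AdFn.Kv P ⧸
        (Subalgebra.toSubmodule ((AdFn.SInt ({P} : Set (FunFld.Place k K))).map
            (IsScalarTower.toAlgHom k K (AdFn.Kv P))) ⊔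
          Submodule.span k (AdFn.Ov P : Set (AdFn.Kv P)))) ∧
    Module.finrank k (AdFn.Kv P ⧸
        (Subalgebra.toSubmodule ((AdFn.SInt ({P} : Set (FunFld.Place k K))).map
            (IsScalarTower.toAlgHom k K (AdFn.Kv P))) ⊔
          Submodule.span k (AdFn.Ov P : Set (AdFn.Kv P)))) = FunFld.genus k K := by
  classical
  let O1 := Subalgebra.toSubmodule ((AdFn.SInt ({P} : Set (FunFld.Place k K))).map
    (IsScalarTower.toAlgHom k K (AdFn.Kv P)))
  let W : Submodule k (AdFn.Kv P) := O1 ⊔ Submodule.span k (AdFn.Ov P : Set (AdFn.Kv P))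
  let V : Submodule k K := Subalgebra.toSubmodule (AdFn.SInt ({P} : Set (FunFld.Place k K))) ⊔
    Subalgebra.toSubmodule (AdFn.SInt (({P} : Set (FunFld.Place k K))ᶜ))
  have hc : ∀ c : k, algebraMap k (AdFn.Kv P) c ∈ AdFn.Ov P := fun c => by
    rw [IsScalarTower.algebraMap_apply k K (AdFn.Kv P)]
    exact (AdFn.toKv_mem_Ov P _).2 (P.2.1 c)
  have hspan : ∀ z : AdFn.Kv P, z ∈ Submodule.span k (AdFn.Ov P : Set (AdFn.Kv P)) → z ∈ AdFn.Ov P := by
    intro z hz
    induction hz using Submodule.span_induction with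
    | mem z hz => exact hz
    | zero => exact zero_mem _
    | add a b _ _ ha hb => exact add_mem ha hb
    | smul c a _ ha => rw [Algebra.smul_def]; exact mul_mem (hc c) ha
  let ψ : K →ₗ[k] AdFn.Kv P ⧸ W := W.mkQ ∘ₗ (IsScalarTower.toAlgHom k K (AdFn.Kv P)).toLinearMap
  have hψ : Function.Surjective ψ := fun q => by
    obtain ⟨a, rfl⟩ := Submodule.mkQ_surjective _ q
    obtain ⟨x, hx⟩ := Groth.Agent.CommAlg4.AdeleApprox.exists_sub_mem_Ov P a
    exact ⟨x, ((Submodule.Quotient.eq W).2 (Submodule.mem_sup_right (Submodule.subset_span hx))).symm⟩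
  have hker : LinearMap.ker ψ = V := by
    ext x
    rw [LinearMap.mem_ker, LinearMap.comp_apply, Submodule.mkQ_apply, Submodule.Quotient.mk_eq_zero]
    constructor
    · intro hx
      obtain ⟨_, ⟨s, hs, rfl⟩, o, ho, hso⟩ := Submodule.mem_sup.1 hx
      refine Submodule.mem_sup.2 ⟨s, hs, x - s, fun v hv => ?_, add_sub_cancel _ _⟩
      obtain rfl : v = P := by simpa using hv
      refine (AdFn.toKv_mem_Ov v _).1 ?_
      rw [map_sub, show AdFn.toKv v x - AdFn.toKv v s = o from sub_eq_iff_eq_add'.2 hso.symm]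
      exact hspan o ho
    · intro hx
      obtain ⟨s, hs, t, ht, rfl⟩ := Submodule.mem_sup.1 hx
      rw [map_add]
      exact add_mem (Submodule.mem_sup_left ⟨s, hs, rfl⟩)
        (Submodule.mem_sup_right (Submodule.subset_span ((AdFn.toKv_mem_Ov P t).2 (ht P (by simp)))))
  obtain ⟨hfd, hrk⟩ := Groth.Agent.S16099.result k K hK P
  let e : (K ⧸ V) ≃ₗ[k] AdFn.Kv P ⧸ W := (Submodule.quotEquivOfEq _ _ hker.symm).trans (ψ.quotKerEquivOfSurjective hψ)
  exact ⟨Module.Finite.equiv e, e.finrank_eq.symm.trans hrk⟩

end Groth.Agent.S16100
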