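import Groth.Statements.S16104
import Mathlib

set_option autoImplicit false
universe u v
open LunaSt
open IsLocalRing

namespace Groth.Agent.S16104


/-- Case of local rings. Let φ : A → B be a local homomorphism of Noetherian local rings whose composite
A → B/m_B² is surjective (the first infinitesimal neighbourhoods give a closed immersion), and
assume that A/m_A^(n+1) and B/m_B^(n+1) have the same length for every n (the associated graded
modules of the two maximal ideals have pieces of the same dimension over the common residue field).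
Then for every n the composite A → B/m_B^(n+1) is surjective with kernel m_A^(n+1): φ identifies all
infinitesimal neighbourhoods. (The published statement is for a pointed morphism of Noetherian local
algebraic stacks; its proof reduces to this case of local rings.) -/
theorem result
    (A : Type u) (B : Type v) [CommRing A] [CommRing B] [IsLocalRing A] [IsLocalRing B]
    [IsNoetherianRing A] [IsNoetherianRing B] (φ : A →+* B) [IsLocalHom φ]
    (h1 : Function.Surjective ((Ideal.Quotient.mk (IsLocalRing.maximalIdeal B ^ 2)).comp φ))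
    (hlen : ∀ n : ℕ, Module.length A (A ⧸ IsLocalRing.maximalIdeal A ^ (n + 1)) =
      Module.length B (B ⧸ IsLocalRing.maximalIdeal B ^ (n + 1))) (n : ℕ) :
    Function.Surjective ((Ideal.Quotient.mk (IsLocalRing.maximalIdeal B ^ (n + 1))).comp φ) ∧
      RingHom.ker ((Ideal.Quotient.mk (IsLocalRing.maximalIdeal B ^ (n + 1))).comp φ) =
        IsLocalRing.maximalIdeal A ^ (n + 1) := by
  set M := maximalIdeal A with hM
  set N := maximalIdeal B with hN
  have hle : M.map φ ≤ N := (((IsLocalRing.local_hom_TFAE φ).out 0 2).1 ‹_›)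
  have s1 : ∀ b, ∃ a, b - φ a ∈ N ^ 2 := fun b => by
    obtain ⟨a, ha⟩ := h1 (Ideal.Quotient.mk _ b)
    exact ⟨a, Ideal.Quotient.eq.1 ha.symm⟩
  have hNM : N ≤ M.map φ ⊔ N ^ 2 := by
    intro b hb
    obtain ⟨a, ha⟩ := s1 b
    have haM : a ∈ M := by
      have : φ a ∈ N := by
        have := sub_mem hb (Ideal.pow_le_self two_ne_zero ha)
        simpa using this
      by_contra hna
      exact (IsLocalRing.mem_maximalIdeal (φ a)).1 this ((IsLocalRing.notMem_maximalIdeal.1 hna).map φ)
    have := add_mem (Ideal.mem_sup_left (T := N^2) (Ideal.mem_map_of_mem φ haM)) (Ideal.mem_sup_right ha)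
    simpa using this
  have hNeq : M.map φ = N := le_antisymm hle (Submodule.le_of_le_smul_of_le_jacobson_bot
    (I := N) (IsNoetherian.noetherian N) (IsLocalRing.jacobson_eq_maximalIdeal ⊥ bot_ne_top).ge (by rwa [smul_eq_mul, ← sq]))
  have surj : ∀ k, ∀ b, ∃ a, b - φ a ∈ N ^ (k+1) := by
    intro k
    induction k with
    | zero =>
      intro b
      obtain ⟨a, ha⟩ := s1 b
      exact ⟨a, by simpa using Ideal.pow_le_self two_ne_zero ha⟩
    | succ k ih =>
      intro b
      obtain ⟨a, ha⟩ := ih b
      rw [← hNeq, ← Ideal.map_pow] at ha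
      obtain ⟨x, hx⟩ : ∃ x, (b - φ a) - φ x ∈ N ^ (k+1+1) := by
        refine Submodule.span_induction ?_ ⟨0, by simp⟩ ?_ ?_ ha
        · rintro _ ⟨x, hx, rfl⟩; exact ⟨x, by simp⟩
        · rintro p q - - ⟨x, hx⟩ ⟨y, hy⟩
          exact ⟨x+y, by simpa [add_sub_add_comm] using add_mem hx hy⟩
        · rintro c p hp ⟨x, hx⟩
          obtain ⟨a', ha'⟩ := s1 c
          refine ⟨a' * x, ?_⟩
          have hp' : p ∈ N ^ (k+1) := by rw [← hNeq, ← Ideal.map_pow]; exact hp
          have h2 : (c - φ a') * p ∈ N ^ (2 + (k+1)) := by rw [pow_add]; exact Ideal.mul_mem_mul ha' hp'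
          have h3 := add_mem (Ideal.pow_le_pow_right (by omega : k+1+1 ≤ 2 + (k+1)) h2) (Ideal.mul_mem_left _ (φ a') hx)
          simp only [map_mul, smul_eq_mul]
          convert h3 using 1; ring
      exact ⟨a + x, by simpa [sub_sub] using hx⟩
  have hs : Function.Surjective ((Ideal.Quotient.mk (N ^ (n + 1))).comp φ) := fun q => by
    obtain ⟨b, rfl⟩ := Ideal.Quotient.mk_surjective q
    obtain ⟨a, ha⟩ := surj n b
    exact ⟨a, (Ideal.Quotient.eq.2 ha).symm⟩
  refine ⟨hs, ?_⟩
  have hk : M ^ (n+1) ≤ RingHom.ker ((Ideal.Quotient.mk (N ^ (n + 1))).comp φ) := by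
    intro a ha
    simp only [RingHom.mem_ker, RingHom.comp_apply, Ideal.Quotient.eq_zero_iff_mem]
    rw [← hNeq, ← Ideal.map_pow]; exact Ideal.mem_map_of_mem φ ha
  algebraize [φ]
  let q : (A ⧸ M ^ (n+1)) →ₗ[A] (B ⧸ N ^ (n+1)) :=
    (Ideal.Quotient.liftₐ (M ^ (n+1)) ((Ideal.Quotient.mkₐ A (N ^ (n+1))).comp (Algebra.ofId A B)) hk).toLinearMap
  have hq : Function.Surjective q := fun y => by obtain ⟨a, ha⟩ := hs y; exact ⟨Ideal.Quotient.mk _ a, ha⟩
  have : IsArtinianRing (A ⧸ M ^ (n+1)) := by
    refine IsLocalRing.quotient_artinian_of_mem_minimalPrimes_of_isLocalRing _ ⟨⟨inferInstance, Ideal.pow_le_self n.succ_ne_zero⟩, fun J hJ _ => (Ideal.IsPrime.le_of_pow_le (hP := hJ.1) hJ.2)⟩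
  have htop : Module.length A (A ⧸ M ^ (n+1)) ≠ ⊤ := by
    rw [Module.length_eq_of_surjective (R := A ⧸ M ^ (n+1)) Ideal.Quotient.mk_surjective]
    exact Module.length_ne_top
  have hlen' : Module.length A (B ⧸ N ^ (n+1)) = Module.length B (B ⧸ N ^ (n+1)) := by
    rw [Module.length_eq_of_surjective (R := B ⧸ N ^ (n+1)) (S := A) hs,
      ← Module.length_eq_of_surjective (R := B ⧸ N ^ (n+1)) (S := B) Ideal.Quotient.mk_surjective]
  have hadd := Module.length_eq_add_of_exact (LinearMap.ker q).subtype q Subtype.val_injective hq (LinearMap.exact_subtype_ker_map q)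
  rw [hlen n, ← hlen'] at hadd
  rw [hlen n, ← hlen'] at htop
  have hk0 : Module.length A (LinearMap.ker q) = 0 := by
    revert hadd htop
    generalize Module.length A (LinearMap.ker q) = a
    generalize Module.length A (B ⧸ N ^ (n+1)) = b
    intro hb hab
    lift b to ℕ using hb
    cases a with
    | top => simp at hab
    | coe a => norm_cast at hab ⊢; omega
  rw [Module.length_eq_zero_iff, Submodule.subsingleton_iff_eq_bot, LinearMap.ker_eq_bot] at hk0
  refine le_antisymm (fun a ha => ?_) hk
  rw [← Ideal.Quotient.eq_zero_iff_mem]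
  apply hk0
  rw [map_zero]
  exact ha

end Groth.Agent.S16104
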