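import Groth.Statements.S16105
import Groth.Agent.CohDer1.InvAdic.Main
-- import your own Groth.Agent.* helpers here

set_option autoImplicit false
universe u v w w'
open LunaSt

namespace Groth.Agent.S16105

/-- The key claim of its proof. Let k be a field and H a commutative Hopf algebra of finite type over k
all of whose finite-dimensional comodules are semisimple (a linearly reductive affine group G = Spec
H). Let A be a Noetherian commutative k-algebra with a coaction of H that is an algebra map (an
action of G on Spec A), let m be a maximal ideal of A stable under the coaction (for instance the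
ideal of a closed point fixed by G), and assume that the ring of invariants A^G is a Noetherian
local ring, complete with respect to its maximal ideal. Let M be a finite A-module with a compatible
H-coaction (a coherent G-module on Spec A). Then (i) an invariant element of M which lies in m^n M
for every n is zero, and (ii) for every sequence of invariants x_0, x_1, … with x_(n+1) − x_n ∈ m^n
M there is an invariant x with x − x_n ∈ m^n M for all n. In other words M^G → lim_n M^G/(m^n M)^G
is bijective: the m-adic filtration and the filtration by powers of the maximal ideal of A^G induce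
the same topology on M^G. (The ring of invariants is assumed Noetherian here; this also follows from
linear reductivity.) -/
theorem result
    (k : Type u) [Field k] (H : Type v) [CommRing H] [HopfAlgebra k H] [Algebra.FiniteType k H]
    (hG : HopfRep.IsLinearlyReductive k H)
    (A : Type w) [CommRing A] [Algebra k A] [IsNoetherianRing A]
    [HopfRep.Comod k H A] [GLin.IsCoactAlg k H A]
    (m : Ideal A) [m.IsMaximal] (hm : HopfRep.IsSubcomod (k := k) (A := H) (m.restrictScalars k))
    [IsLocalRing ↥(GLin.invariants k H A)] [IsNoetherianRing ↥(GLin.invariants k H A)]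
    [IsAdicComplete (IsLocalRing.maximalIdeal ↥(GLin.invariants k H A)) ↥(GLin.invariants k H A)]
    (M : Type w') [AddCommGroup M] [Module k M] [Module A M] [IsScalarTower k A M] [Module.Finite A M]
    [HopfRep.Comod k H M] [TameAct.IsHopfMod k H A M] :
    (∀ x ∈ HopfRep.fixedPts k H M, (∀ n : ℕ, x ∈ (m ^ n • ⊤ : Submodule A M)) → x = 0) ∧
      ∀ x : ℕ → M, (∀ n, x n ∈ HopfRep.fixedPts k H M) →
        (∀ n, x (n + 1) - x n ∈ (m ^ n • ⊤ : Submodule A M)) →
          ∃ y ∈ HopfRep.fixedPts k H M, ∀ n, y - x n ∈ (m ^ n • ⊤ : Submodule A M) := by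
  obtain ⟨α, hα, h1⟩ := HopfLib.exists_integral hG
  have hfin : (CohDer1.InvAdic.invMod k H A M).FG := by
    obtain ⟨s, hs, hgen⟩ := HopfLib.exists_finset_fixedPts_generators (R := A) (M := M) hG
    refine ⟨s, le_antisymm (Submodule.span_le.2 hs) fun z hz => ?_⟩
    obtain ⟨c, hc, rfl⟩ := hgen z hz
    exact Submodule.sum_mem _ fun y hy => Submodule.smul_mem _ (⟨c y, hc y hy⟩ : GLin.invariants k H A)
      (Submodule.subset_span hy)
  refine ⟨fun x hx h => ?_, fun x hx hc => CohDer1.InvAdic.exists_limit hα h1 m hm hfin x hx hc⟩
  haveI : Module.Finite (GLin.invariants k H A) (CohDer1.InvAdic.invMod k H A M) := Module.Finite.iff_fg.2 hfin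
  have hbot := Ideal.iInf_pow_smul_eq_bot_of_isLocalRing (M := CohDer1.InvAdic.invMod k H A M)
    (IsLocalRing.maximalIdeal ↥(GLin.invariants k H A)) (IsLocalRing.maximalIdeal.isMaximal _).ne_top
  have hmem : (⟨x, hx⟩ : CohDer1.InvAdic.invMod k H A M) ∈
      (⨅ i : ℕ, IsLocalRing.maximalIdeal ↥(GLin.invariants k H A) ^ i • ⊤ :
        Submodule ↥(GLin.invariants k H A) (CohDer1.InvAdic.invMod k H A M)) := by
    rw [Submodule.mem_iInf]
    intro i
    have h2 := CohDer1.InvAdic.mem_of_forall hα h1 m hm i hx fun n =>
      Submodule.mem_sup_left (Submodule.mem_sup_left (h n))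
    have e : (IsLocalRing.maximalIdeal ↥(GLin.invariants k H A) ^ i • ⊤ :
        Submodule ↥(GLin.invariants k H A) (CohDer1.InvAdic.invMod k H A M)).map
          (CohDer1.InvAdic.invMod k H A M).subtype =
        IsLocalRing.maximalIdeal ↥(GLin.invariants k H A) ^ i • CohDer1.InvAdic.invMod k H A M := by
      rw [Submodule.map_smul'', Submodule.map_top, Submodule.range_subtype]
    rw [← e] at h2
    obtain ⟨w, hw, hwx⟩ := h2
    exact (Subtype.ext hwx : w = ⟨x, hx⟩) ▸ hw
  rw [hbot, Submodule.mem_bot] at hmem
  exact congrArg Subtype.val hmem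
end Groth.Agent.S16105
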