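import Groth.Statements.S16106
import Groth.Agent.CAlgH.Approximation

set_option autoImplicit false
universe u
open CategoryTheory CategoryTheory.Limits
open LunaSt

namespace Groth.Agent.S16106

/-- Local form. Let A be a local G-ring, that is a Noetherian local ring all of whose local rings have
regular completion maps (for instance an excellent local ring), with maximal ideal m and m-adic
completion Â. Let F be a functor from A-algebras (commutative rings under A) to sets preserving
filtered colimits, let ξ ∈ F(Â) and N ≥ 0. Then there exist an étale A-algebra A′, a map of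
A-algebras φ : A′ → A/m^(N+1) (an étale neighbourhood of the closed point with trivial residue field
extension) and ξ′ ∈ F(A′) such that ξ′ and ξ have the same image in F(A/m^(N+1)); here π is the
A-algebra map Â → A/m^(N+1), pinned by its underlying ring map. (The published statement is for any
point of the spectrum of a G-ring, with a functor locally of finite presentation on all schemes over
it; its proof first localizes at the point, and only the values of the functor on affine schemes
enter, so the row states this local form for a functor on A-algebras preserving filtered colimits.) -/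
theorem result (A : Type u) [CommRing A] [IsLocalRing A]
    (hG : CAlg.IsGRing A)
    (F : Under (CommRingCat.of A) ⥤ Type u)
    (hF : ∀ (J : Type u) [SmallCategory J] [IsFiltered J], PreservesColimitsOfShape J F)
    (N : ℕ)
    (π : Under.mk (CommRingCat.ofHom (algebraMap A
        (AdicCompletion (IsLocalRing.maximalIdeal A) A))) ⟶
      Under.mk (CommRingCat.ofHom (algebraMap A (A ⧸ IsLocalRing.maximalIdeal A ^ (N + 1)))))
    (hπ : π.right = CommRingCat.ofHom
      (AdicCompletion.evalₐ (IsLocalRing.maximalIdeal A) (N + 1) :
        AdicCompletion (IsLocalRing.maximalIdeal A) A →ₐ[A]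
          A ⧸ IsLocalRing.maximalIdeal A ^ (N + 1)).toRingHom)
    (ξ : F.obj (Under.mk (CommRingCat.ofHom (algebraMap A
        (AdicCompletion (IsLocalRing.maximalIdeal A) A))))) :
    ∃ (A' : Type u) (_ : CommRing A') (_ : Algebra A A') (_ : Algebra.Etale A A')
      (φ : Under.mk (CommRingCat.ofHom (algebraMap A A')) ⟶
        Under.mk (CommRingCat.ofHom (algebraMap A (A ⧸ IsLocalRing.maximalIdeal A ^ (N + 1)))))
      (ξ' : F.obj (Under.mk (CommRingCat.ofHom (algebraMap A A')))),
      F.map φ ξ' = F.map π ξ := by
  haveI : IsNoetherianRing A := hG.1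
  haveI : IsNoetherianRing (AdicCompletion (IsLocalRing.maximalIdeal A) A) :=
    _root_.Groth.Agent.Matlis6.isNoetherianRing_adicCompletion _
  haveI := _root_.Groth.Agent.CAlgH.EtaleApprox.isAdicComplete_cpl A
  have h1 : π = _root_.Groth.Agent.CAlgH.Approximation.underHom
      (AdicCompletion.evalₐ (IsLocalRing.maximalIdeal A) (N + 1)) := Under.UnderMorphism.ext hπ
  obtain ⟨A', _, _, hA', ψ, ξ', hξ⟩ := _root_.Groth.Agent.CAlgH.Approximation.exists_etale_element F hF
    (_root_.Groth.Agent.CAlgH.isRegularHom_adicCompletion_of_isGRing A hG (IsLocalRing.maximalIdeal A))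
    (IsUnit.submonoid A) (fun s hs => (hs : IsUnit s).map _)
    (fun j y => by
      obtain ⟨r, hr⟩ := _root_.Groth.Agent.CAlgH.EtaleApprox.exists_sub_mem A j y
      exact ⟨r, 1, Submonoid.one_mem _, by rwa [map_one, one_mul]⟩)
    (AdicCompletion.evalₐ (IsLocalRing.maximalIdeal A) (N + 1)) (N + 1)
    (fun y hy => _root_.Groth.Agent.CAlgH.Approximation.evalₐ_eq_zero (by
      rwa [Ideal.map_pow, ← AdicCompletion.maximalIdeal_eq_map]))
    ξ
  exact ⟨A', inferInstance, inferInstance, hA', _root_.Groth.Agent.CAlgH.Approximation.underHom ψ, ξ', h1 ▸ hξ⟩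

end Groth.Agent.S16106
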