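import Groth.Statements.S16111
import Groth.Agent.AlgGrpLib.AmpleTranslates

set_option autoImplicit false
set_option backward.isDefEq.respectTransparency.types false
universe u
open CategoryTheory MonoidalCategory CartesianMonoidalCategory MonObj GrpObj AlgebraicGeometry CategoryTheory.Limits
open AlgGrp

namespace Groth.Agent.S16111

/-- Over an algebraically closed field k, let G be a connected linear algebraic group (an affine,
smooth, connected k-group scheme) acting on a normal irreducible variety X (an integral normal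
separated k-scheme of finite type). Then X is covered by G-stable quasi-projective open subschemes:
every point x of X lies in an open U with σ⁻¹U = p₂⁻¹U in G × X (σ the action, p₂ the projection)
such that U is quasi-projective over k. (The published conclusion is a cover by G-quasi-projective
opens, i.e. opens admitting an equivariant immersion into the projective space of a
finite-dimensional G-module; such opens are in particular G-stable and quasi-projective, which is
what is stated here.) -/
theorem result (k : Type u) [Field k] [IsAlgClosed k]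
    (G X : Over (Spec (CommRingCat.of k))) [GrpObj G] [IsAffine G.left] [Smooth G.hom] [ConnectedSpace ↥G.left]
    [IsIntegral X.left] [IsSeparated X.hom] [LocallyOfFiniteType X.hom] [QuasiCompact X.hom]
    (hX : Pi1.IsNormalScheme X.left) (a : AlgGrp.Action G X) (x : ↥X.left) :
    ∃ U : X.left.Opens, x ∈ U ∧ a.act.left ⁻¹ᵁ U = (snd G X).left ⁻¹ᵁ U ∧
      RelProj.IsQuasiProjective (U.ι ≫ X.hom) := by
  obtain ⟨U, hU, hxU, -⟩ := exists_isAffineOpen_mem_and_subset (x := x) (U := (⊤ : X.left.Opens)) trivial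
  let W : X.left.Opens := ⨆ g : 𝟙_ (Over (Spec (CommRingCat.of k))) ⟶ G,
    (Groth.Agent.AlgGrpLib.StableOpen.trans a g).left ⁻¹ᵁ U
  have hWh : ∀ h, (Groth.Agent.AlgGrpLib.StableOpen.trans a h).left ⁻¹ᵁ W = W := by
    intro h
    refine TopologicalSpace.Opens.ext (Set.ext fun z => ?_)
    simp only [W, TopologicalSpace.Opens.coe_iSup, Scheme.Hom.coe_preimage, Set.mem_preimage, Set.mem_iUnion]
    have e : ∀ g, (Groth.Agent.AlgGrpLib.StableOpen.trans a g).left ((Groth.Agent.AlgGrpLib.StableOpen.trans a h).left z) =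
        (Groth.Agent.AlgGrpLib.StableOpen.trans a (g * h)).left z := fun g => by
      rw [← Scheme.Hom.comp_apply, ← Over.comp_left, ← Groth.Agent.AlgGrpLib.StableOpen.trans_mul]
    constructor
    · rintro ⟨g, hg⟩
      exact ⟨g * h, (e g) ▸ hg⟩
    · rintro ⟨g, hg⟩
      exact ⟨g * h⁻¹, by rw [e, inv_mul_cancel_right]; exact hg⟩
  have hst := Groth.Agent.AlgGrpLib.StableOpen.preimage_eq_of_trans a W hWh
  have hxW : x ∈ W := TopologicalSpace.Opens.mem_iSup.2 ⟨1, by
    rw [Groth.Agent.AlgGrpLib.StableOpen.trans_one]; exact hxU⟩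
  refine ⟨W, hxW, hst, ?_⟩
  obtain ⟨b, hb⟩ := Groth.Agent.Misc15.OpenAction.exists_action a W hst.ge
  let WX : Over (Spec (CommRingCat.of k)) := Groth.Agent.Misc15.OpenAction.obj W
  haveI : Nonempty WX.left := ⟨⟨x, hxW⟩⟩
  haveI : IsIntegral WX.left := isIntegral_of_isOpenImmersion W.ι
  haveI : IsLocallyNoetherian X.left := LocallyOfFiniteType.isLocallyNoetherian X.hom
  haveI : IsSeparated WX.hom := inferInstanceAs (IsSeparated (W.ι ≫ X.hom))
  haveI : LocallyOfFiniteType WX.hom := inferInstanceAs (LocallyOfFiniteType (W.ι ≫ X.hom))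
  haveI : QuasiCompact WX.hom := inferInstanceAs (QuasiCompact (W.ι ≫ X.hom))
  have htr : ∀ g, Groth.Agent.AlgGrpLib.StableOpen.trans b g ≫ Groth.Agent.Misc15.OpenAction.incl W =
      Groth.Agent.Misc15.OpenAction.incl W ≫ Groth.Agent.AlgGrpLib.StableOpen.trans a g := by
    intro g
    show (lift _ _ ≫ b.act) ≫ _ = _ ≫ lift _ _ ≫ a.act
    rw [Category.assoc, hb, lift_whiskerLeft_assoc, Category.id_comp, ← Category.assoc, comp_lift, ← Category.assoc,
      toUnit_unique (_ ≫ toUnit X) (toUnit _), Category.comp_id]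
  have hle : U ≤ W := fun z hz => TopologicalSpace.Opens.mem_iSup.2 ⟨1, by
    rw [Groth.Agent.AlgGrpLib.StableOpen.trans_one]; exact hz⟩
  refine Groth.Agent.AlgGrpLib.AmpleTranslates.isQuasiProjective_of_translates G WX
    (Groth.Agent.AlgGrpLib.AmpleTranslates.isNormal_opens hX W) b (W.ι ⁻¹ᵁ U)
    (hU.preimage_of_isOpenImmersion W.ι (by rw [Scheme.Opens.opensRange_ι]; exact hle)) ⟨⟨x, hxW⟩, hxU⟩ fun y => ?_
  obtain ⟨g, hg⟩ := TopologicalSpace.Opens.mem_iSup.1 (y.2 : y.1 ∈ W)
  refine ⟨g, ?_⟩
  have e' : (Groth.Agent.AlgGrpLib.StableOpen.trans b g).left ≫ W.ι =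
      W.ι ≫ (Groth.Agent.AlgGrpLib.StableOpen.trans a g).left := congrArg CommaMorphism.left (htr g)
  show ((Groth.Agent.AlgGrpLib.StableOpen.trans b g).left ≫ W.ι) y ∈ U
  rw [e']
  exact hg

end Groth.Agent.S16111
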