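import Groth.Statements.S16122
import Groth.Agent.AlgGrpLib.PicFiniteScheme

set_option autoImplicit false
set_option backward.isDefEq.respectTransparency.types false
universe u
open CategoryTheory MonoidalCategory CartesianMonoidalCategory MonObj GrpObj AlgebraicGeometry CategoryTheory.Limits
open AlgGrp

namespace Groth.Agent.S16122

/-- Over an algebraically closed field k, if G is a connected linear algebraic group (an affine, smooth,
connected k-group scheme), then Pic(G) is finite: there are only finitely many isomorphism classes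
of invertible O_G-modules. -/
theorem result (k : Type u) [Field k] [IsAlgClosed k]
    (G : Over (Spec (CommRingCat.of k))) [GrpObj G] [IsAffine G.left] [Smooth G.hom] [ConnectedSpace ↥G.left] :
    Finite (PicLoc.PicSet G.left) := by
  obtain ⟨C, _, _, e, heiso, hemon⟩ := Groth.Agent.HopfQuot.exists_spec (k := k) G
  haveI := heiso; haveI := hemon
  haveI : IsIso e.left := inferInstanceAs (IsIso ((Over.forget _).map e))
  haveI : IsReduced G.left := Groth.Agent.AbSchLib.isReduced_of_smooth G.hom
  let S := Groth.Agent.HopfQuot.spec (k := k) C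
  haveI : ConnectedSpace S.left :=
    (inv e.left).homeomorph.surjective.connectedSpace (inv e.left).homeomorph.continuous
  haveI : IsReduced S.left := isReduced_of_isOpenImmersion e.left
  haveI : _root_.IsReduced C := (affine_isReduced_iff (CommRingCat.of C)).1 ‹IsReduced S.left›
  haveI : ConnectedSpace (PrimeSpectrum C) := ‹ConnectedSpace S.left›
  haveI : Smooth S.hom := by rw [← Over.w e]; infer_instance
  haveI : Algebra.Smooth k C := RingHom.smooth_algebraMap.1
    ((HasRingHomProperty.Spec_iff (P := @Smooth) (φ := CommRingCat.ofHom (algebraMap k C))).1 ‹Smooth S.hom›)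
  haveI : Algebra.FiniteType k C := inferInstance
  haveI : IsDomain C := Groth.Agent.HopfOneDim.isDomain k Groth.Agent.AlgGrpLib.BorelFixed.isUnit_or_isNilpotent_of_idem
  haveI : IsNoetherianRing C := Algebra.FiniteType.isNoetherianRing k C
  obtain ⟨W, a, n, b, ha, hb, ⟨w⟩⟩ := Groth.Agent.AlgGrpLib.RatGroup.rat_spec (k := k) (A := C)
  haveI := hb
  obtain ⟨f, B, _, _, _, _, _, _, _, h, hf, hh, _⟩ :=
    @Groth.Agent.AlgGrpLib.PicFiniteScheme.exists_chart k _ C _ _ _ n W a.left (Over.w a) b ha hb w
  haveI := Groth.Agent.AlgGrpLib.PicFinite.finite_pic (k := k) hf B h hh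
  haveI : IsDomain (CommRingCat.of C) := ‹IsDomain C›
  haveI : IsNoetherianRing (CommRingCat.of C) := ‹IsNoetherianRing C›
  haveI : Finite (CommRing.Pic (CommRingCat.of C)) := ‹Finite (CommRing.Pic C)›
  haveI : Finite (PicLoc.PicSet (Spec (CommRingCat.of C))) := Groth.Agent.AlgGrpLib.PicFiniteScheme.finite_picSet
  haveI : Finite (PicLoc.PicSet (Groth.Agent.HopfQuot.spec (k := k) C).left) := ‹Finite (PicLoc.PicSet (Spec (CommRingCat.of C)))›
  exact Groth.Agent.AlgGrpLib.PicFiniteScheme.finite_picSet_of_iso (asIso e.left)

end Groth.Agent.S16122
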