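import Groth.Statements.S16112
import Groth.Agent.AlgGrpLib.AmpleTranslates
import Groth.Agent.AlgGrpLib.TorusStableOpen
import Groth.Agent.AlgGrpLib.PicActionDiff
import Groth.Agent.S16122

set_option autoImplicit false
set_option backward.isDefEq.respectTransparency.types false
universe u
open CategoryTheory MonoidalCategory CartesianMonoidalCategory MonObj GrpObj AlgebraicGeometry CategoryTheory.Limits
open AlgGrp

namespace Groth.Agent.S16112

/-- Over an algebraically closed field k, let T be a torus (a k-group scheme isomorphic to the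
diagonalizable group of ℤ^r for some r) acting on a normal irreducible variety X (an integral normal
separated k-scheme of finite type). Then X is covered by T-stable affine open subschemes: every
point x of X lies in an affine open U with σ⁻¹U = p₂⁻¹U in T × X (σ the action, p₂ the projection).
(The published statement takes X normal and possibly reducible; it is stated here for irreducible X,
the case its argument reduces to.) -/
theorem result (k : Type u) [Field k] [IsAlgClosed k]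
    (T X : Over (Spec (CommRingCat.of k))) [GrpObj T] (r : ℕ) (hT : Red.IsSplitTorusWith (Fin r → ℤ) T)
    [IsIntegral X.left] [IsSeparated X.hom] [LocallyOfFiniteType X.hom] [QuasiCompact X.hom]
    (hX : Pi1.IsNormalScheme X.left) (a : AlgGrp.Action T X) (x : ↥X.left) :
    ∃ U : X.left.Opens, x ∈ U ∧ IsAffineOpen U ∧ a.act.left ⁻¹ᵁ U = (snd T X).left ⁻¹ᵁ U := by
  classical
  obtain ⟨iso⟩ := hT
  let eT : T ≅ Red.DS (Spec (CommRingCat.of k)) (Fin r → ℤ) := (Grp.forget _).mapIso iso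
  haveI : IsMonHom eT.hom := iso.hom.hom.isMonHom_hom
  obtain ⟨hTs, hTc, hTa⟩ := Groth.Agent.AlgGrpLib.TorusChars.smooth_connected eT
  haveI := hTs; haveI := hTc; haveI := hTa
  obtain ⟨U, hU, hxU, -⟩ := exists_isAffineOpen_mem_and_subset (x := x) (U := (⊤ : X.left.Opens)) trivial
  let W : X.left.Opens := ⨆ g : 𝟙_ (Over (Spec (CommRingCat.of k))) ⟶ T,
    (Groth.Agent.AlgGrpLib.StableOpen.trans a g).left ⁻¹ᵁ U
  have hWh : ∀ h, (Groth.Agent.AlgGrpLib.StableOpen.trans a h).left ⁻¹ᵁ W = W := by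
    intro h
    refine TopologicalSpace.Opens.ext (Set.ext fun z => ?_)
    simp only [W, TopologicalSpace.Opens.coe_iSup, Scheme.Hom.coe_preimage, Set.mem_preimage, Set.mem_iUnion]
    have e : ∀ g, (Groth.Agent.AlgGrpLib.StableOpen.trans a g).left ((Groth.Agent.AlgGrpLib.StableOpen.trans a h).left z) =
        (Groth.Agent.AlgGrpLib.StableOpen.trans a (g * h)).left z := fun g => by
      rw [← Scheme.Hom.comp_apply, ← Over.comp_left, ← Groth.Agent.AlgGrpLib.StableOpen.trans_mul]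
    constructor
    · rintro ⟨g, hg⟩
      exact ⟨g * h, (e g) ▸ hg⟩
    · rintro ⟨g, hg⟩
      exact ⟨g * h⁻¹, by rw [e, inv_mul_cancel_right]; exact hg⟩
  have hst := Groth.Agent.AlgGrpLib.StableOpen.preimage_eq_of_trans a W hWh
  have hle : U ≤ W := fun z hz => TopologicalSpace.Opens.mem_iSup.2 ⟨1, by
    rw [Groth.Agent.AlgGrpLib.StableOpen.trans_one]; exact hz⟩
  obtain ⟨b, hb⟩ := Groth.Agent.Misc15.OpenAction.exists_action a W hst.ge
  let WX : Over (Spec (CommRingCat.of k)) := Groth.Agent.Misc15.OpenAction.obj W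
  haveI : Nonempty WX.left := ⟨⟨x, hle hxU⟩⟩
  haveI : IsIntegral WX.left := isIntegral_of_isOpenImmersion W.ι
  haveI : IsLocallyNoetherian X.left := LocallyOfFiniteType.isLocallyNoetherian X.hom
  haveI : IsSeparated WX.hom := inferInstanceAs (IsSeparated (W.ι ≫ X.hom))
  haveI : LocallyOfFiniteType WX.hom := inferInstanceAs (LocallyOfFiniteType (W.ι ≫ X.hom))
  haveI : QuasiCompact WX.hom := inferInstanceAs (QuasiCompact (W.ι ≫ X.hom))
  have htr : ∀ g, Groth.Agent.AlgGrpLib.StableOpen.trans b g ≫ Groth.Agent.Misc15.OpenAction.incl W =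
      Groth.Agent.Misc15.OpenAction.incl W ≫ Groth.Agent.AlgGrpLib.StableOpen.trans a g := by
    intro g
    show (lift _ _ ≫ b.act) ≫ _ = _ ≫ lift _ _ ≫ a.act
    rw [Category.assoc, hb, lift_whiskerLeft_assoc, Category.id_comp, ← Category.assoc, comp_lift, ← Category.assoc,
      toUnit_unique (_ ≫ toUnit X) (toUnit _), Category.comp_id]
  have htr' : ∀ g (O : X.left.Opens), W.ι ⁻¹ᵁ ((Groth.Agent.AlgGrpLib.StableOpen.trans a g).left ⁻¹ᵁ O) =
      (Groth.Agent.AlgGrpLib.StableOpen.trans b g).left ⁻¹ᵁ (W.ι ⁻¹ᵁ O) := by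
    intro g O
    rw [← Scheme.Hom.comp_preimage, ← Scheme.Hom.comp_preimage]
    exact congrArg (fun q : WX.left ⟶ X.left => q ⁻¹ᵁ O) (congrArg CommaMorphism.left (htr g)).symm
  have hXn := Groth.Agent.AlgGrpLib.AmpleTranslates.isNormal_opens hX W
  obtain ⟨M, hM, tM, hloc⟩ := Groth.Agent.AlgGrpLib.AmpleTranslates.exists_module_of_translates T WX hXn b
    (W.ι ⁻¹ᵁ U) (hU.preimage_of_isOpenImmersion W.ι (by rw [Scheme.Opens.opensRange_ι]; exact hle))
    ⟨⟨x, hle hxU⟩, hxU⟩ (fun y => by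
      obtain ⟨g, hg⟩ := TopologicalSpace.Opens.mem_iSup.1 (y.2 : y.1 ∈ W)
      exact ⟨g, (htr' g U).le hg⟩)
  -- a power of `M` is invariant
  obtain ⟨w⟩ := Groth.Agent.AlgGrpLib.exists_point (X := WX)
  let c := Groth.Agent.PicLib.PicM.of hM
  let d := Groth.Agent.PicLib.PicM.pull (b.orbitMap w).left c
  haveI : Finite (Groth.Agent.PicLib.PicM T.left) := by
    haveI := Groth.Agent.S16122.result k T
    let F : Groth.Agent.PicLib.PicM T.left → PicLoc.PicSet T.left := fun q => ⟨q.val, q.prop⟩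
    exact Finite.of_injective F
      fun q q' h => Groth.Agent.PicLib.PicM.ext (congrArg Subtype.val h)
  obtain ⟨n, hn, hdn⟩ : ∃ n, 0 < n ∧ d ^ n = 1 := by
    obtain ⟨i, j, hij, he⟩ : ∃ i j : ℕ, i < j ∧ d ^ i = d ^ j := by
      obtain ⟨i, j, hne, he⟩ := Finite.exists_ne_map_eq_of_infinite (fun m : ℕ => d ^ m)
      rcases lt_or_gt_of_ne hne with h | h
      exacts [⟨i, j, h, he⟩, ⟨j, i, h, he.symm⟩]
    refine ⟨j - i, Nat.sub_pos_of_lt hij, ((Groth.Agent.PicLib.PicM.isUnit d).pow i).mul_left_injective ?_⟩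
    show d ^ (j - i) * d ^ i = 1 * d ^ i
    rw [← pow_add, Nat.sub_add_cancel hij.le, _root_.one_mul, he]
  obtain ⟨m, rfl⟩ : ∃ m, n = m + 1 := ⟨n - 1, by omega⟩
  have hMn := Groth.Agent.AmpleLib.isInvertible_tensorPow hM (m + 1)
  have heq : Groth.Agent.PicLib.PicM.pull b.act.left (Groth.Agent.PicLib.PicM.of hMn) =
      Groth.Agent.PicLib.PicM.pull (snd T WX).left (Groth.Agent.PicLib.PicM.of hMn) := by
    rw [Groth.Agent.PicLib.PicM.of_tensorPow hM, map_pow, map_pow,
      Groth.Agent.AlgGrpLib.PicActionDiff.act_pull_eq T WX hXn b w, mul_pow, ← map_pow _ d, hdn, map_one,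
      _root_.one_mul]
  rw [Groth.Agent.PicLib.PicM.pull_of, Groth.Agent.PicLib.PicM.pull_of, Groth.Agent.PicLib.PicM.of_eq_iff] at heq
  obtain ⟨φ⟩ := heq
  have hs : Groth.Agent.AmpleLib.glocus (CohB1.tensorPow M (m + 1))
      (Groth.Agent.AmpleLib.powSec (tM 1) (m + 1)) = W.ι ⁻¹ᵁ U := by
    rw [Groth.Agent.AmpleLib.glocus_powSec hM, hloc, Groth.Agent.AlgGrpLib.StableOpen.trans_one]
    rfl
  obtain ⟨O, hxO, hO, hOst⟩ := Groth.Agent.AlgGrpLib.TorusStableOpen.exists_stable_affine T WX eT b _ hMn φ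
    (Groth.Agent.AmpleLib.powSec (tM 1) (m + 1))
    (by rw [hs]; exact hU.preimage_of_isOpenImmersion W.ι (by rw [Scheme.Opens.opensRange_ι]; exact hle))
    (⟨x, hle hxU⟩ : WX.left) (by rw [hs]; exact hxU)
  refine ⟨W.ι ''ᵁ O, ⟨⟨x, hle hxU⟩, hxO, rfl⟩, hO.image_of_isOpenImmersion W.ι,
    Groth.Agent.AlgGrpLib.StableOpen.preimage_eq_of_trans a _ fun g => ?_⟩
  have hsub : W.ι ''ᵁ O ≤ W := by rintro _ ⟨y, -, rfl⟩; exact y.2
  refine TopologicalSpace.Opens.ext (Set.ext fun z => ⟨fun hz => ?_, fun hz => ?_⟩)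
  · have hzW : z ∈ W := (hWh g).le ((Groth.Agent.AlgGrpLib.StableOpen.trans a g).left.preimage_mono hsub hz)
    refine ⟨⟨z, hzW⟩, ?_, rfl⟩
    have h1 : (⟨z, hzW⟩ : WX.left) ∈ W.ι ⁻¹ᵁ ((Groth.Agent.AlgGrpLib.StableOpen.trans a g).left ⁻¹ᵁ (W.ι ''ᵁ O)) := hz
    rw [htr', W.ι.preimage_image_eq, hOst] at h1
    exact h1
  · obtain ⟨y, hy, rfl⟩ := hz
    have h1 : y ∈ W.ι ⁻¹ᵁ ((Groth.Agent.AlgGrpLib.StableOpen.trans a g).left ⁻¹ᵁ (W.ι ''ᵁ O)) := by
      rw [htr', W.ι.preimage_image_eq, hOst]; exact hy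
    exact h1

end Groth.Agent.S16112
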