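import Groth.Statements.S16115
import Groth.Agent.AlgGrpLib.UnitsOnProducts

set_option autoImplicit false
universe u
open CategoryTheory MonoidalCategory CartesianMonoidalCategory MonObj GrpObj AlgebraicGeometry CategoryTheory.Limits
open AlgGrp

namespace Groth.Agent.S16115

/-- Over an algebraically closed field k, let G be a connected algebraic group (a smooth connected
k-group scheme of finite type) and X an irreducible variety (an integral separated k-scheme of
finite type). Then every unit f of Γ(G × X, O) is of the form p₁^*(χ) · p₂^*(u) with χ a character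
of G (a unit of Γ(G, O_G) with e^*(χ) = 1 and m^*(χ) = p₁^*(χ) · p₂^*(χ)) and u a unit of Γ(X, O_X).
(The published statement asserts that the product map from characters of G times units of X to units
of G × X is an isomorphism; injectivity is immediate by restriction to e × X and is not restated.) -/
theorem result (k : Type u) [Field k] [IsAlgClosed k]
    (G X : Over (Spec (CommRingCat.of k))) [GrpObj G] [Smooth G.hom] [QuasiCompact G.hom] [ConnectedSpace ↥G.left]
    [IsIntegral X.left] [IsSeparated X.hom] [LocallyOfFiniteType X.hom] [QuasiCompact X.hom]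
    (f : Γ((G ⊗ X).left, ⊤)) (hf : IsUnit f) :
    ∃ (χ : Γ(G.left, ⊤)) (u : Γ(X.left, ⊤)), IsUnit χ ∧ η[G].left.appTop χ = 1 ∧
      μ[G].left.appTop χ = (fst G G).left.appTop χ * (snd G G).left.appTop χ ∧ IsUnit u ∧
      f = (fst G X).left.appTop χ * (snd G X).left.appTop u := by
  have : AlgebraicGeometry.IsReduced G.left := Groth.Agent.WeilLib.isReduced_of_smooth G.hom
  obtain ⟨e'⟩ := Groth.Agent.AlgGrpLib.exists_point (X := X)
  obtain ⟨c, hc, hce, h⟩ := Groth.Agent.AlgGrpLib.unit_eq_mul η[G] e' hf
  generalize hχ : (lift (𝟙 G) (toUnit G ≫ e')).left.appTop f = χ₀ at h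
  have hχ₀ : IsUnit χ₀ := hχ ▸ hf.map _
  have hηc : η[G].left.appTop χ₀ * c = 1 := by
    rw [← hχ, ← Groth.Agent.AlgGrpLib.appTop_comp, mul_comm c] at *
    rw [show η[G] ≫ lift (𝟙 G) (toUnit G ≫ e') = lift η[G] e' by ext : 1 <;> simp]
    exact hce
  have he : η[G].left.appTop (χ₀ * (toUnit G).left.appTop c) = 1 := by
    rw [map_mul, ← Groth.Agent.AlgGrpLib.appTop_comp, toUnit_unique (η[G] ≫ toUnit G) (𝟙 _)]
    simpa using hηc
  have hu : IsUnit (χ₀ * (toUnit G).left.appTop c) := hχ₀.mul (hc.map _)
  refine ⟨_, (lift (toUnit X ≫ η[G]) (𝟙 X)).left.appTop f, hu, he,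
    Groth.Agent.AlgGrpLib.comul_unit_eq_mul G _ hu he, hf.map _, h.trans ?_⟩
  simp only [map_mul, ← Groth.Agent.AlgGrpLib.appTop_comp]
  rw [toUnit_unique (fst G X ≫ toUnit G) (toUnit (G ⊗ X)), toUnit_unique (snd G X ≫ toUnit X) (toUnit (G ⊗ X))]
  ring

end Groth.Agent.S16115
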