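import Groth.Statements.S16116
import Groth.Agent.AlgGrpLib.UnitsOnProducts

set_option autoImplicit false
universe u
open CategoryTheory MonoidalCategory CartesianMonoidalCategory MonObj GrpObj AlgebraicGeometry CategoryTheory.Limits
open AlgGrp

namespace Groth.Agent.S16116

/-- Over an algebraically closed field k, let G be a connected algebraic group (a smooth connected
k-group scheme of finite type) acting by σ on an irreducible variety X (an integral separated
k-scheme of finite type), and let f be a unit of Γ(X, O_X). Then f is a semi-invariant: there is a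
unique character χ of G (a unit of Γ(G, O_G) with e^*(χ) = 1 and m^*(χ) = p₁^*(χ) · p₂^*(χ)) such
that σ^*(f) = p₁^*(χ) · p₂^*(f) in Γ(G × X, O). -/
theorem result (k : Type u) [Field k] [IsAlgClosed k]
    (G X : Over (Spec (CommRingCat.of k))) [GrpObj G] [Smooth G.hom] [QuasiCompact G.hom] [ConnectedSpace ↥G.left]
    [IsIntegral X.left] [IsSeparated X.hom] [LocallyOfFiniteType X.hom] [QuasiCompact X.hom] (a : AlgGrp.Action G X)
    (f : Γ(X.left, ⊤)) (hf : IsUnit f) :
    ∃! χ : Γ(G.left, ⊤), IsUnit χ ∧ η[G].left.appTop χ = 1 ∧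
      μ[G].left.appTop χ = (fst G G).left.appTop χ * (snd G G).left.appTop χ ∧
      a.act.left.appTop f = (fst G X).left.appTop χ * (snd G X).left.appTop f := by
  have : AlgebraicGeometry.IsReduced G.left := Groth.Agent.WeilLib.isReduced_of_smooth G.hom
  obtain ⟨x⟩ := Groth.Agent.AlgGrpLib.exists_point (X := X)
  obtain ⟨w, hw⟩ := (hf.map x.left.appTop.hom).exists_left_inv
  have hwu : IsUnit w := IsUnit.of_mul_eq_one _ hw
  -- the orbit map
  have hcomp : ∀ (T : Over (Spec (CommRingCat.of k))) (t : T ⟶ X),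
      lift (toUnit T ≫ η[G]) t ≫ a.act = t := by
    intro T t
    rw [show lift (toUnit T ≫ η[G]) t = (lift (toUnit T) t) ≫ (η[G] ▷ X) by ext : 1 <;> simp,
      Category.assoc, a.one_act]
    simp
  let χ : Γ(G.left, ⊤) := (lift (𝟙 G) (toUnit G ≫ x) ≫ a.act).left.appTop f * (toUnit G).left.appTop w
  have hu : IsUnit χ := (hf.map _).mul (hwu.map _)
  have he : η[G].left.appTop χ = 1 := by
    simp only [χ, map_mul, ← Groth.Agent.AlgGrpLib.appTop_comp]
    rw [show η[G] ≫ lift (𝟙 G) (toUnit G ≫ x) ≫ a.act = x by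
        rw [← Category.assoc, show η[G] ≫ lift (𝟙 G) (toUnit G ≫ x) = lift (toUnit (𝟙_ _) ≫ η[G]) x by
          ext : 1 <;> simp]
        exact hcomp _ x,
      toUnit_unique (η[G] ≫ toUnit G) (𝟙 _)]
    simpa [mul_comm] using hw
  refine ⟨χ, ⟨hu, he, Groth.Agent.AlgGrpLib.comul_unit_eq_mul G χ hu he, ?_⟩, ?_⟩
  · refine Groth.Agent.AlgGrpLib.unit_eq_of_axes η[G] x (hf.map _) ((hu.map _).mul (hf.map _)) ?_ ?_
    · simp only [χ, map_mul, ← Groth.Agent.AlgGrpLib.appTop_comp, lift_fst_assoc, lift_snd, Category.id_comp,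
        lift_fst]
      rw [Groth.Agent.AlgGrpLib.appTop_comp (toUnit G) x, _root_.mul_assoc, ← map_mul, hw, map_one, _root_.mul_one]
    · simp only [map_mul, ← Groth.Agent.AlgGrpLib.appTop_comp, lift_fst, lift_snd]
      rw [hcomp X (𝟙 X), Groth.Agent.AlgGrpLib.appTop_comp, he, map_one, _root_.one_mul]
  · rintro χ' ⟨-, -, -, h⟩
    have h' := congrArg (lift (𝟙 G) (toUnit G ≫ x)).left.appTop h
    simp only [map_mul, ← Groth.Agent.AlgGrpLib.appTop_comp, lift_fst, lift_snd] at h'
    simp only [χ]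
    rw [h', Groth.Agent.AlgGrpLib.appTop_comp (toUnit G) x, _root_.mul_assoc, ← map_mul, mul_comm _ w, hw, map_one, _root_.mul_one]
    simp

end Groth.Agent.S16116
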