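import Groth.Statements.S16119
import Groth.Agent.AlgGrpLib.PicActionDiff

set_option autoImplicit false
set_option backward.isDefEq.respectTransparency.types false
universe u
open CategoryTheory MonoidalCategory CartesianMonoidalCategory MonObj GrpObj AlgebraicGeometry CategoryTheory.Limits
open AlgGrp

namespace Groth.Agent.S16119

/-- Over an algebraically closed field k, let G be a connected linear algebraic group (an affine,
smooth, connected k-group scheme) acting by σ on a normal irreducible variety X (an integral normal
separated k-scheme of finite type); assume the Picard group laws on G, X and G × X, with pullback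
along σ and along the projection p₂ : G × X → X multiplicative. Let n be the exponent of the group
Pic(G) (a finite group). Then for every invertible O_X-module L with class c, σ^*(L^{⊗n}) ≅
p₂^*(L^{⊗n}): σ^*(cⁿ) = p₂^*(cⁿ) in Pic(G × X). (The published statement concludes that L^{⊗n}
admits a G-linearization; its argument establishes the displayed isomorphism, which is equivalent to
G-linearizability of L^{⊗n}; that equivalence is not restated here.) -/
theorem result (k : Type u) [Field k] [IsAlgClosed k]
    (G X : Over (Spec (CommRingCat.of k))) [GrpObj G] [IsAffine G.left] [Smooth G.hom] [ConnectedSpace ↥G.left]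
    [IsIntegral X.left] [IsSeparated X.hom] [LocallyOfFiniteType X.hom] [QuasiCompact X.hom]
    (hX : Pi1.IsNormalScheme X.left) (a : AlgGrp.Action G X)
    [PicGrp.Law G.left] [PicGrp.Law X.left] [PicGrp.Law (G ⊗ X).left]
    (hσ : PicGrp.PullMul a.act.left) (hp : PicGrp.PullMul (snd G X).left) (c : PicLoc.PicSet X.left) :
    PicGrp.pullHom a.act.left hσ (c ^ Monoid.exponent (PicLoc.PicSet G.left)) =
      PicGrp.pullHom (snd G X).left hp (c ^ Monoid.exponent (PicLoc.PicSet G.left)) := by
  haveI : LocallyOfFiniteType X.hom := inferInstance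
  obtain ⟨x⟩ : Nonempty (𝟙_ (Over (Spec (CommRingCat.of k))) ⟶ X) := by
    haveI : JacobsonSpace X.left := LocallyOfFiniteType.jacobsonSpace X.hom
    obtain ⟨z, -, hz⟩ := nonempty_inter_closedPoints (Z := (Set.univ : Set X.left)) Set.univ_nonempty
      isOpen_univ.isLocallyClosed
    exact ⟨Over.homMk (pointOfClosedPoint X.hom z hz) (pointOfClosedPoint_comp X.hom z hz)⟩
  -- to and from the monoid of invertible classes
  let toM : ∀ (Z : Scheme.{u}), PicLoc.PicSet Z → Groth.Agent.PicLib.PicM Z := fun _ c => ⟨c.1, c.2⟩
  have hval : ∀ {Z : Scheme.{u}} [PicGrp.Law Z] (c : PicLoc.PicSet Z) (m : ℕ),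
      toM Z (c ^ m) = toM Z c ^ m := by
    intro Z _ c m
    induction m with
    | zero => rw [pow_zero, pow_zero]; exact Groth.Agent.PicLib.PicM.ext PicGrp.one_val
    | succ m ih => rw [pow_succ, pow_succ, ← ih]; exact Groth.Agent.PicLib.PicM.ext (PicGrp.mul_val _ _)
  set N := Monoid.exponent (PicLoc.PicSet G.left)
  let u : PicLoc.PicSet G.left :=
    ⟨PicF.pullCl (a.orbitMap x).left c.1, PicLoc.isInvertibleCl_pullCl _ c.2⟩
  have hu : Groth.Agent.PicLib.PicM.pull (a.orbitMap x).left (toM _ (c ^ N)) = 1 := by
    rw [hval, map_pow, show Groth.Agent.PicLib.PicM.pull (a.orbitMap x).left (toM _ c) = toM _ u from rfl, ← hval,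
      Monoid.pow_exponent_eq_one]
    exact Groth.Agent.PicLib.PicM.ext PicGrp.one_val
  have key := Groth.Agent.AlgGrpLib.PicActionDiff.act_pull_eq G X hX a x (toM _ (c ^ N))
  rw [hu, map_one, _root_.one_mul] at key
  exact Subtype.ext (congrArg Groth.Agent.PicLib.PicM.val key)

end Groth.Agent.S16119
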