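import Groth.Statements.S16120
import Groth.Agent.AlgGrpLib.PicProdNormal
import Groth.Agent.AlgGrpLib.PicActionDiff
import Groth.Agent.AlgGrpLib.UnitsOnProducts

set_option autoImplicit false
set_option backward.isDefEq.respectTransparency.types false
universe u
open CategoryTheory MonoidalCategory CartesianMonoidalCategory MonObj GrpObj AlgebraicGeometry CategoryTheory.Limits
open PicGrp

namespace Groth.Agent.S16120

/-- Over an algebraically closed field k, let X and Y be normal irreducible varieties (integral normal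
separated k-schemes of finite type) and assume X rational: some nonempty open subscheme of X is
isomorphic over k to an open subscheme of an affine space 𝔸ⁿ_k. Assume the Picard group laws on X, Y
and X × Y, with pullback along the two projections multiplicative. Then the map Pic(X) × Pic(Y) →
Pic(X × Y), (c, d) ↦ p₁^*(c) · p₂^*(d), is bijective. (The published companion assertion on divisor
class groups is not stated here.) -/
theorem result (k : Type u) [Field k] [IsAlgClosed k]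
    (X Y : Over (Spec (CommRingCat.of k))) [IsIntegral X.left] [IsSeparated X.hom] [LocallyOfFiniteType X.hom] [QuasiCompact X.hom]
    [IsIntegral Y.left] [IsSeparated Y.hom] [LocallyOfFiniteType Y.hom] [QuasiCompact Y.hom]
    (hX : Pi1.IsNormalScheme X.left) (hY : Pi1.IsNormalScheme Y.left)
    (hrat : ∃ (U : X.left.Opens) (n : ℕ) (V : (𝔸(ULift.{u} (Fin n); Spec (CommRingCat.of k))).Opens)
      (e : (U : Scheme.{u}) ≅ (V : Scheme.{u})), (U : Set ↥X.left).Nonempty ∧
        e.hom ≫ V.ι ≫ (𝔸(ULift.{u} (Fin n); Spec (CommRingCat.of k)) ↘ Spec (CommRingCat.of k)) = U.ι ≫ X.hom)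
    [PicGrp.Law X.left] [PicGrp.Law Y.left] [PicGrp.Law (X ⊗ Y).left]
    (h₁ : PicGrp.PullMul (fst X Y).left) (h₂ : PicGrp.PullMul (snd X Y).left) :
    Function.Bijective (fun cd : PicLoc.PicSet X.left × PicLoc.PicSet Y.left =>
      PicGrp.pullHom (fst X Y).left h₁ cd.1 * PicGrp.pullHom (snd X Y).left h₂ cd.2) := by
  classical
  let toM : ∀ (Z : Scheme.{u}), PicLoc.PicSet Z → Groth.Agent.PicLib.PicM Z := fun _ c => ⟨c.1, c.2⟩
  have hinjM : ∀ {Z : Scheme.{u}} (c c' : PicLoc.PicSet Z), toM Z c = toM Z c' → c = c' :=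
    fun c c' h => Subtype.ext (congrArg Groth.Agent.PicLib.PicM.val h)
  have hval : ∀ c d, toM _ (PicGrp.pullHom (fst X Y).left h₁ c * PicGrp.pullHom (snd X Y).left h₂ d) =
      Groth.Agent.PicLib.PicM.pull (fst X Y).left (toM _ c) * Groth.Agent.PicLib.PicM.pull (snd X Y).left (toM _ d) :=
    fun c d => Groth.Agent.PicLib.PicM.ext (PicGrp.mul_val _ _)
  haveI : IsNoetherian Y.left :=
    { toIsLocallyNoetherian := LocallyOfFiniteType.isLocallyNoetherian Y.hom
      toCompactSpace := QuasiCompact.compactSpace_of_compactSpace Y.hom }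
  obtain ⟨U, n, V, e, hUne, he⟩ := hrat
  let W : Over (Spec (CommRingCat.of k)) := Over.mk (U.ι ≫ X.hom)
  let iU : W ⟶ X := Over.homMk U.ι rfl
  haveI : Nonempty W.left := ⟨⟨_, hUne.some_mem⟩⟩
  haveI : LocallyOfFiniteType W.hom := inferInstanceAs (LocallyOfFiniteType (U.ι ≫ X.hom))
  obtain ⟨w₀⟩ : Nonempty (𝟙_ (Over (Spec (CommRingCat.of k))) ⟶ W) := by
    haveI : JacobsonSpace W.left := LocallyOfFiniteType.jacobsonSpace W.hom
    obtain ⟨z, -, hz⟩ := nonempty_inter_closedPoints (Z := (Set.univ : Set W.left)) Set.univ_nonempty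
      isOpen_univ.isLocallyClosed
    exact ⟨Over.homMk (pointOfClosedPoint W.hom z hz) (pointOfClosedPoint_comp W.hom z hz)⟩
  obtain ⟨y₀⟩ := Groth.Agent.AlgGrpLib.exists_point (X := Y)
  let x₀ := w₀ ≫ iU
  let j₁ : X ⟶ X ⊗ Y := lift (𝟙 X) (toUnit X ≫ y₀)
  let j₂ : Y ⟶ X ⊗ Y := lift (toUnit Y ≫ x₀) (𝟙 Y)
  have hpull : ∀ c d,
      Groth.Agent.PicLib.PicM.pull j₁.left (Groth.Agent.PicLib.PicM.pull (fst X Y).left c *
        Groth.Agent.PicLib.PicM.pull (snd X Y).left d) = c ∧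
      Groth.Agent.PicLib.PicM.pull j₂.left (Groth.Agent.PicLib.PicM.pull (fst X Y).left c *
        Groth.Agent.PicLib.PicM.pull (snd X Y).left d) = d := by
    intro c d
    simp only [map_mul, Groth.Agent.PicLib.PicM.pull_pull, ← Over.comp_left, j₁, j₂, lift_fst, lift_snd,
      Groth.Agent.AlgGrpLib.PicActionDiff.pull_const]
    exact ⟨(_root_.mul_one _).trans (Groth.Agent.PicLib.PicM.pull_id c),
      (_root_.one_mul _).trans (Groth.Agent.PicLib.PicM.pull_id d)⟩
  refine ⟨fun cd cd' h => ?_, fun D => ?_⟩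
  · have h' := congrArg (toM _) h
    simp only [hval] at h'
    refine Prod.ext (hinjM _ _ ?_) (hinjM _ _ ?_)
    · rw [← (hpull (toM _ cd.1) (toM _ cd.2)).1, h', (hpull _ _).1]
    · rw [← (hpull (toM _ cd.1) (toM _ cd.2)).2, h', (hpull _ _).2]
  let c := Groth.Agent.PicLib.PicM.pull j₁.left (toM _ D)
  let d := Groth.Agent.PicLib.PicM.pull j₂.left (toM _ D)
  refine ⟨(⟨c.val, c.prop⟩, ⟨d.val, d.prop⟩), hinjM _ _ ((hval _ _).trans ?_)⟩
  show Groth.Agent.PicLib.PicM.pull (fst X Y).left c * Groth.Agent.PicLib.PicM.pull (snd X Y).left d = toM _ D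
  obtain ⟨E, hE⟩ := Groth.Agent.PicLib.PicM.exists_mul_eq_one
    (Groth.Agent.PicLib.PicM.pull (fst X Y).left c * Groth.Agent.PicLib.PicM.pull (snd X Y).left d)
  refine (Groth.Agent.PicLib.PicM.eq_of_mul_inv hE ?_).symm
  set D' := toM _ D * E with hD'
  have hj1 : Groth.Agent.PicLib.PicM.pull j₁.left D' = 1 := by
    have h := congrArg (Groth.Agent.PicLib.PicM.pull j₁.left) hE
    rw [map_mul, map_one, (hpull c d).1] at h
    rw [hD', map_mul]
    exact h
  have hj2 : Groth.Agent.PicLib.PicM.pull j₂.left D' = 1 := by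
    have h := congrArg (Groth.Agent.PicLib.PicM.pull j₂.left) hE
    rw [map_mul, map_one, (hpull c d).2] at h
    rw [hD', map_mul]
    exact h
  refine Groth.Agent.AlgGrpLib.PicProdNormal.eq_one_of_open_normal X Y hX hY y₀ U hUne D' ?_ hj1
  obtain ⟨bb, hbb⟩ : ∃ bb : W.left ⟶ 𝔸(ULift.{u} (Fin n); Spec (CommRingCat.of k)), bb = e.hom ≫ V.ι := ⟨_, rfl⟩
  haveI : IsOpenImmersion bb := by rw [hbb]; infer_instance
  have hb' : bb ≫ (𝔸(ULift.{u} (Fin n); Spec (CommRingCat.of k)) ↘ Spec (CommRingCat.of k)) = W.hom := by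
    rw [hbb, Category.assoc]; exact he
  let Φ : Y ⊗ W ⟶ X ⊗ Y := lift (snd Y W ≫ iU) (fst Y W)
  suffices h : Groth.Agent.PicLib.PicM.pull Φ.left D' = 1 by
    let P' : Over (Spec (CommRingCat.of k)) := Over.mk (((fst X Y).left ⁻¹ᵁ U).ι ≫ (X ⊗ Y).hom)
    let ι' : P' ⟶ X ⊗ Y := Over.homMk ((fst X Y).left ⁻¹ᵁ U).ι rfl
    let w : P' ⟶ W := Over.homMk (IsOpenImmersion.lift U.ι (ι' ≫ fst X Y).left (by
        rw [Scheme.Opens.range_ι]; rintro _ ⟨s, rfl⟩; exact s.2))
      (by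
        show IsOpenImmersion.lift _ _ _ ≫ U.ι ≫ X.hom = _
        rw [← Category.assoc, IsOpenImmersion.lift_fac]; exact Over.w (ι' ≫ fst X Y))
    have hw : w ≫ iU = ι' ≫ fst X Y := Over.OverMorphism.ext (IsOpenImmersion.lift_fac _ _ _)
    have hι : lift (ι' ≫ snd X Y) w ≫ Φ = ι' := by
      apply hom_ext
      · simp only [Φ, Category.assoc, lift_fst, lift_snd_assoc, hw]
      · simp only [Φ, Category.assoc, lift_snd, lift_fst]
    show Groth.Agent.PicLib.PicM.pull ι'.left D' = 1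
    rw [← hι, Over.comp_left, ← Groth.Agent.PicLib.PicM.pull_pull, h, map_one]
  have hslice : Groth.Agent.PicLib.PicM.pull (lift (𝟙 Y) (toUnit Y ≫ w₀) ≫ Φ).left D' = 1 := by
    have e' : lift (𝟙 Y) (toUnit Y ≫ w₀) ≫ Φ = j₂ := by
      simp only [Φ, j₂, x₀, comp_lift, lift_snd_assoc, lift_fst, Category.assoc]
    rw [e', hj2]
  let ee : pullback Y.hom (bb ≫ (𝔸(ULift.{u} (Fin n); Spec (CommRingCat.of k)) ↘ Spec (CommRingCat.of k))) ≅
      (Y ⊗ W).left := pullback.congrHom rfl hb'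
  obtain ⟨c₀, ⟨hc₀i, hc₀⟩, -⟩ := Groth.Agent.PicNormal23.existsUnique_pullCl_eq bb w₀.left
    ((congrArg (w₀.left ≫ ·) hb').trans (Over.w w₀)) Y.hom hY
    (Groth.Agent.PicLib.PicM.pull ee.hom (Groth.Agent.PicLib.PicM.pull Φ.left D')).val
    (Groth.Agent.PicLib.PicM.pull ee.hom (Groth.Agent.PicLib.PicM.pull Φ.left D')).prop
  have hc : Groth.Agent.PicLib.PicM.pull (pullback.fst _ _) (⟨c₀, hc₀i⟩ : Groth.Agent.PicLib.PicM Y.left) =
      Groth.Agent.PicLib.PicM.pull ee.hom (Groth.Agent.PicLib.PicM.pull Φ.left D') :=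
    Groth.Agent.PicLib.PicM.ext hc₀
  have h2 : ((lift (𝟙 Y) (toUnit Y ≫ w₀)).left ≫ ee.inv) ≫ pullback.fst Y.hom
      (bb ≫ (𝔸(ULift.{u} (Fin n); Spec (CommRingCat.of k)) ↘ Spec (CommRingCat.of k))) = 𝟙 Y.left := by
    rw [Category.assoc, show ee.inv ≫ pullback.fst _ _ = (fst Y W).left by
      rw [Iso.inv_comp_eq]
      show _ = (pullback.congrHom rfl hb').hom ≫ pullback.fst Y.hom W.hom
      rw [pullback.congrHom_hom]
      exact ((pullback.lift_fst _ _ _).trans (Category.comp_id _)).symm]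
    exact congrArg CommaMorphism.left (lift_fst (𝟙 Y) (toUnit Y ≫ w₀))
  have h3 := congrArg (Groth.Agent.PicLib.PicM.pull ((lift (𝟙 Y) (toUnit Y ≫ w₀)).left ≫ ee.inv)) hc
  rw [Groth.Agent.PicLib.PicM.pull_pull, h2, Groth.Agent.PicLib.PicM.pull_id, Groth.Agent.PicLib.PicM.pull_pull,
    Category.assoc, Iso.inv_hom_id, Category.comp_id, Groth.Agent.PicLib.PicM.pull_pull, ← Over.comp_left,
    hslice] at h3
  rw [h3, map_one] at hc
  have h4 := congrArg (Groth.Agent.PicLib.PicM.pull ee.inv) hc.symm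
  rwa [Groth.Agent.PicLib.PicM.pull_pull, Iso.inv_hom_id, Groth.Agent.PicLib.PicM.pull_id, map_one] at h4

end Groth.Agent.S16120
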