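import Groth.Statements.S16124
import Groth.Agent.Misc15.GalForms

set_option autoImplicit false
universe u
open CategoryTheory MonoidalCategory CartesianMonoidalCategory MonObj GrpObj AlgebraicGeometry CategoryTheory.Limits
open AlgGrp

namespace Groth.Agent.S16124

/-- Over an algebraically closed field k, let X be a quasi-projective variety (a reduced separated
k-scheme, quasi-projective over k) with an action of a finite group Γ by k-automorphisms. Then X is
covered by Γ-stable affine open subschemes: every point x of X lies in an affine open U with σ⁻¹(U)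
= U for every σ in Γ. -/
theorem result (k : Type u) [Field k] [IsAlgClosed k]
    (X : Over (Spec (CommRingCat.of k))) [IsReduced X.left] [IsSeparated X.hom] (hX : RelProj.IsQuasiProjective X.hom)
    (Γgrp : Type u) [Group Γgrp] [Finite Γgrp] (ρ : Γgrp →* Aut X.left)
    (hρ : ∀ σ : Γgrp, (ρ σ).hom ≫ X.hom = X.hom) (x : ↥X.left) :
    ∃ U : X.left.Opens, x ∈ U ∧ IsAffineOpen U ∧ ∀ σ : Γgrp, (ρ σ).hom ⁻¹ᵁ U = U := by
  classical
  obtain ⟨V, hV, hZ⟩ := Groth.Agent.Misc15.GalDescent.exists_affine_of_finite hX
    (Set.range fun σ : Γgrp => (ρ σ).hom x) (Set.finite_range _)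
  haveI : X.left.IsSeparated := ⟨by rw [← terminal.comp_from X.hom]; infer_instance⟩
  let W : Γgrp → X.left.Opens := fun σ => (ρ σ).hom ⁻¹ᵁ V
  have hW : ∀ σ, IsAffineOpen (W σ) := fun σ => by
    haveI : IsIso (ρ σ).hom := Iso.isIso_hom (ρ σ)
    exact hV.preimage_of_isIso _
  letI := Fintype.ofFinite Γgrp
  have hne : (Finset.univ : Finset Γgrp).Nonempty := ⟨1, Finset.mem_univ _⟩
  refine ⟨Finset.univ.inf' hne W, ?_, ?_, fun σ => ?_⟩
  · have : ∀ s (hs : s.Nonempty), x ∈ Finset.inf' s hs W := by
      intro s hs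
      induction hs using Finset.Nonempty.cons_induction with
      | singleton a => rw [Finset.inf'_singleton]; exact hZ ⟨a, rfl⟩
      | cons a s ha hs ih => rw [Finset.inf'_cons hs]; exact ⟨hZ ⟨a, rfl⟩, ih⟩
    exact this _ hne
  · have : ∀ s (hs : s.Nonempty), IsAffineOpen (Finset.inf' s hs W) := by
      intro s hs
      induction hs using Finset.Nonempty.cons_induction with
      | singleton a => simpa using hW a
      | cons a s ha hs ih => rw [Finset.inf'_cons hs]; exact (hW a).inf ih
    exact this _ hne
  · have hmem : ∀ y : ↥X.left, y ∈ Finset.univ.inf' hne W ↔ ∀ τ, (ρ τ).hom y ∈ V := by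
      intro y
      have : ∀ s (hs : s.Nonempty), y ∈ Finset.inf' s hs W ↔ ∀ τ ∈ s, (ρ τ).hom y ∈ V := by
        intro s hs
        induction hs using Finset.Nonempty.cons_induction with
        | singleton a => simp [W]
        | cons a s ha hs ih =>
          rw [Finset.inf'_cons hs]
          simp only [Finset.mem_cons, forall_eq_or_imp]
          exact and_congr Iff.rfl ih
      simp [this]
    ext y
    have hmul : ∀ τ, (ρ (τ * σ)).hom y = (ρ τ).hom ((ρ σ).hom y) := fun τ => by
      rw [map_mul]; rfl
    show (ρ σ).hom y ∈ Finset.univ.inf' hne W ↔ y ∈ Finset.univ.inf' hne W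
    rw [hmem, hmem]
    refine ⟨fun h τ => ?_, fun h τ => (hmul τ) ▸ h (τ * σ)⟩
    have := h (τ * σ⁻¹)
    rwa [← hmul, inv_mul_cancel_right] at this

end Groth.Agent.S16124
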