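import Groth.Statements.S16127
import Mathlib.AlgebraicGeometry.Sites.Fpqc
import Mathlib.AlgebraicGeometry.Morphisms.Flat
import Groth.Agent.AlgGrpLib.SubgroupCalc
import Mathlib.Algebra.Polynomial.Eval.Defs

set_option autoImplicit false
universe u
open CategoryTheory MonoidalCategory CartesianMonoidalCategory MonObj GrpObj AlgebraicGeometry CategoryTheory.Limits
open AlgGrp

namespace Groth.Agent.S16127

/-- Over an algebraically closed field k, let G be an algebraic group (a smooth k-group scheme of finite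
type) acting by σ on a variety X, and let f : X → Y be a principal G-bundle over a variety Y (X, Y
reduced separated k-schemes of finite type; f flat and surjective, the square σ, p₂ : G × X → X, f,
f cartesian). Then f^* identifies Γ(Y, O_Y) with the invariants Γ(X, O_X)^G: f^* on global sections
is injective and its range is the set of global functions s on X with σ^*(s) = p₂^*(s). -/
theorem result (k : Type u) [Field k] [IsAlgClosed k]
    (G X Y : Over (Spec (CommRingCat.of k))) [GrpObj G] [Smooth G.hom] [QuasiCompact G.hom]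
    [IsReduced X.left] [IsSeparated X.hom] [LocallyOfFiniteType X.hom] [QuasiCompact X.hom]
    [IsReduced Y.left] [IsSeparated Y.hom] [LocallyOfFiniteType Y.hom] [QuasiCompact Y.hom]
    (a : AlgGrp.Action G X) (f : X ⟶ Y) [Flat f.left] [Surjective f.left]
    (hsq : IsPullback a.act.left (snd G X).left f.left f.left) :
    Function.Injective (f.left.appTop) ∧
      Set.range (f.left.appTop) = {s : Γ(X.left, ⊤) | a.act.left.appTop s = (snd G X).left.appTop s} := by
  haveI := Groth.Agent.AlgGrpLib.quasiCompact_left f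
  let R := CommRingCat.of (Polynomial (ULift.{u} ℤ))
  let Λ : ∀ (Z : Scheme.{u}) (s : Γ(Z, ⊤)), Z ⟶ Spec R := fun Z s =>
    Z.toSpecΓ ≫ Spec.map (CommRingCat.ofHom (Polynomial.eval₂RingHom ((Int.castRingHom _).comp ULift.ringEquiv.toRingHom) s))
  let T : Γ(Spec R, ⊤) := (Scheme.ΓSpecIso R).inv Polynomial.X
  have hΛ : ∀ Z s, (Λ Z s).appTop T = s := by
    intro Z s
    simp only [Λ, T, Scheme.Hom.comp_appTop, CommRingCat.comp_apply, Scheme.toSpecΓ_appTop]
    rw [← CommRingCat.comp_apply (Scheme.ΓSpecIso R).inv, ← Scheme.ΓSpecIso_inv_naturality, CommRingCat.comp_apply,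
      ← CommRingCat.comp_apply (Scheme.ΓSpecIso Γ(Z, ⊤)).inv, Iso.inv_hom_id, CommRingCat.id_apply]
    exact Polynomial.eval₂_X _ _
  have hext : ∀ {Z : Scheme.{u}} (u v : Z ⟶ Spec R), u.appTop T = v.appTop T → u = v := by
    intro Z u v h
    refine ext_of_isAffine ?_
    rw [← cancel_epi (Scheme.ΓSpecIso R).inv]
    refine CommRingCat.hom_ext (Polynomial.ringHom_ext' ?_ h)
    exact RingHom.ext fun z => by
      obtain ⟨z⟩ := z
      have h0 : (⟨z⟩ : ULift.{u} ℤ) = (z : ULift.{u} ℤ) := by ext; simp
      rw [h0, map_intCast, map_intCast]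
  have hinj : Function.Injective f.left.appTop := by
    intro y y' h
    have h1 : Λ Y.left y = Λ Y.left y' := by
      rw [← cancel_epi f.left]
      refine hext _ _ ?_
      simp only [Scheme.Hom.comp_appTop, CommRingCat.comp_apply, hΛ, h]
    rw [← hΛ Y.left y, h1, hΛ]
  refine ⟨hinj, Set.ext fun s => ⟨?_, fun hs => ?_⟩⟩
  · rintro ⟨y, rfl⟩
    show _ = _
    rw [← CommRingCat.comp_apply, ← CommRingCat.comp_apply, ← Scheme.Hom.comp_appTop, ← Scheme.Hom.comp_appTop, hsq.w]
  · have hd : ∀ {W : Scheme.{u}} (g₁ g₂ : W ⟶ X.left), g₁ ≫ f.left = g₂ ≫ f.left →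
        g₁ ≫ Λ X.left s = g₂ ≫ Λ X.left s := fun {W} g₁ g₂ h => by
      rw [← hsq.lift_fst g₁ g₂ h, Category.assoc]
      conv_rhs => rw [← hsq.lift_snd g₁ g₂ h, Category.assoc]
      congr 1
      refine hext _ _ ?_
      simp only [Scheme.Hom.comp_appTop, CommRingCat.comp_apply, hΛ]
      exact hs
    refine ⟨(EffectiveEpi.desc f.left (Λ X.left s) hd).appTop T, ?_⟩
    rw [← CommRingCat.comp_apply, ← Scheme.Hom.comp_appTop, EffectiveEpi.fac, hΛ]

end Groth.Agent.S16127
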