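import Groth.Statements.S16128
import Groth.Agent.AlgGrpLib.PicActionDiff
import Groth.Agent.AlgGrpLib.LinearisationDescent

set_option autoImplicit false
set_option backward.isDefEq.respectTransparency.types false
universe u
open CategoryTheory MonoidalCategory CartesianMonoidalCategory MonObj GrpObj AlgebraicGeometry CategoryTheory.Limits
open AlgGrp

namespace Groth.Agent.S16128

/-- Over an algebraically closed field k, let G be a connected linear algebraic group (an affine,
smooth, connected k-group scheme), and f : X → Y a principal G-bundle between normal irreducible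
varieties (X, Y integral normal separated k-schemes of finite type; σ the action on X; f flat and
surjective with the square σ, p₂, f, f cartesian). Let x be a k-point of X with orbit map α_x : G →
X, g ↦ g · x, and assume the Picard group laws on G, X and Y with pullback along f and along α_x
multiplicative. Then the sequence Pic(Y) → Pic(X) → Pic(G) is exact at Pic(X): a class c satisfies
α_x^*(c) = 1 if and only if c lies in the image of f^*. -/
theorem result (k : Type u) [Field k] [IsAlgClosed k]
    (G X Y : Over (Spec (CommRingCat.of k))) [GrpObj G] [IsAffine G.left] [Smooth G.hom] [ConnectedSpace ↥G.left]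
    [IsIntegral X.left] [IsSeparated X.hom] [LocallyOfFiniteType X.hom] [QuasiCompact X.hom] (hX : Pi1.IsNormalScheme X.left)
    [IsIntegral Y.left] [IsSeparated Y.hom] [LocallyOfFiniteType Y.hom] [QuasiCompact Y.hom] (hY : Pi1.IsNormalScheme Y.left)
    (a : AlgGrp.Action G X) (f : X ⟶ Y) [Flat f.left] [Surjective f.left]
    (hsq : IsPullback a.act.left (snd G X).left f.left f.left)
    (x : 𝟙_ (Over (Spec (CommRingCat.of k))) ⟶ X)
    [PicGrp.Law G.left] [PicGrp.Law X.left] [PicGrp.Law Y.left]
    (hf : PicGrp.PullMul f.left) (hα : PicGrp.PullMul (a.orbitMap x).left) (c : PicLoc.PicSet X.left) :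
    PicGrp.pullHom (a.orbitMap x).left hα c = 1 ↔ c ∈ (PicGrp.pullHom f.left hf).range := by
  let toM : ∀ (Z : Scheme.{u}), PicLoc.PicSet Z → Groth.Agent.PicLib.PicM Z := fun _ c => ⟨c.1, c.2⟩
  have hone : ∀ {Z : Scheme.{u}} [PicGrp.Law Z] (d : PicLoc.PicSet Z), d = 1 ↔ toM Z d = 1 := fun {Z} _ d =>
    ⟨fun h => Groth.Agent.PicLib.PicM.ext ((congrArg Subtype.val h).trans PicGrp.one_val),
      fun h => Subtype.ext ((congrArg Groth.Agent.PicLib.PicM.val h).trans PicGrp.one_val.symm)⟩
  constructor
  · intro hc
    have hu : Groth.Agent.PicLib.PicM.pull (a.orbitMap x).left (toM _ c) = 1 := (hone _).1 hc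
    have key := Groth.Agent.AlgGrpLib.PicActionDiff.act_pull_eq G X hX a x (toM _ c)
    rw [hu, map_one, _root_.one_mul] at key
    obtain ⟨L, hL, rfl⟩ := PicGrp.exists_eq_cls c
    obtain ⟨φ⟩ := (Groth.Agent.PicLib.PicM.of_eq_iff (PicLoc.isInvertible_pullback a.act.left hL)
      (PicLoc.isInvertible_pullback (snd G X).left hL)).1 key
    haveI : QuasiCompact G.hom := inferInstance
    obtain ⟨N, hN, ⟨i⟩⟩ := Groth.Agent.AlgGrpLib.LinearisationDescent.exists_descent G X Y a f hsq L hL φ.symm
    exact ⟨PicGrp.cls N hN, Subtype.ext ((PicGrp.cl_eq_cl_iff _ _).2 ⟨i⟩)⟩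
  · rintro ⟨d, rfl⟩
    refine (hone _).2 ?_
    have hw : a.act ≫ f = snd G X ≫ f := Over.OverMorphism.ext hsq.w
    have hconst : a.orbitMap x ≫ f = toUnit G ≫ (x ≫ f) := by
      have h := congrArg (lift (𝟙 G) (toUnit G ≫ x) ≫ ·) hw
      simp only [lift_snd_assoc, Category.assoc] at h
      exact (Category.assoc _ _ _).trans h
    show Groth.Agent.PicLib.PicM.pull (a.orbitMap x).left (Groth.Agent.PicLib.PicM.pull f.left (toM _ d)) = 1
    rw [Groth.Agent.PicLib.PicM.pull_pull, ← Over.comp_left, hconst]
    exact Groth.Agent.AlgGrpLib.PicActionDiff.pull_const _ _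

end Groth.Agent.S16128
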