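import Groth.Statements.S16129
import Groth.Agent.AlgGrpLib.HomogQuotProj
import Groth.Agent.AlgGrpLib.IsotrivialBundle
import Groth.Agent.AlgGrpLib.LocIsotrivial
import Groth.Agent.FlatLocal.Descent
import Groth.Agent.AlgSpLib.SmoothSource
import Groth.Agent.AbSchLib.SmoothReduced

set_option autoImplicit false
set_option backward.isDefEq.respectTransparency.types false
set_option maxHeartbeats 1600000
universe u
open CategoryTheory MonoidalCategory CartesianMonoidalCategory MonObj GrpObj AlgebraicGeometry CategoryTheory.Limits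
open AlgGrp

namespace Groth.Agent.S16129

/-- Over an algebraically closed field k, let G be a linear algebraic group (an affine smooth k-group
scheme), h : H → G a closed subgroup (H a smooth k-group scheme, h a homomorphism and a closed
immersion), and f : X → Y a principal G-bundle between varieties (X, Y reduced separated k-schemes
of finite type; σ the action; f flat and surjective with the square σ, p₂, f, f cartesian). Then f
factors as f = ψ ∘ φ where φ : X → Z is a principal H-bundle for the action of H on X through h (Z a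
reduced separated k-scheme of finite type; φ flat surjective with the corresponding cartesian
square) and ψ : Z → Y is smooth and surjective. (The published statement adds that the factorization
is unique, that the fibres of ψ are isomorphic to G/H, and that ψ is a G/H-bundle when H is normal;
these are not stated here.) -/
theorem result (k : Type u) [Field k] [IsAlgClosed k]
    (G H X Y : Over (Spec (CommRingCat.of k))) [GrpObj G] [IsAffine G.left] [Smooth G.hom]
    [GrpObj H] [Smooth H.hom] [QuasiCompact H.hom] (h : H ⟶ G) [IsMonHom h] [IsClosedImmersion h.left]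
    [IsReduced X.left] [IsSeparated X.hom] [LocallyOfFiniteType X.hom] [QuasiCompact X.hom]
    [IsReduced Y.left] [IsSeparated Y.hom] [LocallyOfFiniteType Y.hom] [QuasiCompact Y.hom]
    (a : AlgGrp.Action G X) (f : X ⟶ Y) [Flat f.left] [Surjective f.left]
    (hsq : IsPullback a.act.left (snd G X).left f.left f.left) :
    ∃ (Z : Over (Spec (CommRingCat.of k))) (φ : X ⟶ Z) (ψ : Z ⟶ Y),
      IsReduced Z.left ∧ IsSeparated Z.hom ∧ LocallyOfFiniteType Z.hom ∧ QuasiCompact Z.hom ∧
      φ ≫ ψ = f ∧ Flat φ.left ∧ Surjective φ.left ∧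
      IsPullback (a.restrict h).act.left (snd H X).left φ.left φ.left ∧ Smooth ψ.left ∧ Surjective ψ.left := by
  classical
  haveI hqcG : QuasiCompact G.hom := (quasiCompact_iff_compactSpace _).mpr inferInstance
  haveI : Mono h := (Over.forget (Spec (CommRingCat.of k))).mono_of_mono_map (inferInstanceAs (Mono h.left))
  obtain ⟨GH, aG, o, ⟨n, m, hm, hmw⟩, hlft, hqc, hfl, hsu, sq⟩ :=
    Groth.Agent.AlgGrpLib.HomogQuotProj.exists_quotient_projMono G H h
  haveI := hlft
  haveI := hqc
  haveI := hfl
  haveI := hsu
  haveI := hm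
  haveI : IsReduced G.left := AbSchLib.isReduced_of_smooth G.hom
  haveI : IsReduced GH.left := AlgSpLib.isReduced_of_flat_surjective (aG.orbitMap o).left
  haveI := RelVALib.isProper_toBase n (Spec (CommRingCat.of k))
  haveI : IsSeparated GH.hom := by rw [← hmw]; infer_instance
  haveI : LocallyOfFiniteType m := by
    haveI : LocallyOfFiniteType (m ≫ CohB1.ProjSpaceOver.toBase n (Spec (CommRingCat.of k))) := by rw [hmw]; infer_instance
    exact locallyOfFiniteType_of_comp m (CohB1.ProjSpaceOver.toBase n (Spec (CommRingCat.of k)))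
  haveI : LocallyOfFinitePresentation G.hom := inferInstance
  haveI : LocallyOfFinitePresentation (aG.orbitMap o).left := by
    haveI : LocallyOfFinitePresentation ((aG.orbitMap o).left ≫ GH.hom) := by rw [Over.w]; infer_instance
    exact H8Lim.lfp_cancel_right (aG.orbitMap o).left GH.hom
  haveI : Smooth GH.hom := AlgSpLib.smooth_of_comp_fppf (aG.orbitMap o).left GH.hom (by rw [Over.w]; infer_instance)
  have hF : Groth.Agent.AlgGrpLib.IsotrivialBundle.FiniteInAffine GH.left :=
    fun F => Groth.Agent.AlgGrpLib.HomogQuotProj.exists_affine_of_mono m F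
  haveI : QuasiCompact f.left := by
    haveI : QuasiCompact (f.left ≫ Y.hom) := by rw [Over.w]; infer_instance
    exact QuasiCompact.of_comp f.left Y.hom
  haveI : IsLocallyNoetherian Y.left := LocallyOfFiniteType.isLocallyNoetherian Y.hom
  have hcart : IsPullback a.act (snd G X) f f := by
    refine IsPullback.of_map (Over.forget _) ?_ hsq
    exact Over.OverMorphism.ext hsq.w
  have hloc : Groth.Agent.AlgGrpLib.IsotrivialBundle.LocIsotrivial f.left := by
    intro y
    obtain ⟨U, hy, U', p, h1, h2, h3, s, hs⟩ := Groth.Agent.AlgGrpLib.LocIsotrivial.locallyIsotrivial_smooth a f hcart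
      (Groth.Agent.AlgGrpLib.AssociatedBundle.isLocallyTrivialFor_self f.left) y
    exact ⟨U, hy, U', p, s, h1, h2, h3, hs⟩
  obtain ⟨W, φW, ψ, hinvW, hp⟩ := Groth.Agent.AlgGrpLib.IsotrivialBundle.exists_bundle a f hsq hloc aG hF
  haveI : Smooth f.left := by
    have h1 : Smooth (snd G X).left := MorphismProperty.pullback_snd (P := @Smooth) _ _ ‹Smooth G.hom›
    exact MorphismProperty.of_isPullback_of_descendsAlong (P := @Smooth) (Q := @Surjective ⊓ @Flat ⊓ @QuasiCompact)
      hsq.flip ⟨⟨inferInstance, inferInstance⟩, inferInstance⟩ h1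
  haveI : LocallyOfFinitePresentation f.left := inferInstance
  haveI : Smooth (fst X GH).left := MorphismProperty.pullback_fst (P := @Smooth) _ _ ‹Smooth GH.hom›
  haveI : IsSeparated (fst X GH).left := MorphismProperty.pullback_fst (P := @IsSeparated) _ _ ‹IsSeparated GH.hom›
  haveI : QuasiCompact (fst X GH).left := MorphismProperty.pullback_fst (P := @QuasiCompact) _ _ ‹QuasiCompact GH.hom›
  haveI : IsSeparated ψ.left :=
    Et18.descends_isSeparated.of_isPullback hp ⟨⟨inferInstance, inferInstance⟩, inferInstance⟩ inferInstance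
  haveI : Smooth ψ.left :=
    MorphismProperty.of_isPullback_of_descendsAlong (P := @Smooth) (Q := @Surjective ⊓ @Flat ⊓ @QuasiCompact)
      hp ⟨⟨inferInstance, inferInstance⟩, inferInstance⟩ inferInstance
  haveI : Flat φW.left := MorphismProperty.of_isPullback hp inferInstance
  haveI : Surjective φW.left := MorphismProperty.of_isPullback hp inferInstance
  haveI : LocallyOfFinitePresentation φW.left := MorphismProperty.of_isPullback hp inferInstance
  let ι₀ : X ⟶ X ⊗ GH := lift (𝟙 X) (toUnit X ≫ o)
  let φ : X ⟶ W := ι₀ ≫ φW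
  have hφψ : φ ≫ ψ = f := by
    have e : φW ≫ ψ = fst X GH ≫ f := Over.OverMorphism.ext hp.w.symm
    simp only [φ, ι₀, Category.assoc, e, lift_fst_assoc, Category.id_comp]
  have hsqW := Groth.Agent.AlgGrpLib.AssociatedBundle.isPullback_prod a f hsq aG φW ψ hinvW hp
  let shift : G ⊗ X ⟶ X ⊗ GH := (G ◁ ι₀) ≫ (a.prod aG).act
  let e : G ⊗ X ≅ X ⊗ G :=
    { hom := lift a.act (fst G X)
      inv := lift (snd X G) (lift (snd X G)⁻¹ (fst X G) ≫ a.act)
      hom_inv_id := by
        apply CartesianMonoidalCategory.hom_ext
        · simp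
        · rw [Category.assoc, lift_snd, ← Category.assoc, comp_lift, GrpObj.comp_inv, lift_snd, lift_fst,
            Category.id_comp]
          conv_lhs => arg 1; arg 2; rw [← Category.id_comp a.act, ← lift_fst_snd]
          rw [← Groth.Agent.AlgGrpLib.SpecialExtension.act_mul, inv_mul_cancel,
            Groth.Agent.AlgGrpLib.SpecialExtension.act_one]
      inv_hom_id := by
        apply CartesianMonoidalCategory.hom_ext
        · rw [Category.assoc, lift_fst, Category.id_comp, ← Groth.Agent.AlgGrpLib.SpecialExtension.act_mul, mul_inv_cancel,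
            Groth.Agent.AlgGrpLib.SpecialExtension.act_one]
        · simp }
  have horb : ∀ {T : Over (Spec (CommRingCat.of k))} (g : T ⟶ G),
      g ≫ aG.orbitMap o = lift g (toUnit T ≫ o) ≫ aG.act := fun g => by
    rw [AlgGrp.Action.orbitMap, ← Category.assoc, comp_lift, Category.comp_id, ← Category.assoc, comp_toUnit]
  have hshift : shift = e.hom ≫ (X ◁ aG.orbitMap o) := by
    have e1 : G ◁ ι₀ = lift (fst G X) (snd G X ≫ ι₀) := by
      apply CartesianMonoidalCategory.hom_ext <;> simp
    show (G ◁ ι₀) ≫ (a.prod aG).act = lift a.act (fst G X) ≫ (X ◁ aG.orbitMap o)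
    rw [e1, Groth.Agent.AlgGrpLib.AssociatedBundle.prod_act_pts, lift_whiskerLeft]
    congr 1
    · simp only [ι₀, Category.assoc, lift_fst, Category.comp_id, lift_fst_snd, Category.id_comp]
    · rw [horb]
      simp only [ι₀, Category.assoc, lift_snd]
      simp only [← Category.assoc, comp_toUnit]
  haveI : IsIso e.hom.left := ((Over.forget (Spec (CommRingCat.of k))).mapIso e).isIso_hom
  haveI : Flat (X ◁ aG.orbitMap o).left :=
    MorphismProperty.pullbackMap (P := @Flat) (inferInstanceAs (Flat (𝟙 X.left))) ‹Flat (aG.orbitMap o).left›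
      (Category.id_comp X.hom).symm (Over.w _).symm
  haveI : Surjective (X ◁ aG.orbitMap o).left :=
    MorphismProperty.pullbackMap (P := @Surjective) (inferInstanceAs (Surjective (𝟙 X.left))) ‹Surjective (aG.orbitMap o).left›
      (Category.id_comp X.hom).symm (Over.w _).symm
  have hsh : (shift ≫ φW) = snd G X ≫ φ := by
    show ((G ◁ ι₀) ≫ (a.prod aG).act) ≫ φW = snd G X ≫ ι₀ ≫ φW
    rw [Category.assoc, hinvW, whiskerLeft_snd_assoc]
  have hshl : shift.left ≫ φW.left = (snd G X).left ≫ φ.left := congrArg CommaMorphism.left hsh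
  haveI : Flat shift.left := by rw [hshift, Over.comp_left]; infer_instance
  haveI : Surjective shift.left := by rw [hshift, Over.comp_left]; infer_instance
  haveI : Surjective G.hom := ⟨fun y => ⟨η[G].left y, Subsingleton.elim _ _⟩⟩
  haveI : Surjective (snd G X).left := MorphismProperty.pullback_snd (P := @Surjective) _ _ ‹Surjective G.hom›
  haveI : Flat (snd G X).left := MorphismProperty.pullback_snd (P := @Flat) _ _ (inferInstanceAs (Flat G.hom))
  haveI : Flat φ.left := by
    haveI : Flat ((snd G X).left ≫ φ.left) := by rw [← hshl]; infer_instance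
    exact Groth.Agent.FlatLocal.flat_of_comp (snd G X).left φ.left
  haveI : Surjective φ.left := by
    haveI : Surjective ((snd G X).left ≫ φ.left) := by rw [← hshl]; infer_instance
    exact Surjective.of_comp (snd G X).left φ.left
  haveI : Surjective ψ.left := by
    haveI : Surjective (φ.left ≫ ψ.left) := by rw [← Over.comp_left, hφψ]; infer_instance
    exact Surjective.of_comp φ.left ψ.left
  haveI : IsSeparated W.hom := by rw [← Over.w ψ]; infer_instance
  haveI : LocallyOfFiniteType W.hom := by rw [← Over.w ψ]; infer_instance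
  haveI : QuasiCompact W.hom := by
    haveI : QuasiCompact (φ.left ≫ W.hom) := by rw [Over.w]; infer_instance
    exact FlatMorThick.quasiCompact_of_comp_surjective φ.left W.hom
  refine ⟨W, φ, ψ, AlgSpLib.isReduced_of_flat_surjective φ.left, inferInstance, inferInstance, inferInstance, hφψ,
    inferInstance, inferInstance, ?_, inferInstance, inferInstance⟩
  have hstab : ∀ {T : Over (Spec (CommRingCat.of k))} (t : T ⟶ H), (t ≫ h) ≫ aG.orbitMap o = toUnit T ≫ o := by
    intro T t
    have e := Groth.Agent.AlgGrpLib.LocIsotrivial.orbit_invariant sq (1 : T ⟶ G) t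
    rw [_root_.one_mul] at e
    rw [e, AlgGrp.Action.orbitMap, ← Category.assoc, comp_lift, Category.comp_id, ← Category.assoc, comp_toUnit,
      Groth.Agent.AlgGrpLib.SpecialExtension.act_one]
  have hres : ∀ {T : Over (Spec (CommRingCat.of k))} (t : T ⟶ H) (x : T ⟶ X),
      lift t x ≫ (a.restrict h).act = lift (t ≫ h) x ≫ a.act := fun t x => by
    show lift t x ≫ (h ▷ X) ≫ a.act = _
    rw [lift_whiskerRight_assoc]
  refine (Groth.Agent.Stk19b.Quot.isPullback_of_existsUnique (a.restrict h) φ ?_ fun p p' hpp => ?_).map (Over.forget _)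
  · rw [← Category.id_comp (a.restrict h).act, ← lift_fst_snd, hres]
    have h1 : (lift (fst H X ≫ h) (snd H X) ≫ a.act) ≫ ι₀ =
        lift (fst H X ≫ h) (snd H X ≫ ι₀) ≫ (a.prod aG).act := by
      rw [Groth.Agent.AlgGrpLib.AssociatedBundle.prod_act_pts]
      apply CartesianMonoidalCategory.hom_ext
      · simp only [ι₀, Category.assoc, lift_fst, Category.comp_id]
      · simp only [ι₀, Category.assoc, lift_snd]
        simp only [← Category.assoc, comp_toUnit]
        rw [← horb, hstab]
    rw [← Category.assoc, h1, Category.assoc, hinvW, lift_snd_assoc, Category.assoc]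
  · obtain ⟨g, hg, hu⟩ := Groth.Agent.S16133.existsUnique_transl (a.prod aG) φW (hsqW.map (Over.forget _)) (p ≫ ι₀) (p' ≫ ι₀)
      (by simpa only [Category.assoc] using hpp.symm)
    have hg1 := congrArg (· ≫ fst X GH) hg
    have hg2 := congrArg (· ≫ snd X GH) hg
    simp only [Groth.Agent.AlgGrpLib.AssociatedBundle.prod_act_pts, lift_fst, lift_snd] at hg1 hg2
    simp only [ι₀, Category.assoc, lift_fst, lift_snd, Category.comp_id] at hg1 hg2
    rw [← Category.assoc, comp_toUnit, ← horb] at hg2
    obtain ⟨t, ht⟩ := Groth.Agent.AlgGrpLib.LocIsotrivial.isPullback_range sq 1 g (by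
      rw [hg2, horb, Groth.Agent.AlgGrpLib.SpecialExtension.act_one]
      simp only [← Category.assoc, comp_toUnit])
    rw [_root_.one_mul] at ht
    refine ⟨t, ?_, fun t' ht' => ?_⟩
    · show lift t p ≫ (a.restrict h).act = p'
      rw [hres, ht]; exact hg1
    · have ht'' : lift (t' ≫ h) p ≫ a.act = p' := by rw [← hres]; exact ht'
      rw [← cancel_mono h, ht]
      obtain ⟨g₁, -, hu₁⟩ := Groth.Agent.S16133.existsUnique_transl a f hsq p p' (by
        rw [← hφψ]
        simpa only [φ, Category.assoc] using (congrArg (· ≫ ψ) hpp).symm)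
      exact (hu₁ _ ht'').trans (hu₁ _ hg1).symm

end Groth.Agent.S16129
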