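import Groth.Statements.S16132
import Groth.Agent.AlgGrpLib.TorusQuot
import Groth.Agent.AlgGrpLib.AffineHullMain

open CategoryTheory.Limits Groth.Agent.SGA3cLib
open Groth.Agent.AlgGrpLib

set_option autoImplicit false
set_option backward.isDefEq.respectTransparency.types false
set_option maxHeartbeats 800000
universe u
open CategoryTheory MonoidalCategory CartesianMonoidalCategory MonObj GrpObj AlgebraicGeometry CategoryTheory.Limits
open AlgGrp

namespace Groth.Agent.S16132

/-- Over an algebraically closed field k, let G be a connected algebraic group (a smooth connected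
k-group scheme of finite type, not necessarily affine). Then G has a largest torus quotient through
which all characters factor: there are a torus T (isomorphic to the diagonalizable group of ℤ^r for
some r), a flat surjective homomorphism q : G → T such that every character χ : G → 𝔾_m is χ' ∘ q
for some character χ' of T, and a kernel h : H → G of q (a homomorphism from a k-group scheme H
making the square against the unit section of T cartesian) with H connected and every character of H
trivial. (So H is the smallest closed normal subgroup scheme of G with G/H a torus, and restriction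
identifies the characters of G/H with those of G.) -/
theorem result (k : Type u) [Field k] [IsAlgClosed k]
    (G : Over (Spec (CommRingCat.of k))) [GrpObj G] [Smooth G.hom] [QuasiCompact G.hom] [ConnectedSpace ↥G.left] :
    ∃ (r : ℕ) (T : Over (Spec (CommRingCat.of k))) (_ : GrpObj T) (_ : Red.IsSplitTorusWith (Fin r → ℤ) T)
      (q : G ⟶ T) (_ : IsMonHom q) (H : Over (Spec (CommRingCat.of k))) (_ : GrpObj H) (h : H ⟶ G) (_ : IsMonHom h),
      Flat q.left ∧ Surjective q.left ∧ AlgGrp.IsKernel h q ∧ ConnectedSpace ↥H.left ∧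
      (∀ χ : G ⟶ Red.Gm (Spec (CommRingCat.of k)), IsMonHom χ → ∃ χ' : T ⟶ Red.Gm (Spec (CommRingCat.of k)), IsMonHom χ' ∧ q ≫ χ' = χ) ∧
      (∀ ψ : H ⟶ Red.Gm (Spec (CommRingCat.of k)), IsMonHom ψ → ψ = 1) := by
  classical
  obtain ⟨gA, hρ, hρs, hρf, hAl⟩ := AffineHull.affinization (G := G)
  letI := gA
  haveI := hρ
  haveI := hρs
  haveI := hρf
  haveI := hAl
  let ρ := toAffOf G
  haveI : IsAffineHom (affOf G).hom := isAffineHom_of_isAffine _
  haveI : QuasiCompact ρ.left := Groth.Agent.AlgGrpLib.quasiCompact_left ρ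
  haveI : LocallyOfFinitePresentation ρ.left := ExactSeqBasics.locallyOfFinitePresentation_left ρ
  haveI : Smooth (affOf G).hom := by
    haveI : Smooth (ρ.left ≫ (affOf G).hom) := by rw [Over.w ρ]; infer_instance
    exact Groth.Agent.AlgSpLib.smooth_of_comp_fppf ρ.left (affOf G).hom (by assumption)
  haveI : ConnectedSpace (affOf G).left := ρ.left.surjective.connectedSpace ρ.left.continuous
  obtain ⟨r, qa, hu⟩ := TorusQuot.exists_univ (affOf G)
  haveI := hu.hom
  haveI := hu.flat
  haveI := hu.surj
  let q := ρ ≫ qa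
  haveI : IsAffine (Red.DS (Spec (CommRingCat.of k)) ℤ).left := SGA3cLib.MultEssFree.isAffine_DS _
  have huG : TorusQuot.IsUniv q := by
    refine ⟨inferInstance, by rw [Over.comp_left]; infer_instance, by rw [Over.comp_left]; infer_instance, fun χ hχ => ?_⟩
    haveI := hχ
    have hnat : G.left.toSpecΓ ≫ Spec.map χ.left.appTop ≫ (Red.Gm (Spec (CommRingCat.of k))).left.isoSpec.inv = χ.left :=
      (Category.assoc _ _ _).symm.trans ((congrArg (· ≫ (Red.Gm (Spec (CommRingCat.of k))).left.isoSpec.inv)
        (Scheme.toSpecΓ_naturality χ.left).symm).trans ((Category.assoc _ _ _).trans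
        ((congrArg (χ.left ≫ ·) (Scheme.toSpecΓ_isoSpec_inv _)).trans (Category.comp_id _))))
    let f : affOf G ⟶ Red.Gm (Spec (CommRingCat.of k)) :=
      Over.homMk (Spec.map χ.left.appTop ≫ (Red.Gm (Spec (CommRingCat.of k))).left.isoSpec.inv) (by
        haveI : Epi ρ.left := Flat.epi_of_flat_of_surjective _
        rw [← cancel_epi ρ.left, Over.w ρ, Category.assoc]
        exact ((Category.assoc _ _ _).trans (congrArg (G.left.toSpecΓ ≫ ·) (Category.assoc _ _ _))).symm.trans
          ((congrArg (· ≫ (Red.Gm (Spec (CommRingCat.of k))).hom) hnat).trans (Over.w χ)))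
    have hf : ρ ≫ f = χ := by
      refine Over.OverMorphism.ext ?_
      exact hnat
    haveI : IsMonHom f := TorusQuot.isMonHom_of_epi ρ f χ hf
    obtain ⟨m, hm⟩ := hu.lift f inferInstance
    exact ⟨m, by rw [Category.assoc, hm, hf]⟩
  haveI := huG.hom
  let h : pullback q η[Red.DS (Spec (CommRingCat.of k)) (Fin r → ℤ)] ⟶ G := pullback.fst _ _
  have hk : AlgGrp.IsKernel h q := by
    have h' := IsPullback.of_hasPullback q η[Red.DS (Spec (CommRingCat.of k)) (Fin r → ℤ)]
    rwa [toUnit_unique (pullback.snd q η[Red.DS (Spec (CommRingCat.of k)) (Fin r → ℤ)]) (toUnit _)] at h'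
  obtain ⟨gH, hh⟩ := Groth.Agent.AlgGrpLib.exists_grpObj_kernel q h hk
  letI := gH
  haveI := hh
  refine ⟨r, Red.DS (Spec (CommRingCat.of k)) (Fin r → ℤ), inferInstance, ⟨Iso.refl _⟩, q, huG.hom, _, gH, h, hh,
    huG.flat, huG.surj, hk, TorusQuot.connectedSpace_kernel huG h hk, fun χ hχ => ?_, fun ψ hψ => ?_⟩
  · obtain ⟨m, hm⟩ := huG.lift χ hχ
    exact ⟨Red.chi _ m, TorusQuot.isMonHom_chi m, hm⟩
  -- descend to the affine hull
  haveI := hψ
  let ha : pullback qa η[Red.DS (Spec (CommRingCat.of k)) (Fin r → ℤ)] ⟶ affOf G := pullback.fst _ _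
  have hka : AlgGrp.IsKernel ha qa := by
    have h' := IsPullback.of_hasPullback qa η[Red.DS (Spec (CommRingCat.of k)) (Fin r → ℤ)]
    rwa [toUnit_unique (pullback.snd qa η[Red.DS (Spec (CommRingCat.of k)) (Fin r → ℤ)]) (toUnit _)] at h'
  obtain ⟨gHa, hha⟩ := Groth.Agent.AlgGrpLib.exists_grpObj_kernel qa ha hka
  letI := gHa
  haveI := hha
  haveI : Mono h := kernel_mono hk
  haveI : Mono ha := kernel_mono hka
  obtain ⟨p, hp⟩ := exists_lift_kernel hka (g := h ≫ ρ) (by rw [Category.assoc]; exact kernel_comp hk)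
  haveI : IsMonHom p := TorusQuot.isMonHom_of_pts p fun X x y => by
    rw [← cancel_mono ha, Category.assoc, hp, MonObj.mul_comp _ _ ha, Category.assoc, Category.assoc, hp,
      MonObj.mul_comp _ _ (h ≫ ρ)]
  have hsq : IsPullback p h ha ρ := by
    refine IsPullback.of_isLimit' ⟨hp⟩ (PullbackCone.IsLimit.mk _
      (fun s => hk.lift s.snd (toUnit _) ?_) (fun s => ?_) (fun s => hk.lift_fst _ _ _) (fun s m h1 h2 => ?_))
    · rw [← Category.assoc, ← s.condition, Category.assoc, kernel_comp hka, MonObj.comp_one, Hom.one_def]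
    · rw [← cancel_mono ha, Category.assoc, hp, hk.lift_fst_assoc, s.condition]
    · exact hk.hom_ext (by rw [h2, hk.lift_fst]) (toUnit_unique _ _)
  haveI : Flat p.left := MorphismProperty.of_isPullback (P := @Flat) (hsq.map (Over.forget _)).flip (by assumption)
  haveI : Surjective p.left :=
    MorphismProperty.of_isPullback (P := @Surjective) (hsq.map (Over.forget _)).flip (by assumption)
  haveI : QuasiCompact p.left :=
    MorphismProperty.of_isPullback (P := @QuasiCompact) (hsq.map (Over.forget _)).flip (by assumption)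
  let u : pullback p η[pullback qa η[Red.DS (Spec (CommRingCat.of k)) (Fin r → ℤ)]] ⟶ pullback q η[Red.DS (Spec (CommRingCat.of k)) (Fin r → ℤ)] := pullback.fst _ _
  have hku : AlgGrp.IsKernel u p := by
    have h' := IsPullback.of_hasPullback p η[pullback qa η[Red.DS (Spec (CommRingCat.of k)) (Fin r → ℤ)]]
    rwa [toUnit_unique (pullback.snd p η[pullback qa η[Red.DS (Spec (CommRingCat.of k)) (Fin r → ℤ)]]) (toUnit _)] at h'
  obtain ⟨gU, hu'⟩ := Groth.Agent.AlgGrpLib.exists_grpObj_kernel p u hku
  letI := gU
  haveI := hu'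
  have hkρ : AlgGrp.IsKernel (u ≫ h) ρ := by
    haveI : Mono u := kernel_mono hku
    refine isKernel_of_points (u ≫ h) ρ ?_ fun X g hg => ?_
    · rw [Category.assoc, ← hp, ← Category.assoc, kernel_comp hku, MonObj.one_comp ha]
    · obtain ⟨g', hg'⟩ := exists_lift_kernel hk (g := g) (by rw [← Category.assoc, hg, MonObj.one_comp qa])
      obtain ⟨n, hn⟩ := exists_lift_kernel hku (g := g') (by
        rw [← cancel_mono ha, Category.assoc, hp, ← Category.assoc, hg', hg, MonObj.one_comp ha])
      exact ⟨n, by rw [← Category.assoc, hn, hg']⟩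
  haveI : IsSeparated G.hom := Groth.Agent.SGA3xLib.isSeparated_of_grpObj G
  haveI : IsClosedImmersion (u ≫ h).left := by
    haveI : IsClosedImmersion η[affOf G].left := isClosedImmersion_of_comp_eq_id (affOf G).hom η[affOf G].left (Over.w _)
    exact MorphismProperty.of_isPullback (P := @IsClosedImmersion) (hkρ.map (Over.forget _)).flip (by assumption)
  haveI : CompactSpace G.left := QuasiCompact.compactSpace_of_compactSpace G.hom
  haveI : CompactSpace (pullback p η[pullback qa η[Red.DS (Spec (CommRingCat.of k)) (Fin r → ℤ)]]).left :=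
    (u ≫ h).left.isClosedEmbedding.compactSpace
  haveI : IsLocallyNoetherian G.left := LocallyOfFiniteType.isLocallyNoetherian G.hom
  haveI : IsLocallyNoetherian (pullback p η[pullback qa η[Red.DS (Spec (CommRingCat.of k)) (Fin r → ℤ)]]).left :=
    LocallyOfFiniteType.isLocallyNoetherian (u ≫ h).left
  have hψu : u ≫ ψ = 1 := by
    rw [eq_const_of_affine (AffineHull.bijective_appTop_kernel G (u ≫ h) hkρ) η[_] (u ≫ ψ),
      (inferInstance : IsMonHom (u ≫ ψ)).one_hom, Hom.one_def]
  obtain ⟨ψa, hψa⟩ := ExactSeqBasics.exists_desc p hku ψ hψu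
  haveI : IsMonHom ψa := TorusQuot.isMonHom_of_epi p ψa ψ hψa
  rw [← hψa, TorusQuot.character_eq_one_of_affine hu ha hka ψa, MonObj.comp_one]

end Groth.Agent.S16132
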