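import Groth.Statements.S16133
import Groth.Agent.Desc19b.EffAffine
import Groth.Agent.Et18.Descent
import Groth.Agent.FBaseLib.Geom
import Mathlib.AlgebraicGeometry.Morphisms.LocalFlatDescent
import Mathlib.AlgebraicGeometry.Sites.Fpqc

set_option autoImplicit false
universe u
open CategoryTheory MonoidalCategory CartesianMonoidalCategory MonObj GrpObj AlgebraicGeometry CategoryTheory.Limits
open AlgGrp

namespace Groth.Agent.S16133

open Desc

section Datum

variable {k : Type u} [Field k] {G X Y Z : Over (Spec (CommRingCat.of k))} [GrpObj G]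
  (a : AlgGrp.Action G X) (f : X ⟶ Y) (hsq : IsPullback a.act.left (snd G X).left f.left f.left)
  (b : AlgGrp.Action G Z)

include hsq in
theorem existsUnique_transl {T : Over (Spec (CommRingCat.of k))} (x₀ x₁ : T ⟶ X) (h : x₀ ≫ f = x₁ ≫ f) :
    ∃! gm : T ⟶ G, lift gm x₀ ≫ a.act = x₁ := by
  have hl : x₁.left ≫ f.left = x₀.left ≫ f.left := (congrArg CommaMorphism.left h).symm
  let g : T ⟶ G ⊗ X := Over.homMk (hsq.lift x₁.left x₀.left hl) (by
    rw [← Over.w (snd G X), ← Category.assoc, hsq.lift_snd]; exact Over.w x₀)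
  have hg1 : g ≫ a.act = x₁ := Over.OverMorphism.ext (hsq.lift_fst _ _ _)
  have hg2 : g ≫ snd G X = x₀ := Over.OverMorphism.ext (hsq.lift_snd _ _ _)
  have hg : lift (g ≫ fst G X) x₀ = g := by rw [← hg2]; exact lift_comp_fst_snd g
  refine ⟨g ≫ fst G X, by simp only [hg]; exact hg1, fun gm hgm => ?_⟩
  have : lift gm x₀ = g := Over.OverMorphism.ext (hsq.hom_ext
    (by rw [← Over.comp_left, ← Over.comp_left, hgm, hg1])
    (by rw [← Over.comp_left, ← Over.comp_left, lift_snd, hg2]))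
  rw [← this, lift_fst]

/-- The translated point. -/
noncomputable def tr {T : Over (Spec (CommRingCat.of k))} (P : T ⟶ X ⊗ Z) (x₁ : T ⟶ X)
    (h : (P ≫ fst X Z) ≫ f = x₁ ≫ f) : T ⟶ X ⊗ Z :=
  lift x₁ (lift (existsUnique_transl a f hsq _ x₁ h).choose (P ≫ snd X Z) ≫ b.act)

theorem tr_eq {T : Over (Spec (CommRingCat.of k))} (P : T ⟶ X ⊗ Z) (x₁ : T ⟶ X)
    (h : (P ≫ fst X Z) ≫ f = x₁ ≫ f) (gm : T ⟶ G) (hgm : lift gm (P ≫ fst X Z) ≫ a.act = x₁) :
    tr a f hsq b P x₁ h = lift x₁ (lift gm (P ≫ snd X Z) ≫ b.act) := by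
  rw [tr, (existsUnique_transl a f hsq _ x₁ h).unique (existsUnique_transl a f hsq _ x₁ h).choose_spec.1 hgm]

theorem tr_fst {T : Over (Spec (CommRingCat.of k))} (P : T ⟶ X ⊗ Z) (x₁ : T ⟶ X)
    (h : (P ≫ fst X Z) ≫ f = x₁ ≫ f) : tr a f hsq b P x₁ h ≫ fst X Z = x₁ :=
  lift_fst _ _

theorem act_one {G' X' : Over (Spec (CommRingCat.of k))} [GrpObj G'] (c : AlgGrp.Action G' X')
    {T : Over (Spec (CommRingCat.of k))} (x : T ⟶ X') : lift (1 : T ⟶ G') x ≫ c.act = x := by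
  have e : lift (1 : T ⟶ G') x = lift (toUnit T) x ≫ (η[G'] ▷ X') := by
    rw [lift_whiskerRight, Hom.one_def]
  rw [e, Category.assoc, c.one_act, lift_leftUnitor_hom]

theorem act_mul {G' X' : Over (Spec (CommRingCat.of k))} [GrpObj G'] (c : AlgGrp.Action G' X')
    {T : Over (Spec (CommRingCat.of k))} (g h : T ⟶ G') (x : T ⟶ X') :
    lift (g * h) x ≫ c.act = lift g (lift h x ≫ c.act) ≫ c.act := by
  have e : lift (g * h) x = lift (lift g h) x ≫ (μ[G'] ▷ X') := by rw [lift_whiskerRight, Hom.mul_def]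
  rw [e, Category.assoc, c.mul_act, lift_lift_associator_hom_assoc, lift_whiskerLeft_assoc]

theorem tr_nat {T T' : Over (Spec (CommRingCat.of k))} (g : T' ⟶ T) (P : T ⟶ X ⊗ Z) (x₁ : T ⟶ X)
    (h : (P ≫ fst X Z) ≫ f = x₁ ≫ f) :
    g ≫ tr a f hsq b P x₁ h = tr a f hsq b (g ≫ P) (g ≫ x₁) (by simp only [Category.assoc] at h ⊢; rw [h]) := by
  rw [tr_eq a f hsq b (g ≫ P) (g ≫ x₁) _ (g ≫ (existsUnique_transl a f hsq _ x₁ h).choose) (by
    rw [Category.assoc, ← comp_lift_assoc, (existsUnique_transl a f hsq _ x₁ h).choose_spec.1])]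
  simp only [tr, comp_lift, comp_lift_assoc, Category.assoc]

theorem tr_self {T : Over (Spec (CommRingCat.of k))} (P : T ⟶ X ⊗ Z) :
    tr a f hsq b P (P ≫ fst X Z) rfl = P := by
  rw [tr_eq a f hsq b P _ rfl 1 (act_one a _), act_one b]
  exact lift_comp_fst_snd P

theorem tr_tr {T : Over (Spec (CommRingCat.of k))} (P : T ⟶ X ⊗ Z) (x₁ x₂ : T ⟶ X)
    (h : (P ≫ fst X Z) ≫ f = x₁ ≫ f) (h' : x₁ ≫ f = x₂ ≫ f) :
    tr a f hsq b (tr a f hsq b P x₁ h) x₂ (by rw [tr_fst, h']) = tr a f hsq b P x₂ (h.trans h') := by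
  obtain ⟨gm, hgm, -⟩ := existsUnique_transl a f hsq _ x₁ h
  obtain ⟨dm, hdm, -⟩ := existsUnique_transl a f hsq x₁ x₂ h'
  rw [tr_eq a f hsq b _ x₂ _ dm (by rw [tr_fst, hdm]), tr_eq a f hsq b P x₂ _ (dm * gm) (by rw [act_mul, hgm, hdm]),
    tr_eq a f hsq b P x₁ h gm hgm, lift_snd, act_mul]

/-- The structure morphism of the test object is immaterial. -/
theorem exists_val {T : Scheme.{u}} (v : T ⟶ (X ⊗ Z).left) (x₁ : T ⟶ X.left)
    (h : (v ≫ (fst X Z).left) ≫ f.left = x₁ ≫ f.left) :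
    ∃! r : T ⟶ (X ⊗ Z).left, ∀ (T' : Over (Spec (CommRingCat.of k))) (e : T'.left ⟶ T) (P : T' ⟶ X ⊗ Z)
      (X1 : T' ⟶ X) (hP : P.left = e ≫ v) (hX : X1.left = e ≫ x₁) (h' : (P ≫ fst X Z) ≫ f = X1 ≫ f),
      (tr a f hsq b P X1 h').left = e ≫ r := by
  let T₀ : Over (Spec (CommRingCat.of k)) := Over.mk (v ≫ (X ⊗ Z).hom)
  let P₀ : T₀ ⟶ X ⊗ Z := Over.homMk v
  have hw : x₁ ≫ X.hom = v ≫ (X ⊗ Z).hom := by
    rw [← Over.w f, ← Category.assoc, ← h, Category.assoc, Over.w f, Category.assoc, Over.w (fst X Z)]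
  let X₀ : T₀ ⟶ X := Over.homMk x₁ hw
  have h₀ : (P₀ ≫ fst X Z) ≫ f = X₀ ≫ f := Over.OverMorphism.ext h
  refine ⟨(tr a f hsq b P₀ X₀ h₀).left, fun T' e P X1 hP hX h' => ?_, fun r hr => ?_⟩
  · let g : T' ⟶ T₀ := Over.homMk e (by
      show e ≫ v ≫ (X ⊗ Z).hom = T'.hom
      rw [← Category.assoc, ← hP, Over.w P])
    have eP : P = g ≫ P₀ := Over.OverMorphism.ext hP
    have eX : X1 = g ≫ X₀ := Over.OverMorphism.ext hX
    simp only [eP, eX]
    exact (congrArg CommaMorphism.left (tr_nat a f hsq b g P₀ X₀ h₀)).symm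
  · exact ((hr T₀ (𝟙 _) P₀ X₀ (Category.id_comp _).symm (Category.id_comp _).symm h₀).trans (Category.id_comp _)).symm

/-- The translated point, on the underlying scheme. -/
noncomputable def val {T : Scheme.{u}} (v : T ⟶ (X ⊗ Z).left) (x₁ : T ⟶ X.left)
    (h : (v ≫ (fst X Z).left) ≫ f.left = x₁ ≫ f.left) : T ⟶ (X ⊗ Z).left :=
  (exists_val a f hsq b v x₁ h).choose

theorem val_eq {T : Over (Spec (CommRingCat.of k))} (P : T ⟶ X ⊗ Z) (x₁ : T ⟶ X)
    (h : (P ≫ fst X Z) ≫ f = x₁ ≫ f) :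
    val a f hsq b P.left x₁.left (congrArg CommaMorphism.left h) = (tr a f hsq b P x₁ h).left := by
  rw [(exists_val a f hsq b P.left x₁.left (congrArg CommaMorphism.left h)).choose_spec.1 T (𝟙 _) P x₁
    (Category.id_comp _).symm (Category.id_comp _).symm h, Category.id_comp]
  rfl

theorem exists_over {T : Scheme.{u}} (v : T ⟶ (X ⊗ Z).left) (x₁ : T ⟶ X.left)
    (h : (v ≫ (fst X Z).left) ≫ f.left = x₁ ≫ f.left) :
    ∃ (T₀ : Over (Spec (CommRingCat.of k))) (e : T₀.left = T) (P : T₀ ⟶ X ⊗ Z) (X₁ : T₀ ⟶ X),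
      eqToHom e ≫ v = P.left ∧ eqToHom e ≫ x₁ = X₁.left ∧ (P ≫ fst X Z) ≫ f = X₁ ≫ f := by
  have hw : x₁ ≫ X.hom = v ≫ (X ⊗ Z).hom := by
    rw [← Over.w f, ← Category.assoc, ← h, Category.assoc, Over.w f, Category.assoc, Over.w (fst X Z)]
  exact ⟨Over.mk (v ≫ (X ⊗ Z).hom), rfl, Over.homMk v, Over.homMk x₁ hw, Category.id_comp _, Category.id_comp _,
    Over.OverMorphism.ext h⟩

theorem val_fst {T : Scheme.{u}} (v : T ⟶ (X ⊗ Z).left) (x₁ : T ⟶ X.left)
    (h : (v ≫ (fst X Z).left) ≫ f.left = x₁ ≫ f.left) : val a f hsq b v x₁ h ≫ (fst X Z).left = x₁ := by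
  obtain ⟨T₀, rfl, P, X₁, hP, hX, h'⟩ := exists_over f v x₁ h
  simp only [eqToHom_refl, Category.id_comp] at hP hX
  subst hP hX
  rw [val_eq a f hsq b P X₁ h', ← Over.comp_left, tr_fst]

theorem val_self {T : Scheme.{u}} (v : T ⟶ (X ⊗ Z).left) (x₁ : T ⟶ X.left) (hx : v ≫ (fst X Z).left = x₁) :
    val a f hsq b v x₁ (by rw [hx]) = v := by
  subst hx
  obtain ⟨T₀, rfl, P, X₁, hP, hX, h'⟩ := exists_over f v (v ≫ (fst X Z).left) rfl
  simp only [eqToHom_refl, Category.id_comp] at hP hX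
  subst hP
  obtain rfl : X₁ = P ≫ fst X Z := Over.OverMorphism.ext hX.symm
  exact (val_eq a f hsq b P _ rfl).trans (congrArg CommaMorphism.left (tr_self a f hsq b P))

theorem val_val {T : Scheme.{u}} (v : T ⟶ (X ⊗ Z).left) (x₁ x₂ : T ⟶ X.left)
    (h : (v ≫ (fst X Z).left) ≫ f.left = x₁ ≫ f.left) (h' : x₁ ≫ f.left = x₂ ≫ f.left) :
    val a f hsq b (val a f hsq b v x₁ h) x₂ (by rw [val_fst]; exact h') = val a f hsq b v x₂ (h.trans h') := by
  obtain ⟨T₀, rfl, P, X₁, hP, hX, h₁⟩ := exists_over f v x₁ h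
  simp only [eqToHom_refl, Category.id_comp] at hP hX
  subst hP hX
  let X₂ : T₀ ⟶ X := Over.homMk x₂ (by
    rw [← Over.w f, ← Category.assoc, ← h', Category.assoc, Over.w f, Over.w X₁])
  have h₂ : X₁ ≫ f = X₂ ≫ f := Over.OverMorphism.ext h'
  simp only [val_eq a f hsq b P X₁ h₁]
  exact (val_eq a f hsq b _ X₂ (by rw [tr_fst, h₂])).trans
    ((congrArg CommaMorphism.left (tr_tr a f hsq b P X₁ X₂ h₁ h₂)).trans (val_eq a f hsq b P X₂ (h₁.trans h₂)).symm)

theorem val_nat {T T' : Scheme.{u}} (g : T' ⟶ T) (v : T ⟶ (X ⊗ Z).left) (x₁ : T ⟶ X.left)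
    (h : (v ≫ (fst X Z).left) ≫ f.left = x₁ ≫ f.left) :
    val a f hsq b (g ≫ v) (g ≫ x₁) (by simp only [Category.assoc] at h ⊢; rw [h]) = g ≫ val a f hsq b v x₁ h := by
  obtain ⟨T₀, rfl, P, X₁, hP, hX, h₁⟩ := exists_over f v x₁ h
  simp only [eqToHom_refl, Category.id_comp] at hP hX
  subst hP hX
  let g₀ : Over.mk (g ≫ T₀.hom) ⟶ T₀ := Over.homMk g
  rw [val_eq a f hsq b P X₁ h₁]
  exact (val_eq a f hsq b (g₀ ≫ P) (g₀ ≫ X₁) (by simp only [Category.assoc] at h₁ ⊢; rw [h₁])).trans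
    (congrArg CommaMorphism.left (tr_nat a f hsq b g₀ P X₁ h₁)).symm

theorem lift_cond {T : Scheme.{u}} {x₀ x₁ : T ⟶ X.left} (h : x₀ ≫ f.left = x₁ ≫ f.left)
    (v : Lifts (Over.mk (fst X Z).left) x₀) : (v.1 ≫ (fst X Z).left) ≫ f.left = x₁ ≫ f.left := by
  rw [show v.1 ≫ (fst X Z).left = x₀ from v.2]; exact h

/-- The descent datum of `X × Z` along `f`. -/
noncomputable def datum : SchDDFam (fun _ : PUnit.{u + 1} => f.left) where
  obj _ := Over.mk (fst X Z).left
  φ T i j x₀ x₁ h :=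
    { toFun := fun v => ⟨val a f hsq b v.1 x₁ (lift_cond f h v), val_fst a f hsq b _ _ _⟩
      invFun := fun v => ⟨val a f hsq b v.1 x₀ (lift_cond f h.symm v), val_fst a f hsq b _ _ _⟩
      left_inv := fun v => Subtype.ext
        ((val_val a f hsq b v.1 x₁ x₀ (lift_cond f h v) h.symm).trans (val_self a f hsq b v.1 x₀ v.2))
      right_inv := fun v => Subtype.ext
        ((val_val a f hsq b v.1 x₀ x₁ (lift_cond f h.symm v) h).trans (val_self a f hsq b v.1 x₁ v.2)) }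
  φ_natural T T' g i j x₀ x₁ h y₀ y₁ hy₀ hy₁ h' v v' hv' := by
    subst hy₀ hy₁
    show val a f hsq b v'.1 (g ≫ x₁) (lift_cond f h' v') = g ≫ val a f hsq b v.1 x₁ (lift_cond f h v)
    simp only [hv']
    exact val_nat a f hsq b g v.1 x₁ (lift_cond f h v)
  φ_self T i x v := by
    apply Subtype.ext
    exact val_self a f hsq b v.1 x v.2
  φ_comp T i j l x₀ x₁ x₂ h₀₁ h₁₂ v := by
    apply Subtype.ext
    exact val_val a f hsq b v.1 x₁ x₂ (lift_cond f h₀₁ v) h₁₂

end Datum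

/-- Over an algebraically closed field k, let G be an algebraic group (a smooth k-group scheme of finite
type), f : X → Y a principal G-bundle between varieties (X, Y reduced separated k-schemes of finite
type; σ the action on X; f flat and surjective with the square σ, p₂, f, f cartesian), and Z an
affine variety with an action τ of G. Then the associated fibre bundle X ×^G Z → Y exists: there are
a variety W (reduced, separated, of finite type over k), a morphism φ : X × Z → W which is invariant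
for the diagonal action g · (x, z) = (g · x, g · z), and a morphism ψ : W → Y such that the square
formed by p₁ : X × Z → X, φ, f and ψ is cartesian. (The published statement covers every
G-quasi-projective Z; affine G-varieties are G-quasi-projective, and only that case is stated here.) -/
theorem result (k : Type u) [Field k] [IsAlgClosed k]
    (G X Y Z : Over (Spec (CommRingCat.of k))) [GrpObj G] [Smooth G.hom] [QuasiCompact G.hom]
    [IsReduced X.left] [IsSeparated X.hom] [LocallyOfFiniteType X.hom] [QuasiCompact X.hom]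
    [IsReduced Y.left] [IsSeparated Y.hom] [LocallyOfFiniteType Y.hom] [QuasiCompact Y.hom]
    [IsReduced Z.left] [IsAffine Z.left] [LocallyOfFiniteType Z.hom]
    (a : AlgGrp.Action G X) (f : X ⟶ Y) [Flat f.left] [Surjective f.left]
    (hsq : IsPullback a.act.left (snd G X).left f.left f.left) (b : AlgGrp.Action G Z) :
    ∃ (W : Over (Spec (CommRingCat.of k))) (φ : X ⊗ Z ⟶ W) (ψ : W ⟶ Y),
      IsReduced W.left ∧ IsSeparated W.hom ∧ LocallyOfFiniteType W.hom ∧ QuasiCompact W.hom ∧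
      lift ((G ◁ fst X Z) ≫ a.act) ((G ◁ snd X Z) ≫ b.act) ≫ φ = snd G (X ⊗ Z) ≫ φ ∧
      IsPullback (fst X Z).left φ.left f.left ψ.left := by
  haveI : LocallyOfFiniteType f.left := by
    haveI : LocallyOfFiniteType (f.left ≫ Y.hom) := by rw [Over.w f]; infer_instance
    exact locallyOfFiniteType_of_comp f.left Y.hom
  haveI : QuasiCompact f.left := by
    haveI : QuasiCompact (f.left ≫ Y.hom) := by rw [Over.w f]; infer_instance
    exact QuasiCompact.of_comp f.left Y.hom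
  haveI : IsAffineHom Z.hom := isAffineHom_of_isAffine _
  haveI hfa : IsAffineHom (fst X Z).left := MorphismProperty.pullback_fst (P := @IsAffineHom) X.hom Z.hom inferInstance
  haveI : LocallyOfFiniteType (fst X Z).left := inferInstanceAs (LocallyOfFiniteType (pullback.fst X.hom Z.hom))
  have hmem : Presieve.ofArrows (fun _ : PUnit.{u + 1} => X.left) (fun _ => f.left) ∈ Scheme.fpqcPrecoverage Y.left := by
    rw [Presieve.ofArrows_pUnit]; exact f.left.singleton_mem_fpqcPrecoverage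
  obtain ⟨U, ⟨e⟩⟩ := Groth.Agent.Desc19b.isEffective_of_isAffineHom hmem (datum a f hsq b) fun _ => hfa
  have e1 : ((e.inv.hom ⟨⟩).left ≫ (e.hom.hom ⟨⟩).left) = 𝟙 _ :=
    congrArg (fun q : datum a f hsq b ⟶ datum a f hsq b => (q.hom ⟨⟩).left) e.inv_hom_id
  have e2 : ((e.hom.hom ⟨⟩).left ≫ (e.inv.hom ⟨⟩).left) = 𝟙 _ :=
    congrArg (fun q : Desc.canonicalDDFam (fun _ : PUnit.{u + 1} => f.left) U ⟶ _ => (q.hom ⟨⟩).left) e.hom_inv_id
  let ei : (X ⊗ Z).left ≅ pullback f.left U.hom := ⟨(e.inv.hom ⟨⟩).left, (e.hom.hom ⟨⟩).left, e1, e2⟩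
  let q : (X ⊗ Z).left ⟶ U.left := (e.inv.hom ⟨⟩).left ≫ pullback.snd f.left U.hom
  have hfst : (e.inv.hom ⟨⟩).left ≫ pullback.fst f.left U.hom = (fst X Z).left := Over.w (e.inv.hom ⟨⟩)
  have hsq' : IsPullback (fst X Z).left q f.left U.hom := by
    refine IsPullback.of_iso_pullback ⟨?_⟩ ei hfst rfl
    rw [← hfst]
    exact (Category.assoc _ _ _).trans
      ((congrArg (fun r => (e.inv.hom ⟨⟩).left ≫ r) pullback.condition).trans (Category.assoc _ _ _).symm)
  let W : Over (Spec (CommRingCat.of k)) := Over.mk (U.hom ≫ Y.hom)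
  let φ : X ⊗ Z ⟶ W := Over.homMk q (by
    show q ≫ U.hom ≫ Y.hom = _
    rw [← Category.assoc, ← hsq'.w, Category.assoc, Over.w f, Over.w (fst X Z)])
  let ψ : W ⟶ Y := Over.homMk U.hom rfl
  haveI : Flat q := MorphismProperty.of_isPullback (P := @Flat) hsq' ‹Flat f.left›
  haveI : Surjective q := MorphismProperty.of_isPullback (P := @Surjective) hsq' ‹Surjective f.left›
  haveI hψ : IsAffineHom U.hom := Et18.descends_isAffineHom.of_isPullback (f := f.left) (g := U.hom)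
    hsq' ⟨⟨inferInstance, inferInstance⟩, inferInstance⟩ hfa
  haveI : LocallyOfFiniteType U.hom :=
    (inferInstance : MorphismProperty.DescendsAlong @LocallyOfFiniteType (@Surjective ⊓ @Flat ⊓ @QuasiCompact)).of_isPullback
      hsq' ⟨⟨inferInstance, inferInstance⟩, inferInstance⟩ inferInstance
  refine ⟨W, φ, ψ, ?_, ?_, ?_, ?_, ?_, hsq'⟩
  · haveI : IsReduced (X ⊗ Z).left := by
      haveI := Groth.Agent.AbVarLib.geometricallyReduced_of_perfectField X.hom
      exact Groth.Agent.FBaseLib.isReduced_pullback X.hom Z.hom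
    exact Groth.Agent.FlatMor12.isReduced_of_flat_surjective q
  · show IsSeparated (U.hom ≫ Y.hom); infer_instance
  · show LocallyOfFiniteType (U.hom ≫ Y.hom); infer_instance
  · show QuasiCompact (U.hom ≫ Y.hom); infer_instance
  · refine Over.OverMorphism.ext ?_
    let v : Desc.Lifts ((datum a f hsq b).obj ⟨⟩) ((snd G (X ⊗ Z)).left ≫ (fst X Z).left) := ⟨(snd G (X ⊗ Z)).left, rfl⟩
    let P := snd G (X ⊗ Z)
    let x₁ : G ⊗ (X ⊗ Z) ⟶ X := (G ◁ fst X Z) ≫ a.act
    have hinv : a.act ≫ f = snd G X ≫ f := Over.OverMorphism.ext hsq.w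
    have h : (P ≫ fst X Z) ≫ f = x₁ ≫ f := by
      simp only [P, x₁, Category.assoc, hinv, whiskerLeft_snd_assoc]
    have hl : (P.left ≫ (fst X Z).left) ≫ f.left = x₁.left ≫ f.left := congrArg CommaMorphism.left h
    have hc := e.inv.comm (i := ⟨⟩) (j := ⟨⟩) (P.left ≫ (fst X Z).left) x₁.left hl v (e.inv.push v) rfl
    have h2 := congrArg (· ≫ pullback.snd f.left U.hom) hc
    simp only [Desc.toDDFam, Desc.canonicalDDFam, Equiv.coe_fn_mk, Desc.canMapFam_val] at h2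
    erw [pullback.lift_snd] at h2
    have hd : ((datum a f hsq b).φ (i := ⟨⟩) (j := ⟨⟩) (P.left ≫ (fst X Z).left) x₁.left hl v).1 =
        (lift ((G ◁ fst X Z) ≫ a.act) ((G ◁ snd X Z) ≫ b.act)).left := by
      show val a f hsq b P.left x₁.left hl = _
      rw [val_eq a f hsq b P x₁ h, tr_eq a f hsq b P x₁ h (fst G (X ⊗ Z))
        (congrArg (· ≫ a.act) (by ext <;> simp [P]))]
      refine congrArg CommaMorphism.left (congrArg (lift x₁) (congrArg (· ≫ b.act) ?_))
      ext <;> simp [P]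
    rw [hd] at h2
    exact ((h2.trans (Category.assoc _ _ _)).symm.trans (Category.assoc _ _ _))

end Groth.Agent.S16133
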