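import Groth.Statements.S16134
import Groth.Agent.AlgGrpLib.GroupBundle
import Groth.Agent.AlgGrpLib.UnitsOnProducts
import Groth.Agent.Misc15.GalForms
import Groth.Agent.S16111

set_option autoImplicit false
set_option backward.isDefEq.respectTransparency.types false
universe u
open CategoryTheory MonoidalCategory CartesianMonoidalCategory MonObj GrpObj AlgebraicGeometry CategoryTheory.Limits
open AlgGrp

namespace Groth.Agent.S16134

/-- Over an algebraically closed field k, let G be a connected linear algebraic group (an affine,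
smooth, connected k-group scheme), f : X → Y a principal G-bundle between varieties (X, Y reduced
separated k-schemes of finite type; σ the action on X; f flat and surjective with the square σ, p₂,
f, f cartesian), and Z a normal irreducible variety (an integral normal separated k-scheme of finite
type) with an action τ of G. Then the associated fibre bundle X ×^G Z → Y exists: there are a
variety W (reduced, separated, of finite type over k), a morphism φ : X × Z → W invariant for the
diagonal action g · (x, z) = (g · x, g · z), and a morphism ψ : W → Y such that the square formed by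
p₁ : X × Z → X, φ, f and ψ is cartesian. (The published statement takes Z normal, possibly
reducible; it is stated here for irreducible Z.) -/
theorem result (k : Type u) [Field k] [IsAlgClosed k]
    (G X Y Z : Over (Spec (CommRingCat.of k))) [GrpObj G] [IsAffine G.left] [Smooth G.hom] [ConnectedSpace ↥G.left]
    [IsReduced X.left] [IsSeparated X.hom] [LocallyOfFiniteType X.hom] [QuasiCompact X.hom]
    [IsReduced Y.left] [IsSeparated Y.hom] [LocallyOfFiniteType Y.hom] [QuasiCompact Y.hom]
    [IsIntegral Z.left] [IsSeparated Z.hom] [LocallyOfFiniteType Z.hom] [QuasiCompact Z.hom] (hZ : Pi1.IsNormalScheme Z.left)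
    (a : AlgGrp.Action G X) (f : X ⟶ Y) [Flat f.left] [Surjective f.left]
    (hsq : IsPullback a.act.left (snd G X).left f.left f.left) (b : AlgGrp.Action G Z) :
    ∃ (W : Over (Spec (CommRingCat.of k))) (φ : X ⊗ Z ⟶ W) (ψ : W ⟶ Y),
      IsReduced W.left ∧ IsSeparated W.hom ∧ LocallyOfFiniteType W.hom ∧ QuasiCompact W.hom ∧
      lift ((G ◁ fst X Z) ≫ a.act) ((G ◁ snd X Z) ≫ b.act) ≫ φ = snd G (X ⊗ Z) ≫ φ ∧
      IsPullback (fst X Z).left φ.left f.left ψ.left := by
  haveI : Smooth (pullback.snd G.hom X.hom) := MorphismProperty.pullback_snd (P := @Smooth) _ _ inferInstance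
  haveI : QuasiCompact f.left := Groth.Agent.AlgGrpLib.quasiCompact_left f
  haveI : LocallyOfFinitePresentation f.left := Groth.Agent.AlgGrpLib.ExactSeqBasics.locallyOfFinitePresentation_left f
  have hcart : IsPullback a.act (snd G X) f f := IsPullback.of_map (Over.forget _)
    (Over.OverMorphism.ext hsq.w) hsq
  have hloc : Groth.Agent.AlgGrpLib.IsotrivialBundle.LocIsotrivial f.left := fun y => by
    obtain ⟨U, hy, U', p, h1, h2, h3, ⟨s, hs⟩⟩ := Groth.Agent.AlgGrpLib.LocIsotrivial.locallyIsotrivial_smooth a f hcart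
      (Groth.Agent.AlgGrpLib.AssociatedBundle.isLocallyTrivialFor_self f.left) y
    exact ⟨U, hy, U', p, s, h1, h2, h3, hs⟩
  have hfin : Groth.Agent.AlgGrpLib.IsotrivialBundle.StableFiniteInAffine b := fun z => by
    obtain ⟨U, hzU, hst, hqp⟩ := Groth.Agent.S16111.result k G Z hZ b z
    refine ⟨U, hzU, hst, fun F hF => ?_⟩
    obtain ⟨O, hO, hFO⟩ := Groth.Agent.Misc15.GalDescent.exists_affine_of_finite hqp
      (U.ι ⁻¹' (↑F : Set Z.left)) (F.finite_toSet.preimage U.ι.isOpenEmbedding.injective.injOn)
    exact ⟨U.ι ''ᵁ O, hO.image_of_isOpenImmersion _, fun y hy => ⟨⟨y, hF hy⟩, hFO hy, rfl⟩⟩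
  obtain ⟨W, φ, ψ, hinv, hp⟩ :=
    Groth.Agent.AlgGrpLib.IsotrivialBundle.exists_bundle_local a f hsq hloc b hfin
  obtain ⟨hqf, hqs, hqp', hqc⟩ := Groth.Agent.AlgGrpLib.GroupBundle.flat_fst hp
  haveI := hqf
  haveI := hqs
  haveI := hqp'
  haveI := hqc
  haveI : IsSeparated (fst X Z).left := MorphismProperty.pullback_fst (P := @IsSeparated) _ _ ‹IsSeparated Z.hom›
  haveI : LocallyOfFiniteType (fst X Z).left :=
    MorphismProperty.pullback_fst (P := @LocallyOfFiniteType) _ _ ‹LocallyOfFiniteType Z.hom›
  haveI : QuasiCompact (fst X Z).left := MorphismProperty.pullback_fst (P := @QuasiCompact) _ _ ‹QuasiCompact Z.hom›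
  haveI : LocallyOfFiniteType (X ⊗ Z).hom := by rw [← Over.w (fst X Z)]; infer_instance
  haveI : LocallyOfFinitePresentation (X ⊗ Z).hom := LocallyOfFinitePresentation.iff_locallyOfFiniteType.2 inferInstance
  haveI : QuasiCompact (X ⊗ Z).hom := by rw [← Over.w (fst X Z)]; infer_instance
  haveI : IsSeparated ψ.left :=
    Groth.Agent.Et18.descends_isSeparated.of_isPullback hp ⟨⟨inferInstance, inferInstance⟩, inferInstance⟩ inferInstance
  haveI : IsReduced (X ⊗ Z).left := Groth.Agent.AlgGrpLib.isReduced_tensor X Z
  haveI : LocallyOfFinitePresentation W.hom :=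
    Groth.Agent.AlgSpLib.lfp_of_comp_fppf φ.left W.hom (by rw [Over.w]; infer_instance)
  refine ⟨W, φ, ψ, Groth.Agent.AlgSpLib.isReduced_of_flat_surjective φ.left, ?_, inferInstance, ?_, ?_, hp⟩
  · rw [← Over.w ψ]; infer_instance
  · haveI : QuasiCompact (φ.left ≫ W.hom) := by rw [Over.w]; infer_instance
    exact Groth.Agent.FlatMorThick.quasiCompact_of_comp_surjective φ.left W.hom
  · exact hinv

end Groth.Agent.S16134
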