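import Groth.Statements.S16136
import Groth.Agent.Quot8.FibreVanish
import Groth.Agent.Desc19b.GGFpqc
import Groth.Agent.Coherent.FiniteType
import Groth.Agent.Coherent.Existence.Restrict
import Groth.Agent.ZClosLib.Descent
import Groth.Agent.Coherent.ProjSpaceBC
-- import your own Groth.Agent.* helpers here

set_option autoImplicit false
set_option backward.isDefEq.respectTransparency.types false
universe u
open CategoryTheory CategoryTheory.Limits AlgebraicGeometry
open Coh

namespace Groth.Agent.S16136

open CategoryTheory CategoryTheory.Limits TopologicalSpace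
open Groth.Agent.Coherent Groth.Agent.PicLib Groth.Agent.AmpleLib Groth.Agent.Coherent.CohBC Groth.Agent.Quot8

theorem eq_univ_of_closed_points {T : Type*} [TopologicalSpace T] [CompactSpace T] [T0Space T] {O : Set T}
    (hO : IsOpen O) (h : ∀ t, IsClosed ({t} : Set T) → t ∈ O) : O = Set.univ := by
  by_contra hne
  obtain ⟨t, ht, htc⟩ := (hO.isClosed_compl).exists_closed_singleton (Set.nonempty_compl.2 hne)
  exact ht (h t htc)

theorem epi_counit {X S : Scheme.{u}} (f : X ⟶ S) [IsProper f] [IsLocallyNoetherian S] [CompactSpace X]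
    {F : X.Modules} (hF : Coh.IsCoh F) (hfl : FlatMod.IsFlatOver f F)
    (hv : ∀ y : S, CohIII.fiberRank f F 1 y = 0)
    (hgg : ∀ y, IsClosed ({y} : Set S) → Curv2.IsGloballyGenerated (CohIII.fiberMod f F y)) :
    Epi ((Scheme.Modules.pullbackPushforwardAdjunction f).counit.app F) := by
  haveI := hF.1
  haveI : HasInjectiveResolutions X.Modules := by infer_instance
  haveI : IsLocallyNoetherian X := LocallyOfFiniteType.isLocallyNoetherian f
  let c := (Scheme.Modules.pullbackPushforwardAdjunction f).counit.app F
  haveI := isQCoh_push f F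
  haveI : Coh.IsQCoh ((Scheme.Modules.pullback f).obj ((Scheme.Modules.pushforward f).obj F)) :=
    EGA43.InjFibre.isQCoh_pullback f _
  have hcl : ∀ x : X, IsClosed ({x} : Set X) →
      Function.Surjective (Groth.Agent.EGA43.InjCokerFlat.stalkMapOf c x) := by
    intro x hx
    have hfx : IsClosed ({f.base x} : Set S) := by
      rw [← Set.image_singleton]
      exact f.isClosedMap _ hx
    obtain ⟨y, z, hz, hy⟩ : ∃ (y : S) (z : f.fiber y), (f.fiberι y).base z = x ∧ IsClosed ({y} : Set S) := by
      obtain ⟨z, hz⟩ : x ∈ Set.range (f.fiberι (f.base x)) := by rw [f.range_fiberι]; rfl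
      exact ⟨_, z, hz, hfx⟩
    have hepi : Epi ((Scheme.Modules.pullback (f.fiberι y)).map c) := by
      refine Preadditive.epi_of_cancel_zero _ fun {C} d hd => ?_
      refine eq_zero_of_globallyGenerated (hgg y hy) d fun σ => ?_
      obtain ⟨U, hyU, t, ht⟩ := exists_section_extending f F hF hfl y (hv y) σ
      have h1 : pullSec (f.fiberι y) (show Γ(F, f ⁻¹ᵁ U) from t) =
          ((Scheme.Modules.pullback (f.fiberι y)).map c).app _
            (pullSec (f.fiberι y)
              (pullSec f (show Γ((Scheme.Modules.pushforward f).obj F, U) from t))) := by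
        rw [pullback_map_app_pullSec]
        exact congrArg _ (counit_app_pullSec f F U t).symm
      have hle : (⊤ : (f.fiber y).Opens) ≤ f.fiberι y ⁻¹ᵁ (f ⁻¹ᵁ U) := fun w _ => by
        show f.base ((f.fiberι y).base w) ∈ U
        rw [show f.base ((f.fiberι y).base w) = y from (f.range_fiberι _).le ⟨w, rfl⟩]
        exact hyU
      have h2 : d.app (f.fiberι y ⁻¹ᵁ (f ⁻¹ᵁ U))
          (resM (CohIII.fiberMod f F y) le_top σ) = 0 := by
        rw [← ht, h1]
        exact ConcreteCategory.congr_hom (congrArg (fun φ => Scheme.Modules.Hom.app φ _) hd) _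
      have h3 := congrArg (resM C hle) h2
      erw [← app_resM, resM_resM, resM_self, map_zero] at h3
      exact h3
    subst hz
    haveI : Module.Finite (X.presheaf.stalk ((f.fiberι y).base z))
        (((𝟭 X.Modules).obj F).presheaf.stalk ((f.fiberι y).base z)) :=
      Props12.finite_stalk_of_isFT F hF.2 _
    obtain ⟨hs, hker⟩ := Props12.stalkMap_fiberι f _ z
    exact surjective_stalk_of_epi (f.fiberι _) z c hs (by
      rw [hker, IsLocalRing.jacobson_eq_maximalIdeal ⊥ bot_ne_top]
      exact Ideal.map_le_iff_le_comap.2 fun b hb => map_nonunit (f.stalkMap _).hom b hb)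
  haveI hpush : Coh.IsCoh ((Scheme.Modules.pushforward f).obj F) :=
    Groth.Agent.Coherent.Existence.isCoh_push_of_isProper f hF
  have hpb : Coh.IsCoh ((Scheme.Modules.pullback f).obj ((Scheme.Modules.pushforward f).obj F)) :=
    Groth.Agent.ZClosLib.isCoh_pullback f _ hpush
  have hC : Coh.IsCoh (cokernel c) := isCoh_cokernel c hpb.1 hF
  have hcl' := isClosed_support _ (locallyFinGen_of_isFT _ hC.2)
  have hu := eq_univ_of_closed_points hcl'.isOpen_compl fun x hx hmem => by
    haveI : Epi ((DerSch.stalkFunctor X x).map c) := (ModuleCat.epi_iff_surjective _).2 (hcl x hx)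
    exact (notMem_support_iff _ _).2 (IsZero.of_iso (isZero_cokernel_of_epi ((DerSch.stalkFunctor X x).map c))
      (PreservesCokernel.iso (DerSch.stalkFunctor X x) c)) hmem
  refine Preadditive.epi_of_isZero_cokernel _ (ModStalk.isZero_of_stalks fun x => (notMem_support_iff _ x).1 ?_)
  have hx : x ∈ (CohB1.support (cokernel c))ᶜ := by rw [hu]; trivial
  exact hx

/-- Let k be a field, Y a scheme proper over k and f : X → Y a proper flat morphism, X and Y each
carrying an ample invertible module (so both are projective over k), such that every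
scheme-theoretic fibre of f is reduced. Let L be an invertible O_X-module with H^1(X, L) = 0 and
with H^i(X_y, L|_{X_y}) = 0 for every closed point y of Y and every i > 0, where X_y is the
scheme-theoretic fibre and L|_{X_y} the module pull-back of L to it. If L|_{X_y} is globally
generated (a quotient of a free module) for every closed point y and the direct image f_*L is
globally generated on Y, then L is globally generated. (The published statement is over the complex
numbers and imposes the fibre conditions at every point; here k is any field and they are imposed at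
closed points, which is what the argument uses.) -/
theorem result (k : Type u) [Field k]
    (X Y : Scheme.{u}) [Y.Over (Spec (CommRingCat.of k))] [IsProper (Y ↘ Spec (CommRingCat.of k))]
    (hY : ∃ B : Y.Modules, CohB1.IsAmple B)
    (f : X ⟶ Y) [IsProper f] [Flat f] (hX : ∃ A : X.Modules, CohB1.IsAmple A)
    (hred : ∀ y : Y, IsReduced (f.fiber y))
    (L : X.Modules) (hL : PicF.IsInvertible L) (h1 : Subsingleton (Coh.HH X L 1))
    (h2 : ∀ y : Y, IsClosed ({y} : Set Y) → ∀ i : ℕ, 0 < i →
      Subsingleton (Coh.HH (f.fiber y) ((Scheme.Modules.pullback (f.fiberι y)).obj L) i))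
    (hfib : ∀ y : Y, IsClosed ({y} : Set Y) →
      Curv2.IsGloballyGenerated ((Scheme.Modules.pullback (f.fiberι y)).obj L))
    (hE : Curv2.IsGloballyGenerated ((Scheme.Modules.pushforward f).obj L)) :
    Curv2.IsGloballyGenerated L := by
  haveI : IsLocallyNoetherian Y := LocallyOfFiniteType.isLocallyNoetherian (Y ↘ Spec (CommRingCat.of k))
  haveI : CompactSpace Y := QuasiCompact.compactSpace_of_compactSpace (Y ↘ Spec (CommRingCat.of k))
  haveI : CompactSpace X := QuasiCompact.compactSpace_of_compactSpace f
  haveI : IsLocallyNoetherian X := LocallyOfFiniteType.isLocallyNoetherian f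
  haveI : HasInjectiveResolutions X.Modules := by infer_instance
  have hfin := isFinLocFree_of_invertible hL
  have hF : Coh.IsCoh L := isCoh_of_isFinLocFree hfin
  have hfl : FlatMod.IsFlatOver f L := isFlatOver_of_isFinLocFree f hfin
  have hv : ∀ y : Y, CohIII.fiberRank f L 1 y = 0 := by
    have hu := eq_univ_of_closed_points (isOpen_fiberRank_eq_zero f L hF hfl 1) fun y hy =>
      (subsingleton_fiberH_iff_fiberRank f L hF y 1).1 (h2 y hy 1 one_pos)
    exact fun y => hu.ge (Set.mem_univ y)
  have hE2 := epi_counit f hF hfl hv hfib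
  obtain ⟨ι, q, hq⟩ : Curv2.IsGloballyGenerated
      ((Scheme.Modules.pullback f).obj ((Scheme.Modules.pushforward f).obj L)) :=
    Groth.Agent.Desc19b.isGloballyGenerated_pullback f hE
  exact ⟨ι, q ≫ (Scheme.Modules.pullbackPushforwardAdjunction f).counit.app L, @epi_comp _ _ _ _ _ q hq _ hE2⟩


end Groth.Agent.S16136
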