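import Groth.Statements.S16142
import Groth.Agent.Quadric3.Box
import Groth.Agent.PicTau27.Gen
import Groth.Agent.Coherent.QcohOps
import Groth.Agent.Coherent.TensorQcoh
import Groth.Agent.DCat.PerfTensor
-- import your own Groth.Agent.* helpers here

set_option autoImplicit false
set_option linter.style.haveILetI false
set_option backward.isDefEq.respectTransparency.types false
set_option maxHeartbeats 1000000
set_option linter.unusedSectionVars false
universe u
open CategoryTheory CategoryTheory.Limits AlgebraicGeometry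
open Variety

namespace Groth.Agent.S16142

open Groth.Agent.Coherent Groth.Agent.PicLib Groth.Agent.AmpleLib Groth.Agent.SerreDual Groth.Agent.Quadric3


section Steps

variable (k : Type u) [Field k] {X : Scheme.{u}} [X.Over (Spec (CommRingCat.of k))]
  [IsProper (X ↘ Spec (CommRingCat.of k))]
  (hd : ∀ (M : X.Modules), Coh.IsQCoh M → ∀ i, 3 ≤ i → Subsingleton (Coh.HH X M i))

include k in
theorem qcoh_of_lf {M : X.Modules} (h : FlatMod.IsFinLocFree M) : Coh.IsQCoh M := by
  haveI := EulerLib.isNoetherian_of_proper k (X := X)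
  exact (CohBC.isCoh_of_isFinLocFree h).1

theorem kernel_shortExact {M N : X.Modules} (φ : M ⟶ N) [Epi φ] :
    (ShortComplex.mk (kernel.ι φ) φ (kernel.condition φ)).ShortExact where
  exact := ShortComplex.exact_of_f_is_kernel _ (kernelIsKernel φ)

include k hd in
theorem top_of_epi {M N : X.Modules} (φ : M ⟶ N) (hφ : Epi φ) (hM : Coh.IsQCoh M) (hN : Coh.IsQCoh N)
    (h : Subsingleton (Coh.HH X M 2)) : Subsingleton (Coh.HH X N 2) := by
  haveI := h
  exact (hmap_surjective_of_shortExact k (kernel_shortExact φ) 2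
    (hd (kernel φ) (isQCoh_kernel φ) 3 le_rfl)).subsingleton

include k in
theorem left_of_ses {S : ShortComplex X.Modules} (hS : S.ShortExact) (q : ℕ)
    (h3 : Subsingleton (Coh.HH X S.X₃ q)) (h2 : Subsingleton (Coh.HH X S.X₂ (q + 1))) :
    Subsingleton (Coh.HH X S.X₁ (q + 1)) := by
  haveI := h2
  exact (hmap_injective_of_shortExact k hS q h3).subsingleton

include k in
theorem right_of_ses {S : ShortComplex X.Modules} (hS : S.ShortExact) (q : ℕ)
    (h2 : Subsingleton (Coh.HH X S.X₂ q)) (h1 : Subsingleton (Coh.HH X S.X₁ (q + 1))) :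
    Subsingleton (Coh.HH X S.X₃ q) := by
  haveI := h2
  exact (hmap_surjective_of_shortExact k hS q h1).subsingleton

include k in
theorem sigma_tensor (G : X.Modules) (N q : ℕ) (h : Subsingleton (Coh.HH X G q)) :
    Subsingleton (Coh.HH X (CohB1.tensorMod G (∐ fun _ : Fin N => Coh.structureModule X)) q) := by
  obtain ⟨c⟩ := nonempty_tensE_sigma G (Coh.structureModule X) N
  haveI := h
  haveI := subsingleton_HH_of_iso k (AmpleLib.tensorComm G (Coh.structureModule X) ≪≫ unitTensorIso G) q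
  haveI := subsingleton_sigma k (n := N) (CohB1.tensorMod G (Coh.structureModule X)) q this
  exact subsingleton_HH_of_iso k c q

theorem epi_tensE (G : X.Modules) {M N : X.Modules} (φ : M ⟶ N) [Epi φ] : Epi ((tensE G).map φ) := by
  haveI : (tensE G).PreservesEpimorphisms := Functor.preservesEpimorphisms_of_adjunction (tensorHomAdj G)
  infer_instance

include k in
theorem exists_epi {M : X.Modules} (hM : FlatMod.IsFinLocFree M) (hg : Curv2.IsGloballyGenerated M) :
    ∃ (N : ℕ) (φ : (∐ fun _ : Fin N => Coh.structureModule X) ⟶ M), Epi φ := by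
  haveI := EulerLib.isNoetherian_of_proper k (X := X)
  exact ⟨_, PicTau27.exists_epi_free k (CohBC.isCoh_of_isFinLocFree hM) hg rfl⟩

theorem lf_tensor {G L : X.Modules} (hG : FlatMod.IsFinLocFree G) (hL : FlatMod.IsFinLocFree L) :
    FlatMod.IsFinLocFree (CohB1.tensorMod G L) :=
  DCat.PerfTensor.isFinLocFree_tensor hG hL

include k hd in
/-- The heart of the lemma. -/
theorem vanish_tensor {A B L : X.Modules} (hA : FlatMod.IsFinLocFree A) (hB : FlatMod.IsFinLocFree B)
    (hLf : FlatMod.IsFinLocFree L)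
    (hgA : Curv2.IsGloballyGenerated A) (hgB : Curv2.IsGloballyGenerated B) (i : ℕ) (hi : 0 < i)
    (hL : i = 1 → Subsingleton (Coh.HH X L 2))
    (h1 : i = 1 → Subsingleton (Coh.HH X (CohB1.tensorMod A L) 1))
    (h2 : Subsingleton (Coh.HH X (CohB1.tensorMod B L) i)) :
    Subsingleton (Coh.HH X (CohB1.tensorMod A (CohB1.tensorMod B L)) i) := by
  have hB' := lf_tensor hB hLf
  haveI := qcoh_of_lf k hA
  haveI := qcoh_of_lf k hB
  haveI := qcoh_of_lf k hLf
  haveI := qcoh_of_lf k hB'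
  have hO : ∀ N : ℕ, Coh.IsQCoh (∐ fun _ : Fin N => Coh.structureModule X) := fun N =>
    qcoh_of_lf k (DCat.PerfTensor.isFinLocFree_sigma _ fun _ : Fin N => CohBC.isFinLocFree_structureModule _)
  obtain ⟨N, φ, hφ⟩ := exists_epi k hA hgA
  haveI := hO N
  haveI := isQCoh_kernel φ
  suffices hK : Subsingleton (Coh.HH X (CohB1.tensorMod (CohB1.tensorMod B L) (kernel φ)) (i + 1)) by
    haveI : Subsingleton (Coh.HH X (CohB1.tensorMod (CohB1.tensorMod B L) A) i) :=
      right_of_ses k (exact_tensE_map hB' (kernel_shortExact φ)) i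
        (sigma_tensor k (CohB1.tensorMod B L) N i h2) hK
    exact subsingleton_HH_of_iso k (AmpleLib.tensorComm A (CohB1.tensorMod B L)) i
  rcases (show i = 1 ∨ 2 ≤ i by omega) with rfl | hi2
  · obtain ⟨M, ψ, hψ⟩ := exists_epi k hB hgB
    haveI := hO M
    have hqLK : Coh.IsQCoh (CohB1.tensorMod L (kernel φ)) := isQCoh_tensorMod L (kernel φ)
    have hLK : Subsingleton (Coh.HH X (CohB1.tensorMod L (kernel φ)) 2) := by
      refine left_of_ses k (exact_tensE_map hLf (kernel_shortExact φ)) 1 ?_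
        (sigma_tensor k L N 2 (hL rfl))
      haveI := h1 rfl
      exact subsingleton_HH_of_iso k (AmpleLib.tensorComm L A) 1
    haveI : Subsingleton (Coh.HH X (CohB1.tensorMod (CohB1.tensorMod L (kernel φ)) B) 2) :=
      top_of_epi k hd ((tensE (CohB1.tensorMod L (kernel φ))).map ψ)
        (epi_tensE (CohB1.tensorMod L (kernel φ)) ψ) (isQCoh_tensorMod _ _) (isQCoh_tensorMod _ _)
        (sigma_tensor k _ M 2 hLK)
    exact subsingleton_HH_of_iso k
      (show CohB1.tensorMod (CohB1.tensorMod B L) (kernel φ) ≅ CohB1.tensorMod (CohB1.tensorMod L (kernel φ)) B from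
        DCat.TensorAssoc.assocIso B L (kernel φ) ≪≫ AmpleLib.tensorComm B (CohB1.tensorMod L (kernel φ))) 2
  · exact hd _ (isQCoh_tensorMod _ _) _ (by omega)

include k hd in
/-- The lemma with the twists as parameters. -/
theorem vanish_twists {G₁ G₂ P₁ P₂ L T₁ T₂ T : X.Modules} (hG₁ : FlatMod.IsFinLocFree G₁)
    (hG₂ : FlatMod.IsFinLocFree G₂) (hP₁ : FlatMod.IsFinLocFree P₁) (hP₂ : FlatMod.IsFinLocFree P₂)
    (hLf : FlatMod.IsFinLocFree L) (hg₁ : Curv2.IsGloballyGenerated (CohB1.tensorMod G₁ P₁))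
    (hg₂ : Curv2.IsGloballyGenerated (CohB1.tensorMod G₂ P₂))
    (e₁ : CohB1.tensorMod P₁ L ≅ T₁) (e₂ : CohB1.tensorMod P₂ L ≅ T₂) (e₃ : CohB1.tensorMod P₁ T₂ ≅ T)
    (i : ℕ) (hi : 0 < i) (hL : i = 1 → Subsingleton (Coh.HH X L 2))
    (h1 : Subsingleton (Coh.HH X (CohB1.tensorMod G₁ T₁) i))
    (h2 : Subsingleton (Coh.HH X (CohB1.tensorMod G₂ T₂) i)) :
    Subsingleton (Coh.HH X (CohB1.tensorMod (CohB1.tensorMod G₁ G₂) T) i) := by
  obtain ⟨i₃⟩ := nonempty_interchange G₁ G₂ P₁ T₂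
  let f₁ : CohB1.tensorMod (CohB1.tensorMod G₁ P₁) L ≅ CohB1.tensorMod G₁ T₁ :=
    DCat.TensorAssoc.assocIso _ _ _ ≪≫ AmpleLib.tensorIso (Iso.refl G₁) e₁
  let f₂ : CohB1.tensorMod (CohB1.tensorMod G₂ P₂) L ≅ CohB1.tensorMod G₂ T₂ :=
    DCat.TensorAssoc.assocIso _ _ _ ≪≫ AmpleLib.tensorIso (Iso.refl G₂) e₂
  haveI := h1
  haveI := h2
  haveI := vanish_tensor k hd (lf_tensor hG₁ hP₁) (lf_tensor hG₂ hP₂) hLf hg₁ hg₂ i hi hL
    (fun h => by
      subst h
      exact subsingleton_HH_of_iso k f₁ 1)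
    (subsingleton_HH_of_iso k f₂ i)
  exact subsingleton_HH_of_iso k (AmpleLib.tensorIso (Iso.refl _) e₃.symm ≪≫ i₃ ≪≫
    AmpleLib.tensorIso (Iso.refl _) f₂.symm) i

end Steps

attribute [local instance] overQ2

theorem core (k : Type u) [Field k] (G₁ G₂ : (Q2 k).Modules)
    (hG₁ : FlatMod.IsFinLocFree G₁) (hG₂ : FlatMod.IsFinLocFree G₂) (p q m n : ℤ)
    (hgg₁ : Curv2.IsGloballyGenerated (CohB1.tensorMod G₁ (O2 k p q)))
    (hgg₂ : Curv2.IsGloballyGenerated (CohB1.tensorMod G₂ (O2 k m n)))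
    (u₁ u₂ : ℕ) (hu : 0 < u₁ + u₂)
    (hreg₁ : Subsingleton (Coh.HH (Q2 k) (CohB1.tensorMod G₁ (O2 k (p - u₁) (q - u₂))) (u₁ + u₂)))
    (hreg₂ : Subsingleton (Coh.HH (Q2 k) (CohB1.tensorMod G₂ (O2 k (m - u₁) (n - u₂))) (u₁ + u₂))) :
    Subsingleton (Coh.HH (Q2 k) (CohB1.tensorMod (CohB1.tensorMod G₁ G₂)
      (O2 k (p + m - u₁) (q + n - u₂))) (u₁ + u₂)) := by
  obtain ⟨e₁⟩ := nonempty_add k (show p + (-(u₁ : ℤ)) = p - u₁ by omega) (show q + (-(u₂ : ℤ)) = q - u₂ by omega)
  obtain ⟨e₂⟩ := nonempty_add k (show m + (-(u₁ : ℤ)) = m - u₁ by omega) (show n + (-(u₂ : ℤ)) = n - u₂ by omega)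
  obtain ⟨e₃⟩ := nonempty_add k (show p + (m - u₁) = p + m - u₁ by omega) (show q + (n - u₂) = q + n - u₂ by omega)
  exact vanish_twists (X := Q2 k) k (fun M hM i hi => @vanish_of_three_le k _ M hM i hi) hG₁ hG₂
    (isFinLocFree_O2 k p q) (isFinLocFree_O2 k m n) (isFinLocFree_O2 k (-(u₁ : ℤ)) (-(u₂ : ℤ))) hgg₁ hgg₂
    e₁ e₂ e₃ (u₁ + u₂) hu
    (fun h => by
      rcases (show (u₁ = 1 ∧ u₂ = 0) ∨ (u₁ = 0 ∧ u₂ = 1) by omega) with ⟨rfl, rfl⟩ | ⟨rfl, rfl⟩
      · exact vanish_neg_one_left k _ 2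
      · exact vanish_neg_one_right k _ 2)
    hreg₁ hreg₂

/-- Let k be an algebraically closed field of characteristic zero and let G₁, G₂ be finite locally free
O-modules on P¹ ×_k P¹. Suppose G₁ is (p, q)-regular and G₂ is (m, n)-regular, regularity being the
bigraded one: F is (p, q)-regular when H^{u₁+u₂}(P¹ × P¹, F(p - u₁, q - u₂)) = 0 for all natural
numbers u₁, u₂ with u₁ + u₂ > 0. Suppose moreover that G₁(p, q) and G₂(m, n) are globally generated.
Then G₁ ⊗ G₂ is (p + m, q + n)-regular. (The published lemma does not list the global generation of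
G₁(p, q) and G₂(m, n) among its hypotheses: it obtains it from the bigraded form of Mumford's
regularity criterion, which the source quotes without proof; here it is carried as a hypothesis. The
source works over the complex numbers.) -/
theorem result (k : Type u) [Field k] [IsAlgClosed k] [CharZero k]
    (G₁ G₂ : (W4c3multigrregular.biProj 1 1 k).Modules)
    (hG₁ : FlatMod.IsFinLocFree G₁) (hG₂ : FlatMod.IsFinLocFree G₂) (p q m n : ℤ)
    (hreg₁ : W4c3multigrregular.IsBiReg 1 1 k G₁ p q) (hreg₂ : W4c3multigrregular.IsBiReg 1 1 k G₂ m n)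
    (hgg₁ : Curv2.IsGloballyGenerated (W4c3multigrregular.twistBi 1 1 k G₁ p q))
    (hgg₂ : Curv2.IsGloballyGenerated (W4c3multigrregular.twistBi 1 1 k G₂ m n)) :
    W4c3multigrregular.IsBiReg 1 1 k (CohB1.tensorMod G₁ G₂) (p + m) (q + n) := by
  intro u₁ u₂ hu
  have h1 := hreg₁ u₁ u₂ hu
  have h2 := hreg₂ u₁ u₂ hu
  unfold W4c3multigrregular.twistBi W4c3multigrregular.lineBundle at hgg₁ hgg₂ h1 h2 ⊢
  exact core k G₁ G₂ hG₁ hG₂ p q m n hgg₁ hgg₂ u₁ u₂ hu h1 h2

end Groth.Agent.S16142
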