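import Groth.Statements.S16145
import Groth.Agent.S16142
import Groth.Agent.CurveRR24.GGTensor
import Groth.Agent.ExtPowEx28.Basic
import Groth.Agent.KvbLam28.Basic
import Groth.Agent.GrassLib.PBundle.ExtBasis
-- import your own Groth.Agent.* helpers here

set_option autoImplicit false
set_option linter.style.haveILetI false
set_option linter.unusedSectionVars false
set_option backward.isDefEq.respectTransparency.types false
set_option maxHeartbeats 1000000
universe u
open CategoryTheory CategoryTheory.Limits AlgebraicGeometry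
open Variety

namespace Groth.Agent.S16145

open Groth.Agent.Coherent Groth.Agent.PicLib Groth.Agent.AmpleLib Groth.Agent.SerreDual Groth.Agent.Quadric3
open Groth.Agent.GrassLib.PBundle Opposite TopologicalSpace

section Algebra

variable {R : Type u} [CommRing R] {V A P Q : Type u} [AddCommGroup V] [Module R V] [AddCommGroup A] [Module R A]
  [AddCommGroup P] [Module R P] [AddCommGroup Q] [Module R Q] {n : ℕ}

/-- The antisymmetrization of `v ↦ T (v 0) (w (v 1, …, v n))`. -/
noncomputable def altOfBilin (w : V [⋀^Fin n]→ₗ[R] A) (T : V →ₗ[R] A →ₗ[R] P) :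
    V [⋀^Fin (n + 1)]→ₗ[R] P :=
  MultilinearMap.alternatization (LinearMap.uncurryLeft (M := fun _ : Fin (n + 1) => V)
    { toFun := fun x => (T x).compMultilinearMap w.toMultilinearMap
      map_add' := fun x y => by ext; simp
      map_smul' := fun r x => by ext; simp })

theorem altOfBilin_apply (w : V [⋀^Fin n]→ₗ[R] A) (T : V →ₗ[R] A →ₗ[R] P) (v : Fin (n + 1) → V) :
    altOfBilin w T v = ∑ σ : Equiv.Perm (Fin (n + 1)), Equiv.Perm.sign σ •
      T (v (σ 0)) (w fun i => v (σ i.succ)) := by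
  rw [altOfBilin, MultilinearMap.alternatization_apply]
  rfl

theorem map_altOfBilin (w : V [⋀^Fin n]→ₗ[R] A) (T : V →ₗ[R] A →ₗ[R] P) (h : P →ₗ[R] Q)
    (g : V [⋀^Fin (n + 1)]→ₗ[R] Q) (hg : ∀ x t, h (T x (w t)) = g (Matrix.vecCons x t))
    (v : Fin (n + 1) → V) : h (altOfBilin w T v) = ((n + 1).factorial : R) • g v := by
  rw [altOfBilin_apply, map_sum]
  have key : ∀ σ : Equiv.Perm (Fin (n + 1)),
      h (Equiv.Perm.sign σ • T (v (σ 0)) (w fun i => v (σ i.succ))) = g v := fun σ => by
    rw [Units.smul_def, map_zsmul, hg,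
      show Matrix.vecCons (v (σ 0)) (fun i => v (σ i.succ)) = v ∘ σ from Fin.cons_self_tail (v ∘ σ),
      ← Units.smul_def, g.map_perm, smul_smul, Int.units_mul_self, one_smul]
  rw [Finset.sum_congr rfl fun σ _ => key σ, Finset.sum_const, Finset.card_univ, Fintype.card_perm,
    Fintype.card_fin, Nat.cast_smul_eq_nsmul]

/-- The wedge as a bilinear map. -/
noncomputable def wedgeBilin {A' : Type u} [AddCommGroup A'] [Module R A'] (e : A ≃ₗ[R] ⋀[R]^n V)
    (e' : A' ≃ₗ[R] ⋀[R]^(n + 1) V) : V →ₗ[R] A →ₗ[R] A' :=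
  LinearMap.mk₂ R
    (fun x y => e'.symm (exteriorPower.alternatingMapLinearEquiv
      ((exteriorPower.ιMulti R (n + 1) (M := V)).curryLeft x) (e y)))
    (fun x x' y => by rw [map_add, map_add, LinearMap.add_apply, map_add])
    (fun r x y => by rw [map_smul, map_smul, LinearMap.smul_apply, map_smul])
    (fun x y y' => by rw [map_add, map_add, map_add])
    (fun r x y => by rw [map_smul, map_smul, map_smul])

theorem wedgeBilin_apply {A' : Type u} [AddCommGroup A'] [Module R A'] (e : A ≃ₗ[R] ⋀[R]^n V)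
    (e' : A' ≃ₗ[R] ⋀[R]^(n + 1) V) (x : V) (t : Fin n → V) :
    wedgeBilin e e' x (e.symm (exteriorPower.ιMulti R n t)) =
      e'.symm (exteriorPower.ιMulti R (n + 1) (Matrix.vecCons x t)) := by
  show e'.symm (exteriorPower.alternatingMapLinearEquiv _ (e (e.symm _))) = _
  rw [LinearEquiv.apply_symm_apply, exteriorPower.alternatingMapLinearEquiv_apply_ιMulti]
  rfl

end Algebra

section Glue

variable {Y : Scheme.{u}}

/-- Compatible bilinear maps on affine opens give a map out of the tensor product. -/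
theorem exists_desc_of_affine (L M N : Y.Modules)
    (f : ∀ U : Y.Opens, IsAffineOpen U → Γ(L, U) → Γ(M, U) → Γ(N, U))
    (hal : ∀ U hU a a' b, f U hU (a + a') b = f U hU a b + f U hU a' b)
    (har : ∀ U hU a b b', f U hU a (b + b') = f U hU a b + f U hU a b')
    (hsl : ∀ (U : Y.Opens) hU (r : Γ(Y, U)) a b, f U hU (r • a) b = r • f U hU a b)
    (hsr : ∀ (U : Y.Opens) hU (r : Γ(Y, U)) a b, f U hU a (r • b) = r • f U hU a b)
    (hres : ∀ (U V : Y.Opens) (hU : IsAffineOpen U) (hV : IsAffineOpen V) (h : V ≤ U) a b,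
      f V hV (resM L h a) (resM M h b) = resM N h (f U hU a b)) :
    ∃ φ : CohB1.tensorMod L M ⟶ N, ∀ (U : Y.Opens) (hU : IsAffineOpen U) a b,
      φ.app U (tmul a b) = f U hU a b := by
  let I : Y.Opens → Type u := fun V => {A : Y.Opens // IsAffineOpen A ∧ A ≤ V}
  have hcov : ∀ V : Y.Opens, V ≤ ⨆ A : I V, A.1 := fun V y hy => by
    obtain ⟨A, hA, hyA, hAV⟩ := Opens.isBasis_iff_nbhd.1 Y.isBasis_affineOpens hy
    exact Opens.mem_iSup.2 ⟨⟨A, hA, hAV⟩, hyA⟩
  have hext : ∀ {V : Y.Opens} {a b : Γ(N, V)}, (∀ A : I V, resM N A.2.2 a = resM N A.2.2 b) → a = b :=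
    fun {V a b} h => TopCat.Sheaf.eq_of_locally_eq' (⟨N.presheaf, N.isSheaf⟩ : TopCat.Sheaf Ab Y)
      (fun A : I V => A.1) V (fun A => homOfLE A.2.2) (hcov V) a b h
  have hex : ∀ (V : Y.Opens) (a : Γ(L, V)) (b : Γ(M, V)), ∃ y : Γ(N, V), ∀ A : I V,
      resM N A.2.2 y = f A.1 A.2.1 (resM L A.2.2 a) (resM M A.2.2 b) := by
    intro V a b
    refine (TopCat.Sheaf.existsUnique_gluing' (⟨N.presheaf, N.isSheaf⟩ : TopCat.Sheaf Ab Y)
      (fun A : I V => A.1) V (fun A => homOfLE A.2.2) (hcov V)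
      (fun A => f A.1 A.2.1 (resM L A.2.2 a) (resM M A.2.2 b)) fun A B => ?_).exists
    show resM N (inf_le_left : A.1 ⊓ B.1 ≤ A.1) (f A.1 A.2.1 _ _) =
      resM N (inf_le_right : A.1 ⊓ B.1 ≤ B.1) (f B.1 B.2.1 _ _)
    refine AmpleLib.sec_ext N _ _ fun y hy => ?_
    obtain ⟨C, hC, hyC, hCle⟩ := Opens.isBasis_iff_nbhd.1 Y.isBasis_affineOpens hy
    refine ⟨C, hCle, hyC, ?_⟩
    rw [resM_resM, resM_resM, ← hres _ _ A.2.1 hC, ← hres _ _ B.2.1 hC, resM_resM, resM_resM,
      resM_resM, resM_resM]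
  choose y hy using hex
  let β : Bilin L M N :=
    { app := y
      add_left := fun U a a' b => hext fun A => by rw [map_add, hy, hy, hy, map_add, hal]
      add_right := fun U a b b' => hext fun A => by rw [map_add, hy, hy, hy, map_add, har]
      smul_left := fun U r a b => hext fun A => by rw [hy, resM_smul, resM_smul, hy, hsl]
      smul_right := fun U r a b => hext fun A => by rw [hy, resM_smul, resM_smul, hy, hsr]
      res := fun U W h a b => hext fun A => by
        rw [hy, resM_resM, resM_resM, resM_resM]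
        exact hy U a b ⟨A.1, A.2.1, A.2.2.trans h⟩ }
  refine ⟨β.desc, fun U hU a b => ?_⟩
  rw [β.desc_tmul]
  have h := hy U a b ⟨U, hU, le_rfl⟩
  rw [resM_self, resM_self, resM_self] at h
  exact h

end Glue

section Split

variable (k : Type u) [Field k] [CharZero k] {X : Scheme.{u}} [X.Over (Spec (CommRingCat.of k))]

/-- Constants. -/
noncomputable def ρ (U : X.Opens) : k →+* Γ(X, U) :=
  ((Scheme.ΓSpecIso (CommRingCat.of k)).inv ≫ (X ↘ Spec (CommRingCat.of k)).appTop ≫
    X.presheaf.map (homOfLE (le_top : U ≤ ⊤)).op).hom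

theorem res_ρ {U W : X.Opens} (h : W ≤ U) (c : k) :
    X.presheaf.map (homOfLE h).op (ρ k U c) = ρ k W c := by
  show (X.presheaf.map (homOfLE (le_top : U ≤ ⊤)).op ≫ X.presheaf.map (homOfLE h).op) _ = _
  rw [← Functor.map_comp]
  rfl

variable {G L L' : X.Modules} {n : ℕ}

include k in
/-- In characteristic zero an exterior power is a retract of `G ⊗ ⋀^n G`. -/
theorem exists_retract (hL : ExtPow.IsExtPow n G L) (hL' : ExtPow.IsExtPow (n + 1) G L') :
    ∃ (s : L' ⟶ CohB1.tensorMod G L) (r : CohB1.tensorMod G L ⟶ L'), s ≫ r = 𝟙 L' := by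
  obtain ⟨φ, hφ⟩ := hL
  obtain ⟨φ', hφ'⟩ := hL'
  let T : ∀ A : X.affineOpens, (G.val.obj (op A.1)) →ₗ[Γ(X, A.1)] (L.val.obj (op A.1)) →ₗ[Γ(X, A.1)]
      ((CohB1.tensorMod G L).val.obj (op A.1)) := fun A =>
    LinearMap.mk₂ Γ(X, A.1) (fun (x : Γ(G, A.1)) (y : Γ(L, A.1)) => tmul x y)
      tmul_add_left tmul_smul_left tmul_add_right tmul_smul_right
  let w : ∀ A : X.affineOpens, (G.val.obj (op A.1)) [⋀^Fin n]→ₗ[Γ(X, A.1)] (L.val.obj (op A.1)) := fun A =>
    (φ A).symm.toLinearMap.compAlternatingMap (exteriorPower.ιMulti _ n)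
  let c : ∀ A : X.affineOpens, Γ(X, A.1) := fun A => ρ k A.1 ((n + 1).factorial : k)⁻¹
  obtain ⟨s, hs⟩ := exists_hom_of_alt φ' hφ' (M := CohB1.tensorMod G L)
    (fun A => c A • altOfBilin (w A) (T A)) (by
      intro A B h v
      have e : ∀ (U : X.affineOpens) (v : Fin (n + 1) → Γ(G, U.1)),
          (show Γ(CohB1.tensorMod G L, U.1) from (c U • altOfBilin (w U) (T U)) v) =
            c U • ∑ σ : Equiv.Perm (Fin (n + 1)), ((Equiv.Perm.sign σ : ℤˣ) : ℤ) •
              tmul (v (σ 0)) (wedge φ U fun i => v (σ i.succ)) := fun U v => by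
        show c U • altOfBilin (w U) (T U) v = _
        rw [altOfBilin_apply]
        rfl
      refine Eq.trans ?_ (e B fun i => resM G h (v i)).symm
      rw [e A v, resM_smul, map_sum, res_ρ]
      refine congrArg (_ • ·) (Finset.sum_congr rfl fun σ _ => ?_)
      rw [map_zsmul, resM_tmul, wedge_res φ hφ h])
  let B : ∀ A : X.affineOpens, (G.val.obj (op A.1)) →ₗ[Γ(X, A.1)] (L.val.obj (op A.1)) →ₗ[Γ(X, A.1)]
      (L'.val.obj (op A.1)) := fun A => wedgeBilin (φ A) (φ' A)
  have hB : ∀ (A : X.affineOpens) (x : Γ(G, A.1)) (t : Fin n → Γ(G, A.1)),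
      (show Γ(L', A.1) from B A x (wedge φ A t)) = wedge φ' A (Matrix.vecCons x t) := fun A x t => by
    exact wedgeBilin_apply (φ A) (φ' A) x t
  have hBres : ∀ (A C : X.affineOpens) (h : C.1 ≤ A.1) (x : Γ(G, A.1)) (y : Γ(L, A.1)),
      (show Γ(L', C.1) from B C (resM G h x) (resM L h y)) = resM L' h (show Γ(L', A.1) from B A x y) := by
    intro A C h x y
    obtain ⟨z, rfl⟩ : ∃ z, (φ A).symm z = y := (φ A).symm.surjective y
    have hz : z ∈ Submodule.span Γ(X, A.1)
        (Set.range (exteriorPower.ιMulti Γ(X, A.1) n (M := G.val.obj (op A.1)))) := by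
      rw [exteriorPower.ιMulti_span]; trivial
    induction hz using Submodule.span_induction with
    | mem z hz =>
      obtain ⟨t, rfl⟩ := hz
      show (show Γ(L', C.1) from B C (resM G h x) (resM L h (wedge φ A t))) =
        resM L' h (show Γ(L', A.1) from B A x (wedge φ A t))
      rw [wedge_res φ hφ h, hB, hB, wedge_res φ' hφ' h]
      refine congrArg (wedge φ' C) (funext fun i => ?_)
      refine Fin.cases ?_ (fun i => ?_) i <;> rfl
    | zero =>
      refine (congrArg (fun q : Γ(L, A.1) => (show Γ(L', C.1) from B C (resM G h x) (resM L h q)))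
        (map_zero (φ A).symm)).trans ?_
      refine (congrArg (fun q : Γ(L, C.1) => (show Γ(L', C.1) from B C (resM G h x) q)) (map_zero (resM L h))).trans ?_
      refine (map_zero (B C (resM G h x))).trans ?_
      exact ((congrArg (resM L' h) ((congrArg (B A x) (map_zero (φ A).symm)).trans (map_zero (B A x)))).trans
        (map_zero (resM L' h))).symm
    | add a b _ _ ha hb =>
      refine (congrArg (fun q : Γ(L, A.1) => (show Γ(L', C.1) from B C (resM G h x) (resM L h q)))
        (map_add (φ A).symm a b)).trans ?_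
      refine (congrArg (fun q : Γ(L, C.1) => (show Γ(L', C.1) from B C (resM G h x) q))
        (map_add (resM L h) _ _)).trans ?_
      refine (map_add (B C (resM G h x)) _ _).trans ((congrArg₂ (· + ·) ha hb).trans ?_)
      exact (map_add (resM L' h) _ _).symm.trans (congrArg (resM L' h)
        ((congrArg (B A x) (map_add (φ A).symm a b)).trans (map_add (B A x) _ _)).symm)
    | smul r a _ ha =>
      refine (congrArg (fun q : Γ(L, A.1) => (show Γ(L', C.1) from B C (resM G h x) (resM L h q)))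
        (map_smul (φ A).symm r a)).trans ?_
      refine (congrArg (fun q : Γ(L, C.1) => (show Γ(L', C.1) from B C (resM G h x) q))
        (resM_smul L h r _)).trans ?_
      refine (map_smul (B C (resM G h x)) _ _).trans
        ((congrArg (fun q : Γ(L', C.1) => _ • q) ha).trans ?_)
      exact (resM_smul L' h r _).symm.trans (congrArg (resM L' h)
        ((congrArg (B A x) (map_smul (φ A).symm r a)).trans (map_smul (B A x) _ _)).symm)
  obtain ⟨r, hr⟩ := exists_desc_of_affine G L L' (fun U hU x y => B ⟨U, hU⟩ x y)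
    (fun U hU a a' b => LinearMap.congr_fun (map_add (B ⟨U, hU⟩) a a') b)
    (fun U hU a b b' => map_add (B ⟨U, hU⟩ a) b b')
    (fun U hU r a b => LinearMap.congr_fun (map_smul (B ⟨U, hU⟩) r a) b)
    (fun U hU r a b => map_smul (B ⟨U, hU⟩ a) r b)
    (fun U W hU hW h a b => hBres ⟨U, hU⟩ ⟨W, hW⟩ h a b)
  refine ⟨s, r, hom_ext_wedge φ' _ _ fun A v => ?_⟩
  show r.app A.1 (s.app A.1 (wedge φ' A v)) = wedge φ' A v
  rw [hs]
  let rA : ((CohB1.tensorMod G L).val.obj (op A.1)) →ₗ[Γ(X, A.1)] (L'.val.obj (op A.1)) :=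
    { toFun := fun z => r.app A.1 z
      map_add' := fun a b => map_add _ a b
      map_smul' := fun c z => Scheme.Modules.Hom.app_smul r c z }
  show rA (c A • altOfBilin (w A) (T A) v) = _
  rw [map_smul, map_altOfBilin (w A) (T A) rA
    ((φ' A).symm.toLinearMap.compAlternatingMap (exteriorPower.ιMulti _ (n + 1)))
    (fun x t => (hr A.1 A.2 x (wedge φ A t)).trans (hB A x t)) v, smul_smul]
  have hc : c A * ((n + 1).factorial : Γ(X, A.1)) = 1 := by
    rw [← map_natCast (ρ k A.1), ← map_mul, inv_mul_cancel₀ (by exact_mod_cast (n + 1).factorial_ne_zero), map_one]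
  rw [hc, one_smul]
  rfl

end Split

section Retract

variable (k : Type u) [Field k] {X : Scheme.{u}} [X.Over (Spec (CommRingCat.of k))]

include k in
theorem retract_twist {L' E O : X.Modules} (s : L' ⟶ E) (r : E ⟶ L') (h : s ≫ r = 𝟙 L') (i : ℕ)
    (hE : Subsingleton (Coh.HH X (CohB1.tensorMod E O) i)) :
    Subsingleton (Coh.HH X (CohB1.tensorMod L' O) i) := by
  haveI : Subsingleton (Coh.HH X (CohB1.tensorMod O E) i) := by
    haveI := hE
    exact subsingleton_HH_of_iso k (AmpleLib.tensorComm O E) i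
  haveI : Subsingleton (Coh.HH X (CohB1.tensorMod O L') i) := by
    have h' : (tensE O).map s ≫ (tensE O).map r = 𝟙 _ := by rw [← Functor.map_comp, h, CategoryTheory.Functor.map_id]
    refine subsingleton_of_forall_eq 0 fun x => ?_
    have h1 := LinearMap.congr_fun (congrArg (fun f => hmap k f i) h') x
    rw [hmap_id, LinearMap.id_apply, hmap_comp, LinearMap.comp_apply] at h1
    rw [← h1, Subsingleton.elim (α := Coh.HH X (CohB1.tensorMod O E) i) (hmap k ((tensE O).map s) i x) 0]
    exact map_zero (hmap k ((tensE O).map r) i)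
  exact subsingleton_HH_of_iso k (AmpleLib.tensorComm L' O) i

theorem gg_of_epi {M N : X.Modules} (f : M ⟶ N) (hf : Epi f) (h : Curv2.IsGloballyGenerated M) :
    Curv2.IsGloballyGenerated N := by
  obtain ⟨ι, p, hp⟩ := h
  exact ⟨ι, p ≫ f, @epi_comp X.Modules _ _ _ _ p hp f hf⟩

theorem gg_retract {L' E O : X.Modules} (s : L' ⟶ E) (r : E ⟶ L') (h : s ≫ r = 𝟙 L')
    (hE : Curv2.IsGloballyGenerated (CohB1.tensorMod E O)) :
    Curv2.IsGloballyGenerated (CohB1.tensorMod L' O) := by
  have he : Epi ((tensE O).map r) :=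
    (SplitEpi.mk ((tensE O).map s) (by rw [← Functor.map_comp, h, CategoryTheory.Functor.map_id])).epi
  exact gg_of_epi (AmpleLib.tensorComm O L').hom inferInstance
    (gg_of_epi ((tensE O).map r) he (gg_of_epi (AmpleLib.tensorComm E O).hom inferInstance hE))

theorem gg_prod {G L P Q T : X.Modules} (hG : Coh.IsQCoh (CohB1.tensorMod G P))
    (hL : Coh.IsQCoh (CohB1.tensorMod L Q)) (e : CohB1.tensorMod P Q ≅ T)
    (h₁ : Curv2.IsGloballyGenerated (CohB1.tensorMod G P))
    (h₂ : Curv2.IsGloballyGenerated (CohB1.tensorMod L Q)) :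
    Curv2.IsGloballyGenerated (CohB1.tensorMod (CohB1.tensorMod G L) T) := by
  haveI := hG
  haveI := hL
  obtain ⟨i⟩ := nonempty_interchange G P L Q
  exact gg_of_epi (i ≪≫ AmpleLib.tensorIso (Iso.refl _) e).hom inferInstance (CurveRR24.gg_tensorMod h₁ h₂)

theorem gg_structure : Curv2.IsGloballyGenerated (Coh.structureModule X) :=
  ⟨PUnit, Sigma.desc fun _ => 𝟙 _,
    (SplitEpi.mk (Sigma.ι (fun _ : PUnit.{u + 1} => (SheafOfModules.unit X.ringCatSheaf : X.Modules)) PUnit.unit)
      (Sigma.ι_desc _ _)).epi⟩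

theorem gg_zero {L T : X.Modules} (e : L ≅ Coh.structureModule X) (f : T ≅ Coh.structureModule X) :
    Curv2.IsGloballyGenerated (CohB1.tensorMod L T) :=
  gg_of_epi (AmpleLib.tensorIso e (Iso.refl T) ≪≫ unitTensorIso T ≪≫ f).inv inferInstance gg_structure

include k in
theorem vanish_zero {L T : X.Modules} (e : L ≅ Coh.structureModule X) (i : ℕ)
    (h : Subsingleton (Coh.HH X T i)) : Subsingleton (Coh.HH X (CohB1.tensorMod L T) i) := by
  haveI := h
  exact subsingleton_HH_of_iso k (AmpleLib.tensorIso e (Iso.refl T) ≪≫ unitTensorIso T) i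

end Retract

section Base

attribute [local instance] overQ2

variable (k : Type u) [Field k]

theorem vanish_reg (u₁ u₂ : ℕ) (h : 0 < u₁ + u₂) :
    Subsingleton (Coh.HH (Q2 k) (O2 k (-(u₁ : ℤ)) (-(u₂ : ℤ))) (u₁ + u₂)) := by
  rcases (show 3 ≤ u₁ + u₂ ∨ u₁ = 1 ∨ u₂ = 1 ∨ (u₁ = 2 ∧ u₂ = 0) ∨ (u₁ = 0 ∧ u₂ = 2) by omega) with
    h3 | rfl | rfl | ⟨rfl, rfl⟩ | ⟨rfl, rfl⟩
  · exact @vanish_of_three_le k _ _ (isQCoh_of_isInvertible (isInvertible_O2 k _ _)) _ h3
  · exact vanish_neg_one_left k _ _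
  · exact vanish_neg_one_right k _ _
  · obtain ⟨S, hS, ⟨e₁⟩, ⟨e₂⟩, ⟨e₃⟩⟩ := exists_seq_fst k (-1) 0
    haveI : Subsingleton (Coh.HH (Q2 k) (O2 k (-1 + 1) 0) 1) := vanish_higher k _ _ (by omega) (by omega) 1 le_rfl
    haveI := subsingleton_sigma k (n := 2) (O2 k (-1) 0) 2 (vanish_neg_one_left k 0 2)
    haveI := subsingleton_HH_of_iso k e₂ 2
    haveI : Subsingleton (Coh.HH (Q2 k) S.X₁ 2) :=
      (hmap_injective_of_shortExact k hS 1 (subsingleton_HH_of_iso k e₃ 1)).subsingleton
    exact subsingleton_HH_of_iso k e₁.symm 2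
  · obtain ⟨S, hS, ⟨e₁⟩, ⟨e₂⟩, ⟨e₃⟩⟩ := exists_seq_snd k 0 (-1)
    haveI : Subsingleton (Coh.HH (Q2 k) (O2 k 0 (-1 + 1)) 1) := vanish_higher k _ _ (by omega) (by omega) 1 le_rfl
    haveI := subsingleton_sigma k (n := 2) (O2 k 0 (-1)) 2 (vanish_neg_one_right k 0 2)
    haveI := subsingleton_HH_of_iso k e₂ 2
    haveI : Subsingleton (Coh.HH (Q2 k) S.X₁ 2) :=
      (hmap_injective_of_shortExact k hS 1 (subsingleton_HH_of_iso k e₃ 1)).subsingleton
    exact subsingleton_HH_of_iso k e₁.symm 2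

end Base

/-- Let k be an algebraically closed field of characteristic zero and G a finite locally free O-module
on P¹ ×_k P¹ which is (p, q)-regular in the bigraded sense (H^{u₁+u₂}(P¹ × P¹, G(p - u₁, q - u₂)) =
0 whenever u₁ + u₂ > 0) and whose twist G(p, q) is globally generated. Then for every natural number
j, every j-th exterior power L of G (an O-module with L(U) ≅ ⋀^j G(U) over the affine opens U,
compatibly with restriction) is (j·p, j·q)-regular. (As for the first assertion, the published lemma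
has no global-generation hypothesis and takes it from the bigraded form of Mumford's regularity
criterion, quoted without proof in the source; it is carried here. The source states this assertion
over the complex numbers.) -/
theorem result (k : Type u) [Field k] [IsAlgClosed k] [CharZero k]
    (G : (W4c3multigrregular.biProj 1 1 k).Modules) (hG : FlatMod.IsFinLocFree G) (p q : ℤ)
    (hreg : W4c3multigrregular.IsBiReg 1 1 k G p q)
    (hgg : Curv2.IsGloballyGenerated (W4c3multigrregular.twistBi 1 1 k G p q))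
    (j : ℕ) (L : (W4c3multigrregular.biProj 1 1 k).Modules) (hL : ExtPow.IsExtPow j G L) :
    W4c3multigrregular.IsBiReg 1 1 k L (j * p) (j * q) := by
  letI : (W4c3multigrregular.biProj 1 1 k).Over (Spec (CommRingCat.of k)) := overQ2 k
  suffices H : ∀ (j : ℕ) (L : (W4c3multigrregular.biProj 1 1 k).Modules), ExtPow.IsExtPow j G L →
      W4c3multigrregular.IsBiReg 1 1 k L (j * p) (j * q) ∧
      Curv2.IsGloballyGenerated (W4c3multigrregular.twistBi 1 1 k L (j * p) (j * q)) from (H j L hL).1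
  intro j
  induction j with
  | zero =>
    intro L hL
    obtain ⟨e⟩ := KvbLam28.exists_iso_of_isExtPow hL (KvbLam28.isExtPow_zero G)
    refine ⟨fun u₁ u₂ hu => ?_, ?_⟩
    · unfold W4c3multigrregular.twistBi W4c3multigrregular.lineBundle
      rw [show ((0 : ℕ) : ℤ) * p - u₁ = -(u₁ : ℤ) by omega, show ((0 : ℕ) : ℤ) * q - u₂ = -(u₂ : ℤ) by omega]
      exact vanish_zero k e _ (vanish_reg k u₁ u₂ hu)
    · unfold W4c3multigrregular.twistBi W4c3multigrregular.lineBundle
      rw [show ((0 : ℕ) : ℤ) * p = 0 by omega, show ((0 : ℕ) : ℤ) * q = 0 by omega]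
      obtain ⟨f⟩ := nonempty_structure k
      exact gg_zero e f
  | succ j ih =>
    intro L' hL'
    obtain ⟨L, hLf, hL⟩ := ExtPowEx28.exists_isExtPow hG j
    obtain ⟨hr, hg⟩ := ih L hL
    obtain ⟨s, r, hsr⟩ := exists_retract k hL hL'
    have hP := Groth.Agent.S16142.result k G L hG hLf p q (j * p) (j * q) hreg hr hgg hg
    rw [show ((j + 1 : ℕ) : ℤ) * p = p + j * p by push_cast; ring,
      show ((j + 1 : ℕ) : ℤ) * q = q + j * q by push_cast; ring]
    refine ⟨fun u₁ u₂ hu => retract_twist k s r hsr _ (hP u₁ u₂ hu), gg_retract s r hsr ?_⟩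
    unfold W4c3multigrregular.twistBi W4c3multigrregular.lineBundle at hgg hg
    obtain ⟨e⟩ := nonempty_add k (show p + (j : ℤ) * p = p + j * p from rfl) (show q + (j : ℤ) * q = q + j * q from rfl)
    exact gg_prod (S16142.qcoh_of_lf k (X := Q2 k) (S16142.lf_tensor hG (isFinLocFree_O2 k p q)))
      (S16142.qcoh_of_lf k (X := Q2 k) (S16142.lf_tensor hLf (isFinLocFree_O2 k _ _))) e hgg hg

end Groth.Agent.S16145
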