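import Groth.Statements.S16148
import Groth.Agent.H0Growth23.NegTwist
import Groth.Agent.CAlgH3.PSheafGen
import Groth.Agent.MorProj.VeryAmple
open Groth.Agent Groth.Agent.Coherent Groth.Agent.PicLib Groth.Agent.AmpleLib Groth.Agent.EulerLib Groth.Agent.H0Growth23
open Groth.Agent.CAlgH3 Groth.Agent.CAlgH3.PSheaf Groth.Agent.CAlgH3.PSheafSeq Groth.Agent.CAlgH3.PSheafGen

set_option autoImplicit false
universe u
open CategoryTheory CategoryTheory.Limits AlgebraicGeometry
open Variety

namespace Groth.Agent.S16148

/-- Let k be a characteristic-zero algebraically closed field and G a coherent O-module (quasi-coherent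
of finite type) on projective n-space P^n_k whose support, as a subspace of P^n_k, has Krull
dimension a with a ≥ 1. Then there is an integer m such that H^a(P^n_k, G(m)) ≠ 0, where G(m) = G ⊗
O(m). (The source works over the complex numbers.) -/
theorem result (k : Type u) [Field k] [IsAlgClosed k] [CharZero k]
    (n : ℕ) (G : (CohB1.ProjSpace n k).Modules) (hG : Coh.IsCoh G) (a : ℕ) (ha : 1 ≤ a)
    (hdim : topologicalKrullDim ↥(CohB1.support G) = a) :
    ∃ m : ℤ, Nontrivial (Coh.HH (CohB1.ProjSpace n k) (CohB1.tensorMod G (Twist.twistProjSpace n k m)) a) := by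
  classical
  haveI : IsProper (CohB1.ProjSpace n k ↘ Spec (CommRingCat.of k)) := Groth.Agent.Coherent.isProper_projSpace_toSpec n k
  haveI := EulerLib.isNoetherian_of_proper (X := CohB1.ProjSpace n k) k
  let T := fun t : ℤ => InvCl.mk (Twist.twistProjSpace n k t) (isInvertible_twistProj t)
  have hTmul : ∀ s t : ℤ, T s * T t = T (s + t) := fun s t => by
    obtain ⟨e⟩ := nonempty_twist_assoc (r := n) (k := k) (F := Coh.structureModule _)
      (Groth.Agent.Coherent.isCoh_structureModule _).1 (rfl : s + t = s + t)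
    refine (InvCl.mk_mul _ _).trans (InvCl.mk_eq _ _ ?_)
    exact Groth.Agent.AmpleLib.tensorIso (unitTensorIso _).symm (Iso.refl _) ≪≫ e ≪≫ unitTensorIso _
  have hT0 : T 0 = 1 := by
    obtain ⟨b, hb⟩ := Groth.Agent.H0Growth23.exists_inv (isInvertible_twistProj (r := n) (k := k) 0)
    have h := congrArg (· * b) (hTmul 0 0)
    simp only [add_zero, mul_assoc] at h
    rwa [hb, mul_one] at h
  have hpow : ∀ m : ℕ, T (-1) ^ m = T (-(m : ℤ)) := fun m => by
    induction m with
    | zero => rw [pow_zero, Nat.cast_zero, neg_zero, hT0]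
    | succ m ih => rw [pow_succ, ih, hTmul]; congr 1; push_cast; ring
  have hA : CohB1.IsAmple (Twist.twistProjSpace n k 1) := TwistLib.G.isAmple_twist_one (𝒜 := CohB1.polyGrading n k) (Finset.univ.image MvPolynomial.X) (by
      intro g hg
      obtain ⟨j, -, rfl⟩ := Finset.mem_image.1 hg
      exact MvPolynomial.isHomogeneous_X _ j) (by
      classical
      rw [Finset.coe_image, Finset.coe_univ, Set.image_univ]
      refine le_antisymm (ProjLib.irrelevant_le_span_X n _) (Ideal.span_le.2 ?_)
      rintro _ ⟨j, rfl⟩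
      exact HomogeneousIdeal.mem_irrelevant_of_mem (CohB1.polyGrading n _) Nat.one_pos
        (MvPolynomial.isHomogeneous_X _ j))
  obtain ⟨m, hm⟩ := exists_neg_twist_top k hA (fun S hS => Groth.Agent.Mumford23.exists_section_glocus S hS)
    (a' := T (-1)) ((hTmul 1 (-1)).trans (by rw [add_neg_cancel, hT0])) hG ha hdim
  refine ⟨-(m : ℤ), ?_⟩
  rw [hpow, hh_mk] at hm
  exact not_subsingleton_iff_nontrivial.1 fun h => hm (@Module.finrank_zero_of_subsingleton k _ _ _ _ _ h)

end Groth.Agent.S16148
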