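import Groth.Statements.S16149
import Mathlib
import Groth.Agent.RefHullLib.IsoLocus
import Groth.Agent.Coherent.ProperFinite

set_option autoImplicit false
universe u
open CategoryTheory CategoryTheory.Limits AlgebraicGeometry TopologicalSpace
open SDiv

namespace Groth.Agent.S16149

/-- Let X be a locally Noetherian scheme, F a coherent O_X-module (quasi-coherent of finite type) and s
: O_X → F a global section of F. Then the set of points x of X at which the stalk map (O_X)_x → F_x
of s is bijective is open. (The published statement assumes moreover X integral and normal and F
reflexive of rank one; the openness assertion uses only that F is coherent on a locally Noetherian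
scheme, and it can fail for F quasi-coherent of finite type on a scheme that is not locally
Noetherian.) -/
theorem result (X : Scheme.{u}) [IsLocallyNoetherian X] (F : X.Modules) (hF : Coh.IsCoh F)
    (s : Coh.structureModule X ⟶ F) : IsOpen (RefPow.isoLocus s) := by
  exact Groth.Agent.RefHullLib.isOpen_bijective_stalk s (Groth.Agent.Coherent.isCoh_structureModule X) hF
end Groth.Agent.S16149
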