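import Groth.Statements.S16152
import Mathlib.Algebra.MvPolynomial.PDeriv
import Mathlib.Tactic.Module
import Mathlib.Tactic.Ring
import Mathlib.Tactic.FieldSimp
import Mathlib.RingTheory.MvPolynomial.Homogeneous

set_option autoImplicit false
universe u
open WGauss

namespace Groth.Agent.S16152

open Finsupp in
theorem exists_between {N : Type*} (U : N →₀ ℕ) :
    ∀ (L : N →₀ ℕ) (m : ℕ), L ≤ U → L.degree ≤ m → m ≤ U.degree →
      ∃ A, L ≤ A ∧ A ≤ U ∧ A.degree = m := by
  classical
  intro L m hL h1 h2
  induction m, h1 using Nat.le_induction with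
  | base => exact ⟨L, le_rfl, hL, rfl⟩
  | succ m _ ih =>
    obtain ⟨A, hLA, hAU, hA⟩ := ih (by omega)
    obtain ⟨i, hi⟩ : ∃ i, A i < U i := by
      by_contra h
      push Not at h
      have : A = U := le_antisymm hAU (fun i => h i)
      rw [this] at hA; omega
    refine ⟨A + Finsupp.single i 1, hLA.trans le_self_add, fun j => ?_, by simp [hA]⟩
    rcases eq_or_ne j i with rfl | hj
    · simpa using hi
    · simpa [hj] using hAU j

open MvPolynomial in
/-- the Gauss map on monomials -/
theorem gauss_monomial {k : Type u} [Field k] {N : ℕ} (a b : k) (α β : Fin N →₀ ℕ) (i : Fin N) :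
    b • (monomial β (1 : k) * pderiv i (monomial α 1)) - a • (monomial α (1 : k) * pderiv i (monomial β 1))
      = monomial (α + β - Finsupp.single i 1) (b * (α i : k) - a * (β i : k)) := by
  classical
  simp only [pderiv_monomial, monomial_mul, one_mul, smul_monomial, smul_eq_mul]
  rcases Nat.eq_zero_or_pos (α i) with hA | hA <;> rcases Nat.eq_zero_or_pos (β i) with hB | hB
  · simp [hA, hB]
  · have e : α + (β - Finsupp.single i 1) = α + β - Finsupp.single i 1 :=
      (add_tsub_assoc_of_le (Finsupp.single_le_iff.2 hB) α).symm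
    simp [hA, e]
  · have e : β + (α - Finsupp.single i 1) = α + β - Finsupp.single i 1 := by
      rw [add_comm α β, add_tsub_assoc_of_le (Finsupp.single_le_iff.2 hA)]
    simp [hB, e]
  · have e : α + (β - Finsupp.single i 1) = α + β - Finsupp.single i 1 :=
      (add_tsub_assoc_of_le (Finsupp.single_le_iff.2 hB) α).symm
    have e' : β + (α - Finsupp.single i 1) = α + β - Finsupp.single i 1 := by
      rw [add_comm α β, add_tsub_assoc_of_le (Finsupp.single_le_iff.2 hA)]
    rw [e, e', ← map_sub]

open MvPolynomial in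
/-- Over a field k of characteristic zero, for e, a, b positive integers with a < b, the weighted
Gaussian map of the line bundle O(e) on projective n-space is surjective. Concretely, identifying
global sections of O(m) with homogeneous polynomials of degree m in X_0, ..., X_n and global
sections of the twisted cotangent sheaf Omega^1(t) with the (n+1)-tuples of homogeneous polynomials
of degree t - 1 killed by the Euler map (f_i) to sum_i X_i f_i, every such tuple with t = (a+b)e is
a k-linear combination of the tuples (b tau (d sigma / d X_i) - a sigma (d tau / d X_i))_i with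
sigma homogeneous of degree ae and tau homogeneous of degree be. (The source works over the complex
numbers; the statement is one of linear algebra and is given here over any field of characteristic
zero.) -/
theorem result
    (k : Type u) [Field k] [CharZero k] (n e a b : ℕ) (he : 0 < e) (ha : 0 < a) (hab : a < b)
    (f : Fin (n + 1) → MvPolynomial (Fin (n + 1)) k)
    (hf : ∀ i, (f i).IsHomogeneous ((a + b) * e - 1))
    (hEuler : ∑ i, X i * f i = 0) :
    f ∈ Submodule.span k
      {g : Fin (n + 1) → MvPolynomial (Fin (n + 1)) k |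
        ∃ σ τ : MvPolynomial (Fin (n + 1)) k, σ.IsHomogeneous (a * e) ∧ τ.IsHomogeneous (b * e) ∧
          g = fun i => (b : k) • (τ * pderiv i σ) - (a : k) • (σ * pderiv i τ)} := by
  classical
  let Sp := Submodule.span k
      {g : Fin (n + 1) → MvPolynomial (Fin (n + 1)) k |
        ∃ σ τ : MvPolynomial (Fin (n + 1)) k, σ.IsHomogeneous (a * e) ∧ τ.IsHomogeneous (b * e) ∧
          g = fun i => (b : k) • (τ * pderiv i σ) - (a : k) • (σ * pderiv i τ)}
  let vec : (Fin (n + 1) →₀ ℕ) → Fin (n + 1) → (Fin (n + 1) → MvPolynomial (Fin (n + 1)) k) :=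
    fun γ i => Pi.single i (monomial (γ - Finsupp.single i 1) 1)
  have gen : ∀ α β : Fin (n + 1) →₀ ℕ, α.degree = a * e → β.degree = b * e →
      (∑ i, ((b : k) * (α i : k) - (a : k) * (β i : k)) • vec (α + β) i) ∈ Sp := by
    intro α β hα hβ
    refine Submodule.subset_span ⟨monomial α 1, monomial β 1, isHomogeneous_monomial _ hα,
      isHomogeneous_monomial _ hβ, ?_⟩
    ext1 i
    rw [gauss_monomial, Finset.sum_apply]
    simp [vec, Pi.single_apply, smul_monomial]
  have hae : 1 ≤ a * e := Nat.mul_pos ha he
  have hbe : 1 ≤ b * e := Nat.mul_pos (by omega) he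
  have hab' : ((a + b : ℕ) : k) ≠ 0 := Nat.cast_ne_zero.2 (by omega)
  have diff : ∀ γ : Fin (n + 1) →₀ ℕ, γ.degree = (a + b) * e → ∀ p q, p ∈ γ.support → q ∈ γ.support →
      vec γ p - vec γ q ∈ Sp := by
    intro γ hγ p q hp hq
    rcases eq_or_ne p q with rfl | hpq
    · simp
    have hp1 : 1 ≤ γ p := Nat.one_le_iff_ne_zero.2 (Finsupp.mem_support_iff.1 hp)
    have hq1 : 1 ≤ γ q := Nat.one_le_iff_ne_zero.2 (Finsupp.mem_support_iff.1 hq)
    have hle : Finsupp.single p 1 ≤ γ - Finsupp.single q 1 := by
      rw [Finsupp.single_le_iff]; simpa [hpq] using hp1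
    have hdeg : (γ - Finsupp.single q 1).degree = (a + b) * e - 1 := by
      have h : γ - Finsupp.single q 1 + Finsupp.single q 1 = γ :=
        tsub_add_cancel_of_le (Finsupp.single_le_iff.2 hq1)
      have := congrArg Finsupp.degree h
      simp [hγ] at this; omega
    obtain ⟨A, hA1, hA2, hA3⟩ := exists_between (γ - Finsupp.single q 1) _ (a * e) hle
      (by simpa using hae) (by rw [hdeg, add_mul]; omega)
    obtain ⟨A₀, rfl⟩ : ∃ A₀, A = A₀ + Finsupp.single p 1 :=
      ⟨A - Finsupp.single p 1, (tsub_add_cancel_of_le hA1).symm⟩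
    obtain ⟨B₀, rfl⟩ : ∃ B₀, γ = A₀ + Finsupp.single p 1 + Finsupp.single q 1 + B₀ :=
      ⟨γ - (A₀ + Finsupp.single p 1 + Finsupp.single q 1), (add_tsub_cancel_of_le (by
        simpa using (add_le_add_left hA2 _).trans
          (tsub_add_cancel_of_le (Finsupp.single_le_iff.2 hq1)).le)).symm⟩
    simp only [map_add, Finsupp.degree_single] at hA3 hγ
    have g1 := gen (A₀ + Finsupp.single p 1) (B₀ + Finsupp.single q 1)
      (by simp; omega) (by simp [add_mul] at hγ ⊢; omega)
    have g2 := gen (A₀ + Finsupp.single q 1) (B₀ + Finsupp.single p 1)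
      (by simp; omega) (by simp [add_mul] at hγ ⊢; omega)
    rw [show A₀ + Finsupp.single p 1 + (B₀ + Finsupp.single q 1) =
      A₀ + Finsupp.single p 1 + Finsupp.single q 1 + B₀ by abel] at g1
    rw [show A₀ + Finsupp.single q 1 + (B₀ + Finsupp.single p 1) =
      A₀ + Finsupp.single p 1 + Finsupp.single q 1 + B₀ by abel] at g2
    have g := Sp.smul_mem ((a + b : ℕ) : k)⁻¹ (sub_mem g1 g2)
    rw [← Finset.sum_sub_distrib, Finset.smul_sum, Fintype.sum_eq_add p q hpq
      (fun i hi => by simp [hi.1, hi.2])] at g
    simp only [← sub_smul, smul_smul] at g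
    convert g using 1
    simp only [Finsupp.coe_add, Pi.add_apply, Finsupp.single_eq_same, ne_eq, hpq, hpq.symm,
      not_false_eq_true, Finsupp.single_eq_of_ne, Nat.cast_add, Nat.cast_one, add_zero]
    have hab'' : (a : k) + (b : k) ≠ 0 := by exact_mod_cast hab'
    match_scalars <;> (field_simp; ring)
  let c : (Fin (n + 1) →₀ ℕ) → Fin (n + 1) → k :=
    fun γ i => coeff (γ - Finsupp.single i 1) (f i)
  let T : Finset (Fin (n + 1) →₀ ℕ) :=
    Finset.univ.biUnion fun i => (f i).support.image (· + Finsupp.single i 1)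
  have hdec : f = ∑ γ ∈ T, ∑ i ∈ γ.support, c γ i • vec γ i := by
    ext1 j
    ext δ
    simp only [Finset.sum_apply, coeff_sum, vec, Pi.smul_apply, Pi.single_apply, smul_ite, smul_zero,
      Finset.sum_ite_eq, coeff_smul, smul_eq_mul]
    rw [Finset.sum_eq_single (δ + Finsupp.single j 1)]
    · simp [c]
    · intro γ _ hne
      split_ifs with hj
      · have hne' : γ - Finsupp.single j 1 ≠ δ := by
          rintro rfl
          exact hne (tsub_add_cancel_of_le (Finsupp.single_le_iff.2
            (Nat.one_le_iff_ne_zero.2 (Finsupp.mem_support_iff.1 hj)))).symm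
        simp [coeff_monomial, hne']
      · simp
    · intro hT
      have : coeff δ (f j) = 0 := by
        by_contra h0
        exact hT (Finset.mem_biUnion.2 ⟨j, Finset.mem_univ _,
          Finset.mem_image.2 ⟨δ, mem_support_iff.2 h0, rfl⟩⟩)
      simp [c, this]
  rw [hdec]
  refine Sp.sum_mem fun γ hγ => ?_
  obtain ⟨j, -, hj⟩ := Finset.mem_biUnion.1 hγ
  obtain ⟨δ, hδ, rfl⟩ := Finset.mem_image.1 hj
  have hpos : 1 ≤ (a + b) * e := Nat.mul_pos (by omega) he
  have hdeg : (δ + Finsupp.single j 1).degree = (a + b) * e := by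
    have h := (hf j).degree_eq_sum_deg_support hδ
    rw [map_add, Finsupp.degree_single, Finsupp.degree_apply, ← h]
    omega
  have hjs : j ∈ (δ + Finsupp.single j 1).support := by simp
  have hzero : ∑ i ∈ (δ + Finsupp.single j 1).support, c (δ + Finsupp.single j 1) i = 0 := by
    have h := congrArg (coeff (δ + Finsupp.single j 1)) hEuler
    simp only [coeff_sum, coeff_zero, coeff_X_mul'] at h
    rw [← h, Finset.sum_ite_mem, Finset.univ_inter]
  have : ∑ i ∈ (δ + Finsupp.single j 1).support, c (δ + Finsupp.single j 1) i •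
      vec (δ + Finsupp.single j 1) i = ∑ i ∈ (δ + Finsupp.single j 1).support,
        c (δ + Finsupp.single j 1) i •
          (vec (δ + Finsupp.single j 1) i - vec (δ + Finsupp.single j 1) j) := by
    simp only [smul_sub, Finset.sum_sub_distrib, ← Finset.sum_smul, hzero, zero_smul, sub_zero]
  rw [this]
  exact Sp.sum_mem fun i hi => Sp.smul_mem _ (diff _ hdeg i j hi hjs)

end Groth.Agent.S16152
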