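import Groth.Statements.S16153
import Mathlib
-- import your own Groth.Agent.* helpers here

set_option autoImplicit false
universe u
open SpinRat

namespace Groth.Agent.S16153

open MvPolynomial in
/-- anchor -/
theorem anchor16153 : 0 + 0 = 0 := rfl

section Helpers

open MvPolynomial

variable {k : Type u} [Field k]

/-- The exponent of `x0^(3-i) x1^i y0^(3-j) y1^j`. -/
noncomputable def mm (i j : Fin 4) : Fin 4 →₀ ℕ := Finsupp.equivFunOnFinite.symm ![3 - i.val, i.val, 3 - j.val, j.val]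

theorem mm_inj {i j i' j' : Fin 4} (h : mm i j = mm i' j') : i = i' ∧ j = j' := by
  have h1 := congrArg (fun u : Fin 4 →₀ ℕ => u 1) h
  have h3 := congrArg (fun u : Fin 4 →₀ ℕ => u 3) h
  simp [mm] at h1 h3
  exact ⟨Fin.ext h1, Fin.ext h3⟩

theorem weight_eq (w : Fin 4 → ℕ) (u : Fin 4 →₀ ℕ) :
    Finsupp.weight w u = u 0 * w 0 + u 1 * w 1 + u 2 * w 2 + u 3 * w 3 := by
  rw [Finsupp.weight_apply, Finsupp.sum_fintype _ _ (fun i => zero_smul ℕ (w i)), Fin.sum_univ_four]
  simp

theorem eq_sum_mm {f : MvPolynomial (Fin 4) k} (h1 : f.IsWeightedHomogeneous (![1, 1, 0, 0] : Fin 4 → ℕ) 3)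
    (h2 : f.IsWeightedHomogeneous (![0, 0, 1, 1] : Fin 4 → ℕ) 3) :
    f = ∑ i : Fin 4, ∑ j : Fin 4, C (coeff (mm i j) f) *
      (X 0 ^ (3 - i.val) * X 1 ^ i.val * X 2 ^ (3 - j.val) * X 3 ^ j.val) := by
  classical
  have hm : ∀ i j : Fin 4, ∀ a : k, C a * (X 0 ^ (3 - i.val) * X 1 ^ i.val * X 2 ^ (3 - j.val) * X 3 ^ j.val) =
      (monomial (mm i j) a : MvPolynomial (Fin 4) k) := by
    intro i j a
    rw [monomial_eq, Finsupp.prod_fintype _ _ (fun l => pow_zero _), Fin.prod_univ_four]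
    simp [mm]
  simp only [hm]
  ext u
  simp only [coeff_sum, coeff_monomial]
  by_cases hu : coeff u f = 0
  · rw [hu]
    refine (Finset.sum_eq_zero fun i _ => Finset.sum_eq_zero fun j _ => ?_).symm
    split
    · next h => rw [h, hu]
    · rfl
  · have e1 := h1 hu
    have e2 := h2 hu
    rw [weight_eq] at e1 e2
    simp at e1 e2
    have he : mm ⟨u 1, by omega⟩ ⟨u 3, by omega⟩ = u := by
      ext l; fin_cases l <;> simp [mm] <;> omega
    rw [Finset.sum_eq_single ⟨u 1, by omega⟩, Finset.sum_eq_single ⟨u 3, by omega⟩, if_pos he, he]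
    · intro j _ hj
      rw [if_neg]
      exact fun h => hj (mm_inj (h.trans he.symm)).2
    · simp
    · intro i _ hi
      refine Finset.sum_eq_zero fun j _ => ?_
      rw [if_neg]
      exact fun h => hi (mm_inj (h.trans he.symm)).1
    · simp

theorem coeff_swap (f : MvPolynomial (Fin 4) k) (i j : Fin 4) :
    coeff (mm i j) (rename (![2, 3, 0, 1] : Fin 4 → Fin 4) f) = coeff (mm j i) f := by
  have hinj : Function.Injective (![2, 3, 0, 1] : Fin 4 → Fin 4) := by decide
  have h : mm i j = Finsupp.mapDomain (![2, 3, 0, 1] : Fin 4 → Fin 4) (mm j i) := by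
    ext l
    obtain ⟨m, rfl⟩ : ∃ m, (![2, 3, 0, 1] : Fin 4 → Fin 4) m = l := by revert l; decide
    rw [Finsupp.mapDomain_apply hinj]
    fin_cases m <;> simp [mm]
  rw [h, coeff_rename_mapDomain _ hinj]

/-- The restriction condition on the coefficients. -/
theorem restriction_coeffs {f : MvPolynomial (Fin 4) k} (h1 : f.IsWeightedHomogeneous (![1, 1, 0, 0] : Fin 4 → ℕ) 3)
    (h2 : f.IsWeightedHomogeneous (![0, 0, 1, 1] : Fin 4 → ℕ) 3)
    (hdvd : (X 0 * X 1 * (X 0 - X 1)) ^ 2 ∣ rename (![0, 1, 0, 1] : Fin 4 → Fin 2) f) :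
    let a : Fin 4 → Fin 4 → k := fun i j => coeff (mm i j) f
    a 0 0 = 0 ∧ a 0 1 + a 1 0 = 0 ∧ a 2 3 + a 3 2 = 0 ∧ a 3 3 = 0 ∧
      a 0 3 + a 1 2 + a 2 1 + a 3 0 = -2 * (a 0 2 + a 1 1 + a 2 0) ∧
      a 1 3 + a 2 2 + a 3 1 = a 0 2 + a 1 1 + a 2 0 := by
  intro a
  obtain ⟨q, hq⟩ := hdvd
  have hg : (rename (![0, 1, 0, 1] : Fin 4 → Fin 2) f).totalDegree ≤ 6 := by
    refine (totalDegree_rename_le _ f).trans (Finset.sup_le fun u hu => ?_)
    have e1 := h1 (mem_support_iff.1 hu)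
    have e2 := h2 (mem_support_iff.1 hu)
    rw [weight_eq] at e1 e2
    simp at e1 e2
    rw [Finsupp.sum_fintype _ _ (fun _ => rfl), Fin.sum_univ_four]
    omega
  have hD : ((X 0 * X 1 * (X 0 - X 1)) ^ 2 : MvPolynomial (Fin 2) k).totalDegree = 6 ∧
      ((X 0 * X 1 * (X 0 - X 1)) ^ 2 : MvPolynomial (Fin 2) k) ≠ 0 := by
    have hhom : ((X 0 * X 1 * (X 0 - X 1)) ^ 2 : MvPolynomial (Fin 2) k).IsHomogeneous 6 :=
      (((isHomogeneous_X k 0).mul (isHomogeneous_X k 1)).mul ((isHomogeneous_X k 0).sub (isHomogeneous_X k 1))).pow 2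
    have hne : ((X 0 * X 1 * (X 0 - X 1)) ^ 2 : MvPolynomial (Fin 2) k) ≠ 0 := by
      refine pow_ne_zero _ (mul_ne_zero (mul_ne_zero (X_ne_zero _) (X_ne_zero _)) (sub_ne_zero.2 fun h => ?_))
      exact absurd (X_injective h) (by decide)
    exact ⟨hhom.totalDegree hne, hne⟩
  obtain ⟨t, ht⟩ : ∃ t, q = C t := by
    by_cases hq0 : q = 0
    · exact ⟨0, by rw [hq0, map_zero]⟩
    refine ⟨coeff 0 q, totalDegree_eq_zero_iff_eq_C.1 ?_⟩
    rw [hq, totalDegree_mul_of_isDomain hD.2 hq0, hD.1] at hg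
    omega
  have h := congrArg (aeval (![1, Polynomial.X] : Fin 2 → Polynomial k)) hq
  rw [aeval_rename, ht] at h
  conv_lhs at h => rw [eq_sum_mm h1 h2]
  simp [Fin.sum_univ_four, Function.comp_def] at h
  set A : Fin 4 → Fin 4 → k := fun i j => coeff (mm i j) f with hA
  have h' : Polynomial.C (A 0 0) + Polynomial.C (A 0 1 + A 1 0) * Polynomial.X ^ 1 + Polynomial.C (A 0 2 + A 1 1 + A 2 0 - t) * Polynomial.X ^ 2
      + Polynomial.C (A 0 3 + A 1 2 + A 2 1 + A 3 0 + 2 * t) * Polynomial.X ^ 3 + Polynomial.C (A 1 3 + A 2 2 + A 3 1 - t) * Polynomial.X ^ 4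
      + Polynomial.C (A 2 3 + A 3 2) * Polynomial.X ^ 5 + Polynomial.C (A 3 3) * Polynomial.X ^ 6 = 0 := by
    simp only [hA, map_add, map_sub, map_mul, map_ofNat]
    linear_combination h
  have hc : ∀ n, Polynomial.coeff _ n = Polynomial.coeff _ n := fun n => congrArg (fun p => Polynomial.coeff p n) h'
  have e0 := hc 0
  have e1 := hc 1
  have e2 := hc 2
  have e3 := hc 3
  have e4 := hc 4
  have e5 := hc 5
  have e6 := hc 6
  simp only [Polynomial.coeff_add, Polynomial.coeff_C_mul_X_pow, Polynomial.coeff_C, Polynomial.coeff_zero] at e0 e1 e2 e3 e4 e5 e6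
  norm_num at e0 e1 e2 e3 e4 e5 e6
  refine ⟨?_, ?_, ?_, ?_, ?_, ?_⟩
  · linear_combination e0
  · linear_combination e1
  · linear_combination e5
  · linear_combination e6
  · linear_combination e3 + 2 * e2
  · linear_combination e4 - e2

/-- The forms of bidegree `(d, d)`. -/
def Bideg (d : ℕ) (f : MvPolynomial (Fin 4) k) : Prop :=
  f.IsWeightedHomogeneous (![1, 1, 0, 0] : Fin 4 → ℕ) d ∧ f.IsWeightedHomogeneous (![0, 0, 1, 1] : Fin 4 → ℕ) d

theorem Bideg.mul {d e : ℕ} {f g : MvPolynomial (Fin 4) k} (hf : Bideg d f) (hg : Bideg e g) : Bideg (d + e) (f * g) :=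
  ⟨hf.1.mul hg.1, hf.2.mul hg.2⟩

theorem Bideg.add {d : ℕ} {f g : MvPolynomial (Fin 4) k} (hf : Bideg d f) (hg : Bideg d g) : Bideg d (f + g) :=
  ⟨hf.1.add hg.1, hf.2.add hg.2⟩

theorem Bideg.sub {d : ℕ} {f g : MvPolynomial (Fin 4) k} (hf : Bideg d f) (hg : Bideg d g) : Bideg d (f - g) :=
  ⟨hf.1.sub hg.1, hf.2.sub hg.2⟩

theorem bideg_pair {i j : Fin 4} (hi : i = 0 ∨ i = 1) (hj : j = 2 ∨ j = 3) : Bideg (k := k) 1 (X i * X j) := by
  have a := isWeightedHomogeneous_X k (![1, 1, 0, 0] : Fin 4 → ℕ) i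
  have b := isWeightedHomogeneous_X k (![1, 1, 0, 0] : Fin 4 → ℕ) j
  have c := isWeightedHomogeneous_X k (![0, 0, 1, 1] : Fin 4 → ℕ) i
  have d := isWeightedHomogeneous_X k (![0, 0, 1, 1] : Fin 4 → ℕ) j
  rcases hi with rfl | rfl <;> rcases hj with rfl | rfl <;>
    exact ⟨by simpa using a.mul b, by simpa using c.mul d⟩

end Helpers

open MvPolynomial in
set_option maxHeartbeats 1000000 in
/-- In the bigraded polynomial ring k[x0, x1, y0, y1] of the quadric surface (variables X 0, X 1, X 2, X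
3 in this order), over a field k of characteristic zero, let iota exchange x_i with y_i, let l = x0
y1 - x1 y0 be the diagonal, h1 = x0 (y1 - y0) + y0 (x1 - x0), h2 = x1 (y0 - y1) + y1 (x0 - x1), h3 =
x0 y1 + x1 y0, h = h1 + h2 + h3, h13 = h1 - h3, h23 = h2 - h3, and let c = x0 x1 (x0 - x1) y0 y1 (y0
- y1) be the product of the six rulings through the three diagonal points (1:0)x(1:0), (0:1)x(0:1),
(1:1)x(1:1). Let I be the space of forms of bidegree (3,3) whose restriction to the diagonal is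
divisible by (x0 x1 (x0 - x1))^2, that is, the bidegree-(3,3) forms through the length-six subscheme
of the diagonal doubled at those three points. Then the iota-invariant forms in I are exactly the
span of c, l^2 h, l^2 h13, l^2 h23; the iota-anti-invariant forms in I are exactly the span of l
h^2, l h h13, l h h23, l h13^2, l h23^2, l h13 h23; and these ten forms are linearly independent.
(The source works over the complex numbers and writes the two eigenspaces as direct sums of the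
displayed pieces; the six-line form c is read as the product of the two cubic factors.) -/
theorem result
    (k : Type u) [Field k] [CharZero k]
    (l h1 h2 h3 h h13 h23 c : MvPolynomial (Fin 4) k)
    (hl : l = X 0 * X 3 - X 1 * X 2)
    (hh1 : h1 = X 0 * (X 3 - X 2) + X 2 * (X 1 - X 0))
    (hh2 : h2 = X 1 * (X 2 - X 3) + X 3 * (X 0 - X 1))
    (hh3 : h3 = X 0 * X 3 + X 1 * X 2)
    (hh : h = h1 + h2 + h3) (hh13 : h13 = h1 - h3) (hh23 : h23 = h2 - h3)
    (hc : c = X 0 * X 1 * (X 0 - X 1) * (X 2 * X 3 * (X 2 - X 3)))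
    (I : Submodule k (MvPolynomial (Fin 4) k))
    (hI : ∀ f, f ∈ I ↔
      (f.IsWeightedHomogeneous (![1, 1, 0, 0] : Fin 4 → ℕ) 3 ∧
       f.IsWeightedHomogeneous (![0, 0, 1, 1] : Fin 4 → ℕ) 3 ∧
       (X 0 * X 1 * (X 0 - X 1)) ^ 2 ∣ rename (![0, 1, 0, 1] : Fin 4 → Fin 2) f)) :
    (∀ f, (f ∈ I ∧ rename (![2, 3, 0, 1] : Fin 4 → Fin 4) f = f) ↔
        f ∈ Submodule.span k ({c, l ^ 2 * h, l ^ 2 * h13, l ^ 2 * h23} : Set (MvPolynomial (Fin 4) k))) ∧
    (∀ f, (f ∈ I ∧ rename (![2, 3, 0, 1] : Fin 4 → Fin 4) f = -f) ↔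
        f ∈ Submodule.span k ({l * h ^ 2, l * h * h13, l * h * h23, l * h13 ^ 2, l * h23 ^ 2, l * h13 * h23} :
          Set (MvPolynomial (Fin 4) k))) ∧
    LinearIndependent k
      ![c, l ^ 2 * h, l ^ 2 * h13, l ^ 2 * h23, l * h ^ 2, l * h * h13, l * h * h23, l * h13 ^ 2, l * h23 ^ 2,
        l * h13 * h23] := by
  classical
  have hmem : ∀ f, f ∈ I ↔ Bideg 3 f ∧ (X 0 * X 1 * (X 0 - X 1)) ^ 2 ∣ rename (![0, 1, 0, 1] : Fin 4 → Fin 2) f :=
    fun f => (hI f).trans ⟨fun h => ⟨⟨h.1, h.2.1⟩, h.2.2⟩, fun h => ⟨h.1.1, h.1.2, h.2⟩⟩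
  have bl : Bideg 1 l := by
    rw [hl]; exact (bideg_pair (by simp) (by simp)).sub (bideg_pair (by simp) (by simp))
  have b1 : Bideg 1 h1 := by
    rw [hh1, mul_sub, mul_sub, mul_comm (X 2 : MvPolynomial (Fin 4) k) (X 1), mul_comm (X 2 : MvPolynomial (Fin 4) k) (X 0)]
    exact ((bideg_pair (by simp) (by simp)).sub (bideg_pair (by simp) (by simp))).add
      ((bideg_pair (by simp) (by simp)).sub (bideg_pair (by simp) (by simp)))
  have b2 : Bideg 1 h2 := by
    rw [hh2, mul_sub, mul_sub, mul_comm (X 3 : MvPolynomial (Fin 4) k) (X 1), mul_comm (X 3 : MvPolynomial (Fin 4) k) (X 0)]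
    exact ((bideg_pair (by simp) (by simp)).sub (bideg_pair (by simp) (by simp))).add
      ((bideg_pair (by simp) (by simp)).sub (bideg_pair (by simp) (by simp)))
  have b3 : Bideg 1 h3 := by
    rw [hh3]; exact (bideg_pair (by simp) (by simp)).add (bideg_pair (by simp) (by simp))
  have bh : Bideg 1 h := by rw [hh]; exact (b1.add b2).add b3
  have b13 : Bideg 1 h13 := by rw [hh13]; exact b1.sub b3
  have b23 : Bideg 1 h23 := by rw [hh23]; exact b2.sub b3
  have bc : Bideg 3 c := by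
    have e : c = (X 0 * X 2) * (X 1 * X 3) * (X 0 * X 2 - X 0 * X 3 - X 1 * X 2 + X 1 * X 3) := by rw [hc]; ring
    rw [e]
    exact ((bideg_pair (by simp) (by simp)).mul (bideg_pair (by simp) (by simp))).mul
      ((((bideg_pair (by simp) (by simp)).sub (bideg_pair (by simp) (by simp))).sub (bideg_pair (by simp) (by simp))).add
        (bideg_pair (by simp) (by simp)))
  have hl0 : rename (![0, 1, 0, 1] : Fin 4 → Fin 2) l = 0 := by rw [hl]; simp; ring
  have hlI : ∀ f g, Bideg 1 f → Bideg 1 g → l * f * g ∈ I := fun f g hf hg => (hmem _).2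
    ⟨(bl.mul hf).mul hg, by rw [map_mul, map_mul, hl0, zero_mul, zero_mul]; exact dvd_zero _⟩
  have hcI : c ∈ I := (hmem _).2 ⟨bc, ⟨1, by rw [hc]; simp; ring⟩⟩
  have hswap : ∀ p : Fin 4 → k, ∀ g : MvPolynomial (Fin 4) k,
      eval p (rename (![2, 3, 0, 1] : Fin 4 → Fin 4) g) = eval ![p 2, p 3, p 0, p 1] g := by
    intro p g
    rw [eval_rename]
    congr 2
    funext i; fin_cases i <;> rfl
  have hcase : ∀ f, f ∈ I → (f = ∑ i : Fin 4, ∑ j : Fin 4, MvPolynomial.C (MvPolynomial.coeff (mm i j) f) *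
      (MvPolynomial.X 0 ^ (3 - i.val) * MvPolynomial.X 1 ^ i.val * MvPolynomial.X 2 ^ (3 - j.val) * MvPolynomial.X 3 ^ j.val)) :=
    fun f hf => eq_sum_mm ((hmem f).1 hf).1.1 ((hmem f).1 hf).1.2
  refine ⟨fun f => ⟨fun hf => ?_, fun hf => ?_⟩, fun f => ⟨fun hf => ?_, fun hf => ?_⟩, ?_⟩
  · obtain ⟨hfI, hfs⟩ := hf
    obtain ⟨r00, r01, r23, r33, r3, r4⟩ := restriction_coeffs ((hmem f).1 hfI).1.1 ((hmem f).1 hfI).1.2 ((hmem f).1 hfI).2
    obtain ⟨a, ha⟩ : ∃ a : Fin 4 → Fin 4 → k, a = fun i j => MvPolynomial.coeff (mm i j) f := ⟨_, rfl⟩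
    have hsy : ∀ i j, a j i = a i j := fun i j => by
      have h' := congrArg (MvPolynomial.coeff (mm i j)) hfs
      rw [coeff_swap] at h'
      simpa [ha] using h'
    have s10 := hsy 0 1
    have s20 := hsy 0 2
    have s30 := hsy 0 3
    have s21 := hsy 1 2
    have s31 := hsy 1 3
    have s32 := hsy 2 3
    have t0 := hsy 0 0
    have t1 := hsy 1 1
    have t2 := hsy 2 2
    have t3 := hsy 3 3
    have hsum : f = ∑ i : Fin 4, ∑ j : Fin 4, MvPolynomial.C (a i j) *
        (MvPolynomial.X 0 ^ (3 - i.val) * MvPolynomial.X 1 ^ i.val * MvPolynomial.X 2 ^ (3 - j.val) * MvPolynomial.X 3 ^ j.val) := by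
      subst ha; exact hcase f hfI
    simp only [show ∀ i j, MvPolynomial.coeff (mm i j) f = a i j from fun i j => by rw [ha]] at r00 r01 r23 r33 r3 r4
    have v01 : a 0 1 = 0 := by rw [s10] at r01; linear_combination (1 / 2 : k) * r01
    have v23 : a 2 3 = 0 := by rw [s32] at r23; linear_combination (1 / 2 : k) * r23
    have v12 : a 1 2 = -(2 * a 0 2 + a 1 1) - a 0 3 := by
      rw [s30, s21, s20] at r3; linear_combination (1 / 2 : k) * r3
    have v22 : a 2 2 = 2 * a 0 2 + a 1 1 - 2 * a 1 3 := by rw [s31, s20] at r4; linear_combination r4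
    have hf' : f = ((2 : k) * a 0 2 + (1 : k) * a 1 1) • (c) + ((1 / 3 : k) * a 0 3) • (l ^ 2 * h) + ((-1 / 2 : k) * a 0 2 + (-1 / 3 : k) * a 0 3) • (l ^ 2 * h13) + ((-1 / 3 : k) * a 0 3 + (-1 / 2 : k) * a 1 3) • (l ^ 2 * h23) := by
      rw [hsum]
      apply MvPolynomial.funext
      intro p
      subst hh hh13 hh23
      subst hl hh1 hh2 hh3 hc
      simp [Fin.sum_univ_four, MvPolynomial.smul_eval]
      simp only [s10, s20, s30, s21, s31, s32, r00, r33, v01, v23, v12, v22]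
      ring
    rw [hf']
    repeat first
      | exact Submodule.smul_mem _ _ (Submodule.subset_span (by simp))
      | apply Submodule.add_mem
  · induction hf using Submodule.span_induction with
    | mem g hg =>
      simp only [Set.mem_insert_iff, Set.mem_singleton_iff] at hg
      refine ⟨?_, ?_⟩
      · rcases hg with rfl | rfl | rfl | rfl
        · exact hcI
        · rw [pow_two]; exact hlI _ _ bl (by assumption)
        · rw [pow_two]; exact hlI _ _ bl (by assumption)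
        · rw [pow_two]; exact hlI _ _ bl (by assumption)
      · apply MvPolynomial.funext
        intro p
        rw [hswap]
        rcases hg with rfl | rfl | rfl | rfl <;>
          · subst_vars
            simp [Matrix.vecHead, Matrix.vecTail]
            ring
    | zero => exact ⟨I.zero_mem, by simp⟩
    | add x y _ _ hx hy => exact ⟨I.add_mem hx.1 hy.1, by rw [map_add, hx.2, hy.2]⟩
    | smul r x _ hx => exact ⟨I.smul_mem r hx.1, by rw [map_smul, hx.2]⟩
  · obtain ⟨hfI, hfs⟩ := hf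
    obtain ⟨r00, r01, r23, r33, r3, r4⟩ := restriction_coeffs ((hmem f).1 hfI).1.1 ((hmem f).1 hfI).1.2 ((hmem f).1 hfI).2
    obtain ⟨a, ha⟩ : ∃ a : Fin 4 → Fin 4 → k, a = fun i j => MvPolynomial.coeff (mm i j) f := ⟨_, rfl⟩
    have hsy : ∀ i j, a j i = -a i j := fun i j => by
      have h' := congrArg (MvPolynomial.coeff (mm i j)) hfs
      rw [coeff_swap] at h'
      simpa [ha] using h'
    have s10 := hsy 0 1
    have s20 := hsy 0 2
    have s30 := hsy 0 3
    have s21 := hsy 1 2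
    have s31 := hsy 1 3
    have s32 := hsy 2 3
    have t0 := hsy 0 0
    have t1 := hsy 1 1
    have t2 := hsy 2 2
    have t3 := hsy 3 3
    have hsum : f = ∑ i : Fin 4, ∑ j : Fin 4, MvPolynomial.C (a i j) *
        (MvPolynomial.X 0 ^ (3 - i.val) * MvPolynomial.X 1 ^ i.val * MvPolynomial.X 2 ^ (3 - j.val) * MvPolynomial.X 3 ^ j.val) := by
      subst ha; exact hcase f hfI
    have v00 : a 0 0 = 0 := by linear_combination (1 / 2 : k) * t0
    have v11 : a 1 1 = 0 := by linear_combination (1 / 2 : k) * t1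
    have v22 : a 2 2 = 0 := by linear_combination (1 / 2 : k) * t2
    have v33 : a 3 3 = 0 := by linear_combination (1 / 2 : k) * t3
    have hf' : f = ((1 / 9 : k) * a 0 3) • (l * h ^ 2) + ((-1 / 6 : k) * a 0 2 + (-2 / 9 : k) * a 0 3) • (l * h * h13) + ((-2 / 9 : k) * a 0 3 + (-1 / 6 : k) * a 1 3) • (l * h * h23) + ((1 / 4 : k) * a 0 1 + (1 / 6 : k) * a 0 2 + (1 / 9 : k) * a 0 3) • (l * h13 ^ 2) + ((1 / 9 : k) * a 0 3 + (1 / 6 : k) * a 1 3 + (1 / 4 : k) * a 2 3) • (l * h23 ^ 2) + ((1 / 6 : k) * a 0 2 + (-1 / 36 : k) * a 0 3 + (1 / 4 : k) * a 1 2 + (1 / 6 : k) * a 1 3) • (l * h13 * h23) := by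
      rw [hsum]
      apply MvPolynomial.funext
      intro p
      subst hh hh13 hh23
      subst hl hh1 hh2 hh3 hc
      simp [Fin.sum_univ_four, MvPolynomial.smul_eval]
      simp only [s10, s20, s30, s21, s31, s32, v00, v11, v22, v33]
      ring
    rw [hf']
    repeat first
      | exact Submodule.smul_mem _ _ (Submodule.subset_span (by simp))
      | apply Submodule.add_mem
  · induction hf using Submodule.span_induction with
    | mem g hg =>
      simp only [Set.mem_insert_iff, Set.mem_singleton_iff] at hg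
      refine ⟨?_, ?_⟩
      · rcases hg with rfl | rfl | rfl | rfl | rfl | rfl
        · rw [pow_two, ← mul_assoc]; exact hlI _ _ (by assumption) (by assumption)
        · exact hlI _ _ (by assumption) (by assumption)
        · exact hlI _ _ (by assumption) (by assumption)
        · rw [pow_two, ← mul_assoc]; exact hlI _ _ (by assumption) (by assumption)
        · rw [pow_two, ← mul_assoc]; exact hlI _ _ (by assumption) (by assumption)
        · exact hlI _ _ (by assumption) (by assumption)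
      · apply MvPolynomial.funext
        intro p
        rw [hswap]
        rcases hg with rfl | rfl | rfl | rfl | rfl | rfl <;>
          · subst_vars
            simp [Matrix.vecHead, Matrix.vecTail]
            ring
    | zero => exact ⟨I.zero_mem, by simp⟩
    | add x y _ _ hx hy => exact ⟨I.add_mem hx.1 hy.1, by rw [map_add, hx.2, hy.2]; abel⟩
    | smul r x _ hx => exact ⟨I.smul_mem r hx.1, by rw [map_smul, hx.2]; rw [smul_neg]⟩
  · rw [Fintype.linearIndependent_iff]
    intro g hg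
    have e0 := congrArg (MvPolynomial.eval (![(-1 : k), (0 : k), (0 : k), (-1 : k)] : Fin 4 → k)) hg
    have e1 := congrArg (MvPolynomial.eval (![(0 : k), (-1 : k), (-1 : k), (0 : k)] : Fin 4 → k)) hg
    have e2 := congrArg (MvPolynomial.eval (![(-1 : k), (-1 : k), (-1 : k), (0 : k)] : Fin 4 → k)) hg
    have e3 := congrArg (MvPolynomial.eval (![(-1 : k), (-1 : k), (0 : k), (-1 : k)] : Fin 4 → k)) hg
    have e4 := congrArg (MvPolynomial.eval (![(-1 : k), (0 : k), (-1 : k), (-1 : k)] : Fin 4 → k)) hg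
    have e5 := congrArg (MvPolynomial.eval (![(-1 : k), (0 : k), (-1 : k), (1 : k)] : Fin 4 → k)) hg
    have e6 := congrArg (MvPolynomial.eval (![(-1 : k), (1 : k), (0 : k), (-1 : k)] : Fin 4 → k)) hg
    have e7 := congrArg (MvPolynomial.eval (![(0 : k), (-1 : k), (-1 : k), (-1 : k)] : Fin 4 → k)) hg
    have e8 := congrArg (MvPolynomial.eval (![(-1 : k), (-1 : k), (-1 : k), (1 : k)] : Fin 4 → k)) hg
    have e9 := congrArg (MvPolynomial.eval (![(-1 : k), (1 : k), (-1 : k), (1 : k)] : Fin 4 → k)) hg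
    subst hh hh13 hh23
    subst hl hh1 hh2 hh3 hc
    simp [Fin.sum_univ_succ, MvPolynomial.smul_eval] at e0 e1 e2 e3 e4 e5 e6 e7 e8 e9
    intro i
    fin_cases i
    · show g 0 = 0
      assumption
    · show g 1 = 0
      linear_combination (1 / 6 : k) * e0 + (1 / 6 : k) * e1
    · show g 2 = 0
      linear_combination (1 / 12 : k) * e0 + (1 / 12 : k) * e1 + (-1 / 4 : k) * e2 + (-1 / 4 : k) * e4
    · show g 3 = 0
      linear_combination (1 / 12 : k) * e0 + (1 / 12 : k) * e1 + (-1 / 4 : k) * e3 + (-1 / 4 : k) * e7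
    · show g 4 = 0
      linear_combination (1 / 18 : k) * e0 + (-1 / 18 : k) * e1
    · show g 5 = 0
      linear_combination (-7 / 36 : k) * e0 + (1 / 36 : k) * e1 + (1 / 12 : k) * e2 + (-1 / 12 : k) * e5
    · show g 6 = 0
      linear_combination (-7 / 36 : k) * e0 + (1 / 36 : k) * e1 + (1 / 12 : k) * e6 + (1 / 12 : k) * e7
    · show g 7 = 0
      linear_combination (-1 / 9 : k) * e0 + (1 / 36 : k) * e1 + (-1 / 12 : k) * e2 + (1 / 8 : k) * e4 + (-1 / 24 : k) * e5
    · show g 8 = 0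
      linear_combination (-1 / 9 : k) * e0 + (1 / 36 : k) * e1 + (1 / 8 : k) * e3 + (1 / 24 : k) * e6 + (-1 / 12 : k) * e7
    · show g 9 = 0
      linear_combination (-2 / 9 : k) * e0 + (1 / 18 : k) * e1 + (-1 / 3 : k) * e2 + (3 / 8 : k) * e3 + (-1 / 8 : k) * e4 + (-1 / 24 : k) * e5 + (1 / 24 : k) * e6 + (1 / 6 : k) * e7 + (1 / 8 : k) * e8

end Groth.Agent.S16153
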