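import Groth.Statements.S16154
import Groth.Agent.EulerPn5.CITop
import Groth.Agent.PnCanon5.Duality
-- import your own Groth.Agent.* helpers here

set_option autoImplicit false
universe u
open CategoryTheory CategoryTheory.Limits AlgebraicGeometry
open WGauss

namespace Groth.Agent.S16154

/-- Let k be a field and X in projective n-space over k the common zero scheme of m forms G_j of degrees
d_1 >= d_2 >= ... >= d_m >= 2 (m >= 1), smooth over k of relative dimension kk >= 1 with kk + m = n,
so that X is a smooth complete intersection of dimension kk whose twisted conormal bundle N_X^*(t)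
is the direct sum of the O_X(t - d_j). Then, for an integer t, H^1(X, O_X(t - d_j)) = 0 for every j
(that is, H^1(X, N_X^*(t)) = 0) if and only if either kk >= 2, or kk = 1 and t > 2 d_1 + d_2 + ... +
d_m - n - 1. Here O_X(c) is the pullback of O(c) from projective space along the inclusion of X.
(The source works over the complex numbers with X smooth projective; the statement is given over any
field.) -/
theorem result
    (k : Type u) [Field k] (n kk m : ℕ) (hkk : 1 ≤ kk) (hm : 1 ≤ m) (hn : kk + m = n)
    (d : Fin m → ℕ) (hd2 : ∀ j, 2 ≤ d j) (hanti : Antitone d)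
    (G : ∀ j : Fin m, LefPen.Form n k (d j))
    [SmoothOfRelativeDimension kk ((LefPen.ciIdeal G).subschemeι ≫ CohB1.ProjSpace.toSpec n k)]
    (t : ℤ) :
    (∀ j : Fin m, Subsingleton (Coh.HH (LefPen.ciIdeal G).subscheme
        ((Scheme.Modules.pullback (LefPen.ciIdeal G).subschemeι).obj
          (Twist.twistProjSpace n k (t - (d j : ℤ)))) 1)) ↔
      (2 ≤ kk ∨ (kk = 1 ∧ ((d ⟨0, hm⟩ : ℤ) + ∑ j : Fin m, (d j : ℤ)) - (n : ℤ) - 1 < t)) := by
  classical
  have hr : m ≤ n := by omega
  have ha : ∀ j, 1 ≤ d j := fun j => (hd2 j).trans' (by norm_num)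
  obtain ⟨y, -⟩ := Groth.Agent.CI14.exists_point_ci ha G hr
  haveI : Nonempty (LefPen.ciIdeal G).subscheme := ⟨y⟩
  have hdim := Groth.Agent.PnCanon5.dim_eq_of_smooth
    ((LefPen.ciIdeal G).subschemeι ≫ CohB1.ProjSpace.toSpec n k) kk
  have hG : Groth.Agent.CI14.IsProperCI G := Groth.Agent.CI14.isProperCI_of_dim G hr
    (by rw [hdim, show n - m = kk by omega])
  rcases Nat.lt_or_ge 1 kk with h2 | h2
  · refine iff_of_true (fun j => ?_) (Or.inl h2)
    exact (Groth.Agent.CI14.coh_ci m d ha G hr hG).1 _ 1 one_pos (by omega)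
  · obtain rfl : kk = 1 := by omega
    have key : ∀ j, Subsingleton (Coh.HH (LefPen.ciIdeal G).subscheme
        ((Scheme.Modules.pullback (LefPen.ciIdeal G).subschemeι).obj
          (Twist.twistProjSpace n k (t - (d j : ℤ)))) 1) ↔ (∑ l, (d l : ℤ)) - n - 1 < t - (d j : ℤ) := fun j =>
      Groth.Agent.EulerPn5.V_ci_curve_iff (by omega) ha G hG (by exact_mod_cast hdim.le) _
    simp only [key]
    constructor
    · intro h
      have := h ⟨0, hm⟩
      exact Or.inr ⟨trivial, by linarith⟩
    · rintro (h | ⟨-, h⟩) j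
      · omega
      · have h3 : (d j : ℤ) ≤ d ⟨0, hm⟩ := by exact_mod_cast hanti (Fin.mk_le_mk.2 (Nat.zero_le _) : (⟨0, hm⟩ : Fin m) ≤ j)
        linarith

end Groth.Agent.S16154
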