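import Groth.Statements.S16156
import Mathlib
import Groth.Prelude

set_option linter.all false

set_option autoImplicit false
universe u
open MukaiVec

open Polynomial

namespace Groth.Agent.S16156

/-- Let N be an abelian group with a symmetric integer-valued bilinear form and H an element with H·H =
2n for some n > 0 such that every x with x·H = 0 satisfies x·x ≤ 0 (the Hodge index inequality). Fix
integers r ≥ 2, d > 0 and χ < 0 (a Mukai vector v = (r, dH, χ)) and an isotropic Mukai vector u =
(p, η, q), p ≥ 0, η ∈ N, η·η = 2pq, whose pairing ⟨v, u⟩ = d(H·η) − rq − χp has absolute value 1 or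
2. Exclude the case d = 1, χ = −1, H·η = 1, η·η = 0, and when r = 2 also the case p = 0, H·η = 0.
Then the pairings of u∨ = (p, −η, q) with w₀ = (0, rH, −2nd) and with w₁ = (2nd, −χH, 0) are both
non-negative or both negative: 2ndp − r(H·η) ≥ 0 holds if and only if χ(H·η) − 2ndq ≥ 0 holds. -/
theorem result
    (N : Type u) [AddCommGroup N] (B : LinearMap.BilinForm ℤ N) (hB : ∀ x y : N, B x y = B y x)
    (H : N) (n : ℤ) (hn : 0 < n) (hH : B H H = 2 * n) (hodge : ∀ x : N, B x H = 0 → B x x ≤ 0)
    (r d χ p q : ℤ) (η : N) (hr : 2 ≤ r) (hd : 0 < d) (hχ : χ < 0) (hp : 0 ≤ p)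
    (hiso : B η η = 2 * p * q)
    (hvu : 1 ≤ |d * B H η - r * q - χ * p| ∧ |d * B H η - r * q - χ * p| ≤ 2)
    (hexc : ¬ (d = 1 ∧ χ = -1 ∧ B H η = 1 ∧ B η η = 0))
    (hr2 : r = 2 → ¬ (p = 0 ∧ B H η = 0)) :
    (0 ≤ 2 * n * d * p - r * B H η ↔ 0 ≤ χ * B H η - 2 * n * d * q) := by
  set x := B H η with hx
  have hidx : 4 * n * (p * q) ≤ x * x := by
    have h1 : B ((2 * n) • η - x • H) H = 0 := by
      simp only [map_sub, map_smul, LinearMap.sub_apply, LinearMap.smul_apply, smul_eq_mul, hH, hB η H, ← hx]; ring
    have h2 := hodge _ h1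
    simp only [map_sub, map_smul, LinearMap.sub_apply, LinearMap.smul_apply, smul_eq_mul, hH, hB η H, ← hx, hiso] at h2
    nlinarith
  obtain ⟨-, hs⟩ := hvu
  rw [abs_le] at hs
  obtain ⟨hs1, hs2⟩ := hs
  have hnd : 0 < 2 * n * d := by positivity
  constructor
  · intro hA
    by_contra hB'
    push Not at hB'
    rcases lt_trichotomy x 0 with hx0 | hx0 | hx0
    · have hq : 0 < q := by nlinarith
      rcases hp.eq_or_lt with hp0 | hp0
      · subst hp0; nlinarith
      · have h1 : χ * (x * x) ≤ χ * (4 * n * (p * q)) := mul_le_mul_of_nonpos_left hidx hχ.le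
        have h2 : x * (2 * n * d * q) < x * (χ * x) := mul_lt_mul_of_neg_left (by linarith) hx0
        have h3 : d * x < 2 * χ * p := by
          have h4 : 0 < 2 * n * q := by positivity
          have : 2 * n * q * (d * x) < 2 * n * q * (2 * χ * p) := by nlinarith
          exact lt_of_mul_lt_mul_left this h4.le
        nlinarith
    · have hq : 0 < q := by rw [hx0] at hB'; nlinarith
      have hp0 : p = 0 := by
        by_contra hne
        have : 0 < n * (p * q) := mul_pos hn (mul_pos (by omega) hq)
        rw [hx0] at hidx; nlinarith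
      subst hp0
      rw [hx0] at hs1
      have : r = 2 := by nlinarith
      exact hr2 this ⟨rfl, hx0⟩
    · have hp0 : 0 < p := by nlinarith
      rcases le_or_gt q 0 with hq | hq
      · have h1 : 1 ≤ d * x := by nlinarith
        have h2 : 1 ≤ -(χ * p) := by nlinarith
        have h3 : r * q ≤ 0 := by nlinarith
        have e1 : d * x = 1 := by omega
        have e2 : -(χ * p) = 1 := by omega
        have e3 : r * q = 0 := by omega
        have ed : d = 1 := by nlinarith
        have ex : x = 1 := by nlinarith
        have ec : χ = -1 := by nlinarith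
        have eq0 : q = 0 := by nlinarith
        exact hexc ⟨ed, ec, ex, by rw [hiso, eq0, mul_zero]⟩
      · have h1 : r * (4 * n * (p * q)) ≤ r * (x * x) := mul_le_mul_of_nonneg_left hidx (by omega)
        have h2 : r * x * x ≤ 2 * n * d * p * x := mul_le_mul_of_nonneg_right (by linarith) hx0.le
        have h3 : 2 * q * r ≤ d * x := by
          have h4 : 0 < 2 * n * p := by positivity
          have : 2 * n * p * (2 * q * r) ≤ 2 * n * p * (d * x) := by nlinarith
          exact le_of_mul_le_mul_left this h4
        nlinarith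
  · intro hB'
    by_contra hA
    push Not at hA
    have hx0 : 0 < x := by nlinarith
    have hq : q < 0 := by nlinarith
    nlinarith

end Groth.Agent.S16156
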