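import Groth.Statements.S16157
import Groth.Agent.S14147
import Groth.Agent.BCFlat16.FMTen
import Groth.Agent.BCFlat16.FMClass
import Groth.Agent.DQCoh.RpushDegree17
import Groth.Agent.DQCoh.BettiRank
import Groth.Agent.GrassLib.MapOfEpi
import Groth.Agent.FBaseLib.NoEmbedded

set_option autoImplicit false
universe u
open CategoryTheory CategoryTheory.Limits MonoidalCategory CartesianMonoidalCategory MonObj GrpObj AlgebraicGeometry
attribute [local instance] HasDerivedCategory.standard
open AbVar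

namespace Groth.Agent.S16157

open Groth.Agent.Coherent in
/-- Over a field the fibre cohomology is the cohomology. -/
theorem fiberRank_point {k : Type u} [Field k] {X : Scheme.{u}} (q : X ⟶ Spec (CommRingCat.of k)) [IsProper q]
    (F : X.Modules) [Coh.IsQCoh F] (p : ℕ) (s : Spec (CommRingCat.of k)) :
    CohIII.fiberRank q F p s = @Module.finrank k (Coh.HH X F p) _ _ (Module.compHom _ (Coh.toGlobal q)) := by
  haveI : CompactSpace X := QuasiCompact.compactSpace_of_compactSpace q
  haveI : QuasiSeparatedSpace X := quasiSeparatedSpace_of_quasiSeparated q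
  refine CohBC.finrank_HH_bc k ((Spec (CommRingCat.of k)).residueField s)
    (Spec.preimage ((Spec (CommRingCat.of k)).fromSpecResidueField s)).hom q (q.fiberToSpecResidueField s)
    (q.fiberι s) ?_ F _ (Iso.refl _) p
  rw [show CommRingCat.ofHom (Spec.preimage ((Spec (CommRingCat.of k)).fromSpecResidueField s)).hom =
    Spec.preimage ((Spec (CommRingCat.of k)).fromSpecResidueField s) from rfl, Spec.map_preimage]
  exact IsPullback.of_hasPullback q _

/-- Let k be an algebraically closed field, A an abelian variety over k (a proper smooth k-group scheme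
with geometrically connected fibres), (A^t, φ) a given dual abelian variety of A for the fppf
topology with A^t itself an abelian variety, P an invertible module on A ×_k A^t whose class is a
Poincaré class, and Φ_P = Rpr_{2,*}(Lpr_1^*(−) ⊗^L P) the Fourier–Mukai functor D(O_A) → D(O_{A^t})
(the derived functors are assumed to exist). Let F be a coherent O_A-module satisfying the index
condition with index i: the cohomology sheaves of Φ_P(F) vanish in every degree other than i, and
the one in degree i (the transform of F) is finite locally free of rank n. Then the Euler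
characteristic χ(A, F) = Σ_j (−1)^j dim_k H^j(A, F) equals (−1)^i · n. (The rank here is that of the
transform of F, which is what the last step of the published proof computes; reading it as the rank
of F itself is wrong already for an invertible sheaf of degree two on an elliptic curve, whose Euler
characteristic is 2.) -/
theorem result (k : Type u) [Field k] [IsAlgClosed k]
    (A At : Over (Spec (CommRingCat.of k))) [GrpObj A] [IsProper A.hom] [Smooth A.hom] [GeometricallyConnected A.hom]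
    [GrpObj At] [IsProper At.hom] [Smooth At.hom] [GeometricallyConnected At.hom]
    (φ : ∀ T : Over (Spec (CommRingCat.of k)), PicF.Cl (PicF.XT A.hom T) → (T ⟶ At))
    (hφ : AbDual.IsDualAV Scheme.fppfPrecoverage A At φ)
    (P : (pullback A.hom At.hom).Modules) (hP : PicF.IsInvertible P)
    (hPξ : AbDual.IsPoincareCl A At φ (PicF.cl P))
    [DCoh.HasLpull (pullback.fst A.hom At.hom)] [DCoh.HasLTensorMod P] [DCoh.HasRpush (pullback.snd A.hom At.hom)]
    (F : A.left.Modules) (hF : Coh.IsCoh F) (i n : ℕ)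
    (hvan : ∀ j : ℤ, j ≠ (i : ℤ) →
      IsZero (DCoh.HD ((DCoh.Lpull (pullback.fst A.hom At.hom) ⋙ DCoh.LTensorMod P ⋙
        DCoh.Rpush (pullback.snd A.hom At.hom)).obj (DCoh.inD A.left F)) j))
    (hfree : FlatMod.IsFinLocFreeOfRank n
      (DCoh.HD ((DCoh.Lpull (pullback.fst A.hom At.hom) ⋙ DCoh.LTensorMod P ⋙
        DCoh.Rpush (pullback.snd A.hom At.hom)).obj (DCoh.inD A.left F)) (i : ℤ))) :
    @Curv2.euler k _ A.left ⟨A.hom⟩ F = (-1 : ℤ) ^ i * (n : ℤ) := by
  obtain ⟨Pc, hPc, h0, hid, hrig⟩ := Groth.Agent.AbDualLib.exists_poincare hPξ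
  obtain rfl : Pc = Groth.Agent.PicLib.PicM.of hP := Groth.Agent.PicLib.PicM.ext hPc.symm
  have h1 : Groth.Agent.AbDualLib.ev (Groth.Agent.PicLib.PicM.of hP) (𝟙 A) (toUnit A ≫ η[At]) = 1 := by
    have h := Groth.Agent.BCFlat16.FMClass.ev_mul_right hφ h0 hid hrig (𝟙 A) (1 : A ⟶ At) 1
    rw [_root_.mul_one] at h
    obtain ⟨b, hb⟩ := Groth.Agent.PicLib.PicM.exists_mul_eq_one
      (Groth.Agent.AbDualLib.ev (Groth.Agent.PicLib.PicM.of hP) (𝟙 A) (1 : A ⟶ At))
    have := congrArg (· * b) h
    simp only [_root_.mul_assoc, hb, _root_.mul_one] at this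
    exact this.symm
  let M := (Scheme.Modules.pullback (CartesianMonoidalCategory.lift (𝟙 A) (toUnit A ≫ η[At])).left).obj P
  have hM : PicF.IsInvertible M := PicLoc.isInvertible_pullback _ hP
  haveI : DCoh.HasLTensorMod M := Groth.Agent.DCat.hasLTensorMod _
  haveI := Groth.Agent.DCat.hasRpush A.hom
  haveI := Groth.Agent.DCat.hasLpull η[At].left
  obtain ⟨eN⟩ := Groth.Agent.BCFlat16.nonempty_LTensorMod_nat M
  obtain ⟨eM⟩ : Nonempty (M ≅ Coh.structureModule A.left) := by
    refine (Groth.Agent.PicLib.PicM.of_eq_one_iff hM).1 ?_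
    rw [← Groth.Agent.PicLib.PicM.pull_of _ hP]
    exact h1
  obtain ⟨eT⟩ := Groth.Agent.BCFlat16.nonempty_tens_congr ⟨eM⟩
  obtain ⟨e1⟩ := Groth.Agent.BCFlat16.nonempty_tens_structure (X := A.left)
  haveI : Coh.IsQCoh F := hF.1
  obtain ⟨e⟩ := Groth.Agent.S14147.result k A At φ hφ P hP hPξ η[At]
  let E := (DCoh.Lpull (pullback.fst A.hom At.hom) ⋙ DCoh.LTensorMod P ⋙
    DCoh.Rpush (pullback.snd A.hom At.hom)).obj (DCoh.inD A.left F)
  obtain ⟨eE⟩ := Groth.Agent.DQCoh.RpushDegree17.nonempty_iso_shift E (i : ℤ) hvan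
  let V := DCoh.HD E (i : ℤ)
  have hV : FlatMod.IsFinLocFree V := fun x => let ⟨U, hx, h⟩ := hfree x; ⟨U, n, hx, h⟩
  obtain ⟨eP⟩ := Groth.Agent.DQCoh.nonempty_Lpull_inD η[At].left hV
  obtain ⟨_, _⟩ := Groth.Agent.DCat.PullPerf.exists_commShift_Lpull η[At].left
  let V₀ := (Scheme.Modules.pullback η[At].left).obj V
  have hV₀ : FlatMod.IsFinLocFreeOfRank n V₀ := Groth.Agent.GrassLib.isFinLocFreeOfRank_pullback _ hfree
  let c : (DCoh.Rpush A.hom).obj (DCoh.inD A.left F) ≅
      (DCoh.inD (Spec (CommRingCat.of k)) V₀)⟦-(i : ℤ)⟧ :=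
    (DCoh.Rpush A.hom).mapIso ((e1.app _).symm ≪≫ (eT.app _).symm ≪≫ (eN.app _).symm) ≪≫
      e.app ⟨DCoh.inD A.left F, Groth.Agent.FlatBC14.isQCohD_inD F⟩ ≪≫
      (DCoh.Lpull η[At].left).mapIso eE ≪≫ ((DCoh.Lpull η[At].left).commShiftIso (-(i : ℤ))).app _ ≪≫
      (shiftFunctor _ (-(i : ℤ))).mapIso eP
  haveI := Groth.Agent.Coherent.hasInjectiveResolutions_modules A.left
  have hh : ∀ p : ℕ, (p = i → FlatMod.IsFinLocFreeOfRank n ((Coh.Rpush A.hom p).obj F)) ∧
      (p ≠ i → IsZero ((Coh.Rpush A.hom p).obj F)) := by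
    intro p
    obtain ⟨a⟩ := Groth.Agent.FlatBC14.nonempty_homology_Rpush A.hom F p
    let b : (Coh.Rpush A.hom p).obj F ≅ DCoh.HD ((DCoh.inD (Spec (CommRingCat.of k)) V₀)⟦-(i : ℤ)⟧) (p : ℤ) :=
      a.symm ≪≫ (DerivedCategory.homologyFunctor _ (p : ℤ)).mapIso c
    refine ⟨fun hp => ?_, fun hp => ((Groth.Agent.DQCoh.RpushDegree17.homology_shift V₀ _ _).2
      (by exact_mod_cast hp)).of_iso b⟩
    obtain ⟨d⟩ := (Groth.Agent.DQCoh.RpushDegree17.homology_shift V₀ (i : ℤ) (p : ℤ)).1 (by exact_mod_cast hp)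
    exact Groth.Agent.DQCoh.RpushDegree17.isFinLocFreeOfRank_of_iso (b ≪≫ d).symm hV₀
  haveI : Flat A.hom := Groth.Agent.CubeLib.flat_of_field _
  haveI : IsLocallyNoetherian A.left := LocallyOfFiniteType.isLocallyNoetherian A.hom
  haveI : CompactSpace A.left := QuasiCompact.compactSpace_of_compactSpace A.hom
  haveI : QuasiSeparatedSpace A.left := quasiSeparatedSpace_of_quasiSeparated A.hom
  have hr : ∀ p : ℕ, @Module.finrank k (Coh.HH A.left F p) _ _
      (Module.compHom _ (Coh.toGlobal A.hom)) = if p = i then n else 0 := by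
    intro p
    let s : Spec (CommRingCat.of k) := IsLocalRing.closedPoint k
    have h2 := Groth.Agent.DQCoh.RpushDegree17.fiberRank_of_rpush (f := A.hom) (F := F) (Groth.Agent.Coherent.isFP_of_isCoh hF)
      (Groth.Agent.FBaseLib.NoEmbedded.isFlatOver_field _ F) (i : ℤ) n (fun q hq => (hh q).2 (by exact_mod_cast hq))
      (fun q hq => (hh q).1 (by exact_mod_cast hq)) s p
    rw [fiberRank_point A.hom F p s] at h2
    rw [h2]
    simp only [Nat.cast_inj]
  show ∑ᶠ p : ℕ, (-1 : ℤ) ^ p * ((@Module.finrank k (Coh.HH A.left F p) _ _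
    (Module.compHom _ (Coh.toGlobal A.hom)) : ℕ) : ℤ) = _
  rw [finsum_eq_single _ i (fun p hp => by rw [hr p, if_neg hp, Nat.cast_zero, mul_zero]), hr i, if_pos rfl]

end Groth.Agent.S16157
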