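import Groth.Statements.S16158
import Mathlib.RingTheory.Ideal.AssociatedPrime.Finiteness
import Mathlib.RingTheory.LocalRing.Module
import Mathlib.LinearAlgebra.Dual.Lemmas
import Mathlib.LinearAlgebra.Dimension.Finite

set_option autoImplicit false
universe u v w
open MadRed

namespace Groth.Agent.S16158

/-- Let R be a commutative Noetherian ring and M a finitely generated R-module. Then there is a natural
number n such that in every decomposition of M as an internal direct sum of a family of submodules,
at most n of the summands are nonzero (the nonzero summands are indexed by a finite set of size at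
most n). -/
theorem result (R : Type u) [CommRing R] [IsNoetherianRing R]
    (M : Type v) [AddCommGroup M] [Module R M] [Module.Finite R M] :
    ∃ n : ℕ, ∀ (ι : Type w) [DecidableEq ι] (N : ι → Submodule R M), DirectSum.IsInternal N →
      ∃ s : Finset ι, s.card ≤ n ∧ ∀ i, N i ≠ ⊥ → i ∈ s := by
  classical
  obtain ⟨S, hS⟩ := Module.Finite.fg_top (R := R) (M := M)
  have hfin := associatedPrimes.finite R M
  refine ⟨S.card * hfin.toFinset.card, fun ι _ N hN => ?_⟩
  have hbound : ∀ s : Finset ι, (∀ i ∈ s, N i ≠ ⊥) → s.card ≤ S.card * hfin.toFinset.card := by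
    intro s hs
    have hp : ∀ i : ι, N i ≠ ⊥ → ∃ p : Ideal R, p ∈ associatedPrimes R M ∧
        ∀ h : p.IsPrime, (⟨p, h⟩ : PrimeSpectrum R) ∈ Module.support R (N i) := by
      intro i hi
      haveI : Nontrivial (N i) := Submodule.nontrivial_iff_ne_bot.2 hi
      obtain ⟨p, hp⟩ := associatedPrimes.nonempty R (N i)
      refine ⟨p, associatedPrimes.subset_of_injective (N i).injective_subtype hp, fun _ => ?_⟩
      rw [Module.mem_support_iff_of_finite]
      simpa [Submodule.annihilator_top] using hp.annihilator_le
    choose! p hpA hpS using hp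
    refine Finset.card_le_mul_card_image_of_maps_to (f := fun i => p i) ?_ _ ?_
    · intro i hi
      exact hfin.mem_toFinset.2 (hpA i (hs i hi))
    intro q hq
    have hqp : q.IsPrime := (hfin.mem_toFinset.1 hq).isPrime
    let κ := q.ResidueField
    set T := s.filter (fun i => p i = q) with hT
    have hφ : ∀ i : T, ∃ φ : N i.1 →ₗ[R] κ, φ ≠ 0 := by
      rintro ⟨i, hi⟩
      obtain ⟨his, hiq⟩ := Finset.mem_filter.1 hi
      have hsupp : (⟨q, hqp⟩ : PrimeSpectrum R) ∈ Module.support R (N i) := by
        subst hiq
        exact hpS i (hs i his) hqp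
      rw [Module.mem_support_iff_nontrivial_residueField_tensorProduct] at hsupp
      obtain ⟨z, hz⟩ := @exists_ne _ hsupp (0 : TensorProduct R κ (N i))
      obtain ⟨f, hf⟩ : ∃ f : Module.Dual κ (TensorProduct R κ (N i)), f z ≠ 0 := by
        by_contra! hcon
        exact hz ((Module.forall_dual_apply_eq_zero_iff κ z).1 hcon)
      refine ⟨(f.restrictScalars R).comp (TensorProduct.mk R κ (N i) 1), fun h0 => hf ?_⟩
      clear hz hf
      induction z using TensorProduct.induction_on with
      | zero => simp
      | add a b ha hb => rw [map_add, ha, hb, add_zero]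
      | tmul c x =>
        have h1 : f ((1 : κ) ⊗ₜ[R] x) = 0 := LinearMap.congr_fun h0 x
        rw [show c ⊗ₜ[R] x = c • ((1 : κ) ⊗ₜ[R] x) by rw [TensorProduct.smul_tmul', smul_eq_mul, mul_one],
          map_smul, h1, smul_zero]
    choose φ hφ using hφ
    let e := LinearEquiv.ofBijective (DirectSum.coeLinearMap N) hN
    let ψ : T → (M →ₗ[R] κ) := fun i =>
      (φ i).comp ((DirectSum.component R ι (fun j => N j) i.1).comp e.symm.toLinearMap)
    have he : ∀ (j : ι) (x : N j), e.symm (x : M) = DirectSum.lof R ι (fun j => N j) j x := by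
      intro j x
      rw [LinearEquiv.symm_apply_eq]
      exact (DirectSum.coeLinearMap_of N j x).symm
    have hli : LinearIndependent κ (fun (i : T) (g : S) => ψ i g.1) := by
      rw [Fintype.linearIndependent_iff]
      intro c hc j
      have hΦ : ∑ i, c i • ψ i = 0 := by
        refine LinearMap.ext_on hS fun g hg => ?_
        have := congrFun hc ⟨g, hg⟩
        simpa using this
      by_contra hcj
      refine hφ j (LinearMap.ext fun x => ?_)
      have h1 := LinearMap.congr_fun hΦ (x : M)
      rw [LinearMap.sum_apply, Finset.sum_eq_single j] at h1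
      · have h2 : c j • φ j x = 0 := by
          simpa [ψ, he, DirectSum.component.lof_self] using h1
        exact (smul_eq_zero.1 h2).resolve_left hcj
      · intro i _ hij
        simp [ψ, he, DirectSum.component.of, Subtype.coe_injective.ne hij.symm]
      · simp
    simpa using hli.fintype_card_le_finrank
  have hF : {i | N i ≠ ⊥}.Finite := by
    by_contra h
    obtain ⟨s, hsub, hcard⟩ :=
      Set.Infinite.exists_subset_card_eq h (S.card * hfin.toFinset.card + 1)
    have := hbound s fun i hi => hsub (Finset.mem_coe.2 hi)
    omega
  exact ⟨hF.toFinset, hbound _ fun i hi => hF.mem_toFinset.1 hi, fun i hi => hF.mem_toFinset.2 hi⟩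

end Groth.Agent.S16158
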