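import Groth.Statements.S1616
import Groth.Agent.PnEmb.SegreOver

set_option autoImplicit false
universe u
open CategoryTheory CategoryTheory.Limits AlgebraicGeometry
open Constr

open Groth.Agent.AmpleLib Groth.Agent.PicLib Groth.Agent.Coherent

namespace Groth.Agent.S1616

/-- For any scheme S and n, m ≥ 0 there is a closed immersion from P^n_S ×_S P^m_S into P^{nm+n+m}_S
compatible with the projections to S. -/
theorem result (S : Scheme.{u}) (n m : ℕ) :
    ∃ φ : pullback (CohB1.ProjSpaceOver.toBase n S) (CohB1.ProjSpaceOver.toBase m S) ⟶ CohB1.ProjSpaceOver (n * m + n + m) S,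
      IsClosedImmersion φ ∧ φ ≫ CohB1.ProjSpaceOver.toBase (n * m + n + m) S =
        pullback.fst (CohB1.ProjSpaceOver.toBase n S) (CohB1.ProjSpaceOver.toBase m S) ≫ CohB1.ProjSpaceOver.toBase n S := by
  obtain ⟨r, Φ, hΦ, -, hΦ2, -⟩ := Groth.Agent.PnEmb.exists_segre_over S n m
  haveI := hΦ
  obtain ⟨e, he⟩ := Groth.Agent.PnEmb.exists_pullback_prod_iso (CohB1.ProjSpace.toSpec n (ULift.{u} ℤ))
    (CohB1.ProjSpace.toSpec m (ULift.{u} ℤ)) (specULiftZIsTerminal.from S)
  refine ⟨e.hom ≫ Φ, MorphismProperty.comp_mem _ _ _ (inferInstanceAs (IsClosedImmersion e.hom)) hΦ, ?_⟩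
  exact (Category.assoc _ _ _).trans ((congrArg (e.hom ≫ ·) hΦ2).trans he)

end Groth.Agent.S1616
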