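import Groth.Statements.S16162
import Mathlib.AlgebraicGeometry.Morphisms.UniversallyOpen

set_option autoImplicit false
open CategoryTheory MonoidalCategory CartesianMonoidalCategory MonObj GrpObj AlgebraicGeometry
universe u
open MadRed

set_option backward.isDefEq.respectTransparency.types false
set_option backward.isDefEq.respectTransparency false

namespace Groth.Agent.S16162


/-- Let S be a scheme, G a group scheme over S, and X an S-scheme with an action of G making X → S a
principal G-bundle (a torsor in the representable fppf sense: X → S surjective, flat and locally of
finite presentation, and G ×_S X → X ×_S X, (g, x) ↦ (g·x, x), an isomorphism). Let P be a closed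
subset of X stable under the action: the action map sends into P every point of G ×_S X whose second
projection lies in P. Then the image of P in S is closed, and P is the full preimage of its image.
(The source works with varieties over the complex numbers and an affine algebraic group; the
assertion holds over any base. Its second assertion, that P → image is again a principal bundle for
the induced reduced structures, then comes from base change and is not part of this row.) -/
theorem result {S : Scheme.{u}}
    {G X : Over S} [GrpObj G] (a : AlgGrp.Action G X) (ha : RedSub.IsTorsor a)
    (P : Set X.left) (hP : IsClosed P)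
    (hstab : ∀ w : (G ⊗ X).left, (snd G X).left.base w ∈ P → a.act.left.base w ∈ P) :
    IsClosed (X.hom.base '' P) ∧ X.hom.base ⁻¹' (X.hom.base '' P) = P := by
  obtain ⟨hs, hf, hp, hiso⟩ := ha
  have hsat : X.hom.base ⁻¹' (X.hom.base '' P) = P := by
    refine Set.Subset.antisymm (fun y hy => ?_) (Set.subset_preimage_image _ _)
    obtain ⟨x, hxP, hxy⟩ := hy
    obtain ⟨w, hw₁, hw₂⟩ := Scheme.Pullback.exists_preimage_pullback (f := X.hom) (g := X.hom) y x hxy.symm
    let ψ := lift a.act (snd G X)
    have : IsIso ψ := hiso
    have : IsIso ψ.left := Functor.map_isIso (Over.forget S) ψ
    obtain ⟨v, hv⟩ := ψ.left.surjective w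
    have h1 : (fst X X).left.base w = y := hw₁
    have h2 : (snd X X).left.base w = x := hw₂
    rw [← hv, ← Scheme.Hom.comp_apply, ← Over.comp_left, lift_fst] at h1
    rw [← hv, ← Scheme.Hom.comp_apply, ← Over.comp_left, lift_snd] at h2
    exact h1 ▸ hstab v (h2 ▸ hxP)
  refine ⟨?_, hsat⟩
  have hq := X.hom.isOpenMap.isQuotientMap X.hom.continuous X.hom.surjective
  rw [← hq.isClosed_preimage, hsat]
  exact hP

end Groth.Agent.S16162
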