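import Groth.Statements.S16170
import Mathlib.LinearAlgebra.Matrix.ToLin
import Mathlib.Tactic.NoncommRing
import Mathlib.Algebra.Order.Archimedean.Basic
open scoped Matrix

set_option autoImplicit false
open Neron

namespace Groth.Agent.S16170

/-- Let M and N be symmetric positive-semidefinite integer matrices on the same finite index set whose
sum M + N is positive definite, and let χ₁, χ₂ be integer matrices with χ₁ + χ₂ = 1 and M χ₂ = N χ₁.
Then χ₁ and χ₂ are idempotent. (In the intended application M = Pᵀ Ψ₁ P and N = Qᵀ Ψ₂ Q for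
surjective integer matrices P, Q and positive-definite Ψ₁, Ψ₂.) -/
theorem result
    {ι : Type} [Fintype ι] [DecidableEq ι]
    (M N χ₁ χ₂ : Matrix ι ι ℤ) (hM : M.IsSymm) (hN : N.IsSymm)
    (hMpos : ∀ v : ι → ℤ, 0 ≤ v ⬝ᵥ M.mulVec v) (hNpos : ∀ v : ι → ℤ, 0 ≤ v ⬝ᵥ N.mulVec v)
    (hpos : ∀ v : ι → ℤ, v ≠ 0 → 0 < v ⬝ᵥ (M + N).mulVec v)
    (hsum : χ₁ + χ₂ = 1) (hrel : M * χ₂ = N * χ₁) :
    χ₁ * χ₁ = χ₁ ∧ χ₂ * χ₂ = χ₂ := by
  set S := M + N with hSdef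
  have hS : S.IsSymm := hM.add hN
  have hχ₂ : χ₂ = 1 - χ₁ := eq_sub_of_add_eq' hsum
  have hSM : S * χ₁ = M := by
    rw [add_mul, ← hrel, ← mul_add, hsum, mul_one]
  have hSN : S * χ₂ = N := by
    rw [hχ₂, mul_sub, mul_one, hSM, hSdef, add_sub_cancel_left]
  let ip : (ι → ℤ) → (ι → ℤ) → ℤ := fun x y => x ⬝ᵥ S *ᵥ y
  have hadj : ∀ (χ X : Matrix ι ι ℤ), X.IsSymm → S * χ = X → ∀ x y, ip (χ *ᵥ x) y = ip x (χ *ᵥ y) := by
    intro χ X hX hSX x y
    simp only [ip, Matrix.mulVec_mulVec, hSX]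
    rw [← Matrix.vecMul_transpose, ← Matrix.dotProduct_mulVec, Matrix.mulVec_mulVec, ← hS.eq, ← Matrix.transpose_mul,
      hSX, hX.eq]
  have h1 := hadj χ₁ M hM hSM
  have h2 := hadj χ₂ N hN hSN
  have hcomm : χ₂ * χ₁ = χ₁ * χ₂ := by rw [hχ₂, sub_mul, mul_sub, one_mul, mul_one]
  set T := χ₁ * χ₂
  have hT : ∀ x y, ip (T *ᵥ x) y = ip x (T *ᵥ y) := fun x y => by
    rw [← Matrix.mulVec_mulVec, h1, h2, Matrix.mulVec_mulVec, hcomm]
  have hadd : ∀ x y z, ip x (y + z) = ip x y + ip x z := fun x y z => by simp [ip, Matrix.mulVec_add]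
  have hadd' : ∀ x y z, ip (x + y) z = ip x z + ip y z := fun x y z => by simp [ip]
  have hsymm : ∀ x y, ip x y = ip y x := fun x y => by
    simp only [ip]
    rw [Matrix.dotProduct_mulVec, ← Matrix.mulVec_transpose, hS.eq, dotProduct_comm]
  have hTnn : ∀ x, 0 ≤ ip x (T *ᵥ x) := by
    intro x
    have e : ip x (T *ᵥ x) = ip (χ₁ *ᵥ x) (χ₂ *ᵥ (χ₁ *ᵥ x)) + ip (χ₂ *ᵥ x) (χ₁ *ᵥ (χ₂ *ᵥ x)) := by
      rw [Matrix.mulVec_mulVec, Matrix.mulVec_mulVec, hcomm, ← hadd', ← Matrix.add_mulVec, hsum, Matrix.one_mulVec]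
    rw [e]
    simp only [ip, Matrix.mulVec_mulVec, ← Matrix.mul_assoc, hSM, hSN]
    rw [← Matrix.mulVec_mulVec, ← Matrix.mulVec_mulVec]
    exact add_nonneg (hNpos _) (hMpos _)
  have hnn : ∀ x, 0 ≤ ip x x := fun x => by
    rcases eq_or_ne x 0 with rfl | h
    · simp [ip]
    · exact (hpos x h).le
  have hTle : ∀ x, 4 * ip x (T *ᵥ x) ≤ ip x x := by
    intro x
    have e : ip ((χ₁ - χ₂) *ᵥ x) ((χ₁ - χ₂) *ᵥ x) = ip x x - 4 * ip x (T *ᵥ x) := by
      have hd : ∀ y, ip ((χ₁ - χ₂) *ᵥ x) y = ip x ((χ₁ - χ₂) *ᵥ y) := fun y => by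
        simp only [ip, Matrix.sub_mulVec, Matrix.mulVec_sub, sub_dotProduct, dotProduct_sub]
        exact congrArg₂ (· - ·) (h1 x y) (h2 x y)
      rw [hd, Matrix.mulVec_mulVec, show (χ₁ - χ₂) * (χ₁ - χ₂) = 1 - (4 : ℤ) • T by
        simp only [T, hχ₂]
        noncomm_ring]
      simp only [ip, Matrix.sub_mulVec, Matrix.one_mulVec, Matrix.smul_mulVec, Matrix.mulVec_sub, Matrix.mulVec_smul,
        dotProduct_sub, dotProduct_smul, smul_eq_mul]
    linarith [hnn ((χ₁ - χ₂) *ᵥ x)]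
  have hcontract : ∀ x, 16 * ip (T *ᵥ x) (T *ᵥ x) ≤ ip x x := by
    intro x
    set z := T *ᵥ x
    have e : ip (x - (4 : ℤ) • z) (T *ᵥ (x - (4 : ℤ) • z)) = ip x z - 8 * ip z z + 16 * ip z (T *ᵥ z) := by
      simp only [ip, Matrix.mulVec_sub, Matrix.mulVec_smul, sub_dotProduct, dotProduct_sub, smul_dotProduct, dotProduct_smul, smul_eq_mul]
      have e2 : x ⬝ᵥ S *ᵥ (T *ᵥ z) = z ⬝ᵥ S *ᵥ z := (hT x z).symm
      rw [e2]
      ring
    linarith [hTnn (x - (4 : ℤ) • z), hTle x, hTle z]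
  have hzero : ∀ x, T *ᵥ x = 0 := by
    intro x
    have hiter : ∀ k, 16 ^ k * ip ((T ^ k) *ᵥ x) ((T ^ k) *ᵥ x) ≤ ip x x := by
      intro k
      induction k with
      | zero => simp
      | succ k ih =>
        refine le_trans ?_ ih
        rw [pow_succ' T, ← Matrix.mulVec_mulVec, pow_succ, mul_assoc]
        exact mul_le_mul_of_nonneg_left (hcontract _) (by positivity)
    obtain ⟨k, hk⟩ := pow_unbounded_of_one_lt (ip x x) (show (1 : ℤ) < 16 by norm_num)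
    have hk0 : (T ^ k) *ᵥ x = 0 := by
      by_contra hne
      have : 1 ≤ ip ((T ^ k) *ᵥ x) ((T ^ k) *ᵥ x) := hpos _ hne
      nlinarith [hiter k, pow_pos (show (0 : ℤ) < 16 by norm_num) k]
    have down : ∀ j y, (T ^ (j + 1)) *ᵥ y = 0 → T *ᵥ y = 0 := by
      intro j
      induction j with
      | zero => intro y hy; simpa using hy
      | succ j ih =>
        intro y hy
        have h0 : T *ᵥ (T *ᵥ y) = 0 := ih _ (by rw [Matrix.mulVec_mulVec, ← pow_succ]; exact hy)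
        by_contra hne
        refine (hpos _ hne).ne' ?_
        show ip (T *ᵥ y) (T *ᵥ y) = 0
        rw [hT, h0]
        simp [ip]
    exact down k x (by rw [pow_succ', ← Matrix.mulVec_mulVec, hk0, Matrix.mulVec_zero])
  have hT0 : T = 0 := Matrix.toLin'.injective (LinearMap.ext fun x => by simpa using hzero x)
  constructor
  · calc χ₁ * χ₁ = χ₁ * (χ₁ + χ₂) - T := by rw [mul_add, add_sub_cancel_right]
      _ = χ₁ := by rw [hsum, hT0, mul_one, sub_zero]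
  · calc χ₂ * χ₂ = (χ₁ + χ₂) * χ₂ - T := by rw [add_mul, add_sub_cancel_left]
      _ = χ₂ := by rw [hsum, hT0, one_mul, sub_zero]

end Groth.Agent.S16170
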