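import Groth.Statements.S16164
import Groth.Agent.S16170
open scoped Matrix

set_option autoImplicit false
open Neron

namespace Groth.Agent.S16164

/-- Let X, Y₁, Y₂ be finitely generated free abelian groups with chosen bases, so that homomorphisms are
integer matrices acting on column vectors and each group is identified with its dual; let P : X → Y₁
and Q : X → Y₂ be surjective with A = (P over Q) : X → Y₁ ⊕ Y₂ injective, and let Ψ₁, Ψ₂ be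
symmetric positive-definite integer matrices on Y₁ and Y₂, Ψ their block-diagonal sum. If the image
of Aᵀ Ψ : Y₁ ⊕ Y₂ → X coincides with the image of Aᵀ Ψ A : X → X (the reverse inclusion always
holds), then A is bijective. (In the source X, Y₁, Y₂ are character groups of maximal tori, P and Q
specialization maps, Ψ₁ and Ψ₂ monodromy pairings, and the hypothesis expresses that two groups of
components coincide.) -/
theorem result
    {ι κ₁ κ₂ : Type} [Fintype ι] [Fintype κ₁] [Fintype κ₂]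
    (P : Matrix κ₁ ι ℤ) (Q : Matrix κ₂ ι ℤ)
    (hP : Function.Surjective P.mulVec) (hQ : Function.Surjective Q.mulVec)
    (hA : Function.Injective (Matrix.fromRows P Q).mulVec)
    (Ψ₁ : Matrix κ₁ κ₁ ℤ) (Ψ₂ : Matrix κ₂ κ₂ ℤ) (hΨ₁ : Ψ₁.IsSymm) (hΨ₂ : Ψ₂.IsSymm)
    (hΨ₁pos : ∀ y : κ₁ → ℤ, y ≠ 0 → 0 < y ⬝ᵥ Ψ₁.mulVec y)
    (hΨ₂pos : ∀ y : κ₂ → ℤ, y ≠ 0 → 0 < y ⬝ᵥ Ψ₂.mulVec y)
    (himage : LinearMap.range ((Matrix.fromRows P Q).transpose * Matrix.fromBlocks Ψ₁ 0 0 Ψ₂).mulVecLin =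
      LinearMap.range ((Matrix.fromRows P Q).transpose * Matrix.fromBlocks Ψ₁ 0 0 Ψ₂ * Matrix.fromRows P Q).mulVecLin) :
    Function.Bijective (Matrix.fromRows P Q).mulVec := by
  classical
  refine ⟨hA, ?_⟩
  set A := Matrix.fromRows P Q
  set Ψ := Matrix.fromBlocks Ψ₁ 0 0 Ψ₂
  set M := Pᵀ * Ψ₁ * P with hM
  set N := Qᵀ * Ψ₂ * Q with hN
  have hS : Aᵀ * Ψ * A = M + N := by
    simp [A, Ψ, M, N, Matrix.transpose_fromRows, Matrix.fromCols_mul_fromBlocks, Matrix.fromCols_mul_fromRows]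
  have hform : ∀ {κ : Type} [Fintype κ] (R : Matrix κ ι ℤ) (Φ : Matrix κ κ ℤ) (v : ι → ℤ),
      v ⬝ᵥ (Rᵀ * Φ * R) *ᵥ v = (R *ᵥ v) ⬝ᵥ Φ *ᵥ (R *ᵥ v) := fun R Φ v => by
    rw [← Matrix.mulVec_mulVec, ← Matrix.mulVec_mulVec, Matrix.dotProduct_mulVec v, Matrix.vecMul_transpose]
  have nn : ∀ {κ : Type} [Fintype κ] (Φ : Matrix κ κ ℤ), (∀ y, y ≠ 0 → 0 < y ⬝ᵥ Φ.mulVec y) → ∀ y, 0 ≤ y ⬝ᵥ Φ.mulVec y :=
    fun Φ h y => by
      rcases eq_or_ne y 0 with rfl | hy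
      · simp
      · exact (h y hy).le
  have hMpos : ∀ v, 0 ≤ v ⬝ᵥ M *ᵥ v := fun v => by rw [hM, hform]; exact nn Ψ₁ hΨ₁pos _
  have hNpos : ∀ v, 0 ≤ v ⬝ᵥ N *ᵥ v := fun v => by rw [hN, hform]; exact nn Ψ₂ hΨ₂pos _
  have hAv : ∀ v, A *ᵥ v = Sum.elim (P *ᵥ v) (Q *ᵥ v) := fun v => Matrix.fromRows_mulVec P Q v
  have hpos : ∀ v, v ≠ 0 → 0 < v ⬝ᵥ (M + N) *ᵥ v := by
    intro v hv
    rw [Matrix.add_mulVec, dotProduct_add, hM, hN, hform, hform]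
    rcases eq_or_ne (P *ᵥ v) 0 with h | h
    · have hq : Q *ᵥ v ≠ 0 := fun h' => hv (hA (by
        show A *ᵥ v = A *ᵥ 0
        rw [hAv, h, h', Matrix.mulVec_zero]; ext (i | i) <;> rfl))
      rw [h]; simpa using hΨ₂pos _ hq
    · exact add_pos_of_pos_of_nonneg (hΨ₁pos _ h) (nn Ψ₂ hΨ₂pos _)
  -- integral projections
  have hex : ∀ j : ι, ∃ c : ι → ℤ, (M + N) *ᵥ c = M *ᵥ Pi.single j 1 := by
    intro j
    have hmem : (Aᵀ * Ψ).mulVecLin (Sum.elim (P *ᵥ Pi.single j 1) 0) ∈ LinearMap.range (Aᵀ * Ψ * A).mulVecLin :=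
      himage ▸ LinearMap.mem_range_self _ _
    obtain ⟨c, hc⟩ := hmem
    refine ⟨c, ?_⟩
    rw [← hS]
    refine hc.trans ?_
    have : Sum.elim (P *ᵥ Pi.single j 1) (0 : κ₂ → ℤ) = Matrix.fromRows P 0 *ᵥ Pi.single j 1 := by
      rw [Matrix.fromRows_mulVec, Matrix.zero_mulVec]
    rw [Matrix.mulVecLin_apply, this, Matrix.mulVec_mulVec]
    congr 1
    simp [A, Ψ, M, Matrix.transpose_fromRows, Matrix.fromCols_mul_fromBlocks, Matrix.fromCols_mul_fromRows]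
  choose c hc using hex
  let χ₁ : Matrix ι ι ℤ := Matrix.of fun i j => c j i
  have hcol : ∀ j, χ₁ *ᵥ Pi.single j 1 = c j := fun j => by ext i; simp [χ₁]
  have hχ : (M + N) * χ₁ = M := Matrix.ext_of_mulVec_single fun j => by rw [← Matrix.mulVec_mulVec, hcol, hc]
  have hrel : M * (1 - χ₁) = N * χ₁ := by
    rw [mul_sub, mul_one]
    conv_lhs => arg 1; rw [← hχ]
    rw [add_mul, add_sub_cancel_left]
  have hMs : M.IsSymm := by simp [Matrix.IsSymm, M, Matrix.transpose_mul, hΨ₁.eq, Matrix.mul_assoc]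
  have hNs : N.IsSymm := by simp [Matrix.IsSymm, N, Matrix.transpose_mul, hΨ₂.eq, Matrix.mul_assoc]
  obtain ⟨h11, -⟩ := Groth.Agent.S16170.result M N χ₁ (1 - χ₁) hMs hNs hMpos hNpos hpos (by abel) hrel
  have hker : ∀ {κ : Type} [Fintype κ] (R : Matrix κ ι ℤ) (Φ : Matrix κ κ ℤ), (∀ y, y ≠ 0 → 0 < y ⬝ᵥ Φ.mulVec y) →
      ∀ v, (Rᵀ * Φ * R) *ᵥ v = 0 → R *ᵥ v = 0 := fun R Φ hΦ v hv => by
    by_contra hne
    refine (hΦ _ hne).ne' ?_
    rw [← hform, hv, dotProduct_zero]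
  have hP0 : P * (1 - χ₁) = 0 := by
    refine Matrix.ext_of_mulVec_single fun j => ?_
    rw [← Matrix.mulVec_mulVec, Matrix.zero_mulVec]
    refine hker P Ψ₁ hΨ₁pos _ ?_
    rw [← hM, Matrix.mulVec_mulVec]
    have : M * (1 - χ₁) = 0 := by
      conv_lhs => rw [← hχ]
      rw [Matrix.mul_assoc, mul_sub, mul_one, h11, sub_self, Matrix.mul_zero]
    rw [this, Matrix.zero_mulVec]
  have hQ0 : Q * χ₁ = 0 := by
    refine Matrix.ext_of_mulVec_single fun j => ?_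
    rw [← Matrix.mulVec_mulVec, Matrix.zero_mulVec]
    refine hker Q Ψ₂ hΨ₂pos _ ?_
    rw [← hN, Matrix.mulVec_mulVec, ← hrel]
    have : M * (1 - χ₁) = 0 := by
      conv_lhs => rw [← hχ]
      rw [Matrix.mul_assoc, mul_sub, mul_one, h11, sub_self, Matrix.mul_zero]
    rw [this, Matrix.zero_mulVec]
  intro y
  obtain ⟨x₁, hx₁⟩ := hP (y ∘ Sum.inl)
  obtain ⟨x₂, hx₂⟩ := hQ (y ∘ Sum.inr)
  refine ⟨χ₁ *ᵥ x₁ + (1 - χ₁) *ᵥ x₂, ?_⟩
  show A *ᵥ _ = y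
  rw [hAv]
  have hP1 : P * χ₁ = P := by
    rw [Matrix.mul_sub, Matrix.mul_one, sub_eq_zero] at hP0
    exact hP0.symm
  have e1 : P *ᵥ (χ₁ *ᵥ x₁ + (1 - χ₁) *ᵥ x₂) = y ∘ Sum.inl := by
    rw [Matrix.mulVec_add, Matrix.mulVec_mulVec, Matrix.mulVec_mulVec, hP0, hP1, Matrix.zero_mulVec, add_zero]
    exact hx₁
  have e2 : Q *ᵥ (χ₁ *ᵥ x₁ + (1 - χ₁) *ᵥ x₂) = y ∘ Sum.inr := by
    rw [Matrix.mulVec_add, Matrix.mulVec_mulVec, Matrix.mulVec_mulVec, hQ0, Matrix.zero_mulVec, zero_add, Matrix.mul_sub, Matrix.mul_one,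
      hQ0, sub_zero]
    exact hx₂
  rw [e1, e2]
  ext (i | i) <;> rfl

end Groth.Agent.S16164
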