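import Groth.Statements.S16174
import Groth.Agent.HenselLib.Perm
import Groth.Agent.HenselLib.Pair

set_option autoImplicit false
universe u
open Hensel

namespace Groth.Agent.S16174

/-- Let V be a Henselian valuation ring and p a prime ideal of V. Then the local rings V_p (localisation
at p) and V/p are Henselian. (Both are again valuation rings, which is elementary and not restated.) -/
theorem result (V : Type u) [CommRing V]
    [IsDomain V] [ValuationRing V] [HenselianLocalRing V] (p : Ideal V) [p.IsPrime] :
    HenselianLocalRing (Localization.AtPrime p) ∧ HenselianLocalRing (V ⧸ p) := by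
  set J := IsLocalRing.maximalIdeal V
  have := Groth.Agent.HenselLib.henselianRing_maximalIdeal V
  constructor
  · let Vp := Localization.AtPrime p
    have hp : HenselianRing V p :=
      Groth.Agent.HenselLib.henselianRing_of_le (IsLocalRing.le_maximalIdeal (Ideal.IsPrime.ne_top ‹_›)) (J := J)
    -- the maximal ideal of the localisation is `p`
    have hmem : ∀ z ∈ IsLocalRing.maximalIdeal Vp, ∃ a ∈ p, algebraMap V Vp a = z := by
      intro z hz
      obtain ⟨x, ⟨s, hs⟩, rfl⟩ := IsLocalization.exists_mk'_eq p.primeCompl z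
      have hx : x ∈ p := (IsLocalization.AtPrime.mk'_mem_maximal_iff Vp p x ⟨s, hs⟩).mp hz
      obtain ⟨c, hc | hc⟩ := ValuationRing.cond x s
      · exact absurd (hc ▸ Ideal.mul_mem_right c p hx) hs
      · refine ⟨c, (Ideal.IsPrime.mem_or_mem ‹_› (hc.symm ▸ hx : s * c ∈ p)).resolve_left hs, ?_⟩
        rw [IsLocalization.eq_mk'_iff_mul_eq, ← map_mul, mul_comm, hc]
    have hmem' : ∀ a ∈ p, algebraMap V Vp a ∈ IsLocalRing.maximalIdeal Vp := fun a ha =>
      (IsLocalization.AtPrime.to_map_mem_maximal_iff Vp p a).mpr ha
    have : HenselianRing Vp (IsLocalRing.maximalIdeal Vp) := by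
      refine Groth.Agent.HenselLib.henselianRing_of_gabberRoot
        (IsLocalRing.jacobson_eq_maximalIdeal ⊥ bot_ne_top).ge fun n hn P hPn hPI => ?_
      choose l hl hl' using fun i => hmem _ (hPI i)
      let Q : Polynomial V := ∑ i ∈ Finset.range (n + 1), Polynomial.C (l i) * Polynomial.X ^ i
      have hQn : Q.natDegree ≤ n := Polynomial.natDegree_sum_le_of_forall_le _ _ fun i hi =>
        (Polynomial.natDegree_C_mul_X_pow_le _ _).trans (by simp at hi; omega)
      have hQI : ∀ i, Q.coeff i ∈ p := fun i => by
        rw [Polynomial.finsetSum_coeff]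
        exact Ideal.sum_mem _ fun k _ => by
          rw [Polynomial.coeff_C_mul]; exact Ideal.mul_mem_right _ _ (hl k)
      have hQP : Q.map (algebraMap V Vp) = P := by
        conv_rhs => rw [P.as_sum_range' (n + 1) (by omega)]
        simp only [Q, Polynomial.C_mul_X_pow_eq_monomial, Polynomial.map_sum, Polynomial.map_monomial, hl']
      obtain ⟨α, hα, hαr⟩ := Groth.Agent.HenselLib.gabberRoot p n hn Q hQn hQI
      refine ⟨algebraMap V Vp α, by simpa using hmem' _ hα, ?_⟩
      have h2 := hαr.map (f := algebraMap V Vp)
      simpa [hQP] using h2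
    exact Groth.Agent.HenselLib.henselianLocalRing_of_henselianRing Vp
  · have : IsLocalRing (V ⧸ p) := .of_surjective' (Ideal.Quotient.mk p) Ideal.Quotient.mk_surjective
    exact Groth.Agent.HenselLib.henselianLocalRing_of_isIntegral V (V ⧸ p)

end Groth.Agent.S16174
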