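import Groth.Statements.S1618
import Groth.Agent.DimLib.Sub

set_option autoImplicit false
universe u
open CategoryTheory CategoryTheory.Limits AlgebraicGeometry
open Variety

namespace Groth.Agent.S1618

/-- Let X be irreducible and locally of finite type over a field k. Then every nonempty open subset of X
has the same Krull dimension as X. -/
theorem result (k : Type u) [Field k] (X : Scheme.{u}) [X.Over (Spec (CommRingCat.of k))] [LocallyOfFiniteType (X ↘ (Spec (CommRingCat.of k)))] [IrreducibleSpace X]
    (U : X.Opens) (hU : (U : Set X).Nonempty) : topologicalKrullDim U = topologicalKrullDim X := by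
  open Groth.Agent.DimLib in
  set f := X ↘ (Spec (CommRingCat.of k))
  rw [topologicalKrullDim_eq_ptDim_genericPoint f]
  have : topologicalKrullDim U = ⨆ x : (U : Set X), (ptDim f x.1 : WithBot ℕ∞) :=
    topologicalKrullDim_locallyClosed_eq_iSup f U.2.isLocallyClosed
  rw [this]
  have hη : genericPoint X ∈ (U : Set X) := ((genericPoint_spec X).mem_open_set_iff U.2).2 (by simpa using hU)
  refine le_antisymm (iSup_le fun x => ?_) (le_iSup (fun x : (U : Set X) => (ptDim f x.1 : WithBot ℕ∞)) ⟨_, hη⟩)
  exact_mod_cast ptDim_le_of_specializes f (genericPoint_specializes x.1)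

end Groth.Agent.S1618
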