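import Groth.Statements.S16181
import Groth.Agent.S1975
import Groth.Agent.WApprox26.ValCore
import Groth.Agent.WApprox26.ValGalois
import Groth.Agent.MultExt26.GmBase
import Groth.Agent.IsoTriv.SchemeBridge
import Groth.Agent.IsoTriv.Criterion
import Groth.Agent.CommAlg4.IsotrivialNormal
import Mathlib.RingTheory.FiniteType
import Mathlib.RingTheory.Ideal.Height


set_option autoImplicit false
set_option linter.style.haveILetI false
universe u
open CategoryTheory MonoidalCategory CartesianMonoidalCategory MonObj GrpObj AlgebraicGeometry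
open Red

namespace Groth.Agent.S16181

/-- Take a valuation ring V whose Krull dimension is a finite number n > 0, and a prime ideal p of V of
height n - 1; let a be an element of the maximal ideal of V not lying in p, let V^h be a
henselisation of V and T a V-torus. Then T(V^h[1/a]) = Im(T(V[1/a]) → T(V^h[1/a])) · T(V^h): every
point x of T over V^h[1/a] is the product, in the group of V^h[1/a]-points, of the restriction of a
V[1/a]-point y and the restriction of a V^h-point z; the product is written through the pair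
morphism h = (y, z) into T ×_V T followed by the multiplication of T. -/
theorem result (V : Type u) [CommRing V] [IsDomain V]
    [ValuationRing V] (n : ℕ) (hn : 0 < n) (hV : ringKrullDim V = n) (p : Ideal V) [p.IsPrime]
    (hp : p.height = n - 1) (a : V) (ha : a ∈ IsLocalRing.maximalIdeal V) (hap : a ∉ p)
    (Vh : Type u) [CommRing Vh] [IsLocalRing Vh] [Algebra V Vh] [IsLocalHom (algebraMap V Vh)]
    [Hensel.IsHenselization V Vh]
    (T : Over (Spec (CommRingCat.of V))) [GrpObj T] (hT : Red.IsTorus T)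
    (x : Spec (CommRingCat.of (Localization.Away (algebraMap V Vh a))) ⟶ T.left)
    (hx : x ≫ T.hom = Spec.map (CommRingCat.ofHom (algebraMap V (Localization.Away (algebraMap V Vh a))))) :
    ∃ (y : Spec (CommRingCat.of (Localization.Away a)) ⟶ T.left) (z : Spec (CommRingCat.of Vh) ⟶ T.left)
      (h : Spec (CommRingCat.of (Localization.Away (algebraMap V Vh a))) ⟶ (T ⊗ T).left),
      y ≫ T.hom = Spec.map (CommRingCat.ofHom (algebraMap V (Localization.Away a))) ∧
      z ≫ T.hom = Spec.map (CommRingCat.ofHom (algebraMap V Vh)) ∧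
      h ≫ (fst T T).left = Spec.map (CommRingCat.ofHom (Localization.awayMap (algebraMap V Vh) a)) ≫ y ∧
      h ≫ (snd T T).left = Spec.map (CommRingCat.ofHom (algebraMap Vh (Localization.Away (algebraMap V Vh a)))) ≫ z ∧
      x = h ≫ (μ[T]).left := by
  haveI hhens : HenselianLocalRing Vh := Hensel.IsHenselization.henselian (R := V)
  obtain ⟨hd, hvr, hinj, hval'⟩ := Groth.Agent.S1975.result V Vh (Or.inl inferInstance)
  haveI := hd
  haveI := hvr hd
  haveI : FaithfulSMul V Vh := (faithfulSMul_iff_algebraMap_injective V Vh).2 hinj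
  haveI : Module.IsTorsionFree V Vh := Module.isTorsionFree_iff_faithfulSMul.2 inferInstance
  haveI : Module.Flat V Vh := Module.Flat.flat_iff_torsion_eq_bot_of_isBezout.2
    (Submodule.isTorsionFree_iff_torsion_eq_bot.1 inferInstance)
  haveI : Module.FaithfullyFlat V Vh := Module.FaithfullyFlat.of_flat_of_isLocalHom
  have hval : ∀ b : Vh, b ≠ 0 → ∃ (v : V) (w : Vhˣ), b = w * algebraMap V Vh v := hval'
  have ha0 : a ≠ 0 := fun h => hap (h ▸ p.zero_mem)
  -- approximation
  have happrox : ∀ v : V, IsUnit (algebraMap V (Localization.Away a) v) → ∀ r : Vh, ∃ v₀ : V,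
      algebraMap V Vh v ^ 2 ∣ r - algebraMap V Vh v₀ := by
    intro v hv r
    by_cases hvu : IsUnit v
    · exact ⟨0, ((hvu.map _).pow 2).dvd⟩
    obtain ⟨l, hl⟩ : ∃ l, v ∣ a ^ l := by
      obtain ⟨l, c, hc⟩ := IsLocalization.Away.surj a ((hv.unit⁻¹ : (Localization.Away a)ˣ) : Localization.Away a)
      refine ⟨l, c, IsLocalization.injective (Localization.Away a) (powers_le_nonZeroDivisors_of_noZeroDivisors ha0) ?_⟩
      rw [map_mul, ← hc, ← _root_.mul_assoc, show algebraMap V (Localization.Away a) v * (hv.unit⁻¹ : (Localization.Away a)ˣ) = 1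
        from hv.mul_val_inv, _root_.one_mul, map_pow]
    let I : Ideal V := Ideal.span {v ^ 2}
    have hIm : I ≤ IsLocalRing.maximalIdeal V := by
      rw [Ideal.span_singleton_le_iff_mem, IsLocalRing.mem_maximalIdeal, mem_nonunits_iff]
      exact fun h => hvu ((isUnit_pow_iff two_ne_zero).1 h)
    haveI : Nontrivial (V ⧸ I) :=
      Ideal.Quotient.nontrivial_iff.2 fun h => (IsLocalRing.maximalIdeal.isMaximal V).ne_top (top_le_iff.1 (h ▸ hIm))
    haveI : IsLocalRing (V ⧸ I) := IsLocalRing.of_surjective' (Ideal.Quotient.mk I) Ideal.Quotient.mk_surjective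
    have hrad : IsLocalRing.maximalIdeal V ≤ I.radical := by
      rw [Ideal.radical_eq_sInf]
      refine le_sInf ?_
      rintro q ⟨hIq, hq⟩
      haveI : q.IsPrime := hq
      have haq : a ∈ q := by
        refine hq.mem_of_pow_mem l ?_
        exact Ideal.mem_of_dvd q hl (hq.mem_of_pow_mem 2 (hIq (Ideal.mem_span_singleton_self _)))
      have hpq : p < q := by
        rcases (ValuationRing.iff_ideal_total.1 (inferInstance : ValuationRing V)).total p q with h | h
        · exact lt_of_le_of_ne h fun h' => hap (h' ▸ haq)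
        · exact absurd (h haq) hap
      by_contra hle
      have hqm : q < IsLocalRing.maximalIdeal V :=
        lt_of_le_of_ne (IsLocalRing.le_maximalIdeal hq.ne_top) fun h => hle h.ge
      haveI : FiniteRingKrullDim V := (finiteRingKrullDim_iff_ne_bot_and_top).2 ⟨by rw [hV]; exact WithBot.coe_ne_bot, by rw [hV]; exact fun h => ENat.coe_ne_top n (WithBot.coe_inj.1 h)⟩
      have h1 := Ideal.height_strict_mono_of_isPrime hpq
      have h2 := Ideal.height_strict_mono_of_isPrime hqm
      have h3 : (IsLocalRing.maximalIdeal V).height = (n : ℕ∞) :=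
        WithBot.coe_inj.1 ((IsLocalRing.maximalIdeal_height_eq_ringKrullDim).trans hV)
      rw [h3] at h2
      rw [hp] at h1
      obtain ⟨k, hk⟩ := ENat.ne_top_iff_exists.1 (ne_top_of_lt h2)
      rw [← hk] at h1 h2
      norm_cast at h1 h2
      omega
    haveI : HenselianRing (V ⧸ I) (IsLocalRing.maximalIdeal (V ⧸ I)) :=
      Groth.Agent.HenselLib.henselianRing_of_nilpotent _ fun z hz => by
        obtain ⟨w, rfl⟩ := Ideal.Quotient.mk_surjective z
        obtain ⟨k, hk⟩ := hrad (show w ∈ IsLocalRing.maximalIdeal V by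
          rw [IsLocalRing.mem_maximalIdeal, mem_nonunits_iff] at hz ⊢
          exact fun h => hz (h.map _))
        exact ⟨k, by rw [← map_pow, Ideal.Quotient.eq_zero_iff_mem]; exact hk⟩
    haveI : HenselianLocalRing (V ⧸ I) := Groth.Agent.HenselLib.henselianLocalRing_of_henselianRing _
    haveI : IsLocalHom (Ideal.Quotient.mk I) := IsLocalHom.of_surjective _ Ideal.Quotient.mk_surjective
    obtain ⟨g, hg, -⟩ := Hensel.IsHenselization.universal (R := V) (S := Vh) (V ⧸ I) (Ideal.Quotient.mk I) inferInstance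
    let J : Ideal Vh := Ideal.span {algebraMap V Vh v ^ 2}
    haveI : Nontrivial (Vh ⧸ J) := Ideal.Quotient.nontrivial_iff.2 fun h => by
      rw [Ideal.span_singleton_eq_top] at h
      exact hvu (IsUnit.of_map (algebraMap V Vh) v ((isUnit_pow_iff two_ne_zero).1 h))
    haveI : IsLocalRing (Vh ⧸ J) := IsLocalRing.of_surjective' (Ideal.Quotient.mk J) Ideal.Quotient.mk_surjective
    haveI : HenselianLocalRing (Vh ⧸ J) := Groth.Agent.HenselLib.henselianLocalRing_of_isIntegral Vh (Vh ⧸ J)
    haveI : IsLocalHom (Ideal.Quotient.mk J) := IsLocalHom.of_surjective _ Ideal.Quotient.mk_surjective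
    obtain ⟨g', -, hu⟩ := Hensel.IsHenselization.universal (R := V) (S := Vh) (Vh ⧸ J)
      ((Ideal.Quotient.mk J).comp (algebraMap V Vh)) (RingHom.isLocalHom_comp _ _)
    have hIJ : I ≤ RingHom.ker ((Ideal.Quotient.mk J).comp (algebraMap V Vh)) := by
      rw [Ideal.span_singleton_le_iff_mem, RingHom.mem_ker, RingHom.comp_apply, map_pow, Ideal.Quotient.eq_zero_iff_mem]
      exact Ideal.mem_span_singleton_self _
    let ψ : V ⧸ I →+* Vh ⧸ J := Ideal.Quotient.lift I _ fun z hz => hIJ hz
    have heq : ψ.comp g = Ideal.Quotient.mk J := (hu _ (by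
      show (ψ.comp g).comp _ = _
      rw [RingHom.comp_assoc, hg]; rfl)).trans (hu _ rfl).symm
    obtain ⟨v₀, hv₀⟩ := Ideal.Quotient.mk_surjective (g r)
    refine ⟨v₀, Ideal.mem_span_singleton.1 (Ideal.Quotient.eq.1 ?_)⟩
    rw [← heq, RingHom.comp_apply, ← hv₀]
    exact (RingHom.congr_fun heq _).symm.trans (by rfl)
  -- the Hopf algebra and its splitting
  obtain ⟨A, _, _, hft, hmt, ⟨i⟩⟩ :=
    Groth.Agent.IsoTriv.SchemeBridge.exists_hopf T (Groth.Agent.MultExt26.isMultTypeFT_of_torus T hT)
  obtain ⟨R', _, _, _, _, _, N, _, ⟨e'⟩⟩ := Groth.Agent.CommAlg4.IsoNormal.isIsotrivial hft hmt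
  haveI : Nontrivial R' := (FaithfulSMul.algebraMap_injective V R').nontrivial
  obtain ⟨C, _, _, _, _, _, _, _, φ, L, _, _, _, _, _, _, _, hfix⟩ :=
    Groth.Agent.WApprox26.Val.exists_galois (A := V) (FractionRing V) R'
  letI : Algebra R' C := φ.toRingHom.toAlgebra
  haveI : IsScalarTower V R' C := .of_algebraMap_eq fun c => (φ.commutes c).symm
  let e : TensorProduct V C A ≃ₐc[C] MonoidAlgebra C N := Groth.Agent.IsoTriv.bcTriv e'
  haveI : Group.FG N := by
    haveI : Algebra.FiniteType C (MonoidAlgebra C N) :=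
      Algebra.FiniteType.equiv (inferInstance : Algebra.FiniteType C (TensorProduct V C A)) e.toAlgEquiv
    exact (MonoidAlgebra.finiteType_iff_group_fg (R := C)).1 inferInstance
  have hC : ∀ c : C, (∀ σ : C ≃ₐ[V] C, σ c = c) → ∃ v : V, algebraMap V C v = c := fun c hc => by
    obtain ⟨q, hq⟩ := hfix (algebraMap C L c) fun σ => by rw [Groth.Agent.WApprox26.lAut_algebraMap, hc]
    have hqi : IsIntegral V q := by
      refine (isIntegral_algHom_iff (IsScalarTower.toAlgHom V (FractionRing V) L) (RingHom.injective _)).1 ?_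
      show IsIntegral V (algebraMap (FractionRing V) L q)
      rw [hq]
      exact IsIntegral.algebraMap (Algebra.IsIntegral.isIntegral c)
    obtain ⟨v, rfl⟩ := IsIntegrallyClosed.isIntegral_iff.1 hqi
    refine ⟨v, IsFractionRing.injective C L ?_⟩
    rw [← IsScalarTower.algebraMap_apply, ← hq, ← IsScalarTower.algebraMap_apply]
  -- the point
  let j₁ : Localization.Away a →ₐ[V] Localization.Away (algebraMap V Vh a) :=
    { Localization.awayMap (algebraMap V Vh) a with
      commutes' := fun c => (IsLocalization.map_eq _ c).trans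
        (IsScalarTower.algebraMap_apply V Vh (Localization.Away (algebraMap V Vh a)) c).symm }
  let xo : CoactBr.sp V (Localization.Away (algebraMap V Vh a)) ⟶ T := Over.homMk x hx
  let x' : CoactBr.sp V (Localization.Away (algebraMap V Vh a)) ⟶ CoactBr.sp V A := xo ≫ i.hom.hom.hom
  obtain ⟨y, z, hyz⟩ := Groth.Agent.WApprox26.exists_points_val e hC hval a ha0 happrox j₁
    (Groth.Agent.HopfLib.SpPoints.algOf x')
  haveI : IsMonHom i.inv.hom.hom := i.inv.hom.isMonHom_hom
  let Y : CoactBr.sp V (Localization.Away a) ⟶ T := CoactBr.pt y ≫ i.inv.hom.hom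
  let Z : CoactBr.sp V Vh ⟶ T := CoactBr.pt z ≫ i.inv.hom.hom
  let jh : Vh →ₐ[V] Localization.Away (algebraMap V Vh a) := IsScalarTower.toAlgHom V Vh _
  let P : CoactBr.sp V (Localization.Away (algebraMap V Vh a)) ⟶ T ⊗ T :=
    CartesianMonoidalCategory.lift (CoactBr.pt j₁ ≫ Y) (CoactBr.pt jh ≫ Z)
  have key : x' = CoactBr.pt (j₁.comp y) * CoactBr.pt (jh.comp z) := by
    rw [← Groth.Agent.HopfLib.SpPoints.pt_algOf x', hyz, CoactBr.pt_mul_pt]
    rfl
  have hxo : xo = P ≫ μ[T] := by
    have h0 : i.hom.hom.hom ≫ i.inv.hom.hom = 𝟙 T := ((Grp.forget _).mapIso i).hom_inv_id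
    have h1 : xo = x' ≫ i.inv.hom.hom :=
      (((Category.assoc _ _ _).trans (congrArg (xo ≫ ·) h0)).trans (Category.comp_id xo)).symm
    refine h1.trans ((congrArg (· ≫ i.inv.hom.hom) key).trans ((MonObj.mul_comp _ _ _).trans ?_))
    rw [Hom.mul_def, CoactBr.pt_comp, CoactBr.pt_comp, Category.assoc, Category.assoc]
  refine ⟨Y.left, Z.left, P.left, Over.w Y, Over.w Z, ?_, ?_, congrArg CommaMorphism.left hxo⟩
  · exact congrArg CommaMorphism.left (CartesianMonoidalCategory.lift_fst (CoactBr.pt j₁ ≫ Y) (CoactBr.pt jh ≫ Z))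
  · exact congrArg CommaMorphism.left (CartesianMonoidalCategory.lift_snd (CoactBr.pt j₁ ≫ Y) (CoactBr.pt jh ≫ Z))

end Groth.Agent.S16181
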