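import Groth.Statements.S16189
import Groth.Agent.DualGorBC.Degree
import Groth.Agent.S3624
import Groth.Agent.S3637
-- import your own Groth.Agent.* helpers here

set_option autoImplicit false
set_option backward.isDefEq.respectTransparency false
set_option maxHeartbeats 1000000
universe u
open CategoryTheory CategoryTheory.Limits AlgebraicGeometry
attribute [local instance] HasDerivedCategory.standard
open Deform

namespace Groth.Agent.S16189

open Groth.Agent in
theorem surjective_specQuotTrans (A : Type u) [CommRing A] (I : Ideal A) (n : ℕ) :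
    Surjective (CohB1.specQuotTrans I n) := by
  constructor
  intro p
  let φ := Ideal.Quotient.factor (Ideal.pow_le_pow_right (I := I) (Nat.le_succ (n + 1)))
  have hφ : Function.Surjective φ := Ideal.Quotient.factor_surjective _
  suffices p ∈ Set.range (PrimeSpectrum.comap φ) from this
  rw [range_comap_of_surjective _ φ hφ, PrimeSpectrum.mem_zeroLocus]
  intro x hx
  obtain ⟨y, rfl⟩ := Ideal.Quotient.mk_surjective x
  have hy : y ∈ I ^ (n + 1) := Ideal.Quotient.eq_zero_iff_mem.1 hx
  have h2 : (Ideal.Quotient.mk (I ^ (n + 2)) y) ^ 2 = 0 := by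
    rw [← map_pow, Ideal.Quotient.eq_zero_iff_mem]
    refine Ideal.pow_le_pow_right (by omega : n + 2 ≤ (n + 1) * 2) ?_
    rw [pow_mul]
    exact Ideal.pow_mem_pow hy 2
  exact p.isPrime.mem_of_pow_mem 2 (h2 ▸ zero_mem _)

theorem isIso_base (k : Type u) [Field k] : IsIso (Spec.map (CommRingCat.ofHom
    ((Ideal.Quotient.mk (Ideal.span {PowerSeries.X (R := k)} ^ (0 + 1))).comp (algebraMap k (PowerSeries k))))) := by
  let φ := (Ideal.Quotient.mk (Ideal.span {PowerSeries.X (R := k)} ^ (0 + 1))).comp (algebraMap k (PowerSeries k))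
  have hb : Function.Bijective φ := by
    refine ⟨(injective_iff_map_eq_zero φ).2 fun c hc => ?_, fun q => ?_⟩
    · have h := Ideal.Quotient.eq_zero_iff_mem.1 hc
      rw [zero_add, pow_one, Ideal.mem_span_singleton, PowerSeries.X_dvd_iff] at h
      simpa using h
    · obtain ⟨y, rfl⟩ := Ideal.Quotient.mk_surjective q
      refine ⟨PowerSeries.constantCoeff y, Ideal.Quotient.eq.2 ?_⟩
      rw [zero_add, pow_one, Ideal.mem_span_singleton, PowerSeries.X_dvd_iff]
      simp
  haveI : IsIso (CommRingCat.ofHom φ) := (RingEquiv.ofBijective φ hb).toCommRingCatIso.isIso_hom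
  infer_instance


/-- Let k be a field and X a projective Gorenstein k-scheme, equidimensional of dimension n, and let ω_X
be its dualizing module, the cohomology sheaf in degree -n of f^! O for f : X → Spec k (computed
through an assumed right adjoint of Rf_* on D_QCoh, as the shared prelude presents f^!). Let 𝔛 → Spf
k[[t]] be a formal deformation of X: an adic morphism of systems of thickenings to the system (Spec
k[[t]]/(t^{m+1}))_m whose levels X_m → Spec k[[t]]/(t^{m+1}) are all flat and proper, together with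
an isomorphism of X with the level-0 scheme compatible with the structure maps to Spec k. Then ω_X
extends to an invertible formal sheaf on 𝔛: there is a system (L_m)_m of invertible O_{X_m}-modules
with transition isomorphisms L_{m+1}|_{X_m} ≅ L_m whose level-0 term pulls back to a module
isomorphic to ω_X (existence of an isomorphism only). (The published statement adds that this
invertible formal sheaf is unique; the proof gives existence only, and uniqueness fails already for
the constant deformation of an elliptic curve, whose trivial dualizing module extends both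
constantly and along a non-constant formal family of degree-zero invertible sheaves. The published
setting is an algebraically closed field of characteristic zero and a Gorenstein X with locally
constant dimension; the proof uses neither property of k, and a single dimension n is fixed here.) -/
theorem result
    (k : Type u) [Field k] (X : Scheme.{u}) [X.Over (Spec (CommRingCat.of k))]
    (hproj : ∃ (d : ℕ) (ι : X ⟶ CohB1.ProjSpace d k), IsClosedImmersion ι ∧
      ι ≫ CohB1.ProjSpace.toSpec d k = X ↘ Spec (CommRingCat.of k))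
    (hG : Dual3.IsGorenstein X) (n : ℕ)
    (hequi : ∀ Z ∈ irreducibleComponents (X : Type u), topologicalKrullDim Z = n)
    [DCoh.HasRpush (X ↘ Spec (CommRingCat.of k))] (h : DCoh.RpushPreservesQCoh (X ↘ Spec (CommRingCat.of k)))
    [DCoh.HasShriek (X ↘ Spec (CommRingCat.of k)) h]
    (OY : DCoh.DQCoh (Spec (CommRingCat.of k)))
    (hOY : Nonempty (OY.obj ≅ DCoh.inD (Spec (CommRingCat.of k)) (Coh.structureModule (Spec (CommRingCat.of k)))))
    (𝔛 : FSch.Sys.{u}) (𝔣 : 𝔛 ⟶ FSch.spf (PowerSeries k) (Ideal.span {PowerSeries.X (R := k)}))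
    (hadic : FSch.IsAdicHom 𝔣)
    (hflat : ∀ m : ℕ, Flat (FSch.Hom.app 𝔣 m)) (hprop : ∀ m : ℕ, IsProper (FSch.Hom.app 𝔣 m))
    (e : X ≅ 𝔛.X 0)
    (he : e.hom ≫ FSch.Hom.app 𝔣 0 ≫ Spec.map (CommRingCat.ofHom
      ((Ideal.Quotient.mk (Ideal.span {PowerSeries.X (R := k)} ^ (0 + 1))).comp (algebraMap k (PowerSeries k)))) =
      X ↘ Spec (CommRingCat.of k)) :
    ∃ 𝔏 : FSch.ModSys 𝔛, (∀ m : ℕ, PicF.IsInvertible (𝔏.F m)) ∧
      Nonempty ((Scheme.Modules.pullback e.hom).obj (𝔏.F 0) ≅
        DCoh.dualizingMod (X ↘ Spec (CommRingCat.of k)) h OY n) := by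
  open Groth.Agent in
  haveI : ∀ (U V : Scheme.{u}) (j : U ⟶ V) [IsOpenImmersion j],
      PreservesFiniteLimits (Scheme.Modules.restrictFunctor j) := fun U V j _ =>
    DCat.PullPerf.preservesFiniteLimits_restrict j
  let I : Ideal (PowerSeries k) := Ideal.span {PowerSeries.X (R := k)}
  let Y : ℕ → Scheme.{u} := fun m => (FSch.spf (PowerSeries k) I).X m
  haveI : ∀ m, IsNoetherian (Y m) := fun m =>
    inferInstanceAs (IsNoetherian (Spec (CommRingCat.of (PowerSeries k ⧸ I ^ (m + 1)))))
  let f : ∀ m, 𝔛.X m ⟶ Y m := fun m => FSch.Hom.app 𝔣 m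
  haveI : ∀ m, Flat (f m) := hflat
  haveI : ∀ m, IsProper (f m) := hprop
  haveI : ∀ m, IsNoetherian (𝔛.X m) := fun m => by
    haveI := LocallyOfFiniteType.isLocallyNoetherian (f m)
    haveI : CompactSpace (𝔛.X m) := QuasiCompact.compactSpace_of_compactSpace (f m)
    exact {}
  let j : ∀ m, Y m ⟶ Y (m + 1) := fun m => CohB1.specQuotTrans I m
  have hsq : ∀ m, IsPullback (𝔛.ι m) (f m) (f (m + 1)) (j m) := hadic
  haveI : ∀ m, Surjective (j m) := fun m => surjective_specQuotTrans _ I m
  haveI : ∀ m, Surjective (𝔛.ι m) := fun m =>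
    MorphismProperty.of_isPullback (P := @Surjective) (hsq m).flip inferInstance
  let θ : Y 0 ⟶ Spec (CommRingCat.of k) := Spec.map (CommRingCat.ofHom
      ((Ideal.Quotient.mk (Ideal.span {PowerSeries.X (R := k)} ^ (0 + 1))).comp (algebraMap k (PowerSeries k))))
  haveI : IsIso θ := isIso_base k
  let p := X ↘ Spec (CommRingCat.of k)
  have hw : e.hom ≫ f 0 = p ≫ inv θ := by
    rw [← cancel_mono θ, Category.assoc, Category.assoc, IsIso.inv_hom_id, Category.comp_id]
    exact he
  have hsq0 : IsPullback e.hom p (f 0) (inv θ) := IsPullback.of_horiz_isIso ⟨hw⟩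
  haveI : IsProper p := MorphismProperty.of_isPullback hsq0 inferInstance
  haveI : Flat p := MorphismProperty.of_isPullback hsq0 inferInstance
  haveI : IsNoetherian (Spec (CommRingCat.of k)) := {}
  -- Gorenstein levels
  have hX0 : Dual3.IsGorenstein (𝔛.X 0) := ⟨inferInstance, fun y => by
    obtain ⟨x, rfl⟩ := e.hom.surjective y
    haveI := hG.2 x
    exact SegreDim.gorensteinLocal_of_ringEquiv (asIso (e.hom.stalkMap x)).commRingCatIsoToRingEquiv.symm⟩
  have hGm : ∀ m, Dual3.IsGorensteinMor (f m) := by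
    intro m
    induction m with
    | zero => exact (S3624.result (𝔛.X 0) (Y 0) (f 0) hX0).1
    | succ m ih =>
      intro y
      obtain ⟨y', rfl⟩ := (𝔛.ι m).surjective y
      exact (S3626.result _ _ _ _ (f (m + 1)) (j m) (f m) (𝔛.ι m) (hsq m) y').1 (ih y')
  have hGp : Dual3.IsGorensteinMor p := (S3624.result X _ p hG).1
  -- the dualizing complexes
  haveI : ∀ m, DCoh.HasRpush (f m) := fun m => DCat.hasRpush _
  haveI : ∀ m, DCoh.HasLpull (𝔛.ι m) := fun m => DCat.hasLpull _
  haveI := DCat.hasLpull e.hom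
  have hf : ∀ m, DCoh.RpushPreservesQCoh (f m) := fun m M hM => DQCoh.isQCohD_Rpush _ M hM
  haveI : ∀ m, DCoh.HasShriek (f m) (hf m) := fun m => Dual22Lib.AdjGeom.isLeftAdjoint_RpushQ (f m) (hf m)
  let O : ∀ m, DCoh.DQCoh (Y m) := fun m => ⟨DCoh.inD (Y m) (Coh.structureModule (Y m)),
    haveI : Coh.IsQCoh (Coh.structureModule (Y m)) := Coherent.isQCoh_structureModule
    FlatBC14.isQCohD_inD _⟩
  let ω : ∀ m, DCoh.D (𝔛.X m) := fun m => DCoh.dualizingCx (f m) (hf m) (O m)
  have hinv : ∀ m, DualGorBC.Inv (ω m) := fun m =>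
    DualGorBC.inv_shriek (f m) (hf m) _ (DCoh.shriekAdj (f m) (hf m)) (O m) ⟨Iso.refl _⟩ (hGm m)
  have hbc : ∀ m, Nonempty ((DCoh.Lpull (𝔛.ι m)).obj (ω (m + 1)) ≅ ω m) := fun m =>
    DualGorBC.nonempty_dualizing_baseChange (f (m + 1)) (j m) (f m) (𝔛.ι m) (hsq m) (hGm (m + 1))
      (hf (m + 1)) (hf m) _ _ (DCoh.shriekAdj (f (m + 1)) (hf (m + 1))) (DCoh.shriekAdj (f m) (hf m))
      (O (m + 1)) (Iso.refl _) (O m) (Iso.refl _)
  obtain ⟨eO⟩ := hOY
  obtain ⟨bc0⟩ : Nonempty ((DCoh.Lpull e.hom).obj (ω 0) ≅ DCoh.dualizingCx p h OY) :=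
    DualGorBC.nonempty_dualizing_baseChange (f 0) (inv θ) p e.hom hsq0 (hGm 0)
      (hf 0) h _ _ (DCoh.shriekAdj (f 0) (hf 0)) (DCoh.shriekAdj p h)
      (O 0) (Iso.refl _) OY eO
  have hp : DualGorBC.InvDeg (DCoh.dualizingCx p h OY) (n : ℤ) :=
    DualGorBC.InvDeg.of_inv (DualGorBC.inv_shriek p h _ (DCoh.shriekAdj p h) OY ⟨eO⟩ hGp)
      (S3637.result k X p (fun x => by
        haveI := hG.2 x
        exact LocCoh.isCohenMacaulayLocalRing_of_gorenstein) n hequi h _ (DCoh.shriekAdj p h) OY ⟨eO⟩).1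
  have hdeg : ∀ m, DualGorBC.InvDeg (ω m) (n : ℤ) := by
    intro m
    induction m with
    | zero => exact DualGorBC.InvDeg.descend (hinv 0) e.hom (hp.of_iso bc0.symm)
    | succ m ih => exact DualGorBC.InvDeg.descend (hinv (m + 1)) (𝔛.ι m) (ih.of_iso (hbc m).some.symm)
  obtain ⟨r⟩ := (hdeg 0).nonempty_pull e.hom
  exact ⟨{ F := fun m => DCoh.HD (ω m) (-(n : ℤ))
           e := fun m => ((hdeg (m + 1)).nonempty_pull (𝔛.ι m)).some ≪≫
             (DerivedCategory.homologyFunctor (𝔛.X m).Modules (-(n : ℤ))).mapIso (hbc m).some },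
    fun m => (hdeg m).isInvertible,
    ⟨r ≪≫ (DerivedCategory.homologyFunctor X.Modules (-(n : ℤ))).mapIso bc0⟩⟩

end Groth.Agent.S16189
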