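import Groth.Prelude.Def_Fitting
import Mathlib.RingTheory.Kaehler.Basic
import Mathlib.RingTheory.MvPolynomial.Basic
import Mathlib.RingTheory.Regular.RegularSequence
import Mathlib.RingTheory.AdicCompletion.Algebra
import Mathlib.RingTheory.PowerSeries.Basic
import Mathlib.RingTheory.Flat.Basic
import Mathlib.RingTheory.Noetherian.Defs
import Mathlib.Algebra.Category.ModuleCat.Ext.HasExt
import Mathlib.Algebra.Homology.DerivedCategory.Ext.Linear
import Mathlib.FieldTheory.IsAlgClosed.Basic
import Mathlib.RingTheory.Nilpotent.Defs
import Mathlib.LinearAlgebra.TensorProduct.Tower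
import Groth.Agent.FittLib.FormalFamily

set_option autoImplicit false
universe u
namespace CategoryTheory
end CategoryTheory
open CategoryTheory
namespace Fitt
end Fitt
open Fitt

namespace Groth.Agent.S16192
open TensorProduct

/-- Let k be an algebraically closed field, R = k[[t]], and B a quotient of the t-adic completion Ã of
R[T_1, …, T_r] by (a_1, …, a_c) with B Noetherian, t-adically complete and flat over R, the images
of a_1, …, a_c in Ã/t^{n+1}Ã a regular sequence for every n, and B/tB reduced. Put Ω̂ = the t-adic
completion of Ω_{B/R}, T^1 = Ext^1_B(Ω̂, B), B_n = B/t^{n+1}B and T^1_n = Ext^1_{B_n}(Ω_{B_n/R},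
B_n) (the first cotangent module of the n-th level over R/t^{n+1}). Then for every n the B_n-modules
T^1 ⊗_B B_n and T^1_n are isomorphic. (The source asserts that the natural restriction map from the
formal T^1 to the level T^1 sheaf is an isomorphism, for a flat local complete intersection morphism
of locally Noetherian formal schemes over Spf k[[t]] with reduced closed fibre; only the existence
of an isomorphism on the affine chart is stated, the natural map not being available as a named map
here. The published lemma allows an arbitrary field k; here k is algebraically closed, the standing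
convention of the text, because the computation rests on the exactness on the left of the conormal
sequence of the reduced closed fibre, which needs that fibre to be generically smooth over k and can
fail for a reduced complete intersection over an imperfect field.) -/
theorem result
    (k : Type u) [Field k] [IsAlgClosed k] (r c : ℕ)
    (a : Fin c → AdicCompletion (Ideal.span {MvPolynomial.C (σ := Fin r) (PowerSeries.X (R := k))}) (MvPolynomial (Fin r) (PowerSeries k)))
    (B : Type u) [CommRing B] [Algebra (PowerSeries k) B] [IsNoetherianRing B]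
    [IsAdicComplete (Ideal.span {algebraMap (PowerSeries k) B PowerSeries.X}) B]
    [Module.Flat (PowerSeries k) B]
    (ψ : AdicCompletion (Ideal.span {MvPolynomial.C (σ := Fin r) (PowerSeries.X (R := k))}) (MvPolynomial (Fin r) (PowerSeries k)) →ₐ[PowerSeries k] B)
    (hψ : Function.Surjective ψ) (hker : RingHom.ker ψ.toRingHom = Ideal.span (Set.range a))
    (hreg : ∀ n : ℕ, RingTheory.Sequence.IsRegular
      (AdicCompletion (Ideal.span {MvPolynomial.C (σ := Fin r) (PowerSeries.X (R := k))}) (MvPolynomial (Fin r) (PowerSeries k)) ⧸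
        Ideal.span {algebraMap (PowerSeries k) (AdicCompletion (Ideal.span {MvPolynomial.C (σ := Fin r) (PowerSeries.X (R := k))}) (MvPolynomial (Fin r) (PowerSeries k))) PowerSeries.X ^ (n + 1)})
      ((List.ofFn a).map (Ideal.Quotient.mk (Ideal.span {algebraMap (PowerSeries k)
        (AdicCompletion (Ideal.span {MvPolynomial.C (σ := Fin r) (PowerSeries.X (R := k))}) (MvPolynomial (Fin r) (PowerSeries k))) PowerSeries.X ^ (n + 1)}))))
    [IsReduced (B ⧸ Ideal.span {algebraMap (PowerSeries k) B PowerSeries.X})] (n : ℕ) :
    Nonempty (TensorProduct B (B ⧸ Ideal.span {algebraMap (PowerSeries k) B PowerSeries.X ^ (n + 1)})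
        (Abelian.Ext.{u} (ModuleCat.of B (AdicCompletion
          (Ideal.span {algebraMap (PowerSeries k) B PowerSeries.X}) (KaehlerDifferential (PowerSeries k) B)))
          (ModuleCat.of B B) 1) ≃ₗ[B ⧸ Ideal.span {algebraMap (PowerSeries k) B PowerSeries.X ^ (n + 1)}]
      Abelian.Ext.{u}
        (ModuleCat.of (B ⧸ Ideal.span {algebraMap (PowerSeries k) B PowerSeries.X ^ (n + 1)})
          (KaehlerDifferential (PowerSeries k) (B ⧸ Ideal.span {algebraMap (PowerSeries k) B PowerSeries.X ^ (n + 1)})))
        (ModuleCat.of (B ⧸ Ideal.span {algebraMap (PowerSeries k) B PowerSeries.X ^ (n + 1)})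
          (B ⧸ Ideal.span {algebraMap (PowerSeries k) B PowerSeries.X ^ (n + 1)})) 1) := by
  obtain ⟨J, hcr, hx, hrel, hinj, hlev⟩ := Groth.Agent.FittLib.exists_formalFamily_data a ψ hψ hker (hreg 0)
  obtain ⟨hreln, hinjn⟩ := hlev (n + 1)
  obtain ⟨y, hy, hrely⟩ := Groth.Agent.FittLib.exists_ext_one_generators _ hx J hrel hinj
  obtain ⟨y', hy', hrely'⟩ := Groth.Agent.FittLib.exists_ext_one_generators _
    (Groth.Agent.FittLib.span_dGen _ (Groth.Agent.FittLib.piLevel_surjective ψ hψ (n + 1))) _ hreln hinjn
  have hb := TensorProduct.isBaseChange B (Abelian.Ext.{u} (ModuleCat.of B (AdicCompletion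
    (Ideal.span {algebraMap (PowerSeries k) B PowerSeries.X}) (KaehlerDifferential (PowerSeries k) B)))
    (ModuleCat.of B B) 1) (B ⧸ Ideal.span {algebraMap (PowerSeries k) B PowerSeries.X ^ (n + 1)})
  refine Groth.Agent.FittLib.nonempty_equiv_of_rels_eq _ y'
    (Groth.Agent.FittLib.span_range_comp_isBaseChange hb y hy) hy' ?_
  rw [Groth.Agent.FittLib.rels_isBaseChange hb y hy, hrely, hrely']
  refine le_antisymm (Submodule.span_le.2 ?_) (Submodule.span_le.2 ?_)
  · rintro _ ⟨v, hv, rfl⟩
    obtain ⟨w, rfl⟩ := (Submodule.mem_span_range_iff_exists_fun B).1 hv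
    rw [SetLike.mem_coe, Submodule.mem_span_range_iff_exists_fun]
    refine ⟨fun i => Ideal.Quotient.mk _ (w i), funext fun b => ?_⟩
    simp [Groth.Agent.FittLib.cols, Finset.sum_apply, map_sum]
  · rintro _ ⟨i, rfl⟩
    exact Submodule.subset_span ⟨Groth.Agent.FittLib.cols J i, Submodule.subset_span ⟨i, rfl⟩, rfl⟩

end Groth.Agent.S16192
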