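import Groth.Statements.S16194
import Mathlib.Tactic
import Mathlib.Algebra.Module.StablyFree.Basic
import Mathlib.Algebra.Order.Ring.Star
import Mathlib.Data.Rat.Star
import Mathlib.RingTheory.Flat.TorsionFree
import Mathlib.RingTheory.Henselian
import Mathlib.RingTheory.PicardGroup
import Mathlib.RingTheory.RegularLocalRing.Defs
import Mathlib.RingTheory.SimpleRing.Principal


set_option autoImplicit false
universe u
open DivAlg

namespace Groth.Agent.S16194

/-- In an associative unital ring R, not necessarily commutative, every element r of the Jacobson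
radical (the set of elements lying in every maximal left ideal) is quasiregular, i.e. 1 - r is a
two-sided unit. -/
theorem result {R : Type u} [Ring R] (r : R)
    (hr : r ∈ Ring.jacobson R) : IsUnit (1 - r) := by
  have h : r ∈ Ideal.jacobson (⊥ : Ideal R) := by rwa [Ideal.jacobson_bot]
  have key : ∀ x ∈ Ideal.jacobson (⊥ : Ideal R), ∃ z, z * (1 - x) = 1 := by
    intro x hx
    obtain ⟨z, hz⟩ := Ideal.mem_jacobson_iff.1 hx (-1)
    rw [Ideal.mem_bot, sub_eq_zero] at hz
    exact ⟨z, by rw [mul_sub, mul_one]; conv_rhs => rw [← hz]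
                 rw [mul_neg_one, neg_mul]; abel⟩
  obtain ⟨z, hz⟩ := key r h
  obtain ⟨y, hy⟩ := key (-(z * r)) (Submodule.neg_mem _ ((Ideal.jacobson (⊥ : Ideal R)).mul_mem_left z h))
  have hz' : 1 - -(z * r) = z := by rw [mul_sub, mul_one, sub_eq_iff_eq_add] at hz; rw [sub_neg_eq_add, ← hz]
  rw [hz'] at hy
  have : (1 - r) = y := by
    calc 1 - r = y * z * (1 - r) := by rw [hy, one_mul]
      _ = y := by rw [mul_assoc, hz, mul_one]
  exact ⟨⟨1 - r, z, by rw [this]; exact hy, hz⟩, rfl⟩

end Groth.Agent.S16194
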