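import Groth.Statements.S16195
import Mathlib

set_option linter.all false

set_option autoImplicit false
universe u v w
open DivAlg

open TensorProduct Matrix

namespace Groth.Agent.S16195

/-- Let R be a ring (associative, unital, not necessarily commutative) and M, N left R-modules. For an
R-module P write BiEnd_R(P) for the ring of endomorphisms of P that are linear over the ring
End_R(P), which acts on P through evaluation. Then every T in BiEnd_R(M × N) preserves the two
summands and is induced by a pair (T₁, T₂) with T₁ in BiEnd_R(M) and T₂ in BiEnd_R(N). -/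
theorem result {R : Type u} [Ring R] (M : Type v) (N : Type w)
    [AddCommGroup M] [Module R M] [AddCommGroup N] [Module R N]
    (T : Module.End (Module.End R (M × N)) (M × N)) :
    ∃ (T₁ : Module.End (Module.End R M) M) (T₂ : Module.End (Module.End R N) N),
      ∀ (m : M) (n : N), T (m, n) = (T₁ m, T₂ n) := by
  have hT : ∀ (f : Module.End R (M × N)) x, T (f x) = f (T x) := fun f x => T.map_smul f x
  have h1 : ∀ m : M, T (m, 0) = ((T (m, 0)).1, 0) := fun m => by
    simpa using hT (LinearMap.prodMap LinearMap.id 0) (m, 0)
  have h2 : ∀ n : N, T (0, n) = (0, (T (0, n)).2) := fun n => by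
    simpa using hT (LinearMap.prodMap 0 LinearMap.id) (0, n)
  refine ⟨{ toFun := fun m => (T (m, 0)).1, map_add' := fun a b => ?_, map_smul' := fun f a => ?_ },
    { toFun := fun n => (T (0, n)).2, map_add' := fun a b => ?_, map_smul' := fun f a => ?_ }, fun m n => ?_⟩
  · rw [← Prod.fst_add, ← map_add]; simp
  · have := congrArg Prod.fst (hT (LinearMap.prodMap f LinearMap.id) (a, 0))
    simpa using this
  · rw [← Prod.snd_add, ← map_add]; simp
  · have := congrArg Prod.snd (hT (LinearMap.prodMap LinearMap.id f) (0, a))
    simpa using this
  · show T (m, n) = ((T (m, 0)).1, (T (0, n)).2)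
    conv_lhs => rw [show (m, n) = (m, (0 : N)) + ((0 : M), n) by simp, map_add, h1, h2]
    simp

end Groth.Agent.S16195
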