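import Groth.Statements.S16197
import Mathlib

set_option linter.all false

set_option autoImplicit false
universe u v w
open DivAlg

open TensorProduct Matrix

namespace Groth.Agent.S16197

/-- Let R be a ring (associative, unital, not necessarily commutative) and M a left R-module which is a
generator, used here only through the existence of an R-linear surjection from a direct sum of
copies of M, indexed by an arbitrary type, onto R. Then some finite power M^n decomposes as R × Q
for a submodule Q of M^n. (The published statement is an equivalence; this row states only the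
implication from the existence of such a surjection to the splitting.) -/
theorem result {R : Type u} [Ring R] (M : Type v)
    [AddCommGroup M] [Module R M]
    (hgen : ∃ (ι : Type w) (f : (ι →₀ M) →ₗ[R] R), Function.Surjective f) :
    ∃ (n : ℕ) (Q : Submodule R (Fin n → M)), Nonempty ((Fin n → M) ≃ₗ[R] (R × Q)) := by
  classical
  obtain ⟨ι, f, hf⟩ := hgen
  obtain ⟨v, hv⟩ := hf 1
  let e := v.support.equivFin.symm
  let g : (Fin v.support.card → M) →ₗ[R] R :=
    f ∘ₗ ∑ i, (Finsupp.lsingle (e i : ι)) ∘ₗ LinearMap.proj i
  have hg : g (fun i => v (e i)) = 1 := by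
    simp only [g, LinearMap.comp_apply, LinearMap.coe_sum, Finset.sum_apply, LinearMap.proj_apply, Finsupp.lsingle_apply]
    rw [Equiv.sum_comp e (fun x => Finsupp.single (x : ι) (v x)), Finset.sum_coe_sort v.support (fun x => Finsupp.single x (v x))]
    exact (congrArg f (Finsupp.sum_single v)).trans hv
  let s : R →ₗ[R] (Fin v.support.card → M) := LinearMap.toSpanSingleton R _ (fun i => v (e i))
  have hs : g ∘ₗ s = LinearMap.id := by
    exact LinearMap.ext_ring (by simp [s, hg])
  have hmem : ∀ x, ((LinearMap.id - s ∘ₗ g : (Fin v.support.card → M) →ₗ[R] (Fin v.support.card → M)) x) ∈ LinearMap.ker g := fun x => by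
    have := LinearMap.congr_fun hs (g x)
    simp only [LinearMap.comp_apply, LinearMap.id_apply] at this
    simp [LinearMap.mem_ker, this]
  refine ⟨_, LinearMap.ker g, ⟨LinearEquiv.ofLinearMap
    (LinearMap.prod g ((LinearMap.id - s ∘ₗ g).codRestrict (LinearMap.ker g) hmem))
    (LinearMap.coprod s (LinearMap.ker g).subtype) ?_ ?_⟩⟩
  · refine LinearMap.ext fun ⟨r, q⟩ => ?_
    have h1 := LinearMap.congr_fun hs r
    simp only [LinearMap.comp_apply, LinearMap.id_apply] at h1
    have h2 : g (q : Fin v.support.card → M) = 0 := q.2
    refine Prod.ext ?_ (Subtype.ext ?_) <;> simp [h1, h2]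
  · ext x; simp

end Groth.Agent.S16197
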