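import Groth.Statements.S16198
import Mathlib
import Groth.Prelude

set_option linter.all false

set_option autoImplicit false
universe u v
open DivAlg

open scoped TensorProduct

namespace Groth.Agent.S16198

theorem pic_pow_equiv {R : Type u} [CommRing R] (N : Type v) [AddCommGroup N] [Module R N] [Module.Invertible R N] :
    ∀ n : ℕ, Nonempty ((CommRing.Pic.mk R N ^ n : CommRing.Pic R) ≃ₗ[R] (⨂[R] _ : Fin n, N))
  | 0 => by
    rw [pow_zero]
    obtain ⟨g⟩ := (CommRing.Pic.mk_eq_iff (R := R) (M := R) (N := 1)).1 CommRing.Pic.mk_self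
    exact ⟨g.symm ≪≫ₗ (PiTensorProduct.isEmptyEquiv (Fin 0)).symm⟩
  | n + 1 => by
    obtain ⟨g⟩ := pic_pow_equiv (R := R) N n
    have h : CommRing.Pic.mk R ((CommRing.Pic.mk R N ^ n : CommRing.Pic R) ⊗[R] N) = CommRing.Pic.mk R N ^ (n + 1) := by
      rw [CommRing.Pic.mk_tensor, CommRing.Pic.mk_eq_self, pow_succ]
    obtain ⟨k⟩ := CommRing.Pic.mk_eq_iff.1 h
    exact ⟨k.symm ≪≫ₗ TensorProduct.congr g (PiTensorProduct.subsingletonEquiv (s := fun _ : Fin 1 => N) 0).symm ≪≫ₗ
      PiTensorProduct.tmulEquiv R N ≪≫ₗ PiTensorProduct.reindex R (fun _ => N) finSumFinEquiv⟩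

theorem det_rows_eq_zero {R : Type u} [CommRing R] {N : Type v} [AddCommGroup N] [Module R N] [Module.Invertible R N]
    {n : ℕ} (L : N →ₗ[R] (Fin n → R)) (v : Fin n → Fin n → R) {j l : Fin n} (hjl : j ≠ l) (a b : N)
    (hj : v j = L a) (hl : v l = L b) : Matrix.det (Matrix.of v) = 0 := by
  classical
  set D := (Matrix.detRowAlternating : (Fin n → R) [⋀^Fin n]→ₗ[R] R)
  show D v = 0
  have comm : ∀ (f : Module.Dual R N) (p c : N), f c • p = f p • c := fun f p c => by
    simpa using congrArg (TensorProduct.lift ((LinearMap.lsmul R N) ∘ₗ f)) (Module.Invertible.tmul_comm (R := R) (m₁ := c) (m₂ := p))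
  let K : Ideal R := LinearMap.ker (LinearMap.toSpanSingleton R R (D v))
  have hsq : ∀ (f : Module.Dual R N) (c : N), f c ∈ K.radical := fun f c => ⟨2, by
    show (f c) ^ 2 • D v = 0
    have h1 : D (Function.update (Function.update v j (f c • v j)) l (f c • v l)) = (f c) ^ 2 • D v := by
      rw [D.map_update_smul, Function.update_comm hjl, D.map_update_smul, Function.update_eq_self,
        Function.update_eq_self, smul_smul, sq]
    rw [← h1, hj, hl, ← map_smul, ← map_smul, comm f a c, comm f b c, map_smul, map_smul,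
      D.map_update_smul, Function.update_comm hjl, D.map_update_smul,
      D.map_eq_zero_of_eq _ (i := j) (j := l) (by simp [hjl, hjl.symm]) hjl, smul_zero, smul_zero]⟩
  have hone : (1 : R) ∈ K.radical := by
    obtain ⟨x, hx⟩ := (Module.Invertible.bijective (R := R) (M := N)).2 1
    rw [← hx]
    clear hx
    induction x using TensorProduct.induction_on with
    | zero => simp
    | tmul f c => rw [contractLeft_apply]; exact hsq f c
    | add p q hp hq => rw [map_add]; exact K.radical.add_mem hp hq
  obtain ⟨k, hk⟩ := hone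
  simpa [K] using hk

/-- In the case of a commutative ring R, let N be an invertible R-module such that the direct sum N^n is
isomorphic to R^n for some natural number n. Then the class of N in Pic(R) satisfies [N]^n = 1. (The
published statement is for invertible modules on an arbitrary ringed site; this row states the case
of a commutative ring.) -/
theorem result {R : Type u} [CommRing R] (N : Type v)
    [AddCommGroup N] [Module R N] [Module.Invertible R N] (n : ℕ)
    (e : (Fin n → N) ≃ₗ[R] (Fin n → R)) :
    CommRing.Pic.mk R N ^ n = 1 := by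
  classical
  obtain ⟨g⟩ := pic_pow_equiv (R := R) N n
  haveI : Module.Invertible R (⨂[R] _ : Fin n, N) := .congr g
  set D := (Matrix.detRowAlternating : (Fin n → R) [⋀^Fin n]→ₗ[R] R)
  set L : Fin n → N →ₗ[R] (Fin n → R) := fun i => e.toLinearMap ∘ₗ LinearMap.single R (fun _ : Fin n => N) i
  let ψ : (⨂[R] _ : Fin n, N) →ₗ[R] R := PiTensorProduct.lift (D.toMultilinearMap.compLinearMap L)
  have hsurj : Function.Surjective ψ := by
    suffices h : (1 : R) ∈ LinearMap.range ψ by
      rw [← LinearMap.range_eq_top]
      exact (Ideal.eq_top_iff_one _).2 h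
    have h1 : D (fun j => ∑ i, L i (e.symm (Pi.single j 1) i)) = 1 := by
      have : (fun j => ∑ i, L i (e.symm (Pi.single j 1) i)) = (1 : Matrix (Fin n) (Fin n) R) := by
        funext j
        simp only [L, LinearMap.comp_apply, LinearEquiv.coe_coe, LinearMap.coe_single, ← map_sum, Finset.univ_sum_single, LinearEquiv.apply_symm_apply]
        funext i
        rw [Matrix.one_apply, Pi.single_apply]
        simp [eq_comm]
      rw [this]
      exact Matrix.det_one
    rw [← h1]
    erw [D.toMultilinearMap.map_sum]
    refine Submodule.sum_mem _ fun r _ => ?_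
    by_cases hr : Function.Injective r
    · let σ : Equiv.Perm (Fin n) := Equiv.ofBijective r (Finite.injective_iff_bijective.1 hr)
      refine ⟨Equiv.Perm.sign σ • PiTensorProduct.tprod R (fun i => e.symm (Pi.single (σ.symm i) 1) i), ?_⟩
      have hv : (fun j => L (r j) (e.symm (Pi.single j 1) (r j))) = (fun i => L i (e.symm (Pi.single (σ.symm i) 1) i)) ∘ σ := by
        funext j; simp [σ]
      show ψ _ = D _
      rw [hv, D.map_perm, Units.smul_def, map_zsmul, Units.smul_def]
      simp [ψ]
    · obtain ⟨j, l, hjl, hne⟩ := Function.not_injective_iff.1 hr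
      have : D (fun j => L (r j) (e.symm (Pi.single j 1) (r j))) = 0 :=
        det_rows_eq_zero (L (r j)) _ hne (e.symm (Pi.single j 1) (r j)) (e.symm (Pi.single l 1) (r j)) rfl (by show L (r l) _ = L (r j) _; rw [hjl])
      show D _ ∈ _
      rw [this]; exact Submodule.zero_mem _
  have hb := Module.Invertible.bijective_of_surjective hsurj
  rw [← CommRing.Pic.mk_eq_self (M := CommRing.Pic.mk R N ^ n), CommRing.Pic.mk_eq_one_iff]
  exact ⟨g ≪≫ₗ LinearEquiv.ofBijective ψ hb⟩

end Groth.Agent.S16198
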