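import Groth.Statements.S16199
import Mathlib
import Groth.Prelude

set_option linter.all false

set_option autoImplicit false
universe u
open DivAlg

open scoped TensorProduct

namespace Groth.Agent.S16199

variable {R : Type u} [CommRing R]

theorem invertible_of_end_scalar {P : Type u} [AddCommGroup P] [Module R P] [Module.Finite R P] [Module.Projective R P]
    (h : Function.Bijective (fun r : R => r • (LinearMap.id : P →ₗ[R] P))) : Module.Invertible R P := by
  obtain ⟨n, π, hπ⟩ := Module.Finite.exists_fin' R P
  obtain ⟨σ, hσ⟩ := Module.projective_lifting_property π LinearMap.id hπ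
  let β : Fin n → Module.Dual R P := fun i => LinearMap.proj i ∘ₗ σ
  let b : Fin n → P := fun i => π (Pi.single i 1)
  have hdual : ∀ z : P, ∑ i, β i z • b i = z := fun z => by
    conv_rhs => rw [show z = π (σ z) from (LinearMap.congr_fun hσ z).symm, pi_eq_sum_univ' (σ z), map_sum]
    exact Finset.sum_congr rfl fun i _ => by rw [map_smul]; rfl
  let κ : P ⊗[R] Module.Dual R P →ₗ[R] (P →ₗ[R] P) := dualTensorHom R P P ∘ₗ (TensorProduct.comm R P (Module.Dual R P)).toLinearMap
  let inv : (P →ₗ[R] P) → P ⊗[R] Module.Dual R P := fun T => ∑ i, T (b i) ⊗ₜ[R] β i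
  have hκ : ∀ g y z, κ (y ⊗ₜ[R] g) z = g z • y := fun g y z => by simp [κ]
  have h1 : Function.LeftInverse inv κ := by
    intro t
    induction t using TensorProduct.induction_on with
    | zero => simp [inv]
    | add a b ha hb =>
      conv_rhs => rw [← ha, ← hb]
      simp [inv, map_add, TensorProduct.add_tmul, Finset.sum_add_distrib]
    | tmul y g =>
      simp only [inv, hκ, ← TensorProduct.tmul_smul, TensorProduct.smul_tmul, ← TensorProduct.tmul_sum]
      congr 1
      refine LinearMap.ext fun z => ?_
      conv_rhs => rw [← hdual z, map_sum]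
      simp [mul_comm]
  have h2 : Function.RightInverse inv κ := fun T => LinearMap.ext fun z => by
    simp only [inv, map_sum, LinearMap.sum_apply, hκ]
    conv_rhs => rw [← hdual z, map_sum]
    simp [map_smul]
  let e₁ : P ⊗[R] Module.Dual R P ≃ₗ[R] (P →ₗ[R] P) := LinearEquiv.ofBijective κ ⟨h1.injective, h2.surjective⟩
  let e₂ : R ≃ₗ[R] (P →ₗ[R] P) := LinearEquiv.ofBijective
    { toFun := fun r => r • LinearMap.id, map_add' := fun a b => add_smul a b _, map_smul' := fun a b => mul_smul a b _ } h
  exact Module.Invertible.left (e₁.trans e₂.symm)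

/-- Let R be a commutative ring and n ≥ 1. The natural map from GL_n(R) to the R-algebra automorphisms
of M_n(R) is surjective (every automorphism is inner) if and only if Pic_(n)(R) = 0, i.e. every
invertible R-module N with N^n ≅ R^n is free. (For n = 0 the left side holds trivially while the
right side fails whenever Pic(R) ≠ 0, so this row assumes n ≥ 1, which the published statement
leaves implicit; invertible modules are quantified in the universe of R, which loses nothing since
every invertible module is finitely generated.) -/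
theorem result {R : Type u} [CommRing R] (n : ℕ)
    (hn : 1 ≤ n) :
    (∀ φ : Matrix (Fin n) (Fin n) R ≃ₐ[R] Matrix (Fin n) (Fin n) R,
        ∃ P : GL (Fin n) R, ∀ A : Matrix (Fin n) (Fin n) R, φ A = P.1 * A * (P⁻¹).1) ↔
      (∀ (N : Type u) [AddCommGroup N] [Module R N] [Module.Invertible R N],
        Nonempty ((Fin n → N) ≃ₗ[R] (Fin n → R)) → Module.Free R N) := by
  classical
  have i0 : Fin n := ⟨0, hn⟩
  constructor
  · intro hinner N _ _ _ hN
    obtain ⟨e⟩ := hN
    let ρ : Matrix (Fin n) (Fin n) R →ₐ[R] Module.End R (Fin n → N) :=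
      AlgHom.ofLinearMap
        { toFun := fun A => LinearMap.pi fun i => ∑ j, A i j • LinearMap.proj j
          map_add' := fun A B => LinearMap.ext fun v => funext fun i => by simp [add_smul, Finset.sum_add_distrib]
          map_smul' := fun c A => LinearMap.ext fun v => funext fun i => by simp [mul_smul, Finset.smul_sum] }
        (LinearMap.ext fun v => funext fun i => by simp [Matrix.one_apply])
        (fun A B => LinearMap.ext fun v => funext fun i => by
          simp [Matrix.mul_apply, Finset.smul_sum, Finset.sum_smul, smul_smul]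
          exact Finset.sum_comm)
    have hρ : ∀ A v i, ρ A v i = ∑ j, A i j • v j := fun A v i => by simp [ρ]
    have hinj : Function.Injective ρ := by
      rw [injective_iff_map_eq_zero]
      intro A hA
      refine Matrix.ext fun i j => eq_of_smul_eq_smul (α := N) fun x => ?_
      have := congrFun (LinearMap.congr_fun hA (Pi.single j x)) i
      rw [hρ] at this
      simpa [Pi.single_apply, smul_ite] using this
    have hsurj : Function.Surjective ρ := by
      intro T
      choose a ha using fun i j => (Module.Invertible.toModuleEnd_bijective R N).2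
        (LinearMap.proj i ∘ₗ T ∘ₗ LinearMap.single R (fun _ => N) j)
      refine ⟨Matrix.of a, LinearMap.ext fun v => funext fun i => ?_⟩
      rw [hρ]
      conv_rhs => rw [← Finset.univ_sum_single v, map_sum, Finset.sum_apply]
      refine Finset.sum_congr rfl fun j _ => ?_
      exact LinearMap.congr_fun (ha i j) (v j)
    let φ : Matrix (Fin n) (Fin n) R ≃ₐ[R] Matrix (Fin n) (Fin n) R :=
      ((AlgEquiv.ofBijective ρ ⟨hinj, hsurj⟩).trans (LinearEquiv.conjAlgEquiv R e)).trans LinearMap.toMatrixAlgEquiv'
    obtain ⟨P, hP⟩ := hinner φ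
    let g : (Fin n → R) → (Fin n → N) := fun v => e.symm (P.1.mulVec v)
    have hg : ∀ A v, ρ A (g v) = g (A.mulVec v) := by
      intro A v
      apply e.injective
      show e (ρ A (e.symm (P.1.mulVec v))) = e (e.symm _)
      rw [e.apply_symm_apply, Matrix.mulVec_mulVec]
      have h1 : P.1 * A = φ A * P.1 := by
        rw [hP, mul_assoc _ _ P.1, Units.inv_mul, mul_one]
      rw [h1, ← Matrix.mulVec_mulVec]
      show _ = (LinearMap.toMatrix' (LinearEquiv.conjAlgEquiv R e (ρ A))).mulVec _
      rw [LinearMap.toMatrix'_mulVec]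
      rfl
    have hgb : Function.Bijective g := e.symm.bijective.comp
      (Function.bijective_iff_has_inverse.2 ⟨fun v => (P⁻¹).1.mulVec v,
        fun v => by simp [Matrix.mulVec_mulVec], fun v => by simp [Matrix.mulVec_mulVec]⟩)
    let f : R →ₗ[R] N := LinearMap.proj i0 ∘ₗ (e.symm.toLinearMap ∘ₗ P.1.mulVecLin) ∘ₗ LinearMap.single R (fun _ => R) i0
    have hsingle : ∀ (v : Fin n → N), ρ (Matrix.single i0 i0 1) v = Pi.single i0 (v i0) := fun v => funext fun i => by
      rw [hρ]; rcases eq_or_ne i i0 with rfl | hi
      · simp [Matrix.single_apply, ite_smul]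
      · simp [Matrix.single_apply, hi, Ne.symm hi]
    have hgs : ∀ r, g (Pi.single i0 r) = Pi.single i0 (f r) := fun r => by
      have := hg (Matrix.single i0 i0 1) (Pi.single i0 r)
      rw [hsingle, Matrix.single_mulVec, Pi.single_eq_same, one_mul] at this
      exact this.symm.trans rfl
    have hfb : Function.Bijective f := by
      refine ⟨fun a b hab => Pi.single_injective i0 (hgb.1 (by rw [hgs, hgs, hab])), fun y => ?_⟩
      obtain ⟨z, hz⟩ := hgb.2 (Pi.single i0 y)
      refine ⟨z i0, ?_⟩
      have hz2 : z = Pi.single i0 (z i0) := hgb.1 (by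
        have := hg (Matrix.single i0 i0 1) z
        rw [hz, hsingle, Pi.single_eq_same, Matrix.single_mulVec, one_mul] at this
        rw [hz]; exact this)
      rw [hz2, hgs] at hz
      exact Pi.single_injective i0 hz
    exact Module.Free.of_equiv (LinearEquiv.ofBijective f hfb)
  · intro hPic φ
    set E : Fin n → Fin n → Matrix (Fin n) (Fin n) R := fun i j => Matrix.single i j 1
    have hE : ∀ i j l, φ (E i j) * φ (E j l) = φ (E i l) := fun i j l => by
      rw [← map_mul]; simp [E]
    have hE0 : ∀ i j k l, j ≠ k → φ (E i j) * φ (E k l) = 0 := fun i j k l h => by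
      rw [← map_mul]; simp [E, Matrix.single_mul_single_of_ne _ _ _ _ h]
    have hone : ∑ i, φ (E i i) = 1 := by
      rw [← map_sum, Matrix.sum_single_one, map_one]
    let ε := φ (E i0 i0)
    let P : Submodule R (Fin n → R) := LinearMap.range ε.mulVecLin
    let π : (Fin n → R) →ₗ[R] P := ε.mulVecLin.rangeRestrict
    have hPmem : ∀ p : P, ε.mulVec (p : Fin n → R) = p := fun p => by
      obtain ⟨v, hv⟩ := p.2
      rw [← hv, Matrix.mulVecLin_apply, Matrix.mulVec_mulVec, hE]
    have hπp : ∀ p : P, π (p : Fin n → R) = p := fun p => Subtype.ext (hPmem p)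
    haveI : Module.Finite R P := Module.Finite.range _
    haveI : Module.Projective R P := Module.Projective.of_split P.subtype π (LinearMap.ext hπp)
    let toP : (Fin n → R) →ₗ[R] (Fin n → P) := LinearMap.pi fun i => π ∘ₗ (φ (E i0 i)).mulVecLin
    let fromP : (Fin n → P) →ₗ[R] (Fin n → R) := ∑ i, (φ (E i i0)).mulVecLin ∘ₗ P.subtype ∘ₗ LinearMap.proj i
    have hfrom : ∀ w, fromP w = ∑ i, (φ (E i i0)).mulVec (w i : Fin n → R) := fun w => by simp [fromP]
    have hto : ∀ v i, (toP v i : Fin n → R) = (φ (E i0 i)).mulVec v := fun v i => by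
      show ε.mulVec ((φ (E i0 i)).mulVec v) = _
      rw [Matrix.mulVec_mulVec, hE]
    have h12 : ∀ v, fromP (toP v) = v := fun v => by
      rw [hfrom]
      simp only [hto, Matrix.mulVec_mulVec, hE, ← Matrix.sum_mulVec, hone, Matrix.one_mulVec]
    have h21 : ∀ w, toP (fromP w) = w := fun w => funext fun i => Subtype.ext (by
      rw [hto, hfrom, Matrix.mulVec_sum, Finset.sum_eq_single i (fun j _ hj => by
        rw [Matrix.mulVec_mulVec, hE0 _ _ _ _ (Ne.symm hj), Matrix.zero_mulVec]) (fun h => absurd (Finset.mem_univ i) h),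
        Matrix.mulVec_mulVec, hE]
      exact hPmem _)
    let eP : (Fin n → P) ≃ₗ[R] (Fin n → R) :=
      LinearEquiv.ofLinear fromP toP (LinearMap.ext h12) (LinearMap.ext h21)
    haveI : Module.Invertible R P := by
      refine invertible_of_end_scalar ⟨fun a b hab => ?_, fun h => ?_⟩
      · have h1 : ∀ p : P, a • p = b • p := fun p => LinearMap.congr_fun hab p
        have h2 : ∀ v : Fin n → R, a • v = b • v := fun v => eP.symm.injective (by
          rw [map_smul, map_smul]; exact funext fun i => h1 _)
        simpa using congrFun (h2 (Pi.single i0 1)) i0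
      · let T := LinearMap.toMatrix' (P.subtype ∘ₗ h ∘ₗ π)
        have hT : ∀ v, T.mulVec v = (h (π v) : Fin n → R) := fun v => by
          rw [← Matrix.toLin'_apply, Matrix.toLin'_toMatrix']; rfl
        have hεT : ε * T * ε = T := by
          refine Matrix.toLin'.injective (LinearMap.ext fun v => ?_)
          simp only [Matrix.toLin'_apply, ← Matrix.mulVec_mulVec, hT]
          rw [hPmem, show π (ε.mulVec v) = π v from Subtype.ext (hPmem (π v))]
        refine ⟨φ.symm T i0 i0, LinearMap.ext fun p => Subtype.ext ?_⟩
        have hs : φ.symm T = φ.symm T i0 i0 • E i0 i0 := by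
          conv_lhs => rw [← hεT, map_mul, map_mul, show φ.symm ε = E i0 i0 from φ.symm_apply_apply _]
          show Matrix.single i0 i0 1 * φ.symm T * Matrix.single i0 i0 1 = φ.symm T i0 i0 • Matrix.single i0 i0 1
          rw [Matrix.single_mul_mul_single, Matrix.smul_single, one_mul, mul_one, smul_eq_mul, mul_one]
        have hT2 : T = φ.symm T i0 i0 • ε := by
          conv_lhs => rw [← φ.apply_symm_apply T, hs, map_smul]
        show φ.symm T i0 i0 • (p : Fin n → R) = (h p : Fin n → R)
        conv_rhs => rw [← hπp p, ← hT, hT2, Matrix.smul_mulVec, hPmem]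
    haveI := hPic P ⟨eP⟩
    obtain ⟨d⟩ := Module.Invertible.free_iff_linearEquiv.1 (inferInstance : Module.Free R P)
    let eU : (Fin n → R) ≃ₗ[R] (Fin n → R) := (LinearEquiv.piCongrRight fun _ => d.symm).trans eP
    let U := LinearMap.toMatrix' eU.toLinearMap
    have hU : IsUnit U := by
      refine ⟨⟨U, LinearMap.toMatrix' eU.symm.toLinearMap, ?_, ?_⟩, rfl⟩ <;>
        · rw [← LinearMap.toMatrix'_comp]; simp [LinearMap.toMatrix'_id]
    obtain ⟨Uu, hUu⟩ := hU
    refine ⟨Uu, fun A => ?_⟩
    have hUv : ∀ c, U.mulVec c = ∑ j, c j • (φ (E j i0)).mulVec (d.symm 1 : Fin n → R) := fun c => by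
      rw [← Matrix.toLin'_apply, Matrix.toLin'_toMatrix']
      show fromP (fun i => d.symm (c i)) = _
      rw [hfrom]
      refine Finset.sum_congr rfl fun j _ => ?_
      rw [show d.symm (c j) = c j • d.symm 1 by rw [← map_smul, smul_eq_mul, mul_one], Submodule.coe_smul, Matrix.mulVec_smul]
    have hkey : φ A * U = U * A := by
      refine Matrix.toLin'.injective (LinearMap.ext fun c => ?_)
      simp only [Matrix.toLin'_apply, ← Matrix.mulVec_mulVec, hUv, Matrix.mulVec_sum, Matrix.mulVec_smul]
      simp only [Matrix.mulVec_mulVec, ← map_mul]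
      have hAE : ∀ j, A * E j i0 = ∑ i, A i j • E i i0 := fun j => by
        refine Matrix.ext fun r l => ?_
        simp only [E, Matrix.sum_apply, Matrix.smul_apply, Matrix.single_apply, Matrix.mul_apply, smul_eq_mul]
        by_cases hl : i0 = l <;> simp [hl, Finset.sum_ite_eq]
      simp only [hAE, map_sum, map_smul, Matrix.sum_mulVec, Matrix.smul_mulVec, Finset.smul_sum, smul_smul]
      rw [Finset.sum_comm]
      refine Finset.sum_congr rfl fun i _ => ?_
      rw [← Finset.sum_smul]
      congr 1
      simp [Matrix.mulVec, dotProduct, mul_comm]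
    rw [← hUu] at hkey
    calc φ A = φ A * Uu.1 * (Uu⁻¹).1 := by rw [mul_assoc, Units.mul_inv, mul_one]
      _ = Uu.1 * A * (Uu⁻¹).1 := by rw [hkey]

end Groth.Agent.S16199
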