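import Groth.Statements.S16200
import Mathlib.RingTheory.PicardGroup
import Mathlib.RingTheory.DedekindDomain.Basic
import Mathlib.RingTheory.Artinian.Ring
import Mathlib.RingTheory.HopkinsLevitzki

set_option autoImplicit false
universe u v
open DivAlg

namespace Groth.Agent.S16200

open TensorProduct

universe w

/-- linear forms on invertible modules commute -/
theorem swap {R : Type u} [CommRing R] {M : Type w} [AddCommGroup M] [Module R M] [Module.Invertible R M]
    (f : M →ₗ[R] R) (a b : M) : f a • b = f b • a := by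
  have h := congrArg (fun z => TensorProduct.lid R M (LinearMap.rTensor M f z))
    (Module.Invertible.tmul_comm (R := R) (M := M) (m₁ := a) (m₂ := b))
  simpa using h

/-- Steinitz: direct sum of two invertible modules over a Dedekind domain -/
theorem steinitz {R : Type u} [CommRing R] [IsDedekindDomain R] (N : Type v) [AddCommGroup N] [Module R N]
    [Module.Invertible R N] (M : Type w) [AddCommGroup M] [Module R M] [Module.Invertible R M] :
    Nonempty ((N × M) ≃ₗ[R] (R × (N ⊗[R] M))) := by
  classical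
  obtain ⟨ψ, hψ⟩ : ∃ ψ : M →ₗ[R] R, ψ ≠ 0 := by
    by_contra hc
    simp only [not_exists, not_not] at hc
    obtain ⟨w, hw⟩ := (Module.Invertible.bijective (R := R) (M := M)).2 1
    have h0 : ∀ z : Module.Dual R M ⊗[R] M, contractLeft R M z = 0 := by
      intro z
      induction z using TensorProduct.induction_on with
      | zero => simp
      | add p q hp hq => rw [map_add, hp, hq, add_zero]
      | tmul p q => rw [contractLeft_apply, hc p, LinearMap.zero_apply]
    exact one_ne_zero (hw.symm.trans (h0 w))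
  let J := LinearMap.range ψ
  have hJ : J ≠ ⊥ := fun h => hψ (LinearMap.range_eq_bot.mp h)
  haveI : Ring.KrullDimLE 0 (R ⧸ J) := by
    refine Ring.krullDimLE_zero_iff.mpr fun P hP => ?_
    have hP' : (P.comap (Ideal.Quotient.mk J)).IsMaximal := by
      refine (hP.comap _).isMaximal fun h => hJ (le_bot_iff.mp (h ▸ ?_))
      intro x hx
      rw [Ideal.mem_comap, Ideal.Quotient.eq_zero_iff_mem.mpr hx]
      exact zero_mem _
    haveI := hP'
    rw [← Ideal.map_comap_of_surjective _ Ideal.Quotient.mk_surjective P]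
    exact (Ideal.map_eq_top_or_isMaximal_of_surjective _ Ideal.Quotient.mk_surjective hP').resolve_left
      fun h => hP.ne_top (by rwa [Ideal.map_comap_of_surjective _ Ideal.Quotient.mk_surjective] at h)
  haveI : IsNoetherianRing (R ⧸ J) := isNoetherianRing_of_surjective R _ (Ideal.Quotient.mk J) Ideal.Quotient.mk_surjective
  haveI : IsArtinianRing (R ⧸ J) := IsNoetherianRing.isArtinianRing_of_krullDimLE_zero
  have hfree : Module.Free (R ⧸ J) ((R ⧸ J) ⊗[R] N) :=
    CommRing.Pic.mk_eq_one_iff_free.mp (Subsingleton.elim _ _)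
  obtain ⟨e⟩ := Module.Invertible.free_iff_linearEquiv.mp hfree
  let g : N →ₗ[R] R ⧸ J := (e.toLinearMap.restrictScalars R).comp (TensorProduct.mk R (R ⧸ J) N 1)
  have hg : Function.Surjective g :=
    e.surjective.comp (TensorProduct.mk_surjective R N (R ⧸ J) Ideal.Quotient.mk_surjective)
  obtain ⟨φ, hφ⟩ := Module.projective_lifting_property (Submodule.mkQ J) g (Submodule.mkQ_surjective J)
  obtain ⟨n₀, hn₀⟩ := hg 1
  obtain ⟨m₀, hm₀⟩ : (1 : R) - φ n₀ ∈ J := by
    rw [← Submodule.Quotient.mk_eq_zero, Submodule.Quotient.mk_sub, sub_eq_zero]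
    rw [← Submodule.mkQ_apply (x := φ n₀), ← LinearMap.comp_apply, hφ, hn₀]
    rfl
  have hone : φ n₀ + ψ m₀ = 1 := by rw [hm₀]; ring
  let θ : N ⊗[R] M →ₗ[R] N × M := TensorProduct.lift (LinearMap.mk₂ R (fun n m => (ψ m • n, -(φ n • m)))
    (fun a b m => by simp [smul_add, add_smul]; abel)
    (fun c a m => by simp [smul_smul, mul_comm])
    (fun n a b => by simp [smul_add, add_smul]; abel)
    (fun c n m => by simp [smul_smul, mul_comm]))
  let back : N × M →ₗ[R] R × (N ⊗[R] M) :=
    (φ.coprod ψ).prod (((TensorProduct.mk R N M).flip m₀).coprod (-(TensorProduct.mk R N M n₀)))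
  let forth : R × (N ⊗[R] M) →ₗ[R] N × M := (LinearMap.toSpanSingleton R (N × M) (n₀, m₀)).coprod θ
  refine ⟨LinearEquiv.ofLinear back forth ?_ ?_⟩
  · ext
    · simp [back, forth, hone]
    · simp [back, forth]
    · simp [back, forth, θ, mul_comm]
    · simp only [back, forth, θ, AlgebraTensorModule.curry_apply, curry_apply, LinearMap.coe_comp, Function.comp_apply,
        LinearMap.inr_apply, LinearMap.coe_restrictScalars, LinearMap.prod_apply, LinearMap.coprod_apply, map_zero,
        zero_add, TensorProduct.lift.tmul, LinearMap.mk₂_apply, Function.prod_apply, LinearMap.flip_apply, TensorProduct.mk_apply,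
        LinearMap.neg_apply, LinearMap.id_apply]
      rename_i n m
      have h1 : (ψ m • n) ⊗ₜ[R] m₀ = (ψ m₀ • n) ⊗ₜ[R] m := by rw [smul_tmul, swap ψ m m₀, ← smul_tmul]
      have h2 : n₀ ⊗ₜ[R] (φ n • m) = (φ n₀ • n) ⊗ₜ[R] m := by rw [← smul_tmul, swap φ n n₀]
      rw [tmul_neg, neg_neg, h1, h2, ← add_tmul, ← add_smul, add_comm, hone, one_smul]
  · refine LinearMap.prod_ext (LinearMap.ext fun n => ?_) (LinearMap.ext fun m => ?_)
    · refine Prod.ext ?_ ?_
      · simp [back, forth, θ]
        rw [swap φ n n₀, ← add_smul, add_comm, ← add_comm (φ n₀), hone, one_smul]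
      · simp [back, forth, θ]
    · refine Prod.ext ?_ ?_
      · simp [back, forth, θ]
      · simp [back, forth, θ]
        rw [swap ψ m m₀, ← add_smul, add_comm, hone, one_smul]

/-- powers -/
theorem pow_succ_equiv {R : Type u} [CommRing R] [IsDedekindDomain R] (N : Type v) [AddCommGroup N] [Module R N]
    [Module.Invertible R N] : ∀ i : ℕ, Nonempty ((Fin (i + 1) → N) ≃ₗ[R]
      ((Fin i → R) × (CommRing.Pic.mk R N ^ (i + 1) : CommRing.Pic R))) := by
  intro i
  induction i with
  | zero =>
    rw [pow_one]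
    haveI : Unique (Fin (0 + 1)) := inferInstanceAs (Unique (Fin 1))
    exact ⟨(LinearEquiv.funUnique (Fin (0 + 1)) R N).trans ((CommRing.Pic.mk.linearEquiv R N).symm.trans
      LinearEquiv.uniqueProd.symm)⟩
  | succ i ih =>
    obtain ⟨e⟩ := ih
    obtain ⟨s⟩ := steinitz (R := R) N (CommRing.Pic.mk R N ^ (i + 1) : CommRing.Pic R)
    have h : CommRing.Pic.mk R (N ⊗[R] (CommRing.Pic.mk R N ^ (i + 1) : CommRing.Pic R)) =
        CommRing.Pic.mk R N ^ (i + 1 + 1) := by
      rw [CommRing.Pic.mk_tensor, CommRing.Pic.mk_eq_self, pow_succ' _ (i + 1)]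
    obtain ⟨t⟩ := CommRing.Pic.mk_eq_iff.mp h
    let P : CommRing.Pic R := CommRing.Pic.mk R N ^ (i + 1)
    let P' : CommRing.Pic R := CommRing.Pic.mk R N ^ (i + 1 + 1)
    let F := Fin i → R
    let e1 : (Fin (i + 1 + 1) → N) ≃ₗ[R] N × (Fin (i + 1) → N) :=
      (Fin.consLinearEquiv R (fun _ : Fin (i + 1 + 1) => N)).symm
    let e2 : (N × (Fin (i + 1) → N)) ≃ₗ[R] (N × P) × F :=
      ((LinearEquiv.refl R N).prodCongr (e.trans (LinearEquiv.prodComm R F P))).trans
        (LinearEquiv.prodAssoc R N P F).symm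
    let e3 : ((N × P) × F) ≃ₗ[R] (R × P') × F :=
      (s.trans ((LinearEquiv.refl R R).prodCongr t)).prodCongr (LinearEquiv.refl R F)
    let e4 : ((R × P') × F) ≃ₗ[R] (R × F) × P' :=
      (LinearEquiv.prodAssoc R R P' F).trans (((LinearEquiv.refl R R).prodCongr (LinearEquiv.prodComm R P' F)).trans
        (LinearEquiv.prodAssoc R R F P').symm)
    exact ⟨e1.trans (e2.trans (e3.trans (e4.trans
      ((Fin.consLinearEquiv R (fun _ : Fin (i + 1) => R)).prodCongr (LinearEquiv.refl R P')))))⟩

/-- Let R be a Dedekind domain, N an invertible R-module and n a natural number with [N]^n = 1 in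
Pic(R). Then the direct sum N^n is isomorphic to R^n; thus over a Dedekind domain the invertible
modules N with N^n ≅ R^n are exactly the n-torsion classes of Pic(R), the other inclusion holding
over any commutative ring. -/
theorem result {R : Type u} [CommRing R]
    [IsDedekindDomain R] (N : Type v) [AddCommGroup N] [Module R N] [Module.Invertible R N]
    (n : ℕ) (h : CommRing.Pic.mk R N ^ n = 1) :
    Nonempty ((Fin n → N) ≃ₗ[R] (Fin n → R)) := by
  cases n with
  | zero =>
    exact ⟨LinearEquiv.ofSubsingleton _ _⟩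
  | succ i =>
    obtain ⟨e⟩ := pow_succ_equiv (R := R) N i
    rw [← CommRing.Pic.mk_eq_self (M := (CommRing.Pic.mk R N ^ (i + 1) : CommRing.Pic R)),
      CommRing.Pic.mk_eq_one_iff] at h
    obtain ⟨t⟩ := h
    exact ⟨e.trans (((LinearEquiv.refl R (Fin i → R)).prodCongr t).trans
      ((LinearEquiv.prodComm R _ _).trans (Fin.consLinearEquiv R (fun _ : Fin (i + 1) => R))))⟩

end Groth.Agent.S16200
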