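import Groth.Statements.S16201
import Groth.Agent.DimLib.Components

set_option autoImplicit false
open CategoryTheory AlgebraicGeometry
open Variety

namespace Groth.Agent.S16201

/-- Let f : Y → Z be a morphism of schemes of finite type over ℂ, with Z irreducible. Suppose that the
general fibre of f is irreducible, in the sense that there is a nonempty open subset V of Z such
that the fibre of f over every closed point of V is an irreducible topological space, and that each
irreducible component of Y has dense image in Z. Then Y is irreducible. (The published statement is
for a morphism of projective varieties; only finiteness of type over the field is used, and the row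
is stated in that generality.) -/
theorem result
    (Y Z : Scheme.{0}) (g : Z ⟶ Spec (CommRingCat.of ℂ)) (f : Y ⟶ Z)
    [LocallyOfFiniteType g] [QuasiCompact g] [LocallyOfFiniteType f] [QuasiCompact f]
    [IrreducibleSpace Z]
    (hgen : ∃ V : Z.Opens, (V : Set Z).Nonempty ∧
      ∀ z ∈ V, IsClosed ({z} : Set Z) → IsIrreducible (f.base ⁻¹' {z}))
    (hdom : ∀ W ∈ irreducibleComponents Y, Dense (f.base '' W)) :
    IrreducibleSpace Y := by
  obtain ⟨V, hVne, hV⟩ := hgen
  obtain ⟨v, hvV, hv⟩ := Groth.Agent.DimLib.exists_isClosed_singleton_mem g hVne V.isOpen.isLocallyClosed
  obtain ⟨y0, -⟩ := (hV v hvV hv).nonempty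
  have hall : ∀ y : Y, y ∈ irreducibleComponent y0 := fun y => by
    rw [Groth.Agent.DimLib.component_unique_of_irreducible_fibres g f V V.isOpen hVne hV
      (irreducibleComponent_mem_irreducibleComponents y0) (irreducibleComponent_mem_irreducibleComponents y)
      (hdom _ (irreducibleComponent_mem_irreducibleComponents y0)) (hdom _ (irreducibleComponent_mem_irreducibleComponents y))]
    exact mem_irreducibleComponent
  refine (irreducibleSpace_def Y).2 ?_
  rw [Set.top_eq_univ, ← Set.eq_univ_of_forall hall]
  exact isIrreducible_irreducibleComponent

end Groth.Agent.S16201
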