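import Groth.Statements.S16203
import Groth.Agent.DimLib.Maximal
import Groth.Agent.DimLib.Components
import Groth.Agent.Coherent.ProjSpaceFinite
-- import your own Groth.Agent.* helpers here

set_option autoImplicit false
open CategoryTheory CategoryTheory.Limits AlgebraicGeometry
open Variety

namespace Groth.Agent.S16203

open Groth.Agent.DimLib in
/-- A prime of height at least two contains a nonzero prime avoiding a given nonzero element. -/
lemma height_le_one_of_forall_mem {B : Type*} [CommRing B] [IsDomain B] [IsNoetherianRing B] (P : Ideal B)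
    [P.IsPrime] {r : B} (hr : r ≠ 0) (hrP : r ∈ P)
    (h : ∀ J : Ideal B, J.IsPrime → J ≤ P → J ≠ ⊥ → r ∈ J) : P.height ≤ 1 := by
  classical
  by_contra hP
  let S := (Ideal.span {r} : Ideal B).minimalPrimes
  have hS : S.Finite := Ideal.finite_minimalPrimes_of_isNoetherianRing _ _
  have hnot : ¬ ((P : Set B) ⊆ ⋃ i ∈ S, (i : Ideal B)) := by
    rw [Ideal.subset_union_prime_finite hS ⊥ ⊥ (fun i hi _ _ => hi.1.1)]
    rintro ⟨i, hi, hPi⟩
    haveI := hi.1.1
    exact hP ((Ideal.height_mono hPi).trans (Ideal.height_le_one_of_isPrincipal_of_mem_minimalPrimes _ i hi))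
  obtain ⟨s, hsP, hs⟩ := Set.not_subset.1 hnot
  obtain ⟨M, hM, hMP⟩ := Ideal.exists_minimalPrimes_le (I := Ideal.span {s}) (J := P)
    ((Ideal.span_singleton_le_iff_mem P).2 hsP)
  haveI := hM.1.1
  have hsM : s ∈ M := hM.1.2 (Ideal.mem_span_singleton_self s)
  obtain ⟨i₀, hi₀, -⟩ := Ideal.exists_minimalPrimes_le (I := Ideal.span {r}) (J := P)
    ((Ideal.span_singleton_le_iff_mem P).2 hrP)
  have hs0 : s ≠ 0 := fun e => hs (Set.mem_biUnion hi₀ (e ▸ i₀.zero_mem))
  have hMbot : M ≠ ⊥ := fun e => hs0 (by simpa [e] using hsM)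
  obtain ⟨i, hi, hiM⟩ := Ideal.exists_minimalPrimes_le (I := Ideal.span {r}) (J := M)
    ((Ideal.span_singleton_le_iff_mem M).2 (h M inferInstance hMP hMbot))
  haveI := hi.1.1
  have hlt : i < M := lt_of_le_of_ne hiM fun e => hs (Set.mem_biUnion hi (e ▸ hsM))
  have hbot : (⊥ : Ideal B) < i := bot_lt_iff_ne_bot.2 fun e =>
    hr (by simpa [e] using hi.1.2 (Ideal.mem_span_singleton_self r))
  have h1 := Ideal.height_add_one_le_of_lt_of_isPrime hbot
  have h2 := Ideal.height_add_one_le_of_lt_of_isPrime hlt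
  have h3 : M.height ≤ 1 := Ideal.height_le_one_of_isPrincipal_of_mem_minimalPrimes _ M hM
  have h4 : (1 : ℕ∞) + 1 ≤ 1 :=
    le_trans (add_le_add ((le_add_self : (1 : ℕ∞) ≤ (⊥ : Ideal B).height + 1).trans h1) le_rfl) (h2.trans h3)
  exact absurd h4 (by decide)

/-- Between two primes, one of them avoiding r, there is a prime avoiding r covered by the bigger one. -/
lemma exists_covBy_notMem {A : Type*} [CommRing A] [IsNoetherianRing A] (Q P : Ideal A) [Q.IsPrime] [P.IsPrime]
    (hQP : Q ≤ P) {r : A} (hrQ : r ∉ Q) (hrP : r ∈ P) :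
    ∃ W : Ideal A, W.IsPrime ∧ Q ≤ W ∧ W ≤ P ∧ r ∉ W ∧ ∀ J : Ideal A, J.IsPrime → W ≤ J → J ≤ P → J = W ∨ J = P := by
  obtain ⟨W, ⟨hW, hQW, hWP, hrW⟩, hmax⟩ :=
    set_has_maximal_iff_noetherian.2 (inferInstanceAs (IsNoetherian A A))
      {W : Ideal A | W.IsPrime ∧ Q ≤ W ∧ W ≤ P ∧ r ∉ W} ⟨Q, inferInstance, le_rfl, hQP, hrQ⟩
  refine ⟨W, hW, hQW, hWP, hrW, fun J hJ hWJ hJP => ?_⟩
  by_contra hne
  push_neg at hne
  haveI := hW
  let π := Ideal.Quotient.mk W
  have hker : ∀ I : Ideal A, W ≤ I → (I.map π).comap π = I := fun I hI => by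
    rw [Ideal.comap_map_of_surjective _ Ideal.Quotient.mk_surjective, ← RingHom.ker_eq_comap_bot, Ideal.mk_ker,
      sup_eq_left.2 hI]
  haveI : (P.map π).IsPrime := Ideal.map_isPrime_of_surjective Ideal.Quotient.mk_surjective (by rw [Ideal.mk_ker]; exact hWP)
  haveI : (J.map π).IsPrime := Ideal.map_isPrime_of_surjective Ideal.Quotient.mk_surjective (by rw [Ideal.mk_ker]; exact hWJ)
  have hP1 := height_le_one_of_forall_mem (P.map π) (r := π r) (by simpa [π, Ideal.Quotient.eq_zero_iff_mem] using hrW)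
    (Ideal.mem_map_of_mem _ hrP) (fun K hK hKP hK0 => by
      by_contra hrK
      have hWK : W ≤ K.comap π := (Ideal.mk_ker (I := W)).symm.le.trans (Ideal.comap_mono bot_le)
      haveI := hK.comap π
      have hlt : W < K.comap π := lt_of_le_of_ne hWK fun e => hK0 (by
        rw [← Ideal.map_comap_of_surjective π Ideal.Quotient.mk_surjective K, ← e, Ideal.map_quotient_self])
      refine hmax (K.comap π) ⟨inferInstance, hQW.trans hWK, ?_, hrK⟩ hlt
      exact (Ideal.comap_mono hKP).trans (hker P hWP).le)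
  have hlt1 : (⊥ : Ideal (A ⧸ W)) < J.map π := bot_lt_iff_ne_bot.2 fun e => hne.1 (by
    rw [← hker J hWJ, e, ← RingHom.ker_eq_comap_bot, Ideal.mk_ker])
  have hlt2 : J.map π < P.map π := lt_of_le_of_ne (Ideal.map_mono hJP) fun e => hne.2 (by
    rw [← hker J hWJ, e, hker P hWP])
  have h1 := Ideal.height_add_one_le_of_lt_of_isPrime hlt1
  have h2 := Ideal.height_add_one_le_of_lt_of_isPrime hlt2
  have h4 : (1 : ℕ∞) + 1 ≤ 1 :=
    le_trans (add_le_add ((le_add_self : (1 : ℕ∞) ≤ (⊥ : Ideal (A ⧸ W)).height + 1).trans h1) le_rfl) (h2.trans hP1)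
  exact absurd h4 (by decide)

/-- Let f : Y → Z be a flat dominant morphism of integral projective schemes over ℂ, let B be an
irreducible closed curve in Z (an irreducible closed subset of dimension 1), p a closed point of B
and q a closed point of Y lying over p. Then there is an irreducible closed curve B' in Y passing
through q which is a finite cover of B: an irreducible closed subset B' of Y containing q whose
image is B and which meets every fibre of f in a finite set. -/
theorem result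
    (Y Z : Scheme.{0}) (g : Z ⟶ Spec (CommRingCat.of ℂ)) (f : Y ⟶ Z) [IsIntegral Y] [IsIntegral Z]
    (hZ : (∃ (m : ℕ) (ι : Z ⟶ CohB1.ProjSpace m ℂ), IsClosedImmersion ι ∧ ι ≫ CohB1.ProjSpace.toSpec m ℂ = g))
    (hY : (∃ (n : ℕ) (ι' : Y ⟶ CohB1.ProjSpace n ℂ), IsClosedImmersion ι' ∧ ι' ≫ CohB1.ProjSpace.toSpec n ℂ = f ≫ g))
    [Flat f] (hdomi : DenseRange f.base)
    (B : Set Z) (hBc : IsClosed B) (hBi : IsIrreducible B) (hBd : topologicalKrullDim ↥B = 1)
    (p : Z) (hp : p ∈ B) (hpc : IsClosed ({p} : Set Z))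
    (q : Y) (hqc : IsClosed ({q} : Set Y)) (hq : f.base q = p) :
    ∃ B' : Set Y, IsClosed B' ∧ IsIrreducible B' ∧ q ∈ B' ∧ f.base '' B' = B ∧
      ∀ z : Z, (B' ∩ f.base ⁻¹' {z}).Finite := by
  classical
  haveI : IsProper (f ≫ g) := by
    obtain ⟨n, ι', hι', e⟩ := hY
    haveI := hι'
    rw [← e]
    haveI : IsProper (CohB1.ProjSpace.toSpec n ℂ) := Groth.Agent.Coherent.isProper_projSpace_toSpec n ℂ
    infer_instance
  haveI : IsProper g := by
    obtain ⟨n, ι', hι', e⟩ := hZ
    haveI := hι'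
    rw [← e]
    haveI : IsProper (CohB1.ProjSpace.toSpec n ℂ) := Groth.Agent.Coherent.isProper_projSpace_toSpec n ℂ
    infer_instance
  haveI : IsProper f := IsProper.of_comp f g
  haveI : CompactSpace Y := QuasiCompact.compactSpace_of_compactSpace (f ≫ g)
  haveI : IsLocallyNoetherian Y := LocallyOfFiniteType.isLocallyNoetherian (f ≫ g)
  haveI : IsNoetherian Y := {}
  haveI : TopologicalSpace.NoetherianSpace Y := inferInstance
  obtain ⟨η, hη⟩ := QuasiSober.sober hBi hBc
  have hηdim : DimLib.ptDim g η = 1 := by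
    have h := Groth.Agent.DimLib.topologicalKrullDim_eq_ptDim_of_isGenericPoint g hη
    rw [hBd] at h
    exact_mod_cast h.symm
  have hηp : η ⤳ p := hη.specializes hp
  obtain ⟨y, hyq, hy⟩ := Flat.generalizingMap (f := f) (hq ▸ hηp : η ⤳ f q)
  have hp0 : DimLib.ptDim g p = 0 := (Groth.Agent.DimLib.ptDim_eq_zero_iff g p).2 hpc
  have hnepη : ¬ p ⤳ η := fun h => by
    have := Groth.Agent.DimLib.ptDim_le_of_specializes g h
    omega
  -- a function vanishing at p but not at η
  obtain ⟨U, hU, hpU, -⟩ := TopologicalSpace.Opens.isBasis_iff_nbhd.1 Z.isBasis_affineOpens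
    (show p ∈ (⊤ : Z.Opens) from trivial)
  have hηU : η ∈ U := hηp.mem_open U.2 hpU
  obtain ⟨r, hrη, hrp⟩ : ∃ r : Γ(Z, U), η ∈ Z.basicOpen r ∧ p ∉ Z.basicOpen r := by
    by_contra hcon
    push_neg at hcon
    refine hnepη (specializes_iff_forall_open.2 fun O hO hηO => ?_)
    obtain ⟨r, hr1, hr2⟩ := hU.exists_basicOpen_le (V := ⟨O, hO⟩) ⟨η, hηO⟩ hηU
    exact hr1 (hcon r hr2)
  obtain ⟨V, hV, hqV, hVU⟩ := TopologicalSpace.Opens.isBasis_iff_nbhd.1 Y.isBasis_affineOpens
    (show q ∈ f ⁻¹ᵁ U from by show f q ∈ U; exact hq.symm ▸ hpU)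
  let r' : Γ(Y, V) := f.appLE U V hVU r
  have hmem : ∀ w, w ∈ V → (w ∈ Y.basicOpen r' ↔ f w ∈ Z.basicOpen r) := by
    intro w hw
    have : Y.basicOpen r' = V ⊓ f ⁻¹ᵁ Z.basicOpen r := Scheme.basicOpen_appLE f V U hVU r
    rw [this]
    exact ⟨fun h => h.2, fun h => ⟨hw, h⟩⟩
  have hyV : y ∈ V := hyq.mem_open V.2 hqV
  obtain ⟨P, hPe⟩ : q ∈ Set.range hV.fromSpec := by rw [hV.range_fromSpec]; exact hqV
  obtain ⟨Q, hQe⟩ : y ∈ Set.range hV.fromSpec := by rw [hV.range_fromSpec]; exact hyV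
  have hbo : ∀ (w : PrimeSpectrum Γ(Y, V)), hV.fromSpec w ∈ Y.basicOpen r' ↔ r' ∉ w.asIdeal := by
    intro w
    have := iff_of_eq (congrArg (w ∈ ·) (hV.fromSpec_preimage_basicOpen r'))
    exact this
  haveI : IsNoetherianRing Γ(Y, V) := IsLocallyNoetherian.component_noetherian ⟨V, hV⟩
  let P' : PrimeSpectrum Γ(Y, V) := P
  let Q' : PrimeSpectrum Γ(Y, V) := Q
  have hQP : Q'.asIdeal ≤ P'.asIdeal := (PrimeSpectrum.le_iff_specializes Q' P').2
    (hV.fromSpec.isOpenEmbedding.isInducing.specializes_iff.1 (show hV.fromSpec Q' ⤳ hV.fromSpec P' by rw [hQe, hPe]; exact hyq))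
  haveI := Q'.isPrime
  haveI := P'.isPrime
  obtain ⟨W, hW, hQW, hWP, hrW, hcov⟩ := exists_covBy_notMem Q'.asIdeal P'.asIdeal hQP (r := r')
    (by rw [← hbo Q', hQe, hmem y hyV, hy]; exact hrη)
    (by
      have h := (not_congr (hbo P')).1 (by rw [hPe, hmem q hqV, hq]; exact hrp)
      exact not_not.1 h)
  let W' : PrimeSpectrum Γ(Y, V) := ⟨W, hW⟩
  let z := hV.fromSpec W'
  have hzV : z ∈ V := hV.range_fromSpec.le ⟨W', rfl⟩
  have hyz : y ⤳ z := hQe ▸ ((PrimeSpectrum.le_iff_specializes Q' W').1 hQW).map hV.fromSpec.continuous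
  have hzq : z ⤳ q := hPe ▸ ((PrimeSpectrum.le_iff_specializes W' P').1 hWP).map hV.fromSpec.continuous
  have hfzp : f z ≠ p := fun e => hrp (e ▸ (hmem z hzV).1 ((hbo W').2 hrW))
  have hne : z ≠ q := fun e => hfzp (by rw [e]; exact hq)
  have hq0 : DimLib.ptDim (f ≫ g) q = 0 := (Groth.Agent.DimLib.ptDim_eq_zero_iff (f ≫ g) q).2 hqc
  have hz1 : DimLib.ptDim (f ≫ g) z = 1 := by
    obtain ⟨w, hzw, hwq, hw⟩ := Groth.Agent.DimLib.exists_specializes_ptDim_succ (f ≫ g) hzq hne
    rw [hq0] at hw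
    obtain ⟨J, hJe⟩ : w ∈ Set.range hV.fromSpec := by rw [hV.range_fromSpec]; exact hwq.mem_open V.2 hqV
    let J' : PrimeSpectrum Γ(Y, V) := J
    have e1 : W ≤ J'.asIdeal := (PrimeSpectrum.le_iff_specializes W' J').2
      (hV.fromSpec.isOpenEmbedding.isInducing.specializes_iff.1 (show hV.fromSpec W' ⤳ hV.fromSpec J' by rw [hJe]; exact hzw))
    have e2 : J'.asIdeal ≤ P'.asIdeal := (PrimeSpectrum.le_iff_specializes J' P').2
      (hV.fromSpec.isOpenEmbedding.isInducing.specializes_iff.1 (show hV.fromSpec J' ⤳ hV.fromSpec P' by rw [hJe, hPe]; exact hwq))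
    rcases hcov J'.asIdeal J'.isPrime e1 e2 with h | h
    · have hh : J' = W' := PrimeSpectrum.ext h
      have hzw' : z = w := by rw [← hJe]; exact congrArg (fun a => hV.fromSpec a) hh.symm
      rw [hzw']
      omega
    · have hh : J' = P' := PrimeSpectrum.ext h
      have : w = q := by rw [← hJe, ← hPe]; exact congrArg _ hh
      rw [this, hq0] at hw
      omega
  have hηfz : η ⤳ f z := hy ▸ hyz.map f.continuous
  have hfzpp : f z ⤳ p := hq ▸ hzq.map f.continuous
  have hfz : f z = η := by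
    by_contra hne'
    have h1 := Groth.Agent.DimLib.ptDim_lt_of_specializes g hηfz (Ne.symm hne')
    have h2 := Groth.Agent.DimLib.ptDim_lt_of_specializes g hfzpp hfzp
    omega
  refine ⟨closure {z}, isClosed_closure, isIrreducible_singleton.closure, specializes_iff_mem_closure.1 hzq, ?_,
    fun w => ?_⟩
  · refine le_antisymm ?_ ?_
    · rintro _ ⟨b, hb, rfl⟩
      have : η ⤳ f b := hfz ▸ (specializes_iff_mem_closure.2 hb).map f.continuous
      exact this.mem_closed hBc hη.mem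
    · have hcl : IsClosed (f '' closure {z}) := f.isClosedMap _ isClosed_closure
      intro b hb
      exact (hη.specializes hb).mem_closed hcl ⟨z, subset_closure rfl, hfz⟩
  · have hclosedpt : ∀ b ∈ closure {z}, b ≠ z → IsClosed ({b} : Set Y) := fun b hb hbz => by
      have := Groth.Agent.DimLib.ptDim_lt_of_specializes (f ≫ g) (specializes_iff_mem_closure.2 hb) (Ne.symm hbz)
      exact (Groth.Agent.DimLib.ptDim_eq_zero_iff (f ≫ g) b).1 (by omega)
    by_cases hw : w = η
    · refine (Set.finite_singleton z).subset fun b hb => ?_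
      by_contra hbz
      have h := Groth.Agent.DimLib.isClosed_singleton_image g f (hclosedpt b hb.1 hbz)
      have : DimLib.ptDim g η = 0 := by
        rw [(Groth.Agent.DimLib.ptDim_eq_zero_iff g η)]
        rw [← hw, ← hb.2]
        exact h
      omega
    · by_cases hwc : IsClosed ({w} : Set Z)
      · obtain ⟨S, hSf, hSc, hSi, hSU⟩ := TopologicalSpace.NoetherianSpace.exists_finite_set_isClosed_irreducible
          (α := Y) (isClosed_closure.inter (hwc.preimage f.continuous) : IsClosed (closure {z} ∩ f.base ⁻¹' {w}))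
        rw [hSU]
        refine hSf.sUnion fun t ht => ?_
        obtain ⟨b, hb⟩ := QuasiSober.sober (hSi t ht) (hSc t ht)
        have hbm : b ∈ closure {z} ∩ f.base ⁻¹' {w} := hSU ▸ Set.mem_sUnion_of_mem hb.mem ht
        have : IsClosed ({b} : Set Y) := hclosedpt b hbm.1 fun e => hw (by rw [← hbm.2, e]; exact hfz)
        rw [← hb.def, this.closure_eq]
        exact Set.finite_singleton b
      · refine Set.Finite.subset Set.finite_empty fun b hb => hwc ?_
        have hbz : b ≠ z := fun e => hw (by rw [← hb.2, e]; exact hfz)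
        rw [← hb.2]
        exact Groth.Agent.DimLib.isClosed_singleton_image g f (hclosedpt b hb.1 hbz)

end Groth.Agent.S16203
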