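import Groth.Statements.S16207
import Groth.Agent.TFPush7.PointedSemi

set_option linter.style.haveILetI false
set_option backward.isDefEq.respectTransparency false
set_option backward.isDefEq.respectTransparency.types false
set_option maxHeartbeats 1000000

set_option autoImplicit false
universe u
open CategoryTheory CategoryTheory.Limits AlgebraicGeometry
attribute [local instance] HasDerivedCategory.standard
open Curves

namespace Groth.Agent.S16207

/-- Let k be an algebraically closed field and X a proper reduced connected scheme of dimension 1 over k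
with at-worst-nodal singularities, of genus g = dim_k H^1(X, O_X), and let p_1, …, p_n be n distinct
closed points at which X is smooth over k, with 2g − 2 + n > 0, making X an n-pointed semistable
curve: every irreducible component E of X whose reduced structure has vanishing H^1 of the structure
sheaf (a smooth rational component) carries at least 2 special points, counting the points of E
lying on other components and the marked points on E. Let ω_X be the dualizing module of X (degree
−1 cohomology sheaf of f^! O for the structure morphism f, for any choice of the data Rf_* on D_QCoh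
with its right adjoint), N an inverse for the tensor product of the ideal sheaf of the reduced
closed subscheme {p_1, …, p_n} (so N plays the role of O_X(p_1 + ⋯ + p_n)), and M any module
isomorphic to ω_X ⊗ N. Then for every m ≥ 2 the tensor power M^{⊗ m} has H^1(X, M^{⊗ m}) = 0. -/
theorem result (k : Type u) [Field k] [IsAlgClosed k] (X : Scheme.{u}) [X.Over (Spec (CommRingCat.of k))]
    [IsProper (X ↘ (Spec (CommRingCat.of k)))] [IsReduced X] [ConnectedSpace X]
    (hdim : topologicalKrullDim X = 1) (hX : Curv2.AtWorstNodal k X)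
    (n : ℕ) (p : Fin n → X) (hpinj : Function.Injective p) (hpcl : ∀ i, IsClosed ({p i} : Set X))
    (hpsm : ∀ i, ∃ U : X.Opens, p i ∈ U ∧ Smooth (U.ι ≫ (X ↘ (Spec (CommRingCat.of k)))))
    (hss : ∀ (E : Set X) (hE : E ∈ irreducibleComponents (X : Type u)),
      Subsingleton (Coh.HH (Scheme.IdealSheafData.vanishingIdeal ⟨E, isClosed_of_mem_irreducibleComponents E hE⟩).subscheme (Coh.structureModule (Scheme.IdealSheafData.vanishingIdeal ⟨E, isClosed_of_mem_irreducibleComponents E hE⟩).subscheme) 1) →
        2 ≤ (E ∩ closure Eᶜ).ncard + (p ⁻¹' E).ncard)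
    (hgn : 0 < 2 * (Curv2.genus k X : ℤ) - 2 + n)
    (N : X.Modules) (hN : ClSub.IsInverseOf N (ClSub.idealMod
      (Scheme.IdealSheafData.vanishingIdeal ⟨⋃ i, ({p i} : Set X), isClosed_iUnion_of_finite hpcl⟩)))
    [DCoh.HasRpush (X ↘ (Spec (CommRingCat.of k)))] (h : DCoh.RpushPreservesQCoh (X ↘ (Spec (CommRingCat.of k)))) [DCoh.HasShriek (X ↘ (Spec (CommRingCat.of k))) h]
    (OY : DCoh.DQCoh (Spec (CommRingCat.of k)))
    (hOY : Nonempty (OY.obj ≅ DCoh.inD (Spec (CommRingCat.of k)) (Coh.structureModule (Spec (CommRingCat.of k)))))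
    (M : X.Modules) (hM : Nonempty (M ≅ CohB1.tensorMod (DCoh.dualizingMod (X ↘ (Spec (CommRingCat.of k))) h OY 1) N)) (m : ℕ) (hm : 2 ≤ m) :
    Subsingleton (Coh.HH X (CohB1.tensorPow M m) 1) := by
  obtain ⟨hMi, ⟨W, hW, t, ht, hWe⟩, hnum⟩ :=
    Groth.Agent.TFPush7.PointedSemi.setup k X hdim hX n p hpinj hpcl hpsm N hN h OY hOY M hM
  have hD := Groth.Agent.TFPush7.PointedNum.deg_nonneg k hdim hMi (fun E => (E ∩ closure Eᶜ).ncard)
    (fun E => (p ⁻¹' E).ncard) (fun J hJr hJc hJ => (hnum J hJr hJc hJ).1) hss
  refine Groth.Agent.DualMod3.subsingleton_h1_of_deg_subcurves k hdim hW t ht hWe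
    (Groth.Agent.AmpleLib.isInvertible_tensorPow hMi m) fun J hJr hJc hJ => ?_
  obtain ⟨h1, h2⟩ := hnum J hJr hJc hJ
  have h3 := hD J
  rw [Groth.Agent.DualMod3.deg_sub_pow k hdim.le J hMi m]
  have h4 : 2 ≤ (m : ℤ) := by exact_mod_cast hm
  generalize @Curv2.deg k _ J.subscheme ⟨J.subschemeι ≫ (X ↘ Spec (CommRingCat.of k))⟩
    ((Scheme.Modules.pullback J.subschemeι).obj M) 1 = D at h1 h3 ⊢
  have h5 : 2 * D ≤ (m : ℤ) * D := mul_le_mul_of_nonneg_right h4 h3
  by_cases hb : (((J.support : Set X) ∩ closure (J.support : Set X)ᶜ).ncard = 0)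
  · obtain ⟨hg, hq⟩ := h2 hb
    omega
  · omega

end Groth.Agent.S16207
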