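import Groth.Statements.S16210
import Groth.Agent.TFPush7.PointedSemi
import Groth.Agent.Desc19b.AmpleFamily

set_option linter.style.haveILetI false
set_option backward.isDefEq.respectTransparency false
set_option backward.isDefEq.respectTransparency.types false
set_option maxHeartbeats 1000000

set_option autoImplicit false
universe u
open CategoryTheory CategoryTheory.Limits AlgebraicGeometry
attribute [local instance] HasDerivedCategory.standard
open Curves

namespace Groth.Agent.S16210

/-- Let k be an algebraically closed field and X a proper reduced connected scheme of dimension 1 over k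
with at-worst-nodal singularities and H^1(X, O_X) = 0, and let p_1, …, p_n (n ≥ 3) be distinct
closed points at which X is smooth over k. Let ω_X be the dualizing module of X (degree −1
cohomology sheaf of f^! O for the structure morphism f, for any choice of the data Rf_* on D_QCoh
with its right adjoint), N an inverse for the tensor product of the ideal sheaf of the reduced
closed subscheme {p_1, …, p_n}, and M any module isomorphic to ω_X ⊗ N (the dualizing module twisted
by the marked points). Then the n-pointed curve is semistable, i.e. every irreducible component E of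
X has at least 2 special points (points of E on other components plus marked points on E), if and
only if M is globally generated. -/
theorem result (k : Type u) [Field k] [IsAlgClosed k] (X : Scheme.{u}) [X.Over (Spec (CommRingCat.of k))]
    [IsProper (X ↘ (Spec (CommRingCat.of k)))] [IsReduced X] [ConnectedSpace X]
    (hdim : topologicalKrullDim X = 1) (hX : Curv2.AtWorstNodal k X)
    (hg : Subsingleton (Coh.HH X (Coh.structureModule X) 1))
    (n : ℕ) (p : Fin n → X) (hpinj : Function.Injective p) (hpcl : ∀ i, IsClosed ({p i} : Set X))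
    (hpsm : ∀ i, ∃ U : X.Opens, p i ∈ U ∧ Smooth (U.ι ≫ (X ↘ (Spec (CommRingCat.of k))))) (hn : 3 ≤ n)
    (N : X.Modules) (hN : ClSub.IsInverseOf N (ClSub.idealMod
      (Scheme.IdealSheafData.vanishingIdeal ⟨⋃ i, ({p i} : Set X), isClosed_iUnion_of_finite hpcl⟩)))
    [DCoh.HasRpush (X ↘ (Spec (CommRingCat.of k)))] (h : DCoh.RpushPreservesQCoh (X ↘ (Spec (CommRingCat.of k)))) [DCoh.HasShriek (X ↘ (Spec (CommRingCat.of k))) h]
    (OY : DCoh.DQCoh (Spec (CommRingCat.of k)))
    (hOY : Nonempty (OY.obj ≅ DCoh.inD (Spec (CommRingCat.of k)) (Coh.structureModule (Spec (CommRingCat.of k)))))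
    (M : X.Modules) (hM : Nonempty (M ≅ CohB1.tensorMod (DCoh.dualizingMod (X ↘ (Spec (CommRingCat.of k))) h OY 1) N)) :
    (∀ (E : Set X), E ∈ irreducibleComponents (X : Type u) → 2 ≤ (E ∩ closure Eᶜ).ncard + (p ⁻¹' E).ncard) ↔
      Curv2.IsGloballyGenerated M := by
  obtain ⟨hMi, -, hnum⟩ :=
    Groth.Agent.TFPush7.PointedSemi.setup k X hdim hX n p hpinj hpcl hpsm N hN h OY hOY M hM
  have hgX : Curv2.genus k X = 0 := Module.finrank_zero_of_subsingleton
  constructor
  · intro hss
    have hD := Groth.Agent.TFPush7.PointedNum.deg_nonneg k hdim hMi (fun E => (E ∩ closure Eᶜ).ncard)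
      (fun E => (p ⁻¹' E).ncard) (fun J hJr hJc hJ => (hnum J hJr hJc hJ).1) (fun E hE _ => hss E hE)
    refine Groth.Agent.TFPush7.PointGG.isGloballyGenerated_of_deg k hdim hMi fun J hJr hJc hJ => ?_
    obtain ⟨h1, h2⟩ := hnum J hJr hJc hJ
    have h3 := hD J
    have h4 := Groth.Agent.TFPush7.PointedSemi.genus_le k X hdim.le J
    generalize @Curv2.deg k _ J.subscheme ⟨J.subschemeι ≫ (X ↘ Spec (CommRingCat.of k))⟩
      ((Scheme.Modules.pullback J.subschemeι).obj M) 1 = D at h1 h3 ⊢
    omega
  · intro hgg E hE
    haveI := Groth.Agent.EulerLib.isNoetherian_of_proper k (X := X)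
    let C : TopologicalSpace.Closeds X := ⟨E, isClosed_of_mem_irreducibleComponents E hE⟩
    let J := Scheme.IdealSheafData.vanishingIdeal C
    haveI : IsIntegral J.subscheme := Groth.Agent.VarietyLib.isIntegral_vanishingIdeal C hE.1
    have hJd : topologicalKrullDim J.subscheme = 1 :=
      (Groth.Agent.VarietyLib.topologicalKrullDim_vanishingIdeal C).trans
        (Groth.Agent.DualMod3.components_dim_one hdim hE)
    obtain ⟨h1, -⟩ := hnum J inferInstance inferInstance hJd
    rw [Scheme.IdealSheafData.coe_support_vanishingIdeal] at h1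
    letI : J.subscheme.Over (Spec (CommRingCat.of k)) := ⟨J.subschemeι ≫ (X ↘ Spec (CommRingCat.of k))⟩
    haveI : IsProper (J.subscheme ↘ Spec (CommRingCat.of k)) :=
      inferInstanceAs (IsProper (J.subschemeι ≫ (X ↘ Spec (CommRingCat.of k))))
    have h4 : Curv2.genus k J.subscheme ≤ Curv2.genus k X :=
      Groth.Agent.TFPush7.PointedSemi.genus_le k X hdim.le J
    obtain ⟨s, hs⟩ := Groth.Agent.Desc19b.exists_mem_glocus_of_gg hMi hgg (J.subschemeι (genericPoint J.subscheme))
    have hs' : genericPoint J.subscheme ∈ Groth.Agent.AmpleLib.glocus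
        ((Scheme.Modules.pullback J.subschemeι).obj M) (Groth.Agent.PicLib.pullSec J.subschemeι s) := by
      rw [Groth.Agent.AmpleLib.glocus_pullSec J.subschemeι hMi]
      exact hs
    have h5 : 0 ≤ Curv2.deg k J.subscheme ((Scheme.Modules.pullback J.subschemeι).obj M) 1 :=
      (Groth.Agent.CurveRR24.deg_nonneg_of_section k hJd.le (PicLoc.isInvertible_pullback _ hMi)
        (Groth.Agent.Surf15.nontrivial_h0 k (Groth.Agent.VarietyLib.ne_zero_of_mem_glocus hs'))).1
    change 2 ≤ ((C : Set X) ∩ closure (C : Set X)ᶜ).ncard + (p ⁻¹' (C : Set X)).ncard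
    omega

end Groth.Agent.S16210
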