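import Groth.Statements.S16211
import Mathlib.Algebra.Module.BigOperators
import Mathlib.Tactic

set_option autoImplicit false
universe u v
open InvTh

namespace Groth.Agent.S16211

/-- Let R be a commutative ring, O a formally smooth R-algebra and G a finite group whose order is
invertible in R, acting on O by R-algebra automorphisms. Then the largest quotient algebra of O on
which G acts trivially, namely the quotient of O by the ideal generated by all g • f - f (the
coordinate ring of the subscheme of G-fixed points of Spec O), is again formally smooth over R: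
invariant homomorphisms lift along square-zero extensions. The published statement is about a scheme
X smooth and of finite presentation over the base and concludes that its fixed-point scheme is
smooth; this row, the affine step of its proof, assumes only that O is formally smooth over R and
concludes only formal smoothness. -/
theorem result (R : Type u) [CommRing R]
    (O : Type u) [CommRing O] [Algebra R O] [Algebra.FormallySmooth R O]
    (G : Type v) [Group G] [Finite G] [MulSemiringAction G O] [SMulCommClass G R O]
    (hG : IsUnit (Nat.card G : R)) :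
    Algebra.FormallySmooth R (O ⧸ Ideal.span {x : O | ∃ (g : G) (f : O), x = g • f - f}) := by
  classical
  have := Fintype.ofFinite G
  set J := Ideal.span {x : O | ∃ (g : G) (f : O), x = g • f - f}
  refine Algebra.FormallySmooth.of_comp_surjective fun C _ _ I hI φ => ?_
  obtain ⟨f, hf⟩ := Algebra.FormallySmooth.exists_lift I ⟨2, hI⟩ (φ.comp (Ideal.Quotient.mkₐ R J))
  have hfI : ∀ (g : G) (a : O), f (g • a) - f a ∈ I := fun g a => by
    rw [← Ideal.Quotient.eq]
    have e : ∀ z, Ideal.Quotient.mk I (f z) = φ (Ideal.Quotient.mk J z) := fun z => AlgHom.congr_fun hf z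
    rw [e, e, (Ideal.Quotient.eq (I := J)).2 (Ideal.subset_span ⟨g, a, rfl⟩)]
  have hsq : ∀ {s t : C}, s ∈ I → t ∈ I → s * t = 0 := fun {s t} hs ht => by
    have := Ideal.mul_mem_mul hs ht
    rwa [← sq, hI, Ideal.mem_bot] at this
  set c : C := algebraMap R C (hG.unit⁻¹ : Rˣ).val
  have hc : c * (Fintype.card G : C) = 1 := by
    rw [← map_natCast (algebraMap R C), ← map_mul, ← Nat.card_eq_fintype_card, hG.val_inv_mul, map_one]
  let D : O → C := fun a => c * ∑ g : G, (f (g • a) - f a)
  have hD : ∀ a, D a ∈ I := fun a => I.mul_mem_left _ (I.sum_mem fun g _ => hfI g a)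
  have hDadd : ∀ a b, D (a + b) = D a + D b := fun a b => by
    simp only [D, smul_add, map_add, ← mul_add, ← Finset.sum_add_distrib]
    exact congrArg _ (Finset.sum_congr rfl fun g _ => by ring)
  have hDmul : ∀ a b, D (a * b) = f a * D b + f b * D a := fun a b => by
    simp only [D, Finset.mul_sum, ← Finset.sum_add_distrib]
    refine Finset.sum_congr rfl fun g _ => ?_
    rw [smul_mul', map_mul, map_mul]
    linear_combination c * hsq (hfI g a) (hfI g b)
  have hDalg : ∀ r, D (algebraMap R O r) = 0 := fun r => by simp [D, smul_algebraMap]
  let f' : O →ₐ[R] C :=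
    { toFun := fun a => f a + D a
      map_one' := by simp [D]
      map_zero' := by simp [D]
      map_add' := fun a b => by rw [map_add, hDadd]; ring
      map_mul' := fun a b => by rw [map_mul, hDmul]; linear_combination -hsq (hD a) (hD b)
      commutes' := fun r => by rw [hDalg, add_zero, AlgHom.commutes] }
  have hf' : ∀ a, f' a = c * ∑ g : G, f (g • a) := fun a => by
    show f a + D a = _
    simp only [D, Finset.sum_sub_distrib, Finset.sum_const, Finset.card_univ, nsmul_eq_mul]
    linear_combination -f a * hc
  have hker : J ≤ RingHom.ker f' := by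
    refine Ideal.span_le.2 ?_
    rintro _ ⟨g, a, rfl⟩
    rw [SetLike.mem_coe, RingHom.mem_ker, map_sub, sub_eq_zero, hf', hf']
    congr 1
    exact Fintype.sum_equiv (Equiv.mulRight g) _ _ fun h => by simp [mul_smul]
  refine ⟨Ideal.Quotient.liftₐ J f' fun a ha => hker ha, Ideal.Quotient.algHom_ext R (AlgHom.ext fun a => ?_)⟩
  show Ideal.Quotient.mk I (f a + D a) = φ (Ideal.Quotient.mk J a)
  rw [map_add, Ideal.Quotient.eq_zero_iff_mem.2 (hD a), add_zero]
  exact AlgHom.congr_fun hf a

end Groth.Agent.S16211
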