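import Groth.Statements.S16212
import Groth.Agent.AlgGrpLib.FiniteFixed

set_option backward.isDefEq.respectTransparency.types false

set_option autoImplicit false
universe u v
open CategoryTheory AlgebraicGeometry
open AlgGrp

namespace Groth.Agent.S16212

/-- Let S be a scheme, X an S-scheme that is smooth, separated and of finite presentation over S, and G
a finite group whose order is invertible on S (a unit among the global functions of S) acting on X
by S-automorphisms. Then the scheme of G-fixed points of X, namely any S-scheme Z with an S-morphism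
ι to X that is itself fixed by every element of G (ι followed by the automorphism of each g equals
ι) and such that an S-morphism T → X is fixed by every element of G exactly when it factors through
ι, and then uniquely, is a closed subscheme of X (ι is a closed immersion) which is smooth and of
finite presentation over S (smooth, quasi-compact and quasi-separated). The published statement
assumes X only smooth and of finite presentation over S; this row also assumes X separated over S. -/
theorem result (S : Scheme.{u})
    (X : Over S) [Smooth X.hom] [QuasiCompact X.hom] [IsSeparated X.hom]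
    (G : Type v) [Group G] [Finite G] (ρ : G →* Aut X)
    (hG : IsUnit (Nat.card G : Γ(S, ⊤)))
    (Z : Over S) (ι : Z ⟶ X) (hι : ∀ g : G, ι ≫ (ρ g).hom = ι)
    (hZ : ∀ (T : Over S) (t : T ⟶ X), (∀ g : G, t ≫ (ρ g).hom = t) ↔ ∃! t' : T ⟶ Z, t' ≫ ι = t) :
    IsClosedImmersion ι.left ∧ Smooth Z.hom ∧ QuasiCompact Z.hom ∧ QuasiSeparated Z.hom := by
  classical
  cases nonempty_fintype G
  obtain ⟨F, j, hj, hF⟩ := Groth.Agent.AlgGrpLib.FiniteFixed.exists_closed
    ((Finset.univ : Finset G).toList.map fun g => (ρ g).hom)
  have hfix : ∀ (T : Over S) (t : T ⟶ X), (∀ g : G, t ≫ (ρ g).hom = t) ↔ ∃ t' : T ⟶ F, t' ≫ j = t := fun T t => by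
    rw [← hF T t]
    simp only [List.mem_map, Finset.mem_toList, Finset.mem_univ, true_and, forall_exists_index,
      forall_apply_eq_imp_iff]
  obtain ⟨a, ha⟩ := (hfix Z ι).1 hι
  obtain ⟨b, hb, -⟩ := (hZ F j).1 ((hfix F j).2 ⟨𝟙 F, Category.id_comp j⟩)
  haveI : Mono j.left := inferInstance
  haveI : Mono j := Over.mono_of_mono_left _
  have hab : a ≫ b = 𝟙 Z := ((hZ Z ι).1 hι).unique (by rw [Category.assoc, hb, ha]) (Category.id_comp ι)
  haveI : IsIso a := ⟨b, hab, (cancel_mono j).1 (by rw [Category.assoc, ha, hb, Category.id_comp])⟩
  haveI : IsIso a.left := inferInstanceAs (IsIso ((Over.forget S).map a))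
  haveI : IsClosedImmersion ι.left := by rw [← ha, Over.comp_left]; infer_instance
  have hqc : QuasiCompact Z.hom := by rw [← Over.w ι]; infer_instance
  have hqs : QuasiSeparated Z.hom := by
    haveI : IsSeparated Z.hom := by rw [← Over.w ι]; infer_instance
    infer_instance
  refine ⟨inferInstance, ?_, hqc, hqs⟩
  haveI : Finite ρ.range := Finite.of_surjective _ ρ.rangeRestrict_surjective
  refine Groth.Agent.AlgGrpLib.FiniteFixed.smooth_fixed ρ.range.subtype ?_ ι ?_ ?_
  · obtain ⟨c, hc⟩ := Subgroup.card_range_dvd ρ
    rw [hc, Nat.cast_mul] at hG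
    exact isUnit_of_mul_isUnit_left hG
  · rintro ⟨_, g, rfl⟩
    exact hι g
  · intro T t ht
    exact ((hZ T t).1 fun g => ht ⟨ρ g, g, rfl⟩).exists

end Groth.Agent.S16212
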