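import Groth.Statements.S16214
import Groth.Agent.Stk19b.FlatQuot.SmoothStack

set_option autoImplicit false
universe u
open CategoryTheory AlgebraicGeometry
open AlgSt

set_option backward.isDefEq.respectTransparency.types false
set_option backward.isDefEq.respectTransparency false

namespace Groth.Agent.S16214


/-- Let k be an algebraically closed field and Δ a finite diagonalizable group scheme over k, written Δ
= D(M) = Spec k[M] for a finite abelian group M. Then the classifying stack BΔ (whose objects over a
k-scheme T are the fppf-locally trivial Δ_T-torsors) is smooth over k, in the chart form: there are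
schemes U, V over k, a smooth surjective chart (Sch/U) ⟶ BΔ, a smooth chart (Sch/V) of Spec k and a
smooth U ⟶ V making the chart square commute up to isomorphism. (Δ itself need not be smooth, e.g.
μ_p in characteristic p.) The published statement allows any diagonalizable Δ; this row takes Δ
finite, i.e. M finite, the case its proof treats. -/
theorem result (k : Type u) [Field k] [IsAlgClosed k]
    (M : Type) [AddCommGroup M] [Finite M] :
    AlgSt.LocQ (AlgSp.LocP @Smooth)
      (FibCat.toSelf (AlgSt.BG Scheme.fppfPrecoverage (Red.diag k M))) := by
  haveI : Flat (Red.diag k M).hom := by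
    show Flat (Spec.map _)
    refine HasRingHomProperty.Spec_iff.2 ?_
    rw [CommRingCat.hom_ofHom, RingHom.flat_algebraMap_iff]
    exact (inferInstance : Module.Flat k (MonoidAlgebra k (Multiplicative M)))
  haveI : LocallyOfFinitePresentation (Red.diag k M).hom := by
    haveI : Algebra.FiniteType k (MonoidAlgebra k (Multiplicative M)) := inferInstance
    show LocallyOfFinitePresentation (Spec.map _)
    rw [LocallyOfFinitePresentation.SpecMap_iff, CommRingCat.hom_ofHom, RingHom.finitePresentation_algebraMap]
    exact Algebra.FinitePresentation.of_finiteType.mp inferInstance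
  haveI : IsAffine (Red.diag k M).left := inferInstanceAs (IsAffine (Spec (CommRingCat.of (MonoidAlgebra k (Multiplicative M)))))
  haveI : IsAffine (𝟭 (Scheme.{u}) |>.obj (Spec (CommRingCat.of k))) := inferInstanceAs (IsAffine (Spec _))
  haveI : IsAffineHom (Red.diag k M).hom := isAffineHom_of_isAffine _
  haveI : Smooth (MonoidalCategory.tensorUnit (Over (Spec (CommRingCat.of k)))).hom := inferInstanceAs (Smooth (𝟙 _))
  exact Groth.Agent.Stk19b.FlatQuot.locQ_smooth_quotSt (Red.diag k M) _ (AlgSt.trivAction _)

end Groth.Agent.S16214
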