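import Groth.Statements.S16216
import Groth.Agent.PtDefo5.GenusOne
-- import your own Groth.Agent.* helpers here

set_option autoImplicit false
set_option backward.isDefEq.respectTransparency.types false
universe u
open CategoryTheory CategoryTheory.Limits AlgebraicGeometry
open PtDefo

namespace Groth.Agent.S16216

/-- Let k be an algebraically closed field of characteristic neither 2 nor 3, C a smooth proper integral
curve of genus one over k and P a rational point of C. For every local Artinian k-algebra A with
residue field k the forgetful map, from isomorphism classes of deformations of the pointed curve (C,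
P) over A (deformations of C over A with a section through P) to isomorphism classes of deformations
of C over A, is injective: two sections through P of one deformation of C over A are exchanged by an
automorphism of that deformation inducing the identity on C. Genus one is essential here; for genus
at least two it fails. (The characteristic assumption is the standing one of the source's section
and plays no role.) -/
theorem result
    {k : Type u} [Field k] [IsAlgClosed k] (h2 : (2 : k) ≠ 0) (h3 : (3 : k) ≠ 0)
    (X : Scheme.{u}) [X.Over (Spec (CommRingCat.of k))]
    (hX : Curve.IsSmoothProperCurve k X (X ↘ Spec (CommRingCat.of k))) (hg : Curv2.genus k X = 1)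
    (P : Spec (CommRingCat.of k) ⟶ X) (hP : P ≫ (X ↘ Spec (CommRingCat.of k)) = 𝟙 _)
    (A : ArtFun.Art k k) :
    Function.Injective ((PtDefo.forgetPts (Λ := k) X (X ↘ Spec (CommRingCat.of k)) (fun _ : PUnit.{u + 1} => P)).app A) := by
  haveI : IsProper (X ↘ Spec (CommRingCat.of k)) := hX.1
  haveI : Smooth (X ↘ Spec (CommRingCat.of k)) := hX.2.1
  haveI : IsIntegral X := hX.2.2.1
  intro q q' h
  induction q using Quotient.inductionOn with
  | h ξ =>
  induction q' using Quotient.inductionOn with
  | h ξ' =>
    obtain ⟨e⟩ := Quotient.exact h
    let σ := ξ.sect PUnit.unit ≫ e.iso.hom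
    have hσ : σ ≫ ξ'.f = 𝟙 _ := by
      rw [Category.assoc, e.hom_f]; exact ξ.sect_f PUnit.unit
    have hag : ArtFun.Art.specRes A ≫ σ = ArtFun.Art.specRes A ≫ ξ'.sect PUnit.unit := by
      rw [← ξ'.pt_sect PUnit.unit]
      show ArtFun.Art.specRes A ≫ ξ.sect PUnit.unit ≫ e.iso.hom = _
      rw [← Category.assoc, ← ξ.pt_sect PUnit.unit, Category.assoc, e.i_hom]
    obtain ⟨t, htf, hti, hts⟩ := Groth.Agent.PtDefo5.exists_translation ξ'.toDefSch hX.2.2.2 hg σ
      (ξ'.sect PUnit.unit) hσ (ξ'.sect_f PUnit.unit) hag
    exact Quotient.sound ⟨{ iso := e.iso ≪≫ t
                            hom_f := by rw [CategoryTheory.Iso.trans_hom, Category.assoc, htf, e.hom_f]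
                            i_hom := by rw [CategoryTheory.Iso.trans_hom, ← Category.assoc, e.i_hom, hti]
                            sect_hom := fun j => by
                              cases j
                              rw [CategoryTheory.Iso.trans_hom, ← Category.assoc]
                              exact hts }⟩

end Groth.Agent.S16216
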