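import Groth.Statements.S16220
import Mathlib
import Groth.Prelude

set_option linter.all false

set_option autoImplicit false
universe u v
open Disp

open scoped Pointwise

namespace Groth.Agent.S16220

/-- Let p be a prime and k a perfect ring of characteristic p, so that the Frobenius σ of W = W(k) is
bijective, W has no p-torsion and W/p^n W = W_n(k) (the ideal p^n W is the kernel of the truncation
to length n). Let n ≥ 2 and let M be a truncated Dieudonné module of level n over k: a W-module on
which W acts through W/p^n W, finitely generated and projective over W/p^n W, with a σ-semilinear F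
: M → M and a σ⁻¹-semilinear V : M → M such that FV = VF = p. Then on M/pM the kernel of F is the
image of V and the kernel of V is the image of F; stated inside M: the preimage of pM under F is VM
+ pM, and the preimage of pM under V is FM + pM. -/
theorem result (p : ℕ) [Fact p.Prime] (k : Type u) [CommRing k]
    [CharP k p] [PerfectRing k p] (n : ℕ) (hn : 2 ≤ n)
    (M : Type v) [AddCommGroup M] [Module (WittVector p k) M]
    [Module (WittVector p k ⧸ Ideal.span {(p : WittVector p k) ^ n}) M] [IsScalarTower (WittVector p k) (WittVector p k ⧸ Ideal.span {(p : WittVector p k) ^ n}) M]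
    [Module.Finite (WittVector p k ⧸ Ideal.span {(p : WittVector p k) ^ n}) M] [Module.Projective (WittVector p k ⧸ Ideal.span {(p : WittVector p k) ^ n}) M]
    (F : M →ₛₗ[(WittVector.frobenius : WittVector p k →+* WittVector p k)] M)
    (V : M →ₛₗ[((WittVector.frobeniusEquiv p k).symm : WittVector p k →+* WittVector p k)] M)
    (hFV : ∀ m : M, F (V m) = (p : WittVector p k) • m) (hVF : ∀ m : M, V (F m) = (p : WittVector p k) • m) :
    (Ideal.span {(p : WittVector p k)} • (⊤ : Submodule (WittVector p k) M)).comap F =
        Submodule.span (WittVector p k) (Set.range V) ⊔ Ideal.span {(p : WittVector p k)} • (⊤ : Submodule (WittVector p k) M) ∧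
      (Ideal.span {(p : WittVector p k)} • (⊤ : Submodule (WittVector p k) M)).comap V =
        Submodule.span (WittVector p k) (Set.range F) ⊔ Ideal.span {(p : WittVector p k)} • (⊤ : Submodule (WittVector p k) M) := by
  set W := WittVector p k
  have htf : ∀ w : W, (p : W) * w = 0 → w = 0 := by
    intro w hw
    have h0 : WittVector.frobenius w = 0 := by
      ext i
      have : WittVector.verschiebung (WittVector.frobenius w) = 0 := by
        rw [WittVector.verschiebung_frobenius, mul_comm]; exact hw
      have := congrArg (fun x : W => x.coeff (i + 1)) this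
      simp only [WittVector.verschiebung_coeff_succ] at this
      rw [this]; simp
    exact (map_eq_zero_iff _ (WittVector.frobenius_bijective p k).1).1 h0
  have hker : ∀ m : M, (p : W) • m = 0 → m ∈ Ideal.span {(p : W)} • (⊤ : Submodule W M) := by
    intro m hm
    set Wn := W ⧸ Ideal.span {(p : W) ^ n}
    obtain ⟨s, hs⟩ := (Module.projective_def (R := Wn) (P := M)).1 inferInstance
    have hsm : (p : Wn) • s m = 0 := by
      rw [← map_smul, show (p : Wn) • m = (p : W) • m by rw [Nat.cast_smul_eq_nsmul, Nat.cast_smul_eq_nsmul], hm, map_zero]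
    have hc : ∀ i, ∃ c : Wn, s m i = (p : Wn) ^ (n - 1) * c := by
      intro i
      obtain ⟨w, hw⟩ := Ideal.Quotient.mk_surjective (s m i)
      have h1 : Ideal.Quotient.mk (Ideal.span {(p : W) ^ n}) ((p : W) * w) = 0 := by
        rw [map_mul, hw, map_natCast]
        simpa using DFunLike.congr_fun hsm i
      obtain ⟨v, hv⟩ := Ideal.mem_span_singleton.1 (Ideal.Quotient.eq_zero_iff_mem.1 h1)
      have : w = (p : W) ^ (n - 1) * v := by
        rw [← sub_eq_zero]
        refine htf _ ?_
        rw [mul_sub, hv, ← mul_assoc, ← pow_succ', Nat.sub_add_cancel (by omega : 1 ≤ n), sub_self]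
      exact ⟨Ideal.Quotient.mk _ v, by rw [← hw, this, map_mul, map_pow, map_natCast]⟩
    rw [← hs m, Finsupp.linearCombination_apply]
    refine Submodule.sum_mem _ fun i _ => ?_
    obtain ⟨c, hc⟩ := hc i
    show s m i • id i ∈ _
    rw [hc, show n - 1 = n - 2 + 1 by omega, pow_succ', mul_assoc, mul_smul, Nat.cast_smul_eq_nsmul,
      ← Nat.cast_smul_eq_nsmul W]
    exact Submodule.smul_mem_smul (Ideal.mem_span_singleton_self _) trivial
  have hmem : ∀ x : M, x ∈ Ideal.span {(p : W)} • (⊤ : Submodule W M) ↔ ∃ y, (p : W) • y = x := by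
    intro x
    rw [Submodule.ideal_span_singleton_smul, Submodule.mem_smul_pointwise_iff_exists]
    simp
  constructor <;> refine le_antisymm (fun m hm => ?_) (sup_le (Submodule.span_le.2 ?_) fun m hm => ?_)
  · obtain ⟨y, hy⟩ := (hmem _).1 hm
    rw [← add_sub_cancel (V y) m]
    refine add_mem (Submodule.mem_sup_left (Submodule.subset_span ⟨y, rfl⟩)) (Submodule.mem_sup_right (hker _ ?_))
    rw [← hVF, map_sub F, hFV, hy, sub_self, map_zero]
  · rintro _ ⟨y, rfl⟩
    exact (hmem _).2 ⟨y, (hFV y).symm⟩
  · obtain ⟨y, rfl⟩ := (hmem _).1 hm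
    exact (hmem _).2 ⟨F y, by rw [LinearMap.map_smulₛₗ, map_natCast]⟩
  · obtain ⟨y, hy⟩ := (hmem _).1 hm
    rw [← add_sub_cancel (F y) m]
    refine add_mem (Submodule.mem_sup_left (Submodule.subset_span ⟨y, rfl⟩)) (Submodule.mem_sup_right (hker _ ?_))
    rw [← hFV, map_sub V, hVF, hy, sub_self, map_zero]
  · rintro _ ⟨y, rfl⟩
    exact (hmem _).2 ⟨y, (hVF y).symm⟩
  · obtain ⟨y, rfl⟩ := (hmem _).1 hm
    exact (hmem _).2 ⟨V y, by rw [LinearMap.map_smulₛₗ, map_natCast]⟩

end Groth.Agent.S16220
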