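import Groth.Statements.S16221
import Mathlib
import Groth.Prelude

set_option linter.all false

set_option autoImplicit false
universe u v
open Disp


namespace Groth.Agent.S16221

theorem projective_quot {R : Type u} [CommRing R] [IsReduced R] (p : ℕ) (hp : 0 < p) (σi : R →+* R)
    (hσi : ∀ a, σi a ^ p = a) (hσi' : ∀ a, σi (a ^ p) = a)
    {M : Type v} [AddCommGroup M] [Module R M] [Module.Finite R M] [Module.Projective R M]
    (F : M →+ M) (hF : ∀ (a : R) (x : M), F (a • x) = a ^ p • F x)
    (N : Submodule R M) (hN : N.FG) (hFN : ∀ x ∈ N, F x = 0)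
    (hexact : ∀ (P : Ideal R), P.IsMaximal → ∀ x : M, F x ∈ P • (⊤ : Submodule R M) → x ∈ N ⊔ P • (⊤ : Submodule R M)) :
    Module.Projective R (M ⧸ N) := by
  classical
  haveI : Module.FinitePresentation R M := Module.finitePresentation_of_projective R M
  haveI : Module.FinitePresentation R (M ⧸ N) :=
    Module.finitePresentation_of_surjective N.mkQ N.mkQ_surjective (by rwa [Submodule.ker_mkQ])
  refine Module.projective_of_localization_maximal fun P hP => ?_
  letI : Field (R ⧸ P) := Ideal.Quotient.field P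
  set S : Submodule R (M ⧸ N) := P • ⊤ with hS
  haveI : Module.Finite (R ⧸ P) ((M ⧸ N) ⧸ S) := Module.Finite.of_restrictScalars_finite R _ _
  let b := Module.Free.chooseBasis (R ⧸ P) ((M ⧸ N) ⧸ S)
  let y : Module.Free.ChooseBasisIndex (R ⧸ P) ((M ⧸ N) ⧸ S) → M := fun i =>
    (Submodule.mkQ_surjective N (Submodule.mkQ_surjective S (b i)).choose).choose
  have hy : ∀ i, S.mkQ (N.mkQ (y i)) = b i := fun i => by
    rw [(Submodule.mkQ_surjective N (Submodule.mkQ_surjective S (b i)).choose).choose_spec,
      (Submodule.mkQ_surjective S (b i)).choose_spec]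
  set T : Submodule R M := P • ⊤ with hT
  have hli : LinearIndependent (R ⧸ P) fun i => T.mkQ (F (y i)) := by
    rw [Fintype.linearIndependent_iff]
    intro c hc i
    choose d hd using fun i => Ideal.Quotient.mk_surjective (c i)
    have hFx : F (∑ i, σi (d i) • y i) ∈ T := by
      rw [map_sum, ← Submodule.Quotient.mk_eq_zero, ← Submodule.mkQ_apply, map_sum, ← hc]
      exact Finset.sum_congr rfl fun i _ => by rw [hF, hσi, map_smul, ← hd i]; rfl
    have h0 : S.mkQ (N.mkQ (∑ i, σi (d i) • y i)) = 0 := by
      obtain ⟨n, hn, t, ht, hnt⟩ := Submodule.mem_sup.1 (hexact P hP _ hFx)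
      rw [← hnt, map_add, show N.mkQ n = 0 from (Submodule.Quotient.mk_eq_zero N).2 hn, zero_add]
      refine (Submodule.Quotient.mk_eq_zero S).2 ?_
      have hle : T.map N.mkQ ≤ S := by rw [hT, Submodule.map_smul'', hS]; exact Submodule.smul_mono le_rfl le_top
      exact hle ⟨t, ht, rfl⟩
    simp only [map_sum, map_smul, hy] at h0
    have h1 := Fintype.linearIndependent_iff.1 b.linearIndependent (fun i => Ideal.Quotient.mk P (σi (d i)))
      (by rw [← h0]; rfl) i
    rw [← hd i, Ideal.Quotient.eq_zero_iff_mem, ← hσi (d i)]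
    exact Ideal.pow_mem_of_mem _ (Ideal.Quotient.eq_zero_iff_mem.1 h1) p hp
  obtain ⟨f, hf⟩ : ∃ f : (M ⧸ T) →ₗ[R ⧸ P] (Module.Free.ChooseBasisIndex (R ⧸ P) ((M ⧸ N) ⧸ S) → R ⧸ P),
      ∀ i, f (T.mkQ (F (y i))) = Pi.single i 1 := by
    let g := Fintype.linearCombination (R ⧸ P) fun i => T.mkQ (F (y i))
    obtain ⟨f, hf⟩ := LinearMap.exists_leftInverse_of_injective g
      (LinearMap.ker_eq_bot.2 hli.fintypeLinearCombination_injective)
    refine ⟨f, fun i => ?_⟩
    have := LinearMap.congr_fun hf (Pi.single i 1)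
    rwa [LinearMap.comp_apply, Fintype.linearCombination_apply_single, one_smul] at this
  let π : (Module.Free.ChooseBasisIndex (R ⧸ P) ((M ⧸ N) ⧸ S) → R) →ₗ[R]
      (Module.Free.ChooseBasisIndex (R ⧸ P) ((M ⧸ N) ⧸ S) → R ⧸ P) :=
    LinearMap.pi fun i => (Ideal.Quotient.mkₐ R P).toLinearMap.comp (LinearMap.proj i)
  have hπ : Function.Surjective π := fun c => ⟨fun i => (Ideal.Quotient.mk_surjective (c i)).choose,
    funext fun i => (Ideal.Quotient.mk_surjective (c i)).choose_spec⟩
  obtain ⟨φ, hφ⟩ := Module.projective_lifting_property π ((f.restrictScalars R).comp T.mkQ) hπ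
  let ψ₀ : M →ₗ[R] (Module.Free.ChooseBasisIndex (R ⧸ P) ((M ⧸ N) ⧸ S) → R) :=
    { toFun := fun x i => σi (φ (F x) i)
      map_add' := fun x x' => funext fun i => by simp
      map_smul' := fun a x => funext fun i => by simp [hF, hσi'] }
  have hψN : N ≤ LinearMap.ker ψ₀ := fun x hx => by
    rw [LinearMap.mem_ker]
    exact funext fun i => by simp [ψ₀, hFN x hx]
  let ψ : (M ⧸ N) →ₗ[R] _ := N.liftQ ψ₀ hψN
  let g : (Module.Free.ChooseBasisIndex (R ⧸ P) ((M ⧸ N) ⧸ S) → R) →ₗ[R] (M ⧸ N) :=
    Fintype.linearCombination R fun i => N.mkQ (y i)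
  have hdiag : ∀ i j, LinearMap.toMatrix' (ψ.comp g) j i - (if j = i then 1 else 0) ∈ P := by
    intro i j
    rw [LinearMap.toMatrix'_apply, LinearMap.comp_apply]
    have hgi : g (Pi.single i 1) = N.mkQ (y i) := by simp [g]
    rw [hgi]
    show σi (φ (F (y i)) j) - _ ∈ P
    have h := congrFun (LinearMap.congr_fun hφ (F (y i))) j
    simp only [π, LinearMap.comp_apply, LinearMap.pi_apply, LinearMap.proj_apply, AlgHom.toLinearMap_apply,
      Ideal.Quotient.mkₐ_eq_mk, LinearMap.coe_restrictScalars, hf] at h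
    have hmem : φ (F (y i)) j - (if j = i then 1 else 0) ∈ P := by
      rw [← Ideal.Quotient.eq, h]; split_ifs with hji <;> simp [hji]
    refine hP.isPrime.mem_of_pow_mem p ?_
    have hfr : (σi (φ (F (y i)) j) - (if j = i then 1 else 0)) = σi (φ (F (y i)) j - (if j = i then 1 else 0)) := by
      rw [map_sub]; split_ifs <;> simp
    rw [hfr, hσi]
    exact hmem
  have hdet : (LinearMap.toMatrix' (ψ.comp g)).det ∉ P := by
    intro h
    have h1 : Ideal.Quotient.mk P (LinearMap.toMatrix' (ψ.comp g)).det = 1 := by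
      rw [RingHom.map_det, show (Ideal.Quotient.mk P).mapMatrix (LinearMap.toMatrix' (ψ.comp g)) = 1 from
        Matrix.ext fun j i => by
          rw [RingHom.mapMatrix_apply, Matrix.map_apply, Matrix.one_apply, (Ideal.Quotient.eq).2 (hdiag i j)]
          split_ifs <;> simp, Matrix.det_one]
    rw [Ideal.Quotient.eq_zero_iff_mem.2 h] at h1
    exact zero_ne_one h1
  have hspan : LinearMap.range g ⊔ S = ⊤ := by
    rw [eq_top_iff]
    intro x _
    obtain ⟨c, hc⟩ : ∃ c : _ → R, S.mkQ x = ∑ i, c i • S.mkQ (N.mkQ (y i)) :=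
      ⟨fun i => (Ideal.Quotient.mk_surjective (b.repr (S.mkQ x) i)).choose, by
        conv_lhs => rw [← b.sum_repr (S.mkQ x)]
        refine Finset.sum_congr rfl fun i _ => ?_
        conv_lhs => rw [← (Ideal.Quotient.mk_surjective (b.repr (S.mkQ x) i)).choose_spec]
        rw [hy]; rfl⟩
    have hmem : x - g c ∈ S := by
      rw [← Submodule.Quotient.mk_eq_zero, ← Submodule.mkQ_apply, map_sub, hc, sub_eq_zero]
      simp [g, Fintype.linearCombination_apply]
    have := add_mem (Submodule.mem_sup_left (T := S) (LinearMap.mem_range_self g c)) (Submodule.mem_sup_right (S := LinearMap.range g) hmem)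
    rwa [add_sub_cancel] at this
  obtain ⟨s, hs1, hs2⟩ := Submodule.exists_sub_one_mem_and_smul_eq_zero_of_fg_of_le_smul P
    (⊤ : Submodule R ((M ⧸ N) ⧸ LinearMap.range g)) Module.Finite.fg_top (by
      intro z _
      obtain ⟨x, rfl⟩ := Submodule.mkQ_surjective _ z
      obtain ⟨u, hu, t, ht, rfl⟩ := Submodule.mem_sup.1 (hspan.ge (Submodule.mem_top : x ∈ ⊤))
      rw [map_add, Submodule.mkQ_apply, (Submodule.Quotient.mk_eq_zero _).2 hu, zero_add]
      have hle : S.map (LinearMap.range g).mkQ ≤ P • ⊤ := (le_of_eq (Submodule.map_smul'' P (⊤ : Submodule R (M ⧸ N)) (LinearMap.range g).mkQ)).trans (Submodule.smul_mono le_rfl le_top)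
      exact hle ⟨t, ht, rfl⟩)
  have hsP : s ∉ P := fun h => hP.ne_top ((Ideal.eq_top_iff_one P).2 (by simpa using P.sub_mem h hs1))
  let gl := LocalizedModule.map P.primeCompl g
  have hgl : Function.Bijective gl := by
    constructor
    · rw [← LinearMap.ker_eq_bot, eq_bot_iff]
      intro z hz
      induction z using LocalizedModule.induction_on with
      | _ c t =>
        rw [LinearMap.mem_ker, LocalizedModule.map_mk, ← LocalizedModule.zero_mk t, LocalizedModule.mk_eq] at hz
        obtain ⟨v, hv⟩ := hz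
        rw [smul_zero, smul_zero, Submonoid.smul_def, Submonoid.smul_def, smul_smul, ← map_smul] at hv
        have h0 := congrArg ψ hv
        rw [map_zero, ← LinearMap.comp_apply, ← Matrix.toLin'_toMatrix' (ψ.comp g), Matrix.toLin'_apply] at h0
        have h1 := congrArg (LinearMap.toMatrix' (ψ.comp g)).adjugate.mulVec h0
        rw [Matrix.mulVec_mulVec, Matrix.adjugate_mul, Matrix.mulVec_zero, Matrix.smul_mulVec, Matrix.one_mulVec, smul_smul] at h1
        rw [Submodule.mem_bot, ← LocalizedModule.zero_mk t, LocalizedModule.mk_eq]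
        refine ⟨⟨_, hdet⟩ * v, ?_⟩
        rw [smul_zero, smul_zero, Submonoid.smul_def, Submonoid.smul_def, smul_smul]
        exact (congrArg (· • c) (by simp only [Submonoid.coe_mul]; ring)).trans h1
    · intro z
      induction z using LocalizedModule.induction_on with
      | _ x t =>
        have hx : s • x ∈ LinearMap.range g := by
          rw [← Submodule.Quotient.mk_eq_zero, Submodule.Quotient.mk_smul]
          exact hs2 _ trivial
        obtain ⟨c, hc⟩ := hx
        refine ⟨LocalizedModule.mk c (⟨s, hsP⟩ * t), ?_⟩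
        rw [LocalizedModule.map_mk, hc]
        exact LocalizedModule.mk_cancel_common_left ⟨s, hsP⟩ t x
  haveI : Module.Free (Localization P.primeCompl)
      (LocalizedModule P.primeCompl (Module.Free.ChooseBasisIndex (R ⧸ P) ((M ⧸ N) ⧸ S) → R)) :=
    Module.free_of_isLocalizedModule (R := R) P.primeCompl (LocalizedModule.mkLinearMap P.primeCompl _)
  exact Module.Projective.of_equiv (LinearEquiv.ofBijective gl hgl)

theorem dvd_of_coeff_zero {p : ℕ} [Fact p.Prime] {k : Type u} [CommRing k] [CharP k p] [PerfectRing k p]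
    (x : WittVector p k) (hx : x.coeff 0 = 0) : ∃ u : WittVector p k, x = u * (p : WittVector p k) := by
  refine ⟨WittVector.mk p fun i => (_root_.frobeniusEquiv k p).symm (x.coeff (i + 1)), ?_⟩
  ext n
  rcases n with - | n
  · rw [WittVector.mul_charP_coeff_zero, hx]
  · rw [WittVector.mul_charP_coeff_succ, WittVector.coeff_mk, frobeniusEquiv_symm_pow_p]

theorem frobenius_sub_pow {p : ℕ} [Fact p.Prime] {k : Type u} [CommRing k] [CharP k p] [PerfectRing k p]
    (x : WittVector p k) : ∃ u : WittVector p k, WittVector.frobenius x - x ^ p = u * (p : WittVector p k) := by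
  refine dvd_of_coeff_zero _ ?_
  rw [← WittVector.constantCoeff_apply, map_sub, map_pow, WittVector.constantCoeff_apply, WittVector.constantCoeff_apply,
    WittVector.coeff_frobenius_charP, sub_self]

/-- Let p be a prime and k a perfect ring of characteristic p, so that the Frobenius σ of W = W(k) is
bijective, W has no p-torsion and W/p^n W = W_n(k) (the ideal p^n W is the kernel of the truncation
to length n). Let n ≥ 2 and let M be a truncated Dieudonné module of level n over k: a W-module on
which W acts through W/p^n W, finitely generated and projective over W/p^n W, with a σ-semilinear F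
: M → M and a σ⁻¹-semilinear V : M → M such that FV = VF = p. Then M/VM is a projective k-module;
here VM ⊇ VFM = pM, and the statement is made for the W/pW-module obtained from M/pM by dividing out
the image of V, W/pW being identified with k by the first Witt component. -/
theorem result (p : ℕ) [Fact p.Prime] (k : Type u) [CommRing k]
    [CharP k p] [PerfectRing k p] (n : ℕ) (hn : 2 ≤ n)
    (M : Type v) [AddCommGroup M] [Module (WittVector p k) M]
    [Module (WittVector p k ⧸ Ideal.span {(p : WittVector p k) ^ n}) M] [IsScalarTower (WittVector p k) (WittVector p k ⧸ Ideal.span {(p : WittVector p k) ^ n}) M]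
    [Module.Finite (WittVector p k ⧸ Ideal.span {(p : WittVector p k) ^ n}) M] [Module.Projective (WittVector p k ⧸ Ideal.span {(p : WittVector p k) ^ n}) M]
    (F : M →ₛₗ[(WittVector.frobenius : WittVector p k →+* WittVector p k)] M)
    (V : M →ₛₗ[((WittVector.frobeniusEquiv p k).symm : WittVector p k →+* WittVector p k)] M)
    (hFV : ∀ m : M, F (V m) = (p : WittVector p k) • m) (hVF : ∀ m : M, V (F m) = (p : WittVector p k) • m) :
    Module.Projective (WittVector p k ⧸ Ideal.span {(p : WittVector p k)})
      ((M ⧸ (Ideal.span {(p : WittVector p k)} • (⊤ : Submodule (WittVector p k) M))) ⧸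
        Submodule.span (WittVector p k ⧸ Ideal.span {(p : WittVector p k)})
          (Set.range fun m : M => (Ideal.span {(p : WittVector p k)} • (⊤ : Submodule (WittVector p k) M)).mkQ (V m))) := by
  classical
  haveI hfinM : Module.Finite (WittVector p k) M := Module.Finite.trans (WittVector p k ⧸ Ideal.span {(p : WittVector p k) ^ n}) M
  set W := WittVector p k
  set I : Ideal W := Ideal.span {(p : W)} with hI
  set pM : Submodule W M := I • ⊤ with hpM
  set R := W ⧸ I
  let cc : R →+* k := Ideal.Quotient.lift I WittVector.constantCoeff (by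
    intro x hx
    obtain ⟨u, rfl⟩ := Ideal.mem_span_singleton'.1 hx
    rw [map_mul, map_natCast, CharP.cast_eq_zero, mul_zero])
  have hcc : ∀ x : W, cc (Ideal.Quotient.mk I x) = x.coeff 0 := fun x => rfl
  have hccbij : Function.Bijective cc := by
    constructor
    · rw [injective_iff_map_eq_zero]
      intro z hz
      obtain ⟨x, rfl⟩ := Ideal.Quotient.mk_surjective z
      obtain ⟨u, hu⟩ := dvd_of_coeff_zero x hz
      rw [Ideal.Quotient.eq_zero_iff_mem, hu]
      exact Ideal.mul_mem_left _ _ (Ideal.mem_span_singleton_self _)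
    · exact fun a => ⟨Ideal.Quotient.mk I (WittVector.teichmuller p a), by rw [hcc, WittVector.teichmuller_coeff_zero]⟩
  let e : R ≃+* k := RingEquiv.ofBijective cc hccbij
  haveI : IsReduced k := ⟨fun x hx => by
    obtain ⟨m, hm⟩ := hx
    have h : x ^ p ^ m = 0 := pow_eq_zero_of_le (Nat.lt_pow_self (Fact.out : p.Prime).one_lt).le hm
    exact (iterateFrobeniusEquiv k p m).injective (by rw [iterateFrobeniusEquiv_def, map_zero, h])⟩
  haveI : IsReduced R := isReduced_of_injective e e.injective
  let σi : R →+* R := (e.symm.toRingHom.comp (_root_.frobeniusEquiv k p).symm.toRingHom).comp e.toRingHom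
  have hσi : ∀ a, σi a ^ p = a := fun a => e.injective (by
    simp only [σi, map_pow, RingHom.coe_comp, Function.comp_apply, RingEquiv.toRingHom_eq_coe, RingEquiv.coe_toRingHom,
      RingEquiv.apply_symm_apply, frobeniusEquiv_symm_pow_p])
  have hσi' : ∀ a, σi (a ^ p) = a := fun a => e.injective (by
    simp only [σi, RingHom.coe_comp, Function.comp_apply, RingEquiv.toRingHom_eq_coe, RingEquiv.coe_toRingHom,
      RingEquiv.apply_symm_apply, map_pow, frobeniusEquiv_symm_pow_p])
  -- `pM`
  have hmemp : ∀ x ∈ pM, ∃ m : M, x = (p : W) • m := by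
    intro x hx
    rw [hpM, hI, Submodule.ideal_span_singleton_smul] at hx
    obtain ⟨m, -, rfl⟩ := hx
    exact ⟨m, rfl⟩
  have hpmem : ∀ m : M, (p : W) • m ∈ pM := fun m => Submodule.smul_mem_smul (Ideal.mem_span_singleton_self _) trivial
  -- projectivity and finiteness of the reduction
  obtain ⟨l, π, hπ⟩ := Module.Finite.exists_fin' (W ⧸ Ideal.span {(p : W) ^ n}) M
  obtain ⟨ι, hι⟩ := Module.projective_lifting_property π LinearMap.id hπ
  have hιp : ∀ i (x : M), x ∈ pM → Ideal.Quotient.factor (show Ideal.span {(p : W) ^ n} ≤ I from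
      (Ideal.span_singleton_le_iff_mem _).2 (Ideal.pow_mem_of_mem _ (Ideal.mem_span_singleton_self _) n (by omega))) (ι x i) = 0 := by
    intro i x hx
    obtain ⟨m, rfl⟩ := hmemp x hx
    rw [← algebraMap_smul (W ⧸ Ideal.span {(p : W) ^ n}) (p : W) m, map_smul, Pi.smul_apply, smul_eq_mul, map_mul,
      Ideal.Quotient.algebraMap_eq, Ideal.Quotient.factor_mk,
      Ideal.Quotient.eq_zero_iff_mem.2 (Ideal.mem_span_singleton_self _), zero_mul]
  haveI : Module.Finite R (M ⧸ pM) := Module.Finite.of_restrictScalars_finite W _ _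
  haveI : Module.Projective R (M ⧸ pM) := by
    let toR : (W ⧸ Ideal.span {(p : W) ^ n}) →ₐ[W] R := Ideal.Quotient.factorₐ W (show Ideal.span {(p : W) ^ n} ≤ I from
      (Ideal.span_singleton_le_iff_mem _).2 (Ideal.pow_mem_of_mem _ (Ideal.mem_span_singleton_self _) n (by omega)))
    let ι₁ : (M ⧸ pM) →ₗ[W] (Fin l → R) := pM.liftQ
      (LinearMap.pi fun i => toR.toLinearMap.comp ((LinearMap.proj i).comp (ι.restrictScalars W))) (fun x hx => by
        rw [LinearMap.mem_ker]; exact funext fun i => hιp i x hx)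
    let ι₂ : (M ⧸ pM) →ₗ[R] (Fin l → R) :=
      { toFun := ι₁, map_add' := ι₁.map_add
        map_smul' := fun a x => by
          obtain ⟨w, rfl⟩ := Ideal.Quotient.mk_surjective a
          exact ι₁.map_smul w x }
    let π₂ : (Fin l → R) →ₗ[R] (M ⧸ pM) := Fintype.linearCombination R fun i => pM.mkQ (π (Pi.single i 1))
    refine Module.Projective.of_split ι₂ π₂ (LinearMap.ext fun z => ?_)
    obtain ⟨x, rfl⟩ := pM.mkQ_surjective z
    rw [LinearMap.comp_apply, LinearMap.id_apply]
    conv_rhs => rw [← LinearMap.id_apply (R := W ⧸ Ideal.span {(p : W) ^ n}) x, ← hι, LinearMap.comp_apply,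
      pi_eq_sum_univ' (ι x), map_sum, map_sum]
    simp only [π₂, Fintype.linearCombination_apply]
    refine Finset.sum_congr rfl fun i _ => ?_
    obtain ⟨w, hw⟩ := Ideal.Quotient.mk_surjective (ι x i)
    have h1 : ι₂ (pM.mkQ x) i = Ideal.Quotient.mk I w := by
      show toR (ι x i) = _
      rw [← hw]; rfl
    rw [h1, map_smul, ← hw, ← Ideal.Quotient.algebraMap_eq, ← Ideal.Quotient.algebraMap_eq, algebraMap_smul, algebraMap_smul, map_smul]
  -- Frobenius on the reduction
  let Fb : (M ⧸ pM) →+ (M ⧸ pM) := QuotientAddGroup.lift pM.toAddSubgroup (pM.mkQ.toAddMonoidHom.comp F.toAddMonoidHom) (by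
    intro x hx
    obtain ⟨m, rfl⟩ := hmemp x hx
    rw [AddMonoidHom.mem_ker]
    show pM.mkQ (F ((p : W) • m)) = 0
    rw [LinearMap.map_smulₛₗ, map_natCast]
    exact (Submodule.Quotient.mk_eq_zero _).2 (hpmem _))
  have hFb : ∀ m, Fb (pM.mkQ m) = pM.mkQ (F m) := fun m => rfl
  refine projective_quot (R := R) p (Fact.out : p.Prime).pos σi hσi hσi' Fb ?_ _ ?_ ?_ ?_
  · intro a x
    obtain ⟨w, rfl⟩ := Ideal.Quotient.mk_surjective a
    obtain ⟨m, rfl⟩ := pM.mkQ_surjective x
    show Fb (pM.mkQ (w • m)) = Ideal.Quotient.mk I (w ^ p) • pM.mkQ (F m)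
    rw [hFb, LinearMap.map_smulₛₗ F, ← Ideal.Quotient.algebraMap_eq, algebraMap_smul, Submodule.mkQ_apply,
      Submodule.mkQ_apply, ← Submodule.Quotient.mk_smul, Submodule.Quotient.eq, ← sub_smul]
    obtain ⟨u, hu⟩ := frobenius_sub_pow w
    rw [hu, mul_comm, mul_smul]
    exact hpmem _
  · -- finite generation
    obtain ⟨G, hG⟩ := hfinM.fg_top
    refine ⟨G.image fun m => pM.mkQ (V m), le_antisymm (Submodule.span_mono (by
      intro z hz; obtain ⟨m, -, rfl⟩ := Finset.mem_image.1 hz; exact ⟨m, rfl⟩)) (Submodule.span_le.2 ?_)⟩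
    rintro _ ⟨m, rfl⟩
    show pM.mkQ (V m) ∈ _
    have hm : m ∈ Submodule.span W (G : Set M) := hG ▸ trivial
    induction hm using Submodule.span_induction with
    | mem x hx => exact Submodule.subset_span (Finset.mem_coe.2 (Finset.mem_image.2 ⟨x, hx, rfl⟩))
    | zero => rw [map_zero, map_zero]; exact Submodule.zero_mem _
    | add x y _ _ hx hy => rw [map_add, map_add]; exact Submodule.add_mem _ hx hy
    | smul w x _ hx =>
      rw [LinearMap.map_smulₛₗ, map_smul]
      exact Submodule.smul_of_tower_mem _ _ hx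
  · intro x hx
    induction hx using Submodule.span_induction with
    | mem z hz =>
      obtain ⟨m, rfl⟩ := hz
      show pM.mkQ (F (V m)) = 0
      rw [hFV]
      exact (Submodule.Quotient.mk_eq_zero _).2 (hpmem _)
    | zero => exact map_zero _
    | add x y _ _ hx hy => rw [map_add, hx, hy, add_zero]
    | smul a x _ hx =>
      obtain ⟨w, rfl⟩ := Ideal.Quotient.mk_surjective a
      obtain ⟨m, rfl⟩ := pM.mkQ_surjective x
      show Fb (pM.mkQ (w • m)) = 0
      rw [hFb] at hx ⊢
      rw [LinearMap.map_smulₛₗ, map_smul, hx, smul_zero]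
  · intro P hP z hz
    obtain ⟨x, rfl⟩ := pM.mkQ_surjective z
    set Pk : Ideal k := P.comap e.symm.toRingHom with hPk
    haveI : Pk.IsPrime := Ideal.IsPrime.comap _ (hK := hP.isPrime)
    set Ph : Ideal W := P.comap (Ideal.Quotient.mk I) with hPh
    have hPh0 : ∀ w : W, w ∈ Ph ↔ w.coeff 0 ∈ Pk := fun w => by
      rw [hPh, hPk, Ideal.mem_comap, Ideal.mem_comap, ← hcc]
      show _ ↔ e.symm (e (Ideal.Quotient.mk I w)) ∈ P
      rw [RingEquiv.symm_apply_apply]
    let J : Ideal W := RingHom.ker ((WittVector.truncate 2).comp (WittVector.map (p := p) (Ideal.Quotient.mk Pk)))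
    have hJ : ∀ w : W, w ∈ J ↔ ∀ i < 2, w.coeff i ∈ Pk := fun w => by
      show w ∈ RingHom.ker _ ↔ _
      rw [RingHom.mem_ker, RingHom.comp_apply, ← RingHom.mem_ker, WittVector.mem_ker_truncate]
      refine forall₂_congr fun i _ => ?_
      rw [WittVector.map_coeff, Ideal.Quotient.eq_zero_iff_mem]
    have hpmM : pM ≤ Ph • ⊤ := by
      rw [hpM]
      refine Submodule.smul_mono_left ?_
      intro w hw
      rw [hPh, Ideal.mem_comap, Ideal.Quotient.eq_zero_iff_mem.2 hw]
      exact P.zero_mem
    have hlift : ∀ y : M, pM.mkQ y ∈ P • (⊤ : Submodule R (M ⧸ pM)) → y ∈ Ph • (⊤ : Submodule W M) := by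
      intro y hy
      have hle : ∀ z ∈ P • (⊤ : Submodule R (M ⧸ pM)), z ∈ (Ph • (⊤ : Submodule W M)).map pM.mkQ := by
        intro z hz
        refine Submodule.smul_induction_on hz (fun r hr m _ => ?_) (fun a b ha hb => Submodule.add_mem _ ha hb)
        obtain ⟨w, rfl⟩ := Ideal.Quotient.mk_surjective r
        obtain ⟨m, rfl⟩ := pM.mkQ_surjective m
        exact ⟨w • m, Submodule.smul_mem_smul (by rw [hPh, Ideal.mem_comap]; exact hr) trivial, by
          rw [map_smul, ← Ideal.Quotient.algebraMap_eq, algebraMap_smul]⟩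
      obtain ⟨y', hy', hyy'⟩ := hle _ hy
      have := (Submodule.Quotient.eq pM).1 hyy'.symm
      simpa using add_mem hy' (hpmM this)
    rw [hFb] at hz
    have hFx := hlift _ hz
    -- apply V
    have hVP : ∀ y ∈ Ph • (⊤ : Submodule W M), ∃ m : M, V y - (p : W) • V m ∈ J • (⊤ : Submodule W M) := by
      intro y hy
      refine Submodule.smul_induction_on hy (fun w hw m _ => ?_) ?_
      · obtain ⟨u, hu⟩ := dvd_of_coeff_zero (w - WittVector.teichmuller p (w.coeff 0)) (by
          rw [← WittVector.constantCoeff_apply, map_sub, WittVector.constantCoeff_apply, WittVector.constantCoeff_apply,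
            WittVector.teichmuller_coeff_zero, sub_self])
        refine ⟨u • m, ?_⟩
        rw [sub_eq_iff_eq_add.1 hu, add_smul, map_add, mul_comm u, mul_smul, LinearMap.map_smulₛₗ V (p : W), map_natCast,
          add_sub_cancel_left, LinearMap.map_smulₛₗ]
        refine Submodule.smul_mem_smul ?_ trivial
        rw [hJ]
        intro i hi
        have hT : ((WittVector.frobeniusEquiv p k).symm : W →+* W) (WittVector.teichmuller p (w.coeff 0)) =
            WittVector.teichmuller p ((_root_.frobeniusEquiv k p).symm (w.coeff 0)) := by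
          show (WittVector.frobeniusEquiv p k).symm _ = _
          rw [RingEquiv.symm_apply_eq]
          ext j
          rw [show (WittVector.frobeniusEquiv p k) _ = WittVector.frobenius (WittVector.teichmuller p ((_root_.frobeniusEquiv k p).symm (w.coeff 0))) from rfl,
            WittVector.coeff_frobenius_charP]
          rcases j with - | j
          · rw [WittVector.teichmuller_coeff_zero, WittVector.teichmuller_coeff_zero, frobeniusEquiv_symm_pow_p]
          · rw [WittVector.teichmuller_coeff_pos _ _ _ j.succ_pos, WittVector.teichmuller_coeff_pos _ _ _ j.succ_pos,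
              zero_pow (Fact.out : p.Prime).ne_zero]
        rw [hT]
        rcases i with - | i
        · rw [WittVector.teichmuller_coeff_zero]
          refine Ideal.IsPrime.mem_of_pow_mem inferInstance p ?_
          rw [frobeniusEquiv_symm_pow_p]
          exact (hPh0 w).1 hw
        · rw [WittVector.teichmuller_coeff_pos _ _ _ i.succ_pos]; exact Pk.zero_mem
      · rintro a b ⟨ma, hma⟩ ⟨mb, hmb⟩
        exact ⟨ma + mb, by rw [map_add, map_add, smul_add, add_sub_add_comm]; exact add_mem hma hmb⟩
    obtain ⟨m, hm⟩ := hVP _ hFx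
    rw [hVF, ← smul_sub] at hm
    set y := x - V m with hy
    have hy' : y ∈ Ph • (⊤ : Submodule W M) := by
      have hcoord : ∀ i, ∃ c ∈ Ph, Ideal.Quotient.mk _ c = ι y i := by
        intro i
        obtain ⟨c, hc⟩ := Ideal.Quotient.mk_surjective (ι y i)
        refine ⟨c, (hPh0 c).2 ?_, hc⟩
        have hJn : ∀ z ∈ J • (⊤ : Submodule W M), ι z i ∈ J.map (Ideal.Quotient.mk (Ideal.span {(p : W) ^ n})) := by
          intro z hz
          refine Submodule.smul_induction_on hz (fun w hw m _ => ?_) (fun a b ha hb => by rw [map_add]; exact add_mem ha hb)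
          rw [← algebraMap_smul (W ⧸ Ideal.span {(p : W) ^ n}) w m, map_smul, Pi.smul_apply, smul_eq_mul,
            Ideal.Quotient.algebraMap_eq]
          exact Ideal.mul_mem_right _ _ (Ideal.mem_map_of_mem _ hw)
        have h := hJn _ hm
        rw [← algebraMap_smul (W ⧸ Ideal.span {(p : W) ^ n}) (p : W) y, map_smul, Pi.smul_apply, smul_eq_mul, ← hc,
          Ideal.Quotient.algebraMap_eq, ← map_mul, Ideal.mem_map_iff_of_surjective _ Ideal.Quotient.mk_surjective] at h
        obtain ⟨z, hzJ, hzeq⟩ := h
        rw [Ideal.Quotient.eq, Ideal.mem_span_singleton'] at hzeq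
        obtain ⟨u, hu⟩ := hzeq
        have h1 := congrArg (fun t : W => (WittVector.map (p := p) (Ideal.Quotient.mk Pk) t).coeff 1) (eq_add_of_sub_eq' hu.symm)
        simp only [map_add] at h1
        have hz0 : (WittVector.truncate 2) (WittVector.map (p := p) (Ideal.Quotient.mk Pk) (u * (p : W) ^ n)) = 0 := by
          rw [← RingHom.mem_ker, WittVector.mem_ker_truncate]
          intro i hi
          rw [WittVector.map_coeff, WittVector.mul_pow_charP_coeff_zero u (lt_of_lt_of_le hi hn), map_zero]
        have hzJ' : (WittVector.truncate 2) (WittVector.map (p := p) (Ideal.Quotient.mk Pk) z) = 0 := hzJ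
        have hp0 : (WittVector.truncate 2) (WittVector.map (p := p) (Ideal.Quotient.mk Pk) ((p : W) * c)) = 0 := by
          have h2 : (p : W) * c = z - u * (p : W) ^ n := by rw [hu]; ring
          rw [h2, map_sub, map_sub, hzJ', hz0, sub_zero]
        rw [← RingHom.mem_ker, WittVector.mem_ker_truncate] at hp0
        have h3 := hp0 1 (by omega)
        rw [WittVector.map_coeff, mul_comm, WittVector.mul_charP_coeff_succ, Ideal.Quotient.eq_zero_iff_mem] at h3
        exact Ideal.IsPrime.mem_of_pow_mem inferInstance p h3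
      choose c hc hc' using hcoord
      have hdec : y = ∑ i, c i • π (Pi.single i 1) := by
        conv_lhs => rw [← LinearMap.id_apply (R := W ⧸ Ideal.span {(p : W) ^ n}) y, ← hι, LinearMap.comp_apply,
          pi_eq_sum_univ' (ι y), map_sum]
        refine Finset.sum_congr rfl fun i _ => ?_
        rw [map_smul, ← hc' i, ← Ideal.Quotient.algebraMap_eq, algebraMap_smul]
      rw [hdec]
      exact Submodule.sum_mem _ fun i _ => Submodule.smul_mem_smul (hc i) trivial
    rw [show pM.mkQ x = pM.mkQ (V m) + pM.mkQ y by rw [← map_add, hy, add_sub_cancel]]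
    refine Submodule.add_mem_sup (Submodule.subset_span ⟨m, rfl⟩) ?_
    refine Submodule.smul_induction_on hy' (fun w hw z _ => ?_) (fun a b ha hb => by rw [map_add]; exact add_mem ha hb)
    rw [map_smul]
    exact Submodule.smul_mem_smul (r := Ideal.Quotient.mk I w) (n := pM.mkQ z) hw trivial

end Groth.Agent.S16221
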