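import Groth.Statements.S16222
import Groth.Agent.DispLib.DieuSplit

set_option autoImplicit false
universe u v
open Disp

namespace Groth.Agent.S16222
open Groth.Agent.DispLib in

/-- Let p be a prime and k a perfect ring of characteristic p, so that the Frobenius σ of W = W(k) is
bijective and W has no p-torsion. Let M be a projective Dieudonné module over k: a finitely
generated projective W-module with a σ-semilinear F : M → M and a σ⁻¹-semilinear V : M → M such that
FV = VF = p. Then the reduction M/pM satisfies the level-one conditions: the preimage of pM under F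
is VM + pM, the preimage of pM under V is FM + pM (so Ker F = Im V and Ker V = Im F on M/pM), and
M/VM, that is M/pM divided by the image of V, is a projective module over W/pW, which the first Witt
component identifies with k. -/
theorem result (p : ℕ) [Fact p.Prime] (k : Type u) [CommRing k]
    [CharP k p] [PerfectRing k p]
    (M : Type v) [AddCommGroup M] [Module (WittVector p k) M] [Module.Finite (WittVector p k) M] [Module.Projective (WittVector p k) M]
    (F : M →ₛₗ[(WittVector.frobenius : WittVector p k →+* WittVector p k)] M)
    (V : M →ₛₗ[((WittVector.frobeniusEquiv p k).symm : WittVector p k →+* WittVector p k)] M)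
    (hFV : ∀ m : M, F (V m) = (p : WittVector p k) • m) (hVF : ∀ m : M, V (F m) = (p : WittVector p k) • m) :
    ((Ideal.span {(p : WittVector p k)} • (⊤ : Submodule (WittVector p k) M)).comap F =
        Submodule.span (WittVector p k) (Set.range V) ⊔ Ideal.span {(p : WittVector p k)} • (⊤ : Submodule (WittVector p k) M) ∧
      (Ideal.span {(p : WittVector p k)} • (⊤ : Submodule (WittVector p k) M)).comap V =
        Submodule.span (WittVector p k) (Set.range F) ⊔ Ideal.span {(p : WittVector p k)} • (⊤ : Submodule (WittVector p k) M)) ∧
    Module.Projective (WittVector p k ⧸ Ideal.span {(p : WittVector p k)})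
      ((M ⧸ (Ideal.span {(p : WittVector p k)} • (⊤ : Submodule (WittVector p k) M))) ⧸
        Submodule.span (WittVector p k ⧸ Ideal.span {(p : WittVector p k)})
          (Set.range fun m : M => (Ideal.span {(p : WittVector p k)} • (⊤ : Submodule (WittVector p k) M)).mkQ (V m))) := by
  have hspanV : Submodule.span (WittVector p k) (Set.range V) = rangeV V :=
    le_antisymm (Submodule.span_le.2 le_rfl) Submodule.subset_span
  have hspanF : Submodule.span (WittVector p k) (Set.range F) = rangeF F :=
    le_antisymm (Submodule.span_le.2 le_rfl) Submodule.subset_span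
  set K := Ideal.span {(p : WittVector p k)} • (⊤ : Submodule (WittVector p k) M) with hK
  refine ⟨⟨?_, ?_⟩, ?_⟩
  · rw [hspanV, sup_eq_left.2 (K_le_rangeV hVF)]
    refine Submodule.ext fun x => ⟨fun hx => ?_, fun ⟨m, hm⟩ => ?_⟩
    · obtain ⟨n, hn⟩ := mem_span_smul_top.1 (Submodule.mem_comap.1 hx)
      exact ⟨n, F_injective hVF ((hFV n).trans hn)⟩
    · rw [Submodule.mem_comap, ← hm, hFV]
      exact mem_span_smul_top.2 ⟨m, rfl⟩
  · have hKF : K ≤ rangeF F := fun z hz => by
      obtain ⟨n, rfl⟩ := mem_span_smul_top.1 hz
      exact ⟨V n, hFV n⟩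
    rw [hspanF, sup_eq_left.2 hKF]
    refine Submodule.ext fun x => ⟨fun hx => ?_, fun ⟨m, hm⟩ => ?_⟩
    · obtain ⟨n, hn⟩ := mem_span_smul_top.1 (Submodule.mem_comap.1 hx)
      exact ⟨n, V_injective hFV ((hVF n).trans hn)⟩
    · rw [Submodule.mem_comap, ← hm, hVF]
      exact mem_span_smul_top.2 ⟨m, rfl⟩
  · obtain ⟨π, hπ1, hπ2⟩ := exists_split hFV hVF
    obtain ⟨n, e, φ, hφ⟩ := exists_coord (A := WittVector p k) (M := M)
    set A := WittVector p k ⧸ Ideal.span {(p : WittVector p k)}
    set U := Submodule.span A (Set.range fun m : M => K.mkQ (V m)) with hU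
    haveI hprojK : Module.Projective A (M ⧸ K) := by
      let g : (M ⧸ K) →ₗ[A] (Fin n → A) :=
        { toFun := fun z => Submodule.liftQ K
            (LinearMap.pi fun i => (Ideal.span {(p : WittVector p k)}).mkQ.comp (φ i)) (fun z hz => by
              rw [LinearMap.mem_ker]
              funext i
              exact (Ideal.Quotient.eq_zero_iff_mem).2 (apply_mem_of_mem_smul _ (φ i) hz)) z
          map_add' := fun a b => map_add _ a b
          map_smul' := fun c z => by
            obtain ⟨c, rfl⟩ := Ideal.Quotient.mk_surjective c
            exact map_smul _ c z }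
      refine Module.Projective.of_split g
        (Fintype.linearCombination A fun i => (K.mkQ (e i))) (LinearMap.ext fun z => ?_)
      obtain ⟨z, rfl⟩ := Submodule.Quotient.mk_surjective _ z
      rw [LinearMap.comp_apply, Fintype.linearCombination_apply, LinearMap.id_apply,
        ← Submodule.mkQ_apply K z]
      conv_rhs => rw [← hφ z, map_sum]
      refine Finset.sum_congr rfl fun i _ => ?_
      rw [map_smul]
      rfl
    let π₁ : (M ⧸ K) →ₗ[A] (M ⧸ K) :=
      { toFun := Submodule.mapQ K K π (by
          rw [← Submodule.map_le_iff_le_comap, hK, Submodule.map_smul'']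
          exact Submodule.smul_mono le_rfl le_top)
        map_add' := map_add _
        map_smul' := fun c z => by
          obtain ⟨c, rfl⟩ := Ideal.Quotient.mk_surjective c
          exact map_smul _ c z }
    have hmem : ∀ x : M, π₁ (K.mkQ x) ∈ U := fun x => by
      obtain ⟨y, hy⟩ := hπ1 x
      exact Submodule.subset_span ⟨y, show K.mkQ (V y) = Submodule.Quotient.mk (π x) by rw [hy]; rfl⟩
    have hfix : ∀ z ∈ U, π₁ z = z := by
      intro z hz
      induction hz using Submodule.span_induction with
      | mem z hz =>
        obtain ⟨y, rfl⟩ := hz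
        show Submodule.Quotient.mk (π (V y)) = Submodule.Quotient.mk (V y)
        exact (Submodule.Quotient.eq _).2 (hπ2 _ ⟨y, rfl⟩)
      | zero => exact map_zero _
      | add a b _ _ ha hb => rw [map_add, ha, hb]
      | smul c a _ ha => rw [map_smul, ha]
    refine Module.Projective.of_split
      (U.liftQ (LinearMap.id - π₁) (fun z hz => by simp [hfix z hz])) U.mkQ (LinearMap.ext fun z => ?_)
    obtain ⟨z, rfl⟩ := Submodule.Quotient.mk_surjective _ z
    obtain ⟨x, rfl⟩ := Submodule.Quotient.mk_surjective _ z
    show Submodule.Quotient.mk ((Submodule.Quotient.mk x : M ⧸ K) - π₁ (Submodule.Quotient.mk x)) = _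
    rw [Submodule.Quotient.mk_sub, ← Submodule.mkQ_apply K x, (Submodule.Quotient.mk_eq_zero U).2 (hmem x), sub_zero]
    rfl

end Groth.Agent.S16222
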