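import Groth.Statements.S16225
import Mathlib
import Groth.Prelude

set_option linter.all false

set_option autoImplicit false
open scoped TensorProduct
universe u v
open CAlg

open TensorProduct

namespace Groth.Agent.S16225

theorem equalizer_coeff {R R' : Type u} [CommRing R] [CommRing R'] [Algebra R R'] [Module.FaithfullyFlat R R']
    {y : R'} (h : y ⊗ₜ[R] (1 : R') = (1 : R') ⊗ₜ[R] y) : ∃ r, algebraMap R R' r = y :=
  (Algebra.IsEffective.of_faithfullyFlat R R' y).mp (by
    rw [Algebra.TensorProduct.includeLeftSubRight_apply, h, sub_self])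

/-- Let p be a prime, n a natural number and R → R' a faithfully flat homomorphism of commutative rings
in which p is nilpotent. Regard W_n(R') and W_n(R' ⊗_R R') as W_n(R)-algebras through the
componentwise maps induced by R → R' and R → R' ⊗_R R', and let ψ₁, ψ₂ : W_n(R') → W_n(R' ⊗_R R') be
the componentwise maps induced by the two inclusions of R' (these are W_n(R)-algebra maps). Then for
every flat W_n(R)-module M the sequence 0 → M → M ⊗_{W_n(R)} W_n(R') ⇉ M ⊗_{W_n(R)} W_n(R' ⊗_R R')
is exact: m ↦ m ⊗ 1 is injective and its image is the equalizer of id ⊗ ψ₁ and id ⊗ ψ₂. (This is the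
beginning, in degrees 0 and 1, of a complex continued by the higher tensor powers of R', which the
published proof asserts to be exact throughout; W_n(R) → W_n(R') is not flat in general, so this is
not faithfully flat descent.) -/
theorem result (p : ℕ) [Fact p.Prime] (n : ℕ)
    (R R' : Type u) [CommRing R] [CommRing R'] [Algebra R R'] [Module.FaithfullyFlat R R']
    (hp : IsNilpotent (p : R))
    [Algebra (TruncatedWittVector p n R) (TruncatedWittVector p n R')]
    (h₁ : algebraMap (TruncatedWittVector p n R) (TruncatedWittVector p n R') = WittGrp.truncMap p n (algebraMap R R'))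
    [Algebra (TruncatedWittVector p n R) (TruncatedWittVector p n (TensorProduct R R' R'))]
    (h₂ : algebraMap (TruncatedWittVector p n R) (TruncatedWittVector p n (TensorProduct R R' R')) =
      WittGrp.truncMap p n (algebraMap R (TensorProduct R R' R')))
    (ψ₁ ψ₂ : TruncatedWittVector p n R' →ₐ[TruncatedWittVector p n R] TruncatedWittVector p n (TensorProduct R R' R'))
    (hψ₁ : (ψ₁ : TruncatedWittVector p n R' →+* TruncatedWittVector p n (TensorProduct R R' R')) =
      WittGrp.truncMap p n (Algebra.TensorProduct.includeLeftRingHom : R' →+* TensorProduct R R' R'))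
    (hψ₂ : (ψ₂ : TruncatedWittVector p n R' →+* TruncatedWittVector p n (TensorProduct R R' R')) =
      WittGrp.truncMap p n ((Algebra.TensorProduct.includeRight : R' →ₐ[R] TensorProduct R R' R') : R' →+* TensorProduct R R' R'))
    (M : Type v) [AddCommGroup M] [Module (TruncatedWittVector p n R) M] [Module.Flat (TruncatedWittVector p n R) M] :
    Function.Injective (fun m : M => m ⊗ₜ[TruncatedWittVector p n R] (1 : TruncatedWittVector p n R')) ∧
      ∀ x : M ⊗[TruncatedWittVector p n R] TruncatedWittVector p n R',
        LinearMap.lTensor M ψ₁.toLinearMap x = LinearMap.lTensor M ψ₂.toLinearMap x →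
          x ∈ Set.range (fun m : M => m ⊗ₜ[TruncatedWittVector p n R] (1 : TruncatedWittVector p n R')) := by
  classical
  let W := TruncatedWittVector p n R
  let W' := TruncatedWittVector p n R'
  let W'' := TruncatedWittVector p n (TensorProduct R R' R')
  let f : W →ₗ[W] W' := Algebra.linearMap W W'
  let d : W' →ₗ[W] W'' := ψ₁.toLinearMap - ψ₂.toLinearMap
  have hc : ∀ (x : W) i, (f x).coeff i = algebraMap R R' (x.coeff i) := fun x i => by
    show (algebraMap (TruncatedWittVector p n R) (TruncatedWittVector p n R') x).coeff i = _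
    rw [h₁]
    exact TruncatedWittVector.coeff_mk _ _
  have hψ1 : ∀ (y : W') i, (ψ₁ y).coeff i = y.coeff i ⊗ₜ[R] (1 : R') := fun y i => by
    have h1 : ψ₁ y = WittGrp.truncMap p n (Algebra.TensorProduct.includeLeftRingHom :
        R' →+* TensorProduct R R' R') y := RingHom.congr_fun hψ₁ y
    rw [h1]
    exact TruncatedWittVector.coeff_mk _ _
  have hψ2 : ∀ (y : W') i, (ψ₂ y).coeff i = (1 : R') ⊗ₜ[R] y.coeff i := fun y i => by
    have h1 : ψ₂ y = WittGrp.truncMap p n ((Algebra.TensorProduct.includeRight :
        R' →ₐ[R] TensorProduct R R' R') : R' →+* TensorProduct R R' R') y := RingHom.congr_fun hψ₂ y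
    rw [h1]
    exact TruncatedWittVector.coeff_mk _ _
  have hinjR : Function.Injective (algebraMap R R') := FaithfulSMul.algebraMap_injective R R'
  have hinj : Function.Injective f := fun x y hxy => TruncatedWittVector.ext fun i => hinjR (by
    rw [← hc, ← hc, hxy])
  have hex : Function.Exact f d := by
    intro y
    constructor
    · intro hy
      have h' : ψ₁ y = ψ₂ y := sub_eq_zero.mp hy
      choose r hr using fun i => equalizer_coeff (R := R) (y := y.coeff i) (by rw [← hψ1, ← hψ2, h'])
      exact ⟨TruncatedWittVector.mk p r, TruncatedWittVector.ext fun i => by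
        rw [hc, TruncatedWittVector.coeff_mk, hr]⟩
    · rintro ⟨x, rfl⟩
      exact sub_eq_zero.mpr (by rw [show f x = algebraMap _ _ x from rfl]; exact (ψ₁.commutes x).trans (ψ₂.commutes x).symm)
  have hι : (fun m : M => m ⊗ₜ[TruncatedWittVector p n R] (1 : TruncatedWittVector p n R')) =
      f.lTensor M ∘ (TensorProduct.rid W M).symm := by
    funext m
    simp [f, W]
  refine ⟨hι ▸ (Module.Flat.lTensor_preserves_injective_linearMap f hinj).comp
    (LinearEquiv.injective _), fun x hx => ?_⟩
  obtain ⟨z, rfl⟩ := (Module.Flat.lTensor_exact M hex x).mp (by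
    simp only [d, LinearMap.lTensor_sub, LinearMap.sub_apply]
    rw [sub_eq_zero]
    exact hx)
  rw [hι]
  exact ⟨TensorProduct.rid W M z, by rw [Function.comp_apply, LinearEquiv.symm_apply_apply]⟩

end Groth.Agent.S16225
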