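import Groth.Statements.S16226
import Mathlib

set_option autoImplicit false
universe u
open CategoryTheory MonoidalCategory CartesianMonoidalCategory MonObj AlgebraicGeometry
open PrincBund

namespace Groth.Agent.S16226

/-- Let i : G → H be a homomorphism of group schemes over a base scheme S which is a closed immersion, F
an H-torsor over S for the etale topology with action aF, and π : F → Q a morphism of S-schemes
exhibiting Q as the quotient F/G, in the sense that the square formed by the restricted action G ×_S
F → F, the projection G ×_S F → F and π twice is cartesian and π acquires sections etale-locally on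
Q. Then for every section σ of Q over S there are a G-torsor E over S for the etale topology and an
i-equivariant morphism φ : E → F over S such that the square (φ, E → S; π, σ) is cartesian; that is,
σ comes from a reduction of the structure group of F to G. (Stated over an arbitrary base scheme and
for arbitrary group schemes; the quotient F/G is taken as data through its torsor property rather
than constructed.) -/
theorem result
    {S : Scheme.{u}} {G H F Q : Over S} [GrpObj G] [GrpObj H]
    (i : G ⟶ H) [IsMonHom i] [IsClosedImmersion i.left]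
    (aF : AlgGrp.Action H F) (hF : NonAbH1.IsTorsorFor Scheme.etalePrecoverage aF)
    (π : F ⟶ Q)
    (hsq : IsPullback (aF.restrict i).act (snd G F) π π)
    (hloc : NonAbH1.IsLocallyTrivialFor Scheme.etalePrecoverage (Over.mk π.left : Over Q.left))
    (σ : 𝟙_ (Over S) ⟶ Q) :
    ∃ (E : Over S) (aE : AlgGrp.Action G E) (φ : E ⟶ F),
      NonAbH1.IsTorsorFor Scheme.etalePrecoverage aE ∧
      AlgGrp.Action.IsEquivariant aE (aF.restrict i) φ ∧
      IsPullback φ (toUnit E) π σ := by
  let E : Over S := Limits.pullback π σ
  let φ : E ⟶ F := Limits.pullback.fst π σ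
  have hE : IsPullback φ (toUnit E) π σ := by
    rw [toUnit_unique (toUnit E) (Limits.pullback.snd π σ)]
    exact IsPullback.of_hasPullback π σ
  let a' := aF.restrict i
  have hw : ((G ◁ φ) ≫ a'.act) ≫ π = toUnit (G ⊗ E) ≫ σ := by
    rw [Category.assoc, hsq.w, ← Category.assoc, whiskerLeft_snd, Category.assoc, hE.w, ← Category.assoc, comp_toUnit]
  let act : G ⊗ E ⟶ E := hE.lift ((G ◁ φ) ≫ a'.act) (toUnit _) hw
  have hact : act ≫ φ = (G ◁ φ) ≫ a'.act := hE.lift_fst _ _ _
  have hext : ∀ {T : Over S} (x y : T ⟶ E), x ≫ φ = y ≫ φ → x = y := fun x y h ↦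
    hE.hom_ext h (toUnit_unique _ _)
  let aE : AlgGrp.Action G E :=
    { act := act
      one_act := hext _ _ (by
        rw [Category.assoc, hact, ← Category.assoc, ← whisker_exchange, Category.assoc, a'.one_act]
        exact leftUnitor_naturality φ)
      mul_act := hext _ _ (by
        simp only [Category.assoc, hact]
        rw [← whisker_exchange_assoc, a'.mul_act, ← whiskerLeft_comp_assoc, hact, whiskerLeft_comp_assoc]
        simp) }
  refine ⟨E, aE, φ, ⟨?_, ?_⟩, hact, hE⟩
  · show IsIso (lift act (snd G E))
    have hc : (fst E E ≫ φ) ≫ π = (snd E E ≫ φ) ≫ π := by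
      rw [Category.assoc, Category.assoc, hE.w, ← Category.assoc, ← Category.assoc, comp_toUnit, comp_toUnit]
    let l : E ⊗ E ⟶ G ⊗ F := hsq.lift (fst E E ≫ φ) (snd E E ≫ φ) hc
    have hl1 : l ≫ a'.act = fst E E ≫ φ := hsq.lift_fst _ _ _
    have hl2 : l ≫ snd G F = snd E E ≫ φ := hsq.lift_snd _ _ _
    refine ⟨lift (l ≫ fst G F) (snd E E), ?_, ?_⟩
    · have h1 : lift act (snd G E) ≫ l = G ◁ φ := by
        refine hsq.hom_ext ?_ ?_
        · rw [Category.assoc, hl1, lift_fst_assoc, hact]
        · rw [Category.assoc, hl2, lift_snd_assoc, whiskerLeft_snd]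
      apply CartesianMonoidalCategory.hom_ext
      · simp [reassoc_of% h1]
      · simp
    · apply CartesianMonoidalCategory.hom_ext
      · rw [Category.assoc, lift_fst, Category.id_comp]
        refine hext _ _ ?_
        rw [Category.assoc, hact, lift_whiskerLeft_assoc, ← hl2, lift_comp_fst_snd, hl1]
      · simp
  · obtain ⟨R, hR, hs⟩ := hloc
    obtain ⟨I, Y, f, rfl⟩ := R.exists_eq_ofArrows
    have hσ : σ.left ≫ Q.hom = 𝟙 S := Over.w σ
    replace hR := (Scheme.ofArrows_mem_precoverage_iff _).mp hR
    have hcov : Presieve.ofArrows _ (fun j ↦ Limits.pullback.fst σ.left (f j)) ∈ Scheme.etalePrecoverage S := by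
      refine (Scheme.ofArrows_mem_precoverage_iff _).mpr ⟨fun z ↦ ?_, fun j ↦ ?_⟩
      · obtain ⟨j, y, hy⟩ := hR.1 (σ.left z)
        obtain ⟨w, hw, -⟩ := Scheme.Pullback.exists_preimage_pullback (f := σ.left) (g := f j) z y hy.symm
        exact ⟨j, w, hw⟩
      · haveI : Etale (f j) := hR.2 j
        infer_instance
    refine ⟨_, hcov, ?_⟩
    rintro S' g ⟨j⟩
    obtain ⟨s, hs'⟩ := hs (f j) ⟨j⟩
    have hs2 : s ≫ π.left = f j := hs'
    let T : Over S := Over.mk (Limits.pullback.fst σ.left (f j))
    have hov : (Limits.pullback.snd σ.left (f j) ≫ s) ≫ F.hom = T.hom := by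
      rw [← Over.w π, Category.assoc, ← Category.assoc s, hs2, ← Category.assoc, ← Limits.pullback.condition,
        Category.assoc, hσ]
      exact Category.comp_id _
    let x : T ⟶ F := Over.homMk (Limits.pullback.snd σ.left (f j) ≫ s) hov
    have hx : x ≫ π = toUnit T ≫ σ := by
      ext1
      show (Limits.pullback.snd σ.left (f j) ≫ s) ≫ π.left = Limits.pullback.fst σ.left (f j) ≫ σ.left
      rw [Category.assoc, hs2, Limits.pullback.condition]
    exact ⟨(hE.lift x (toUnit T) hx).left, Over.w _⟩
end Groth.Agent.S16226
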