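import Groth.Statements.S16227
import Groth.Agent.NonAb.SchTorsor
import Mathlib.AlgebraicGeometry.Sites.Proetale

set_option autoImplicit false
universe u
open CategoryTheory MonoidalCategory CartesianMonoidalCategory MonObj AlgebraicGeometry
open PrincBund

namespace Groth.Agent.S16227

/-- Let i : G → H be a homomorphism of group schemes over a base scheme S which is a closed immersion, F
an H-torsor over S for the etale topology with action aF, and π : F → Q a morphism of S-schemes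
exhibiting Q as the quotient F/G, in the sense that the square formed by the restricted action G ×_S
F → F, the projection G ×_S F → F and π twice is cartesian and π acquires sections etale-locally on
Q. Then a reduction of the structure group of F to G, namely a G-torsor E over S for the etale
topology together with an i-equivariant morphism φ : E → F over S, determines a unique section σ of
Q over S such that the composite E → S → Q equals φ followed by π, and for this σ the square (φ, E →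
S; π, σ) is cartesian, so that E is recovered as the pullback of F along σ. (Stated over an
arbitrary base scheme and for arbitrary group schemes; the quotient F/G is taken as data through its
torsor property rather than constructed.) -/
theorem result
    {S : Scheme.{u}} {G H F Q : Over S} [GrpObj G] [GrpObj H]
    (i : G ⟶ H) [IsMonHom i] [IsClosedImmersion i.left]
    (aF : AlgGrp.Action H F) (hF : NonAbH1.IsTorsorFor Scheme.etalePrecoverage aF)
    (π : F ⟶ Q)
    (hsq : IsPullback (aF.restrict i).act (snd G F) π π)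
    (hloc : NonAbH1.IsLocallyTrivialFor Scheme.etalePrecoverage (Over.mk π.left : Over Q.left))
    {E : Over S} (aE : AlgGrp.Action G E) (hE : NonAbH1.IsTorsorFor Scheme.etalePrecoverage aE)
    (φ : E ⟶ F) (hφ : AlgGrp.Action.IsEquivariant aE (aF.restrict i) φ) :
    (∃! σ : 𝟙_ (Over S) ⟶ Q, toUnit E ≫ σ = φ ≫ π) ∧
      ∀ σ : 𝟙_ (Over S) ⟶ Q, toUnit E ≫ σ = φ ≫ π → IsPullback φ (toUnit E) π σ := by
  obtain ⟨hps, R, hR, hsec⟩ := hE
  have hR' : R ∈ Scheme.fpqcPrecoverage S :=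
    (Scheme.etalePrecoverage_le_proetalePrecoverage.trans Scheme.proetalePrecoverage_le_fpqcPrecoverage) S hR
  have hE' : NonAbH1.IsTorsorFor Scheme.fpqcPrecoverage aE := ⟨hps, R, hR', hsec⟩
  have hequiv : aE.act ≫ φ = (G ◁ φ) ≫ (aF.restrict i).act := hφ
  have hinv : aE.act ≫ φ ≫ π = snd G E ≫ φ ≫ π := by
    rw [← Category.assoc, hequiv, Category.assoc, hsq.w, ← Category.assoc, whiskerLeft_snd, Category.assoc]
  have hinvl : aE.act.left ≫ (φ ≫ π).left = (snd G E).left ≫ (φ ≫ π).left := by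
    rw [← Over.comp_left, hinv, Over.comp_left]
  obtain ⟨h, hh⟩ := ((NonAbLib.existsUnique_desc hE' Q.left).2 (φ ≫ π).left).mpr hinvl
  have hsecQ : h ≫ Q.hom = 𝟙 S := (NonAbLib.existsUnique_desc hE' S).1 (by
    show E.hom ≫ h ≫ Q.hom = E.hom ≫ 𝟙 S
    rw [← Category.assoc, hh, Over.w, Category.comp_id])
  refine ⟨⟨Over.homMk h hsecQ, ?_, fun σ hσ ↦ ?_⟩, fun σ hσ ↦ ?_⟩
  · ext1
    exact hh
  · ext1
    refine (NonAbLib.existsUnique_desc hE' Q.left).1 ?_
    show E.hom ≫ σ.left = E.hom ≫ h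
    rw [hh, ← hσ]
    rfl
  -- φ is injective on points
  have hmono : ∀ {T : Over S} (e e' : T ⟶ E), e ≫ φ = e' ≫ φ → e = e' := by
    intro T e e' he
    obtain ⟨g, hg, -⟩ := NonAbLib.existsUnique_actPt hps e e'
    have h1 : lift g (e ≫ φ) ≫ (aF.restrict i).act = e ≫ φ := by
      have := congrArg (· ≫ φ) hg
      simp only [NonAbLib.actPt, Category.assoc, hequiv, lift_whiskerLeft_assoc] at this
      exact this.trans he.symm
    have h2 : lift (1 : T ⟶ G) (e ≫ φ) = lift g (e ≫ φ) :=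
      hsq.hom_ext ((NonAbLib.actPt_one (aF.restrict i) (e ≫ φ)).trans h1.symm) (by rw [lift_snd, lift_snd])
    have h3 : (1 : T ⟶ G) = g := by simpa using congrArg (· ≫ fst G F) h2
    rw [← hg, ← h3, NonAbLib.actPt_one]
  -- local lifts
  have hloc : ∀ {T : Over S} (x : T ⟶ F), x ≫ π = toUnit T ≫ σ → ∀ e₀ : T ⟶ E, ∃ e : T ⟶ E, e ≫ φ = x := by
    intro T x hx e₀
    have h0 : (e₀ ≫ φ) ≫ π = x ≫ π := by
      rw [Category.assoc, ← hσ, ← Category.assoc, comp_toUnit, hx]
    obtain ⟨l, hl1, hl2⟩ : ∃ l : T ⟶ G ⊗ F, l ≫ (aF.restrict i).act = x ∧ l ≫ snd G F = e₀ ≫ φ :=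
      ⟨hsq.lift x (e₀ ≫ φ) h0.symm, hsq.lift_fst _ _ _, hsq.lift_snd _ _ _⟩
    refine ⟨lift (l ≫ fst G F) e₀ ≫ aE.act, ?_⟩
    rw [Category.assoc, hequiv, lift_whiskerLeft_assoc, ← hl2, lift_comp_fst_snd, hl1]
  have hfill : ∀ {T : Over S} (x : T ⟶ F), x ≫ π = toUnit T ≫ σ → ∃ e : T ⟶ E, e ≫ φ = x := by
    intro T x hx
    have hcov := Scheme.fpqcTopology.pullback_stable T.hom (Precoverage.generate_mem_toGrothendieck hR')
    have hex : ∀ ⦃W : Scheme.{u}⦄ (g : W ⟶ T.left), (Sieve.generate R).pullback T.hom g →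
        ∃ e : Over.mk (g ≫ T.hom) ⟶ E, e ≫ φ = (Over.homMk g rfl : Over.mk (g ≫ T.hom) ⟶ T) ≫ x := by
      rintro W g ⟨S', b, f, hf, e⟩
      obtain ⟨s', hs'⟩ := hsec f hf
      refine hloc _ ?_ (Over.homMk (b ≫ s') (by simp [hs', e]))
      rw [Category.assoc, hx, ← Category.assoc, comp_toUnit]
    choose ℓ hℓ using hex
    let fam : Presieve.FamilyOfElements (yoneda.obj E.left) ((Sieve.generate R).pullback T.hom).arrows :=
      fun W g hg ↦ (ℓ g hg).left
    have hfam : fam.Compatible := by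
      intro Y₁ Y₂ W g₁ g₂ f₁ f₂ h₁ h₂ hw
      show g₁ ≫ (ℓ f₁ h₁).left = g₂ ≫ (ℓ f₂ h₂).left
      let o₁ : Over.mk ((g₁ ≫ f₁) ≫ T.hom) ⟶ Over.mk (f₁ ≫ T.hom) := Over.homMk g₁ (by simp)
      let o₂ : Over.mk ((g₁ ≫ f₁) ≫ T.hom) ⟶ Over.mk (f₂ ≫ T.hom) :=
        Over.homMk g₂ (by show g₂ ≫ f₂ ≫ T.hom = _; rw [← Category.assoc, ← hw]; rfl)
      refine congrArg CommaMorphism.left (hmono (o₁ ≫ ℓ f₁ h₁) (o₂ ≫ ℓ f₂ h₂) ?_)
      have a₁ : (ℓ f₁ h₁).left ≫ φ.left = f₁ ≫ x.left := congrArg CommaMorphism.left (hℓ f₁ h₁)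
      have a₂ : (ℓ f₂ h₂).left ≫ φ.left = f₂ ≫ x.left := congrArg CommaMorphism.left (hℓ f₂ h₂)
      ext1
      show (g₁ ≫ (ℓ f₁ h₁).left) ≫ φ.left = (g₂ ≫ (ℓ f₂ h₂).left) ≫ φ.left
      rw [Category.assoc, Category.assoc, a₁, a₂, ← Category.assoc, ← Category.assoc, hw]
    have hsheaf : ∀ Z : Scheme.{u}, Presieve.IsSheafFor (yoneda.obj Z) ((Sieve.generate R).pullback T.hom).arrows :=
      fun Z ↦ GrothendieckTopology.Subcanonical.isSheaf_of_isRepresentable (J := Scheme.fpqcTopology) (yoneda.obj Z) _ hcov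
    obtain ⟨e, he, -⟩ := hsheaf E.left fam hfam
    have heS : e ≫ E.hom = T.hom := (hsheaf S).isSeparatedFor.ext fun W g hg ↦ by
      show g ≫ e ≫ E.hom = g ≫ T.hom
      rw [← Category.assoc, show g ≫ e = (ℓ g hg).left from he g hg, Over.w]
      rfl
    refine ⟨Over.homMk e heS, ?_⟩
    ext1
    refine (hsheaf F.left).isSeparatedFor.ext fun W g hg ↦ ?_
    show g ≫ e ≫ φ.left = g ≫ x.left
    rw [← Category.assoc, show g ≫ e = (ℓ g hg).left from he g hg, ← Over.comp_left, hℓ]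
    rfl
  have hc : ∀ s : Limits.PullbackCone π σ, s.fst ≫ π = toUnit s.pt ≫ σ := fun s ↦
    s.condition.trans (congrArg (· ≫ σ) (toUnit_unique s.snd (toUnit s.pt)))
  refine IsPullback.of_isLimit' ⟨hσ.symm⟩ (Limits.PullbackCone.IsLimit.mk _
    (fun s ↦ Classical.choose (hfill s.fst (hc s)))
    (fun s ↦ Classical.choose_spec (hfill s.fst (hc s)))
    (fun s ↦ toUnit_unique _ _)
    (fun s m hm1 _ ↦ hmono _ _ (hm1.trans (Classical.choose_spec (hfill s.fst (hc s))).symm)))
end Groth.Agent.S16227
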