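import Groth.Statements.S1623
import Groth.Agent.Coherent.CohBC.Geom
import Groth.Agent.SDiv28.Charts
import Groth.Agent.BlowUpLib.Proper
import Groth.Agent.BlowUpKoszul.PointBlowUp

set_option autoImplicit false
universe u
open CategoryTheory CategoryTheory.Limits AlgebraicGeometry
open Resolve TopologicalSpace

namespace Groth.Agent.S1623

/-- Let A be a regular local ring of dimension two and b : X → Spec A a blowing up in the maximal ideal.
For every quasi-coherent O_X-module F and every p ≥ 2, H^p(X, F) = 0. -/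
theorem result (A : Type u) [CommRing A] [IsRegularLocalRing A] (hA : ringKrullDim A = 2)
    (X : Scheme.{u}) (b : X ⟶ Spec (CommRingCat.of A)) (hb : BlowUp.IsBlowUp b (Curv2.idealSheaf A (IsLocalRing.maximalIdeal A)))
    (F : X.Modules) (hF : Coh.IsQCoh F) (p : ℕ) (hp : 2 ≤ p) : Subsingleton (Coh.HH X F p) := by
  classical
  have := hF
  obtain ⟨s, hscard, hsspan⟩ :=
    (IsNoetherian.noetherian (IsLocalRing.maximalIdeal A)).exists_span_finset_card_eq_spanFinrank
  have hs2 : s.card = 2 := by
    have h := IsRegularLocalRing.spanFinrank_maximalIdeal (R := A)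
    rw [hA, ← hscard] at h
    exact_mod_cast h
  let U : (Spec (CommRingCat.of A)).affineOpens := ⟨⊤, isAffineOpen_top _⟩
  let σ := Scheme.ΓSpecIso (CommRingCat.of A)
  have hI : (Curv2.idealSheaf A (IsLocalRing.maximalIdeal A)).ideal U =
      (IsLocalRing.maximalIdeal A).map σ.inv.hom :=
    Groth.Agent.BlowUpKoszul.idealSheaf_top_ideal A
  let W : ↥s → X.Opens := fun a =>
    BlowUpLib.locus (Curv2.idealSheaf A (IsLocalRing.maximalIdeal A)) b U (σ.inv a.1)
  have hcov : ⨆ a, W a = ⊤ := top_le_iff.1 fun x _ => by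
    obtain ⟨_, ⟨a, ha, rfl⟩, hmem⟩ := BlowUpLib.exists_mem_locus b hb.1 U
      (show x ∈ b ⁻¹ᵁ U.1 from trivial) (σ.inv.hom '' (s : Set A)) (by
        rw [← Ideal.map_span, show Ideal.span (s : Set A) = IsLocalRing.maximalIdeal A from hsspan, hI])
    exact Opens.mem_iSup.2 ⟨⟨a, ha⟩, hmem⟩
  have hW : ∀ a, IsAffineOpen (W a) := fun a => by
    obtain ⟨e, -⟩ := Groth.Agent.SDiv28.exists_locus_iso hb U (a := σ.inv a.1)
      (hI.ge (Ideal.mem_map_of_mem _ (hsspan.le (Submodule.subset_span a.2))))
    exact IsAffine.of_isIso e.hom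
  have hft : BlowUp.IsFiniteTypeIdeal (Curv2.idealSheaf A (IsLocalRing.maximalIdeal A)) :=
    fun U => (IsLocallyNoetherian.component_noetherian U).noetherian _
  have := BlowUpLib.isProper_of_isBlowUp hb hft
  let : X.Over (Spec (CommRingCat.of A)) := ⟨b⟩
  have : IsSeparated (X ↘ Spec (CommRingCat.of A)) := inferInstanceAs (IsSeparated b)
  exact Coherent.CohBC.subsingleton_HH_of_card (A := A) W hcov hW F p
    (by rw [Nat.card_eq_fintype_card, Fintype.card_coe, hs2]; exact hp)

end Groth.Agent.S1623
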