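import Groth.Statements.S16231
import Groth.Agent.Et18.Translate
-- import your own Groth.Agent.* helpers here

set_option autoImplicit false
universe u
open VanCyc

namespace Groth.Agent.S16231

/-- Let A be a local ring with maximal ideal m that is separated and complete for the m-adic topology (A
is not assumed Noetherian), n a natural number, q an n × n coefficient table over A whose quadratic
form Q(x) = Σ_{i≤j} q_ij x_i x_j is non-degenerate (unit Gram determinant of the polar bilinear
form), a and ℓ_1, …, ℓ_n elements of m, and F a formal power series in x_1, …, x_n over A whose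
coefficients in total degree at most 2 agree with those of a + Σ ℓ_i x_i + Q(x). Then there are an
element a' of m and a non-degenerate coefficient table q' such that A[[x]]/(F) and A[[x]]/(Q'(x) +
a') are isomorphic as A-algebras, Q' the quadratic form of q'. -/
theorem result
    (A : Type u) [CommRing A] [IsLocalRing A]
    [IsAdicComplete (IsLocalRing.maximalIdeal A) A] (n : ℕ)
    (q : Fin n → Fin n → A) (hq : VanCyc.QuadNondeg q)
    (a : A) (ha : a ∈ IsLocalRing.maximalIdeal A)
    (ℓ : Fin n → A) (hℓ : ∀ i, ℓ i ∈ IsLocalRing.maximalIdeal A)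
    (F : MvPowerSeries (Fin n) A)
    (hF : ∀ e : Fin n →₀ ℕ, e.degree ≤ 2 →
      MvPowerSeries.coeff e F = MvPowerSeries.coeff e ((VanCyc.quadPoly q + ∑ i, MvPolynomial.C (ℓ i) * MvPolynomial.X i + MvPolynomial.C a : MvPolynomial (Fin n) A) : MvPowerSeries (Fin n) A)) :
    ∃ (a' : A) (q' : Fin n → Fin n → A), a' ∈ IsLocalRing.maximalIdeal A ∧ VanCyc.QuadNondeg q' ∧
      Nonempty ((MvPowerSeries (Fin n) A ⧸ Ideal.span {F}) ≃ₐ[A]
        (MvPowerSeries (Fin n) A ⧸ Ideal.span {((VanCyc.quadPoly q' + MvPolynomial.C a' : MvPolynomial (Fin n) A) : MvPowerSeries (Fin n) A)})) := by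
  classical
  have hsum : ((∑ i, MvPolynomial.C (ℓ i) * MvPolynomial.X i : MvPolynomial (Fin n) A) : MvPowerSeries (Fin n) A) =
      ∑ i, MvPowerSeries.C (ℓ i) * MvPowerSeries.X i := by
    rw [← MvPolynomial.coeToMvPowerSeries.ringHom_apply, map_sum]
    simp [MvPolynomial.coeToMvPowerSeries.ringHom_apply]
  have hP : ((VanCyc.quadPoly q + ∑ i, MvPolynomial.C (ℓ i) * MvPolynomial.X i + MvPolynomial.C a :
      MvPolynomial (Fin n) A) : MvPowerSeries (Fin n) A) =
      Et18.qSeries q + ∑ i, MvPowerSeries.C (ℓ i) * MvPowerSeries.X i + MvPowerSeries.C a := by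
    rw [MvPolynomial.coe_add, MvPolynomial.coe_add, MvPolynomial.coe_C, Et18.coe_quadPoly, hsum]
  rw [hP] at hF
  have h2 : ∀ i j, i ≤ j → VanCyc.quadPart F i j = q i j := by
    intro i j hij
    rw [Et18.quadPart_eq F hij, hF _ (by simp), map_add, map_add,
      Et18.coeff_qSeries_single_add_single _ hij, map_sum, Finset.sum_eq_zero (fun l _ => ?_),
      MvPowerSeries.coeff_C, if_neg (fun h => by simpa using congrArg Finsupp.degree h), add_zero, add_zero]
    rw [MvPowerSeries.coeff_C_mul, MvPowerSeries.coeff_X,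
      if_neg (fun h => by simpa using congrArg Finsupp.degree h), mul_zero]
  have hpol : VanCyc.polarMatrix (VanCyc.quadPart F) = VanCyc.polarMatrix q := by
    ext i j
    unfold VanCyc.polarMatrix
    split_ifs with h h'
    · rw [h2 i i le_rfl]
    · rw [h2 i j h'.le]
    · rw [h2 j i (not_lt.1 h')]
  have h1 : ∀ i, MvPowerSeries.coeff (Finsupp.single i 1) F = ℓ i := by
    intro i
    rw [hF _ (by simp), map_add, map_add, Et18.coeff_qSeries_of_degree_ne _ (by simp),
      MvPowerSeries.coeff_C, if_neg (by simp), zero_add, add_zero, map_sum, Finset.sum_eq_single i]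
    · rw [MvPowerSeries.coeff_C_mul, MvPowerSeries.coeff_X, if_pos rfl, mul_one]
    · intro l _ hl
      rw [MvPowerSeries.coeff_C_mul, MvPowerSeries.coeff_X,
        if_neg (fun h => hl (Finsupp.single_left_inj one_ne_zero |>.1 h).symm), mul_zero]
    · simp
  have h0 : MvPowerSeries.constantCoeff F = a := by
    rw [← MvPowerSeries.coeff_zero_eq_constantCoeff_apply, hF _ (by simp), map_add, map_add,
      Et18.coeff_qSeries_of_degree_ne _ (by simp), map_sum]
    simp
  obtain ⟨a', q', ha', hq', he⟩ := Et18.exists_algEquiv_quot_qSeries F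
    (by unfold VanCyc.QuadNondeg; rw [hpol]; exact hq) (h0 ▸ ha) (fun i => h1 i ▸ hℓ i)
  refine ⟨a', q', ha', hq', ?_⟩
  rw [MvPolynomial.coe_add, MvPolynomial.coe_C, Et18.coe_quadPoly]
  exact he

end Groth.Agent.S16231
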