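import Groth.Statements.S16232
import Groth.Agent.Et18.TameSylow
-- import your own Groth.Agent.* helpers here

set_option autoImplicit false
universe u v
open VanCyc

namespace Groth.Agent.S16232

/-- Let R be a strictly Henselian discrete valuation ring (Henselian, with separably closed residue
field), K its fraction field, Ω a separable closure of K and G the group of K-algebra automorphisms
of Ω; let r ≥ 1 be an integer invertible in the residue field of R, ϖ a uniformizer of R and ρ an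
r-th root of ϖ in Ω, so that the fundamental character χ : G → μ_r(Ω) is σ ↦ σ(ρ)/ρ. Then every
homomorphism φ of the abstract group G into an abelian group M with rM = 0 factors uniquely through
χ: there is exactly one homomorphism u : μ_r(Ω) → M with φ(σ) = u(χ(σ)) for every σ in G.
(Homomorphisms are written as maps respecting the group laws; χ(σ) is the root of unity ζ with ζρ =
σ(ρ).) -/
theorem result
    (R : Type u) [CommRing R] [IsDomain R] [IsDiscreteValuationRing R] [HenselianLocalRing R]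
    [IsSepClosed (IsLocalRing.ResidueField R)]
    (K : Type u) [Field K] [Algebra R K] [IsFractionRing R K]
    (Ω : Type u) [Field Ω] [Algebra K Ω] [IsSepClosure K Ω]
    (r : ℕ) [NeZero r] (hr : IsUnit (r : IsLocalRing.ResidueField R))
    (ϖ : R) (hϖ : Irreducible ϖ) (ρ : Ω) (hρ : ρ ^ r = algebraMap K Ω (algebraMap R K ϖ))
    (M : Type v) [AddCommGroup M] (hM : ∀ x : M, r • x = 0)
    (φ : (Ω ≃ₐ[K] Ω) → M) (hφ : ∀ σ τ : Ω ≃ₐ[K] Ω, φ (σ * τ) = φ σ + φ τ) :
    ∃! u : ↥(rootsOfUnity r Ω) → M, (∀ ζ ξ : ↥(rootsOfUnity r Ω), u (ζ * ξ) = u ζ + u ξ) ∧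
      ∀ (σ : Ω ≃ₐ[K] Ω) (ζ : ↥(rootsOfUnity r Ω)), ((ζ : Ωˣ) : Ω) * ρ = σ ρ → φ σ = u ζ := by
  haveI : IsSepClosed (IsLocalRing.ResidueField R) := inferInstance
  haveI : IsGalois K Ω := IsSepClosure.isGalois (k := K) (K := Ω)
  have hr0 : 0 < r := NeZero.pos r
  have hrk : (r : IsLocalRing.ResidueField R) ≠ 0 := hr.ne_zero
  have hrR : IsUnit (r : R) := (IsLocalRing.residue_ne_zero_iff_isUnit _).1 (by rwa [map_natCast])
  obtain ⟨ζ₀, hζ₀⟩ := Et18.TameSylow.exists_primitiveRoot R hr0 hrk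
  have hζK : IsPrimitiveRoot (algebraMap R K ζ₀) r := hζ₀.map_of_injective (IsFractionRing.injective R K)
  have hirr : Irreducible (Polynomial.X ^ r - Polynomial.C (algebraMap R K ϖ) : Polynomial K) := by
    have hm : (Polynomial.X ^ r - Polynomial.C ϖ : Polynomial R).Monic := Polynomial.monic_X_pow_sub_C ϖ hr0.ne'
    have hmax : IsLocalRing.maximalIdeal R = Ideal.span {ϖ} := hϖ.maximalIdeal_eq
    have hd : (Polynomial.X ^ r - Polynomial.C ϖ : Polynomial R).natDegree = r := Polynomial.natDegree_X_pow_sub_C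
    have hE : (Polynomial.X ^ r - Polynomial.C ϖ : Polynomial R).IsEisensteinAt (IsLocalRing.maximalIdeal R) := by
      refine hm.isEisensteinAt_of_mem_of_notMem (IsLocalRing.maximalIdeal.isMaximal R).ne_top (fun {n} hn => ?_) ?_
      · rw [hd] at hn
        rw [Polynomial.coeff_sub, Polynomial.coeff_X_pow, if_neg hn.ne, zero_sub, Polynomial.coeff_C]
        split_ifs
        · exact (IsLocalRing.maximalIdeal R).neg_mem (hmax ▸ Ideal.mem_span_singleton_self ϖ)
        · simp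
      · rw [Polynomial.coeff_sub, Polynomial.coeff_X_pow, if_neg hr0.ne, zero_sub, Polynomial.coeff_C_zero,
          neg_mem_iff, hmax, Ideal.span_singleton_pow, Ideal.mem_span_singleton]
        intro h
        obtain ⟨c, hc⟩ := h
        exact hϖ.not_isUnit (IsUnit.of_mul_eq_one c (mul_left_cancel₀ hϖ.ne_zero
          (by rw [mul_one, ← mul_assoc, ← pow_two]; exact hc.symm)))
    have h2 := hE.irreducible (IsLocalRing.maximalIdeal.isMaximal R).isPrime hm.isPrimitive (by omega)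
    have h3 := (Polynomial.Monic.irreducible_iff_irreducible_map_fraction_map (K := K) hm).mp h2
    simpa using h3
  have hc0 : algebraMap R K ϖ ≠ 0 := (map_ne_zero_iff _ (IsFractionRing.injective R K)).2 hϖ.ne_zero
  have hρ0 : ρ ≠ 0 := fun h => hc0 ((algebraMap K Ω).injective (by rw [← hρ, h, zero_pow hr0.ne', map_zero]))
  obtain ⟨m, hm⟩ := Et18.TameSylow.exists_eq_prod_pow R K Ω r hr0 hrR _ hζK ρ _ hρ hc0 hirr
  have hone : φ 1 = 0 := by
    have h := hφ 1 1
    rw [one_mul] at h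
    exact left_eq_add.1 h
  have hpow : ∀ (x : Ω ≃ₐ[K] Ω) (k : ℕ), φ (x ^ k) = k • φ x := fun x k => by
    induction k with
    | zero => rw [pow_zero, zero_smul, hone]
    | succ k ih => rw [pow_succ, hφ, ih, succ_nsmul]
  have hprod : ∀ (k : ℕ) (f : Fin k → Ω ≃ₐ[K] Ω), φ (List.ofFn fun i => f i ^ r).prod = 0 := fun k => by
    induction k with
    | zero => intro f; simpa using hone
    | succ k ih =>
      intro f
      rw [List.ofFn_succ, List.prod_cons, hφ, hpow, hM, zero_add]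
      exact ih fun i => f i.succ
  have hker : ∀ σ : Ω ≃ₐ[K] Ω, σ ρ = ρ → φ σ = 0 := fun σ hσ => by
    obtain ⟨f, rfl⟩ := hm σ hσ
    exact hprod m f
  have hμ : ∀ ζ : ↥(rootsOfUnity r Ω), ∀ σ : Ω ≃ₐ[K] Ω, σ ((ζ : Ωˣ) : Ω) = ((ζ : Ωˣ) : Ω) := fun ζ σ => by
    obtain ⟨i, -, hi⟩ := (hζK.map_of_injective (algebraMap K Ω).injective).eq_pow_of_pow_eq_one
      ((mem_rootsOfUnity' r (ζ : Ωˣ)).1 ζ.2)
    rw [← hi, map_pow, AlgEquiv.commutes]
  have hint : IsIntegral K ρ := Algebra.IsIntegral.isIntegral ρ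
  have hmin : minpoly K ρ = Polynomial.X ^ r - Polynomial.C (algebraMap R K ϖ) :=
    (minpoly.eq_of_irreducible_of_monic hirr (by simp [Polynomial.aeval_X_pow, hρ])
      (Polynomial.monic_X_pow_sub_C _ hr0.ne')).symm
  have hsurj : ∀ ζ : ↥(rootsOfUnity r Ω), ∃ σ : Ω ≃ₐ[K] Ω, ((ζ : Ωˣ) : Ω) * ρ = σ ρ := fun ζ => by
    obtain ⟨σ, hσ⟩ := minpoly.exists_algEquiv_of_root' (y := ρ) (x := ((ζ : Ωˣ) : Ω) * ρ)
      (Algebra.IsAlgebraic.isAlgebraic _) (by
        rw [hmin]
        simp [Polynomial.aeval_X_pow, mul_pow, (mem_rootsOfUnity' r (ζ : Ωˣ)).1 ζ.2, hρ])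
    exact ⟨σ, hσ.symm⟩
  choose g hg using hsurj
  have hwd : ∀ (σ : Ω ≃ₐ[K] Ω) (ζ : ↥(rootsOfUnity r Ω)), ((ζ : Ωˣ) : Ω) * ρ = σ ρ → φ σ = φ (g ζ) := by
    intro σ ζ hσ
    have h := hker ((g ζ)⁻¹ * σ) (by
      rw [AlgEquiv.mul_apply, ← hσ, hg]
      exact (g ζ).symm_apply_apply ρ)
    rw [show σ = g ζ * ((g ζ)⁻¹ * σ) by rw [mul_inv_cancel_left], hφ, h, add_zero]
  refine ⟨fun ζ => φ (g ζ), ⟨fun ζ ξ => ?_, hwd⟩, fun u hu => funext fun ζ => (hu.2 (g ζ) ζ (hg ζ)).symm⟩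
  refine ((hwd (g ζ * g ξ) (ζ * ξ) ?_).symm).trans (hφ _ _)
  rw [AlgEquiv.mul_apply, ← hg ξ, map_mul, hμ, ← hg ζ, Subgroup.coe_mul, Units.val_mul]
  ring

end Groth.Agent.S16232
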