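import Groth.Statements.S16234
import Mathlib.RingTheory.Derivation.Basic
import Mathlib.RingTheory.Flat.Equalizer
import Mathlib.RingTheory.Henselian
import Mathlib.RingTheory.Regular.RegularSequence
import Mathlib.RingTheory.RegularLocalRing.Defs
import Mathlib.RingTheory.SimpleRing.Principal
import Mathlib.RingTheory.Flat.FaithfullyFlat.Algebra
import Mathlib.RingTheory.Ideal.AssociatedPrime.Basic
import Mathlib.RingTheory.HopkinsLevitzki
import Mathlib.RingTheory.Support
import Mathlib.Tactic
import Groth.Agent.CommAlg4.Basic

set_option linter.all false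

set_option autoImplicit false
universe u v
open CAlg

open Groth.Agent.CommAlg4

namespace Groth.Agent.S16234

/-- For a finitely generated module M over a Noetherian commutative ring A, every prime ideal in the
support of M is a maximal ideal if and only if M has finite length. -/
theorem result (A : Type u) [CommRing A] [IsNoetherianRing A]
    (M : Type v) [AddCommGroup M] [Module A M] [Module.Finite A M] :
    (∀ p ∈ Module.support A M, p.asIdeal.IsMaximal) ↔ IsFiniteLength A M := by
  rw [isFiniteLength_iff_isNoetherian_isArtinian]
  constructor
  · intro h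
    refine ⟨inferInstance, ?_⟩
    let J := Module.annihilator A M
    haveI : Ring.KrullDimLE 0 (A ⧸ J) := Ring.krullDimLE_zero_iff.mpr fun P hP => by
      haveI := hP
      have h1 : (P.comap (Ideal.Quotient.mk J)).IsMaximal := h ⟨P.comap (Ideal.Quotient.mk J), Ideal.IsPrime.comap _⟩ (by
        rw [Module.mem_support_iff_of_finite]
        intro x hx; simp [J, Ideal.mem_comap, Ideal.Quotient.eq_zero_iff_mem.mpr hx])
      have := Ideal.IsMaximal.map_of_surjective_of_ker_le (f := Ideal.Quotient.mk J) Ideal.Quotient.mk_surjective
        (m := P.comap (Ideal.Quotient.mk J)) (by intro x hx; simp [RingHom.mem_ker.mp hx])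
      rwa [Ideal.map_comap_of_surjective _ Ideal.Quotient.mk_surjective] at this
    haveI : IsArtinianRing (A ⧸ J) := IsNoetherianRing.isArtinianRing_of_krullDimLE_zero
    exact artinian_of_annihilated J M fun a ha m => Module.mem_annihilator.mp ha m
  · rintro ⟨_, h⟩ p hp
    obtain ⟨n, g, hg⟩ := Module.Finite.exists_fin' A M
    let φ : A →ₗ[A] (Fin n → M) := LinearMap.pi fun i => LinearMap.toSpanSingleton A M (g (Pi.single i 1))
    have hker : LinearMap.ker φ = Module.annihilator A M := by
      ext a
      simp only [LinearMap.mem_ker, φ, funext_iff, LinearMap.pi_apply, LinearMap.toSpanSingleton_apply,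
        Pi.zero_apply, Module.mem_annihilator]
      refine ⟨fun H m => ?_, fun H i => H _⟩
      obtain ⟨c, rfl⟩ := hg m
      rw [← Finset.univ_sum_single c, map_sum, Finset.smul_sum]
      refine Finset.sum_eq_zero fun i _ => ?_
      have : Pi.single i (c i) = (c i) • (Pi.single i (1:A) : Fin n → A) := by
        ext j; simp [Pi.single_apply]
      rw [this, map_smul, smul_comm, H i, smul_zero]
    have h1 : IsArtinian A (A ⧸ Module.annihilator A M) := hker ▸
      (φ.quotKerEquivRange.isArtinian_iff.mpr inferInstance)
    haveI : IsArtinianRing (A ⧸ Module.annihilator A M) := isArtinian_of_tower A h1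
    have hle : Module.annihilator A M ≤ p.asIdeal := Module.annihilator_le_of_mem_support hp
    have := p.isPrime
    have hP : (p.asIdeal.map (Ideal.Quotient.mk (Module.annihilator A M))).IsPrime :=
      Ideal.map_isPrime_of_surjective Ideal.Quotient.mk_surjective (by simpa using hle)
    have hM := IsArtinianRing.isMaximal_of_isPrime (p.asIdeal.map (Ideal.Quotient.mk (Module.annihilator A M)))
    have := Ideal.comap_isMaximal_of_surjective _ (Ideal.Quotient.mk_surjective (I := Module.annihilator A M)) (K := p.asIdeal.map (Ideal.Quotient.mk _))
    rwa [Ideal.comap_map_of_surjective' _ Ideal.Quotient.mk_surjective, Ideal.mk_ker, sup_eq_left.mpr hle] at this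

end Groth.Agent.S16234
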