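import Groth.Statements.S16235
import Mathlib
import Groth.Prelude
import Groth.Agent.LocCoh.GorensteinCriteria

set_option linter.all false

set_option autoImplicit false
universe u
open CAlg

open CategoryTheory

namespace Groth.Agent.S16235

/-- Let A be a Noetherian commutative ring and x_1, …, x_r a regular sequence on A (each x_i a
non-zero-divisor on A/(x_1, …, x_{i-1})) generating an ideal I ≠ A. Then the height of I, the
infimum of the heights of the minimal primes over I, equals r. -/
theorem result (A : Type u) [CommRing A] [IsNoetherianRing A]
    (r : ℕ) (x : Fin r → A) (hx : RingTheory.Sequence.IsWeaklyRegular A (List.ofFn x))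
    (hI : Ideal.span (Set.range x) ≠ ⊤) :
    (Ideal.span (Set.range x)).height = r := by
  apply le_antisymm
  · refine (Ideal.height_le_spanFinrank _ hI).trans ?_
    exact_mod_cast (Submodule.spanFinrank_span_le_ncard_of_finite (Set.finite_range x)).trans
      ((Set.ncard_image_le (f := x) (s := Set.univ)).trans_eq' (by rw [Set.image_univ]) |>.trans_eq (by simp))
  · have key : ∀ i ≤ r, ∀ P : Ideal A, P.IsPrime → Ideal.ofList ((List.ofFn x).take i) ≤ P → (i : ℕ∞) ≤ P.height := by
      intro i
      induction i with
      | zero => intro _ P _ _; simp
      | succ i ih =>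
        intro hi P hP hle
        have hil : i < (List.ofFn x).length := by simp; omega
        rw [List.take_succ_eq_append_getElem hil, Ideal.ofList_append, Ideal.ofList_singleton, sup_le_iff] at hle
        obtain ⟨Q, hQ, hQP⟩ := Ideal.exists_minimalPrimes_le (J := P) hle.1
        haveI := hQ.1.1
        have hreg := hx.regular_mod_prev i hil
        rw [smul_eq_mul, Ideal.mul_top] at hreg
        have hnot : (List.ofFn x)[i] ∉ Q := hreg.notMem_of_mem_minimalPrimes (by rwa [Ideal.annihilator_quotient])
        have hlt : Q < P := lt_of_le_of_ne hQP fun h =>
          hnot (h ▸ hle.2 (Ideal.mem_span_singleton_self _))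
        push_cast
        exact (add_le_add_left (ih (by omega) Q inferInstance hQ.1.2) 1).trans
          (Ideal.height_add_one_le_of_lt_of_isPrime hlt)
    rw [Ideal.height_eq_inf_minimalPrimes]
    refine le_iInf₂ fun P hP => ?_
    haveI := hP.1.1
    refine key r le_rfl P hP.1.1 ?_
    rw [List.take_of_length_le (by simp)]
    refine le_trans (le_of_eq ?_) hP.1.2
    show Ideal.span _ = _
    congr 1
    ext a
    simp [List.mem_ofFn]

end Groth.Agent.S16235
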