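import Groth.Statements.S16236
import Groth.Agent.KZeroLib.DevissageClosed

set_option autoImplicit false
universe u
open CategoryTheory CategoryTheory.Limits AlgebraicGeometry
attribute [local instance] HasDerivedCategory.standard
open SGA6

namespace Groth.Agent.S16236

/-- Let X be a Noetherian scheme and i : X' ⟶ X a closed immersion which is surjective on points (a
closed subscheme with the same underlying space, such as X_red ⊂ X). Direct image along i is exact
and preserves coherence (instance hypotheses and hypothesis hi); the induced homomorphism K₀(Coh X')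
⟶ K₀(Coh X) between the Grothendieck groups of coherent modules is bijective. (The published
statement is the case X' = X_red; this row takes any closed immersion that is surjective on points.) -/
theorem result {X X' : Scheme.{u}} [IsNoetherian X]
    (i : X' ⟶ X) [IsClosedImmersion i] [Surjective i]
    [(Scheme.Modules.pushforward i).Additive] [PreservesFiniteLimits (Scheme.Modules.pushforward i)]
    [PreservesFiniteColimits (Scheme.Modules.pushforward i)]
    (hi : ∀ M : X'.Modules, Coh.IsCoh M → Coh.IsCoh ((Scheme.Modules.pushforward i).obj M)) :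
    Function.Bijective (SGA6.mapSub (Scheme.Modules.pushforward i) (fun M : (X').Modules => Coh.IsCoh M)
      (fun M : (X).Modules => Coh.IsCoh M) hi) := by
  have hr : Set.range ⇑i = Set.univ := Set.range_eq_univ.2 i.surjective
  have e : (fun M : X.Modules => Coh.IsCoh M) = KZeroLib.cohSupp X (Set.range ⇑i) := by
    funext M
    refine propext ⟨fun h => ⟨h, ?_⟩, fun h => h.1⟩
    rw [hr]
    exact Set.subset_univ _
  obtain ⟨φ, hφ⟩ := KZeroLib.exists_equiv_closed i
  suffices h : ∀ (Q : ObjectProperty X.Modules) (hQ : Q = KZeroLib.cohSupp X (Set.range ⇑i))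
      (hi : ∀ M : X'.Modules, Coh.IsCoh M → Q ((Scheme.Modules.pushforward i).obj M)),
      Function.Bijective (SGA6.mapSub (Scheme.Modules.pushforward i) (fun M : X'.Modules => Coh.IsCoh M) Q hi) from
    h _ e hi
  rintro _ rfl hi
  have heq : SGA6.mapSub (Scheme.Modules.pushforward i) (fun M : X'.Modules => Coh.IsCoh M)
      (KZeroLib.cohSupp X (Set.range ⇑i)) hi = φ.toAddMonoidHom := by
    refine QuotientAddGroup.addMonoidHom_ext _ (FreeAbelianGroup.lift_ext _ _ fun F => ?_)
    have hF : (QuotientAddGroup.mk (FreeAbelianGroup.of F) : KZero.K0sub (fun M : X'.Modules => Coh.IsCoh M)) =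
        KZero.clSub (fun M : X'.Modules => Coh.IsCoh M) F.1 := by rw [KZero.clSub, dif_pos F.2]
    show SGA6.mapSub (Scheme.Modules.pushforward i) (fun M : X'.Modules => Coh.IsCoh M) _ hi
      (QuotientAddGroup.mk (FreeAbelianGroup.of F)) = φ (QuotientAddGroup.mk (FreeAbelianGroup.of F))
    refine Eq.trans ?_ (((hφ F.1 F.2).symm).trans (congrArg φ hF.symm))
    rw [KZero.clSub, dif_pos (show KZeroLib.cohSupp X (Set.range ⇑i) ((Coh.push i).obj F.1) from hi F.1 F.2)]
    rfl
  rw [heq]
  exact φ.bijective

end Groth.Agent.S16236
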