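import Groth.Statements.S16238
import Mathlib
import Groth.Agent.CommAlg4.TorRegular

set_option linter.all false

set_option autoImplicit false
universe u
open CategoryTheory
open CAlg

open CategoryTheory CategoryTheory.Limits Groth.Agent.CommAlg4.TorRegular TensorProduct

namespace Groth.Agent.S16238

/-- Let A be a Noetherian local ring, x_1, …, x_n a regular sequence on A (each x_i a non-zero-divisor
on A/(x_1, …, x_{i-1})) generating the ideal I, and J an ideal with I + J ≠ A. Then the images of
x_1, …, x_n form a regular sequence on A/J if and only if Tor_i^A(A/I, A/J) = 0 for all i ≥ 1 (in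
degree 0 the Tor is A/(I + J) in any case). (The published statement does not ask the x_i to form a
regular sequence on A itself; without this the equivalence fails, for instance for A = k[e]/(e²), n
= 1, x_1 = e and J = 0, where every higher Tor of A/(e) against the free module A vanishes although
e is a zero-divisor.) -/
theorem result (A : Type u) [CommRing A] [IsNoetherianRing A] [IsLocalRing A]
    (n : ℕ) (x : Fin n → A) (hx : RingTheory.Sequence.IsWeaklyRegular A (List.ofFn x))
    (J : Ideal A) (hIJ : Ideal.span (Set.range x) ⊔ J ≠ ⊤) :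
    RingTheory.Sequence.IsWeaklyRegular (A ⧸ J) (List.ofFn (fun i : Fin n => Ideal.Quotient.mk J (x i))) ↔
      ∀ i : ℕ, 1 ≤ i → Limits.IsZero (((Tor (ModuleCat.{u} A) i).obj
        (ModuleCat.of A (A ⧸ Ideal.span (Set.range x)))).obj (ModuleCat.of A (A ⧸ J))) := by
  obtain ⟨Pr, hPr⟩ := exists_free_resolution A (A ⧸ J)
  haveI : ∀ i, Module.Finite A (Pr.complex.X i) := fun i => (hPr i).1
  haveI : ∀ i, Module.Free A (Pr.complex.X i) := fun i => (hPr i).2
  rw [isZero_tor_iff Pr]
  let d : ∀ i, Pr.complex.X (i + 1) →ₗ[A] Pr.complex.X i := fun i => (Pr.complex.d (i + 1) i).hom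
  let q : Pr.complex.X 0 →ₗ[A] (A ⧸ J) := (Pr.π.f 0).hom
  have hdd : ∀ i z, d i (d (i + 1) z) = 0 := fun i z =>
    LinearMap.congr_fun (congrArg ModuleCat.Hom.hom (Pr.complex.d_comp_d (i + 2) (i + 1) i)) z
  have hq : Function.Surjective q := (ModuleCat.epi_iff_surjective (Pr.π.f 0)).1 inferInstance
  have hq0 : LinearMap.ker q = LinearMap.range (d 0) :=
    ((ShortComplex.exact_of_g_is_cokernel (ShortComplex.mk _ _ Pr.complex_d_comp_π_f_zero)
      Pr.isColimitCokernelCofork).moduleCat_range_eq_ker).symm
  set L := List.ofFn x with hL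
  have hlen : L.length = n := List.length_ofFn
  let I : ℕ → Ideal A := fun k => Ideal.ofList (L.take k)
  have hIn : I n = Ideal.span (Set.range x) := by
    show Ideal.ofList _ = _
    rw [List.take_of_length_le hlen.le]
    show Ideal.span _ = _
    congr 1
    ext a
    simp [hL, List.mem_ofFn]
  have hstep : ∀ k (hk : k < L.length), I (k + 1) = I k ⊔ Ideal.span {L[k]} := fun k hk => by
    show Ideal.ofList _ = _
    rw [List.take_succ_eq_append_getElem hk, Ideal.ofList_append, Ideal.ofList_singleton]
  have hxP : ∀ k (hk : k < L.length) i (z : Pr.complex.X i), L[k] • z ∈ (I k • ⊤ : Submodule A (Pr.complex.X i)) →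
      z ∈ (I k • ⊤ : Submodule A (Pr.complex.X i)) := by
    intro k hk i z hz
    have hr := hx.regular_mod_prev k hk
    rw [smul_eq_mul, Ideal.mul_top] at hr
    have hinj := Module.Flat.rTensor_preserves_injective_linearMap (M := Pr.complex.X i)
      (LinearMap.lsmul A (A ⧸ I k) L[k]) hr
    rw [← mk_eq_zero_iff] at hz ⊢
    apply hinj
    rw [map_zero, LinearMap.rTensor_tmul, LinearMap.lsmul_apply, TensorProduct.smul_tmul]
    exact hz
  have hjac : ∀ k (hk : k < L.length), L[k] ∈ Ideal.jacobson (⊥ : Ideal A) := fun k hk => by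
    rw [IsLocalRing.jacobson_eq_maximalIdeal _ bot_ne_top]
    refine IsLocalRing.le_maximalIdeal hIJ (Ideal.mem_sup_left ?_)
    rw [← hIn]
    exact Ideal.subset_span (by rw [List.take_of_length_le hlen.le]; exact List.getElem_mem hk)
  have hreg : RingTheory.Sequence.IsWeaklyRegular (A ⧸ J) (List.ofFn (fun i : Fin n => Ideal.Quotient.mk J (x i))) ↔
      ∀ k (hk : k < L.length) (m : A ⧸ J), L[k] • m ∈ (I k • ⊤ : Submodule A (A ⧸ J)) → m ∈ (I k • ⊤ : Submodule A (A ⧸ J)) := by
    rw [show List.ofFn (fun i : Fin n => Ideal.Quotient.mk J (x i)) = L.map (algebraMap A (A ⧸ J)) by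
        rw [hL, List.map_ofFn]; rfl,
      RingTheory.Sequence.isWeaklyRegular_map_algebraMap_iff, RingTheory.Sequence.isWeaklyRegular_iff]
    simp only [isSMulRegular_quotient_iff_mem_of_smul_mem]
    rfl
  have hbase : Exk (P := fun i => Pr.complex.X i) d (I 0) := by
    intro i z hz
    have h0 : I 0 = ⊥ := by simp [I]
    rw [h0, Submodule.bot_smul, Submodule.mem_bot] at hz
    exact Submodule.mem_sup_left ((Pr.exact_succ i).moduleCat_range_eq_ker.ge hz)
  rw [hreg, ← hIn]
  constructor
  · intro h
    have : ∀ k ≤ n, Exk (P := fun i => Pr.complex.X i) d (I k) := by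
      intro k
      induction k with
      | zero => exact fun _ => hbase
      | succ k ih =>
        intro hk
        rw [hstep k (by omega)]
        exact exk_step d q (I k) _ hdd hq hq0 (hxP k (by omega)) (h k (by omega)) (ih (by omega))
    exact this n le_rfl
  · intro h
    have : ∀ j ≤ n, Exk (P := fun i => Pr.complex.X i) d (I (n - j)) := by
      intro j
      induction j with
      | zero => exact fun _ => h
      | succ j ih =>
        intro hj
        have := ih (by omega)
        rw [show n - j = (n - (j + 1)) + 1 by omega, hstep _ (by omega)] at this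
        exact (exk_descend d q _ _ (hjac _ (by omega)) hdd hq hq0 (hxP _ (by omega)) this).1
    intro k hk
    have h' := this (n - (k + 1)) (by omega)
    rw [show n - (n - (k + 1)) = k + 1 by omega, hstep k hk] at h'
    exact (exk_descend d q _ _ (hjac k hk) hdd hq hq0 (hxP k hk) h').2

end Groth.Agent.S16238
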