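import Groth.Statements.S16239
import Groth.Agent.KDet28.Hom
import Groth.Agent.S3744
import Groth.Agent.SerreDual.CurveAmple
import Groth.Agent.LambdaLib.KRRThms

set_option autoImplicit false
set_option linter.style.haveILetI false
set_option backward.isDefEq.respectTransparency false
universe u
open CategoryTheory CategoryTheory.Limits AlgebraicGeometry
attribute [local instance] HasDerivedCategory.standard
open SGA6

namespace Groth.Agent.S16239

/-- Let X be a smooth proper integral curve (dimension one) over an algebraically closed field k, and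
write K for the Grothendieck group of finite locally free O_X-modules. Then every element of K can
be written as (n − 1)·[O_X] + [L] with n an integer and L an invertible O_X-module, and in such an
expression n and the isomorphism class of L are unique. (This is the bijection ℤ × Pic(X) → K
underlying the ring isomorphism K ≅ ℤ ⊕ Pic(X), α ↦ (rank α, det α), of the source, which identifies
K with K₀ of coherent modules via the Cartan isomorphism. The published statement takes X
projective; a proper curve over a field is projective, so this row takes X proper.) -/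
theorem result (k : Type u) [Field k] [IsAlgClosed k]
    (X : Scheme.{u}) [X.Over (Spec (CommRingCat.of k))] [IsIntegral X]
    [IsProper (X ↘ Spec (CommRingCat.of k))] [Smooth (X ↘ Spec (CommRingCat.of k))]
    (hdim : topologicalKrullDim ↥X = 1) :
    (∀ a : SGA6.Kvb X, ∃ (n : ℤ) (L : X.Modules), PicF.IsInvertible L ∧
        a = (n - 1) • KZero.clSub (fun M : X.Modules => FlatMod.IsFinLocFree M) (Coh.structureModule X) +
          KZero.clSub (fun M : X.Modules => FlatMod.IsFinLocFree M) L) ∧
      (∀ (n m : ℤ) (L L' : X.Modules), PicF.IsInvertible L → PicF.IsInvertible L' →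
        (n - 1) • KZero.clSub (fun M : X.Modules => FlatMod.IsFinLocFree M) (Coh.structureModule X) +
            KZero.clSub (fun M : X.Modules => FlatMod.IsFinLocFree M) L =
          (m - 1) • KZero.clSub (fun M : X.Modules => FlatMod.IsFinLocFree M) (Coh.structureModule X) +
            KZero.clSub (fun M : X.Modules => FlatMod.IsFinLocFree M) L' →
        n = m ∧ Nonempty (L ≅ L')) := by
  haveI := Groth.Agent.EulerLib.isNoetherian_of_proper k (X := X)
  haveI : ConnectedSpace ↥X := inferInstance
  obtain ⟨A, -, hA, -⟩ := Groth.Agent.SerreDual.exists_ample_curve k hdim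
  obtain ⟨K, _, _, P, φ, hK⟩ := Groth.Agent.KModel28.exists_model X
  have hF : LambdaRing.gammaFiltration P 2 = ⊥ :=
    Groth.Agent.S3744.result X A hA 1 (by simp [hdim]) K P φ hK
  have h0 : ∀ x : K, x ∈ LambdaRing.gammaFiltration P 2 → x = 0 := (AddSubgroup.eq_bot_iff_forall _).1 hF
  have hinj := hK.bijective.injective
  have haug : ∀ L : X.Modules, PicF.IsInvertible L → P.aug (φ (KRR.cl X L)) = 1 := fun L hL => by
    rw [hK.aug_cl 1 L (Groth.Agent.PicLib.isFinLocFreeOfRank_one hL), Nat.cast_one]
  have hprod : ∀ L L' : X.Modules, PicF.IsInvertible L → PicF.IsInvertible L' →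
      φ (KRR.cl X L) + φ (KRR.cl X L') = φ (KRR.cl X (CohB1.tensorMod L L')) + 1 := fun L L' hL hL' => by
    have h := h0 _ (Groth.Agent.LambdaLib.mul_mem_add P (m := 1) (n := 1)
      (Groth.Agent.LambdaLib.mem_one_of_aug_eq_zero P (x := φ (KRR.cl X L) - 1) (by simp [haug L hL]))
      (Groth.Agent.LambdaLib.mem_one_of_aug_eq_zero P (x := φ (KRR.cl X L') - 1) (by simp [haug L' hL'])))
    have h' : φ (KRR.cl X L) * φ (KRR.cl X L') = φ (KRR.cl X (CohB1.tensorMod L L')) :=
      hK.map_mul L L' (Groth.Agent.VarietyLib.isFinLocFree_of_rank (Groth.Agent.PicLib.isFinLocFreeOfRank_one hL))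
        (Groth.Agent.VarietyLib.isFinLocFree_of_rank (Groth.Agent.PicLib.isFinLocFreeOfRank_one hL'))
    linear_combination h' - h
  have hφ : ∀ (n : ℤ) (L : X.Modules),
      φ ((n - 1) • KRR.cl X (Coh.structureModule X) + KRR.cl X L) = ((n - 1 : ℤ) : K) + φ (KRR.cl X L) :=
    fun n L => by rw [map_add, map_zsmul, hK.map_one, zsmul_one]
  refine ⟨fun a => ?_, fun n m L L' hL hL' h => ?_⟩
  · suffices ∃ (n : ℤ) (L : X.Modules), PicF.IsInvertible L ∧ φ a = ((n - 1 : ℤ) : K) + φ (KRR.cl X L) by
      obtain ⟨n, L, hL, he⟩ := this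
      exact ⟨n, L, hL, hinj (he.trans (hφ n L).symm)⟩
    refine Groth.Agent.KvbLam28.kvb_induction (P := fun a => ∃ (n : ℤ) (L : X.Modules), PicF.IsInvertible L ∧
      φ a = ((n - 1 : ℤ) : K) + φ (KRR.cl X L)) ?_ ?_ ?_ ?_ a
    · exact ⟨0, _, Groth.Agent.AmpleLib.isInvertible_structureModule, by rw [map_zero, hK.map_one]; simp⟩
    · intro E hE
      obtain ⟨n, hn⟩ := Groth.Agent.KModel28.exists_rank hE
      rcases Nat.eq_zero_or_pos n with rfl | hpos
      · refine ⟨0, _, Groth.Agent.AmpleLib.isInvertible_structureModule, ?_⟩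
        show φ (KRR.cl X E) = _
        rw [Groth.Agent.KModel28.cl_isZero (Groth.Agent.KModel28.isZero_of_rank_zero hn), map_zero, hK.map_one]
        simp
      · obtain ⟨L, hLf, hp⟩ := Groth.Agent.ExtPowEx28.exists_isExtPow hE n
        refine ⟨n, L, Groth.Agent.Canon15.isInvertible_of_isExtPow hn hp, ?_⟩
        have h := h0 _ (Groth.Agent.LambdaLib.detPos_sub_one_sub_mem P
          ((hK.mem_pos_iff _).2 ⟨n, E, hpos, hn, rfl⟩))
        rw [Groth.Agent.LambdaLib.detPos, hK.aug_cl n E hn, Int.toNat_natCast, hK.map_lam n E L hE hLf hp] at h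
        show φ (KRR.cl X E) = _
        push_cast
        linear_combination -h
    · rintro a ⟨n, L, hL, he⟩
      obtain ⟨M, hM⟩ := Groth.Agent.VarietyLib.exists_isInverseOf hL
      obtain ⟨e⟩ := hM
      have hM' : PicF.IsInvertible M :=
        Groth.Agent.MorProj.isInvertible_of_tensor_iso (Groth.Agent.AmpleLib.tensorComm M _ ≪≫ e)
      refine ⟨-n, M, hM', ?_⟩
      have h := hprod L M hL hM'
      rw [show KRR.cl X (CohB1.tensorMod L M) = KRR.cl X (Coh.structureModule X) from
        Groth.Agent.ExtFilt28.clv_iso e, hK.map_one] at h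
      rw [map_neg, he]
      push_cast
      linear_combination -h
    · rintro a b ⟨n, L, hL, he⟩ ⟨m, L', hL', he'⟩
      refine ⟨n + m, _, Groth.Agent.AmpleLib.isInvertible_tensorMod hL hL', ?_⟩
      rw [map_add, he, he']
      push_cast
      linear_combination hprod L L' hL hL'
  · have h' : ((n - 1 : ℤ) : K) + φ (KRR.cl X L) = ((m - 1 : ℤ) : K) + φ (KRR.cl X L') :=
      (hφ n L).symm.trans ((congrArg φ h).trans (hφ m L'))
    have h'' := congrArg P.aug h'
    rw [map_add, map_add, map_intCast, map_intCast, haug L hL, haug L' hL'] at h''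
    simp only [Int.cast_id, sub_add_cancel] at h''
    subst h''
    exact ⟨rfl, Groth.Agent.KDet28.nonempty_iso_of_cl_eq hL hL' (hinj (add_left_cancel h'))⟩

end Groth.Agent.S16239
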