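import Groth.Statements.S1624
import Groth.Agent.BlowUpCoh.GGVanish
import Groth.Agent.BlowUpKoszul.PointBlowUp
import Groth.Agent.BlowUpLib.Proper

set_option autoImplicit false
universe u
open CategoryTheory CategoryTheory.Limits AlgebraicGeometry
open Resolve

open Groth.Agent.BlowUpCoh Groth.Agent.CAlgH.KoszulRegular Groth.Agent.Coherent

namespace Groth.Agent.S1624

/-- Let A be a regular local ring of dimension two and b : X → Spec A the blowing up in the maximal
ideal. If F is a quasi-coherent O_X-module which is globally generated, then H¹(X, F) = 0. -/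
theorem result (A : Type u) [CommRing A] [IsRegularLocalRing A] (hA : ringKrullDim A = 2)
    (X : Scheme.{u}) (b : X ⟶ Spec (CommRingCat.of A)) (hb : BlowUp.IsBlowUp b (Curv2.idealSheaf A (IsLocalRing.maximalIdeal A)))
    (F : X.Modules) (hF : Coh.IsQCoh F) (hgg : Curv2.IsGloballyGenerated F) : Subsingleton (Coh.HH X F 1) := by
  obtain ⟨rs, hlen, hm, hrs⟩ := CAlgH3.exists_isRegular_ofList_eq_maximalIdeal (R := A)
  have hlen2 : rs.length = 2 := by
    have h := IsRegularLocalRing.spanFinrank_maximalIdeal (R := A)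
    rw [hA, ← hlen] at h
    exact_mod_cast h
  let e : A ≃+* Γ(Spec (CommRingCat.of A), ⊤) :=
    (Scheme.ΓSpecIso (CommRingCat.of A)).symm.commRingCatIsoToRingEquiv
  let g : Fin (1 + 1) → A := fun i => rs.get (i.cast hlen2.symm)
  let f : Fin (1 + 1) → Γ(Spec (CommRingCat.of A), ⊤) := fun i => e (g i)
  have hl : List.ofFn g = rs :=
    ((List.ofFn_congr hlen2.symm g).trans (congrArg List.ofFn (funext fun _ => rfl))).trans (List.ofFn_get rs)
  have hspan : (Curv2.idealSheaf A (IsLocalRing.maximalIdeal A)).ideal (topAff (Spec (CommRingCat.of A))) =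
      Ideal.span (Set.range f) := by
    rw [show (Curv2.idealSheaf A (IsLocalRing.maximalIdeal A)).ideal (topAff (Spec (CommRingCat.of A))) =
      (IsLocalRing.maximalIdeal A).map e.toRingHom from BlowUpKoszul.idealSheaf_top_ideal A,
      ← hm, ← hl, ← span_range_get, Set.range_list_get, Ideal.map_span]
    congr 1
    ext y
    simp [f, List.mem_ofFn']
  have hf : KReg f := BlowUpKoszul.kreg_equiv A e g
    (CAlgH.KoszulH1.kreg_of_isWeaklyRegular (hl.symm ▸ hrs.toIsWeaklyRegular))
  have := Groth.Agent.BlowUpLib.isProper_of_isBlowUp hb (fun U => by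
    haveI := IsLocallyNoetherian.component_noetherian (X := Spec (CommRingCat.of A)) U
    exact IsNoetherian.noetherian _)
  haveI : X.IsSeparated := ⟨by rw [← terminal.comp_from b]; infer_instance⟩
  have hO : Subsingleton (Coh.HH X (Coh.structureModule X) 1) := by
    haveI : Coh.IsQCoh (Coh.structureModule X) := isQCoh_structureModule
    exact BlowUpCoh.subsingleton_HH b f hb hspan (T := twistO _) (hf := hf) (by simp) 0
  have hcov := iSup_chartW b f hb hspan
  have haff := fun q (s : Fin (q + 1) → Fin (1 + 1)) => isAffineOpen_WI b f hb hspan s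
  refine subsingleton_HH_one_of_gg (U := chartW (Curv2.idealSheaf A (IsLocalRing.maximalIdeal A)) b f 0)
    (V := chartW (Curv2.idealSheaf A (IsLocalRing.maximalIdeal A)) b f 1) ?_ ?_ ?_ ?_ hO hgg
  · convert haff 0 (fun _ => 0) using 1
    rw [WI, iInf_const]
  · convert haff 0 (fun _ => 1) using 1
    rw [WI, iInf_const]
  · have := haff 1 ![0, 1]
    convert this using 1
    rw [WI]
    exact le_antisymm (le_iInf (Fin.forall_fin_two.2 ⟨inf_le_left, inf_le_right⟩)) (le_inf (iInf_le _ 0) (iInf_le _ 1))
  · rw [← hcov]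
    exact le_antisymm (sup_le (le_iSup _ 0) (le_iSup _ 1))
      (iSup_le (Fin.forall_fin_two.2 ⟨le_sup_left, le_sup_right⟩))


end Groth.Agent.S1624
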