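import Groth.Statements.S16242
import Groth.Agent.NodeK028.Basic

set_option maxHeartbeats 1000000
set_option linter.style.haveILetI false

set_option autoImplicit false
universe u
open CategoryTheory
open KZero

namespace Groth.Agent.S16242

/-- Let k be a field and A = k[x, y]/(xy) (polynomial ring in two variables x = X_0, y = X_1 modulo xy).
In the Grothendieck group of finitely generated A-modules (free abelian group on them modulo short
exact sequences), the classes of A/(x) ≅ k[y] and A/(y) ≅ k[x] form a basis: the homomorphism ℤ × ℤ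
⟶ K₀ sending (a, b) to a·[A/(x)] + b·[A/(y)] is bijective. -/
theorem result (k : Type u) [Field k] :
    Function.Bijective (fun p : ℤ × ℤ =>
      p.1 • KZero.clSub (fun M : ModuleCat.{u} (MvPolynomial (Fin 2) k ⧸ Ideal.span {(MvPolynomial.X 0 * MvPolynomial.X 1 : MvPolynomial (Fin 2) k)}) => Module.Finite (MvPolynomial (Fin 2) k ⧸ Ideal.span {(MvPolynomial.X 0 * MvPolynomial.X 1 : MvPolynomial (Fin 2) k)}) M)
          (ModuleCat.of (MvPolynomial (Fin 2) k ⧸ Ideal.span {(MvPolynomial.X 0 * MvPolynomial.X 1 : MvPolynomial (Fin 2) k)}) ((MvPolynomial (Fin 2) k ⧸ Ideal.span {(MvPolynomial.X 0 * MvPolynomial.X 1 : MvPolynomial (Fin 2) k)}) ⧸ Ideal.span {Ideal.Quotient.mk (Ideal.span {(MvPolynomial.X 0 * MvPolynomial.X 1 : MvPolynomial (Fin 2) k)}) (MvPolynomial.X 0)})) +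
        p.2 • KZero.clSub (fun M : ModuleCat.{u} (MvPolynomial (Fin 2) k ⧸ Ideal.span {(MvPolynomial.X 0 * MvPolynomial.X 1 : MvPolynomial (Fin 2) k)}) => Module.Finite (MvPolynomial (Fin 2) k ⧸ Ideal.span {(MvPolynomial.X 0 * MvPolynomial.X 1 : MvPolynomial (Fin 2) k)}) M)
          (ModuleCat.of (MvPolynomial (Fin 2) k ⧸ Ideal.span {(MvPolynomial.X 0 * MvPolynomial.X 1 : MvPolynomial (Fin 2) k)}) ((MvPolynomial (Fin 2) k ⧸ Ideal.span {(MvPolynomial.X 0 * MvPolynomial.X 1 : MvPolynomial (Fin 2) k)}) ⧸ Ideal.span {Ideal.Quotient.mk (Ideal.span {(MvPolynomial.X 0 * MvPolynomial.X 1 : MvPolynomial (Fin 2) k)}) (MvPolynomial.X 1)}))) := by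
  have h01 : (0 : Fin 2) ≠ 1 := by decide
  have h10 : (1 : Fin 2) ≠ 0 := by decide
  set Fp := fun p : ℤ × ℤ =>
    p.1 • KZero.clSub (NodeK028.fin k) (ModuleCat.of (MvPolynomial (Fin 2) k ⧸ Ideal.span {(MvPolynomial.X 0 * MvPolynomial.X 1 : MvPolynomial (Fin 2) k)}) ((MvPolynomial (Fin 2) k ⧸ Ideal.span {(MvPolynomial.X 0 * MvPolynomial.X 1 : MvPolynomial (Fin 2) k)}) ⧸ Ideal.span {NodeK028.co k 0})) +
      p.2 • KZero.clSub (NodeK028.fin k) (ModuleCat.of (MvPolynomial (Fin 2) k ⧸ Ideal.span {(MvPolynomial.X 0 * MvPolynomial.X 1 : MvPolynomial (Fin 2) k)}) ((MvPolynomial (Fin 2) k ⧸ Ideal.span {(MvPolynomial.X 0 * MvPolynomial.X 1 : MvPolynomial (Fin 2) k)}) ⧸ Ideal.span {NodeK028.co k 1})) with hFp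
  show Function.Bijective Fp
  have hP0 : (Ideal.span {NodeK028.co k 0}).IsPrime := NodeK028.isPrime h01
  have hP1 : (Ideal.span {NodeK028.co k 1}).IsPrime := NodeK028.isPrime h10
  let Rf : ∀ (i j : Fin 2), i ≠ j → ∀ [(Ideal.span {NodeK028.co k i}).IsPrime],
      KZero.K0sub (NodeK028.fin k) →+ ℤ := fun i j h _ =>
    QuotientAddGroup.lift _ (FreeAbelianGroup.lift fun M : Subtype (NodeK028.fin k) =>
      NodeK028.rk (Ideal.span {NodeK028.co k i}) M.1) (by
      rw [KZero.relSub, AddSubgroup.closure_le]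
      rintro _ ⟨S, h₁, h₂, h₃, hS, rfl⟩
      have : Module.Finite (MvPolynomial (Fin 2) k ⧸ Ideal.span {(MvPolynomial.X 0 * MvPolynomial.X 1 : MvPolynomial (Fin 2) k)}) S.X₁ := h₁
      have : Module.Finite (MvPolynomial (Fin 2) k ⧸ Ideal.span {(MvPolynomial.X 0 * MvPolynomial.X 1 : MvPolynomial (Fin 2) k)}) S.X₂ := h₂
      have : Module.Finite (MvPolynomial (Fin 2) k ⧸ Ideal.span {(MvPolynomial.X 0 * MvPolynomial.X 1 : MvPolynomial (Fin 2) k)}) S.X₃ := h₃
      simp only [SetLike.mem_coe, AddMonoidHom.mem_ker, map_sub, FreeAbelianGroup.lift_apply_of]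
      rw [NodeK028.rk_add h S.f.hom S.g.hom hS.moduleCat_injective_f hS.moduleCat_surjective_g
        ((ShortComplex.ShortExact.moduleCat_exact_iff_function_exact S).1 hS.exact)]
      abel)
  have hR : ∀ (i j : Fin 2) (h : i ≠ j) [(Ideal.span {NodeK028.co k i}).IsPrime]
      (I : Ideal (MvPolynomial (Fin 2) k ⧸ Ideal.span {(MvPolynomial.X 0 * MvPolynomial.X 1 : MvPolynomial (Fin 2) k)})),
      Rf i j h (KZero.clSub (NodeK028.fin k) (ModuleCat.of (MvPolynomial (Fin 2) k ⧸ Ideal.span {(MvPolynomial.X 0 * MvPolynomial.X 1 : MvPolynomial (Fin 2) k)}) ((MvPolynomial (Fin 2) k ⧸ Ideal.span {(MvPolynomial.X 0 * MvPolynomial.X 1 : MvPolynomial (Fin 2) k)}) ⧸ I))) =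
        NodeK028.rk (Ideal.span {NodeK028.co k i}) ((MvPolynomial (Fin 2) k ⧸ Ideal.span {(MvPolynomial.X 0 * MvPolynomial.X 1 : MvPolynomial (Fin 2) k)}) ⧸ I) := fun i j h _ I => by
    rw [KZero.clSub, dif_pos (show NodeK028.fin k (ModuleCat.of (MvPolynomial (Fin 2) k ⧸ Ideal.span {(MvPolynomial.X 0 * MvPolynomial.X 1 : MvPolynomial (Fin 2) k)}) ((MvPolynomial (Fin 2) k ⧸ Ideal.span {(MvPolynomial.X 0 * MvPolynomial.X 1 : MvPolynomial (Fin 2) k)}) ⧸ I)) from
      (inferInstance : Module.Finite (MvPolynomial (Fin 2) k ⧸ Ideal.span {(MvPolynomial.X 0 * MvPolynomial.X 1 : MvPolynomial (Fin 2) k)}) ((MvPolynomial (Fin 2) k ⧸ Ideal.span {(MvPolynomial.X 0 * MvPolynomial.X 1 : MvPolynomial (Fin 2) k)}) ⧸ I)))]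
    exact FreeAbelianGroup.lift_apply_of _ _
  refine ⟨fun p q h => ?_, fun c => ?_⟩
  · have h0 := congrArg (Rf 0 1 h01) h
    have h1 := congrArg (Rf 1 0 h10) h
    simp only [hFp, map_add, map_zsmul, hR, NodeK028.rk_one h01, NodeK028.rk_zero h01,
      NodeK028.rk_one h10, NodeK028.rk_zero h10, smul_eq_mul, mul_one, mul_zero, add_zero, zero_add] at h0 h1
    exact Prod.ext h0 h1
  · let Ψ : ℤ × ℤ →+ KZero.K0sub (NodeK028.fin k) :=
      AddMonoidHom.coprod (zmultiplesHom _ (KZero.clSub (NodeK028.fin k) (ModuleCat.of (MvPolynomial (Fin 2) k ⧸ Ideal.span {(MvPolynomial.X 0 * MvPolynomial.X 1 : MvPolynomial (Fin 2) k)}) ((MvPolynomial (Fin 2) k ⧸ Ideal.span {(MvPolynomial.X 0 * MvPolynomial.X 1 : MvPolynomial (Fin 2) k)}) ⧸ Ideal.span {NodeK028.co k 0}))))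
        (zmultiplesHom _ (KZero.clSub (NodeK028.fin k) (ModuleCat.of (MvPolynomial (Fin 2) k ⧸ Ideal.span {(MvPolynomial.X 0 * MvPolynomial.X 1 : MvPolynomial (Fin 2) k)}) ((MvPolynomial (Fin 2) k ⧸ Ideal.span {(MvPolynomial.X 0 * MvPolynomial.X 1 : MvPolynomial (Fin 2) k)}) ⧸ Ideal.span {NodeK028.co k 1}))))
    show c ∈ Ψ.range
    have hmem : ∀ (M : Type u) [AddCommGroup M] [Module (MvPolynomial (Fin 2) k ⧸ Ideal.span {(MvPolynomial.X 0 * MvPolynomial.X 1 : MvPolynomial (Fin 2) k)}) M] (_ : Module.Finite (MvPolynomial (Fin 2) k ⧸ Ideal.span {(MvPolynomial.X 0 * MvPolynomial.X 1 : MvPolynomial (Fin 2) k)}) M),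
        KZero.clSub (NodeK028.fin k) (ModuleCat.of (MvPolynomial (Fin 2) k ⧸ Ideal.span {(MvPolynomial.X 0 * MvPolynomial.X 1 : MvPolynomial (Fin 2) k)}) M) ∈ Ψ.range := by
      intro M _ _ hM
      refine IsNoetherianRing.induction_on_isQuotientEquivQuotientPrime (MvPolynomial (Fin 2) k ⧸ Ideal.span {(MvPolynomial.X 0 * MvPolynomial.X 1 : MvPolynomial (Fin 2) k)}) hM
        (motive := fun N _ _ _ => KZero.clSub (NodeK028.fin k) (ModuleCat.of (MvPolynomial (Fin 2) k ⧸ Ideal.span {(MvPolynomial.X 0 * MvPolynomial.X 1 : MvPolynomial (Fin 2) k)}) N) ∈ Ψ.range) ?_ ?_ ?_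
      · intro N _ _ _ _
        rw [NodeK028.cls_subsingleton k]
        exact zero_mem _
      · intro N _ _ _ p e
        rw [NodeK028.cls_equiv k e.symm]
        have hmul : NodeK028.co k 0 * NodeK028.co k 1 ∈ p.asIdeal := by
          rw [NodeK028.co_mul k h01]; exact zero_mem _
        rcases p.isPrime.mem_or_mem hmul with hp | hp
        · rcases NodeK028.cls_quot_prime h01 p.asIdeal hp with h | h
          · rw [h]; exact zero_mem _
          · rw [h]; exact ⟨(1, 0), by simp [Ψ]⟩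
        · rcases NodeK028.cls_quot_prime h10 p.asIdeal hp with h | h
          · rw [h]; exact zero_mem _
          · rw [h]; exact ⟨(0, 1), by simp [Ψ]⟩
      · intro N₁ _ _ _ N₂ _ _ _ N₃ _ _ _ f g hf hg hex a b
        rw [NodeK028.cls_ses k f g hf hg hex]
        exact add_mem a b
    induction c using QuotientAddGroup.induction_on with | _ z
    induction z using FreeAbelianGroup.induction_on with
    | zero => exact zero_mem _
    | of M =>
      have h := hmem M.1 M.2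
      rwa [KZero.clSub, dif_pos (show NodeK028.fin k (ModuleCat.of (MvPolynomial (Fin 2) k ⧸ Ideal.span {(MvPolynomial.X 0 * MvPolynomial.X 1 : MvPolynomial (Fin 2) k)}) M.1) from M.2)] at h
    | neg M hM => exact neg_mem hM
    | add a b ha hb => exact add_mem ha hb

end Groth.Agent.S16242
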