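import Groth.Statements.S16243
import Mathlib.Algebra.AffineMonoid.UniqueSums
import Mathlib.Algebra.Category.ModuleCat.Projective
import Mathlib.Algebra.Homology.ShortComplex.ModuleCat
import Mathlib.Algebra.MvPolynomial.Division
import Mathlib.CategoryTheory.Abelian.Projective.Dimension
import Mathlib.CategoryTheory.Monoidal.Tor
import Mathlib.Combinatorics.Quiver.ReflQuiver
import Mathlib.LinearAlgebra.TensorProduct.Prod
import Mathlib.RingTheory.Henselian
import Mathlib.RingTheory.PicardGroup
import Mathlib.RingTheory.RegularLocalRing.Defs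
import Mathlib.RingTheory.SimpleRing.Principal
import Mathlib.Tactic

set_option linter.all false

set_option autoImplicit false
universe u
open CategoryTheory
open CAlg

open CategoryTheory MonoidalCategory
open scoped TensorProduct

namespace Groth.Agent.S16243

variable {A : Type u} [CommRing A]

structure NodeData (x y : A) : Prop where
  ax : ∀ a, a * x = 0 ↔ ∃ c, c * y = a
  ay : ∀ a, a * y = 0 ↔ ∃ c, c * x = a
  sep : ∀ a b, a * x + b * y = 0 → a * x = 0 ∧ b * y = 0
  proper : Ideal.span {x, y} ≠ ⊤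

theorem NodeData.symm {x y : A} (h : NodeData x y) : NodeData y x :=
  ⟨h.ay, h.ax, fun a b e => (h.sep b a (by rw [← e]; ring)).symm, by rw [Set.pair_comm]; exact h.proper⟩

theorem NodeData.xy {x y : A} (h : NodeData x y) : x * y = 0 := (h.ay x).mpr ⟨1, one_mul x⟩

abbrev Xo : ℕ → ModuleCat.{u} A
  | 0 => ModuleCat.of A A
  | _ + 1 => ModuleCat.of A (A × A)

noncomputable def mulPair (x y : A) : (A × A) →ₗ[A] (A × A) :=
  LinearMap.prodMap (LinearMap.toSpanSingleton A A x) (LinearMap.toSpanSingleton A A y)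

noncomputable def dd (x y : A) : (n : ℕ) → (Xo (A := A) (n + 1) ⟶ Xo n)
  | 0 => ModuleCat.ofHom (LinearMap.coprod (LinearMap.toSpanSingleton A A x) (LinearMap.toSpanSingleton A A y))
  | n + 1 => ModuleCat.ofHom (if Even n then mulPair y x else mulPair x y)

theorem dd_dd {x y : A} (h : NodeData x y) (n : ℕ) : dd x y (n + 1) ≫ dd x y n = 0 := by
  have hxy := h.xy
  have hyx : y * x = 0 := by rw [mul_comm]; exact hxy
  apply ModuleCat.hom_ext
  match n with
  | 0 => ext <;> simp [dd, mulPair, hxy, hyx]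
  | m + 1 =>
    by_cases hm : Even m <;>
      ext <;> simp [dd, mulPair, hm, Nat.even_add_one, hxy, hyx]

noncomputable def res {x y : A} (h : NodeData x y) : ChainComplex (ModuleCat.{u} A) ℕ :=
  ChainComplex.of Xo (dd x y) (dd_dd h)

theorem res_d {x y : A} (h : NodeData x y) (n : ℕ) : (res h).d (n + 1) n = dd x y n :=
  ChainComplex.of_d (Xo (A := A)) (dd x y) n

abbrev kap (x y : A) : ModuleCat.{u} A := ModuleCat.of A (A ⧸ Ideal.span {x, y})

noncomputable def resπ {x y : A} (h : NodeData x y) : res h ⟶ (ChainComplex.single₀ _).obj (kap x y) :=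
  ((res h).toSingle₀Equiv (kap x y)).symm ⟨ModuleCat.ofHom (Ideal.span {x, y}).mkQ, by
    have h0 : (res h).d 1 0 = dd x y 0 := res_d h 0
    rw [h0]
    apply ModuleCat.hom_ext
    apply LinearMap.ext
    rintro (z : A × A)
    show (Submodule.Quotient.mk (z.1 • x + z.2 • y) : A ⧸ Ideal.span {x, y}) = 0
    exact (Submodule.Quotient.mk_eq_zero _).mpr (Ideal.mem_span_pair.mpr ⟨z.1, z.2, rfl⟩)⟩

theorem res_quasiIso {x y : A} (h : NodeData x y) : QuasiIso (resπ h) := by
  constructor
  intro i
  cases i with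
  | zero =>
    rw [ChainComplex.quasiIsoAt₀_iff, ShortComplex.quasiIso_iff_of_zeros']
    rotate_left
    all_goals try rfl
    all_goals try (simp; done)
    have hπ : (resπ h).f 0 = ModuleCat.ofHom (Ideal.span {x, y}).mkQ :=
      ChainComplex.toSingle₀Equiv_symm_apply_f_zero ..
    have h0 : (res h).d 1 0 = dd x y 0 := res_d h 0
    constructor
    · rw [ShortComplex.moduleCat_exact_iff]
      intro z hz
      change ((resπ h).f 0).hom z = 0 at hz
      rw [hπ] at hz
      obtain ⟨a, b, hab⟩ := Ideal.mem_span_pair.mp ((Submodule.Quotient.mk_eq_zero _).mp hz)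
      refine ⟨((a, b) : A × A), ?_⟩
      change ((res h).d 1 0).hom (a, b) = z
      rw [h0, ← hab]
      rfl
    · show Epi ((resπ h).f 0)
      rw [hπ]
      exact (ModuleCat.epi_iff_surjective (ModuleCat.ofHom (Ideal.span {x, y}).mkQ)).mpr
        (Submodule.mkQ_surjective _)
  | succ n =>
    rw [quasiIsoAt_iff_exactAt' _ _ (ChainComplex.exactAt_succ_single_obj ..),
      HomologicalComplex.exactAt_iff' _ (n + 2) (n + 1) n (by simp only [ChainComplex.prev]; rfl) (by simp),
      ShortComplex.moduleCat_exact_iff]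
    have h1 : (res h).d (n + 2) (n + 1) = dd x y (n + 1) := res_d h (n + 1)
    have h2 : (res h).d (n + 1) n = dd x y n := res_d h n
    intro z hz
    change ((res h).d (n + 1) n).hom z = 0 at hz
    rw [h2] at hz
    suffices ∃ w : A × A, (dd x y (n + 1)).hom w = z by
      obtain ⟨w, hw⟩ := this
      exact ⟨w, by change ((res h).d (n + 2) (n + 1)).hom w = z; rw [h1]; exact hw⟩
    revert z
    match n with
    | 0 =>
      rintro (z : A × A) hz
      change z.1 • x + z.2 • y = 0 at hz
      obtain ⟨e1, e2⟩ := h.sep _ _ hz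
      obtain ⟨c1, hc1⟩ := (h.ax _).mp e1
      obtain ⟨c2, hc2⟩ := (h.ay _).mp e2
      exact ⟨(c1, c2), by simp [dd, mulPair, hc1, hc2]⟩
    | m + 1 =>
      rintro (z : A × A) hz
      by_cases hm : Even m
      · change (if Even m then mulPair y x else mulPair x y) z = 0 at hz
        simp [mulPair, hm, Prod.ext_iff] at hz
        obtain ⟨c1, hc1⟩ := (h.ay _).mp hz.1
        obtain ⟨c2, hc2⟩ := (h.ax _).mp hz.2
        exact ⟨(c1, c2), by simp [dd, mulPair, hm, Nat.even_add_one, hc1, hc2]⟩
      · change (if Even m then mulPair y x else mulPair x y) z = 0 at hz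
        simp [mulPair, hm, Prod.ext_iff] at hz
        obtain ⟨c1, hc1⟩ := (h.ax _).mp hz.1
        obtain ⟨c2, hc2⟩ := (h.ay _).mp hz.2
        exact ⟨(c1, c2), by simp [dd, mulPair, hm, Nat.even_add_one, hc1, hc2]⟩

noncomputable def projRes {x y : A} (h : NodeData x y) : ProjectiveResolution (kap x y) where
  complex := res h
  projective n := by
    match n with
    | 0 => exact (IsProjective.iff_projective (R := A) A).mp inferInstance
    | m + 1 => exact (IsProjective.iff_projective (R := A) (A × A)).mp inferInstance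
  π := resπ h
  quasiIso := res_quasiIso h

theorem tensor_dd_zero {x y : A} (h : NodeData x y) (n : ℕ) :
    kap x y ◁ dd x y n = 0 := by
  have hk : ∀ z ∈ ({x, y} : Set A), ∀ q : A ⧸ Ideal.span {x, y}, z • q = 0 := by
    intro z hz q
    obtain ⟨r, rfl⟩ := Submodule.Quotient.mk_surjective _ q
    rw [← Submodule.Quotient.mk_smul, Submodule.Quotient.mk_eq_zero]
    exact Ideal.mul_mem_right _ _ (Ideal.subset_span hz)
  apply ModuleCat.hom_ext
  refine TensorProduct.ext' fun q w => ?_
  show q ⊗ₜ[A] (dd x y n).hom w = 0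
  match n with
  | 0 =>
    show q ⊗ₜ[A] (w.1 • x + w.2 • y) = 0
    rw [smul_eq_mul, smul_eq_mul, mul_comm w.1, mul_comm w.2, TensorProduct.tmul_add,
      ← smul_eq_mul, ← smul_eq_mul, TensorProduct.tmul_smul, TensorProduct.tmul_smul,
      TensorProduct.smul_tmul', TensorProduct.smul_tmul', hk x (by simp), hk y (by simp),
      TensorProduct.zero_tmul, TensorProduct.zero_tmul, add_zero]
  | m + 1 =>
    have key : (dd x y (m + 1)).hom w = (if Even m then y else x) • ((w.1, 0) : A × A) +
        (if Even m then x else y) • ((0, w.2) : A × A) := by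
      by_cases hm : Even m <;> ext <;> simp [dd, mulPair, hm, mul_comm]
    rw [key, TensorProduct.tmul_add, TensorProduct.tmul_smul, TensorProduct.tmul_smul,
      TensorProduct.smul_tmul', TensorProduct.smul_tmul', hk _ (by split_ifs <;> simp),
      hk _ (by split_ifs <;> simp), TensorProduct.zero_tmul, TensorProduct.zero_tmul, add_zero]

theorem tor_iso {x y : A} (h : NodeData x y) (m : ℕ) :
    Nonempty (((((Tor (ModuleCat.{u} A) (m + 1)).obj (kap x y)).obj (kap x y)) : Type u)
      ≃ₗ[A] ((A ⧸ Ideal.span {x, y}) × (A ⧸ Ideal.span {x, y}))) := by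
  let F := (tensoringLeft (ModuleCat.{u} A)).obj (kap x y)
  let C' := (F.mapHomologicalComplex (ComplexShape.down ℕ)).obj (res h)
  have hd : ∀ i j, C'.d i j = 0 := by
    intro i j
    show F.map ((res h).d i j) = 0
    by_cases hij : (ComplexShape.down ℕ).Rel i j
    · obtain rfl : j + 1 = i := hij
      rw [res_d h j]
      exact tensor_dd_zero h j
    · rw [(res h).shape i j hij, F.map_zero]
  let e : C'.homology (m + 1) ≅ C'.X (m + 1) :=
    (ShortComplex.HomologyData.ofZeros (C'.sc (m + 1)) (hd _ _) (hd _ _)).left.homologyIso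
  let e2 := ((projRes h).isoLeftDerivedObj F (m + 1)) ≪≫ e
  exact ⟨e2.toLinearEquiv ≪≫ₗ (TensorProduct.prodRight A A (A ⧸ Ideal.span {x, y}) A A) ≪≫ₗ
    (TensorProduct.rid A _).prodCongr (TensorProduct.rid A _)⟩

theorem not_projective_quot {x y : A} (h : NodeData x y) :
    ¬ Module.Projective A (A ⧸ Ideal.span {x}) := by
  intro hp
  obtain ⟨s, hs⟩ := Module.projective_lifting_property (Ideal.span {x}).mkQ LinearMap.id
    (Submodule.mkQ_surjective _)
  set a := s (Submodule.Quotient.mk 1)
  have h1 : Submodule.Quotient.mk a = (Submodule.Quotient.mk 1 : A ⧸ Ideal.span {x}) :=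
    LinearMap.congr_fun hs _
  have h2 : a * x = 0 := by
    have : s (x • Submodule.Quotient.mk 1) = x • a := map_smul _ _ _
    rw [← Submodule.Quotient.mk_smul, smul_eq_mul, mul_one,
      (Submodule.Quotient.mk_eq_zero _).mpr (Ideal.mem_span_singleton_self x), map_zero] at this
    rw [mul_comm]; exact this.symm
  obtain ⟨c, hc⟩ := (h.ax a).mp h2
  obtain ⟨d, hd⟩ := Ideal.mem_span_singleton'.mp ((Submodule.Quotient.eq _).mp h1)
  apply h.proper
  rw [Ideal.eq_top_iff_one, Ideal.mem_span_pair]
  exact ⟨-d, c, by rw [hc, neg_mul, hd]; ring⟩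

theorem pd_quot {x y : A} (h : NodeData x y) :
    ∀ n, ¬ HasProjectiveDimensionLT (ModuleCat.of A (A ⧸ Ideal.span {x})) (n + 1) ∧
      ¬ HasProjectiveDimensionLT (ModuleCat.of A (A ⧸ Ideal.span {y})) (n + 1) := by
  intro n
  induction n generalizing x y with
  | zero =>
    constructor <;>
      (intro hh
       have := projective_iff_hasProjectiveDimensionLT_one.mpr hh
       rw [← IsProjective.iff_projective] at this)
    · exact not_projective_quot h this
    · exact not_projective_quot h.symm this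
  | succ n ih =>
    have key : ∀ {x y : A}, NodeData x y →
        HasProjectiveDimensionLT (ModuleCat.of A (A ⧸ Ideal.span {x})) (n + 2) →
        HasProjectiveDimensionLT (ModuleCat.of A (A ⧸ Ideal.span {y})) (n + 1) := by
      intro x y h hh
      let i : (A ⧸ Ideal.span {y}) →ₗ[A] A :=
        (Ideal.span {y}).liftQ (LinearMap.toSpanSingleton A A x) (fun a ha => by
          obtain ⟨c, rfl⟩ := Ideal.mem_span_singleton'.mp ha
          simp [mul_assoc, mul_comm y x, h.xy])
      let S : ShortComplex (ModuleCat.{u} A) := ShortComplex.mk (ModuleCat.ofHom i)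
        (ModuleCat.ofHom (Ideal.span {x}).mkQ) (by
          apply ModuleCat.hom_ext
          apply LinearMap.ext
          intro q
          obtain ⟨a, rfl⟩ := Submodule.Quotient.mk_surjective _ q
          exact (Submodule.Quotient.mk_eq_zero _).mpr (Ideal.mem_span_singleton'.mpr ⟨a, rfl⟩))
      have hS : S.ShortExact := by
        refine { exact := ?_, mono_f := ?_, epi_g := ?_ }
        · rw [ShortComplex.moduleCat_exact_iff]
          intro z hz
          obtain ⟨c, hc⟩ := Ideal.mem_span_singleton'.mp ((Submodule.Quotient.mk_eq_zero _).mp hz)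
          exact ⟨Submodule.Quotient.mk c, hc⟩
        · rw [ModuleCat.mono_iff_injective]
          show Function.Injective i
          rw [injective_iff_map_eq_zero]
          intro q hq
          obtain ⟨a, rfl⟩ := Submodule.Quotient.mk_surjective _ q
          exact (Submodule.Quotient.mk_eq_zero _).mpr
            (Ideal.mem_span_singleton'.mpr ((h.ax a).mp hq))
        · rw [ModuleCat.epi_iff_surjective]
          exact Submodule.mkQ_surjective _
      exact (hS.hasProjectiveDimensionLT_X₃_iff n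
        ((IsProjective.iff_projective (R := A) A).mp inferInstance)).mp hh
    exact ⟨fun hh => (ih h).2 (key h hh), fun hh => (ih h).1 (key h.symm hh)⟩

theorem pd_kap {x y : A} (h : NodeData x y) (n : ℕ) : ¬ HasProjectiveDimensionLT (kap x y) n := by
  intro hh
  have hh' : HasProjectiveDimensionLT (kap x y) (n + 2) :=
    hasProjectiveDimensionLT_of_ge _ n _ (by omega)
  let ix : (A ⧸ Ideal.span {y}) →ₗ[A] A :=
    (Ideal.span {y}).liftQ (LinearMap.toSpanSingleton A A x) (fun a ha => by
      obtain ⟨c, rfl⟩ := Ideal.mem_span_singleton'.mp ha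
      simp [mul_assoc, mul_comm y x, h.xy])
  let iy : (A ⧸ Ideal.span {x}) →ₗ[A] A :=
    (Ideal.span {x}).liftQ (LinearMap.toSpanSingleton A A y) (fun a ha => by
      obtain ⟨c, rfl⟩ := Ideal.mem_span_singleton'.mp ha
      simp [mul_assoc, h.xy])
  let S : ShortComplex (ModuleCat.{u} A) := ShortComplex.mk (ModuleCat.ofHom (ix.coprod iy))
    (ModuleCat.ofHom (Ideal.span {x, y}).mkQ) (by
      apply ModuleCat.hom_ext
      apply LinearMap.ext
      rintro ⟨q, r⟩
      obtain ⟨a, rfl⟩ := Submodule.Quotient.mk_surjective _ q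
      obtain ⟨b, rfl⟩ := Submodule.Quotient.mk_surjective _ r
      exact (Submodule.Quotient.mk_eq_zero _).mpr (Ideal.mem_span_pair.mpr ⟨a, b, rfl⟩))
  have hS : S.ShortExact := by
    refine { exact := ?_, mono_f := ?_, epi_g := ?_ }
    · rw [ShortComplex.moduleCat_exact_iff]
      intro z hz
      obtain ⟨a, b, hab⟩ := Ideal.mem_span_pair.mp ((Submodule.Quotient.mk_eq_zero _).mp hz)
      exact ⟨(Submodule.Quotient.mk a, Submodule.Quotient.mk b), hab⟩
    · rw [ModuleCat.mono_iff_injective]
      show Function.Injective (ix.coprod iy)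
      rw [injective_iff_map_eq_zero]
      rintro ⟨q, r⟩ hq
      obtain ⟨a, rfl⟩ := Submodule.Quotient.mk_surjective _ q
      obtain ⟨b, rfl⟩ := Submodule.Quotient.mk_surjective _ r
      obtain ⟨e1, e2⟩ := h.sep a b hq
      exact Prod.ext ((Submodule.Quotient.mk_eq_zero _).mpr
          (Ideal.mem_span_singleton'.mpr ((h.ax a).mp e1)))
        ((Submodule.Quotient.mk_eq_zero _).mpr
          (Ideal.mem_span_singleton'.mpr ((h.ay b).mp e2)))
    · rw [ModuleCat.epi_iff_surjective]
      exact Submodule.mkQ_surjective _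
  have h1 : HasProjectiveDimensionLT S.X₁ (n + 1) := (hS.hasProjectiveDimensionLT_X₃_iff n
    ((IsProjective.iff_projective (R := A) A).mp inferInstance)).mp hh'
  let rt : Retract (ModuleCat.of A (A ⧸ Ideal.span {x})) S.X₁ :=
    { i := ModuleCat.ofHom (LinearMap.inr A (A ⧸ Ideal.span {y}) (A ⧸ Ideal.span {x}))
      r := ModuleCat.ofHom (LinearMap.snd A (A ⧸ Ideal.span {y}) (A ⧸ Ideal.span {x}))
      retract := by apply ModuleCat.hom_ext; rfl }
  have := h1
  exact (pd_quot h n).1 (rt.hasProjectiveDimensionLT (n + 1))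

open MvPolynomial in
theorem node_main (k : Type u) [Field k] :
    ∀ x y : MvPolynomial (Fin 2) k ⧸ Ideal.span {(X 0 * X 1 : MvPolynomial (Fin 2) k)},
      x = Ideal.Quotient.mk _ (X 0) → y = Ideal.Quotient.mk _ (X 1) →
      NodeData x y ∧ (Ideal.span {x, y}).IsMaximal := by
  intro x y hx hy
  subst hx hy
  have p0 : Prime (X 0 : MvPolynomial (Fin 2) k) := MvPolynomial.X_prime
  have p1 : Prime (X 1 : MvPolynomial (Fin 2) k) := MvPolynomial.X_prime
  have n01 : ¬ (X 0 : MvPolynomial (Fin 2) k) ∣ X 1 := by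
    rw [MvPolynomial.X_dvd_X]; simp
  have n10 : ¬ (X 1 : MvPolynomial (Fin 2) k) ∣ X 0 := by
    rw [MvPolynomial.X_dvd_X]; simp
  let q := Ideal.Quotient.mk (Ideal.span {(X 0 * X 1 : MvPolynomial (Fin 2) k)})
  have hq0 : ∀ f, q f = 0 ↔ X 0 * X 1 ∣ f := fun f => by
    rw [Ideal.Quotient.eq_zero_iff_mem, Ideal.mem_span_singleton]
  let ev : (MvPolynomial (Fin 2) k ⧸ Ideal.span {(X 0 * X 1 : MvPolynomial (Fin 2) k)}) →+* k :=
    Ideal.Quotient.lift _ MvPolynomial.constantCoeff (fun f hf => by
      obtain ⟨c, rfl⟩ := Ideal.mem_span_singleton'.mp hf; simp)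
  have hker : RingHom.ker ev = Ideal.span {q (X 0), q (X 1)} := by
    apply le_antisymm
    · intro z hz
      obtain ⟨f, rfl⟩ := Ideal.Quotient.mk_surjective z
      have hf : MvPolynomial.constantCoeff f = 0 := hz
      have key : ∀ g : MvPolynomial (Fin 2) k, g - C (MvPolynomial.constantCoeff g) ∈
          Ideal.span {(X 0 : MvPolynomial (Fin 2) k), X 1} := by
        intro g
        induction g using MvPolynomial.induction_on with
        | C a => simp
        | add a b ha hb =>
          convert Ideal.add_mem _ ha hb using 1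
          simp; ring
        | mul_X a i ha =>
          rw [map_mul, MvPolynomial.constantCoeff_X, mul_zero, map_zero, sub_zero]
          refine Ideal.mul_mem_left _ _ (Ideal.subset_span ?_)
          fin_cases i <;> simp
      have := key f
      rw [hf, map_zero, sub_zero] at this
      have h2 := Ideal.mem_map_of_mem q this
      rwa [Ideal.map_span, Set.image_pair] at h2
    · rw [Ideal.span_le]
      rintro _ (rfl | rfl) <;> simp [ev, q]
  have hmax : (Ideal.span {q (X 0), q (X 1)}).IsMaximal := by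
    rw [← hker]
    exact RingHom.ker_isMaximal_of_surjective ev fun a => ⟨q (C a), by simp [ev, q]⟩
  refine ⟨⟨fun a => ?_, fun a => ?_, fun a b e => ?_, hmax.ne_top⟩, hmax⟩
  · obtain ⟨f, rfl⟩ := Ideal.Quotient.mk_surjective a
    constructor
    · intro e
      rw [← map_mul, hq0, mul_comm f] at e
      obtain ⟨c, rfl⟩ := (mul_dvd_mul_iff_left p0.ne_zero).mp e
      exact ⟨q c, by rw [← map_mul]; exact congrArg q (mul_comm _ _)⟩
    · rintro ⟨c, hc⟩
      obtain ⟨g, rfl⟩ := Ideal.Quotient.mk_surjective c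
      rw [← hc, ← map_mul, ← map_mul, hq0]
      exact ⟨g, by ring⟩
  · obtain ⟨f, rfl⟩ := Ideal.Quotient.mk_surjective a
    constructor
    · intro e
      rw [← map_mul, hq0] at e
      obtain ⟨c, rfl⟩ := (mul_dvd_mul_iff_right p1.ne_zero).mp e
      exact ⟨q c, by rw [← map_mul]; exact congrArg q (mul_comm _ _)⟩
    · rintro ⟨c, hc⟩
      obtain ⟨g, rfl⟩ := Ideal.Quotient.mk_surjective c
      rw [← hc, ← map_mul, ← map_mul, hq0]
      exact ⟨g, by ring⟩
  · obtain ⟨f, rfl⟩ := Ideal.Quotient.mk_surjective a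
    obtain ⟨g, rfl⟩ := Ideal.Quotient.mk_surjective b
    rw [← map_mul, ← map_mul, ← map_add, hq0] at e
    have h1 : (X 0 : MvPolynomial (Fin 2) k) ∣ g * X 1 :=
      (dvd_add_right (dvd_mul_left (X 0) f)).mp ((dvd_mul_right _ _).trans e)
    have h2 : (X 1 : MvPolynomial (Fin 2) k) ∣ f * X 0 :=
      (dvd_add_left (dvd_mul_left (X 1) g)).mp ((dvd_mul_left _ _).trans e)
    obtain ⟨g', rfl⟩ := (p0.dvd_or_dvd h1).resolve_right n01
    obtain ⟨f', rfl⟩ := (p1.dvd_or_dvd h2).resolve_right n10
    constructor <;> rw [← map_mul, hq0]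
    · exact ⟨f', by ring⟩
    · exact ⟨g', by ring⟩

/-- Let k be a field, A = k[x, y]/(xy) (x = X_0, y = X_1) and κ = A/(x, y) the residue field at the
origin, viewed as an A-module. Then for every i ≥ 1 the A-module Tor_i^A(κ, κ) has length 2 (it is a
two-dimensional κ-vector space; Tor_0 is κ), and κ admits no finite projective resolution over A:
for no n is its projective dimension less than n. -/
theorem result (k : Type u) [Field k] :
    (∀ i : ℕ, 1 ≤ i →
      Module.length (MvPolynomial (Fin 2) k ⧸ Ideal.span {(MvPolynomial.X 0 * MvPolynomial.X 1 : MvPolynomial (Fin 2) k)}) ((((Tor (ModuleCat.{u} (MvPolynomial (Fin 2) k ⧸ Ideal.span {(MvPolynomial.X 0 * MvPolynomial.X 1 : MvPolynomial (Fin 2) k)})) i).obj (ModuleCat.of (MvPolynomial (Fin 2) k ⧸ Ideal.span {(MvPolynomial.X 0 * MvPolynomial.X 1 : MvPolynomial (Fin 2) k)}) ((MvPolynomial (Fin 2) k ⧸ Ideal.span {(MvPolynomial.X 0 * MvPolynomial.X 1 : MvPolynomial (Fin 2) k)}) ⧸ Ideal.span {Ideal.Quotient.mk (Ideal.span {(MvPolynomial.X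 0 * MvPolynomial.X 1 : MvPolynomial (Fin 2) k)}) (MvPolynomial.X 0), Ideal.Quotient.mk (Ideal.span {(MvPolynomial.X 0 * MvPolynomial.X 1 : MvPolynomial (Fin 2) k)}) (MvPolynomial.X 1)}))).obj (ModuleCat.of (MvPolynomial (Fin 2) k ⧸ Ideal.span {(MvPolynomial.X 0 * MvPolynomial.X 1 : MvPolynomial (Fin 2) k)}) ((MvPolynomial (Fin 2) k ⧸ Ideal.span {(MvPolynomial.X 0 * MvPolynomial.X 1 : MvPolynomial (Fin 2) k)}) ⧸ Ideal.span {Ideal.Quotient.mk (Ideal.span {(MvPolynomial.X 0 * MvPolynomial.X 1 : MvPolynomial (Fin 2) k)}) (MvPolynomial.X 0), Ideal.Quotient.mk (Ideal.span {(MvPolynomial.X 0 * MvPolynomial.X 1 : MvPolynomial (Fin 2) k)}) (MvPolynomial.X 1)}))) : Type u) = 2) ∧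
    ∀ n : ℕ, ¬ HasProjectiveDimensionLT (ModuleCat.of (MvPolynomial (Fin 2) k ⧸ Ideal.span {(MvPolynomial.X 0 * MvPolynomial.X 1 : MvPolynomial (Fin 2) k)}) ((MvPolynomial (Fin 2) k ⧸ Ideal.span {(MvPolynomial.X 0 * MvPolynomial.X 1 : MvPolynomial (Fin 2) k)}) ⧸ Ideal.span {Ideal.Quotient.mk (Ideal.span {(MvPolynomial.X 0 * MvPolynomial.X 1 : MvPolynomial (Fin 2) k)}) (MvPolynomial.X 0), Ideal.Quotient.mk (Ideal.span {(MvPolynomial.X 0 * MvPolynomial.X 1 : MvPolynomial (Fin 2) k)}) (MvPolynomial.X 1)})) n := by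
  obtain ⟨h, hmax⟩ := node_main k _ _ rfl rfl
  refine ⟨fun i hi => ?_, pd_kap h⟩
  obtain ⟨m, rfl⟩ : ∃ m, i = m + 1 := ⟨i - 1, by omega⟩
  obtain ⟨e⟩ := tor_iso h m
  rw [e.length_eq, Module.length_prod]
  have := isSimpleModule_iff_isCoatom.mpr (Ideal.isMaximal_def.mp hmax)
  rw [Module.length_eq_one_iff.mpr this]
  rfl

end Groth.Agent.S16243
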