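import Groth.Statements.S16244
import Mathlib
-- import your own Groth.Agent.* helpers here

set_option autoImplicit false
universe u
open Curves

namespace Groth.Agent.S16244

/-- Let k be an algebraically closed field in which 2 and 3 are nonzero, and W a short Weierstrass
equation y² = x³ + a₄x + a₆ over k with nonzero discriminant. The admissible changes of variables
(u, r, s, t) that fix W form a cyclic group, of order 6 when a₄ = 0, of order 4 when a₆ = 0, and of
order 2 when a₄ and a₆ are both nonzero. (The published statement says the automorphism group of the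
elliptic curve is cyclic of order 2, 4 or 6; the automorphisms are rendered here as the changes of
variables preserving the equation, and the case distinction is the one the computation gives.) -/
theorem result
    (k : Type u) [Field k] [IsAlgClosed k] (h2 : (2 : k) ≠ 0) (h3 : (3 : k) ≠ 0)
    (W : WeierstrassCurve k) [W.IsShortNF] (hΔ : W.Δ ≠ 0) :
    IsCyclic ↥(MulAction.stabilizer (WeierstrassCurve.VariableChange k) W) ∧
      (W.a₄ = 0 → Nat.card ↥(MulAction.stabilizer (WeierstrassCurve.VariableChange k) W) = 6) ∧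
      (W.a₆ = 0 → Nat.card ↥(MulAction.stabilizer (WeierstrassCurve.VariableChange k) W) = 4) ∧
      (W.a₄ ≠ 0 → W.a₆ ≠ 0 → Nat.card ↥(MulAction.stabilizer (WeierstrassCurve.VariableChange k) W) = 2) := by
  classical
  set H := MulAction.stabilizer (WeierstrassCurve.VariableChange k) W with hH
  have hzero : ∀ C ∈ H, C.r = 0 ∧ C.s = 0 ∧ C.t = 0 := by
    intro C hC
    rw [hH, MulAction.mem_stabilizer_iff] at hC
    have e1 := congrArg WeierstrassCurve.a₁ hC
    have e2 := congrArg WeierstrassCurve.a₂ hC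
    have e3 := congrArg WeierstrassCurve.a₃ hC
    rw [WeierstrassCurve.variableChange_a₁, WeierstrassCurve.a₁_of_isShortNF, zero_add] at e1
    rw [WeierstrassCurve.variableChange_a₂, WeierstrassCurve.a₂_of_isShortNF, WeierstrassCurve.a₁_of_isShortNF] at e2
    rw [WeierstrassCurve.variableChange_a₃, WeierstrassCurve.a₃_of_isShortNF, WeierstrassCurve.a₁_of_isShortNF] at e3
    have hs : C.s = 0 := by simpa [h2] using e1
    simp [hs, h3] at e2
    simp [h2] at e3
    exact ⟨e2, hs, e3⟩
  let φ : H →* kˣ := { toFun := fun C => C.1.u, map_one' := rfl, map_mul' := fun a b => rfl }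
  have hφ : Function.Injective φ := fun a b h => by
    obtain ⟨r1, s1, t1⟩ := hzero a.1 a.2
    obtain ⟨r2, s2, t2⟩ := hzero b.1 b.2
    refine Subtype.ext (WeierstrassCurve.VariableChange.ext h ?_ ?_ ?_) <;> simp [r1, s1, t1, r2, s2, t2]
  have hmem : ∀ u : kˣ, u ∈ φ.range ↔ ((u : k) ^ 4 * W.a₄ = W.a₄ ∧ (u : k) ^ 6 * W.a₆ = W.a₆) := by
    intro u
    constructor
    · rintro ⟨⟨C, hC⟩, rfl⟩
      obtain ⟨hr, hs, ht⟩ := hzero C hC
      rw [hH, MulAction.mem_stabilizer_iff] at hC
      have e4 := congrArg WeierstrassCurve.a₄ hC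
      have e6 := congrArg WeierstrassCurve.a₆ hC
      simp [WeierstrassCurve.variableChange_a₄, hr, hs, ht] at e4
      simp [WeierstrassCurve.variableChange_a₆, hr, hs, ht] at e6
      refine ⟨?_, ?_⟩
      · show (C.u : k) ^ 4 * W.a₄ = W.a₄
        field_simp at e4
        linear_combination -e4
      · show (C.u : k) ^ 6 * W.a₆ = W.a₆
        field_simp at e6
        linear_combination -e6
    · rintro ⟨h4, h6⟩
      refine ⟨⟨⟨u, 0, 0, 0⟩, ?_⟩, rfl⟩
      rw [hH, MulAction.mem_stabilizer_iff]
      have hu : (u : k) ≠ 0 := u.ne_zero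
      ext
      · simp [WeierstrassCurve.variableChange_a₁]
      · simp [WeierstrassCurve.variableChange_a₂]
      · simp [WeierstrassCurve.variableChange_a₃]
      · simp [WeierstrassCurve.variableChange_a₄]
        field_simp
        linear_combination -h4
      · simp [WeierstrassCurve.variableChange_a₆]
        field_simp
        linear_combination -h6
  let e : H ≃* φ.range := MonoidHom.ofInjective hφ
  have h6ne : (6 : k) ≠ 0 := by
    rw [show (6 : k) = 2 * 3 by norm_num]
    exact mul_ne_zero h2 h3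
  have h4ne : (4 : k) ≠ 0 := by
    rw [show (4 : k) = 2 * 2 by norm_num]
    exact mul_ne_zero h2 h2
  have hΔ' : ¬ (W.a₄ = 0 ∧ W.a₆ = 0) := fun h => hΔ (by simp [WeierstrassCurve.Δ_of_isShortNF, h.1, h.2])
  have main : ∀ (n : ℕ) [NeZero n], ((n : k) ≠ 0) →
      (∀ u : kˣ, u ∈ φ.range ↔ u ^ n = 1) → IsCyclic H ∧ Nat.card H = n := by
    intro n _ hn h
    have hr : φ.range = rootsOfUnity n k := by
      ext u
      rw [h, mem_rootsOfUnity]
    haveI : NeZero (n : k) := ⟨hn⟩
    obtain ⟨ζ, hζ⟩ := HasEnoughRootsOfUnity.exists_primitiveRoot k n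
    let e' : H ≃* rootsOfUnity n k := e.trans (MulEquiv.subgroupCongr hr)
    exact ⟨e'.isCyclic.2 inferInstance, (Nat.card_congr e'.toEquiv).trans (HasEnoughRootsOfUnity.natCard_rootsOfUnity k n)⟩
  by_cases ha4 : W.a₄ = 0
  · have ha6 : W.a₆ ≠ 0 := fun h => hΔ' ⟨ha4, h⟩
    obtain ⟨hc, hn⟩ := main 6 (by exact_mod_cast h6ne) fun u => by
      rw [hmem, ha4, mul_zero, eq_self_iff_true, true_and, mul_eq_right₀ ha6, Units.ext_iff]
      simp
    exact ⟨hc, fun _ => hn, fun h => absurd h ha6, fun h => absurd ha4 h⟩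
  · by_cases ha6 : W.a₆ = 0
    · obtain ⟨hc, hn⟩ := main 4 (by exact_mod_cast h4ne) fun u => by
        rw [hmem, ha6, mul_zero, eq_self_iff_true, and_true, mul_eq_right₀ ha4, Units.ext_iff]
        simp
      exact ⟨hc, fun h => absurd h ha4, fun _ => hn, fun _ h => absurd ha6 h⟩
    · obtain ⟨hc, hn⟩ := main 2 (by exact_mod_cast h2) fun u => by
        rw [hmem, mul_eq_right₀ ha4, mul_eq_right₀ ha6, Units.ext_iff, Units.val_pow_eq_pow_val, Units.val_one]
        refine ⟨fun h => ?_, fun h => ⟨by rw [show 4 = 2 * 2 from rfl, pow_mul, h, one_pow], by rw [show 6 = 2 * 3 from rfl, pow_mul, h, one_pow]⟩⟩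
        linear_combination h.2 - (u : k) ^ 2 * h.1
      exact ⟨hc, fun h => absurd h ha4, fun h => absurd h ha6, fun _ _ => hn⟩

end Groth.Agent.S16244
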