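import Groth.Statements.S16249
import Groth.Agent.EllGrp5.Degree
-- import your own Groth.Agent.* helpers here

set_option autoImplicit false
universe u
open CategoryTheory CategoryTheory.Limits AlgebraicGeometry
open PicF

namespace Groth.Agent.S16249

/-- Let f : E → S be a family of elliptic curves: f is proper and smooth of relative dimension one with
geometrically connected fibres whose structure sheaf has Euler characteristic 0 (genus one), and σ
is a section of f. Then for every invertible O_E-module L whose restriction to every fibre of f has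
degree zero (Euler characteristic equal to that of the structure sheaf of the fibre) there is
exactly one section P of f such that L ⊗ I_P ≅ I_σ ⊗ f^*M for some invertible O_S-module M, where
I_P and I_σ are the ideal sheaves of the closed subschemes P(S) and σ(S) of E. In other words P ↦
O(P − σ) is a bijection from E(S) onto the classes of fibrewise-degree-zero invertible modules
modulo modules pulled back from S. (The published statement goes on to say that E is thereby an
S-group scheme, with P + Q = R exactly when O(P) ⊗ O(Q) ⊗ O(−σ) ≅ O(R) ⊗ f^*M for some invertible M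
on the base — its printed formula has O(−R), a misprint — ; that transport of the group structure is
not part of this statement.) -/
theorem result
    {E S : Scheme.{u}} (f : E ⟶ S) [IsProper f] [SmoothOfRelativeDimension 1 f]
    (hc : GeometricallyConnected f)
    (hg : ∀ s : S, @FGA.eulerCharLE (S.residueField s) _ (f.fiber s) (f.fiberOverSpecResidueField s)
      (Coh.structureModule (f.fiber s)) 1 = 0)
    (σ : S ⟶ E) (hσ : σ ≫ f = 𝟙 S)
    (L : E.Modules) (hL : PicF.IsInvertible L)
    (hL0 : ∀ s : S, @FGA.eulerCharLE (S.residueField s) _ (f.fiber s) (f.fiberOverSpecResidueField s)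
      ((Scheme.Modules.pullback (f.fiberι s)).obj L) 1 = 0) :
    ∃! P : S ⟶ E, P ≫ f = 𝟙 S ∧ ∃ M : S.Modules, PicF.IsInvertible M ∧
      Nonempty (CohB1.tensorMod L (ClSub.idealMod P.ker) ≅
        CohB1.tensorMod (ClSub.idealMod σ.ker) ((Scheme.Modules.pullback f).obj M)) := by
  haveI := hc
  have hsm := Groth.Agent.EllGrp5.smooth_f f
  have hG := Groth.Agent.EllGrp5.genusOne_of_eulerCharLE f hg
  obtain ⟨j, hj⟩ := Groth.Agent.PicLib.PicM.exists_mul_eq_one (Groth.Agent.EllGrp5.idl f σ hσ)
  let a := Groth.Agent.PicLib.PicM.of hL * j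
  have ha : ∀ s, Groth.Agent.EllGrp5.dg f s a = 1 := fun s => by
    rw [Groth.Agent.EllGrp5.dg_mul, Groth.Agent.EllGrp5.dg_of_eulerCharLE f hG hL s (hL0 s),
      Groth.Agent.EllGrp5.dg_inv f hj s, Groth.Agent.EllGrp5.dg_idl]
    norm_num
  obtain ⟨P, ⟨hP, b, hb⟩, hu⟩ := Groth.Agent.EllGrp5.existsUnique_rel hG a ha
  refine ⟨P, ⟨hP, ?_⟩, ?_⟩
  · obtain ⟨M, hM, rfl⟩ := Groth.Agent.PicLib.PicM.exists_eq_of b
    refine ⟨M, hM, (Groth.Agent.PicLib.PicM.of_eq_iff
      (Groth.Agent.AmpleLib.isInvertible_tensorMod hL
        (Groth.Agent.FlatMor12.IdealModGen.isInvertible_idealMod P.ker (Groth.Agent.EllGrp5.isEffCartier_sec f P hP)))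
      (Groth.Agent.AmpleLib.isInvertible_tensorMod
        (Groth.Agent.FlatMor12.IdealModGen.isInvertible_idealMod σ.ker (Groth.Agent.EllGrp5.isEffCartier_sec f σ hσ))
        (PicLoc.isInvertible_pullback f hM))).1 ?_⟩
    show Groth.Agent.PicLib.PicM.of hL * Groth.Agent.EllGrp5.idl f P hP =
      Groth.Agent.EllGrp5.idl f σ hσ * Groth.Agent.PicLib.PicM.pull f (Groth.Agent.PicLib.PicM.of hM)
    rw [← hb]
    calc _ = (Groth.Agent.EllGrp5.idl f σ hσ * j) * (Groth.Agent.PicLib.PicM.of hL * Groth.Agent.EllGrp5.idl f P hP) := by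
          rw [hj, one_mul]
      _ = _ := by simp only [a]; ac_rfl
  · rintro P' ⟨hP', M, hM, he⟩
    refine hu P' ⟨hP', Groth.Agent.PicLib.PicM.of hM, ?_⟩
    have h : Groth.Agent.PicLib.PicM.of hL * Groth.Agent.EllGrp5.idl f P' hP' =
        Groth.Agent.EllGrp5.idl f σ hσ * Groth.Agent.PicLib.PicM.pull f (Groth.Agent.PicLib.PicM.of hM) :=
      (Groth.Agent.PicLib.PicM.of_eq_iff
        (Groth.Agent.AmpleLib.isInvertible_tensorMod hL
          (Groth.Agent.FlatMor12.IdealModGen.isInvertible_idealMod P'.ker (Groth.Agent.EllGrp5.isEffCartier_sec f P' hP')))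
        (Groth.Agent.AmpleLib.isInvertible_tensorMod
          (Groth.Agent.FlatMor12.IdealModGen.isInvertible_idealMod σ.ker (Groth.Agent.EllGrp5.isEffCartier_sec f σ hσ))
          (PicLoc.isInvertible_pullback f hM))).2 he
    calc _ = j * (Groth.Agent.PicLib.PicM.of hL * Groth.Agent.EllGrp5.idl f P' hP') := by simp only [a]; ac_rfl
      _ = _ := by rw [h, ← mul_assoc, mul_comm j, hj, one_mul]

end Groth.Agent.S16249
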