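import Groth.Statements.S16253
import Groth.Agent.CAlgH3.FittSmooth
import Groth.Agent.SmoothEmbed28.Ring

set_option autoImplicit false
universe u
open CategoryTheory CategoryTheory.Limits AlgebraicGeometry TopologicalSpace
open SDiv

namespace Groth.Agent.S16253

/-- Let f : X ⟶ Y be locally of finite presentation and quasi-separated and p ≥ 0, and let J^p(X/Y) ⊆ X
be the closed subset cut out by the p-th Fitting ideal of the module of differentials Ω_{X/Y} (the
p-th Jacobian locus). Then a point x of X lies outside J^p(X/Y) if and only if x has an open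
neighbourhood U admitting a closed immersion over Y into a Y-scheme U' which is smooth of relative
dimension p over Y. (The published statement takes f of finite presentation and asks U' smooth over
Y with fibre dimension p at x; after shrinking U' this is smoothness of relative dimension p.
Quasi-separatedness of f is assumed because the module Ω_{X/Y} used here is defined for such f.) -/
theorem result
    {X Y : Scheme.{u}} (f : X ⟶ Y) [LocallyOfFinitePresentation f] [QuasiSeparated f] (p : ℕ) (x : ↥X) :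
    x ∉ (Fitt.sheafIdeal (Omega.sheaf f) p).support ↔
      ∃ (U : X.Opens) (U' : Scheme.{u}) (i : (U : Scheme.{u}) ⟶ U') (g : U' ⟶ Y),
        x ∈ U ∧ IsClosedImmersion i ∧ SmoothOfRelativeDimension p g ∧ i ≫ g = U.ι ≫ f := by
  constructor
  · intro hx
    obtain ⟨U, hU, hxU, -⟩ := exists_isAffineOpen_mem_and_subset (x := f x) (U := (⊤ : Y.Opens)) trivial
    obtain ⟨V, hV, hxV, e⟩ := exists_isAffineOpen_mem_and_subset (x := x) (U := f ⁻¹ᵁ U) hxU
    have e : V ≤ f ⁻¹ᵁ U := e
    rw [CAlgH3.FittSmooth.mem_support_omega_iff f hU hV e hxV p, not_not] at hx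
    let q := hV.primeIdealOf ⟨x, hxV⟩
    algebraize [(f.appLE U V e).hom]
    have : Algebra.FiniteType Γ(Y, U) Γ(X, V) :=
      HasRingHomProperty.appLE @LocallyOfFiniteType f inferInstance ⟨U, hU⟩ ⟨V, hV⟩ e
    obtain ⟨f₀, hf₀, hT⟩ := SmoothEmbed28.exists_standardSmooth_surjection q.asIdeal p hx
    let W := X.basicOpen f₀
    have hW : IsAffineOpen W := hV.basicOpen f₀
    have hxW : x ∈ W := by
      have h : q ∈ PrimeSpectrum.basicOpen f₀ := hf₀
      rw [← hV.fromSpec_preimage_basicOpen f₀] at h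
      have h' : hV.fromSpec q ∈ X.basicOpen f₀ := h
      rwa [hV.fromSpec_primeIdealOf] at h'
    have eW : W ≤ f ⁻¹ᵁ U := (X.basicOpen_le f₀).trans e
    let _ : Algebra Γ(Y, U) Γ(X, W) := (f.appLE U W eW).hom.toAlgebra
    have : IsLocalization.Away f₀ Γ(X, W) := hV.isLocalization_basicOpen f₀
    have : IsScalarTower Γ(Y, U) Γ(X, V) Γ(X, W) := .of_algebraMap_eq fun b => by
      show f.appLE U W eW b = (f.appLE U V e ≫ X.presheaf.map (homOfLE (X.basicOpen_le f₀)).op) b
      rw [Scheme.Hom.appLE_map]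
    obtain ⟨T, _, _, hT, ψ, hψ⟩ := hT Γ(X, W)
    let φ : Γ(Y, U) ⟶ CommRingCat.of T := CommRingCat.ofHom (algebraMap Γ(Y, U) T)
    let χ : CommRingCat.of T ⟶ Γ(X, W) := CommRingCat.ofHom ψ.toRingHom
    have : IsClosedImmersion (Spec.map χ) := IsClosedImmersion.spec_of_surjective χ hψ
    have : SmoothOfRelativeDimension p (Spec.map φ) := by
      rw [HasRingHomProperty.Spec_iff (P := @SmoothOfRelativeDimension p)]
      exact RingHom.locally_of RingHom.isStandardSmoothOfRelativeDimension_respectsIso _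
        (show RingHom.IsStandardSmoothOfRelativeDimension p (algebraMap Γ(Y, U) T) from
          (RingHom.isStandardSmoothOfRelativeDimension_algebraMap p).2 hT)
    refine ⟨W, Spec (CommRingCat.of T), hW.isoSpec.hom ≫ Spec.map χ, Spec.map φ ≫ hU.fromSpec, hxW,
      inferInstance, smoothOfRelativeDimension_comp (n := p) (m := 0) (Spec.map φ) hU.fromSpec, ?_⟩
    have h : φ ≫ χ = f.appLE U W eW := CommRingCat.hom_ext (RingHom.ext fun b => ψ.commutes b)
    rw [Category.assoc, ← Spec.map_comp_assoc, h, hU.SpecMap_appLE_fromSpec f hW eW,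
      hW.isoSpec_hom_fromSpec_assoc]
  · rintro ⟨U, U', i, g, hxU, hi, hg, hig⟩
    obtain ⟨O, hO, V', hV', hxV', e', he'⟩ :=
      hg.exists_isStandardSmoothOfRelativeDimension (i ⟨x, hxU⟩)
    let V := U.ι ''ᵁ (i ⁻¹ᵁ V')
    have hV : IsAffineOpen V := (hV'.preimage i).image_of_isOpenImmersion U.ι
    have hxV : x ∈ V := ⟨⟨x, hxU⟩, hxV', rfl⟩
    have e : V ≤ f ⁻¹ᵁ O := by
      rintro _ ⟨y, hy, rfl⟩
      show (U.ι ≫ f) y ∈ O
      rw [← hig]
      exact e' hy
    rw [CAlgH3.FittSmooth.mem_support_omega_iff f hO hV e hxV p, not_not]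
    algebraize [(f.appLE O V e).hom, (g.appLE O V' e').hom]
    let χ : Γ(U', V') ⟶ Γ(X, V) := i.app V' ≫ (U.ι.appIso (i ⁻¹ᵁ V')).inv
    have key : g.appLE O V' e' ≫ χ = f.appLE O V e := by
      rw [← Category.assoc, Iso.comp_inv_eq, Scheme.Hom.appIso_hom', Scheme.Hom.appLE_comp_appLE,
        i.app_eq_appLE, Scheme.Hom.appLE_comp_appLE]
      simp only [hig]
    let ψ : Γ(U', V') →ₐ[Γ(Y, O)] Γ(X, V) :=
      { toRingHom := χ.hom
        commutes' := fun b => congrArg (fun h : Γ(Y, O) ⟶ Γ(X, V) => h b) key }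
    have : Algebra.IsStandardSmoothOfRelativeDimension p Γ(Y, O) Γ(U', V') := he'
    exact SmoothEmbed28.finrank_le_of_surjective p ψ
      ((ConcreteCategory.bijective_of_isIso (U.ι.appIso (i ⁻¹ᵁ V')).inv).2.comp (i.app_surjective V' hV')) _

end Groth.Agent.S16253
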