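import Groth.Statements.S16254
import Mathlib
-- import your own Groth.Agent.* helpers here

set_option autoImplicit false
universe u
open scoped BigOperators
open LefPen

namespace Groth.Agent.S16254

/-- Let A be a commutative ring and m_1, …, m_s ∈ A^(N+1) linearly independent vectors whose span M has
projective (that is, locally free) quotient A^(N+1)/M. Write a_0, …, a_N for the coordinate
functions, so that restricting linear forms to M and expressing them in the basis dual to the m_i
gives the A-algebra map A[a_0, …, a_N] ⟶ A[y_1, …, y_s], a_j ↦ Σ_i (m_i)_j y_i (the map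
Sym((A^(N+1))^∨) ⟶ Sym(M^∨)). Its kernel is the ideal generated by the (s+1) × (s+1) minors of the
(s+1) × (N+1) matrix whose first s rows are the coordinate rows of m_1, …, m_s and whose last row is
(a_0, …, a_N). The minors are indexed here by all maps c from Fin (s+1) to Fin (N+1) choosing the
columns (non-injective choices give zero). -/
theorem result
    (A : Type u) [CommRing A] (N s : ℕ) (m : Fin s → (Fin (N + 1) → A))
    (hli : LinearIndependent A m)
    (hproj : Module.Projective A ((Fin (N + 1) → A) ⧸ Submodule.span A (Set.range m))) :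
    RingHom.ker (MvPolynomial.aeval (R := A) (S₁ := MvPolynomial (Fin s) A)
        (fun j : Fin (N + 1) => ∑ i : Fin s, MvPolynomial.C (m i j) * MvPolynomial.X i)) =
      Ideal.span (Set.range fun c : Fin (s + 1) → Fin (N + 1) =>
        (Matrix.of fun (i : Fin (s + 1)) (j : Fin (s + 1)) =>
          (Fin.snoc (α := fun _ => MvPolynomial (Fin (N + 1)) A)
            (fun i' : Fin s => MvPolynomial.C (m i' (c j))) (MvPolynomial.X (c j)) i)).det) := by
  classical
  set M := Submodule.span A (Set.range m) with hM
  set J : Ideal (MvPolynomial (Fin (N + 1)) A) := Ideal.span (Set.range fun c : Fin (s + 1) → Fin (N + 1) =>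
        (Matrix.of fun (i : Fin (s + 1)) (j : Fin (s + 1)) =>
          (Fin.snoc (α := fun _ => MvPolynomial (Fin (N + 1)) A)
            (fun i' : Fin s => MvPolynomial.C (m i' (c j))) (MvPolynomial.X (c j)) i)).det) with hJ
  set E := MvPolynomial.aeval (R := A) (S₁ := MvPolynomial (Fin s) A)
        (fun j : Fin (N + 1) => ∑ i : Fin s, MvPolynomial.C (m i j) * MvPolynomial.X i) with hE
  -- a left inverse of `m`
  obtain ⟨σ, hσ⟩ := Module.projective_lifting_property M.mkQ LinearMap.id M.mkQ_surjective
  have hmem : ∀ w, w - σ (M.mkQ w) ∈ M := fun w => by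
    rw [← Submodule.Quotient.mk_eq_zero, Submodule.Quotient.mk_sub, sub_eq_zero]
    exact (LinearMap.congr_fun hσ (M.mkQ w)).symm
  let bM : Module.Basis (Fin s) A M := Module.Basis.span hli
  let ψ : (Fin (N + 1) → A) →ₗ[A] (Fin s → A) :=
    bM.equivFun.toLinearMap.comp (((LinearMap.id : (Fin (N + 1) → A) →ₗ[A] (Fin (N + 1) → A)) - σ.comp M.mkQ).codRestrict M hmem)
  have hψ : ∀ i l, ψ (m l) i = if l = i then 1 else 0 := by
    intro i l
    have h0 : M.mkQ (m l) = 0 := (Submodule.Quotient.mk_eq_zero M).2 (Submodule.subset_span ⟨l, rfl⟩)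
    have : ((LinearMap.id : (Fin (N + 1) → A) →ₗ[A] (Fin (N + 1) → A)) - σ.comp M.mkQ).codRestrict M hmem (m l) = bM l := Subtype.ext (by
      show ((LinearMap.id : (Fin (N + 1) → A) →ₗ[A] (Fin (N + 1) → A)) - σ.comp M.mkQ) (m l) = (bM l : Fin (N + 1) → A)
      rw [LinearMap.sub_apply, LinearMap.comp_apply, h0, map_zero, sub_zero, LinearMap.id_apply, Module.Basis.span_apply])
    show bM.equivFun _ i = _
    rw [this, Module.Basis.equivFun_self]
  let P : Fin s → Fin (N + 1) → A := fun i j => ψ (fun j' => if j' = j then 1 else 0) i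
  have hP : ∀ i l, ∑ j, m l j * P i j = if l = i then 1 else 0 := by
    intro i l
    rw [← hψ i l]
    conv_rhs => rw [pi_eq_sum_univ (m l)]
    simp [P, map_sum, Finset.sum_apply, eq_comm]
  -- kernel linear forms lie in `J`
  have hlin : ∀ φ : Fin (N + 1) → A, (∀ l, ∑ j, m l j * φ j = 0) →
      ∑ j, MvPolynomial.C (φ j) * MvPolynomial.X j ∈ J := by
    intro φ hφ
    have hmin : ∀ T : Fin s → Fin (N + 1),
        MvPolynomial.C (Matrix.of fun i l => m i (T l)).det * ∑ j, MvPolynomial.C (φ j) * MvPolynomial.X j ∈ J := by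
      intro T
      let B : Fin (N + 1) → Matrix (Fin (s + 1)) (Fin (s + 1)) (MvPolynomial (Fin (N + 1)) A) := fun j =>
        Matrix.of fun i l => Fin.snoc (α := fun _ => MvPolynomial (Fin (N + 1)) A)
            (fun i' : Fin s => MvPolynomial.C (m i' ((Fin.snoc T j : Fin (s + 1) → Fin (N + 1)) l)))
            (MvPolynomial.X ((Fin.snoc T j : Fin (s + 1) → Fin (N + 1)) l)) i
      have hB : ∑ j, MvPolynomial.C (φ j) * (B j).det =
          MvPolynomial.C (Matrix.of fun i l => m i (T l)).det * ∑ j, MvPolynomial.C (φ j) * MvPolynomial.X j := by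
        have hdet : ∀ j, (B j).det = ∑ i : Fin (s + 1), (-1) ^ ((i : ℕ) + (Fin.last s : ℕ)) *
            (Fin.snoc (α := fun _ => MvPolynomial (Fin (N + 1)) A) (fun i' : Fin s => MvPolynomial.C (m i' j)) (MvPolynomial.X j) i) *
            ((B j).submatrix i.succAbove Fin.castSucc).det := by
          intro j
          rw [Matrix.det_succ_column (B j) (Fin.last s), Fin.succAbove_last]
          simp [B]
        have hsub : ∀ j j' (i : Fin (s + 1)), (B j).submatrix i.succAbove Fin.castSucc = (B j').submatrix i.succAbove Fin.castSucc := by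
          intro j j' i; ext a b; simp [B]
        simp only [hdet, Finset.mul_sum]
        rw [Finset.sum_comm]
        simp only [fun j i => hsub j 0 i]
        rw [Fin.sum_univ_castSucc]
        have hz : ∀ i : Fin s, ∑ j, MvPolynomial.C (φ j) * ((-1) ^ ((i.castSucc : ℕ) + (Fin.last s : ℕ)) *
            (Fin.snoc (α := fun _ => MvPolynomial (Fin (N + 1)) A) (fun i' : Fin s => MvPolynomial.C (m i' j)) (MvPolynomial.X j) i.castSucc) *
            ((B 0).submatrix i.castSucc.succAbove Fin.castSucc).det) = 0 := by
          intro i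
          simp only [Fin.snoc_castSucc]
          rw [show (∑ j, MvPolynomial.C (φ j) * ((-1) ^ ((i.castSucc : ℕ) + (Fin.last s : ℕ)) *
              MvPolynomial.C (m i j) * ((B 0).submatrix i.castSucc.succAbove Fin.castSucc).det)) =
              ((-1) ^ ((i.castSucc : ℕ) + (Fin.last s : ℕ)) * ((B 0).submatrix i.castSucc.succAbove Fin.castSucc).det) *
                MvPolynomial.C (∑ j, m i j * φ j) by
            rw [map_sum, Finset.mul_sum]; exact Finset.sum_congr rfl fun j _ => by rw [map_mul]; ring,
            hφ, map_zero, mul_zero]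
        rw [Finset.sum_eq_zero fun i _ => hz i, zero_add]
        refine Finset.sum_congr rfl fun j _ => ?_
        have hC : (B 0).submatrix (Fin.last s).succAbove Fin.castSucc = (Matrix.of fun i l => m i (T l)).map MvPolynomial.C := by
          ext a b; simp [B, Fin.succAbove_last]
        rw [hC, Fin.snoc_last, Even.neg_one_pow ⟨_, rfl⟩, RingHom.map_det]
        simp [RingHom.mapMatrix_apply]; ring
      rw [← hB]
      exact Ideal.sum_mem _ fun j _ => J.mul_mem_left _ (Ideal.subset_span ⟨Fin.snoc T j, rfl⟩)
    have h1 : (1 : A) = ∑ T : Fin s → Fin (N + 1), (∏ i, P i (T i)) * (Matrix.of fun i l => m i (T l)).det := by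
      have hd := (Matrix.detRowAlternating (R := A) (n := Fin s)).toMultilinearMap.map_sum
        (fun i (j : Fin (N + 1)) => P i j • fun l => m l j)
      have hone : (fun i => ∑ j, P i j • fun l => m l j) = (1 : Matrix (Fin s) (Fin s) A) := by
        funext i l
        simp only [Finset.sum_apply, Pi.smul_apply, smul_eq_mul, Matrix.one_apply]
        rw [← Finset.sum_congr rfl fun j _ => mul_comm (m l j) (P i j), hP]
        simp [eq_comm]
      rw [hone] at hd
      refine ((Matrix.det_one).symm.trans hd).trans (Finset.sum_congr rfl fun T _ => ?_)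
      rw [MultilinearMap.map_smul_univ, smul_eq_mul, ← Matrix.det_transpose]
      rfl
    rw [show ∑ j, MvPolynomial.C (φ j) * MvPolynomial.X j = MvPolynomial.C (1 : A) * ∑ j, MvPolynomial.C (φ j) * MvPolynomial.X j by rw [map_one, one_mul],
      h1, map_sum, Finset.sum_mul]
    exact Ideal.sum_mem _ fun T _ => by rw [map_mul, mul_assoc]; exact J.mul_mem_left _ (hmin T)
  refine le_antisymm ?_ (Ideal.span_le.2 ?_)
  · let G : MvPolynomial (Fin s) A →ₐ[A] MvPolynomial (Fin (N + 1)) A :=
      MvPolynomial.aeval fun i => ∑ j, MvPolynomial.C (P i j) * MvPolynomial.X j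
    have hG : (Ideal.Quotient.mkₐ A J).comp (G.comp E) = Ideal.Quotient.mkₐ A J := by
      refine MvPolynomial.algHom_ext fun j₀ => ?_
      refine (Ideal.Quotient.eq (I := J)).2 ?_
      have h := hlin (fun j => (∑ i, m i j₀ * P i j) - if j = j₀ then 1 else 0) fun l => by
        simp only [mul_sub, Finset.sum_sub_distrib, Finset.mul_sum]
        rw [Finset.sum_comm]
        have : ∀ i, ∑ j, m l j * (m i j₀ * P i j) = m i j₀ * ∑ j, m l j * P i j := fun i => by
          rw [Finset.mul_sum]; exact Finset.sum_congr rfl fun j _ => by ring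
        simp [this, hP]
      convert h using 1
      simp only [AlgHom.comp_apply, hE, G, MvPolynomial.aeval_X, map_sum, map_mul, MvPolynomial.aeval_C,
        map_sub, Finset.sum_sub_distrib, sub_mul, Finset.sum_mul, Finset.mul_sum]
      rw [Finset.sum_comm]
      congr 1
      · simp [mul_assoc, MvPolynomial.algebraMap_eq, Finset.mul_sum]
      · simp [apply_ite MvPolynomial.C, ite_mul]
    intro f hf
    rw [RingHom.mem_ker] at hf
    refine Ideal.Quotient.eq_zero_iff_mem.1 ?_
    have := AlgHom.congr_fun hG f
    rw [AlgHom.comp_apply, AlgHom.comp_apply, hf, map_zero, map_zero] at this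
    exact this.symm
  · rintro _ ⟨c, rfl⟩
    rw [SetLike.mem_coe, RingHom.mem_ker]
    let C' : Matrix (Fin (s + 1)) (Fin (s + 1)) (MvPolynomial (Fin s) A) := Matrix.of fun i l =>
      Fin.snoc (α := fun _ => MvPolynomial (Fin s) A) (fun i' : Fin s => MvPolynomial.C (m i' (c l)))
        (∑ i' : Fin s, MvPolynomial.C (m i' (c l)) * MvPolynomial.X i') i
    have hC : E.toRingHom.mapMatrix (Matrix.of fun (i : Fin (s + 1)) (j : Fin (s + 1)) =>
          (Fin.snoc (α := fun _ => MvPolynomial (Fin (N + 1)) A)
            (fun i' : Fin s => MvPolynomial.C (m i' (c j))) (MvPolynomial.X (c j)) i)) = C' := by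
      ext i j
      refine Fin.lastCases ?_ (fun i => ?_) i <;>
        simp [C', hE, MvPolynomial.algebraMap_eq, RingHom.mapMatrix_apply]
    refine (RingHom.map_det E.toRingHom _).trans ?_
    rw [hC]
    let w : Fin (s + 1) → MvPolynomial (Fin s) A :=
      Fin.snoc (α := fun _ => MvPolynomial (Fin s) A) (fun i => MvPolynomial.X i) (-1)
    have hw : Matrix.vecMul w C' = 0 := by
      funext j
      simp [Matrix.vecMul, dotProduct, w, C', Fin.sum_univ_castSucc, mul_comm]
    have h := congrArg (fun v => Matrix.vecMul v C'.adjugate) hw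
    simp only [Matrix.zero_vecMul, Matrix.vecMul_vecMul, Matrix.mul_adjugate] at h
    have hl := congrFun h (Fin.last s)
    simpa [Matrix.vecMul, dotProduct, Matrix.smul_apply, Matrix.one_apply, w] using hl

end Groth.Agent.S16254
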