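import Groth.Statements.S16257
import Groth.Agent.HcCurve25.Excision

set_option autoImplicit false
set_option backward.isDefEq.respectTransparency.types false
universe u
open CategoryTheory CategoryTheory.Limits AlgebraicGeometry Opposite
open FinFr

namespace Groth.Agent.S16257

open Groth.Agent.Et18 Groth.Agent.HcCurve25

set_option backward.isDefEq.respectTransparency false

/-- Let k be a field, K an algebraic closure of k, X₀ a smooth, separated, geometrically irreducible
k-curve of finite type, j : X₀ ⟶ P₀ an open immersion into a proper k-scheme (a compactification,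
through which compactly supported cohomology is computed as H^*(P₀ ⊗_k K, j_!(-))), i : U₀ ⟶ X₀ the
inclusion of a non-empty open subscheme, and F an abelian étale sheaf on X₀ killed by an integer ν
invertible in k. Then the canonical map H^2_c(U₀ ⊗_k K, F|U) ⟶ H^2_c(X₀ ⊗_k K, F), namely the map
induced on H^2(P₀ ⊗_k K, -) by j_! of the counit i_! i^{-1} F ⟶ F, is bijective. (The published
statement is for an arbitrary constructible ℓ-adic sheaf with Q̄_ℓ-coefficients; the statement here
is the finite-coefficient form of its excision argument, over any base field.) -/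
theorem result
    (k K : Type u) [Field k] [Field K] [Algebra k K] [IsAlgClosed K] [Algebra.IsAlgebraic k K]
    {X₀ P₀ U₀ : Scheme.{u}} (a : X₀ ⟶ Spec (CommRingCat.of k))
    [SmoothOfRelativeDimension 1 a] [IsSeparated a] [QuasiCompact a] [GeometricallyIrreducible a]
    (j : X₀ ⟶ P₀) [IsOpenImmersion j] [EtShriek.JCont j] (b : P₀ ⟶ Spec (CommRingCat.of k)) [IsProper b]
    (hj : j ≫ b = a) (i : U₀ ⟶ X₀) [IsOpenImmersion i] [EtShriek.JCont i] [Nonempty ↥U₀]
    (ν : ℕ) (hν : (ν : k) ≠ 0) (F : EtCoh.Ab X₀) (hF : EtCoh.KilledBy ν F) :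
    Function.Bijective (Sheaf.H.map ((EtCoh.pull (FinFr.extπ K b)).map
      ((EtShriek.extZero j).map ((EtShriek.extZeroAdj i).counit.app F))) 2) := by
  haveI : Algebra.IsIntegral k K := Algebra.IsAlgebraic.isIntegral
  haveI : IsIntegralHom (FinFr.specι k K) :=
    IsIntegralHom.SpecMap_iff.mpr (algebraMap_isIntegral_iff.mpr inferInstance)
  haveI : IsIntegralHom (FinFr.extπ K b) := inferInstanceAs (IsIntegralHom (pullback.fst b (FinFr.specι k K)))
  haveI : IrreducibleSpace X₀ := GeometricallyIrreducible.irreducibleSpace_of_subsingleton a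
  haveI : JacobsonSpace P₀ := LocallyOfFiniteType.jacobsonSpace b
  haveI : Smooth a := SmoothOfRelativeDimension.smooth 1 a
  have hdim : topologicalKrullDim X₀ ≤ 1 := by
    obtain ⟨x⟩ := (inferInstance : Nonempty X₀)
    have h := Groth.Agent.Unram17Lib.localDim_of_smoothOfRelativeDimension k a 1 x
    rw [Groth.Agent.GenSmoothLib.localDim_eq_topologicalKrullDim a x] at h
    exact le_of_eq (by exact_mod_cast h)
  refine bijective_H_map_of_closedPoints (pullback.snd b (FinFr.specι k K)) _ (fun x hx => ?_) 0
  let ξ := sepPoint (FinFr.ext K b) x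
  refine (NatIso.isIso_map_iff (stalkPullIso (FinFr.extπ K b) ξ) _).mpr ?_
  refine isIso_stalk_extZero_map j _ _ fun u => ?_
  let y := u.1 default
  have hy : j y = FinFr.extπ K b x := by
    have := congrArg (fun q : _ ⟶ P₀ => q default) u.2
    exact this.trans (congrArg (FinFr.extπ K b) (sepPoint_default (FinFr.ext K b) x))
  have hmem : y ∈ Set.range i := by
    by_contra hn
    have hyc : IsClosed ({y} : Set X₀) :=
      isClosed_singleton_of_notMem hdim i.opensRange (Set.range_nonempty i) hn
    refine hx (isClosed_singleton_of_integral (FinFr.extπ K b) ?_)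
    rw [← hy, ← Set.image_singleton]
    refine isClosed_singleton_of_isLocallyClosed_singleton ?_ |> fun h => by rwa [Set.image_singleton]
    rw [← Set.image_singleton]
    exact hyc.isLocallyClosed.image j.isOpenEmbedding.isInducing j.isOpenEmbedding.isOpen_range.isLocallyClosed
  obtain ⟨z, hz⟩ := hmem
  obtain ⟨v, hv, -⟩ := Scheme.exists_fac_of_etale_of_isSepClosed i u.1 z hz
  exact isIso_stalk_counit i u.1 ⟨v, hv⟩ F

end Groth.Agent.S16257
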