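import Groth.Statements.S16258
import Groth.Agent.HcCurve25.ClopenSupp
import Groth.Agent.Et18.ExtZeroBaseChange
import Groth.Agent.Et18.ShriekSections
import Groth.Agent.Et18.ShriekEtale

set_option autoImplicit false
set_option backward.isDefEq.respectTransparency.types false
universe u
open CategoryTheory CategoryTheory.Limits AlgebraicGeometry Opposite
open FinFr

namespace Groth.Agent.S16258

open Groth.Agent.Et18 Groth.Agent.Et18.H0Lift Groth.Agent.HcCurve25

set_option backward.isDefEq.respectTransparency false

theorem isProper_of_ext (k K : Type u) [Field k] [Field K] [Algebra k K]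
    [Algebra.IsAlgebraic k K] {X₀ : Scheme.{u}} (a : X₀ ⟶ Spec (CommRingCat.of k))
    [IsSeparated a] [QuasiCompact a] [LocallyOfFiniteType a]
    [UniversallyClosed (pullback.snd a (FinFr.specι k K))] : IsProper a := by
  haveI : Algebra.IsIntegral k K := Algebra.IsAlgebraic.isIntegral
  haveI : IsIntegralHom (FinFr.specι k K) :=
    IsIntegralHom.SpecMap_iff.mpr (algebraMap_isIntegral_iff.mpr inferInstance)
  haveI : Surjective (FinFr.specι k K) := ⟨fun x => ⟨default, Subsingleton.elim _ _⟩⟩
  haveI : UniversallyClosed (pullback.fst a (FinFr.specι k K) ≫ a) := by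
    rw [pullback.condition]; infer_instance
  haveI : UniversallyClosed a :=
    UniversallyClosed.of_comp_surjective (pullback.fst a (FinFr.specι k K)) a
  exact {}

theorem sect_zero {X₀ P V' : Scheme.{u}} (j' : V' ⟶ P) [IsOpenImmersion j'] (f' : V' ⟶ X₀)
    [IrreducibleSpace V'] (hcl : ¬ IsClosed (Set.range j'))
    (F : EtCoh.Ab X₀) (hF : EtCoh.IsFiniteLocallyConstant F)
    (s : EtCoh.sect ((EtCoh.pull f').obj F) ((EtCoh.bc j').obj (EtCoh.top P)))
    (hs : PropSupp j' ((EtCoh.pull f').obj F) (V := EtCoh.top P) s) : s = 0 := by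
  let W := (EtCoh.bc j').obj (EtCoh.top P)
  let l : V' ⟶ W.left := pullback.lift j' (𝟙 V') (by simp; exact Category.comp_id _)
  let m : EtCoh.top V' ⟶ W := MorphismProperty.Over.homMk l (pullback.lift_snd _ _ _)
  let m' : W ⟶ EtCoh.top V' := (EtCore.topIsTerminal V').from W
  haveI : IsIso (EtCoh.top P).hom := inferInstanceAs (IsIso (𝟙 P))
  haveI hW : IsIso W.hom := inferInstanceAs (IsIso (pullback.snd (EtCoh.top P).hom j'))
  have hmm : m' ≫ m = 𝟙 W := by
    apply MorphismProperty.Over.Hom.ext
    rw [← cancel_mono W.hom]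
    exact (MorphismProperty.Over.w (m' ≫ m)).trans (Category.id_comp _).symm
  let σ : gSec f' F := ((EtCoh.pull f').obj F).obj.map m.op s
  have hclopen : IsClopen (gSupp σ) := ⟨isClosed_gSupp σ, isOpen_gSupp hF σ⟩
  rcases isClopen_iff.mp hclopen with h0 | huniv
  · have hσ : σ = 0 := eq_zero_of_sectSupp_eq_empty _ _ _ h0
    have : ((EtCoh.pull f').obj F).obj.map m'.op σ = s := by
      change ((EtCoh.pull f').obj F).obj.map m'.op (((EtCoh.pull f').obj F).obj.map m.op s) = s
      rw [← ConcreteCategory.comp_apply, ← Functor.map_comp, ← op_comp, hmm, op_id,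
        CategoryTheory.Functor.map_id]
      rfl
    rw [← this, hσ, map_zero]
  · refine absurd ?_ hcl
    have h := IsProperOver.isClosed_image hs
    have e : EtShriek.prV j' (EtCoh.top P) '' EtShriek.sectSupp _ W s = Set.range j' := by
      refine Set.Subset.antisymm ?_ ?_
      · rintro _ ⟨w, -, rfl⟩
        refine ⟨pullback.snd (EtCoh.top P).hom j' w, ?_⟩
        have := congrArg (fun q : _ ⟶ P => q w) (pullback.condition (f := (EtCoh.top P).hom) (g := j'))
        exact this.symm
      · rintro _ ⟨v, rfl⟩
        exact ⟨l v, sectSupp_restrict_subset _ m s ((Set.ext_iff.mp huniv v).mpr trivial),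
          congrArg (fun q : _ ⟶ P => q v) (pullback.lift_fst _ _ _)⟩
    exact e ▸ h

/-- Let k be a field, K an algebraic closure of k, X₀ a smooth, separated, geometrically irreducible
k-curve of finite type which is NOT proper over k, j : X₀ ⟶ P₀ an open immersion into a proper
k-scheme, and F a finite locally constant abelian étale sheaf on X₀. Then the compactly supported
cohomology in degree 0, H^0_c(X₀ ⊗_k K, F) = H^0(P₀ ⊗_k K, j_! F), is zero. (The published statement
is for a smooth ℓ-adic sheaf with Q̄_ℓ-coefficients, together with H^0_c = H^0 for proper curves;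
the statement here is the finite locally constant case of the non-proper half.) -/
theorem result
    (k K : Type u) [Field k] [Field K] [Algebra k K] [IsAlgClosed K] [Algebra.IsAlgebraic k K]
    {X₀ P₀ : Scheme.{u}} (a : X₀ ⟶ Spec (CommRingCat.of k))
    [SmoothOfRelativeDimension 1 a] [IsSeparated a] [QuasiCompact a] [GeometricallyIrreducible a]
    (ha : ¬ IsProper a)
    (j : X₀ ⟶ P₀) [IsOpenImmersion j] [EtShriek.JCont j] (b : P₀ ⟶ Spec (CommRingCat.of k)) [IsProper b]
    (hj : j ≫ b = a) (F : EtCoh.Ab X₀) (hF : EtCoh.IsFiniteLocallyConstant F) :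
    Subsingleton (EtCoh.H (FinFr.ext K b) ((EtCoh.pull (FinFr.extπ K b)).obj ((EtShriek.extZero j).obj F)) 0) := by
  let π := FinFr.extπ K b
  let j' : pullback j π ⟶ FinFr.ext K b := pullback.snd j π
  let f' : pullback j π ⟶ X₀ := pullback.fst j π
  let G := (EtCoh.pull f').obj F
  haveI : IsOpenImmersion j' := inferInstanceAs (IsOpenImmersion (pullback.snd j π))
  have hpb : IsPullback j' f' π j := (IsPullback.of_hasPullback j π).flip
  let φ : (EtCoh.pull π).obj ((EtShriek.extZero j).obj F) ≅ (EtShriek.lowerShriek j').obj G :=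
    ((extZeroBaseChangeIso j π j' f' hpb).app F).symm ≪≫ (extZeroShriekIso j').app G
  subst hj
  let e := pullbackRightPullbackFstIso b (FinFr.specι k K) j
  haveI : IrreducibleSpace (pullback (j ≫ b) (FinFr.specι k K) : Scheme) :=
    GeometricallyIrreducible.geometrically_irreducibleSpace (f := j ≫ b) (FinFr.specι k K) _ _
      (IsPullback.of_hasPullback _ _)
  haveI : IrreducibleSpace (pullback j π : Scheme) :=
    e.inv.homeomorph.surjective.irreducibleSpace e.inv.continuous
  have hcl : ¬ IsClosed (Set.range j') := by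
    intro hc
    refine ha ?_
    haveI : IsClosedImmersion j' := IsClosedImmersion.of_isPreimmersion j' hc
    haveI : UniversallyClosed (pullback.snd (j ≫ b) (FinFr.specι k K)) := by
      have h1 : e.inv ≫ j' ≫ pullback.snd b (FinFr.specι k K) =
          pullback.snd (j ≫ b) (FinFr.specι k K) := by
        rw [← pullbackRightPullbackFstIso_hom_snd b (FinFr.specι k K) j, ← Category.assoc]
        exact (congrArg (fun q => q ≫ _) e.inv_hom_id).trans (Category.id_comp _)
      rw [← h1]
      infer_instance
    haveI : LocallyOfFiniteType (j ≫ b) := inferInstance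
    exact isProper_of_ext k K (j ≫ b)
  haveI : Subsingleton (EtCoh.sect ((EtShriek.lowerShriek j').obj G) (EtCoh.top (FinFr.ext K b))) := by
    refine subsingleton_of_forall_eq 0 fun t => ?_
    obtain ⟨s, rfl⟩ := (toShriek_bijective j' G (EtCoh.top (FinFr.ext K b))).2 t
    rw [show s = 0 from Subtype.ext (sect_zero j' f' hcl F hF s.1
      ((mem_shriekSubgroup_iff j' G s.1).mp s.2)), map_zero]
  haveI : Subsingleton (((EtCoh.pull π).obj ((EtShriek.extZero j).obj F)).obj.obj
      (op (EtCoh.top (FinFr.ext K b)))) :=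
    Function.Injective.subsingleton (f := φ.hom.hom.app (op (EtCoh.top (FinFr.ext K b)))) (by
      intro x y hxy
      have h3 : ∀ z, φ.inv.hom.app (op (EtCoh.top (FinFr.ext K b)))
          (φ.hom.hom.app (op (EtCoh.top (FinFr.ext K b))) z) = z := fun z =>
        congrArg (fun t => t z) (congrArg (fun t => t.hom.app (op (EtCoh.top (FinFr.ext K b)))) φ.hom_inv_id)
      rw [← h3 x, ← h3 y, hxy])
  exact (Sheaf.H.equiv₀ ((EtCoh.pull π).obj ((EtShriek.extZero j).obj F))
    (EtCore.topIsTerminal _)).toEquiv.subsingleton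

end Groth.Agent.S16258
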