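import Groth.Statements.S16259
import Mathlib
import Groth.Prelude

set_option linter.all false

set_option autoImplicit false
open W4c3wronskmg

open Polynomial

namespace Groth.Agent.S16259

theorem choose_cast (k : Type*) [Field k] (a b : ℕ) :
    (a.choose (b + 1) : k) * ((b : k) + 1) = (a.choose b : k) * ((a : k) - b) := by
  rcases le_or_gt b a with h | h
  · rw [← Nat.cast_sub h, ← Nat.cast_succ, ← Nat.cast_mul, ← Nat.cast_mul, Nat.choose_succ_right_eq]
  · rw [Nat.choose_eq_zero_of_lt h, Nat.choose_eq_zero_of_lt (h.trans (Nat.lt_succ_self b))]; simp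

open Polynomial in
/-- Over a field of characteristic zero, for positive integers `i, j` and a natural number `n`, the
polynomial `h(W) = ∑_{l=0}^{n} (i choose l) (j choose (n-l)) W^(n-l)`, the coefficient of
`X^(i+j-n)` in `(X+1)^i (X+W)^j`, has no multiple root other than possibly `0` and `1`: every `c ≠
0, 1` has root multiplicity at most one. -/
theorem result
    (k : Type*) [Field k] [CharZero k] (i j n : ℕ) (hi : 0 < i) (hj : 0 < j) (c : k) (hc0 : c ≠ 0) (hc1 : c ≠ 1) :
    Polynomial.rootMultiplicity c
      (∑ l ∈ Finset.range (n + 1),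
        Polynomial.C (((i.choose l) * (j.choose (n - l)) : ℕ) : k) * Polynomial.X ^ (n - l)) ≤ 1 := by
  set h := ∑ l ∈ Finset.range (n + 1), Polynomial.C (((i.choose l) * (j.choose (n - l)) : ℕ) : k) * Polynomial.X ^ (n - l) with hh
  have hcoeff : ∀ m, h.coeff m = if m ≤ n then (i.choose (n - m) : k) * (j.choose m : k) else 0 := by
    intro m
    rw [hh, finsetSum_coeff]
    simp only [coeff_C_mul_X_pow]
    split_ifs with hm
    · rw [Finset.sum_eq_single (n - m)]
      · rw [if_pos (by omega), Nat.sub_sub_self hm, Nat.cast_mul]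
      · intro l hl hne; rw [Finset.mem_range] at hl; rw [if_neg (by omega)]
      · intro hl; simp at hl
    · exact Finset.sum_eq_zero fun l hl => if_neg (by omega)
  have key : ∀ m : ℕ, ((m : k) + 1) * ((m : k) + (i : k) - n + 1) * h.coeff (m + 1) = ((m : k) - j) * ((m : k) - n) * h.coeff m := by
    intro m
    rw [hcoeff, hcoeff]
    rcases lt_trichotomy m n with hm | hm | hm
    · obtain ⟨l, rfl⟩ : ∃ l, n = m + 1 + l := ⟨n - m - 1, by omega⟩
      rw [if_pos (by omega), if_pos (by omega), show m + 1 + l - (m + 1) = l by omega, show m + 1 + l - m = l + 1 by omega]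
      have h1 := choose_cast k j m
      have h2 := choose_cast k i l
      push_cast
      linear_combination ((i.choose l : k) * ((i : k) - l)) * h1 + (-((j : k) - m) * (j.choose m : k)) * h2
    · subst hm; rw [if_neg (by omega)]; simp
    · rw [if_neg (by omega), if_neg (by omega)]; simp
  have ode : (X - X ^ 2) * derivative (derivative h) + (C ((i : k) - n + 1) - C (1 - (j : k) - n) * X) * derivative h -
      C ((j : k) * n) * h = 0 := by
    ext m
    simp only [coeff_sub, coeff_add, sub_mul, mul_assoc, coeff_C_mul, coeff_zero]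
    rcases m with _ | m
    · have := key 0
      simp [coeff_derivative] at this ⊢
      linear_combination this
    · rw [pow_two, mul_assoc, coeff_X_mul, coeff_X_mul, coeff_X_mul]
      rcases m with _ | m
      · have := key 1
        simp [coeff_derivative] at this ⊢
        linear_combination this
      · rw [coeff_X_mul]
        have := key (m + 2)
        simp only [coeff_derivative] at *
        push_cast at *
        linear_combination this
  by_contra hlt
  push Not at hlt
  have hne : h ≠ 0 := fun h0 => by rw [h0, rootMultiplicity_zero] at hlt; omega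
  obtain ⟨g, hg, hgc⟩ := exists_eq_pow_rootMultiplicity_mul_and_not_dvd h hne c
  obtain ⟨M, hM⟩ : ∃ M, rootMultiplicity c h = M + 2 := ⟨rootMultiplicity c h - 2, by omega⟩
  rw [hM] at hg
  set R := derivative (derivative g) with hR
  have e1 : derivative h = (X - C c) ^ (M + 1) * (C ((M : k) + 2) * g + (X - C c) * derivative g) := by
    rw [hg, derivative_mul, derivative_pow]
    simp; ring
  have e2 : derivative (derivative h) = (X - C c) ^ M * (C ((M : k) + 1) * (C ((M : k) + 2) * g) + (X - C c) * ((C ((M : k) + 1) + C ((M : k) + 3)) * derivative g + (X - C c) * R)) := by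
    rw [e1, derivative_mul, derivative_pow]
    simp [hR, map_add, map_ofNat]; ring
  rw [e2, e1, hg] at ode
  have hfac : (X - C c) ^ M * ((X - X ^ 2) * (C ((M : k) + 1) * (C ((M : k) + 2) * g)) + (X - C c) * (
      (X - X ^ 2) * ((C ((M : k) + 1) + C ((M : k) + 3)) * derivative g + (X - C c) * R) +
      (C ((i : k) - n + 1) - C (1 - (j : k) - n) * X) * (C ((M : k) + 2) * g + (X - C c) * derivative g) -
      C ((j : k) * n) * ((X - C c) * g))) = 0 := by
    linear_combination ode
  have h0 := congrArg (eval c) ((mul_eq_zero.1 hfac).resolve_left (pow_ne_zero _ (X_sub_C_ne_zero c)))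
  simp at h0
  have hgc' : g.eval c ≠ 0 := fun h' => hgc (dvd_iff_isRoot.2 h')
  rcases h0 with h0 | h0 | h0 | h0
  · exact hc1 (mul_left_cancel₀ hc0 (by linear_combination -h0))
  · exact absurd h0 (Nat.cast_add_one_ne_zero M)
  · exact absurd (show ((M + 1 : ℕ) : k) + 1 = 0 by push_cast; linear_combination h0) (Nat.cast_add_one_ne_zero _)
  · exact hgc' h0

end Groth.Agent.S16259
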