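import Groth.Statements.S16260
import Mathlib
import Groth.Prelude

set_option linter.all false

set_option autoImplicit false
open W4c3wronskmg

open Polynomial

namespace Groth.Agent.S16260

variable {k : Type*} [Field k]

noncomputable def Λ (a b : ℕ) : Polynomial k →ₗ[k] Polynomial k :=
  (LinearMap.mulLeft k (X * (X - 1))).comp derivative - LinearMap.mulLeft k ((a : k[X]) * (X - 1) + (b : k[X]) * X)

theorem Λ_apply (a b : ℕ) (N : Polynomial k) :
    Λ a b N = X * (X - 1) * derivative N - ((a : k[X]) * (X - 1) + (b : k[X]) * X) * N := rfl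

theorem mul_der_pow (Y : Polynomial k) (hY : derivative Y = 1) (n : ℕ) : Y * derivative (Y ^ n) = (n : k[X]) * Y ^ n := by
  rcases n with - | n
  · simp
  · rw [derivative_pow_succ, hY, pow_succ]; simp; ring

theorem Λ_mul (a b m l : ℕ) :
    Λ a b ((X : k[X]) ^ m * (X - 1) ^ l) =
      (((m : k[X]) - (a : k[X])) * (X - 1) + ((l : k[X]) - (b : k[X])) * X) * (X ^ m * (X - 1) ^ l) := by
  have h1 := mul_der_pow (X : k[X]) derivative_X m
  have h2 := mul_der_pow ((X : k[X]) - 1) (by simp) l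
  rw [Λ_apply, derivative_mul]
  linear_combination ((X : k[X]) - 1) * (X - 1) ^ l * h1 + (X : k[X]) * X ^ m * h2

theorem range_Λ [CharZero k] (a b : ℕ) (h : Polynomial k)
    (hh : h ∈ ((Ideal.span {(X : Polynomial k) ^ (a + 1)}).restrictScalars k ⊓ Polynomial.degreeLE k ↑(a + b)) ⊔
      ((Ideal.span {((X : Polynomial k) - 1) ^ (b + 1)}).restrictScalars k ⊓ Polynomial.degreeLE k ↑(a + b)) ⊔
      Submodule.span k {(X : Polynomial k) ^ (a + 1) * (X - 1) ^ (b + 1)}) :
    h ∈ (Polynomial.degreeLE k ↑(a + b + 1)).map (Λ a b) ∧ h.natDegree ≤ a + b + 2 := by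
  suffices hs : ((Ideal.span {(X : Polynomial k) ^ (a + 1)}).restrictScalars k ⊓ Polynomial.degreeLE k ↑(a + b)) ⊔
      ((Ideal.span {((X : Polynomial k) - 1) ^ (b + 1)}).restrictScalars k ⊓ Polynomial.degreeLE k ↑(a + b)) ⊔
      Submodule.span k {(X : Polynomial k) ^ (a + 1) * (X - 1) ^ (b + 1)} ≤
      (Polynomial.degreeLE k ↑(a + b + 1)).map (Λ a b) ⊓ Polynomial.degreeLE k ↑(a + b + 2) by
    obtain ⟨h1, h2⟩ := hs hh
    exact ⟨h1, natDegree_le_of_degree_le (mem_degreeLE.1 h2)⟩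
  have hX1 : ((X : k[X]) - 1).natDegree = 1 := by rw [← C_1, natDegree_X_sub_C]
  have hdeg : ∀ m l n : ℕ, m + l ≤ n → (X : k[X]) ^ m * (X - 1) ^ l ∈ Polynomial.degreeLE k ↑n := fun m l n h => by
    refine mem_degreeLE.2 (degree_le_of_natDegree_le (le_trans natDegree_mul_le ?_))
    rw [natDegree_X_pow, natDegree_pow, hX1, mul_one]
    exact h
  have hmono : ∀ {q : k[X]}, q ∈ Polynomial.degreeLE k ↑(a + b) → q ∈ Polynomial.degreeLE k ↑(a + b + 2) :=
    fun hq => Polynomial.degreeLE_mono (by exact_mod_cast Nat.le_add_right _ 2) hq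
  refine sup_le (sup_le ?_ ?_) ?_
  · rintro q ⟨hq, hqd⟩
    refine ⟨?_, hmono hqd⟩
    obtain ⟨r, rfl⟩ := Ideal.mem_span_singleton.1 hq
    by_cases hr : r = 0
    · rw [hr, mul_zero]; exact Submodule.zero_mem _
    have hrd : r.natDegree < b := by
      have := natDegree_le_of_degree_le (mem_degreeLE.1 hqd)
      rw [natDegree_mul (pow_ne_zero _ X_ne_zero) hr, natDegree_X_pow] at this
      omega
    rw [← sum_taylor_eq r (1 : k), Polynomial.sum_def, Finset.mul_sum]
    refine Submodule.sum_mem _ fun l hl => ?_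
    have hlb : l < b := lt_of_le_of_lt ((le_natDegree_of_mem_supp l hl).trans (natDegree_taylor r 1).le) hrd
    have hne : (l : k) - b ≠ 0 := sub_ne_zero.2 (by exact_mod_cast hlb.ne)
    refine ⟨((taylor 1 r).coeff l / ((l : k) - b)) • (X ^ a * (X - 1) ^ l), Submodule.smul_mem _ _ (hdeg _ _ _ (by omega)), ?_⟩
    rw [map_smul, Λ_mul, sub_self, zero_mul, zero_add, smul_eq_C_mul, ← C_eq_natCast, ← C_eq_natCast, ← C_sub, C_1]
    have e : C ((taylor 1 r).coeff l / ((l : k) - b)) * C ((l : k) - b) = C ((taylor 1 r).coeff l) := by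
      rw [← C_mul, div_mul_cancel₀ _ hne]
    linear_combination (X * (X ^ a * ((X : k[X]) - 1) ^ l)) * e
  · rintro q ⟨hq, hqd⟩
    refine ⟨?_, hmono hqd⟩
    obtain ⟨r, rfl⟩ := Ideal.mem_span_singleton.1 hq
    by_cases hr : r = 0
    · rw [hr, mul_zero]; exact Submodule.zero_mem _
    have hrd : r.natDegree < a := by
      have := natDegree_le_of_degree_le (mem_degreeLE.1 hqd)
      rw [natDegree_mul (pow_ne_zero _ (fun h => by simp [h] at hX1)) hr, natDegree_pow, hX1] at this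
      omega
    rw [as_sum_range_C_mul_X_pow r, Finset.mul_sum]
    refine Submodule.sum_mem _ fun l hl => ?_
    rw [Finset.mem_range] at hl
    have hne : (l : k) - a ≠ 0 := sub_ne_zero.2 (by exact_mod_cast (by omega : l ≠ a))
    refine ⟨(r.coeff l / ((l : k) - a)) • (X ^ l * (X - 1) ^ b), Submodule.smul_mem _ _ (hdeg _ _ _ (by omega)), ?_⟩
    rw [map_smul, Λ_mul, sub_self, zero_mul, add_zero, smul_eq_C_mul, ← C_eq_natCast, ← C_eq_natCast, ← C_sub]
    have e : C (r.coeff l / ((l : k) - a)) * C ((l : k) - a) = C (r.coeff l) := by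
      rw [← C_mul, div_mul_cancel₀ _ hne]
    linear_combination (((X : k[X]) - 1) * (X ^ l * (X - 1) ^ b)) * e
  · rw [Submodule.span_le, Set.singleton_subset_iff]
    refine ⟨⟨X ^ (a + 1) * (X - 1) ^ b, hdeg _ _ _ (by omega), ?_⟩, hdeg _ _ _ (by omega)⟩
    rw [Λ_mul, sub_self, zero_mul, add_zero, Nat.cast_add, Nat.cast_one, add_sub_cancel_left, one_mul, pow_succ ((X : k[X]) - 1)]
    ring

theorem Λ_D (a b : ℕ) : Λ a b ((X : k[X]) ^ a * (X - 1) ^ b) = 0 := by rw [Λ_mul]; ring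

theorem dvd_of_dvd [CharZero k] (a b m : ℕ) (p : k) (hp0 : p ≠ 0) (hp1 : p ≠ 1) (N : Polynomial k)
    (hN : (X - C p) ^ m ∣ Λ a b N) :
    ∃ c : k, (X - C p) ^ (m + 1) ∣ N - C c * (X ^ a * (X - 1) ^ b) := by
  have hD : p ^ a * (p - 1) ^ b ≠ 0 := mul_ne_zero (pow_ne_zero _ hp0) (pow_ne_zero _ (sub_ne_zero.2 hp1))
  refine ⟨N.eval p / (p ^ a * (p - 1) ^ b), ?_⟩
  set c := N.eval p / (p ^ a * (p - 1) ^ b)
  set M := N - C c * (X ^ a * (X - 1) ^ b) with hM
  by_cases hM0 : M = 0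
  · rw [hM0]; exact dvd_zero _
  have hroot : M.IsRoot p := by simp [hM, c, IsRoot, div_mul_cancel₀ _ hD]
  have hΛ : Λ a b M = Λ a b N := by rw [hM, ← smul_eq_C_mul, map_sub, map_smul, Λ_D, smul_zero, sub_zero]
  have hμ := (rootMultiplicity_pos hM0).2 hroot
  rw [← le_rootMultiplicity_iff hM0]
  by_contra hlt
  rw [not_le, Nat.lt_succ_iff] at hlt
  have h1 : (X - C p) ^ rootMultiplicity p M ∣ X * (X - 1) * derivative M := by
    have := dvd_add ((pow_dvd_pow _ hlt).trans hN) (Dvd.dvd.mul_left (pow_rootMultiplicity_dvd M p) ((a : k[X]) * (X - 1) + (b : k[X]) * X))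
    rwa [← hΛ, Λ_apply, sub_add_cancel] at this
  have hcop : IsCoprime ((X - C p) ^ rootMultiplicity p M) (X * (X - 1)) := by
    refine IsCoprime.pow_left ((IsCoprime.mul_right ?_ ?_))
    · simpa using isCoprime_X_sub_C_of_isUnit_sub (a := p) (b := 0) (by simpa using hp0)
    · simpa using isCoprime_X_sub_C_of_isUnit_sub (a := p) (b := 1) (sub_ne_zero.2 hp1).isUnit
  have h2 := hcop.dvd_of_dvd_mul_left h1
  have hd0 : derivative M ≠ 0 := by
    intro h0
    rw [eq_C_of_derivative_eq_zero h0] at hroot hM0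
    simp [IsRoot] at hroot
    simp [hroot] at hM0
  have h3 := (le_rootMultiplicity_iff hd0).2 h2
  rw [derivative_rootMultiplicity_of_root hroot] at h3
  omega

open Polynomial in
/-- Let `k` be a field of characteristic zero, `a, b, i` positive integers with `i ≤ a + b`, and `j = a
+ b + 2 - i`. On the projective line with three marked points `A = 0`, `B = 1`, `C = ∞`, the
`(a+b+1)`-dimensional linear system `V = H⁰(ω((1+a)A)) ⊕ H⁰(ω((1+b)B)) ⊕ H⁰(ω(2C)) ⊆ H⁰(ω((1+a)A +
(1+b)B + 2C)) ≅ H⁰(O(a+b+2))` becomes, in the affine coordinate, the span of the multiples of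
`X^(a+1)` of degree at most `a+b`, the multiples of `(X-1)^(b+1)` of degree at most `a+b`, and
`X^(a+1) (X-1)^(b+1)`; and `V(-iP-jQ)` is the subspace of members divisible by `(X-p)^i (X-q)^j`.
Then there are no points `P = p`, `Q = q` other than `A, B, C` (that is, `p, q ∉ {0, 1}`; `p = q`
allowed) with both `dim V(-iP-jQ) ≥ 1` and `dim V(-(i-1)P-(j-1)Q) ≥ 2`. (The published statement is
over the complex numbers.) -/
theorem result
    (k : Type*) [Field k] [CharZero k] (a b i j : ℕ) (ha : 0 < a) (hb : 0 < b) (hi : 0 < i) (hiab : i ≤ a + b)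
    (hj : i + j = a + b + 2)
    (V : Submodule k (Polynomial k))
    (hV : V = ((Ideal.span {(X : Polynomial k) ^ (a + 1)}).restrictScalars k ⊓ Polynomial.degreeLE k ↑(a + b)) ⊔
      ((Ideal.span {((X : Polynomial k) - 1) ^ (b + 1)}).restrictScalars k ⊓ Polynomial.degreeLE k ↑(a + b)) ⊔
      Submodule.span k {(X : Polynomial k) ^ (a + 1) * (X - 1) ^ (b + 1)})
    (p q : k) (hp0 : p ≠ 0) (hp1 : p ≠ 1) (hq0 : q ≠ 0) (hq1 : q ≠ 1) :
    ¬ (1 ≤ Module.finrank k ↥(V ⊓ (Ideal.span {(X - C p) ^ i * (X - C q) ^ j}).restrictScalars k) ∧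
       2 ≤ Module.finrank k ↥(V ⊓ (Ideal.span {(X - C p) ^ (i - 1) * (X - C q) ^ (j - 1)}).restrictScalars k)) := by
  rintro ⟨h1, h2⟩
  obtain ⟨g, hg, hg0⟩ := Submodule.exists_mem_ne_zero_of_ne_bot
    (fun hbot => by rw [hbot, finrank_bot] at h1; omega :
      V ⊓ (Ideal.span {(X - C p) ^ i * (X - C q) ^ j}).restrictScalars k ≠ ⊥)
  obtain ⟨hgV, hgdvd⟩ := hg
  have hgdvd' := Ideal.mem_span_singleton.1 hgdvd
  obtain ⟨⟨N, hN, rfl⟩, -⟩ := range_Λ a b g (hV ▸ hgV)
  set D : k[X] := X ^ a * (X - 1) ^ b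
  obtain ⟨cp, hcp⟩ := dvd_of_dvd a b i p hp0 hp1 N ((dvd_mul_right _ _).trans hgdvd')
  obtain ⟨cq, hcq⟩ := dvd_of_dvd a b j q hq0 hq1 N ((dvd_mul_left _ _).trans hgdvd')
  have hDdeg : D.natDegree ≤ a + b + 1 := by
    refine le_trans natDegree_mul_le ?_
    rw [natDegree_X_pow, natDegree_pow, ← C_1, natDegree_X_sub_C, mul_one]
    omega
  have hNdeg : N.natDegree ≤ a + b + 1 := natDegree_le_of_degree_le (mem_degreeLE.1 hN)
  have hdeg : ∀ {M : k[X]} (c : k), M.natDegree ≤ a + b + 1 → (M - C c * D).natDegree ≤ a + b + 1 := by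
    intro M c hM
    exact (natDegree_sub_le M (C c * D)).trans (max_le hM ((natDegree_C_mul_le c D).trans hDdeg))
  have hkill : ∀ (c : k) (M : k[X]), M = C c * D → Λ a b M = 0 := fun c M hM => by
    rw [hM, ← smul_eq_C_mul, map_smul, Λ_D, smul_zero]
  have hpq : p ≠ q := by
    intro hpq
    have hg' : (X - C p) ^ (i + j) ∣ Λ a b N := by rw [pow_add]; exact hpq ▸ hgdvd'
    obtain ⟨c, hc⟩ := dvd_of_dvd a b (i + j) p hp0 hp1 N hg'
    refine hg0 (hkill c N (sub_eq_zero.1 (eq_zero_of_dvd_of_natDegree_lt hc ?_)))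
    rw [natDegree_pow, natDegree_X_sub_C, mul_one]
    exact lt_of_le_of_lt (hdeg c hNdeg) (by omega)
  have hprod : ∀ (u v : ℕ) (M : k[X]), (X - C p) ^ u ∣ M → (X - C q) ^ v ∣ M → M.natDegree < u + v → M = 0 := by
    intro u v M hu hv hM
    refine eq_zero_of_dvd_of_natDegree_lt (IsCoprime.mul_dvd
      (isCoprime_X_sub_C_of_isUnit_sub (sub_ne_zero.2 hpq).isUnit).pow hu hv) ?_
    rw [natDegree_mul (pow_ne_zero _ (X_sub_C_ne_zero p)) (pow_ne_zero _ (X_sub_C_ne_zero q)), natDegree_pow, natDegree_pow,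
      natDegree_X_sub_C, natDegree_X_sub_C, mul_one, mul_one]
    exact hM
  have he : cp ≠ cq := by
    intro he
    exact hg0 (hkill cp N (sub_eq_zero.1 (hprod _ _ _ hcp (he ▸ hcq) (lt_of_le_of_lt (hdeg cp hNdeg) (by omega)))))
  have hle : V ⊓ (Ideal.span {(X - C p) ^ (i - 1) * (X - C q) ^ (j - 1)}).restrictScalars k ≤ Submodule.span k {Λ a b N} := by
    rintro f ⟨hfV, hf⟩
    have hf' := Ideal.mem_span_singleton.1 hf
    obtain ⟨⟨M, hM, rfl⟩, -⟩ := range_Λ a b f (hV ▸ hfV)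
    obtain ⟨dp, hdp⟩ := dvd_of_dvd a b (i - 1) p hp0 hp1 M ((dvd_mul_right _ _).trans hf')
    obtain ⟨dq, hdq⟩ := dvd_of_dvd a b (j - 1) q hq0 hq1 M ((dvd_mul_left _ _).trans hf')
    rw [Nat.sub_add_cancel hi] at hdp
    rw [Nat.sub_add_cancel (by omega)] at hdq
    set t := (dp - dq) / (cp - cq) with ht
    have hc : dp - t * cp = dq - t * cq := by
      have : t * (cp - cq) = dp - dq := div_mul_cancel₀ _ (sub_ne_zero.2 he)
      linear_combination -this
    have hz : (M - C dp * D) - C t * (N - C cp * D) = 0 := by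
      refine hprod i j _ (dvd_sub hdp (Dvd.dvd.mul_left ((pow_dvd_pow _ (Nat.le_succ i)).trans hcp) _)) ?_ ?_
      · rw [show (M - C dp * D) - C t * (N - C cp * D) = (M - C dq * D) - C t * (N - C cq * D) by
          have hcC := congrArg C hc
          simp only [C_sub, C_mul] at hcC
          linear_combination (-D) * hcC]
        exact dvd_sub hdq (Dvd.dvd.mul_left ((pow_dvd_pow _ (Nat.le_succ j)).trans hcq) _)
      · refine lt_of_le_of_lt ((natDegree_sub_le (M - C dp * D) (C t * (N - C cp * D))).trans (max_le (hdeg dp (natDegree_le_of_degree_le (mem_degreeLE.1 hM)))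
          ((natDegree_C_mul_le _ _).trans (hdeg cp hNdeg)))) (by omega)
    refine Submodule.mem_span_singleton.2 ⟨t, ?_⟩
    have := congrArg (Λ a b) hz
    simp only [← smul_eq_C_mul, map_sub, map_smul, map_zero] at this
    rw [show Λ a b D = 0 from Λ_D a b] at this
    simp only [smul_zero, sub_zero] at this
    exact (sub_eq_zero.1 this).symm
  have := h2.trans ((Submodule.finrank_mono hle).trans (finrank_span_singleton hg0).le)
  omega

end Groth.Agent.S16260
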