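import Groth.Statements.S16261
import Mathlib
-- import your own Groth.Agent.* helpers here

set_option autoImplicit false
open W4c3wronskmg

namespace Groth.Agent.S16261

open Polynomial in
/-- With `k` of characteristic zero, `a, b, i` positive, `i ≤ a + b`, `j = a + b + 2 - i` and `V ⊆ k[X]`
the linear system of the first assertion (marked points `A = 0`, `B = 1`, `C = ∞`; `V` spanned by
the multiples of `X^(a+1)` of degree at most `a+b`, the multiples of `(X-1)^(b+1)` of degree at most
`a+b`, and `X^(a+1) (X-1)^(b+1)`): if the point `P` is put at `A` and `Q = q` is any point other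
than `C`, and both `dim V(-iA-jQ) ≥ 1` and `dim V(-(i-1)A-(j-1)Q) ≥ 2` hold, then `i ≥ a + 1`. (The
published statement is over the complex numbers.) -/
theorem result
    (k : Type*) [Field k] [CharZero k] (a b i j : ℕ) (ha : 0 < a) (hb : 0 < b) (hi : 0 < i) (hiab : i ≤ a + b)
    (hj : i + j = a + b + 2)
    (V : Submodule k (Polynomial k))
    (hV : V = ((Ideal.span {(X : Polynomial k) ^ (a + 1)}).restrictScalars k ⊓ Polynomial.degreeLE k ↑(a + b)) ⊔
      ((Ideal.span {((X : Polynomial k) - 1) ^ (b + 1)}).restrictScalars k ⊓ Polynomial.degreeLE k ↑(a + b)) ⊔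
      Submodule.span k {(X : Polynomial k) ^ (a + 1) * (X - 1) ^ (b + 1)})
    (q : k)
    (h1 : 1 ≤ Module.finrank k ↥(V ⊓ (Ideal.span {(X : Polynomial k) ^ i * (X - C q) ^ j}).restrictScalars k))
    (h2 : 2 ≤ Module.finrank k ↥(V ⊓ (Ideal.span {(X : Polynomial k) ^ (i - 1) * (X - C q) ^ (j - 1)}).restrictScalars k)) :
    a + 1 ≤ i := by
  classical
  by_contra hia
  push Not at hia
  have hdec : ∀ G ∈ V, ∃ A B : Polynomial k, ∃ c : k, G = X ^ (a + 1) * A + (X - 1) ^ (b + 1) * B + C c * (X ^ (a + 1) * (X - 1) ^ (b + 1)) ∧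
      (X ^ (a + 1) * A).natDegree ≤ a + b ∧ ((X - 1) ^ (b + 1) * B).natDegree ≤ a + b := by
    intro G hG
    rw [hV, Submodule.mem_sup] at hG
    obtain ⟨x, hx, z, hz, rfl⟩ := hG
    obtain ⟨u, ⟨hu1, hu2⟩, v, ⟨hv1, hv2⟩, rfl⟩ := Submodule.mem_sup.1 hx
    obtain ⟨A, rfl⟩ := Ideal.mem_span_singleton.1 (by exact hu1)
    obtain ⟨B, rfl⟩ := Ideal.mem_span_singleton.1 (by exact hv1)
    obtain ⟨c, rfl⟩ := Submodule.mem_span_singleton.1 hz
    exact ⟨A, B, c, by rw [smul_eq_C_mul], natDegree_le_of_degree_le (mem_degreeLE.1 hu2),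
      natDegree_le_of_degree_le (mem_degreeLE.1 hv2)⟩
  have hP : ((X : Polynomial k) ^ (a + 1) * (X - 1) ^ (b + 1)).natDegree = a + b + 2 ∧
      ((X : Polynomial k) ^ (a + 1) * (X - 1) ^ (b + 1)).coeff (a + b + 2) = 1 ∧
      ((X : Polynomial k) ^ (a + 1) * (X - 1) ^ (b + 1)).coeff (a + b + 1) = -((b : k) + 1) := by
    have h1 : (X : Polynomial k) - 1 = X + C (-1) := by simp [sub_eq_add_neg]
    refine ⟨?_, ?_, ?_⟩
    · rw [h1, natDegree_mul (pow_ne_zero _ X_ne_zero) (pow_ne_zero _ (X_add_C_ne_zero _)), natDegree_pow,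
        natDegree_pow, natDegree_X, natDegree_X_add_C]; omega
    · rw [h1, show a + b + 2 = b + 1 + (a + 1) by omega, coeff_X_pow_mul, coeff_X_add_C_pow]; simp
    · rw [h1, show a + b + 1 = b + (a + 1) by omega, coeff_X_pow_mul, coeff_X_add_C_pow]
      rw [show b + 1 - b = 1 by omega, Nat.choose_succ_self_right]; push_cast; ring
  have htop : ∀ G ∈ V, G.natDegree ≤ a + b + 2 ∧ G.coeff (a + b + 1) = -((b : k) + 1) * G.coeff (a + b + 2) := by
    intro G hG
    obtain ⟨A, B, c, rfl, hA, hB⟩ := hdec G hG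
    refine ⟨?_, ?_⟩
    · refine (natDegree_add_le _ _).trans (max_le ((natDegree_add_le _ _).trans (max_le (by omega) (by omega))) ?_)
      exact (natDegree_C_mul_le _ _).trans hP.1.le
    · have z : ∀ R : Polynomial k, R.natDegree ≤ a + b → R.coeff (a + b + 1) = 0 ∧ R.coeff (a + b + 2) = 0 :=
        fun R hR => ⟨coeff_eq_zero_of_natDegree_lt (by omega), coeff_eq_zero_of_natDegree_lt (by omega)⟩
      rw [coeff_add, coeff_add, coeff_add, coeff_add, (z _ hA).1, (z _ hB).1, (z _ hA).2, (z _ hB).2,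
        coeff_C_mul, coeff_C_mul, hP.2.1, hP.2.2]
      ring
  have hcf : ∀ (e f : ℕ), ((X : Polynomial k) ^ e * (X - C q) ^ (f + 1)).coeff (e + (f + 1)) = 1 ∧
      ((X : Polynomial k) ^ e * (X - C q) ^ (f + 1)).coeff (e + f) = -((f : k) + 1) * q := by
    intro e f
    rw [sub_eq_add_neg, ← map_neg C, add_comm e (f + 1), add_comm e f, coeff_X_pow_mul, coeff_X_pow_mul,
      coeff_X_add_C_pow, coeff_X_add_C_pow, show f + 1 - f = 1 by omega, Nat.choose_succ_self_right]
    refine ⟨by simp, by push_cast; ring⟩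
  obtain ⟨j', rfl⟩ : ∃ j', j = j' + 1 + 1 := ⟨j - 2, by omega⟩
  -- the position of `q`
  have hq : ((j' : k) + 1 + 1) * q = (b : k) + 1 := by
    obtain ⟨f, hf, hf0⟩ : ∃ f ∈ V ⊓ (Ideal.span {(X : Polynomial k) ^ i * (X - C q) ^ (j' + 1 + 1)}).restrictScalars k, f ≠ 0 := by
      refine Submodule.exists_mem_ne_zero_of_ne_bot fun h => ?_
      rw [h, finrank_bot] at h1; omega
    obtain ⟨H, rfl⟩ := Ideal.mem_span_singleton.1 (by exact hf.2)
    obtain ⟨hd, ht⟩ := htop _ hf.1
    have hH : H ≠ 0 := right_ne_zero_of_mul hf0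
    have hHC : H = C (H.coeff 0) := by
      refine eq_C_of_natDegree_le_zero ?_
      rw [natDegree_mul (left_ne_zero_of_mul hf0) hH, natDegree_mul (pow_ne_zero _ X_ne_zero)
        (pow_ne_zero _ (X_sub_C_ne_zero q)), natDegree_pow, natDegree_pow, natDegree_X, natDegree_X_sub_C] at hd
      omega
    rw [hHC, coeff_mul_C, coeff_mul_C, show a + b + 1 = i + (j' + 1) by omega, (hcf i (j' + 1)).2,
      show a + b + 2 = i + (j' + 1 + 1) by omega, (hcf i (j' + 1)).1] at ht
    have hne : H.coeff 0 ≠ 0 := fun h => hH (hHC.trans (by rw [h, map_zero]))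
    have hh : (-(((j' + 1 : ℕ) : k) + 1) * q + ((b : k) + 1)) * H.coeff 0 = 0 := by linear_combination ht
    have := (mul_eq_zero.1 hh).resolve_right hne
    push_cast at this
    linear_combination -this
  have hq0 : q ≠ 0 := by
    rintro rfl
    rw [mul_zero] at hq
    exact Nat.cast_add_one_ne_zero b hq.symm
  have hq1 : 1 - q ≠ 0 := by
    intro h
    rw [← sub_eq_zero.1 h, mul_one] at hq
    have : j' + 1 + 1 = b + 1 := by exact_mod_cast hq
    omega
  -- the two-dimensional piece
  set M : Polynomial k := X ^ (i - 1) * (X - C q) ^ (j' + 1) with hM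
  have hM0 : M ≠ 0 := mul_ne_zero (pow_ne_zero _ X_ne_zero) (pow_ne_zero _ (X_sub_C_ne_zero q))
  have hMdeg : M.natDegree = a + b := by
    rw [hM, natDegree_mul (pow_ne_zero _ X_ne_zero) (pow_ne_zero _ (X_sub_C_ne_zero q)), natDegree_pow,
      natDegree_pow, natDegree_X, natDegree_X_sub_C]; omega
  have hle : V ⊓ (Ideal.span {M}).restrictScalars k ≤ Submodule.span k (({M * (X * (X - C q)), M} : Finset (Polynomial k)) : Set (Polynomial k)) := by
    rintro G ⟨hG, hG'⟩
    obtain ⟨H, rfl⟩ := Ideal.mem_span_singleton.1 (by exact hG')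
    obtain ⟨hd, ht⟩ := htop _ hG
    have hHd : H.natDegree ≤ 2 := by
      by_cases hH : H = 0
      · simp [hH]
      rw [natDegree_mul hM0 hH, hMdeg] at hd; omega
    have hH3 : H = C (H.coeff 2) * X ^ 2 + C (H.coeff 1) * X + C (H.coeff 0) :=
      eq_quadratic_of_degree_le_two (degree_le_of_natDegree_le hHd)
    have hM1 : M.coeff (a + b) = 1 := by
      rw [show a + b = i - 1 + (j' + 1) by omega]; exact (hcf (i - 1) j').1
    have hM2 : M.coeff (a + b - 1) = -((j' : k) + 1) * q := by
      rw [show a + b - 1 = i - 1 + j' by omega]; exact (hcf (i - 1) j').2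
    have hz : ∀ n, a + b < n → M.coeff n = 0 := fun n hn => coeff_eq_zero_of_natDegree_lt (by omega)
    rw [hH3] at ht
    have e2 : (M * (C (H.coeff 2) * X ^ 2 + C (H.coeff 1) * X + C (H.coeff 0))).coeff (a + b + 2) = H.coeff 2 := by
      rw [show M * (C (H.coeff 2) * X ^ 2 + C (H.coeff 1) * X + C (H.coeff 0))
        = C (H.coeff 2) * (X ^ 2 * M) + C (H.coeff 1) * (X ^ 1 * M) + C (H.coeff 0) * M by ring,
        coeff_add, coeff_add, coeff_C_mul, coeff_C_mul, coeff_C_mul, coeff_X_pow_mul, hM1, hz (a + b + 2) (by omega),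
        show a + b + 2 = a + b + 1 + 1 by omega, coeff_X_pow_mul, hz (a + b + 1) (by omega)]
      ring
    have e1 : (M * (C (H.coeff 2) * X ^ 2 + C (H.coeff 1) * X + C (H.coeff 0))).coeff (a + b + 1)
        = H.coeff 2 * (-((j' : k) + 1) * q) + H.coeff 1 := by
      rw [show M * (C (H.coeff 2) * X ^ 2 + C (H.coeff 1) * X + C (H.coeff 0))
        = C (H.coeff 2) * (X ^ 2 * M) + C (H.coeff 1) * (X ^ 1 * M) + C (H.coeff 0) * M by ring,
        coeff_add, coeff_add, coeff_C_mul, coeff_C_mul, coeff_C_mul, hz (a + b + 1) (by omega),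
        coeff_X_pow_mul, hM1, show a + b + 1 = a + b - 1 + 2 by omega, coeff_X_pow_mul, hM2]
      ring
    rw [e1, e2] at ht
    have hβ : H.coeff 1 = -q * H.coeff 2 := by linear_combination ht + H.coeff 2 * hq
    rw [Finset.coe_pair]
    refine Submodule.mem_span_pair.2 ⟨H.coeff 2, H.coeff 0, ?_⟩
    conv_rhs => rw [hH3, hβ]
    simp only [smul_eq_C_mul, map_mul, map_neg]
    ring
  have heq := Submodule.eq_of_le_of_finrank_le hle
    (((finrank_span_finset_le_card _).trans Finset.card_le_two).trans h2)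
  have hMV : M ∈ V := (heq.ge (Submodule.subset_span (by simp))).1
  -- the residue functional
  obtain ⟨A, B, c, hMeq, hA, hB⟩ := hdec M hMV
  have hc : c = 0 := by
    have := congrArg (coeff · (a + b + 2)) hMeq
    simp only [coeff_add, coeff_C_mul, hP.2.1, mul_one, coeff_eq_zero_of_natDegree_lt (by omega : M.natDegree < a + b + 2),
      coeff_eq_zero_of_natDegree_lt (by omega : (X ^ (a + 1) * A).natDegree < a + b + 2),
      coeff_eq_zero_of_natDegree_lt (by omega : ((X - 1) ^ (b + 1) * B).natDegree < a + b + 2), zero_add] at this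
    exact this.symm
  rw [hc, map_zero, zero_mul, add_zero] at hMeq
  let S : PowerSeries k := PowerSeries.mk fun n => ((b + n).choose b : k)
  have hzero : PowerSeries.coeff a ((M : PowerSeries k) * S) = 0 := by
    rw [hMeq, coe_add, add_mul, map_add, coe_mul, coe_mul, coe_pow, coe_pow, coe_X, coe_sub, coe_X, coe_one,
      mul_assoc, PowerSeries.coeff_X_pow_mul', if_neg (by omega), zero_add,
      show (PowerSeries.X - 1 : PowerSeries k) = (-1) * (1 - PowerSeries.X) by ring, mul_pow,
      show (-1 : PowerSeries k) ^ (b + 1) * (1 - PowerSeries.X) ^ (b + 1) * (B : PowerSeries k) * S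
        = PowerSeries.C ((-1 : k) ^ (b + 1)) * ((B : PowerSeries k) * (S * (1 - PowerSeries.X) ^ (b + 1))) by
          rw [map_pow, map_neg, map_one]; ring,
      PowerSeries.mk_add_choose_mul_one_sub_pow_eq_one, mul_one, PowerSeries.coeff_C_mul, coeff_coe]
    have hB0 : B.coeff a = 0 := by
      by_cases h : B = 0
      · simp [h]
      rw [show (X : Polynomial k) - 1 = X - C 1 by simp, natDegree_mul (pow_ne_zero _ (X_sub_C_ne_zero 1)) h,
        natDegree_pow, natDegree_X_sub_C] at hB
      exact coeff_eq_zero_of_natDegree_lt (by omega)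
    rw [hB0, mul_zero]
  obtain ⟨a', ha'⟩ : ∃ a', a = a' + (i - 1) := ⟨a - (i - 1), by omega⟩
  have hJ : j' + 1 = a' + b := by omega
  rw [hM, coe_mul, coe_pow, coe_X, mul_assoc, PowerSeries.coeff_X_pow_mul', if_pos (by omega),
    show a - (i - 1) = a' by omega, PowerSeries.coeff_mul, Finset.Nat.sum_antidiagonal_eq_sum_range_succ_mk] at hzero
  have hsum : ∀ s ∈ Finset.range (a' + 1),
      PowerSeries.coeff s (((X - C q) ^ (j' + 1) : Polynomial k) : PowerSeries k) * PowerSeries.coeff (a' - s) S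
        = ((j' + 1).choose b : k) * (-q) ^ b * ((1 : k) ^ s * (-q) ^ (a' - s) * (a'.choose s : k)) := by
    intro s hs
    rw [Finset.mem_range] at hs
    rw [coeff_coe, sub_eq_add_neg, ← map_neg C, coeff_X_add_C_pow, PowerSeries.coeff_mk,
      show j' + 1 - s = b + (a' - s) by omega, pow_add, one_pow]
    have hn : (j' + 1).choose s * (b + (a' - s)).choose b = (j' + 1).choose b * a'.choose s := by
      have e1 := Nat.choose_mul (n := j' + 1) (k := s + b) (s := s) (by omega)
      have e2 := Nat.choose_mul (n := j' + 1) (k := s + b) (s := b) (by omega)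
      rw [show j' + 1 - s = b + (a' - s) by omega, Nat.add_sub_cancel_left] at e1
      rw [show j' + 1 - b = a' by omega, Nat.add_sub_cancel] at e2
      rw [← e1, ← e2, Nat.choose_symm_add]
    have hn' := congrArg (Nat.cast (R := k)) hn
    push_cast at hn'
    linear_combination ((-q) ^ b * (-q) ^ (a' - s)) * hn'
  rw [Finset.sum_congr rfl hsum, ← Finset.mul_sum, ← add_pow, ← sub_eq_add_neg] at hzero
  simp only [mul_eq_zero, Nat.cast_eq_zero, Nat.choose_eq_zero_iff, pow_eq_zero_iff', neg_eq_zero, hq0, hq1,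
    false_and, or_false] at hzero
  omega

end Groth.Agent.S16261
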