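import Groth.Statements.S16262
import Mathlib
-- import your own Groth.Agent.* helpers here

set_option autoImplicit false
open W4c3wronskmg

namespace Groth.Agent.S16262

open Polynomial in
/-- Let `k` be a field of characteristic zero and `a, b, i` positive integers with `i < a + b`. On the
projective line with `A = 0`, `B = ∞`, `P = -1`, the system `V_{a,b} = H⁰(ω((1+a)A)) ⊕ H⁰(ω((1+b)B))
⊆ H⁰(O(a+b))` is the space of polynomials of degree at most `a+b` with vanishing coefficient of
`X^a`, and `V = V_{a,b}(-iP)` (divided by `(X+1)^i`) is the space of `G` of degree at most `a+b-i`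
such that the coefficient of `X^a` in `(X+1)^i G` vanishes; it is a linear system of dimension and
degree `a+b-i`. Then no point of the projective line other than `A` and `B` is a special
ramification point of `V` (a point of weight at least two); for such a system a point `q` of the
affine line is special exactly when two independent members are divisible by `(X-q)^(a+b-i-1)`, so
the statement is that this fails for every `q ≠ 0`. (The published statement does not except `A` and
`B`, but `A` has weight `max(b-i, 0)` in `V`, which is `2` for `a = 1, b = 3, i = 1`: there `X^3`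
and `X^2` both lie in `V`. It is stated over the complex numbers.) -/
theorem result
    (k : Type*) [Field k] [CharZero k] (a b i : ℕ) (ha : 0 < a) (hb : 0 < b) (hi : 0 < i) (hiab : i < a + b)
    (V : Submodule k (Polynomial k))
    (hV : V = Polynomial.degreeLE k ↑(a + b - i) ⊓
      LinearMap.ker ((Polynomial.lcoeff k a).comp (LinearMap.mulLeft k (((X : Polynomial k) + 1) ^ i))))
    (q : k) (hq : q ≠ 0) :
    Module.finrank k ↥(V ⊓ (Ideal.span {(X - C q) ^ (a + b - i - 1)}).restrictScalars k) ≤ 1 := by
  obtain ⟨m, hm⟩ : ∃ m, a + b - i - 1 = m := ⟨_, rfl⟩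
  rw [hm]
  set P : Polynomial k := (X + 1) ^ i * (X - C q) ^ m with hP
  have hPmon : P.Monic := by
    simpa [hP] using ((monic_X_add_C (1 : k)).pow i).mul ((monic_X_sub_C q).pow m)
  have hPdeg : P.natDegree = i + m := by
    rw [hP, Monic.natDegree_mul ((by simpa using (monic_X_add_C (1 : k)).pow i)) ((monic_X_sub_C q).pow m),
      natDegree_pow, natDegree_pow, natDegree_X_sub_C, show (X : Polynomial k) + 1 = X + C 1 by rw [map_one],
      natDegree_X_add_C, mul_one, mul_one]
  -- the differential equation of `P`
  have hode : (X + 1) * (X - C q) * derivative P = (C (i : k) * (X - C q) + C (m : k) * (X + 1)) * P := by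
    have h : ∀ (L : Polynomial k) (e : ℕ), derivative L = 1 → L * derivative (L ^ e) = C (e : k) * L ^ e := by
      intro L e hL
      rcases e with _ | e
      · simp
      · rw [derivative_pow, hL]; simp [pow_succ]; ring
    have h1 := h (X + 1) i (by simp)
    have h2 := h (X - C q) m (by simp)
    calc (X + 1) * (X - C q) * derivative P
        = ((X + 1) * derivative ((X + 1) ^ i)) * ((X - C q) * (X - C q) ^ m)
          + ((X + 1) * (X + 1) ^ i) * ((X - C q) * derivative ((X - C q) ^ m)) := by
          rw [hP, derivative_mul]; ring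
      _ = _ := by rw [h1, h2, hP]; ring
  have hrec : ∀ n, P.coeff n = 0 → P.coeff (n + 1) = 0 → P.coeff (n + 2) = 0 := by
    intro n h0 h1
    have h2 : (X * (X * derivative P) + C (1 - q) * (X * derivative P) - C q * derivative P).coeff (n + 1)
        = (C ((i : k) + m) * (X * P) + C ((m : k) - i * q) * P).coeff (n + 1) := by
      congr 1
      simp only [map_add, map_sub, map_mul, map_one]
      linear_combination hode
    simp only [coeff_add, coeff_sub, coeff_C_mul, coeff_X_mul, coeff_derivative] at h2
    rcases n with _ | n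
    · simp only [coeff_X_mul_zero, coeff_X_mul, coeff_derivative, h0, h1, Nat.cast_zero, zero_add, mul_zero,
        zero_mul, zero_sub, neg_eq_zero, mul_eq_zero] at h2
      rcases h2 with h | h | h
      · exact absurd h hq
      · exact h
      · refine absurd h ?_
        exact Nat.cast_add_one_ne_zero _
    · simp only [coeff_X_mul, coeff_derivative, h0, h1, mul_zero, zero_mul, zero_add, zero_sub,
        neg_eq_zero, mul_eq_zero] at h2
      rcases h2 with h | h | h
      · exact absurd h hq
      · exact h
      · refine absurd h ?_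
        exact Nat.cast_add_one_ne_zero _
  have hnot : ¬ (P.coeff (a - 1) = 0 ∧ P.coeff a = 0) := by
    rintro ⟨h0, h1⟩
    have hall : ∀ d, P.coeff (a - 1 + d) = 0 ∧ P.coeff (a - 1 + d + 1) = 0 := by
      intro d
      induction d with
      | zero => exact ⟨h0, by rwa [show a - 1 + 0 + 1 = a by omega]⟩
      | succ d ih => exact ⟨ih.2, hrec _ ih.1 ih.2⟩
    have := (hall (i + m - (a - 1))).1
    rw [show a - 1 + (i + m - (a - 1)) = P.natDegree by omega] at this
    exact one_ne_zero (hPmon.coeff_natDegree.symm.trans this)
  have key : ∀ v : Polynomial k,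
      (∀ G ∈ V ⊓ (Ideal.span {(X - C q) ^ m}).restrictScalars k, G ∈ Submodule.span k {v}) →
      Module.finrank k ↥(V ⊓ (Ideal.span {(X - C q) ^ m}).restrictScalars k) ≤ 1 := fun v h =>
    (Submodule.finrank_mono h).trans ((finrank_span_le_card _).trans (by simp))
  have hmem : ∀ G ∈ V ⊓ (Ideal.span {(X - C q) ^ m}).restrictScalars k, ∃ α β : k,
      G = (X - C q) ^ m * (C α * X + C β) ∧ α * P.coeff (a - 1) + β * P.coeff a = 0 := by
    rintro G ⟨hG, hG'⟩
    rw [hV] at hG
    obtain ⟨hd, hc⟩ := hG
    obtain ⟨H, rfl⟩ := Ideal.mem_span_singleton.1 (by exact hG')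
    have hd' := natDegree_le_of_degree_le (mem_degreeLE.1 hd)
    obtain ⟨α, β, rfl⟩ : ∃ α β, H = C α * X + C β := by
      refine ⟨H.coeff 1, H.coeff 0, eq_X_add_C_of_natDegree_le_one ?_⟩
      by_cases hH : H = 0
      · simp [hH]
      rw [natDegree_mul (pow_ne_zero _ (X_sub_C_ne_zero q)) hH, natDegree_pow, natDegree_X_sub_C] at hd'
      omega
    refine ⟨α, β, rfl, ?_⟩
    have hc' : ((X + 1) ^ i * ((X - C q) ^ m * (C α * X + C β))).coeff a = 0 := hc
    rw [show (X + 1) ^ i * ((X - C q) ^ m * (C α * X + C β)) = C α * (X * P) + C β * P by rw [hP]; ring,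
      coeff_add, coeff_C_mul, coeff_C_mul, show a = a - 1 + 1 by omega, coeff_X_mul,
      show a - 1 + 1 = a by omega] at hc'
    exact hc'
  by_cases hu : P.coeff a = 0
  · refine key ((X - C q) ^ m) fun G hG => ?_
    obtain ⟨α, β, rfl, h⟩ := hmem G hG
    have hα : α = 0 := by
      rw [hu, mul_zero, add_zero, mul_eq_zero] at h
      exact h.resolve_right fun h' => hnot ⟨h', hu⟩
    exact Submodule.mem_span_singleton.2 ⟨β, by rw [hα, smul_eq_C_mul, map_zero]; ring⟩
  · refine key ((X - C q) ^ m * (X + C (-(P.coeff (a - 1)) / P.coeff a))) fun G hG => ?_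
    obtain ⟨α, β, rfl, h⟩ := hmem G hG
    have hβ : α * (-(P.coeff (a - 1)) / P.coeff a) = β := by
      rw [mul_div_assoc', div_eq_iff hu]; linear_combination -h
    exact Submodule.mem_span_singleton.2 ⟨α, by rw [smul_eq_C_mul, ← hβ, map_mul]; ring⟩

end Groth.Agent.S16262
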