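import Groth.Statements.S16263
import Mathlib
-- import your own Groth.Agent.* helpers here

set_option autoImplicit false
open W4c3wronskmg

namespace Groth.Agent.S16263

open Polynomial in
/-- Let `k` be a field of characteristic zero and `a` a positive integer. On the projective line with `A
= 0`, `B = -1`, `C = ∞`, the `(a+1)`-dimensional system `V = H⁰(ω((1+a)C)) ⊕ H⁰(ω(A+B)) ⊆
H⁰(ω((1+a)C + A + B)) ≅ H⁰(O(a+1))` is, in the affine coordinate, the space of polynomials `c + X
(X+1) F` with `c` a constant and `deg F ≤ a - 1`. Then `V` has no special ramification point (no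
point of weight at least two): since the members have degree at most `a + 1`, this says that for
every point `p` of the affine line at most a one-dimensional subspace of `V` is divisible by
`(X-p)^a`, and at `C` that at most a one-dimensional subspace has degree at most one (degree less
than two). (The published statement carries two further positive integers `i, j` with `i + j = a -
1`, used only in its second assertion, and is over the complex numbers.) -/
theorem result
    (k : Type*) [Field k] [CharZero k] (a : ℕ) (ha : 0 < a)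
    (V : Submodule k (Polynomial k))
    (hV : V = Submodule.span k {(1 : Polynomial k)} ⊔
      ((Ideal.span {(X : Polynomial k) * (X + 1)}).restrictScalars k ⊓ Polynomial.degreeLE k ↑(a + 1))) :
    (∀ p : k, Module.finrank k ↥(V ⊓ (Ideal.span {(X - C p) ^ a}).restrictScalars k) ≤ 1) ∧
      Module.finrank k ↥(V ⊓ Polynomial.degreeLT k 2) ≤ 1 := by
  have hmem : ∀ G ∈ V, G.natDegree ≤ a + 1 ∧ G.eval 0 = G.eval (-1) := by
    intro G hG
    rw [hV, Submodule.mem_sup] at hG
    obtain ⟨x, hx, y, ⟨hy1, hy2⟩, rfl⟩ := hG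
    obtain ⟨c, rfl⟩ := Submodule.mem_span_singleton.1 hx
    obtain ⟨F, rfl⟩ := Ideal.mem_span_singleton.1 (by exact hy1)
    refine ⟨?_, by simp⟩
    refine (natDegree_add_le _ _).trans (max_le ?_ ?_)
    · simp [smul_eq_C_mul]
    · exact natDegree_le_of_degree_le (mem_degreeLE.1 hy2)
  have key : ∀ (W : Submodule k (Polynomial k)) (v : Polynomial k),
      (∀ G ∈ W, G ∈ Submodule.span k {v}) → Module.finrank k W ≤ 1 := fun W v h =>
    (Submodule.finrank_mono h).trans ((finrank_span_le_card _).trans (by simp))
  refine ⟨fun p => ?_, ?_⟩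
  · by_cases hw : (-1 - p) ^ a = 0
    · refine key _ ((X - C p) ^ a * X) ?_
      rintro G ⟨hG, hG'⟩
      obtain ⟨h1, h2⟩ := hmem G hG
      obtain ⟨H, rfl⟩ := Ideal.mem_span_singleton.1 hG'
      obtain ⟨α, β, rfl⟩ : ∃ α β, H = C α * X + C β := by
        refine ⟨H.coeff 1, H.coeff 0, eq_X_add_C_of_natDegree_le_one ?_⟩
        by_cases hH : H = 0
        · simp [hH]
        rw [natDegree_mul (pow_ne_zero _ (X_sub_C_ne_zero p)) hH, natDegree_pow, natDegree_X_sub_C] at h1
        omega
      have hu : (-p) ^ a ≠ 0 := by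
        intro hu
        have h0 := pow_eq_zero_iff ha.ne' |>.1 hu
        have h1' := pow_eq_zero_iff ha.ne' |>.1 hw
        rw [neg_eq_zero] at h0
        simp [h0] at h1'
      simp only [eval_mul, eval_pow, eval_sub, eval_X, eval_C, eval_add, zero_sub, mul_zero, zero_add, hw, zero_mul] at h2
      have hβ : β = 0 := (mul_eq_zero.1 h2).resolve_left hu
      exact Submodule.mem_span_singleton.2 ⟨α, by rw [hβ, smul_eq_C_mul, map_zero]; ring⟩
    · refine key _ ((X - C p) ^ a * (C ((-1 - p) ^ a - (-p) ^ a) * X + C ((-1 - p) ^ a))) ?_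
      rintro G ⟨hG, hG'⟩
      obtain ⟨h1, h2⟩ := hmem G hG
      obtain ⟨H, rfl⟩ := Ideal.mem_span_singleton.1 hG'
      obtain ⟨α, β, rfl⟩ : ∃ α β, H = C α * X + C β := by
        refine ⟨H.coeff 1, H.coeff 0, eq_X_add_C_of_natDegree_le_one ?_⟩
        by_cases hH : H = 0
        · simp [hH]
        rw [natDegree_mul (pow_ne_zero _ (X_sub_C_ne_zero p)) hH, natDegree_pow, natDegree_X_sub_C] at h1
        omega
      simp only [eval_mul, eval_pow, eval_sub, eval_X, eval_C, eval_add, zero_sub, mul_zero, zero_add] at h2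
      refine Submodule.mem_span_singleton.2 ⟨β / (-1 - p) ^ a, ?_⟩
      rw [smul_eq_C_mul]
      have hα : β / (-1 - p) ^ a * ((-1 - p) ^ a - (-p) ^ a) = α := by
        rw [div_mul_eq_mul_div, div_eq_iff hw]; linear_combination -h2
      have hβ : β / (-1 - p) ^ a * (-1 - p) ^ a = β := div_mul_cancel₀ β hw
      calc C (β / (-1 - p) ^ a) * ((X - C p) ^ a * (C ((-1 - p) ^ a - (-p) ^ a) * X + C ((-1 - p) ^ a)))
          = (X - C p) ^ a * (C (β / (-1 - p) ^ a * ((-1 - p) ^ a - (-p) ^ a)) * X
              + C (β / (-1 - p) ^ a * (-1 - p) ^ a)) := by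
            simp only [map_mul]; ring
        _ = _ := by rw [hα, hβ]
  · refine key _ 1 ?_
    rintro G ⟨hG, hG'⟩
    obtain ⟨-, h2⟩ := hmem G hG
    have hd : G.natDegree ≤ 1 := by
      by_cases h0 : G = 0
      · simp [h0]
      have := mem_degreeLT.1 hG'
      rw [degree_eq_natDegree h0] at this
      have : G.natDegree < 2 := WithBot.coe_lt_coe.1 this
      omega
    rw [eq_X_add_C_of_natDegree_le_one hd] at h2 ⊢
    simp only [eval_add, eval_mul, eval_C, eval_X, mul_zero, zero_add] at h2
    have : G.coeff 1 = 0 := by linear_combination h2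
    exact Submodule.mem_span_singleton.2 ⟨G.coeff 0, by rw [this, smul_eq_C_mul, map_zero]; ring⟩

end Groth.Agent.S16263
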