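import Groth.Statements.S16264
import Mathlib
-- import your own Groth.Agent.* helpers here

set_option autoImplicit false
open W4c3wronskmg

namespace Groth.Agent.S16264

open Polynomial in
/-- Let `k` be a field of characteristic zero and `a, i, j` positive integers with `i + j = a - 1`. With
`A = 0`, `B = -1`, `C = ∞` on the projective line and `V` the `(a+1)`-dimensional system of
polynomials `c + X (X+1) F`, `deg F ≤ a - 1` (that is, `H⁰(ω((1+a)C)) ⊕ H⁰(ω(A+B)) ⊆ H⁰(O(a+1))`),
the pairs of points `(P, Q) = (p, q)` of the affine line with `dim V(-iP-jQ) ≥ 3`, i.e. with at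
least a three-dimensional subspace of `V` divisible by `(X-p)^i (X-q)^j`, are exactly `(A, B)` and
`(B, A)`. (Here `P, Q` range over the points other than `C`; when one of them is `C` the dimension
is at most two for degree reasons. The published statement is over the complex numbers.) -/
theorem result
    (k : Type*) [Field k] [CharZero k] (a i j : ℕ) (hi : 0 < i) (hj : 0 < j) (hij : i + j + 1 = a)
    (V : Submodule k (Polynomial k))
    (hV : V = Submodule.span k {(1 : Polynomial k)} ⊔
      ((Ideal.span {(X : Polynomial k) * (X + 1)}).restrictScalars k ⊓ Polynomial.degreeLE k ↑(a + 1)))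
    (p q : k) :
    3 ≤ Module.finrank k ↥(V ⊓ (Ideal.span {(X - C p) ^ i * (X - C q) ^ j}).restrictScalars k) ↔
      (p = 0 ∧ q = -1) ∨ (p = -1 ∧ q = 0) := by
  classical
  have hmem : ∀ G ∈ V, G.natDegree ≤ a + 1 ∧ G.eval 0 = G.eval (-1) := by
    intro G hG
    rw [hV, Submodule.mem_sup] at hG
    obtain ⟨x, hx, y, ⟨hy1, hy2⟩, rfl⟩ := hG
    obtain ⟨c, rfl⟩ := Submodule.mem_span_singleton.1 hx
    obtain ⟨F, rfl⟩ := Ideal.mem_span_singleton.1 (by exact hy1)
    refine ⟨?_, by simp⟩
    refine (natDegree_add_le _ _).trans (max_le ?_ ?_)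
    · simp [smul_eq_C_mul]
    · exact natDegree_le_of_degree_le (mem_degreeLE.1 hy2)
  set D : Polynomial k := (X - C p) ^ i * (X - C q) ^ j with hD
  have hD0 : D ≠ 0 := mul_ne_zero (pow_ne_zero _ (X_sub_C_ne_zero p)) (pow_ne_zero _ (X_sub_C_ne_zero q))
  have hDdeg : D.natDegree = i + j := by
    rw [hD, natDegree_mul (pow_ne_zero _ (X_sub_C_ne_zero p)) (pow_ne_zero _ (X_sub_C_ne_zero q)),
      natDegree_pow, natDegree_pow, natDegree_X_sub_C, natDegree_X_sub_C, mul_one, mul_one]
  let S : Submodule k (Polynomial k) := (Polynomial.degreeLT k 3).map (LinearMap.mulLeft k D)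
  have hSrank : Module.finrank k S = 3 := by
    rw [← (Submodule.equivMapOfInjective (LinearMap.mulLeft k D) (mul_right_injective₀ hD0) _).finrank_eq,
      (degreeLTEquiv k 3).finrank_eq, Module.finrank_fin_fun]
  haveI : Module.Finite k S := Module.finite_of_finrank_pos (by omega)
  have hle : V ⊓ (Ideal.span {D}).restrictScalars k ≤ S := by
    rintro G ⟨hG, hG'⟩
    obtain ⟨h1, -⟩ := hmem G hG
    obtain ⟨H, rfl⟩ := Ideal.mem_span_singleton.1 (by exact hG')
    refine ⟨H, ?_, rfl⟩
    by_cases hH : H = 0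
    · simp [hH]
    rw [natDegree_mul hD0 hH, hDdeg] at h1
    refine mem_degreeLT.2 ((degree_le_natDegree).trans_lt ?_)
    exact_mod_cast (show H.natDegree < 3 by omega)
  constructor
  · intro h
    have heq : V ⊓ (Ideal.span {D}).restrictScalars k = S :=
      Submodule.eq_of_le_of_finrank_le hle (hSrank.le.trans h)
    have hin : ∀ H : Polynomial k, H.degree < 3 → (D * H).eval 0 = (D * H).eval (-1) := fun H hH =>
      (hmem _ (heq.ge ⟨H, mem_degreeLT.2 hH, rfl⟩).1).2
    have h1 := hin 1 (by rw [degree_one]; norm_num)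
    have h2 := hin X (by rw [degree_X]; norm_num)
    simp only [eval_mul, eval_one, eval_X, mul_one, mul_zero, mul_neg] at h1 h2
    have hm : D.eval (-1) = 0 := neg_eq_zero.1 h2.symm
    rw [hm] at h1
    simp only [hD, eval_mul, eval_pow, eval_sub, eval_X, eval_C, mul_eq_zero, pow_eq_zero_iff hi.ne',
      pow_eq_zero_iff hj.ne', zero_sub, neg_eq_zero, sub_eq_zero] at hm h1
    rcases h1 with h1 | h1 <;> rcases hm with hm | hm
    · exact absurd (hm.trans h1) (by simp)
    · exact Or.inl ⟨h1, hm.symm⟩
    · exact Or.inr ⟨hm.symm, h1⟩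
    · exact absurd (hm.trans h1) (by simp)
  · intro h
    have hdiv : (X : Polynomial k) * (X + 1) ∣ D := by
      rcases h with ⟨rfl, rfl⟩ | ⟨rfl, rfl⟩
      · rw [hD]; simp only [map_zero, sub_zero, map_neg, map_one, sub_neg_eq_add]
        exact mul_dvd_mul (dvd_pow_self _ hi.ne') (dvd_pow_self _ hj.ne')
      · rw [hD, mul_comm (X : Polynomial k)]; simp only [map_zero, sub_zero, map_neg, map_one, sub_neg_eq_add]
        exact mul_dvd_mul (dvd_pow_self _ hi.ne') (dvd_pow_self _ hj.ne')
    refine hSrank.ge.trans (le_of_eq ?_)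
    rw [le_antisymm hle]
    rintro _ ⟨H, hH, rfl⟩
    refine ⟨?_, Ideal.mem_span_singleton.2 (dvd_mul_right D H)⟩
    rw [hV]
    refine Submodule.mem_sup_right ⟨Ideal.mem_span_singleton.2 (hdiv.mul_right H), mem_degreeLE.2 ?_⟩
    refine degree_le_of_natDegree_le (natDegree_mul_le.trans ?_)
    have : H.natDegree ≤ 2 := by
      by_cases h0 : H = 0
      · simp [h0]
      have := mem_degreeLT.1 hH
      rw [degree_eq_natDegree h0] at this
      have : H.natDegree < 3 := WithBot.coe_lt_coe.1 this
      omega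
    omega

end Groth.Agent.S16264
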