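import Groth.Statements.S16265
import Groth.Agent.FF.LinEquiv

set_option autoImplicit false
open FunFld

namespace Groth.Agent.S16265

/-- Let `K/k` be a function field of one variable over an algebraically closed field `k` of
characteristic zero (the function field of a smooth projective curve), `D` a divisor and `V ⊆ L(D)`
a linear system of dimension `r + 1`; write `V(-mP-nQ) = V ∩ L(D - mP - nQ)` for the members
vanishing to the indicated orders. Assume `V` has no special ramification point, i.e. no place of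
weight at least two: for every place `R`, `dim V(-rR) ≤ 1` and `V(-(r+2)R) = 0`. Let `P ≠ Q` be
places and `a, b ≥ 1` with `a + b = r + 1` (so that `V(-aP)` and `V(-bQ)` have dimensions `b` and
`a`). Then the following are equivalent: (1) the system `V(-aP)` has weight at least two at `Q`,
that is `dim V(-aP-(b-1)Q) ≥ 2` or `dim V(-aP-(b+1)Q) ≥ 1`, and the system `V(-bQ)` has weight at
least two at `P`, that is `dim V(-(a-1)P-bQ) ≥ 2` or `dim V(-(a+1)P-bQ) ≥ 1`; (2) one of (a) `dim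
V(-(a+1)P-(b+1)Q) ≥ 1`, (b) `dim V(-(a-1)P-(b-1)Q) ≥ 3`, (c) `dim V(-aP-(b+1)Q) ≥ 1` and `dim
V(-(a-1)P-bQ) ≥ 2`, (d) `dim V(-(a+1)P-bQ) ≥ 1` and `dim V(-aP-(b-1)Q) ≥ 2`. (The published
statement is for a smooth curve over the complex numbers.) -/
theorem result
    (k K : Type*) [Field k] [IsAlgClosed k] [CharZero k] [Field K] [Algebra k K]
    (hK : FunFld.IsFunctionField k K) (D : FunFld.Divisor k K)
    (V : Submodule k K) (hVD : V ≤ FunFld.L D) (r : ℕ) (hr : Module.finrank k ↥V = r + 1)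
    (hns : ∀ R : FunFld.Place k K,
      Module.finrank k ↥(V ⊓ FunFld.L (D - Finsupp.single R (r : ℤ))) ≤ 1 ∧
        V ⊓ FunFld.L (D - Finsupp.single R ((r : ℤ) + 2)) = ⊥)
    (P Q : FunFld.Place k K) (hPQ : P ≠ Q) (a b : ℕ) (ha : 1 ≤ a) (hb : 1 ≤ b) (hab : a + b = r + 1) :
    ((2 ≤ Module.finrank k ↥(V ⊓ FunFld.L (D - Finsupp.single P (a : ℤ) - Finsupp.single Q ((b : ℤ) - 1 : ℤ))) ∨
        1 ≤ Module.finrank k ↥(V ⊓ FunFld.L (D - Finsupp.single P (a : ℤ) - Finsupp.single Q ((b : ℤ) + 1 : ℤ)))) ∧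
      (2 ≤ Module.finrank k ↥(V ⊓ FunFld.L (D - Finsupp.single P ((a : ℤ) - 1 : ℤ) - Finsupp.single Q (b : ℤ))) ∨
        1 ≤ Module.finrank k ↥(V ⊓ FunFld.L (D - Finsupp.single P ((a : ℤ) + 1 : ℤ) - Finsupp.single Q (b : ℤ))))) ↔
    (1 ≤ Module.finrank k ↥(V ⊓ FunFld.L (D - Finsupp.single P ((a : ℤ) + 1 : ℤ) - Finsupp.single Q ((b : ℤ) + 1 : ℤ))) ∨
      3 ≤ Module.finrank k ↥(V ⊓ FunFld.L (D - Finsupp.single P ((a : ℤ) - 1 : ℤ) - Finsupp.single Q ((b : ℤ) - 1 : ℤ))) ∨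
      (1 ≤ Module.finrank k ↥(V ⊓ FunFld.L (D - Finsupp.single P (a : ℤ) - Finsupp.single Q ((b : ℤ) + 1 : ℤ))) ∧
        2 ≤ Module.finrank k ↥(V ⊓ FunFld.L (D - Finsupp.single P ((a : ℤ) - 1 : ℤ) - Finsupp.single Q (b : ℤ)))) ∨
      (1 ≤ Module.finrank k ↥(V ⊓ FunFld.L (D - Finsupp.single P ((a : ℤ) + 1 : ℤ) - Finsupp.single Q (b : ℤ))) ∧
        2 ≤ Module.finrank k ↥(V ⊓ FunFld.L (D - Finsupp.single P (a : ℤ) - Finsupp.single Q ((b : ℤ) - 1 : ℤ))))) := by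
  classical
  have : FiniteDimensional k V := Module.finite_of_finrank_pos (by rw [hr]; omega)
  let X : ℤ → ℤ → FunFld.Divisor k K := fun i j => D - Finsupp.single P i - Finsupp.single Q j
  let d : ℤ → ℤ → ℕ := fun i j => Module.finrank k ↥(V ⊓ FunFld.L (X i j))
  have hle : ∀ i j i' j', i' ≤ i → j' ≤ j → X i j ≤ X i' j' := fun i j i' j' h h' R => by
    simp only [X, Finsupp.sub_apply, Finsupp.single_apply]
    split_ifs <;> omega
  have hmono : ∀ i j i' j', i' ≤ i → j' ≤ j → d i j ≤ d i' j' := fun i j i' j' h h' => by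
    have : FiniteDimensional k ↥(V ⊓ FunFld.L (X i' j')) := Submodule.finiteDimensional_of_le inf_le_left
    exact Submodule.finrank_mono (Groth.Agent.FF.inf_L_le V (hle i j i' j' h h'))
  have hstepP : ∀ i j, d i j ≤ d (i + 1) j + 1 := fun i j => by
    have := Groth.Agent.FF.finrank_inf_L_le_succ hK V (X i j) P
    rwa [show X i j - Finsupp.single P 1 = X (i + 1) j by simp only [X, Finsupp.single_add]; abel] at this
  have hstepQ : ∀ i j, d i j ≤ d i (j + 1) + 1 := fun i j => by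
    have := Groth.Agent.FF.finrank_inf_L_le_succ hK V (X i j) Q
    rwa [show X i j - Finsupp.single Q 1 = X i (j + 1) by simp only [X, Finsupp.single_add]; abel] at this
  have hie : ∀ i j, d i (j - 1) + d (i - 1) j ≤ d (i - 1) (j - 1) + d i j := fun i j =>
    Groth.Agent.FF.finrank_inf_L_inf V (hle _ _ _ _ (by omega) le_rfl) (hle _ _ _ _ le_rfl (by omega)) fun R => by
      simp only [X, Finsupp.sub_apply, Finsupp.single_apply]
      split_ifs with h1 h2
      · exact absurd (h1.trans h2.symm) hPQ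
      all_goals omega
  have hie' : ∀ i j, d i (j + 1) + d (i + 1) j ≤ d i j + d (i + 1) (j + 1) := fun i j => by
    have := hie (i + 1) (j + 1)
    simp only [add_sub_cancel_right] at this
    omega
  change ((2 ≤ d a ((b : ℤ) - 1) ∨ 1 ≤ d a ((b : ℤ) + 1)) ∧ (2 ≤ d ((a : ℤ) - 1) b ∨ 1 ≤ d ((a : ℤ) + 1) b)) ↔
    (1 ≤ d ((a : ℤ) + 1) ((b : ℤ) + 1) ∨ 3 ≤ d ((a : ℤ) - 1) ((b : ℤ) - 1) ∨
      (1 ≤ d a ((b : ℤ) + 1) ∧ 2 ≤ d ((a : ℤ) - 1) b) ∨ (1 ≤ d ((a : ℤ) + 1) b ∧ 2 ≤ d a ((b : ℤ) - 1)))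
  have A1 := hie a b
  have A2 := hie' a b
  have A3 := hstepP a b
  have A4 := hstepQ a b
  have A5 := hmono ((a : ℤ) + 1) ((b : ℤ) + 1) a ((b : ℤ) + 1) (by omega) le_rfl
  have A6 := hmono ((a : ℤ) + 1) ((b : ℤ) + 1) ((a : ℤ) + 1) b le_rfl (by omega)
  have A7 := hmono a b a ((b : ℤ) - 1) le_rfl (by omega)
  have A8 := hmono a b ((a : ℤ) - 1) b (by omega) le_rfl
  have A9 := hstepP ((a : ℤ) - 1) ((b : ℤ) - 1)
  have A10 := hstepQ ((a : ℤ) - 1) ((b : ℤ) - 1)
  simp only [sub_add_cancel] at A9 A10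
  omega

end Groth.Agent.S16265
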