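import Groth.Statements.S16266
import Groth.Agent.FF.LinEquiv

set_option autoImplicit false
open FunFld

namespace Groth.Agent.S16266

/-- Let `K/k` be a function field of one variable over an algebraically closed field `k` of
characteristic zero, `D` a divisor, `V ⊆ L(D)` a linear system of dimension `r + 1` with `r ≥ 1`,
and `P` a place with `V' = V(-P) = V ∩ L(D - P) ≠ V`, an `r`-dimensional system in `L(D - P)`.
Assume that neither `V` nor `V'` has a special ramification point (a place of weight at least two):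
for every place `R`, `dim V ∩ L(D - rR) ≤ 1`, `V ∩ L(D - (r+2)R) = 0`, `dim V' ∩ L(D - P - (r-1)R) ≤
1` and `V' ∩ L(D - P - (r+1)R) = 0`. Then no place `Q ≠ P` is a ramification point of both `V` and
`V'`: for no such `Q` are both `V ∩ L(D - (r+1)Q)` and `V' ∩ L(D - P - rQ)` nonzero. (The published
statement is for a smooth curve over the complex numbers.) -/
theorem result
    (k K : Type*) [Field k] [IsAlgClosed k] [CharZero k] [Field K] [Algebra k K]
    (hK : FunFld.IsFunctionField k K) (D : FunFld.Divisor k K)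
    (V : Submodule k K) (hVD : V ≤ FunFld.L D) (r : ℕ) (hr : Module.finrank k ↥V = r + 1) (hr1 : 1 ≤ r)
    (P : FunFld.Place k K) (hP : V ⊓ FunFld.L (D - Finsupp.single P 1) ≠ V)
    (hns : ∀ R : FunFld.Place k K,
      Module.finrank k ↥(V ⊓ FunFld.L (D - Finsupp.single R (r : ℤ))) ≤ 1 ∧
        V ⊓ FunFld.L (D - Finsupp.single R ((r : ℤ) + 2)) = ⊥)
    (hns' : ∀ R : FunFld.Place k K,
      Module.finrank k ↥(V ⊓ FunFld.L (D - Finsupp.single P 1 - Finsupp.single R ((r : ℤ) - 1))) ≤ 1 ∧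
        V ⊓ FunFld.L (D - Finsupp.single P 1 - Finsupp.single R ((r : ℤ) + 1)) = ⊥)
    (Q : FunFld.Place k K) (hQP : Q ≠ P) :
    ¬ (V ⊓ FunFld.L (D - Finsupp.single Q ((r : ℤ) + 1)) ≠ ⊥ ∧
       V ⊓ FunFld.L (D - Finsupp.single P 1 - Finsupp.single Q (r : ℤ)) ≠ ⊥) := by
  classical
  rintro ⟨hf, hg⟩
  obtain ⟨f, hfm, hf0⟩ := Submodule.exists_mem_ne_zero_of_ne_bot hf
  obtain ⟨g, hgm, hg0⟩ := Submodule.exists_mem_ne_zero_of_ne_bot hg
  have : FiniteDimensional k V := Module.finite_of_finrank_pos (by rw [hr]; omega)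
  set W := V ⊓ FunFld.L (D - Finsupp.single Q (r : ℤ))
  have : FiniteDimensional k W := Submodule.finiteDimensional_of_le inf_le_left
  have hfW : f ∈ W := Groth.Agent.FF.inf_L_le V (fun R => by
    simp only [Finsupp.sub_apply, Finsupp.single_apply]; split_ifs <;> omega) hfm
  have hgW : g ∈ W := Groth.Agent.FF.inf_L_le V (fun R => by
    simp only [Finsupp.sub_apply, Finsupp.single_apply]; split_ifs <;> omega) hgm
  obtain ⟨⟨v, hv⟩, hspan⟩ := finrank_le_one_iff.mp (hns Q).1
  obtain ⟨a, ha⟩ := hspan ⟨f, hfW⟩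
  obtain ⟨b, hb⟩ := hspan ⟨g, hgW⟩
  have ha' : a • v = f := congrArg Subtype.val ha
  have hb' : b • v = g := congrArg Subtype.val hb
  have hb0 : b ≠ 0 := fun e => hg0 (by rw [← hb', e, zero_smul])
  have hfg : f = (a * b⁻¹) • g := by rw [← hb', smul_smul, mul_assoc, inv_mul_cancel₀ hb0, mul_one, ha']
  have hbad : f ∈ V ⊓ FunFld.L (D - Finsupp.single P 1 - Finsupp.single Q ((r : ℤ) + 1)) := by
    refine ⟨hfm.1, fun R => ?_⟩
    rcases eq_or_ne R Q with rfl | hRQ
    · have := hfm.2 R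
      simpa [Finsupp.single_eq_of_ne hQP] using this
    · have h1 : f ∈ V ⊓ FunFld.L (D - Finsupp.single P 1 - Finsupp.single Q (r : ℤ)) :=
        hfg ▸ Submodule.smul_mem _ _ hgm
      have := h1.2 R
      simpa [Finsupp.single_eq_of_ne hRQ] using this
  rw [(hns' Q).2] at hbad
  exact hf0 ((Submodule.mem_bot k).mp hbad)

end Groth.Agent.S16266
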