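import Groth.Statements.S16280
import Groth.Agent.ExtSS.CompositeClass
import Groth.Agent.ExtSS.RelExt
import Groth.Agent.SerreDual.ExtShCoherent
import Groth.Agent.Coherent.RpushCoh
import Groth.Agent.RelVALib.ChowPn

set_option autoImplicit false
universe u
open CategoryTheory CategoryTheory.Limits AlgebraicGeometry
open Coherent

open Groth.Agent

namespace Groth.Agent.ExtSS

/-- `R^q f_*` kills flasque modules. -/
theorem isZero_rpush_flasque {X Y : Scheme.{u}} (f : X ⟶ Y) [HasInjectiveResolutions X.Modules]
    (M : X.Modules) [TopCat.Sheaf.IsFlasque (X := X.toTopCat) (Coh.toAb M)] (q : ℕ) :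
    IsZero ((Coh.Rpush f (q + 1)).obj M) := by
  have h : IsZero ((Coh.RpushAb f (q + 1)).obj (Coh.toAb M)) :=
    SiteCoh.isZero_rpush_of_isFlasque (X := X.toTopCat) (Y := Y.toTopCat) f.base (Coh.toAb M) q
  have h' : IsZero ((Coherent.toAbFunctor Y).obj ((Coh.Rpush f (q + 1)).obj M)) :=
    h.of_iso ((Coherent.toAbRpushNatIso f (q + 1)).app M)
  rw [IsZero.iff_id_eq_zero] at h' ⊢
  exact (Coherent.toAbFunctor Y).map_injective
    (((Coherent.toAbFunctor Y).map_id _).trans (h'.trans ((Coherent.toAbFunctor Y).map_zero _ _).symm))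

end Groth.Agent.ExtSS

namespace Groth.Agent.S16280

/-- Let Y be a Noetherian scheme, f : X → Y a morphism admitting a factorisation through a closed
immersion e : X → P^n_Y followed by the projection (a projective morphism), and F, G coherent
O_X-modules. Then for every p ≥ 0 the relative Ext sheaf Ext^p_f(F, G) — the value at G of the p-th
right derived functor of the left exact functor G ↦ f_* Hom_{O_X}(F, G) from O_X-modules to
O_Y-modules — is a coherent O_Y-module. (The internal Hom functor of F, injective resolutions of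
O_X-modules and additivity of the composite functor are the stated instance hypotheses, all true.) -/
theorem result (X Y : Scheme.{u}) [IsNoetherian Y] (f : X ⟶ Y)
    (n : ℕ) (e : X ⟶ CohB1.ProjSpaceOver n Y) [IsClosedImmersion e] (he : e ≫ CohB1.ProjSpaceOver.toBase n Y = f)
    (F G : X.Modules) (hF : Coh.IsCoh F) (hG : Coh.IsCoh G)
    [ModSite.HasSheafHom (O := X.sheaf) F] [HasInjectiveResolutions (ModSite.Mod X.sheaf)]
    [(ModSite.sheafHom (O := X.sheaf) F ⋙ Scheme.Modules.pushforward f).Additive] (p : ℕ) :
    Coh.IsCoh (((ModSite.sheafHom (O := X.sheaf) F ⋙ Scheme.Modules.pushforward f).rightDerived p).obj G) := by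
  
  haveI : HasInjectiveResolutions X.Modules := ‹HasInjectiveResolutions (ModSite.Mod X.sheaf)›
  haveI : HasInjectiveResolutions Y.Modules := Coherent.hasInjectiveResolutions_modules Y
  haveI : IsProper (CohB1.ProjSpaceOver.toBase n Y) := RelVALib.isProper_toBase n Y
  haveI : IsProper f := he ▸ inferInstanceAs (IsProper (e ≫ CohB1.ProjSpaceOver.toBase n Y))
  haveI : IsLocallyNoetherian X := LocallyOfFiniteType.isLocallyNoetherian f
  haveI := ExtSS.preservesFiniteLimits_push f
  let T : X.Modules ⥤ X.Modules := ModSite.sheafHom (O := X.sheaf) F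
  haveI : T.Additive := ModSite.sheafHom_additive X.sheaf F
  have hext : ∀ q : ℕ, Coh.IsCoh ((T.rightDerived q).obj G) := fun q =>
    Coherent.isCoh_of_iso (SerreDual.extShIso F (injectiveResolution G) q).symm
      (SerreDual.isCoh_homology hF hG (injectiveResolution G) q)
  exact ExtSS.mem_rightDerived_comp (Coherent.classPair_coh Y) T (Scheme.Modules.pushforward f) G
    (fun J hJ q hq => by
      haveI := hJ
      haveI : TopCat.Sheaf.IsFlasque (X := X.toTopCat) (Coh.toAb (T.obj J)) := ExtSS.isFlasque_sheafHom F J
      obtain ⟨q, rfl⟩ := Nat.exists_eq_succ_of_ne_zero hq.ne'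
      exact ExtSS.isZero_rpush_flasque f (T.obj J) q)
    (fun p q => (Coherent.isCoh_rpush f (hext q) p).1) p
    (fun a b _ => Coherent.isCoh_rpush f (hext b) a)

end Groth.Agent.S16280
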