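import Groth.Statements.S16281
import Groth.Agent.SerreDual.ExtShRestrict
import Groth.Agent.DCat.OpenDerived
import Groth.Agent.SiteCoh.Derived
-- import your own Groth.Agent.* helpers here

set_option autoImplicit false
universe u
open CategoryTheory CategoryTheory.Limits AlgebraicGeometry
open Coherent

namespace Groth.Agent.S16281

/-- Let f : X → Y be a morphism of schemes, F and G O_X-modules, W ⊆ Y an open subscheme and p ≥ 0.
Write Ext^p_f(F, -) for the p-th right derived functor of the left exact functor G ↦ f_*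
Hom_{O_X}(F, G) from O_X-modules to O_Y-modules (the relative Ext sheaves). Then the restriction of
Ext^p_f(F, G) to W is isomorphic to Ext^p_{f'}(F|_{f⁻¹W}, G|_{f⁻¹W}), where f' : f⁻¹W → W is the
restricted morphism. (Stated for schemes, the published statement being for ringed spaces; existence
of an isomorphism of O_W-modules only. The internal Hom functors, injective resolutions and
additivity of the composite functors on X and on f⁻¹W are the stated instance hypotheses, all true.) -/
theorem result (X Y : Scheme.{u}) (f : X ⟶ Y) (W : Y.Opens)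
    (F G : X.Modules) (p : ℕ)
    [ModSite.HasSheafHom (O := X.sheaf) F] [HasInjectiveResolutions (ModSite.Mod X.sheaf)]
    [(ModSite.sheafHom (O := X.sheaf) F ⋙ Scheme.Modules.pushforward f).Additive]
    [ModSite.HasSheafHom (O := (↑(f ⁻¹ᵁ W) : Scheme.{u}).sheaf) (F.restrict (f ⁻¹ᵁ W).ι)]
    [HasInjectiveResolutions (ModSite.Mod (↑(f ⁻¹ᵁ W) : Scheme.{u}).sheaf)]
    [(ModSite.sheafHom (O := (↑(f ⁻¹ᵁ W) : Scheme.{u}).sheaf) (F.restrict (f ⁻¹ᵁ W).ι) ⋙ Scheme.Modules.pushforward (f ∣_ W)).Additive] :
    Nonempty ((Scheme.Modules.restrictFunctor W.ι).obj (((ModSite.sheafHom (O := X.sheaf) F ⋙ Scheme.Modules.pushforward f).rightDerived p).obj G) ≅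
      ((ModSite.sheafHom (O := (↑(f ⁻¹ᵁ W) : Scheme.{u}).sheaf) (F.restrict (f ⁻¹ᵁ W).ι) ⋙ Scheme.Modules.pushforward (f ∣_ W)).rightDerived p).obj
        (G.restrict (f ⁻¹ᵁ W).ι)) := by
  haveI : HasInjectiveResolutions X.Modules := inferInstanceAs (HasInjectiveResolutions (ModSite.Mod X.sheaf))
  let V := f ⁻¹ᵁ W
  haveI : HasInjectiveResolutions (V : Scheme.{u}).Modules := inferInstanceAs (HasInjectiveResolutions (ModSite.Mod (V : Scheme.{u}).sheaf))
  let T := Scheme.Modules.restrictFunctor V.ι
  let R := Scheme.Modules.restrictFunctor W.ι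
  haveI : PreservesFiniteLimits T := Groth.Agent.DCat.PullPerf.preservesFiniteLimits_restrict V.ι
  haveI : PreservesFiniteLimits R := Groth.Agent.DCat.PullPerf.preservesFiniteLimits_restrict W.ι
  haveI : PreservesFiniteColimits T := inferInstance
  haveI : PreservesFiniteColimits R := inferInstance
  haveI : T.Additive := Functor.additive_of_preserves_binary_products T
  haveI : R.Additive := Functor.additive_of_preserves_binary_products R
  haveI : T.PreservesInjectiveObjects := Groth.Agent.Coherent.preservesInjectiveObjects_restrictFunctor V.ι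
  obtain ⟨w⟩ := Groth.Agent.SerreDual.nonempty_internalHom_restrict V.ι F
  let G1 : X.Modules ⥤ Y.Modules := ModSite.sheafHom (O := X.sheaf) F ⋙ Scheme.Modules.pushforward f
  let G2 : (V : Scheme.{u}).Modules ⥤ (W : Scheme.{u}).Modules :=
    ModSite.sheafHom (O := (V : Scheme.{u}).sheaf) (F.restrict V.ι) ⋙ Scheme.Modules.pushforward (f ∣_ W)
  haveI : G1.Additive := ‹(ModSite.sheafHom (O := X.sheaf) F ⋙ Scheme.Modules.pushforward f).Additive›
  haveI : G2.Additive := by assumption
  let e : G1 ⋙ R ≅ T ⋙ G2 :=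
    Functor.associator _ _ _ ≪≫
      Functor.isoWhiskerRight (Groth.Agent.SerreDual.msSheafHomIso F) _ ≪≫
      Functor.isoWhiskerLeft _ (Groth.Agent.DCat.OpenDerived.pushRestrict f W) ≪≫
      (Functor.associator _ _ _).symm ≪≫
      Functor.isoWhiskerRight w _ ≪≫ Functor.associator _ _ _ ≪≫
      Functor.isoWhiskerLeft _ (Functor.isoWhiskerRight (Groth.Agent.SerreDual.msSheafHomIso (F.restrict V.ι)).symm _)
  let I := injectiveResolution (show X.Modules from G)
  exact ⟨((Groth.Agent.SiteCoh.rightDerivedCompExactIso G1 R p).app G).symm ≪≫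
    (Groth.Agent.SiteCoh.rightDerivedCongr e p).app G ≪≫ I.isoRightDerivedObj (T ⋙ G2) p ≪≫
    ((Groth.Agent.SerreDual.mapResolution T I).isoRightDerivedObj G2 p).symm⟩

end Groth.Agent.S16281
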