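import Groth.Statements.S16282
import Groth.Agent.ExtSS.ProjFormula

set_option autoImplicit false
universe u
open CategoryTheory CategoryTheory.Limits AlgebraicGeometry
open Coherent

set_option backward.isDefEq.respectTransparency false
set_option linter.style.haveILetI false

namespace Groth.Agent.S16282

/-- Let f : X → Y be a morphism of schemes, F and G O_X-modules, L a finite locally free O_X-module with
dual L^∨ = Hom_{O_X}(L, O_X), N a finite locally free O_Y-module and p ≥ 0. Write Ext^p_f(M, -) for
the p-th right derived functor of the left exact functor G ↦ f_* Hom_{O_X}(M, G) from O_X-modules to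
O_Y-modules. Then Ext^p_f(F ⊗ L, G ⊗ f^*N) is isomorphic to Ext^p_f(F, G ⊗ L^∨) ⊗ N. (Stated for
schemes, the published statement being for ringed spaces and a chain of two functorial isomorphisms;
existence of an isomorphism of O_Y-modules only. The internal Hom functors, injective resolutions
and additivity of the composite functors are the stated instance hypotheses, all true.) -/
theorem result (X Y : Scheme.{u}) (f : X ⟶ Y) (F G L : X.Modules) (N : Y.Modules)
    (hL : FlatMod.IsFinLocFree L) (hN : FlatMod.IsFinLocFree N) (p : ℕ)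
    [ModSite.HasSheafHom (O := X.sheaf) F] [ModSite.HasSheafHom (O := X.sheaf) L]
    [ModSite.HasSheafHom (O := X.sheaf) (CohB1.tensorMod F L)] [HasInjectiveResolutions (ModSite.Mod X.sheaf)]
    [(ModSite.sheafHom (O := X.sheaf) F ⋙ Scheme.Modules.pushforward f).Additive]
    [(ModSite.sheafHom (O := X.sheaf) (CohB1.tensorMod F L) ⋙ Scheme.Modules.pushforward f).Additive] :
    Nonempty (((ModSite.sheafHom (O := X.sheaf) (CohB1.tensorMod F L) ⋙ Scheme.Modules.pushforward f).rightDerived p).obj
        (CohB1.tensorMod G ((Scheme.Modules.pullback f).obj N)) ≅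
      CohB1.tensorMod (((ModSite.sheafHom (O := X.sheaf) F ⋙ Scheme.Modules.pushforward f).rightDerived p).obj
        (CohB1.tensorMod G ((ModSite.sheafHom (O := X.sheaf) L).obj (Coh.structureModule X)))) N) := by
  haveI : HasInjectiveResolutions X.Modules := ‹HasInjectiveResolutions (ModSite.Mod X.sheaf)›
  haveI hadd : ∀ M : X.Modules, (Groth.Agent.ExtSS.intRelHom f M).Additive := fun M => by
    haveI := Groth.Agent.SerreDual.additive_internalHomFunctor M
    infer_instance
  obtain ⟨e⟩ := Groth.Agent.ExtSS.nonempty_relExt_tensor_iso f F G L N hL hN p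
  let a (M : X.Modules) [ModSite.HasSheafHom (O := X.sheaf) M] :
      (show X.Modules ⥤ Y.Modules from ModSite.sheafHom (O := X.sheaf) M ⋙ Scheme.Modules.pushforward f) ≅
        Groth.Agent.ExtSS.intRelHom f M :=
    Functor.isoWhiskerRight (Groth.Agent.SerreDual.msSheafHomIso M) _
  let d : CohB1.tensorMod G (Groth.Agent.Coherent.internalHom L (Coh.structureModule X)) ≅
      CohB1.tensorMod G ((ModSite.sheafHom (O := X.sheaf) L).obj (Coh.structureModule X)) :=
    (Groth.Agent.Coherent.tensE G).mapIso
      ((Groth.Agent.SerreDual.msSheafHomIso L).app (Coh.structureModule X)).symm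
  let w := (show ((ModSite.sheafHom (O := X.sheaf) F ⋙ Scheme.Modules.pushforward f).rightDerived p).obj
        (CohB1.tensorMod G ((ModSite.sheafHom (O := X.sheaf) L).obj (Coh.structureModule X))) ≅
      ((Groth.Agent.ExtSS.intRelHom f F).rightDerived p).obj
        (CohB1.tensorMod G (Groth.Agent.Coherent.internalHom L (Coh.structureModule X))) from
    (Groth.Agent.SiteCoh.rightDerivedCongr (a F) p).app _ ≪≫
      ((Groth.Agent.ExtSS.intRelHom f F).rightDerived p).mapIso d.symm)
  exact ⟨(Groth.Agent.SiteCoh.rightDerivedCongr (a (CohB1.tensorMod F L)) p).app _ ≪≫ e ≪≫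
    ((DCoh.tensorBi (X := Y)).mapIso w.symm).app N⟩

end Groth.Agent.S16282
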