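import Groth.Statements.S16284
import Groth.Agent.S16283
import Groth.Agent.S16280
import Groth.Agent.SpecSeq.Consequences
import Groth.Agent.ExtSS.ProjFormula
import Groth.Agent.KPushPr28.Twist
import Groth.Agent.BlowUpCoh.LocFree
-- import your own Groth.Agent.* helpers here

set_option autoImplicit false
universe u
open CategoryTheory CategoryTheory.Limits AlgebraicGeometry
open Coherent

namespace Groth.Agent.S16284

set_option backward.isDefEq.respectTransparency false

section

variable {C : Type*} [Category C] [Abelian C] (E : E₂CohomologicalSpectralSequence C)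

theorem page_iso_origin (n : ℤ) (hz : ∀ a b : ℤ, a ≠ 0 → (a < 0 ∨ b ≤ n) → IsZero ((E.page 2 le_rfl).X (a, b)))
    (r : ℤ) (hr : 2 ≤ r) : Nonempty ((E.page 2 le_rfl).X (0, n) ≅ (E.page r hr).X (0, n)) := by
  obtain ⟨k, rfl⟩ : ∃ k : ℕ, r = 2 + k := ⟨(r - 2).toNat, by lia⟩
  induction k with
  | zero => exact ⟨E.pageXIsoOfEq (0, n) 2 _ (by simp) le_rfl⟩
  | succ k ih =>
    obtain ⟨e⟩ := ih (by lia)
    let K := E.page (2 + (k : ℤ)) (by lia)
    have hin : ∀ i, K.d i (0, n) = 0 := fun i => by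
      by_cases h : (ComplexShape.up' ((2 + (k : ℤ), 1 - (2 + (k : ℤ))) : ℤ × ℤ)).Rel i (0, n)
      · obtain ⟨i₁, i₂⟩ := i
        simp only [ComplexShape.up'_Rel, Prod.mk_add_mk, Prod.mk.injEq] at h
        exact (SpecSeq.isZero_page E _ (hz i₁ i₂ (by lia) (Or.inl (by lia))) _ _).eq_of_src _ _
      · exact K.shape _ _ h
    have hout : ∀ j, K.d (0, n) j = 0 := fun j => by
      by_cases h : (ComplexShape.up' ((2 + (k : ℤ), 1 - (2 + (k : ℤ))) : ℤ × ℤ)).Rel (0, n) j
      · obtain ⟨j₁, j₂⟩ := j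
        simp only [ComplexShape.up'_Rel, Prod.mk_add_mk, Prod.mk.injEq] at h
        exact (SpecSeq.isZero_page E _ (hz j₁ j₂ (by lia) (Or.inr (by lia))) _ _).eq_of_tgt _ _
      · exact K.shape _ _ h
    exact ⟨e ≪≫ (ShortComplex.HomologyData.ofZeros (K.sc (0, n)) (hin _)
      (hout _)).left.homologyIso.symm ≪≫ E.iso (2 + (k : ℤ)) _ (0, n) (by push_cast; lia) (by lia)⟩

/-- Degeneration in one total degree: only the entry `(0, n)` survives. -/
theorem nonempty_iso_of_origin {H : ℤ → C} (a : SpSeq.Abutment E H) (n : ℤ) (hfin : a.IsFinite n)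
    (hz : ∀ x y : ℤ, x ≠ 0 → (x < 0 ∨ y ≤ n) → IsZero ((E.page 2 le_rfl).X (x, y))) :
    Nonempty ((E.page 2 le_rfl).X (0, n) ≅ H n) := by
  have hgr : ∀ p, p ≠ 0 → IsZero (SpSeq.grPiece (a.fil n) (a.anti n) p) := fun p hp => by
    have h1 : ∀ pq : ℤ × ℤ, pq.1 ≠ 0 → (pq.1 < 0 ∨ pq.2 ≤ n) →
        IsZero (SpSeq.grPiece (a.fil (pq.1 + pq.2)) (a.anti (pq.1 + pq.2)) pq.1) := fun pq hpq hq =>
      (SpecSeq.isZero_page E pq (hz pq.1 pq.2 hpq hq) _ _).of_iso (a.β pq).symm
    have := h1 (p, n - p) hp (by dsimp; lia)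
    dsimp at this
    rwa [show p + (n - p) = n by lia] at this
  have heq : ∀ p, p ≠ 0 → a.fil n (p + 1) = a.fil n p := fun p hp => by
    have hle := a.anti n (Int.le_add_one (le_refl p))
    have : Epi ((a.fil n (p + 1)).ofLE (a.fil n p) hle) :=
      Preadditive.epi_of_isZero_cokernel _ (hgr p hp)
    have : IsIso ((a.fil n (p + 1)).ofLE (a.fil n p) hle) := isIso_of_mono_of_epi _
    exact le_antisymm hle (Subobject.le_of_comm (inv ((a.fil n (p + 1)).ofLE (a.fil n p) hle))
      (by rw [IsIso.inv_comp_eq, Subobject.ofLE_arrow]))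
  obtain ⟨⟨a₀, ha⟩, b, hb⟩ := hfin
  change a.fil n a₀ = ⊤ at ha
  change a.fil n b = ⊥ at hb
  have h0 : a.fil n 0 = ⊤ := by
    have key : ∀ k : ℕ, a.fil n (-(k : ℤ)) = a.fil n 0 := fun k => by
      induction k with
      | zero => simp
      | succ k ih =>
        rw [← ih, show -(k : ℤ) = -((k + 1 : ℕ) : ℤ) + 1 by push_cast; lia]
        exact (heq _ (by lia)).symm
    rw [← key (-(min a₀ 0)).toNat]
    exact top_le_iff.1 (ha ▸ a.anti n (by lia))
  have h1 : a.fil n (0 + 1) = ⊥ := by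
    have key : ∀ k : ℕ, a.fil n (1 + (k : ℤ)) = a.fil n 1 := fun k => by
      induction k with
      | zero => simp
      | succ k ih =>
        rw [← ih, show 1 + ((k + 1 : ℕ) : ℤ) = 1 + (k : ℤ) + 1 by push_cast; lia]
        exact heq _ (by lia)
    rw [zero_add, ← key (max b 1 - 1).toNat]
    exact le_bot_iff.1 (hb ▸ a.anti n (by lia))
  obtain ⟨e⟩ := page_iso_origin E n hz (a.rk (0, n)) (a.stat (0, n)).1
  have e' : SpSeq.grPiece (a.fil n) (a.anti n) 0 ≅ H n := by
    have : (a.fil n (0 + 1)).ofLE (a.fil n 0) (a.anti n (Int.le_add_one le_rfl)) = 0 := by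
      apply IsZero.eq_of_src
      rw [h1]
      exact IsZero.of_iso (isZero_zero _) Subobject.botCoeIsoZero
    exact cokernelIsoOfEq this ≪≫ cokernelZeroIsoTarget ≪≫
      eqToIso (congrArg (fun S : Subobject (H n) => (S : C)) h0) ≪≫
        asIso ((⊤ : Subobject (H n)).arrow)
  exact ⟨e ≪≫ a.β (0, n) ≪≫ SpecSeq.gr_congr E a (zero_add n) 0 ≪≫ e'⟩

end

/-- Twisting the second variable of relative Ext by a bundle from the base. -/
theorem nonempty_relExt_twist {X Y : Scheme.{u}} [HasInjectiveResolutions X.Modules] (f : X ⟶ Y) (F G : X.Modules) (N : Y.Modules)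
    (hN : FlatMod.IsFinLocFree N) [ModSite.HasSheafHom (O := X.sheaf) F]
    [(ModSite.sheafHom (O := X.sheaf) F ⋙ Scheme.Modules.pushforward f).Additive] (p : ℕ) :
    Nonempty (((ModSite.sheafHom (O := X.sheaf) F ⋙ Scheme.Modules.pushforward f).rightDerived p).obj
        (CohB1.tensorMod G ((Scheme.Modules.pullback f).obj N)) ≅
      CohB1.tensorMod (((ModSite.sheafHom (O := X.sheaf) F ⋙ Scheme.Modules.pushforward f).rightDerived p).obj G) N) := by
  haveI : ∀ M : X.Modules, (ExtSS.intRelHom f M).Additive := fun M => by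
    haveI := SerreDual.additive_internalHomFunctor M
    infer_instance
  let Φ : X.Modules ⥤ Y.Modules := ModSite.sheafHom (O := X.sheaf) F ⋙ Scheme.Modules.pushforward f
  haveI : Φ.Additive := by assumption
  let a : Φ ≅ ExtSS.intRelHom f F := Functor.isoWhiskerRight (SerreDual.msSheafHomIso F) _
  let D := Coherent.internalHom N (Coh.structureModule Y)
  let D' := (Scheme.Modules.pullback f).obj D
  have hD : FlatMod.IsFinLocFree D :=
    Coherent.CohBC.isFinLocFree_internalHom hN (Coherent.CohBC.isFinLocFree_structureModule Y)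
  have hD' : FlatMod.IsFinLocFree D' := FlatMorAdm.isFinLocFree_pullback f hD
  obtain ⟨dd⟩ := ExtSS.nonempty_pullback_dual_dual f hN
  obtain ⟨tX⟩ := SerreDual.nonempty_internalHom_eq_tensor hD' G
  let R := ((ExtSS.intRelHom f F).rightDerived p).obj G
  obtain ⟨tY⟩ := SerreDual.nonempty_internalHom_eq_tensor hD R
  obtain ⟨dY⟩ := ExtSS.nonempty_dual_dual hN
  obtain ⟨cw⟩ := SerreDual.nonempty_internalHom_comm F D'
  obtain ⟨v⟩ := ExtSS.nonempty_internalHom_push f D
  let T := Coherent.internalHomFunctor D'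
  let Q := Coherent.internalHomFunctor D
  haveI : PreservesFiniteLimits T := SerreDual.preservesFiniteLimits_internalHom D'
  haveI : PreservesFiniteColimits T := SerreDual.preservesFiniteColimits_internalHom hD'
  haveI : T.PreservesInjectiveObjects := SerreDual.preservesInjectives_internalHom hD'
  haveI : T.Additive := SerreDual.additive_internalHomFunctor D'
  haveI : PreservesFiniteLimits Q := SerreDual.preservesFiniteLimits_internalHom D
  haveI : PreservesFiniteColimits Q := SerreDual.preservesFiniteColimits_internalHom hD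
  haveI : Q.Additive := SerreDual.additive_internalHomFunctor D
  let c : T ⋙ ExtSS.intRelHom f F ≅ ExtSS.intRelHom f F ⋙ Q :=
    (Functor.associator _ _ _).symm ≪≫ Functor.isoWhiskerRight cw _ ≪≫ Functor.associator _ _ _ ≪≫
      Functor.isoWhiskerLeft _ v ≪≫ (Functor.associator _ _ _).symm
  let b : CohB1.tensorMod G ((Scheme.Modules.pullback f).obj N) ≅ T.obj G :=
    AmpleLib.tensorComm _ _ ≪≫ ((DCoh.tensorBi (X := X)).mapIso dd.symm).app G ≪≫ tX.symm
  exact ⟨(SiteCoh.rightDerivedCongr a p).app _ ≪≫ ((ExtSS.intRelHom f F).rightDerived p).mapIso b ≪≫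
    ExtSS.rightDerivedPrecompObjIso T (ExtSS.intRelHom f F) p G ≪≫ (SiteCoh.rightDerivedCongr c p).app G ≪≫
    (SiteCoh.rightDerivedCompExactIso (ExtSS.intRelHom f F) Q p).app G ≪≫ tY ≪≫
    ((DCoh.tensorBi (X := Y)).mapIso dY).app R ≪≫ AmpleLib.tensorComm _ _ ≪≫
    ((DCoh.tensorBi (X := Y)).mapIso ((SiteCoh.rightDerivedCongr a p).app G).symm).app N⟩

/-- Let Z be a Noetherian scheme, g : Y → Z a morphism factoring through a closed immersion e' : Y →
P^m_Z followed by the projection, O_Y(l) = e'^*O(l), f : X → Y a morphism factoring through a closed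
immersion X → P^n_Y followed by the projection, h = g ∘ f, and F, G coherent O_X-modules. For a
morphism u out of X write Ext^p_u(F, -) for the p-th right derived functor of the left exact functor
G ↦ u_* Hom_{O_X}(F, G). Then for every p ≥ 0 there is l₀ such that for all l ≥ l₀ the O_Z-module
g_* Ext^p_f(F, G ⊗ f^*O_Y(l)) is isomorphic to Ext^p_h(F, G ⊗ f^*O_Y(l)). (Existence of an
isomorphism of O_Z-modules only. The internal Hom functor of F, injective resolutions and additivity
of the composite functors are the stated instance hypotheses, all true.) -/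
theorem result (Z : Scheme.{u}) [IsNoetherian Z] (m : ℕ)
    (Y : Scheme.{u}) (g : Y ⟶ Z) (e' : Y ⟶ CohB1.ProjSpaceOver m Z) [IsClosedImmersion e']
    (he' : e' ≫ CohB1.ProjSpaceOver.toBase m Z = g)
    (n : ℕ) (X : Scheme.{u}) (f : X ⟶ Y) (e : X ⟶ CohB1.ProjSpaceOver n Y) [IsClosedImmersion e]
    (he : e ≫ CohB1.ProjSpaceOver.toBase n Y = f)
    (F G : X.Modules) (hF : Coh.IsCoh F) (hG : Coh.IsCoh G) (p : ℕ)
    [ModSite.HasSheafHom (O := X.sheaf) F] [HasInjectiveResolutions (ModSite.Mod X.sheaf)]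
    [(ModSite.sheafHom (O := X.sheaf) F ⋙ Scheme.Modules.pushforward f).Additive]
    [(ModSite.sheafHom (O := X.sheaf) F ⋙ Scheme.Modules.pushforward (f ≫ g)).Additive] :
    ∃ l₀ : ℕ, ∀ l : ℕ, l₀ ≤ l →
      Nonempty ((Scheme.Modules.pushforward g).obj (((ModSite.sheafHom (O := X.sheaf) F ⋙ Scheme.Modules.pushforward f).rightDerived p).obj
          (CohB1.tensorMod G ((Scheme.Modules.pullback f).obj
            ((Scheme.Modules.pullback e').obj (Twist.twistOver m Z (l : ℤ)))))) ≅
        ((ModSite.sheafHom (O := X.sheaf) F ⋙ Scheme.Modules.pushforward (f ≫ g)).rightDerived p).obj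
          (CohB1.tensorMod G ((Scheme.Modules.pullback f).obj
            ((Scheme.Modules.pullback e').obj (Twist.twistOver m Z (l : ℤ)))))) := by
  haveI : HasInjectiveResolutions X.Modules := ‹HasInjectiveResolutions (ModSite.Mod X.sheaf)›
  haveI : HasInjectiveResolutions Y.Modules := Coherent.hasInjectiveResolutions_modules Y
  haveI : HasInjectiveResolutions Z.Modules := Coherent.hasInjectiveResolutions_modules Z
  haveI : IsLocallyNoetherian (CohB1.ProjSpaceOver m Z) := KPr28.isLocallyNoetherian_PY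
  haveI : AlgebraicGeometry.IsNoetherian Y := by
    haveI : IsProper (CohB1.ProjSpaceOver.toBase m Z) := RelVALib.isProper_toBase m Z
    haveI : IsLocallyNoetherian Y := LocallyOfFiniteType.isLocallyNoetherian e'
    haveI : CompactSpace Y := QuasiCompact.compactSpace_of_compactSpace (e' ≫ CohB1.ProjSpaceOver.toBase m Z)
    exact {}
  have hExt : ∀ q, Coh.IsCoh (((ModSite.sheafHom (O := X.sheaf) F ⋙ Scheme.Modules.pushforward f).rightDerived q).obj G) :=
    fun q => Groth.Agent.S16280.result X Y f n e he F G hF hG q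
  obtain ⟨N, hN⟩ := KPushPr28.exists_van_tws_range e' he'
    (fun q => ((ModSite.sheafHom (O := X.sheaf) F ⋙ Scheme.Modules.pushforward f).rightDerived q).obj G) hExt (p + 1)
  refine ⟨N.toNat, fun l hl => ?_⟩
  let L := (Scheme.Modules.pullback e').obj (Twist.twistOver m Z (l : ℤ))
  have hL : FlatMod.IsFinLocFree L := FlatMorAdm.isFinLocFree_pullback e' (KPr28.isFinLocFree_twistOver _)
  obtain ⟨E, a, hfin, -, hpage⟩ := Groth.Agent.S16283.result X Y Z f g F (CohB1.tensorMod G ((Scheme.Modules.pullback f).obj L))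
  have hz : ∀ x y : ℤ, x ≠ 0 → (x < 0 ∨ y ≤ (p : ℤ)) → IsZero ((E.page 2 le_rfl).X (x, y)) := by
    intro x y hx hy
    obtain ⟨w⟩ := hpage x y
    refine IsZero.of_iso ?_ w
    by_cases h : 0 ≤ x ∧ 0 ≤ y
    · rw [if_pos h]
      obtain ⟨t⟩ := nonempty_relExt_twist f F G L hL y.toNat
      refine IsZero.of_iso ?_ ((Coh.Rpush g x.toNat).mapIso (t ≪≫ AmpleLib.tensorComm _ _))
      exact BlowUpCoh.isZero_rpush_of_rpushAb g (hN (l : ℤ) (by omega) y.toNat (by omega) x.toNat (by omega))
    · rw [if_neg h]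
      exact isZero_zero _
  obtain ⟨w⟩ := nonempty_iso_of_origin E a (p : ℤ) (hfin _) hz
  obtain ⟨w'⟩ := hpage 0 (p : ℤ)
  haveI := ExtSS.preservesFiniteLimits_push g
  haveI : (Scheme.Modules.pushforward g).Additive := inferInstance
  rw [if_pos ⟨le_rfl, by omega⟩, Int.toNat_natCast] at w'
  refine ⟨((Scheme.Modules.pushforward g).rightDerivedZeroIsoSelf.symm.app _) ≪≫ w'.symm ≪≫ w ≪≫ eqToIso ?_⟩
  rw [if_pos (Int.natCast_nonneg p), Int.toNat_natCast]

end Groth.Agent.S16284
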