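import Groth.Statements.S16288
import Groth.Agent.FlatCxLib.DRank

set_option autoImplicit false
universe u
open CategoryTheory
open FlatCx

namespace Groth.Agent.S16288

/-- Let A be a Noetherian ring and P a chain complex of finitely generated flat A-modules, and for p and
a point x of Spec A let d_p(x) = dim_{k(x)} H_p(P ⊗_A k(x)). Fix p and a point z. If d_{p-1} and
d_{p+1} are constant on some neighbourhood of z, then d_p is constant on some neighbourhood of z.
(The published assertion concerns the function y ↦ dim H^p(X_y, F_y) for a coherent sheaf F flat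
over a projective morphism of Noetherian schemes X → Y: if it is not constant near a point, then the
functions for p - 1 and p + 1 are not both constant near that point. Stated here is the
corresponding property for any chain complex of finitely generated flat modules over a Noetherian
ring, from which the published form follows by applying it to a finite complex of such modules
computing the cohomology of the fibres.) -/
theorem result {A : Type u} [CommRing A] [IsNoetherianRing A]
    (P : ChainComplex (ModuleCat.{u} A) ℤ) (hP : ∀ i, Module.Finite A (P.X i) ∧ Module.Flat A (P.X i))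
    (p : ℤ) (z : PrimeSpectrum A)
    (hlo : ∀ᶠ x in nhds z, CohIII.dRank P (p - 1) x = CohIII.dRank P (p - 1) z)
    (hhi : ∀ᶠ x in nhds z, CohIII.dRank P (p + 1) x = CohIII.dRank P (p + 1) z) :
    ∀ᶠ x in nhds z, CohIII.dRank P p x = CohIII.dRank P p z := by
  have hpos : ∀ r, ∀ C : Type u, ∀ [AddCommGroup C] [Module A C] [Module.Finite A C], r = Groth.Agent.FlatCxLib.fibreRank (A := A) C →
      ∀ᶠ x in nhds z, r x ≤ r z := by
    rintro r C _ _ _ rfl
    exact (Groth.Agent.FlatCxLib.upperSemicontinuous_fibreRank (A := A) C z _ (Nat.lt_succ_self _)).mono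
      fun x hx => Nat.lt_succ_iff.mp hx
  have := fun i => (hP i).1
  have := fun i => (hP i).2
  have := fun i => (Module.finitePresentation_of_finite A (P.X i))
  have hn := fun i => (Module.isLocallyConstant_rankAtStalk (R := A) (M := P.X i)).eventually_eq z
  have key := fun (q p r : ℤ) (h : p + 1 = q) (h' : r + 1 = p) x =>
    Groth.Agent.FlatCxLib.dRank_add P hP q p r h h' x
  filter_upwards [hlo, hhi, hn (p - 1), hn (p - 1 - 1), hn p,
    hpos _ (P.X (p + 1) ⧸ LinearMap.range (P.d (p + 1 + 1) (p + 1)).hom) rfl,
    hpos _ (P.X p ⧸ LinearMap.range (P.d (p + 1) p).hom) rfl,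
    hpos _ (P.X (p - 1) ⧸ LinearMap.range (P.d p (p - 1)).hom) rfl,
    hpos _ (P.X (p - 1 - 1) ⧸ LinearMap.range (P.d (p - 1) (p - 1 - 1)).hom) rfl] with
    x a b c d e f g h i
  have := key (p + 1 + 1) (p + 1) p rfl rfl x
  have := key (p + 1 + 1) (p + 1) p rfl rfl z
  have := key (p + 1) p (p - 1) rfl (by omega) x
  have := key (p + 1) p (p - 1) rfl (by omega) z
  have := key p (p - 1) (p - 1 - 1) (by omega) (by omega) x
  have := key p (p - 1) (p - 1 - 1) (by omega) (by omega) z
  omega

end Groth.Agent.S16288
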