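import Groth.Statements.S16292
import Groth.Agent.TFPush7.PointedSet
import Groth.Agent.TFPush7.PointVA

set_option linter.style.haveILetI false
set_option backward.isDefEq.respectTransparency false
set_option backward.isDefEq.respectTransparency.types false
set_option maxHeartbeats 1000000

set_option autoImplicit false
universe u
open CategoryTheory CategoryTheory.Limits AlgebraicGeometry
attribute [local instance] HasDerivedCategory.standard
open Curves

namespace Groth.Agent.S16292

/-- Let k be an algebraically closed field and (X, D) a stable n-pointed curve over k, taken in the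
form: X is proper and connected over k, of dimension 1, with at-worst-nodal singularities; D ⊆ X is
a finite closed set of points each having an open neighbourhood smooth over k (the marked points);
ω_X is the dualizing module of X (degree -1 cohomology sheaf of f^! O for the structure morphism f,
for any choice of the data Rf_* on D_QCoh with its right adjoint); L_D is an invertible module with
L_D ⊗ I_D ≅ O_X, where I_D is the ideal sheaf of D with its reduced structure (so L_D plays the role
of O_X(D)); and the invertible module ω_X(D) := ω_X ⊗ L_D is ample (stability). Then for every m ≥ 5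
the module ω_X(D)^{⊗m} is very ample: some closed immersion i : X → P^N_k over k has i^* O(1) ≅
ω_X(D)^{⊗m}. (The published assertion is for all m ≥ 3; the published argument addresses only m ≥ 5
and defers m = 3, 4 to the literature, so m ≥ 5 is what is stated here.) -/
theorem result (k : Type u) [Field k] [IsAlgClosed k] (X : Scheme.{u}) [X.Over (Spec (CommRingCat.of k))]
    [IsProper (X ↘ (Spec (CommRingCat.of k)))] [ConnectedSpace X] (hdim : topologicalKrullDim X = 1) (hX : Curv2.AtWorstNodal k X)
    [DCoh.HasRpush (X ↘ (Spec (CommRingCat.of k)))] (h : DCoh.RpushPreservesQCoh (X ↘ (Spec (CommRingCat.of k)))) [DCoh.HasShriek (X ↘ (Spec (CommRingCat.of k))) h]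
    (OY : DCoh.DQCoh (Spec (CommRingCat.of k))) (hOY : Nonempty (OY.obj ≅ DCoh.inD (Spec (CommRingCat.of k)) (Coh.structureModule (Spec (CommRingCat.of k)))))
    (D : Set X) (hDfin : D.Finite) (hDcl : IsClosed D) (hDsm : ∀ x ∈ D, ∃ U : X.Opens, x ∈ U ∧ Smooth (U.ι ≫ (X ↘ (Spec (CommRingCat.of k)))))
    (LD : X.Modules) (hLD : PicF.IsInvertible LD)
    (hinv : ClSub.IsInverseOf LD (ClSub.idealMod (Scheme.IdealSheafData.vanishingIdeal (⟨D, hDcl⟩ : TopologicalSpace.Closeds X))))
    (hst : CohB1.IsAmple (CohB1.tensorMod (DCoh.dualizingMod (X ↘ (Spec (CommRingCat.of k))) h OY 1) LD))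
    (m : ℕ) (hm : 5 ≤ m) :
    ∃ (N : ℕ) (i : X ⟶ CohB1.ProjSpace N k), IsClosedImmersion i ∧ i ≫ CohB1.ProjSpace.toSpec N k = (X ↘ (Spec (CommRingCat.of k))) ∧
      Nonempty ((Scheme.Modules.pullback i).obj (Twist.twistProjSpace N k 1) ≅ CohB1.tensorPow (CohB1.tensorMod (DCoh.dualizingMod (X ↘ (Spec (CommRingCat.of k))) h OY 1) LD) m) := by
  haveI := Groth.Agent.NodeLib7.geometricallyReduced_of_atWorstNodal k X hX
  haveI : AlgebraicGeometry.IsReduced X := GeometricallyReduced.geometrically_isReduced
    (f := X ↘ Spec (CommRingCat.of k)) (𝟙 _) (𝟙 X) (X ↘ Spec (CommRingCat.of k))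
    (IsPullback.of_horiz_isIso ⟨by simp⟩)
  obtain ⟨hMi, hnum⟩ := Groth.Agent.TFPush7.PointedSet.setup k X hdim hX h OY hOY D hDfin hDcl hDsm LD hinv
  refine Groth.Agent.TFPush7.PointVA.exists_closedImmersion_of_deg k hdim
    (Groth.Agent.AmpleLib.isInvertible_tensorPow hMi m) fun J hJr hJc hJ => ?_
  have h1 := hnum J hJr hJc hJ
  have h3 := Groth.Agent.DualMod3.deg_sub_pos_of_ample k hst J hJ
  rw [Groth.Agent.DualMod3.deg_sub_pow k hdim.le J hMi m]
  have h4 : 5 ≤ (m : ℤ) := by exact_mod_cast hm
  generalize @Curv2.deg k _ J.subscheme ⟨J.subschemeι ≫ (X ↘ Spec (CommRingCat.of k))⟩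
    ((Scheme.Modules.pullback J.subschemeι).obj _) 1 = D' at h1 h3 ⊢
  have h5 : 5 * D' ≤ (m : ℤ) * D' := mul_le_mul_of_nonneg_right h4 h3.le
  omega

end Groth.Agent.S16292
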