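import Groth.Statements.S16294
import Groth.Agent.TFPush7.PointedSet

set_option linter.style.haveILetI false
set_option backward.isDefEq.respectTransparency false
set_option backward.isDefEq.respectTransparency.types false
set_option maxHeartbeats 1000000

set_option autoImplicit false
universe u
open CategoryTheory CategoryTheory.Limits AlgebraicGeometry
attribute [local instance] HasDerivedCategory.standard
open Curves

namespace Groth.Agent.S16294

open Groth.Agent.TFPush7 Groth.Agent.DualMod3 in
/-- The non-loop edges at a vertex are the points where its component meets the others. -/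
theorem card_edges (k : Type u) [Field k] [IsAlgClosed k] (X : Scheme.{u}) [X.Over (Spec (CommRingCat.of k))]
    [IsProper (X ↘ (Spec (CommRingCat.of k)))] [AlgebraicGeometry.IsReduced X]
    (hdim : topologicalKrullDim X = 1) [ConnectedSpace X]
    (V E : Type u) (cv : V → Set X) (ce : E → X) (ends : E → V × V)
    (hΓ : DualGr.IsDualGraph (X ↘ (Spec (CommRingCat.of k))) cv ce ends) (v : V) :
    Nat.card {e : E // (ends e).1 ≠ (ends e).2 ∧ ((ends e).1 = v ∨ (ends e).2 = v)} =
      (cv v ∩ closure (cv v)ᶜ).ncard := by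
  haveI := Groth.Agent.EulerLib.isNoetherian_of_proper k (X := X)
  let C : TopologicalSpace.Closeds X := ⟨cv v, isClosed_of_mem_irreducibleComponents _ (hΓ.comp_mem v)⟩
  have hconn : _root_.IsPreconnected (C : Set X) := (hΓ.comp_mem v).1.2.isPreconnected
  have hsub := subset_closure_interior hdim.le C hconn (components_dim_one hdim (hΓ.comp_mem v))
  have hset : ce '' {e : E | (ends e).1 ≠ (ends e).2 ∧ ((ends e).1 = v ∨ (ends e).2 = v)} =
      cv v ∩ closure (cv v)ᶜ := by
    apply Set.Subset.antisymm
    · rintro _ ⟨e, ⟨hne, he⟩, rfl⟩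
      refine ⟨(hΓ.incidence e v).1 he, ?_⟩
      obtain ⟨w, hwv, hw⟩ : ∃ w, w ≠ v ∧ ce e ∈ cv w := by
        rcases he with he | he
        · exact ⟨(ends e).2, fun h => hne (he.trans h.symm), (hΓ.incidence e _).1 (Or.inr rfl)⟩
        · exact ⟨(ends e).1, fun h => hne (h.trans he.symm), (hΓ.incidence e _).1 (Or.inl rfl)⟩
      obtain ⟨η, hη⟩ := QuasiSober.sober (hΓ.comp_mem w).1 (isClosed_of_mem_irreducibleComponents _ (hΓ.comp_mem w))
      have hηv : η ∉ cv v := fun h => hwv (hΓ.comp_injective (Set.Subset.antisymm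
        (hη.def ▸ closure_minimal (Set.singleton_subset_iff.2 h) C.isClosed)
        ((hΓ.comp_mem w).2 (hΓ.comp_mem v).1 (hη.def ▸ closure_minimal (Set.singleton_subset_iff.2 h) C.isClosed))))
      exact closure_mono (Set.singleton_subset_iff.2 hηv) (hη.def.ge hw)
    · rintro x ⟨hxv, hxc⟩
      obtain ⟨e, rfl⟩ := hΓ.pt_surjective x fun hfs =>
        PointedNum.not_mem_inter_of_smooth k C hsub (PointedSet.smooth_of_formallySmooth k X x hfs) hxv hxc
      have he := (hΓ.incidence e v).2 hxv
      obtain ⟨w, hwv, hw⟩ : ∃ w, w ≠ v ∧ ce e ∈ cv w := by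
        by_contra hcon
        push Not at hcon
        have hfin : ({Z ∈ irreducibleComponents X | Z ≠ cv v}).Finite :=
          TopologicalSpace.NoetherianSpace.finite_irreducibleComponents.subset (Set.sep_subset _ _)
        have hsub' : closure (cv v)ᶜ ⊆ ⋃ Z ∈ {Z ∈ irreducibleComponents X | Z ≠ cv v}, Z := by
          refine closure_minimal (fun z hz => ?_)
            (hfin.isClosed_biUnion fun Z hZ => isClosed_of_mem_irreducibleComponents Z hZ.1)
          exact Set.mem_biUnion ⟨irreducibleComponent_mem_irreducibleComponents z,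
            fun h => hz (h ▸ mem_irreducibleComponent)⟩ mem_irreducibleComponent
        obtain ⟨Z, ⟨hZ, hZne⟩, hxZ⟩ := Set.mem_iUnion₂.1 (hsub' hxc)
        obtain ⟨w, rfl⟩ := hΓ.comp_surjective Z hZ
        exact hcon w (fun h => hZne (congrArg cv h)) hxZ
      refine ⟨e, ⟨fun heq => hwv ?_, he⟩, rfl⟩
      rcases (hΓ.incidence e w).2 hw with h | h <;> rcases he with h' | h'
      · exact h.symm.trans h'
      · exact (h.symm.trans heq).trans h'
      · exact (h.symm.trans heq.symm).trans h'
      · exact h.symm.trans h'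
  rw [← hset, Set.ncard_image_of_injective _ hΓ.pt_injective]
  exact Nat.card_coe_set_eq {e : E | (ends e).1 ≠ (ends e).2 ∧ ((ends e).1 = v ∨ (ends e).2 = v)}

/-- Let k be an algebraically closed field and (X, D) a semi-stable n-pointed curve over k, taken in the
form: X is proper and connected over k, of dimension 1, with at-worst-nodal singularities; D ⊆ X is
a finite closed set of points each having an open neighbourhood smooth over k; ω_X is the dualizing
module of X (degree -1 cohomology sheaf of f^! O for the structure morphism f, for any choice of the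
data Rf_* on D_QCoh with its right adjoint); L_D is an invertible module with L_D ⊗ I_D ≅ O_X for
the ideal sheaf I_D of D with its reduced structure. Let (V, E, ends) be the dual graph of X over k
(vertices = irreducible components C_v, edges = singular points, each edge joining the components
through its node). Then (X, D) is stable, i.e. ω_X ⊗ L_D is ample, if and only if for every vertex v
one has 2 p_a(C_v) - 2 + e_v + d_v > 0, where p_a(C_v) = dim_k H^1(C_v, O) for the reduced component
C_v, e_v is the number of nodes of X lying on C_v and on another component (non-loop edges at v) and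
d_v is the number of marked points on C_v. (The published criterion is stated per component C̃_v of
the normalisation as 2 g(C̃_v) - 2 + n(C̃_v) > 0, n(C̃_v) counting its points over D and over the
nodes of X; since p_a(C_v) = g(C̃_v) + (number of nodes of X lying on C_v alone) and each such node
has two preimages in C̃_v, the two counts agree.) -/
theorem result (k : Type u) [Field k] [IsAlgClosed k] (X : Scheme.{u}) [X.Over (Spec (CommRingCat.of k))]
    [IsProper (X ↘ (Spec (CommRingCat.of k)))] [ConnectedSpace X] (hdim : topologicalKrullDim X = 1) (hX : Curv2.AtWorstNodal k X)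
    [DCoh.HasRpush (X ↘ (Spec (CommRingCat.of k)))] (h : DCoh.RpushPreservesQCoh (X ↘ (Spec (CommRingCat.of k)))) [DCoh.HasShriek (X ↘ (Spec (CommRingCat.of k))) h]
    (OY : DCoh.DQCoh (Spec (CommRingCat.of k))) (hOY : Nonempty (OY.obj ≅ DCoh.inD (Spec (CommRingCat.of k)) (Coh.structureModule (Spec (CommRingCat.of k)))))
    (D : Set X) (hDfin : D.Finite) (hDcl : IsClosed D) (hDsm : ∀ x ∈ D, ∃ U : X.Opens, x ∈ U ∧ Smooth (U.ι ≫ (X ↘ (Spec (CommRingCat.of k)))))
    (LD : X.Modules) (hLD : PicF.IsInvertible LD)
    (hinv : ClSub.IsInverseOf LD (ClSub.idealMod (Scheme.IdealSheafData.vanishingIdeal (⟨D, hDcl⟩ : TopologicalSpace.Closeds X))))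
    (V E : Type u) [Finite E] (cv : V → Set X) (ce : E → X) (ends : E → V × V)
    (hΓ : DualGr.IsDualGraph (X ↘ (Spec (CommRingCat.of k))) cv ce ends) :
    CohB1.IsAmple (CohB1.tensorMod (DCoh.dualizingMod (X ↘ (Spec (CommRingCat.of k))) h OY 1) LD) ↔
      ∀ v : V, 0 < 2 * (@Curv2.genus k _ (Scheme.IdealSheafData.vanishingIdeal (⟨cv v, isClosed_of_mem_irreducibleComponents (cv v) (hΓ.comp_mem v)⟩ : TopologicalSpace.Closeds X)).subscheme ⟨(Scheme.IdealSheafData.vanishingIdeal (⟨cv v, isClosed_of_mem_irreducibleComponents (cv v) (hΓ.comp_mem v)⟩ : TopologicalSpace.Closeds X)).subschemeι ≫ (X ↘ (Spec (CommRingCat.of k)))⟩ : ℤ) - 2 +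
        (Nat.card {e : E // (ends e).1 ≠ (ends e).2 ∧ ((ends e).1 = v ∨ (ends e).2 = v)} : ℤ) +
        (Nat.card ↥(D ∩ cv v) : ℤ) := by
  haveI := Groth.Agent.NodeLib7.geometricallyReduced_of_atWorstNodal k X hX
  haveI : AlgebraicGeometry.IsReduced X := GeometricallyReduced.geometrically_isReduced
    (f := X ↘ Spec (CommRingCat.of k)) (𝟙 _) (𝟙 X) (X ↘ Spec (CommRingCat.of k))
    (IsPullback.of_horiz_isIso ⟨by simp⟩)
  haveI := Groth.Agent.EulerLib.isNoetherian_of_proper k (X := X)
  obtain ⟨hMi, hnum⟩ := Groth.Agent.TFPush7.PointedSet.setup k X hdim hX h OY hOY D hDfin hDcl hDsm LD hinv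
  rw [Groth.Agent.VarietyLib.isAmple_iff_deg_pos_components k hdim.le hMi]
  have key : ∀ v : V, ∀ Z : TopologicalSpace.Closeds X, (Z : Set X) = cv v →
      @Curv2.deg k _ (Scheme.IdealSheafData.vanishingIdeal Z).subscheme
        ⟨(Scheme.IdealSheafData.vanishingIdeal Z).subschemeι ≫ (X ↘ Spec (CommRingCat.of k))⟩
        ((Scheme.Modules.pullback (Scheme.IdealSheafData.vanishingIdeal Z).subschemeι).obj
          (CohB1.tensorMod (DCoh.dualizingMod (X ↘ (Spec (CommRingCat.of k))) h OY 1) LD)) 1 =
      2 * (@Curv2.genus k _ (Scheme.IdealSheafData.vanishingIdeal Z).subscheme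
        ⟨(Scheme.IdealSheafData.vanishingIdeal Z).subschemeι ≫ (X ↘ Spec (CommRingCat.of k))⟩ : ℤ) - 2 +
        (Nat.card {e : E // (ends e).1 ≠ (ends e).2 ∧ ((ends e).1 = v ∨ (ends e).2 = v)} : ℤ) +
        (Nat.card ↥(D ∩ cv v) : ℤ) := by
    intro v Z hZ
    haveI : IsIntegral (Scheme.IdealSheafData.vanishingIdeal Z).subscheme :=
      Groth.Agent.VarietyLib.isIntegral_vanishingIdeal Z (hZ ▸ (hΓ.comp_mem v).1)
    have h1 := hnum (Scheme.IdealSheafData.vanishingIdeal Z) inferInstance inferInstance
      ((Groth.Agent.VarietyLib.topologicalKrullDim_vanishingIdeal Z).trans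
        (Groth.Agent.DualMod3.components_dim_one hdim (hZ ▸ hΓ.comp_mem v)))
    rw [Scheme.IdealSheafData.coe_support_vanishingIdeal, hZ] at h1
    rw [card_edges k X hdim V E cv ce ends hΓ v, Nat.card_coe_set_eq]
    exact h1
  constructor
  · intro hpos v
    have hd := Groth.Agent.DualMod3.components_dim_one hdim (hΓ.comp_mem v)
    have h2 := hpos ⟨cv v, isClosed_of_mem_irreducibleComponents (cv v) (hΓ.comp_mem v)⟩ (hΓ.comp_mem v) hd
    rwa [key v _ rfl] at h2
  · intro hpos Z hZ _
    obtain ⟨v, hv⟩ := hΓ.comp_surjective _ hZ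
    obtain rfl : Z = ⟨cv v, isClosed_of_mem_irreducibleComponents (cv v) (hΓ.comp_mem v)⟩ :=
      TopologicalSpace.Closeds.ext hv.symm
    rw [key v _ rfl]
    exact hpos v

end Groth.Agent.S16294
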