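import Groth.Statements.S16297
import Groth.Agent.Clifford24.Lipman.VeryAmple
import Groth.Agent.AbCubeLib.ProjEmbedding

set_option autoImplicit false
universe u
open CategoryTheory CategoryTheory.Limits AlgebraicGeometry
open Curves

namespace Groth.Agent.S16297

/-- Let k be a field and X a proper scheme over k of dimension one (not assumed reduced or irreducible)
with H^1(X, O_X) = 0, and let L be an ample invertible O_X-module. Then L is very ample: for some n
there is a closed immersion i : X → P^n_k over k with i^*O(1) isomorphic to L (existence of an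
isomorphism only). -/
theorem result (k : Type u) [Field k] (X : Scheme.{u}) [X.Over (Spec (CommRingCat.of k))]
    [IsProper (X ↘ (Spec (CommRingCat.of k)))] (hdim : topologicalKrullDim X = 1)
    (h1 : Subsingleton (Coh.HH X (Coh.structureModule X) 1))
    (L : X.Modules) (hA : CohB1.IsAmple L) :
    ∃ (n : ℕ) (i : X ⟶ CohB1.ProjSpace n k), IsClosedImmersion i ∧
      i ≫ CohB1.ProjSpace.toSpec n k = X ↘ (Spec (CommRingCat.of k)) ∧
      Nonempty ((Scheme.Modules.pullback i).obj (Twist.twistProjSpace n k 1) ≅ L) := by
  let f := X ↘ Spec (CommRingCat.of k)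
  have h := Groth.Agent.Lipman24.isRelVeryAmplePn_of_ample f h1
    (fun y => ((f.fiberι y).isEmbedding.isInducing.topologicalKrullDim_le).trans hdim.le) hA
  exact Groth.Agent.AbCubeLib.exists_isClosedImmersion_projSpace f hA.1 h

end Groth.Agent.S16297
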