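import Groth.Statements.S1630
import Groth.Agent.VarietyLib.GeomPoints
import Groth.Agent.FlatMor12.GeomDescent
import Groth.Agent.AbSchLib.RigidityOver

set_option autoImplicit false
universe u
open CategoryTheory CategoryTheory.Limits AlgebraicGeometry
open Variety Groth.Agent Groth.Agent.VarietyLib

namespace Groth.Agent.S1630

/-- Let X be a scheme over k. If X has a cover by a nonempty family of open subschemes, each
geometrically irreducible over k and any two of which meet, then X is geometrically irreducible over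
k. -/
theorem result (k : Type u) [Field k] (X : Scheme.{u}) [X.Over (Spec (CommRingCat.of k))]
    (ι : Type u) (U : ι → X.Opens) (hne : Nonempty ι) (hcov : (⨆ i, U i) = ⊤)
    (hmeet : ∀ i j, ((U i : Set X) ∩ (U j : Set X)).Nonempty)
    (hU : ∀ i, GeometricallyIrreducible ((U i).ι ≫ (X ↘ (Spec (CommRingCat.of k))))) : GeometricallyIrreducible (X ↘ (Spec (CommRingCat.of k))) := by
  let f := X ↘ Spec (CommRingCat.of k)
  refine ⟨geometrically_iff_of_commRing_of_isClosedUnderIsomorphisms.2 fun K _ _ => ?_⟩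
  let π := pullback.fst f (sK k K)
  have hV : ∀ i, IsIrreducible (π ⁻¹' (U i : Set X)) := fun i => by
    let m : pullback ((U i).ι ≫ f) (sK k K) ⟶ pullback f (sK k K) :=
      pullback.map _ _ _ _ (U i).ι (𝟙 _) (𝟙 _) (Category.comp_id _) (by simp)
    have hr : Set.range m = π ⁻¹' (U i : Set X) := by
      rw [Scheme.Pullback.range_map, Scheme.Opens.range_ι]
      simp [π]
    have : IrreducibleSpace ↥(pullback ((U i).ι ≫ f) (sK k K)) :=
      pullback_of_geometrically (hU i).geometrically_irreducibleSpace K _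
    rw [← hr, ← Set.image_univ]
    exact (IrreducibleSpace.isIrreducible_univ _).image _ m.continuous.continuousOn
  have hcover : ∀ z, ∃ i, π z ∈ U i := fun z => TopologicalSpace.Opens.mem_iSup.1 (hcov.ge trivial)
  obtain ⟨i₀⟩ := hne
  refine (irreducibleSpace_def _).2 ⟨⟨(hV i₀).nonempty.some, trivial⟩, ?_⟩
  rintro A B hA hB ⟨a, -, ha⟩ ⟨b, -, hb⟩
  obtain ⟨i, hi⟩ := hcover a
  obtain ⟨j, hj⟩ := hcover b
  obtain ⟨x, hxi, hxj⟩ := hmeet i j
  obtain ⟨w, hw⟩ := surjective_fst k f (L := K) x
  have hwi : π w ∈ U i := by rw [show π w = x from hw]; exact hxi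
  have hwj : π w ∈ U j := by rw [show π w = x from hw]; exact hxj
  obtain ⟨c, hci, hcA, hcj⟩ := (hV i).isPreirreducible A (π ⁻¹' (U j : Set X)) hA ((U j).2.preimage π.continuous)
    ⟨a, hi, ha⟩ ⟨w, hwi, hwj⟩
  obtain ⟨d, -, hdA, hdB⟩ := (hV j).isPreirreducible A B hA hB ⟨c, hcj, hcA⟩ ⟨b, hj, hb⟩
  exact ⟨d, trivial, hdA, hdB⟩

end Groth.Agent.S1630
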