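import Groth.Statements.S16301
import Groth.Agent.CurveRR24.GenusZeroPoints

set_option autoImplicit false
universe u
open CategoryTheory CategoryTheory.Limits AlgebraicGeometry
open Curves

open Groth.Agent.CurveRR24 Groth.Agent.PicLib Groth.Agent.AmpleLib Groth.Agent.EulerLib Groth.Agent.Coherent

namespace Groth.Agent.S16301

/-- Let k be an infinite field and X a genus-zero curve over k, that is, an integral scheme proper over
k of dimension one with H^1(X, O_X) = 0. Let P be a closed point of X whose local ring is regular
and whose degree deg_k P = dim_k H^0(P, O_P) is least among all closed points of X with regular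
local ring, and let I_P be the ideal sheaf of the reduced point P (an invertible module, P being a
regular point of a curve; this is carried as a hypothesis). Then the Picard group of X is generated
by the class of I_P, equivalently by O_X(P): every class of an invertible O_X-module is an integer
power of the class of I_P (the group law on the Picard group is the tensor product, supplied by the
binder). (The published statement is for an arbitrary base field; this row assumes k infinite, the
case in which the published argument applies: it twice replaces an ample divisor by a member of its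
base-point-free complete linear system whose support avoids the finitely many non-regular points of
X, and over a finite field such a member need not exist.) -/
theorem result (k : Type u) [Field k] [Infinite k] (X : Scheme.{u}) [X.Over (Spec (CommRingCat.of k))]
    [IsIntegral X] [IsProper (X ↘ (Spec (CommRingCat.of k)))] (hdim : topologicalKrullDim X = 1)
    (h1 : Subsingleton (Coh.HH X (Coh.structureModule X) 1))
    (P : X) (hPc : IsClosed ({P} : Set X)) (hPreg : IsRegularLocalRing (X.presheaf.stalk P))
    (hmin : ∀ (Q : X) (hQc : IsClosed ({Q} : Set X)), IsRegularLocalRing (X.presheaf.stalk Q) →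
      Module.finrank k (Coh.HH X (ClSub.quotMod (Scheme.IdealSheafData.vanishingIdeal ⟨{P}, hPc⟩)) 0) ≤ Module.finrank k (Coh.HH X (ClSub.quotMod (Scheme.IdealSheafData.vanishingIdeal ⟨{Q}, hQc⟩)) 0))
    (hI : PicF.IsInvertible (ClSub.idealMod (Scheme.IdealSheafData.vanishingIdeal ⟨{P}, hPc⟩))) [PicGrp.Law X]
    (c : PicLoc.PicSet X) :
    c ∈ Subgroup.zpowers (PicGrp.cls (ClSub.idealMod (Scheme.IdealSheafData.vanishingIdeal ⟨{P}, hPc⟩)) hI) := by
  classical
  let I := ClSub.idealMod (Scheme.IdealSheafData.vanishingIdeal ⟨{P}, hPc⟩)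
  let _ := Curv2.resAlgebra k X P
  haveI := finite_resField hPc k
  let δ : ℤ := (Module.finrank k (X.residueField P) : ℤ)
  have hδ : 0 < δ := by
    show 0 < (Module.finrank k (X.residueField P) : ℤ)
    exact_mod_cast Module.finrank_pos
  have hdI : Curv2.deg k X I 1 = -δ := deg_ptIdeal k hPc
  obtain ⟨J, hJ, ⟨eJ⟩⟩ := exists_inverse k hI
  obtain ⟨L, hL, rfl⟩ := PicGrp.exists_eq_cls c
  let d := Curv2.deg k X L 1
  -- a representative of every power of the class
  have hpow : ∀ q : ℤ, ∃ (M : X.Modules) (hM : PicF.IsInvertible M),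
      PicGrp.cls M hM = PicGrp.cls I hI ^ q ∧ Curv2.deg k X M 1 = -(q * δ) := by
    intro q
    rcases Int.eq_nat_or_neg q with ⟨n, rfl | rfl⟩
    · refine ⟨_, isInvertible_tensorPow hI n, Subtype.ext ?_, ?_⟩
      · rw [zpow_natCast, PicGrp.cls_pow_val]; rfl
      · rw [deg_tensorPow k hdim.le hI n, hdI]; ring
    · refine ⟨_, isInvertible_tensorPow hJ n, ?_, ?_⟩
      · rw [zpow_neg, zpow_natCast, ← inv_pow, PicGrp.cls_inv_eq_cls hI hJ ⟨eJ⟩]
        exact Subtype.ext (PicGrp.cls_pow_val hJ n).symm
      · rw [deg_tensorPow k hdim.le hJ n, deg_inverse k hdim.le hI hJ eJ, hdI]; ring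
  obtain ⟨M, hM, hMc, hMd⟩ := hpow (d / δ)
  let N := CohB1.tensorMod L M
  have hN : PicF.IsInvertible N := isInvertible_tensorMod hL hM
  have hNd : Curv2.deg k X N 1 = d % δ := by
    rw [deg_tensor k hdim.le hL hM, hMd, Int.emod_def]
    show d + -(d / δ * δ) = _
    ring
  have hcls : PicGrp.cls N hN = PicGrp.cls L hL * PicGrp.cls I hI ^ (d / δ) := by
    rw [← hMc]
    exact Subtype.ext (PicGrp.cls_mul_cls_val hL hM).symm
  have hr : d % δ = 0 := by
    by_contra hne
    have hpos : 0 < Curv2.deg k X N 1 := by
      rw [hNd]
      have := Int.emod_nonneg d hδ.ne'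
      omega
    obtain ⟨Q, -, hQc, hQr, hQd⟩ := exists_regular_point_of_deg k hdim h1 hN hpos Set.finite_empty
    let _ := Curv2.resAlgebra k X Q
    have hm : Module.finrank k (Coh.HH X (ClSub.quotMod (ptIdeal P hPc)) 0) ≤
        Module.finrank k (Coh.HH X (ClSub.quotMod (ptIdeal Q hQc)) 0) := hmin Q hQc hQr
    rw [finrank_HH_zero_ptQuot hPc k, finrank_HH_zero_ptQuot hQc k] at hm
    rw [hNd] at hQd
    have hlt := Int.emod_lt_of_pos d hδ
    have : (Module.finrank k (X.residueField P) : ℤ) ≤ (Module.finrank k (X.residueField Q) : ℤ) := by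
      exact_mod_cast hm
    change (Module.finrank k (X.residueField P) : ℤ) > _ at hlt
    omega
  rw [hr] at hNd
  have hne : Nontrivial (Coh.HH X N 0) := by
    haveI := finite_HH_of_isCoh k (isCoh_of_isInvertible k hN) 0
    have hrr := riemann_roch k hdim.le hN
    have hg : Curv2.genus k X = 0 := Module.finrank_zero_of_subsingleton
    have hpos := h0_structure_pos k (X := X)
    refine Module.nontrivial_of_finrank_pos (R := k) ?_
    omega
  obtain ⟨e⟩ := (deg_nonneg_of_section k hdim.le hN hne).2.1 hNd
  have h1' : PicGrp.cls N hN = 1 := (PicGrp.cls_eq_one_iff hN).2 ⟨e⟩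
  rw [hcls] at h1'
  rw [eq_inv_of_mul_eq_one_left h1', ← zpow_neg]
  exact Subgroup.zpow_mem _ (Subgroup.mem_zpowers _) _

end Groth.Agent.S16301
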