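import Groth.Statements.S16302
import Groth.Agent.CurveRR24.GenusZeroPoints

set_option autoImplicit false
universe u
open CategoryTheory CategoryTheory.Limits AlgebraicGeometry
open Curves

open Groth.Agent.CurveRR24 Groth.Agent.PicLib Groth.Agent.AmpleLib Groth.Agent.EulerLib Groth.Agent.Coherent

namespace Groth.Agent.S16302

/-- Let k be an infinite field and X a genus-zero curve over k, that is, an integral scheme proper over
k of dimension one with H^1(X, O_X) = 0. Then the set of closed points P of X whose local ring is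
regular and whose degree deg_k P = dim_k H^0(P, O_P) is least among all closed points with regular
local ring is infinite. -/
theorem result (k : Type u) [Field k] (X : Scheme.{u}) [X.Over (Spec (CommRingCat.of k))] [Infinite k]
    [IsIntegral X] [IsProper (X ↘ (Spec (CommRingCat.of k)))] (hdim : topologicalKrullDim X = 1)
    (h1 : Subsingleton (Coh.HH X (Coh.structureModule X) 1)) :
    {P : X | ∃ hPc : IsClosed ({P} : Set X), IsRegularLocalRing (X.presheaf.stalk P) ∧
      ∀ (Q : X) (hQc : IsClosed ({Q} : Set X)), IsRegularLocalRing (X.presheaf.stalk Q) →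
        Module.finrank k (Coh.HH X (ClSub.quotMod (Scheme.IdealSheafData.vanishingIdeal ⟨{P}, hPc⟩)) 0) ≤ Module.finrank k (Coh.HH X (ClSub.quotMod (Scheme.IdealSheafData.vanishingIdeal ⟨{Q}, hQc⟩)) 0)}.Infinite := by
  classical
  haveI := Groth.Agent.EulerLib.isNoetherian_of_proper k (X := X)
  obtain ⟨V, hηV, hV⟩ := exists_open_regular k (X := X)
  haveI : CompactSpace X := inferInstance
  -- a minimal regular point
  let Pr : ℕ → Prop := fun n => ∃ (P : X) (hPc : IsClosed ({P} : Set X)),
    IsRegularLocalRing (X.presheaf.stalk P) ∧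
      Module.finrank k (Coh.HH X (ClSub.quotMod (Scheme.IdealSheafData.vanishingIdeal ⟨{P}, hPc⟩)) 0) = n
  have hex : ∃ n, Pr n := by
    haveI : JacobsonSpace X := LocallyOfFiniteType.jacobsonSpace (X ↘ Spec (CommRingCat.of k))
    obtain ⟨P, hPV, hPc⟩ := nonempty_inter_closedPoints (Z := (V : Set X)) ⟨_, hηV⟩ V.2.isLocallyClosed
    exact ⟨_, P, hPc, hV P hPV, rfl⟩
  obtain ⟨P, hPc, hPr, hPn⟩ := Nat.find_spec hex
  have hI := isInvertible_ptIdeal_of_normal k hdim hPc (isIntegrallyClosed_of_regular k hdim hPc hPr)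
  obtain ⟨J, hJ, ⟨eJ⟩⟩ := exists_inverse k hI
  let _ := Curv2.resAlgebra k X P
  haveI := finite_resField hPc k
  have hJd : Curv2.deg k X J 1 = (Module.finrank k (X.residueField P) : ℤ) := by
    rw [deg_inverse k hdim.le hI hJ eJ, deg_ptIdeal k hPc, neg_neg]
  have hpos : 0 < Curv2.deg k X J 1 := by rw [hJd]; exact_mod_cast Module.finrank_pos
  intro hfin
  obtain ⟨Q, hQF, hQc, hQr, hQd⟩ := exists_regular_point_of_deg k hdim h1 hJ hpos hfin
  refine hQF ⟨hQc, hQr, fun R hRc hRr => ?_⟩
  have hR : Nat.find hex ≤ Module.finrank k (Coh.HH X (ClSub.quotMod (Scheme.IdealSheafData.vanishingIdeal ⟨{R}, hRc⟩)) 0) :=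
    Nat.find_min' hex ⟨R, hRc, hRr, rfl⟩
  let _ := Curv2.resAlgebra k X Q
  have hQeq : Module.finrank k (Coh.HH X (ClSub.quotMod (ptIdeal Q hQc)) 0) ≤ Nat.find hex := by
    rw [← hPn]
    show _ ≤ Module.finrank k (Coh.HH X (ClSub.quotMod (ptIdeal P hPc)) 0)
    rw [finrank_HH_zero_ptQuot hQc k, finrank_HH_zero_ptQuot hPc k]
    rw [hJd] at hQd
    exact_mod_cast hQd
  exact le_trans hQeq hR

end Groth.Agent.S16302
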