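import Groth.Statements.S16303
import Groth.Agent.RatSplit13.Cover
import Groth.Agent.RatSplit13.H1Kill
import Groth.Agent.RatSplit13.H1Nil
import Groth.Agent.RatSplit13.ExcDivisor
import Groth.Agent.Coherent.BirationalFibre
import Groth.Agent.Coherent.ConnectedFibre
import Groth.Agent.Resolve13.Modification
import Groth.Agent.KPr28.OpenBC
import Groth.Agent.FSchLib.Systems
import Groth.Agent.PicLib.PicMonoid
import Groth.Agent.MorProj.OmegaAffine
import Groth.Agent.S3852

set_option autoImplicit false
set_option linter.style.haveILetI false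
set_option backward.isDefEq.respectTransparency false
set_option maxHeartbeats 2000000
universe u
open CategoryTheory CategoryTheory.Limits AlgebraicGeometry
open Resolve

namespace Groth.Agent.S16303

/-- Let k be a field and X a normal surface over k (an integral normal scheme, separated and of finite
type over k, of dimension two) whose only non-regular point is the closed point P. Let f : Y → X be
a resolution: a proper morphism from an integral scheme Y of dimension two with all local rings
regular, restricting to an isomorphism over the complement of P. Then R^1 f_* O_Y = 0 (first higher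
direct image of abelian sheaves), that is, P is a rational singularity, if and only if H^1(W, O_W) =
0 for every nonzero effective Cartier divisor W on Y (quasi-coherent ideal sheaf that is an
invertible module, with nonempty support) which is f-exceptional, that is, supported in the fibre of
f over P. (The published statement also has a third equivalent condition, the vanishing of H^1 of
the structure sheaf of the fundamental cycle of f, not restated here.) -/
theorem result (k : Type u) [Field k] (X : Scheme.{u}) [X.Over (Spec (CommRingCat.of k))]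
    [IsIntegral X] [IsSeparated (X ↘ (Spec (CommRingCat.of k)))] [LocallyOfFiniteType (X ↘ (Spec (CommRingCat.of k)))]
    [CompactSpace X] (hdim : topologicalKrullDim X = 2) (hnorm : Pi1.IsNormalScheme X)
    (P : X) (hPc : IsClosed ({P} : Set X)) (hP : ¬ IsRegularLocalRing (X.presheaf.stalk P))
    (hreg : ∀ x : X, x ≠ P → IsRegularLocalRing (X.presheaf.stalk x))
    (Y : Scheme.{u}) (f : Y ⟶ X) [IsIntegral Y] (hdimY : topologicalKrullDim Y = 2)
    (hregY : ∀ y : Y, IsRegularLocalRing (Y.presheaf.stalk y)) [IsProper f]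
    (hiso : IsIso (f ∣_ ⟨({P} : Set X)ᶜ, hPc.isOpen_compl⟩)) :
    IsZero ((Coh.RpushAb f 1).obj (Coh.toAb (Coh.structureModule Y))) ↔
      ∀ W : Y.IdealSheafData, PicF.IsInvertible (ClSub.idealMod W) → (W.support : Set Y).Nonempty →
        (W.support : Set Y) ⊆ f.base ⁻¹' {P} → Subsingleton (Coh.HH Y (ClSub.quotMod W) 1) := by
  haveI := hiso
  let U₀ : X.Opens := ⟨({P} : Set X)ᶜ, hPc.isOpen_compl⟩
  have hUne : (U₀ : Set X).Nonempty := by
    by_contra h
    rw [Set.not_nonempty_iff_eq_empty] at h
    haveI : Subsingleton X := ⟨fun a b => by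
      have h1 : ∀ z : X, z = P := fun z => not_not.1 fun hz => (Set.ext_iff.1 h z).1 hz
      rw [h1 a, h1 b]⟩
    have h0 : topologicalKrullDim X ≤ 0 := Order.krullDim_nonpos_iff_forall_isMin.2 fun C D hDC z hz =>
      (Subsingleton.elim D.2.nonempty.choose z) ▸ D.2.nonempty.choose_spec
    rw [hdim] at h0
    exact absurd h0 (by decide)
  haveI : IsLocallyNoetherian X := LocallyOfFiniteType.isLocallyNoetherian (X ↘ Spec (CommRingCat.of k))
  haveI : IsLocallyNoetherian Y := LocallyOfFiniteType.isLocallyNoetherian f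
  haveI : CompactSpace Y := QuasiCompact.compactSpace_of_compactSpace f
  haveI : AlgebraicGeometry.IsNoetherian Y := {}
  have hgen := RatSplit13.map_genericPoint f U₀ hUne
  have hgenP : f (genericPoint Y) ≠ P := by
    rw [hgen]
    intro h
    have := ((genericPoint_spec X).mem_open_set_iff U₀.2).2 ⟨hUne.choose, trivial, hUne.choose_spec⟩
    exact this h
  have hgU : genericPoint Y ∈ f ⁻¹ᵁ U₀ := hgenP
  have hbir : IsIso (f.stalkMap (genericPoint Y)) := by
    have hi : IsIso ((f ∣_ U₀).stalkMap ⟨genericPoint Y, hgU⟩) := inferInstance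
    exact ((MorphismProperty.isomorphisms CommRingCat).arrow_mk_iso_iff
      (morphismRestrictStalkMap f U₀ ⟨genericPoint Y, hgU⟩)).1 hi
  have happ := Coherent.isIso_app_of_birational f hnorm hgen hbir
  have hstalk2 : ∀ x : X, ringKrullDim (X.presheaf.stalk x) ≤ 2 := fun x => by
    rw [ringKrullDim_stalk_eq_coheight, ← hdim, DimLib.topologicalKrullDim_eq_krullDim]
    exact Order.coheight_le_krullDim x
  have hfd : ∀ x : X, topologicalKrullDim ↥(f.fiber x) ≤ 1 :=
    Resolve13.Modification.fiber_dim_le_one f hgen (ConcreteCategory.bijective_of_isIso _) hstalk2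
      ((ringKrullDim_eq_zero_of_field X.functionField).le.trans zero_le_one)
  haveI := Coherent.isQCoh_structureModule (X := Y)
  -- preimages of affine opens away from `P` are affine
  have haway : ∀ U : X.Opens, IsAffineOpen U → P ∉ U → IsAffineOpen (f ⁻¹ᵁ U) := fun U hU hPU => by
    have hle : U ≤ U₀ := fun z hz hzP => hPU (Set.mem_singleton_iff.1 hzP ▸ hz)
    have h1 : IsAffineOpen (U₀.ι ⁻¹ᵁ U) := hU.preimage_of_isOpenImmersion U₀.ι
      (by rw [Scheme.Opens.opensRange_ι]; exact hle)
    have h2 := (h1.preimage (f ∣_ U₀)).image_of_isOpenImmersion (f ⁻¹ᵁ U₀).ι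
    rw [image_morphismRestrict_preimage, Scheme.Hom.image_preimage_eq_opensRange_inf] at h2
    rw [Scheme.Opens.opensRange_ι, inf_eq_right.2 hle] at h2
    exact h2
  -- the cohomology of `O` on preimages
  have hOV : ∀ U : X.Opens, Subsingleton (Sheaf.H' (Coh.toAb (Coh.structureModule Y)) 1 (f ⁻¹ᵁ U)) ↔
      Subsingleton (Coh.HH (f ⁻¹ᵁ U).toScheme (Coh.structureModule _) 1) := fun U => by
    let e : (Coh.structureModule Y).restrict (f ⁻¹ᵁ U).ι ≅ Coh.structureModule (f ⁻¹ᵁ U).toScheme :=
      (Scheme.Modules.restrictFunctorIsoPullback (f ⁻¹ᵁ U).ι).app (Coh.structureModule Y) ≪≫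
        PicLoc.pullbackStructureIso (f ⁻¹ᵁ U).ι
    have E := ((Coherent.H'ModRestrictEquiv (f ⁻¹ᵁ U).ι (Coh.structureModule Y) ⊤ 1).trans
      (Coherent.H'Congr (Coh.toAb (Coh.structureModule Y)) 1 (Scheme.Opens.ι_image_top _))).toEquiv.subsingleton_congr
    have E' := (Coherent.HHTopEquiv ((Coh.structureModule Y).restrict (f ⁻¹ᵁ U).ι) 1).toEquiv.subsingleton_congr
    refine ⟨fun h => RatSplit13.subsingleton_HH_of_modIso e.symm 1 ?_, fun h => E.1 ?_⟩
    · exact E'.2 (E.2 h)
    · exact E'.1 (RatSplit13.subsingleton_HH_of_modIso e 1 h)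
  -- vanishing above degree one on preimages of affine opens
  have hv : ∀ U : X.Opens, IsAffineOpen U → Lipman24.NoH2 (f ⁻¹ᵁ U).toScheme := fun U hU M hM => by
    haveI := hM
    haveI : IsNoetherianRing Γ(X, U) := IsLocallyNoetherian.component_noetherian ⟨U, hU⟩
    let g := Coherent.toSpecSections f hU
    refine H8Lim.subsingleton_HH_of_fibre_dim g 1 (fun y => ?_) M 2 one_lt_two
    have hmem : ∀ w, g w = y → f ((f ⁻¹ᵁ U).ι w) = hU.fromSpec y := fun w hw => by
      rw [← hw]
      exact congrArg (fun φ : (f ⁻¹ᵁ U).toScheme ⟶ X => φ w) (Coherent.isPullback_toSpecSections f hU).w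
    let x := hU.fromSpec y
    let m : ↥(g.fiber y) → (f ⁻¹' {x} : Set Y) := fun z =>
      ⟨(f ⁻¹ᵁ U).ι (g.fiberι y z), hmem _ ((g.range_fiberι y).le ⟨z, rfl⟩)⟩
    have hm : Topology.IsInducing m :=
      Topology.IsInducing.of_comp (by fun_prop) continuous_subtype_val
        ((f ⁻¹ᵁ U).ι.isEmbedding.isInducing.comp (g.fiberι y).isEmbedding.isInducing)
    exact hm.topologicalKrullDim_le.trans (((f.fiberHomeo x).symm.isInducing.topologicalKrullDim_le).trans (hfd x))
  constructor
  · intro hR W _ _ hWsupp
    obtain ⟨U, hU, hPU, -⟩ := exists_isAffineOpen_mem_and_subset (x := P) (U := (⊤ : X.Opens)) trivial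
    let V := f ⁻¹ᵁ U
    have hWV : (W.support : Set Y) ⊆ V := fun y hy => by
      show f y ∈ U
      rw [show f y = P from hWsupp hy]
      exact hPU
    refine (RatSplit13.subsingleton_HH_quotMod_comap_iff W V hWV 1).1 ?_
    haveI := MorProj.isQCoh_idealMod (W.comap V.ι)
    exact Lipman24.subsingleton_HH_X₃ (CurveRR24.shortExact_ideal (W.comap V.ι)) 1
      ((hOV U).1 ((KPr28.isZero_rpushAb_iff _ 1).1 hR U hU)) (hv U hU _ inferInstance)
  · intro hW
    let F : Set Y := f.base ⁻¹' {P}
    by_cases hfin : F.Finite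
    · haveI : LocallyQuasiFinite f := LocallyQuasiFinite.of_finite_preimage_singleton f fun x => by
        by_cases hx : x = P
        · exact hx ▸ hfin
        · refine Set.Subsingleton.finite fun a ha b hb => ?_
          have hinj : Function.Injective (f ∣_ U₀) :=
            (f ∣_ U₀).isOpenEmbedding.injective
          have h1 : a ∈ f ⁻¹ᵁ U₀ := fun h => hx ((Set.mem_singleton_iff.1 ha).symm.trans h)
          have h2 : b ∈ f ⁻¹ᵁ U₀ := fun h => hx ((Set.mem_singleton_iff.1 hb).symm.trans h)
          have := hinj (a₁ := ⟨a, h1⟩) (a₂ := ⟨b, h2⟩) (Subtype.ext (by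
            rw [morphismRestrict_base_coe, morphismRestrict_base_coe]
            exact (Set.mem_singleton_iff.1 ha).trans (Set.mem_singleton_iff.1 hb).symm))
          exact congrArg Subtype.val this
      haveI := IsFinite.of_isProper_of_locallyQuasiFinite f
      exact Coherent.isZero_rpushAb_of_isAffineHom f _ 1 one_pos
    obtain ⟨W₀, hW₀, hW₀supp⟩ := RatSplit13.exists_effCartier_support (le_of_eq hdimY) hregY F
      (hPc.preimage f.continuous) hgenP (Coherent.isPreconnected_preimage_singleton f happ P) hfin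
    refine (KPr28.isZero_rpushAb_iff _ 1).2 fun U hU => ?_
    by_cases hPU : P ∈ U
    swap
    · exact Coherent.subsingleton_H'_qcoh_pos _ (haway U hU hPU) le_rfl
    refine (hOV U).2 ?_
    haveI := Coherent.hasInjectiveResolutions_modules Y
    haveI : IsNoetherianRing Γ(X, U) := IsLocallyNoetherian.component_noetherian ⟨U, hU⟩
    let V := f ⁻¹ᵁ U
    letI : V.toScheme.Over (Spec (CommRingCat.of Γ(X, U))) := ⟨Coherent.toSpecSections f hU⟩
    haveI : IsProper (V.toScheme ↘ Spec (CommRingCat.of Γ(X, U))) :=
      inferInstanceAs (IsProper (Coherent.toSpecSections f hU))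
    haveI : IsLocallyNoetherian V.toScheme :=
      LocallyOfFiniteType.isLocallyNoetherian (V.toScheme ↘ Spec (CommRingCat.of Γ(X, U)))
    haveI : CompactSpace V.toScheme := isCompact_iff_compactSpace.mp (f.isCompact_preimage hU.isCompact)
    haveI : AlgebraicGeometry.IsNoetherian V.toScheme := {}
    let φ := Coherent.baseHom Γ(X, U) V.toScheme
    let H := Coherent.HA φ (Coh.structureModule V.toScheme) (⊤ : V.toScheme.Opens) 1
    let p := (hU.primeIdealOf ⟨P, hPU⟩).asIdeal
    have hmemP : ∀ a : Γ(X, U), P ∈ X.basicOpen a ↔ a ∉ p := fun a => by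
      have h := SetLike.ext_iff.1 (hU.fromSpec_preimage_basicOpen a) (hU.primeIdealOf ⟨P, hPU⟩)
      change hU.fromSpec (hU.primeIdealOf ⟨P, hPU⟩) ∈ X.basicOpen a ↔ _ at h
      rw [hU.fromSpec_primeIdealOf] at h
      exact h
    have hnil : ∀ a ∈ p, ∀ x : H, ∃ n : ℕ, a ^ n • x = 0 := fun a ha =>
      RatSplit13.exists_pow_smul_H1_eq_zero f hU a
        (haway _ (hU.basicOpen a) fun h => (hmemP a).1 h ha)
    haveI hfinH : Module.Finite Γ(X, U) H :=
      Coherent.FiniteOnSupp.fin (A := Γ(X, U)) (M := Coh.structureModule V.toScheme) _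
        (Coherent.isCoh_structureModule V.toScheme) subset_rfl 1
    have hrad : p ≤ (Module.annihilator Γ(X, U) H).radical := by
      intro a ha
      obtain ⟨G, hG⟩ := (Module.finite_def.1 hfinH)
      choose n hn using fun x : G => hnil a ha x.1
      refine ⟨Finset.univ.sup n, Module.mem_annihilator.2 fun x => ?_⟩
      have hx : x ∈ Submodule.span Γ(X, U) (G : Set H) := hG.ge Submodule.mem_top
      refine Submodule.span_induction (fun y hy => ?_) (smul_zero _) (fun y z _ _ hy hz => by rw [smul_add, hy, hz, add_zero])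
        (fun c y _ hy => by rw [smul_comm, hy, smul_zero]) hx
      obtain ⟨j, hj⟩ := Nat.exists_eq_add_of_le' (Finset.le_sup (f := n) (Finset.mem_univ ⟨y, hy⟩))
      rw [hj, pow_add, mul_smul, hn ⟨y, hy⟩, smul_zero]
    obtain ⟨N₁, hN₁⟩ := Ideal.exists_pow_le_of_le_radical_of_fg hrad (IsNoetherian.noetherian p)
    obtain ⟨G, hG⟩ := IsNoetherian.noetherian (p ^ N₁)
    let I : Ideal Γ(V.toScheme, ⊤) := Ideal.span ((fun a => φ a) '' {a | a ∈ G.toList})
    let J := Scheme.IdealSheafData.ofIdealTop I
    have hJ : (J.support : Set V.toScheme) ⊆ ((W₀.comap V.ι).support : Set V.toScheme) := by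
      intro v hv'
      rw [Scheme.IdealSheafData.support_comap]
      show V.ι v ∈ (W₀.support : Set Y)
      rw [hW₀supp]
      by_contra hvP
      have hfv : f (V.ι v) ∈ U := v.2
      obtain ⟨a, hale, hva⟩ := hU.exists_basicOpen_le (V := U ⊓ U₀) ⟨f (V.ι v), hfv, hvP⟩ hfv
      have hap : a ∈ p := by
        by_contra hap
        exact (hale ((hmemP a).2 hap)).2 rfl
      have hmem : φ (a ^ N₁) ∈ I := by
        have h1 : a ^ N₁ ∈ Ideal.span (G : Set Γ(X, U)) := hG.ge (Ideal.pow_mem_pow hap N₁)
        have h2 := Ideal.mem_map_of_mem φ h1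
        rw [Ideal.map_span] at h2
        refine Ideal.span_mono ?_ h2
        exact Set.image_mono fun b hb => Finset.mem_toList.2 hb
      rw [Scheme.IdealSheafData.coe_support_ofIdealTop] at hv'
      refine (Scheme.mem_zeroLocus_iff _ _ _).1 hv' _ hmem ?_
      rw [map_pow]
      rcases Nat.eq_zero_or_pos N₁ with h0 | h0
      · rw [h0, pow_zero]
        exact (Scheme.basicOpen_of_isUnit (hf := isUnit_one)).ge trivial
      rw [Scheme.basicOpen_pow _ _ h0]
      show v ∈ V.toScheme.basicOpen (Coh.toGlobal (Coherent.toSpecSections f hU) a)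
      change v ∈ V.toScheme.basicOpen ((Coherent.toSpecSections f hU).appTop
        ((Scheme.ΓSpecIso Γ(X, U)).inv a))
      erw [← Scheme.preimage_basicOpen]
      change Coherent.toSpecSections f hU v ∈ (Spec Γ(X, U)).basicOpen ((Scheme.ΓSpecIso Γ(X, U)).inv a)
      rw [basicOpen_eq_of_affine, ← hU.fromSpec_preimage_basicOpen]
      show hU.fromSpec (Coherent.toSpecSections f hU v) ∈ X.basicOpen a
      rw [← show f (V.ι v) = hU.fromSpec (Coherent.toSpecSections f hU v) from
        congrArg (fun ψ : V.toScheme ⟶ X => ψ v) (Coherent.isPullback_toSpecSections f hU).w]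
      exact hva
    obtain ⟨n, hn⟩ := S3852.result V.toScheme (W₀.comap V.ι) J hJ
    let W := W₀ ^ (n + 1)
    have hWsupp : (W.support : Set Y) = F := by
      rw [Scheme.IdealSheafData.support_pow_succ, hW₀supp]
    have hWV : (W.support : Set Y) ⊆ V := fun y hy => by
      show f y ∈ U
      rw [show f y = P from hWsupp.le hy]
      exact hPU
    have hH1 := (RatSplit13.subsingleton_HH_quotMod_comap_iff W V hWV 1).2
      (hW W (FlatMor12.IdealModGen.isInvertible_idealMod W (Inters29.isEffCartier_pow hW₀ _))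
        (hWsupp.symm ▸ Set.Infinite.nonempty hfin) hWsupp.le)
    have hWJ : W.comap V.ι ≤ J := (FSchLib.comap_pow V.ι W₀ (n + 1)).le.trans hn
    refine RatSplit13.subsingleton_H1_of_thickening (hv U hU) (W.comap V.ι) G.toList (fun a ha x => ?_)
      (fun O => ?_) (CurveRR24.isCoh_quotMod _).1 hH1
    · refine Module.mem_annihilator.1 (hN₁ ?_) x
      exact hG.le (Ideal.subset_span (Finset.mem_toList.1 ha))
    · refine (hWJ O).trans (le_of_eq ?_)
      show Ideal.map (V.toScheme.presheaf.map (homOfLE le_top).op).hom I = _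
      rw [Ideal.map_span, Set.image_image]

end Groth.Agent.S16303
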