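import Groth.Statements.S16304
import Groth.Agent.RatSplit13.Cover
import Groth.Agent.AmpleLib.FTIdeal
import Groth.Agent.Coherent.BirationalFibre
import Groth.Agent.Props12.KerReduced

set_option autoImplicit false
set_option linter.style.haveILetI false
set_option backward.isDefEq.respectTransparency.types false
set_option maxHeartbeats 1000000
universe u
open CategoryTheory CategoryTheory.Limits AlgebraicGeometry
open Resolve

namespace Groth.Agent.S16304

/-- Let k be a field and X a normal surface over k (an integral normal scheme, separated and of finite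
type over k, of dimension two) whose only non-regular point is the closed point P, and f : Y → X a
resolution: a proper morphism from an integral scheme Y of dimension two with all local rings
regular, restricting to an isomorphism over the complement of P. Let V be an effective Cartier
divisor on Y, given by a quasi-coherent ideal sheaf O_Y(-V) that is an invertible module, such that
P lies in f(Supp V) and O_Y(-V) is f-free, that is, the counit f^* f_* O_Y(-V) → O_Y(-V) is an
epimorphism. Then O_Y(-V) is contained in m_P O_Y, the inverse image ideal sheaf of the ideal of the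
reduced point P. -/
theorem result (k : Type u) [Field k] (X : Scheme.{u}) [X.Over (Spec (CommRingCat.of k))]
    [IsIntegral X] [IsSeparated (X ↘ (Spec (CommRingCat.of k)))] [LocallyOfFiniteType (X ↘ (Spec (CommRingCat.of k)))]
    [CompactSpace X] (hdim : topologicalKrullDim X = 2) (hnorm : Pi1.IsNormalScheme X)
    (P : X) (hPc : IsClosed ({P} : Set X)) (hP : ¬ IsRegularLocalRing (X.presheaf.stalk P))
    (hreg : ∀ x : X, x ≠ P → IsRegularLocalRing (X.presheaf.stalk x))
    (Y : Scheme.{u}) (f : Y ⟶ X) [IsIntegral Y] (hdimY : topologicalKrullDim Y = 2)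
    (hregY : ∀ y : Y, IsRegularLocalRing (Y.presheaf.stalk y)) [IsProper f]
    (hiso : IsIso (f ∣_ ⟨({P} : Set X)ᶜ, hPc.isOpen_compl⟩))
    (V : Y.IdealSheafData) (hV : PicF.IsInvertible (ClSub.idealMod V)) (hPV : P ∈ f.base '' (V.support : Set Y))
    (hfree : Epi ((Scheme.Modules.pullbackPushforwardAdjunction f).counit.app (ClSub.idealMod V))) :
    V ≤ (Scheme.IdealSheafData.vanishingIdeal ⟨{P}, hPc⟩).comap f := by
  haveI := hiso
  let J : X.IdealSheafData := Scheme.IdealSheafData.vanishingIdeal ⟨{P}, hPc⟩
  let U₀ : X.Opens := ⟨({P} : Set X)ᶜ, hPc.isOpen_compl⟩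
  have hUne : (U₀ : Set X).Nonempty := by
    by_contra h
    rw [Set.not_nonempty_iff_eq_empty] at h
    haveI : Subsingleton X := ⟨fun a b => by
      have h1 : ∀ z : X, z = P := fun z => not_not.1 fun hz => (Set.ext_iff.1 h z).1 hz
      rw [h1 a, h1 b]⟩
    have h0 : topologicalKrullDim X ≤ 0 := Order.krullDim_nonpos_iff_forall_isMin.2 fun C D hDC z hz =>
      (Subsingleton.elim D.2.nonempty.choose z) ▸ D.2.nonempty.choose_spec
    rw [hdim] at h0
    exact absurd h0 (by decide)
  haveI : IsLocallyNoetherian X := LocallyOfFiniteType.isLocallyNoetherian (X ↘ Spec (CommRingCat.of k))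
  have hgen := RatSplit13.map_genericPoint f U₀ hUne
  have hgU : genericPoint Y ∈ f ⁻¹ᵁ U₀ := by
    show f (genericPoint Y) ∈ U₀
    rw [hgen]
    exact ((genericPoint_spec X).mem_open_set_iff U₀.2).2 ⟨hUne.choose, trivial, hUne.choose_spec⟩
  have hbir : IsIso (f.stalkMap (genericPoint Y)) := by
    have hi : IsIso ((f ∣_ U₀).stalkMap ⟨genericPoint Y, hgU⟩) := inferInstance
    exact ((MorphismProperty.isomorphisms CommRingCat).arrow_mk_iso_iff
      (morphismRestrictStalkMap f U₀ ⟨genericPoint Y, hgU⟩)).1 hi
  have happ := Coherent.isIso_app_of_birational f hnorm hgen hbir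
  let c : (J.comap f).subscheme ⟶ J.subscheme := (J.comapIso f).hom ≫ pullback.snd _ _
  have hc : (J.comap f).subschemeι ≫ f = c ≫ J.subschemeι := by
    rw [← J.comapIso_hom_fst f]
    simp only [c, Category.assoc, pullback.condition]
  let m := ClSub.idealModι V ≫ ClSub.unitToPush (J.comap f).subschemeι
  have hm : m = 0 := by
    haveI := hfree
    rw [← cancel_epi ((Scheme.Modules.pullbackPushforwardAdjunction f).counit.app (ClSub.idealMod V)), comp_zero]
    refine ((Scheme.Modules.pullbackPushforwardAdjunction f).counit.naturality m).symm.trans ?_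
    have h0 : (Scheme.Modules.pushforward f).map m = 0 := by
      refine Scheme.Modules.hom_ext _ _ fun U => ?_
      ext s
      show (J.comap f).subschemeι.app (f ⁻¹ᵁ U) ((ClSub.idealModι V).app (f ⁻¹ᵁ U) s) = 0
      haveI := happ U
      obtain ⟨t, ht⟩ := (ConcreteCategory.bijective_of_isIso (f.app U)).2 ((ClSub.idealModι V).app (f ⁻¹ᵁ U) s)
      rw [← ht]
      have h1 : J.subschemeι.app U t = 0 := by
        haveI : IsReduced J.subscheme := Props12.isReduced_subscheme_vanishingIdeal _
        refine eq_zero_of_basicOpen_eq_bot _ (eq_bot_iff.2 fun z hz => ?_)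
        have hzP : J.subschemeι z = P := by
          have : J.subschemeι z ∈ (J.support : Set X) := J.range_subschemeι ▸ Set.mem_range_self z
          rwa [Scheme.IdealSheafData.coe_support_vanishingIdeal] at this
        rw [← Scheme.preimage_basicOpen] at hz
        have hPt : P ∈ X.basicOpen t := hzP ▸ hz
        obtain ⟨y, hy, hyP⟩ := hPV
        have hys : y ∈ Y.basicOpen (f.app U t) := by
          rw [← Scheme.preimage_basicOpen]
          show f y ∈ X.basicOpen t
          rw [show f y = P from hyP]
          exact hPt
        obtain ⟨w, rfl⟩ : y ∈ Set.range V.subschemeι := V.range_subschemeι.symm ▸ hy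
        have hw : w ∈ V.subscheme.basicOpen (V.subschemeι.app (f ⁻¹ᵁ U) (f.app U t)) := by
          rw [← Scheme.preimage_basicOpen]; exact hys
        rw [ht, (AmpleLib.mem_range_idealModι (I := V) (f ⁻¹ᵁ U) _).1 ⟨s, rfl⟩, Scheme.basicOpen_zero] at hw
        exact hw
      have h2 := ConcreteCategory.congr_hom (Scheme.Hom.congr_app hc U) t
      simp only [Scheme.Hom.comp_app, CommRingCat.comp_apply] at h2
      refine h2.trans ?_
      refine (congrArg _ ((ConcreteCategory.comp_apply _ _ t).trans ((congrArg _ h1).trans (map_zero _)))).trans (map_zero _)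
    rw [Functor.comp_map, h0]
    haveI := (Scheme.Modules.pullbackPushforwardAdjunction f).leftAdjoint_preservesColimits
    rw [Functor.map_zero, zero_comp]
  refine Scheme.IdealSheafData.le_def.2 fun W a ha => ?_
  rw [← (J.comap f).ker_subschemeι_app W, RingHom.mem_ker]
  have ha' : V.subschemeι.app W.1 a = 0 := by
    rw [← RingHom.mem_ker, V.ker_subschemeι_app W]; exact ha
  obtain ⟨s, hs⟩ := (AmpleLib.mem_range_idealModι (I := V) W.1 a).2 ha'
  rw [← hs]
  exact ConcreteCategory.congr_hom (congrArg (fun θ : ClSub.idealMod V ⟶ _ => θ.app W.1) hm) s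

end Groth.Agent.S16304
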