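import Groth.Statements.S16305
import Groth.Agent.SurfBl13.QuadSec

set_option autoImplicit false
set_option linter.style.haveILetI false
set_option linter.unusedSectionVars false
set_option backward.isDefEq.respectTransparency.types false
set_option maxHeartbeats 4000000
universe u
open CategoryTheory CategoryTheory.Limits AlgebraicGeometry
open ProjSp
open Groth.Agent.Coherent Groth.Agent.PicLib Groth.Agent.AmpleLib Groth.Agent.EulerLib Groth.Agent.CurveRR24

namespace Groth.Agent.S16305

variable {k : Type u} [Field k] {n : ℕ} {T : Scheme.{u}}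

/-- A section of the direct image corresponds to a section upstairs, linearly. -/
theorem smul_pushforward {P : Scheme.{u}} [P.Over (Spec (CommRingCat.of k))] [T.Over (Spec (CommRingCat.of k))]
    (r : T ⟶ P) (hr : r ≫ (P ↘ Spec (CommRingCat.of k)) = T ↘ Spec (CommRingCat.of k))
    (M : T.Modules) (c : k) (x : Coh.HH P ((Scheme.Modules.pushforward r).obj M) 0) :
    (show Γ(M, ⊤) from CohBC.globalEquiv k ((Scheme.Modules.pushforward r).obj M) (c • x)) =
      baseHom k T c • (show Γ(M, ⊤) from CohBC.globalEquiv k ((Scheme.Modules.pushforward r).obj M) x) := by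
  refine (CohBC.globalEquiv_smul _ c x).trans ?_
  refine congrArg (fun b : Γ(T, ⊤) => b •
    (show Γ(M, ⊤) from CohBC.globalEquiv k ((Scheme.Modules.pushforward r).obj M) x)) ?_
  show r.appTop.hom (Coh.toGlobal (P ↘ Spec (CommRingCat.of k)) c) = Coh.toGlobal (T ↘ Spec (CommRingCat.of k)) c
  rw [← hr]
  exact (ConcreteCategory.congr_hom (Scheme.Hom.comp_appTop r (P ↘ Spec (CommRingCat.of k))) _).symm

/-- The restriction on `H^0` is the pullback of sections. -/
theorem globalEquiv_unit {P : Scheme.{u}} [P.Over (Spec (CommRingCat.of k))] (r : T ⟶ P) (M : P.Modules)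
    (s : Coh.HH P M 0) :
    (show Γ((Scheme.Modules.pullback r).obj M, ⊤) from
      CohBC.globalEquiv k ((Scheme.Modules.pushforward r).obj ((Scheme.Modules.pullback r).obj M))
        (Sheaf.H.map ((toAbFunctor P).map ((Scheme.Modules.pullbackPushforwardAdjunction r).unit.app M)) 0 s)) =
      PicLib.pullSec r (show Γ(M, ⊤) from CohBC.globalEquiv k M s) :=
  CohBC.globalEquiv_naturality ((Scheme.Modules.pullbackPushforwardAdjunction r).unit.app M) s

variable [(CohB1.ProjSpace n k).Over (Spec (CommRingCat.of k))] [T.Over (Spec (CommRingCat.of k))]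

/-- The statement, for modules equal to the twists. -/
theorem surjective_of_rank [Finite T] [DiscreteTopology T] [IsProper (T ↘ Spec (CommRingCat.of k))]
    (r : T ⟶ CohB1.ProjSpace n k) [IsClosedImmersion r]
    (hP : (CohB1.ProjSpace n k) ↘ Spec (CommRingCat.of k) = CohB1.ProjSpace.toSpec n k)
    (hr : r ≫ CohB1.ProjSpace.toSpec n k = T ↘ Spec (CommRingCat.of k))
    (hlin : ∀ s : Γ(GrTwist.twist (CohB1.polyGrading n k) ((1 : ℕ) : ℤ), ⊤), ∃ co : Fin (n + 1) → k,
      PicLib.pullSec r s = ∑ i, baseHom k T (co i) • SurfBl13.xsec r i)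
    (M₁ M₂ : (CohB1.ProjSpace n k).Modules) (e₁ : M₁ = GrTwist.twist (CohB1.polyGrading n k) ((1 : ℕ) : ℤ))
    (e₂ : M₂ = GrTwist.twist (CohB1.polyGrading n k) ((2 : ℕ) : ℤ))
    (hv : ∃ v : Coh.HH (CohB1.ProjSpace n k) ((Scheme.Modules.pushforward r).obj
        ((Scheme.Modules.pullback r).obj M₁)) 0,
      ∀ t : Coh.HH (CohB1.ProjSpace n k) ((Scheme.Modules.pushforward r).obj
        ((Scheme.Modules.pullback r).obj M₁)) 0, ∃ (s : Coh.HH (CohB1.ProjSpace n k) M₁ 0) (c : k),
        t = @id (Coh.HH (CohB1.ProjSpace n k) ((Scheme.Modules.pushforward r).obj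
          ((Scheme.Modules.pullback r).obj M₁)) 0) (Sheaf.H.map ((toAbFunctor (CohB1.ProjSpace n k)).map
            ((Scheme.Modules.pullbackPushforwardAdjunction r).unit.app M₁)) 0 s) + c • v)
    (t : Coh.HH (CohB1.ProjSpace n k) ((Scheme.Modules.pushforward r).obj
        ((Scheme.Modules.pullback r).obj M₂)) 0) :
    ∃ s : Coh.HH (CohB1.ProjSpace n k) M₂ 0, Sheaf.H.map ((toAbFunctor (CohB1.ProjSpace n k)).map
      ((Scheme.Modules.pullbackPushforwardAdjunction r).unit.app M₂)) 0 s = t := by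
  subst e₁ e₂
  obtain ⟨v, hv⟩ := hv
  have hrP : r ≫ (CohB1.ProjSpace n k) ↘ Spec (CommRingCat.of k) = T ↘ Spec (CommRingCat.of k) := by
    rw [hP]; exact hr
  let G₁ := (Scheme.Modules.pushforward r).obj
    ((Scheme.Modules.pullback r).obj (GrTwist.twist (CohB1.polyGrading n k) ((1 : ℕ) : ℤ)))
  let G₂ := (Scheme.Modules.pushforward r).obj
    ((Scheme.Modules.pullback r).obj (GrTwist.twist (CohB1.polyGrading n k) ((2 : ℕ) : ℤ)))
  have hv' : ∀ t' : Γ((Scheme.Modules.pullback r).obj (GrTwist.twist (CohB1.polyGrading n k) ((1 : ℕ) : ℤ)), ⊤),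
      ∃ (c : Fin (n + 1) → k) (d : k), t' = (∑ i, baseHom k T (c i) • SurfBl13.xsec r i) +
        baseHom k T d • (show Γ((Scheme.Modules.pullback r).obj
          (GrTwist.twist (CohB1.polyGrading n k) ((1 : ℕ) : ℤ)), ⊤) from CohBC.globalEquiv k G₁ v) := by
    intro t'
    obtain ⟨x, hx⟩ := (CohBC.globalEquiv k G₁).surjective t'
    obtain ⟨s, c, h⟩ := hv x
    obtain ⟨co, hco⟩ := hlin (show Γ(GrTwist.twist (CohB1.polyGrading n k) ((1 : ℕ) : ℤ), ⊤) from
      CohBC.globalEquiv k _ s)
    refine ⟨co, c, hx.symm.trans ((congrArg (CohBC.globalEquiv k G₁) h).trans ((map_add _ _ _).trans ?_))⟩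
    exact congrArg₂ (· + ·) ((globalEquiv_unit r _ s).trans hco) (smul_pushforward r hrP _ c v)
  obtain ⟨d, hd⟩ := SurfBl13.quadrics_span r hr _ hv'
    (show Γ((Scheme.Modules.pullback r).obj (GrTwist.twist (CohB1.polyGrading n k) ((2 : ℕ) : ℤ)), ⊤) from
      CohBC.globalEquiv k G₂ t)
  let m : Fin (n + 1) × Fin (n + 1) → Γ(GrTwist.twist (CohB1.polyGrading n k) ((2 : ℕ) : ℤ), ⊤) := fun p =>
    GrTwist.globalOf (CohB1.polyGrading n k) ⟨MvPolynomial.X p.1 * MvPolynomial.X p.2,
      (MvPolynomial.isHomogeneous_X k p.1).mul (MvPolynomial.isHomogeneous_X k p.2)⟩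
  obtain ⟨s, hs⟩ : ∃ s, (show Γ(GrTwist.twist (CohB1.polyGrading n k) ((2 : ℕ) : ℤ), ⊤) from
      CohBC.globalEquiv k (GrTwist.twist (CohB1.polyGrading n k) ((2 : ℕ) : ℤ)) s) =
        ∑ p, (show Γ(Proj (CohB1.polyGrading n k), ⊤) from baseHom k (CohB1.ProjSpace n k) (d p)) • m p :=
    (CohBC.globalEquiv k _).surjective _
  refine ⟨s, (CohBC.globalEquiv k G₂).injective ((globalEquiv_unit r _ s).trans ?_)⟩
  refine (congrArg (PicLib.pullSec r) hs).trans (Eq.trans ?_ hd.symm)
  refine (map_sum (((Scheme.Modules.pullbackPushforwardAdjunction r).unit.app _).app ⊤).hom _ _).trans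
    (Finset.sum_congr rfl fun p _ => ?_)
  refine (PicLib.pullSec_smul r _ (m p)).trans ?_
  refine congrArg (fun b : Γ(T, ⊤) => b • SurfBl13.qsec r p) ?_
  show r.appTop.hom (Coh.toGlobal ((CohB1.ProjSpace n k) ↘ Spec (CommRingCat.of k)) (d p)) =
    Coh.toGlobal (T ↘ Spec (CommRingCat.of k)) (d p)
  rw [← hrP]
  exact (ConcreteCategory.congr_hom (Scheme.Hom.comp_appTop r _) _).symm

/-- Let k be a field and Z a zero-dimensional closed subscheme of projective N-space P^N_k, with closed
immersion i : Z → P^N_k. For an integer n write ρ_n : H^0(P^N_k, O(n)) → H^0(P^N_k, i_* i^* O(n)) =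
H^0(Z, O(n)|_Z) for the map induced on global sections by the unit O(n) → i_* i^* O(n) (restriction
of sections to Z). If the image of ρ_1 has codimension at most one in H^0(Z, O(1)|_Z), in the sense
that for some v every element is of the form ρ_1(s) + c v with c in k, then ρ_2 is surjective. -/
theorem result (k : Type u) [Field k] (N : ℕ)
    (Z : (CohB1.ProjSpace N k).IdealSheafData)
    (hZ : topologicalKrullDim (Z.support : Set (CohB1.ProjSpace N k)) ≤ 0) :
    letI : (CohB1.ProjSpace N k).Over (Spec (CommRingCat.of k)) := ⟨CohB1.ProjSpace.toSpec N k⟩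
    (∃ v : (Coh.HH (CohB1.ProjSpace N k) ((Scheme.Modules.pushforward Z.subschemeι).obj
        ((Scheme.Modules.pullback Z.subschemeι).obj (Twist.twistProjSpace N k 1))) 0),
      ∀ t : (Coh.HH (CohB1.ProjSpace N k) ((Scheme.Modules.pushforward Z.subschemeι).obj
        ((Scheme.Modules.pullback Z.subschemeι).obj (Twist.twistProjSpace N k 1))) 0),
        ∃ (s : Coh.HH (CohB1.ProjSpace N k) (Twist.twistProjSpace N k 1) 0) (c : k),
        t = @id (Coh.HH (CohB1.ProjSpace N k) ((Scheme.Modules.pushforward Z.subschemeι).obj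
        ((Scheme.Modules.pullback Z.subschemeι).obj (Twist.twistProjSpace N k 1))) 0)
          (Sheaf.H.map ((SheafOfModules.toSheaf (CohB1.ProjSpace N k).ringCatSheaf).map
            ((Scheme.Modules.pullbackPushforwardAdjunction Z.subschemeι).unit.app (Twist.twistProjSpace N k 1))) 0 s) + c • v) →
    Function.Surjective (fun s : Coh.HH (CohB1.ProjSpace N k) (Twist.twistProjSpace N k 2) 0 =>
      @id (Coh.HH (CohB1.ProjSpace N k) ((Scheme.Modules.pushforward Z.subschemeι).obj
        ((Scheme.Modules.pullback Z.subschemeι).obj (Twist.twistProjSpace N k 2))) 0)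
          (Sheaf.H.map ((SheafOfModules.toSheaf (CohB1.ProjSpace N k).ringCatSheaf).map
            ((Scheme.Modules.pullbackPushforwardAdjunction Z.subschemeι).unit.app (Twist.twistProjSpace N k 2))) 0 s)) := by
  letI : (CohB1.ProjSpace N k).Over (Spec (CommRingCat.of k)) := ⟨CohB1.ProjSpace.toSpec N k⟩
  rintro ⟨v, hv⟩ t
  letI : Z.subscheme.Over (Spec (CommRingCat.of k)) := ⟨Z.subschemeι ≫ CohB1.ProjSpace.toSpec N k⟩
  haveI : IsProper (CohB1.ProjSpace.toSpec N k) := Coherent.isProper_projSpace_toSpec N k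
  haveI : IsProper (Z.subscheme ↘ Spec (CommRingCat.of k)) :=
    inferInstanceAs (IsProper (Z.subschemeι ≫ CohB1.ProjSpace.toSpec N k))
  have hdim : topologicalKrullDim Z.subscheme ≤ 0 := by
    have e := Z.subschemeι.isEmbedding.toHomeomorph.trans (Homeomorph.setCongr Z.range_subschemeι)
    rw [IsHomeomorph.topologicalKrullDim_eq e e.isHomeomorph]
    exact hZ
  haveI : Finite Z.subscheme := DimLib.finite_of_dim_le_zero (Z.subscheme ↘ Spec (CommRingCat.of k)) hdim
  haveI : DiscreteTopology Z.subscheme :=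
    DimLib.discreteTopology_of_dim_le_zero (Z.subscheme ↘ Spec (CommRingCat.of k)) hdim
  refine surjective_of_rank Z.subschemeι rfl rfl (fun s => ?_) _ _ ?_ ?_ ⟨v, hv⟩ t
  · exact SurfBl13.exists_restr_one k N Z.subschemeι s
  · exact rfl
  · exact rfl

end Groth.Agent.S16305
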