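import Groth.Statements.S16311
import Groth.Agent.Cvg5.Constants

set_option autoImplicit false
universe u
open W4c3irrattreebun

namespace Groth.Agent.S16311

/-- For a field extension K/k with field of constants k' (the relative algebraic closure of k in K), the
separable covering gonality of K over k equals that of K over k'. (The published statement takes K
to be an algebraic function field over k; this row allows any field extension K/k.) -/
theorem result (k K : Type u) [Field k] [Field K] [Algebra k K] :
    W4c3irrattreebun.scvg k K = W4c3irrattreebun.scvg (algebraicClosure k K) K := by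
  unfold W4c3irrattreebun.scvg
  set S := {e : ℕ | ∃ D : W4c3irrattreebun.CovDiag.{u} k K e, Algebra.IsSeparable K D.KC} with hS
  set S' := {e : ℕ | ∃ D : W4c3irrattreebun.CovDiag.{u} (algebraicClosure k K) K e, Algebra.IsSeparable K D.KC} with hS'
  have h1 : S' ⊆ S := by
    intro e he
    obtain ⟨D, hD⟩ := he
    obtain ⟨D', -, hD'⟩ := Cvg5.exists_down D
    exact ⟨D', hD' hD⟩
  have h2 : ∀ e ∈ S, ∃ e' ≤ e, e' ∈ S' := by
    intro e he
    obtain ⟨D, hD⟩ := he
    obtain ⟨e', hle, D', hD'⟩ := Cvg5.exists_up D
    exact ⟨e', hle, D', hD' hD⟩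
  rcases S.eq_empty_or_nonempty with h | h
  · rw [h, show S' = ∅ from Set.subset_empty_iff.1 (h ▸ h1)]
  · obtain ⟨e', hle, he'⟩ := h2 _ (Nat.sInf_mem h)
    exact le_antisymm (Nat.sInf_le (h1 (Nat.sInf_mem ⟨e', he'⟩))) ((Nat.sInf_le he').trans hle)

end Groth.Agent.S16311
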