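import Groth.Statements.S16312
import Mathlib.Topology.Algebra.Group.Basic
import Mathlib.Topology.MetricSpace.ProperSpace
import Mathlib.Analysis.Normed.Module.FiniteDimension

set_option autoImplicit false
universe u
open W4c3irrattreebun

namespace Groth.Agent.S16312

/-- Let N be a closed cone in real n-space, f a function continuous on N, positive at the nonzero points
of N and homogeneous of degree one under scaling by nonnegative reals, and Λ a discrete additive
subgroup. Then for every real c the set of points H of Λ lying in N with f(H) ≤ c is finite. (The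
published statement takes Λ to be a lattice; this row allows any discrete additive subgroup.) -/
theorem result (n : ℕ)
    (N : Set (EuclideanSpace ℝ (Fin n))) (hN : IsClosed N)
    (hcone : ∀ x ∈ N, ∀ r : ℝ, 0 ≤ r → r • x ∈ N)
    (f : EuclideanSpace ℝ (Fin n) → ℝ) (hf : ContinuousOn f N)
    (hpos : ∀ x ∈ N, x ≠ 0 → 0 < f x)
    (hhom : ∀ x ∈ N, ∀ r : ℝ, 0 ≤ r → f (r • x) = r * f x)
    (Λ : Submodule ℤ (EuclideanSpace ℝ (Fin n))) [DiscreteTopology Λ] (c : ℝ) :
    ({x : EuclideanSpace ℝ (Fin n) | x ∈ N ∧ f x ≤ c} ∩ (Λ : Set (EuclideanSpace ℝ (Fin n)))).Finite := by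
  classical
  set S : Set (EuclideanSpace ℝ (Fin n)) := {x | x ∈ N ∧ f x ≤ c} with hS
  -- the section at norm one
  let U : Set (EuclideanSpace ℝ (Fin n)) := N ∩ Metric.sphere 0 1
  have hUc : IsCompact U := (isCompact_sphere 0 1).inter_left hN
  have hbdd : Bornology.IsBounded S := by
    by_cases hU : U.Nonempty
    · obtain ⟨u, hu, hmin⟩ := hUc.exists_isMinOn hU (hf.mono Set.inter_subset_left)
      have hu0 : u ≠ 0 := by
        intro h0
        have := hu.2
        simp [h0] at this
      have hm : 0 < f u := hpos u hu.1 hu0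
      refine (Metric.isBounded_closedBall (x := (0 : EuclideanSpace ℝ (Fin n)))
        (r := max 0 (c / f u))).subset fun x hx => ?_
      rw [Metric.mem_closedBall, dist_zero_right]
      rcases eq_or_ne x 0 with rfl | hx0
      · simp
      refine le_trans ?_ (le_max_right _ _)
      rw [le_div_iff₀ hm]
      have hnx : (0 : ℝ) < ‖x‖ := norm_pos_iff.2 hx0
      have hmem : ‖x‖⁻¹ • x ∈ U := ⟨hcone x hx.1 _ (by positivity), by
        simp [norm_smul, hnx.ne']⟩
      have h1 : f u ≤ f (‖x‖⁻¹ • x) := hmin hmem
      rw [hhom x hx.1 _ (by positivity)] at h1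
      calc ‖x‖ * f u ≤ ‖x‖ * (‖x‖⁻¹ * f x) := mul_le_mul_of_nonneg_left h1 hnx.le
        _ = f x := by field_simp
        _ ≤ c := hx.2
    · refine (Bornology.isBounded_singleton (x := (0 : EuclideanSpace ℝ (Fin n)))).subset fun x hx => ?_
      by_contra hx0
      refine hU ⟨‖x‖⁻¹ • x, hcone x hx.1 _ (by positivity), ?_⟩
      have hnx : ‖x‖ ≠ 0 := norm_ne_zero_iff.2 hx0
      simp [norm_smul, hnx]
  have : DiscreteTopology Λ.toAddSubgroup := (inferInstance : DiscreteTopology Λ)
  exact Metric.finite_isBounded_inter_isClosed DiscreteTopology.isDiscrete hbdd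
    (AddSubgroup.isClosed_of_discrete (H := Λ.toAddSubgroup))

end Groth.Agent.S16312
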