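import Groth.Statements.S16314
import Groth.Agent.Cvg19.Base
open Groth.Agent

set_option autoImplicit false
set_option linter.style.haveILetI false
universe u
open scoped TensorProduct
open W4c3irrattreebun

set_option backward.isDefEq.respectTransparency.types false
set_option backward.isDefEq.respectTransparency false

namespace Groth.Agent.S16314


/-- Let K/k be a finitely generated field extension whose field of constants is k, let L/k be an
algebraic separable extension, and let K' be a field which is the fraction field of K ⊗_k L, the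
L-algebra structure of K' being the one through the tensor product. Then the separable covering
gonality of K' over L equals that of K over k. (The published statement allows any separable
extension L/k, algebraic or not; this row assumes L/k algebraic and separable.) -/
theorem result (k K L K' : Type u) [Field k] [Field K] [Field L]
    [Field K'] [Algebra k K] [Algebra k L] [Algebra.IsSeparable k L]
    (hfg : (⊤ : IntermediateField k K).FG) (hconst : algebraicClosure k K = ⊥)
    [Algebra (K ⊗[k] L) K'] [IsFractionRing (K ⊗[k] L) K'] [Algebra L K']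
    (hL : ∀ x : L, algebraMap L K' x = algebraMap (K ⊗[k] L) K' ((1 : K) ⊗ₜ[k] x)) :
    W4c3irrattreebun.scvg L K' = W4c3irrattreebun.scvg k K := by
  classical
  letI : Algebra K K' := ((algebraMap (K ⊗[k] L) K').comp
    (Algebra.TensorProduct.includeLeftRingHom)).toAlgebra
  letI : Algebra k K' := ((algebraMap K K').comp (algebraMap k K)).toAlgebra
  haveI : IsScalarTower k K K' := IsScalarTower.of_algebraMap_eq fun x => rfl
  haveI : IsScalarTower k L K' := IsScalarTower.of_algebraMap_eq fun x => by
    show algebraMap (K ⊗[k] L) K' (algebraMap k K x ⊗ₜ[k] (1 : L)) = _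
    rw [hL]
    congr 1
    rw [Algebra.algebraMap_eq_smul_one (A := K), Algebra.algebraMap_eq_smul_one (A := L),
      TensorProduct.smul_tmul]
  have hgen : ∀ S : Subfield K', (∀ x : K, algebraMap K K' x ∈ S) →
      (∀ x : L, algebraMap L K' x ∈ S) → S = ⊤ := by
    intro S hK hLS
    rw [eq_top_iff]
    rintro y -
    obtain ⟨a, b, hb, rfl⟩ := IsFractionRing.div_surjective (A := K ⊗[k] L) y
    have hall : ∀ z : K ⊗[k] L, algebraMap (K ⊗[k] L) K' z ∈ S := by
      intro z
      induction z using TensorProduct.induction_on with
      | zero => rw [map_zero]; exact zero_mem _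
      | tmul x l =>
        rw [show x ⊗ₜ[k] l = (x ⊗ₜ[k] (1 : L)) * ((1 : K) ⊗ₜ[k] l) by
          rw [Algebra.TensorProduct.tmul_mul_tmul, mul_one, one_mul], map_mul, ← hL]
        exact mul_mem (hK x) (hLS l)
      | add z w hz hw => rw [map_add]; exact add_mem hz hw
    exact div_mem (hall a) (hall b)
  haveI : Algebra.IsAlgebraic k L := Algebra.IsSeparable.isAlgebraic k L
  haveI hsepK' : Algebra.IsSeparable K K' := by
    let E := IntermediateField.adjoin K (Set.range (algebraMap L K'))
    have hE : E = ⊤ := by
      rw [eq_top_iff]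
      have h := hgen E.toSubfield E.algebraMap_mem
        fun x => IntermediateField.subset_adjoin K _ ⟨x, rfl⟩
      intro y _
      have : y ∈ E.toSubfield := h ▸ Subfield.mem_top y
      exact this
    haveI : Algebra.IsSeparable K E := (IntermediateField.isSeparable_adjoin_iff_isSeparable K K').2 (by
      rintro _ ⟨x, rfl⟩
      exact (IsSeparable.map (IsScalarTower.toAlgHom k L K')
        (IsScalarTower.toAlgHom k L K').injective
        (Algebra.IsSeparable.isSeparable k x)).tower_top K)
    exact Algebra.IsSeparable.of_algHom K E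
      ((IntermediateField.equivOfEq hE).trans IntermediateField.topEquiv).symm.toAlgHom
  unfold W4c3irrattreebun.scvg
  set S := {e : ℕ | ∃ D : W4c3irrattreebun.CovDiag.{u} L K' e, Algebra.IsSeparable K' D.KC} with hS
  set S' := {e : ℕ | ∃ D : W4c3irrattreebun.CovDiag.{u} k K e, Algebra.IsSeparable K D.KC} with hS'
  have h1 : ∀ e ∈ S', ∃ e' ≤ e, e' ∈ S := by
    rintro e ⟨D, hD⟩
    obtain ⟨e', hle, D', hD'⟩ := Cvg19.exists_ascend hgen D
    exact ⟨e', hle, D', hD'⟩
  have h2 : ∀ e ∈ S, ∃ e' ≤ e, e' ∈ S' := by
    rintro e ⟨D, hD⟩
    letI : Algebra K D.KC := ((algebraMap K' D.KC).comp (algebraMap K K')).toAlgebra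
    haveI : IsScalarTower K K' D.KC := IsScalarTower.of_algebraMap_eq fun x => rfl
    haveI : Algebra.IsSeparable K D.KC := Algebra.IsSeparable.trans K K' D.KC
    letI : Algebra k D.KC := ((algebraMap K D.KC).comp (algebraMap k K)).toAlgebra
    haveI : IsScalarTower k K D.KC := IsScalarTower.of_algebraMap_eq fun x => rfl
    letI : Algebra k D.KB := ((algebraMap L D.KB).comp (algebraMap k L)).toAlgebra
    haveI : IsScalarTower k D.KB D.KC := IsScalarTower.of_algebraMap_eq fun x => by
      show algebraMap K' D.KC (algebraMap K K' (algebraMap k K x)) =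
        algebraMap D.KB D.KC (algebraMap L D.KB (algebraMap k L x))
      rw [← IsScalarTower.algebraMap_apply L D.KB D.KC, IsScalarTower.algebraMap_apply L K' D.KC,
        ← IsScalarTower.algebraMap_apply k K K', ← IsScalarTower.algebraMap_apply k L K']
    obtain ⟨e', hle, D', hD'⟩ := Cvg19.exists_descend hfg D.t D.transc D.finrank_eq
    exact ⟨e', hle, D', hD'⟩
  rcases S.eq_empty_or_nonempty with h | h
  · rcases S'.eq_empty_or_nonempty with h' | h'
    · rw [h, h']
    · obtain ⟨e', -, he'⟩ := h1 _ h'.choose_spec
      rw [h] at he'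
      exact he'.elim
  · obtain ⟨e', hle, he'⟩ := h2 _ (Nat.sInf_mem h)
    obtain ⟨e'', hle', he''⟩ := h1 _ (Nat.sInf_mem ⟨e', he'⟩)
    exact le_antisymm ((Nat.sInf_le he'').trans hle') ((Nat.sInf_le he').trans hle)

end Groth.Agent.S16314
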