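import Groth.Statements.S16325
import Groth.Agent.BiextLib.Homology

set_option autoImplicit false
universe u v
open CategoryTheory
open W4c3biextchow

namespace Groth.Agent.S16325

/-- Let f : C ⟶ D be a chain map of ℕ-indexed chain complexes of modules over a ring R, and consider the
functor it induces between the groupoids attached to C and D (objects: degree-0 elements; morphisms
a ⟶ b: degree-1 elements with boundary b - a, modulo boundaries of degree-2 elements). This functor
is faithful if and only if f is injective on homology in degree 1. (The published statement is for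
complexes of abelian groups; this row allows modules over any ring R.) -/
theorem result
    (R : Type u) [Ring R] (C D : ChainComplex (ModuleCat.{v} R) ℕ) (f : C ⟶ D) :
    (W4c3biextchow.cxFunctor f).Faithful ↔ Mono (HomologicalComplex.homologyMap f 1) := by
  rw [BiextLib.mono_homologyMap_iff 1 f]
  constructor
  · intro hF y hy ⟨w, hw⟩
    have hy' := (BiextLib.mem_Z_succ C y).mp hy
    let φ : (⟨0⟩ : W4c3biextchow.Obj C) ⟶ ⟨0⟩ := ⟨Submodule.Quotient.mk y, by rw [W4c3biextchow.delta_mk, hy', sub_zero]⟩
    have : φ = 𝟙 _ := (W4c3biextchow.cxFunctor f).map_injective (W4c3biextchow.Hom.ext (by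
      simp only [W4c3biextchow.cxFunctor_map_cl, φ, W4c3biextchow.q1Map_mk, W4c3biextchow.id_cl, map_zero]
      exact (Submodule.Quotient.mk_eq_zero _).mpr ⟨w, hw⟩))
    obtain ⟨x, hx⟩ := (Submodule.Quotient.mk_eq_zero _).mp (congrArg W4c3biextchow.Hom.cl this)
    exact ⟨x, hx⟩
  · intro h
    refine ⟨fun {a b} φ ψ e => W4c3biextchow.Hom.ext ?_⟩
    obtain ⟨y, hy⟩ := Submodule.Quotient.mk_surjective _ ((φ : W4c3biextchow.Hom C a b).cl - (ψ : W4c3biextchow.Hom C a b).cl)
    have he := congrArg W4c3biextchow.Hom.cl e
    simp only [W4c3biextchow.cxFunctor_map_cl] at he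
    have hd := congrArg (W4c3biextchow.delta C) hy
    rw [W4c3biextchow.delta_mk, map_sub, φ.delta_cl, ψ.delta_cl, sub_self] at hd
    have h1 := congrArg (W4c3biextchow.q1Map f) hy
    rw [W4c3biextchow.q1Map_mk, map_sub, he, sub_self, Submodule.Quotient.mk_eq_zero] at h1
    obtain ⟨x, hx⟩ := h y ((BiextLib.mem_Z_succ C y).mpr hd) h1
    rw [← sub_eq_zero, ← hy, Submodule.Quotient.mk_eq_zero]
    exact ⟨x, hx⟩

end Groth.Agent.S16325
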