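import Groth.Statements.S16326
import Groth.Agent.BiextLib.Homology

set_option autoImplicit false
universe u v
open CategoryTheory
open W4c3biextchow

namespace Groth.Agent.S16326

/-- Let f : C ⟶ D be a chain map of ℕ-indexed chain complexes of modules over a ring R, and consider the
functor it induces between the groupoids attached to C and D (objects: degree-0 elements; morphisms
a ⟶ b: degree-1 elements with boundary b - a, modulo boundaries of degree-2 elements). This functor
is full if and only if f is surjective on homology in degree 1 and injective on homology in degree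
0. (The published statement is for complexes of abelian groups; this row allows modules over any
ring R.) -/
theorem result
    (R : Type u) [Ring R] (C D : ChainComplex (ModuleCat.{v} R) ℕ) (f : C ⟶ D) :
    (W4c3biextchow.cxFunctor f).Full ↔
      Epi (HomologicalComplex.homologyMap f 1) ∧ Mono (HomologicalComplex.homologyMap f 0) := by
  rw [BiextLib.epi_homologyMap_iff 1 f, BiextLib.mono_homologyMap_iff 0 f]
  constructor
  · intro hF
    refine ⟨fun z hz => ?_, fun y _ ⟨w, hw⟩ => ?_⟩
    · have hz' := (BiextLib.mem_Z_succ D z).mp hz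
      obtain ⟨φ, hφ⟩ := (W4c3biextchow.cxFunctor f).map_surjective
        (X := (⟨0⟩ : W4c3biextchow.Obj C)) (Y := ⟨0⟩)
        ⟨Submodule.Quotient.mk z, by rw [W4c3biextchow.delta_mk, hz', sub_self]⟩
      obtain ⟨y, hy⟩ := Submodule.Quotient.mk_surjective _ (φ : W4c3biextchow.Hom C _ _).cl
      have h1 := congrArg W4c3biextchow.Hom.cl hφ
      simp only [W4c3biextchow.cxFunctor_map_cl, ← hy, W4c3biextchow.q1Map_mk] at h1
      have hd := φ.delta_cl
      rw [← hy, W4c3biextchow.delta_mk, sub_self] at hd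
      obtain ⟨w, hw⟩ := (Submodule.Quotient.eq _).mp h1.symm
      exact ⟨y, (BiextLib.mem_Z_succ C y).mpr hd, w, by rw [hw]; abel⟩
    · obtain ⟨φ, hφ⟩ := (W4c3biextchow.cxFunctor f).map_surjective
        (X := (⟨0⟩ : W4c3biextchow.Obj C)) (Y := ⟨y⟩)
        ⟨Submodule.Quotient.mk w, by
          rw [W4c3biextchow.delta_mk, W4c3biextchow.cxFunctor_obj_pt, W4c3biextchow.cxFunctor_obj_pt, map_zero, sub_zero]
          exact hw⟩
      obtain ⟨x, hx⟩ := Submodule.Quotient.mk_surjective _ (φ : W4c3biextchow.Hom C _ _).cl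
      have hd := φ.delta_cl
      rw [← hx, W4c3biextchow.delta_mk, sub_zero] at hd
      exact ⟨x, hd⟩
  · rintro ⟨h1, h0⟩
    refine ⟨fun {a b} φ => ?_⟩
    obtain ⟨w, hw⟩ := Submodule.Quotient.mk_surjective _ (φ : W4c3biextchow.Hom D _ _).cl
    have hd := φ.delta_cl
    rw [← hw, W4c3biextchow.delta_mk, W4c3biextchow.cxFunctor_obj_pt, W4c3biextchow.cxFunctor_obj_pt, ← map_sub] at hd
    obtain ⟨x, hx⟩ := h0 (b.pt - a.pt) (BiextLib.mem_Z_zero C _) ⟨w, hd⟩
    have hc : (D.d 1 0).hom ((f.f 1).hom x) = (f.f 0).hom ((C.d 1 0).hom x) :=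
      congrArg (fun g => g.hom x) (f.comm 1 0)
    obtain ⟨y, hy, u, hu⟩ := h1 (w - (f.f 1).hom x) ((BiextLib.mem_Z_succ D _).mpr (by
      rw [map_sub, hd, hc, hx, sub_self]))
    refine ⟨⟨Submodule.Quotient.mk (x + y), ?_⟩, W4c3biextchow.Hom.ext ?_⟩
    · rw [W4c3biextchow.delta_mk, map_add, hx, (BiextLib.mem_Z_succ C y).mp hy, add_zero]
    · simp only [W4c3biextchow.cxFunctor_map_cl, W4c3biextchow.q1Map_mk, ← hw]
      rw [Submodule.Quotient.eq, ← neg_mem_iff, map_add]
      exact ⟨u, by rw [neg_sub, eq_sub_iff_add_eq]; rw [sub_eq_iff_eq_add] at hu; rw [hu]; abel⟩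

end Groth.Agent.S16326
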