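import Groth.Statements.S1633
import Groth.Agent.Resolve13.AnalUnram

set_option autoImplicit false
set_option backward.isDefEq.respectTransparency.types false
universe u
open CategoryTheory CategoryTheory.Limits AlgebraicGeometry
open Resolve
open scoped TensorProduct

namespace Groth.Agent.S1633

/-- Let (A, m) be a Noetherian local ring whose m-adic completion is reduced, and X an integral scheme
locally of finite type over Spec A such that some open neighbourhood of the generic point of X is
étale over Spec A. Then the normalization morphism of X is finite. -/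
theorem result (A : Type u) [CommRing A] [IsLocalRing A] [IsNoetherianRing A]
    [IsReduced (AdicCompletion (IsLocalRing.maximalIdeal A) A)]
    (X : Scheme.{u}) [IsIntegral X] (f : X ⟶ Spec (CommRingCat.of A)) [LocallyOfFiniteType f]
    (U : X.Opens) (hU : genericPoint X ∈ U) [Etale (U.ι ≫ f)]
    [QuasiCompact (X.fromSpecStalk (genericPoint X))] [QuasiSeparated (X.fromSpecStalk (genericPoint X))] :
    IsFinite (Curv2.normalizationι X) := by
  haveI : IsLocallyNoetherian X := LocallyOfFiniteType.isLocallyNoetherian f
  refine Groth.Agent.Resolve13.isFinite_normalizationι_of_isN1 fun V _ hV => ?_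
  obtain ⟨v, hv⟩ := (inferInstance : Nonempty V)
  have hηV : genericPoint X ∈ V := (genericPoint_specializes v).mem_open V.isOpen hv
  obtain ⟨g, hgle, hηg⟩ := hV.exists_basicOpen_le (V := U ⊓ V) ⟨genericPoint X, hU, hηV⟩ hηV
  let ψ : CommRingCat.of A ⟶ Γ(X, V) := Spec.preimage (hV.fromSpec ≫ f)
  let W := X.basicOpen g
  have hW : IsAffineOpen W := hV.basicOpen g
  let φ : CommRingCat.of A ⟶ Γ(X, W) := Spec.preimage (hW.fromSpec ≫ f)
  have hcomp : ψ ≫ X.presheaf.map (homOfLE (X.basicOpen_le g)).op = φ := by
    apply Spec.map_injective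
    rw [Spec.map_comp, Spec.map_preimage, Spec.map_preimage, IsAffineOpen.map_fromSpec_assoc]
  have hψ : ψ.hom.FiniteType :=
    (HasRingHomProperty.Spec_iff (P := @LocallyOfFiniteType)).1 (by
      rw [Spec.map_preimage]; infer_instance)
  have hφ : φ.hom.Etale := (HasRingHomProperty.Spec_iff (P := @Etale)).1 (by
    rw [Spec.map_preimage]
    have hle : W ≤ U := fun x hx => (hgle hx).1
    rw [show hW.fromSpec ≫ f = (hW.isoSpec.inv ≫ X.homOfLE hle) ≫ (U.ι ≫ f) by
      rw [Category.assoc, X.homOfLE_ι_assoc, ← Category.assoc]; rfl]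
    infer_instance)
  algebraize [ψ.hom, φ.hom]
  haveI : Nonempty W := ⟨⟨_, hηg⟩⟩
  let r : Γ(X, V) →ₐ[A] Γ(X, W) :=
    { (X.presheaf.map (homOfLE (X.basicOpen_le g)).op).hom with
      commutes' := fun a => ConcreteCategory.congr_hom hcomp a }
  have hr : Function.Injective r := by
    intro a b hab
    apply X.germToFunctionField_injective V
    have h1 : ∀ c, X.germToFunctionField W (r c) = X.germToFunctionField V c := fun c =>
      TopCat.Presheaf.germ_res_apply X.presheaf (homOfLE (X.basicOpen_le g)) _ _ c
    rw [← h1 a, ← h1 b, hab]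
  haveI : Module.Flat A (AdicCompletion (IsLocalRing.maximalIdeal A) A) := inferInstance
  haveI : IsReduced (AdicCompletion (IsLocalRing.maximalIdeal A) A ⊗[A] Γ(X, W)) :=
    Groth.Agent.HenselLib.isReduced_of_etale (AdicCompletion (IsLocalRing.maximalIdeal A) A) _
  haveI : IsReduced (Γ(X, V) ⊗[A] AdicCompletion (IsLocalRing.maximalIdeal A) A) :=
    isReduced_of_injective
      ((Algebra.TensorProduct.comm A Γ(X, W) (AdicCompletion (IsLocalRing.maximalIdeal A) A)).toAlgHom.comp
        (Algebra.TensorProduct.map r (AlgHom.id A _)))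
      (fun a b h => Module.Flat.rTensor_preserves_injective_linearMap (M := AdicCompletion (IsLocalRing.maximalIdeal A) A) r.toLinearMap hr ((Algebra.TensorProduct.comm A Γ(X, W) (AdicCompletion (IsLocalRing.maximalIdeal A) A)).injective h))
  exact Groth.Agent.Resolve13.isN1_of_isReduced_baseChange A Γ(X, V)

end Groth.Agent.S1633
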