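import Groth.Statements.S16331
import Groth.Agent.BiextLib.Split

set_option autoImplicit false
universe v
open CategoryTheory
open W4c3biextchow

namespace Groth.Agent.S16331

/-- Let f : A' ⟶ A be a chain map of ℕ-indexed chain complexes of free abelian groups which is injective
in every degree, with free degreewise quotients A_q / f(A'_q), and a quasi-isomorphism; let h' : A'
⟶ B be a chain map to another complex of free abelian groups and g₁, g₂ : A ⟶ A' two chain maps with
f ≫ g₁ = f ≫ g₂ = 𝟙. Consider the functors induced by g₁ ≫ h' and g₂ ≫ h' between the groupoids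
attached to A and B (objects: degree-0 elements; morphisms a ⟶ b: degree-1 elements with boundary b
- a, modulo boundaries of degree-2 elements). Then there is a natural isomorphism between these two
functors whose component at every object of the form f(a'), a' a degree-0 element of A', is the zero
class, i.e. the identity morphism of h'(a'). -/
theorem result
    (A' A B : ChainComplex (ModuleCat.{v} ℤ) ℕ) (f : A' ⟶ A) (h' : A' ⟶ B)
    [∀ q, Module.Free ℤ (A'.X q)] [∀ q, Module.Free ℤ (A.X q)] [∀ q, Module.Free ℤ (B.X q)]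
    (hf : ∀ q, Function.Injective (f.f q).hom)
    (hq : ∀ q, Module.Free ℤ ((A.X q) ⧸ LinearMap.range (f.f q).hom)) [QuasiIso f]
    (g₁ g₂ : A ⟶ A') (h₁ : f ≫ g₁ = 𝟙 A') (h₂ : f ≫ g₂ = 𝟙 A') :
    ∃ N : W4c3biextchow.cxFunctor (g₁ ≫ h') ≅ W4c3biextchow.cxFunctor (g₂ ≫ h'),
      ∀ a : W4c3biextchow.Obj A',
        (N.hom.app ((W4c3biextchow.cxFunctor f).obj a) : W4c3biextchow.Hom B _ _).cl = 0 := by
  have key : ∀ {M : Type v} [AddCommGroup M] (i j : Module ℤ M), @Module.Free ℤ M _ _ i →
      @Module.Projective ℤ _ M _ j := by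
    intro M _ i j h
    obtain rfl : i = j := Subsingleton.elim _ _
    exact Module.Projective.of_free
  have : ∀ q, Module.Projective ℤ ((BiextLib.coker f).X q) := fun q =>
    key (M := (A.X q) ⧸ LinearMap.range (f.f q).hom) _ _ (hq q)
  obtain ⟨H, hH, h0, hs⟩ := BiextLib.exists_homotopy_data f (BiextLib.cokerπ f) hf (BiextLib.cokerπ_surjective f)
    (BiextLib.cokerπ_exact f) g₁ g₂ h₁ h₂
  have hd : ∀ x, (B.d 1 0).hom ((h'.f 1).hom x) = (h'.f 0).hom ((A'.d 1 0).hom x) := fun x =>
    BiextLib.d_comm h' 1 0 x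
  let c : W4c3biextchow.Obj A → W4c3biextchow.Q1 B := fun a => Submodule.Quotient.mk ((h'.f 1).hom (H 0 a.pt))
  have hc : ∀ a : W4c3biextchow.Obj A, W4c3biextchow.delta B (c a) =
      ((g₁ ≫ h').f 0).hom a.pt - ((g₂ ≫ h').f 0).hom a.pt := fun a => by
    simp [c, hd, ← h0 a.pt, map_sub]
  let I : ∀ a, (W4c3biextchow.cxFunctor (g₁ ≫ h')).obj a ≅ (W4c3biextchow.cxFunctor (g₂ ≫ h')).obj a := fun a =>
    { hom := ⟨-c a, by rw [map_neg, hc, neg_sub]; rfl⟩
      inv := ⟨c a, by rw [hc]; rfl⟩
      hom_inv_id := W4c3biextchow.Hom.ext (by simp)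
      inv_hom_id := W4c3biextchow.Hom.ext (by simp) }
  refine ⟨NatIso.ofComponents I fun {a b} φ => W4c3biextchow.Hom.ext ?_, fun a => ?_⟩
  · obtain ⟨x, hx⟩ := Submodule.Quotient.mk_surjective _ (φ : W4c3biextchow.Hom A a b).cl
    have hφ := φ.delta_cl
    rw [← hx, W4c3biextchow.delta_mk] at hφ
    have hsx := congrArg (h'.f 1).hom (hs 0 x)
    simp only [map_sub, map_add, hφ] at hsx
    simp only [W4c3biextchow.comp_cl, W4c3biextchow.cxFunctor_map_cl, ← hx, W4c3biextchow.q1Map_mk,
      HomologicalComplex.comp_f, ModuleCat.hom_comp, LinearMap.comp_apply, I, c]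
    rw [← Submodule.Quotient.mk_neg, ← Submodule.Quotient.mk_neg, ← Submodule.Quotient.mk_add,
      ← Submodule.Quotient.mk_add, Submodule.Quotient.eq]
    refine ⟨(h'.f 2).hom (H 1 x), ?_⟩
    rw [BiextLib.d_comm h' 2 1, eq_comm]
    rw [sub_eq_iff_eq_add] at hsx
    rw [hsx]
    abel
  · change -c _ = 0
    simp [c, hH]

end Groth.Agent.S16331
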