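import Groth.Statements.S16332
import Groth.Agent.BiextLib.Tensor

set_option autoImplicit false
universe v
open CategoryTheory MonoidalCategory
open W4c3biextchow

namespace Groth.Agent.S16332

/-- Let R be a commutative ring, C an ℕ-indexed chain complex of R-modules whose degree-0 term C_0 is a
free R-module, G an R-module, and π : P ⟶ G[0] a quasi-isomorphism from an ℕ-indexed chain complex P
of free R-modules onto G placed in degree 0 (a free resolution of G), so that the tensor product of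
complexes C ⊗ P represents the derived tensor product of C and G. Then the map induced by π on first
homology, H_1(C ⊗ P) → H_1(C ⊗ G[0]), is an isomorphism: in degree 1 the derived and the plain
tensor product with G have the same homology. (The published statement is over the integers, for
complexes vanishing in negative degrees with C_0 free abelian; this row allows any commutative ring
R and R-modules in the same universe as R.) -/
theorem result
    (R : Type v) [CommRing R] (C P : ChainComplex (ModuleCat.{v} R) ℕ) (G : ModuleCat.{v} R)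
    [Module.Free R (C.X 0)] [∀ q, Module.Free R (P.X q)]
    (π : P ⟶ (ChainComplex.single₀ (ModuleCat.{v} R)).obj G) [QuasiIso π] :
    IsIso (HomologicalComplex.homologyMap (C ◁ π) 1) := by
  let L := (ChainComplex.single₀ (ModuleCat.{v} R)).obj G
  have hL : ∀ j, ∀ y : L.X (j + 1), y = 0 := fun j y => by
    have := ModuleCat.subsingleton_of_isZero (HomologicalComplex.isZero_single_obj_X (ComplexShape.down ℕ) 0 G (j + 1) (by simp))
    exact Subsingleton.elim (α := L.X (j + 1)) _ _
  have hLT : ∀ i j (t : TensorProduct R (C.X i) (L.X (j + 1))), t = 0 := fun i j t => by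
    induction t using TensorProduct.induction_on with
    | zero => rfl
    | tmul c y => rw [hL j y, TensorProduct.tmul_zero]
    | add a b ha hb => rw [ha, hb, add_zero]
  have hπ0 : Function.Surjective (π.f 0).hom := fun g => by
    obtain ⟨y, -, w, hw⟩ := (BiextLib.epi_homologyMap_iff 0 π).mp (BiextLib.quasiIso_epi 0 π) g (BiextLib.mem_Z_zero L g)
    exact ⟨y, by rw [hw, hL 0 w, map_zero, add_zero]⟩
  have hex0 : Function.Exact (P.d 1 0).hom (π.f 0).hom := fun y => by
    refine ⟨fun hy => ?_, ?_⟩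
    · obtain ⟨w, hw⟩ := (BiextLib.mono_homologyMap_iff 0 π).mp (BiextLib.quasiIso_mono 0 π) y (BiextLib.mem_Z_zero P y)
        ⟨0, by rw [map_zero, hy]⟩
      exact ⟨w, hw⟩
    · rintro ⟨w, rfl⟩
      rw [← BiextLib.d_comm π 1 0, hL 0 ((π.f 1).hom w), map_zero]
  have hex1 : Function.Exact (P.d 2 1).hom (P.d 1 0).hom := fun y => by
    refine ⟨fun hy => ?_, ?_⟩
    · obtain ⟨w, hw⟩ := (BiextLib.mono_homologyMap_iff 1 π).mp (BiextLib.quasiIso_mono 1 π) y
        ((BiextLib.mem_Z_succ P y).mpr hy) ⟨0, by rw [map_zero, hL 0 ((π.f 1).hom y)]⟩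
      exact ⟨w, hw⟩
    · rintro ⟨w, rfl⟩
      exact BiextLib.d_d P 2 1 0 w
  have hmono : Mono (HomologicalComplex.homologyMap (C ◁ π) 1) := by
    rw [BiextLib.mono_homologyMap_iff]
    intro x hx hw
    obtain ⟨w, hw⟩ := hw
    obtain ⟨a, b, rfl⟩ := BiextLib.exists_decomp_one C P x
    have hspan : w ∈ LinearMap.range (BiextLib.ιT C L 2 0 2 rfl) := BiextLib.span_ιT C L 2 _ (fun i j h t => by
      rcases j with _ | j
      · obtain rfl : i = 2 := by omega
        exact ⟨t, rfl⟩
      · rw [hLT i j t, map_zero]; exact zero_mem _) w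
    obtain ⟨u', rfl⟩ := hspan
    obtain ⟨u, rfl⟩ := LinearMap.lTensor_surjective (C.X 2) hπ0 u'
    rw [map_add, BiextLib.map_ιT, BiextLib.map_ιT, hLT 0 0 ((π.f 1).hom.lTensor (C.X 0) b), LinearMap.map_zero] at hw
    simp only [add_zero] at hw
    rw [BiextLib.d_ιT_left C L 1 1 rfl,
      ← LinearMap.map_smul_of_tower] at hw
    have ha := BiextLib.ιT_injective C L 1 0 1 rfl hw
    rw [← LinearMap.comp_apply, LinearMap.rTensor_comp_lTensor, ← LinearMap.lTensor_comp_rTensor, LinearMap.comp_apply,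
      ← LinearMap.map_smul_of_tower, eq_comm, ← sub_eq_zero, ← map_sub] at ha
    obtain ⟨c, hc⟩ := (lTensor_exact (C.X 1) hex0 hπ0 _).mp ha
    let v : (C ⊗ P).X 2 := BiextLib.ιT C P 2 0 2 rfl u + BiextLib.sgn₂ 1 1 • BiextLib.ιT C P 1 1 2 rfl c
    have hv : ∃ b', (C ⊗ P).d 2 1 v = BiextLib.ιT C P 1 0 1 rfl a + BiextLib.ιT C P 0 1 1 rfl b' := by
      refine ⟨BiextLib.sgn₂ 1 1 • BiextLib.sgn₁ 1 1 • ((C.d 1 0).hom.rTensor (P.X 1) c), ?_⟩
      change ((C ⊗ P).d 2 1).hom v = _
      rw [map_add, LinearMap.map_smul_of_tower, BiextLib.d_ιT_left C P 1 1 rfl, BiextLib.d_ιT_both C P 0 0 1 rfl,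
        smul_add, smul_smul (BiextLib.sgn₂ 1 1) (BiextLib.sgn₂ 1 1), Int.units_mul_self, one_smul, hc,
        map_sub, LinearMap.map_smul_of_tower, LinearMap.map_smul_of_tower, LinearMap.map_smul_of_tower]
      abel
    obtain ⟨b', hb'⟩ := hv
    have hb'Z : BiextLib.ιT C P 0 1 1 rfl (b - b') ∈ BiextLib.Z (C ⊗ P) 1 := by
      have := sub_mem hx (BiextLib.d_mem_Z (C ⊗ P) 1 v)
      rw [show ((C ⊗ P).d (1 + 1) 1).hom v = _ from hb', add_sub_add_left_eq_sub, ← map_sub] at this
      exact this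
    rw [BiextLib.mem_Z_succ, BiextLib.d_ιT_right C P 0 0 rfl, smul_eq_zero_iff_eq] at hb'Z
    have : Module.Flat R (C.X 0) := inferInstance
    obtain ⟨e, he⟩ := (Module.Flat.lTensor_exact (C.X 0) hex1 _).mp
      (BiextLib.ιT_injective C P 0 0 0 rfl (hb'Z.trans (map_zero _).symm))
    refine ⟨v + BiextLib.sgn₂ 0 2 • BiextLib.ιT C P 0 2 2 rfl e, ?_⟩
    rw [map_add, LinearMap.map_smul_of_tower, BiextLib.d_ιT_right C P 1 1 rfl, smul_smul, Int.units_mul_self,
      one_smul, show ((C ⊗ P).d (1 + 1) 1).hom v = _ from hb', he, map_sub]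
    abel
  have hepi : Epi (HomologicalComplex.homologyMap (C ◁ π) 1) := by
    rw [BiextLib.epi_homologyMap_iff]
    intro z hz
    obtain ⟨g, b₀, rfl⟩ := BiextLib.exists_decomp_one C L z
    rw [hLT 0 0 b₀, LinearMap.map_zero] at hz ⊢
    simp only [add_zero] at hz ⊢
    obtain ⟨a, rfl⟩ := LinearMap.lTensor_surjective (C.X 1) hπ0 g
    rw [BiextLib.mem_Z_succ, BiextLib.d_ιT_left C L 0 0 rfl, smul_eq_zero_iff_eq] at hz
    have hz' := BiextLib.ιT_injective C L 0 0 0 rfl (hz.trans (map_zero _).symm)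
    rw [← LinearMap.comp_apply, LinearMap.rTensor_comp_lTensor, ← LinearMap.lTensor_comp_rTensor,
      LinearMap.comp_apply] at hz'
    obtain ⟨b, hb⟩ := (lTensor_exact (C.X 0) hex0 hπ0 _).mp hz'
    refine ⟨BiextLib.ιT C P 1 0 1 rfl a - (BiextLib.sgn₂ 0 1 * BiextLib.sgn₁ 1 0) • BiextLib.ιT C P 0 1 1 rfl b,
      ?_, 0, ?_⟩
    · rw [BiextLib.mem_Z_succ, map_sub, LinearMap.map_smul_of_tower, BiextLib.d_ιT_left C P 0 0 rfl,
        BiextLib.d_ιT_right C P 0 0 rfl, hb, smul_smul, mul_comm, ← mul_assoc, Int.units_mul_self, one_mul, sub_self]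
    · rw [map_sub, LinearMap.map_smul_of_tower, BiextLib.map_ιT, BiextLib.map_ιT,
        hLT 0 0 ((π.f 1).hom.lTensor (C.X 0) b)]
      simp
      rfl
  exact isIso_of_mono_of_epi _

end Groth.Agent.S16332
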