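import Groth.Statements.S16335
import Mathlib.Algebra.Algebra.Bilinear
import Mathlib.Algebra.BigOperators.GroupWithZero.Action

set_option autoImplicit false
universe u v w w'
open TensorProduct
open InvTh

namespace Groth.Agent.S16335

/-- Let `R` be a commutative ring with an action of a finite group `Γ` by ring automorphisms such that
the order of `Γ` is invertible in `R`, and let `A → R` be injective with image exactly the
invariants `R^Γ`, the action being `A`-linear. Then for every commutative `A`-algebra `S`, with `Γ`
acting on `S ⊗_A R` through the factor `R`, the map `S → S ⊗_A R`, `s ↦ s ⊗ 1`, is injective and its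
image is exactly the set of `Γ`-fixed elements: `S ≅ (S ⊗_A R)^Γ`. No flatness of `S` over `A` is
assumed; the invertibility of the order of `Γ` replaces it. This is the affine statement that for a
tame quotient the coarse space commutes with arbitrary base change. (The published lemma is the
statement that the coarse moduli space of a tame Deligne–Mumford stack commutes with arbitrary base
change, whose proof reduces to this ring statement. The published lemma also asserts the analogous
statement for the reduced fibre product when the base-change scheme is reduced; that clause is not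
part of this row.) -/
theorem result
    (A : Type u) [CommRing A] (R : Type v) [CommRing R] [Algebra A R]
    (Γ : Type w) [Group Γ] [Finite Γ] [MulSemiringAction Γ R] [SMulCommClass Γ A R]
    [Algebra.IsInvariant A R Γ] (hinj : Function.Injective (algebraMap A R))
    (hΓ : IsUnit (Nat.card Γ : R))
    (S : Type w') [CommRing S] [Algebra A S] :
    Function.Injective (fun s : S => s ⊗ₜ[A] (1 : R)) ∧
      ∀ x : S ⊗[A] R,
        (∀ γ : Γ, Algebra.TensorProduct.map (AlgHom.id A S) (MulSemiringAction.toAlgHom A R γ) x = x) →
          x ∈ Set.range (fun s : S => s ⊗ₜ[A] (1 : R)) := by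
  have := Fintype.ofFinite Γ
  have hc : ∀ δ : Γ, δ • (hΓ.unit⁻¹ : Rˣ).val = (hΓ.unit⁻¹ : Rˣ).val := fun δ => by
    have h1 : δ • (Nat.card Γ : R) = (Nat.card Γ : R) := map_natCast (MulSemiringAction.toRingHom Γ R δ) _
    have h2 := congrArg (δ • ·) hΓ.val_inv_mul
    simp only [smul_mul', smul_one, h1] at h2
    exact hΓ.mul_right_cancel (h2.trans hΓ.val_inv_mul.symm)
  let T : R →ₗ[A] R := LinearMap.mulLeft A (hΓ.unit⁻¹ : Rˣ).val ∘ₗ ∑ γ : Γ, DistribSMul.toLinearMap A R γ
  have hTfix : ∀ (r : R) (δ : Γ), δ • T r = T r := fun r δ => by
    simp only [T, LinearMap.coe_comp, Function.comp_apply, LinearMap.mulLeft_apply, LinearMap.sum_apply, DistribSMul.toLinearMap_apply, smul_mul', hc, Finset.smul_sum]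
    congr 1
    exact Fintype.sum_equiv (Equiv.mulLeft δ) _ _ fun γ => by simp [mul_smul]
  choose e he using fun r : R => Algebra.IsInvariant.isInvariant (A := A) (G := Γ) (T r) (hTfix r)
  let E : R →ₗ[A] A :=
    { toFun := e
      map_add' := fun x y => hinj (by rw [map_add, he, he, he, map_add])
      map_smul' := fun a x => hinj (by rw [RingHom.id_apply, he, map_smul, Algebra.smul_def, ← he, smul_eq_mul, map_mul]) }
  have hE1 : E 1 = 1 := hinj (by
    show algebraMap A R (e 1) = _
    rw [he, map_one (algebraMap A R)]
    simp only [T, LinearMap.coe_comp, Function.comp_apply, LinearMap.mulLeft_apply, LinearMap.sum_apply, DistribSMul.toLinearMap_apply, smul_one, Finset.sum_const, Finset.card_univ, nsmul_one]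
    rw [← Nat.card_eq_fintype_card, hΓ.val_inv_mul])
  let F : S ⊗[A] R →ₗ[A] S := (TensorProduct.rid A S).toLinearMap ∘ₗ E.lTensor S
  refine ⟨Function.LeftInverse.injective (g := F) fun s => by simp [F, hE1], fun x hx => ⟨F x, ?_⟩⟩
  have h1 : ∀ y : S ⊗[A] R, F y ⊗ₜ[A] (1 : R) = LinearMap.lTensor S T y := by
    intro y
    induction y using TensorProduct.induction_on with
    | zero => simp
    | add a b ha hb => simp only [map_add, TensorProduct.add_tmul, ha, hb]
    | tmul s r =>
      simp only [F, LinearMap.coe_comp, Function.comp_apply, LinearMap.lTensor_tmul, LinearEquiv.coe_coe, TensorProduct.rid_tmul]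
      rw [TensorProduct.smul_tmul, show E r • (1 : R) = T r from by rw [Algebra.smul_def, mul_one]; exact he r]
  show F x ⊗ₜ[A] (1 : R) = x
  rw [h1, LinearMap.lTensor_comp, LinearMap.comp_apply]
  have h2 : ∀ γ : Γ, LinearMap.lTensor S (DistribSMul.toLinearMap A R γ) x = x := fun γ => by
    conv_rhs => rw [← hx γ]
    rfl
  rw [← LinearMap.coe_lTensorHom, map_sum, LinearMap.sum_apply]
  simp only [LinearMap.coe_lTensorHom, h2, Finset.sum_const, Finset.card_univ]
  rw [map_nsmul]
  clear h1 h2 hx
  induction x using TensorProduct.induction_on with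
  | zero => simp
  | add a b ha hb => rw [map_add, nsmul_add, ha, hb]
  | tmul s r =>
    rw [LinearMap.lTensor_tmul, LinearMap.mulLeft_apply, ← TensorProduct.tmul_smul, nsmul_eq_mul, ← mul_assoc,
      mul_comm (Fintype.card Γ : R), ← Nat.card_eq_fintype_card, hΓ.val_inv_mul, one_mul]

end Groth.Agent.S16335
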