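import Groth.Statements.S16337
import Mathlib.Algebra.Module.BigOperators
import Mathlib.RingTheory.Ideal.Maps

set_option autoImplicit false
universe u v w
open InvTh

namespace Groth.Agent.S16337

/-- Let `A` be a commutative ring, `Γ` a finite group whose order is invertible in `A`, `M` an
`A`-module with an `A`-linear action of `Γ`, and `I` an ideal of `A`. Then reduction modulo `I`
induces a bijection `M^Γ / I·M^Γ ≅ (M / IM)^Γ`: (a) an element of `M` fixed by `Γ` modulo `IM` is
congruent modulo `IM` to a `Γ`-fixed element, and (b) a `Γ`-fixed element lying in `IM` lies in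
`I·M^Γ`, where `M^Γ` is the submodule of `Γ`-fixed elements. (The published lemma says that
push-forward to the coarse space of a tame stack over a complete local base commutes with reduction
modulo powers of the maximal ideal; this row is the module statement its proof establishes, for an
arbitrary ideal.) -/
theorem result
    (A : Type u) [CommRing A] (Γ : Type v) [Group Γ] [Finite Γ] (hΓ : IsUnit (Nat.card Γ : A))
    (M : Type w) [AddCommGroup M] [Module A M] [DistribMulAction Γ M] [SMulCommClass Γ A M]
    (I : Ideal A) :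
    (∀ x : M, (∀ γ : Γ, γ • x - x ∈ I • (⊤ : Submodule A M)) →
        ∃ y : M, (∀ γ : Γ, γ • y = y) ∧ x - y ∈ I • (⊤ : Submodule A M)) ∧
      ∀ y : M, (∀ γ : Γ, γ • y = y) → y ∈ I • (⊤ : Submodule A M) →
        y ∈ I • Submodule.span A {m : M | ∀ γ : Γ, γ • m = m} := by
  have := Fintype.ofFinite Γ
  set c : A := hΓ.unit⁻¹.val
  have hc : c * (Fintype.card Γ : A) = 1 := by rw [← Nat.card_eq_fintype_card]; exact hΓ.val_inv_mul
  let T : M →ₗ[A] M := c • ∑ γ : Γ, DistribSMul.toLinearMap A M γ
  have hT : ∀ m, T m = c • ∑ γ : Γ, γ • m := fun m => by simp [T]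
  have hfix : ∀ (m : M) (δ : Γ), δ • T m = T m := fun m δ => by
    rw [hT, smul_comm, Finset.smul_sum]
    congr 1
    exact Fintype.sum_equiv (Equiv.mulLeft δ) _ _ fun γ => by simp [mul_smul]
  constructor
  · intro x hx
    refine ⟨T x, hfix x, ?_⟩
    have : x - T x = - (c • ∑ γ : Γ, (γ • x - x)) := by
      rw [hT, Finset.sum_sub_distrib, Finset.sum_const, Finset.card_univ, ← Nat.cast_smul_eq_nsmul A, smul_sub, smul_smul, hc, one_smul, neg_sub]
    rw [this]
    exact Submodule.neg_mem _ (Submodule.smul_mem _ _ (Submodule.sum_mem _ fun γ _ => hx γ))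
  · intro y hy hyI
    have hTy : T y = y := by
      rw [hT, Finset.sum_congr rfl fun γ _ => hy γ, Finset.sum_const, Finset.card_univ, ← Nat.cast_smul_eq_nsmul A, smul_smul, hc, one_smul]
    rw [← hTy]
    have := Submodule.mem_map_of_mem (f := T) hyI
    rw [Submodule.map_smul''] at this
    refine Submodule.smul_mono le_rfl ?_ this
    rintro _ ⟨m, -, rfl⟩
    exact Submodule.subset_span (hfix m)

end Groth.Agent.S16337
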