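import Groth.Statements.S16343
import Mathlib
import Groth.Prelude

set_option linter.all false

set_option autoImplicit false
open KatoHom

open scoped Pointwise

namespace Groth.Agent.S16343

theorem split_number (P : Set ℕ) (n : ℕ) : 0 < n → ∃ a b : ℕ, n = a * b ∧ 0 < a ∧ 0 < b ∧
    (∀ p : ℕ, p.Prime → p ∣ a → p ∈ P) ∧ (∀ p : ℕ, p.Prime → p ∣ b → p ∉ P) := by
  classical
  induction n using Nat.recOnMul with
  | zero => intro h; omega
  | one => intro _; exact ⟨1, 1, rfl, one_pos, one_pos, fun p hp h => absurd (Nat.dvd_one.1 h) hp.ne_one, fun p hp h => absurd (Nat.dvd_one.1 h) hp.ne_one⟩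
  | prime q hq =>
    intro _
    by_cases h : q ∈ P
    · exact ⟨q, 1, (mul_one q).symm, hq.pos, one_pos, fun p hp h' => ((Nat.prime_dvd_prime_iff_eq hp hq).1 h').symm ▸ h, fun p hp h' => absurd (Nat.dvd_one.1 h') hp.ne_one⟩
    · exact ⟨1, q, (one_mul q).symm, one_pos, hq.pos, fun p hp h' => absurd (Nat.dvd_one.1 h') hp.ne_one, fun p hp h' => ((Nat.prime_dvd_prime_iff_eq hp hq).1 h').symm ▸ h⟩
  | mul x y ihx ihy =>
    intro h
    obtain ⟨a, b, rfl, ha, hb, hA, hB⟩ := ihx (Nat.pos_of_mul_pos_right h)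
    obtain ⟨c, d, rfl, hc, hd, hC, hD⟩ := ihy (Nat.pos_of_mul_pos_left h)
    exact ⟨a * c, b * d, by ring, Nat.mul_pos ha hc, Nat.mul_pos hb hd,
      fun p hp h' => ((hp.dvd_mul.1 h').elim (hA p hp) (hC p hp)),
      fun p hp h' => ((hp.dvd_mul.1 h').elim (hB p hp) (hD p hp))⟩

theorem coprime_of_split (P : Set ℕ) {a b : ℕ} (hA : ∀ p : ℕ, p.Prime → p ∣ a → p ∈ P)
    (hB : ∀ p : ℕ, p.Prime → p ∣ b → p ∉ P) : Nat.Coprime a b :=
  Nat.coprime_of_dvd fun p hp h1 h2 => hB p hp h2 (hA p hp h1)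

theorem eq_of_coprime_smul {T : Type*} [AddCommGroup T] {a b : ℕ} (h : Nat.Coprime a b) {t : T} (ha : a • t = 0) :
    b • ((Nat.gcdB a b) • t) = t := by
  have e := Nat.gcd_eq_gcd_ab a b
  rw [h.gcd_eq_one] at e
  conv_rhs => rw [← one_zsmul t]
  rw [show (1 : ℤ) = (a : ℤ) * Nat.gcdA a b + (b : ℤ) * Nat.gcdB a b by exact_mod_cast e, add_zsmul, mul_comm,
    mul_zsmul, natCast_zsmul, ha, zsmul_zero, zero_add, mul_zsmul, natCast_zsmul]

def primaryPart (A : Type*) [AddCommGroup A] (P : Set ℕ) : AddSubgroup A where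
  carrier := {a | ∃ n : ℕ, 0 < n ∧ (∀ p : ℕ, p.Prime → p ∣ n → p ∈ P) ∧ n • a = 0}
  zero_mem' := ⟨1, one_pos, fun p hp h => absurd (Nat.dvd_one.1 h) hp.ne_one, by simp⟩
  add_mem' := by
    rintro a b ⟨n, hn, hnP, ha⟩ ⟨m, hm, hmP, hb⟩
    exact ⟨n * m, Nat.mul_pos hn hm, fun p hp h => (hp.dvd_mul.1 h).elim (hnP p hp) (hmP p hp),
      by rw [smul_add, mul_comm, mul_nsmul', ha, nsmul_zero, zero_add, mul_comm, mul_nsmul', hb, nsmul_zero]⟩
  neg_mem' := by
    rintro a ⟨n, hn, hnP, ha⟩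
    exact ⟨n, hn, hnP, by rw [smul_neg, ha, neg_zero]⟩

/-- Let P be a set of primes and π : A → T a surjection of abelian groups whose kernel is ℓ-divisible
for every ℓ ∈ P, with T a torsion group; let T(P) be the subgroup of elements of T killed by a
positive integer all of whose prime factors lie in P, and T' the subgroup of elements killed by a
positive integer none of whose prime factors lies in P. Then the preimage π⁻¹(T') is ℓ-divisible for
every ℓ ∈ P, and π has a section s over T(P) for which (d, t) ↦ d + s(t) is a bijection from π⁻¹(T')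
× T(P) onto A, so that A is the direct sum of π⁻¹(T') and a copy of T(P). (The decomposition is
expressed through a section of π over T(P).) -/
theorem result
    {A T : Type*} [AddCommGroup A] [AddCommGroup T] (P : Set ℕ) (hP : ∀ p ∈ P, p.Prime)
    (π : A →+ T) (hπ : Function.Surjective π) (hT : ∀ t : T, ∃ n : ℕ, 0 < n ∧ n • t = 0)
    (hD : ∀ ℓ ∈ P, ∀ x ∈ π.ker, ∃ y ∈ π.ker, ℓ • y = x)
    (TP T' : AddSubgroup T)
    (hTP : ∀ t, t ∈ TP ↔ ∃ n : ℕ, 0 < n ∧ (∀ p : ℕ, p.Prime → p ∣ n → p ∈ P) ∧ n • t = 0)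
    (hT' : ∀ t, t ∈ T' ↔ ∃ n : ℕ, 0 < n ∧ (∀ p : ℕ, p.Prime → p ∣ n → p ∉ P) ∧ n • t = 0) :
    (∀ ℓ ∈ P, ∀ x ∈ T'.comap π, ∃ y ∈ T'.comap π, ℓ • y = x) ∧
    ∃ s : TP →+ A, (∀ t : TP, π (s t) = (t : T)) ∧
      Function.Bijective (fun q : (T'.comap π) × TP => (q.1 : A) + s q.2) := by
  classical
  have hker : ∀ n : ℕ, 0 < n → (∀ p : ℕ, p.Prime → p ∣ n → p ∈ P) → ∀ x ∈ π.ker, ∃ y ∈ π.ker, n • y = x := by
    intro n
    induction n using Nat.recOnMul with
    | zero => intro h; omega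
    | one => intro _ _ x hx; exact ⟨x, hx, one_nsmul x⟩
    | prime q hq => intro _ h x hx; exact hD q (h q hq dvd_rfl) x hx
    | mul a b iha ihb =>
      intro h h' x hx
      obtain ⟨y, hy, hy'⟩ := iha (Nat.pos_of_mul_pos_right h) (fun p hp hpa => h' p hp (dvd_mul_of_dvd_left hpa b)) x hx
      obtain ⟨z, hz, hz'⟩ := ihb (Nat.pos_of_mul_pos_left h) (fun p hp hpb => h' p hp (dvd_mul_of_dvd_right hpb a)) y hy
      exact ⟨z, hz, by rw [mul_nsmul', hz', hy']⟩
  refine ⟨fun ℓ hℓ x hx => ?_, ?_⟩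
  · obtain ⟨n, hn, hnP, hnx⟩ := (hT' _).1 hx
    have hcop : Nat.Coprime n ℓ := ((hP ℓ hℓ).coprime_iff_not_dvd.2 fun h => hnP ℓ (hP ℓ hℓ) h hℓ).symm
    set y₀ := (Nat.gcdB n ℓ) • x with hy0
    have hk : x - ℓ • y₀ ∈ π.ker := by
      rw [AddMonoidHom.mem_ker, map_sub, map_nsmul, hy0, map_zsmul, eq_of_coprime_smul hcop hnx, sub_self]
    obtain ⟨d, hd, hd'⟩ := hD ℓ hℓ _ hk
    refine ⟨y₀ + d, ?_, by rw [smul_add, hd', add_sub_cancel]⟩
    show π (y₀ + d) ∈ T'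
    rw [map_add, AddMonoidHom.mem_ker.1 hd, add_zero, hy0, map_zsmul]
    exact T'.zsmul_mem hx _
  set AP := primaryPart A P
  let DP : AddSubgroup AP := π.ker.comap AP.subtype
  have hdiv : ∀ (x : DP) (m : ℕ), 0 < m → ∃ y : DP, m • y = x := by
    rintro ⟨⟨x, hxP⟩, hx⟩ m hm
    obtain ⟨n, hn, hnP, hnx⟩ := id hxP
    obtain ⟨a, b, rfl, ha, hb, hA, hB⟩ := split_number P m hm
    obtain ⟨z, hz, hz'⟩ := hker a ha hA x hx
    have hzP : z ∈ AP := ⟨n * a, Nat.mul_pos hn ha, fun p hp h => (hp.dvd_mul.1 h).elim (hnP p hp) (hA p hp),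
      by rw [mul_nsmul', hz', hnx]⟩
    have hcop : Nat.Coprime (n * a) b :=
      coprime_of_split P (fun p hp h => (hp.dvd_mul.1 h).elim (hnP p hp) (hA p hp)) hB
    refine ⟨⟨⟨_, AP.zsmul_mem hzP (Nat.gcdB (n * a) b)⟩, ?_⟩, ?_⟩
    · show _ ∈ π.ker
      exact π.ker.zsmul_mem hz _
    · apply Subtype.ext
      apply Subtype.ext
      show (a * b) • ((Nat.gcdB (n * a) b) • z) = x
      rw [mul_nsmul', eq_of_coprime_smul hcop (by rw [mul_nsmul', hz', hnx]), hz']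
  letI : DivisibleBy DP ℤ := AddCommGroup.divisibleByIntOfSMulTopEqTop DP fun {n} hn => by
    refine eq_top_iff.2 fun x _ => ?_
    obtain ⟨y, hy⟩ := hdiv x n.natAbs (Int.natAbs_pos.2 hn)
    rcases Int.natAbs_eq n with h | h
    · exact ⟨y, trivial, by show n • y = x; rw [h, natCast_zsmul, hy]⟩
    · exact ⟨-y, trivial, by show n • (-y) = x; rw [h, neg_zsmul, zsmul_neg, neg_neg, natCast_zsmul, hy]⟩
  haveI : Module.Injective ℤ DP := (Module.Baer.of_divisible DP).injective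
  obtain ⟨r, hr⟩ := Module.Injective.out DP.subtype.toIntLinearMap DP.subtype_injective (LinearMap.id : DP →ₗ[ℤ] DP)
  let f : r.toAddMonoidHom.ker →+ TP :=
    { toFun := fun a => ⟨π a.1.1, (hTP _).2 (by
        obtain ⟨n, hn, hnP, hna⟩ := a.1.2
        exact ⟨n, hn, hnP, by rw [← map_nsmul, hna, map_zero]⟩)⟩
      map_zero' := Subtype.ext (by simp)
      map_add' := fun a b => Subtype.ext (by simp) }
  have hf : Function.Bijective f := by
    constructor
    · refine (injective_iff_map_eq_zero f).2 fun a ha => ?_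
      have h1 : a.1 ∈ DP := AddMonoidHom.mem_ker.2 (congrArg Subtype.val ha)
      have h2 : r a.1 = ⟨a.1, h1⟩ := hr ⟨a.1, h1⟩
      have h3 : r a.1 = 0 := a.2
      rw [h3] at h2
      exact Subtype.ext (show (a.1 : AP) = 0 from congrArg Subtype.val h2.symm)
    · rintro ⟨t, ht⟩
      obtain ⟨n, hn, hnP, hnt⟩ := (hTP _).1 ht
      obtain ⟨a, rfl⟩ := hπ t
      obtain ⟨d, hd, hd'⟩ := hker n hn hnP (n • a) (by rw [AddMonoidHom.mem_ker, map_nsmul, hnt])
      have hmem : a - d ∈ AP := ⟨n, hn, hnP, by rw [smul_sub, hd', sub_self]⟩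
      refine ⟨⟨(⟨a - d, hmem⟩ : AP) - ((r ⟨a - d, hmem⟩ : DP) : AP), ?_⟩, Subtype.ext ?_⟩
      · show r (_ - _) = 0
        rw [map_sub, sub_eq_zero]
        exact (hr (r ⟨a - d, hmem⟩)).symm
      · show π ((a - d) - ((r ⟨a - d, hmem⟩ : DP) : AP).1) = π a
        rw [map_sub, map_sub, AddMonoidHom.mem_ker.1 hd, show π ((r ⟨a - d, hmem⟩ : DP) : AP).1 = 0 from (r ⟨a - d, hmem⟩).2,
          sub_zero, sub_zero]
  let e := AddEquiv.ofBijective f hf
  let s : TP →+ A := (AP.subtype.comp r.toAddMonoidHom.ker.subtype).comp e.symm.toAddMonoidHom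
  have hs : ∀ t : TP, π (s t) = (t : T) := fun t => congrArg Subtype.val (e.apply_symm_apply t)
  refine ⟨s, hs, ?_, ?_⟩
  · rintro ⟨q, t⟩ ⟨q', t'⟩ h
    simp only at h
    have h1 := congrArg π h
    rw [map_add, map_add, hs, hs] at h1
    have h2 : (t : T) - t' ∈ T' := by
      rw [show (t : T) - t' = π q'.1 - π q.1 by rw [sub_eq_sub_iff_add_eq_add, add_comm, h1, add_comm]]
      exact T'.sub_mem q'.2 q.2
    obtain ⟨n, hn, hnP, hnt⟩ := (hT' _).1 h2
    obtain ⟨m, hm, hmP, hmt⟩ := (hTP _).1 (TP.sub_mem t.2 t'.2)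
    have h3 := eq_of_coprime_smul (coprime_of_split P hmP hnP) hmt
    rw [smul_comm, hnt, zsmul_zero] at h3
    obtain rfl : t = t' := Subtype.ext (sub_eq_zero.1 h3.symm)
    simp only [add_left_inj] at h
    rw [Subtype.ext h]
  · intro a
    obtain ⟨n, hn, hna⟩ := hT (π a)
    obtain ⟨i, j, rfl, hi, hj, hI, hJ⟩ := split_number P n hn
    set u := Nat.gcdB i j with hu
    have htP : j • (u • π a) ∈ TP := (hTP _).2 ⟨i, hi, hI, by rw [← mul_nsmul', smul_comm, hna, zsmul_zero]⟩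
    have hsub : i • (π a - j • (u • π a)) = i • π a := by
      rw [smul_sub, ← mul_nsmul', smul_comm (i * j), hna, zsmul_zero, sub_zero]
    have hT'mem : π a - j • (u • π a) ∈ T' := by
      have hcop := coprime_of_split P hI hJ
      refine (hT' _).2 ⟨j, hj, hJ, ?_⟩
      rw [smul_sub]
      have := eq_of_coprime_smul hcop (t := j • π a) (by rw [← mul_nsmul', hna])
      rw [← hu, smul_comm u j] at this
      rw [sub_eq_zero]
      exact this.symm
    refine ⟨(⟨a - s ⟨_, htP⟩, ?_⟩, ⟨_, htP⟩), sub_add_cancel a _⟩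
    show π (a - s ⟨_, htP⟩) ∈ T'
    rw [map_sub, hs]
    exact hT'mem

end Groth.Agent.S16343
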