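import Groth.Statements.S16344
import Mathlib
import Groth.Prelude

set_option linter.all false

set_option autoImplicit false
universe u v
open IdeleMod

open CategoryTheory MonoidalCategory

namespace Groth.Agent.S16344

/-- Let (G_i) be an inverse system, indexed by a directed preorder, of compact Hausdorff topological
abelian groups with continuous surjective transition maps, let G be its limit (the group of
compatible families) and let m be a natural number. Then the canonical map G/mG → lim G_i/mG_i is
bijective: a compatible family that lies in mG_i at every index is m times a compatible family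
(injectivity), and every family that is compatible modulo m agrees modulo m, index by index, with a
compatible family (surjectivity). -/
theorem result
    {ι : Type u} [Preorder ι] [IsDirected ι (· ≤ ·)]
    (G : ι → Type v) [∀ i, AddCommGroup (G i)] [∀ i, TopologicalSpace (G i)]
    [∀ i, IsTopologicalAddGroup (G i)] [∀ i, CompactSpace (G i)] [∀ i, T2Space (G i)]
    (f : ∀ ⦃i j : ι⦄, i ≤ j → (G j →+ G i)) (hf : ∀ i j (h : i ≤ j), Continuous (f h))
    (hid : ∀ i (x : G i), f (le_refl i) x = x)
    (hcomp : ∀ i j k (hij : i ≤ j) (hjk : j ≤ k) (x : G k), f hij (f hjk x) = f (hij.trans hjk) x)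
    (hsurj : ∀ i j (h : i ≤ j), Function.Surjective (f h)) (m : ℕ) :
    (∀ x : ∀ i, G i, (∀ i j (h : i ≤ j), f h (x j) = x i) → (∀ i, ∃ y : G i, m • y = x i) →
        ∃ z : ∀ i, G i, (∀ i j (h : i ≤ j), f h (z j) = z i) ∧ ∀ i, m • z i = x i) ∧
    (∀ y : ∀ i, G i, (∀ i j (h : i ≤ j), ∃ w : G i, f h (y j) - y i = m • w) →
        ∃ x : ∀ i, G i, (∀ i j (h : i ≤ j), f h (x j) = x i) ∧ ∀ i, ∃ w : G i, x i - y i = m • w) := by
  classical
  have main : ∀ S : ∀ i, Set (G i), (∀ i, IsClosed (S i)) → (∀ i, (S i).Nonempty) →
      (∀ i j (h : i ≤ j), ∀ z ∈ S j, f h z ∈ S i) →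
      ∃ z : ∀ i, G i, (∀ i j (h : i ≤ j), f h (z j) = z i) ∧ ∀ i, z i ∈ S i := by
    intro S hS hne hmap
    rcases isEmpty_or_nonempty ι with hι | hι
    · exact ⟨fun i => isEmptyElim i, fun i => isEmptyElim i, fun i => isEmptyElim i⟩
    let C : ι → Set (∀ i, G i) := fun k => {z | (∀ i (h : i ≤ k), f h (z k) = z i) ∧ z k ∈ S k}
    have hC : ∀ k, IsClosed (C k) := fun k => by
      have : C k = (⋂ i, ⋂ h : i ≤ k, {z : ∀ i, G i | f h (z k) = z i}) ∩ (fun z : ∀ i, G i => z k) ⁻¹' S k := by
        ext z; simp [C]
      rw [this]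
      exact (isClosed_iInter fun i => isClosed_iInter fun h => isClosed_eq ((hf i k h).comp (continuous_apply k)) (continuous_apply i)).inter
        ((hS k).preimage (continuous_apply k))
    obtain ⟨z, hz⟩ := IsCompact.nonempty_iInter_of_directed_nonempty_isCompact_isClosed C
      (fun a b => by
        obtain ⟨c, hac, hbc⟩ := exists_ge_ge a b
        have key : ∀ a, a ≤ c → C c ⊆ C a := fun a hac z hz =>
          ⟨fun i h => by rw [← hz.1 a hac, hcomp, hz.1], by rw [← hz.1 a hac]; exact hmap a c hac _ hz.2⟩
        exact ⟨c, key a hac, key b hbc⟩)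
      (fun k => by
        obtain ⟨w, hw⟩ := hne k
        refine ⟨fun i => if h : i ≤ k then f h w else 0, fun i h => ?_, ?_⟩
        · simp only [dif_pos h, dif_pos (le_refl k), hid]
        · simp only [dif_pos (le_refl k), hid]; exact hw)
      (fun k => (hC k).isCompact) hC
    rw [Set.mem_iInter] at hz
    exact ⟨z, fun i j h => (hz j).1 i h, fun i => (hz i).2⟩
  have hcl : ∀ i, Continuous fun y : G i => m • y := fun i => continuous_nsmul m
  constructor
  · intro x hx hy
    exact main (fun i => {z | m • z = x i}) (fun i => isClosed_eq (hcl i) continuous_const) hy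
      (fun i j h z hz => by show m • f h z = x i; rw [← map_nsmul, hz, hx])
  · intro y hy
    have hr : ∀ i, IsClosed {z : G i | ∃ w : G i, z - y i = m • w} := fun i => by
      have : {z : G i | ∃ w : G i, z - y i = m • w} = (fun z : G i => z - y i) ⁻¹' Set.range (fun w : G i => m • w) := by
        ext z; simp [eq_comm]
      rw [this]
      exact (isCompact_range (hcl i)).isClosed.preimage (continuous_id.sub continuous_const)
    exact main (fun i => {z | ∃ w : G i, z - y i = m • w}) hr (fun i => ⟨y i, 0, by simp⟩)
      (fun i j h z hz => by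
        obtain ⟨w, hw⟩ := hz
        obtain ⟨v, hv⟩ := hy i j h
        refine ⟨f h w + v, ?_⟩
        rw [smul_add, ← map_nsmul, ← hw, map_sub, ← hv]; abel)

end Groth.Agent.S16344
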