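import Groth.Statements.S16345
import Groth.Agent.CommAlg4.ComplAffineIrred
import Groth.Agent.FlatMorLocalStr.SmoothFibres
import Groth.Agent.Unram17Lib.RelDim
-- import your own Groth.Agent.* helpers here

set_option autoImplicit false
universe u
open KatoHom

namespace Groth.Agent.S16345

open AlgebraicGeometry CategoryTheory in
/-- Let X be a connected scheme, proper and smooth of relative dimension d ≥ 2 over a field L, and let D
⊆ X be a closed subscheme, smooth of relative dimension d − 1 over L (a smooth divisor), whose
complement in X is an affine open subset. Then D is connected (in particular non-empty). -/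
theorem result
    {L : Type u} [Field L] {X D : Scheme.{u}} (f : X ⟶ Spec (CommRingCat.of L)) (i : D ⟶ X)
    [IsProper f] (d : ℕ) (hd : 1 < d) [SmoothOfRelativeDimension d f]
    [IsClosedImmersion i] [SmoothOfRelativeDimension (d - 1) (i ≫ f)]
    [ConnectedSpace X] (U : X.Opens) (hU : IsAffineOpen U)
    (hDU : Set.range i.base = (U : Set X)ᶜ) : ConnectedSpace D := by
  haveI : Smooth f := SmoothOfRelativeDimension.smooth d f
  obtain ⟨x₀⟩ : Nonempty X := inferInstance
  have hirr : IrreducibleSpace X := by
    have h := Groth.Agent.FlatMorLocalStr.isIrreducible_connectedComponent f x₀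
    rw [PreconnectedSpace.connectedComponent_eq_univ x₀] at h
    exact (irreducibleSpace_def X).2 h
  have hdim : (2 : WithBot ℕ∞) ≤ topologicalKrullDim X := by
    have h1 : FlatMor.localDim X x₀ ≤ topologicalKrullDim X :=
      iInf_le_of_le ⟨⊤, trivial⟩ Topology.IsEmbedding.subtypeVal.isInducing.topologicalKrullDim_le
    rw [Groth.Agent.Unram17Lib.localDim_of_smoothOfRelativeDimension L f d x₀] at h1
    exact le_trans (by exact_mod_cast hd) h1
  have hconn : _root_.IsConnected (Set.range i.base) := by
    rw [hDU]
    rcases Set.eq_empty_or_nonempty (U : Set X) with h | h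
    · rw [h, Set.compl_empty]
      exact (IrreducibleSpace.isIrreducible_univ X).isConnected
    · exact Groth.Agent.CommAlg4.isConnected_compl_affine f hU h hdim
  rw [connectedSpace_iff_univ]
  have he : Topology.IsEmbedding i.base := i.isEmbedding
  refine ⟨?_, he.isInducing.isPreconnected_image.1 (Set.image_univ ▸ hconn.isPreconnected)⟩
  obtain ⟨_, y, rfl⟩ := hconn.nonempty
  exact ⟨y, trivial⟩

end Groth.Agent.S16345
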