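import Groth.Statements.S16347
import Mathlib
import Groth.Prelude

set_option linter.all false

set_option autoImplicit false
universe u
open Cubic

open MvPolynomial Matrix

namespace Groth.Agent.S16347

variable {k : Type u} [Field k]

noncomputable def lin (c : Fin 3 → k) : MvPolynomial (Fin 3) k := ∑ i, C (c i) * X i

theorem eval_lin (c v : Fin 3 → k) : eval v (lin c) = c ⬝ᵥ v := by
  simp [lin, map_sum, dotProduct]

theorem isHomogeneous_lin (c : Fin 3 → k) : (lin c).IsHomogeneous 1 :=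
  IsHomogeneous.sum _ _ _ fun i _ => isHomogeneous_C_mul_X _ _

theorem eq_lin (G : MvPolynomial (Fin 3) k) (h : G.IsHomogeneous 1) : ∃ c, G = lin c := by
  have hm : G ∈ homogeneousSubmodule (Fin 3) k 1 := h
  rw [homogeneousSubmodule_one_eq_span_X, Submodule.mem_span_range_iff_exists_fun] at hm
  obtain ⟨c, hc⟩ := hm
  exact ⟨c, by rw [← hc, lin]; simp [smul_eq_C_mul]⟩

theorem lin_ne_zero [Infinite k] {c : Fin 3 → k} (hc : c ≠ 0) : lin c ≠ 0 := by
  intro h
  refine hc (funext fun i => ?_)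
  have := eval_lin c (Pi.single i 1)
  rw [h, map_zero, dotProduct_single_one] at this
  exact this.symm

theorem eval_smul {σ : Type} [Fintype σ] {P : MvPolynomial σ k} {d : ℕ} (hP : P.IsHomogeneous d) (s : k) (v : σ → k) :
    eval (s • v) P = s ^ d * eval v P := by
  rw [eval_eq', eval_eq', Finset.mul_sum]
  refine Finset.sum_congr rfl fun m hm => ?_
  have hd : ∑ i, m i = d := by
    rw [hP.degree_eq_sum_deg_support hm]
    exact (Finset.sum_subset (Finset.subset_univ _) (fun i _ hi => Finsupp.notMem_support_iff.1 hi)).symm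
  rw [← hd, ← Finset.prod_pow_eq_pow_sum]
  simp only [Pi.smul_apply, smul_eq_mul, mul_pow, Finset.prod_mul_distrib]
  ring

/-- a form of degree `d` with `d + 1` zeros on a line vanishes on the line -/
theorem vanish_on_line [Infinite k] {P : MvPolynomial (Fin 3) k} {d : ℕ} (hP : P.IsHomogeneous d) (u v : Fin 3 → k)
    (t : Finset k) (ht : d < t.card) (h : ∀ a ∈ t, eval (u + a • v) P = 0) (s r : k) :
    eval (s • u + r • v) P = 0 := by
  classical
  let g : Polynomial k := aeval (fun i => Polynomial.C (u i) + Polynomial.C (v i) * Polynomial.X) P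
  have hg : ∀ a : k, g.eval a = eval (u + a • v) P := fun a => by
    show Polynomial.evalRingHom a (aeval _ P) = _
    rw [aeval_def, hom_eval₂]
    simp only [RingHom.comp_apply, eval]
    congr 1
    · ext b; simp
    · funext i; simp; ring
  have hd : g.natDegree ≤ d := by
    simp only [g]
    rw [aeval_def, eval₂_eq']
    refine Polynomial.natDegree_sum_le_of_forall_le _ _ fun m hm => ?_
    refine (Polynomial.natDegree_C_mul_le _ _).trans ((Polynomial.natDegree_prod_le _ _).trans ?_)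
    have hsum : ∑ i, m i = d := by
      rw [hP.degree_eq_sum_deg_support hm]
      exact (Finset.sum_subset (Finset.subset_univ _) (fun i _ hi => Finsupp.notMem_support_iff.1 hi)).symm
    rw [← hsum]
    refine Finset.sum_le_sum fun i _ => ?_
    refine Polynomial.natDegree_pow_le.trans ?_
    have : (Polynomial.C (u i) + Polynomial.C (v i) * Polynomial.X).natDegree ≤ 1 := by
      rw [add_comm]; exact Polynomial.natDegree_linear_le
    calc m i * _ ≤ m i * 1 := Nat.mul_le_mul_left _ this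
      _ = m i := mul_one _
  have hg0 : g = 0 := Polynomial.eq_zero_of_natDegree_lt_card_of_eval_eq_zero' g t (fun a ha => by rw [hg]; exact h a ha)
    (lt_of_le_of_lt hd ht)
  let g' : Polynomial k := aeval (fun i => Polynomial.C (r * v i) + Polynomial.C (u i) * Polynomial.X) P
  have hg' : ∀ a : k, g'.eval a = eval (a • u + r • v) P := fun a => by
    show Polynomial.evalRingHom a (aeval _ P) = _
    rw [aeval_def, hom_eval₂]
    simp only [RingHom.comp_apply, eval]
    congr 1
    · ext b; simp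
    · funext i; simp; ring
  have hg'0 : g' = 0 := Polynomial.eq_zero_of_infinite_isRoot _ (by
    refine Set.Infinite.mono ?_ (Set.Finite.infinite_compl (Set.finite_singleton (0 : k)))
    intro a ha
    show g'.eval a = 0
    rw [hg', show a • u + r • v = a • (u + (r / a) • v) by
      rw [smul_add, smul_smul, mul_div_cancel₀ _ (by simpa using ha)], eval_smul hP, ← hg, hg0, Polynomial.eval_zero, mul_zero])
  rw [← hg', hg'0, Polynomial.eval_zero]

theorem dvd_of_forall [Infinite k] {P : MvPolynomial (Fin 3) k} {c : Fin 3 → k} (hc : c ≠ 0)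
    (h : ∀ w, c ⬝ᵥ w = 0 → eval w P = 0) : lin c ∣ P := by
  classical
  obtain ⟨j, hj⟩ : ∃ j, c j ≠ 0 := by
    by_contra hn; push Not at hn; exact hc (funext hn)
  let sub : Fin 3 → MvPolynomial (Fin 3) k := fun i => X i - if i = j then C (c j)⁻¹ * lin c else 0
  have hsub : bind₁ sub P = 0 := MvPolynomial.funext fun w => by
    rw [map_zero]
    have e : eval w (bind₁ sub P) = eval (fun i => eval w (sub i)) P := by
      rw [eval, eval₂Hom_bind₁]; rfl
    rw [e]
    refine h _ ?_
    have hw : (fun i => eval w (sub i)) = w - Pi.single j ((c j)⁻¹ * (c ⬝ᵥ w)) := funext fun i => by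
      by_cases hi : i = j
      · subst hi; simp [sub, eval_lin]
      · simp [sub, hi]
    rw [hw, dotProduct_sub, dotProduct_single, ← mul_assoc, mul_inv_cancel₀ hj, one_mul, sub_self]
  have hq : Ideal.Quotient.mkₐ k (Ideal.span {lin c}) = (Ideal.Quotient.mkₐ k (Ideal.span {lin c})).comp (bind₁ sub) :=
    MvPolynomial.algHom_ext fun i => by
      rw [AlgHom.comp_apply, bind₁_X_right, Ideal.Quotient.mkₐ_eq_mk, Ideal.Quotient.eq]
      by_cases hi : i = j
      · subst hi
        simp only [sub, if_true, sub_sub_cancel]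
        exact Ideal.mul_mem_left _ _ (Ideal.mem_span_singleton_self _)
      · simp [sub, hi]
  have := DFunLike.congr_fun hq P
  rw [AlgHom.comp_apply, hsub, map_zero, Ideal.Quotient.mkₐ_eq_mk, Ideal.Quotient.eq_zero_iff_mem, Ideal.mem_span_singleton] at this
  exact this

theorem exists_homogeneous_factor {σ : Type} {ℓ P : MvPolynomial σ k} {d : ℕ} (hℓ : ℓ.IsHomogeneous 1)
    (hP : P.IsHomogeneous (d + 1)) (h : ℓ ∣ P) : ∃ G : MvPolynomial σ k, G.IsHomogeneous d ∧ P = ℓ * G := by
  classical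
  obtain ⟨G, rfl⟩ := h
  refine ⟨homogeneousComponent d G, homogeneousComponent_isHomogeneous d G, ?_⟩
  conv_lhs => rw [← homogeneousComponent_eq_self hP, ← sum_homogeneousComponent G, Finset.mul_sum, map_sum]
  have hj : ∀ j, homogeneousComponent (d + 1) (ℓ * homogeneousComponent j G) = if j = d then ℓ * homogeneousComponent j G else 0 := by
    intro j
    have hh : (ℓ * homogeneousComponent j G).IsHomogeneous (1 + j) := hℓ.mul (homogeneousComponent_isHomogeneous j G)
    rw [homogeneousComponent_of_mem hh]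
    by_cases hjd : j = d
    · rw [if_pos (by omega), if_pos hjd]
    · rw [if_neg (by omega), if_neg hjd]
  simp only [hj, Finset.sum_ite_eq', Finset.mem_range]
  split_ifs with hlt
  · rfl
  · rw [homogeneousComponent_eq_zero d G (by omega), mul_zero]

/-- collinearity -/
def Coll (u v w : Fin 3 → k) : Prop := ∃ c : Fin 3 → k, c ≠ 0 ∧ c ⬝ᵥ u = 0 ∧ c ⬝ᵥ v = 0 ∧ c ⬝ᵥ w = 0

theorem exists_line (u v : Fin 3 → k) : ∃ c : Fin 3 → k, c ≠ 0 ∧ c ⬝ᵥ u = 0 ∧ c ⬝ᵥ v = 0 := by
  let f : (Fin 3 → k) →ₗ[k] (Fin 2 → k) := LinearMap.pi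
    ![dotProductBilin k k u, dotProductBilin k k v]
  have hf : LinearMap.ker f ≠ ⊥ := by
    intro h
    have := LinearMap.finrank_le_finrank_of_injective (LinearMap.ker_eq_bot.1 h)
    simp at this
  obtain ⟨c, hc, hc0⟩ := Submodule.exists_mem_ne_zero_of_ne_bot hf
  rw [LinearMap.mem_ker] at hc
  refine ⟨c, hc0, ?_, ?_⟩
  · rw [dotProduct_comm]; exact congrFun hc 0
  · rw [dotProduct_comm]; exact congrFun hc 1

theorem exists_span {c : Fin 3 → k} (hc : c ≠ 0) {u v : Fin 3 → k} (hi : LinearIndependent k ![u, v])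
    (hu : c ⬝ᵥ u = 0) (hv : c ⬝ᵥ v = 0) (w : Fin 3 → k) (hw : c ⬝ᵥ w = 0) : ∃ s r : k, w = s • u + r • v := by
  let f : (Fin 3 → k) →ₗ[k] k := dotProductBilin k k c
  have hle : Submodule.span k (Set.range ![u, v]) ≤ LinearMap.ker f := by
    rw [Submodule.span_le]
    rintro _ ⟨i, rfl⟩
    fin_cases i <;> simpa [f]
  have hsurj : Function.Surjective f := LinearMap.surjective (fun h => hc (funext fun i => by
    simpa [f, dotProduct_single_one] using LinearMap.congr_fun h (Pi.single i 1)))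
  have heq := Submodule.eq_of_le_of_finrank_le hle (by
    have := LinearMap.finrank_range_add_finrank_ker f
    rw [LinearMap.range_eq_top.2 hsurj, finrank_top, Module.finrank_self, Module.finrank_fin_fun] at this
    rw [finrank_span_eq_card hi]
    simp; omega)
  have hmem : w ∈ Submodule.span k (Set.range ![u, v]) := heq ▸ (by simpa [f] using hw : w ∈ LinearMap.ker f)
  rw [Matrix.range_cons_cons_empty, Submodule.mem_span_pair] at hmem
  obtain ⟨s, r, hsr⟩ := hmem
  exact ⟨s, r, hsr.symm⟩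

theorem indep {u v : Fin 3 → k} (hu : u ≠ 0) (hv : v ≠ 0) (h : ∀ a : k, u ≠ a • v) : LinearIndependent k ![u, v] := by
  refine LinearIndependent.pair_iff.2 fun s t hst => ?_
  by_cases hs : s = 0
  · subst hs
    rw [zero_smul, zero_add, smul_eq_zero] at hst
    exact ⟨rfl, hst.resolve_right hv⟩
  · refine absurd ?_ (h (-(t / s)))
    rw [neg_smul, eq_neg_iff_add_eq_zero]
    have := congrArg (s⁻¹ • ·) hst
    simp only [smul_add, smul_smul, inv_mul_cancel₀ hs, one_smul, smul_zero] at this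
    rwa [div_eq_inv_mul]

/-- a form of degree `d` with `d + 1` zeros on the line `c` is divisible by `lin c` -/
theorem dvd_of_points [Infinite k] {P : MvPolynomial (Fin 3) k} {d : ℕ} (hP : P.IsHomogeneous d) {c : Fin 3 → k} (hc : c ≠ 0)
    {ι : Type} [Fintype ι] (hcard : d < Fintype.card ι) (hd : 1 ≤ d) (p : ι → Fin 3 → k) (h0 : ∀ i, p i ≠ 0)
    (hp : ∀ i j, i ≠ j → ∀ a : k, p i ≠ a • p j) (hc' : ∀ i, c ⬝ᵥ p i = 0) (hz : ∀ i, eval (p i) P = 0) :
    lin c ∣ P := by
  classical
  obtain ⟨i₀, i₁, hne⟩ := Fintype.exists_pair_of_one_lt_card (by omega : 1 < Fintype.card ι)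
  have hi := indep (h0 i₀) (h0 i₁) (hp i₀ i₁ hne)
  choose α β hαβ using fun i => exists_span hc hi (hc' i₀) (hc' i₁) (p i) (hc' i)
  obtain ⟨e, he⟩ := Infinite.exists_notMem_finset (Finset.univ.image fun i => α i / β i)
  set v := p i₁ + e • p i₀ with hv
  -- every point is `s • p i₀ + r • v` with `r` its second coordinate
  have hα : ∀ i, ∃ a b : k, a ≠ 0 ∧ p i = a • p i₀ + b • (p i₁ + e • p i₀) := by
    intro i
    refine ⟨α i - β i * e, β i, ?_, by rw [hαβ i]; module⟩
    intro h
    by_cases hb : β i = 0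
    · rw [hb, zero_mul, sub_zero] at h
      exact h0 i (by rw [hαβ i, h, hb, zero_smul, zero_smul, add_zero])
    refine he (Finset.mem_image.2 ⟨i, Finset.mem_univ _, ?_⟩)
    rw [sub_eq_zero.1 h, mul_div_cancel_left₀ _ hb]
  choose A B hA0 hAB using hα
  have hinj : Function.Injective fun i => B i / A i := by
    intro i j hij
    simp only at hij
    by_contra hne'
    refine hp i j hne' (A i / A j) ?_
    conv_lhs => rw [hAB i]
    conv_rhs => rw [hAB j, smul_add, smul_smul, smul_smul, div_mul_cancel₀ _ (hA0 j)]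
    congr 1
    rw [show A i / A j * B j = B i by
      rw [div_mul_eq_mul_div, div_eq_iff (hA0 j)]
      rw [div_eq_div_iff (hA0 i) (hA0 j)] at hij
      linear_combination -hij]
  refine dvd_of_forall hc fun w hw => ?_
  obtain ⟨s, r, rfl⟩ := exists_span hc hi (hc' i₀) (hc' i₁) w hw
  rw [show s • p i₀ + r • p i₁ = (s - r * e) • p i₀ + r • (p i₁ + e • p i₀) by module]
  refine vanish_on_line hP _ _ (Finset.univ.image fun i => B i / A i) (by rw [Finset.card_image_of_injective _ hinj]; exact hcard) ?_ _ _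
  intro a ha
  obtain ⟨i, -, rfl⟩ := Finset.mem_image.1 ha
  have := hz i
  rw [hAB i, show A i • p i₀ + B i • (p i₁ + e • p i₀) = A i • (p i₀ + (B i / A i) • (p i₁ + e • p i₀)) by
    rw [smul_add (A i), smul_smul (A i), mul_div_cancel₀ _ (hA0 i)], eval_smul hP] at this
  exact (mul_eq_zero.1 this).resolve_left (pow_ne_zero _ (hA0 i))
theorem line_points {V : Type u} [AddCommGroup V] [Module k V] {u v : V} (hi : LinearIndependent k ![u, v])
    {ι : Type} (a b : ι → k) (hab : ∀ i j, i ≠ j → a i * b j ≠ a j * b i) (hne : ∀ i, a i ≠ 0 ∨ b i ≠ 0) :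
    (∀ i, a i • u + b i • v ≠ 0) ∧ ∀ i j, i ≠ j → ∀ t : k, a i • u + b i • v ≠ t • (a j • u + b j • v) := by
  refine ⟨fun i h => ?_, fun i j hij t h => ?_⟩
  · obtain ⟨h1, h2⟩ := LinearIndependent.pair_iff.1 hi _ _ h
    exact (hne i).elim (fun h' => h' h1) (fun h' => h' h2)
  · have h0 : (a i - t * a j) • u + (b i - t * b j) • v = 0 := by
      rw [← sub_eq_zero] at h; rw [← h]; module
    obtain ⟨h1, h2⟩ := LinearIndependent.pair_iff.1 hi _ _ h0
    exact hab i j hij (by linear_combination b j * h1 - a j * h2)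

theorem seven [CharZero k] {Q C₀ : MvPolynomial (Fin 3) k} (hQ : Q.IsHomogeneous 2) (hC : C₀.IsHomogeneous 3) (hQ0 : Q ≠ 0)
    (p : Fin 7 → Fin 3 → k) (h0 : ∀ i, p i ≠ 0) (hp : ∀ i j, i ≠ j → ∀ a : k, p i ≠ a • p j)
    (hzQ : ∀ i, eval (p i) Q = 0) (hzC : ∀ i, eval (p i) C₀ = 0) :
    (∃ c : Fin 3 → k, c ≠ 0 ∧ lin c ∣ Q ∧ lin c ∣ C₀) ∨ (∃ c : Fin 3 → k, C₀ = lin c * Q) := by
  classical
  have split : ∀ c : Fin 3 → k, c ≠ 0 → lin c ∣ Q → ∃ m : Fin 3 → k, m ≠ 0 ∧ Q = lin c * lin m ∧
      ∀ i, c ⬝ᵥ p i ≠ 0 → m ⬝ᵥ p i = 0 := by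
    intro c hc hdvd
    obtain ⟨G, hG, hQG⟩ := exists_homogeneous_factor (isHomogeneous_lin c) hQ hdvd
    obtain ⟨m, rfl⟩ := eq_lin G hG
    refine ⟨m, fun hm => hQ0 (by rw [hQG, hm]; simp [lin]), hQG, fun i hi => ?_⟩
    have := hzQ i
    rw [hQG, map_mul, eval_lin, eval_lin] at this
    exact (mul_eq_zero.1 this).resolve_left hi
  by_cases hcol : ∃ i j l : Fin 7, i ≠ j ∧ i ≠ l ∧ j ≠ l ∧ Coll (p i) (p j) (p l)
  · left
    obtain ⟨i, j, l, hij, hil, hjl, c, hc, hci, hcj, hcl⟩ := hcol
    have hdvd : lin c ∣ Q := by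
      let e : Fin 3 → Fin 7 := ![i, j, l]
      have he : Function.Injective e := by
        intro x y hxy
        fin_cases x <;> fin_cases y <;> simp_all [e]
      refine dvd_of_points hQ hc (ι := Fin 3) (by simp) (by omega) (fun x => p (e x)) (fun x => h0 _)
        (fun x y hxy => hp _ _ fun h => hxy (he h)) (fun x => ?_) (fun x => hzQ _)
      fin_cases x <;> simpa [e]
    obtain ⟨m, hm, hQm, hpm⟩ := split c hc hdvd
    by_cases hcard : 4 ≤ Fintype.card {i : Fin 7 // c ⬝ᵥ p i = 0}
    · exact ⟨c, hc, hdvd, dvd_of_points hC hc (ι := {i : Fin 7 // c ⬝ᵥ p i = 0}) (by omega) (by omega) (fun x => p x.1)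
        (fun x => h0 _) (fun x y hxy => hp _ _ fun h => hxy (Subtype.ext h)) (fun x => x.2) (fun x => hzC _)⟩
    · have hcard' : 4 ≤ Fintype.card {i : Fin 7 // ¬ c ⬝ᵥ p i = 0} := by
        rw [Fintype.card_subtype_compl, Fintype.card_fin]; omega
      exact ⟨m, hm, hQm ▸ dvd_mul_left _ _, dvd_of_points hC hm (ι := {i : Fin 7 // ¬ c ⬝ᵥ p i = 0}) (by omega) (by omega)
        (fun x => p x.1) (fun x => h0 _) (fun x y hxy => hp _ _ fun h => hxy (Subtype.ext h)) (fun x => hpm _ x.2) (fun x => hzC _)⟩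
  · right
    have hnc : ∀ (i j l : Fin 7) (c : Fin 3 → k), i ≠ j → i ≠ l → j ≠ l → c ≠ 0 → c ⬝ᵥ p i = 0 → c ⬝ᵥ p j = 0 →
        c ⬝ᵥ p l ≠ 0 := fun i j l c h1 h2 h3 hc hi hj hl => hcol ⟨i, j, l, h1, h2, h3, c, hc, hi, hj, hl⟩
    have hind : ∀ i j : Fin 7, i ≠ j → LinearIndependent k ![p i, p j] := fun i j h => indep (h0 i) (h0 j) (hp i j h)
    have hoff : ∀ i j : Fin 7, i ≠ j → ∀ e : k, e ≠ 0 → eval (p i + e • p j) Q ≠ 0 := by
      intro i j hij e he hz
      obtain ⟨c, hc, hci, hcj⟩ := exists_line (p i) (p j)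
      have hl := line_points (hind i j hij) ![1, 0, 1] ![0, 1, e]
        (fun x y hxy => by fin_cases x <;> fin_cases y <;> first | exact absurd rfl hxy | simp [he, Ne.symm he])
        (fun x => by fin_cases x <;> simp)
      have hdvd : lin c ∣ Q := by
        refine dvd_of_points hQ hc (ι := Fin 3) (by simp) (by omega) (fun x => (![1, 0, 1] : Fin 3 → k) x • p i + (![0, 1, e] : Fin 3 → k) x • p j) hl.1 hl.2 (fun x => ?_) (fun x => ?_)
        · rw [dotProduct_add, dotProduct_smul, dotProduct_smul, hci, hcj]; simp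
        · fin_cases x <;> simp [hzQ, hz]
      obtain ⟨m, hm, hQm, hpm⟩ := split c hc hdvd
      obtain ⟨S, hSc, hScard⟩ := Finset.exists_subset_card_eq (s := ({i, j} : Finset (Fin 7))ᶜ) (n := 3) (by
        rw [Finset.card_compl, Fintype.card_fin, Finset.card_pair hij]; norm_num)
      obtain ⟨x, y, z, hxy, hxz, hyz, rfl⟩ := Finset.card_eq_three.1 hScard
      have hmem : ∀ w ∈ ({x, y, z} : Finset (Fin 7)), m ⬝ᵥ p w = 0 := fun w hw => by
        have := hSc hw
        simp only [Finset.mem_compl, Finset.mem_insert, Finset.mem_singleton, not_or] at this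
        exact hpm w (hnc i j w c hij (Ne.symm this.1) (Ne.symm this.2) hc hci hcj)
      exact hnc x y z m hxy hxz hyz hm (hmem x (by simp)) (hmem y (by simp)) (hmem z (by simp))
    obtain ⟨c, hc, hc0, hc1⟩ := exists_line (p 0) (p 1)
    obtain ⟨a₀, ha₀, ha00, ha02⟩ := exists_line (p 0) (p 2)
    have ha01 : a₀ ⬝ᵥ p 1 ≠ 0 := hnc 0 2 1 a₀ (by decide) (by decide) (by decide) ha₀ ha00 ha02
    obtain ⟨a₁, ha₁, ha11, ha12⟩ := exists_line (p 1) (p 2)
    have ha10 : a₁ ⬝ᵥ p 0 ≠ 0 := hnc 1 2 0 a₁ (by decide) (by decide) (by decide) ha₁ ha11 ha12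
    set V : k → k := fun e => -(eval (p 0 + e • p 1) C₀ / eval (p 0 + e • p 1) Q) with hV
    set lc : Fin 3 → k := ((2 * V 1 - V 2) / (a₁ ⬝ᵥ p 0)) • a₁ + ((V 2 - V 1) / (a₀ ⬝ᵥ p 1)) • a₀ with hlc
    have hlc0 : lc ⬝ᵥ p 0 = 2 * V 1 - V 2 := by
      rw [hlc, add_dotProduct, smul_dotProduct, smul_dotProduct, ha00]; simp [div_mul_cancel₀ _ ha10]
    have hlc1 : lc ⬝ᵥ p 1 = V 2 - V 1 := by
      rw [hlc, add_dotProduct, smul_dotProduct, smul_dotProduct, ha11]; simp [div_mul_cancel₀ _ ha01]
    set C₁ := C₀ + lin lc * Q with hC₁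
    have hC₁h : C₁.IsHomogeneous 3 := hC.add ((isHomogeneous_lin lc).mul hQ)
    have hC₁z : ∀ i, eval (p i) C₁ = 0 := fun i => by rw [hC₁, map_add, map_mul, hzC, hzQ, mul_zero, add_zero]
    have hextra : ∀ e : k, e ≠ 0 → lc ⬝ᵥ (p 0 + e • p 1) = V e → eval (p 0 + e • p 1) C₁ = 0 := by
      intro e he h
      rw [hC₁, map_add, map_mul, eval_lin, h]
      simp only [hV, neg_mul, div_mul_cancel₀ _ (hoff 0 1 (by decide) e he), add_neg_cancel]
    have hl := line_points (hind 0 1 (by decide)) ![1, 0, 1, 1] ![0, 1, 1, 2]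
      (fun x y hxy => by fin_cases x <;> fin_cases y <;> first | exact absurd rfl hxy | simp | norm_num)
      (fun x => by fin_cases x <;> simp)
    have hdvd : lin c ∣ C₁ := by
      refine dvd_of_points hC₁h hc (ι := Fin 4) (by simp) (by omega) (fun x => (![1, 0, 1, 1] : Fin 4 → k) x • p 0 + (![0, 1, 1, 2] : Fin 4 → k) x • p 1) hl.1 hl.2 (fun x => ?_) (fun x => ?_)
      · rw [dotProduct_add, dotProduct_smul, dotProduct_smul, hc0, hc1]; simp
      · fin_cases x
        · simp [hC₁z]
        · simp [hC₁z]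
        · have := hextra 1 one_ne_zero (by rw [dotProduct_add, dotProduct_smul, hlc0, hlc1, smul_eq_mul]; ring)
          simpa using this
        · have := hextra 2 two_ne_zero (by rw [dotProduct_add, dotProduct_smul, hlc0, hlc1, smul_eq_mul]; ring)
          simpa using this
    obtain ⟨Q₁, hQ₁, hC₁Q⟩ := exists_homogeneous_factor (isHomogeneous_lin c) hC₁h hdvd
    have hQ₁z : ∀ i : Fin 7, i ≠ 0 → i ≠ 1 → eval (p i) Q₁ = 0 := by
      intro i hi0 hi1
      have := hC₁z i
      rw [hC₁Q, map_mul, eval_lin] at this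
      exact (mul_eq_zero.1 this).resolve_left (hnc 0 1 i c (by decide) (Ne.symm hi0) (Ne.symm hi1) hc hc0 hc1)
    obtain ⟨c', hc', hc2, hc3⟩ := exists_line (p 2) (p 3)
    set μ : k := -(eval (p 2 + (1 : k) • p 3) Q₁ / eval (p 2 + (1 : k) • p 3) Q) with hμ
    set Q₂ := Q₁ + C μ * Q with hQ₂
    have hQ₂h : Q₂.IsHomogeneous 2 := hQ₁.add (hQ.C_mul μ)
    have hQ₂z : ∀ i : Fin 7, i ≠ 0 → i ≠ 1 → eval (p i) Q₂ = 0 := fun i h h' => by
      rw [hQ₂, map_add, map_mul, hQ₁z i h h', hzQ, mul_zero, add_zero]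
    have hl2 := line_points (hind 2 3 (by decide)) ![1, 0, 1] ![0, 1, 1]
      (fun x y hxy => by fin_cases x <;> fin_cases y <;> first | exact absurd rfl hxy | simp | norm_num)
      (fun x => by fin_cases x <;> simp)
    have hdvd2 : lin c' ∣ Q₂ := by
      refine dvd_of_points hQ₂h hc' (ι := Fin 3) (by simp) (by omega) (fun x => (![1, 0, 1] : Fin 3 → k) x • p 2 + (![0, 1, 1] : Fin 3 → k) x • p 3) hl2.1 hl2.2 (fun x => ?_) (fun x => ?_)
      · rw [dotProduct_add, dotProduct_smul, dotProduct_smul, hc2, hc3]; simp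
      · fin_cases x
        · simpa using hQ₂z 2 (by decide) (by decide)
        · simpa using hQ₂z 3 (by decide) (by decide)
        · have h2 : eval (p 2 + (1 : k) • p 3) Q₂ = 0 := by
            rw [hQ₂, map_add, map_mul, eval_C, hμ, neg_mul, div_mul_cancel₀ _ (hoff 2 3 (by decide) 1 one_ne_zero), add_neg_cancel]
          simpa using h2
    obtain ⟨L, hL, hQ₂L⟩ := exists_homogeneous_factor (isHomogeneous_lin c') hQ₂h hdvd2
    obtain ⟨m, rfl⟩ := eq_lin L hL
    have hm : ∀ i : Fin 7, i ≠ 0 → i ≠ 1 → i ≠ 2 → i ≠ 3 → m ⬝ᵥ p i = 0 := fun i a b cc dd => by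
      have := hQ₂z i a b
      rw [hQ₂L, map_mul, eval_lin, eval_lin] at this
      exact (mul_eq_zero.1 this).resolve_left (hnc 2 3 i c' (by decide) (Ne.symm cc) (Ne.symm dd) hc' hc2 hc3)
    have hm0 : m = 0 := by
      by_contra hm0
      exact hnc 4 5 6 m (by decide) (by decide) (by decide) hm0 (hm 4 (by decide) (by decide) (by decide) (by decide))
        (hm 5 (by decide) (by decide) (by decide) (by decide)) (hm 6 (by decide) (by decide) (by decide) (by decide))
    refine ⟨-μ • c - lc, ?_⟩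
    have hQ₂0 : Q₂ = 0 := by rw [hQ₂L, hm0]; simp [lin]
    have hlin : lin (-μ • c - lc) = -(C μ * lin c) - lin lc := by
      simp only [lin, Finset.mul_sum, ← Finset.sum_neg_distrib, ← Finset.sum_sub_distrib, Pi.sub_apply, Pi.smul_apply, smul_eq_mul, map_sub, map_mul, map_neg]
      exact Finset.sum_congr rfl fun i _ => by ring
    rw [hlin]
    linear_combination hC₁Q + lin c * hQ₂0 - lin c * hQ₂ - hC₁

theorem pderiv_bind₁ {σ τ : Type} [Fintype σ] (f : σ → MvPolynomial τ k) (F : MvPolynomial σ k) (l : τ) :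
    pderiv l (bind₁ f F) = ∑ i, bind₁ f (pderiv i F) * pderiv l (f i) := by
  classical
  induction F using MvPolynomial.induction_on with
  | C r => simp
  | add p q hp hq => simp only [map_add, hp, hq, add_mul, Finset.sum_add_distrib]
  | mul_X p j hp =>
    rw [map_mul, bind₁_X_right, pderiv_mul, hp, Finset.sum_mul]
    simp only [pderiv_mul, map_add, map_mul, bind₁_X_right, add_mul, Finset.sum_add_distrib, pderiv_X, Pi.single_apply]
    congr 1
    · exact Finset.sum_congr rfl fun i _ => by ring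
    · rw [Finset.sum_eq_single j (fun i _ hi => by simp [hi, Ne.symm hi]) (by simp)]
      simp

/-- a cubic singular at `e₃` is linear in the last variable -/
theorem decomp {P : MvPolynomial (Fin 4) k} (hP : P.IsHomogeneous 3)
    (h3 : ∀ m ∈ P.support, m 3 ≤ 1) :
    ∃ C₀ Q : MvPolynomial (Fin 3) k, C₀.IsHomogeneous 3 ∧ Q.IsHomogeneous 2 ∧
      P = rename Fin.castSucc C₀ + X 3 * rename Fin.castSucc Q := by
  classical
  rw [P.as_sum]
  refine Finset.sum_induction _ (fun G => ∃ C₀ Q : MvPolynomial (Fin 3) k, C₀.IsHomogeneous 3 ∧ Q.IsHomogeneous 2 ∧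
      G = rename Fin.castSucc C₀ + X 3 * rename Fin.castSucc Q) ?_ ?_ ?_
  · rintro a b ⟨C₁, Q₁, hC₁, hQ₁, rfl⟩ ⟨C₂, Q₂, hC₂, hQ₂, rfl⟩
    exact ⟨C₁ + C₂, Q₁ + Q₂, hC₁.add hC₂, hQ₁.add hQ₂, by simp only [map_add]; ring⟩
  · exact ⟨0, 0, isHomogeneous_zero _ _ _, isHomogeneous_zero _ _ _, by simp⟩
  · intro m hm
    have hsum : ∑ i, m i = 3 := by
      rw [hP.degree_eq_sum_deg_support hm]
      exact (Finset.sum_subset (Finset.subset_univ _) (fun i _ hi => Finsupp.notMem_support_iff.1 hi)).symm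
    rw [Fin.sum_univ_four] at hsum
    set n : Fin 3 →₀ ℕ := Finsupp.equivFunOnFinite.symm (fun i => m i.castSucc) with hn
    have hn' : (monomial n (P.coeff m)).IsHomogeneous (m 0 + m 1 + m 2) := isHomogeneous_monomial _ (by
      rw [Finsupp.degree_eq_sum, Fin.sum_univ_three]; simp [hn])
    have key : monomial m (P.coeff m) = X 3 ^ m 3 * rename Fin.castSucc (monomial n (P.coeff m)) := by
      rw [monomial_eq, monomial_eq, map_mul, rename_C, Finsupp.prod_fintype _ _ (fun _ => pow_zero _),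
        Finsupp.prod_fintype _ _ (fun _ => pow_zero _), map_prod, Fin.prod_univ_four, Fin.prod_univ_three]
      simp only [map_pow, rename_X, hn, Finsupp.equivFunOnFinite_symm_apply_apply]
      rw [show ((0 : Fin 3).castSucc) = (0 : Fin 4) from rfl, show ((1 : Fin 3).castSucc) = (1 : Fin 4) from rfl,
        show ((2 : Fin 3).castSucc) = (2 : Fin 4) from rfl]
      ring
    rcases Nat.le_one_iff_eq_zero_or_eq_one.1 (h3 m hm) with h | h
    · exact ⟨_, 0, (show m 0 + m 1 + m 2 = 3 by omega) ▸ hn', isHomogeneous_zero _ _ _, by rw [key, h]; simp⟩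
    · exact ⟨0, _, isHomogeneous_zero _ _ _, (show m 0 + m 1 + m 2 = 2 by omega) ▸ hn', by rw [key, h]; simp⟩

theorem eval_single_eq_coeff {σ : Type} [Fintype σ] [DecidableEq σ] {P : MvPolynomial σ k} {d : ℕ} (hP : P.IsHomogeneous d) (j : σ) :
    eval (Pi.single j 1) P = P.coeff (Finsupp.single j d) := by
  rw [eval_eq', Finset.sum_eq_single (Finsupp.single j d)]
  · rw [Finset.prod_eq_single j (fun i _ hi => by simp [hi]) (by simp)]
    simp
  · intro m hm hne
    have hsum : ∑ i, m i = d := by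
      rw [hP.degree_eq_sum_deg_support hm]
      exact (Finset.sum_subset (Finset.subset_univ _) (fun i _ hi => Finsupp.notMem_support_iff.1 hi)).symm
    obtain ⟨i, hi, hm0⟩ : ∃ i, i ≠ j ∧ m i ≠ 0 := by
      by_contra hn
      push Not at hn
      refine hne (Finsupp.ext fun i => ?_)
      rw [Fintype.sum_eq_single j (fun i hi => hn i hi)] at hsum
      by_cases hi : i = j
      · subst hi; simp [hsum]
      · simp [hn i hi, Ne.symm hi]
    rw [Finset.prod_eq_zero (Finset.mem_univ i) (by simp [hi, hm0]), mul_zero]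
  · intro h; rw [notMem_support_iff.1 h, zero_mul]

/-- Let K be an algebraically closed field of characteristic zero and S = V(F) ⊂ P^3_K a cubic surface,
F a homogeneous cubic in four variables which is irreducible and not a cone (there is no nonzero
vector v with Σ_i v_i ∂F/∂x_i = 0). If a is a singular point of S (a nonzero vector with F(a) = 0
and every ∂F/∂x_i(a) = 0), then at most six lines through a lie on S; here a line through a on S is
a 2-dimensional subspace of K^4 containing a on which F vanishes identically. -/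
theorem result (K : Type u) [Field K] [IsAlgClosed K] [CharZero K]
    (F : MvPolynomial (Fin 4) K) (hF : F.IsHomogeneous 3) (hirr : Irreducible F)
    (hcone : ¬ ∃ v : Fin 4 → K, v ≠ 0 ∧ ∑ i : Fin 4, v i • MvPolynomial.pderiv i F = 0)
    (a : Fin 4 → K) (ha : a ≠ 0) (hFa : MvPolynomial.eval a F = 0)
    (hsing : ∀ i : Fin 4, MvPolynomial.eval a (MvPolynomial.pderiv i F) = 0) :
    {U : Submodule K (Fin 4 → K) | a ∈ U ∧ Module.finrank K ↥U = 2 ∧ ∀ u ∈ U, MvPolynomial.eval u F = 0}.encard ≤ 6 := by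
  classical
  obtain ⟨j, hj⟩ : ∃ j, a j ≠ 0 := by
    by_contra hn; push Not at hn; exact ha (funext hn)
  let σ : Equiv.Perm (Fin 4) := Equiv.swap j 3
  let f : Fin 4 → MvPolynomial (Fin 4) K := fun i => (if i = j then 0 else X (σ i)) + X 3 * C (a i)
  let h : Fin 4 → MvPolynomial (Fin 4) K := fun l => if l = 3 then C (a j)⁻¹ * X j else X (σ l) - C (a (σ l) * (a j)⁻¹) * X j
  have hfh : ∀ i, bind₁ f (h i) = X i := by
    intro l
    by_cases hl : l = 3
    · subst hl
      simp only [h, if_true, map_mul, bind₁_C_right, bind₁_X_right, f, zero_add]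
      rw [mul_left_comm, ← C_mul, inv_mul_cancel₀ hj, C_1, mul_one]
    · have hσl : σ l ≠ j := fun e => hl (σ.injective (by rw [e]; simp [σ]))
      simp only [h, if_neg hl, map_sub, map_mul, bind₁_C_right, bind₁_X_right, f, if_neg hσl, if_true, zero_add]
      rw [show σ (σ l) = l from Equiv.swap_apply_self _ _ l]
      have e : C (a j)⁻¹ * C (a j) = (1 : MvPolynomial (Fin 4) K) := by rw [← C_mul, inv_mul_cancel₀ hj, C_1]
      linear_combination (-(C (a (σ l)) * X 3)) * e
  have hhf : ∀ i, bind₁ h (f i) = X i := by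
    intro i
    by_cases hi : i = j
    · subst hi
      simp only [f, if_true, zero_add, map_mul, bind₁_X_right, bind₁_C_right, h]
      rw [mul_comm, ← mul_assoc, ← C_mul, mul_inv_cancel₀ hj, C_1, one_mul]
    · have hσi : σ i ≠ 3 := fun e => hi (σ.injective (by rw [e]; simp [σ]))
      simp only [f, if_neg hi, map_add, map_mul, bind₁_X_right, bind₁_C_right, h, if_neg hσi, if_true]
      rw [show σ (σ i) = i from Equiv.swap_apply_self _ _ i]
      ring
  let Φ : MvPolynomial (Fin 4) K ≃ₐ[K] MvPolynomial (Fin 4) K :=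
    AlgEquiv.ofAlgHom (bind₁ f) (bind₁ h)
      (MvPolynomial.algHom_ext fun i => by rw [AlgHom.comp_apply, bind₁_X_right, hfh, AlgHom.id_apply])
      (MvPolynomial.algHom_ext fun i => by rw [AlgHom.comp_apply, bind₁_X_right, hhf, AlgHom.id_apply])
  set P := bind₁ f F with hP
  have hPirr : Irreducible P := (MulEquiv.irreducible_iff Φ).2 hirr
  have hf1 : ∀ i, (f i).IsHomogeneous 1 := fun i => by
    refine IsHomogeneous.add ?_ ((isHomogeneous_X _ _).mul (isHomogeneous_C _ _))
    split_ifs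
    · exact isHomogeneous_zero _ _ _
    · exact isHomogeneous_X _ _
  have hPhom : P.IsHomogeneous 3 := by simpa using hF.aeval (S := K) f hf1
  let G : (Fin 4 → K) → (Fin 4 → K) := fun z i => eval z (f i)
  let H : (Fin 4 → K) → (Fin 4 → K) := fun z i => eval z (h i)
  have hevalP : ∀ z, eval z P = eval (G z) F := fun z => by rw [hP, eval, eval₂Hom_bind₁]; rfl
  have hGH : ∀ x, G (H x) = x := fun x => funext fun i => by
    have := congrArg (eval x) (hhf i)
    rw [eval_X, eval, eval₂Hom_bind₁] at this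
    exact this
  have hGlin : ∀ (s : K) (z z' : Fin 4 → K), G (s • z + z') = s • G z + G z' := fun s z z' => funext fun i => by
    simp only [G, f, Pi.add_apply, Pi.smul_apply, smul_eq_mul, map_add, map_mul, eval_X, eval_C]
    split_ifs <;> simp <;> ring
  have hGe : G (Pi.single 3 1) = a := funext fun i => by
    simp only [G, f, map_add, map_mul, eval_X, eval_C, Pi.single_eq_same, one_mul]
    split_ifs with hi
    · simp
    · have hσi : σ i ≠ 3 := fun e => hi (σ.injective (by rw [e]; simp [σ]))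
      simp [hσi]
  have hgrad : ∀ l, eval (Pi.single 3 1) (pderiv l P) = 0 := fun l => by
    rw [hP, pderiv_bind₁, map_sum]
    refine Finset.sum_eq_zero fun i _ => ?_
    rw [map_mul, show eval (Pi.single 3 1) (bind₁ f (pderiv i F)) = eval (G (Pi.single 3 1)) (pderiv i F) by
      rw [eval, eval₂Hom_bind₁]; rfl, hGe, hsing, zero_mul]
  have hlow : ∀ m ∈ P.support, m 3 ≤ 1 := by
    intro m hm
    by_contra hgt
    have hsum : ∑ i, m i = 3 := by
      rw [hPhom.degree_eq_sum_deg_support hm]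
      exact (Finset.sum_subset (Finset.subset_univ _) (fun i _ hi => Finsupp.notMem_support_iff.1 hi)).symm
    have hcoe := mem_support_iff.1 hm
    obtain ⟨l, hl⟩ : ∃ l, m = Finsupp.single 3 2 + Finsupp.single l 1 := by
      rw [Fin.sum_univ_four] at hsum
      rcases (show (m 0 = 1 ∧ m 1 = 0 ∧ m 2 = 0 ∧ m 3 = 2) ∨ (m 0 = 0 ∧ m 1 = 1 ∧ m 2 = 0 ∧ m 3 = 2) ∨
          (m 0 = 0 ∧ m 1 = 0 ∧ m 2 = 1 ∧ m 3 = 2) ∨ (m 0 = 0 ∧ m 1 = 0 ∧ m 2 = 0 ∧ m 3 = 3) by omega) with
        ⟨e0, e1, e2, e3⟩ | ⟨e0, e1, e2, e3⟩ | ⟨e0, e1, e2, e3⟩ | ⟨e0, e1, e2, e3⟩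
      · exact ⟨0, Finsupp.ext fun i => by fin_cases i <;> simp [e0, e1, e2, e3]⟩
      · exact ⟨1, Finsupp.ext fun i => by fin_cases i <;> simp [e0, e1, e2, e3]⟩
      · exact ⟨2, Finsupp.ext fun i => by fin_cases i <;> simp [e0, e1, e2, e3]⟩
      · exact ⟨3, Finsupp.ext fun i => by fin_cases i <;> simp [e0, e1, e2, e3]⟩
    have h1 : (pderiv l P).coeff (Finsupp.single 3 2) = 0 := by
      rw [← eval_single_eq_coeff (by simpa using hPhom.pderiv (i := l)) 3]; exact hgrad l
    rw [coeff_pderiv, ← hl] at h1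
    rcases mul_eq_zero.1 h1 with h1 | h1
    · exact hcoe h1
    · exact Nat.cast_add_one_ne_zero _ h1
  obtain ⟨C₀, Q, hC₀, hQ, hdec⟩ := decomp hPhom hlow
  have hQ0 : Q ≠ 0 := by
    intro hQ0
    rw [hQ0, map_zero, mul_zero, add_zero] at hdec
    have h30 : pderiv (3 : Fin 4) P = 0 := by
      rw [hdec]
      have : ∀ G : MvPolynomial (Fin 3) K, pderiv (3 : Fin 4) (rename Fin.castSucc G) = 0 := fun G => by
        induction G using MvPolynomial.induction_on with
        | C r => simp
        | add p q hp hq => simp [hp, hq]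
        | mul_X p i hp =>
          have : i.castSucc ≠ (3 : Fin 4) := Fin.ne_of_lt i.castSucc_lt_last
          simp [hp, pderiv_X, this]
      exact this C₀
    have hd : ∀ i, pderiv (3 : Fin 4) (f i) = C (a i) := fun i => by
      simp only [f, map_add, pderiv_mul, pderiv_X_self, one_mul, pderiv_C, mul_zero, add_zero]
      split_ifs with hi
      · simp
      · have hσi : σ i ≠ 3 := fun e => hi (σ.injective (by rw [e]; simp [σ]))
        simp [pderiv_X, hσi]
    rw [hP, pderiv_bind₁] at h30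
    refine hcone ⟨a, ha, Φ.injective ?_⟩
    rw [map_zero, ← h30, map_sum]
    exact Finset.sum_congr rfl fun i _ => by rw [hd, map_smul, smul_eq_C_mul, mul_comm]; rfl
  by_contra hgt
  rw [not_le] at hgt
  obtain ⟨T, hTsub, hTcard⟩ := Set.exists_subset_encard_eq (Order.add_one_le_of_lt hgt)
  have hTfin : T.Finite := Set.finite_of_encard_eq_coe (k := 7) (by rw [hTcard]; rfl)
  have hT7 : hTfin.toFinset.card = 7 := by
    have h7 := hTfin.encard_eq_coe_toFinset_card
    rw [hTcard] at h7
    exact_mod_cast h7.symm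
  let e : Fin 7 ≃ hTfin.toFinset := (hTfin.toFinset.equivFinOfCardEq hT7).symm
  let U : Fin 7 → Submodule K (Fin 4 → K) := fun i => (e i).1
  have hU : ∀ i, a ∈ U i ∧ Module.finrank K ↥(U i) = 2 ∧ ∀ u ∈ U i, eval u F = 0 :=
    fun i => hTsub (hTfin.mem_toFinset.1 (e i).2)
  have hUinj : Function.Injective U := fun i l hil => e.injective (Subtype.ext hil)
  have hx : ∀ i, ∃ x ∈ U i, ∀ t : K, x ≠ t • a := by
    intro i
    by_contra hn
    push Not at hn
    have hle : U i ≤ K ∙ a := fun x hx => by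
      obtain ⟨t, ht⟩ := hn x hx
      exact Submodule.mem_span_singleton.2 ⟨t, ht.symm⟩
    have := (hU i).2.1 ▸ (Submodule.finrank_mono hle).trans (finrank_span_singleton ha).le
    omega
  choose x hxU hxa using hx
  let y : Fin 7 → Fin 3 → K := fun i l => H (x i) l.castSucc
  have hsplit : ∀ z : Fin 4 → K, (∀ l : Fin 3, z l.castSucc = 0) → z = z 3 • (Pi.single 3 1 : Fin 4 → K) := by
    intro z hz
    funext l
    refine Fin.lastCases ?_ (fun l => ?_) l
    · show z 3 = _; simp
    · rw [hz]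
      have : l.castSucc ≠ (3 : Fin 4) := Fin.ne_of_lt l.castSucc_lt_last
      simp [this]
  have hG0 : G 0 = 0 := by
    have := hGlin 1 0 0
    simp only [smul_zero, add_zero, one_smul] at this
    simpa using this
  have hy0 : ∀ i, y i ≠ 0 := by
    intro i h0
    have hz := hsplit (H (x i)) (fun l => congrFun h0 l)
    refine hxa i (H (x i) 3) ?_
    conv_lhs => rw [← hGH (x i), hz, ← add_zero (H (x i) 3 • _), hGlin, hGe, hG0, add_zero]
  have hyp : ∀ i l, i ≠ l → ∀ s : K, y i ≠ s • y l := by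
    intro i l hil s hs
    have hz := hsplit (H (x i) - s • H (x l)) (fun r => by
      have := congrFun hs r
      simp only [y, Pi.smul_apply, smul_eq_mul] at this
      simp [this])
    set t := (H (x i) - s • H (x l)) 3
    have hxi : x i = s • x l + t • a := by
      have h2 : H (x i) = s • H (x l) + (t • Pi.single 3 1 + 0) := by rw [add_zero, ← hz]; abel
      calc x i = G (H (x i)) := (hGH _).symm
        _ = s • G (H (x l)) + (t • G (Pi.single 3 1) + G 0) := by rw [h2, hGlin, hGlin]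
        _ = _ := by rw [hGH, hGe, hG0, add_zero]
    have hspan : Submodule.span K (Set.range ![a, x i]) = U i := by
      refine Submodule.eq_of_le_of_finrank_le (Submodule.span_le.2 ?_) ?_
      · rintro _ ⟨r, rfl⟩; fin_cases r
        · exact (hU i).1
        · exact hxU i
      · rw [(hU i).2.1, finrank_span_eq_card (LinearIndependent.pair_iff.2 fun p q hpq => ?_), Fintype.card_fin]
        by_cases hq : q = 0
        · subst hq
          rw [zero_smul, add_zero, smul_eq_zero] at hpq
          exact ⟨hpq.resolve_right ha, rfl⟩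
        · refine absurd ?_ (hxa i (-(p / q)))
          have hh := congrArg (q⁻¹ • ·) hpq
          simp only [smul_add, smul_smul, inv_mul_cancel₀ hq, one_smul, smul_zero] at hh
          rw [neg_smul, eq_neg_iff_add_eq_zero, add_comm, div_eq_inv_mul]
          exact hh
    refine hil (hUinj (Submodule.eq_of_le_of_finrank_le ?_ ((hU l).2.1.trans (hU i).2.1.symm).le))
    rw [← hspan, Submodule.span_le]
    rintro _ ⟨r, rfl⟩; fin_cases r
    · exact (hU l).1
    · show x i ∈ U l
      rw [hxi]; exact add_mem (Submodule.smul_mem _ _ (hxU l)) (Submodule.smul_mem _ _ (hU l).1)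
  have hzero : ∀ i, ∀ t : K, eval (y i) C₀ + t * eval (y i) Q = 0 := by
    intro i t
    have h1 : eval ((t - H (x i) 3) • Pi.single 3 1 + H (x i)) P = 0 := by
      rw [hevalP, hGlin, hGe, hGH]
      exact (hU i).2.2 _ (add_mem (Submodule.smul_mem _ _ (hU i).1) (hxU i))
    rw [hdec, map_add, map_mul, eval_X, eval_rename, eval_rename] at h1
    have e1 : (((t - H (x i) 3) • Pi.single 3 1 + H (x i) : Fin 4 → K) ∘ Fin.castSucc) = y i := funext fun l => by
      have : l.castSucc ≠ (3 : Fin 4) := Fin.ne_of_lt l.castSucc_lt_last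
      simp [this, y]
    rw [e1] at h1
    simpa using h1
  have hzC : ∀ i, eval (y i) C₀ = 0 := fun i => by simpa using hzero i 0
  have hzQ : ∀ i, eval (y i) Q = 0 := fun i => by simpa [hzC i] using hzero i 1
  have hnu : ∀ (R : MvPolynomial (Fin 4) K) (n : ℕ), 1 ≤ n → R.IsHomogeneous n → ¬ IsUnit R := by
    intro R n hn hR hu
    have hu' := hu.map (eval (0 : Fin 4 → K))
    have h0 : eval (0 : Fin 4 → K) R = 0 := by
      have := eval_smul hR (0 : K) (0 : Fin 4 → K)
      rwa [smul_zero, zero_pow (by omega), zero_mul] at this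
    rw [h0] at hu'
    exact not_isUnit_zero hu'
  rcases seven hQ hC₀ hQ0 y hy0 hyp hzQ hzC with ⟨c, hc, ⟨Q', hQ'⟩, ⟨C', hC'⟩⟩ | ⟨c, hc⟩
  · have hfac : P = rename Fin.castSucc (lin c) * (rename Fin.castSucc C' + X 3 * rename Fin.castSucc Q') := by
      rw [hdec, hQ', hC', map_mul, map_mul]; ring
    rcases hPirr.isUnit_or_isUnit hfac with hu | hu
    · exact hnu _ 1 le_rfl (isHomogeneous_lin c).rename_isHomogeneous hu
    · obtain ⟨C'', hC'', hC''e⟩ := exists_homogeneous_factor (isHomogeneous_lin c) hC₀ ⟨C', hC'⟩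
      obtain ⟨Q'', hQ'', hQ''e⟩ := exists_homogeneous_factor (isHomogeneous_lin c) hQ ⟨Q', hQ'⟩
      rw [show C' = C'' from mul_left_cancel₀ (lin_ne_zero hc) (hC'.symm.trans hC''e),
        show Q' = Q'' from mul_left_cancel₀ (lin_ne_zero hc) (hQ'.symm.trans hQ''e)] at hu
      exact hnu _ 2 (by omega) (hC''.rename_isHomogeneous.add ((isHomogeneous_X _ _).mul hQ''.rename_isHomogeneous)) hu
  · have hfac : P = rename Fin.castSucc Q * (rename Fin.castSucc (lin c) + X 3) := by
      rw [hdec, hc, map_mul]; ring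
    rcases hPirr.isUnit_or_isUnit hfac with hu | hu
    · exact hnu _ 2 (by omega) hQ.rename_isHomogeneous hu
    · exact hnu _ 1 le_rfl ((isHomogeneous_lin c).rename_isHomogeneous.add (isHomogeneous_X _ _)) hu

end Groth.Agent.S16347
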