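import Groth.Statements.S1635
import Groth.Agent.CurveRR24.Section

set_option autoImplicit false
universe u
open CategoryTheory CategoryTheory.Limits AlgebraicGeometry
open Curves

namespace Groth.Agent.S1635

/-- Let X be a proper curve over k with global functions k and genus 0, and L an invertible module of
degree d > 0. Then H^0(X, L) has dimension d + 1 and H^1(X, L) = 0. -/
theorem result (k : Type u) [Field k] (X : Scheme.{u}) [X.Over (Spec (CommRingCat.of k))]
    [IsIntegral X] [IsProper (X ↘ (Spec (CommRingCat.of k)))] (hdim : topologicalKrullDim X = 1)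
    (h0 : Module.finrank k (Coh.HH X (Coh.structureModule X) 0) = 1) (hg : Curv2.genus k X = 0)
    (L : X.Modules) (hL : PicF.IsInvertible L) (d : ℕ) (hd : 0 < d) (hdeg : Curv2.deg k X L 1 = d) :
    Module.finrank k (Coh.HH X L 0) = d + 1 ∧ Subsingleton (Coh.HH X L 1) := by
  have hrr := Groth.Agent.CurveRR24.riemann_roch k hdim.le hL
  rw [hdeg, h0, hg] at hrr
  have hpos : 0 < Module.finrank k (Coh.HH X L 0) := by omega
  have hs : Nontrivial (Coh.HH X L 0) := Module.nontrivial_of_finrank_pos hpos
  obtain ⟨s, hs0⟩ := Groth.Agent.CurveRR24.exists_ne_zero_of_nontrivial k hs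
  obtain ⟨S, hS, hS1, hS2, -, -, -, hvan, -⟩ := Groth.Agent.CurveRR24.exists_cokernel k hdim.le hL hs0
  haveI := Groth.Agent.CurveRR24.isLocallyNoetherian_of_proper k (X := X)
  haveI := Groth.Agent.CurveRR24.finite_HH_of_isCoh k (Groth.Agent.Coherent.isCoh_structureModule X) 1
  have hO : Subsingleton (Coh.HH X (Coh.structureModule X) 1) := Module.finrank_zero_iff.1 hg
  have h1 : Subsingleton (Coh.HH X L 1) := by
    rw [← hS2]
    exact Groth.Agent.EulerLib.subsingleton_HH_X₂ hS 1 (hS1.symm ▸ hO) (hvan 1 Nat.one_pos)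
  refine ⟨?_, h1⟩
  have h2 : Module.finrank k (Coh.HH X L 1) = 0 := Module.finrank_zero_of_subsingleton
  omega

end Groth.Agent.S1635
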