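import Groth.Statements.S16351
import Mathlib
import Groth.Prelude
import Groth.Agent.CAlgMisc2.Normal

set_option linter.all false

set_option autoImplicit false
universe u
open Cubic

open AlgebraicGeometry CategoryTheory DirectSum

namespace Groth.Agent.S16351

/-- Let K be a field of characteristic zero and S = V(F) ⊂ P^3_K a cone over a plane cubic curve C,
normalised so that the vertex is [1 : 0 : 0 : 0], i.e. F is a homogeneous cubic in K[x_0, …, x_3]
not involving x_0 and C = V(F) in the plane P^2 of the coordinates x_1, x_2, x_3. If C has five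
K-rational points no three of which are collinear, then S has five K-rational points in general
position (no four coplanar: any four representing vectors linearly independent). -/
theorem result (K : Type u) [Field K] [CharZero K]
    (G : MvPolynomial (Fin 3) K) (hG : G.IsHomogeneous 3) (F : MvPolynomial (Fin 4) K)
    (hF : F = MvPolynomial.rename Fin.succ G)
    (b : Fin 5 → (Fin 3 → K)) (hb : ∀ j : Fin 5, MvPolynomial.eval (b j) G = 0)
    (h3 : ∀ i j l : Fin 5, i ≠ j → j ≠ l → i ≠ l → LinearIndependent K ![b i, b j, b l]) :
    ∃ p : Fin 5 → (Fin 4 → K), (∀ j : Fin 5, MvPolynomial.eval (p j) F = 0) ∧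
      ∀ j : Fin 5, LinearIndependent K (fun i : Fin 4 => p (j.succAbove i)) := by
  classical
  let D : Fin 5 → (Fin 5 → K) → K := fun j t => Matrix.det (Matrix.of fun i : Fin 4 => Fin.cons (t (j.succAbove i)) (b (j.succAbove i)))
  let P : Fin 5 → MvPolynomial (Fin 5) K := fun j =>
    Matrix.det (Matrix.of fun i : Fin 4 => Fin.cons (MvPolynomial.X (j.succAbove i)) (fun l => MvPolynomial.C (b (j.succAbove i) l)))
  have hPD : ∀ j t, MvPolynomial.eval t (P j) = D j t := by
    intro j t
    rw [RingHom.map_det]
    congr 1
    ext i l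
    refine Fin.cases ?_ (fun l => ?_) l <;> simp
  have hP0 : ∀ j, P j ≠ 0 := by
    intro j hj
    have hd := hPD j (Pi.single (j.succAbove 0) 1)
    rw [hj, map_zero] at hd
    have hdet : (Matrix.of fun i : Fin 3 => b (j.succAbove i.succ)).det ≠ 0 := by
      have hli : LinearIndependent K (Matrix.of fun i : Fin 3 => b (j.succAbove i.succ)).row := by
        have e : (fun i : Fin 3 => b (j.succAbove i.succ)) = ![b (j.succAbove 1), b (j.succAbove 2), b (j.succAbove 3)] := by
          funext i; fin_cases i <;> rfl
        show LinearIndependent K (fun i : Fin 3 => b (j.succAbove i.succ))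
        rw [e]
        refine h3 _ _ _ ?_ ?_ ?_ <;> exact fun h => by simpa using Fin.succAbove_right_injective h
      rw [Matrix.linearIndependent_rows_iff_isUnit, Matrix.isUnit_iff_isUnit_det] at hli
      exact hli.ne_zero
    have h0 : ∀ i : Fin 3, (Pi.single (j.succAbove 0) (1 : K) : Fin 5 → K) (j.succAbove i.succ) = 0 := fun i => by
      rw [Pi.single_eq_of_ne (fun h => Fin.succ_ne_zero i (Fin.succAbove_right_injective h))]
    simp only [D] at hd
    rw [Matrix.det_succ_column_zero, Fin.sum_univ_succ] at hd
    simp only [Matrix.of_apply, Fin.cons_zero, Pi.single_eq_same, h0, mul_zero, zero_mul, Finset.sum_const_zero, add_zero,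
      Fin.val_zero, pow_zero, one_mul] at hd
    apply hdet
    rw [hd]
    congr 1
  have hprod : (∏ j, P j) ≠ 0 := Finset.prod_ne_zero_iff.2 fun j _ => hP0 j
  obtain ⟨t, ht⟩ : ∃ t, MvPolynomial.eval t (∏ j, P j) ≠ 0 := by
    by_contra hall
    push Not at hall
    exact hprod (MvPolynomial.funext fun t => by rw [hall, map_zero])
  rw [map_prod] at ht
  refine ⟨fun j => Fin.cons (t j) (b j), fun j => ?_, fun j => ?_⟩
  · rw [hF, MvPolynomial.eval_rename]
    convert! hb j using 2
  · have hne := Finset.prod_ne_zero_iff.1 ht j (Finset.mem_univ j)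
    rw [hPD] at hne
    have hu : IsUnit (Matrix.of fun i : Fin 4 => (Fin.cons (t (j.succAbove i)) (b (j.succAbove i)) : Fin 4 → K)) := by
      rw [Matrix.isUnit_iff_isUnit_det, isUnit_iff_ne_zero]; exact hne
    exact Matrix.linearIndependent_rows_of_isUnit hu

end Groth.Agent.S16351
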