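import Groth.Statements.S16352
import Groth.Agent.CubicSurface.Polar
-- import your own Groth.Agent.* helpers here

set_option autoImplicit false
universe u
open Cubic

namespace Groth.Agent.S16352

open Groth.Agent.CubicSurface

/-- Let K be an algebraically closed field of characteristic zero and S = V(F) ⊂ P^3_K a cubic surface
which is irreducible and not a cone (no nonzero vector v has Σ_i v_i ∂F/∂x_i = 0). Let a be a smooth
point of S which is not a T-point: with ℓ = Σ_i ∂F/∂x_i(a) · x_i the (nonzero) linear form of the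
tangent plane T_a S, F is not congruent modulo ℓ to a product of three linear forms (i.e. T_a S ∩ S
is not set-theoretically a union of lines). Let P = Σ_i a_i ∂F/∂x_i be the first polar of a. Then
V(P) ∩ T_a S is a union of at most two lines through a, and every line through a lying on S lies in
V(P) ∩ T_a S; lines are 2-dimensional subspaces of K^4 and T_a S is the 3-dimensional subspace where
ℓ vanishes. -/
theorem result (K : Type u) [Field K] [IsAlgClosed K] [CharZero K]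
    (F : MvPolynomial (Fin 4) K) (hF : F.IsHomogeneous 3) (hirr : Irreducible F)
    (hcone : ¬ ∃ v : Fin 4 → K, v ≠ 0 ∧ ∑ i : Fin 4, v i • MvPolynomial.pderiv i F = 0)
    (a : Fin 4 → K) (ha : a ≠ 0) (hFa : MvPolynomial.eval a F = 0)
    (hsm : ∃ i : Fin 4, MvPolynomial.eval a (MvPolynomial.pderiv i F) ≠ 0)
    (ℓ : MvPolynomial (Fin 4) K)
    (hℓ : ℓ = ∑ i : Fin 4, MvPolynomial.C (MvPolynomial.eval a (MvPolynomial.pderiv i F)) * MvPolynomial.X i)
    (hT : ¬ ∃ L₁ L₂ L₃ : MvPolynomial (Fin 4) K, L₁.IsHomogeneous 1 ∧ L₂.IsHomogeneous 1 ∧ L₃.IsHomogeneous 1 ∧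
      F - L₁ * L₂ * L₃ ∈ Ideal.span {ℓ})
    (P : MvPolynomial (Fin 4) K) (hP : P = ∑ i : Fin 4, a i • MvPolynomial.pderiv i F)
    (H : Submodule K (Fin 4 → K)) (hH : ∀ x : Fin 4 → K, x ∈ H ↔ MvPolynomial.eval x ℓ = 0) :
    (∃ U₁ U₂ : Submodule K (Fin 4 → K), Module.finrank K ↥U₁ = 2 ∧ Module.finrank K ↥U₂ = 2 ∧ a ∈ U₁ ∧ a ∈ U₂ ∧
        U₁ ≤ H ∧ U₂ ≤ H ∧ {x : Fin 4 → K | x ∈ H ∧ MvPolynomial.eval x P = 0} = (U₁ : Set (Fin 4 → K)) ∪ (U₂ : Set (Fin 4 → K))) ∧
      ∀ U : Submodule K (Fin 4 → K), a ∈ U → Module.finrank K ↥U = 2 → (∀ u ∈ U, MvPolynomial.eval u F = 0) →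
        U ≤ H ∧ ∀ u ∈ U, MvPolynomial.eval u P = 0 := by
  classical
  have hsm' : SL F a a ≠ 0 := fun h => by
    obtain ⟨i, hi⟩ := hsm
    exact hi (by rw [eval_pderiv_eq_S hF, ← SL_apply, h]; simp)
  have hℓ' : linPoly ((3 : K) • SL F a a) = ℓ := by
    subst hℓ
    exact Finset.sum_congr rfl fun i _ => by rw [eval_pderiv_eq_S hF]; simp
  have hH' : H = LinearMap.ker (SL F a a) := by
    ext x
    rw [hH, hℓ, eval_tangent hF, LinearMap.mem_ker, SL_apply, mul_eq_zero, or_iff_right three_ne_zero]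
  have hFa' : S F a a a = 0 := by rw [← eval_eq_S hF]; exact hFa
  have hPx : ∀ x, MvPolynomial.eval x P = 0 ↔ S F x x a = 0 := fun x => by
    rw [hP, eval_polar hF, mul_eq_zero, or_iff_right three_ne_zero]
  refine ⟨?_, fun U hUa hUd hU => ?_⟩
  · obtain ⟨U₁, U₂, h1, h2, h3, h4, h5, h6, h7⟩ := polar_two_lines hF a ha hFa' hsm' fun φ ψ χ h =>
      hT ⟨_, _, _, linPoly_homogeneous φ, linPoly_homogeneous ψ, linPoly_homogeneous χ, hℓ' ▸ h⟩
    refine ⟨U₁, U₂, h1, h2, h3, h4, hH' ▸ h5, hH' ▸ h6, ?_⟩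
    ext x
    simp only [Set.mem_setOf_eq, Set.mem_union, SetLike.mem_coe, hPx, hH']
    exact ⟨fun ⟨hx, h0⟩ => (h7 x hx).1 h0, fun h => ⟨h.elim (fun h => h5 h) (fun h => h6 h),
      (h7 x (h.elim (fun h => h5 h) (fun h => h6 h))).2 h⟩⟩
  · have hU' : ∀ u ∈ U, S F u u u = 0 := fun u hu => by rw [← eval_eq_S hF]; exact hU u hu
    exact ⟨fun u hu => hH'.symm ▸ polar_of_subspace hU' hUa hu, fun u hu => (hPx u).2 (polar_of_subspace hU' hu hUa)⟩

end Groth.Agent.S16352
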