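import Groth.Statements.S16353
import Mathlib

set_option autoImplicit false
universe u
open DegLoci

namespace Groth.Agent.S16353

/-- Let k be a field of characteristic zero, R = k[y_0, …, y_{m−1}] acting on S = k[∂_0, …, ∂_{m−1}] by
apolarity (y_i acts as the derivative with respect to ∂_i), F ∈ S homogeneous of degree e and d ≤ e.
Then the degree-d part of the apolar ideal of F is the orthogonal complement of the partial
derivatives of F of order e − d: a homogeneous D ∈ R_d satisfies D(F) = 0 if and only if D(y^α(F)) =
0 for every multi-index α with |α| = e − d (each D(y^α(F)) being a constant, the value of the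
apolarity pairing of D with y^α(F)). -/
theorem result (k : Type u) [Field k] [CharZero k] (m : ℕ)
    (F : MvPolynomial (Fin m) k) (e : ℕ) (hF : F.IsHomogeneous e) (d : ℕ) (hd : d ≤ e)
    (D : MvPolynomial (Fin m) k) (hD : D.IsHomogeneous d) :
    W4c3degenlocivb.contract D F = 0 ↔
      ∀ α : Fin m →₀ ℕ, α.degree = e - d → W4c3degenlocivb.contract D (W4c3degenlocivb.contract (MvPolynomial.monomial α 1) F) = 0 := by
  classical
  let df : (Fin m →₀ ℕ) → (Fin m →₀ ℕ) → ℕ := fun β α => ∏ i, Nat.descFactorial (β i) (α i)
  have hdf : ∀ β α : Fin m →₀ ℕ, α ≤ β → (β.support.prod fun i => Nat.descFactorial (β i) (α i)) = df β α := by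
    intro β α h
    refine Finset.prod_subset (Finset.subset_univ _) fun i _ hi => ?_
    rw [Finsupp.notMem_support_iff] at hi
    have h0 : α i = 0 := by have := h i; omega
    simp [h0]
  have hcoef : ∀ (D G : MvPolynomial (Fin m) k) (δ : Fin m →₀ ℕ),
      MvPolynomial.coeff δ (W4c3degenlocivb.contract D G) =
        ∑ α ∈ D.support, MvPolynomial.coeff α D * MvPolynomial.coeff (α + δ) G * (df (α + δ) α : k) := by
    intro D G δ
    rw [W4c3degenlocivb.contract, MvPolynomial.coeff_sum]
    refine Finset.sum_congr rfl fun α _ => ?_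
    rw [MvPolynomial.coeff_sum, Finset.sum_eq_single (α + δ)]
    · rw [if_pos le_self_add, MvPolynomial.coeff_monomial, if_pos (add_tsub_cancel_left α δ), hdf _ _ le_self_add]
    · intro β _ hne
      split_ifs with h
      · rw [MvPolynomial.coeff_monomial, if_neg]
        intro e'
        exact hne (by rw [← e', add_tsub_cancel_of_le h])
      · exact MvPolynomial.coeff_zero _
    · intro hn
      rw [MvPolynomial.notMem_support_iff] at hn
      rw [if_pos le_self_add, MvPolynomial.coeff_monomial, if_pos (add_tsub_cancel_left α δ), hn, mul_zero, zero_mul]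
  have hid : ∀ γ α δ : Fin m →₀ ℕ, df (γ + (α + δ)) γ * df (α + δ) α = df (α + (γ + δ)) α * df (γ + δ) γ := by
    intro γ α δ
    rw [← Finset.prod_mul_distrib, ← Finset.prod_mul_distrib]
    refine Finset.prod_congr rfl fun i _ => Nat.eq_of_mul_eq_mul_left (Nat.factorial_pos (δ i)) ?_
    simp only [Finsupp.add_apply]
    have h1 := Nat.factorial_mul_descFactorial (Nat.le_add_right (γ i) (α i + δ i))
    have h2 := Nat.factorial_mul_descFactorial (Nat.le_add_right (α i) (δ i))
    have h3 := Nat.factorial_mul_descFactorial (Nat.le_add_right (α i) (γ i + δ i))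
    have h4 := Nat.factorial_mul_descFactorial (Nat.le_add_right (γ i) (δ i))
    simp only [Nat.add_sub_cancel_left] at h1 h2 h3 h4
    calc (δ i).factorial * ((γ i + (α i + δ i)).descFactorial (γ i) * (α i + δ i).descFactorial (α i))
        = ((δ i).factorial * (α i + δ i).descFactorial (α i)) * (γ i + (α i + δ i)).descFactorial (γ i) := by ring
      _ = (γ i + (α i + δ i)).factorial := by rw [h2, h1]
      _ = (α i + (γ i + δ i)).factorial := by congr 1; ring
      _ = ((δ i).factorial * (γ i + δ i).descFactorial (γ i)) * (α i + (γ i + δ i)).descFactorial (α i) := by rw [h4, h3]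
      _ = _ := by ring
  have hC : ∀ γ δ : Fin m →₀ ℕ,
      MvPolynomial.coeff δ (W4c3degenlocivb.contract D (W4c3degenlocivb.contract (MvPolynomial.monomial γ 1) F)) =
        (df (γ + δ) γ : k) * MvPolynomial.coeff (γ + δ) (W4c3degenlocivb.contract D F) := by
    intro γ δ
    rw [hcoef, hcoef, Finset.mul_sum]
    refine Finset.sum_congr rfl fun α _ => ?_
    rw [hcoef, MvPolynomial.support_monomial, if_neg one_ne_zero, Finset.sum_singleton, MvPolynomial.coeff_monomial, if_pos rfl,
      one_mul, add_left_comm γ α δ]
    have h := congrArg (Nat.cast : ℕ → k) (hid γ α δ)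
    rw [Nat.cast_mul, Nat.cast_mul, add_left_comm γ α δ] at h
    linear_combination (MvPolynomial.coeff α D * MvPolynomial.coeff (α + (γ + δ)) F) * h
  constructor
  · intro h α _
    refine MvPolynomial.ext _ _ fun δ => ?_
    rw [hC, h, MvPolynomial.coeff_zero, mul_zero, MvPolynomial.coeff_zero]
  · intro h
    refine MvPolynomial.ext _ _ fun γ => ?_
    rw [MvPolynomial.coeff_zero]
    by_cases hγ : γ.degree = e - d
    · have h0 := congrArg (MvPolynomial.coeff 0) (h γ hγ)
      rw [hC, MvPolynomial.coeff_zero, add_zero, mul_eq_zero, Nat.cast_eq_zero] at h0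
      refine h0.resolve_left (Finset.prod_ne_zero_iff.mpr fun i _ => ?_)
      rw [Nat.descFactorial_self]
      exact Nat.factorial_ne_zero _
    · rw [hcoef]
      refine Finset.sum_eq_zero fun α hα => ?_
      have hαd : α.degree = d := by
        have := hD (MvPolynomial.mem_support_iff.mp hα)
        rw [← this, Finsupp.degree_eq_weight_one]; rfl
      rw [hF.coeff_eq_zero, mul_zero, zero_mul]
      intro he
      apply hγ
      rw [map_add, hαd] at he
      omega
end Groth.Agent.S16353
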