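import Groth.Statements.S16356
import Mathlib
import Groth.Agent.LatticeLib24.Dist
import Groth.Agent.GrLib.Hilbert

set_option linter.all false

set_option autoImplicit false
universe u
open OrdAV

open TensorProduct

namespace Groth.Agent.S16356

/-- For an odd prime p and a perfect field k of characteristic p, a root of unity in the ring of Witt
vectors W(k) whose residue in k is 1 is itself 1: if x ^ n = 1 with n ≥ 1 and the zeroth Witt
component of x is 1, then x = 1. (For p = 2 this fails: -1 in W(F_2).) -/
theorem result (p : ℕ) [Fact p.Prime] (hp : p ≠ 2)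
    (k : Type u) [Field k] [CharP k p] [PerfectRing k p]
    (x : WittVector p k) (n : ℕ) (hn : 0 < n) (hx : x ^ n = 1) (h0 : x.coeff 0 = 1) : x = 1 := by
  have hpp := Fact.out (p := p.Prime)
  have hmod : ∀ y : (WittVector p k), y.coeff 0 = 0 → ∃ z, y = (p : (WittVector p k)) * z := by
    intro y hy
    refine ⟨(WittVector.frobeniusEquiv p k).symm (WittVector.shift y 1), ?_⟩
    have h := WittVector.eq_iterate_verschiebung (n := 1) (x := y) (fun i hi => by rw [Nat.lt_one_iff.1 hi]; exact hy)
    rw [Function.iterate_one] at h
    conv_lhs => rw [h]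
    conv_lhs => rw [← (WittVector.frobeniusEquiv p k).apply_symm_apply (WittVector.shift y 1)]
    rw [WittVector.frobeniusEquiv_apply, WittVector.verschiebung_frobenius, mul_comm]
  have c0 : ∀ a b : (WittVector p k), (a * b).coeff 0 = a.coeff 0 * b.coeff 0 := WittVector.mul_coeff_zero
  -- a prime-order element congruent to 1 is 1
  have prime_case : ∀ (q : ℕ) (y : (WittVector p k)), q.Prime → y ^ q = 1 → y.coeff 0 = 1 → y = 1 := by
    intro q y hq hy hy0
    by_contra hne
    obtain ⟨z, hz⟩ := hmod (y - 1) (by
      have := map_sub (WittVector.constantCoeff (p := p) (R := k)) y 1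
      simpa [WittVector.constantCoeff, hy0] using this)
    have hy1 : y = 1 + (p : (WittVector p k)) * z := by rw [← hz]; ring
    have hsum : ∑ i ∈ Finset.range q, y ^ i = 0 := by
      have h := geom_sum_mul y q
      rw [hy, sub_self, mul_eq_zero, sub_eq_zero] at h
      exact h.resolve_right hne
    have hexp : ∀ i : ℕ, ∃ w, y ^ i = 1 + (i : (WittVector p k)) * ((p : (WittVector p k)) * z) + (p : (WittVector p k)) ^ 2 * w := by
      intro i
      induction i with
      | zero => exact ⟨0, by simp⟩
      | succ i ih =>
        obtain ⟨w, hw⟩ := ih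
        exact ⟨(i : (WittVector p k)) * z ^ 2 + w * (1 + (p : (WittVector p k)) * z), by rw [pow_succ, hw, hy1]; push_cast; ring⟩
    choose w hw using hexp
    rw [Finset.sum_congr rfl (fun i _ => hw i), Finset.sum_add_distrib, Finset.sum_add_distrib,
      ← Finset.sum_mul, ← Finset.mul_sum, Finset.sum_const, Finset.card_range, nsmul_one, ← Nat.cast_sum,
      Finset.sum_range_id] at hsum
    have hcoeff : ∀ a : (WittVector p k), ((p : (WittVector p k)) * a).coeff 0 = 0 := fun a => by
      rw [c0]
      have : (WittVector.constantCoeff (p := p) (R := k)) (p : (WittVector p k)) = 0 := by simp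
      rw [show ((p : (WittVector p k))).coeff 0 = 0 from this, zero_mul]
    by_cases hqp : q = p
    · subst q
      obtain ⟨d, hd⟩ : p ∣ p * (p - 1) / 2 := by
        obtain ⟨e, he⟩ : 2 ∣ p - 1 := by
          have := hq.eq_two_or_odd.resolve_left hp
          omega
        exact ⟨e, by rw [he, show p * (2 * e) = (p * e) * 2 by ring, Nat.mul_div_cancel _ two_pos]⟩
      rw [hd] at hsum
      push_cast at hsum
      have h1 : (p : (WittVector p k)) * (1 + (p : (WittVector p k)) * ((d : (WittVector p k)) * z + ∑ i ∈ Finset.range p, w i)) = 0 := by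
        rw [← hsum]; ring
      have h2 := (mul_eq_zero.1 h1).resolve_left (WittVector.p_nonzero p k)
      have h3 := congrArg (fun a : (WittVector p k) => WittVector.constantCoeff a) h2
      simp only [map_add, map_one, map_zero, map_mul] at h3
      rw [show (WittVector.constantCoeff (p := p) (R := k)) (p : (WittVector p k)) = 0 by simp] at h3
      simp at h3
    · have h3 := congrArg (fun a : (WittVector p k) => WittVector.constantCoeff a) hsum
      simp only [map_add, map_mul, map_natCast, map_zero, map_pow, CharP.cast_eq_zero, zero_mul, mul_zero,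
        zero_pow two_ne_zero, add_zero] at h3
      rw [CharP.cast_eq_zero_iff k p] at h3
      exact hqp (((Nat.prime_dvd_prime_iff_eq hpp hq).1 h3).symm)
  induction n using Nat.strong_induction_on generalizing x with
  | _ n ih =>
    by_cases h1 : n = 1
    · rwa [h1, pow_one] at hx
    obtain ⟨q, hq, hqn⟩ := Nat.exists_prime_and_dvd h1
    obtain ⟨m, rfl⟩ := hqn
    have hm0 : 0 < m := Nat.pos_of_mul_pos_left hn
    have hcp : (x ^ m).coeff 0 = 1 := by
      have := map_pow (WittVector.constantCoeff (p := p) (R := k)) x m
      simpa [WittVector.constantCoeff, h0] using this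
    have := prime_case q (x ^ m) hq (by rw [← pow_mul, mul_comm]; exact hx) hcp
    exact ih m (lt_mul_of_one_lt_left hm0 hq.one_lt) x hm0 this h0

end Groth.Agent.S16356
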