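import Groth.Statements.S16357
import Mathlib

set_option linter.all false

set_option autoImplicit false
universe u
open OrdAV

open TensorProduct Matrix

namespace Groth.Agent.S16357

/-- Over a field L of characteristic zero, a monic polynomial h whose square has rational coefficients
has rational coefficients itself. -/
theorem result (L : Type u) [Field L] [CharZero L]
    (h : Polynomial L) (hm : h.Monic) (f : Polynomial ℚ)
    (hf : h ^ 2 = Polynomial.map (algebraMap ℚ L) f) :
    ∃ g : Polynomial ℚ, Polynomial.map (algebraMap ℚ L) g = h := by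
  let S := (algebraMap ℚ L).fieldRange
  suffices ∀ i, h.natDegree ≤ i + h.natDegree → ∀ a, h.natDegree = a + i → h.coeff a ∈ S by
    refine (Polynomial.mem_lifts _).1 ((Polynomial.lifts_iff_coeff_lifts _).2 fun a => ?_)
    rcases le_or_gt a h.natDegree with ha | ha
    · exact this (h.natDegree - a) (by omega) a (by omega)
    · rw [Polynomial.coeff_eq_zero_of_natDegree_lt ha]; exact ⟨0, map_zero _⟩
  intro i _
  induction i using Nat.strong_induction_on with
  | _ i ih =>
    intro a ha
    set d := h.natDegree with hd
    rcases Nat.eq_zero_or_pos i with rfl | hi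
    · rw [show a = d by omega, hd, hm.coeff_natDegree]; exact S.one_mem
    have hsq : (h ^ 2).coeff (a + d) ∈ S := by rw [hf, Polynomial.coeff_map]; exact ⟨_, rfl⟩
    rw [pow_two, Polynomial.coeff_mul] at hsq
    have hne : ((a, d) : ℕ × ℕ) ≠ (d, a) := fun e => by simp only [Prod.mk.injEq] at e; omega
    have hsub : ({(a, d), (d, a)} : Finset (ℕ × ℕ)) ⊆ Finset.HasAntidiagonal.antidiagonal (a + d) := by
      intro x hx; simp only [Finset.mem_insert, Finset.mem_singleton] at hx
      rcases hx with rfl | rfl <;> simp [add_comm]
    rw [← Finset.sum_sdiff hsub, Finset.sum_pair hne] at hsq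
    have hrest : ∑ x ∈ Finset.HasAntidiagonal.antidiagonal (a + d) \ {(a, d), (d, a)}, h.coeff x.1 * h.coeff x.2 ∈ S := by
      refine sum_mem fun x hx => ?_
      simp only [Finset.mem_sdiff, Finset.HasAntidiagonal.mem_antidiagonal, Finset.mem_insert, Finset.mem_singleton, Prod.ext_iff] at hx
      by_cases h1 : d < x.1
      · rw [Polynomial.coeff_eq_zero_of_natDegree_lt h1, zero_mul]; exact S.zero_mem
      by_cases h2 : d < x.2
      · rw [Polynomial.coeff_eq_zero_of_natDegree_lt h2, mul_zero]; exact S.zero_mem
      exact S.mul_mem (ih (d - x.1) (by omega) (by omega) x.1 (by omega)) (ih (d - x.2) (by omega) (by omega) x.2 (by omega))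
    have h2 := S.sub_mem hsq hrest
    rw [add_sub_cancel_left, hd, hm.coeff_natDegree, mul_one, one_mul, ← two_mul] at h2
    have := S.mul_mem (S.inv_mem (show (2 : L) ∈ S from ⟨2, map_ofNat _ 2⟩)) h2
    rwa [inv_mul_cancel_left₀ two_ne_zero] at this

end Groth.Agent.S16357
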