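import Groth.Statements.S16358
import Mathlib
import Groth.Agent.LatticeLib24.Dist
import Groth.Agent.GrLib.Hilbert

set_option linter.all false

set_option autoImplicit false
universe u v w
open OrdAV

open TensorProduct

namespace Groth.Agent.S16358

/-- Let k be a perfect field of characteristic p > 0 and W = W(k); let M be a finitely generated free
W-module on which a finite group G acts W-linearly, with invariant submodule M^G. Then the map
(W/pW) ⊗ M^G → (W/pW) ⊗ M induced by the inclusion is injective. Since M^G is free, this implies
rank_W M^G ≤ dim_k (M/pM)^G; the published statement is that inequality, and this row states the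
stronger injectivity. -/
theorem result (p : ℕ) [Fact p.Prime]
    (k : Type u) [Field k] [CharP k p] [PerfectRing k p]
    (M : Type v) [AddCommGroup M] [Module (WittVector p k) M]
    [Module.Free (WittVector p k) M] [Module.Finite (WittVector p k) M]
    (G : Type w) [Group G] [Finite G] (ρ : Representation (WittVector p k) G M) :
    Function.Injective
      (LinearMap.lTensor (WittVector p k ⧸ Ideal.span {(p : WittVector p k)}) ρ.invariants.subtype) := by
  set W := WittVector p k
  set I : Ideal W := Ideal.span {(p : W)}
  rw [injective_iff_map_eq_zero]
  intro x hx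
  obtain ⟨m, rfl⟩ := TensorProduct.mk_surjective W ρ.invariants (W ⧸ I) Ideal.Quotient.mk_surjective x
  rw [TensorProduct.mk_apply, LinearMap.lTensor_tmul] at hx
  have h1 := congrArg (TensorProduct.quotTensorEquivQuotSMul M I) hx
  rw [map_zero, ← map_one (Ideal.Quotient.mk I), TensorProduct.quotTensorEquivQuotSMul_mk_tmul, one_smul,
    Submodule.Quotient.mk_eq_zero, Submodule.ideal_span_singleton_smul, Submodule.mem_smul_pointwise_iff_exists] at h1
  obtain ⟨m', -, hm'⟩ := h1
  have hinv : m' ∈ ρ.invariants := fun g => by
    have h2 := m.2 g
    change ρ g (m : M) = (m : M) at h2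
    rw [Submodule.subtype_apply] at hm'
    rw [← hm', map_smul] at h2
    exact smul_right_injective M (WittVector.p_nonzero p k) h2
  have : m = (p : W) • (⟨m', hinv⟩ : ρ.invariants) := Subtype.ext hm'.symm
  rw [this, map_smul, TensorProduct.mk_apply, TensorProduct.smul_tmul',
    ← map_one (Ideal.Quotient.mk I), ← Ideal.Quotient.mk_eq_mk, ← Submodule.Quotient.mk_smul, smul_eq_mul,
    mul_one, (Submodule.Quotient.mk_eq_zero I).2 (Ideal.mem_span_singleton_self _), TensorProduct.zero_tmul]

end Groth.Agent.S16358
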