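import Groth.Statements.S16360
import Groth.Agent.HenselLib.PerfResidue
import Groth.Agent.HenselLib.Perm
-- import your own Groth.Agent.* helpers here

set_option autoImplicit false
universe u
open Hensel

namespace Groth.Agent.S16360

/-- Let R be a discrete valuation ring that is Henselian and excellent, write k for its residue field
and p for the characteristic exponent of k. There is a Henselian discrete valuation ring R' and an
injective ring map R → R' such that the maximal ideal of R generates that of R' (so a uniformizer of
R is a uniformizer of R'), R' is the directed union of R-subalgebras that are finite free R-modules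
of rank a power of p, and the residue field k' of R' is a perfect closure of k: every element of k'
is a p-th power in k', and some p-power-th power of it lies in the image of k. (The published
statement also asserts that R' is excellent; that is not asserted here.) -/
theorem result (R : Type u) [CommRing R] [IsDomain R]
    [IsDiscreteValuationRing R] [HenselianLocalRing R] (hR : EGA4.IsExcellent R) :
    ∃ (R' : Type u) (_ : CommRing R') (_ : IsDomain R') (_ : IsDiscreteValuationRing R')
      (_ : HenselianLocalRing R') (_ : Algebra R R'),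
      Function.Injective (algebraMap R R') ∧
      Ideal.map (algebraMap R R') (IsLocalRing.maximalIdeal R) = IsLocalRing.maximalIdeal R' ∧
      (∀ s : Finset R', ∃ S : Subalgebra R R', (↑s : Set R') ⊆ ↑S ∧ Module.Finite R S ∧ Module.Free R S ∧
        ∃ m : ℕ, Module.finrank R S = ringExpChar (IsLocalRing.ResidueField R) ^ m) ∧
      (∀ y : R', ∃ z : R', z ^ ringExpChar (IsLocalRing.ResidueField R) - y ∈ IsLocalRing.maximalIdeal R') ∧
      (∀ y : R', ∃ (m : ℕ) (z : R),
        algebraMap R R' z - y ^ (ringExpChar (IsLocalRing.ResidueField R) ^ m) ∈ IsLocalRing.maximalIdeal R') := by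
  open Groth.Agent.HenselLib in
  let Ω := AlgebraicClosure (FractionRing R)
  haveI : FaithfulSMul R Ω := (faithfulSMul_iff_algebraMap_injective R Ω).mpr (by
    rw [IsScalarTower.algebraMap_eq R (FractionRing R) Ω]
    exact (algebraMap (FractionRing R) Ω).injective.comp (IsFractionRing.injective R (FractionRing R)))
  obtain ⟨S, hS⟩ := PerfResidue.exists_maximal (R := R) (Ω := Ω)
  haveI := PerfResidue.isDVR hS.prop
  obtain ⟨hloc, hmax⟩ := PerfResidue.isLocalRing hS.prop
  haveI := PerfResidue.isIntegral hS.prop
  haveI : HenselianLocalRing S := Groth.Agent.HenselLib.henselianLocalRing_of_isIntegral R S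
  have hmem : ∀ a : S, a ∈ IsLocalRing.maximalIdeal S ↔ a ∈ PerfResidue.mI S := fun a => by rw [hmax]
  refine ⟨S, inferInstance, inferInstance, inferInstance, inferInstance, inferInstance,
    PerfResidue.algebraMap_injective S, hmax.symm, fun s => ?_, fun y => ?_, fun y => ?_⟩
  · classical
    obtain ⟨T, hT, hTS, hsT⟩ := hS.prop (s.image Subtype.val) (by intro a ha; rw [Finset.coe_image] at ha; obtain ⟨b, -, rfl⟩ := ha; exact b.2)
    let S₁ : Subalgebra R S := T.comap S.val
    let f : S₁ →ₗ[R] T :=
      { toFun := fun a => ⟨(a.1 : Ω), a.2⟩, map_add' := fun _ _ => rfl, map_smul' := fun _ _ => rfl }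
    let e : S₁ ≃ₗ[R] T := LinearEquiv.ofBijective f
      ⟨fun a b h => Subtype.ext (Subtype.ext ((congrArg (fun t : T => (t : Ω)) h :))),
        fun t => ⟨⟨⟨t, hTS t.2⟩, t.2⟩, rfl⟩⟩
    obtain ⟨hfree, m, hm⟩ := PerfResidue.free_and_rank hT
    haveI := hT.finite
    haveI := hfree
    exact ⟨S₁, fun a ha => hsT (Finset.mem_image_of_mem Subtype.val ha), Module.Finite.equiv e.symm,
      Module.Free.of_equiv e.symm, m, e.finrank_eq.trans hm⟩
  · obtain ⟨z, hz⟩ := PerfResidue.perfect hS y
    exact ⟨z, (hmem _).mpr hz⟩
  · obtain ⟨T, hT, h, t, rfl⟩ := PerfResidue.exists_good hS.prop y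
    obtain ⟨m, z, hz⟩ := hT.pins (Ideal.Quotient.mk _ t)
    refine ⟨m, z, (hmem _).mpr ?_⟩
    rw [← map_pow] at hz
    have := PerfResidue.inclusion_mI h (Ideal.Quotient.eq.mp hz)
    rwa [map_sub, map_pow, AlgHom.commutes] at this

end Groth.Agent.S16360
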