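import Groth.Statements.S16362
import Mathlib
import Groth.Agent.LatticeLib24.Dist
import Groth.Agent.GrLib.Hilbert

set_option linter.all false

set_option autoImplicit false
universe u
open MovLem

open TensorProduct

namespace Groth.Agent.S16362

/-- Let A be a commutative ring, p a prime ideal of A, and ζ, u elements of A with u not in p. Then the
quotient of the classes of ζ and u in the fraction field of the domain A ⧸ p is integral over A ⧸ p
if and only if there exist a natural number N and elements a_1, …, a_N of A such that ζ^N + a_1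
ζ^(N-1) u + ⋯ + a_N u^N lies in p; equivalently, some binary form of degree N with coefficients in
A, monic in the first variable, evaluated at (ζ, u), lies in p. -/
theorem result
    {A : Type u} [CommRing A] (p : Ideal A) [p.IsPrime] (ζ u : A) (hu : u ∉ p) :
    IsIntegral (A ⧸ p)
        (algebraMap (A ⧸ p) (FractionRing (A ⧸ p)) (Ideal.Quotient.mk p ζ) /
          algebraMap (A ⧸ p) (FractionRing (A ⧸ p)) (Ideal.Quotient.mk p u)) ↔
      ∃ (N : ℕ) (a : ℕ → A),
        ζ ^ N + ∑ i ∈ Finset.Icc 1 N, a i * ζ ^ (N - i) * u ^ i ∈ p := by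
  classical
  let φ : A →+* FractionRing (A ⧸ p) := (algebraMap (A ⧸ p) (FractionRing (A ⧸ p))).comp (Ideal.Quotient.mk p)
  have hker : ∀ x, φ x = 0 ↔ x ∈ p := fun x => by
    simp [φ, Ideal.Quotient.eq_zero_iff_mem]
  have hu' : φ u ≠ 0 := fun h => hu ((hker u).1 h)
  change IsIntegral (A ⧸ p) (φ ζ / φ u) ↔ _
  -- substitute i ↦ N - i
  have key : ∀ (N : ℕ) (a : ℕ → A),
      φ (ζ ^ N + ∑ i ∈ Finset.Icc 1 N, a i * ζ ^ (N - i) * u ^ i) =
        φ u ^ N * ((φ ζ / φ u) ^ N + ∑ i ∈ Finset.Icc 1 N, φ (a i) * (φ ζ / φ u) ^ (N - i)) := by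
    intro N a
    simp only [map_add, map_pow, map_sum, map_mul, mul_add, Finset.mul_sum]
    congr 1
    · rw [← mul_pow, mul_div_cancel₀ _ hu']
    · refine Finset.sum_congr rfl fun i hi => ?_
      rw [Finset.mem_Icc] at hi
      have : φ u ^ N = φ u ^ (N - i) * φ u ^ i := by rw [← pow_add, Nat.sub_add_cancel hi.2]
      rw [this, div_pow]
      field_simp
  constructor
  · rintro ⟨P, hP, he⟩
    refine ⟨P.natDegree, fun i => (Ideal.Quotient.mk_surjective (P.coeff (P.natDegree - i))).choose, ?_⟩
    rw [← hker, key]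
    refine mul_eq_zero_of_right _ ?_
    rw [Polynomial.eval₂_eq_sum_range, Finset.sum_range_succ, hP.coeff_natDegree, map_one, one_mul, add_comm] at he
    rw [← he]
    congr 1
    refine Finset.sum_bij' (fun i _ => P.natDegree - i) (fun j _ => P.natDegree - j) ?_ ?_ ?_ ?_ ?_
    · intro i hi; simp only [Finset.mem_Icc] at hi; simp only [Finset.mem_range]; omega
    · intro j hj; simp only [Finset.mem_range] at hj; simp only [Finset.mem_Icc]; omega
    · intro i hi; simp only [Finset.mem_Icc] at hi; omega
    · intro j hj; simp only [Finset.mem_range] at hj; omega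
    · intro i hi
      simp only [φ, RingHom.comp_apply, (Ideal.Quotient.mk_surjective (P.coeff (P.natDegree - i))).choose_spec]
  · rintro ⟨N, a, h⟩
    rw [← hker, key] at h
    have h' := (mul_eq_zero.1 h).resolve_left (pow_ne_zero _ hu')
    refine ⟨Polynomial.X ^ N + ∑ i ∈ Finset.Icc 1 N, Polynomial.C (Ideal.Quotient.mk p (a i)) * Polynomial.X ^ (N - i),
      Polynomial.monic_X_pow_add ?_, ?_⟩
    · rw [Polynomial.degree_lt_iff_coeff_zero]
      intro m hm
      rw [Polynomial.finsetSum_coeff]
      refine Finset.sum_eq_zero fun i hi => ?_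
      rw [Finset.mem_Icc] at hi
      rw [Polynomial.coeff_C_mul_X_pow, if_neg (by omega)]
    · simp only [Polynomial.eval₂_add, Polynomial.eval₂_finset_sum, Polynomial.eval₂_mul, Polynomial.eval₂_C,
        Polynomial.eval₂_X_pow]
      exact h'

end Groth.Agent.S16362
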