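import Groth.Statements.S16365
import Mathlib
import Groth.Agent.SmoothLib.Tower
import Groth.Agent.CommAlg4.GenericCritical
-- import your own Groth.Agent.* helpers here

set_option autoImplicit false
universe u
open CategoryTheory Limits
open MovLem

namespace Groth.Agent.S16365

open AlgebraicGeometry in
set_option linter.unusedVariables false

section SmoothUnit

open scoped TensorProduct

variable {k : Type u} [Field k] {C : Type u} [CommRing C] [Algebra k C] [Algebra.FiniteType k C]

theorem exists_D_ne_zero (q : Ideal C) [q.IsPrime] (hq : ¬ q.IsMaximal) :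
    ∃ c : C, (1 : q.ResidueField) ⊗ₜ[C] KaehlerDifferential.D k C c ≠ 0 := by
  by_contra hc
  push_neg at hc
  have hzero : ∀ z : q.ResidueField ⊗[C] Ω[C⁄k], z = 0 := by
    intro z
    induction z using TensorProduct.induction_on with
    | zero => rfl
    | add a b ha hb => rw [ha, hb, add_zero]
    | tmul a ω =>
      have hω : (1 : q.ResidueField) ⊗ₜ[C] ω = 0 := by
        have : ω ∈ Submodule.span C (Set.range (KaehlerDifferential.D k C)) := by
          rw [KaehlerDifferential.span_range_derivation]; trivial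
        induction this using Submodule.span_induction with
        | mem x hx => obtain ⟨c, rfl⟩ := hx; exact hc c
        | zero => simp
        | add x y _ _ hx hy => rw [TensorProduct.tmul_add, hx, hy, add_zero]
        | smul c x _ hx => rw [TensorProduct.tmul_smul, hx, smul_zero]
      rw [show a ⊗ₜ[C] ω = a • ((1 : q.ResidueField) ⊗ₜ[C] ω) by rw [TensorProduct.smul_tmul', smul_eq_mul, mul_one],
        hω, smul_zero]
  haveI : Subsingleton (q.ResidueField ⊗[C] Ω[C⁄k]) := ⟨fun a b => (hzero a).trans (hzero b).symm⟩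
  have h1 : (⟨q, ‹_›⟩ : PrimeSpectrum C) ∉ Module.support C Ω[C⁄k] := by
    rw [Module.mem_support_iff_nontrivial_residueField_tensorProduct]
    exact not_nontrivial _
  rw [Module.notMem_support_iff] at h1
  let Cq := Localization.AtPrime q
  haveI : Algebra.FormallyEtale C Cq := .of_isLocalization q.primeCompl
  haveI : Subsingleton (Cq ⊗[C] Ω[C⁄k]) :=
    (LocalizedModule.equivTensorProduct q.primeCompl Ω[C⁄k]).symm.toEquiv.subsingleton
  haveI : Subsingleton Ω[Cq⁄k] :=
    (KaehlerDifferential.tensorKaehlerEquivOfFormallyEtale k C Cq).symm.toEquiv.subsingleton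
  haveI : Algebra.FormallyUnramified k Cq := ⟨inferInstance⟩
  haveI : Algebra.EssFiniteType k Cq := Algebra.EssFiniteType.comp k C Cq
  haveI : Module.Finite k Cq := Algebra.FormallyUnramified.finite_of_free k Cq
  haveI : Module.Finite k q.ResidueField :=
    Module.Finite.of_surjective (IsScalarTower.toAlgHom k Cq q.ResidueField).toLinearMap
      IsLocalRing.residue_surjective
  haveI : Module.Finite k (C ⧸ q) := by
    let j : C ⧸ q →ₐ[k] q.ResidueField := IsScalarTower.toAlgHom k (C ⧸ q) q.ResidueField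
    exact Module.Finite.of_injective j.toLinearMap (IsFractionRing.injective (C ⧸ q) q.ResidueField)
  haveI : Algebra.IsIntegral k (C ⧸ q) := Algebra.IsIntegral.of_finite k _
  exact hq (Ideal.Quotient.maximal_of_isField q (isField_of_isIntegral_of_isField' (Field.toIsField k)))

theorem isSmoothAt_of_D_ne_zero (a : C) (q : Ideal C) [q.IsPrime] [Algebra.IsSmoothAt k q]
    (ha : (1 : q.ResidueField) ⊗ₜ[C] KaehlerDifferential.D k C a ≠ 0) :
    letI := (Polynomial.aeval (R := k) a).toRingHom.toAlgebra
    Algebra.IsSmoothAt (Polynomial k) q := by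
  letI := (Polynomial.aeval (R := k) a).toRingHom.toAlgebra
  haveI : IsScalarTower k (Polynomial k) C :=
    IsScalarTower.of_algebraMap_eq fun c => ((Polynomial.aeval (R := k) a).commutes c).symm
  haveI : Algebra.Smooth k (Polynomial k) := ⟨inferInstance, inferInstance⟩
  haveI : Algebra.IsSmoothAt k (q.under (Polynomial k)) := by
    have : (⟨q.under (Polynomial k), inferInstance⟩ : PrimeSpectrum (Polynomial k)) ∈
        Algebra.smoothLocus k (Polynomial k) := by
      rw [Algebra.smoothLocus_eq_univ]; trivial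
    exact this
  rw [Groth.Agent.SmoothLib.isSmoothAt_tower_iff_residueField k (Polynomial k) C q]
  refine (injective_iff_map_eq_zero _).2 fun z hz => ?_
  obtain ⟨c, rfl⟩ : ∃ c : q.ResidueField,
      c ⊗ₜ[C] ((1 : C) ⊗ₜ[Polynomial k] KaehlerDifferential.D k (Polynomial k) Polynomial.X) = z := by
    clear hz
    induction z using TensorProduct.induction_on with
    | zero => exact ⟨0, TensorProduct.zero_tmul _ _⟩
    | add x y hx hy =>
      obtain ⟨c1, rfl⟩ := hx
      obtain ⟨c2, rfl⟩ := hy
      exact ⟨c1 + c2, TensorProduct.add_tmul _ _ _⟩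
    | tmul r w =>
      induction w using TensorProduct.induction_on with
      | zero => exact ⟨0, by rw [TensorProduct.zero_tmul, TensorProduct.tmul_zero]⟩
      | add x y hx hy =>
        obtain ⟨c1, h1⟩ := hx
        obtain ⟨c2, h2⟩ := hy
        exact ⟨c1 + c2, by rw [TensorProduct.add_tmul, h1, h2, ← TensorProduct.tmul_add]⟩
      | tmul c ω =>
        obtain ⟨b, rfl⟩ : ∃ b : Polynomial k, b • KaehlerDifferential.D k (Polynomial k) Polynomial.X = ω :=
          ⟨KaehlerDifferential.polynomialEquiv k ω, (KaehlerDifferential.polynomialEquiv k).injective (by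
            rw [map_smul, KaehlerDifferential.polynomialEquiv_D, Polynomial.derivative_X, smul_eq_mul, mul_one])⟩
        refine ⟨algebraMap C q.ResidueField (b • c) * r, ?_⟩
        rw [← Algebra.smul_def, TensorProduct.smul_tmul, ← TensorProduct.smul_tmul b c,
          TensorProduct.smul_tmul', smul_eq_mul, mul_one]
  rw [LinearMap.lTensor_tmul, KaehlerDifferential.mapBaseChange_tmul, KaehlerDifferential.map_D, one_smul] at hz
  rw [show algebraMap (Polynomial k) C Polynomial.X = a from Polynomial.aeval_X a] at hz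
  have : c • ((1 : q.ResidueField) ⊗ₜ[C] KaehlerDifferential.D k C a) = 0 := by
    rw [TensorProduct.smul_tmul', smul_eq_mul, mul_one]; exact hz
  rw [(smul_eq_zero.1 this).resolve_right ha, TensorProduct.zero_tmul]

theorem isOpen_point (q : Ideal C) [q.IsPrime] [Algebra.IsSmoothAt k q]
    (hall : ∀ c : C, (1 : q.ResidueField) ⊗ₜ[C] KaehlerDifferential.D k C c = 0) :
    IsOpen ({⟨q, ‹_›⟩} : Set (PrimeSpectrum C)) := by
  classical
  have hm : q.IsMaximal := by
    by_contra hm
    obtain ⟨c, hc⟩ := exists_D_ne_zero (k := k) q hm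
    exact hc (hall c)
  haveI : Subsingleton (q.ResidueField ⊗[C] Ω[C⁄k]) := by
    refine subsingleton_of_forall_eq 0 fun z => ?_
    induction z using TensorProduct.induction_on with
    | zero => rfl
    | add a b ha hb => rw [ha, hb, add_zero]
    | tmul a ω =>
      have : (1 : q.ResidueField) ⊗ₜ[C] ω = 0 := by
        have : ω ∈ Submodule.span C (Set.range (KaehlerDifferential.D k C)) := by
          rw [KaehlerDifferential.span_range_derivation]; trivial
        induction this using Submodule.span_induction with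
        | mem x hx => obtain ⟨c, rfl⟩ := hx; exact hall c
        | zero => simp
        | add x y _ _ hx hy => rw [TensorProduct.tmul_add, hx, hy, add_zero]
        | smul c x _ hx => rw [TensorProduct.tmul_smul, hx, smul_zero]
      rw [show a ⊗ₜ[C] ω = a • ((1 : q.ResidueField) ⊗ₜ[C] ω) by rw [TensorProduct.smul_tmul', smul_eq_mul, mul_one],
        this, smul_zero]
  have h1 : (⟨q, ‹_›⟩ : PrimeSpectrum C) ∉ Module.support C Ω[C⁄k] := by
    rw [Module.mem_support_iff_nontrivial_residueField_tensorProduct]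
    exact not_nontrivial _
  rw [Module.notMem_support_iff] at h1
  let Cq := Localization.AtPrime q
  haveI : Algebra.FormallyEtale C Cq := .of_isLocalization q.primeCompl
  haveI : Subsingleton (Cq ⊗[C] Ω[C⁄k]) :=
    (LocalizedModule.equivTensorProduct q.primeCompl Ω[C⁄k]).symm.toEquiv.subsingleton
  haveI : Subsingleton Ω[Cq⁄k] :=
    (KaehlerDifferential.tensorKaehlerEquivOfFormallyEtale k C Cq).symm.toEquiv.subsingleton
  haveI : Algebra.FormallyUnramified k Cq := ⟨inferInstance⟩
  haveI : Algebra.EssFiniteType k Cq := Algebra.EssFiniteType.comp k C Cq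
  haveI : Module.Finite k Cq := Algebra.FormallyUnramified.finite_of_free k Cq
  haveI : IsReduced Cq := Algebra.FormallyUnramified.isReduced_of_field k Cq
  haveI : IsArtinianRing Cq := IsArtinianRing.of_finite k Cq
  have hF : IsField Cq := IsArtinianRing.isField_of_isReduced_of_isLocalRing Cq
  have hbot := IsLocalRing.isField_iff_maximalIdeal_eq.1 hF
  have hle : ∀ P : Ideal C, P.IsPrime → P ≤ q → P = q := by
    intro P hP hPq
    refine le_antisymm hPq fun y hy => ?_
    have hy' : algebraMap C Cq y = 0 := by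
      have : algebraMap C Cq y ∈ IsLocalRing.maximalIdeal Cq :=
        (IsLocalization.AtPrime.to_map_mem_maximal_iff Cq q y).2 hy
      rwa [hbot, Ideal.mem_bot] at this
    obtain ⟨s, hs⟩ := (IsLocalization.map_eq_zero_iff q.primeCompl Cq y).1 hy'
    exact (hP.mem_or_mem (show (s : C) * y ∈ P by rw [hs]; exact P.zero_mem)).resolve_left
      fun h => s.2 (hPq h)
  haveI : IsNoetherianRing C := Algebra.FiniteType.isNoetherianRing k C
  have hfin := minimalPrimes.finite_of_isNoetherianRing C
  have hex : ∀ p : Ideal C, p ∈ hfin.toFinset.erase q → ∃ y, y ∈ p ∧ y ∉ q := by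
    intro p hp
    obtain ⟨hpq, hp'⟩ := Finset.mem_erase.1 hp
    have hp'' := (hfin.mem_toFinset.1 hp').1.1
    by_contra h
    push_neg at h
    exact hpq (hle p hp'' fun y hy => h y hy)
  choose y hy hyq using hex
  let h := ∏ p ∈ (hfin.toFinset.erase q).attach, y p.1 p.2
  have hhq : h ∉ q := fun hh => by
    obtain ⟨p, -, hp⟩ := (Ideal.IsPrime.prod_mem_iff).1 hh
    exact hyq _ p.2 hp
  have : ({⟨q, ‹_›⟩} : Set (PrimeSpectrum C)) = PrimeSpectrum.basicOpen h := by
    refine Set.ext fun P => ⟨?_, fun hP => ?_⟩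
    · rintro rfl; exact hhq
    · obtain ⟨p, hp, hpP⟩ := Ideal.exists_minimalPrimes_le (I := (⊥ : Ideal C)) (J := P.asIdeal) bot_le
      have hpq : p = q := by
        by_contra hne
        have hmem : p ∈ hfin.toFinset.erase q := Finset.mem_erase.2 ⟨hne, hfin.mem_toFinset.2 hp⟩
        refine hP (hpP ?_)
        exact Ideal.mem_of_dvd p (Finset.dvd_prod_of_mem _ (Finset.mem_attach _ ⟨p, hmem⟩)) (hy p hmem)
      subst hpq
      exact PrimeSpectrum.ext ((hm.eq_of_le P.isPrime.ne_top hpP).symm)
  rw [this]
  exact (PrimeSpectrum.basicOpen h).2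

theorem exists_good_inside [Infinite k] (p : Ideal C) [p.IsPrime] [Algebra.IsSmoothAt k p]
    (hp : ¬ IsOpen ({⟨p, ‹_›⟩} : Set (PrimeSpectrum C))) :
    ∃ a h : C, a ∉ p ∧ h ∉ p ∧
      ∀ (q : Ideal C) (_ : q.IsPrime), h ∉ q →
        letI := (Polynomial.aeval (R := k) a).toRingHom.toAlgebra
        Algebra.IsSmoothAt (Polynomial k) q := by
  let L : C →ₗ[k] p.ResidueField ⊗[C] Ω[C⁄k] :=
    ((TensorProduct.mk C p.ResidueField Ω[C⁄k] 1).restrictScalars k).comp (KaehlerDifferential.D k C).toLinearMap
  let S : Option Unit → Submodule k C := fun o => o.elim (p.restrictScalars k) fun _ => LinearMap.ker L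
  have hS : ∀ o, S o ≠ ⊤ := by
    rintro (_ | i) h
    · exact Ideal.IsPrime.ne_top ‹_› ((Ideal.eq_top_iff_one p).2
        (show (1 : C) ∈ S none by rw [h]; trivial))
    · refine hp (isOpen_point (k := k) p fun c => ?_)
      have : c ∈ S (some i) := by rw [h]; trivial
      exact this
  obtain ⟨a, ha⟩ := Submodule.exists_forall_notMem_of_forall_ne_top S hS
  letI := (Polynomial.aeval (R := k) a).toRingHom.toAlgebra
  haveI : IsScalarTower k (Polynomial k) C :=
    IsScalarTower.of_algebraMap_eq fun c => ((Polynomial.aeval (R := k) a).commutes c).symm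
  haveI : Algebra.FinitePresentation k C := Algebra.FinitePresentation.of_finiteType.1 inferInstance
  haveI : Algebra.FinitePresentation (Polynomial k) C := by
    haveI : Algebra.FiniteType (Polynomial k) C := Algebra.FiniteType.of_restrictScalars_finiteType k _ _
    exact Algebra.FinitePresentation.of_finiteType.1 inferInstance
  haveI : Algebra.IsSmoothAt (Polynomial k) p := isSmoothAt_of_D_ne_zero a p fun h => ha (some ()) h
  obtain ⟨h, hh, hhs⟩ := Algebra.IsSmoothAt.exists_notMem_smooth (R := Polynomial k) p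
  refine ⟨a, h, ha none, hh, fun q hq hhq => ?_⟩
  exact (Algebra.basicOpen_subset_smoothLocus_iff_smooth (R := Polynomial k) (f := h)).2 hhs
    (show (⟨q, hq⟩ : PrimeSpectrum C) ∈ PrimeSpectrum.basicOpen h from hhq)

theorem exists_good_outside [Infinite k] {M : Type u} [Finite M] (f : M → C)
    (hs : ∀ m, Algebra.Smooth k (Localization.Away (f m))) (p : Ideal C) [p.IsPrime]
    (hf : ∀ m, f m ∈ p) :
    ∃ a h : C, a ∉ p ∧ h ∉ p ∧
      ∀ (q : Ideal C) (_ : q.IsPrime), h ∉ q → (∃ m, f m ∉ q) →
        letI := (Polynomial.aeval (R := k) a).toRingHom.toAlgebra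
        Algebra.IsSmoothAt (Polynomial k) q := by
  classical
  letI := Fintype.ofFinite M
  obtain ⟨N, π, hπ⟩ := Algebra.FiniteType.iff_quotient_mvPolynomial''.1 (inferInstance : Algebra.FiniteType k C)
  let g : Fin N → C := fun j => π (MvPolynomial.X j)
  have hspan : ∀ m, Submodule.span (Localization.Away (f m)) (Set.range fun j =>
      KaehlerDifferential.D k (Localization.Away (f m)) (algebraMap C _ (g j))) = ⊤ := by
    intro m
    let B := Localization.Away (f m)
    let W := Submodule.span B (Set.range fun j => KaehlerDifferential.D k B (algebraMap C B (g j)))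
    have h1 : ∀ c, KaehlerDifferential.D k B (algebraMap C B c) ∈ W := by
      intro c
      obtain ⟨c, rfl⟩ := hπ c
      induction c using MvPolynomial.induction_on with
      | C r =>
        rw [show π (MvPolynomial.C r) = algebraMap k C r from π.commutes r, ← IsScalarTower.algebraMap_apply,
          Derivation.map_algebraMap]
        exact zero_mem _
      | add u w hu hw => rw [map_add, map_add, map_add]; exact add_mem hu hw
      | mul_X u j hu =>
        rw [map_mul, map_mul, Derivation.leibniz]
        exact add_mem (W.smul_mem _ (Submodule.subset_span ⟨j, rfl⟩)) (W.smul_mem _ hu)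
    rw [eq_top_iff, ← KaehlerDifferential.span_range_derivation, Submodule.span_le]
    rintro _ ⟨z, rfl⟩
    obtain ⟨⟨c, ⟨s, hsm⟩⟩, hz⟩ := IsLocalization.surj (Submonoid.powers (f m)) z
    have h2 := h1 c
    rw [← hz, Derivation.leibniz] at h2
    have h3 : algebraMap C B s • KaehlerDifferential.D k B z ∈ W :=
      (Submodule.add_mem_iff_right W (W.smul_mem _ (h1 s))).1 h2
    obtain ⟨w, hw⟩ := IsLocalization.map_units B (⟨s, hsm⟩ : Submonoid.powers (f m))
    have h4 := W.smul_mem (↑w⁻¹ : B) h3
    rwa [smul_smul, ← show (w : B) = algebraMap C B s from hw, Units.inv_mul, one_smul] at h4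
  have hgen : ∀ m, ∃ H : MvPolynomial (Fin N) k, H ≠ 0 ∧ ∀ c : Fin N → k, MvPolynomial.eval c H ≠ 0 →
      ∃ S : Finset (Ideal (Localization.Away (f m))), (∀ q ∈ S, q.IsMaximal) ∧
        ∀ (q : Ideal (Localization.Away (f m))) [q.IsPrime], q ∉ S →
          (1 : q.ResidueField) ⊗ₜ[Localization.Away (f m)] KaehlerDifferential.D k (Localization.Away (f m))
            (∑ j, c j • algebraMap C _ (g j)) ≠ 0 := fun m => by
    haveI := hs m
    haveI : Algebra.FiniteType k (Localization.Away (f m)) := inferInstance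
    exact Groth.Agent.CommAlg4.exists_generic_finite (fun j => algebraMap C _ (g j)) (hspan m)
  choose H hH0 hH using hgen
  obtain ⟨c, hc⟩ : ∃ c, MvPolynomial.eval c (∏ m, H m) ≠ 0 := by
    by_contra h
    push_neg at h
    exact Finset.prod_ne_zero_iff.2 (fun m _ => hH0 m) (MvPolynomial.funext fun x => by rw [h x, map_zero])
  rw [map_prod, Finset.prod_ne_zero_iff] at hc
  choose S hSmax hS using fun m => hH m c (hc m (Finset.mem_univ m))
  let a₀ : C := ∑ j, c j • g j
  obtain ⟨e, he⟩ : ∃ e : k, a₀ + algebraMap k C e ∉ p := by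
    by_cases h0 : a₀ ∈ p
    · exact ⟨1, fun h => Ideal.IsPrime.ne_top ‹_› ((Ideal.eq_top_iff_one p).2 (by
        have := p.sub_mem h h0
        simpa using this))⟩
    · exact ⟨0, by simpa using h0⟩
  have havoid : ∀ m, ∀ q ∈ S m, ∃ y : C, algebraMap C (Localization.Away (f m)) y ∈ q ∧ y ∉ p := by
    intro m q hq
    haveI := hSmax m q hq
    by_contra h
    push_neg at h
    let q₀ := q.comap (algebraMap C (Localization.Away (f m)))
    have hle : q₀ ≤ p := fun y hy => h y hy
    haveI : Algebra.FiniteType k (Localization.Away (f m)) := by haveI := hs m; infer_instance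
    haveI : Algebra.FiniteType k (Localization.Away (f m) ⧸ q) :=
      Algebra.FiniteType.of_surjective (Ideal.Quotient.mkₐ k q) Ideal.Quotient.mk_surjective
    haveI : Module.Finite k (Localization.Away (f m) ⧸ q) :=
      @finite_of_finite_type_of_isJacobsonRing k (Localization.Away (f m) ⧸ q) _ (Ideal.Quotient.field q) _ _ _
    let j : C ⧸ q₀ →ₐ[k] Localization.Away (f m) ⧸ q :=
      Ideal.quotientMapₐ q (IsScalarTower.toAlgHom k C _) le_rfl
    haveI : Module.Finite k (C ⧸ q₀) :=
      Module.Finite.of_injective j.toLinearMap (Ideal.quotientMap_injective)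
    haveI : Algebra.IsIntegral k (C ⧸ q₀) := Algebra.IsIntegral.of_finite k _
    have hmax : q₀.IsMaximal :=
      Ideal.Quotient.maximal_of_isField q₀ (isField_of_isIntegral_of_isField' (Field.toIsField k))
    have hfq : f m ∈ q₀ := (hmax.eq_of_le (Ideal.IsPrime.ne_top ‹p.IsPrime›) hle).symm ▸ hf m
    exact (hSmax m q hq).ne_top (Ideal.eq_top_of_isUnit_mem _ hfq (IsLocalization.Away.algebraMap_isUnit (f m)))
  choose y hy hyp using havoid
  let h := ∏ m, ∏ q ∈ (S m).attach, y m q.1 q.2
  have hhp : h ∉ p := fun hh => by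
    obtain ⟨m, -, hm⟩ := (Ideal.IsPrime.prod_mem_iff).1 hh
    obtain ⟨q, -, hq⟩ := (Ideal.IsPrime.prod_mem_iff).1 hm
    exact hyp m q.1 q.2 hq
  refine ⟨a₀ + algebraMap k C e, h, he, hhp, fun q hq hhq ⟨m, hm⟩ => ?_⟩
  haveI := hq
  haveI : Algebra.FinitePresentation k C := Algebra.FinitePresentation.of_finiteType.1 inferInstance
  haveI : Algebra.IsSmoothAt k q :=
    (Algebra.basicOpen_subset_smoothLocus_iff_smooth (R := k) (f := f m)).2 (hs m)
      (show (⟨q, hq⟩ : PrimeSpectrum C) ∈ PrimeSpectrum.basicOpen (f m) from hm)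
  refine isSmoothAt_of_D_ne_zero _ q fun h0 => ?_
  let B := Localization.Away (f m)
  have hdisj : Disjoint (Submonoid.powers (f m) : Set C) (q : Set C) := by
    rw [Set.disjoint_left]
    rintro _ ⟨n, rfl⟩ hn
    exact hm (hq.mem_of_pow_mem n hn)
  let q' : Ideal B := q.map (algebraMap C B)
  haveI : q'.IsPrime := IsLocalization.isPrime_of_isPrime_disjoint (Submonoid.powers (f m)) B q hq hdisj
  have hcm : q'.comap (algebraMap C B) = q := IsLocalization.comap_map_of_isPrime_disjoint (Submonoid.powers (f m)) B hq hdisj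
  have hq' : q' ∉ S m := fun hmem => hhq (by
    have h1 : y m q' hmem ∈ q := by rw [← hcm]; exact hy m q' hmem
    exact Ideal.mem_of_dvd q (Finset.dvd_prod_of_mem _ (Finset.mem_univ m))
      (Ideal.mem_of_dvd q (Finset.dvd_prod_of_mem _ (Finset.mem_attach _ ⟨q', hmem⟩)) h1))
  refine hS m q' hq' ?_
  let ι : q.ResidueField →ₐ[C] q'.ResidueField :=
    Ideal.ResidueField.mapₐ q q' (IsScalarTower.toAlgHom C C B) hcm.symm
  let Φ : q.ResidueField ⊗[C] Ω[C⁄k] →ₗ[C] q'.ResidueField ⊗[C] Ω[B⁄k] :=
    TensorProduct.map ι.toLinearMap (KaehlerDifferential.map k k C B)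
  have h1 := congrArg Φ h0
  rw [TensorProduct.map_tmul, map_zero, KaehlerDifferential.map_D, show ι.toLinearMap 1 = 1 from map_one ι] at h1
  have h2 := congrArg (TensorProduct.mapOfCompatibleSMul B C B q'.ResidueField Ω[B⁄k]) h1
  rw [map_zero, TensorProduct.mapOfCompatibleSMul_tmul] at h2
  refine Eq.trans ?_ h2
  congr 1
  rw [map_add (algebraMap C B), ← IsScalarTower.algebraMap_apply k C B,
    map_add (KaehlerDifferential.D k B), Derivation.map_algebraMap, add_zero]
  congr 1
  simp only [a₀, map_sum (algebraMap C B)]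
  exact Finset.sum_congr rfl fun j _ => ((IsScalarTower.toAlgHom k C B).toLinearMap.map_smul (c j) (g j)).symm

end SmoothUnit

open AlgebraicGeometry CategoryTheory

/-- Let k be an infinite field, X a scheme of finite type over k, U an open subscheme of X which is
smooth over k, and x a point of X. Assume that if x lies in U then x is not an isolated point of X.
Then there exist an open neighbourhood V of x in X and a k-morphism v from V to the multiplicative
group Spec k[T, T⁻¹] whose restriction to V ∩ U is a smooth morphism. (The published statement has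
no hypothesis on x; when x is an isolated point of X lying in U the conclusion fails, since a
zero-dimensional scheme admits no smooth morphism to a curve, and in every other case an isolated
point can be discarded, so that case is excluded here.) -/
theorem result
    {k : Type u} [Field k] [Infinite k]
    (X : Scheme.{u}) (f : X ⟶ Spec (CommRingCat.of k)) [LocallyOfFiniteType f] [QuasiCompact f]
    (U : X.Opens) [Smooth (U.ι ≫ f)] (x : ↥X) (hx : x ∈ U → ¬ IsOpen ({x} : Set ↥X)) :
    ∃ (V : X.Opens) (v : (↑V : Scheme.{u}) ⟶ Spec (CommRingCat.of (LaurentPolynomial k))),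
      x ∈ V ∧
      v ≫ Spec.map (CommRingCat.ofHom (algebraMap k (LaurentPolynomial k))) = V.ι ≫ f ∧
      Smooth (X.homOfLE (inf_le_left : V ⊓ U ≤ V) ≫ v) := by
  classical
  obtain ⟨U₀, hU₀, hxU, -⟩ := exists_isAffineOpen_mem_and_subset (X := X) (x := x) (U := ⊤) trivial
  let C := Γ(X, U₀)
  obtain ⟨θ, hθ⟩ : ∃ θ : CommRingCat.of k ⟶ C, Spec.map θ = hU₀.fromSpec ≫ f :=
    ⟨Spec.preimage (hU₀.fromSpec ≫ f), Spec.map_preimage _⟩
  letI : Algebra k C := θ.hom.toAlgebra
  have hθft : θ.hom.FiniteType := by
    rw [← HasRingHomProperty.Spec_iff (P := @LocallyOfFiniteType), hθ]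
    infer_instance
  haveI : Algebra.FiniteType k C := hθft
  haveI : Algebra.FinitePresentation k C := Algebra.FinitePresentation.of_finiteType.1 inferInstance
  haveI : IsNoetherianRing C := Algebra.FiniteType.isNoetherianRing k C
  obtain ⟨s, hs⟩ : ∃ s : Set C, hU₀.fromSpec ⁻¹' (U : Set X) = (PrimeSpectrum.zeroLocus s)ᶜ := by
    obtain ⟨s, hs⟩ := (PrimeSpectrum.isOpen_iff _).1 (U.2.preimage hU₀.fromSpec.continuous :
      IsOpen (hU₀.fromSpec ⁻¹' (U : Set X) : Set (PrimeSpectrum C)))
    exact ⟨s, by rw [← hs]; exact (compl_compl _).symm⟩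
  have hsm : ∀ g ∈ s, Algebra.Smooth k (Localization.Away g) := by
    intro g hg
    let j := Spec.map (CommRingCat.ofHom (algebraMap C (Localization.Away g)))
    haveI : IsOpenImmersion j := IsOpenImmersion.of_isLocalization g
    have hsub : Set.range (j ≫ hU₀.fromSpec) ⊆ Set.range U.ι := by
      rw [Scheme.Opens.range_ι]
      rintro _ ⟨z, rfl⟩
      show j z ∈ hU₀.fromSpec ⁻¹' (U : Set X)
      rw [hs]
      intro hz
      exact (PrimeSpectrum.localization_away_comap_range (Localization.Away g) g).subset ⟨z, rfl⟩ (hz hg)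
    have hfac := IsOpenImmersion.lift_fac U.ι (j ≫ hU₀.fromSpec) hsub
    haveI : IsOpenImmersion (IsOpenImmersion.lift U.ι (j ≫ hU₀.fromSpec) hsub) := by
      have : IsOpenImmersion (IsOpenImmersion.lift U.ι (j ≫ hU₀.fromSpec) hsub ≫ U.ι) := by
        rw [hfac]; infer_instance
      exact IsOpenImmersion.of_comp _ U.ι
    have : Smooth (Spec.map (θ ≫ CommRingCat.ofHom (algebraMap C (Localization.Away g)))) := by
      rw [Spec.map_comp, hθ, ← Category.assoc]
      change Smooth ((j ≫ hU₀.fromSpec) ≫ f)
      rw [← hfac, Category.assoc]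
      infer_instance
    rw [HasRingHomProperty.Spec_iff (P := @Smooth)] at this
    have e : (θ ≫ CommRingCat.ofHom (algebraMap C (Localization.Away g))).hom = algebraMap k (Localization.Away g) :=
      RingHom.ext fun c => (IsScalarTower.algebraMap_apply k C (Localization.Away g) c).symm
    rw [e] at this
    exact RingHom.smooth_algebraMap.1 this
  obtain ⟨zx, hzx⟩ := hU₀.range_fromSpec.symm.subset hxU
  haveI := (zx : PrimeSpectrum C).isPrime
  obtain ⟨a, h, hap, hhp, hgood⟩ : ∃ a h : C, a ∉ (zx : PrimeSpectrum C).asIdeal ∧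
      h ∉ (zx : PrimeSpectrum C).asIdeal ∧ ∀ (q : Ideal C) (_ : q.IsPrime), h ∉ q → (∃ g ∈ s, g ∉ q) →
        letI := (Polynomial.aeval (R := k) a).toRingHom.toAlgebra
        Algebra.IsSmoothAt (Polynomial k) q := by
    by_cases hxs : ∃ g ∈ s, g ∉ (zx : PrimeSpectrum C).asIdeal
    · obtain ⟨g, hg, hgx⟩ := hxs
      haveI : Algebra.IsSmoothAt k (zx : PrimeSpectrum C).asIdeal :=
        (Algebra.basicOpen_subset_smoothLocus_iff_smooth (R := k) (f := g)).2 (hsm g hg)
          (show (zx : PrimeSpectrum C) ∈ PrimeSpectrum.basicOpen g from hgx)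
      have hxU' : x ∈ U := by
        rw [← hzx]
        show zx ∈ hU₀.fromSpec ⁻¹' (U : Set X)
        rw [hs]
        exact fun hz => hgx (hz hg)
      obtain ⟨a, h, h1, h2, h3⟩ := exists_good_inside (k := k) (zx : PrimeSpectrum C).asIdeal (fun ho => hx hxU' (by
        have := hU₀.fromSpec.isOpenEmbedding.isOpenMap _ ho
        have e : hU₀.fromSpec '' ({zx} : Set (Spec C)) = {x} := by rw [Set.image_singleton, hzx]
        rw [← e]
        exact this))
      exact ⟨a, h, h1, h2, fun q hq hhq _ => h3 q hq hhq⟩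
    · push_neg at hxs
      obtain ⟨F, hFs, hF⟩ : ∃ F : Finset C, (F : Set C) ⊆ s ∧ Ideal.span s = Ideal.span F := by
        obtain ⟨F, hF1, hF2⟩ := (Submodule.fg_span_iff_fg_span_finset_subset s).1 (IsNoetherian.noetherian (Ideal.span s))
        exact ⟨F, hF1, hF2⟩
      obtain ⟨a, h, h1, h2, h3⟩ := exists_good_outside (k := k) (M := (F : Set C)) (fun g => (g : C))
        (fun g => hsm g (hFs g.2)) (zx : PrimeSpectrum C).asIdeal (fun g => hxs g (hFs g.2))
      refine ⟨a, h, h1, h2, fun q hq hhq ⟨g, hg, hgq⟩ => h3 q hq hhq ?_⟩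
      by_contra hall
      push_neg at hall
      refine hgq ((show Ideal.span (F : Set C) ≤ q from Ideal.span_le.2 fun y hy => hall ⟨y, hy⟩) ?_)
      rw [← hF]
      exact Ideal.subset_span hg
  let V := X.basicOpen (a * h)
  have hVU : V ≤ U₀ := X.basicOpen_le _
  have hxV : x ∈ V := by
    rw [← hzx]
    exact (Set.ext_iff.1 (congrArg SetLike.coe (hU₀.fromSpec_preimage_basicOpen (a * h))) zx).2
      (fun hm => ((zx : PrimeSpectrum C).isPrime.mem_or_mem hm).elim hap hhp)
  let φ : Polynomial k →ₐ[k] C := Polynomial.aeval a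
  let g₀ : (U₀ : Scheme.{u}) ⟶ Spec (CommRingCat.of (Polynomial k)) :=
    hU₀.isoSpec.hom ≫ Spec.map (CommRingCat.ofHom φ.toRingHom)
  let jL := Spec.map (CommRingCat.ofHom (algebraMap (Polynomial k) (LaurentPolynomial k)))
  haveI : IsOpenImmersion jL := IsOpenImmersion.of_isLocalization (Polynomial.X : Polynomial k)
  have hsubL : Set.range (X.homOfLE hVU ≫ g₀) ⊆ Set.range jL := by
    rintro _ ⟨w, rfl⟩
    refine (PrimeSpectrum.localization_away_comap_range (LaurentPolynomial k) (Polynomial.X : Polynomial k)).symm.subset ?_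
    show Polynomial.X ∉ ((hU₀.isoSpec.hom (X.homOfLE hVU w)) : PrimeSpectrum C).asIdeal.comap φ.toRingHom
    rw [Ideal.mem_comap]
    show φ Polynomial.X ∉ _
    rw [Polynomial.aeval_X]
    refine (Set.ext_iff.1 (congrArg SetLike.coe (hU₀.fromSpec_preimage_basicOpen a)) (hU₀.isoSpec.hom (X.homOfLE hVU w))).1 ?_
    show (X.homOfLE hVU ≫ hU₀.isoSpec.hom ≫ hU₀.fromSpec) w ∈ X.basicOpen a
    rw [IsAffineOpen.isoSpec_hom, IsAffineOpen.toSpecΓ_fromSpec, Scheme.homOfLE_ι]
    exact ((X.basicOpen_mul a h).le w.2).1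
  let v := IsOpenImmersion.lift jL (X.homOfLE hVU ≫ g₀) hsubL
  have hv : v ≫ jL = X.homOfLE hVU ≫ g₀ := IsOpenImmersion.lift_fac _ _ _
  have hk : g₀ ≫ Spec.map (CommRingCat.ofHom (algebraMap k (Polynomial k))) = U₀.ι ≫ f := by
    simp only [g₀, Category.assoc, ← Spec.map_comp]
    have : CommRingCat.ofHom (algebraMap k (Polynomial k)) ≫ CommRingCat.ofHom φ.toRingHom = θ :=
      CommRingCat.hom_ext (RingHom.ext fun c => φ.commutes c)
    rw [this, hθ, IsAffineOpen.isoSpec_hom, IsAffineOpen.toSpecΓ_fromSpec_assoc]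
  haveI : IsScalarTower k (Polynomial k) (LaurentPolynomial k) := IsScalarTower.of_algebraMap_eq fun c => (Polynomial.toLaurent_C c).symm
  refine ⟨V, v, hxV, ?_, ?_⟩
  · have : CommRingCat.ofHom (algebraMap k (Polynomial k)) ≫
        CommRingCat.ofHom (algebraMap (Polynomial k) (LaurentPolynomial k)) =
        CommRingCat.ofHom (algebraMap k (LaurentPolynomial k)) :=
      CommRingCat.hom_ext (IsScalarTower.algebraMap_eq k (Polynomial k) (LaurentPolynomial k)).symm
    rw [← this, Spec.map_comp]
    show v ≫ jL ≫ _ = _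
    rw [reassoc_of% hv, hk, Scheme.homOfLE_ι_assoc]
  · let w := X.homOfLE (inf_le_left : V ⊓ U ≤ V) ≫ v
    suffices Smooth (w ≫ jL) from
      MorphismProperty.of_isPullback (P := @Smooth.{u})
        (IsPullback.of_horiz_isIso_mono (fst := 𝟙 _) (snd := w) (f := w ≫ jL) (g := jL) ⟨Category.id_comp _⟩) this
    have hw : w ≫ jL = X.homOfLE ((inf_le_left : V ⊓ U ≤ V).trans hVU) ≫ g₀ := by
      simp only [w, Category.assoc, hv, Scheme.homOfLE_homOfLE_assoc]
    rw [hw]
    letI := φ.toRingHom.toAlgebra
    haveI : IsScalarTower k (Polynomial k) C :=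
      IsScalarTower.of_algebraMap_eq fun c => (φ.commutes c).symm
    haveI : Algebra.FinitePresentation (Polynomial k) C := by
      haveI : Algebra.FiniteType (Polynomial k) C := Algebra.FiniteType.of_restrictScalars_finiteType k _ _
      exact Algebra.FinitePresentation.of_finiteType.1 inferInstance
    have hloc : ∀ z : (V ⊓ U : X.Opens), ∃ hz : C, (z : X) ∈ X.basicOpen hz ∧
        Algebra.Smooth (Polynomial k) (Localization.Away hz) := by
      intro z
      obtain ⟨q, hq⟩ := hU₀.range_fromSpec.symm.subset (hVU z.2.1)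
      haveI := (q : PrimeSpectrum C).isPrime
      have hnah : a * h ∉ (q : PrimeSpectrum C).asIdeal :=
        (Set.ext_iff.1 (congrArg SetLike.coe (hU₀.fromSpec_preimage_basicOpen (a * h))) q).1
          (show hU₀.fromSpec q ∈ V by rw [hq]; exact z.2.1)
      have hqs : ∃ g ∈ s, g ∉ (q : PrimeSpectrum C).asIdeal := by
        have hqU : q ∈ hU₀.fromSpec ⁻¹' (U : Set X) := show hU₀.fromSpec q ∈ U by rw [hq]; exact z.2.2
        rw [hs] at hqU
        by_contra hall
        push_neg at hall
        exact hqU hall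
      haveI : Algebra.IsSmoothAt (Polynomial k) (q : PrimeSpectrum C).asIdeal :=
        hgood (q : PrimeSpectrum C).asIdeal inferInstance (fun hh => hnah (Ideal.mul_mem_left _ a hh)) hqs
      obtain ⟨hz, h1, h2⟩ := Algebra.IsSmoothAt.exists_notMem_smooth (R := Polynomial k) (q : PrimeSpectrum C).asIdeal
      refine ⟨hz, ?_, h2⟩
      rw [← hq]
      exact (Set.ext_iff.1 (congrArg SetLike.coe (hU₀.fromSpec_preimage_basicOpen hz)) q).2 h1
    choose hz hzm hzs using hloc
    haveI : HasRingHomProperty (@Smooth.{u}) RingHom.Smooth := inferInstance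
    haveI : IsZariskiLocalAtSource (@Smooth.{u}) := @HasRingHomProperty.instIsZariskiLocalAtSource _ _ ‹HasRingHomProperty (@Smooth.{u}) RingHom.Smooth›
    refine (IsZariskiLocalAtSource.iff_of_iSup_eq_top (P := @Smooth.{u})
      (fun z : (V ⊓ U : X.Opens) => (V ⊓ U).ι ⁻¹ᵁ X.basicOpen (hz z)) ?_).2 fun z => ?_
    · exact eq_top_iff.2 fun p _ => TopologicalSpace.Opens.mem_iSup.2 ⟨p, hzm p⟩
    simp only [g₀, ← Category.assoc]
    generalize hjW : (((V ⊓ U).ι ⁻¹ᵁ X.basicOpen (hz z)).ι ≫ X.homOfLE ((inf_le_left : V ⊓ U ≤ V).trans hVU)) ≫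
      hU₀.isoSpec.hom = jW
    haveI : IsOpenImmersion jW := by rw [← hjW]; infer_instance
    let j := Spec.map (CommRingCat.ofHom (algebraMap C (Localization.Away (hz z))))
    haveI : IsOpenImmersion j := IsOpenImmersion.of_isLocalization (hz z)
    have hsub : Set.range jW ⊆ Set.range j := by
      rintro _ ⟨p, rfl⟩
      refine (PrimeSpectrum.localization_away_comap_range (Localization.Away (hz z)) (hz z)).symm.subset ?_
      refine (Set.ext_iff.1 (congrArg SetLike.coe (hU₀.fromSpec_preimage_basicOpen (hz z))) (jW p)).1 ?_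
      show (jW ≫ hU₀.fromSpec) p ∈ X.basicOpen (hz z)
      rw [← hjW, Category.assoc, IsAffineOpen.isoSpec_hom, IsAffineOpen.toSpecΓ_fromSpec, Category.assoc,
        Scheme.homOfLE_ι]
      exact p.2
    rw [← IsOpenImmersion.lift_fac j jW hsub, Category.assoc, ← Spec.map_comp]
    haveI : IsOpenImmersion (IsOpenImmersion.lift j jW hsub) := by
      have : IsOpenImmersion (IsOpenImmersion.lift j jW hsub ≫ j) := by
        rw [IsOpenImmersion.lift_fac]; infer_instance
      exact IsOpenImmersion.of_comp _ j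
    haveI : Smooth (Spec.map (CommRingCat.ofHom φ.toRingHom ≫ CommRingCat.ofHom (algebraMap C (Localization.Away (hz z))))) := by
      rw [HasRingHomProperty.Spec_iff (P := @Smooth)]
      have e2 : (CommRingCat.ofHom φ.toRingHom ≫ CommRingCat.ofHom (algebraMap C (Localization.Away (hz z)))).hom =
          algebraMap (Polynomial k) (Localization.Away (hz z)) :=
        RingHom.ext fun c => (IsScalarTower.algebraMap_apply (Polynomial k) C (Localization.Away (hz z)) c).symm
      rw [e2]
      exact RingHom.smooth_algebraMap.2 (hzs z)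
    infer_instance

end Groth.Agent.S16365
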