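import Groth.Statements.S16366
import Mathlib
import Groth.Agent.SmoothLib.Tower
-- import your own Groth.Agent.* helpers here

set_option autoImplicit false
universe u
open CategoryTheory Limits Opposite
open MovLem

namespace Groth.Agent.S16366

open AlgebraicGeometry in
set_option linter.unusedVariables false

section SmoothUnit

open scoped TensorProduct

variable {k : Type u} [Field k] {C : Type u} [CommRing C] [Algebra k C] [Algebra.FiniteType k C]

theorem exists_D_ne_zero (q : Ideal C) [q.IsPrime] (hq : ¬ q.IsMaximal) :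
    ∃ c : C, (1 : q.ResidueField) ⊗ₜ[C] KaehlerDifferential.D k C c ≠ 0 := by
  by_contra hc
  push_neg at hc
  have hzero : ∀ z : q.ResidueField ⊗[C] Ω[C⁄k], z = 0 := by
    intro z
    induction z using TensorProduct.induction_on with
    | zero => rfl
    | add a b ha hb => rw [ha, hb, add_zero]
    | tmul a ω =>
      have hω : (1 : q.ResidueField) ⊗ₜ[C] ω = 0 := by
        have : ω ∈ Submodule.span C (Set.range (KaehlerDifferential.D k C)) := by
          rw [KaehlerDifferential.span_range_derivation]; trivial
        induction this using Submodule.span_induction with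
        | mem x hx => obtain ⟨c, rfl⟩ := hx; exact hc c
        | zero => simp
        | add x y _ _ hx hy => rw [TensorProduct.tmul_add, hx, hy, add_zero]
        | smul c x _ hx => rw [TensorProduct.tmul_smul, hx, smul_zero]
      rw [show a ⊗ₜ[C] ω = a • ((1 : q.ResidueField) ⊗ₜ[C] ω) by rw [TensorProduct.smul_tmul', smul_eq_mul, mul_one],
        hω, smul_zero]
  haveI : Subsingleton (q.ResidueField ⊗[C] Ω[C⁄k]) := ⟨fun a b => (hzero a).trans (hzero b).symm⟩
  have h1 : (⟨q, ‹_›⟩ : PrimeSpectrum C) ∉ Module.support C Ω[C⁄k] := by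
    rw [Module.mem_support_iff_nontrivial_residueField_tensorProduct]
    exact not_nontrivial _
  rw [Module.notMem_support_iff] at h1
  let Cq := Localization.AtPrime q
  haveI : Algebra.FormallyEtale C Cq := .of_isLocalization q.primeCompl
  haveI : Subsingleton (Cq ⊗[C] Ω[C⁄k]) :=
    (LocalizedModule.equivTensorProduct q.primeCompl Ω[C⁄k]).symm.toEquiv.subsingleton
  haveI : Subsingleton Ω[Cq⁄k] :=
    (KaehlerDifferential.tensorKaehlerEquivOfFormallyEtale k C Cq).symm.toEquiv.subsingleton
  haveI : Algebra.FormallyUnramified k Cq := ⟨inferInstance⟩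
  haveI : Algebra.EssFiniteType k Cq := Algebra.EssFiniteType.comp k C Cq
  haveI : Module.Finite k Cq := Algebra.FormallyUnramified.finite_of_free k Cq
  haveI : Module.Finite k q.ResidueField :=
    Module.Finite.of_surjective (IsScalarTower.toAlgHom k Cq q.ResidueField).toLinearMap
      IsLocalRing.residue_surjective
  haveI : Module.Finite k (C ⧸ q) := by
    let j : C ⧸ q →ₐ[k] q.ResidueField := IsScalarTower.toAlgHom k (C ⧸ q) q.ResidueField
    exact Module.Finite.of_injective j.toLinearMap (IsFractionRing.injective (C ⧸ q) q.ResidueField)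
  haveI : Algebra.IsIntegral k (C ⧸ q) := Algebra.IsIntegral.of_finite k _
  exact hq (Ideal.Quotient.maximal_of_isField q (isField_of_isIntegral_of_isField' (Field.toIsField k)))

theorem isSmoothAt_of_D_ne_zero (a : C) (q : Ideal C) [q.IsPrime] [Algebra.IsSmoothAt k q]
    (ha : (1 : q.ResidueField) ⊗ₜ[C] KaehlerDifferential.D k C a ≠ 0) :
    letI := (Polynomial.aeval (R := k) a).toRingHom.toAlgebra
    Algebra.IsSmoothAt (Polynomial k) q := by
  letI := (Polynomial.aeval (R := k) a).toRingHom.toAlgebra
  haveI : IsScalarTower k (Polynomial k) C :=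
    IsScalarTower.of_algebraMap_eq fun c => ((Polynomial.aeval (R := k) a).commutes c).symm
  haveI : Algebra.Smooth k (Polynomial k) := ⟨inferInstance, inferInstance⟩
  haveI : Algebra.IsSmoothAt k (q.under (Polynomial k)) := by
    have : (⟨q.under (Polynomial k), inferInstance⟩ : PrimeSpectrum (Polynomial k)) ∈
        Algebra.smoothLocus k (Polynomial k) := by
      rw [Algebra.smoothLocus_eq_univ]; trivial
    exact this
  rw [Groth.Agent.SmoothLib.isSmoothAt_tower_iff_residueField k (Polynomial k) C q]
  refine (injective_iff_map_eq_zero _).2 fun z hz => ?_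
  obtain ⟨c, rfl⟩ : ∃ c : q.ResidueField,
      c ⊗ₜ[C] ((1 : C) ⊗ₜ[Polynomial k] KaehlerDifferential.D k (Polynomial k) Polynomial.X) = z := by
    clear hz
    induction z using TensorProduct.induction_on with
    | zero => exact ⟨0, TensorProduct.zero_tmul _ _⟩
    | add x y hx hy =>
      obtain ⟨c1, rfl⟩ := hx
      obtain ⟨c2, rfl⟩ := hy
      exact ⟨c1 + c2, TensorProduct.add_tmul _ _ _⟩
    | tmul r w =>
      induction w using TensorProduct.induction_on with
      | zero => exact ⟨0, by rw [TensorProduct.zero_tmul, TensorProduct.tmul_zero]⟩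
      | add x y hx hy =>
        obtain ⟨c1, h1⟩ := hx
        obtain ⟨c2, h2⟩ := hy
        exact ⟨c1 + c2, by rw [TensorProduct.add_tmul, h1, h2, ← TensorProduct.tmul_add]⟩
      | tmul c ω =>
        obtain ⟨b, rfl⟩ : ∃ b : Polynomial k, b • KaehlerDifferential.D k (Polynomial k) Polynomial.X = ω :=
          ⟨KaehlerDifferential.polynomialEquiv k ω, (KaehlerDifferential.polynomialEquiv k).injective (by
            rw [map_smul, KaehlerDifferential.polynomialEquiv_D, Polynomial.derivative_X, smul_eq_mul, mul_one])⟩
        refine ⟨algebraMap C q.ResidueField (b • c) * r, ?_⟩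
        rw [← Algebra.smul_def, TensorProduct.smul_tmul, ← TensorProduct.smul_tmul b c,
          TensorProduct.smul_tmul', smul_eq_mul, mul_one]
  rw [LinearMap.lTensor_tmul, KaehlerDifferential.mapBaseChange_tmul, KaehlerDifferential.map_D, one_smul] at hz
  rw [show algebraMap (Polynomial k) C Polynomial.X = a from Polynomial.aeval_X a] at hz
  have : c • ((1 : q.ResidueField) ⊗ₜ[C] KaehlerDifferential.D k C a) = 0 := by
    rw [TensorProduct.smul_tmul', smul_eq_mul, mul_one]; exact hz
  rw [(smul_eq_zero.1 this).resolve_right ha, TensorProduct.zero_tmul]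

theorem exists_unit [Infinite k] (u : C) (hs : Algebra.Smooth k (Localization.Away u))
    (p : Ideal C) [p.IsPrime] (hu : u ∈ p) {ι : Type} [Finite ι] (q : ι → Ideal C)
    (hq : ∀ i, (q i).IsPrime) (hqu : ∀ i, u ∉ q i) (hqp : ∀ i, q i ≤ p) :
    ∃ e : C, e ∉ p ∧ ∀ i, haveI := hq i
      letI := (Polynomial.aeval (R := k) (e * u)).toRingHom.toAlgebra
      Algebra.IsSmoothAt (Polynomial k) (q i) := by
  haveI : Algebra.FinitePresentation k C := Algebra.FinitePresentation.of_finiteType.1 inferInstance
  let L : ∀ i, haveI := hq i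
      C →ₗ[k] (q i).ResidueField ⊗[C] Ω[C⁄k] := fun i =>
    haveI := hq i
    ((TensorProduct.mk C (q i).ResidueField Ω[C⁄k] 1).restrictScalars k).comp
      ((KaehlerDifferential.D k C).toLinearMap.comp (LinearMap.mulRight k u))
  let S : Option ι → Submodule k C := fun o => o.elim (p.restrictScalars k) fun i => LinearMap.ker (L i)
  have hS : ∀ o, S o ≠ ⊤ := by
    rintro (_ | i) h
    · exact Ideal.IsPrime.ne_top ‹_› ((Ideal.eq_top_iff_one p).2
        (show (1 : C) ∈ S none by rw [h]; trivial))
    · haveI := hq i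
      have hall : ∀ e : C, (1 : (q i).ResidueField) ⊗ₜ[C] KaehlerDifferential.D k C (e * u) = 0 := fun e => by
        have : e ∈ S (some i) := by rw [h]; trivial
        exact this
      have hu0 : (1 : (q i).ResidueField) ⊗ₜ[C] KaehlerDifferential.D k C u = 0 := by
        simpa using hall 1
      have hnm : ¬ (q i).IsMaximal := fun hm =>
        hqu i ((hm.eq_of_le (Ideal.IsPrime.ne_top ‹p.IsPrime›) (hqp i)).symm ▸ hu)
      obtain ⟨c, hc⟩ := exists_D_ne_zero (k := k) (q i) hnm
      refine hc ?_
      have h1 := hall c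
      rw [Derivation.leibniz, TensorProduct.tmul_add, TensorProduct.tmul_smul, hu0, smul_zero, zero_add,
        TensorProduct.tmul_smul, ← algebraMap_smul (q i).ResidueField u] at h1
      exact (smul_eq_zero.1 h1).resolve_left fun e0 => hqu i (Ideal.algebraMap_residueField_eq_zero.1 e0)
  obtain ⟨e, he⟩ := Submodule.exists_forall_notMem_of_forall_ne_top S hS
  refine ⟨e, he none, fun i => ?_⟩
  haveI := hq i
  haveI : Algebra.IsSmoothAt k (q i) := by
    have hb := (Algebra.basicOpen_subset_smoothLocus_iff_smooth (R := k) (f := u)).2 hs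
    exact hb (show (⟨q i, hq i⟩ : PrimeSpectrum C) ∈ PrimeSpectrum.basicOpen u from hqu i)
  exact isSmoothAt_of_D_ne_zero (e * u) (q i) fun h => he (some i) h

end SmoothUnit

open AlgebraicGeometry CategoryTheory

/-- Let k be an infinite field, X a scheme of finite type over k and u a global function on X such that
the open subscheme X_u where u is invertible is smooth over k. Let x be a point of X at which u is
not invertible, and let x'_1, …, x'_n be finitely many points of X_u, each of which specializes to
x. Then there exist an open neighbourhood X' of x, a unit e among the functions on X', and the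
k-morphism g : X' → A^1_k = Spec k[T] whose pulled-back coordinate T is e·u restricted to X', such
that g is smooth on some open neighbourhood of each x'_i. (Equivalently: after shrinking X around x,
the equation u of the principal divisor D = (u) is replaced by another equation e·u of the same
divisor that is smooth at the chosen points. The published statement takes D an effective Cartier
divisor, i.e. u a non-zero-divisor; that is not assumed here, and the argument does not need it.) -/
theorem result
    {k : Type u} [Field k] [Infinite k]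
    (X : Scheme.{u}) (f : X ⟶ Spec (CommRingCat.of k)) [LocallyOfFiniteType f] [QuasiCompact f]
    (u : Γ(X, ⊤)) [Smooth ((X.basicOpen u).ι ≫ f)]
    (x : ↥X) (hx : x ∉ X.basicOpen u)
    {ι : Type} [Finite ι] (x' : ι → ↥X) (hx' : ∀ i, x' i ∈ X.basicOpen u) (hgen : ∀ i, x' i ⤳ x) :
    ∃ (X' : X.Opens) (e : Γ(X, X')) (g : (↑X' : Scheme.{u}) ⟶ Spec (CommRingCat.of (Polynomial k))),
      x ∈ X' ∧ IsUnit e ∧
      g ≫ Spec.map (CommRingCat.ofHom (Polynomial.C : k →+* Polynomial k)) = X'.ι ≫ f ∧
      X'.topIso.hom (g.appTop ((Scheme.ΓSpecIso (CommRingCat.of (Polynomial k))).inv Polynomial.X)) =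
        e * X.presheaf.map (homOfLE le_top).op u ∧
      ∀ i, ∃ (W : X.Opens) (hW : W ≤ X'), x' i ∈ W ∧ Smooth (X.homOfLE hW ≫ g) := by
  obtain ⟨U₀, hU₀, hxU, -⟩ := exists_isAffineOpen_mem_and_subset (X := X) (x := x) (U := ⊤) trivial
  let C := Γ(X, U₀)
  obtain ⟨θ, hθ⟩ : ∃ θ : CommRingCat.of k ⟶ C, Spec.map θ = hU₀.fromSpec ≫ f :=
    ⟨Spec.preimage (hU₀.fromSpec ≫ f), Spec.map_preimage _⟩
  letI : Algebra k C := θ.hom.toAlgebra
  have hθft : θ.hom.FiniteType := by
    rw [← HasRingHomProperty.Spec_iff (P := @LocallyOfFiniteType), hθ]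
    infer_instance
  haveI : Algebra.FiniteType k C := hθft
  haveI : Algebra.FinitePresentation k C := Algebra.FinitePresentation.of_finiteType.1 inferInstance
  let uC : C := X.presheaf.map (homOfLE le_top).op u
  have hmem : ∀ (z : Spec C), hU₀.fromSpec z ∈ X.basicOpen u ↔ uC ∉ (z : PrimeSpectrum C).asIdeal := by
    intro z
    have hzU : hU₀.fromSpec z ∈ U₀ := hU₀.range_fromSpec.subset ⟨z, rfl⟩
    have h1 : hU₀.fromSpec z ∈ X.basicOpen u ↔ hU₀.fromSpec z ∈ X.basicOpen uC := by
      rw [Scheme.basicOpen_res]
      exact ⟨fun h => ⟨hzU, h⟩, fun h => h.2⟩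
    rw [h1]
    exact (Set.ext_iff.1 (congrArg SetLike.coe (hU₀.fromSpec_preimage_basicOpen uC)) z).trans
      (PrimeSpectrum.mem_basicOpen _ _)
  have hsm : Algebra.Smooth k (Localization.Away uC) := by
    let j := Spec.map (CommRingCat.ofHom (algebraMap C (Localization.Away uC)))
    haveI : IsOpenImmersion j := IsOpenImmersion.of_isLocalization uC
    have hsub : Set.range (j ≫ hU₀.fromSpec) ⊆ Set.range (X.basicOpen u).ι := by
      rw [Scheme.Opens.range_ι]
      rintro _ ⟨z, rfl⟩
      refine (hmem (j z)).2 ?_
      exact (PrimeSpectrum.localization_away_comap_range (Localization.Away uC) uC).subset ⟨z, rfl⟩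
    have hfac := IsOpenImmersion.lift_fac (X.basicOpen u).ι (j ≫ hU₀.fromSpec) hsub
    haveI : IsOpenImmersion (IsOpenImmersion.lift (X.basicOpen u).ι (j ≫ hU₀.fromSpec) hsub) := by
      have : IsOpenImmersion (IsOpenImmersion.lift (X.basicOpen u).ι (j ≫ hU₀.fromSpec) hsub ≫ (X.basicOpen u).ι) := by
        rw [hfac]; infer_instance
      exact IsOpenImmersion.of_comp _ (X.basicOpen u).ι
    have : Smooth (Spec.map (θ ≫ CommRingCat.ofHom (algebraMap C (Localization.Away uC)))) := by
      rw [Spec.map_comp, hθ, ← Category.assoc]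
      change Smooth ((j ≫ hU₀.fromSpec) ≫ f)
      rw [← hfac, Category.assoc]
      infer_instance
    rw [HasRingHomProperty.Spec_iff (P := @Smooth)] at this
    have e : (θ ≫ CommRingCat.ofHom (algebraMap C (Localization.Away uC))).hom = algebraMap k (Localization.Away uC) :=
      RingHom.ext fun c => (IsScalarTower.algebraMap_apply k C (Localization.Away uC) c).symm
    rw [e] at this
    exact RingHom.smooth_algebraMap.1 this
  have hx'U : ∀ i, x' i ∈ U₀ := fun i => (hgen i).mem_open U₀.2 hxU
  obtain ⟨zx, hzx⟩ := hU₀.range_fromSpec.symm.subset hxU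
  choose z hz using fun i => hU₀.range_fromSpec.symm.subset (hx'U i)
  haveI := (zx : PrimeSpectrum C).isPrime
  obtain ⟨e, hep, hesm⟩ := exists_unit uC hsm (zx : PrimeSpectrum C).asIdeal
    (by
      by_contra h
      exact hx (hzx ▸ (hmem zx).2 h))
    (fun i => (z i : PrimeSpectrum C).asIdeal) (fun i => (z i : PrimeSpectrum C).isPrime)
    (fun i => (hmem (z i)).1 (by rw [hz i]; exact hx' i))
    (fun i => (PrimeSpectrum.le_iff_specializes _ _).2
      (hU₀.fromSpec.isOpenEmbedding.isInducing.specializes_iff.1 (by rw [hz i, hzx]; exact hgen i)))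
  let X' := X.basicOpen e
  have hX'U : X' ≤ U₀ := X.basicOpen_le e
  let φ : Polynomial k →ₐ[k] C := Polynomial.aeval (e * uC)
  let g₀ : (U₀ : Scheme.{u}) ⟶ Spec (CommRingCat.of (Polynomial k)) :=
    hU₀.isoSpec.hom ≫ Spec.map (CommRingCat.ofHom φ.toRingHom)
  have hxX' : x ∈ X' := by
    rw [← hzx]
    exact (Set.ext_iff.1 (congrArg SetLike.coe (hU₀.fromSpec_preimage_basicOpen e)) zx).2 hep
  refine ⟨X', X.presheaf.map (homOfLE hX'U).op e, X.homOfLE hX'U ≫ g₀, hxX',
    RingedSpace.isUnit_res_basicOpen X.toLocallyRingedSpace.toRingedSpace e, ?_, ?_, ?_⟩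
  · simp only [g₀, Category.assoc, ← Spec.map_comp]
    have : CommRingCat.ofHom (Polynomial.C : k →+* Polynomial k) ≫ CommRingCat.ofHom φ.toRingHom = θ :=
      CommRingCat.hom_ext (RingHom.ext fun c => φ.commutes c)
    rw [this, hθ, IsAffineOpen.isoSpec_hom, IsAffineOpen.toSpecΓ_fromSpec_assoc, Scheme.homOfLE_ι_assoc]
  · have hg : g₀.appTop ((Scheme.ΓSpecIso (CommRingCat.of (Polynomial k))).inv Polynomial.X) =
        U₀.topIso.inv (e * uC) := by
      simp only [g₀, Scheme.Hom.comp_appTop, CommRingCat.comp_apply]
      rw [← CommRingCat.comp_apply (Scheme.ΓSpecIso _).inv, ← Scheme.ΓSpecIso_inv_naturality,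
        CommRingCat.comp_apply]
      rw [show (CommRingCat.ofHom φ.toRingHom) Polynomial.X = e * uC from Polynomial.aeval_X _]
      rw [IsAffineOpen.isoSpec_hom_appTop, CommRingCat.comp_apply, Iso.inv_hom_id_apply]
    have key : U₀.topIso.inv ≫ (X.homOfLE hX'U).appTop ≫ X'.topIso.hom = X.presheaf.map (homOfLE hX'U).op := by
      rw [Scheme.homOfLE_appTop]
      simp only [Scheme.Opens.topIso_hom, Scheme.Opens.topIso_inv]
      exact ((congrArg (_ ≫ ·) (X.presheaf.map_comp _ _).symm).trans (X.presheaf.map_comp _ _).symm).trans rfl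
    rw [Scheme.Hom.comp_appTop]
    refine (congrArg (fun w => X'.topIso.hom ((X.homOfLE hX'U).appTop w)) hg).trans ?_
    refine (ConcreteCategory.congr_hom key (e * uC)).trans ?_
    refine (map_mul (X.presheaf.map (homOfLE hX'U).op).hom e uC).trans ?_
    congr 1
    exact (ConcreteCategory.congr_hom (X.presheaf.map_comp _ _) u).symm.trans rfl
  · intro i
    letI := φ.toRingHom.toAlgebra
    haveI : IsScalarTower k (Polynomial k) C :=
      IsScalarTower.of_algebraMap_eq fun c => (φ.commutes c).symm
    haveI : Algebra.FinitePresentation (Polynomial k) C := by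
      haveI : Algebra.FiniteType (Polynomial k) C := Algebra.FiniteType.of_restrictScalars_finiteType k _ _
      exact Algebra.FinitePresentation.of_finiteType.1 inferInstance
    haveI := (z i : PrimeSpectrum C).isPrime
    haveI : Algebra.IsSmoothAt (Polynomial k) (z i : PrimeSpectrum C).asIdeal := hesm i
    obtain ⟨h, hh, hhs⟩ := Algebra.IsSmoothAt.exists_notMem_smooth (R := Polynomial k) (z i : PrimeSpectrum C).asIdeal
    let W := X.basicOpen (e * h)
    have hW : W ≤ X' := by rw [show W = _ from X.basicOpen_mul e h]; exact inf_le_left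
    have heq : e ∉ (z i : PrimeSpectrum C).asIdeal := fun he' => hep (Ideal.IsPrime.mem_of_pow_mem inferInstance 1 (by
      rw [pow_one]
      exact (PrimeSpectrum.le_iff_specializes (z i : PrimeSpectrum C) zx).2
        (hU₀.fromSpec.isOpenEmbedding.isInducing.specializes_iff.1 (by rw [hz i, hzx]; exact hgen i)) he'))
    refine ⟨W, hW, ?_, ?_⟩
    · rw [← hz i]
      exact (Set.ext_iff.1 (congrArg SetLike.coe (hU₀.fromSpec_preimage_basicOpen (e * h))) (z i)).2
        (fun hm => ((z i : PrimeSpectrum C).isPrime.mem_or_mem hm).elim heq hh)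
    · rw [X.homOfLE_homOfLE_assoc]
      simp only [g₀, ← Category.assoc]
      generalize hjW : X.homOfLE (hW.trans hX'U) ≫ hU₀.isoSpec.hom = jW
      haveI : IsOpenImmersion jW := by rw [← hjW]; infer_instance
      let j := Spec.map (CommRingCat.ofHom (algebraMap C (Localization.Away h)))
      haveI : IsOpenImmersion j := IsOpenImmersion.of_isLocalization h
      have hsub : Set.range jW ⊆ Set.range j := by
        rintro _ ⟨w, rfl⟩
        refine (PrimeSpectrum.localization_away_comap_range (Localization.Away h) h).symm.subset ?_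
        refine (Set.ext_iff.1 (congrArg SetLike.coe (hU₀.fromSpec_preimage_basicOpen h)) (jW w)).1 ?_
        show (jW ≫ hU₀.fromSpec) w ∈ X.basicOpen h
        rw [← hjW, Category.assoc, IsAffineOpen.isoSpec_hom, IsAffineOpen.toSpecΓ_fromSpec, Scheme.homOfLE_ι]
        exact ((X.basicOpen_mul e h).le w.2).2
      rw [← IsOpenImmersion.lift_fac j jW hsub, Category.assoc, ← Spec.map_comp]
      haveI : IsOpenImmersion (IsOpenImmersion.lift j jW hsub) := by
        have : IsOpenImmersion (IsOpenImmersion.lift j jW hsub ≫ j) := by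
          rw [IsOpenImmersion.lift_fac]; infer_instance
        exact IsOpenImmersion.of_comp _ j
      haveI : Smooth (Spec.map (CommRingCat.ofHom φ.toRingHom ≫ CommRingCat.ofHom (algebraMap C (Localization.Away h)))) := by
        rw [HasRingHomProperty.Spec_iff (P := @Smooth)]
        have e2 : (CommRingCat.ofHom φ.toRingHom ≫ CommRingCat.ofHom (algebraMap C (Localization.Away h))).hom =
            algebraMap (Polynomial k) (Localization.Away h) :=
          RingHom.ext fun c => (IsScalarTower.algebraMap_apply (Polynomial k) C (Localization.Away h) c).symm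
        rw [e2]
        exact RingHom.smooth_algebraMap.2 hhs
      infer_instance

end Groth.Agent.S16366
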