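import Groth.Statements.S16367
import Mathlib
-- import your own Groth.Agent.* helpers here

set_option autoImplicit false
universe u
open MovLem

namespace Groth.Agent.S16367

section
variable {k : Type u} [CommRing k] (d n : ℕ) (u : MvPolynomial (Fin d) k) (v : Fin d → k) (N s : ℕ)

noncomputable abbrev phi (f : MvPolynomial (Fin d ⊕ Fin n) k) : Polynomial (MvPolynomial (Fin d ⊕ Fin n) k) :=
  ∑ m ∈ f.support,
    Polynomial.C (MvPolynomial.C (MvPolynomial.coeff m f)) *
      Polynomial.X ^ (N - ∑ i : Fin d, m (Sum.inl i)) *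
      (∏ i : Fin d, (Polynomial.X * Polynomial.C (MvPolynomial.X (Sum.inl i)) +
          Polynomial.C (MvPolynomial.rename Sum.inl u ^ s * MvPolynomial.C (v i))) ^ m (Sum.inl i)) *
      ∏ j : Fin n, Polynomial.C (MvPolynomial.X (Sum.inr j)) ^ m (Sum.inr j)

theorem sumCong {Λ : Type*} [Fintype Λ] {T R : Type u} [CommRing T] [CommRing R] (ψ : T →+* R)
    (c φ g : Λ → T) (X : T) (h : ∀ l, ψ (φ l) = ψ (X * g l)) :
    ψ (∑ l, c l * φ l) = ψ (X * ∑ l, c l * g l) := by
  rw [Finset.mul_sum, map_sum ψ, map_sum ψ]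
  refine Finset.sum_congr rfl fun l _ => ?_
  rw [map_mul, h, ← map_mul, mul_left_comm]

theorem congGen {ι : Type} {σ : Type*} [Fintype ι] {T R : Type u} [CommRing T] [CommRing R] (ψ : T →+* R)
    (S : Finset σ) (a : σ → T) (τ : T) (x δ : ι → T) (y : σ → T) (m : σ → ι → ℕ) (N : ℕ)
    (hdeg : ∀ μ ∈ S, ∑ i, m μ i ≤ N) (h0 : ∀ μ ∈ S, ∀ i, m μ i ≠ 0 → ψ (δ i) = 0) :
    ψ (∑ μ ∈ S, a μ * τ ^ (N - ∑ i, m μ i) * (∏ i, (τ * x i + δ i) ^ m μ i) * y μ) =
      ψ (τ ^ N * ∑ μ ∈ S, a μ * ((∏ i, x i ^ m μ i) * y μ)) := by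
  rw [Finset.mul_sum, map_sum, map_sum]
  refine Finset.sum_congr rfl fun μ hμ => ?_
  have hP : ψ (∏ i, (τ * x i + δ i) ^ m μ i) = ψ (∏ i, (τ * x i) ^ m μ i) := by
    rw [map_prod, map_prod]
    refine Finset.prod_congr rfl fun i _ => ?_
    by_cases hi : m μ i = 0
    · rw [hi, pow_zero, pow_zero]
    · rw [map_pow, map_pow, map_add, h0 μ hμ i hi, add_zero]
  rw [map_mul, map_mul, hP, ← map_mul, ← map_mul]
  congr 1
  rw [Finset.prod_congr rfl fun i _ => mul_pow τ (x i) (m μ i), Finset.prod_mul_distrib,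
    Finset.prod_pow_eq_pow_sum]
  conv_rhs => rw [← Nat.sub_add_cancel (hdeg μ hμ), pow_add]
  ring

theorem cong (f : MvPolynomial (Fin d ⊕ Fin n) k) (hdeg : ∀ m ∈ f.support, ∑ i : Fin d, m (Sum.inl i) ≤ N)
    {R : Type u} [CommRing R] (ψ : Polynomial (MvPolynomial (Fin d ⊕ Fin n) k) →+* R)
    (h0 : ∀ m ∈ f.support, ∀ i : Fin d, m (Sum.inl i) ≠ 0 →
      ψ (Polynomial.C (MvPolynomial.rename Sum.inl u ^ s * MvPolynomial.C (v i))) = 0) :
    ψ (phi d n u v N s f) = ψ (Polynomial.X ^ N * Polynomial.C f) := by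
  refine (congGen ψ f.support _ _ _ _ _ (fun m i => m (Sum.inl i)) N hdeg h0).trans ?_
  refine congrArg ψ (congrArg _ ?_)
  conv_rhs => rw [f.as_sum, map_sum Polynomial.C]
  refine Finset.sum_congr rfl fun m _ => ?_
  conv_rhs => rw [MvPolynomial.monomial_eq, Finsupp.prod_fintype _ _ (fun _ => pow_zero _), Fintype.prod_sum_type]
  rw [map_mul Polynomial.C, map_mul Polynomial.C, map_prod Polynomial.C, map_prod Polynomial.C]
  simp only [Polynomial.C_pow]
end


/-- The chart computation of its proof: let k be a commutative ring, P = k[x_1, …, x_d, w_1, …, w_n] a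
polynomial ring in two groups of variables, u a polynomial in the x-variables alone, v a vector in
k^d, J a set of indices among the w-variables with ζ = ∏_{j ∈ J} w_j, and N ≤ s natural numbers. Let
(f_λ) be a finite family of elements of P, each of total degree at most N in the x-variables, and
assume that ζ^N + c_1 ζ^(N-1) u + ⋯ + c_N u^N lies in the ideal generated by the f_λ for some c_1,
…, c_N ∈ P. For each λ let φ_λ ∈ P[τ] be the polynomial τ^N · f_λ(x + u^s v/τ, w), written out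
monomial by monomial: a monomial a·x^m·w^m' of x-degree e = |m| contributes a · τ^(N-e) · ∏_i (τ x_i
+ u^s v_i)^(m_i) · w^m'. Then there are c'_1, …, c'_N ∈ P[τ] with (τζ)^N + c'_1 (τζ)^(N-1) u + ⋯ +
c'_N u^N in the ideal of P[τ] generated by the φ_λ. (This identity is what shows that translating a
cycle by t·u^s·v preserves the modulus condition on the chart whose coordinates are the z_i and the
1/z_j, with τ = 1/t; integrality of ζ/u, resp. τζ/u, is expressed by such monic binary forms.) -/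
theorem result
    {k : Type u} [CommRing k] (d n : ℕ) (u : MvPolynomial (Fin d) k) (v : Fin d → k)
    (J : Finset (Fin n)) (N s : ℕ) (hs : N ≤ s)
    {Λ : Type u} [Fintype Λ] (f : Λ → MvPolynomial (Fin d ⊕ Fin n) k)
    (hdeg : ∀ l, ∀ m ∈ (f l).support, ∑ i : Fin d, m (Sum.inl i) ≤ N)
    (c : ℕ → MvPolynomial (Fin d ⊕ Fin n) k)
    (hE : (∏ j ∈ J, MvPolynomial.X (Sum.inr j)) ^ N +
        ∑ i ∈ Finset.Icc 1 N, c i * (∏ j ∈ J, MvPolynomial.X (Sum.inr j)) ^ (N - i) *
          MvPolynomial.rename Sum.inl u ^ i ∈ Ideal.span (Set.range f)) :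
    ∃ c' : ℕ → Polynomial (MvPolynomial (Fin d ⊕ Fin n) k),
      (Polynomial.X * Polynomial.C (∏ j ∈ J, MvPolynomial.X (Sum.inr j))) ^ N +
        ∑ i ∈ Finset.Icc 1 N, c' i *
          (Polynomial.X * Polynomial.C (∏ j ∈ J, MvPolynomial.X (Sum.inr j))) ^ (N - i) *
            Polynomial.C (MvPolynomial.rename Sum.inl u) ^ i ∈
      Ideal.span (Set.range fun l : Λ =>
        ∑ m ∈ (f l).support,
          Polynomial.C (MvPolynomial.C (MvPolynomial.coeff m (f l))) *
            Polynomial.X ^ (N - ∑ i : Fin d, m (Sum.inl i)) *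
            (∏ i : Fin d, (Polynomial.X * Polynomial.C (MvPolynomial.X (Sum.inl i)) +
                Polynomial.C (MvPolynomial.rename Sum.inl u ^ s * MvPolynomial.C (v i))) ^ m (Sum.inl i)) *
            ∏ j : Fin n, Polynomial.C (MvPolynomial.X (Sum.inr j)) ^ m (Sum.inr j)) := by
  obtain ⟨a, ha⟩ := Ideal.mem_span_range_iff_exists_fun.1 hE
  have hI : ∑ l, Polynomial.C (a l) * phi d n u v N s (f l) ∈ Ideal.span (Set.range fun l => phi d n u v N s (f l)) :=
    Ideal.sum_mem _ fun l _ => Ideal.mul_mem_left _ _ (Ideal.subset_span ⟨l, rfl⟩)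
  set ζ : MvPolynomial (Fin d ⊕ Fin n) k := ∏ j ∈ J, MvPolynomial.X (Sum.inr j)
  set u' : MvPolynomial (Fin d ⊕ Fin n) k := MvPolynomial.rename Sum.inl u
  have hCsum : (∑ l, Polynomial.C (a l) * Polynomial.C (f l)) = Polynomial.C (∑ l, a l * f l) := by
    rw [map_sum Polynomial.C]; simp only [Polynomial.C_mul]
  rcases Nat.eq_zero_or_pos N with hN | hN
  · have h := sumCong (RingHom.id _) (fun l => Polynomial.C (a l)) (fun l => phi d n u v N s (f l)) (fun l => Polynomial.C (f l)) _ fun l => cong d n u v N s (f l) (hdeg l) _ fun m hm i hi => absurd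
      (Nat.le_zero.1 (hN ▸ (Finset.single_le_sum (f := fun i : Fin d => m (Sum.inl i)) (fun _ _ => Nat.zero_le _) (Finset.mem_univ i)).trans (hdeg l m hm))) hi
    simp only [RingHom.id_apply, hCsum] at h
    rw [h, ha] at hI
    refine ⟨0, ?_⟩
    subst hN
    simp only [Finset.Icc_eq_empty (show ¬ (1:ℕ) ≤ 0 by omega), Finset.sum_empty, pow_zero, add_zero, map_one, mul_one] at hI ⊢
    exact hI
  · have h := sumCong (R := Polynomial (MvPolynomial (Fin d ⊕ Fin n) k) ⧸ Ideal.span {(Polynomial.C u') ^ N}) (Ideal.Quotient.mk (Ideal.span {(Polynomial.C u') ^ N})) (fun l => Polynomial.C (a l)) (fun l => phi d n u v N s (f l)) (fun l => Polynomial.C (f l)) (Polynomial.X ^ N) fun l =>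
      cong d n u v N s (f l) (hdeg l) _ fun m _ i _ => by
        rw [Ideal.Quotient.eq_zero_iff_mem, Ideal.mem_span_singleton, map_mul, map_pow]
        exact (pow_dvd_pow _ hs).trans (dvd_mul_right _ _)
    rw [Ideal.Quotient.eq, Ideal.mem_span_singleton, hCsum, ha] at h
    obtain ⟨q, hq⟩ := h
    rw [sub_eq_iff_eq_add] at hq
    rw [hq] at hI
    refine ⟨fun i => Polynomial.X ^ i * Polynomial.C (c i) + if i = N then q else 0, ?_⟩
    have hlast : ∑ i ∈ Finset.Icc 1 N, (if i = N then q else 0) *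
        (Polynomial.X * Polynomial.C ζ) ^ (N - i) * Polynomial.C u' ^ i = Polynomial.C u' ^ N * q := by
      rw [Finset.sum_eq_single N]
      · rw [if_pos rfl, Nat.sub_self, pow_zero, mul_one]; ring
      · intro i _ hi; rw [if_neg hi, zero_mul, zero_mul]
      · intro h; exact absurd (Finset.mem_Icc.2 ⟨hN, le_rfl⟩) h
    have hmain : ∑ i ∈ Finset.Icc 1 N, (Polynomial.X ^ i * Polynomial.C (c i)) *
        (Polynomial.X * Polynomial.C ζ) ^ (N - i) * Polynomial.C u' ^ i =
        Polynomial.X ^ N * Polynomial.C (∑ i ∈ Finset.Icc 1 N, c i * ζ ^ (N - i) * u' ^ i) := by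
      rw [map_sum, Finset.mul_sum]
      refine Finset.sum_congr rfl fun i hi => ?_
      rw [map_mul, map_mul, map_pow, map_pow, mul_pow]
      conv_rhs => rw [← Nat.add_sub_cancel' (Finset.mem_Icc.1 hi).2, pow_add, Nat.add_sub_cancel_left]
      ring
    simp only [add_mul (Polynomial.X ^ _ * Polynomial.C (c _)), Finset.sum_add_distrib, add_mul]
    rw [hlast, hmain, mul_pow, ← map_pow Polynomial.C ζ]
    convert hI using 1
    rw [map_add]
    ring

end Groth.Agent.S16367
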