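import Groth.Statements.S16368
import Mathlib.RingTheory.Nakayama
import Mathlib.Algebra.Module.SpanRank
import Mathlib.Algebra.Module.FinitePresentation
import Mathlib.RingTheory.LocalRing.Module
-- import your own Groth.Agent.* helpers here

set_option autoImplicit false
universe u v
open TensorProduct
open FrobAlg

namespace Groth.Agent.S16368

/-- Let R be a local ring of prime characteristic p and M a finitely presented R-module. Write R' for R
regarded as an R-algebra through its Frobenius a ↦ a^p, so that R' ⊗_R M is the pull-back of M along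
the absolute Frobenius of Spec R, an R'-module. If this pull-back is isomorphic to M — there is a
bijective map e : R' ⊗_R M → M, additive and semilinear for the identification R' = R — then M is
free. -/
theorem result
    (p : ℕ) [Fact p.Prime] (R : Type u) [CommRing R] [IsLocalRing R] [CharP R p]
    (M : Type v) [AddCommGroup M] [Module R M] [Module.FinitePresentation R M]
    (e : (FrobAlg.Twist p R ⊗[R] M) →ₛₗ[((FrobAlg.toTwist p R).symm : FrobAlg.Twist p R →+* R)] M)
    (he : Function.Bijective e) :
    Module.Free R M := by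
  classical
  obtain ⟨s, hs1, hs2⟩ := (Module.Finite.fg_top (R := R) (M := M)).exists_span_finset_card_eq_spanFinrank
  let x : Fin s.card → M := fun i => (s.equivFin.symm i : M)
  have hrange : Set.range x = ↑s := by
    ext z; constructor
    · rintro ⟨i, rfl⟩; exact (s.equivFin.symm i).2
    · intro hz; exact ⟨s.equivFin ⟨z, hz⟩, by simp [x]⟩
  let π := Fintype.linearCombination R x
  have hπ : Function.Surjective π := by
    rw [← LinearMap.range_eq_top, Fintype.range_linearCombination, hrange, hs2]
  have hmin : ∀ c, π c = 0 → ∀ i, c i ∈ IsLocalRing.maximalIdeal R := by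
    intro c hc i
    by_contra hu
    obtain ⟨u, hu⟩ := IsLocalRing.notMem_maximalIdeal.1 hu
    have hle : (⊤ : Submodule R M) = Submodule.span R (x '' ↑(Finset.univ.erase i)) := by
      refine le_antisymm ?_ le_top
      rw [← hs2, ← hrange, Submodule.span_le]
      rintro _ ⟨l, rfl⟩
      by_cases hl : l = i
      · subst hl
        rw [Fintype.linearCombination_apply, ← Finset.add_sum_erase _ _ (Finset.mem_univ l),
          add_eq_zero_iff_eq_neg, ← hu] at hc
        rw [SetLike.mem_coe, show x l = (↑u⁻¹ : R) • ((u : R) • x l) by rw [smul_smul]; simp, hc]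
        exact Submodule.smul_mem _ _ (neg_mem (Submodule.sum_mem _ fun m hm =>
          Submodule.smul_mem _ _ (Submodule.subset_span ⟨m, hm, rfl⟩)))
      · exact Submodule.subset_span ⟨l, by simp [hl], rfl⟩
    have hcard := Submodule.spanFinrank_span_le_ncard_of_finite (R := R)
      ((Finset.univ.erase i).finite_toSet.image x)
    rw [← hle, ← hs1, ← Finset.coe_image, Set.ncard_coe_finset] at hcard
    have := hcard.trans Finset.card_image_le
    simp at this
    have := i.pos
    omega
  obtain ⟨t, ht⟩ := Module.FinitePresentation.fg_ker π hπ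
  let I : Ideal R := Ideal.span ((fun ci : (Fin s.card → R) × Fin s.card => ci.1 ci.2) '' ((t : Set _) ×ˢ Set.univ))
  have hIfg : I.FG := Submodule.fg_span (((Finset.finite_toSet t).prod Set.finite_univ).image _)
  have hI : ∀ c, π c = 0 → ∀ i, c i ∈ I := by
    intro c hc
    have hc' : c ∈ Submodule.span R (t : Set (Fin s.card → R)) := by rw [ht]; exact hc
    induction hc' using Submodule.span_induction with
    | mem y hy => exact fun i => Ideal.subset_span ⟨(y, i), ⟨hy, Set.mem_univ _⟩, rfl⟩
    | zero => exact fun i => I.zero_mem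
    | add a b _ _ ha hb =>
      exact fun i => I.add_mem (ha (by rw [← LinearMap.mem_ker, ← ht]; assumption) i)
        (hb (by rw [← LinearMap.mem_ker, ← ht]; assumption) i)
    | smul r a _ ha => exact fun i => I.mul_mem_left r (ha (by rw [← LinearMap.mem_ker, ← ht]; assumption) i)
  let J : Ideal R := IsLocalRing.maximalIdeal R * I
  let J' : Ideal (FrobAlg.Twist p R) := J.map (FrobAlg.toTwist p R : R →+* FrobAlg.Twist p R)
  have hJ' : ∀ r, FrobAlg.toTwist p R r ∈ J' → r ∈ J := fun r hr => by
    have h1 : FrobAlg.toTwist p R r ∈ J'.comap (RingHom.id _) := hr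
    obtain ⟨r', hr', e'⟩ := (Ideal.mem_map_iff_of_surjective _ (FrobAlg.toTwist p R).surjective).1 hr
    exact (FrobAlg.toTwist p R).injective e' ▸ hr'
  let G : (Fin s.card → R) →ₗ[R] (Fin s.card → FrobAlg.Twist p R ⧸ J') :=
    (Algebra.linearMap R (FrobAlg.Twist p R ⧸ J')).compLeft _
  have hG : LinearMap.ker π ≤ LinearMap.ker G := fun c hc => by
    rw [LinearMap.mem_ker]
    funext i
    show algebraMap R (FrobAlg.Twist p R ⧸ J') (c i) = 0
    rw [IsScalarTower.algebraMap_apply R (FrobAlg.Twist p R) (FrobAlg.Twist p R ⧸ J'), FrobAlg.algebraMap_twist,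
      Ideal.Quotient.algebraMap_eq, Ideal.Quotient.eq_zero_iff_mem]
    refine Ideal.mem_map_of_mem _ ?_
    rw [show p = (p - 1) + 1 by have := (Fact.out : p.Prime).two_le; omega, pow_succ]
    exact Ideal.mul_mem_mul (Ideal.pow_mem_of_mem _ (hmin c hc i) _ (by have := (Fact.out : p.Prime).two_le; omega))
      (hI c hc i)
  let g := (LinearMap.ker π).liftQ G hG ∘ₗ (π.quotKerEquivOfSurjective hπ).symm.toLinearMap
  have hg : ∀ c, g (π c) = G c := fun c => by
    show (LinearMap.ker π).liftQ G hG ((π.quotKerEquivOfSurjective hπ).symm (π c)) = G c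
    rw [show (π.quotKerEquivOfSurjective hπ).symm (π c) = Submodule.Quotient.mk c from
      (π.quotKerEquivOfSurjective hπ).injective (by simp)]
    rfl
  let ψ := g.liftBaseChange (FrobAlg.Twist p R)
  let v : (Fin s.card → FrobAlg.Twist p R) → FrobAlg.Twist p R ⊗[R] M := fun b => ∑ i, b i ⊗ₜ[R] x i
  have hv : ∀ b, v b = 0 → ∀ i, b i ∈ J' := by
    intro b hb i
    have h1 : ψ (v b) = 0 := by rw [hb, map_zero]
    simp only [v, map_sum, ψ, LinearMap.liftBaseChange_tmul] at h1
    have h2 := congrFun h1 i
    rw [Finset.sum_apply, Finset.sum_eq_single i] at h2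
    · rw [show x i = π (fun j => if j = i then 1 else 0) by simp [π, Fintype.linearCombination_apply], hg] at h2
      rw [← Ideal.Quotient.eq_zero_iff_mem]
      refine Eq.trans ?_ h2
      show _ = b i • algebraMap R (FrobAlg.Twist p R ⧸ J') (if i = i then 1 else 0)
      rw [if_pos rfl, map_one, ← Algebra.algebraMap_eq_smul_one, Ideal.Quotient.algebraMap_eq]
    · intro j _ hj
      rw [show x j = π (fun l => if l = j then 1 else 0) by simp [π, Fintype.linearCombination_apply], hg]
      show b j • algebraMap R (FrobAlg.Twist p R ⧸ J') (if i = j then 1 else 0) = 0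
      rw [if_neg (Ne.symm hj), map_zero, smul_zero]
    · intro h; exact absurd (Finset.mem_univ i) h
  let x' : Fin s.card → M := fun i => e (1 ⊗ₜ[R] x i)
  let φ := Fintype.linearCombination R x'
  have hφv : ∀ b : Fin s.card → R, φ b = e (v (fun i => FrobAlg.toTwist p R (b i))) := fun b => by
    rw [Fintype.linearCombination_apply, map_sum]
    refine Finset.sum_congr rfl fun i _ => ?_
    rw [show FrobAlg.toTwist p R (b i) ⊗ₜ[R] x i = FrobAlg.toTwist p R (b i) • ((1 : FrobAlg.Twist p R) ⊗ₜ[R] x i) by
      rw [TensorProduct.smul_tmul', smul_eq_mul, mul_one], map_smulₛₗ]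
    rfl
  have hvs : ∀ z : FrobAlg.Twist p R ⊗[R] M, ∃ b, v b = z := by
    intro z
    induction z using TensorProduct.induction_on with
    | zero => exact ⟨0, by simp [v]⟩
    | add a b ha hb =>
      obtain ⟨c, rfl⟩ := ha; obtain ⟨d, rfl⟩ := hb
      exact ⟨c + d, by simp [v, TensorProduct.add_tmul, Finset.sum_add_distrib]⟩
    | tmul a m =>
      obtain ⟨c, rfl⟩ := hπ m
      refine ⟨fun i => c i • a, ?_⟩
      rw [Fintype.linearCombination_apply, TensorProduct.tmul_sum]
      exact Finset.sum_congr rfl fun i _ => TensorProduct.smul_tmul _ _ _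
  have hφ : Function.Surjective φ := fun m => by
    obtain ⟨z, rfl⟩ := he.2 m
    obtain ⟨b, rfl⟩ := hvs z
    exact ⟨fun i => (FrobAlg.toTwist p R).symm (b i), by rw [hφv]; simp⟩
  choose w hw using fun i => hπ (x' i)
  let Φ := Fintype.linearCombination R w
  have hΦ : ∀ b, π (Φ b) = φ b := fun b => by
    rw [Fintype.linearCombination_apply R w, map_sum, Fintype.linearCombination_apply R x']
    exact Finset.sum_congr rfl fun i _ => by rw [map_smul, hw]
  have hΦs : LinearMap.range Φ = ⊤ := by
    refine top_le_iff.1 (Submodule.le_of_le_smul_of_le_jacobson_bot (I := IsLocalRing.maximalIdeal R)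
      Module.Finite.fg_top (IsLocalRing.maximalIdeal_le_jacobson _) ?_)
    intro c _
    obtain ⟨b, hb⟩ := hφ (π c)
    rw [← hΦ] at hb
    have hk : π (c - Φ b) = 0 := by rw [map_sub, hb, sub_self]
    refine Submodule.mem_sup.2 ⟨Φ b, ⟨b, rfl⟩, c - Φ b, ?_, add_sub_cancel _ _⟩
    rw [pi_eq_sum_univ (c - Φ b)]
    exact Submodule.sum_mem _ fun i _ => Submodule.smul_mem_smul (hmin _ hk i) trivial
  have hII : I ≤ IsLocalRing.maximalIdeal R • I := by
    rw [smul_eq_mul]
    refine Ideal.span_le.2 ?_
    rintro _ ⟨⟨c, i⟩, ⟨hct, -⟩, rfl⟩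
    have hc : π c = 0 := by rw [← LinearMap.mem_ker, ← ht]; exact Submodule.subset_span hct
    obtain ⟨b, rfl⟩ := LinearMap.range_eq_top.1 hΦs c
    rw [hΦ, hφv] at hc
    have hb := hv _ (he.1 (by rw [hc, map_zero]))
    show Fintype.linearCombination R w b i ∈ _
    rw [Fintype.linearCombination_apply R w, Finset.sum_apply]
    exact Ideal.sum_mem _ fun j _ => Ideal.mul_mem_right _ _ (hJ' _ (hb j))
  have hbot : I = ⊥ := Submodule.eq_bot_of_le_smul_of_le_jacobson_bot (IsLocalRing.maximalIdeal R) I
    hIfg hII (IsLocalRing.maximalIdeal_le_jacobson _)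
  have hinj : Function.Injective π := by
    rw [← LinearMap.ker_eq_bot, Submodule.eq_bot_iff]
    intro c hc
    funext i
    have := hI c hc i
    rwa [hbot, Ideal.mem_bot] at this
  exact Module.Free.of_equiv (LinearEquiv.ofBijective π ⟨hinj, hπ⟩)

end Groth.Agent.S16368
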