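import Groth.Statements.S1637
import Groth.Agent.NodeLib7.NodeScheme
import Groth.Agent.NodeLib7.Universal
-- import your own Groth.Agent.* helpers here

set_option autoImplicit false
set_option backward.isDefEq.respectTransparency false
universe u
open CategoryTheory CategoryTheory.Limits AlgebraicGeometry
open Curves

namespace Groth.Agent.S1637

/-- Let f : X → S be at-worst-nodal of relative dimension one and x a point of X which is a node of its
fibre. Then there are étale morphisms U → X and V → S, a morphism U → V compatible with f, a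
morphism V → Spec ℤ[a], and an étale morphism U → W over V where W → V is the base change of Spec
ℤ[u, v, a]/(uv - a) → Spec ℤ[a] along V → Spec ℤ[a], such that x is in the image of U. -/
theorem result {X S : Scheme.{u}} (f : X ⟶ S) (hf : Curv2.IsNodalFamily f)
    (x : X) (hx : @Curv2.IsNode (S.residueField (f.base x)) _ (f.fiber (f.base x)) ⟨f.fiberToSpecResidueField (f.base x)⟩ (f.asFiber x)) :
    ∃ (U V W : Scheme.{u}) (gU : U ⟶ X) (gV : V ⟶ S) (p : U ⟶ V) (e : U ⟶ W) (q : W ⟶ V)
      (h : V ⟶ Spec (CommRingCat.of (MvPolynomial (Fin 1) (ULift.{u} ℤ)))) (r : W ⟶ Spec (CommRingCat.of (MvPolynomial (Fin 3) (ULift.{u} ℤ) ⧸ Ideal.span {(MvPolynomial.X 0 * MvPolynomial.X 1 - MvPolynomial.X 2 : MvPolynomial (Fin 3) (ULift.{u} ℤ))}))),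
      Etale gU ∧ Etale gV ∧ Etale e ∧ gU ≫ f = p ≫ gV ∧ e ≫ q = p ∧
      IsPullback r q (Spec.map (CommRingCat.ofHom ((Ideal.Quotient.mk _).comp (MvPolynomial.aeval (fun _ : Fin 1 => (MvPolynomial.X 2 : MvPolynomial (Fin 3) (ULift.{u} ℤ)))).toRingHom))) h ∧
      x ∈ Set.range gU.base := by
  obtain ⟨hflat, hlfp, -⟩ := hf
  letI : (f.fiber (f x)).Over (Spec (CommRingCat.of (S.residueField (f x)))) :=
    ⟨f.fiberToSpecResidueField (f x)⟩
  haveI : LocallyOfFiniteType (f.fiber (f x) ↘ Spec (CommRingCat.of (S.residueField (f x)))) :=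
    (MorphismProperty.pullback_snd _ _ inferInstance : LocallyOfFiniteType (f.fiberToSpecResidueField (f x)))
  have hw := ((NodeLib7.isNode_iff (S.residueField (f x)) (f.fiber (f x)) (f.asFiber x)).1 hx).2
  obtain ⟨C, _, a, U, gU, gV, g, hgU, hgV, hg, hcomm, hmem⟩ :=
    NodeLib7.exists_model_at f (f x) (f.asFiber x) hw
  refine ⟨U, Spec (CommRingCat.of C), _, gU, gV,
    g ≫ Spec.map (CommRingCat.ofHom ((Ideal.Quotient.mk (NodeLib7.nodeIdeal a)).comp MvPolynomial.C)), g,
    Spec.map (CommRingCat.ofHom ((Ideal.Quotient.mk (NodeLib7.nodeIdeal a)).comp MvPolynomial.C)),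
    Spec.map (CommRingCat.ofHom (NodeLib7.param a)), Spec.map (CommRingCat.ofHom (NodeLib7.toNode a)),
    hgU, hgV, hg, by rw [hcomm, Category.assoc], rfl, NodeLib7.isPullback_node a, ?_⟩
  rwa [f.fiberι_asFiber x] at hmem

end Groth.Agent.S1637
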