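import Groth.Statements.S16371
import Mathlib.NumberTheory.Basic
-- import your own Groth.Agent.* helpers here

set_option autoImplicit false
universe u v w
open FrobAlg

namespace Groth.Agent.S16371

/-- Let p be a prime, A a commutative ring and B, C commutative A-algebras with p² = 0 in B. If two
A-algebra maps g₁, g₂ : C → B agree modulo p, then they agree on every element of C which is
congruent modulo p to an element of the A-subalgebra generated by the p-th powers. (The source
states this for liftings over a flat ℤ/p²-thickening of two smooth schemes and the subsheaf of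
functions whose reduction lies in the image of the relative Frobenius; the smoothness and lifting
hypotheses are not needed for the identity.) -/
theorem result
    (p : ℕ) [Fact p.Prime] (A : Type u) [CommRing A] (B : Type v) [CommRing B] [Algebra A B]
    (C : Type w) [CommRing C] [Algebra A C] (hp : (p : B) ^ 2 = 0)
    (g₁ g₂ : C →ₐ[A] B) (hg : ∀ x : C, g₁ x - g₂ x ∈ Ideal.span ({(p : B)} : Set B))
    (x y : C) (hy : y ∈ Algebra.adjoin A (Set.range fun c : C => c ^ p))
    (hxy : x - y ∈ Ideal.span ({(p : C)} : Set C)) :
    g₁ x = g₂ x := by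
  obtain ⟨c, hc⟩ := Ideal.mem_span_singleton.1 hxy
  have hpp : ∀ a b : B, (p : B) ∣ a - b → (p : B) * a = (p : B) * b := fun a b ⟨t, ht⟩ => by
    rw [← sub_eq_zero, ← mul_sub, ht, ← mul_assoc, ← sq, hp, zero_mul]
  have hx : x = y + (p : C) * c := by rw [← hc]; ring
  have hy' : g₁ y = g₂ y := by
    clear hxy hc hx
    induction hy using Algebra.adjoin_induction with
    | mem z hz =>
      obtain ⟨a, rfl⟩ := hz
      rw [map_pow, map_pow, ← sub_eq_zero]
      obtain ⟨w, hw⟩ := dvd_sub_pow_of_dvd_sub (Ideal.mem_span_singleton.1 (hg a)) 1
      rw [pow_one] at hw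
      rw [hw, show 1 + 1 = 2 from rfl, hp, zero_mul]
    | algebraMap r => rw [AlgHom.commutes, AlgHom.commutes]
    | add a b _ _ ha hb => rw [map_add, map_add, ha, hb]
    | mul a b _ _ ha hb => rw [map_mul, map_mul, ha, hb]
  rw [hx, map_add, map_add, hy', map_mul, map_mul, map_natCast, map_natCast,
    hpp _ _ (Ideal.mem_span_singleton.1 (hg c))]

end Groth.Agent.S16371
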