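import Groth.Statements.S16381
import Groth.Agent.DCat.PullDual17
import Groth.Agent.S3637
import Groth.Agent.GrpdLib.SmoothOverField

set_option autoImplicit false
set_option linter.style.haveILetI false
set_option backward.isDefEq.respectTransparency false
set_option synthInstance.maxHeartbeats 100000
universe u
open CategoryTheory CategoryTheory.Limits AlgebraicGeometry
attribute [local instance] HasDerivedCategory.standard
attribute [-instance] Int.instConditionallyCompleteLinearOrder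
open FMK

namespace Groth.Agent.S16381

/-- Let k be an algebraically closed field, X and Y proper schemes over k with structure morphisms a and
b, all of whose local rings are Cohen–Macaulay, X equidimensional of dimension d. Let Ra_* on D_QCoh
have the right adjoint a^× (given as data with its adjunction), O an object of D_QCoh(Spec k)
isomorphic to the structure sheaf in degree 0, and ω_X = H^{−d}(a^×O) the dualizing module of X;
write RΔ(E) = RHom(E, ω_X) and K^∨ = RHom(K, O). Let P be a cochain complex of modules on X ×_k Y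
defining a perfect object and P' a cochain complex representing P^∨. For a kernel K write Φ_K =
Rpr_{Y,*}(Lpr_X^*(−) ⊗^L K) : D(O_X) → D(O_Y); the derived functors and internal RHom involved are
assumed to exist. Then for every cochain complex E of O_X-modules defining a perfect object and
every cochain complex K on Y representing Φ_P(E), the derived dual K^∨ = (Φ_P E)^∨ is isomorphic in
D(O_Y) to Φ_{P'}(RΔ(E)[d]) (existence of an isomorphism only; the published formula is the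
isomorphism of functors (Φ_P)^∨ ≅ Φ_{P^∨} ∘ RΔ_X[dim X]). -/
theorem result (k : Type u) [Field k] [IsAlgClosed k]
    (X Y : Scheme.{u}) (a : X ⟶ Spec (CommRingCat.of k)) (b : Y ⟶ Spec (CommRingCat.of k)) [IsProper a] [IsProper b]
    (hXcm : ∀ x : ↥X, LocCoh.IsCohenMacaulayLocalRing ↑(X.presheaf.stalk x))
    (hYcm : ∀ y : ↥Y, LocCoh.IsCohenMacaulayLocalRing ↑(Y.presheaf.stalk y))
    (d : ℕ) (hd : topologicalKrullDim ↥X = (d : WithBot ℕ∞))
    (hXeq : ∀ Z ∈ irreducibleComponents ↥X, topologicalKrullDim ↥Z = (d : WithBot ℕ∞))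
    [DCoh.HasRpush a] (ha : DCoh.RpushPreservesQCoh a)
    (adx : DCoh.DQCoh (Spec (CommRingCat.of k)) ⥤ DCoh.DQCoh X) (adj : DCoh.RpushQ a ha ⊣ adx)
    (O : DCoh.DQCoh (Spec (CommRingCat.of k)))
    (hO : Nonempty (O.obj ≅ DCoh.inD (Spec (CommRingCat.of k)) (Coh.structureModule (Spec (CommRingCat.of k)))))
    (P : CochainComplex (pullback a b).Modules ℤ) (hP : DCoh.IsPerfect (DCoh.toD (pullback a b) P))
    [DCoh.HasLpull (pullback.fst a b)] [DCoh.HasLTensorCx P] [DCoh.HasRSheafHom P] [DCoh.HasRpush (pullback.snd a b)]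
    (P' : CochainComplex (pullback a b).Modules ℤ) [DCoh.HasLTensorCx P']
    (hP' : Nonempty (DCoh.toD (pullback a b) P' ≅
      (DCoh.RSheafHom P).obj (DCoh.inD (pullback a b) (Coh.structureModule (pullback a b)))))
    (E : CochainComplex X.Modules ℤ) (hE : DCoh.IsPerfect (DCoh.toD X E)) [DCoh.HasLTensorCx E] [DCoh.HasRSheafHom E]
    (K : CochainComplex Y.Modules ℤ) [DCoh.HasLTensorCx K] [DCoh.HasRSheafHom K]
    (hK : Nonempty (DCoh.toD Y K ≅ (FMK.phi a b P).obj (DCoh.toD X E))) :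
    Nonempty ((DCoh.RSheafHom K).obj (DCoh.inD Y (Coh.structureModule Y)) ≅
      (FMK.phi a b P').obj ((shiftFunctor (DCoh.D X) (d : ℤ)).obj
        ((DCoh.RSheafHom E).obj (DCoh.inD X (DCoh.HD (adx.obj O).obj (-(d : ℤ))))))) := by
  open Groth.Agent Groth.Agent.DCat Groth.Agent.ModStalk in
  let S := Spec (CommRingCat.of k)
  let p := pullback.fst a b
  let q := pullback.snd a b
  haveI : IsNoetherian S := { }
  haveI : Flat a := Groth.Agent.GrpdLib.flat_to_field a k (Iso.refl _)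
  haveI : Flat b := Groth.Agent.GrpdLib.flat_to_field b k (Iso.refl _)
  haveI : LocallyOfFinitePresentation a := LocallyOfFinitePresentation.iff_locallyOfFiniteType.2 inferInstance
  haveI : LocallyOfFinitePresentation b := LocallyOfFinitePresentation.iff_locallyOfFiniteType.2 inferInstance
  haveI : IsLocallyNoetherian X := LocallyOfFiniteType.isLocallyNoetherian a
  haveI : IsLocallyNoetherian Y := LocallyOfFiniteType.isLocallyNoetherian b
  haveI : CompactSpace X := QuasiCompact.compactSpace_of_compactSpace a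
  haveI : CompactSpace Y := QuasiCompact.compactSpace_of_compactSpace b
  haveI : IsNoetherian X := { }
  haveI : IsNoetherian Y := { }
  haveI : CompactSpace ↥(pullback a b) := QuasiCompact.compactSpace_of_compactSpace q
  haveI : QuasiSeparatedSpace ↥(pullback a b) := quasiSeparatedSpace_of_quasiSeparated q
  haveI := hasLpull q
  have hq : DCoh.RpushPreservesQCoh q := fun M hM => DQCoh.isQCohD_Rpush q M hM
  haveI : DCoh.HasShriek q hq := Dual22Lib.AdjGeom.isLeftAdjoint_RpushQ q hq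
  let OY : DCoh.DQCoh Y := ⟨DCoh.inD Y (Coh.structureModule Y), RelEquivBC.isQCohD_inD_structure Y⟩
  -- the dualizing complex of `X`
  obtain ⟨eO⟩ := hO
  obtain ⟨hz, -, -⟩ := Groth.Agent.S3637.result k X a hXcm d hXeq ha adx adj O ⟨eO⟩
  let ω := DCoh.HD (adx.obj O).obj (-(d : ℤ))
  haveI : (adx.obj O).obj.IsGE (-(d : ℤ)) :=
    (DerivedCategory.isGE_iff _ _).2 fun i hi => hz i (by omega)
  haveI : (adx.obj O).obj.IsLE (-(d : ℤ)) :=
    (DerivedCategory.isLE_iff _ _).2 fun i hi => hz i (by omega)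
  obtain ⟨M₀, ⟨eM₀⟩⟩ := DerivedCategory.exists_iso_singleFunctor_obj_of_isGE_of_isLE (adx.obj O).obj (-(d : ℤ))
  let iω : ω ≅ M₀ := (DerivedCategory.homologyFunctor _ _).mapIso eM₀ ≪≫
    (DerivedCategory.singleFunctorCompHomologyFunctorIso X.Modules _).app M₀
  let eω : (shiftFunctor (DCoh.D X) (d : ℤ)).obj (DCoh.inD X ω) ≅ (adx.obj O).obj :=
    ((DerivedCategory.singleFunctors X.Modules).shiftIso (d : ℤ) (-(d : ℤ)) 0 (by omega)).app ω ≪≫
      (DerivedCategory.singleFunctor X.Modules (-(d : ℤ))).mapIso iω ≪≫ eM₀.symm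
  obtain ⟨ω₀, hω₀, ⟨eω₀⟩⟩ := PullPerf.exists_kflat_rep (DCoh.inD X ω)
  let ωd := ω₀⟦(d : ℤ)⟧
  have hωd : IsKFlatFor (shT X) ωd := hω₀.shift _
  haveI := LTensorSheaf.hasLTensorCx ω₀
  haveI := LTensorSheaf.hasLTensorCx ωd
  haveI := LTensorSheaf.hasLTensorCx (ω₀⟦(d : ℤ)⟧)
  let eωd : DerivedCategory.Q.obj ωd ≅ (adx.obj O).obj :=
    (DerivedCategory.Q.commShiftIso (d : ℤ)).app ω₀ ≪≫ (shiftFunctor _ (d : ℤ)).mapIso eω₀ ≪≫ eω
  -- representatives
  obtain ⟨E₀, hE₀, ⟨eE₀⟩⟩ := PullPerf.exists_kflat_rep (DCoh.toD X E)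
  have pE₀ : DCoh.IsPerfect (DerivedCategory.Q.obj E₀) := PCTriangle.perfect_iso eE₀.symm hE
  haveI := LTensorSheaf.hasLTensorCx E₀
  haveI := RHomExist.hasRSheafHom E₀
  obtain ⟨DE, hDE, ⟨eDE⟩⟩ := PullPerf.exists_kflat_rep (RHomBidual.dual E₀)
  have pDE : DCoh.IsPerfect (DerivedCategory.Q.obj DE) :=
    PCTriangle.perfect_iso eDE.symm (RHomDual.isPerfect_dual E₀ pE₀)
  obtain ⟨bE⟩ := RHomBidual.nonempty_bidual hE₀ pE₀ hDE eDE
  obtain ⟨P₀, hP₀, ⟨eP₀⟩⟩ := PullPerf.exists_kflat_rep (DCoh.toD _ P)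
  have pP₀ : DCoh.IsPerfect (DerivedCategory.Q.obj P₀) := PCTriangle.perfect_iso eP₀.symm hP
  haveI := LTensorSheaf.hasLTensorCx P₀
  haveI := RHomExist.hasRSheafHom P₀
  obtain ⟨cP⟩ := TensorCongr.nonempty_congr_rhom (E := P₀) (E' := P) eP₀
  obtain ⟨ePd⟩ := hP'
  obtain ⟨P₁, hP₁, ⟨eP₁⟩⟩ := PullPerf.exists_kflat_rep (DCoh.toD _ P')
  haveI := LTensorSheaf.hasLTensorCx P₁
  let eP₁' : DerivedCategory.Q.obj P₁ ≅ RHomBidual.dual P₀ := eP₁ ≪≫ ePd ≪≫ (cP.app _).symm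
  have pP₁ : DCoh.IsPerfect (DerivedCategory.Q.obj P₁) :=
    PCTriangle.perfect_iso eP₁'.symm (RHomDual.isPerfect_dual P₀ pP₀)
  obtain ⟨bP⟩ := RHomBidual.nonempty_bidual hP₀ pP₀ hP₁ eP₁'
  let pDE' := (Dual22Lib.PullTensorNat.pullC p).obj DE
  have hpDE : IsKFlatFor (shT (pullback a b)) pDE' := PullTot.isKFlatFor_pullback p hDE
  have ppDE : DCoh.IsPerfect (DerivedCategory.Q.obj pDE') :=
    PCTriangle.perfect_iso (PullPerf.lpullIso p hDE) (PullPerf.isPerfect_Lpull p _ pDE)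
  haveI := LTensorSheaf.hasLTensorCx pDE'
  haveI := RHomExist.hasRSheafHom pDE'
  let M := tot (shT (pullback a b)) pDE' P₁
  have hM : IsKFlatFor (shT (pullback a b)) M := LTensorSheaf.isKFlatFor_tot hpDE hP₁
  have pM : DCoh.IsPerfect (DerivedCategory.Q.obj M) :=
    PCTriangle.perfect_iso (LTensorSheaf.ltensorCxIso' hP₁ pDE') (PerfTensor.isPerfect_LTensor hP₁ pP₁ _ ppDE)
  obtain ⟨A, hA, ⟨eA⟩⟩ := PullPerf.exists_kflat_rep ((DCoh.LTensorCx P).obj ((DCoh.Lpull p).obj (DCoh.toD X E)))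
  haveI := LTensorSheaf.hasLTensorCx A
  haveI := RHomExist.hasRSheafHom A
  obtain ⟨tP⟩ := TensorCongr.nonempty_congr (E := P₀) (E' := P) eP₀
  have pA : DCoh.IsPerfect (DerivedCategory.Q.obj A) :=
    PCTriangle.perfect_iso eA.symm (PCTriangle.perfect_iso (tP.app _)
      (PerfTensor.isPerfect_LTensor hP₀ pP₀ _ (PullPerf.isPerfect_Lpull p _ hE)))
  -- `dual M = A`
  obtain ⟨cM⟩ := RHomEvalDual.nonempty_RH_tot hpDE hP₁
  obtain ⟨dp⟩ := PullDual17.nonempty_dual_pull p DE hDE pDE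
  obtain ⟨tw⟩ := KernelDual17.nonempty_twist pDE' ppDE P₀
  let dM : RHomBidual.dual M ≅ DerivedCategory.Q.obj A :=
    (cM.app _).symm ≪≫ (RHomNat.RH pDE').mapIso bP.symm ≪≫ tw.symm ≪≫
      (DCoh.LTensorCx P₀).mapIso (dp.symm ≪≫ (DCoh.Lpull p).mapIso (bE.symm ≪≫ eE₀)) ≪≫ tP.app _ ≪≫ eA.symm
  obtain ⟨bM⟩ := RHomBidual.nonempty_bidual hM pM hA dM.symm
  -- the right-hand side
  obtain ⟨W, hW, ⟨eW⟩⟩ := PullPerf.exists_kflat_rep ((DCoh.shriek q hq).obj OY).obj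
  haveI := LTensorSheaf.hasLTensorCx W
  let pωd := (Dual22Lib.PullTensorNat.pullC p).obj ωd
  haveI : DCoh.HasLTensorCx pωd := LTensorSheaf.hasLTensorCx _
  haveI : DCoh.HasLTensorCx ((Dual22Lib.PullTensorNat.pullC p).obj ωd) := LTensorSheaf.hasLTensorCx _
  obtain ⟨bc⟩ := KernelAdj17.nonempty_dualizing_baseChange a b q p (IsPullback.of_hasPullback a b) ha hq
    adx _ adj (DCoh.shriekAdj q hq) O eO OY (Iso.refl _)
  obtain ⟨tω⟩ := TensorCongr.nonempty_congr (E := pωd) (E' := W)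
    ((PullPerf.lpullIso p hωd).symm ≪≫ (DCoh.Lpull p).mapIso eωd ≪≫ bc ≪≫ eW.symm)
  obtain ⟨nω⟩ := Dual22Lib.PullTensorNat.nonempty_natIso p hωd
  obtain ⟨sω⟩ := RHomLeft.nonempty_LTensor_shift ω₀ hω₀ (d : ℤ)
  obtain ⟨cE⟩ := TensorCongr.nonempty_congr_rhom (E := E) (E' := E₀) eE₀.symm
  obtain ⟨twE⟩ := KernelDual17.nonempty_twist E₀ pE₀ ω₀
  let x₁ : (shiftFunctor (DCoh.D X) (d : ℤ)).obj ((DCoh.RSheafHom E).obj (DCoh.inD X ω)) ≅
      (DCoh.LTensorCx (ω₀⟦(d : ℤ)⟧)).obj (DerivedCategory.Q.obj DE) :=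
    (shiftFunctor _ _).mapIso (cE.app _ ≪≫ (DCoh.RSheafHom E₀).mapIso eω₀.symm ≪≫ twE.symm ≪≫
      (DCoh.LTensorCx ω₀).mapIso eDE.symm) ≪≫ (sω.app _).symm
  obtain ⟨cP'⟩ := TensorCongr.nonempty_congr (E := P') (E' := P₁) eP₁.symm
  haveI := LTensorSheaf.hasLTensorCx (tot (shT (pullback a b)) W P₁)
  haveI := LTensorSheaf.hasLTensorCx (tot (shT (pullback a b)) P₁ W)
  obtain ⟨a₁⟩ := TensorAssoc.nonempty_LTensor_comp W P₁ hP₁
  obtain ⟨a₂⟩ := TensorAssoc.nonempty_LTensor_comp P₁ W hW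
  obtain ⟨sc⟩ := TensorCongr.nonempty_congr (E := tot (shT (pullback a b)) W P₁) (E' := tot (shT (pullback a b)) P₁ W)
    (DerivedCategory.Q.mapIso (Dual22Lib.ShSymm.symm W P₁))
  obtain ⟨twA⟩ := KernelDual17.nonempty_twist A pA W
  let x₂ : (DCoh.LTensorCx P').obj ((DCoh.Lpull p).obj
      ((shiftFunctor (DCoh.D X) (d : ℤ)).obj ((DCoh.RSheafHom E).obj (DCoh.inD X ω)))) ≅
      (DCoh.RSheafHom A).obj ((DCoh.shriek q hq).obj OY).obj :=
    cP'.app _ ≪≫ (DCoh.LTensorCx P₁).mapIso ((DCoh.Lpull p).mapIso x₁ ≪≫ nω.app _ ≪≫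
      (DCoh.LTensorCx pωd).mapIso (PullPerf.lpullIso p hDE) ≪≫ tω.app _) ≪≫
      a₁.app _ ≪≫ sc.app _ ≪≫ (a₂.app _).symm ≪≫
      (DCoh.LTensorCx W).mapIso (LTensorSheaf.ltensorCxIso' hP₁ pDE' ≪≫ bM) ≪≫ twA ≪≫
      (DCoh.RSheafHom A).mapIso eW
  -- duality
  obtain ⟨eK⟩ := hK
  let eN : DerivedCategory.Q.obj K ≅ (DCoh.Rpush q).obj (DerivedCategory.Q.obj A) :=
    eK ≪≫ (DCoh.Rpush q).mapIso eA.symm
  have pK : DCoh.IsPerfect (DerivedCategory.Q.obj K) :=
    PCTriangle.perfect_iso eN.symm (Dual22Lib.PPFlat.pp_flat q _ pA)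
  obtain ⟨du⟩ := PullDual17.nonempty_push_RH q hq A pA K pK eN OY
  exact ⟨du.symm ≪≫ ((DCoh.Rpush q).mapIso x₂).symm⟩

end Groth.Agent.S16381
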