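import Groth.Statements.S16379
import Groth.Agent.S16381
import Groth.Agent.FMK16.DualGV

set_option autoImplicit false
set_option backward.isDefEq.respectTransparency false
set_option backward.defeqAttrib.useBackward true
set_option linter.style.haveILetI false
set_option synthInstance.maxHeartbeats 100000
set_option backward.isDefEq.respectTransparency.types false
universe u
open CategoryTheory CategoryTheory.Limits AlgebraicGeometry
attribute [local instance] HasDerivedCategory.standard
open FMK Groth.Agent.DCat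

namespace Groth.Agent.S16379

/-- Let k be an algebraically closed field, X and Y proper schemes over k with structure morphisms a and
b, all of whose local rings are Cohen–Macaulay, X equidimensional of dimension d (every irreducible
component has dimension d). Let Ra_* on D_QCoh have the right adjoint a^× (given as data with its
adjunction), O an object of D_QCoh(Spec k) isomorphic to the structure sheaf in degree 0, and ω_X =
H^{−d}(a^×O) the dualizing module of X; write RΔ(F) = RHom(F, ω_X). Let P be a cochain complex of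
modules on X ×_k Y defining a perfect object, and P' a cochain complex representing its derived dual
RHom(P, O_{X×Y}). For a kernel K write Φ_K = Rpr_{Y,*}(Lpr_X^*(−) ⊗^L K) : D(O_X) → D(O_Y) and
R^iΦ_K = H^i ∘ Φ_K; the derived functors and internal RHom involved are assumed to exist. Let k' ≥ 0
and let F be a cochain complex of O_X-modules defining a perfect object which satisfies WIT_[d−k',d]
with respect to P: R^iΦ_P(F) = 0 for every i outside [d − k', d]. Then RΔ(F) is a GV_{k'}-object
with respect to P': R^iΦ_{P'}(RΔ F) = 0 for i < 0, and for i ≥ 0 the support of R^iΦ_{P'}(RΔ F) has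
codimension at least i − k' (the local ring of Y at each of its points has Krull dimension ≥ i −
k'). -/
theorem result (k : Type u) [Field k] [IsAlgClosed k]
    (X Y : Scheme.{u}) (a : X ⟶ Spec (CommRingCat.of k)) (b : Y ⟶ Spec (CommRingCat.of k)) [IsProper a] [IsProper b]
    (hXcm : ∀ x : ↥X, LocCoh.IsCohenMacaulayLocalRing ↑(X.presheaf.stalk x))
    (hYcm : ∀ y : ↥Y, LocCoh.IsCohenMacaulayLocalRing ↑(Y.presheaf.stalk y))
    (d : ℕ) (hd : topologicalKrullDim ↥X = (d : WithBot ℕ∞))
    (hXeq : ∀ Z ∈ irreducibleComponents ↥X, topologicalKrullDim ↥Z = (d : WithBot ℕ∞))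
    [DCoh.HasRpush a] (ha : DCoh.RpushPreservesQCoh a)
    (adx : DCoh.DQCoh (Spec (CommRingCat.of k)) ⥤ DCoh.DQCoh X) (adj : DCoh.RpushQ a ha ⊣ adx)
    (O : DCoh.DQCoh (Spec (CommRingCat.of k)))
    (hO : Nonempty (O.obj ≅ DCoh.inD (Spec (CommRingCat.of k)) (Coh.structureModule (Spec (CommRingCat.of k)))))
    (P : CochainComplex (pullback a b).Modules ℤ) (hP : DCoh.IsPerfect (DCoh.toD (pullback a b) P))
    [DCoh.HasLpull (pullback.fst a b)] [DCoh.HasLTensorCx P] [DCoh.HasRSheafHom P] [DCoh.HasRpush (pullback.snd a b)]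
    (P' : CochainComplex (pullback a b).Modules ℤ) [DCoh.HasLTensorCx P']
    (hP' : Nonempty (DCoh.toD (pullback a b) P' ≅
      (DCoh.RSheafHom P).obj (DCoh.inD (pullback a b) (Coh.structureModule (pullback a b)))))
    (k' : ℕ) (F : CochainComplex X.Modules ℤ) (hF : DCoh.IsPerfect (DCoh.toD X F)) [DCoh.HasLTensorCx F] [DCoh.HasRSheafHom F]
    (hWIT : ∀ i : ℤ, i < (d : ℤ) - k' ∨ (d : ℤ) < i → IsZero (DCoh.HD ((FMK.phi a b P).obj (DCoh.toD X F)) i)) :
    (∀ i : ℤ, i < 0 → IsZero (DCoh.HD ((FMK.phi a b P').obj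
      ((DCoh.RSheafHom F).obj (DCoh.inD X (DCoh.HD (adx.obj O).obj (-(d : ℤ)))))) i)) ∧
    (∀ (i : ℕ) (y : ↥Y), y ∈ CohB1.support (DCoh.HD ((FMK.phi a b P').obj
      ((DCoh.RSheafHom F).obj (DCoh.inD X (DCoh.HD (adx.obj O).obj (-(d : ℤ)))))) (i : ℤ)) →
      ((i - k' : ℕ) : WithBot ℕ∞) ≤ ringKrullDim ↑(Y.presheaf.stalk y)) := by
  haveI : Flat a := inferInstance
  haveI : IsLocallyNoetherian Y := LocallyOfFiniteType.isLocallyNoetherian b
  haveI : ∀ y : ↥Y, DCoh.HasLpull (Y.fromSpecResidueField y) := fun y => DCat.hasLpull _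
  let E := (FMK.phi a b P).obj (DCoh.toD X F)
  have hE : DCoh.IsPerfect E := (FMK16.isPerfect_phi k a b P hP _ hF).2
  obtain ⟨K, hKf, ⟨eK⟩⟩ := PullPerf.exists_kflat_rep E
  haveI := LTensorSheaf.hasLTensorCx K
  haveI := RHomExist.hasRSheafHom K
  have hKp : DCoh.IsPerfect (DerivedCategory.Q.obj K) := PCTriangle.perfect_iso eK.symm hE
  let M := (DCoh.RSheafHom F).obj (DCoh.inD X (DCoh.HD (adx.obj O).obj (-(d : ℤ))))
  obtain ⟨c₀⟩ := S16381.result k X Y a b hXcm hYcm d hd hXeq ha adx adj O hO P hP P' hP' F hF K ⟨eK⟩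
  obtain ⟨c₁⟩ := FMK16.nonempty_phi_shift k a b P' M (d : ℤ)
  let D := (DCoh.RSheafHom K).obj (DCoh.inD Y (Coh.structureModule Y))
  let c : ∀ j : ℤ, DCoh.HD ((FMK.phi a b P').obj M) j ≅ DCoh.HD D (j - d) := fun j =>
    (((DerivedCategory.homologyFunctor Y.Modules 0).shiftIso (d : ℤ) (j - d) j (by omega)).app _).symm ≪≫
      (DerivedCategory.homologyFunctor Y.Modules (j - d)).mapIso (c₁.symm ≪≫ c₀.symm)
  refine ⟨fun i hi => ?_, fun i y hy => ?_⟩
  · haveI : (DerivedCategory.Q.obj K).IsLE (d : ℤ) := (DerivedCategory.isLE_iff _ _).2 fun n hn =>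
      (hWIT n (Or.inr hn)).of_iso ((DerivedCategory.homologyFunctor Y.Modules n).mapIso eK)
    haveI := DQCoh.isGE_RHom K (d : ℤ) (DCoh.inD Y (Coh.structureModule Y)) 0
    exact (DerivedCategory.isZero_of_isGE D (0 - (d : ℤ)) (i - d) (by omega)).of_iso (c i)
  · obtain ⟨δ, hδ⟩ := FMK16.exists_dim (R := ↑(Y.presheaf.stalk y))
    rw [hδ]
    by_contra hlt
    have hlt' : δ < i - k' := by
      by_contra h
      exact hlt (by exact_mod_cast Nat.le_of_not_lt h)
    refine hy (FMK16.subsingleton_stalk_of_iso (c i).symm y ?_)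
    exact FMK16.subsingleton_stalk_dual_of_below K hKp y (hYcm y) δ hδ ((d : ℤ) - k') (fun q hq =>
      FMK16.subsingleton_stalk_of_isZero
        ((hWIT q (Or.inl hq)).of_iso ((DerivedCategory.homologyFunctor Y.Modules q).mapIso eK)) y)
      _ (by omega)

end Groth.Agent.S16379
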