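import Groth.Statements.S1638
import Mathlib.Algebra.Algebra.Subalgebra.Centralizer
import Mathlib.LinearAlgebra.Basis.VectorSpace

set_option autoImplicit false
universe u
open Brauer

namespace Groth.Agent.S1638

/-- Let A and A' be algebras over a field k with subalgebras B ⊆ A and B' ⊆ A' having centralizers C and
C'. Then the centralizer of the image of B ⊗ B' in A ⊗_k A' is the image of C ⊗_k C'. -/
theorem result (k : Type u) [Field k] (A A' : Type u) [Ring A] [Ring A'] [Algebra k A] [Algebra k A']
    (B : Subalgebra k A) (B' : Subalgebra k A') :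
    Subalgebra.centralizer k ((Algebra.TensorProduct.map B.val B'.val).range : Set (TensorProduct k A A')) =
      (Algebra.TensorProduct.map (Subalgebra.centralizer k (B : Set A)).val (Subalgebra.centralizer k (B' : Set A')).val).range := by
  apply le_antisymm
  · intro z hz
    obtain ⟨p, hp⟩ := LinearMap.exists_leftInverse_of_injective
      (Subalgebra.centralizer k (B : Set A)).val.toLinearMap (LinearMap.ker_eq_bot.2 Subtype.val_injective)
    obtain ⟨q, hq⟩ := LinearMap.exists_leftInverse_of_injective
      (Subalgebra.centralizer k (B' : Set A')).val.toLinearMap (LinearMap.ker_eq_bot.2 Subtype.val_injective)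
    have h1 : z ∈ Subalgebra.centralizer k
        (Algebra.TensorProduct.includeLeft (S := k) '' (B : Set A) : Set (TensorProduct k A A')) := by
      rw [Subalgebra.mem_centralizer_iff] at hz ⊢
      rintro _ ⟨b, hb, rfl⟩
      exact hz _ ⟨(⟨b, hb⟩ : B) ⊗ₜ[k] (1 : B'), by simp⟩
    have h2 : z ∈ Subalgebra.centralizer k
        (Algebra.TensorProduct.includeRight '' (B' : Set A') : Set (TensorProduct k A A')) := by
      rw [Subalgebra.mem_centralizer_iff] at hz ⊢
      rintro _ ⟨b, hb, rfl⟩
      exact hz _ ⟨(1 : B) ⊗ₜ[k] (⟨b, hb⟩ : B'), by simp⟩
    rw [Subalgebra.centralizer_coe_image_includeLeft_eq_center_tensorProduct] at h1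
    rw [Subalgebra.centralizer_coe_image_includeRight_eq_center_tensorProduct] at h2
    obtain ⟨u, hu⟩ := h1
    obtain ⟨v, hv⟩ := h2
    let P := (Subalgebra.centralizer k (B : Set A)).val.toLinearMap.comp p
    let Q := (Subalgebra.centralizer k (B' : Set A')).val.toLinearMap.comp q
    have hP : TensorProduct.map P LinearMap.id z = z := by
      rw [← hu]
      change TensorProduct.map P LinearMap.id (Algebra.TensorProduct.map _ _ u) = Algebra.TensorProduct.map _ _ u
      refine LinearMap.congr_fun (f := (TensorProduct.map P LinearMap.id).comp
        (Algebra.TensorProduct.map (Subalgebra.centralizer k (B : Set A)).val (AlgHom.id k A')).toLinearMap)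
        (g := (Algebra.TensorProduct.map (Subalgebra.centralizer k (B : Set A)).val (AlgHom.id k A')).toLinearMap) ?_ u
      refine TensorProduct.ext' fun a a' => ?_
      simpa [P] using congrArg (fun t => t ⊗ₜ[k] a') (congrArg Subtype.val (LinearMap.congr_fun hp a))
    have hQ : TensorProduct.map LinearMap.id Q z = z := by
      rw [← hv]
      change TensorProduct.map LinearMap.id Q (Algebra.TensorProduct.map _ _ v) = Algebra.TensorProduct.map _ _ v
      refine LinearMap.congr_fun (f := (TensorProduct.map LinearMap.id Q).comp
        (Algebra.TensorProduct.map (AlgHom.id k A) (Subalgebra.centralizer k (B' : Set A')).val).toLinearMap)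
        (g := (Algebra.TensorProduct.map (AlgHom.id k A) (Subalgebra.centralizer k (B' : Set A')).val).toLinearMap) ?_ v
      refine TensorProduct.ext' fun a a' => ?_
      simpa [Q] using congrArg (fun t => a ⊗ₜ[k] t) (congrArg Subtype.val (LinearMap.congr_fun hq a'))
    refine ⟨TensorProduct.map p q z, ?_⟩
    refine Eq.trans ?_ ((congrArg (TensorProduct.map P LinearMap.id) hQ).trans hP)
    have hcomp : (Algebra.TensorProduct.map (Subalgebra.centralizer k (B : Set A)).val
        (Subalgebra.centralizer k (B' : Set A')).val).toLinearMap.comp (TensorProduct.map p q) =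
        (TensorProduct.map P LinearMap.id).comp (TensorProduct.map LinearMap.id Q) :=
      TensorProduct.ext' fun a a' => by simp [P, Q]
    exact LinearMap.congr_fun hcomp z
  · rintro _ ⟨t, rfl⟩
    rw [Subalgebra.mem_centralizer_iff]
    rintro _ ⟨s, rfl⟩
    induction t using TensorProduct.induction_on with
    | zero => simp
    | tmul c c' =>
      induction s using TensorProduct.induction_on with
      | zero => simp
      | tmul b b' =>
        simp [Subalgebra.mem_centralizer_iff _ |>.1 c.2 _ b.2,
          Subalgebra.mem_centralizer_iff _ |>.1 c'.2 _ b'.2]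
      | add x y hx hy => simp only [map_add, add_mul, mul_add, hx, hy] at *
    | add x y hx hy => simp only [map_add, add_mul, mul_add, hx, hy] at *
end Groth.Agent.S1638
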