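import Groth.Statements.S16380
import Groth.Agent.S3637
import Groth.Agent.FMK16.Ample
import Groth.Agent.FMK16.DualGV
import Groth.Agent.FMK16.DualWit
import Groth.Agent.FMK16.SerreVan
import Groth.Agent.DCat.KernelDual17
import Groth.Agent.DCat.RHomLeft
import Groth.Agent.DCat.RHomBidual

set_option autoImplicit false
set_option backward.isDefEq.respectTransparency false
set_option backward.defeqAttrib.useBackward true
set_option linter.style.haveILetI false
set_option synthInstance.maxHeartbeats 100000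
set_option maxHeartbeats 1000000
set_option backward.isDefEq.respectTransparency.types false
universe u
open CategoryTheory CategoryTheory.Limits AlgebraicGeometry
attribute [local instance] HasDerivedCategory.standard
open FMK Groth.Agent.DCat

namespace Groth.Agent.S16380

/-- Let k be an algebraically closed field, X and Y proper schemes over k with structure morphisms a and
b, all of whose local rings are Cohen–Macaulay, X equidimensional of dimension d and Y
equidimensional of dimension g. Let Rb_* on D_QCoh have the right adjoint b^× (given as data with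
its adjunction), O an object of D_QCoh(Spec k) isomorphic to the structure sheaf in degree 0, and
ω_Y = H^{−g}(b^×O) the dualizing module of Y. Let L be an ample invertible O_Y-module with an
inverse L' (L ⊗ L' ≅ O_Y), and P a cochain complex of modules on X ×_k Y defining a perfect object.
Write Φ_P = Rpr_{Y,*}(Lpr_X^*(−) ⊗^L P), Ψ_P = Rpr_{X,*}(Lpr_Y^*(−) ⊗^L P) and R^iΦ_P = H^i ∘ Φ_P,
the derived functors involved being assumed to exist. Let k' ≥ 0 and F a cochain complex of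
O_X-modules defining a perfect object. Suppose that for every sufficiently large n (all n ≥ some n₀)
the hypercohomology H^j(X, Ψ_P(L'^{⊗ n} ⊗ ω_Y) ⊗^L F) vanishes for every integer j outside [g, g +
k']. Then F is a GV_{k'}-object with respect to P: R^iΦ_P(F) = 0 for i < 0, and for i ≥ 0 the
support of R^iΦ_P(F) has codimension at least i − k' in Y (the local ring of Y at each of its points
has Krull dimension ≥ i − k'). (The published hypothesis is H^i(F ⊗ Ψ_{P[g]}(A^{−1} ⊗ ω_Y)) = 0 for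
i outside [0, k'] and A any sufficiently positive ample line bundle; the kernel shift [g] is
absorbed into the degree, and A^{−1} is rendered as the powers of the inverse of a fixed ample L.) -/
theorem result (k : Type u) [Field k] [IsAlgClosed k]
    (X Y : Scheme.{u}) (a : X ⟶ Spec (CommRingCat.of k)) (b : Y ⟶ Spec (CommRingCat.of k)) [IsProper a] [IsProper b]
    (hXcm : ∀ x : ↥X, LocCoh.IsCohenMacaulayLocalRing ↑(X.presheaf.stalk x))
    (hYcm : ∀ y : ↥Y, LocCoh.IsCohenMacaulayLocalRing ↑(Y.presheaf.stalk y))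
    (d : ℕ) (hd : topologicalKrullDim ↥X = (d : WithBot ℕ∞))
    (hXeq : ∀ Z ∈ irreducibleComponents ↥X, topologicalKrullDim ↥Z = (d : WithBot ℕ∞))
    (g : ℕ) (hg : topologicalKrullDim ↥Y = (g : WithBot ℕ∞))
    (hYeq : ∀ Z ∈ irreducibleComponents ↥Y, topologicalKrullDim ↥Z = (g : WithBot ℕ∞))
    [DCoh.HasRpush b] (hb : DCoh.RpushPreservesQCoh b)
    (bdx : DCoh.DQCoh (Spec (CommRingCat.of k)) ⥤ DCoh.DQCoh Y) (adj : DCoh.RpushQ b hb ⊣ bdx)
    (O : DCoh.DQCoh (Spec (CommRingCat.of k)))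
    (hO : Nonempty (O.obj ≅ DCoh.inD (Spec (CommRingCat.of k)) (Coh.structureModule (Spec (CommRingCat.of k)))))
    (L L' : Y.Modules) (hL : CohB1.IsAmple L) (hLL' : Nonempty (CohB1.tensorMod L L' ≅ Coh.structureModule Y))
    (P : CochainComplex (pullback a b).Modules ℤ) (hP : DCoh.IsPerfect (DCoh.toD (pullback a b) P))
    [DCoh.HasLpull (pullback.fst a b)] [DCoh.HasLpull (pullback.snd a b)] [DCoh.HasLTensorCx P]
    [DCoh.HasRpush (pullback.fst a b)] [DCoh.HasRpush (pullback.snd a b)] [DCoh.HasRΓ X]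
    (k' : ℕ) (F : CochainComplex X.Modules ℤ) (hF : DCoh.IsPerfect (DCoh.toD X F)) [DCoh.HasLTensorCx F]
    (hvan : ∃ n₀ : ℕ, ∀ n : ℕ, n₀ ≤ n → ∀ j : ℤ, j < (g : ℤ) ∨ (g : ℤ) + k' < j →
      IsZero ((DerivedCategory.homologyFunctor AddCommGrpCat.{u} j).obj ((DCoh.RΓ X).obj
        ((DCoh.LTensorCx F).obj ((DCoh.Lpull (pullback.snd a b) ⋙ DCoh.LTensorCx P ⋙ DCoh.Rpush (pullback.fst a b)).obj
          (DCoh.inD Y (CohB1.tensorMod (CohB1.tensorPow L' n) (DCoh.HD (bdx.obj O).obj (-(g : ℤ))))))))))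
    :
    (∀ i : ℤ, i < 0 → IsZero (DCoh.HD ((FMK.phi a b P).obj (DCoh.toD X F)) i)) ∧
    (∀ (i : ℕ) (y : ↥Y), y ∈ CohB1.support (DCoh.HD ((FMK.phi a b P).obj (DCoh.toD X F)) (i : ℤ)) →
      ((i - k' : ℕ) : WithBot ℕ∞) ≤ ringKrullDim ↑(Y.presheaf.stalk y)) := by
  haveI : Flat a := inferInstance
  haveI : CompactSpace Y := QuasiCompact.compactSpace_of_compactSpace b
  haveI : IsLocallyNoetherian Y := LocallyOfFiniteType.isLocallyNoetherian b
  haveI : QuasiSeparatedSpace Y := inferInstance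
  haveI : DCoh.HasRΓ Y := DCat.hasRightDerivedFunctor_of_enoughKInj (DCat.modules_enoughKInj _) _
  haveI : ∀ y : ↥Y, DCoh.HasLpull (Y.fromSpecResidueField y) := fun y => DCat.hasLpull _
  -- the transform, and its dual
  let E := (FMK.phi a b P).obj (DCoh.toD X F)
  have hE : DCoh.IsPerfect E := (FMK16.isPerfect_phi k a b P hP _ hF).2
  obtain ⟨K, hKf, ⟨eK⟩⟩ := PullPerf.exists_kflat_rep E
  haveI := LTensorSheaf.hasLTensorCx K
  haveI := RHomExist.hasRSheafHom K
  have hKp : DCoh.IsPerfect (DerivedCategory.Q.obj K) := PCTriangle.perfect_iso eK.symm hE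
  obtain ⟨KD, hKDf, ⟨eKD⟩⟩ := PullPerf.exists_kflat_rep (RHomBidual.dual K)
  haveI := LTensorSheaf.hasLTensorCx KD
  haveI := RHomExist.hasRSheafHom KD
  have hKDp : DCoh.IsPerfect (DerivedCategory.Q.obj KD) := PCTriangle.perfect_iso eKD.symm (RHomDual.isPerfect_dual K hKp)
  obtain ⟨bid⟩ := RHomBidual.nonempty_bidual hKf hKp hKDf eKD
  let D' := DerivedCategory.Q.obj KD
  obtain ⟨lo, hi', hlo, hhi, -, hcoh⟩ := FMK16.exists_bounded_coh hKDp
  haveI := hlo
  haveI := hhi
  obtain ⟨n₁, hn₁⟩ := FMK16.exists_iff_twist k b D' lo hi' hcoh L hL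
  obtain ⟨n₀, hn₀⟩ := hvan
  let n := max n₀ n₁
  -- the line bundles
  have hLi : PicF.IsInvertible L := (AmpleLib.isAmple_iff_affGlocus.1 hL).1
  have hLLi : PicF.IsInvertible (CohB1.tensorMod L L') := fun y => by
    obtain ⟨U, hy, ⟨e⟩⟩ := AmpleLib.isInvertible_structureModule (X := Y) y
    exact ⟨U, hy, ⟨(Scheme.Modules.restrictFunctor U.ι).mapIso hLL'.some ≪≫ e⟩⟩
  have hL'i : PicF.IsInvertible L' := PicLib.PicM.isInvertible_of_tensor hLi hLLi
  let N := CohB1.tensorPow L n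
  let N' := CohB1.tensorPow L' n
  have hNi : PicF.IsInvertible N := AmpleLib.isInvertible_tensorPow hLi n
  have hN'i : PicF.IsInvertible N' := AmpleLib.isInvertible_tensorPow hL'i n
  have h1 : PicLib.PicM.of hNi * PicLib.PicM.of hN'i = 1 := by
    rw [PicLib.PicM.of_tensorPow hLi, PicLib.PicM.of_tensorPow hL'i, ← mul_pow, PicLib.PicM.of_mul,
      (PicLib.PicM.of_eq_one_iff _).2 hLL', one_pow]
  rw [PicLib.PicM.of_mul, PicLib.PicM.of_eq_one_iff] at h1
  obtain ⟨eNN⟩ := h1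
  have hN : FlatMod.IsFinLocFree N := Coherent.isFinLocFree_of_invertible hNi
  have hN' : FlatMod.IsFinLocFree N' := Coherent.isFinLocFree_of_invertible hN'i
  let SL := (HomologicalComplex.single Y.Modules (ComplexShape.up ℤ) 0).obj N
  let SL' := (HomologicalComplex.single Y.Modules (ComplexShape.up ℤ) 0).obj N'
  let SO := (HomologicalComplex.single Y.Modules (ComplexShape.up ℤ) 0).obj (Coh.structureModule Y)
  haveI := LTensorSheaf.hasLTensorCx SL
  haveI := LTensorSheaf.hasLTensorCx SL'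
  haveI := LTensorSheaf.hasLTensorCx SO
  haveI := LTensorSheaf.hasLTensorCx ((HomologicalComplex.single Y.Modules (ComplexShape.up ℤ) 0).obj (CohB1.tensorMod N N'))
  haveI := LTensorSheaf.hasLTensorCx ((HomologicalComplex.single Y.Modules (ComplexShape.up ℤ) 0).obj (CohB1.tensorMod N' N))
  obtain ⟨cA⟩ := FMK16.nonempty_LTensor_comp_single N hN N'
  obtain ⟨cB⟩ := FMK16.nonempty_LTensor_comp_single N' hN' N
  obtain ⟨cO⟩ := RHomLeft.nonempty_LTensor_structure (X := Y)
  obtain ⟨gA⟩ := TensorCongr.nonempty_congr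
    (E := (HomologicalComplex.single Y.Modules (ComplexShape.up ℤ) 0).obj (CohB1.tensorMod N N')) (E' := SO)
    (DerivedCategory.Q.mapIso ((HomologicalComplex.single Y.Modules (ComplexShape.up ℤ) 0).mapIso eNN))
  obtain ⟨gB⟩ := TensorCongr.nonempty_congr
    (E := (HomologicalComplex.single Y.Modules (ComplexShape.up ℤ) 0).obj (CohB1.tensorMod N' N)) (E' := SO)
    (DerivedCategory.Q.mapIso ((HomologicalComplex.single Y.Modules (ComplexShape.up ℤ) 0).mapIso
      (AmpleLib.tensorComm N' N ≪≫ eNN)))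
  let i₁ : DCoh.LTensorCx SL ⋙ DCoh.LTensorCx SL' ≅ 𝟭 _ := cA ≪≫ gA ≪≫ cO
  let i₂ : DCoh.LTensorCx SL' ⋙ DCoh.LTensorCx SL ≅ 𝟭 _ := cB ≪≫ gB ≪≫ cO
  -- the dualizing module
  obtain ⟨hω0, hωc, -⟩ := S3637.result k Y b hYcm g hYeq hb bdx adj O hO
  let W := (bdx.obj O).obj
  let ω := DCoh.HD W (-(g : ℤ))
  haveI : Coh.IsQCoh ω := hωc.1
  haveI : W.IsGE (-(g : ℤ)) := (DerivedCategory.isGE_iff _ _).2 fun q hq => hω0 q (by omega)
  haveI : W.IsLE (-(g : ℤ)) := (DerivedCategory.isLE_iff _ _).2 fun q hq => hω0 q (by omega)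
  obtain ⟨B, ⟨eB⟩⟩ := DerivedCategory.exists_iso_singleFunctor_obj_of_isGE_of_isLE W (-(g : ℤ))
  let eBω : B ≅ ω := ((DerivedCategory.singleFunctorCompHomologyFunctorIso Y.Modules (-(g : ℤ))).app B).symm ≪≫
    (DerivedCategory.homologyFunctor Y.Modules (-(g : ℤ))).mapIso eB.symm
  let eW : (DCoh.inD Y ω)⟦(g : ℤ)⟧ ≅ W :=
    ((DerivedCategory.singleFunctors Y.Modules).shiftIso (g : ℤ) (-(g : ℤ)) 0 (by omega)).app ω ≪≫
      (DerivedCategory.singleFunctor Y.Modules (-(g : ℤ))).mapIso eBω.symm ≪≫ eB.symm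
  let Nn := CohB1.tensorMod N' ω
  let SN := (HomologicalComplex.single Y.Modules (ComplexShape.up ℤ) 0).obj Nn
  haveI := LTensorSheaf.hasLTensorCx SN
  obtain ⟨eT⟩ := BoxRes17.nonempty_tensor_single ω N' hN'
  let eN : (DCoh.LTensorCx SL').obj (DCoh.inD Y ω) ≅ DerivedCategory.Q.obj SN :=
    eT ≪≫ (DerivedCategory.singleFunctor Y.Modules 0).mapIso (AmpleLib.tensorComm ω N') ≪≫
      (DerivedCategory.singleFunctorIsoCompQ Y.Modules 0).app _
  have hSNq : DCoh.IsQCohD (DerivedCategory.Q.obj SN) :=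
    DQCoh.isQCohD_of_iso eN (DQCoh.isQCohD_LTensorCx SL'
      (Dual22Lib.PerfLift.isQCohD_perfect (Dual22Lib.PerfLift.isPerfect_single hN')) _ (FlatBC14.isQCohD_inD ω))
  -- the cohomology sheaves of the dual
  have key : ∀ m : ℤ, m < -(k' : ℤ) ∨ 0 < m → IsZero (DCoh.HD D' m) := by
    intro m hm
    refine (hn₁ n (le_max_right _ _) m).1 ?_
    rw [FMK16.isZero_homology_RΓ_iff]
    let j := (g : ℤ) - m
    have hj := hn₀ n (le_max_left _ _) j (by omega)
    obtain ⟨sw⟩ := FMK16.nonempty_swap_qcoh k a b P hP F hF SN hSNq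
    have hv := (FMK16.isZero_homology_RΓ_iff _ j).1 (hj.of_iso
      ((DerivedCategory.homologyFunctor AddCommGrpCat.{u} j).mapIso ((DCoh.RΓ X).mapIso
        ((DCoh.LTensorCx F).mapIso ((DCoh.Lpull (pullback.snd a b) ⋙ DCoh.LTensorCx P ⋙
          DCoh.Rpush (pullback.fst a b)).mapIso ((DerivedCategory.singleFunctorIsoCompQ Y.Modules 0).app Nn))) ≪≫ sw)).symm)
    obtain ⟨tw⟩ := KernelDual17.nonempty_twist KD hKDp SN
    have hv' := hv.of_iso ((DCoh.LTensorCx SN).mapIso (eK.symm ≪≫ bid) ≪≫ tw)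
    haveI : Subsingleton (DerivedCategory.Q.obj ((HomologicalComplex.single Y.Modules (ComplexShape.up ℤ) j).obj
        (Coh.structureModule Y)) ⟶ (DCoh.RSheafHom KD).obj (DerivedCategory.Q.obj SN)) :=
      ⟨fun f f' => (hv' f).trans (hv' f').symm⟩
    haveI : Subsingleton ((DCoh.LTensorCx KD).obj (DerivedCategory.Q.obj ((HomologicalComplex.single Y.Modules
        (ComplexShape.up ℤ) j).obj (Coh.structureModule Y))) ⟶ DerivedCategory.Q.obj SN) :=
      ((DCoh.RSheafHomAdj KD).homEquiv _ _).subsingleton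
    let eO' : DerivedCategory.Q.obj ((HomologicalComplex.single Y.Modules (ComplexShape.up ℤ) j).obj
        (Coh.structureModule Y)) ≅ (DCoh.inD Y (Coh.structureModule Y))⟦-j⟧ :=
      ((DerivedCategory.singleFunctorIsoCompQ Y.Modules j).app _).symm ≪≫
        (((DerivedCategory.singleFunctors Y.Modules).shiftIso (-j) j 0 (by omega)).app _).symm
    obtain ⟨s₁⟩ := BCFlat16.nonempty_map_shift (Dual22Lib.TenLocal.triExact_LTensor KD)
      (DCoh.inD Y (Coh.structureModule Y)) (-j)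
    obtain ⟨sy⟩ := BoxRes17.nonempty_swap' KD SO
    let eD : (DCoh.LTensorCx KD).obj (DCoh.inD Y (Coh.structureModule Y)) ≅ D' :=
      (DCoh.LTensorCx KD).mapIso ((DerivedCategory.singleFunctorIsoCompQ Y.Modules 0).app _) ≪≫ sy ≪≫ cO.app _
    haveI : Subsingleton (D'⟦-j⟧ ⟶ DerivedCategory.Q.obj SN) :=
      (((DCoh.LTensorCx KD).mapIso eO' ≪≫ s₁ ≪≫ (shiftFunctor _ (-j)).mapIso eD).homCongr (Iso.refl _)).symm.subsingleton
    haveI : Subsingleton ((DCoh.LTensorCx SL').obj ((DCoh.LTensorCx SL).obj (D'⟦-j⟧)) ⟶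
        (DCoh.LTensorCx SL').obj (DCoh.inD Y ω)) :=
      @Equiv.subsingleton _ _ ((i₁.app _).homCongr eN) ‹Subsingleton (D'⟦-j⟧ ⟶ DerivedCategory.Q.obj SN)›
    haveI : (DCoh.LTensorCx SL' ⋙ DCoh.LTensorCx SL).Faithful := Functor.Faithful.of_iso i₂.symm
    haveI : (DCoh.LTensorCx SL').Faithful := Functor.Faithful.of_comp (DCoh.LTensorCx SL') (DCoh.LTensorCx SL)
    haveI : Subsingleton ((DCoh.LTensorCx SL).obj (D'⟦-j⟧) ⟶ DCoh.inD Y ω) :=
      (DCoh.LTensorCx SL').map_injective.subsingleton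
    obtain ⟨s₂⟩ := BCFlat16.nonempty_map_shift (Dual22Lib.TenLocal.triExact_LTensor SL) D' (-j)
    let T := (DCoh.LTensorCx SL).obj D'
    haveI : Subsingleton (T⟦-j⟧ ⟶ DCoh.inD Y ω) := (s₂.homCongr (Iso.refl _)).symm.subsingleton
    haveI hsg : Subsingleton ((T⟦-j⟧)⟦(g : ℤ)⟧ ⟶ (DCoh.inD Y ω)⟦(g : ℤ)⟧) :=
      (Functor.FullyFaithful.ofFullyFaithful (shiftFunctor (DCoh.D Y) (g : ℤ))).homEquiv.symm.subsingleton
    haveI : Subsingleton (T⟦m⟧ ⟶ W) :=
      @Equiv.subsingleton _ _ (((shiftFunctorAdd' (DCoh.D Y) (-j) (g : ℤ) m (by omega)).app T).homCongr eW.symm) hsg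
    have hTq : DCoh.IsQCohD T := DQCoh.isQCohD_LTensorCx SL
      (Dual22Lib.PerfLift.isQCohD_perfect (Dual22Lib.PerfLift.isPerfect_single hN)) _
      (Dual22Lib.PerfLift.isQCohD_perfect hKDp)
    haveI hsO := FMK16.subsingleton_hom_of_shriek k b hb bdx adj O hO (T⟦m⟧) (DQCoh.isQCohD_shift hTq m) inferInstance
    let eOm : DerivedCategory.Q.obj ((HomologicalComplex.single Y.Modules (ComplexShape.up ℤ) m).obj
        (Coh.structureModule Y)) ≅ (DCoh.inD Y (Coh.structureModule Y))⟦-m⟧ :=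
      ((DerivedCategory.singleFunctorIsoCompQ Y.Modules m).app _).symm ≪≫
        (((DerivedCategory.singleFunctors Y.Modules).shiftIso (-m) m 0 (by omega)).app _).symm
    haveI : Subsingleton (((DCoh.inD Y (Coh.structureModule Y))⟦-m⟧)⟦m⟧ ⟶ T⟦m⟧) :=
      @Equiv.subsingleton _ _ (((shiftFunctorCompIsoId (DCoh.D Y) (-m) m (by omega)).app _).homCongr (Iso.refl _)) hsO
    haveI : Subsingleton ((DCoh.inD Y (Coh.structureModule Y))⟦-m⟧ ⟶ T) :=
      (shiftFunctor (DCoh.D Y) m).map_injective.subsingleton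
    haveI : Subsingleton (DerivedCategory.Q.obj ((HomologicalComplex.single Y.Modules (ComplexShape.up ℤ) m).obj
        (Coh.structureModule Y)) ⟶ T) := (eOm.homCongr (Iso.refl _)).subsingleton
    exact fun φ => Subsingleton.elim _ _
  refine ⟨fun i hi => ?_, fun i y hy => ?_⟩
  · haveI : (DerivedCategory.Q.obj KD).IsLE 0 := (DerivedCategory.isLE_iff _ _).2 fun q hq => key q (Or.inr hq)
    haveI := DQCoh.isGE_RHom KD 0 (DCoh.inD Y (Coh.structureModule Y)) 0
    exact (DerivedCategory.isZero_of_isGE ((DCoh.RSheafHom KD).obj (DCoh.inD Y (Coh.structureModule Y))) (0 - 0) i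
      (by omega)).of_iso ((DerivedCategory.homologyFunctor Y.Modules i).mapIso (eK.symm ≪≫ bid))
  · obtain ⟨δ, hδ⟩ := FMK16.exists_dim (R := ↑(Y.presheaf.stalk y))
    rw [hδ]
    by_contra hlt
    have hlt' : δ < i - k' := by
      by_contra h
      exact hlt (by exact_mod_cast Nat.le_of_not_lt h)
    refine hy (FMK16.subsingleton_stalk_of_iso
      ((DerivedCategory.homologyFunctor Y.Modules (i : ℤ)).mapIso (eK.symm ≪≫ bid)).symm y ?_)
    exact FMK16.subsingleton_stalk_dual_of_below KD hKDp y (hYcm y) δ hδ (-(k' : ℤ)) (fun q hq =>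
      FMK16.subsingleton_stalk_of_isZero (key q (Or.inl hq)) y) _ (by omega)

end Groth.Agent.S16380
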