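import Groth.Statements.S16382
import Groth.Agent.FMK16.FibreHyper
import Groth.Agent.FMK16.PhiPerf
import Groth.Agent.Dual22Lib.PerfLift
import Groth.Agent.CubeLib.GlobalSec

set_option autoImplicit false
universe u
open CategoryTheory CategoryTheory.Limits AlgebraicGeometry
attribute [local instance] HasDerivedCategory.standard
open FMK

namespace Groth.Agent.S16382

/-- Let k be an algebraically closed field, X a proper scheme over k and Y a scheme locally of finite
type over k (structure morphisms a and b), P a cochain complex of modules on X ×_k Y defining a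
perfect object and F a cochain complex of O_X-modules defining a perfect object. Write Φ_P(F) =
Rpr_{Y,*}(Lpr_X^*F ⊗^L P), R^iΦ_P(F) = H^i(Φ_P(F)), and for a point y of Y with residue field κ(y)
let X_y = (X ×_k Y) ×_Y Spec κ(y) with first projection j_y : X_y → X ×_k Y, P restricted to the
fibre being Lj_y^*; the i-th cohomological support locus of F is V^i = {y ∈ Y : H^i(X_y,
Lj_y^*(Lpr_X^*F ⊗^L P)) ≠ 0} (hypercohomology on X_y); the derived functors involved are assumed to
exist. Let k' ≥ 0. Then the following are equivalent: (1') for every i ≥ 0 the support of R^iΦ_P(F)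
has codimension ≥ i − k' (the local ring of Y at each of its points has Krull dimension ≥ i − k');
(2) for every i ≥ 0 the locus V^i has codimension ≥ i − k' in the same pointwise sense. (The
published statement has the GV_{k'} condition in (1), which also asks R^iΦ_P(F) = 0 for i < 0; that
extra clause is not implied by (2) for complexes — over X = Y = Spec k with P = k and F = k[1]
condition (2) holds while R^{−1} ≠ 0 — and the published proof only treats the codimension clauses,
which are equivalent as stated here; for F and P sheaves the extra clause is automatic.) -/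
theorem result (k : Type u) [Field k] [IsAlgClosed k]
    (X Y : Scheme.{u}) (a : X ⟶ Spec (CommRingCat.of k)) (b : Y ⟶ Spec (CommRingCat.of k)) [IsProper a] [LocallyOfFiniteType b]
    (P : CochainComplex (pullback a b).Modules ℤ) (hP : DCoh.IsPerfect (DCoh.toD (pullback a b) P))
    [DCoh.HasLpull (pullback.fst a b)] [DCoh.HasLTensorCx P] [DCoh.HasRpush (pullback.snd a b)]
    [∀ y : ↥Y, DCoh.HasLpull (pullback.fst (pullback.snd a b) (Y.fromSpecResidueField y))]
    [∀ y : ↥Y, DCoh.HasRΓ (pullback (pullback.snd a b) (Y.fromSpecResidueField y))]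
    (F : CochainComplex X.Modules ℤ) (hF : DCoh.IsPerfect (DCoh.toD X F)) (k' : ℕ) :
    (∀ (i : ℕ) (y : ↥Y), y ∈ CohB1.support (DCoh.HD ((FMK.phi a b P).obj (DCoh.toD X F)) (i : ℤ)) →
      ((i - k' : ℕ) : WithBot ℕ∞) ≤ ringKrullDim ↑(Y.presheaf.stalk y)) ↔
    (∀ (i : ℕ) (y : ↥Y), ¬ IsZero ((DerivedCategory.homologyFunctor AddCommGrpCat.{u} (i : ℤ)).obj
        ((DCoh.RΓ (pullback (pullback.snd a b) (Y.fromSpecResidueField y))).obj ((DCoh.Lpull (pullback.fst (pullback.snd a b) (Y.fromSpecResidueField y))).obj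
          ((DCoh.LTensorCx P).obj ((DCoh.Lpull (pullback.fst a b)).obj (DCoh.toD X F)))))) →
      ((i - k' : ℕ) : WithBot ℕ∞) ≤ ringKrullDim ↑(Y.presheaf.stalk y)) := by
  haveI : Flat a := Groth.Agent.CubeLib.flat_of_field _
  haveI : ∀ y : Y, DCoh.HasLpull (Y.fromSpecResidueField y) := fun y => Groth.Agent.DCat.hasLpull _
  obtain ⟨hG, hE⟩ := Groth.Agent.FMK16.isPerfect_phi k a b P hP (DCoh.toD X F) hF
  set E := (FMK.phi a b P).obj (DCoh.toD X F) with hEdef
  have hfib : ∀ (i : ℤ) (y : Y), IsZero ((DerivedCategory.homologyFunctor AddCommGrpCat.{u} i).obj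
      ((DCoh.RΓ (pullback (pullback.snd a b) (Y.fromSpecResidueField y))).obj
        ((DCoh.Lpull (pullback.fst (pullback.snd a b) (Y.fromSpecResidueField y))).obj
          ((DCoh.LTensorCx P).obj ((DCoh.Lpull (pullback.fst a b)).obj (DCoh.toD X F)))))) ↔
      PerfD.betti E y i = 0 := fun i y =>
    Groth.Agent.FMK16.isZero_fibre_iff_betti (pullback.snd a b) y _
      (Groth.Agent.Dual22Lib.PerfLift.isQCohD_perfect hG) hE i
  have hkey := fun y (i : ℤ) => Groth.Agent.FMK16.stalks_above_iff_betti E hE y i
  have hmono : ∀ (i j : ℕ) (y : Y), i ≤ j → ((j - k' : ℕ) : WithBot ℕ∞) ≤ ringKrullDim ↑(Y.presheaf.stalk y) →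
      ((i - k' : ℕ) : WithBot ℕ∞) ≤ ringKrullDim ↑(Y.presheaf.stalk y) := fun i j y hij h =>
    le_trans (by exact_mod_cast Nat.sub_le_sub_right hij k') h
  constructor
  · intro h i y hy
    by_contra hlt
    refine hy ((hfib i y).2 ((hkey y i).1 (fun j hj => ?_) i le_rfl))
    obtain ⟨n, rfl⟩ : ∃ n : ℕ, j = n := ⟨j.toNat, by omega⟩
    exact not_not.1 fun hs => hlt (hmono i n y (by exact_mod_cast hj) (h n y hs))
  · intro h i y hy
    by_contra hlt
    refine hy ((hkey y i).2 (fun j hj => ?_) i le_rfl)
    obtain ⟨n, rfl⟩ : ∃ n : ℕ, j = n := ⟨j.toNat, by omega⟩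
    exact not_not.1 fun hs => hlt (hmono i n y (by exact_mod_cast hj) (h n y (fun hz => hs ((hfib n y).1 hz))))

end Groth.Agent.S16382
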