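import Groth.Statements.S16383
import Groth.Agent.FMK16.GVSpread
import Groth.Agent.FMK16.StalkLoc
import Groth.Agent.FMK16.FibreHyper
import Groth.Agent.FMK16.PhiPerf
import Groth.Agent.Dual22Lib.PerfLift
import Groth.Agent.CubeLib.GlobalSec
import Groth.Agent.LocCoh.Gorenstein
import Groth.Agent.CAlgH3.CMRing

set_option autoImplicit false
universe u
open CategoryTheory CategoryTheory.Limits AlgebraicGeometry
attribute [local instance] HasDerivedCategory.standard
open FMK

namespace Groth.Agent.S16383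

/-- Let k be an algebraically closed field, X a proper scheme over k all of whose local rings are
Cohen–Macaulay, equidimensional of dimension d, and Y a proper scheme over k all of whose local
rings are Gorenstein (structure morphisms a and b). Let P be a finite locally free module on X ×_k
Y, viewed as a kernel in degree 0, and F a coherent O_X-module which is perfect as an object of
D(O_X). Write Φ_P(F) = Rpr_{Y,*}(Lpr_X^*F ⊗^L P), R^iΦ_P(F) = H^i(Φ_P(F)), and for a point y of Y
let X_y = (X ×_k Y) ×_Y Spec κ(y) with first projection j_y, and V^i = {y ∈ Y : H^i(X_y,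
Lj_y^*(Lpr_X^*F ⊗^L P)) ≠ 0} the i-th cohomological support locus (hypercohomology on X_y; the
derived functors involved are assumed to exist). Let k' ≥ 0 and suppose F is a GV_{k'}-sheaf with
respect to P: for every i ≥ 0 the support of R^iΦ_P(F) has codimension ≥ i − k' (the local ring of Y
at each of its points has Krull dimension ≥ i − k'). Then V^{i+1} ⊆ V^i for every i ≥ k', so that
V^d ⊆ ⋯ ⊆ V^{k'+1} ⊆ V^{k'}. -/
theorem result (k : Type u) [Field k] [IsAlgClosed k]
    (X Y : Scheme.{u}) (a : X ⟶ Spec (CommRingCat.of k)) (b : Y ⟶ Spec (CommRingCat.of k)) [IsProper a] [IsProper b]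
    (hXcm : ∀ x : ↥X, LocCoh.IsCohenMacaulayLocalRing ↑(X.presheaf.stalk x))
    (hYgor : ∀ y : ↥Y, LocCoh.IsGorensteinLocalRing ↑(Y.presheaf.stalk y))
    (d : ℕ) (hd : topologicalKrullDim ↥X = (d : WithBot ℕ∞))
    (hXeq : ∀ Z ∈ irreducibleComponents ↥X, topologicalKrullDim ↥Z = (d : WithBot ℕ∞))
    (P₀ : (pullback a b).Modules) (hP₀ : FlatMod.IsFinLocFree P₀)
    [DCoh.HasLpull (pullback.fst a b)]
    [DCoh.HasLTensorCx ((HomologicalComplex.single (pullback a b).Modules (ComplexShape.up ℤ) 0).obj P₀)]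
    [DCoh.HasRpush (pullback.snd a b)]
    [∀ y : ↥Y, DCoh.HasLpull (pullback.fst (pullback.snd a b) (Y.fromSpecResidueField y))]
    [∀ y : ↥Y, DCoh.HasRΓ (pullback (pullback.snd a b) (Y.fromSpecResidueField y))]
    (F : X.Modules) (hFc : Coh.IsCoh F) (hF : DCoh.IsPerfect (DCoh.inD X F)) (k' : ℕ)
    (hGV : ∀ (i : ℕ) (y : ↥Y), y ∈ CohB1.support (DCoh.HD ((FMK.phi a b
        ((HomologicalComplex.single (pullback a b).Modules (ComplexShape.up ℤ) 0).obj P₀)).obj (DCoh.inD X F)) (i : ℤ)) →
      ((i - k' : ℕ) : WithBot ℕ∞) ≤ ringKrullDim ↑(Y.presheaf.stalk y))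
    (i : ℕ) (hi : k' ≤ i) (y : ↥Y)
    (hy : ¬ IsZero ((DerivedCategory.homologyFunctor AddCommGrpCat.{u} ((i : ℤ) + 1)).obj
        ((DCoh.RΓ (pullback (pullback.snd a b) (Y.fromSpecResidueField y))).obj ((DCoh.Lpull (pullback.fst (pullback.snd a b) (Y.fromSpecResidueField y))).obj
          ((DCoh.LTensorCx ((HomologicalComplex.single (pullback a b).Modules (ComplexShape.up ℤ) 0).obj P₀)).obj
            ((DCoh.Lpull (pullback.fst a b)).obj (DCoh.inD X F))))))) :
    ¬ IsZero ((DerivedCategory.homologyFunctor AddCommGrpCat.{u} (i : ℤ)).obj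
        ((DCoh.RΓ (pullback (pullback.snd a b) (Y.fromSpecResidueField y))).obj ((DCoh.Lpull (pullback.fst (pullback.snd a b) (Y.fromSpecResidueField y))).obj
          ((DCoh.LTensorCx ((HomologicalComplex.single (pullback a b).Modules (ComplexShape.up ℤ) 0).obj P₀)).obj
            ((DCoh.Lpull (pullback.fst a b)).obj (DCoh.inD X F)))))) := by
  haveI : Flat a := Groth.Agent.CubeLib.flat_of_field _
  haveI : ∀ y : Y, DCoh.HasLpull (Y.fromSpecResidueField y) := fun y => Groth.Agent.DCat.hasLpull _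
  haveI : IsLocallyNoetherian Y := LocallyOfFiniteType.isLocallyNoetherian b
  have hP : DCoh.IsPerfect (DCoh.toD (pullback a b)
      ((HomologicalComplex.single (pullback a b).Modules (ComplexShape.up ℤ) 0).obj P₀)) :=
    Groth.Agent.DCat.PCTriangle.perfect_iso ((DerivedCategory.singleFunctorIsoCompQ _ 0).app P₀)
      (Groth.Agent.Dual22Lib.PerfLift.isPerfect_single hP₀)
  obtain ⟨hG, hE⟩ := Groth.Agent.FMK16.isPerfect_phi k a b _ hP (DCoh.inD X F) hF
  set E := (FMK.phi a b ((HomologicalComplex.single (pullback a b).Modules (ComplexShape.up ℤ) 0).obj P₀)).obj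
    (DCoh.inD X F) with hEdef
  have hfib := fun (j : ℤ) => Groth.Agent.FMK16.isZero_fibre_iff_betti (pullback.snd a b) y _
    (Groth.Agent.Dual22Lib.PerfLift.isQCohD_perfect hG) hE j
  rw [hfib] at hy ⊢
  refine fun h0 => hy ?_
  obtain ⟨R, _, c, _, Q, lo, up, hyc, hQ, hq, ⟨e⟩⟩ := Groth.Agent.DQCoh.exists_affine_perfect hE y
  obtain ⟨z, rfl⟩ := hyc
  haveI : IsLocallyNoetherian (Spec R) := isLocallyNoetherian_of_isOpenImmersion c
  haveI : IsNoetherianRing R := (isNoetherian_Spec).1 ⟨⟩
  let φ := fun w => Classical.choice (Groth.Agent.FMK16.nonempty_stalk_equiv c w)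
  have key := Groth.Agent.FMK16.exact_above_of_codim Q hq z.asIdeal i k' hi
    ((Groth.Agent.FMK16.betti_eq_zero_iff E c Q hQ hq e i z).1 h0)
    (fun q hqprime _ => by
      haveI := hYgor (c ⟨q, hqprime⟩)
      haveI : LocCoh.IsCohenMacaulayLocalRing (Y.presheaf.stalk (c ⟨q, hqprime⟩)) :=
        Groth.Agent.LocCoh.isCohenMacaulayLocalRing_of_gorenstein
      exact Groth.Agent.CAlgH3.isCohenMacaulayLocalRing_of_ringEquiv (φ ⟨q, hqprime⟩).symm)
    (fun q hqprime _ j _ hne => by
      have hsupp : c ⟨q, hqprime⟩ ∈ CohB1.support (DCoh.HD E (j : ℤ)) := fun hs =>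
        hne ((Groth.Agent.FMK16.subsingleton_stalk_iff E c Q e (j : ℤ) ⟨q, hqprime⟩).1 hs)
      have h := hGV j _ hsupp
      rw [← ringKrullDim_eq_of_ringEquiv (φ ⟨q, hqprime⟩),
        IsLocalization.AtPrime.ringKrullDim_eq_height q (Localization.AtPrime q)] at h
      exact WithBot.coe_le_coe.1 h)
    z.asIdeal le_rfl
  refine (Groth.Agent.FMK16.betti_eq_zero_iff E c Q hQ hq e _ z).2 ?_
  exact (Groth.Agent.FMK16.exact_above_iff Q z hQ hq (i : ℤ)).1 key _ (by omega)

end Groth.Agent.S16383
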