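import Groth.Statements.S16384
import Groth.Agent.S16381
import Groth.Agent.S3637
import Groth.Agent.FMK16.DualGV
import Groth.Agent.FMK16.DualLowMain
import Groth.Agent.FMK16.DualWit
import Groth.Agent.DCat.KernelDual17
import Groth.Agent.Props12.FinLocFree

set_option autoImplicit false
set_option backward.isDefEq.respectTransparency false
set_option backward.defeqAttrib.useBackward true
set_option linter.style.haveILetI false
set_option synthInstance.maxHeartbeats 100000
set_option maxHeartbeats 1000000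
set_option backward.isDefEq.respectTransparency.types false
universe u
open CategoryTheory CategoryTheory.Limits AlgebraicGeometry
attribute [local instance] HasDerivedCategory.standard
open FMK Groth.Agent.DCat

namespace Groth.Agent.S16384

/-- For a sheaf F and a locally free kernel P, let k be an algebraically closed field, X and Y proper
schemes over k with structure morphisms a and b, all of whose local rings are Cohen–Macaulay, X
equidimensional of dimension d and Y equidimensional of dimension g. Let Ra_* and Rb_* on D_QCoh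
have right adjoints a^× and b^× (given as data with their adjunctions), O an object of D_QCoh(Spec
k) isomorphic to the structure sheaf in degree 0, and ω_X = H^{−d}(a^×O), ω_Y = H^{−g}(b^×O) the
dualizing modules; write RΔ(F) = RHom(F, ω_X). Let P be a finite locally free module on X ×_k Y, P^∨
= Hom(P, O) its dual (the sheaf Hom as right adjoint of P ⊗ −) and Q = P^∨ ⊗ pr_Y^*ω_Y, both used as
kernels in degree 0; for a kernel K write Φ_K = Rpr_{Y,*}(Lpr_X^*(−) ⊗^L K) and R^iΦ_K = H^i ∘ Φ_K,
the derived functors involved being assumed to exist. Let k' ≥ 0 and F a coherent O_X-module,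
perfect as an object of D(O_X), which is a GV_{k'}-sheaf with respect to P: for every i ≥ 0 the
support of R^iΦ_P(F) has codimension ≥ i − k' (the local ring of Y at each of its points has Krull
dimension ≥ i − k'). Then RΔ(F) satisfies WIT_[d−k',d] with respect to Q: R^iΦ_Q(RΔ F) = 0 for every
integer i outside [d − k', d]. (The published statement is for an arbitrary object F of D(X) and an
arbitrary kernel P; in that generality the vanishing above degree d fails — for F = O_X[1] on an
abelian variety of dimension d ≥ 1 with the Poincaré kernel, F is GV_0 while Φ_Q(RΔF) is a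
skyscraper in degree d + 1 — so the row keeps F a sheaf and P locally free, the case of the
applications.) -/
theorem result (k : Type u) [Field k] [IsAlgClosed k]
    (X Y : Scheme.{u}) (a : X ⟶ Spec (CommRingCat.of k)) (b : Y ⟶ Spec (CommRingCat.of k)) [IsProper a] [IsProper b]
    (hXcm : ∀ x : ↥X, LocCoh.IsCohenMacaulayLocalRing ↑(X.presheaf.stalk x))
    (hYcm : ∀ y : ↥Y, LocCoh.IsCohenMacaulayLocalRing ↑(Y.presheaf.stalk y))
    (d : ℕ) (hd : topologicalKrullDim ↥X = (d : WithBot ℕ∞))
    (hXeq : ∀ Z ∈ irreducibleComponents ↥X, topologicalKrullDim ↥Z = (d : WithBot ℕ∞))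
    (g : ℕ) (hg : topologicalKrullDim ↥Y = (g : WithBot ℕ∞))
    (hYeq : ∀ Z ∈ irreducibleComponents ↥Y, topologicalKrullDim ↥Z = (g : WithBot ℕ∞))
    [DCoh.HasRpush a] (ha : DCoh.RpushPreservesQCoh a)
    (adx : DCoh.DQCoh (Spec (CommRingCat.of k)) ⥤ DCoh.DQCoh X) (adja : DCoh.RpushQ a ha ⊣ adx)
    [DCoh.HasRpush b] (hb : DCoh.RpushPreservesQCoh b)
    (bdx : DCoh.DQCoh (Spec (CommRingCat.of k)) ⥤ DCoh.DQCoh Y) (adjb : DCoh.RpushQ b hb ⊣ bdx)
    (O : DCoh.DQCoh (Spec (CommRingCat.of k)))
    (hO : Nonempty (O.obj ≅ DCoh.inD (Spec (CommRingCat.of k)) (Coh.structureModule (Spec (CommRingCat.of k)))))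
    (P₀ : (pullback a b).Modules) (hP₀ : FlatMod.IsFinLocFree P₀) [DCoh.HasSheafHom P₀]
    [DCoh.HasLpull (pullback.fst a b)] [DCoh.HasRpush (pullback.snd a b)]
    [DCoh.HasLTensorCx ((HomologicalComplex.single (pullback a b).Modules (ComplexShape.up ℤ) 0).obj P₀)]
    [DCoh.HasLTensorCx ((HomologicalComplex.single (pullback a b).Modules (ComplexShape.up ℤ) 0).obj (CohB1.tensorMod ((DCoh.sheafHom P₀).obj (Coh.structureModule (pullback a b))) ((Scheme.Modules.pullback (pullback.snd a b)).obj (DCoh.HD (bdx.obj O).obj (-(g : ℤ))))))]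
    (F : X.Modules) (hFc : Coh.IsCoh F) (hF : DCoh.IsPerfect (DCoh.inD X F))
    [DCoh.HasLTensorCx ((HomologicalComplex.single X.Modules (ComplexShape.up ℤ) 0).obj F)] [DCoh.HasRSheafHom ((HomologicalComplex.single X.Modules (ComplexShape.up ℤ) 0).obj F)]
    (k' : ℕ)
    (hGV : ∀ (i : ℕ) (y : ↥Y), y ∈ CohB1.support (DCoh.HD ((FMK.phi a b ((HomologicalComplex.single (pullback a b).Modules (ComplexShape.up ℤ) 0).obj P₀)).obj (DCoh.inD X F)) (i : ℤ)) →
      ((i - k' : ℕ) : WithBot ℕ∞) ≤ ringKrullDim ↑(Y.presheaf.stalk y))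
    (i : ℤ) (hi : i < (d : ℤ) - k' ∨ (d : ℤ) < i) :
    IsZero (DCoh.HD ((FMK.phi a b ((HomologicalComplex.single (pullback a b).Modules (ComplexShape.up ℤ) 0).obj (CohB1.tensorMod ((DCoh.sheafHom P₀).obj (Coh.structureModule (pullback a b))) ((Scheme.Modules.pullback (pullback.snd a b)).obj (DCoh.HD (bdx.obj O).obj (-(g : ℤ))))))).obj
      ((DCoh.RSheafHom ((HomologicalComplex.single X.Modules (ComplexShape.up ℤ) 0).obj F)).obj (DCoh.inD X (DCoh.HD (adx.obj O).obj (-(d : ℤ)))))) i) := by
  haveI : Flat a := inferInstance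
  haveI : IsLocallyNoetherian Y := LocallyOfFiniteType.isLocallyNoetherian b
  haveI : ∀ z : ↥(pullback a b), DCoh.HasLpull ((pullback a b).fromSpecResidueField z) := fun z => DCat.hasLpull _
  haveI : ∀ y : ↥Y, DCoh.HasLpull (Y.fromSpecResidueField y) := fun y => DCat.hasLpull _
  let SP := (HomologicalComplex.single (pullback a b).Modules (ComplexShape.up ℤ) 0).obj P₀
  let Pd := (DCoh.sheafHom P₀).obj (Coh.structureModule (pullback a b))
  let SD := (HomologicalComplex.single (pullback a b).Modules (ComplexShape.up ℤ) 0).obj Pd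
  let SF := (HomologicalComplex.single X.Modules (ComplexShape.up ℤ) 0).obj F
  let ω := DCoh.HD (bdx.obj O).obj (-(g : ℤ))
  let ωX := DCoh.HD (adx.obj O).obj (-(d : ℤ))
  let Sω := (HomologicalComplex.single Y.Modules (ComplexShape.up ℤ) 0).obj ω
  haveI := RHomExist.hasRSheafHom SP
  haveI := LTensorSheaf.hasLTensorCx SD
  haveI := LTensorSheaf.hasLTensorCx Sω
  have hPd : FlatMod.IsFinLocFree Pd := FMK16.isFinLocFree_sheafHom hP₀
  have hSP : DCoh.IsPerfect (DerivedCategory.Q.obj SP) := Dual22Lib.PerfLift.isPerfect_single hP₀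
  let eF : DCoh.inD X F ≅ DerivedCategory.Q.obj SF := (DerivedCategory.singleFunctorIsoCompQ X.Modules 0).app F
  have hSF : DCoh.IsPerfect (DerivedCategory.Q.obj SF) := PCTriangle.perfect_iso eF hF
  obtain ⟨eD⟩ := FMK16.nonempty_dual_single P₀ hP₀
  -- the transform of `F`, and its dual
  let E := (FMK.phi a b SP).obj (DCoh.inD X F)
  have hE : DCoh.IsPerfect E := (FMK16.isPerfect_phi k a b SP hSP _ hF).2
  obtain ⟨K, hKf, ⟨eK⟩⟩ := PullPerf.exists_kflat_rep E
  haveI := LTensorSheaf.hasLTensorCx K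
  haveI := RHomExist.hasRSheafHom K
  have hKp : DCoh.IsPerfect (DerivedCategory.Q.obj K) := PCTriangle.perfect_iso eK.symm hE
  obtain ⟨c₀⟩ := S16381.result k X Y a b hXcm hYcm d hd hXeq ha adx adja O hO SP hSP SD
    ⟨((DerivedCategory.singleFunctorIsoCompQ _ 0).app Pd).symm ≪≫ eD⟩ SF hSF K
    ⟨eK ≪≫ (FMK.phi a b SP).mapIso eF⟩
  -- the dualizing modules
  obtain ⟨-, hωX, -⟩ := S3637.result k X a hXcm d hXeq ha adx adja O hO
  obtain ⟨-, hω, hωst⟩ := S3637.result k Y b hYcm g hYeq hb bdx adjb O hO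
  haveI : Coh.IsQCoh ωX := hωX.1
  haveI : Coh.IsQCoh ω := hω.1
  let M := (DCoh.RSheafHom SF).obj (DCoh.inD X ωX)
  have hM : DCoh.IsQCohD M := DQCoh.isQCohD_RHom_perfect SF hSF _ (FlatBC14.isQCohD_inD ωX)
  obtain ⟨s₁⟩ := FMK16.nonempty_phi_shift k a b SD M (d : ℤ)
  obtain ⟨s₂⟩ := BCFlat16.nonempty_map_shift (Dual22Lib.TenLocal.triExact_LTensor Sω)
    ((FMK.phi a b SD).obj M) (d : ℤ)
  obtain ⟨tw⟩ := KernelDual17.nonempty_twist K hKp Sω
  obtain ⟨ph⟩ := FMK16.nonempty_phi_twist k a b Pd hPd ω hω.1 M hM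
  let R := (DCoh.RSheafHom K).obj (DCoh.inD Y ω)
  let c : R ≅ _ := (DCoh.RSheafHom K).mapIso ((DerivedCategory.singleFunctorIsoCompQ Y.Modules 0).app ω) ≪≫
    tw.symm ≪≫ (DCoh.LTensorCx Sω).mapIso (c₀ ≪≫ s₁) ≪≫ s₂ ≪≫ (shiftFunctor (DCoh.D Y) (d : ℤ)).mapIso ph
  refine IsZero.of_iso ?_ ((((DerivedCategory.homologyFunctor Y.Modules 0).shiftIso (d : ℤ) (i - d) i (by omega)).app _).symm ≪≫
    (DerivedCategory.homologyFunctor Y.Modules (i - d)).mapIso c.symm)
  -- the Betti numbers of the transform
  have hb' : ∀ (y : ↥Y) (q : ℤ), PerfD.betti (DerivedCategory.Q.obj K) y q = PerfD.betti E y q := fun y q =>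
    DQCoh.finrank_top_congr ((DerivedCategory.homologyFunctor _ q).mapIso
      ((DCoh.Lpull (Y.fromSpecResidueField y)).mapIso eK))
  have hlow : ∀ (y : ↥Y) (q : ℤ), q < 0 → PerfD.betti (DerivedCategory.Q.obj K) y q = 0 := fun y q hq => by
    rw [hb']
    exact FMK16.betti_phi_neg k a b P₀ hP₀ F hF y q hq
  refine ModStalk.isZero_of_stalks fun y => ?_
  obtain ⟨δ, hδ⟩ := FMK16.exists_dim (R := ↑(Y.presheaf.stalk y))
  haveI : Subsingleton ((DerSch.stalkFunctor Y y).obj (DCoh.HD R (i - d))) := by
    rcases hi with hi | hi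
    · refine FMK16.subsingleton_stalk_rhom_below K hKp ω hω.1
        (fun y => Props12.finite_stalk_of_isFT ω hω.2 y) ?_ k' hlow ?_ δ y hδ _ (by omega)
      · intro z n hn
        obtain ⟨hne, hcm⟩ := hωst z
        have hsupp : Module.support (Y.presheaf.stalk z) (ω.presheaf.stalk z) = Set.univ := by
          refine Set.eq_univ_of_forall fun P => ?_
          rw [Module.mem_support_iff]
          letI := Module.compHom (ω.presheaf.stalk (Y.fromSpecStalk z P))
            (Y.presheaf.stalkSpecializes (CycLim28.fromSpecStalk_specializes z P)).hom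
          obtain ⟨ρ, -, hρ⟩ := CycLib28.isLocalizedModule_stalkSpecializes hω.1 z P
          haveI := hρ
          haveI := (hωst (Y.fromSpecStalk z P)).1
          exact (IsLocalizedModule.iso P.asIdeal.primeCompl ρ).toEquiv.nontrivial
        have hdim : Module.supportDim (Y.presheaf.stalk z) (ω.presheaf.stalk z) = ringKrullDim (Y.presheaf.stalk z) := by
          rw [Module.supportDim, hsupp]
          exact Order.krullDim_eq_of_orderIso OrderIso.Set.univ
        have hcm' : Module.supportDim (Y.presheaf.stalk z) (ω.presheaf.stalk z) = _ := hcm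
        rw [hdim, hn] at hcm'
        exact le_of_eq (WithBot.coe_injective hcm')
      · intro z n hn q hq
        rw [hb']
        refine (FMK16.stalks_above_iff_betti E hE z ((n : ℤ) + k' + 1)).1 (fun j hj => ?_) q (by omega)
        by_contra hne
        have h := hGV j.toNat z (by rwa [Int.toNat_of_nonneg (by omega : (0 : ℤ) ≤ j)])
        rw [hn] at h
        have h' : j.toNat - k' ≤ n := by exact_mod_cast h
        omega
    · exact FMK16.subsingleton_stalk_rhom_above K hKp ω y 0 (hlow y) _ (by omega)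
  exact ModuleCat.isZero_of_subsingleton _

end Groth.Agent.S16384
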