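import Groth.Statements.S16386
import Groth.Agent.AbCubeLib.PowerProduct
-- import your own Groth.Agent.* helpers here

set_option autoImplicit false
universe u
open CategoryTheory MonoidalCategory CartesianMonoidalCategory MonObj GrpObj AlgebraicGeometry
open AbVar

namespace Groth.Agent.S16386

/-- (c₁) ⇒ (a₁): let k be a finite field with q elements and fix a polynomial P with integer
coefficients. Work with abelian varieties over k (proper, geometrically integral commutative group
schemes over k) together with their q-Frobenius endomorphism π (the identity on points and the q-th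
power map on sections; a homomorphism) such that P(π) = 0 in the endomorphism ring; for P the
product of the minimal polynomials of a finite set w of Weil q-numbers these are exactly the abelian
varieties with Weil support in w. Let A be such an abelian variety and suppose that every such Z
admits finitely many homomorphisms ψ_1, …, ψ_n : Z → A which are jointly monomorphic (two T-valued
points of Z over k with the same image under every ψ_i are equal; equivalently (ψ_i) : Z → A^n is an
injective homomorphism). Then the functor X ↦ Hom(X, A), with values in left End(A)-modules (End(A)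
acting by postcomposition), is fully faithful on these abelian varieties: for such X and Y, two
homomorphisms f, g : X → Y inducing the same map Hom(Y, A) → Hom(X, A) are equal, and every additive
End(A)-linear map Hom(Y, A) → Hom(X, A) is precomposition with some homomorphism X → Y. -/
theorem result (k : Type u) [Field k] [Finite k]
    (P : Polynomial ℤ) (A : Over (Spec (CommRingCat.of k))) [GrpObj A] [IsCommMonObj A] [IsProper A.hom] [GeometricallyIntegral A.hom]
    (πA : A ⟶ A) [IsMonHom πA] (hπAb : πA.left.base = 𝟙 _)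
    (hπAle : ∀ U : A.left.Opens, U ≤ πA.left ⁻¹ᵁ U)
    (hπAapp : ∀ (U : A.left.Opens) (s : Γ(A.left, U)), (πA.left.appLE U U (hπAle U)).hom s = s ^ Nat.card k)
    (hPA : Polynomial.eval₂ (Int.castRingHom (EndAV.End A)) (EndAV.End.of πA) P = 0)
    (hcog : ∀ (Z : Over (Spec (CommRingCat.of k))) [GrpObj Z] [IsCommMonObj Z] [IsProper Z.hom] [GeometricallyIntegral Z.hom]
      (πZ : Z ⟶ Z) [IsMonHom πZ] (hπZb : πZ.left.base = 𝟙 _) (hπZle : ∀ U : Z.left.Opens, U ≤ πZ.left ⁻¹ᵁ U)
      (hπZapp : ∀ (U : Z.left.Opens) (s : Γ(Z.left, U)), (πZ.left.appLE U U (hπZle U)).hom s = s ^ Nat.card k)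
      (hPZ : Polynomial.eval₂ (Int.castRingHom (EndAV.End Z)) (EndAV.End.of πZ) P = 0),
      ∃ (n : ℕ) (ψ : Fin n → EndAV.Hom Z A), ∀ (T : Over (Spec (CommRingCat.of k))) (x y : T ⟶ Z),
        (∀ i, x ≫ (ψ i).toHom = y ≫ (ψ i).toHom) → x = y)
    (X Y : Over (Spec (CommRingCat.of k))) [GrpObj X] [IsCommMonObj X] [IsProper X.hom] [GeometricallyIntegral X.hom]
    [GrpObj Y] [IsCommMonObj Y] [IsProper Y.hom] [GeometricallyIntegral Y.hom]
    (πX : X ⟶ X) [IsMonHom πX] (hπXb : πX.left.base = 𝟙 _)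
    (hπXle : ∀ U : X.left.Opens, U ≤ πX.left ⁻¹ᵁ U)
    (hπXapp : ∀ (U : X.left.Opens) (s : Γ(X.left, U)), (πX.left.appLE U U (hπXle U)).hom s = s ^ Nat.card k)
    (hPX : Polynomial.eval₂ (Int.castRingHom (EndAV.End X)) (EndAV.End.of πX) P = 0)
    (πY : Y ⟶ Y) [IsMonHom πY] (hπYb : πY.left.base = 𝟙 _)
    (hπYle : ∀ U : Y.left.Opens, U ≤ πY.left ⁻¹ᵁ U)
    (hπYapp : ∀ (U : Y.left.Opens) (s : Γ(Y.left, U)), (πY.left.appLE U U (hπYle U)).hom s = s ^ Nat.card k)
    (hPY : Polynomial.eval₂ (Int.castRingHom (EndAV.End Y)) (EndAV.End.of πY) P = 0) :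
    (∀ f g : EndAV.Hom X Y, (∀ φ : EndAV.Hom Y A, f ≫ φ = g ≫ φ) → f = g) ∧
      (∀ g : EndAV.Hom Y A →+ EndAV.Hom X A,
        (∀ (φ : EndAV.Hom Y A) (s : EndAV.Hom A A), g (φ ≫ s) = g φ ≫ s) →
          ∃ f : EndAV.Hom X Y, ∀ φ : EndAV.Hom Y A, g φ = f ≫ φ) := by
  classical
  have hY : Groth.Agent.AbCubeLib.Killed P Y := ⟨πY, inferInstance, ⟨hπYb, hπYle, hπYapp⟩, hPY⟩
  have hA : Groth.Agent.AbCubeLib.Killed P A := ⟨πA, inferInstance, ⟨hπAb, hπAle, hπAapp⟩, hPA⟩
  obtain ⟨n, ψ, hψ⟩ := hcog Y πY hπYb hπYle hπYapp hPY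
  refine ⟨fun f g h => EndAV.Hom.ext (hψ X _ _ fun i => by
    simpa using congrArg EndAV.Hom.toHom (h (ψ i))), fun g hg => ?_⟩
  -- a morphism matching `g` on a jointly monomorphic family
  have key : ∀ (m : ℕ) (χ : Fin m → EndAV.Hom Y A),
      (∀ (T : Over (Spec (CommRingCat.of k))) (x y : T ⟶ Y), (∀ i, x ≫ (χ i).toHom = y ≫ (χ i).toHom) → x = y) →
      ∃ f : EndAV.Hom X Y, ∀ i, f ≫ χ i = g (χ i) := by
    intro m χ hχ
    obtain ⟨Pw, _, _, _, _, pr, inc, hip, hsum, hext, hlift⟩ := Groth.Agent.AbCubeLib.exists_power A m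
    obtain ⟨emb, hemb⟩ := hlift Y χ
    obtain ⟨h, hh⟩ := hlift X fun i => g (χ i)
    haveI : Mono emb.toHom := ⟨fun a b hab => hχ _ a b fun i => by
      rw [← congrArg EndAV.Hom.toHom (hemb i), EndAV.Hom.toHom_comp, ← Category.assoc, hab, Category.assoc]⟩
    haveI : IsClosedImmersion emb.toHom.left := Groth.Agent.AbCubeLib.isClosedImmersion_of_mono emb.toHom
    obtain ⟨Q, _, π, hQp, hQg, hπ, hπfl, hπs, hπqc, hπ0, -, hker⟩ :=
      Groth.Agent.AbCubeLib.exists_quotient_subvariety emb.toHom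
    haveI : IsCommMonObj Q := AlgebraicGeometry.isCommMonObj_of_isProper_of_geometricallyIntegral Q
    haveI : Epi π := Over.epi_of_epi_left _
    obtain ⟨πQ, _, ⟨hQb, hQle, hQapp⟩, hPQ⟩ :=
      (Groth.Agent.AbCubeLib.killed_of_pr P pr hext hA).of_epi P π
    obtain ⟨q, χQ, hχQ⟩ := hcog Q πQ hQb hQle hQapp hPQ
    have hhπ : h.toHom ≫ π = 1 := hχQ X _ _ fun i => by
      have e0 : emb ≫ EndAV.Hom.of π = 0 := EndAV.Hom.ext hπ0
      have e2 : EndAV.Hom.of π ≫ χQ i = ∑ t, pr t ≫ (inc t ≫ EndAV.Hom.of π ≫ χQ i) := by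
        conv_lhs => rw [← Category.id_comp (EndAV.Hom.of π ≫ χQ i), ← hsum, Preadditive.sum_comp]
        simp only [Category.assoc]
      have e3 : h ≫ EndAV.Hom.of π ≫ χQ i = g (emb ≫ EndAV.Hom.of π ≫ χQ i) := by
        rw [e2, Preadditive.comp_sum, Preadditive.comp_sum, map_sum]
        refine Finset.sum_congr rfl fun t _ => ?_
        rw [← Category.assoc, hh, ← Category.assoc emb, hemb, hg]
      rw [← Category.assoc emb, e0, Limits.zero_comp, map_zero] at e3
      have e4 := congrArg EndAV.Hom.toHom e3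
      rw [EndAV.Hom.toHom_comp, EndAV.Hom.toHom_comp, EndAV.Hom.toHom_of, EndAV.Hom.toHom_zero] at e4
      rw [MonObj.one_comp, Category.assoc, e4]
    have hset := Groth.Agent.AbCubeLib.preimage_one_eq_range π emb.toHom hπ0 hker
    haveI : IsIntegral X.left := GeometricallyIntegral.isIntegral_of_subsingleton X.hom
    obtain ⟨z, hz⟩ := Groth.Agent.RedSepLib.exists_lift_of_range_subset h.toHom.left emb.toHom.left (by
      rw [← hset]
      rintro _ ⟨x, rfl⟩
      rw [Set.mem_preimage, ← Scheme.Hom.comp_apply, ← Over.comp_left, hhπ, Hom.one_def, Over.comp_left]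
      exact ⟨_, rfl⟩)
    let z' : X ⟶ Y := Over.homMk z (by rw [← Over.w emb.toHom, ← Category.assoc, hz, Over.w])
    have hz' : z' ≫ emb.toHom = h.toHom := Over.OverMorphism.ext hz
    haveI : IsMonHom z' := by
      refine ⟨?_, ?_⟩
      · rw [← cancel_mono emb.toHom, Category.assoc, hz', IsMonHom.one_hom, IsMonHom.one_hom]
      · rw [← cancel_mono emb.toHom, Category.assoc, hz', IsMonHom.mul_hom, Category.assoc, IsMonHom.mul_hom,
          tensorHom_comp_tensorHom_assoc, hz']
    refine ⟨EndAV.Hom.of z', fun i => ?_⟩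
    rw [← hh i, ← hemb i, ← Category.assoc]
    exact congrArg (· ≫ pr i) (EndAV.Hom.ext hz')
  obtain ⟨f, hf⟩ := key n ψ hψ
  refine ⟨f, fun φ => ?_⟩
  obtain ⟨f', hf'⟩ := key (n + 1) (Fin.cons φ ψ) fun T x y h => hψ T x y fun i => by
    simpa using h i.succ
  have : f' = f := EndAV.Hom.ext (hψ X _ _ fun i => by
    have e1 := hf' i.succ
    rw [Fin.cons_succ] at e1
    simpa using congrArg EndAV.Hom.toHom (e1.trans (hf i).symm))
  have h0 := hf' 0
  rw [Fin.cons_zero, this] at h0
  exact h0.symm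

end Groth.Agent.S16386
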