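import Groth.Statements.S16387
import Groth.Agent.AbCubeLib.KerValuation
import Groth.Agent.AbCubeLib.HomRank
import Groth.Agent.AbCubeLib.DenseTorsion
-- import your own Groth.Agent.* helpers here

set_option autoImplicit false
universe u
open CategoryTheory MonoidalCategory CartesianMonoidalCategory MonObj GrpObj AlgebraicGeometry
open AbVar

namespace Groth.Agent.S16387

/-- Let k be a finite field with algebraic closure Ω, l a prime number invertible in k, and A, B abelian
varieties over k (proper, geometrically integral commutative group schemes over k). If the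
homomorphism i : A → B is injective (a closed immersion), then the induced ℤ_l-linear map between
the l-adic Tate modules of Ω-points T_l(i) : T_l A → T_l B is injective with torsion-free, hence
free, cokernel: the quotient of T_l B by the image of T_l A is a free ℤ_l-module. -/
theorem result (k Ω : Type u) [Field k] [Finite k]
    [Field Ω] [Algebra k Ω] [IsAlgClosure k Ω] (l : ℕ) [Fact l.Prime] (hl : (l : k) ≠ 0)
    (A B : Over (Spec (CommRingCat.of k))) [GrpObj A] [IsCommMonObj A] [IsProper A.hom] [GeometricallyIntegral A.hom]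
    [GrpObj B] [IsCommMonObj B] [IsProper B.hom] [GeometricallyIntegral B.hom]
    (i : A ⟶ B) [IsMonHom i] [IsClosedImmersion i.left] :
    Function.Injective (AbDual.tateMapₗ (l := l) (T := SGA7.pt Ω) i) ∧
      Module.Free ℤ_[l] (AbDual.TateMod B l (SGA7.pt Ω) ⧸
        LinearMap.range (AbDual.tateMapₗ (l := l) (T := SGA7.pt Ω) i)) := by
  haveI : IsAlgClosed Ω := IsAlgClosure.isAlgClosed k
  haveI : Mono i.left := inferInstance
  have hmono : ∀ (a b : SGA7.pt Ω ⟶ A), a ≫ i = b ≫ i → a = b := fun a b h =>
    Over.OverMorphism.ext ((cancel_mono i.left).1 (congrArg (fun φ : SGA7.pt Ω ⟶ B => φ.left) h))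
  have hinj : Function.Injective (AbDual.tateMapₗ (l := l) (T := SGA7.pt Ω) i) := fun x y h =>
    AbDual.TateMod.ext fun n => Additive.toMul.injective (hmono _ _
      (congrArg (fun z => (AbDual.TateMod.component B l (SGA7.pt Ω) n z).toMul) h))
  refine ⟨hinj, ?_⟩
  obtain ⟨g, hg⟩ := Groth.Agent.AbCubeLib.exists_dim_eq B
  obtain ⟨bB⟩ := Groth.Agent.AbCubeLib.exists_tate_basis_of_algClosed (A := B) Ω hg (l := l) hl
  haveI : Module.Finite ℤ_[l] (AbDual.TateMod B l (SGA7.pt Ω)) := Module.Finite.of_basis bB
  let R := LinearMap.range (AbDual.tateMapₗ (l := l) (T := SGA7.pt Ω) i)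
  -- saturation
  have hsat : ∀ y : AbDual.TateMod B l (SGA7.pt Ω), (l : ℤ_[l]) • y ∈ R → y ∈ R := by
    rintro y ⟨x, hx⟩
    have hly : ∀ n, (AbDual.TateMod.component B l (SGA7.pt Ω) (n + 1) ((l : ℤ_[l]) • y)).toMul =
        (AbDual.TateMod.component B l (SGA7.pt Ω) n y).toMul := fun n => by
      rw [Nat.cast_smul_eq_nsmul, map_nsmul, toMul_nsmul]
      simpa using Groth.Agent.AbCubeLib.component_pow y n 1
    have hi : ∀ n, (AbDual.TateMod.component A l (SGA7.pt Ω) (n + 1) x).toMul ≫ i =
        (AbDual.TateMod.component B l (SGA7.pt Ω) n y).toMul := fun n =>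
      (AbDual.tateMap_component i x (n + 1)).symm.trans
        ((congrArg (fun z => (AbDual.TateMod.component B l (SGA7.pt Ω) (n + 1) z).toMul) hx).trans (hly n))
    refine ⟨⟨fun n => (x : ℕ → Additive (SGA7.pt Ω ⟶ A)) (n + 1), fun n => ?_, fun n => x.2.2 (n + 1)⟩, ?_⟩
    · refine Additive.toMul.injective (hmono _ _ ?_)
      rw [toMul_nsmul, MonObj.pow_comp, toMul_zero, MonObj.one_comp]
      refine (congrArg (· ^ (l ^ n)) (hi n)).trans ?_
      exact congrArg Additive.toMul (y.2.1 n)
    · exact AbDual.TateMod.ext fun n => Additive.toMul.injective (hi n)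
  haveI : Module.IsTorsionFree ℤ_[l] (AbDual.TateMod B l (SGA7.pt Ω) ⧸ R) := by
    refine Module.IsTorsionFree.mk fun c hc a b hab => ?_
    obtain ⟨a, rfl⟩ := R.mkQ_surjective a
    obtain ⟨b, rfl⟩ := R.mkQ_surjective b
    simp only [Submodule.mkQ_apply, ← Submodule.Quotient.mk_smul, Submodule.Quotient.eq, ← smul_sub] at hab ⊢
    have hc0 : c ≠ 0 := hc.ne_zero
    have h := (Submodule.smul_mem_iff_of_isUnit R (PadicInt.unitCoeff hc0).isUnit).1
      (show ((PadicInt.unitCoeff hc0 : ℤ_[l]ˣ) : ℤ_[l]) • (((l : ℤ_[l]) ^ c.valuation) • (a - b)) ∈ R by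
        rwa [← mul_smul, ← PadicInt.unitCoeff_spec hc0])
    clear hab
    generalize c.valuation = m at h
    induction m with
    | zero => rwa [pow_zero, one_smul] at h
    | succ m ih =>
      rw [pow_succ', mul_smul] at h
      exact ih (hsat _ h)
  exact Module.free_of_finite_type_torsion_free'


end Groth.Agent.S16387
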