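import Groth.Statements.S16390
import Mathlib.NumberTheory.Padics.Hensel
import Mathlib.Analysis.Complex.Norm
import Mathlib.Algebra.Polynomial.SpecificDegree
import Mathlib.RingTheory.Polynomial.SmallDegreeVieta

set_option autoImplicit false
open AbVar

namespace Groth.Agent.S16390

/-- Let p be a prime number, r > 2 and q = p^r. The polynomial x² − p x + q is irreducible over ℚ, each
of its complex roots has absolute value √q (so its roots are Weil q-numbers), and it has two
distinct roots in ℚ_p, of p-adic valuations 1 and r − 1. The published lemma also computes the index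
of the endomorphism algebra of the simple abelian variety attached to a root; this row does not
state that part. -/
theorem result (p r : ℕ) [Fact p.Prime] (hr : 2 < r) :
    Irreducible (Polynomial.X ^ 2 - Polynomial.C (p : ℚ) * Polynomial.X + Polynomial.C ((p : ℚ) ^ r)) ∧
      (∀ π : ℂ, π ^ 2 - (p : ℂ) * π + (p : ℂ) ^ r = 0 → ‖π‖ = Real.sqrt ((p : ℝ) ^ r)) ∧
      ∃ a b : ℚ_[p], a ≠ b ∧ a ^ 2 - (p : ℚ_[p]) * a + (p : ℚ_[p]) ^ r = 0 ∧
        b ^ 2 - (p : ℚ_[p]) * b + (p : ℚ_[p]) ^ r = 0 ∧ a.valuation = 1 ∧ b.valuation = (r : ℤ) - 1 := by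
  set P : Polynomial ℚ := Polynomial.X ^ 2 - Polynomial.C (p : ℚ) * Polynomial.X + Polynomial.C ((p : ℚ) ^ r)
  have hp : 1 < (p : ℝ) := by exact_mod_cast (Fact.out : p.Prime).one_lt
  have hdisc : (p : ℝ) ^ 2 < 4 * (p : ℝ) ^ r := by
    have : (p : ℝ) ^ 2 ≤ (p : ℝ) ^ r := pow_le_pow_right₀ hp.le (by omega)
    nlinarith [pow_pos (lt_trans zero_lt_one hp) r]
  refine ⟨?_, ?_, ?_⟩
  · have hdeg : P.natDegree = 2 := by simp only [P]; compute_degree!
    refine Polynomial.irreducible_of_degree_le_three_of_not_isRoot (by simp [hdeg]) fun x hx => ?_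
    have h : ((x : ℝ)) ^ 2 - p * x + (p : ℝ) ^ r = 0 := by
      simp only [P, Polynomial.IsRoot.def, Polynomial.eval_add, Polynomial.eval_sub, Polynomial.eval_mul,
        Polynomial.eval_pow, Polynomial.eval_X, Polynomial.eval_C] at hx
      exact_mod_cast congrArg (fun t : ℚ => (t : ℝ)) hx
    nlinarith [sq_nonneg (2 * (x : ℝ) - p)]
  · intro π h
    have hre := congrArg Complex.re h
    have him := congrArg Complex.im h
    simp [sq, Complex.mul_re, Complex.mul_im, ← Complex.ofReal_natCast, ← Complex.ofReal_pow] at hre him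
    rw [← Real.sqrt_sq (norm_nonneg π), ← Complex.normSq_eq_norm_sq, Complex.normSq_apply]
    congr 1
    rcases mul_eq_zero.1 (show π.im * (2 * π.re - p) = 0 by linarith) with hi | hi
    · exfalso
      nlinarith [sq_nonneg (2 * π.re - p)]
    · nlinarith [hi]
  · -- Hensel's lemma for `y ^ 2 - y + p ^ (r - 2)`
    obtain ⟨c, hc⟩ : ∃ c : ℤ_[p], c = (p : ℤ_[p]) ^ (r - 2) := ⟨_, rfl⟩
    set F : Polynomial ℤ_[p] := Polynomial.X ^ 2 - Polynomial.X + Polynomial.C c
    have hsmall : ‖c‖ < 1 := by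
      rw [hc, norm_pow, PadicInt.norm_p]
      exact pow_lt_one₀ (by positivity) (inv_lt_one_of_one_lt₀ hp) (by omega)
    obtain ⟨y, hy, hyd, -⟩ := hensels_lemma (F := F) (a := (1 : ℤ_[p])) (by norm_num [F]; exact hsmall)
    simp only [F, Polynomial.aeval_def, Polynomial.eval₂_add, Polynomial.eval₂_sub, Polynomial.eval₂_pow,
      Polynomial.eval₂_X, Polynomial.eval₂_C, Algebra.algebraMap_self, RingHom.id_apply] at hy
    simp [F] at hyd
    norm_num at hyd
    have hy1 : ‖y‖ = 1 := by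
      have := PadicInt.norm_add_eq_max_of_ne (q := y - 1) (r := 1) (by rw [norm_one]; exact ne_of_lt hyd)
      rwa [sub_add_cancel, norm_one, max_eq_right hyd.le] at this
    have hp0 : (p : ℚ_[p]) ≠ 0 := by exact_mod_cast (Fact.out : p.Prime).ne_zero
    rw [hc] at hy
    have hyq : (y : ℚ_[p]) ^ 2 - y + (p : ℚ_[p]) ^ (r - 2) = 0 := by exact_mod_cast congrArg (fun t : ℤ_[p] => (t : ℚ_[p])) hy
    have hy0 : (y : ℚ_[p]) ≠ 0 := fun h => by
      rw [PadicInt.norm_def, h, norm_zero] at hy1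
      exact zero_ne_one hy1
    have hvy : (y : ℚ_[p]).valuation = 0 := by
      have := Padic.norm_eq_zpow_neg_valuation hy0
      rw [← PadicInt.norm_def, hy1, eq_comm, zpow_eq_one_iff_right₀ (by positivity) (by exact_mod_cast hp.ne')] at this
      linarith
    have hpr : (p : ℚ_[p]) ^ r = (p : ℚ_[p]) ^ 2 * (p : ℚ_[p]) ^ (r - 2) := by rw [← pow_add]; congr 1; omega
    have hv1 : ((p : ℚ_[p]) * y).valuation = 1 := by rw [Padic.valuation_mul hp0 hy0, Padic.valuation_p, hvy, add_zero]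
    have hb : (p : ℚ_[p]) * (1 - y) = (p : ℚ_[p]) ^ r / ((p : ℚ_[p]) * y) := by
      rw [eq_div_iff (mul_ne_zero hp0 hy0), hpr]
      linear_combination -(p : ℚ_[p]) ^ 2 * hyq
    have hv2 : ((p : ℚ_[p]) * (1 - y)).valuation = (r : ℤ) - 1 := by
      rw [hb, div_eq_mul_inv, Padic.valuation_mul (pow_ne_zero _ hp0) (inv_ne_zero (mul_ne_zero hp0 hy0)),
        Padic.valuation_inv, hv1, Padic.valuation_pow, Padic.valuation_p]
      ring
    refine ⟨p * y, p * (1 - y), ?_, ?_, ?_, hv1, hv2⟩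
    · intro h
      rw [h, hv2] at hv1
      omega
    · rw [hpr]; linear_combination (p : ℚ_[p]) ^ 2 * hyq
    · rw [hpr]; linear_combination (p : ℚ_[p]) ^ 2 * hyq

end Groth.Agent.S16390
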