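import Groth.Statements.S16391
import Groth.Agent.AbCubeLib.PowerProduct
import Groth.Agent.AbCubeLib.HomRank
import Groth.Agent.AbCubeLib.ImageSubvariety
import Groth.Agent.AbCubeLib.KernelSubvariety
-- import your own Groth.Agent.* helpers here

set_option autoImplicit false
universe u
open CategoryTheory MonoidalCategory CartesianMonoidalCategory MonObj GrpObj AlgebraicGeometry
open AbVar

namespace Groth.Agent.S16391

/-- (c) ⇒ (a₂): let k be a finite field with q elements and fix a polynomial P with integer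
coefficients. Work with abelian varieties over k (proper, geometrically integral commutative group
schemes over k) together with their q-Frobenius endomorphism π (the identity on points, the q-th
power map on sections; a homomorphism) such that P(π) = 0 in the endomorphism ring (for suitable P:
the abelian varieties with Weil support in a given finite set of Weil q-numbers); let A be one of
them and S = End(A) (product = composition). Assume that A is an injective cogenerator: (c₁) every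
such Z admits finitely many homomorphisms Z → A which are jointly monomorphic on T-valued points
over k, and (c₂) for such X, Y and every homomorphism X → Y which is a closed immersion, the
restriction map Hom(Y, A) → Hom(X, A) is surjective. Then the functor X ↦ Hom(X, A) is essentially
surjective onto left S-modules that are free of finite rank over ℤ: for every such module M there
are such an abelian variety X (with its Frobenius and P(π_X) = 0) and an additive bijection M ≅
Hom(X, A) carrying the action of s ∈ S to postcomposition with s. -/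
theorem result
    (k : Type u) [Field k] [Finite k]
    (P : Polynomial ℤ) (A : Over (Spec (CommRingCat.of k))) [GrpObj A] [IsCommMonObj A] [IsProper A.hom] [GeometricallyIntegral A.hom]
    (πA : A ⟶ A) [IsMonHom πA] (hπAb : πA.left.base = 𝟙 _)
    (hπAle : ∀ U : A.left.Opens, U ≤ πA.left ⁻¹ᵁ U)
    (hπAapp : ∀ (U : A.left.Opens) (s : Γ(A.left, U)), (πA.left.appLE U U (hπAle U)).hom s = s ^ Nat.card k)
    (hPA : Polynomial.eval₂ (Int.castRingHom (EndAV.End A)) (EndAV.End.of πA) P = 0)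
    (hcog : ∀ (Z : Over (Spec (CommRingCat.of k))) [GrpObj Z] [IsCommMonObj Z] [IsProper Z.hom] [GeometricallyIntegral Z.hom]
      (πZ : Z ⟶ Z) [IsMonHom πZ] (hπZb : πZ.left.base = 𝟙 _) (hπZle : ∀ U : Z.left.Opens, U ≤ πZ.left ⁻¹ᵁ U)
      (hπZapp : ∀ (U : Z.left.Opens) (s : Γ(Z.left, U)), (πZ.left.appLE U U (hπZle U)).hom s = s ^ Nat.card k)
      (hPZ : Polynomial.eval₂ (Int.castRingHom (EndAV.End Z)) (EndAV.End.of πZ) P = 0),
      ∃ (n : ℕ) (ψ : Fin n → EndAV.Hom Z A), ∀ (T : Over (Spec (CommRingCat.of k))) (x y : T ⟶ Z),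
        (∀ i, x ≫ (ψ i).toHom = y ≫ (ψ i).toHom) → x = y)
    (hext : ∀ (X Y : Over (Spec (CommRingCat.of k))) [GrpObj X] [IsCommMonObj X] [IsProper X.hom] [GeometricallyIntegral X.hom]
      [GrpObj Y] [IsCommMonObj Y] [IsProper Y.hom] [GeometricallyIntegral Y.hom]
      (πX : X ⟶ X) [IsMonHom πX] (hπXb : πX.left.base = 𝟙 _) (hπXle : ∀ U : X.left.Opens, U ≤ πX.left ⁻¹ᵁ U)
      (hπXapp : ∀ (U : X.left.Opens) (s : Γ(X.left, U)), (πX.left.appLE U U (hπXle U)).hom s = s ^ Nat.card k)
      (hPX : Polynomial.eval₂ (Int.castRingHom (EndAV.End X)) (EndAV.End.of πX) P = 0)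
      (πY : Y ⟶ Y) [IsMonHom πY] (hπYb : πY.left.base = 𝟙 _) (hπYle : ∀ U : Y.left.Opens, U ≤ πY.left ⁻¹ᵁ U)
      (hπYapp : ∀ (U : Y.left.Opens) (s : Γ(Y.left, U)), (πY.left.appLE U U (hπYle U)).hom s = s ^ Nat.card k)
      (hPY : Polynomial.eval₂ (Int.castRingHom (EndAV.End Y)) (EndAV.End.of πY) P = 0)
      (φ : EndAV.Hom X Y) [IsClosedImmersion φ.toHom.left] (f : EndAV.Hom X A), ∃ g : EndAV.Hom Y A, φ ≫ g = f)
    (M : Type u) [AddCommGroup M] [Module (EndAV.End A) M] [Module.Finite ℤ M] [Module.Free ℤ M] :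
    ∃ (X : Over (Spec (CommRingCat.of k))) (_ : GrpObj X) (_ : IsCommMonObj X) (_ : IsProper X.hom)
      (_ : GeometricallyIntegral X.hom) (πX : X ⟶ X) (_ : IsMonHom πX) (_ : πX.left.base = 𝟙 _)
      (hπXle : ∀ U : X.left.Opens, U ≤ πX.left ⁻¹ᵁ U)
      (_ : ∀ (U : X.left.Opens) (s : Γ(X.left, U)), (πX.left.appLE U U (hπXle U)).hom s = s ^ Nat.card k)
      (_ : Polynomial.eval₂ (Int.castRingHom (EndAV.End X)) (EndAV.End.of πX) P = 0)
      (e : M ≃+ EndAV.Hom X A), ∀ (s : EndAV.End A) (m : M), (e (s • m)).toHom = (e m).toHom ≫ s.toHom := by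
  classical
  obtain ⟨gA, hgA⟩ := Groth.Agent.AbCubeLib.exists_dim_eq A
  obtain ⟨-, hfinA, -⟩ := Groth.Agent.AbCubeLib.hom_free_finite (A := A) (B := A) hgA hgA
  haveI : Module.Finite ℤ (EndAV.End A) := hfinA
  obtain ⟨n, m, hm⟩ := Module.Finite.exists_fin (R := ℤ) (M := M)
  have hA : Groth.Agent.AbCubeLib.Killed P A := ⟨πA, inferInstance, ⟨hπAb, hπAle, hπAapp⟩, hPA⟩
  obtain ⟨Pn, _, _, _, _, pr, inc, hip, hsum, hext', hlift⟩ := Groth.Agent.AbCubeLib.exists_power A n
  let ev : (Fin n → EndAV.End A) →+ M := AddMonoidHom.mk' (fun c => ∑ i, c i • m i) fun a b => by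
    simp only [Pi.add_apply, add_smul, Finset.sum_add_distrib]
  have hev : Function.Surjective ev := fun x => by
    obtain ⟨a, rfl⟩ := (Submodule.mem_span_range_iff_exists_fun ℤ).1 (hm.ge (Submodule.mem_top (x := x)))
    exact ⟨fun i => ((a i : ℤ) : EndAV.End A), show ∑ i, ((a i : ℤ) : EndAV.End A) • m i = ∑ i, a i • m i from
      Finset.sum_congr rfl fun i _ => Int.cast_smul_eq_zsmul _ (a i) (m i)⟩
  have hevs : ∀ (s : EndAV.End A) c, ev (fun i => s * c i) = s • ev c := fun s c => by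
    show ∑ i, (s * c i) • m i = s • ∑ i, c i • m i
    rw [Finset.smul_sum]
    exact Finset.sum_congr rfl fun i _ => mul_smul _ _ _
  let θ : (Fin n → EndAV.End A) →+ EndAV.Hom Pn A :=
    AddMonoidHom.mk' (fun c => ∑ i, pr i ≫ (c i : EndAV.Hom A A)) fun a b => by
      show ∑ i, pr i ≫ ((a i : EndAV.Hom A A) + (b i : EndAV.Hom A A)) = _
      rw [← Finset.sum_add_distrib]
      exact Finset.sum_congr rfl fun i _ => Preadditive.comp_add _ _ _ (pr i) (a i) (b i)
  have hθs : ∀ (s : EndAV.End A) c, θ (fun i => s * c i) = θ c ≫ (s : EndAV.Hom A A) := fun s c => by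
    show ∑ i, pr i ≫ ((c i : EndAV.Hom A A) ≫ (s : EndAV.Hom A A)) = (∑ i, pr i ≫ (c i : EndAV.Hom A A)) ≫ (s : EndAV.Hom A A)
    rw [Preadditive.sum_comp]
    simp only [Category.assoc]
  have hθinv : ∀ t : EndAV.Hom Pn A, θ (fun i => inc i ≫ t) = t := fun t => by
    show ∑ i, pr i ≫ inc i ≫ t = t
    simp only [← Category.assoc]
    rw [← Preadditive.sum_comp, hsum, Category.id_comp]
  have hθinj : ∀ c, θ c = 0 → c = 0 := fun c hc => funext fun i => by
    have := congrArg (inc i ≫ ·) hc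
    simp only [Limits.comp_zero] at this
    rw [show θ c = ∑ t, pr t ≫ (c t : EndAV.Hom A A) from rfl, Preadditive.comp_sum, Finset.sum_eq_single i] at this
    · rw [← Category.assoc, hip, if_pos rfl, Category.id_comp] at this
      exact this
    · intro t _ hti
      rw [← Category.assoc, hip, if_neg (Ne.symm hti), Limits.zero_comp]
    · exact fun h => absurd (Finset.mem_univ i) h
  -- relations
  obtain ⟨q, r, hr⟩ := Submodule.fg_iff_exists_fin_generating_family.1
    (IsNoetherian.noetherian (LinearMap.ker ev.toIntLinearMap))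
  have hr0 : ∀ t, ev (r t) = 0 := fun t => hr.le (Submodule.subset_span ⟨t, rfl⟩)
  obtain ⟨Z, _, j, hZp, hZg, hj, hjc, hjl, d, hd, hdZ⟩ :=
    Groth.Agent.AbCubeLib.exists_list_kernel_subvariety (List.ofFn fun t => θ (r t))
  haveI : IsCommMonObj Z := AlgebraicGeometry.isCommMonObj_of_isProper_of_geometricallyIntegral Z
  haveI : Mono j := Over.mono_of_mono_left j
  have hjr : ∀ t, EndAV.Hom.of j ≫ θ (r t) = 0 := fun t => EndAV.Hom.ext (hjl _ (List.mem_ofFn.2 ⟨t, rfl⟩))
  let φ : (Fin n → EndAV.End A) →+ EndAV.Hom Z A := AddMonoidHom.mk' (fun c => EndAV.Hom.of j ≫ θ c) fun a b => by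
    rw [map_add, Preadditive.comp_add]
  have hle : ev.ker ≤ φ.ker := fun c hc => by
    have hc' : c ∈ Submodule.span ℤ (Set.range r) := hr.ge (AddMonoidHom.mem_ker.1 hc)
    have hsp : Submodule.span ℤ (Set.range r) ≤ LinearMap.ker φ.toIntLinearMap :=
      Submodule.span_le.2 (by rintro _ ⟨t, rfl⟩; exact hjr t)
    exact hsp hc'
  let e₀ : M →+ EndAV.Hom Z A := AddMonoidHom.liftOfSurjective ev hev ⟨φ, hle⟩
  have he₀ : ∀ c, e₀ (ev c) = φ c := fun c => AddMonoidHom.liftOfRightInverse_comp_apply ev _ _ ⟨φ, hle⟩ c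
  have hZk : Groth.Agent.AbCubeLib.Killed P Z := (Groth.Agent.AbCubeLib.killed_of_pr P pr hext' hA).of_mono P j
  obtain ⟨πZ, _, ⟨hZb, hZle, hZapp⟩, hPZ⟩ := hZk
  have hPnk : Groth.Agent.AbCubeLib.Killed P Pn := Groth.Agent.AbCubeLib.killed_of_pr P pr hext' hA
  -- surjectivity
  have hsurj : Function.Surjective e₀ := fun f => by
    obtain ⟨πP, _, ⟨hPb, hPle, hPapp⟩, hPP⟩ := hPnk
    haveI : IsClosedImmersion (EndAV.Hom.of j).toHom.left := hjc
    obtain ⟨g, hg⟩ := hext Z Pn πZ hZb hZle hZapp hPZ πP hPb hPle hPapp hPP (EndAV.Hom.of j) f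
    exact ⟨ev fun i => inc i ≫ g, by rw [he₀]; show EndAV.Hom.of j ≫ θ _ = f; rw [hθinv, hg]⟩
  -- injectivity
  have hinj : Function.Injective e₀ := (injective_iff_map_eq_zero e₀).2 fun x hx => by
    obtain ⟨c, rfl⟩ := hev x
    rw [he₀] at hx
    obtain ⟨Pq, _, _, _, _, prq, incq, -, hsumq, hextq, hliftq⟩ := Groth.Agent.AbCubeLib.exists_power A q
    obtain ⟨u, hu⟩ := hliftq Pn fun t => θ (r t)
    obtain ⟨Q, _, π, hQp, hQg, hπ, hπfl, hπs, hπqc, hjπ, hπfac, -⟩ :=
      Groth.Agent.AbCubeLib.exists_quotient_subvariety j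
    haveI : IsCommMonObj Q := AlgebraicGeometry.isCommMonObj_of_isProper_of_geometricallyIntegral Q
    haveI : Epi π := Over.epi_of_epi_left _
    haveI : IsProper π.left := Groth.Agent.AbVarLib.isProper_left π
    obtain ⟨ub, hub, hπub⟩ := hπfac Pq u.toHom (hextq Z _ _ fun t => by
      rw [Category.assoc, ← EndAV.Hom.toHom_comp, hu, MonObj.one_comp]
      exact congrArg EndAV.Hom.toHom (hjr t))
    obtain ⟨ψ, hψ, hπψ⟩ := hπfac A (θ c).toHom (congrArg EndAV.Hom.toHom hx)
    haveI : IsFinite ub.left := by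
      refine Groth.Agent.AbCubeLib.isFinite_of_finite_geom_ker ub ?_
      haveI : IsFinite ((𝟙 Q) ^ d).left := Groth.Agent.AbCubeLib.isFinite_pow (A := Q) hd
      refine (Groth.Agent.AbCubeLib.finite_extPt_ker (L := AlgebraicClosure k) ((𝟙 Q) ^ d)).subset fun b hb => ?_
      replace hb : b ≫ ub = 1 := hb
      obtain ⟨a, rfl⟩ := Groth.Agent.AbCubeLib.exists_pts_lift_of_surjective π b
      obtain ⟨z, hz⟩ := hdZ a fun f hf => by
        obtain ⟨t, rfl⟩ := List.mem_ofFn.1 hf
        rw [← hu, EndAV.Hom.toHom_comp, ← hπub, ← Category.assoc, ← Category.assoc, hb, MonObj.one_comp]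
      show (a ≫ π) ≫ (𝟙 Q) ^ d = 1
      rw [MonObj.comp_pow, Category.comp_id, ← MonObj.pow_comp, ← hz, Category.assoc, hjπ, MonObj.comp_one]
    obtain ⟨C, _, jC, qC, hCp, hCg, hjC, hjCc, hqC, hqCs, hqjC, -⟩ := Groth.Agent.AbCubeLib.exists_image_subvariety ub
    haveI : IsCommMonObj C := AlgebraicGeometry.isCommMonObj_of_isProper_of_geometricallyIntegral C
    haveI : Mono jC := Over.mono_of_mono_left jC
    haveI : IsFinite qC.left := by
      haveI : IsFinite (qC.left ≫ jC.left) := by rw [← Over.comp_left, hqjC]; infer_instance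
      exact IsFinite.of_comp qC.left jC.left
    obtain ⟨N, s, hN, hs, hqs, -⟩ := Groth.Agent.AbCubeLib.exists_isogeny_inverse qC
    obtain ⟨πC, _, ⟨hCb, hCle, hCapp⟩, hPC⟩ := (Groth.Agent.AbCubeLib.killed_of_pr P prq hextq hA).of_mono P jC
    obtain ⟨πq, _, ⟨hqb, hqle, hqapp⟩, hPq⟩ := Groth.Agent.AbCubeLib.killed_of_pr P prq hextq hA
    haveI : IsClosedImmersion (EndAV.Hom.of jC).toHom.left := hjCc
    obtain ⟨G, hG⟩ := hext C Pq πC hCb hCle hCapp hPC πq hqb hqle hqapp hPq (EndAV.Hom.of jC) (EndAV.Hom.of (s ≫ ψ))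
    have hG' : jC ≫ G.toHom = s ≫ ψ := by simpa using congrArg EndAV.Hom.toHom hG
    have hkey : N • θ c = u ≫ G := EndAV.Hom.ext (by
      rw [EndAV.Hom.toHom_nsmul, EndAV.Hom.toHom_comp, ← hπub, ← hqjC, ← hπψ, Category.assoc, Category.assoc, hG',
        ← Category.assoc qC, hqs, MonObj.pow_comp, Category.id_comp, MonObj.comp_pow])
    have huG : u ≫ G = θ (∑ t, fun i => HMul.hMul (α := EndAV.End A) (incq t ≫ G) (r t i)) := by
      rw [map_sum]
      simp only [hθs]
      conv_lhs => rw [← Category.id_comp G, ← hsumq, Preadditive.sum_comp, Preadditive.comp_sum]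
      refine Finset.sum_congr rfl fun t _ => ?_
      rw [Category.assoc, ← Category.assoc u, hu]
    have h0 : N • c - ∑ t, (fun i => HMul.hMul (α := EndAV.End A) (incq t ≫ G) (r t i)) = 0 := hθinj _ (by
      rw [map_sub, map_nsmul, hkey, huG, sub_self])
    have h1 : N • ev c = 0 := by
      rw [← map_nsmul, sub_eq_zero.1 h0, map_sum]
      exact Finset.sum_eq_zero fun t _ => by rw [hevs, hr0, smul_zero]
    rw [← natCast_zsmul] at h1
    exact (smul_eq_zero.1 h1).resolve_left (Int.natCast_ne_zero.2 hN.ne')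
  refine ⟨Z, inferInstance, inferInstance, hZp, hZg, πZ, inferInstance, hZb, hZle, hZapp, hPZ,
    AddEquiv.ofBijective e₀ ⟨hinj, hsurj⟩, fun s x => ?_⟩
  obtain ⟨c, rfl⟩ := hev x
  show (e₀ (s • ev c)).toHom = (e₀ (ev c)).toHom ≫ s.toHom
  rw [← hevs, he₀, he₀]
  show EndAV.Hom.toHom (EndAV.Hom.of j ≫ θ _) = _
  rw [hθs, ← Category.assoc]
  rfl

end Groth.Agent.S16391
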