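import Groth.Statements.S16393
import Groth.Agent.AbCubeLib.CommonKernel
-- import your own Groth.Agent.* helpers here

set_option autoImplicit false
universe u
open CategoryTheory MonoidalCategory CartesianMonoidalCategory MonObj GrpObj AlgebraicGeometry
open AbVar

namespace Groth.Agent.S16393

/-- (a₁) ⇒ (b₁): let k be a finite field with q elements and fix a polynomial P with integer
coefficients. Work with abelian varieties over k (proper, geometrically integral commutative group
schemes over k) with their q-Frobenius endomorphism π (identity on points, q-th power on sections; a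
homomorphism) such that P(π) = 0 in the endomorphism ring (for suitable P: the abelian varieties
with Weil support in a given finite set of Weil q-numbers); let A be one of them. Assume (a₁): the
functor X ↦ Hom(X, A), with values in left End(A)-modules (End(A) acting by postcomposition), is
fully faithful on these abelian varieties — for such X, Y, two homomorphisms X → Y agreeing after
composition with every homomorphism Y → A are equal, and every additive End(A)-linear map Hom(Y, A)
→ Hom(X, A) is precomposition with a homomorphism X → Y. Then (b₁): for such X and every finite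
closed subgroup scheme H ⊆ X, H equals the common kernel of the homomorphisms X → A vanishing on H;
on points: a T-valued point of X over k which is sent to the unit by every homomorphism X → A
killing H factors through H. -/
theorem result
    (k : Type u) [Field k] [Finite k]
    (P : Polynomial ℤ) (A : Over (Spec (CommRingCat.of k))) [GrpObj A] [IsCommMonObj A] [IsProper A.hom] [GeometricallyIntegral A.hom]
    (πA : A ⟶ A) [IsMonHom πA] (hπAb : πA.left.base = 𝟙 _) (hπAle : ∀ U : A.left.Opens, U ≤ πA.left ⁻¹ᵁ U)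
      (hπAapp : ∀ (U : A.left.Opens) (s : Γ(A.left, U)), (πA.left.appLE U U (hπAle U)).hom s = s ^ Nat.card k)
    (hPA : Polynomial.eval₂ (Int.castRingHom (EndAV.End A)) (EndAV.End.of πA) P = 0)
    (hff : ∀ (X Y : Over (Spec (CommRingCat.of k))) [GrpObj X] [IsCommMonObj X] [IsProper X.hom] [GeometricallyIntegral X.hom]
      [GrpObj Y] [IsCommMonObj Y] [IsProper Y.hom] [GeometricallyIntegral Y.hom]
      (πX : X ⟶ X) [IsMonHom πX] (hπXb : πX.left.base = 𝟙 _) (hπXle : ∀ U : X.left.Opens, U ≤ πX.left ⁻¹ᵁ U)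
      (hπXapp : ∀ (U : X.left.Opens) (s : Γ(X.left, U)), (πX.left.appLE U U (hπXle U)).hom s = s ^ Nat.card k)
      (hPX : Polynomial.eval₂ (Int.castRingHom (EndAV.End X)) (EndAV.End.of πX) P = 0)
      (πY : Y ⟶ Y) [IsMonHom πY] (hπYb : πY.left.base = 𝟙 _) (hπYle : ∀ U : Y.left.Opens, U ≤ πY.left ⁻¹ᵁ U)
      (hπYapp : ∀ (U : Y.left.Opens) (s : Γ(Y.left, U)), (πY.left.appLE U U (hπYle U)).hom s = s ^ Nat.card k)
      (hPY : Polynomial.eval₂ (Int.castRingHom (EndAV.End Y)) (EndAV.End.of πY) P = 0),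
      (∀ f g : EndAV.Hom X Y, (∀ φ : EndAV.Hom Y A, f ≫ φ = g ≫ φ) → f = g) ∧
        (∀ g : EndAV.Hom Y A →+ EndAV.Hom X A,
          (∀ (φ : EndAV.Hom Y A) (s : EndAV.Hom A A), g (φ ≫ s) = g φ ≫ s) →
            ∃ f : EndAV.Hom X Y, ∀ φ : EndAV.Hom Y A, g φ = f ≫ φ))
    (X : Over (Spec (CommRingCat.of k))) [GrpObj X] [IsCommMonObj X] [IsProper X.hom] [GeometricallyIntegral X.hom]
    (πX : X ⟶ X) [IsMonHom πX] (hπXb : πX.left.base = 𝟙 _) (hπXle : ∀ U : X.left.Opens, U ≤ πX.left ⁻¹ᵁ U)
      (hπXapp : ∀ (U : X.left.Opens) (s : Γ(X.left, U)), (πX.left.appLE U U (hπXle U)).hom s = s ^ Nat.card k)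
    (hPX : Polynomial.eval₂ (Int.castRingHom (EndAV.End X)) (EndAV.End.of πX) P = 0)
    (H : Over (Spec (CommRingCat.of k))) [GrpObj H] [IsFinite H.hom] (i : H ⟶ X) [IsMonHom i] [IsClosedImmersion i.left]
    (T : Over (Spec (CommRingCat.of k))) (x : T ⟶ X)
    (hx : ∀ f : EndAV.Hom X A, i ≫ f.toHom = 1 → x ≫ f.toHom = 1) :
    ∃ y : T ⟶ H, y ≫ i = x := by
  have hff' : Groth.Agent.AbCubeLib.FullyFaithful A P := fun X₁ Y₁ _ _ _ _ _ _ _ _ h₁ h₂ => by
    obtain ⟨π₁, _, ⟨hb₁, hle₁, happ₁⟩, hP₁⟩ := h₁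
    obtain ⟨π₂, _, ⟨hb₂, hle₂, happ₂⟩, hP₂⟩ := h₂
    exact hff X₁ Y₁ π₁ hb₁ hle₁ happ₁ hP₁ π₂ hb₂ hle₂ happ₂ hP₂
  have hX : Groth.Agent.AbCubeLib.Killed P X := ⟨πX, inferInstance, ⟨hπXb, hπXle, hπXapp⟩, hPX⟩
  haveI : Mono i := Over.mono_of_mono_left i
  obtain ⟨Y, _, q, hYp, hYg, hq, hqf, hqfl, hqs, hiq, hker⟩ := Groth.Agent.AbCubeLib.exists_quotient_finite_subgroup X H i
  haveI : IsCommMonObj Y := AlgebraicGeometry.isCommMonObj_of_isProper_of_geometricallyIntegral Y
  haveI : Epi q := Over.epi_of_epi_left _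
  refine hker T x (Groth.Agent.AbCubeLib.eq_one_of_forall_hom P hff' (hX.of_epi P q) (x ≫ q) fun φ => ?_)
  have := hx (EndAV.Hom.of q ≫ φ) (by
    rw [EndAV.Hom.toHom_comp, EndAV.Hom.toHom_of, ← Category.assoc, hiq, MonObj.one_comp])
  rwa [EndAV.Hom.toHom_comp, EndAV.Hom.toHom_of, ← Category.assoc] at this

end Groth.Agent.S16393
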