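import Groth.Statements.S16395
import Groth.Agent.AbCubeLib.CommonKernel
import Groth.Agent.AbCubeLib.HomRank
import Groth.Agent.AbCubeLib.DenseTorsion
-- import your own Groth.Agent.* helpers here

set_option autoImplicit false
universe u
open CategoryTheory MonoidalCategory CartesianMonoidalCategory MonObj GrpObj AlgebraicGeometry
open AbVar

namespace Groth.Agent.S16395

/-- (a) ⇒ (b₂): let k be a finite field with q elements and fix a polynomial P with integer
coefficients. Work with abelian varieties over k (proper, geometrically integral commutative group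
schemes over k) with their q-Frobenius endomorphism π (identity on points, q-th power on sections; a
homomorphism) such that P(π) = 0 in the endomorphism ring (for suitable P: the abelian varieties
with Weil support in a given finite set of Weil q-numbers); let A be one of them and S = End(A)
(product = composition), acting on each Hom(X, A) by postcomposition. Assume (a): the functor X ↦
Hom(X, A) is an anti-equivalence from these abelian varieties onto left S-modules free of finite
rank over ℤ — (a₁) for such X, Y, homomorphisms X → Y agreeing after composition with every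
homomorphism Y → A are equal and every additive S-linear map Hom(Y, A) → Hom(X, A) is precomposition
with a homomorphism X → Y; (a₂) every left S-module whose additive group is free of finite rank over
ℤ is additively and S-linearly isomorphic to Hom(Y, A) for some such Y. Then (b₂): for every such X
and every additive subgroup M ⊆ Hom(X, A) of finite index stable under postcomposition with
endomorphisms of A, a homomorphism f : X → A lies in M as soon as it kills the common kernel of M,
i.e. every T-valued point of X over k sent to the unit by all members of M is sent to the unit by f. -/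
theorem result
    (k : Type u) [Field k] [Finite k]
    (P : Polynomial ℤ) (A : Over (Spec (CommRingCat.of k))) [GrpObj A] [IsCommMonObj A] [IsProper A.hom] [GeometricallyIntegral A.hom]
    (πA : A ⟶ A) [IsMonHom πA] (hπAb : πA.left.base = 𝟙 _) (hπAle : ∀ U : A.left.Opens, U ≤ πA.left ⁻¹ᵁ U)
      (hπAapp : ∀ (U : A.left.Opens) (s : Γ(A.left, U)), (πA.left.appLE U U (hπAle U)).hom s = s ^ Nat.card k)
    (hPA : Polynomial.eval₂ (Int.castRingHom (EndAV.End A)) (EndAV.End.of πA) P = 0)
    (hff : ∀ (X Y : Over (Spec (CommRingCat.of k))) [GrpObj X] [IsCommMonObj X] [IsProper X.hom] [GeometricallyIntegral X.hom]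
      [GrpObj Y] [IsCommMonObj Y] [IsProper Y.hom] [GeometricallyIntegral Y.hom]
      (πX : X ⟶ X) [IsMonHom πX] (hπXb : πX.left.base = 𝟙 _) (hπXle : ∀ U : X.left.Opens, U ≤ πX.left ⁻¹ᵁ U)
      (hπXapp : ∀ (U : X.left.Opens) (s : Γ(X.left, U)), (πX.left.appLE U U (hπXle U)).hom s = s ^ Nat.card k)
      (hPX : Polynomial.eval₂ (Int.castRingHom (EndAV.End X)) (EndAV.End.of πX) P = 0)
      (πY : Y ⟶ Y) [IsMonHom πY] (hπYb : πY.left.base = 𝟙 _) (hπYle : ∀ U : Y.left.Opens, U ≤ πY.left ⁻¹ᵁ U)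
      (hπYapp : ∀ (U : Y.left.Opens) (s : Γ(Y.left, U)), (πY.left.appLE U U (hπYle U)).hom s = s ^ Nat.card k)
      (hPY : Polynomial.eval₂ (Int.castRingHom (EndAV.End Y)) (EndAV.End.of πY) P = 0),
      (∀ f g : EndAV.Hom X Y, (∀ φ : EndAV.Hom Y A, f ≫ φ = g ≫ φ) → f = g) ∧
        (∀ g : EndAV.Hom Y A →+ EndAV.Hom X A,
          (∀ (φ : EndAV.Hom Y A) (s : EndAV.Hom A A), g (φ ≫ s) = g φ ≫ s) →
            ∃ f : EndAV.Hom X Y, ∀ φ : EndAV.Hom Y A, g φ = f ≫ φ))
    (hes : ∀ (M : Type u) [AddCommGroup M] [Module (EndAV.End A) M] [Module.Finite ℤ M] [Module.Free ℤ M],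
      ∃ (Y : Over (Spec (CommRingCat.of k))) (_ : GrpObj Y) (_ : IsCommMonObj Y) (_ : IsProper Y.hom)
        (_ : GeometricallyIntegral Y.hom) (πY : Y ⟶ Y) (_ : IsMonHom πY) (_ : πY.left.base = 𝟙 _)
        (hπYle : ∀ U : Y.left.Opens, U ≤ πY.left ⁻¹ᵁ U)
        (_ : ∀ (U : Y.left.Opens) (s : Γ(Y.left, U)), (πY.left.appLE U U (hπYle U)).hom s = s ^ Nat.card k)
        (_ : Polynomial.eval₂ (Int.castRingHom (EndAV.End Y)) (EndAV.End.of πY) P = 0)
        (e : M ≃+ EndAV.Hom Y A), ∀ (s : EndAV.End A) (m : M), (e (s • m)).toHom = (e m).toHom ≫ s.toHom)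
    (X : Over (Spec (CommRingCat.of k))) [GrpObj X] [IsCommMonObj X] [IsProper X.hom] [GeometricallyIntegral X.hom]
    (πX : X ⟶ X) [IsMonHom πX] (hπXb : πX.left.base = 𝟙 _) (hπXle : ∀ U : X.left.Opens, U ≤ πX.left ⁻¹ᵁ U)
      (hπXapp : ∀ (U : X.left.Opens) (s : Γ(X.left, U)), (πX.left.appLE U U (hπXle U)).hom s = s ^ Nat.card k)
    (hPX : Polynomial.eval₂ (Int.castRingHom (EndAV.End X)) (EndAV.End.of πX) P = 0)
    (M : AddSubgroup (EndAV.Hom X A)) (hM : M.FiniteIndex) (hMS : ∀ r ∈ M, ∀ s : EndAV.Hom A A, r ≫ s ∈ M)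
    (f : EndAV.Hom X A)
    (hf : ∀ (T : Over (Spec (CommRingCat.of k))) (x : T ⟶ X), (∀ r ∈ M, x ≫ EndAV.Hom.toHom r = 1) → x ≫ f.toHom = 1) :
    f ∈ M := by
  have hff' : Groth.Agent.AbCubeLib.FullyFaithful A P := fun X₁ Y₁ _ _ _ _ _ _ _ _ h₁ h₂ => by
    obtain ⟨π₁, _, ⟨hb₁, hle₁, happ₁⟩, hP₁⟩ := h₁
    obtain ⟨π₂, _, ⟨hb₂, hle₂, happ₂⟩, hP₂⟩ := h₂
    exact hff X₁ Y₁ π₁ hb₁ hle₁ happ₁ hP₁ π₂ hb₂ hle₂ happ₂ hP₂
  have hX : Groth.Agent.AbCubeLib.Killed P X := ⟨πX, inferInstance, ⟨hπXb, hπXle, hπXapp⟩, hPX⟩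
  obtain ⟨gX, hgX⟩ := Groth.Agent.AbCubeLib.exists_dim_eq X
  obtain ⟨gA, hgA⟩ := Groth.Agent.AbCubeLib.exists_dim_eq A
  obtain ⟨hfree, hfin, -⟩ := Groth.Agent.AbCubeLib.hom_free_finite (A := X) (B := A) hgX hgA
  haveI : Module.Finite ℤ ↥M := Module.Finite.of_injective M.subtype.toIntLinearMap Subtype.val_injective
  haveI : Module.Free ℤ ↥M := by
    haveI : Module.IsTorsionFree ℤ ↥M := Subtype.val_injective.moduleIsTorsionFree M.subtype.toIntLinearMap
      (fun c m => by exact map_zsmul M.subtype c m)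
    infer_instance
  letI : Module (EndAV.End A) ↥M :=
    { smul := fun s m => ⟨m.1 ≫ s, hMS _ m.2 s⟩
      one_smul := fun m => Subtype.ext (Category.comp_id _)
      mul_smul := fun a b m => Subtype.ext (Category.assoc _ _ _).symm
      smul_zero := fun a => Subtype.ext (Limits.zero_comp)
      smul_add := fun a m n => Subtype.ext (Preadditive.add_comp _ _ _ _ _ _)
      add_smul := fun a b m => Subtype.ext (Preadditive.comp_add _ _ _ _ _ _)
      zero_smul := fun m => Subtype.ext (Limits.comp_zero) }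
  obtain ⟨Y, _, _, _, _, πY, _, hYb, hYle, hYapp, hPY, e, he⟩ := hes ↥M
  have hY : Groth.Agent.AbCubeLib.Killed P Y := ⟨πY, inferInstance, ⟨hYb, hYle, hYapp⟩, hPY⟩
  obtain ⟨r, hr⟩ := (hff' X Y hX hY).2 (M.subtype.comp e.symm.toAddMonoidHom) (fun φ s => by
    have h1 : e.symm (φ ≫ s) = (HSMul.hSMul (α := EndAV.End A) s (e.symm φ) : ↥M) := by
      apply e.injective
      rw [e.apply_symm_apply]
      exact EndAV.Hom.ext (by rw [he, e.apply_symm_apply]; rfl)
    show (e.symm (φ ≫ s) : EndAV.Hom X A) = (e.symm φ : EndAV.Hom X A) ≫ s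
    rw [h1]
    rfl)
  have hrm : ∀ φ, (e.symm φ : EndAV.Hom X A).toHom = r.toHom ≫ φ.toHom := fun φ => congrArg EndAV.Hom.toHom (hr φ)
  haveI : Surjective r.toHom.left := Groth.Agent.AbCubeLib.surjective_of_forall_comp P hff' hY r.toHom fun φ hφ => by
    have h0 : e.symm φ = 0 := Subtype.ext (EndAV.Hom.ext ((hrm φ).trans hφ))
    simpa using congrArg e h0
  haveI : IsProper r.toHom.left := Groth.Agent.AbVarLib.isProper_left r.toHom
  haveI : Flat r.toHom.left := Groth.Agent.AbVarLib.flat_of_surjective r.toHom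
  obtain ⟨φ, hφ⟩ := Groth.Agent.AbCubeLib.exists_desc_fpqc r.toHom f.toHom (fun {W} a b hab => by
    rw [← div_eq_one, ← GrpObj.div_comp]
    refine hf W _ fun m hm => ?_
    have := hrm (e ⟨m, hm⟩)
    rw [e.symm_apply_apply] at this
    rw [this, ← Category.assoc, GrpObj.div_comp, hab, div_self', MonObj.one_comp])
  haveI : IsMonHom φ := Groth.Agent.AbCubeLib.isMonHom_of_comp_fpqc r.toHom φ (by rw [hφ]; infer_instance)
  have hfφ : f = (e.symm (EndAV.Hom.of φ) : EndAV.Hom X A) := EndAV.Hom.ext (by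
    rw [hrm, EndAV.Hom.toHom_of, hφ])
  rw [hfφ]
  exact (e.symm (EndAV.Hom.of φ)).2

end Groth.Agent.S16395
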