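import Groth.Statements.S16396
import Mathlib.Algebra.Category.ModuleCat.Abelian
import Mathlib.CategoryTheory.Limits.Shapes.Countable
import Mathlib.CategoryTheory.Limits.Types.Pullbacks
import Mathlib.Dynamics.Newton
import Mathlib.Order.CompletePartialOrder
import Mathlib.RingTheory.AdicCompletion.Noetherian
import Mathlib.RingTheory.Etale.Weakly
import Mathlib.RingTheory.Flat.TorsionFree
import Mathlib.RingTheory.Ideal.AssociatedPrime.Localization
import Mathlib.RingTheory.PicardGroup
import Mathlib.RingTheory.PowerSeries.NoZeroDivisors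
import Mathlib.RingTheory.PowerSeries.Trunc
import Mathlib.RingTheory.TotallySplit
import Mathlib.Tactic
import Groth.Agent.CommAlg4.Nilpotent
import Groth.Agent.S14020

set_option linter.all false

set_option autoImplicit false
universe u
open CAlg

open CategoryTheory

namespace Groth.Agent.S16396

open Polynomial in
/-- For a commutative ℚ-algebra A, a ℚ-subalgebra B of the polynomial algebra A[X] that contains X and
is closed under d/dX consists exactly of the polynomials each of whose coefficients is the value at
0 of some element of B; in other words B = ev(B)[X], with ev the evaluation at 0. -/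
theorem result
    (A : Type u) [CommRing A] [Algebra ℚ A] (B : Subalgebra ℚ A[X])
    (hX : (X : A[X]) ∈ B) (hD : ∀ P ∈ B, Polynomial.derivative P ∈ B) (P : A[X]) :
    P ∈ B ↔ ∀ i : ℕ, ∃ Q ∈ B, Polynomial.eval 0 Q = P.coeff i := by
  have hasse : ∀ Q ∈ B, ∀ i, hasseDeriv i Q ∈ B := by
    intro Q hQ i
    have h1 : derivative^[i] Q ∈ B := by
      induction i with
      | zero => simpa
      | succ i ih => rw [Function.iterate_succ_apply']; exact hD _ ih
    have h2 : derivative^[i] Q = (i.factorial : ℚ) • hasseDeriv i Q := by
      rw [← factorial_smul_hasseDeriv, Nat.cast_smul_eq_nsmul]; rfl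
    have h3 : hasseDeriv i Q = (i.factorial : ℚ)⁻¹ • derivative^[i] Q := by
      rw [h2, inv_smul_smul₀ (Nat.cast_ne_zero.mpr i.factorial_ne_zero)]
    exact h3 ▸ B.smul_mem h1 _
  constructor
  · intro hP i
    refine ⟨hasseDeriv i P, hasse P hP i, ?_⟩
    rw [← taylor_coeff, taylor_zero]
  · intro h
    rw [P.as_sum_range_C_mul_X_pow]
    refine sum_mem fun i _ => mul_mem ?_ (pow_mem hX i)
    obtain ⟨Q, hQ, hQi⟩ := h i
    rw [← hQi]
    have key : C (Q.eval 0) = (taylor (X : A[X]) (Q.map C)).eval (-X) := by
      rw [taylor_eval, neg_add_cancel, ← coe_evalRingHom]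
      rw [show (0 : A[X]) = C 0 from C_0.symm, coe_evalRingHom, eval_map_apply]
    rw [key, eval_eq_sum_range]
    refine sum_mem fun j _ => mul_mem ?_ (pow_mem (neg_mem hX) j)
    rw [taylor_coeff]
    convert hasse Q hQ j
    have : hasseDeriv j (Q.map C) = (hasseDeriv j Q).map C := by
      ext m; simp [hasseDeriv_coeff]
    rw [this, Polynomial.eval_map, Polynomial.eval₂_C_X]

end Groth.Agent.S16396
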