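import Groth.Statements.S16400
import Mathlib
import Groth.Prelude

set_option linter.all false

set_option autoImplicit false
universe u v
open CAlgX

open scoped Pointwise

namespace Groth.Agent.S16400

theorem exists_rows {K : Type u} [Field K] {N : Type v} [Fintype N] [DecidableEq N] {S : Type v} [Fintype S]
    (B : Matrix N S K) (hB : Function.Injective B.mulVecLin) :
    ∃ T : Finset N, T.card = Fintype.card S ∧ ∀ x, (∀ i ∈ T, (B.mulVec x) i = 0) → x = 0 := by
  classical
  obtain ⟨κ, a, ha, hspan, hli⟩ := exists_linearIndependent' K B.row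
  haveI : Finite κ := Finite.of_injective a ha
  haveI : Fintype κ := Fintype.ofFinite κ
  have hrank : Module.finrank K (Submodule.span K (Set.range B.row)) = Fintype.card S := by
    rw [← Matrix.rank_eq_finrank_span_row, Matrix.rank, LinearMap.finrank_range_of_inj hB, Module.finrank_fintype_fun_eq_card]
  refine ⟨Finset.univ.image a, ?_, fun x hx => hB ?_⟩
  · rw [Finset.card_image_of_injective _ ha, Finset.card_univ, ← finrank_span_eq_card hli, hspan, hrank]
  · rw [map_zero]
    funext i
    have hmem : B.row i ∈ Submodule.span K (Set.range (B.row ∘ a)) := hspan ▸ Submodule.subset_span ⟨i, rfl⟩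
    show B.row i ⬝ᵥ x = 0
    clear hB
    generalize B.row i = r at hmem
    induction hmem using Submodule.span_induction with
    | mem _ h => obtain ⟨j, rfl⟩ := h; exact hx (a j) (Finset.mem_image_of_mem _ (Finset.mem_univ _))
    | zero => exact zero_dotProduct _
    | add r s _ _ h1 h2 => rw [add_dotProduct, h1, h2, add_zero]
    | smul c r _ h => rw [smul_dotProduct, h, smul_zero]

/-- Let K be a field, N a finite index set and A a square matrix over K indexed by N whose linear map on
column vectors has kernel equal to its range (so A composed with A is zero and the three-term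
sequence it defines is exact in the middle). Then there are subsets N₁₂, N₂₁, N₃₁ of N such that the
block of A with rows in N₃₁ and columns in N₂₁, and the block of A with rows outside N₂₁ and columns
in N₁₂, both act bijectively on column vectors. (In the original setting K is the prime field and
middle exactness is supplied by the Cartier isomorphism; here exactness is the hypothesis and K is
any field.) -/
theorem result
    {K : Type u} [Field K] {N : Type v} [Fintype N] [DecidableEq N]
    (A : Matrix N N K)
    (hA : LinearMap.ker A.mulVecLin = LinearMap.range A.mulVecLin) :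
    ∃ N₁₂ N₂₁ N₃₁ : Finset N,
      Function.Bijective (A.submatrix (Subtype.val : ↥N₃₁ → N) (Subtype.val : ↥N₂₁ → N)).mulVecLin ∧
      Function.Bijective
        (A.submatrix (Subtype.val : {x : N // x ∉ N₂₁} → N) (Subtype.val : ↥N₁₂ → N)).mulVecLin := by
  classical
  obtain ⟨κ, a, ha, hspan, hli⟩ := exists_linearIndependent' K A.col
  haveI : Finite κ := Finite.of_injective a ha
  haveI : Fintype κ := Fintype.ofFinite κ
  set N₁₂ := Finset.univ.image a with hN12
  let e : κ ≃ N₁₂ := Equiv.ofBijective (fun j => ⟨a j, Finset.mem_image_of_mem _ (Finset.mem_univ _)⟩)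
    ⟨fun i j h => ha (congrArg Subtype.val h), fun ⟨x, hx⟩ => by
      obtain ⟨j, -, rfl⟩ := Finset.mem_image.1 hx; exact ⟨j, rfl⟩⟩
  let B := A.submatrix id (Subtype.val : N₁₂ → N)
  have hBli : LinearIndependent K B.col := by
    rw [← linearIndependent_equiv e]
    exact hli
  have hBinj : Function.Injective B.mulVecLin := Matrix.mulVec_injective_iff.2 hBli
  have hBr : LinearMap.range B.mulVecLin = LinearMap.range A.mulVecLin := by
    rw [Matrix.range_mulVecLin, Matrix.range_mulVecLin, ← hspan]
    congr 1
    rw [← e.surjective.range_comp B.col]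
    rfl
  obtain ⟨T, hTc, hT⟩ := exists_rows B hBinj
  let C := A.submatrix id (Subtype.val : ↥(Tᶜ : Finset N) → N)
  have hC : Function.Injective C.mulVecLin := by
    rw [injective_iff_map_eq_zero]
    intro x hx
    let x' : N → K := fun i => if h : i ∈ Tᶜ then x ⟨i, h⟩ else 0
    have hx' : A.mulVec x' = C.mulVec x := by
      funext i
      simp only [Matrix.mulVec, dotProduct, C, Matrix.submatrix_apply, id]
      rw [← Finset.sum_subset (Finset.subset_univ Tᶜ) (fun j _ hj => by simp only [x', dif_neg hj, mul_zero]),
        ← Finset.sum_coe_sort]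
      exact Finset.sum_congr rfl fun j _ => by simp only [x', dif_pos j.2]
    have hmem : x' ∈ LinearMap.range B.mulVecLin := by
      rw [hBr, ← hA, LinearMap.mem_ker, Matrix.mulVecLin_apply, hx']
      exact hx
    obtain ⟨z, hz⟩ := hmem
    have hz0 : z = 0 := hT z fun i hi => by
      rw [← Matrix.mulVecLin_apply, hz]
      exact dif_neg (by simpa using hi)
    subst hz0
    funext j
    have := congrFun hz j.1
    rw [map_zero] at this
    simp only [x', dif_pos j.2, Pi.zero_apply] at this
    exact this.symm
  obtain ⟨U, hUc, hU⟩ := exists_rows C hC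
  refine ⟨N₁₂, Tᶜ, U, ?_, ?_⟩
  · have hinj : Function.Injective (A.submatrix (Subtype.val : ↥U → N) (Subtype.val : ↥(Tᶜ : Finset N) → N)).mulVecLin :=
      (injective_iff_map_eq_zero _).2 fun x hx => hU x fun i hi => congrFun hx ⟨i, hi⟩
    exact ⟨hinj, (LinearMap.injective_iff_surjective_of_finrank_eq_finrank (by simp [hUc])).1 hinj⟩
  · have hinj : Function.Injective (A.submatrix (Subtype.val : {x : N // x ∉ Tᶜ} → N) (Subtype.val : ↥N₁₂ → N)).mulVecLin :=
      (injective_iff_map_eq_zero _).2 fun x hx => hT x fun i hi => congrFun hx ⟨i, by simpa using hi⟩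
    refine ⟨hinj, (LinearMap.injective_iff_surjective_of_finrank_eq_finrank ?_).1 hinj⟩
    rw [Module.finrank_fintype_fun_eq_card, Module.finrank_fintype_fun_eq_card, ← hTc,
      Fintype.card_subtype_compl, Fintype.card_coe, Finset.card_compl]
    have := Finset.card_le_univ T
    omega

end Groth.Agent.S16400
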