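import Groth.Statements.S16401
import Mathlib

set_option linter.all false

set_option autoImplicit false
universe u v
open CAlgX

open TensorProduct Matrix

namespace Groth.Agent.S16401

theorem det_mem {R : Type u} [CommRing R] {ι : Type v} [AddCommGroup ι]
    (E : ι → AddSubgroup R) (h0 : E 0 = ⊤)
    (hmul : ∀ a b : ι, ∀ x ∈ E a, ∀ y ∈ E b, x * y ∈ E (a + b))
    {r : ℕ} (wβ wγ : Fin r → ι) (A : Matrix (Fin r) (Fin r) R) (hA : ∀ i j, A i j ∈ E (wγ i - wβ j)) :
    A.det ∈ E ((∑ i, wγ i) - ∑ j, wβ j) := by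
  classical
  rw [Matrix.det_apply']
  refine AddSubgroup.sum_mem _ fun σ _ => ?_
  have hp : ∏ k, A (σ k) k ∈ E (∑ k, (wγ (σ k) - wβ k)) := by
    induction (Finset.univ : Finset (Fin r)) using Finset.induction_on with
    | empty => simp [h0]
    | insert a s ha ih =>
      rw [Finset.prod_insert ha, Finset.sum_insert ha]
      exact hmul _ _ _ (hA _ _) _ ih
  rw [Finset.sum_sub_distrib, Equiv.sum_comp σ wγ] at hp
  have := hmul 0 _ ((Equiv.Perm.sign σ : ℤ) : R) (by simp [h0]) _ hp
  rwa [zero_add] at this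

/-- Let R be a commutative ring and (E_a), a ∈ ι, a family of additive subgroups of R indexed by an
additive commutative group ι, with E_0 = R and E_a · E_b ⊆ E_{a+b}. Let β, γ : Fin r → ι be weight
vectors with Σ_j β_j = Σ_i γ_i, and let ϑ be an r × r matrix over R with ϑ_{ij} ∈ E_{γ_i − β_j} for
all i, j and with unit determinant. Then a column vector u satisfies u_j ∈ E_{β_j} for every j if
and only if (ϑ u)_i ∈ E_{γ_i} for every i; since ϑ is invertible this says that ϑ maps the box Π_j
E_{β_j} bijectively onto the box Π_i E_{γ_i}. -/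
theorem result
    {R : Type u} [CommRing R] {ι : Type v} [AddCommGroup ι]
    (E : ι → AddSubgroup R) (h0 : E 0 = ⊤)
    (hmul : ∀ a b : ι, ∀ x ∈ E a, ∀ y ∈ E b, x * y ∈ E (a + b))
    {r : ℕ} (wβ wγ : Fin r → ι) (hsum : ∑ j, wβ j = ∑ i, wγ i)
    (ϑ : Matrix (Fin r) (Fin r) R) (hϑ : ∀ i j, ϑ i j ∈ E (wγ i - wβ j))
    (hdet : IsUnit ϑ.det) (u : Fin r → R) :
    (∀ j, u j ∈ E (wβ j)) ↔ ∀ i, ϑ.mulVec u i ∈ E (wγ i) := by
  classical
  refine ⟨fun h i => ?_, fun h j => ?_⟩
  · simp only [Matrix.mulVec, dotProduct]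
    refine AddSubgroup.sum_mem _ fun j _ => ?_
    have := hmul _ _ _ (hϑ i j) _ (h j)
    rwa [sub_add_cancel] at this
  · have hadj : ∀ i, ϑ.adjugate j i ∈ E (wβ j - wγ i) := by
      intro i
      rw [Matrix.adjugate_apply]
      have := det_mem E h0 hmul wβ (Function.update wγ i (wβ j)) (ϑ.updateRow i (Pi.single j 1)) (by
        intro a b
        rcases eq_or_ne a i with rfl | hai
        · rw [Matrix.updateRow_self, Function.update_self]
          rcases eq_or_ne b j with rfl | hbj
          · simp [h0]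
          · simp [hbj]
        · rw [Matrix.updateRow_ne hai, Function.update_of_ne hai]; exact hϑ a b)
      convert this using 2
      rw [Finset.sum_update_of_mem (Finset.mem_univ i), hsum,
        ← Finset.add_sum_erase _ wγ (Finset.mem_univ i), Finset.sdiff_singleton_eq_erase]
      abel
    obtain ⟨c, hc⟩ := hdet.exists_left_inv
    have h2 : (ϑ.adjugate.mulVec (ϑ.mulVec u)) j ∈ E (wβ j) := by
      show (∑ i, ϑ.adjugate j i * ϑ.mulVec u i) ∈ E (wβ j)
      refine AddSubgroup.sum_mem _ fun i _ => ?_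
      have := hmul _ _ _ (hadj i) _ (h i)
      rwa [sub_add_cancel] at this
    rw [Matrix.mulVec_mulVec, Matrix.adjugate_mul, Matrix.smul_mulVec, Matrix.one_mulVec] at h2
    have := hmul 0 _ c (by simp [h0]) _ h2
    rwa [zero_add, Pi.smul_apply, smul_eq_mul, ← mul_assoc, hc, one_mul] at this

end Groth.Agent.S16401
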