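import Groth.Statements.S16405
import Mathlib.Tactic

set_option autoImplicit false
universe u v
open InvQ

namespace Groth.Agent.S16405

/-- In weight form. Let b : L → ℤ^r be an injective homomorphism of abelian groups (the case in view: L
the character group of a maximal torus T of a semisimple group over ℂ and b the map dual to the
surjection of the rank-r split torus T' onto T that sends the i-th coordinate cocharacter to the
primitive generator of the i-th ray of the Weyl chamber; only the injectivity of b is used, and ℂ is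
replaced by any commutative ring k). Grade the monoid algebra k[L × ℕ^r] (the coordinate ring of T ×
𝔸^r) by ℤ^r, the monomial (w, n) having weight b(w) + n (the weights of the T'-action u·(t, v) =
(b^∨(u) t, u v)), and grade k[ℕ^r] by ℤ^r/b(L), the monomial n having weight the class of n (the
weights of the action on 𝔸^r of the diagonalizable kernel Z of T' → T, a finite group in the case in
view). For a diagonalizable group acting on an affine scheme the ring of invariants is the
weight-zero part, so the two weight-zero parts are the coordinate rings of the quotients (T ×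
𝔸^r)//T' and 𝔸^r//Z. The statement: the algebra map k[L × ℕ^r] → k[ℕ^r] induced by the projection L
× ℕ^r → ℕ^r (restriction to the slice 1 × 𝔸^r) maps the weight-zero part of k[L × ℕ^r] bijectively
onto the weight-zero part of k[ℕ^r]; hence it induces an isomorphism of k-algebras between them. -/
theorem result
    (k : Type u) [CommRing k] (r : ℕ) (L : Type v) [AddCommGroup L]
    (b : L →+ (Fin r → ℤ)) (hb : Function.Injective b) :
    Set.BijOn
      (AddMonoidAlgebra.mapDomainAlgHom k k (AddMonoidHom.snd L (Fin r → ℕ)))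
      (AddMonoidAlgebra.gradeBy k
        (b.comp (AddMonoidHom.fst L (Fin r → ℕ)) +
          (AddMonoidHom.compLeft (Nat.castAddMonoidHom ℤ) (Fin r)).comp (AddMonoidHom.snd L (Fin r → ℕ))) 0 :
        Set (AddMonoidAlgebra k (L × (Fin r → ℕ))))
      (AddMonoidAlgebra.gradeBy k
        ((QuotientAddGroup.mk' b.range).comp (AddMonoidHom.compLeft (Nat.castAddMonoidHom ℤ) (Fin r))) 0 :
        Set (AddMonoidAlgebra k (Fin r → ℕ))) := by
  classical
  set wL := b.comp (AddMonoidHom.fst L (Fin r → ℕ)) +
    (AddMonoidHom.compLeft (Nat.castAddMonoidHom ℤ) (Fin r)).comp (AddMonoidHom.snd L (Fin r → ℕ)) with hwL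
  set wR := (QuotientAddGroup.mk' b.range).comp (AddMonoidHom.compLeft (Nat.castAddMonoidHom ℤ) (Fin r)) with hwR
  let cast : (Fin r → ℕ) → (Fin r → ℤ) := fun n i => (n i : ℤ)
  have hwLv : ∀ w n, wL (w, n) = b w + cast n := fun w n => rfl
  have hwRv : ∀ n, wR n = 0 ↔ cast n ∈ b.range := fun n => QuotientAddGroup.eq_zero_iff _
  have hS : Set.BijOn (Prod.snd : L × (Fin r → ℕ) → _) {m | wL m = 0} {n | wR n = 0} := by
    refine ⟨fun m hm => ?_, fun m hm m' hm' e => ?_, fun n hn => ?_⟩
    · refine (hwRv _).2 ⟨-m.1, ?_⟩
      have : b m.1 + cast m.2 = 0 := hm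
      rw [map_neg]; exact neg_eq_of_add_eq_zero_right this
    · have h1 : b m.1 + cast m.2 = 0 := hm
      have h2 : b m'.1 + cast m'.2 = 0 := hm'
      rw [e] at h1
      exact Prod.ext (hb (add_right_cancel (h1.trans h2.symm))) e
    · obtain ⟨w, hw⟩ := (hwRv n).1 hn
      exact ⟨(-w, n), by show b (-w) + cast n = 0; rw [map_neg, hw, neg_add_cancel], rfl⟩
  refine ⟨fun f hf => ?_, fun f hf g hg h => ?_, fun g hg => ?_⟩
  · rw [SetLike.mem_coe, AddMonoidAlgebra.mem_gradeBy_iff] at hf ⊢
    intro n hn
    obtain ⟨m, hm, rfl⟩ := Finset.mem_image.1 (Finsupp.mapDomain_support hn)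
    exact hS.mapsTo (hf hm)
  · rw [SetLike.mem_coe, AddMonoidAlgebra.mem_gradeBy_iff] at hf hg
    exact AddMonoidAlgebra.coeff_injective (Finsupp.mapDomain_injOn {m | wL m = 0} hS.injOn hf hg (congrArg AddMonoidAlgebra.coeff h))
  · rw [SetLike.mem_coe, AddMonoidAlgebra.mem_gradeBy_iff] at hg
    choose! s hs hs' using fun n (hn : n ∈ {n | wR n = 0}) => hS.surjOn hn
    refine ⟨g.mapDomain s, ?_, ?_⟩
    · rw [SetLike.mem_coe, AddMonoidAlgebra.mem_gradeBy_iff]
      intro m hm
      obtain ⟨n, hn, rfl⟩ := Finset.mem_image.1 (Finsupp.mapDomain_support hm)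
      exact hs n (hg hn)
    · show (g.mapDomain s).mapDomain Prod.snd = g
      apply AddMonoidAlgebra.coeff_injective
      simp only [AddMonoidAlgebra.coeff_mapDomain, ← Finsupp.mapDomain_comp]
      exact (Finsupp.mapDomain_congr fun n hn => hs' n (hg hn)).trans Finsupp.mapDomain_id

end Groth.Agent.S16405
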