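import Groth.Statements.S1641
import Groth.Agent.VarietyLib.CurveDegreeApps
import Groth.Agent.EulerLib.Positive

set_option autoImplicit false
universe u
open CategoryTheory CategoryTheory.Limits AlgebraicGeometry
open Variety
open Groth.Agent

namespace Groth.Agent.S1641

theorem length_structure_stalk {X : Scheme.{u}} (ξ : X) :
    Module.length (X.presheaf.stalk ξ) ((Coh.structureModule X).presheaf.stalk ξ) =
      Module.length (X.presheaf.stalk ξ) (X.presheaf.stalk ξ) := by
  have hW : FlatMod.IsFinLocFreeOfRank 1 (Coh.structureModule X) :=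
    PicLib.isFinLocFreeOfRank_one AmpleLib.isInvertible_structureModule
  haveI := LocFreeLib.isQCoh_of_isFinLocFreeOfRank hW
  haveI := Props12.free_stalk_of_isFinLocFree (Coh.structureModule X) (VarietyLib.isFinLocFree_of_rank hW) ξ
  obtain ⟨U, n', hξ, hb⟩ := Props12.exists_nhd_basis_stalk (Coh.structureModule X) (VarietyLib.isFinLocFree_of_rank hW) ξ
  obtain ⟨b'⟩ := hb ξ hξ
  haveI := Module.Finite.of_basis b'
  let b := Module.finBasisOfFinrankEq (X.presheaf.stalk ξ) ((Coh.structureModule X).presheaf.stalk ξ)
    (VarietyLib.finrank_stalk_of_rank hW ξ)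
  rw [b.equivFun.length_eq, Module.length_pi_of_fintype]
  simp


/-- Let X be proper of dimension at most one over k and E finite locally free of rank n. Then deg E is
the sum, over the irreducible components C of X of dimension one with their reduced induced
structure, of m_C · deg(E|_C), where m_C is the length of the local ring of X at the generic point
of C. -/
theorem result (k : Type u) [Field k] (X : Scheme.{u}) [X.Over (Spec (CommRingCat.of k))] [IsProper (X ↘ (Spec (CommRingCat.of k)))] [IsNoetherian X] (hdim : topologicalKrullDim X ≤ 1)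
    (n : ℕ) (E : X.Modules) (hE : FlatMod.IsFinLocFreeOfRank n E) :
    Curv2.deg k X E n = ∑ᶠ Z : irreducibleComponents (X : Type u),
      (if topologicalKrullDim (Z.1 : Set X) = 1 then
        ((Module.length (X.presheaf.stalk Z.2.1.genericPoint) (X.presheaf.stalk Z.2.1.genericPoint)).toNat : ℤ) *
          @Curv2.deg k _ (X.irreducibleComponentIdeal Z.1 Z.2).radical.subscheme ⟨(X.irreducibleComponentIdeal Z.1 Z.2).radical.subschemeι ≫ (X ↘ (Spec (CommRingCat.of k)))⟩ ((Scheme.Modules.pullback (X.irreducibleComponentIdeal Z.1 Z.2).radical.subschemeι).obj E) n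
      else 0) := by
  classical
  obtain ⟨S, hS1, hS2, hsum⟩ := VarietyLib.degFun_eq_sum k hdim hE
  have hO : Coh.IsCoh (Coh.structureModule X) := Coherent.isCoh_structureModule X
  rw [← VarietyLib.degFun_structure k E, hsum _ hO]
  haveI : Fintype (irreducibleComponents (X : Type u)) :=
    (TopologicalSpace.NoetherianSpace.finite_irreducibleComponents).fintype
  rw [finsum_eq_sum_of_fintype, ← Finset.sum_filter]
  have hdu : topologicalKrullDim (Set.univ : Set X) ≤ ((1 : ℕ) : WithBot ℕ∞) :=
    ((Homeomorph.Set.univ X).isInducing.topologicalKrullDim_le).trans hdim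
  have hcl : ∀ Z : irreducibleComponents (X : Type u), closure ({Z.2.1.genericPoint} : Set X) = Z.1 :=
    fun Z => (Z.2.1.isGenericPoint_genericPoint (isClosed_of_mem_irreducibleComponents _ Z.2)).def
  refine (Finset.sum_bij (fun (Z : irreducibleComponents (X : Type u)) _ => Z.2.1.genericPoint) ?_ ?_ ?_ ?_).symm
  · intro Z hZ
    exact hS1 _ (by rw [hcl Z]; exact (Finset.mem_filter.1 hZ).2)
  · intro Z _ Z' _ h
    exact Subtype.ext (by rw [← hcl Z, ← hcl Z', h])
  · intro ξ hξ
    obtain ⟨C, hC, hsub⟩ : ∃ C ∈ irreducibleComponents (X : Type u), closure ({ξ} : Set X) ⊆ C :=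
      exists_mem_irreducibleComponents_subset_of_isIrreducible _ isIrreducible_singleton.closure
    have heq : closure ({ξ} : Set X) = C := by
      let η := hC.1.genericPoint
      have hη : closure ({η} : Set X) = C := (hC.1.isGenericPoint_genericPoint (isClosed_of_mem_irreducibleComponents _ hC)).def
      by_cases h : η ∈ closure ({ξ} : Set X)
      · exact hsub.antisymm (by rw [← hη]; exact closure_minimal (Set.singleton_subset_iff.2 h) isClosed_closure)
      · exfalso
        have hlt := EulerLib.dim_lt_of_notMem isClosed_closure hsub (isClosed_of_mem_irreducibleComponents _ hC) hη h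
          ((EulerLib.dim_mono (Set.subset_univ C)).trans hdu)
        rw [hS2 ξ hξ] at hlt
        exact lt_irrefl _ hlt
    refine ⟨⟨C, hC⟩, Finset.mem_filter.2 ⟨Finset.mem_univ _, ?_⟩, ?_⟩
    · show topologicalKrullDim C = 1
      rw [← heq]
      exact hS2 ξ hξ
    · exact ((hC.1.isGenericPoint_genericPoint (isClosed_of_mem_irreducibleComponents _ hC)).eq
        (show IsGenericPoint ξ C from heq))
  · intro Z _
    have e : (X.irreducibleComponentIdeal Z.1 Z.2).radical = AssSch12.clI Z.2.1.genericPoint := by
      rw [← Scheme.IdealSheafData.vanishingIdeal_support]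
      exact congrArg Scheme.IdealSheafData.vanishingIdeal (TopologicalSpace.Closeds.ext (hcl Z).symm)
    rw [e, nsmul_eq_mul, VarietyLib.mult, length_structure_stalk]
    congr 1
    letI : (AssSch12.clI Z.2.1.genericPoint).subscheme.Over (Spec (CommRingCat.of k)) :=
      ⟨(AssSch12.clI Z.2.1.genericPoint).subschemeι ≫ (X ↘ (Spec (CommRingCat.of k)))⟩
    haveI : IsProper ((AssSch12.clI Z.2.1.genericPoint).subscheme ↘ Spec (CommRingCat.of k)) :=
      inferInstanceAs (IsProper ((AssSch12.clI Z.2.1.genericPoint).subschemeι ≫ (X ↘ Spec (CommRingCat.of k))))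
    exact (VarietyLib.degFun_push k (AssSch12.clI Z.2.1.genericPoint).subschemeι rfl hE).symm

end Groth.Agent.S1641
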