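import Groth.Statements.S16415
import Mathlib
import Groth.Prelude
import Groth.Agent.CommAlg4.SplitBasis

set_option linter.all false

set_option autoImplicit false
open Dieud

open scoped BigOperators

namespace Groth.Agent.S16415

/-- Let μ be a rational number with 0 < μ ≤ 1, N a natural number and i an integer. The minimum of m +
jμ over all pairs of integers (m, j) with m ≥ max(−i−j, −j, 0) and 2m + i + 2j ≥ N exists and equals
μ · max(⌈(N−i)/2⌉, −i, 0). (The published statement prints the value as max(⌈(N−i)/2⌉, −iμ, 0),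
without the factor μ on the first term; the printed argument computes μ · max(⌈(N−i)/2⌉, −i, 0),
attained at m = 0, and for N = 2, i = 0, μ = 1/2 the pair (m, j) = (0, 1) gives 1/2 < 1, so the
value with the factor μ is stated here.) -/
theorem result (μ : ℚ) (hμ0 : 0 < μ) (hμ1 : μ ≤ 1)
    (N : ℕ) (i : ℤ) :
    IsLeast {x : ℚ | ∃ m j : ℤ, max (max (-i - j) (-j)) 0 ≤ m ∧ (N : ℤ) ≤ 2 * m + i + 2 * j ∧
        x = (m : ℚ) + (j : ℚ) * μ}
      (((max (max ⌈((N : ℚ) - i) / 2⌉ (-i)) 0 : ℤ) : ℚ) * μ) := by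
  set c := ⌈((N : ℚ) - i) / 2⌉ with hc
  have hc1 : (N : ℤ) ≤ 2 * c + i := by
    have : ((N : ℚ) - i) / 2 ≤ (c : ℚ) := Int.le_ceil _
    have : ((N : ℤ) : ℚ) ≤ ((2 * c + i : ℤ) : ℚ) := by push_cast; linarith
    exact_mod_cast this
  set M := max (max c (-i)) 0 with hM
  refine ⟨⟨0, M, by omega, by omega, by push_cast; ring⟩, ?_⟩
  rintro _ ⟨m, j, h1, h2, rfl⟩
  have hc2 : c ≤ m + j := by
    rw [hc, Int.ceil_le]
    have : ((N : ℤ) : ℚ) ≤ ((2 * m + i + 2 * j : ℤ) : ℚ) := by exact_mod_cast h2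
    push_cast at this ⊢
    linarith
  have hMle : M ≤ m + j := by omega
  have hm0 : (0 : ℚ) ≤ m := by exact_mod_cast (show (0 : ℤ) ≤ m by omega)
  have h3 : (M : ℚ) * μ ≤ ((m : ℚ) + j) * μ := mul_le_mul_of_nonneg_right (by exact_mod_cast hMle) hμ0.le
  linarith [mul_le_mul_of_nonneg_left hμ1 hm0]

end Groth.Agent.S16415
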