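import Groth.Statements.S16417
import Mathlib
-- import your own Groth.Agent.* helpers here

set_option autoImplicit false
universe u v w
open Dieud

namespace Groth.Agent.S16417

/-- For a prime p and a perfect field k of characteristic p, write W = W(k) for the ring of Witt vectors
and σ for its Frobenius; let M and N be free W-modules of finite rank, each with additive maps F
(σ-semilinear) and V (with V(σ(a)m) = aV(m)) satisfying FV = VF = p, and H = Hom_W(M, N); write VM ⊆
M and VN ⊆ N for the images of V. (a) A W-linear h : M → N maps VM into VN if and only if h(V m) =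
V(h'(m)) for all m for some W-linear h' : M → N (so the maps with this property form H ∩ V·H). (b)
The natural map from H to the W-linear maps VM → N/VN has image exactly the maps vanishing on pM =
V(FM): every such map is induced by some h ∈ H. (c) The W-length of H/(H ∩ V·H) is r₂ s₁, where r₂
is the length of N/VN and s₁ = rank M − length(M/VM) is the length of VM/pM. (The published
statement is for the Cartier modules of two p-divisible formal groups over k, every slope of the
first below every slope of the second, and phrases (b), (c) as an isomorphism of H/(H ∩ VH) with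
Hom_k(VM/pM, N/VN); only the structure listed is used, so connectedness and the slope condition are
not assumed.) -/
theorem result
    (p : ℕ) [Fact p.Prime] (k : Type u) [Field k] [CharP k p] [PerfectRing k p]
    (M : Type v) [AddCommGroup M] [Module (WittVector p k) M]
    [Module.Free (WittVector p k) M] [Module.Finite (WittVector p k) M]
    (N : Type w) [AddCommGroup N] [Module (WittVector p k) N]
    [Module.Free (WittVector p k) N] [Module.Finite (WittVector p k) N]
    (FM VM : M →+ M) (FN VN : N →+ N)
    (hFM : ∀ (a : WittVector p k) (m : M), FM (a • m) = WittVector.frobenius a • FM m)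
    (hVM : ∀ (a : WittVector p k) (m : M), VM (WittVector.frobenius a • m) = a • VM m)
    (hFVM : ∀ m : M, FM (VM m) = (p : WittVector p k) • m)
    (hVFM : ∀ m : M, VM (FM m) = (p : WittVector p k) • m)
    (hFN : ∀ (a : WittVector p k) (n : N), FN (a • n) = WittVector.frobenius a • FN n)
    (hVN : ∀ (a : WittVector p k) (n : N), VN (WittVector.frobenius a • n) = a • VN n)
    (hFVN : ∀ n : N, FN (VN n) = (p : WittVector p k) • n)
    (hVFN : ∀ n : N, VN (FN n) = (p : WittVector p k) • n)
    (r₂ s₁ : ℕ)
    (hr₂ : Module.length (WittVector p k) (N ⧸ Submodule.span (WittVector p k) (Set.range VN)) = r₂)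
    (hs₁ : (Module.finrank (WittVector p k) M : ℕ∞) =
      Module.length (WittVector p k) (M ⧸ Submodule.span (WittVector p k) (Set.range VM)) + s₁) :
    (∀ h : M →ₗ[WittVector p k] N,
      (∀ m : M, h (VM m) ∈ Submodule.span (WittVector p k) (Set.range VN)) ↔
        ∃ h' : M →ₗ[WittVector p k] N, ∀ m : M, h (VM m) = VN (h' m)) ∧
    (∀ g : Submodule.span (WittVector p k) (Set.range VM) →ₗ[WittVector p k]
        N ⧸ Submodule.span (WittVector p k) (Set.range VN),
      (∀ m : M, g ⟨VM (FM m), Submodule.subset_span ⟨FM m, rfl⟩⟩ = 0) →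
      ∃ h : M →ₗ[WittVector p k] N, ∀ x : Submodule.span (WittVector p k) (Set.range VM),
        (Submodule.span (WittVector p k) (Set.range VN)).mkQ (h x) = g x) ∧
    Module.length (WittVector p k) ((M →ₗ[WittVector p k] N) ⧸
      ⨅ m : M, (Submodule.span (WittVector p k) (Set.range VN)).comap
        (LinearMap.applyₗ (VM m) : (M →ₗ[WittVector p k] N) →ₗ[WittVector p k] N)) = (r₂ * s₁ : ℕ) := by
  classical
  let W := WittVector p k
  let φ : W →+* W := WittVector.frobenius
  have hσ : Function.Surjective φ := (WittVector.frobenius_bijective p k).surjective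
  have hp0 : (p : W) ≠ 0 := (WittVector.irreducible p).ne_zero
  have hpirr : Irreducible (p : W) := WittVector.irreducible p
  have hVNinj : Function.Injective VN := fun x y h => by
    have := congrArg FN h
    rw [hFVN, hFVN] at this
    exact smul_right_injective N hp0 this
  have hmemM : ∀ x, x ∈ Submodule.span W (Set.range VM) ↔ ∃ m, VM m = x := by
    intro x
    refine ⟨fun hx => ?_, fun ⟨m, hm⟩ => Submodule.subset_span ⟨m, hm⟩⟩
    induction hx using Submodule.span_induction with
    | mem x hx => exact hx
    | zero => exact ⟨0, map_zero _⟩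
    | add x y _ _ hx hy =>
      obtain ⟨m, rfl⟩ := hx; obtain ⟨m', rfl⟩ := hy; exact ⟨m + m', map_add _ _ _⟩
    | smul a x _ hx => obtain ⟨m, rfl⟩ := hx; exact ⟨φ a • m, hVM a m⟩
  have hmemN : ∀ x, x ∈ Submodule.span W (Set.range VN) ↔ ∃ n, VN n = x := by
    intro x
    refine ⟨fun hx => ?_, fun ⟨m, hm⟩ => Submodule.subset_span ⟨m, hm⟩⟩
    induction hx using Submodule.span_induction with
    | mem x hx => exact hx
    | zero => exact ⟨0, map_zero _⟩
    | add x y _ _ hx hy =>
      obtain ⟨m, rfl⟩ := hx; obtain ⟨m', rfl⟩ := hy; exact ⟨m + m', map_add _ _ _⟩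
    | smul a x _ hx => obtain ⟨m, rfl⟩ := hx; exact ⟨φ a • m, hVN a m⟩
  set SM := Submodule.span W (Set.range VM) with hSM
  set SN := Submodule.span W (Set.range VN) with hSN
  have hpM : ∀ m : M, (p : W) • m ∈ SM := fun m => (hmemM _).2 ⟨FM m, hVFM m⟩
  have hpN : ∀ n : N, (p : W) • n ∈ SN := fun n => (hmemN _).2 ⟨FN n, hVFN n⟩
  have hrank : Module.finrank W SM = Module.finrank W M := by
    refine le_antisymm (Submodule.finrank_le _) (LinearMap.finrank_le_finrank_of_injective
      (f := ((p : W) • LinearMap.id : M →ₗ[W] M).codRestrict SM hpM) fun x y h => ?_)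
    exact smul_right_injective M hp0 (congrArg Subtype.val h)
  let b₀ := Module.Free.chooseBasis W M
  haveI : Fintype (Module.Free.ChooseBasisIndex W M) := inferInstance
  obtain ⟨b, a, ab, hab⟩ := Submodule.exists_smith_normal_form_of_rank_eq b₀ hrank
  have hrepr : ∀ x ∈ SM, ∀ i, a i ∣ b.repr x i := by
    intro x hx i
    refine ⟨ab.repr ⟨x, hx⟩ i, ?_⟩
    have h := congrArg Subtype.val (ab.sum_repr ⟨x, hx⟩)
    rw [Submodule.coe_sum] at h
    simp only [Submodule.coe_smul_of_tower, hab, smul_smul] at h
    conv_lhs => rw [← h, b.repr_sum_self]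
    exact mul_comm _ _
  have hadvd : ∀ i, a i ∣ (p : W) := fun i => by
    have := hrepr _ (hpM (b i)) i
    simpa using this
  have hassoc : ∀ i, ¬ IsUnit (a i) → Associated (a i) (p : W) := fun i hi =>
    (hpirr.dvd_iff.1 (hadvd i)).resolve_left hi |>.symm
  have hbU : ∀ i, IsUnit (a i) → b i ∈ SM := fun i hi => by
    have h : a i • b i ∈ SM := hab i ▸ (ab i).2
    obtain ⟨u, hu⟩ := hi
    have h' := SM.smul_mem (↑u⁻¹ : W) h
    rwa [← hu, smul_smul, Units.inv_mul, one_smul] at h'
  refine ⟨fun h => ⟨fun hh => ?_, ?_⟩, fun g hg => ?_, ?_⟩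
  · choose h' hh' using fun m => (hmemN _).1 (hh m)
    refine ⟨{ toFun := h', map_add' := fun x y => hVNinj ?_, map_smul' := fun c x => hVNinj ?_ }, fun m => (hh' m).symm⟩
    · rw [map_add, hh', hh', hh', map_add, map_add]
    · obtain ⟨c, rfl⟩ := hσ c
      rw [RingHom.id_apply, hVN, hh', hh', hVM, map_smul]
  · rintro ⟨h', hh'⟩ m
    exact (hmemN _).2 ⟨h' m, (hh' m).symm⟩
  · choose t ht using fun x => SN.mkQ_surjective (g x)
    let h : M →ₗ[W] N := b.constr W fun i => if hi : IsUnit (a i) then t ⟨b i, hbU i hi⟩ else 0
    refine ⟨h, fun x => ?_⟩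
    suffices (SN.mkQ.comp h).comp SM.subtype = g from LinearMap.congr_fun this x
    refine ab.ext fun i => ?_
    show SN.mkQ (h (ab i : M)) = g (ab i)
    rw [hab, map_smul, map_smul, b.constr_basis]
    by_cases hi : IsUnit (a i)
    · rw [dif_pos hi, ht, ← map_smul]
      exact congrArg g (Subtype.ext (hab i).symm)
    · rw [dif_neg hi, map_zero, smul_zero]
      obtain ⟨u, hu⟩ := (hassoc i hi).symm
      refine (hg ((u : W) • b i)).symm.trans (congrArg g (Subtype.ext ?_))
      show VM (FM ((u : W) • b i)) = (ab i : M)
      rw [hVFM, smul_smul, hu, hab]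
  · haveI : (Ideal.span {(p : W)}).IsMaximal := PrincipalIdealRing.isMaximal_of_irreducible hpirr
    haveI hsimple : IsSimpleModule W (W ⧸ Ideal.span {(p : W)}) :=
      isSimpleModule_iff_isCoatom.2 (Ideal.isMaximal_def.1 inferInstance)
    let P : M →ₗ[W] ({i // ¬ IsUnit (a i)} → W ⧸ Ideal.span {(p : W)}) :=
      LinearMap.pi fun i => (Ideal.span {(p : W)}).mkQ.comp (b.coord i)
    have hPs : Function.Surjective P := by
      intro y
      choose c hc using fun i => Submodule.mkQ_surjective (Ideal.span {(p : W)}) (y i)
      refine ⟨b.equivFun.symm fun i => if hi : IsUnit (a i) then 0 else c ⟨i, hi⟩, funext fun i => ?_⟩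
      show (Ideal.span {(p : W)}).mkQ (b.equivFun (b.equivFun.symm _) i) = y i
      rw [LinearEquiv.apply_symm_apply, dif_neg i.2, hc]
    have hPk : LinearMap.ker P = SM := by
      ext x
      constructor
      · intro hx
        rw [← b.sum_repr x]
        refine Submodule.sum_mem _ fun i _ => ?_
        by_cases hi : IsUnit (a i)
        · exact SM.smul_mem _ (hbU i hi)
        · have h : b.repr x i ∈ Ideal.span {(p : W)} := (Submodule.Quotient.mk_eq_zero _).1 (congrFun hx ⟨i, hi⟩)
          obtain ⟨c, hc⟩ := Ideal.mem_span_singleton.1 h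
          rw [hc, mul_comm, mul_smul]
          exact SM.smul_mem _ (hpM _)
      · intro hx
        refine funext fun i => (Submodule.Quotient.mk_eq_zero _).2 ?_
        exact Ideal.mem_span_singleton.2 ((hassoc i i.2).dvd'.trans (hrepr x hx i))
    have hlen : Module.length W (M ⧸ SM) = Fintype.card {i // ¬ IsUnit (a i)} := by
      rw [← hPk, (LinearMap.quotKerEquivOfSurjective P hPs).length_eq, Module.length_pi_of_fintype]
      simp [Module.length_eq_one]
    have hs : Fintype.card {i // IsUnit (a i)} = s₁ := by
      rw [hlen, Module.finrank_eq_card_basis b] at hs₁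
      have h1 : Fintype.card (Module.Free.ChooseBasisIndex W M) = Fintype.card {i // ¬ IsUnit (a i)} + s₁ := by
        exact_mod_cast hs₁
      have h2 := Fintype.card_subtype_compl (fun i => IsUnit (a i))
      have h3 := Fintype.card_subtype_le (fun i => IsUnit (a i))
      omega
    let Q : (M →ₗ[W] N) →ₗ[W] ({i // IsUnit (a i)} → N ⧸ SN) :=
      LinearMap.pi fun i => SN.mkQ.comp (LinearMap.applyₗ (b i))
    have hQs : Function.Surjective Q := by
      intro y
      choose c hc using fun i => SN.mkQ_surjective (y i)
      refine ⟨b.constr W fun i => if hi : IsUnit (a i) then c ⟨i, hi⟩ else 0, funext fun i => ?_⟩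
      show SN.mkQ ((b.constr W _) (b i)) = y i
      rw [b.constr_basis, dif_pos i.2, hc]
    have hQk : LinearMap.ker Q = ⨅ m : M, SN.comap (LinearMap.applyₗ (VM m) : (M →ₗ[W] N) →ₗ[W] N) := by
      ext h
      simp only [Submodule.mem_iInf, Submodule.mem_comap, LinearMap.applyₗ_apply_apply]
      constructor
      · intro hx m
        have hm : VM m ∈ SM := (hmemM _).2 ⟨m, rfl⟩
        rw [← b.sum_repr (VM m), map_sum]
        refine Submodule.sum_mem _ fun i _ => ?_
        rw [map_smul]
        by_cases hi : IsUnit (a i)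
        · exact SN.smul_mem _ ((Submodule.Quotient.mk_eq_zero _).1 (congrFun hx ⟨i, hi⟩))
        · obtain ⟨c, hc⟩ := (hassoc i hi).dvd'.trans (hrepr _ hm i)
          rw [hc, mul_comm, mul_smul]
          exact SN.smul_mem _ (hpN _)
      · intro hx
        refine funext fun i => (Submodule.Quotient.mk_eq_zero _).2 ?_
        obtain ⟨m, hm⟩ := (hmemM _).1 (hbU i i.2)
        show h (b i) ∈ SN
        rw [← hm]; exact hx m
    rw [← hQk, (LinearMap.quotKerEquivOfSurjective Q hQs).length_eq, Module.length_pi_of_fintype,
      Finset.sum_const, Finset.card_univ, hr₂, hs]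
    simp [mul_comm]

end Groth.Agent.S16417
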