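import Groth.Statements.S16418
import Mathlib
-- import your own Groth.Agent.* helpers here

set_option autoImplicit false
universe u v
open Dieud

namespace Groth.Agent.S16418

/-- Step of the proof: for a prime p and a perfect field k of characteristic p, write W = W(k) and σ for
its Frobenius; let M be a W-module with additive maps F (σ-semilinear) and V (with V(σ(a)m) = aV(m))
such that FV = VF = p, V is injective, ⋂_n V^n M = 0 and M/VM is finitely generated over W. Put M₁ =
{x ∈ M : for every n there is m with V^m x ∈ F^n M} and M₂ = {x ∈ M : F^n x = 0 for some n}. Then M₂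
is killed by a single power of F, and F is injective on M₁. (The published text makes these
assertions inside a proof, for the V-reduced Cartier module of a connected smooth formal group of
finite dimension over k; only the listed structure is used, and V-adic completeness is not needed.) -/
theorem result
    (p : ℕ) [Fact p.Prime] (k : Type u) [Field k] [CharP k p] [PerfectRing k p]
    (M : Type v) [AddCommGroup M] [Module (WittVector p k) M]
    (F V : M →+ M)
    (hF : ∀ (a : WittVector p k) (m : M), F (a • m) = WittVector.frobenius a • F m)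
    (hV : ∀ (a : WittVector p k) (m : M), V (WittVector.frobenius a • m) = a • V m)
    (hFV : ∀ m : M, F (V m) = (p : WittVector p k) • m)
    (hVF : ∀ m : M, V (F m) = (p : WittVector p k) • m)
    (hVinj : Function.Injective V)
    (hsep : ∀ x : M, (∀ n : ℕ, ∃ y : M, x = (⇑V)^[n] y) → x = 0)
    (hfin : Module.Finite (WittVector p k) (M ⧸ Submodule.span (WittVector p k) (Set.range V))) :
    (∃ c : ℕ, ∀ x : M, (∃ n : ℕ, (⇑F)^[n] x = 0) → (⇑F)^[c] x = 0) ∧
    (∀ x : M, (∀ n : ℕ, ∃ (m : ℕ) (y : M), (⇑V)^[m] x = (⇑F)^[n] y) → F x = 0 → x = 0) := by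
  have hcomm : ∀ x, F (V x) = V (F x) := fun x => by rw [hFV, hVF]
  have hcommN : ∀ (n : ℕ) x, (⇑F)^[n] (V x) = V ((⇑F)^[n] x) := fun n x =>
    (Function.Commute.iterate_left (show Function.Commute (⇑F) (⇑V) from hcomm) n) x
  let L : ℕ → Submodule (WittVector p k) M := fun n =>
    { carrier := {x | (⇑F)^[n] x = 0}
      add_mem' := fun {a b} ha hb => by
        show (⇑F)^[n] (a + b) = 0
        rw [iterate_map_add, show (⇑F)^[n] a = 0 from ha, show (⇑F)^[n] b = 0 from hb, add_zero]
      zero_mem' := iterate_map_zero F n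
      smul_mem' := fun a x hx => by
        have : ∀ (n : ℕ) (a : WittVector p k) (x : M), ∃ b : WittVector p k, (⇑F)^[n] (a • x) = b • (⇑F)^[n] x := by
          intro n
          induction n with
          | zero => exact fun a x => ⟨a, rfl⟩
          | succ n ih =>
            intro a x
            obtain ⟨b, hb⟩ := ih a x
            exact ⟨WittVector.frobenius b, by rw [Function.iterate_succ_apply', hb, hF, Function.iterate_succ_apply']⟩
        obtain ⟨b, hb⟩ := this n a x
        show (⇑F)^[n] (a • x) = 0
        rw [hb, show (⇑F)^[n] x = 0 from hx, smul_zero] }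
  have hLmono : Monotone L := monotone_nat_of_le_succ fun n x (hx : (⇑F)^[n] x = 0) => by
    show (⇑F)^[n + 1] x = 0
    rw [Function.iterate_succ_apply', hx, map_zero]
  haveI : IsNoetherian (WittVector p k) (M ⧸ Submodule.span (WittVector p k) (Set.range V)) :=
    isNoetherian_of_isNoetherianRing_of_finite _ _
  obtain ⟨c, hc⟩ := monotone_stabilizes_iff_noetherian.2 this
    ⟨fun n => (L n).map (Submodule.span (WittVector p k) (Set.range V)).mkQ, fun i j h => Submodule.map_mono (hLmono h)⟩
  have hrange : ∀ x ∈ Submodule.span (WittVector p k) (Set.range V), ∃ y, V y = x := by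
    intro x hx
    induction hx using Submodule.span_induction with
    | mem x hx => exact hx
    | zero => exact ⟨0, map_zero V⟩
    | add x y _ _ hx hy => obtain ⟨a, rfl⟩ := hx; obtain ⟨b, rfl⟩ := hy; exact ⟨a + b, map_add V a b⟩
    | smul a x _ hx =>
      obtain ⟨b, rfl⟩ := hx
      exact ⟨WittVector.frobenius a • b, hV a b⟩
  have step : ∀ x : M, (∃ n, (⇑F)^[n] x = 0) → ∀ j : ℕ, ∃ y, (⇑F)^[c] x = (⇑V)^[j] ((⇑F)^[c] y) ∧ ∃ n, (⇑F)^[n] y = 0 := by
    intro x hx j
    induction j with
    | zero => exact ⟨x, rfl, hx⟩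
    | succ j ih =>
      obtain ⟨y, hy, n, hn⟩ := ih
      set N := max n c
      have hyN : y ∈ L N := hLmono (le_max_left n c) hn
      have h1 := Submodule.mem_map_of_mem (f := (Submodule.span (WittVector p k) (Set.range V)).mkQ) hyN
      rw [show (L N).map (Submodule.span (WittVector p k) (Set.range V)).mkQ = (L c).map _ from (hc N (le_max_right n c)).symm] at h1
      obtain ⟨z, hz, hzy⟩ := h1
      obtain ⟨y', hy'⟩ := hrange (y - z) ((Submodule.Quotient.eq _).1 hzy.symm)
      have hyz : y = z + V y' := by rw [hy']; abel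
      refine ⟨y', ?_, N, hVinj ?_⟩
      · rw [hy, hyz, iterate_map_add, show (⇑F)^[c] z = 0 from hz, zero_add, hcommN, Function.iterate_succ_apply]
      · have hzN : (⇑F)^[N] z = 0 := hLmono (le_max_right n c) hz
        rw [← hcommN, map_zero]
        have h2 : (⇑F)^[N] y = 0 := hyN
        rwa [hyz, iterate_map_add, hzN, zero_add] at h2
  have bound : ∀ x : M, (∃ n : ℕ, (⇑F)^[n] x = 0) → (⇑F)^[c] x = 0 := fun x hx =>
    hsep _ fun j => let ⟨y, hy, _⟩ := step x hx j; ⟨_, hy⟩
  refine ⟨⟨c, bound⟩, fun x hx hFx => ?_⟩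
  obtain ⟨m, y, hy⟩ := hx c
  have h0 : ∀ i : ℕ, F ((⇑V)^[i] x) = 0 := fun i => by
    rw [(Function.Commute.iterate_right (show Function.Commute (⇑F) (⇑V) from hcomm) i) x, hFx, iterate_map_zero]
  have : (⇑F)^[c + 1] y = 0 := by rw [Function.iterate_succ_apply', ← hy, h0]
  have hy0 := bound y ⟨_, this⟩
  rw [← hy] at hy0
  exact (hVinj.iterate m) (hy0.trans (iterate_map_zero V m).symm)

end Groth.Agent.S16418
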