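import Groth.Statements.S16419
import Mathlib.LinearAlgebra.TensorProduct.RightExactness
import Mathlib.LinearAlgebra.Projection
import Mathlib.LinearAlgebra.TensorProduct.Quotient
import Mathlib.Algebra.Module.Projective
import Mathlib.LinearAlgebra.TensorProduct.Tower
-- import your own Groth.Agent.* helpers here

set_option autoImplicit false
set_option linter.all false
set_option backward.isDefEq.respectTransparency false
universe u v
open CAlg

namespace Groth.Agent.S16419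

theorem exists_compl {R : Type u} [CommRing R] {M : Type v} [AddCommGroup M] [Module R M] (F : Submodule R M)
    [Module.Free R (M ⧸ F)] : ∃ C, IsCompl F C := by
  obtain ⟨σ, hσ⟩ := Module.projective_lifting_property F.mkQ LinearMap.id F.mkQ_surjective
  refine ⟨LinearMap.range σ, ?_, ?_⟩
  · rw [Submodule.disjoint_def]
    rintro _ hF ⟨y, rfl⟩
    have : y = 0 := by
      rw [← LinearMap.id_apply (R := R) y, ← hσ, LinearMap.comp_apply]
      exact (Submodule.Quotient.mk_eq_zero F).mpr hF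
    rw [this, map_zero]
  · rw [codisjoint_iff, eq_top_iff]
    intro x _
    rw [show x = (x - σ (F.mkQ x)) + σ (F.mkQ x) by abel]
    refine Submodule.add_mem_sup ?_ ⟨_, rfl⟩
    rw [← Submodule.Quotient.mk_eq_zero F, Submodule.Quotient.mk_sub]
    show F.mkQ x - F.mkQ (σ (F.mkQ x)) = 0
    rw [← LinearMap.comp_apply F.mkQ, hσ, LinearMap.id_apply, sub_self]


open TensorProduct in
/-- For a commutative local Artinian ring R and an exact sequence 0 → H₁ → H → H₂ → 0 of finite free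
R-modules, let F₁ ⊆ H₁ and F₂ ⊆ H₂ be submodules with H₁/F₁ and H₂/F₂ free; let 𝔫 be an ideal of R
of square zero, R̄ = R/𝔫, and F̄ an R̄-submodule of H̄ = R̄ ⊗ H with free quotient such that F̄
meets the image of R̄ ⊗ H₁ in the image of R̄ ⊗ F₁ and the image of F̄ in R̄ ⊗ H₂ is the image of R̄
⊗ F₂. Then there is a direct summand F of H with F ∩ H₁ = F₁, whose image in H̄ is F̄ and whose
image in H₂ is F₂. -/
theorem result
    (R : Type u) [CommRing R] [IsArtinianRing R] [IsLocalRing R]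
    (H₁ : Type v) (H : Type v) (H₂ : Type v)
    [AddCommGroup H₁] [Module R H₁] [AddCommGroup H] [Module R H] [AddCommGroup H₂] [Module R H₂]
    [Module.Free R H₁] [Module.Finite R H₁] [Module.Free R H] [Module.Finite R H]
    [Module.Free R H₂] [Module.Finite R H₂]
    (f : H₁ →ₗ[R] H) (g : H →ₗ[R] H₂) (hf : Function.Injective f) (hg : Function.Surjective g)
    (hfg : Function.Exact f g)
    (F₁ : Submodule R H₁) (F₂ : Submodule R H₂) [Module.Free R (H₁ ⧸ F₁)] [Module.Free R (H₂ ⧸ F₂)]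
    (𝔫 : Ideal R) (hn : 𝔫 * 𝔫 = ⊥)
    (Fb : Submodule (R ⧸ 𝔫) ((R ⧸ 𝔫) ⊗[R] H))
    [Module.Free (R ⧸ 𝔫) (((R ⧸ 𝔫) ⊗[R] H) ⧸ Fb)]
    (h1 : Fb ⊓ LinearMap.range (f.baseChange (R ⧸ 𝔫)) =
      Submodule.map (f.baseChange (R ⧸ 𝔫)) (F₁.baseChange (R ⧸ 𝔫)))
    (h2 : Submodule.map (g.baseChange (R ⧸ 𝔫)) Fb = F₂.baseChange (R ⧸ 𝔫)) :
    ∃ F : Submodule R H, (∃ C : Submodule R H, IsCompl F C) ∧
      F ⊓ LinearMap.range f = Submodule.map f F₁ ∧
      F.baseChange (R ⧸ 𝔫) = Fb ∧ Submodule.map g F = F₂ := by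
  classical
  obtain ⟨C₁, hC₁⟩ := exists_compl F₁
  obtain ⟨C₂, hC₂⟩ := exists_compl F₂
  haveI : Module.Projective R F₂ :=
    Module.Projective.of_split F₂.subtype (Submodule.projectionOnto F₂ C₂ hC₂)
      (LinearMap.ext fun x => Submodule.projectionOnto_apply_left hC₂ x)
  let π : H →ₗ[R] (R ⧸ 𝔫) ⊗[R] H := TensorProduct.mk R (R ⧸ 𝔫) H 1
  let π₁ : H₁ →ₗ[R] (R ⧸ 𝔫) ⊗[R] H₁ := TensorProduct.mk R (R ⧸ 𝔫) H₁ 1
  let π₂ : H₂ →ₗ[R] (R ⧸ 𝔫) ⊗[R] H₂ := TensorProduct.mk R (R ⧸ 𝔫) H₂ 1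
  let gb := g.baseChange (R ⧸ 𝔫)
  let fb := f.baseChange (R ⧸ 𝔫)
  have hgπ : ∀ x, gb (π x) = π₂ (g x) := fun x => rfl
  have hfπ : ∀ x, fb (π₁ x) = π (f x) := fun x => rfl
  have hmk : Function.Surjective (algebraMap R (R ⧸ 𝔫)) := Ideal.Quotient.mk_surjective
  have hπ : Function.Surjective π := fun y => by
    induction y using TensorProduct.induction_on with
    | zero => exact ⟨0, map_zero _⟩
    | tmul r x =>
      obtain ⟨r, rfl⟩ := hmk r
      exact ⟨r • x, by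
        show (1 : R ⧸ 𝔫) ⊗ₜ[R] (r • x) = _
        rw [TensorProduct.tmul_smul, TensorProduct.smul_tmul', Algebra.algebraMap_eq_smul_one]⟩
    | add a b ha hb =>
      obtain ⟨a', rfl⟩ := ha; obtain ⟨b', rfl⟩ := hb
      exact ⟨a' + b', map_add _ _ _⟩
  have hbc : ∀ {M : Type v} [AddCommGroup M] [Module R M] (F : Submodule R M) (y : (R ⧸ 𝔫) ⊗[R] M),
      y ∈ F.baseChange (R ⧸ 𝔫) ↔ ∃ x ∈ F, (1 : R ⧸ 𝔫) ⊗ₜ[R] x = y := by
    intro M _ _ F y
    refine ⟨fun hy => ?_, fun ⟨x, hx, e⟩ => e ▸ Submodule.tmul_mem_baseChange_of_mem _ hx⟩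
    rw [Submodule.baseChange_eq_span] at hy
    induction hy using Submodule.span_induction with
    | mem z hz => obtain ⟨x, hx, rfl⟩ := hz; exact ⟨x, hx, rfl⟩
    | zero => exact ⟨0, F.zero_mem, TensorProduct.tmul_zero _ _⟩
    | add a b _ _ ha hb =>
      obtain ⟨a', ha, rfl⟩ := ha; obtain ⟨b', hb, rfl⟩ := hb
      exact ⟨a' + b', add_mem ha hb, TensorProduct.tmul_add _ _ _⟩
    | smul c a _ ha =>
      obtain ⟨a', ha, rfl⟩ := ha
      obtain ⟨c, rfl⟩ := hmk c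
      exact ⟨c • a', F.smul_mem c ha, by rw [algebraMap_smul, TensorProduct.tmul_smul]⟩
  -- lift the embedding of `F₂` into `Fb`
  let gF : Fb →ₗ[R] F₂.baseChange (R ⧸ 𝔫) :=
    ((gb.comp Fb.subtype).codRestrict _ fun z => h2 ▸ Submodule.mem_map_of_mem z.2).restrictScalars R
  have hgF : Function.Surjective gF := fun y => by
    obtain ⟨z, hz, hz'⟩ := (h2.symm ▸ y.2 : (y : (R ⧸ 𝔫) ⊗[R] H₂) ∈ Submodule.map gb Fb)
    exact ⟨⟨z, hz⟩, Subtype.ext hz'⟩
  let i₂ : F₂ →ₗ[R] F₂.baseChange (R ⧸ 𝔫) :=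
    { toFun := fun b => ⟨π₂ b, Submodule.tmul_mem_baseChange_of_mem _ b.2⟩
      map_add' := fun a b => Subtype.ext (map_add π₂ _ _)
      map_smul' := fun c b => Subtype.ext (map_smul π₂ c _) }
  obtain ⟨β, hβ⟩ := Module.projective_lifting_property gF i₂ hgF
  have hβ' : ∀ b : F₂, gb (β b) = π₂ b := fun b => congrArg Subtype.val (LinearMap.congr_fun hβ b)
  obtain ⟨γ, hγ⟩ := Module.projective_lifting_property π ((Fb.subtype.restrictScalars R).comp β) hπ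
  let d : F₂ →ₗ[R] H₂ := g.comp γ - F₂.subtype
  let gn : LinearMap.ker π →ₗ[R] LinearMap.ker π₂ :=
    (g.comp (LinearMap.ker π).subtype).codRestrict _ fun z => by
      show π₂ (g z) = 0
      rw [← hgπ, LinearMap.mem_ker.mp z.2, map_zero]
  have hkerπ : ∀ {M : Type v} [AddCommGroup M] [Module R M] (z : M),
      (1 : R ⧸ 𝔫) ⊗ₜ[R] z = 0 ↔ z ∈ (𝔫 • ⊤ : Submodule R M) := fun {M} _ _ z => by
    constructor
    · intro h
      have := congrArg (TensorProduct.quotTensorEquivQuotSMul M 𝔫) h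
      rw [map_zero, show (1 : R ⧸ 𝔫) = Ideal.Quotient.mk 𝔫 1 from rfl,
        TensorProduct.quotTensorEquivQuotSMul_mk_tmul, one_smul] at this
      exact (Submodule.Quotient.mk_eq_zero _).mp this
    · intro h
      apply (TensorProduct.quotTensorEquivQuotSMul M 𝔫).injective
      rw [map_zero, show (1 : R ⧸ 𝔫) = Ideal.Quotient.mk 𝔫 1 from rfl,
        TensorProduct.quotTensorEquivQuotSMul_mk_tmul, one_smul]
      exact (Submodule.Quotient.mk_eq_zero _).mpr h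
  have hgn : Function.Surjective gn := fun z => by
    have hz : (z : H₂) ∈ (𝔫 • ⊤ : Submodule R H₂) := (hkerπ _).mp (LinearMap.mem_ker.mp z.2)
    rw [show (⊤ : Submodule R H₂) = Submodule.map g ⊤ by rw [Submodule.map_top, LinearMap.range_eq_top.mpr hg],
      ← Submodule.map_smul''] at hz
    obtain ⟨w, hw, hw'⟩ := hz
    exact ⟨⟨w, LinearMap.mem_ker.mpr ((hkerπ w).mpr hw)⟩, Subtype.ext hw'⟩
  have hd : ∀ b, d b ∈ LinearMap.ker π₂ := fun b => by
    show π₂ (g (γ b) - b) = 0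
    rw [map_sub, ← hgπ, show π (γ b) = (β b : (R ⧸ 𝔫) ⊗[R] H) from LinearMap.congr_fun hγ b, hβ', sub_self]
  obtain ⟨e, he⟩ := Module.projective_lifting_property gn (d.codRestrict _ hd) hgn
  let α : F₂ →ₗ[R] H := γ - (LinearMap.ker π).subtype.comp e
  have hα : ∀ b, g (α b) = b := fun b => by
    have := congrArg Subtype.val (LinearMap.congr_fun he b)
    change g (e b : H) = g (γ b) - b at this
    show g (γ b - e b) = b
    rw [map_sub, this, sub_sub_cancel]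
  have hαπ : ∀ b, π (α b) = β b := fun b => by
    show π (γ b - e b) = _
    rw [map_sub, LinearMap.mem_ker.mp (e b).2, sub_zero]
    exact LinearMap.congr_fun hγ b
  obtain ⟨σ, hσ⟩ := Module.projective_lifting_property g LinearMap.id hg
  have hσ' : ∀ y, g (σ y) = y := fun y => LinearMap.congr_fun hσ y
  let F : Submodule R H := F₁.map f ⊔ LinearMap.range α
  have hgf : ∀ a, g (f a) = 0 := hfg.apply_apply_eq_zero
  refine ⟨F, ⟨C₁.map f ⊔ C₂.map σ, ?_, ?_⟩, ?_, ?_, ?_⟩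
  · rw [Submodule.disjoint_def]
    intro x hx hx'
    obtain ⟨_, ⟨a, ha, rfl⟩, _, ⟨b, rfl⟩, rfl⟩ := Submodule.mem_sup.mp hx
    obtain ⟨_, ⟨c, hc, rfl⟩, _, ⟨w, hw, rfl⟩, h⟩ := Submodule.mem_sup.mp hx'
    have h' := congrArg g h
    rw [map_add, map_add, hgf, hgf, zero_add, zero_add, hσ', hα] at h'
    have hb : (b : H₂) = 0 := Submodule.disjoint_def.mp hC₂.disjoint _ b.2 (h' ▸ hw)
    have hw0 : w = 0 := h'.trans hb
    have hb' : b = 0 := Subtype.ext hb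
    rw [hb', map_zero, add_zero] at h ⊢
    rw [hw0, map_zero, add_zero] at h
    rw [Submodule.disjoint_def.mp hC₁.disjoint a ha (hf h ▸ hc), map_zero]
  · rw [codisjoint_iff, eq_top_iff]
    intro x _
    obtain ⟨b, hb, w, hw, hbw⟩ := Submodule.mem_sup.mp (hC₂.sup_eq_top ▸ Submodule.mem_top (x := g x))
    have hk : g (x - α ⟨b, hb⟩ - σ w) = 0 := by
      rw [map_sub, map_sub, hα, hσ', ← hbw]; simp
    obtain ⟨u, hu⟩ := (hfg _).mp hk
    obtain ⟨a, ha, c, hc, hac⟩ := Submodule.mem_sup.mp (hC₁.sup_eq_top ▸ Submodule.mem_top (x := u))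
    have hxd : x = (f a + α ⟨b, hb⟩) + (f c + σ w) := by
      rw [← hac, map_add] at hu
      calc x = (x - α ⟨b, hb⟩ - σ w) + α ⟨b, hb⟩ + σ w := by abel
        _ = (f a + f c) + α ⟨b, hb⟩ + σ w := by rw [hu]
        _ = _ := by abel
    rw [hxd]
    exact Submodule.add_mem_sup (Submodule.add_mem_sup ⟨a, ha, rfl⟩ ⟨_, rfl⟩)
      (Submodule.add_mem_sup ⟨c, hc, rfl⟩ ⟨w, hw, rfl⟩)
  · refine le_antisymm ?_ ?_
    · rintro x ⟨hx, u, rfl⟩
      obtain ⟨_, ⟨a, ha, rfl⟩, _, ⟨b, rfl⟩, h⟩ := Submodule.mem_sup.mp hx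
      have h' := congrArg g h
      rw [map_add, hgf, hgf, hα, zero_add] at h'
      rw [show b = 0 from Subtype.ext h', map_zero, add_zero] at h
      exact ⟨a, ha, h⟩
    · exact le_inf le_sup_left (LinearMap.map_le_range)
  · refine le_antisymm (fun y hy => ?_) fun y hy => ?_
    · obtain ⟨x, hx, rfl⟩ := (hbc F y).mp hy
      obtain ⟨_, ⟨a, ha, rfl⟩, _, ⟨b, rfl⟩, rfl⟩ := Submodule.mem_sup.mp hx
      show π (f a + α b) ∈ Fb
      rw [map_add, hαπ, ← hfπ]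
      refine add_mem ?_ (β b).2
      have : fb (π₁ a) ∈ Fb ⊓ LinearMap.range fb :=
        h1.symm ▸ Submodule.mem_map_of_mem (Submodule.tmul_mem_baseChange_of_mem _ ha)
      exact this.1
    · have hy2 : gb y ∈ F₂.baseChange (R ⧸ 𝔫) := h2 ▸ Submodule.mem_map_of_mem hy
      obtain ⟨b, hb, hb'⟩ := (hbc F₂ _).mp hy2
      have hk : gb (y - (β ⟨b, hb⟩ : (R ⧸ 𝔫) ⊗[R] H)) = 0 := by
        rw [map_sub, hβ', ← hb']; exact sub_self _
      obtain ⟨u, hu⟩ := ((lTensor_exact (R ⧸ 𝔫) hfg hg) (y - (β ⟨b, hb⟩ : (R ⧸ 𝔫) ⊗[R] H))).mp hk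
      have hmem : y - (β ⟨b, hb⟩ : (R ⧸ 𝔫) ⊗[R] H) ∈ Fb ⊓ LinearMap.range fb :=
        ⟨sub_mem hy (β _).2, u, hu⟩
      obtain ⟨v, hv, hv'⟩ := (h1 ▸ hmem : _ ∈ Submodule.map fb (F₁.baseChange (R ⧸ 𝔫)))
      obtain ⟨a, ha, rfl⟩ := (hbc F₁ v).mp hv
      refine (hbc F y).mpr ⟨f a + α ⟨b, hb⟩, Submodule.add_mem_sup ⟨a, ha, rfl⟩ ⟨_, rfl⟩, ?_⟩
      show π (f a + α ⟨b, hb⟩) = y
      rw [map_add, hαπ, ← hfπ]
      exact (congrArg (· + (β ⟨b, hb⟩ : (R ⧸ 𝔫) ⊗[R] H)) hv').trans (sub_add_cancel _ _)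
  · refine le_antisymm ?_ fun b hb => ⟨α ⟨b, hb⟩, Submodule.mem_sup_right ⟨_, rfl⟩, hα _⟩
    rintro _ ⟨x, hx, rfl⟩
    obtain ⟨_, ⟨a, ha, rfl⟩, _, ⟨b, rfl⟩, rfl⟩ := Submodule.mem_sup.mp hx
    rw [map_add, hgf, hα, zero_add]
    exact b.2

end Groth.Agent.S16419
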