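import Groth.Statements.S16420
import Mathlib.Algebra.Module.StablyFree.Basic
import Mathlib.LinearAlgebra.TensorProduct.RightExactness
import Mathlib.RingTheory.Artinian.Defs
import Mathlib.RingTheory.LocalRing.Defs
import Mathlib.Tactic

set_option linter.all false

set_option autoImplicit false
universe u v
open CAlg


namespace Groth.Agent.S16420

section
variable {R : Type u} [CommRing R] {M : Type v} [AddCommGroup M] [Module R M]
open TensorProduct

/-- The image of a submodule under `m ↦ 1 ⊗ m` is the base change along a quotient map. -/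
theorem mem_baseChange_quot (𝔫 : Ideal R) (F : Submodule R M) (z : (R ⧸ 𝔫) ⊗[R] M) :
    z ∈ Submodule.baseChange (R ⧸ 𝔫) F ↔ ∃ x ∈ F, (1 : R ⧸ 𝔫) ⊗ₜ[R] x = z := by
  constructor
  · rintro ⟨w, rfl⟩
    induction w using TensorProduct.induction_on with
    | zero => exact ⟨0, F.zero_mem, by simp⟩
    | add p q hp hq =>
      obtain ⟨x, hx, hx'⟩ := hp; obtain ⟨y, hy, hy'⟩ := hq
      exact ⟨x + y, F.add_mem hx hy, by rw [tmul_add, hx', hy', map_add]⟩
    | tmul a x =>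
      obtain ⟨a, rfl⟩ := Ideal.Quotient.mk_surjective a
      refine ⟨a • (x : M), F.smul_mem a x.2, ?_⟩
      rw [tmul_smul, smul_tmul', Algebra.smul_def, mul_one]
      rfl
  · rintro ⟨x, hx, rfl⟩
    exact Submodule.tmul_mem_baseChange_of_mem _ hx

theorem one_tmul_eq_zero_iff (𝔫 : Ideal R) (y : M) :
    (1 : R ⧸ 𝔫) ⊗ₜ[R] y = 0 ↔ y ∈ (𝔫 • ⊤ : Submodule R M) := by
  rw [← LinearMap.ker_tensorProductMk]
  rfl

/-- A submodule with projective quotient admits a retraction. -/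
theorem exists_retraction (F : Submodule R M) [Module.Projective R (M ⧸ F)] :
    ∃ r : M →ₗ[R] M, (∀ x, r x ∈ F) ∧ ∀ x ∈ F, r x = x := by
  obtain ⟨s, hs⟩ := Module.projective_lifting_property F.mkQ LinearMap.id F.mkQ_surjective
  refine ⟨LinearMap.id - s ∘ₗ F.mkQ, fun x => ?_, fun x hx => ?_⟩
  · rw [← Submodule.Quotient.mk_eq_zero F]
    show F.mkQ (x - s (F.mkQ x)) = 0
    rw [map_sub, show F.mkQ (s (F.mkQ x)) = F.mkQ x from LinearMap.congr_fun hs _, sub_self]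
  · show x - s (F.mkQ x) = x
    rw [show F.mkQ x = 0 from (Submodule.Quotient.mk_eq_zero F).mpr hx, map_zero, sub_zero]

theorem inf_smul_top (𝔫 : Ideal R) (F : Submodule R M) [Module.Projective R (M ⧸ F)] (x : M)
    (hx : x ∈ F) (hx' : x ∈ (𝔫 • ⊤ : Submodule R M)) : x ∈ 𝔫 • F := by
  obtain ⟨r, hr, hr'⟩ := exists_retraction F
  have h := Submodule.mem_map_of_mem (f := r) hx'
  rw [Submodule.map_smul'', hr' x hx] at h
  exact Submodule.smul_mono le_rfl (by rintro _ ⟨y, -, rfl⟩; exact hr y) h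

end

open TensorProduct in
/-- For a commutative local Artinian ring R and an exact sequence 0 → H₁ → H → H₂ → 0 of finite free
R-modules, let F₁ ⊆ H₁ and F₂ ⊆ H₂ be submodules with free quotients, 𝔫 an ideal of R of square
zero, R̄ = R/𝔫, and F̄ ⊆ H̄ = R̄ ⊗ H an R̄-submodule with free quotient meeting the image of R̄ ⊗ H₁
in the image of R̄ ⊗ F₁ and mapping onto the image of R̄ ⊗ F₂; let L be the set of direct summands F
of H with F ∩ H₁ = F₁, with image F̄ in H̄ and with image F₂ in H₂. Then L is a torsor under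
Hom_R(F₂, 𝔫(H₁/F₁)), acting as follows: an R-linear u : H₂ → H₁ with u(H₂) ⊆ 𝔫H₁ moves F ∈ L to the
image of F under x ↦ x + f(u(g(x))). Precisely, for F ∈ L: (1) that image again lies in L; (2) it
equals F if and only if u(F₂) ⊆ 𝔫F₁; (3) every F' ∈ L is obtained from F in this way for some such
u. (The published statement phrases the torsor under the R̄-linear maps from F̄₂ to 𝔫 ⊗ (H̄₁/F̄₁), a
group identified with the maps u as above modulo those with u(F₂) ⊆ 𝔫F₁, and describes the action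
through a lift F₂ → 𝔫 ⊗ H₁ composed with F → F/F₁ ≅ F₂; restricted to F this is x ↦ f(u(g(x))).) -/
theorem result
    (R : Type u) [CommRing R] [IsArtinianRing R] [IsLocalRing R]
    (H₁ : Type v) (H : Type v) (H₂ : Type v)
    [AddCommGroup H₁] [Module R H₁] [AddCommGroup H] [Module R H] [AddCommGroup H₂] [Module R H₂]
    [Module.Free R H₁] [Module.Finite R H₁] [Module.Free R H] [Module.Finite R H]
    [Module.Free R H₂] [Module.Finite R H₂]
    (f : H₁ →ₗ[R] H) (g : H →ₗ[R] H₂) (hf : Function.Injective f) (hg : Function.Surjective g)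
    (hfg : Function.Exact f g)
    (F₁ : Submodule R H₁) (F₂ : Submodule R H₂) [Module.Free R (H₁ ⧸ F₁)] [Module.Free R (H₂ ⧸ F₂)]
    (𝔫 : Ideal R) (hn : 𝔫 * 𝔫 = ⊥)
    (Fb : Submodule (R ⧸ 𝔫) ((R ⧸ 𝔫) ⊗[R] H))
    [Module.Free (R ⧸ 𝔫) (((R ⧸ 𝔫) ⊗[R] H) ⧸ Fb)]
    (h1 : Fb ⊓ LinearMap.range (f.baseChange (R ⧸ 𝔫)) =
      Submodule.map (f.baseChange (R ⧸ 𝔫)) (F₁.baseChange (R ⧸ 𝔫)))
    (h2 : Submodule.map (g.baseChange (R ⧸ 𝔫)) Fb = F₂.baseChange (R ⧸ 𝔫))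
    (F F' : Submodule R H)
    (hF : (∃ C : Submodule R H, IsCompl (F) C) ∧
      (F) ⊓ LinearMap.range f = Submodule.map f F₁ ∧
      Submodule.baseChange (R ⧸ 𝔫) (F) = Fb ∧ Submodule.map g (F) = F₂)
    (hF' : (∃ C : Submodule R H, IsCompl (F') C) ∧
      (F') ⊓ LinearMap.range f = Submodule.map f F₁ ∧
      Submodule.baseChange (R ⧸ 𝔫) (F') = Fb ∧ Submodule.map g (F') = F₂) :
    (∀ u : H₂ →ₗ[R] H₁, (∀ y : H₂, u y ∈ 𝔫 • (⊤ : Submodule R H₁)) →
      (∃ C : Submodule R H, IsCompl (Submodule.map (LinearMap.id + f ∘ₗ u ∘ₗ g) F) C) ∧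
      (Submodule.map (LinearMap.id + f ∘ₗ u ∘ₗ g) F) ⊓ LinearMap.range f = Submodule.map f F₁ ∧
      Submodule.baseChange (R ⧸ 𝔫) (Submodule.map (LinearMap.id + f ∘ₗ u ∘ₗ g) F) = Fb ∧ Submodule.map g (Submodule.map (LinearMap.id + f ∘ₗ u ∘ₗ g) F) = F₂) ∧
    (∀ u : H₂ →ₗ[R] H₁, (∀ y : H₂, u y ∈ 𝔫 • (⊤ : Submodule R H₁)) →
      (Submodule.map (LinearMap.id + f ∘ₗ u ∘ₗ g) F = F ↔ ∀ y ∈ F₂, u y ∈ 𝔫 • F₁)) ∧
    (∃ u : H₂ →ₗ[R] H₁, (∀ y : H₂, u y ∈ 𝔫 • (⊤ : Submodule R H₁)) ∧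
      F' = Submodule.map (LinearMap.id + f ∘ₗ u ∘ₗ g) F) := by
  classical
  obtain ⟨⟨C, hC⟩, hFi, hFb, hFg⟩ := hF
  obtain ⟨-, hF'i, hF'b, hF'g⟩ := hF'
  have hgf : ∀ a, g (f a) = 0 := hfg.apply_apply_eq_zero
  have hfF : ∀ a ∈ F₁, f a ∈ F := fun a ha =>
    ((Submodule.mem_inf).mp (hFi.ge (Submodule.mem_map_of_mem ha))).1
  have hfF' : ∀ a ∈ F₁, f a ∈ F' := fun a ha =>
    ((Submodule.mem_inf).mp (hF'i.ge (Submodule.mem_map_of_mem ha))).1
  have hFmem : ∀ a, f a ∈ F → a ∈ F₁ := fun a ha => by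
    obtain ⟨b, hb, e⟩ := hFi.le ⟨ha, a, rfl⟩
    rwa [← hf e]
  have hF'mem : ∀ a, f a ∈ F' → a ∈ F₁ := fun a ha => by
    obtain ⟨b, hb, e⟩ := hF'i.le ⟨ha, a, rfl⟩
    rwa [← hf e]
  have key : ∀ (u : H₂ →ₗ[R] H₁), ∃ θ : H ≃ₗ[R] H, ∀ x, θ x = x + f (u (g x)) := fun u =>
    ⟨LinearEquiv.ofLinear (LinearMap.id + f ∘ₗ u ∘ₗ g) (LinearMap.id - f ∘ₗ u ∘ₗ g)
      (by ext x; simp [hgf]) (by ext x; simp [hgf]), fun x => rfl⟩
  refine ⟨fun u hu => ?_, fun u hu => ?_, ?_⟩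
  · obtain ⟨θ, hθ⟩ := key u
    have hθe : (θ : H →ₗ[R] H) = LinearMap.id + f ∘ₗ u ∘ₗ g := LinearMap.ext hθ
    rw [← hθe]
    refine ⟨⟨C.map (θ : H →ₗ[R] H), hC.map (Submodule.orderIsoMapComap θ)⟩, ?_, ?_, ?_⟩
    · refine le_antisymm ?_ ?_
      · rintro _ ⟨⟨x, hx, rfl⟩, a, ha⟩
        have hgx : g x = 0 := by
          have := congrArg g ha
          simp only [LinearEquiv.coe_coe, hθ, map_add, hgf, add_zero] at this
          exact this.symm
        have : (θ : H →ₗ[R] H) x = x := by simp [hθ, hgx]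
        rw [this] at ha ⊢
        exact hFi.le ⟨hx, a, ha⟩
      · rintro _ ⟨a, ha, rfl⟩
        exact ⟨⟨f a, hfF a ha, by simp [hθ, hgf]⟩, a, rfl⟩
    · have h0 : ∀ x, (1 : R ⧸ 𝔫) ⊗ₜ[R] θ x = (1 : R ⧸ 𝔫) ⊗ₜ[R] x := fun x => by
        rw [hθ, tmul_add, (one_tmul_eq_zero_iff 𝔫 (f (u (g x)))).mpr, add_zero]
        have := Submodule.mem_map_of_mem (f := f) (hu (g x))
        rw [Submodule.map_smul''] at this
        exact Submodule.smul_mono le_rfl le_top this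
      rw [← hFb]
      ext z
      simp only [mem_baseChange_quot]
      constructor
      · rintro ⟨_, ⟨x, hx, rfl⟩, rfl⟩; exact ⟨x, hx, (h0 x).symm⟩
      · rintro ⟨x, hx, rfl⟩; exact ⟨θ x, ⟨x, hx, rfl⟩, h0 x⟩
    · rw [← Submodule.map_comp, ← hFg]
      congr 1
      ext x; simp [hθ, hgf]
  · obtain ⟨θ, hθ⟩ := key u
    constructor
    · intro h y hy
      obtain ⟨x, hx, rfl⟩ := hFg.ge hy
      refine inf_smul_top 𝔫 F₁ _ (hFmem _ ?_) (hu _)
      have hθx : x + f (u (g x)) ∈ F := h ▸ ⟨x, hx, rfl⟩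
      simpa using F.sub_mem hθx hx
    · intro h
      have hfu : ∀ x ∈ F, f (u (g x)) ∈ F := fun x hx =>
        hfF _ (Submodule.smul_le_right (h _ (hFg ▸ Submodule.mem_map_of_mem hx)))
      refine le_antisymm ?_ fun x hx => ⟨x - f (u (g x)), F.sub_mem hx (hfu x hx), by simp [hgf]⟩
      rintro _ ⟨x, hx, rfl⟩
      exact F.add_mem hx (hfu x hx)
  · obtain ⟨r₁, -, -⟩ := exists_retraction F₁
    obtain ⟨σ, hσ⟩ := Module.projective_lifting_property g LinearMap.id hg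
    have hσ' : ∀ y, g (σ y) = y := LinearMap.congr_fun hσ
    obtain ⟨π₂, hπ₂, hπ₂'⟩ := exists_retraction F₂
    have pick : ∀ y ∈ F₂, ∃ x ∈ F, g x = y ∧ ∃ v ∈ (𝔫 • ⊤ : Submodule R H₁), x + f v ∈ F' := by
      intro y hy
      obtain ⟨x', hx', rfl⟩ := hF'g.ge hy
      obtain ⟨x₁, hx₁, e⟩ := (mem_baseChange_quot 𝔫 F _).mp (hFb.ge (hF'b.le ((mem_baseChange_quot 𝔫 F' _).mpr ⟨x', hx', rfl⟩)))
      have hz : x' - x₁ ∈ (𝔫 • ⊤ : Submodule R H) := by
        rw [← one_tmul_eq_zero_iff, tmul_sub, e, sub_self]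
      have hgz : g (x' - x₁) ∈ 𝔫 • F₂ := by
        refine inf_smul_top 𝔫 F₂ _ ?_ ?_
        · rw [map_sub]; exact F₂.sub_mem (hF'g ▸ Submodule.mem_map_of_mem hx') (hFg ▸ Submodule.mem_map_of_mem hx₁)
        · have := Submodule.mem_map_of_mem (f := g) hz
          rw [Submodule.map_smul''] at this
          exact Submodule.smul_mono le_rfl le_top this
      rw [← hFg, ← Submodule.map_smul''] at hgz
      obtain ⟨z₁, hz₁, ez⟩ := hgz
      set z := x' - x₁ - z₁ with hzdef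
      have hgz0 : g z = 0 := by rw [hzdef, map_sub, ez, sub_self]
      obtain ⟨v₀, hv₀⟩ := (hfg z).mp hgz0
      have hz' : z ∈ (𝔫 • ⊤ : Submodule R H) := sub_mem hz (Submodule.smul_mono le_rfl le_top hz₁)
      -- a retraction of f
      obtain ⟨ρ, hρ⟩ : ∃ ρ : H →ₗ[R] H₁, ∀ a, ρ (f a) = a := by
        let e := LinearEquiv.ofInjective f hf
        have hm : ∀ x, x - σ (g x) ∈ LinearMap.range f := fun x => (hfg _).mp (by simp [hσ'])
        refine ⟨e.symm.toLinearMap ∘ₗ (LinearMap.id - σ ∘ₗ g).codRestrict _ hm, fun a => ?_⟩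
        apply e.injective
        simp only [LinearMap.comp_apply, LinearEquiv.coe_coe, LinearEquiv.apply_symm_apply]
        exact Subtype.ext (by simp [hgf, e])
      refine ⟨x₁ + z₁, F.add_mem hx₁ (Submodule.smul_le_right hz₁), ?_, v₀, ?_, ?_⟩
      · rw [map_add, ez, map_sub, add_sub_cancel]
      · have := Submodule.mem_map_of_mem (f := ρ) hz'
        rw [Submodule.map_smul'', ← hv₀, hρ] at this
        exact Submodule.smul_mono le_rfl le_top this
      · rw [hv₀, hzdef, show x₁ + z₁ + (x' - x₁ - z₁) = x' by abel]; exact hx'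
    let b := Module.Free.chooseBasis R H₂
    choose x hx hgx v hv hxv using fun i => pick (π₂ (b i)) (hπ₂ _)
    let u : H₂ →ₗ[R] H₁ := b.constr R v
    have huy : ∀ y, u (π₂ y) = u (π₂ y) := fun y => rfl
    -- u on π₂-images
    let u' : H₂ →ₗ[R] H₁ := u
    let X : H₂ →ₗ[R] H := b.constr R x
    have hX : ∀ y, X y ∈ F ∧ g (X y) = π₂ y ∧ X y + f (u y) ∈ F' ∧ u y ∈ (𝔫 • ⊤ : Submodule R H₁) := by
      intro y
      have : y ∈ Submodule.span R (Set.range b) := b.span_eq ▸ trivial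
      induction this using Submodule.span_induction with
      | mem y hy =>
        obtain ⟨i, rfl⟩ := hy
        simp only [X, u, Module.Basis.constr_basis]
        exact ⟨hx i, hgx i, hxv i, hv i⟩
      | zero => simp
      | add p q _ _ hp hq =>
        refine ⟨by rw [map_add]; exact add_mem hp.1 hq.1, by simp [hp.2.1, hq.2.1], ?_, by rw [map_add]; exact add_mem hp.2.2.2 hq.2.2.2⟩
        convert add_mem hp.2.2.1 hq.2.2.1 using 1
        simp only [map_add]; abel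
      | smul c p _ hp =>
        refine ⟨by rw [map_smul]; exact F.smul_mem c hp.1, by simp [hp.2.1], ?_, by rw [map_smul]; exact Submodule.smul_mem _ c hp.2.2.2⟩
        rw [map_smul, map_smul, map_smul, ← smul_add]
        exact F'.smul_mem c hp.2.2.1
    obtain ⟨θ, hθ⟩ := key u
    refine ⟨u, fun y => (hX y).2.2.2, ?_⟩
    have hfix : ∀ a, θ (f a) = f a := fun a => by simp [hθ, hgf]
    have good : ∀ y ∈ F₂, ∃ z ∈ F, g z = y ∧ θ z ∈ F' := fun y hy =>
      ⟨X y, (hX y).1, by rw [(hX y).2.1, hπ₂' y hy], by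
        rw [hθ, (hX y).2.1, hπ₂' y hy]; exact (hX y).2.2.1⟩
    refine le_antisymm (fun x' hx' => ?_) ?_
    · obtain ⟨z, hz, hgz, hθz⟩ := good (g x') (hF'g ▸ Submodule.mem_map_of_mem hx')
      have : g (x' - θ z) = 0 := by rw [map_sub, hθ, map_add, hgf, add_zero, hgz, sub_self]
      obtain ⟨a, ha⟩ := (hfg _).mp this
      refine ⟨z + f a, F.add_mem hz (hfF a (hF'mem a (ha ▸ F'.sub_mem hx' hθz))), ?_⟩
      rw [show (LinearMap.id + f ∘ₗ u ∘ₗ g : H →ₗ[R] H) (z + f a) = θ (z + f a) from (hθ _).symm]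
      rw [map_add, hfix, ha, add_sub_cancel]
    · rintro _ ⟨x₀, hx₀, rfl⟩
      obtain ⟨z, hz, hgz, hθz⟩ := good (g x₀) (hFg ▸ Submodule.mem_map_of_mem hx₀)
      obtain ⟨a, ha⟩ := (hfg _).mp (show g (x₀ - z) = 0 by rw [map_sub, hgz, sub_self])
      rw [show (LinearMap.id + f ∘ₗ u ∘ₗ g : H →ₗ[R] H) x₀ = θ x₀ from (hθ _).symm]
      rw [← sub_add_cancel x₀ z, ← ha, map_add, hfix]
      exact F'.add_mem (hfF' a (hFmem a (ha ▸ F.sub_mem hx₀ hz))) hθz

end Groth.Agent.S16420
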