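import Groth.Statements.S16421
import Mathlib
import Groth.Agent.Misc15.PerfectClosureFlat
-- import your own Groth.Agent.* helpers here

set_option autoImplicit false
universe u
open FrobAlg

namespace Groth.Agent.S16421

/-- Let p be a prime and R a commutative ring of characteristic p with a p-basis (x_i), meaning that the
monomials ∏ x_i^(e i) with every exponent e i < p form a basis of R as a module over itself through
the Frobenius, i.e. the map sending a finitely supported family of coefficients c to ∑_e (c e)^p · ∏
x_i^(e i) is a bijection onto R. Then the canonical ring map from R to its perfect closure is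
faithfully flat. -/
theorem result (p : ℕ) [Fact p.Prime]
    (R : Type u) [CommRing R] [CharP R p] (ι : Type u) (x : ι → R)
    (hx : Function.Bijective
      (fun c : {e : ι →₀ ℕ // ∀ i, e i < p} →₀ R =>
        c.sum (fun e r => r ^ p * e.1.prod (fun i n => x i ^ n)))) :
    (PerfectClosure.of R p).FaithfullyFlat := by
  have hF : (frobenius R p).Flat := by
    refine Misc15.flat_of_bijective_sum (frobenius R p)
      (fun e : {e : ι →₀ ℕ // ∀ i, e i < p} => e.1.prod (fun i n => x i ^ n)) ?_
    simpa only [frobenius_def] using hx
  have hp : 0 < p := (Fact.out : p.Prime).pos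
  have hred : IsReduced R := by
    refine (isReduced_iff_pow_one_lt p (Fact.out : p.Prime).one_lt).2 fun a ha => ?_
    let e0 : {e : ι →₀ ℕ // ∀ i, e i < p} := ⟨0, fun i => hp⟩
    have := hx.1 (a₁ := Finsupp.single e0 a) (a₂ := 0) (by
      simpa [e0, Finsupp.sum_single_index, hp.ne'] using ha)
    simpa using this
  have hinj : Function.Injective (PerfectClosure.of R p) := by
    intro a b hab
    simpa [PerfectClosure.of_apply, PerfectClosure.eq_iff] using hab
  rw [RingHom.FaithfullyFlat.iff_flat_and_comap_surjective]
  refine ⟨Misc15.flat_of_isPRadical p _ hinj hF, ?_⟩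
  refine (PrimeSpectrum.isHomeomorph_comap _ (fun y => ?_) ?_).surjective
  · obtain ⟨n, z, hz⟩ := IsPRadical.pow_mem (PerfectClosure.of R p) p y
    exact ⟨p ^ n, pow_pos hp n, z, hz⟩
  · rw [(RingHom.injective_iff_ker_eq_bot _).1 hinj]; exact bot_le

end Groth.Agent.S16421
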