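import Mathlib.RingTheory.GradedAlgebra.Homogeneous.Ideal
import Mathlib.Algebra.GradedMulAction
import Mathlib.Algebra.Module.Projective
import Mathlib.RingTheory.Finiteness.Defs
import Mathlib.Algebra.Algebra.Operations
import Mathlib.RingTheory.GradedAlgebra.Homogeneous.Ideal
import Mathlib.Algebra.Module.Projective
import Mathlib.RingTheory.Finiteness.Projective

set_option autoImplicit false
universe u
namespace GrMod
end GrMod
open GrMod

namespace Groth.Agent.S16422

/-- Let S be a commutative ring graded by ℤ with pieces 𝒜 n, and V a decreasing sequence of homogeneous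
ideals for which S is graded-complete, i.e. for each degree n the map from 𝒜 n to the inverse limit
of the quotients 𝒜 n / (𝒜 n ∩ V m) is bijective (stated as: a degree-n element in every V m
vanishes, and every sequence in 𝒜 n whose consecutive differences lie in the V m has a limit in 𝒜
n). Then every graded S-module M which is finitely generated and projective as an S-module is
graded-complete in the same sense for the submodules V m · M: for each n the map from ℳ n to the
inverse limit of ℳ n / (ℳ n ∩ V m · M) is bijective. -/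
theorem result
    (S : Type u) [CommRing S] (𝒜 : ℤ → AddSubgroup S) [GradedRing 𝒜]
    (V : ℕ → HomogeneousIdeal 𝒜) (hV : ∀ m, (V (m + 1)).toIdeal ≤ (V m).toIdeal)
    (hsep : ∀ (n : ℤ) (s : S), s ∈ 𝒜 n → (∀ m, s ∈ (V m).toIdeal) → s = 0)
    (hcpl : ∀ (n : ℤ) (f : ℕ → S), (∀ m, f m ∈ 𝒜 n) →
      (∀ m, f (m + 1) - f m ∈ (V m).toIdeal) → ∃ s ∈ 𝒜 n, ∀ m, s - f m ∈ (V m).toIdeal)
    (M : Type u) [AddCommGroup M] [Module S M] (ℳ : ℤ → AddSubgroup M)
    [DirectSum.Decomposition ℳ] [SetLike.GradedSMul 𝒜 ℳ]
    [Module.Finite S M] [Module.Projective S M] :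
    (∀ (n : ℤ) (x : M), x ∈ ℳ n → (∀ m, x ∈ (V m).toIdeal • (⊤ : Submodule S M)) → x = 0) ∧
    (∀ (n : ℤ) (g : ℕ → M), (∀ m, g m ∈ ℳ n) →
      (∀ m, g (m + 1) - g m ∈ (V m).toIdeal • (⊤ : Submodule S M)) →
      ∃ x ∈ ℳ n, ∀ m, x - g m ∈ (V m).toIdeal • (⊤ : Submodule S M)) := by
  classical
  obtain ⟨k, π, s, -, -, hs⟩ := Module.Finite.exists_comp_eq_id_of_projective S M
  have hsur : ∀ x, ∑ i, (s x i) • π (Pi.single i 1) = x := fun x => by
    have : π (s x) = x := LinearMap.congr_fun hs x
    conv_rhs => rw [← this, pi_eq_sum_univ' (s x), map_sum]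
    simp [map_smul]
  have hmem : ∀ (I : Ideal S) (x : M), x ∈ I • (⊤ : Submodule S M) → ∀ φ : M →ₗ[S] S, φ x ∈ I := by
    intro I x hx φ
    refine Submodule.smul_induction_on hx (fun a ha y _ => ?_) (fun a b ha hb => ?_)
    · rw [map_smul, smul_eq_mul]; exact I.mul_mem_right _ ha
    · rw [map_add]; exact I.add_mem ha hb
  let φ : Fin k → M →ₗ[S] S := fun i => LinearMap.proj i ∘ₗ s
  refine ⟨fun n x hx hV => ?_, fun n g hg hc => ?_⟩
  · rw [← hsur x]
    refine Finset.sum_eq_zero fun i _ => ?_
    have : s x i = 0 := by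
      rw [← DirectSum.sum_support_decompose 𝒜 (s x i)]
      refine Finset.sum_eq_zero fun d _ => hsep d _ (SetLike.coe_mem _) fun m => ?_
      exact (V m).isHomogeneous d (hmem _ _ (hV m) (φ i))
    rw [this, zero_smul]
  · let ι := Σ i : Fin k, (DirectSum.decompose ℳ (π (Pi.single i 1))).support
    let dg : ι → ℤ := fun p => p.2.1
    let gen : ι → M := fun p => (DirectSum.decompose ℳ (π (Pi.single p.1 1)) p.2.1 : M)
    have hgen : ∀ p, gen p ∈ ℳ (dg p) := fun p => SetLike.coe_mem _
    have hsur' : ∀ x, ∑ p : ι, (s x p.1) • gen p = x := fun x => by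
      conv_rhs => rw [← hsur x]
      rw [Fintype.sum_sigma]
      refine Finset.sum_congr rfl fun i _ => ?_
      show ∑ y, s x i • gen ⟨i, y⟩ = _
      rw [← Finset.smul_sum]
      congr 1
      conv_rhs => rw [← DirectSum.sum_support_decompose ℳ (π (Pi.single i 1))]
      exact Finset.sum_coe_sort _ (fun d => (DirectSum.decompose ℳ (π (Pi.single i 1)) d : M))
    let f : ι → ℕ → S := fun p m => (DirectSum.decompose 𝒜 (s (g m) p.1) (n - dg p) : S)
    have hproj : ∀ x ∈ ℳ n,
        x = ∑ p : ι, (DirectSum.decompose 𝒜 (s x p.1) (n - dg p) : S) • gen p := by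
      intro x hx
      conv_lhs => rw [← DirectSum.decompose_of_mem_same ℳ hx]
      conv_lhs => rw [← hsur' x]
      let P : M →+ M := AddMonoidHom.mk' (fun y => (DirectSum.decompose ℳ y n : M)) (by simp)
      show P _ = _
      rw [map_sum]
      refine Finset.sum_congr rfl fun p _ => ?_
      show (DirectSum.decompose ℳ (s x p.1 • gen p) n : M) = _
      generalize s x p.1 = a
      induction a using DirectSum.Decomposition.inductionOn 𝒜 with
      | zero => simp
      | @homogeneous d a =>
        have h := SetLike.GradedSMul.smul_mem a.2 (hgen p)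
        rw [vadd_eq_add] at h
        by_cases hd : d = n - dg p
        · subst hd
          rw [sub_add_cancel] at h
          rw [DirectSum.decompose_of_mem_same ℳ h, DirectSum.decompose_of_mem_same 𝒜 a.2]
        · rw [DirectSum.decompose_of_mem_ne ℳ h (by omega),
            DirectSum.decompose_of_mem_ne 𝒜 a.2 hd, zero_smul]
      | add a b ha hb =>
        simp only [add_smul, DirectSum.decompose_add, DFinsupp.add_apply, DirectSum.add_apply,
          AddSubgroup.coe_add, ha, hb]
    have hf : ∀ p, ∃ t ∈ 𝒜 (n - dg p), ∀ m, t - f p m ∈ (V m).toIdeal := fun p =>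
      hcpl _ (f p) (fun m => SetLike.coe_mem _) fun m => by
        have := (V m).isHomogeneous (n - dg p) (hmem _ _ (hc m) (φ p.1))
        simpa [φ, f, map_sub, DirectSum.decompose_sub] using this
    choose t ht htV using hf
    refine ⟨∑ p, t p • gen p, sum_mem fun p _ => ?_, fun m => ?_⟩
    · have h := SetLike.GradedSMul.smul_mem (ht p) (hgen p)
      rwa [vadd_eq_add, sub_add_cancel] at h
    · rw [hproj (g m) (hg m), ← Finset.sum_sub_distrib]
      refine Submodule.sum_mem _ fun p _ => ?_
      rw [← sub_smul]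
      exact Submodule.smul_mem_smul (htV p m) Submodule.mem_top

end Groth.Agent.S16422
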