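import Groth.Statements.S16429
import Groth.Agent.SDiv28.DualExtend
import Groth.Agent.SDiv28.BidualGen
import Groth.Agent.SDiv28.SmoothWeakAss
import Groth.Agent.SDiv28.WeakDense

set_option autoImplicit false
universe u
open CategoryTheory CategoryTheory.Limits AlgebraicGeometry TopologicalSpace
open RhoSh

namespace Groth.Agent.S16429

/-- Let X be a smooth, proper, geometrically irreducible scheme over a field k admitting an ample
invertible sheaf, S a locally Noetherian k-scheme, and F a finitely presented quasi-coherent module
on X ×_k S, flat over S with torsion-free fibres. Let U be an open subset of X ×_k S off which every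
point has fibre local ring of Krull dimension at least 2 and on which F is locally free of rank h,
and let L be an h-th exterior power of F. Then the determinant det F, i.e. the double dual of L, is
the direct image of the determinant of the locally free module F|_U: the unit map from the double
dual of L to j_* j^* of it (j the inclusion of U) is an isomorphism, and the biduality map L ⟶ L^**
restricts to an isomorphism over U, identifying det F on U with the exterior power L|_U of F|_U. The
published statement allows any k-scheme S; this row assumes S locally Noetherian. -/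
theorem result
    (k : Type u) [Field k] (X S : Scheme.{u})
    (a : X ⟶ Spec (CommRingCat.of k)) (b : S ⟶ Spec (CommRingCat.of k))
    [Smooth a] [IsProper a] [GeometricallyIrreducible a]
    (hproj : ∃ H : X.Modules, CohB1.IsAmple H) [IsLocallyNoetherian S]
    (F : (pullback a b).Modules) (hfp : CohB1.IsFP F)
    (hfl : FlatMod.IsFlatOver (pullback.snd a b) F)
    (htf : ∀ s : ↥S, TorSh.IsTorsionFree
      ((Scheme.Modules.pullback ((pullback.snd a b).fiberι s)).obj F))
    (h : ℕ) (U : (pullback a b).Opens)
    (hU : ∀ x : ↥(pullback a b), x ∉ U →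
      (2 : WithBot ℕ∞) ≤ ringKrullDim ↑(CInt.fiberStalk (pullback.snd a b) x))
    (hFU : FlatMod.IsFinLocFreeOfRank h (F.restrict U.ι))
    (L : (pullback a b).Modules) (hL : ExtPow.IsExtPow h F L) :
    IsIso ((Scheme.Modules.restrictAdjunction U.ι).unit.app (RefHull.ddual L)) ∧
      IsIso ((Scheme.Modules.restrictFunctor U.ι).map (RefHull.bidualMap L)) := by
  haveI : Smooth (pullback.snd a b) := MorphismProperty.pullback_snd _ _ inferInstance
  have hdense : Groth.Agent.ModPairLib.IsDenseOpen U := by
    refine Groth.Agent.SDiv28.isDenseOpen_of_weakAss_mem U fun x hx => ?_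
    by_contra hxU
    have h2 := hU x hxU
    rw [Groth.Agent.SDiv28.SmoothWeakAss.coheight_asFiber_eq_zero (pullback.snd a b) hx] at h2
    exact absurd h2 (by decide)
  refine ⟨Groth.Agent.SDiv28.DualExtend.isIso_unit hdense
    (fun z hz => Groth.Agent.SDiv28.RegPairExtend.exists_regPair_nhd (pullback.snd a b) z (hU z hz)) _, ?_⟩
  refine Scheme.Modules.Hom.isIso_iff_isIso_app.2 fun W => (ConcreteCategory.isIso_iff_bijective _).2 ?_
  refine Groth.Agent.SDiv28.BidualGen.bijective_app_of_cover (RefHull.bidualMap L) (U.ι ''ᵁ W) fun x hx => ?_
  obtain ⟨z, -, rfl⟩ := hx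
  obtain ⟨U₀, e₀, -, hy₀, hb₀⟩ := Groth.Agent.SDiv28.BidualGen.exists_isBasisOn_of_restrict hFU z.2
  obtain ⟨V, -, hzV, s, hs⟩ := Groth.Agent.SDiv28.BidualGen.exists_isGen_of_isBasisOn hb₀ hy₀ hL
  exact ⟨V, hzV, fun W' hW' => Groth.Agent.SDiv28.BidualGen.bijective_bidualMap_app hs hW'⟩

end Groth.Agent.S16429
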