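import Groth.Statements.S16431
import Groth.Agent.CAlgH.BranchesExtended

set_option autoImplicit false
universe u
open Hensel

namespace Groth.Agent.S16431

/-- Let A be an excellent reduced local ring with residue field k, let A' be the integral closure of A
in its total ring of fractions, let A^h be a henselization and A^hs a strict henselization of A, and
let A^h → A^hs be the A-algebra map between them (it is the unique one). Then the residue field of
A' at every maximal ideal is purely inseparable over k — every element has some p^n-th power in the
image of A, p the characteristic exponent — if and only if every minimal prime ideal of A^hs is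
generated by its contraction to A^h. -/
theorem result
    (A Ah Ash : Type u) [CommRing A] [IsLocalRing A] [IsReduced A] (hA : EGA4.IsExcellent A)
    [CommRing Ah] [IsLocalRing Ah] [Algebra A Ah] [IsLocalHom (algebraMap A Ah)]
    [Hensel.IsHenselization A Ah]
    [CommRing Ash] [IsLocalRing Ash] [Algebra A Ash] [IsLocalHom (algebraMap A Ash)]
    [Hensel.IsStrictHenselization A Ash] [Algebra Ah Ash] [IsScalarTower A Ah Ash] :
    (∀ (M : Ideal (integralClosure A (FractionRing A))) [M.IsMaximal], ∀ x : (integralClosure A (FractionRing A)) ⧸ M, ∃ n : ℕ,
        x ^ (ringExpChar ((integralClosure A (FractionRing A)) ⧸ M)) ^ n ∈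
          ((Ideal.Quotient.mk M).comp (algebraMap A (integralClosure A (FractionRing A)))).range) ↔
      (∀ Q ∈ minimalPrimes Ash, Q = Ideal.map (algebraMap Ah Ash) (Q.comap (algebraMap Ah Ash))) := by
  open Groth.Agent.CAlgH.BranchesExtended in
  haveI : IsNoetherianRing A := hA.1
  haveI := isLocalHom_henselization A Ah Ash
  rw [generated_iff_numBranches A Ah Ash, numGeomBranches_eq_iff A (minimalPrimes.finite_of_isNoetherianRing A),
    normRed_condition_iff A]
  haveI : IsNoetherianRing Ash := _root_.Groth.Agent.EssEt6.isNoetherianRing_strict (A := A) ‹_›
  rw [← _root_.Groth.Agent.EGA43.BranchCount.numGeomBranches_eq (A := A) Ash]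
  exact (minimalPrimes.finite_of_isNoetherianRing Ash).encard_lt_top.ne

end Groth.Agent.S16431
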