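import Groth.Statements.S16432
import Groth.Agent.EssEt6.Normal
import Groth.Agent.S2654

set_option autoImplicit false
universe u
open EGA4loc

namespace Groth.Agent.S16432

/-- Let A be an excellent normal local domain and S a strict henselization of A; let D be an
A-subalgebra of S which is a local ring dominated by S (the inclusion is a local homomorphism), an
integrally closed domain, and whose fraction field is generated as a field over the image of A by
finitely many elements of D. Then D is an essentially etale local A-algebra: A-isomorphic to the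
localization of an etale A-algebra at a prime ideal over the maximal ideal of A. -/
theorem result
    (A S : Type u) [CommRing A] [IsLocalRing A] [IsDomain A] [IsIntegrallyClosed A]
    (hA : EGA4.IsExcellent A) [CommRing S] [IsLocalRing S] [Algebra A S] [IsLocalHom (algebraMap A S)]
    [Hensel.IsStrictHenselization A S] (D : Subalgebra A S) [IsLocalRing D]
    [IsLocalHom (algebraMap D S)] [IsDomain D] [IsIntegrallyClosed D]
    (hfg : ∃ s : Finset D, Subfield.closure (Set.range (algebraMap A (FractionRing D)) ∪
        (algebraMap D (FractionRing D)) '' (s : Set D)) = ⊤) :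
    EGA4loc.IsEssentiallyEtale A D := by
  classical
  obtain ⟨s, hs⟩ := hfg
  have hN : CAlg.IsNagata A := Groth.Agent.S2654.result A ⟨hA.1, hA.2.2.1, hA.2.2.2⟩
  obtain ⟨D₁, hle, hsD, _, hlh, hD₁⟩ := Groth.Agent.EssEt6.exists_normal hN D
    (s.image Subtype.val) (fun x hx => by
      obtain ⟨y, -, rfl⟩ := Finset.mem_image.mp hx
      exact y.2)
  suffices h : D ≤ D₁ by
    obtain rfl : D₁ = D := le_antisymm hle h
    exact hD₁
  intro d hd
  let F := FractionRing D
  let T : Subring F := (D₁.toSubring.comap D.val.toRingHom).map (algebraMap D F)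
  have hgen : Set.range (algebraMap A F) ∪ algebraMap D F '' (s : Set D) ⊆ (T : Set F) := by
    rintro _ (⟨a, rfl⟩ | ⟨y, hy, rfl⟩)
    · exact ⟨algebraMap A D a, D₁.algebraMap_mem a, (IsScalarTower.algebraMap_apply A D F a).symm⟩
    · exact ⟨y, hsD (Finset.mem_image_of_mem _ hy), rfl⟩
  have htop : algebraMap D F ⟨d, hd⟩ ∈ Subfield.closure
      (Set.range (algebraMap A F) ∪ algebraMap D F '' (s : Set D)) := hs.symm ▸ Subfield.mem_top _
  obtain ⟨x, hx, y, hy, hxy⟩ := Subfield.mem_closure_iff.mp htop
  obtain ⟨a, ha, rfl⟩ := Subring.closure_le.mpr hgen hx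
  obtain ⟨b, hb, rfl⟩ := Subring.closure_le.mpr hgen hy
  by_cases hb0 : b = 0
  · rw [hb0, map_zero, div_zero] at hxy
    have hd0 : (⟨d, hd⟩ : D) = 0 := IsFractionRing.injective D F (by rw [← hxy, map_zero])
    rw [show d = 0 from congrArg Subtype.val hd0]
    exact zero_mem _
  rw [div_eq_iff ((map_ne_zero_iff _ (IsFractionRing.injective D F)).mpr hb0), ← map_mul] at hxy
  have hab : (a : S) = d * (b : S) := congrArg Subtype.val (IsFractionRing.injective D F hxy)
  haveI := Groth.Agent.EssEt6.flat_strict (A := A) S
  haveI := Groth.Agent.EssEt6.faithfullyFlat hD₁ S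
  have hmem : (⟨(a : S), ha⟩ : D₁) ∈ Ideal.span {(⟨(b : S), hb⟩ : D₁)} := by
    rw [← Ideal.comap_map_eq_self_of_faithfullyFlat (B := S) (Ideal.span {(⟨(b : S), hb⟩ : D₁)}),
      Ideal.mem_comap, Ideal.map_span, Set.image_singleton, Ideal.mem_span_singleton]
    exact ⟨d, by show (a : S) = (b : S) * d; rw [hab, mul_comm]⟩
  obtain ⟨c, hc⟩ := Ideal.mem_span_singleton.mp hmem
  have hc' : (a : S) = (b : S) * (c : S) := congrArg Subtype.val hc
  have hcD : (c : S) ∈ D := hle c.2
  have : (⟨d, hd⟩ : D) = ⟨c, hcD⟩ := by
    refine mul_left_cancel₀ hb0 (Subtype.ext ?_)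
    show (b : S) * d = (b : S) * c
    rw [← hc', hab, mul_comm]
  rw [show d = c from congrArg Subtype.val this]
  exact c.2

end Groth.Agent.S16432
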