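import Groth.Statements.S16434
import Groth.Agent.EssEt6.GaloisStage
import Groth.Agent.EssEt6.Between

set_option autoImplicit false
universe u
open EGA4loc

namespace Groth.Agent.S16434

/-- Let A be an excellent henselian local domain such that a strict henselization S of A is again a
domain, let K be the fraction field of S, and let L be the subfield of K generated over the image of
A by a finite subset t of K (so L is an intermediate field between the fraction fields of A and of
S, finitely generated over the former). Then the intersection of L with S is (the underlying set of)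
an A-subalgebra D of S which is a local ring with local inclusion into S and which is an essentially
etale local A-algebra: A-isomorphic to the localization of an etale A-algebra at a prime over the
maximal ideal. -/
theorem result
    (A S : Type u) [CommRing A] [HenselianLocalRing A] [IsDomain A] (hA : EGA4.IsExcellent A)
    [CommRing S] [IsLocalRing S] [Algebra A S] [IsLocalHom (algebraMap A S)]
    [Hensel.IsStrictHenselization A S] [IsDomain S] (t : Finset (FractionRing S)) :
    ∃ D : Subalgebra A S, (D : Set S) = (algebraMap S (FractionRing S)) ⁻¹'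
        (Subfield.closure (Set.range (algebraMap A (FractionRing S)) ∪ (t : Set (FractionRing S))) :
          Set (FractionRing S)) ∧
      ∃ _ : IsLocalRing D, IsLocalHom (algebraMap D S) ∧ EGA4loc.IsEssentiallyEtale A D := by
  classical
  haveI : IsNoetherianRing A := hA.1
  let F := FractionRing S
  let Lc := Subfield.closure (Set.range (algebraMap A F) ∪ (t : Set F))
  choose num hnd using fun z : F => IsLocalization.surj (nonZeroDivisors S) z
  obtain ⟨E, hsE, _, hlh, hE, _, hstab⟩ := Groth.Agent.EssEt6.exists_normal_stage A S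
    (t.image (fun z => (num z).1) ∪ t.image (fun z => (((num z).2 : S))))
  let j : FractionRing E →+* F := IsFractionRing.lift (A := E) (g := (algebraMap S F).comp (algebraMap E S))
    ((IsFractionRing.injective S F).comp Subtype.val_injective)
  have hj : ∀ e : E, j (algebraMap E (FractionRing E) e) = algebraMap S F e := fun e =>
    IsLocalization.lift_eq _ e
  have hLj : Lc ≤ j.fieldRange := Subfield.closure_le.mpr (by
    rintro _ (⟨a, rfl⟩ | hz)
    · exact ⟨algebraMap E _ (algebraMap A E a), by rw [hj]; exact (IsScalarTower.algebraMap_apply A S F a).symm⟩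
    · rename_i z
      refine ⟨algebraMap E _ (⟨(num z).1, hsE (Finset.mem_union_left _ (Finset.mem_image_of_mem _ hz))⟩ : E) /
        algebraMap E _ (⟨((num z).2 : S), hsE (Finset.mem_union_right _
          (Finset.mem_image_of_mem (fun z => (((num z).2 : S))) hz))⟩ : E), ?_⟩
      rw [map_div₀, hj, hj, div_eq_iff ((map_ne_zero_iff _ (IsFractionRing.injective S F)).mpr
        (nonZeroDivisors.ne_zero (num z).2.2))]
      exact (hnd z).symm)
  let D : Subalgebra A S :=
    { Lc.toSubring.comap (algebraMap S F) with
      algebraMap_mem' := fun a => by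
        show algebraMap S F (algebraMap A S a) ∈ Lc
        rw [← IsScalarTower.algebraMap_apply]
        exact Subfield.subset_closure (Or.inl ⟨a, rfl⟩) }
  haveI := Groth.Agent.EssEt6.flat_strict (A := A) S
  haveI := Groth.Agent.EssEt6.faithfullyFlat hE S
  have hDE : D ≤ E := by
    intro x hx
    obtain ⟨w, hw⟩ := hLj hx
    obtain ⟨⟨a, b⟩, hab⟩ := IsLocalization.surj (nonZeroDivisors E) w
    have h1 : (a : S) = x * ((b : E) : S) := IsFractionRing.injective S F (by
      rw [map_mul, ← hw, ← hj, ← hj, ← map_mul, hab])
    have hmem : a ∈ Ideal.span {(b : E)} := by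
      rw [← Ideal.comap_map_eq_self_of_faithfullyFlat (B := S) (Ideal.span {(b : E)}), Ideal.mem_comap,
        Ideal.map_span, Set.image_singleton, Ideal.mem_span_singleton]
      exact ⟨x, by rw [mul_comm]; exact h1⟩
    obtain ⟨c, hc⟩ := Ideal.mem_span_singleton.mp hmem
    have hb : ((b : E) : S) ≠ 0 := fun h0 => nonZeroDivisors.ne_zero b.2 (Subtype.ext h0)
    have hxc : x = (c : S) := mul_right_cancel₀ hb (by
      rw [← h1, mul_comm]; exact congrArg Subtype.val hc)
    exact hxc ▸ c.2
  haveI hlD : IsLocalHom (algebraMap D S) := ⟨fun x hx => by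
    obtain ⟨w, hw⟩ := hx.exists_right_inv
    have hw' : (x : S) * w = 1 := hw
    have hwD : w ∈ D := by
      show algebraMap S F w ∈ Lc
      have h0 : algebraMap S F (x : S) * algebraMap S F w = 1 := by rw [← map_mul, hw', map_one]
      rw [eq_inv_of_mul_eq_one_right h0]
      exact Lc.inv_mem x.2
    exact IsUnit.of_mul_eq_one (⟨w, hwD⟩ : D) (Subtype.ext hw')⟩
  haveI : IsLocalRing D := Groth.Agent.EssEt6.isLocalRing_of_isLocalHom D
  haveI : IsNoetherian A E := inferInstance
  haveI : Module.Finite A D :=
    Module.Finite.of_injective (Subalgebra.inclusion hDE).toLinearMap (Subalgebra.inclusion_injective hDE)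
  refine ⟨D, rfl, inferInstance, hlD, Groth.Agent.EssEt6.isEssentiallyEtale_of_map_eq D ?_⟩
  haveI := Groth.Agent.EssEt6.isLocalHom_algebraMap (A := A) D
  refine le_antisymm (((IsLocalRing.local_hom_TFAE (algebraMap A D)).out 0 2).mp ‹_›) fun x hx => ?_
  obtain ⟨H, hid, hcomp, hinj, hfix⟩ := Groth.Agent.EssEt6.exists_fixer hE hstab (Lc.comap j) fun a => by
    show j (algebraMap A (FractionRing E) a) ∈ Lc
    rw [IsScalarTower.algebraMap_apply A E (FractionRing E), hj]
    exact Subfield.subset_closure (Or.inl ⟨a, IsScalarTower.algebraMap_apply A S F a⟩)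
  let DE : Subalgebra A E := D.comap E.val
  have hDEiff : ∀ y : E, y ∈ DE ↔ ∀ h ∈ H, h y = y := fun y => by
    rw [← hfix y]
    show algebraMap S F (y : S) ∈ Lc ↔ j (algebraMap E (FractionRing E) y) ∈ Lc
    rw [hj]
  let e : DE →ₐ[A] D := ((E.val).comp DE.val).codRestrict D fun z => z.2
  haveI : IsLocalHom (algebraMap DE E) := ⟨fun z hz => by
    obtain ⟨w, hw⟩ := (IsUnit.of_map (algebraMap D S) (e z) (hz.map (algebraMap E S))).exists_right_inv
    refine IsUnit.of_mul_eq_one (⟨⟨(w : S), hDE w.2⟩, w.2⟩ : DE) (Subtype.ext (Subtype.ext ?_))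
    exact congrArg (fun v : D => (v : S)) hw⟩
  have hxE : (⟨(x : S), hDE x.2⟩ : E) ∈ IsLocalRing.maximalIdeal E := by
    rw [IsLocalRing.mem_maximalIdeal, mem_nonunits_iff]
    intro hu
    exact (IsLocalRing.mem_maximalIdeal _).mp hx (IsUnit.of_map (algebraMap D S) x (hu.map (algebraMap E S)))
  have h := Ideal.mem_map_of_mem e.toRingHom
    (Groth.Agent.EssEt6.mem_map_of_fixed hE H hid hcomp hinj DE hDEiff
      (x := ⟨⟨(x : S), hDE x.2⟩, x.2⟩) hxE)
  rw [Ideal.map_map, show e.toRingHom.comp (algebraMap A DE) = algebraMap A D from e.comp_algebraMap] at h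
  exact h

end Groth.Agent.S16434
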