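import Groth.Statements.S16441
import Groth.Agent.EssEt6.TotalFractions

set_option autoImplicit false
universe u
open EGA4loc

namespace Groth.Agent.S16441

/-- Let A be a reduced local ring with finitely many minimal prime ideals, S a strict henselization of
A, and D an A-subalgebra of S which is a local ring dominated by S (local inclusion). Then the total
ring of fractions K_D of D is finitely generated over that of A — there is a finite subset t of K_D
such that every element of K_D, multiplied by (the image of) some non-zero-divisor of A, is a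
polynomial expression in t with coefficients from A — if and only if D is contained in some
A-subalgebra E of S which is a local ring and an essentially etale local A-algebra (a localization
of an etale A-algebra at a prime over the maximal ideal). -/
theorem result
    (A S : Type u) [CommRing A] [IsLocalRing A] [IsReduced A] (hmin : (minimalPrimes A).Finite)
    [CommRing S] [IsLocalRing S] [Algebra A S] [IsLocalHom (algebraMap A S)]
    [Hensel.IsStrictHenselization A S] (D : Subalgebra A S) [IsLocalRing D]
    [IsLocalHom (algebraMap D S)] :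
    (∃ t : Finset (FractionRing D), ∀ x : FractionRing D, ∃ a ∈ nonZeroDivisors A,
        algebraMap A (FractionRing D) a * x ∈ Algebra.adjoin A (t : Set (FractionRing D))) ↔
      ∃ E : Subalgebra A S, D ≤ E ∧ ∃ _ : IsLocalRing E, EGA4loc.IsEssentiallyEtale A E := by
  classical
  constructor
  · rintro ⟨t, ht⟩
    choose dn hdn using fun z : FractionRing D => IsLocalization.surj (nonZeroDivisors D) z
    obtain ⟨E, hsE, _, hlh, hE⟩ := Groth.Agent.EssEt6.exists_subalgebra (A := A) S
      (t.image (fun z => ((dn z).1 : S)) ∪ t.image (fun z => (((dn z).2 : D) : S)))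
    refine ⟨E, fun x hx => ?_, ‹_›, hE⟩
    haveI := Groth.Agent.EssEt6.flat_strict (A := A) S
    haveI := Groth.Agent.EssEt6.faithfullyFlat hE S
    let F := FractionRing D
    have key : ∀ z ∈ Algebra.adjoin A (t : Set F), ∃ n ∈ nonZeroDivisors D, (n : S) ∈ E ∧
        ∃ q : D, (q : S) ∈ E ∧ algebraMap D F n * z = algebraMap D F q := by
      intro z hz
      induction hz using Algebra.adjoin_induction with
      | mem z hz =>
        exact ⟨(dn z).2, (dn z).2.2,
          hsE (Finset.mem_union_right _ (Finset.mem_image_of_mem _ hz)), (dn z).1,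
          hsE (Finset.mem_union_left _ (Finset.mem_image_of_mem (fun z => ((dn z).1 : S)) hz)),
          by rw [mul_comm]; exact hdn z⟩
      | algebraMap r =>
        exact ⟨1, one_mem _, one_mem E, algebraMap A D r, E.algebraMap_mem r, by
          rw [map_one, one_mul, ← IsScalarTower.algebraMap_apply]⟩
      | add z w _ _ hz hw =>
        obtain ⟨n, hn, hnE, q, hq, hnq⟩ := hz
        obtain ⟨m, hm, hmE, r, hr, hmr⟩ := hw
        refine ⟨n * m, mul_mem hn hm, mul_mem hnE hmE, q * m + r * n,
          add_mem (mul_mem hq hmE) (mul_mem hr hnE), ?_⟩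
        rw [map_mul, map_add, map_mul, map_mul, ← hnq, ← hmr]; ring
      | mul z w _ _ hz hw =>
        obtain ⟨n, hn, hnE, q, hq, hnq⟩ := hz
        obtain ⟨m, hm, hmE, r, hr, hmr⟩ := hw
        refine ⟨n * m, mul_mem hn hm, mul_mem hnE hmE, q * r, mul_mem hq hr, ?_⟩
        rw [map_mul, map_mul, ← hnq, ← hmr]; ring
    obtain ⟨a, ha, hax⟩ := ht (algebraMap D F ⟨x, hx⟩)
    obtain ⟨n, hn, hnE, q, hqE, hnq⟩ := key _ hax
    have h1 : (n : S) * algebraMap A S a * x = (q : S) := by
      have : n * algebraMap A D a * ⟨x, hx⟩ = q := IsFractionRing.injective D F (by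
        rw [map_mul, map_mul, ← IsScalarTower.algebraMap_apply, mul_assoc, hnq])
      exact congrArg Subtype.val this
    let n' : E := ⟨n, hnE⟩
    have hn' : n' ∈ nonZeroDivisors E := by
      refine Groth.Agent.EssEt6.mem_nonZeroDivisors_of_subalgebra hmin hE (D := D.comap E.val) n.2
        fun d hd hdn => ?_
      have h0 : (⟨(d : S), hd⟩ : D) * n = 0 := Subtype.ext (congrArg (fun w : E => (w : S)) hdn)
      exact Subtype.ext (congrArg (fun w : D => (w : S)) ((mem_nonZeroDivisors_iff_right.mp hn) _ h0))
    let m : E := n' * algebraMap A E a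
    have hm : m ∈ nonZeroDivisors E :=
      mul_mem hn' (Groth.Agent.EssEt6.map_mem_nonZeroDivisors hE ha)
    have hmem : (⟨(q : S), hqE⟩ : E) ∈ Ideal.span {m} := by
      rw [← Ideal.comap_map_eq_self_of_faithfullyFlat (B := S) (Ideal.span {m}), Ideal.mem_comap,
        Ideal.map_span, Set.image_singleton, Ideal.mem_span_singleton]
      exact ⟨x, h1.symm⟩
    obtain ⟨c, hc⟩ := Ideal.mem_span_singleton.mp hmem
    have hreg := Module.Flat.isSMulRegular_of_nonZeroDivisors hm (M := S)
    have hxc : x = (c : S) := hreg (by
      show m • x = m • (c : S)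
      rw [Algebra.smul_def, Algebra.smul_def]
      exact h1.trans (congrArg Subtype.val hc))
    rw [hxc]
    exact c.2
  · rintro ⟨E, hDE, _, hE⟩
    let F := FractionRing E
    let j : D →ₐ[A] E := Subalgebra.inclusion hDE
    have hj : ∀ b ∈ nonZeroDivisors D, j b ∈ nonZeroDivisors E := by
      intro b hb
      refine Groth.Agent.EssEt6.mem_nonZeroDivisors_of_subalgebra hmin hE (D := j.range) ⟨b, rfl⟩ ?_
      rintro _ ⟨d, rfl⟩ hd
      have h0 : d * b = 0 := Subalgebra.inclusion_injective hDE (by rw [map_mul, map_zero]; exact hd)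
      show j d = 0
      rw [(mem_nonZeroDivisors_iff_right.mp hb) _ h0, map_zero]
    let f : FractionRing D →ₐ[A] F := IsLocalization.liftAlgHom (M := nonZeroDivisors D)
      (f := (IsScalarTower.toAlgHom A E F).comp j) fun b =>
        IsLocalization.map_units F (⟨j b, hj b b.2⟩ : nonZeroDivisors E)
    have hf : Function.Injective f := by
      rw [injective_iff_map_eq_zero]
      intro z hz
      obtain ⟨d, b, rfl⟩ := IsLocalization.exists_mk'_eq (nonZeroDivisors D) z
      have h1 : f (algebraMap D _ d) = algebraMap E F (j d) := IsLocalization.lift_eq _ d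
      rw [← IsLocalization.mk'_spec (FractionRing D) d b, map_mul, hz, zero_mul] at h1
      have : d = 0 := Subalgebra.inclusion_injective hDE
        (IsFractionRing.injective E F (by rw [← h1, map_zero, map_zero]))
      rw [this, IsLocalization.mk'_zero]
    have hu : ∀ a ∈ nonZeroDivisors A, IsUnit (algebraMap A (FractionRing D) a) := fun a ha => by
      rw [IsScalarTower.algebraMap_apply A D (FractionRing D)]
      refine IsLocalization.map_units _ (⟨_, ?_⟩ : nonZeroDivisors D)
      rw [mem_nonZeroDivisors_iff_right]
      intro d hd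
      have h1 : j d * algebraMap A E a = 0 := by rw [← j.commutes, ← map_mul, hd, map_zero]
      exact Subalgebra.inclusion_injective hDE (((mem_nonZeroDivisors_iff_right.mp
        (Groth.Agent.EssEt6.map_mem_nonZeroDivisors hE ha)) _ h1).trans (map_zero j).symm)
    obtain ⟨t, ht⟩ := (Groth.Agent.EssEt6.isArtinianRing_of_injective hmin hE _ hu f hf).2
    refine ⟨t, fun x => ?_⟩
    obtain ⟨a, ha, hax⟩ := ht x
    exact ⟨a, ha, Algebra.span_le_adjoin A _ hax⟩

end Groth.Agent.S16441
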