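import Groth.Statements.S16439
import Groth.Agent.EssEt6.UnitTrick
import Groth.Agent.EssEt6.Between
import Groth.Agent.S16441
import Groth.Agent.S2654

set_option autoImplicit false
universe u
open EGA4loc

namespace Groth.Agent.S16439

open IsLocalRing in
/-- Let A be an excellent reduced local ring with maximal ideal m, S a strict henselization of A, and D
an A-subalgebra of S which is a Noetherian local ring dominated by S (the inclusion is local), whose
total ring of fractions K_D is finitely generated over that of A — there is a finite subset t of K_D
such that every element of K_D, after multiplication by (the image of) a non-zero-divisor of A, is a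
polynomial expression in t with coefficients from A — and such that m D is the maximal ideal of D.
Then D is an essentially etale local A-algebra: A-isomorphic to the localization of an etale
A-algebra at a prime over m. -/
theorem result
    (A S : Type u) [CommRing A] [IsLocalRing A] [IsReduced A] (hA : EGA4.IsExcellent A)
    [CommRing S] [IsLocalRing S] [Algebra A S] [IsLocalHom (algebraMap A S)]
    [Hensel.IsStrictHenselization A S] (D : Subalgebra A S) [IsLocalRing D]
    [IsLocalHom (algebraMap D S)] [IsNoetherianRing D]
    (hfg : ∃ t : Finset (FractionRing D), ∀ x : FractionRing D, ∃ a ∈ nonZeroDivisors A,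
      algebraMap A (FractionRing D) a * x ∈ Algebra.adjoin A (t : Set (FractionRing D)))
    (hm : Ideal.map (algebraMap A D) (maximalIdeal A) = maximalIdeal D) :
    EGA4loc.IsEssentiallyEtale A D := by
  haveI : IsNoetherianRing A := hA.1
  have hN : CAlg.IsNagata A := Groth.Agent.S2654.result A ⟨hA.1, hA.2.2.1, hA.2.2.2⟩
  have hfin := minimalPrimes.finite_of_isNoetherianRing A
  obtain ⟨E, hDE, _, hE⟩ := (Groth.Agent.S16441.result A S hfin D).mp hfg
  let D' : Subalgebra A E := (Subalgebra.inclusion hDE).range
  let e : D ≃ₐ[A] D' := AlgEquiv.ofInjective (Subalgebra.inclusion hDE) (Subalgebra.inclusion_injective hDE)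
  haveI : IsNoetherianRing D' := isNoetherianRing_of_ringEquiv D e.toRingEquiv
  haveI : IsLocalRing D' := e.toRingEquiv.isLocalRing
  haveI : IsLocalHom (algebraMap D' E) := ⟨fun z hz => by
    obtain ⟨d, rfl⟩ := e.surjective z
    exact (IsUnit.of_map (algebraMap D S) d (hz.map (algebraMap E S))).map e⟩
  have hm' : Ideal.map (algebraMap A D') (maximalIdeal A) = maximalIdeal D' := by
    have h1 : algebraMap A D' = e.toRingEquiv.toRingHom.comp (algebraMap A D) :=
      RingHom.ext fun a => (e.commutes a).symm
    rw [h1, ← Ideal.map_map, hm]
    exact eq_maximalIdeal (Ideal.map_isMaximal_of_equiv e.toRingEquiv)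
  haveI := Groth.Agent.EssEt6.flat hE
  haveI := Groth.Agent.EssEt6.isNoetherianRing hE
  haveI := Groth.Agent.EssEt6.faithfullyFlat_of_map_eq (A := A) (D := D') (E := E) hm'
  haveI : Algebra.EssFiniteType A D' :=
    Groth.Agent.EssEt6.essFiniteType_of_normalization hN hE D' fun z hz w hw hzw =>
      Groth.Agent.EssEt6.mem_normalization_of_mul_eq_one hfin hE D' hz hw hzw
  haveI : Algebra.EssFiniteType A D :=
    Algebra.EssFiniteType.of_surjective e.symm.toAlgHom e.symm.surjective
  exact Groth.Agent.EssEt6.isEssentiallyEtale_of_map_eq D hm

end Groth.Agent.S16439
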