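import Groth.Statements.S16442
import Groth.Agent.EssEt6.LocalSub

set_option autoImplicit false
universe u
open EGA4loc

namespace Groth.Agent.S16442

/-- Let A be a reduced local ring with finitely many minimal prime ideals, S a strict henselization of
A, and D an A-subalgebra of S which is a local ring dominated by S (local inclusion) and essentially
of finite type over A. Then D is contained in some A-subalgebra E of S which is a local ring and an
essentially etale local A-algebra. -/
theorem result
    (A S : Type u) [CommRing A] [IsLocalRing A] [IsReduced A] (hmin : (minimalPrimes A).Finite)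
    [CommRing S] [IsLocalRing S] [Algebra A S] [IsLocalHom (algebraMap A S)]
    [Hensel.IsStrictHenselization A S] (D : Subalgebra A S) [IsLocalRing D]
    [IsLocalHom (algebraMap D S)] [Algebra.EssFiniteType A D] :
    ∃ E : Subalgebra A S, D ≤ E ∧ ∃ _ : IsLocalRing E, EGA4loc.IsEssentiallyEtale A E := by
  obtain ⟨s, -, hs⟩ := Groth.Agent.EssEt6.exists_finset_forall_le D
  obtain ⟨E, hsE, hloc, hlh, hE⟩ := Groth.Agent.EssEt6.exists_subalgebra (A := A) S s
  exact ⟨E, hs E hlh hsE, hloc, hE⟩

end Groth.Agent.S16442
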