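import Groth.Statements.S16443
import Groth.Agent.EssEt6.TotalFractions

set_option autoImplicit false
universe u
open EGA4loc

namespace Groth.Agent.S16443

/-- Let A be a reduced local ring with finitely many minimal prime ideals, E a local ring which is an
essentially etale local A-algebra with local structure map, K_E the total ring of fractions of E,
and L an A-subalgebra of K_E containing an inverse of the image of every non-zero-divisor of A (so L
is an intermediate ring between the total rings of fractions of A and of E). Then the preimage D of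
L in E is (the underlying set of) an A-subalgebra of E which is a local ring with local inclusion
into E — its maximal ideal lies under that of E — and L is the total ring of fractions of D in the
sense that every element of L is the image of an element of D times the inverse of the image of a
non-zero-divisor of A. -/
theorem result
    (A E : Type u) [CommRing A] [IsLocalRing A] [IsReduced A] (hmin : (minimalPrimes A).Finite)
    [CommRing E] [IsLocalRing E] [Algebra A E] [IsLocalHom (algebraMap A E)]
    (hE : EGA4loc.IsEssentiallyEtale A E) (L : Subalgebra A (FractionRing E))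
    (hL : ∀ s ∈ nonZeroDivisors A, ∃ y ∈ L, algebraMap A (FractionRing E) s * y = 1) :
    ∃ D : Subalgebra A E, (D : Set E) = (algebraMap E (FractionRing E)) ⁻¹' (L : Set (FractionRing E)) ∧
      ∃ _ : IsLocalRing D, IsLocalHom (algebraMap D E) ∧
        ∀ l ∈ L, ∃ d ∈ D, ∃ s ∈ nonZeroDivisors A, ∃ y ∈ L,
          algebraMap A (FractionRing E) s * y = 1 ∧ l = algebraMap E (FractionRing E) d * y := by
  let F := FractionRing E
  let D : Subalgebra A E := L.comap (IsScalarTower.toAlgHom A E F)
  haveI := Groth.Agent.EssEt6.isLocalization_fractionRing hmin hE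
  have hu : ∀ a ∈ nonZeroDivisors A, IsUnit (algebraMap A L a) := fun a ha => by
    obtain ⟨y, hy, hay⟩ := hL a ha
    exact IsUnit.of_mul_eq_one (⟨y, hy⟩ : L) (Subtype.ext hay)
  haveI := (Groth.Agent.EssEt6.isArtinianRing_of_injective hmin hE L hu L.val
    Subtype.val_injective).1
  haveI hlh : IsLocalHom (algebraMap D E) := ⟨fun d hd => by
    obtain ⟨w, hw⟩ := hd.exists_right_inv
    have hd' : (d : E) * w = 1 := hw
    let d' : L := ⟨algebraMap E F d, d.2⟩
    have hreg : d' ∈ nonZeroDivisors L := by
      rw [mem_nonZeroDivisors_iff_right]
      intro z hz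
      refine Subtype.ext ((hd.map (algebraMap E F)).mul_left_eq_zero.mp ?_)
      exact congrArg Subtype.val hz
    obtain ⟨z, hz⟩ := (IsArtinianRing.isUnit_of_mem_nonZeroDivisors hreg).exists_right_inv
    have hz' : algebraMap E F d * (z : F) = 1 := congrArg Subtype.val hz
    have hwz : algebraMap E F w = (z : F) := by
      have h1 : algebraMap E F (d * w) = 1 := by rw [hd', map_one]
      rw [map_mul] at h1
      exact (hd.map (algebraMap E F)).mul_left_cancel (h1.trans hz'.symm)
    have hwD : w ∈ D := show algebraMap E F w ∈ L from hwz.symm ▸ z.2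
    exact IsUnit.of_mul_eq_one (⟨w, hwD⟩ : D) (Subtype.ext hd')⟩
  refine ⟨D, rfl, Groth.Agent.EssEt6.isLocalRing_of_isLocalHom D, hlh, fun l hl => ?_⟩
  obtain ⟨⟨e, m⟩, he⟩ := IsLocalization.surj ((nonZeroDivisors A).map (algebraMap A E)) l
  obtain ⟨a, ha, ham⟩ := m.2
  obtain ⟨y, hy, hay⟩ := hL a ha
  have he' : algebraMap E F e = l * algebraMap A F a := by
    rw [IsScalarTower.algebraMap_apply A E F, ham]; exact he.symm
  refine ⟨e, show algebraMap E F e ∈ L from he'.symm ▸ mul_mem hl (L.algebraMap_mem a), a, ha, y, hy,
    hay, ?_⟩
  rw [show algebraMap E (FractionRing E) e = _ from he', mul_assoc, hay, mul_one]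

end Groth.Agent.S16443
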