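import Groth.Statements.S16444
import Groth.Agent.S16430
import Groth.Agent.S17978
import Groth.Agent.CAlgH.AdicSmooth
import Groth.Agent.CAlgH.FiniteCompletion
import Groth.Agent.CommAlg6.CompletionEquidim
-- import your own Groth.Agent.* helpers here

set_option autoImplicit false
universe u
open scoped TensorProduct
open Hensel

namespace Groth.Agent.S16444

open IsLocalRing in
/-- Let A be a complete Noetherian local ring and R → A a local homomorphism from a henselian Noetherian
local ring R inducing a bijection on residue fields. Then every local ring E which is an essentially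
etale local A-algebra with local structure map is A-isomorphic to A ⊗_R S for some local ring S
which is a finite etale R-algebra (its residue field is then that of E). (The published statement
takes R to be a coefficient ring of A, that is a field or an image of a complete p-ring with the
same residue field; its proof uses only that R is henselian with the same residue field as A, which
is the hypothesis made here.) -/
theorem result
    (R A E : Type u) [CommRing R] [HenselianLocalRing R] [IsNoetherianRing R]
    [CommRing A] [IsLocalRing A] [IsNoetherianRing A] [IsAdicComplete (maximalIdeal A) A]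
    [Algebra R A] [IsLocalHom (algebraMap R A)]
    (hres : Function.Bijective (ResidueField.map (algebraMap R A)))
    [CommRing E] [IsLocalRing E] [Algebra A E] [IsLocalHom (algebraMap A E)]
    (hE : EGA4loc.IsEssentiallyEtale A E) :
    ∃ (S : Type u) (_ : CommRing S) (_ : IsLocalRing S) (_ : Algebra R S),
      Module.Finite R S ∧ Algebra.Etale R S ∧ Nonempty (E ≃ₐ[A] A ⊗[R] S) := by
  obtain ⟨C, _, _, q, _, hCet, hqA, ⟨eC⟩⟩ := hE
  haveI : Algebra.EssFiniteType A (Localization.AtPrime q) :=
    haveI : Algebra.EssFiniteType C (Localization.AtPrime q) := Algebra.EssFiniteType.of_isLocalization _ q.primeCompl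
    Algebra.EssFiniteType.comp A C _
  haveI : Algebra.FormallyUnramified A (Localization.AtPrime q) :=
    haveI : Algebra.FormallyUnramified C (Localization.AtPrime q) := Algebra.FormallyUnramified.of_isLocalization q.primeCompl
    Algebra.FormallyUnramified.comp A C _
  haveI : Algebra.EssFiniteType A E := Algebra.EssFiniteType.of_surjective eC.symm.toAlgHom eC.symm.surjective
  haveI : Algebra.FormallyUnramified A E := Algebra.FormallyUnramified.of_equiv eC.symm
  haveI : IsNoetherianRing E := Algebra.EssFiniteType.isNoetherianRing A E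
  let kR := ResidueField R
  let kA := ResidueField A
  let K := ResidueField E
  letI : Algebra R E := ((algebraMap A E).comp (algebraMap R A)).toAlgebra
  haveI : IsScalarTower R A E := IsScalarTower.of_algebraMap_eq fun _ => rfl
  haveI : IsLocalHom (algebraMap R E) := by
    rw [IsScalarTower.algebraMap_eq R A E]; infer_instance
  have hcomp : ∀ c : kR, algebraMap kA K (algebraMap kR kA c) = algebraMap kR K c := fun c => by
    obtain ⟨r, rfl⟩ := residue_surjective c
    show algebraMap kA K (residue A (algebraMap R A r)) = residue E (algebraMap R E r)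
    rw [IsScalarTower.algebraMap_apply R A E]
    rfl
  haveI : IsScalarTower kR kA K := IsScalarTower.of_algebraMap_eq fun c => (hcomp c).symm
  haveI : Module.Finite kR kA := Module.Finite.of_surjective (Algebra.linearMap kR kA) hres.2
  haveI : FiniteDimensional kR K := Module.Finite.trans kA K
  let ek : kR ≃+* kA := RingEquiv.ofBijective (algebraMap kR kA) hres
  haveI : Algebra.IsSeparable kR K :=
    Algebra.IsSeparable.of_equiv_equiv ek.symm (RingEquiv.refl K) (RingHom.ext fun a => by
      show algebraMap kR K (ek.symm a) = algebraMap kA K a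
      rw [← hcomp]
      exact congrArg (algebraMap kA K) (ek.apply_symm_apply a))
  obtain ⟨S, _, _, _, _, hSfin, hSet, ⟨eS⟩⟩ := _root_.Groth.Agent.S16430.result R K
  have hmS : (maximalIdeal R).map (algebraMap R S) = maximalIdeal S := Algebra.FormallyUnramified.map_maximalIdeal
  let πS : S →ₐ[R] K := (eS.toAlgHom.restrictScalars R).comp (IsScalarTower.toAlgHom R S (ResidueField S))
  have hπS : ∀ s, πS s = eS (residue S s) := fun _ => rfl
  let F := A ⊗[R] S
  let πA : A →ₐ[A] K := Algebra.ofId A K
  let πF : F →ₐ[A] K := Algebra.TensorProduct.lift πA πS fun _ _ => Commute.all _ _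
  have hπF : ∀ s, πF ((1 : A) ⊗ₜ[R] s) = πS s := fun s => by
    rw [Algebra.TensorProduct.lift_tmul, map_one, one_mul]
  have hsurjS : Function.Surjective πS := eS.surjective.comp residue_surjective
  have hsurj : Function.Surjective πF := fun z => by
    obtain ⟨s, rfl⟩ := hsurjS z
    exact ⟨_, hπF s⟩
  let M := RingHom.ker πF.toRingHom
  have hM : M.IsMaximal := RingHom.ker_isMaximal_of_surjective _ hsurj
  let mF := (maximalIdeal A).map (algebraMap A F)
  have hA : ∀ a : A, ∃ r : R, a - algebraMap R A r ∈ maximalIdeal A := fun a => by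
    obtain ⟨c, hc⟩ := hres.2 (residue A a)
    obtain ⟨r, rfl⟩ := residue_surjective c
    exact ⟨r, Ideal.Quotient.eq.mp hc.symm⟩
  have hmFM : mF ≤ M := Ideal.map_le_iff_le_comap.2 fun a ha => by
    show πF (algebraMap A F a) = 0
    rw [AlgHom.commutes, IsScalarTower.algebraMap_apply A E K]
    exact Ideal.Quotient.eq_zero_iff_mem.2 (((local_hom_TFAE (algebraMap A E)).out 0 2 rfl rfl).1 inferInstance
      (Ideal.mem_map_of_mem _ ha))
  have hrepr : ∀ x : F, ∃ s : S, x - (1 : A) ⊗ₜ[R] s ∈ mF := fun x => by
    induction x using TensorProduct.induction_on with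
    | zero => exact ⟨0, by simp⟩
    | tmul a s =>
      obtain ⟨r, hr⟩ := hA a
      refine ⟨r • s, ?_⟩
      rw [← TensorProduct.smul_tmul, Algebra.smul_def, mul_one, ← TensorProduct.sub_tmul]
      have := mF.mul_mem_right ((1 : A) ⊗ₜ[R] s) (Ideal.mem_map_of_mem (algebraMap A F) hr)
      rwa [Algebra.TensorProduct.algebraMap_apply, Algebra.TensorProduct.tmul_mul_tmul, mul_one, one_mul] at this
    | add x y hx hy =>
      obtain ⟨s, hs⟩ := hx
      obtain ⟨s', hs'⟩ := hy
      exact ⟨s + s', by rw [TensorProduct.tmul_add, add_sub_add_comm]; exact add_mem hs hs'⟩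
  have hMeq : M = mF := by
    refine le_antisymm (fun x hx => ?_) hmFM
    obtain ⟨s, hs⟩ := hrepr x
    have h0 : πS s = 0 := by
      have h1 := hmFM hs
      rw [RingHom.mem_ker, map_sub, RingHom.mem_ker.1 hx, zero_sub, neg_eq_zero] at h1
      exact (hπF s).symm.trans h1
    rw [hπS, map_eq_zero_iff _ eS.injective, residue_eq_zero_iff, ← hmS] at h0
    have h2 : (1 : A) ⊗ₜ[R] s ∈ mF := by
      have h3 := Ideal.mem_map_of_mem (Algebra.TensorProduct.includeRight : S →ₐ[R] F).toRingHom h0
      rw [Ideal.map_map, show (Algebra.TensorProduct.includeRight : S →ₐ[R] F).toRingHom.comp (algebraMap R S) =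
        (algebraMap A F).comp (algebraMap R A) from RingHom.ext fun r => by
          show (Algebra.TensorProduct.includeRight : S →ₐ[R] F) (algebraMap R S r) = _
          rw [AlgHom.commutes, RingHom.comp_apply, ← IsScalarTower.algebraMap_apply], ← Ideal.map_map] at h3
      exact Ideal.map_mono (((local_hom_TFAE (algebraMap R A)).out 0 2 rfl rfl).1 inferInstance) h3
    have := add_mem hs h2
    rwa [sub_add_cancel] at this
  haveI : Module.Finite A F := Module.Finite.base_change R A S
  haveI : Algebra.IsIntegral A F := Algebra.IsIntegral.of_finite A F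
  haveI : IsLocalRing F := IsLocalRing.of_unique_max_ideal ⟨M, hM, fun N hN => by
    haveI := hN
    refine (hM.eq_of_le hN.ne_top ?_).symm
    rw [hMeq, Ideal.map_le_iff_le_comap,
      IsLocalRing.eq_maximalIdeal (Ideal.isMaximal_comap_of_isIntegral_of_isMaximal (R := A) N)]⟩
  have hmax : maximalIdeal F = M := (IsLocalRing.eq_maximalIdeal hM).symm
  haveI : IsLocalHom (algebraMap A F) := ((local_hom_TFAE (algebraMap A F)).out 0 2 rfl rfl).2 (hmFM.trans hmax.ge)
  haveI : IsAdicComplete (maximalIdeal F) F := _root_.Groth.Agent.CAlgH.isAdicComplete_maximal_of_finite A F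
  -- the map `E → F`
  let ε : F ⧸ maximalIdeal F ≃+* K := (Ideal.quotEquivOfEq hmax).trans (RingHom.quotientKerEquivOfSurjective hsurj)
  have hεmk : ∀ x, ε (Ideal.Quotient.mk _ x) = πF x := fun _ => rfl
  let γ : C →ₐ[A] E := eC.symm.toAlgHom.comp (IsScalarTower.toAlgHom A C _)
  let ψ : C →+* F ⧸ maximalIdeal F := ε.symm.toRingHom.comp ((residue E).comp γ.toRingHom)
  have hψ : ψ.comp (algebraMap A C) = (Ideal.Quotient.mk (maximalIdeal F)).comp (algebraMap A F) :=
    RingHom.ext fun a => ε.injective (by
      show ε (ε.symm (residue E (γ (algebraMap A C a)))) = ε (Ideal.Quotient.mk _ (algebraMap A F a))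
      rw [ε.apply_symm_apply, hεmk, AlgHom.commutes, AlgHom.commutes]
      rfl)
  obtain ⟨χ, hχ1, hχ2⟩ := _root_.Groth.Agent.CAlgH.AdicSmooth.exists_lift_complete
    (_root_.Groth.Agent.CAlgH.AdicSmooth.of_formallySmooth (R := A) (S := C) (𝔫 := ⊥)) (algebraMap A F)
    (maximalIdeal F) ψ hψ ⟨1, fun x hx => by rw [pow_one, Ideal.mem_bot] at hx; rw [hx, map_zero]⟩
  have hχres : ∀ c, πF (χ c) = residue E (γ c) := fun c => by
    rw [← hεmk, show Ideal.Quotient.mk _ (χ c) = ψ c from RingHom.congr_fun hχ2 c]
    exact ε.apply_symm_apply _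
  let χa : C →ₐ[A] F := { χ with commutes' := RingHom.congr_fun hχ1 }
  have hunit : ∀ y : q.primeCompl, IsUnit (χa y) := fun y => by
    by_contra h
    have h1 : χ (y : C) ∈ M := hmax ▸ ((mem_maximalIdeal _).2 h)
    have h2 : IsUnit (γ (y : C)) :=
      (IsLocalization.map_units (Localization.AtPrime q) y).map eC.symm.toAlgHom.toRingHom
    exact (residue_ne_zero_iff_isUnit _).2 h2 ((hχres _).symm.trans h1)
  let u : E →ₐ[A] F := (IsLocalization.liftAlgHom (M := q.primeCompl) (S := Localization.AtPrime q) hunit).comp eC.toAlgHom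
  have huγ : ∀ c, u (γ c) = χa c := fun c => by
    show IsLocalization.liftAlgHom hunit (eC (eC.symm (algebraMap C _ c))) = _
    rw [eC.apply_symm_apply, IsLocalization.liftAlgHom_apply, IsLocalization.lift_eq]
    rfl
  have hu : ∀ e, πF (u e) = residue E e := by
    have : πF.toRingHom.comp (u.toRingHom.comp eC.symm.toRingEquiv.toRingHom) =
        (residue E).comp eC.symm.toRingEquiv.toRingHom :=
      IsLocalization.ringHom_ext q.primeCompl (RingHom.ext fun c => (congrArg πF (huγ c)).trans (hχres c))
    intro e
    have h := RingHom.congr_fun this (eC e)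
    simpa using h
  -- the map `F → Ê`
  let Eh := EGA4.Cpl E
  haveI : IsNoetherianRing Eh := _root_.Groth.Agent.Matlis6.isNoetherianRing_adicCompletion _
  haveI : IsLocalHom (algebraMap E Eh) := _root_.Groth.Agent.CommAlg6.isLocalHom_completion E
  haveI : IsAdicComplete (maximalIdeal Eh) Eh := inferInstance
  let ψS : S →+* Eh ⧸ maximalIdeal Eh := (ResidueField.map (algebraMap E Eh)).comp πS.toRingHom
  have hψS : ψS.comp (algebraMap R S) = (Ideal.Quotient.mk (maximalIdeal Eh)).comp
      (((algebraMap E Eh).comp (algebraMap A E)).comp (algebraMap R A)) := RingHom.ext fun r => by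
    show ResidueField.map (algebraMap E Eh) (πS (algebraMap R S r)) = _
    rw [AlgHom.commutes, IsScalarTower.algebraMap_apply R E K, ResidueField.algebraMap_eq, ResidueField.map_residue,
      IsScalarTower.algebraMap_apply R A E]
    rfl
  obtain ⟨σ, hσ1, hσ2⟩ := _root_.Groth.Agent.CAlgH.AdicSmooth.exists_lift_complete
    (_root_.Groth.Agent.CAlgH.AdicSmooth.of_formallySmooth (R := R) (S := S) (𝔫 := ⊥))
    (((algebraMap E Eh).comp (algebraMap A E)).comp (algebraMap R A))
    (maximalIdeal Eh) ψS hψS ⟨1, fun x hx => by rw [pow_one, Ideal.mem_bot] at hx; rw [hx, map_zero]⟩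
  have hAE : algebraMap A Eh = (algebraMap E Eh).comp (algebraMap A E) := IsScalarTower.algebraMap_eq A E Eh
  have hRE : algebraMap R Eh = ((algebraMap E Eh).comp (algebraMap A E)).comp (algebraMap R A) := by
    rw [IsScalarTower.algebraMap_eq R E Eh, IsScalarTower.algebraMap_eq R A E, RingHom.comp_assoc]
  haveI : IsScalarTower R A Eh := IsScalarTower.of_algebraMap_eq' (by rw [hRE, hAE])
  haveI : IsLocalHom (algebraMap A Eh) := by rw [hAE]; infer_instance
  let σa : S →ₐ[R] Eh := { σ with commutes' := fun r => (RingHom.congr_fun hσ1 r).trans (RingHom.congr_fun hRE r).symm }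
  let v : F →ₐ[A] Eh := Algebra.TensorProduct.lift (Algebra.ofId A Eh) σa fun _ _ => Commute.all _ _
  have hv : ∀ x, residue Eh (v x) = ResidueField.map (algebraMap E Eh) (πF x) := fun x => by
    induction x using TensorProduct.induction_on with
    | zero => simp
    | tmul a s =>
      rw [Algebra.TensorProduct.lift_tmul, Algebra.TensorProduct.lift_tmul, map_mul, map_mul]
      exact congrArg₂ (· * ·) rfl (RingHom.congr_fun hσ2 s)
    | add x y hx hy => simp only [map_add, hx, hy]
  let ι : E →ₐ[A] Eh := IsScalarTower.toAlgHom A E Eh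
  have hvu : v.comp u = ι := _root_.Groth.Agent.S17978.result A E ⟨C, inferInstance, inferInstance, q, inferInstance, hCet, hqA, ⟨eC⟩⟩ Eh _ _
    (RingHom.ext fun e => (hv (u e)).trans (by rw [hu]; rfl))
  haveI : Module.Flat E Eh := AdicCompletion.flat_of_isNoetherian _
  haveI : Module.FaithfullyFlat E Eh := Module.FaithfullyFlat.of_flat_of_isLocalHom
  have huinj : Function.Injective u := fun a b h => FaithfulSMul.algebraMap_injective E Eh
    ((DFunLike.congr_fun hvu a).symm.trans ((congrArg v h).trans (DFunLike.congr_fun hvu b)))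
  have husurj : Function.Surjective u := by
    have key : (⊤ : Submodule A F) ≤ LinearMap.range u.toLinearMap := by
      refine Submodule.le_of_le_smul_of_le_jacobson_bot (I := maximalIdeal A) Module.Finite.fg_top
        (maximalIdeal_le_jacobson _) fun x _ => ?_
      obtain ⟨e, he⟩ := residue_surjective (πF x)
      have h1 : x - u e ∈ M := by
        show πF (x - u e) = 0
        rw [map_sub, hu, he, sub_self]
      rw [hMeq] at h1
      rw [← sub_add_cancel x (u e), add_comm]
      refine Submodule.add_mem_sup ⟨e, rfl⟩ ?_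
      rw [Ideal.smul_top_eq_map]
      exact h1
    exact fun y => key (Submodule.mem_top (x := y))
  exact ⟨S, inferInstance, inferInstance, inferInstance, hSfin, hSet, ⟨AlgEquiv.ofBijective u ⟨huinj, husurj⟩⟩⟩

end Groth.Agent.S16444
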