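import Groth.Statements.S16446
import Groth.Agent.CAlgH.StrictHenselQuotientStage

set_option autoImplicit false
universe u
open Hensel

namespace Groth.Agent.S16446

/-- Let A be an excellent henselian reduced local ring, S a strict henselization of A and Q a minimal
prime ideal of S with contraction q to A; let K be the fraction field of S/Q and L the subfield of K
generated over the image of A by a finite subset t of K. Then there is an A-subalgebra E of S, a
local ring and an essentially etale local A-algebra, such that (i) every minimal prime ideal of S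
over the ideal qS is generated by its contraction to E, and (ii) every element of S/Q whose image in
K lies in L is the class of an element of E — so that the intersection of L with S/Q equals its
intersection with the image of E. -/
theorem result
    (A S : Type u) [CommRing A] [HenselianLocalRing A] [IsReduced A] (hA : EGA4.IsExcellent A)
    [CommRing S] [IsLocalRing S] [Algebra A S] [IsLocalHom (algebraMap A S)]
    [Hensel.IsStrictHenselization A S] (Q : Ideal S) (hQ : Q ∈ minimalPrimes S) [Q.IsPrime]
    (t : Finset (FractionRing (S ⧸ Q))) :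
    ∃ E : Subalgebra A S, ∃ _ : IsLocalRing E, EGA4loc.IsEssentiallyEtale A E ∧
      (∀ Q' ∈ ((Q.comap (algebraMap A S)).map (algebraMap A S)).minimalPrimes,
        Q' = Ideal.map (algebraMap E S) (Q'.comap (algebraMap E S))) ∧
      ∀ x : S, algebraMap (S ⧸ Q) (FractionRing (S ⧸ Q)) (Ideal.Quotient.mk Q x) ∈
          Subfield.closure (Set.range (algebraMap A (FractionRing (S ⧸ Q))) ∪
            (t : Set (FractionRing (S ⧸ Q)))) →
        ∃ e ∈ E, Ideal.Quotient.mk Q e = Ideal.Quotient.mk Q x := by
  classical
  open Groth.Agent in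
  haveI : IsNoetherianRing A := hA.1
  haveI : IsNoetherianRing S := _root_.Groth.Agent.EssEt6.isNoetherianRing_strict (A := A) ‹_›
  obtain ⟨D', hset, hfin, -, -, -⟩ :=
    _root_.Groth.Agent.CAlgH.StrictHenselQuotientStage.exists_finite_unramified (A := A) Q t
  obtain ⟨gen, hgen⟩ := (Module.Finite.iff_fg (N := Subalgebra.toSubmodule D')).1 hfin
  choose lift hlift using fun z : S ⧸ Q => Ideal.Quotient.mk_surjective z
  let P := ((Q.comap (algebraMap A S)).map (algebraMap A S)).minimalPrimes
  have hP : P.Finite := Ideal.finite_minimalPrimes_of_isNoetherianRing S _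
  choose g hg using fun Q' : Ideal S => IsNoetherian.noetherian Q'
  obtain ⟨E, hsE, hEl, -, hE, -, -⟩ := _root_.Groth.Agent.EssEt6.exists_normal_stage A S
    (gen.image lift ∪ hP.toFinset.biUnion g)
  refine ⟨E, hEl, hE, fun Q' hQ' => ?_, fun x hx => ?_⟩
  · refine le_antisymm ?_ Ideal.map_comap_le
    conv_lhs => rw [← hg Q']
    refine Ideal.span_le.2 fun y hy => ?_
    have hyE : y ∈ E := hsE (Finset.mem_union_right _ (Finset.mem_biUnion.2 ⟨Q', hP.mem_toFinset.2 hQ', hy⟩))
    have hyQ : y ∈ Q' := (hg Q').le (Submodule.subset_span hy)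
    exact Ideal.mem_map_of_mem (algebraMap E S) (x := ⟨y, hyE⟩) (show (⟨y, hyE⟩ : E) ∈ Q'.comap (algebraMap E S) from hyQ)
  · have hxD : Ideal.Quotient.mk Q x ∈ D' := by
      rw [← SetLike.mem_coe, hset]
      exact hx
    have h1 : Ideal.Quotient.mk Q x ∈ Submodule.span A (gen : Set (S ⧸ Q)) := hgen.ge hxD
    have h2 : Submodule.span A (gen : Set (S ⧸ Q)) ≤ (E.map (Ideal.Quotient.mkₐ A Q)).toSubmodule := by
      refine Submodule.span_le.2 fun z hz => ?_
      exact ⟨lift z, hsE (Finset.mem_union_left _ (Finset.mem_image_of_mem lift hz)), hlift z⟩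
    obtain ⟨e, he, hex⟩ := h2 h1
    exact ⟨e, he, hex⟩

end Groth.Agent.S16446
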