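import Groth.Statements.S16447
import Groth.Agent.EssEt6.TotalFractions
import Groth.Agent.EssEt6.NormClosure

set_option autoImplicit false
universe u
open EGA4loc

namespace Groth.Agent.S16447

/-- Let A be a Noetherian reduced local ring, E a local ring which is an essentially etale local
A-algebra with local structure map, K_E the total ring of fractions of E, E' the integral closure of
E in K_E (viewed as an A-subalgebra of K_E), and L an A-subalgebra of K_E containing an inverse of
the image of every non-zero-divisor of A. Let C be the A-subalgebra L ⊓ E' of K_E. Then C is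
integrally closed in L, C has only finitely many maximal ideals, the maximal ideals of C are exactly
the contractions of the maximal ideals of E', and every element of L is an element of C times the
inverse of the image of a non-zero-divisor of A. (The published statement assumes only that A is
reduced; its proof uses that the integral closure of E in K_E has finitely many maximal ideals,
which holds when A is Noetherian and can fail otherwise, so A is taken Noetherian here.) -/
theorem result
    (A E : Type u) [CommRing A] [IsLocalRing A] [IsReduced A] [IsNoetherianRing A]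
    [CommRing E] [IsLocalRing E] [Algebra A E] [IsLocalHom (algebraMap A E)]
    (hE : EGA4loc.IsEssentiallyEtale A E) (L : Subalgebra A (FractionRing E))
    (hL : ∀ s ∈ nonZeroDivisors A, ∃ y ∈ L, algebraMap A (FractionRing E) s * y = 1)
    (C : Subalgebra A (FractionRing E))
    (hC : C = L ⊓ (integralClosure E (FractionRing E)).restrictScalars A) :
    (∀ x ∈ L, IsIntegral C x → x ∈ C) ∧
      {N : Ideal C | N.IsMaximal}.Finite ∧
      (∀ N : Ideal C, N.IsMaximal ↔ ∃ M : Ideal ((integralClosure E (FractionRing E)).restrictScalars A),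
          M.IsMaximal ∧ N = M.comap (Subalgebra.inclusion (hC.trans_le inf_le_right))) ∧
      ∀ l ∈ L, ∃ c ∈ C, ∃ s ∈ nonZeroDivisors A, ∃ y ∈ L,
        algebraMap A (FractionRing E) s * y = 1 ∧ l = c * y := by
  classical
  subst hC
  let F := FractionRing E
  let E' := (integralClosure E F).restrictScalars A
  let C : Subalgebra A F := L ⊓ E'
  have hfinA := minimalPrimes.finite_of_isNoetherianRing A
  haveI := Groth.Agent.EssEt6.isReduced hE
  haveI := Groth.Agent.EssEt6.isNoetherianRing hE
  haveI := Groth.Agent.EssEt6.isLocalization_fractionRing hfinA hE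
  haveI := Groth.Agent.EssEt6.formallyUnramified hE
  haveI := Groth.Agent.EssEt6.essFiniteType hE
  have hu : ∀ a ∈ nonZeroDivisors A, IsUnit (algebraMap A L a) := fun a ha => by
    obtain ⟨y, hy, hay⟩ := hL a ha
    exact IsUnit.of_mul_eq_one (⟨y, hy⟩ : L) (Subtype.ext hay)
  haveI := (Groth.Agent.EssEt6.isArtinianRing_of_injective hfinA hE L hu L.val
    Subtype.val_injective).1
  let j : C →ₐ[A] E' := Subalgebra.inclusion inf_le_right
  have hint : ∀ z : F, IsIntegral C z → z ∈ E' := fun z hz => by
    have h1 : IsIntegral (integralClosure E F) z :=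
      hz.map_of_comp_eq (S := F) (R := C) j.toRingHom (RingHom.id F) rfl
    exact isIntegral_trans (R := E) z h1
  have hmax : ∀ M : Ideal E', M.IsMaximal → (M.comap j).IsMaximal := by
    intro M hM
    haveI := hM
    letI := Ideal.Quotient.field M
    let p : Ideal C := M.comap j
    haveI : p.IsPrime := Ideal.comap_isPrime _ _
    let ψ : C ⧸ p →ₐ[A] E' ⧸ M := Ideal.quotientMapₐ M j le_rfl
    have hψ : Function.Injective ψ := Ideal.quotientMap_injective
    -- the residue field of `E'` is integral over the base
    let γ : E →+* E' ⧸ M := (Ideal.Quotient.mk M).comp (algebraMap E (integralClosure E F))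
    have hγint : γ.IsIntegral := RingHom.IsIntegral.trans _ _
      (fun z => Algebra.IsIntegral.isIntegral (R := E) (A := integralClosure E F) z)
      (RingHom.isIntegral_of_surjective _ Ideal.Quotient.mk_surjective)
    have hker : RingHom.ker γ = IsLocalRing.maximalIdeal E := by
      refine IsLocalRing.eq_maximalIdeal ?_
      letI : Algebra E (E' ⧸ M) := γ.toAlgebra
      haveI : Algebra.IsIntegral E (E' ⧸ M) := ⟨hγint⟩
      exact Ideal.isMaximal_comap_of_isIntegral_of_isMaximal (R := E) (⊥ : Ideal (E' ⧸ M))
    let δ : IsLocalRing.ResidueField E →+* E' ⧸ M :=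
      Ideal.Quotient.lift _ γ fun x hx => RingHom.mem_ker.mp (hker ▸ hx)
    have hδ : δ.IsIntegral :=
      RingHom.IsIntegral.tower_top (IsLocalRing.residue E) δ hγint
    haveI : Module.Finite (IsLocalRing.ResidueField A) (IsLocalRing.ResidueField E) := inferInstance
    have hkE : (algebraMap A (IsLocalRing.ResidueField E)).IsIntegral := by
      rw [IsScalarTower.algebraMap_eq A (IsLocalRing.ResidueField A) (IsLocalRing.ResidueField E)]
      exact RingHom.IsIntegral.trans _ _ (RingHom.isIntegral_of_surjective _ IsLocalRing.residue_surjective)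
        (fun z => Algebra.IsIntegral.isIntegral (R := IsLocalRing.ResidueField A) z)
    haveI : Algebra.IsIntegral A (E' ⧸ M) := ⟨fun z => by
      have h := RingHom.IsIntegral.trans _ _ hkE hδ z
      have he : δ.comp (algebraMap A (IsLocalRing.ResidueField E)) = algebraMap A (E' ⧸ M) :=
        RingHom.ext fun a => rfl
      rw [he] at h
      exact h⟩
    haveI : Algebra.IsIntegral A (C ⧸ p) := ⟨fun z =>
      (isIntegral_algHom_iff ψ hψ).mp (Algebra.IsIntegral.isIntegral _)⟩
    have h0 : (⊥ : Ideal (C ⧸ p)).IsMaximal := by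
      haveI : (⊥ : Ideal (C ⧸ p)).IsPrime := Ideal.isPrime_bot
      refine Ideal.isMaximal_of_isIntegral_of_isMaximal_comap (R := A) (S := C ⧸ p) ⊥ ?_
      convert IsLocalRing.maximalIdeal.isMaximal A
      refine IsLocalRing.eq_maximalIdeal ?_
      have hk2 : (⊥ : Ideal (C ⧸ p)).comap (algebraMap A (C ⧸ p)) =
          (⊥ : Ideal (E' ⧸ M)).comap (algebraMap A (E' ⧸ M)) := by
        rw [← ψ.comp_algebraMap, ← Ideal.comap_comap]
        congr 1
        exact ((RingHom.injective_iff_ker_eq_bot ψ.toRingHom).mp hψ).symm
      rw [hk2]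
      exact Ideal.isMaximal_comap_of_isIntegral_of_isMaximal _
    haveI := h0
    have h1 : ((⊥ : Ideal (C ⧸ p)).comap (Ideal.Quotient.mk p)).IsMaximal :=
      Ideal.comap_isMaximal_of_surjective _ Ideal.Quotient.mk_surjective
    rwa [← RingHom.ker_eq_comap_bot, Ideal.mk_ker] at h1
  have hfinE : {M : Ideal E' | M.IsMaximal}.Finite :=
    Groth.Agent.EssEt6.finite_maximal_integralClosure E
  have hiff : ∀ N : Ideal C, N.IsMaximal ↔ ∃ M : Ideal E', M.IsMaximal ∧ N = M.comap j := by
    intro N
    refine ⟨fun hN => ?_, fun ⟨M, hM, h⟩ => h ▸ hmax M hM⟩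
    by_contra hnot
    push Not at hnot
    have hnsub : ¬ (N : Set C) ⊆ ⋃ M ∈ hfinE.toFinset, ((M.comap j : Ideal C) : Set C) := by
      intro hsub
      obtain ⟨M, hM, hle⟩ := (Ideal.subset_union_prime (f := fun M : Ideal E' => (M.comap j : Ideal C)) ⊥ ⊥
        fun M hM _ _ => by
          haveI := (hfinE.mem_toFinset.mp hM).isPrime
          exact Ideal.comap_isPrime _ _).mp hsub
      have hM' := hfinE.mem_toFinset.mp hM
      exact hnot M hM' (hN.eq_of_le (hmax M hM').ne_top hle)
    obtain ⟨c, hc, hc'⟩ := Set.not_subset.mp hnsub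
    simp only [Set.mem_iUnion, not_exists] at hc'
    have hcu : IsUnit (j c) := by
      by_contra h
      obtain ⟨M, hM, hcM⟩ := exists_max_ideal_of_mem_nonunits h
      exact hc' M (hfinE.mem_toFinset.mpr hM) hcM
    obtain ⟨w, hw⟩ := hcu.exists_right_inv
    have hw' : (c : F) * (w : F) = 1 := congrArg Subtype.val hw
    let c' : L := ⟨c, c.2.1⟩
    have hcF : IsUnit (c : F) := IsUnit.of_mul_eq_one _ hw'
    have hreg : c' ∈ nonZeroDivisors L := by
      rw [mem_nonZeroDivisors_iff_right]
      intro z hz
      exact Subtype.ext (hcF.mul_left_eq_zero.mp (congrArg Subtype.val hz))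
    obtain ⟨z, hz⟩ := (IsArtinianRing.isUnit_of_mem_nonZeroDivisors hreg).exists_right_inv
    have hwz : (w : F) = (z : F) := hcF.mul_left_cancel (hw'.trans (congrArg Subtype.val hz).symm)
    have hwC : (w : F) ∈ C := ⟨hwz ▸ z.2, w.2⟩
    exact hN.ne_top (Ideal.eq_top_of_isUnit_mem _ hc
      (IsUnit.of_mul_eq_one (⟨(w : F), hwC⟩ : C) (Subtype.ext hw')))
  refine ⟨fun x hx hxi => ⟨hx, hint x hxi⟩, (hfinE.image fun M => M.comap j).subset fun N hN => ?_,
    hiff, fun l hl => ?_⟩
  · obtain ⟨M, hM, rfl⟩ := (hiff N).mp hN
    exact ⟨M, hM, rfl⟩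
  · obtain ⟨⟨e, m⟩, he⟩ := IsLocalization.surj ((nonZeroDivisors A).map (algebraMap A E)) l
    obtain ⟨a, ha, ham⟩ := m.2
    obtain ⟨y, hy, hay⟩ := hL a ha
    have he' : algebraMap E F e = l * algebraMap A F a := by
      rw [IsScalarTower.algebraMap_apply A E F, ham]; exact he.symm
    exact ⟨algebraMap E F e, ⟨he'.symm ▸ mul_mem hl (L.algebraMap_mem a), isIntegral_algebraMap⟩,
      a, ha, y, hy, hay, by rw [he', mul_assoc, hay, mul_one]⟩

end Groth.Agent.S16447
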