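import Groth.Statements.S1645
import Groth.Agent.VarietyLib.StarGlue
import Groth.Agent.VarietyLib.DimOne
import Groth.Agent.CAlgH3.AffineCodimOne
import Groth.Agent.AmpleLib.Generated
import Groth.Agent.AmpleLib.GenLocus
-- import your own Groth.Agent.* helpers here

set_option autoImplicit false
universe u
open CategoryTheory CategoryTheory.Limits AlgebraicGeometry
open Variety

namespace Groth.Agent.S1645

set_option backward.isDefEq.respectTransparency.types false
set_option linter.style.haveILetI false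
set_option maxHeartbeats 1000000

section
open CategoryTheory CategoryTheory.Limits Opposite TopologicalSpace IsLocalRing
open Groth.Agent.Coherent Groth.Agent.PicLib Groth.Agent.AmpleLib Groth.Agent.VarietyLib
open Groth.Agent.CAlgH3.AffineCodimOne

/-- An invertible module with two sections from a function with vanishing inverses at the points outside. -/
theorem exists_pencil_of_data {X : Scheme.{u}} {U : X.Opens} (F : Γ(X, U))
    (V : ((U : Set X)ᶜ : Set X) → X.Opens) (b : ∀ x, Γ(X, V x))
    (hxV : ∀ x, x.1 ∈ V x) (hxb : ∀ x, x.1 ∉ X.basicOpen (b x))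
    (hVU : ∀ x, ∀ z ∈ V x, z ∉ U → z = x.1)
    (hFb : ∀ x, res (inf_le_right : V x ⊓ U ≤ U) F * res (inf_le_left : V x ⊓ U ≤ V x) (b x) = 1) :
    ∃ (L : X.Modules) (s t : Γ(L, ⊤)), PicF.IsInvertible L ∧ glocus L s = U ∧
      ∀ x, x ∈ glocus L s ∨ x ∈ glocus L t := by
  classical
  let T := ((U : Set X)ᶜ : Set X)
  have hunit : ∀ x, IsUnit (res (inf_le_right : V x ⊓ U ≤ U) F) := fun x => IsUnit.of_mul_eq_one _ (hFb x)
  let 𝒟 : StarGlue.Data X :=
    { N := Coh.structureModule X
      D := U
      ι := T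
      U := V
      e := fun x => ((hunit x).unit : Γ(X, V x ⊓ U)ˣ).1 • oneSec (V x ⊓ U)
      gen := fun x => (isGen_oneSec (V x ⊓ U)).smul_unit _
      meet := fun a c hac z hz => by_contra fun hzU =>
        hac (Subtype.ext ((hVU a z hz.1 hzU).symm.trans (hVU c z hz.2 hzU)))
      cover := fun x => (em (x ∈ U)).imp_right fun h => ⟨⟨x, h⟩, hxV ⟨x, h⟩⟩ }
  have hL : PicF.IsInvertible (StarGlue.glue 𝒟) :=
    StarGlue.isInvertible_glue 𝒟 fun x hx => ⟨U, hx, oneSec U, isGen_oneSec U⟩
  -- sections from the centre and the charts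
  have key : ∀ (aU : Γ(X, U)) (aV : ∀ x, Γ(X, V x)),
      (∀ x, res (inf_le_left : V x ⊓ U ≤ V x) (aV x) * res inf_le_right F = res (inf_le_right : V x ⊓ U ≤ U) aU) →
      ∃ s : Γ(StarGlue.glue 𝒟, ⊤), resM _ le_top s = aU • StarGlue.secD 𝒟 (le_refl U) (oneSec U) ∧
        ∀ x, resM _ (le_top : V x ≤ ⊤) s = aV x • StarGlue.chart 𝒟 x := by
    intro aU aV hcomp
    let sD := aU • StarGlue.secD 𝒟 (le_refl U) (oneSec U)
    let sW := fun x => aV x • StarGlue.chart 𝒟 x
    have hagree : ∀ x, resM (StarGlue.glue 𝒟) (inf_le_left : V x ⊓ U ≤ V x) (sW x) =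
        resM (StarGlue.glue 𝒟) (inf_le_right : V x ⊓ U ≤ U) sD := fun x => by
      refine (resM_smul _ _ _ _).trans ((congrArg _ (StarGlue.resM_chart 𝒟 x)).trans ?_)
      refine Eq.trans ?_ (resM_smul _ _ _ _).symm
      rw [StarGlue.resM_secD, resM_oneSec]
      refine Eq.trans ?_ (congrArg (· • _) (hcomp x))
      refine Eq.trans ?_ (mul_smul _ _ _).symm
      refine congrArg (res (inf_le_left : V x ⊓ U ≤ V x) (aV x) • ·) ?_
      exact StarGlue.secD_smul 𝒟 _ _ _
    let cov : Option T → X.Opens := fun o => o.elim U V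
    let loc : ∀ o, Γ(StarGlue.glue 𝒟, cov o) := fun o => match o with
      | none => sD
      | some z => sW z
    obtain ⟨s, hs, -⟩ := TopCat.Sheaf.existsUnique_gluing'
      (⟨(StarGlue.glue 𝒟).presheaf, (StarGlue.glue 𝒟).isSheaf⟩ : TopCat.Sheaf Ab X)
      cov ⊤ (fun o => homOfLE le_top) (fun x _ => Opens.mem_iSup.2
        ((em (x ∈ U)).elim (fun h => ⟨none, h⟩) fun h => ⟨some ⟨x, h⟩, hxV ⟨x, h⟩⟩)) loc (fun p r => by
        match p, r with
        | none, none => rfl
        | none, some z =>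
          show resM _ (inf_le_left : U ⊓ V z ≤ U) sD = resM _ (inf_le_right : U ⊓ V z ≤ V z) (sW z)
          have h := congrArg (resM (StarGlue.glue 𝒟) (le_inf inf_le_right inf_le_left : U ⊓ V z ≤ V z ⊓ U))
            (hagree z)
          rw [resM_resM, resM_resM] at h
          exact h.symm
        | some z, none => exact hagree z
        | some a, some c =>
          show resM _ (inf_le_left : V a ⊓ V c ≤ V a) (sW a) = resM _ (inf_le_right : V a ⊓ V c ≤ V c) (sW c)
          by_cases hac : a = c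
          · subst hac; rfl
          · have hD' : V a ⊓ V c ≤ U := 𝒟.meet a c hac
            have h1 := congrArg (resM (StarGlue.glue 𝒟) (le_inf inf_le_left hD' : V a ⊓ V c ≤ V a ⊓ U)) (hagree a)
            have h2 := congrArg (resM (StarGlue.glue 𝒟) (le_inf inf_le_right hD' : V a ⊓ V c ≤ V c ⊓ U)) (hagree c)
            rw [resM_resM, resM_resM] at h1 h2
            exact h1.trans h2.symm)
    exact ⟨s, hs none, fun x => hs (some x)⟩
  obtain ⟨s, hsU, hsV⟩ := key 1 b (fun x => by rw [map_one, mul_comm]; exact hFb x)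
  obtain ⟨t, -, htV⟩ := key F (fun x => 1) (fun x => by rw [map_one, one_mul])
  have hsle : U ≤ glocus (StarGlue.glue 𝒟) s := by
    rw [le_glocus_iff, hsU, one_smul]
    exact StarGlue.isGen_secD 𝒟 le_rfl (isGen_oneSec U)
  refine ⟨StarGlue.glue 𝒟, s, t, hL, le_antisymm (fun x hx => by_contra fun hxU => ?_) hsle, fun x => ?_⟩
  · have hgz : IsGen (StarGlue.glue 𝒟) (V ⟨x, hxU⟩) (StarGlue.chart 𝒟 ⟨x, hxU⟩) := StarGlue.isGen_chart 𝒟 _
    have h := (glocus_inf s hgz).le ⟨hx, hxV ⟨x, hxU⟩⟩
    rw [show hgz.coef le_rfl (resM _ le_top s) = b ⟨x, hxU⟩ from hgz.coef_eq le_rfl (by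
      rw [resM_self]; exact (hsV _).symm)] at h
    exact hxb ⟨x, hxU⟩ h
  · refine (em (x ∈ U)).imp (fun h => hsle h) fun hxU => ?_
    have : V ⟨x, hxU⟩ ≤ glocus (StarGlue.glue 𝒟) t := by
      rw [le_glocus_iff, htV, one_smul]
      exact StarGlue.isGen_chart 𝒟 _
    exact this (hxV ⟨x, hxU⟩)

/-- An affine open and the local ring at an outside point of codimension one generate the function field. -/
theorem sup_eq_top_affine {X : Scheme.{u}} [IsIntegral X] [X.IsSeparated] {U : X.Opens} (hU : IsAffineOpen U)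
    [Nonempty U] {x : X} (hx : x ∉ U) (hd : ringKrullDim (X.presheaf.stalk x) = 1) :
    (X.germToFunctionField U).hom.range ⊔ localSubring X x = ⊤ := by
  by_contra hne
  haveI : IsFractionRing ((X.germToFunctionField U).hom.range ⊔ localSubring X x : Subring X.functionField)
      X.functionField := DimOne.isFractionRing_of_le (localSubring X x) _ le_sup_right
  obtain ⟨O, hOt, hO⟩ := DimOne.exists_valuationSubring_of_ne_top _ hne
  have hA : ∀ r : Γ(X, U), (X.germToFunctionField U).hom r ∈ O := fun r =>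
    hO (le_sup_left (b := localSubring X x) ⟨r, rfl⟩)
  have hB : ∀ c, algebraMap (X.presheaf.stalk x) X.functionField c ∈ O := fun c =>
    hO (le_sup_right (a := (X.germToFunctionField U).hom.range) ⟨c, rfl⟩)
  let φA : Γ(X, U) ⟶ CommRingCat.of O :=
    CommRingCat.ofHom ((X.germToFunctionField U).hom.codRestrict O.toSubring hA)
  let φB₀ : X.presheaf.stalk x →+* O :=
    (algebraMap (X.presheaf.stalk x) X.functionField).codRestrict O.toSubring hB
  let φB : X.presheaf.stalk x ⟶ CommRingCat.of O := CommRingCat.ofHom φB₀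
  have hl : Spec.map φB (IsLocalRing.closedPoint O) = IsLocalRing.closedPoint (X.presheaf.stalk x) := by
    refine PrimeSpectrum.ext ?_
    show (maximalIdeal O).comap φB₀ = maximalIdeal _
    have : Ring.KrullDimLE 1 (X.presheaf.stalk x) := Ring.krullDimLE_iff.2 hd.le
    rcases Ring.krullDimLE_one_iff.mp inferInstance ((maximalIdeal O).comap φB₀) inferInstance with h | h
    · exfalso
      rw [IsDomain.minimalPrimes_eq_singleton_bot, Set.mem_singleton_iff] at h
      refine hOt (eq_top_iff.2 fun w _ => ?_)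
      obtain ⟨a, b, hb, rfl⟩ := IsFractionRing.div_surjective (A := X.presheaf.stalk x) w
      have hb' : φB₀ b ∉ maximalIdeal O := fun hm => nonZeroDivisors.ne_zero hb
        ((Ideal.mem_bot).1 (h ▸ Ideal.mem_comap.2 hm))
      obtain ⟨v, hv⟩ := (IsLocalRing.notMem_maximalIdeal.1 hb').exists_right_inv
      rw [div_eq_mul_inv]
      refine O.mul_mem _ _ (hB a) ?_
      have hv' : algebraMap (X.presheaf.stalk x) X.functionField b * (v : X.functionField) = 1 :=
        congrArg Subtype.val hv
      rw [← eq_inv_of_mul_eq_one_right hv']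
      exact v.2
    · exact IsLocalRing.eq_maximalIdeal h
  let incl : CommRingCat.of O ⟶ X.functionField := CommRingCat.ofHom O.subtype
  haveI : IsDominant (Spec.map incl) := by
    refine ⟨(PrimeSpectrum.denseRange_comap_iff_ker_le_nilRadical incl.hom).2 ?_⟩
    intro b hb
    rw [RingHom.mem_ker] at hb
    rw [show b = 0 from Subtype.ext hb]
    exact zero_mem _
  haveI : IsReduced (Spec (CommRingCat.of O)) := inferInstance
  have hη : genericPoint X ∈ U := ((genericPoint_spec X).mem_open_set_iff U.isOpen).mpr (by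
    obtain ⟨⟨y, hy⟩⟩ := ‹Nonempty U›
    exact ⟨y, trivial, hy⟩)
  have e : Spec.map φA ≫ hU.fromSpec = Spec.map φB ≫ X.fromSpecStalk x := by
    refine ext_of_isDominant (Spec.map incl) ?_
    rw [← Spec.map_comp_assoc, ← Spec.map_comp_assoc, show φA ≫ incl = X.germToFunctionField U from rfl]
    refine (hU.fromSpecStalk_eq_fromSpecStalk hη).trans ?_
    exact (Scheme.SpecMap_stalkSpecializes_fromSpecStalk
      ((genericPoint_spec X).specializes (trivial : x ∈ Set.univ))).symm
  have e2 := congrArg (fun ψ => ψ.base (IsLocalRing.closedPoint O)) e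
  refine hx ?_
  rw [← Scheme.fromSpecStalk_closedPoint (x := x), ← hl]
  have := hU.range_fromSpec.le ⟨Spec.map φA (IsLocalRing.closedPoint O), rfl⟩
  exact e2 ▸ this

end

/-- Let X be integral and separated and U a nonempty affine open outside of which there are only
finitely many points, each with a one-dimensional Noetherian local ring. Then there are a globally
generated invertible module L and a global section s with U equal to the locus where s generates L. -/
theorem result (X : Scheme.{u}) [IsIntegral X] [X.IsSeparated]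
    (U : X.Opens) (hU : IsAffineOpen U) (hne : (U : Set X).Nonempty) (hfin : ((U : Set X)ᶜ).Finite)
    (hloc : ∀ x : X, x ∉ U → IsNoetherianRing (X.presheaf.stalk x) ∧ ringKrullDim (X.presheaf.stalk x) = 1) :
    ∃ (L : X.Modules) (s : Coh.structureModule X ⟶ L), PicF.IsInvertible L ∧ Curv2.IsGloballyGenerated L ∧
      CohB1.genLocus L s = U := by
  open Groth.Agent.Coherent Groth.Agent.PicLib Groth.Agent.AmpleLib Groth.Agent.VarietyLib Groth.Agent.CAlgH3.AffineCodimOne TopologicalSpace in
  classical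
  haveI : Nonempty U := hne.to_subtype
  have hη : genericPoint X ∈ U := ((genericPoint_spec X).mem_open_set_iff U.isOpen).mpr (by
    obtain ⟨y, hy⟩ := hne
    exact ⟨y, trivial, hy⟩)
  let T := ((U : Set X)ᶜ : Set X)
  haveI : Finite T := hfin.to_subtype
  let B : T → Subring X.functionField := fun x => localSubring X x.1
  haveI : ∀ x : T, IsNoetherianRing (B x) := fun x =>
    have := (hloc x.1 x.2).1
    isNoetherianRing_of_ringEquiv _ (equivLocal x.1)
  haveI : ∀ x : T, IsFractionRing (B x) X.functionField := fun x => isFractionRing_localSubring x.1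
  have hloc' : ∀ x : T, IsLocalRing (B x) := fun x => (equivLocal x.1).isLocalRing
  let A := (X.germToFunctionField U).hom.range
  haveI : IsFractionRing Γ(X, U) X.functionField := functionField_isFractionRing_of_isAffineOpen X U hU
  haveI : IsFractionRing A X.functionField := IsFractionRing.of_field A X.functionField fun z => by
    obtain ⟨a, b, -, rfl⟩ := IsFractionRing.div_surjective (A := Γ(X, U)) z
    exact ⟨⟨_, a, rfl⟩, ⟨_, b, rfl⟩, rfl⟩
  obtain ⟨a, ⟨f, hf⟩, ha0, ha⟩ := DimOne.exists_inv_mem_jacobson A B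
    (fun x => (ringKrullDim_eq_of_ringEquiv (equivLocal x.1)).symm.trans (hloc x.1 x.2).2)
    (fun x => have := hloc' x; Finite.of_subsingleton)
    (fun x => sup_eq_top_affine hU x.2 (hloc x.1 x.2).2)
  have hTc : ∀ x : X, x ∉ U → IsClosed ({x} : Set X) := fun x hx => by
    refine closure_subset_iff_isClosed.mp fun z hz => ?_
    have h : x ⤳ z := specializes_iff_mem_closure.mpr hz
    have hzU : z ∉ U := fun hzU => hx (h.mem_open U.2 hzU)
    rcases eq_or_eq_of_specializes (hloc z hzU).2 h with e | e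
    · exact absurd (e ▸ hη) hx
    · exact e.symm
  have hsec : ∀ x : T, ∃ (V : X.Opens) (b : Γ(X, V)), x.1 ∈ V ∧ x.1 ∉ X.basicOpen b ∧
      (∀ z ∈ V, z ∉ U → z = x.1) ∧
      Groth.Agent.PicLib.res (inf_le_right : V ⊓ U ≤ U) f * Groth.Agent.PicLib.res (inf_le_left : V ⊓ U ≤ V) b = 1 := by
    intro x
    obtain ⟨⟨c, hc⟩, hcj⟩ := ha x
    obtain ⟨V₁, hxV₁, b₁, hb₁⟩ := X.presheaf.exists_germ_eq c
    have hbad : IsClosed ((U : Set X)ᶜ \ {x.1}) := by
      rw [← Set.biUnion_of_singleton ((U : Set X)ᶜ \ {x.1})]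
      exact hfin.sdiff.isClosed_biUnion fun z hz => hTc z hz.1
    let V : X.Opens := V₁ ⊓ ⟨_, hbad.isOpen_compl⟩
    have hxV : x.1 ∈ V := ⟨hxV₁, fun h => h.2 rfl⟩
    let b := Groth.Agent.PicLib.res (inf_le_left : V ≤ V₁) b₁
    have hgb : X.presheaf.germ V x.1 hxV b = c :=
      (TopCat.Presheaf.germ_res_apply X.presheaf (homOfLE inf_le_left) x.1 hxV b₁).trans hb₁
    refine ⟨V, b, hxV, fun h => ?_, fun z hz hzU => by_contra fun hne => hz.2 ⟨hzU, hne⟩, ?_⟩
    · rw [Scheme.mem_basicOpen _ _ _ hxV, hgb] at h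
      have := hloc' x
      rw [IsLocalRing.jacobson_eq_maximalIdeal _ bot_ne_top] at hcj
      refine (IsLocalRing.mem_maximalIdeal _).1 hcj ?_
      have h2 := h.map (equivLocal x.1)
      convert h2 using 1
      exact Subtype.ext hc.symm
    · have hηV : genericPoint X ∈ V := ((genericPoint_spec X).mem_open_set_iff V.isOpen).mpr ⟨x.1, trivial, hxV⟩
      haveI : Nonempty V := ⟨⟨x.1, hxV⟩⟩
      refine germ_injective_of_isIntegral (X := X) (genericPoint X) (U := V ⊓ U) ⟨hηV, hη⟩ ?_
      rw [map_mul, map_one]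
      erw [TopCat.Presheaf.germ_res_apply, TopCat.Presheaf.germ_res_apply]
      have h1 : X.presheaf.germ U (genericPoint X) hη f = a := hf
      have h2 : X.presheaf.germ V (genericPoint X) hηV b = a⁻¹ := by
        refine Eq.trans ?_ hc
        rw [← hgb, Scheme.algebraMap_germ_eq_germToFunctionField]
      rw [h1, h2]
      exact mul_inv_cancel₀ ha0
  choose V b hxV hxb hVU hFb using hsec
  obtain ⟨L, s, t, hL, hs, hst⟩ := exists_pencil_of_data f V b hxV hxb hVU hFb
  refine ⟨L, Groth.Agent.Coherent.unitDesc L s, hL, ?_, hs⟩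
  refine isGloballyGenerated_of_locally fun y => ?_
  obtain ⟨σ, hσ⟩ : ∃ σ : Γ(L, ⊤), y ∈ glocus L σ := (hst y).elim (fun h => ⟨s, h⟩) fun h => ⟨t, h⟩
  refine ⟨glocus L σ, hσ, fun W hW r z hz => ⟨W, le_rfl, hz, ?_⟩⟩
  have hg := (le_glocus_iff σ W).1 hW
  obtain ⟨e, he⟩ := (hg W le_rfl).2 (resM L le_rfl r)
  rw [← he]
  exact Submodule.smul_mem _ e (Submodule.subset_span ⟨σ, by simp [resM_self]⟩)
end Groth.Agent.S1645
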