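import Groth.Statements.S16450
import Groth.Agent.S16441
import Groth.Agent.S2654
import Groth.Agent.EssEt6.FibreTransfer

set_option autoImplicit false
universe u
open scoped TensorProduct
open EGA4loc

namespace Groth.Agent.S16450

open nonZeroDivisors IsLocalRing in
/-- The residual product condition of an essentially etale subalgebra. -/
theorem residualProd_of_sub {A S : Type u} [CommRing A] [IsLocalRing A] [IsReduced A] [IsNoetherianRing A]
    (hA : CAlg.IsNagata A) [CommRing S] [IsLocalRing S] [Algebra A S] [Module.Flat A S]
    (D : Subalgebra A S) [IsLocalRing D] [IsLocalHom (algebraMap D S)] (hE : EGA4loc.IsEssentiallyEtale A D)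
    (A' D' : Subalgebra A (FractionRing S))
    (hA' : ∀ x : (FractionRing S), x ∈ A' ↔ (IsIntegral A x ∧
      ∃ a ∈ nonZeroDivisors A, ∃ b : A, algebraMap A (FractionRing S) a * x = algebraMap A (FractionRing S) b))
    (hD' : ∀ x : (FractionRing S), x ∈ D' ↔ (IsIntegral D x ∧
      ∃ a ∈ nonZeroDivisors A, ∃ d ∈ D, algebraMap A (FractionRing S) a * x = algebraMap S (FractionRing S) d))
    (hle : A' ≤ D') (ι : D →ₐ[A] D') (hι : ∀ d : D, (ι d : (FractionRing S)) = algebraMap S (FractionRing S) d) :
    Groth.Agent.EssEt6.ResidualProd (Subalgebra.inclusion hle) ι := by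
  open Groth.Agent.EssEt6 in
  have hfin := minimalPrimes.finite_of_isNoetherianRing A
  haveI : IsLocalHom D.val.toRingHom := ‹IsLocalHom (algebraMap D S)›
  obtain ⟨Φ, hΦ⟩ := exists_fractions_hom hE D.val
  have hΦi : Function.Injective Φ := injective_fractions Φ D.val Subtype.val_injective hΦ
  haveI := isLocalHom hE
  haveI := flat hE
  haveI : Module.FaithfullyFlat A D := Module.FaithfullyFlat.of_flat_of_isLocalHom
  haveI : FaithfulSMul A D := Module.FaithfullyFlat.faithfulSMul
  obtain ⟨ψA, hψA⟩ := exists_normalization_equiv hE (⊥ : Subalgebra A D) Φ hΦi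
    (Algebra.botEquivOfInjective (FaithfulSMul.algebraMap_injective A D)).toRingEquiv
    (fun d => by
      obtain ⟨a, rfl⟩ := (Algebra.botEquivOfInjective
        (FaithfulSMul.algebraMap_injective A D)).symm.surjective d
      show Φ _ = algebraMap A _ ((Algebra.botEquivOfInjective (FaithfulSMul.algebraMap_injective A D))
        ((Algebra.botEquivOfInjective (FaithfulSMul.algebraMap_injective A D)).symm a))
      rw [AlgEquiv.apply_symm_apply, ← Φ.commutes, IsScalarTower.algebraMap_apply A D (FractionRing D) a]
      refine congrArg (fun w : D => Φ (algebraMap D (FractionRing D) w)) ?_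
      exact congrArg Subtype.val
        ((Algebra.botEquivOfInjective (FaithfulSMul.algebraMap_injective A D)).symm.commutes a)) A' hA'
  obtain ⟨ψD, hψD⟩ := exists_normalization_equiv hE (⊤ : Subalgebra A D) Φ hΦi
    (Subalgebra.topEquiv (R := A) (A := D)).toRingEquiv (fun d => hΦ _) D' fun x => by
      rw [hD']
      exact and_congr_right fun _ => exists_congr fun a => and_congr_right fun _ =>
        ⟨fun ⟨d, hd, h⟩ => ⟨⟨d, hd⟩, h⟩, fun ⟨r, h⟩ => ⟨(r : S), r.2, h⟩⟩
  have h : baseNorm A D ≤ (integralClosure D (FractionRing D)).restrictScalars A :=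
    fun x hx => isIntegral_ambient hx.2
  refine (residualProd_of_isEssentiallyEtale hA hE h).congr ψA AlgEquiv.refl
    ((Subalgebra.equivOfEq _ _ (normalization_top hfin hE).symm).trans ψD) (fun r => ?_) (fun b => ?_)
  · exact Subtype.ext ((hψD _).trans (hψA r).symm)
  · exact Subtype.ext ((hψD _).trans ((hΦ b).trans (hι b).symm))

open IsLocalRing in
/-- Let A be an excellent reduced local ring with maximal ideal m and residue field k, S a strict
henselization of A with total ring of fractions K, and D an A-subalgebra of S which is a local ring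
dominated by S (local inclusion) and whose total ring of fractions is finitely generated over that
of A. Inside K, let A' and D' be the normalizations of A and of D: the elements of K integral over A
(resp. over D) which are carried into A (resp. into D) by the image of some non-zero-divisor of A;
so A' ⊆ D', and let ι : D → D' be the inclusion. Then D is an essentially etale local A-algebra if
and only if D' has finitely many maximal ideals and the canonical map A' ⊗_A D → D'/Rad(D') is
surjective with kernel the ideal generated by Rad(A') ⊗ D and A' ⊗ m_D — in other words the residual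
field products satisfy (A'/Rad A') ⊗_k (D/m_D) ≅ D'/Rad(D') via the canonical maps. -/
theorem result
    (A S : Type u) [CommRing A] [IsLocalRing A] [IsReduced A] (hA : EGA4.IsExcellent A)
    [CommRing S] [IsLocalRing S] [Algebra A S] [IsLocalHom (algebraMap A S)]
    [Hensel.IsStrictHenselization A S] (D : Subalgebra A S) [IsLocalRing D]
    [IsLocalHom (algebraMap D S)]
    (hfg : ∃ t : Finset (FractionRing D), ∀ x : FractionRing D, ∃ a ∈ nonZeroDivisors A,
      algebraMap A (FractionRing D) a * x ∈ Algebra.adjoin A (t : Set (FractionRing D)))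
    (A' D' : Subalgebra A (FractionRing S))
    (hA' : ∀ x : (FractionRing S), x ∈ A' ↔ (IsIntegral A x ∧
      ∃ a ∈ nonZeroDivisors A, ∃ b : A, algebraMap A (FractionRing S) a * x = algebraMap A (FractionRing S) b))
    (hD' : ∀ x : (FractionRing S), x ∈ D' ↔ (IsIntegral D x ∧
      ∃ a ∈ nonZeroDivisors A, ∃ d ∈ D, algebraMap A (FractionRing S) a * x = algebraMap S (FractionRing S) d))
    (hle : A' ≤ D') (ι : D →ₐ[A] D') (hι : ∀ d : D, (ι d : (FractionRing S)) = algebraMap S (FractionRing S) d) :
    EGA4loc.IsEssentiallyEtale A D ↔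
      ({N : Ideal D' | N.IsMaximal}.Finite ∧
        Function.Surjective ((Ideal.Quotient.mkₐ A (Ideal.jacobson (⊥ : Ideal D'))).comp
          (Algebra.TensorProduct.productMap (Subalgebra.inclusion hle) ι)) ∧
        RingHom.ker ((Ideal.Quotient.mkₐ A (Ideal.jacobson (⊥ : Ideal D'))).comp
          (Algebra.TensorProduct.productMap (Subalgebra.inclusion hle) ι)) =
          (Ideal.jacobson (⊥ : Ideal A')).map
              (Algebra.TensorProduct.includeLeft : A' →ₐ[A] A' ⊗[A] D) ⊔
            (maximalIdeal D).map
              (Algebra.TensorProduct.includeRight : D →ₐ[A] A' ⊗[A] D)) := by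
  haveI : IsNoetherianRing A := hA.1
  have hN : CAlg.IsNagata A := Groth.Agent.S2654.result A ⟨hA.1, hA.2.2.1, hA.2.2.2⟩
  haveI := Groth.Agent.EssEt6.flat_strict (A := A) S
  refine ⟨fun hE => residualProd_of_sub hN D hE A' D' hA' hD' hle ι hι, fun h => ?_⟩
  obtain ⟨E, hDE, _, hE⟩ :=
    (Groth.Agent.S16441.result A S (minimalPrimes.finite_of_isNoetherianRing A) D).mp hfg
  exact Groth.Agent.EssEt6.isEssentiallyEtale_of_residualProd hN D hDE hE A' D' hA' hD' hle ι hι h

end Groth.Agent.S16450
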