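import Groth.Statements.S16451
import Groth.Agent.S2654
import Groth.Agent.EssEt6.IndEtale

set_option autoImplicit false
universe u
open scoped TensorProduct
open EGA4loc

namespace Groth.Agent.S16451

open IsLocalRing in
/-- Let A be an excellent reduced local ring with maximal ideal m and residue field k, S a strict
henselization of A with total ring of fractions K, and D an A-subalgebra of S which is a local ring
dominated by S (local inclusion); let D^h be a henselization of D and θ : D^h → S the D-algebra map
to S (the unique one, S being henselian). Inside K, let A' and D' be the normalizations of A and of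
D — the elements of K integral over A (resp. over D) and carried into A (resp. into D) by the image
of some non-zero-divisor of A — so A' ⊆ D', and let ι : D → D' be the inclusion. Then θ is injective
and its image is a directed union of A-subalgebras of S which are local rings and essentially etale
local A-algebras (that is, D^h is a direct limit of local etale extensions of A) if and only if D'
has finitely many maximal ideals and the canonical map A' ⊗_A D → D'/Rad(D') is surjective with
kernel the ideal generated by Rad(A') ⊗ D and A' ⊗ m_D (the residual field products satisfy (A'/Rad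
A') ⊗_k (D/m_D) ≅ D'/Rad(D')). -/
theorem result
    (A S : Type u) [CommRing A] [IsLocalRing A] [IsReduced A] (hA : EGA4.IsExcellent A)
    [CommRing S] [IsLocalRing S] [Algebra A S] [IsLocalHom (algebraMap A S)]
    [Hensel.IsStrictHenselization A S] (D : Subalgebra A S) [IsLocalRing D]
    [IsLocalHom (algebraMap D S)]
    (Dh : Type u) [CommRing Dh] [IsLocalRing Dh] [Algebra D Dh] [IsLocalHom (algebraMap D Dh)]
    [Hensel.IsHenselization D Dh] [Algebra Dh S] [IsScalarTower D Dh S]
    (A' D' : Subalgebra A (FractionRing S))
    (hA' : ∀ x : (FractionRing S), x ∈ A' ↔ (IsIntegral A x ∧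
      ∃ a ∈ nonZeroDivisors A, ∃ b : A, algebraMap A (FractionRing S) a * x = algebraMap A (FractionRing S) b))
    (hD' : ∀ x : (FractionRing S), x ∈ D' ↔ (IsIntegral D x ∧
      ∃ a ∈ nonZeroDivisors A, ∃ d ∈ D, algebraMap A (FractionRing S) a * x = algebraMap S (FractionRing S) d))
    (hle : A' ≤ D') (ι : D →ₐ[A] D') (hι : ∀ d : D, (ι d : (FractionRing S)) = algebraMap S (FractionRing S) d) :
    (Function.Injective (algebraMap Dh S) ∧
        ∀ s : Finset S, (s : Set S) ⊆ Set.range (algebraMap Dh S) →
          ∃ E : Subalgebra A S, (s : Set S) ⊆ (E : Set S) ∧ (E : Set S) ⊆ Set.range (algebraMap Dh S) ∧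
            ∃ _ : IsLocalRing E, EGA4loc.IsEssentiallyEtale A E) ↔
      ({N : Ideal D' | N.IsMaximal}.Finite ∧
        Function.Surjective ((Ideal.Quotient.mkₐ A (Ideal.jacobson (⊥ : Ideal D'))).comp
          (Algebra.TensorProduct.productMap (Subalgebra.inclusion hle) ι)) ∧
        RingHom.ker ((Ideal.Quotient.mkₐ A (Ideal.jacobson (⊥ : Ideal D'))).comp
          (Algebra.TensorProduct.productMap (Subalgebra.inclusion hle) ι)) =
          (Ideal.jacobson (⊥ : Ideal A')).map
              (Algebra.TensorProduct.includeLeft : A' →ₐ[A] A' ⊗[A] D) ⊔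
            (maximalIdeal D).map
              (Algebra.TensorProduct.includeRight : D →ₐ[A] A' ⊗[A] D)) := by
  haveI : IsNoetherianRing A := hA.1
  have hN : CAlg.IsNagata A := Groth.Agent.S2654.result A ⟨hA.1, hA.2.2.1, hA.2.2.2⟩
  have hA'' : A' = Groth.Agent.EssEt6.baseNorm A S := by
    ext x
    rw [hA']
    constructor
    · rintro ⟨hi, a, ha, b, hb⟩
      refine ⟨⟨a, ha, algebraMap A S b, Subalgebra.algebraMap_mem _ b, ?_⟩, ?_⟩
      · rw [hb, IsScalarTower.algebraMap_apply A S (FractionRing S)]
      · exact hi.map_of_comp_eq (S := FractionRing S) (algebraMap A (⊥ : Subalgebra A S)) (RingHom.id _)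
          (RingHom.ext fun r => (IsScalarTower.algebraMap_apply A S (FractionRing S) r).symm)
    · rintro ⟨⟨a, ha, d, hd, h⟩, hi⟩
      obtain ⟨b, rfl⟩ := Algebra.mem_bot.mp hd
      refine ⟨?_, a, ha, b, h.trans (IsScalarTower.algebraMap_apply A S (FractionRing S) b).symm⟩
      haveI : Algebra.IsIntegral A (⊥ : Subalgebra A S) := ⟨fun z => by
        obtain ⟨c, hc⟩ := Algebra.mem_bot.mp z.2
        rw [show z = algebraMap A (⊥ : Subalgebra A S) c from Subtype.ext hc.symm]
        exact isIntegral_algebraMap⟩
      haveI : IsScalarTower A (⊥ : Subalgebra A S) (FractionRing S) := IsScalarTower.of_algebraMap_eq fun r =>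
        IsScalarTower.algebraMap_apply A S (FractionRing S) r
      exact isIntegral_trans (A := (⊥ : Subalgebra A S)) x hi
  have hD'' : D' = Groth.Agent.EssEt6.normalization D := by
    ext x
    rw [hD']
    exact and_comm
  subst hA'' hD''
  have hιeq : ι = Groth.Agent.EssEt6.incNorm D := AlgHom.ext fun d => Subtype.ext (hι d)
  subst hιeq
  constructor
  · rintro ⟨hinj, hstage⟩
    exact Groth.Agent.EssEt6.residualProd_of_indEtale hN D Dh hinj hstage
  · rintro ⟨-, hsurj, hker⟩
    exact Groth.Agent.EssEt6.indEtale_of_residualProd hN D Dh hsurj hker.ge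

end Groth.Agent.S16451
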