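import Groth.Statements.S16452
import Mathlib
-- import your own Groth.Agent.* helpers here

set_option autoImplicit false
universe u
open CAlg

namespace Groth.Agent.S16452

/-- Let R → S be formally étale and J an ideal of S such that the composite R → S → S/J is surjective;
let I ⊆ R be its kernel, the preimage of J in R. Then the homomorphism of associated graded rings ⊕ₙ
Iⁿ/Iⁿ⁺¹ → ⊕ₙ Jⁿ/Jⁿ⁺¹ induced by R → S (which carries I into J) is bijective. -/
theorem result (R : Type u) [CommRing R] (S : Type u)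
    [CommRing S] [Algebra R S] [Algebra.FormallyEtale R S] (J : Ideal S)
    (hJ : Function.Surjective (algebraMap R (S ⧸ J))) :
    Function.Bijective (AssocGr.map (AssocGr.IsFiltHom.adic
      (Ideal.map_comap_le : (J.comap (algebraMap R S)).map (algebraMap R S) ≤ J))) := by
  classical
  set φ := algebraMap R S with hφ
  set I := J.comap φ with hI
  let qJ : R →ₐ[R] S ⧸ J := Algebra.ofId R _
  have hker : RingHom.ker qJ.toRingHom = I := by
    ext x
    rw [RingHom.mem_ker]
    exact Ideal.Quotient.eq_zero_iff_mem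
  let e : (R ⧸ I) →ₐ[R] S ⧸ J := Ideal.Quotient.liftₐ I qJ (fun a ha => Ideal.Quotient.eq_zero_iff_mem.2 ha)
  have he : Function.Bijective e := by
    constructor
    · rw [injective_iff_map_eq_zero]
      intro x hx
      obtain ⟨a, rfl⟩ := Ideal.Quotient.mk_surjective x
      exact Ideal.Quotient.eq_zero_iff_mem.2 (Ideal.Quotient.eq_zero_iff_mem.1 hx : φ a ∈ J)
    · intro y
      obtain ⟨a, rfl⟩ := hJ y
      exact ⟨Ideal.Quotient.mk I a, rfl⟩
  -- the key comparison modulo `N`-th powers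
  have key : ∀ N : ℕ, 1 ≤ N → (∀ a, φ a ∈ J ^ N → a ∈ I ^ N) ∧
      (∀ n, n ≤ N → ∀ b ∈ J ^ n, ∃ a ∈ I ^ n, φ a - b ∈ J ^ N) := by
    intro N hN
    have hle : I ^ N ≤ I := Ideal.pow_le_self (by omega)
    let p : (R ⧸ I ^ N) →ₐ[R] (R ⧸ I) := Ideal.Quotient.factorₐ R hle
    let π : (R ⧸ I ^ N) →ₐ[R] S ⧸ J := e.comp p
    have hπs : Function.Surjective π := he.2.comp (Ideal.Quotient.factor_surjective hle)
    have hπk : RingHom.ker π.toRingHom = I.map (Ideal.Quotient.mk (I ^ N)) := by
      ext x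
      obtain ⟨a, rfl⟩ := Ideal.Quotient.mk_surjective x
      rw [RingHom.mem_ker, Ideal.mem_quotient_iff_mem hle]
      exact ⟨fun h => Ideal.Quotient.eq_zero_iff_mem.1 (he.1 (h.trans (map_zero e).symm)),
        fun h => Ideal.Quotient.eq_zero_iff_mem.2 h⟩
    have hπn : IsNilpotent (RingHom.ker π.toRingHom) := ⟨N, by
      rw [hπk, ← Ideal.map_pow, Ideal.map_quotient_self]; rfl⟩
    let g : S →ₐ[R] R ⧸ I ^ N := Algebra.FormallySmooth.liftOfSurjective (Ideal.Quotient.mkₐ R J) π hπs hπn
    have hg : ∀ x, π (g x) = Ideal.Quotient.mk J x :=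
      Algebra.FormallySmooth.liftOfSurjective_apply (Ideal.Quotient.mkₐ R J) π hπs hπn
    have hgJ : ∀ n, (J ^ n).map g.toRingHom ≤ (I ^ n).map (Ideal.Quotient.mk (I ^ N)) := by
      intro n
      rw [Ideal.map_pow, Ideal.map_pow]
      refine Ideal.pow_right_mono ?_ n
      rw [Ideal.map_le_iff_le_comap, ← hπk]
      intro x hx
      rw [Ideal.mem_comap, RingHom.mem_ker]
      exact (hg x).trans (Ideal.Quotient.eq_zero_iff_mem.2 hx)
    refine ⟨fun a ha => ?_, fun n hn b hb => ?_⟩
    · have := hgJ N (Ideal.mem_map_of_mem g.toRingHom ha)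
      rw [Ideal.map_quotient_self, Ideal.mem_bot] at this
      rw [← Ideal.Quotient.eq_zero_iff_mem]
      exact (g.commutes a).symm.trans this
    · obtain ⟨a, ha, hab⟩ := (Ideal.mem_map_iff_of_surjective _ Ideal.Quotient.mk_surjective).1
        (hgJ n (Ideal.mem_map_of_mem g.toRingHom hb))
      refine ⟨a, ha, ?_⟩
      let q : (R ⧸ I ^ N) →ₐ[R] S ⧸ J ^ N := Ideal.Quotient.liftₐ (I ^ N) (Algebra.ofId R _) (fun x hx => by
        refine Ideal.Quotient.eq_zero_iff_mem.2 ?_
        have := Ideal.mem_map_of_mem φ hx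
        rw [Ideal.map_pow] at this
        exact Ideal.pow_right_mono Ideal.map_comap_le N this)
      have hJN : J ^ N ≤ J := Ideal.pow_le_self (by omega)
      let f : (S ⧸ J ^ N) →ₐ[R] S ⧸ J := Ideal.Quotient.factorₐ R hJN
      have hfk : IsNilpotent (RingHom.ker (f : S ⧸ J ^ N →+* S ⧸ J)) := ⟨N, by
        rw [show RingHom.ker (f : S ⧸ J ^ N →+* S ⧸ J) = J.map (Ideal.Quotient.mk (J ^ N)) from
          Ideal.Quotient.factor_ker hJN, ← Ideal.map_pow, Ideal.map_quotient_self]; rfl⟩
      have hfq : f.comp q = π := Ideal.Quotient.algHom_ext R (AlgHom.ext fun x => rfl)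
      have := Algebra.FormallyUnramified.lift_unique' f hfk (q.comp g) (Ideal.Quotient.mkₐ R (J ^ N)) (by
        ext x
        show (f.comp q) (g x) = f (Ideal.Quotient.mk (J ^ N) x)
        rw [hfq, hg]
        rfl)
      have h2 : q (g b) = Ideal.Quotient.mk (J ^ N) b := AlgHom.congr_fun this b
      rw [show g b = Ideal.Quotient.mk (I ^ N) a from hab.symm] at h2
      exact (Ideal.Quotient.mk_eq_mk_iff_sub_mem _ _).1 h2
  set h := AssocGr.IsFiltHom.adic (Ideal.map_comap_le : I.map φ ≤ J) with hh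
  constructor
  · rw [injective_iff_map_eq_zero]
    intro x hx
    obtain ⟨f, rfl⟩ := AssocGr.mkG_surjective _ x
    rw [AssocGr.map_mkG, AssocGr.mkG_eq_zero_iff, AssocGr.mem_succIdeal_iff] at hx
    rw [AssocGr.mkG_eq_zero_iff, AssocGr.mem_succIdeal_iff]
    intro n
    have := hx n
    rw [AssocGr.coe_reesMap, Polynomial.coeff_map] at this
    exact (key (n + 1) (by omega)).1 _ this
  · intro y
    obtain ⟨f, rfl⟩ := AssocGr.mkG_surjective _ y
    rw [← AssocGr.sum_term _ f, map_sum]
    choose a ha hab using fun n => (key (n + 1) (by omega)).2 n (by omega) ((f : Polynomial S).coeff n) (f.2 n)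
    refine ⟨∑ n ∈ (f : Polynomial S).support, (AssocGr.inDeg (FiltBl.IdealFiltration.adic I) n ⟨a n, ha n⟩ : AssocGr.GrRing _), ?_⟩
    rw [map_sum]
    refine Finset.sum_congr rfl fun n _ => ?_
    rw [AssocGr.map_inDeg, AssocGr.coe_inDeg, AssocGr.term_eq_monom, ← sub_eq_zero, ← map_sub,
      AssocGr.mkG_eq_zero_iff, AssocGr.mem_succIdeal_iff]
    intro m
    rw [AddSubgroupClass.coe_sub, Polynomial.coeff_sub, AssocGr.coe_coe_monom, AssocGr.coe_coe_monom,
      Polynomial.coeff_monomial, Polynomial.coeff_monomial]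
    by_cases hm : n = m
    · subst hm
      simp only [if_true]
      exact hab n
    · simp only [if_neg hm, sub_zero]
      exact Ideal.zero_mem _

end Groth.Agent.S16452
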