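import Groth.Statements.S16453


set_option autoImplicit false
universe u
open AdicGr

namespace Groth.Agent.S16453

/-- Let A be a commutative ring, I an ideal and Â the I-adic completion, filtered by the kernels Âₙ of
the projections Â → A/Iⁿ. Then the homomorphism of associated graded rings ⊕ₙ Iⁿ/Iⁿ⁺¹ → ⊕ₙ Âₙ/Âₙ₊₁
induced by the canonical map A → Â is bijective. No hypothesis on A or I is needed. (The published
statement is for an arbitrary filtered ring and also asserts the analogous isomorphism for a
compatibly filtered module; this row is the ring assertion for the filtration by the powers of one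
ideal.) -/
theorem result (A : Type u) [CommRing A] (I : Ideal A) :
    Function.Bijective (AssocGr.map (AssocGr.isFiltHom_kerFilt I)) := by
  open Polynomial in
  have key : ∀ (n : ℕ) (a : A), algebraMap A (AdicCompletion I A) a ∈ (AssocGr.kerFilt I).F n ↔ a ∈ I ^ n := fun n a => by
    rw [AssocGr.mem_kerFilt_iff, AlgHom.commutes, Ideal.Quotient.algebraMap_eq, Ideal.Quotient.eq_zero_iff_mem]
  constructor
  · rw [injective_iff_map_eq_zero]
    intro z hz
    obtain ⟨f, rfl⟩ := AssocGr.mkG_surjective _ z
    rw [AssocGr.map_mkG, AssocGr.mkG_eq_zero_iff] at hz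
    rw [AssocGr.mkG_eq_zero_iff]
    intro n
    have h := hz n
    rw [AssocGr.coe_reesMap, Polynomial.coeff_map] at h
    exact (key _ _).1 h
  · intro z
    obtain ⟨g, rfl⟩ := AssocGr.mkG_surjective _ z
    have hex : ∀ n, ∃ a : A, a ∈ I ^ n ∧
        (g : Polynomial (AdicCompletion I A)).coeff n - algebraMap A _ a ∈ (AssocGr.kerFilt I).F (n + 1) := by
      intro n
      obtain ⟨a, ha⟩ := Ideal.Quotient.mk_surjective
        (AdicCompletion.evalₐ I (n + 1) ((g : Polynomial (AdicCompletion I A)).coeff n))
      have hd : (g : Polynomial (AdicCompletion I A)).coeff n - algebraMap A _ a ∈ (AssocGr.kerFilt I).F (n + 1) := by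
        rw [AssocGr.mem_kerFilt_iff, map_sub, AlgHom.commutes, Ideal.Quotient.algebraMap_eq, ← ha, sub_self]
      refine ⟨a, (key n a).1 ?_, hd⟩
      have h1 := sub_mem (g.2 n) ((AssocGr.kerFilt I).antitone (Nat.le_succ n) hd)
      rwa [sub_sub_cancel] at h1
    choose a ha hd using hex
    let s := (g : Polynomial (AdicCompletion I A)).support
    let f : Polynomial A := ∑ n ∈ s, Polynomial.monomial n (a n)
    have hc : ∀ n, f.coeff n = if n ∈ s then a n else 0 := fun n => by
      simp [f, Polynomial.finsetSum_coeff, Polynomial.coeff_monomial]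
    have hf : f ∈ (FiltBl.IdealFiltration.adic I).rees := fun n => by
      show f.coeff n ∈ I ^ n
      rw [hc]; split_ifs
      · exact ha n
      · exact zero_mem _
    refine ⟨AssocGr.mkG _ ⟨f, hf⟩, ?_⟩
    rw [AssocGr.map_mkG]
    refine Ideal.Quotient.eq.2 fun n => ?_
    have hsub : ((AssocGr.reesMap (AssocGr.isFiltHom_kerFilt I) ⟨f, hf⟩ - g : (AssocGr.kerFilt I).rees) :
        Polynomial (AdicCompletion I A)).coeff n =
        algebraMap A _ (f.coeff n) - (g : Polynomial (AdicCompletion I A)).coeff n := by
      simp [Polynomial.coeff_map]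
    rw [hsub, hc]
    split_ifs with hn
    · exact neg_sub (g.1.coeff n) (algebraMap A _ (a n)) ▸ neg_mem (hd n)
    · rw [map_zero, Polynomial.notMem_support_iff.1 hn, sub_zero]
      exact zero_mem _

end Groth.Agent.S16453
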