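import Groth.Statements.S16454
import Groth.Agent.FlatCrit.Tor
import Mathlib.LinearAlgebra.TensorProduct.RightExactness
import Mathlib.LinearAlgebra.TensorProduct.Quotient

set_option autoImplicit false
set_option backward.isDefEq.respectTransparency false
universe u
open TensorProduct
open EGA43

namespace Groth.Agent.S16454

open Function in
/-- One step of the descending induction. -/
theorem step (A : Type u) [CommRing A] (I : Ideal A) (M : Type u) [AddCommGroup M] [Module A M]
    (hinj : ∀ (n k : ℕ) (a : Fin k → ↥((FiltBl.IdealFiltration.adic I).F n))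
      (x : Fin k → ↥((Rees.powFilt I M).N 0)),
      (∑ i, (AssocGr.inDeg (FiltBl.IdealFiltration.adic I) n (a i) :
          AssocGr.GrRing (FiltBl.IdealFiltration.adic I)) •
        (AssocGr.inDegM (Rees.powFilt I M) 0 (x i) : AssocGr.GrMod (Rees.powFilt I M))) = 0 →
      (∑ i, (AssocGr.inDeg (FiltBl.IdealFiltration.adic I) n (a i)) ⊗ₜ[A]
          (Submodule.Quotient.mk (x i : M)) :
        ↥(AssocGr.gr (FiltBl.IdealFiltration.adic I) n) ⊗[A] (M ⧸ (I • (⊤ : Submodule A M)))) = 0)
    (n : ℕ) (ih : Injective ((I ^ (n + 1)).subtype.rTensor M)) :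
    Injective ((I ^ n).subtype.rTensor M) := by
  classical
  rw [injective_iff_map_eq_zero]
  intro x hx
  obtain ⟨S, rfl⟩ := TensorProduct.exists_finset x
  let e := S.equivFin.symm
  let a : Fin S.card → ↥((FiltBl.IdealFiltration.adic I).F n) := fun i => (e i).1.1
  let m : Fin S.card → ↥((Rees.powFilt I M).N 0) := fun i => ⟨(e i).1.2, by simp [Rees.powFilt]⟩
  have hxs : (∑ i ∈ S, i.1 ⊗ₜ[A] i.2 : ↥(I ^ n) ⊗[A] M) = ∑ i, (a i : ↥(I ^ n)) ⊗ₜ[A] (m i : M) := by
    rw [← Finset.sum_coe_sort S]
    exact (Equiv.sum_comp e (fun i : S => i.1.1 ⊗ₜ[A] i.1.2)).symm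
  rw [hxs] at hx ⊢
  have hsum : ∑ i, (a i : A) • (m i : M) = 0 := by
    have h := congrArg (TensorProduct.lid A M) hx
    simpa [map_sum] using h
  have hdeg := hinj n S.card a m (by
    simp only [AssocGr.inDeg_smul_inDegM]
    rw [← AddSubmonoidClass.coe_finsetSum, ← map_sum, ZeroMemClass.coe_eq_zero,
      AssocGr.inDegM_eq_zero_iff, AddSubmonoidClass.coe_finsetSum]
    rw [hsum]
    exact zero_mem _)
  let incl : ↥(I ^ (n + 1)) →ₗ[A] ↥(I ^ n) := Submodule.inclusion (Ideal.pow_le_pow_right n.le_succ)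
  let f : ↥(I ^ n) →ₗ[A] ↥(AssocGr.gr (FiltBl.IdealFiltration.adic I) n) :=
    AssocGr.inDeg (FiltBl.IdealFiltration.adic I) n
  have hf : Exact incl f := fun y => by
    refine ⟨fun h => ⟨⟨y, (AssocGr.inDeg_eq_zero_iff (FiltBl.IdealFiltration.adic I) n y).1 h⟩, rfl⟩, ?_⟩
    rintro ⟨z, rfl⟩
    exact (AssocGr.inDeg_eq_zero_iff (FiltBl.IdealFiltration.adic I) n _).2 z.2
  have hmem : (∑ i, (a i : ↥(I ^ n)) ⊗ₜ[A] (m i : M)) ∈
      LinearMap.ker (TensorProduct.map f (I • (⊤ : Submodule A M)).mkQ) := by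
    rw [LinearMap.mem_ker, map_sum]
    exact hdeg
  rw [TensorProduct.map_ker hf (AssocGr.inDeg_surjective _ n)
    (LinearMap.exact_subtype_mkQ _) (Submodule.mkQ_surjective _)] at hmem
  have hle : LinearMap.range (LinearMap.lTensor ↥(I ^ n) (I • (⊤ : Submodule A M)).subtype) ≤
      LinearMap.range (LinearMap.rTensor M incl) := by
    rintro _ ⟨y, rfl⟩
    induction y using TensorProduct.induction_on with
    | zero => rw [map_zero]; exact zero_mem _
    | add u v hu hv => rw [map_add]; exact add_mem hu hv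
    | tmul u w =>
      obtain ⟨w, hw⟩ := w
      rw [LinearMap.lTensor_tmul, Submodule.subtype_apply]
      induction hw using Submodule.smul_induction_on' with
      | smul r hr z _ =>
        refine ⟨⟨r * (u : A), by rw [pow_succ']; exact Ideal.mul_mem_mul hr u.2⟩ ⊗ₜ[A] z, ?_⟩
        show incl _ ⊗ₜ[A] z = u ⊗ₜ[A] (r • z)
        rw [← TensorProduct.smul_tmul]
        rfl
      | add z _ z' _ hz hz' => rw [TensorProduct.tmul_add]; exact add_mem hz hz'
  rw [sup_eq_right.2 hle] at hmem
  obtain ⟨y, hy⟩ := hmem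
  have h0 : (I ^ (n + 1)).subtype.rTensor M y = 0 := by
    rw [← hy, ← LinearMap.rTensor_comp_apply] at hx
    exact hx
  rw [← hy, (injective_iff_map_eq_zero _).1 ih y h0, map_zero]

/-- Let A be a commutative ring, I a nilpotent ideal of A and M an A-module, and form the associated
graded ring G = ⊕ₙ Iⁿ/Iⁿ⁺¹ and the associated graded G-module gr_I(M) = ⊕ₙ IⁿM/Iⁿ⁺¹M. Assume that
M/IM is flat over A/I and that the canonical homomorphism (M/IM) ⊗ G → gr_I(M), [x] ⊗ [a] ↦ [a·x],
is injective: degree by degree, whenever elements a_i ∈ Iⁿ and x_i ∈ M satisfy Σ_i [a_i]·[x_i] = 0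
in gr_I(M) (that is Σ a_i x_i ∈ Iⁿ⁺¹M), the element Σ_i [a_i] ⊗ [x_i] of (Iⁿ/Iⁿ⁺¹) ⊗ (M/IM) is zero.
Then M is a flat A-module. (The published lemma is stated for any finite decreasing multiplicative
filtration A = J₀ ⊇ J₁ ⊇ … ⊇ J_N₊₁ = 0 of A with M filtered by the submodules JₙM; this row is its
case Jₙ = Iⁿ.) -/
theorem result (A : Type u) [CommRing A] (I : Ideal A)
    (hI : IsNilpotent I) (M : Type u) [AddCommGroup M] [Module A M]
    (hflat : Module.Flat (A ⧸ I) (M ⧸ (I • (⊤ : Submodule A M))))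
    (hinj : ∀ (n k : ℕ) (a : Fin k → ↥((FiltBl.IdealFiltration.adic I).F n))
      (x : Fin k → ↥((Rees.powFilt I M).N 0)),
      (∑ i, (AssocGr.inDeg (FiltBl.IdealFiltration.adic I) n (a i) :
          AssocGr.GrRing (FiltBl.IdealFiltration.adic I)) •
        (AssocGr.inDegM (Rees.powFilt I M) 0 (x i) : AssocGr.GrMod (Rees.powFilt I M))) = 0 →
      (∑ i, (AssocGr.inDeg (FiltBl.IdealFiltration.adic I) n (a i)) ⊗ₜ[A]
          (Submodule.Quotient.mk (x i : M)) :
        ↥(AssocGr.gr (FiltBl.IdealFiltration.adic I) n) ⊗[A] (M ⧸ (I • (⊤ : Submodule A M)))) = 0) :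
    Module.Flat A M := by
  obtain ⟨N, hN⟩ := hI
  have h : ∀ j, Function.Injective ((I ^ (N - j)).subtype.rTensor M) := by
    intro j
    induction j with
    | zero =>
      have : Subsingleton (↥(I ^ (N - 0)) ⊗[A] M) := by
        have : Subsingleton ↥(I ^ (N - 0)) := by
          rw [Nat.sub_zero, hN, Submodule.zero_eq_bot]
          infer_instance
        infer_instance
      exact Function.injective_of_subsingleton _
    | succ j ih =>
      by_cases hj : j < N
      · refine step A I M hinj _ ?_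
        rwa [show N - (j + 1) + 1 = N - j by omega]
      · rwa [show N - (j + 1) = N - j by omega]
  have h1 : Function.Injective (I.subtype.rTensor M) := by
    by_cases hN1 : 1 ≤ N
    · have := h (N - 1)
      rwa [show N - (N - 1) = 1 by omega, pow_one] at this
    · have : Subsingleton A := by
        have h0 : (1 : Ideal A) = 0 := by
          rw [← pow_zero I]; rwa [show N = 0 by omega] at hN
        exact ⟨fun a b => by
          have : ∀ c : A, c = 0 := fun c => by
            have hc : c ∈ (1 : Ideal A) := by simp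
            rw [h0] at hc
            exact hc
          rw [this a, this b]⟩
      have : Subsingleton M := Module.subsingleton A M
      have : Subsingleton (↥I ⊗[A] M) := inferInstance
      exact Function.injective_of_subsingleton _
  let e : ((A ⧸ I) ⊗[A] M) ≃ₗ[A] M ⧸ (I • (⊤ : Submodule A M)) := TensorProduct.quotTensorEquivQuotSMul M I
  refine Groth.Agent.FlatCrit.flat_of_isNilpotent h1 (Groth.Agent.FlatCrit.quotFlat_of_flat I ?_) ⟨N, hN⟩
  exact Module.Flat.of_linearEquiv (e.extendScalarsOfSurjective Ideal.Quotient.mk_surjective)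

end Groth.Agent.S16454
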