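import Groth.Statements.S16455

set_option autoImplicit false
universe u
open EGA4

namespace Groth.Agent.S16455

open AssocGr in
theorem grFlat_aux (A : Type u) [CommRing A] (I : Ideal A) (M : Type u)
    [AddCommGroup M] [Module A M] :
    Nonempty ((DirectSum ℕ fun n : ℕ => (↥(I ^ n • (⊤ : Submodule A M)) ⧸
        (I • (⊤ : Submodule A ↥(I ^ n • (⊤ : Submodule A M)))))) ≃ₗ[A ⧸ I]
      GrMod (Rees.powFilt I M)) := by
  classical
  have hN : ∀ n, (Rees.powFilt I M).N n = I ^ n • (⊤ : Submodule A M) := fun n => rfl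
  have hI : ∀ (n : ℕ) (x : ↥(I ^ n • (⊤ : Submodule A M))),
      x ∈ I • (⊤ : Submodule A ↥(I ^ n • (⊤ : Submodule A M))) ↔
      (x : M) ∈ I ^ (n + 1) • (⊤ : Submodule A M) := by
    intro n x
    rw [← SetLike.mem_coe, ← Function.Injective.mem_set_image (Submodule.injective_subtype _) (a := x) (s := ((I • (⊤ : Submodule A ↥(I ^ n • (⊤ : Submodule A M)))) : Set _)), ← Submodule.map_coe, SetLike.mem_coe]
    rw [Submodule.map_smul'', Submodule.map_top, Submodule.range_subtype, pow_succ', mul_smul]
    rfl
  -- the A-linear pieces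
  let g : ∀ n : ℕ, ↥((Rees.powFilt I M).N n) →ₗ[A] GrMod (Rees.powFilt I M) := fun n =>
    { toFun := fun x => (inDegM (Rees.powFilt I M) n x : GrMod (Rees.powFilt I M))
      map_add' := fun x y => by simp
      map_smul' := fun a x => by simpa using coe_inDegM_smul (Rees.powFilt I M) n a x }
  let q : ∀ n : ℕ, (↥(I ^ n • (⊤ : Submodule A M)) ⧸
      (I • (⊤ : Submodule A ↥(I ^ n • (⊤ : Submodule A M))))) →ₗ[A] GrMod (Rees.powFilt I M) :=
    fun n => Submodule.liftQ _ (g n) (fun x hx => by
      have := (hI n x).mp hx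
      change (inDegM (Rees.powFilt I M) n x : GrMod (Rees.powFilt I M)) = 0
      rw [(inDegM_eq_zero_iff (Rees.powFilt I M) n x).mpr this]
      rfl)
  let Φ : (DirectSum ℕ fun n : ℕ => (↥(I ^ n • (⊤ : Submodule A M)) ⧸
        (I • (⊤ : Submodule A ↥(I ^ n • (⊤ : Submodule A M)))))) →ₗ[A] GrMod (Rees.powFilt I M) :=
    DirectSum.toModule A ℕ _ q
  let Φ' := LinearMap.extendScalarsOfSurjective (R := A) (S := A ⧸ I)
    Ideal.Quotient.mk_surjective Φ
  refine ⟨LinearEquiv.ofBijective Φ' ⟨?_, ?_⟩⟩
  · intro a b hab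
    change Φ a = Φ b at hab
    rw [← sub_eq_zero, ← map_sub] at hab
    rw [← sub_eq_zero]
    generalize a - b = d at hab ⊢
    -- choose lifts
    choose x hx using fun n => Submodule.mkQ_surjective
      (I • (⊤ : Submodule A ↥(I ^ n • (⊤ : Submodule A M)))) (d n)
    have hd : Φ d = ∑ n ∈ d.support,
        mkGM (Rees.powFilt I M) (monomM (Rees.powFilt I M) n (x n)) := by
      conv_lhs => rw [← DFinsupp.sum_single (f := d)]
      rw [DFinsupp.sum, map_sum]
      refine Finset.sum_congr rfl fun n _ => ?_
      change Φ (DirectSum.lof A ℕ _ n (d n)) = _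
      rw [DirectSum.toModule_lof, ← hx n]
      rfl
    rw [hd, ← map_sum, mkGM_eq_zero_iff, mem_succMod_iff] at hab
    refine DFinsupp.ext fun n => ?_
    by_cases hn : n ∈ d.support
    · have := hab n
      rw [← ReesM.coeffHom_apply, map_sum] at this
      simp only [ReesM.coeffHom_apply, ReesM.coeff_monomM] at this
      rw [Finset.sum_ite_eq' d.support n (fun m => (x m : M)), if_pos hn] at this
      change d n = 0
      rw [← hx n, Submodule.mkQ_apply, Submodule.Quotient.mk_eq_zero]
      exact (hI n (x n)).mpr this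
    · exact DFinsupp.notMem_support_iff.mp hn
  · intro z
    obtain ⟨y, rfl⟩ := mkGM_surjective (Rees.powFilt I M) z
    rw [← sum_termM (Rees.powFilt I M) y, map_sum]
    refine ⟨∑ n ∈ ((toReesM (Rees.powFilt I M)).symm y : PolynomialModule A M).coeff.support,
      DirectSum.lof A ℕ _ n (Submodule.Quotient.mk
        (⟨ReesM.coeff _ y n, ReesM.coeff_mem _ y n⟩ : ↥((Rees.powFilt I M).N n))), ?_⟩
    change Φ _ = _
    rw [map_sum]
    refine Finset.sum_congr rfl fun n _ => ?_
    rw [DirectSum.toModule_lof]
    rfl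

/-- For a commutative ring A, an ideal I of A and an A-module M, the following are equivalent: every
quotient IⁿM/Iⁿ⁺¹M (n ≥ 0) is a flat A/I-module; the associated graded module gr_I(M) = ⊕ₙ
IⁿM/Iⁿ⁺¹M, as one module over A/I, is flat. Either condition says that M is normally flat along I.
(The source defines normal flatness for a coherent module on a locally Noetherian scheme through the
second condition and notes it amounts to the first; the equivalence holds for every ring and
module.) -/
theorem result (A : Type u) [CommRing A] (I : Ideal A) (M : Type u)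
    [AddCommGroup M] [Module A M] :
    EGA4.IsNormallyFlat I M ↔ Module.Flat (A ⧸ I) (AssocGr.GrMod (Rees.powFilt I M)) := by
  obtain ⟨e⟩ := grFlat_aux A I M
  constructor
  · intro h
    haveI : ∀ n, Module.Flat (A ⧸ I) _ := h
    exact Module.Flat.of_linearEquiv e.symm
  · intro h n
    haveI := Module.Flat.of_linearEquiv (N := _) e
    let Q : ℕ → Type u := fun n => (↥(I ^ n • (⊤ : Submodule A M)) ⧸
        (I • (⊤ : Submodule A ↥(I ^ n • (⊤ : Submodule A M)))))
    have := Module.Flat.of_retract (M := DirectSum ℕ Q) (N := Q n) (DirectSum.lof (A ⧸ I) ℕ Q n)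
      (DirectSum.component (A ⧸ I) ℕ Q n) (LinearMap.ext fun x => by simp)
    exact this

end Groth.Agent.S16455
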