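import Groth.Statements.S16456
import Groth.Agent.AdicGrLib.Lift

set_option autoImplicit false
universe u
open AdicGr

namespace Groth.Agent.S16456

/-- Let φ : A → B be a ring homomorphism, I ⊆ A and J ⊆ B ideals with φ(I)B ⊆ J, so that φ is a
homomorphism of filtered rings for the I-adic and J-adic filtrations. Assume that A is I-adically
complete in the sense that every I-adically Cauchy sequence has a limit, that B is J-adically
separated, and that the induced homomorphism of associated graded rings ⊕ₙ Iⁿ/Iⁿ⁺¹ → ⊕ₙ Jⁿ/Jⁿ⁺¹ is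
surjective. Then φ is surjective, φ is strict (Jⁿ = φ(Iⁿ)B for all n, that is J = φ(I)B), and B is
J-adically separated and complete. (The published statement is for a homomorphism of filtered
modules over a filtered ring, with arbitrary compatible filtrations; this row is its case of a ring
homomorphism with adic filtrations.) -/
theorem result (A : Type u) [CommRing A] (B : Type u)
    [CommRing B] (φ : A →+* B) (I : Ideal A) (J : Ideal B) (hIJ : I.map φ ≤ J)
    [IsPrecomplete I A] [IsHausdorff J B]
    (h : Function.Surjective (AssocGr.map (AssocGr.IsFiltHom.adic hIJ))) :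
    Function.Surjective φ ∧ I.map φ = J ∧ IsAdicComplete J B := by
  have hlift : ∀ n, ∀ y ∈ J ^ n, ∃ a ∈ I ^ n, φ a - y ∈ J ^ (n + 1) := by
    intro n y hy
    obtain ⟨z, hz⟩ := h (AssocGr.inDeg (FiltBl.IdealFiltration.adic J) n ⟨y, hy⟩ : _)
    obtain ⟨f, rfl⟩ := AssocGr.mkG_surjective _ z
    rw [AssocGr.map_mkG, AssocGr.coe_inDeg] at hz
    have h1 := Ideal.Quotient.eq.1 hz n
    refine ⟨(f : Polynomial A).coeff n, f.2 n, ?_⟩
    simp [Polynomial.coeff_map, AssocGr.coe_coe_monom, Polynomial.coeff_monomial] at h1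
    exact h1
  choose! l hl hl' using hlift
  have hsurj : ∀ m, ∀ y ∈ J ^ m, ∃ a ∈ I ^ m, φ a = y := by
    intro m y hy
    let r : ℕ → B := fun n => Nat.rec y (fun j z => z - φ (l (m + j) z)) n
    have rS : ∀ n, r (n + 1) = r n - φ (l (m + n) (r n)) := fun n => rfl
    have hr : ∀ n, r n ∈ J ^ (m + n) := by
      intro n
      induction n with
      | zero => exact hy
      | succ n ih => rw [rS, ← neg_mem_iff, neg_sub]; exact hl' _ _ ih
    let s : ℕ → A := fun n => ∑ j ∈ Finset.range n, l (m + j) (r j)
    obtain ⟨L, hL⟩ := Groth.Agent.AdicGrLib.exists_limit s (fun n => by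
      simp only [s, Finset.sum_range_succ, add_sub_cancel_left]
      exact Ideal.pow_le_pow_right (Nat.le_add_left n m) (hl _ _ (hr n)))
    have hs : ∀ n, r n = y - φ (s n) := by
      intro n
      induction n with
      | zero => simp [s, r]
      | succ n ih => rw [rS]; simp only [s, Finset.sum_range_succ, map_add]; linear_combination ih
    refine ⟨L, ?_, ?_⟩
    · have h1 : s m ∈ I ^ m := sum_mem fun j _ => Ideal.pow_le_pow_right (Nat.le_add_right m j) (hl _ _ (hr j))
      have h2 := add_mem (hL m) h1
      rwa [sub_add_cancel] at h2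
    · rw [← sub_eq_zero]
      refine IsHausdorff.haus' (I := J) (φ L - y) fun n => ?_
      rw [SModEq.zero, smul_eq_mul, Ideal.mul_top]
      have h1 : φ (L - s n) ∈ J ^ n :=
        Ideal.pow_right_mono hIJ n (Ideal.map_pow φ I n ▸ Ideal.mem_map_of_mem φ (hL n))
      have h2 := sub_mem h1 (Ideal.pow_le_pow_right (Nat.le_add_left n m) (hr n))
      rw [show φ L - y = φ (L - s n) - r n by rw [hs, map_sub]; ring]
      exact h2
  have hφ : Function.Surjective φ := fun y => by
    obtain ⟨a, -, ha⟩ := hsurj 0 y (by simp)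
    exact ⟨a, ha⟩
  have hmap : I.map φ = J := le_antisymm hIJ fun y hy => by
    obtain ⟨a, ha, rfl⟩ := hsurj 1 y (by simpa using hy)
    exact Ideal.mem_map_of_mem φ (by simpa using ha)
  haveI : IsPrecomplete J B := ⟨fun f hf => by
    have hd : ∀ n, f (n + 1) - f n ∈ J ^ n := fun n => by
      have := hf (Nat.le_succ n)
      rw [SModEq.sub_mem, smul_eq_mul, Ideal.mul_top, ← neg_mem_iff, neg_sub] at this
      exact this
    choose e he he' using fun n => hsurj n _ (hd n)
    obtain ⟨a0, ha0⟩ := hφ (f 0)
    let s : ℕ → A := fun n => a0 + ∑ j ∈ Finset.range n, e j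
    obtain ⟨L, hL⟩ := Groth.Agent.AdicGrLib.exists_limit s (fun n => by
      simp only [s, Finset.sum_range_succ]
      rw [← add_assoc, add_sub_cancel_left]
      exact he n)
    refine ⟨φ L, fun n => ?_⟩
    have hs : φ (s n) = f n := by
      simp only [s, map_add, map_sum, he', ha0, Finset.sum_range_sub]
      ring
    rw [SModEq.sub_mem, smul_eq_mul, Ideal.mul_top, ← hs, ← map_sub, ← neg_mem_iff, ← map_neg, neg_sub]
    exact Ideal.pow_right_mono hIJ n (Ideal.map_pow φ I n ▸ Ideal.mem_map_of_mem φ (hL n))⟩
  exact ⟨hφ, hmap, { }⟩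

end Groth.Agent.S16456
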