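import Groth.Statements.S16458
import Groth.Agent.AdicGrLib.Lift
import Mathlib.RingTheory.Finiteness.Basic

set_option autoImplicit false
universe u
open AdicGr

namespace Groth.Agent.S16458

/-- Let A be a commutative ring and I an ideal such that every I-adically Cauchy sequence in A has a
limit, and let M be an A-module with an I-filtration M = N₀ ⊇ N₁ ⊇ … (I·Nₙ ⊆ Nₙ₊₁) which is
separated, ⋂ₙ Nₙ = 0. If the associated graded module gr(M) = ⊕ₙ Nₙ/Nₙ₊₁ is finitely generated as a
module over the associated graded ring ⊕ₙ Iⁿ/Iⁿ⁺¹, then M is a finitely generated A-module. (The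
published statement allows any complete filtered ring and also concludes that M is complete for its
filtration; this row takes the I-adic filtration on A and states the finiteness.) -/
theorem result (A : Type u) [CommRing A] (I : Ideal A)
    [IsPrecomplete I A] (M : Type u) [AddCommGroup M] [Module A M] (F : I.Filtration M)
    (h0 : F.N 0 = ⊤) (hsep : ⨅ n, F.N n = ⊥)
    [Module.Finite (AssocGr.GrRing (FiltBl.IdealFiltration.adic I)) (AssocGr.GrMod F)] :
    Module.Finite A M := by
  obtain ⟨s, hs⟩ := (Submodule.fg_span_iff_fg_span_finset_subset _).1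
    (show (Submodule.span (AssocGr.GrRing (FiltBl.IdealFiltration.adic I))
      (Set.range fun p : (n : ℕ) × F.N n => (AssocGr.inDegM F p.1 p.2 : AssocGr.GrMod F))).FG by
      rw [Groth.Agent.AdicGrLib.span_homogeneous]; exact Module.Finite.fg_top)
  choose p hp using fun z : s => hs.1 z.2
  have hgen : Submodule.span (AssocGr.GrRing (FiltBl.IdealFiltration.adic I))
      (Set.range fun z : s => (AssocGr.inDegM F (p z).1 (p z).2 : AssocGr.GrMod F)) = ⊤ := by
    rw [← Groth.Agent.AdicGrLib.span_homogeneous F, hs.2]
    congr 1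
    ext w
    exact ⟨fun ⟨z, hz⟩ => hz ▸ (hp z).symm ▸ z.2, fun hw => ⟨⟨w, hw⟩, hp _⟩⟩
  have h := Groth.Agent.AdicGrLib.eq_span F h0 hsep (fun z : s => (p z).1) (fun z => (p z).2) ⊤ (fun _ => trivial)
    fun n m _ => by rw [hgen]; trivial
  exact ⟨h ▸ Submodule.fg_span (Set.finite_range _)⟩

end Groth.Agent.S16458
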