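import Groth.Statements.S16459
import Groth.Agent.AdicGrLib.Lift
import Mathlib.RingTheory.Noetherian.Basic
import Mathlib.RingTheory.Finiteness.Basic

set_option autoImplicit false
universe u
open AdicGr

namespace Groth.Agent.S16459

/-- Let A be a commutative ring and I an ideal such that every I-adically Cauchy sequence in A has a
limit, and let M be an A-module with an I-filtration M = N₀ ⊇ N₁ ⊇ … (I·Nₙ ⊆ Nₙ₊₁) which is
separated, ⋂ₙ Nₙ = 0. If the associated graded module gr(M) = ⊕ₙ Nₙ/Nₙ₊₁ is a Noetherian module over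
the associated graded ring ⊕ₙ Iⁿ/Iⁿ⁺¹, then M is a Noetherian A-module and every submodule M' of M
is closed for the topology defined by the filtration, that is ⋂ₙ (M' + Nₙ) = M'. (The published
statement allows any complete filtered ring; this row takes the I-adic filtration on A.) -/
theorem result (A : Type u) [CommRing A]
    (I : Ideal A) [IsPrecomplete I A] (M : Type u) [AddCommGroup M] [Module A M] (F : I.Filtration M)
    (h0 : F.N 0 = ⊤) (hsep : ⨅ n, F.N n = ⊥)
    [IsNoetherian (AssocGr.GrRing (FiltBl.IdealFiltration.adic I)) (AssocGr.GrMod F)] :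
    IsNoetherian A M ∧ ∀ M' : Submodule A M, ⨅ n, M' ⊔ F.N n = M' := by
  have key : ∀ M' : Submodule A M, M'.FG ∧ ⨅ n, M' ⊔ F.N n = M' := by
    intro M'
    let S : Set (AssocGr.GrMod F) :=
      Set.range fun p : (n : ℕ) × {m : F.N n // (m : M) ∈ M'} => (AssocGr.inDegM F p.1 p.2.1 : AssocGr.GrMod F)
    obtain ⟨s, hs⟩ := (Submodule.fg_span_iff_fg_span_finset_subset S).1
      (IsNoetherian.noetherian (Submodule.span (AssocGr.GrRing (FiltBl.IdealFiltration.adic I)) S))
    choose p hp using fun z : s => hs.1 z.2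
    have hgen : Submodule.span (AssocGr.GrRing (FiltBl.IdealFiltration.adic I)) S = Submodule.span _
        (Set.range fun z : s => (AssocGr.inDegM F (p z).1 (p z).2.1 : AssocGr.GrMod F)) := by
      rw [hs.2]
      congr 1
      ext w
      exact ⟨fun hw => ⟨⟨w, hw⟩, hp _⟩, fun ⟨z, hz⟩ => hz ▸ (hp z).symm ▸ z.2⟩
    have h1 := Groth.Agent.AdicGrLib.eq_span F h0 hsep (fun z : s => (p z).1) (fun z => (p z).2.1) M'
      (fun z => (p z).2.2) fun n m hm => hgen ▸ Submodule.subset_span ⟨⟨n, m, hm⟩, rfl⟩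
    refine ⟨h1 ▸ Submodule.fg_span (Set.finite_range _), ?_⟩
    have hle : M' ≤ ⨅ n, M' ⊔ F.N n := le_iInf fun n => le_sup_left
    refine le_antisymm ?_ hle
    have h2 := Groth.Agent.AdicGrLib.eq_span F h0 hsep (fun z : s => (p z).1) (fun z => (p z).2.1) (⨅ n, M' ⊔ F.N n)
      (fun z => hle (p z).2.2) fun n m hm => by
        obtain ⟨a, ha, b, hb, hab⟩ := Submodule.mem_sup.1 ((Submodule.mem_iInf _).1 hm (n + 1))
        have han : a ∈ F.N n := by
          rw [eq_sub_of_add_eq hab]
          exact sub_mem m.2 (F.antitone (Nat.le_succ n) hb)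
        have he : AssocGr.inDegM F n m = AssocGr.inDegM F n ⟨a, han⟩ := by
          rw [← sub_eq_zero, ← map_sub, AssocGr.inDegM_eq_zero_iff]
          rw [Submodule.coe_sub, ← hab, add_sub_cancel_left]
          exact hb
        rw [he]
        exact hgen ▸ Submodule.subset_span ⟨⟨n, ⟨a, han⟩, ha⟩, rfl⟩
    rw [h2, ← h1]
  exact ⟨⟨fun M' => (key M').1⟩, fun M' => (key M').2⟩

end Groth.Agent.S16459
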