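import Groth.Statements.S1646
import Groth.Agent.Desc19b.GGFpqc

set_option autoImplicit false
universe u
open CategoryTheory CategoryTheory.Limits AlgebraicGeometry
open Variety

set_option backward.isDefEq.respectTransparency.types false
set_option backward.isDefEq.respectTransparency false

namespace Groth.Agent.S1646


/-- Let A → A' be a faithfully flat ring map, f : X → Spec A a quasi-compact and quasi-separated
morphism, and F a quasi-coherent O_X-module. F is generated by its global sections exactly when its
pullback to X ×_{Spec A} Spec A' is generated by its global sections. (Quasi-compactness and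
quasi-separatedness of f are assumed here on top of the published hypotheses.) -/
theorem result (A A' : Type u) [CommRing A] [CommRing A'] [Algebra A A']
    [Module.FaithfullyFlat A A'] (X : Scheme.{u}) (f : X ⟶ Spec (CommRingCat.of A)) [QuasiCompact f] [QuasiSeparated f]
    (F : X.Modules) (hF : Coh.IsQCoh F) :
    Curv2.IsGloballyGenerated F ↔ Curv2.IsGloballyGenerated
      ((Scheme.Modules.pullback (pullback.fst f (Spec.map (CommRingCat.ofHom (algebraMap A A'))))).obj F) := by
  have := hF
  have hfl : Flat (Spec.map (CommRingCat.ofHom (algebraMap A A'))) := by
    rw [HasRingHomProperty.Spec_iff (P := @Flat)]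
    exact RingHom.flat_algebraMap_iff.2 inferInstance
  have hsj : Surjective (Spec.map (CommRingCat.ofHom (algebraMap A A'))) :=
    ⟨PrimeSpectrum.comap_surjective_of_faithfullyFlat⟩
  have : CompactSpace X := QuasiCompact.compactSpace_of_compactSpace f
  have : QuasiSeparatedSpace X := quasiSeparatedSpace_of_quasiSeparated f
  have : IsAffineHom (pullback.fst f (Spec.map (CommRingCat.ofHom (algebraMap A A')))) :=
    MorphismProperty.pullback_fst _ _ inferInstance
  have : Surjective (pullback.fst f (Spec.map (CommRingCat.ofHom (algebraMap A A')))) :=
    MorphismProperty.pullback_fst _ _ hsj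
  have : Flat (pullback.fst f (Spec.map (CommRingCat.ofHom (algebraMap A A')))) :=
    MorphismProperty.pullback_fst _ _ hfl
  exact ⟨fun h => Groth.Agent.Desc19b.isGloballyGenerated_pullback _ h,
    fun h => Groth.Agent.Desc19b.isGloballyGenerated_of_pullback (A := CommRingCat.of A) (B := CommRingCat.of A')
      _ f _ (IsPullback.of_hasPullback _ _) F h⟩

end Groth.Agent.S1646
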