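import Groth.Statements.S16460


set_option autoImplicit false
universe u
open AdicGr

namespace Groth.Agent.S16460

/-- Let A be a commutative ring with a decreasing filtration by ideals A = F₀ ⊇ F₁ ⊇ F₂ ⊇ … satisfying
F_m·F_n ⊆ F_{m+n}, and assume the filtration is separated, ⋂ₙ Fₙ = 0. If the associated graded ring
⊕ₙ Fₙ/Fₙ₊₁ is an integral domain, then A is an integral domain. -/
theorem result (A : Type u) [CommRing A]
    (𝓕 : FiltBl.IdealFiltration A) (hsep : ⨅ n, 𝓕.F n = ⊥) [IsDomain (AssocGr.GrRing 𝓕)] :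
    IsDomain A := by
  classical
  have hnt : Nontrivial A := by
    by_contra h
    rw [not_nontrivial_iff_subsingleton] at h
    exact one_ne_zero (α := AssocGr.GrRing 𝓕) (by rw [← map_one (algebraMap A (AssocGr.GrRing 𝓕)), Subsingleton.elim (1 : A) 0, map_zero])
  have hdeg : ∀ a : A, a ≠ 0 → ∃ n, ∃ h : a ∈ 𝓕.F n, a ∉ 𝓕.F (n + 1) := by
    intro a ha
    by_contra hcon
    push Not at hcon
    have hall : ∀ n, a ∈ 𝓕.F n := by
      intro n
      induction n with
      | zero => rw [𝓕.zero_eq]; trivial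
      | succ n ih => exact hcon n ih
    have h1 : a ∈ ⨅ n, 𝓕.F n := Submodule.mem_iInf _ |>.2 hall
    rw [hsep] at h1
    exact ha h1
  haveI : NoZeroDivisors A := ⟨fun {a b} hab => by
    by_contra hcon
    push Not at hcon
    obtain ⟨m, hm, hm'⟩ := hdeg a hcon.1
    obtain ⟨n, hn, hn'⟩ := hdeg b hcon.2
    have h1 := AssocGr.coe_inDeg_mul 𝓕 m n ⟨a, hm⟩ ⟨b, hn⟩
    have h2 : AssocGr.inDeg 𝓕 (m + n) ⟨a * b, 𝓕.mul_le m n (Ideal.mul_mem_mul hm hn)⟩ = 0 :=
      (AssocGr.inDeg_eq_zero_iff 𝓕 _ _).2 (by show a * b ∈ _; rw [hab]; exact zero_mem _)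
    rw [h2, ZeroMemClass.coe_zero, mul_eq_zero, ZeroMemClass.coe_eq_zero, ZeroMemClass.coe_eq_zero,
      AssocGr.inDeg_eq_zero_iff, AssocGr.inDeg_eq_zero_iff] at h1
    exact h1.elim hm' hn'⟩
  exact NoZeroDivisors.to_isDomain A

end Groth.Agent.S16460
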