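import Groth.Statements.S16469
import Groth.Agent.VB5.MaxDestab
import Groth.Agent.SGA3cLib.CentralDescent
import Groth.Agent.AbVarLib.GeomIntegralSmooth

set_option autoImplicit false
set_option linter.all false
universe u
open CategoryTheory CategoryTheory.Limits AlgebraicGeometry
open VBCurve

namespace Groth.Agent.S16469

/-- Let X be a smooth proper integral curve (integral, smooth and proper of dimension one) over an
algebraically closed field k, and let E, F be finite locally free O_X-modules of ranks r ≥ 1, s ≥ 1,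
both slope-semistable (deg G · rank ≤ deg · rank G on finite locally free submodules G of positive
rank; degree = χ − rank·χ(O_X)) and of the same slope μ: deg E · s = deg F · r. Then for every
homomorphism f : E → F the kernel and the cokernel of f, taken in the abelian category of
O_X-modules, are finite locally free of some ranks r₀ and s₀, have slope μ when nonzero (deg(ker f)
· r = deg E · r₀ and deg(coker f) · s = deg F · s₀) and are slope-semistable: deg G · r₀ ≤ deg(ker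
f) · n for every finite locally free submodule G ⊂ ker f of rank n ≥ 1, and likewise for coker f
with s₀. In other words the semistable bundles of slope μ form an abelian subcategory, and the image
of f is a sub-bundle of F. -/
theorem result (k : Type u) [Field k] [IsAlgClosed k] (X : Scheme.{u}) [X.Over (Spec (CommRingCat.of k))]
    [IsIntegral X] [IsProper (X ↘ Spec (CommRingCat.of k))] [Smooth (X ↘ Spec (CommRingCat.of k))]
    (hdim : topologicalKrullDim X = 1)
    (r s : ℕ) (hr : 0 < r) (hs : 0 < s) (E F : X.Modules)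
    (hE : FlatMod.IsFinLocFreeOfRank r E) (hF : FlatMod.IsFinLocFreeOfRank s F)
    (hEss : ModFun.IsSlopeSemistable k X E r) (hFss : ModFun.IsSlopeSemistable k X F s)
    (hμ : Curv2.deg k X E r * (s : ℤ) = Curv2.deg k X F s * (r : ℤ)) (f : E ⟶ F) :
    (∃ r₀ : ℕ, FlatMod.IsFinLocFreeOfRank r₀ (kernel f) ∧
        Curv2.deg k X (kernel f) r₀ * (r : ℤ) = Curv2.deg k X E r * (r₀ : ℤ) ∧
        ∀ (G : X.Modules) (n : ℕ) (j : G ⟶ kernel f), Mono j → 0 < n → FlatMod.IsFinLocFreeOfRank n G →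
          Curv2.deg k X G n * (r₀ : ℤ) ≤ Curv2.deg k X (kernel f) r₀ * (n : ℤ)) ∧
      (∃ s₀ : ℕ, FlatMod.IsFinLocFreeOfRank s₀ (cokernel f) ∧
        Curv2.deg k X (cokernel f) s₀ * (s : ℤ) = Curv2.deg k X F s * (s₀ : ℤ) ∧
        ∀ (G : X.Modules) (n : ℕ) (j : G ⟶ cokernel f), Mono j → 0 < n → FlatMod.IsFinLocFreeOfRank n G →
          Curv2.deg k X G n * (s₀ : ℤ) ≤ Curv2.deg k X (cokernel f) s₀ * (n : ℤ)) := by
  haveI : GeometricallyConnected (X ↘ Spec (CommRingCat.of k)) :=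
    SGA3cLib.CentralDescent.geometricallyConnected_of_isAlgClosed _
  haveI : GeometricallyIntegral (X ↘ Spec (CommRingCat.of k)) := AbVarLib.geometricallyIntegral_of_smooth _
  haveI := CurveRR24.isLocallyNoetherian_of_proper k (X := X)
  have hn := VB5.isIntegrallyClosed_stalk k (X := X)
  have hEc := SplitP1.isCoh_of_rank hE
  have hFc := SplitP1.isCoh_of_rank hF
  have hE' := (VB5.ss_iff k hdim hn hE).2 hEss
  have hF' := (VB5.ss_iff k hdim hn hF).2 hFss
  rw [VB5.deg_eq_gdeg k hE, VB5.deg_eq_gdeg k hF] at hμ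
  obtain ⟨I, p, j, hp, hj, hpj, hI, -⟩ := VB5.exists_image k hdim hn hE hF f
  have hr' : (0 : ℤ) < r := by exact_mod_cast hr
  have hs' : (0 : ℤ) < s := by exact_mod_cast hs
  have hq := hE'.quot k hEc p hI
  have hsub := hF' I j hj hI
  rw [VB5.grk_eq hE] at hq
  rw [VB5.grk_eq hF] at hsub
  have key : VB5.gdeg k E * (VB5.grk I : ℤ) * (s : ℤ) = VB5.gdeg k F * (VB5.grk I : ℤ) * (r : ℤ) := by
    rw [mul_right_comm, hμ, mul_right_comm]
  have eI : VB5.gdeg k I * (r : ℤ) = VB5.gdeg k E * (VB5.grk I : ℤ) := by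
    nlinarith [mul_le_mul_of_nonneg_right hsub hr'.le]
  have eI' : VB5.gdeg k I * (s : ℤ) = VB5.gdeg k F * (VB5.grk I : ℤ) := by
    nlinarith [mul_le_mul_of_nonneg_right hq hs'.le]
  have hK := Coherent.isCoh_kernel f hEc hFc.1
  have hKp := Coherent.isCoh_kernel p hEc hI.1
  have eK : kernel f ≅ kernel p := kernelIsoOfEq hpj.symm ≪≫ kernelCompMono p j
  have rK := VB5.grk_additive (EulerLib.shortExact_kernel p) hEc
  have dK := VB5.gdeg_additive k (EulerLib.shortExact_kernel p) hKp hEc hI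
  change VB5.grk E = VB5.grk (kernel p) + VB5.grk I at rK
  change VB5.gdeg k E = VB5.gdeg k (kernel p) + VB5.gdeg k I at dK
  rw [← VB5.gdeg_congr k eK] at dK
  rw [← VB5.grk_congr eK, VB5.grk_eq hE] at rK
  have rK' : (r : ℤ) = (VB5.grk (kernel f) : ℤ) + (VB5.grk I : ℤ) := by exact_mod_cast rK
  obtain ⟨-, hKf⟩ := VB5.sub_bundle hdim.le hn hE (kernel.ι f) hK
  have eK' : VB5.gdeg k (kernel f) * (r : ℤ) = VB5.gdeg k E * (VB5.grk (kernel f) : ℤ) := by
    linear_combination VB5.gdeg k E * rK' - (r : ℤ) * dK - eI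
  refine ⟨⟨VB5.grk (kernel f), hKf, by rwa [VB5.deg_eq_gdeg k hKf, VB5.deg_eq_gdeg k hE], ?_⟩, ?_⟩
  · intro G n jG hjG _ hG
    haveI := hjG
    have h := hE' G (jG ≫ kernel.ι f) (mono_comp _ _) (SplitP1.isCoh_of_rank hG)
    rw [VB5.grk_eq hE, VB5.grk_eq hG] at h
    rw [VB5.deg_eq_gdeg k hG, VB5.deg_eq_gdeg k hKf]
    refine le_of_mul_le_mul_right ?_ hr'
    calc _ = VB5.gdeg k G * (r : ℤ) * (VB5.grk (kernel f) : ℤ) := by ring
      _ ≤ VB5.gdeg k E * (n : ℤ) * (VB5.grk (kernel f) : ℤ) := mul_le_mul_of_nonneg_right h (Int.natCast_nonneg _)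
      _ = VB5.gdeg k E * (VB5.grk (kernel f) : ℤ) * (n : ℤ) := by ring
      _ = _ := by rw [← eK']; ring
  · have eC : cokernel f ≅ cokernel j := cokernelIsoOfEq hpj.symm ≪≫ cokernelEpiComp p j
    have hC := Coherent.isCoh_cokernel j hI.1 hFc
    have hCf := VB5.bundle_cokernel_of_max k hdim hn hF j hI fun P jP hjP hP hPr => by
      have h := hF' P jP hjP hP
      rw [VB5.grk_eq hF, hPr, ← eI'] at h
      exact le_of_mul_le_mul_right h hs'
    have hCf' : FlatMod.IsFinLocFreeOfRank (s - VB5.grk I) (cokernel f) := fun x => by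
      obtain ⟨U, hxU, ⟨e⟩⟩ := hCf x
      exact ⟨U, hxU, ⟨(Scheme.Modules.restrictFunctor U.ι).mapIso eC ≪≫ e⟩⟩
    have rC := VB5.grk_additive (EulerLib.shortExact_cokernel j) hFc
    have dC := VB5.gdeg_additive k (EulerLib.shortExact_cokernel j) hI hFc hC
    change VB5.grk F = VB5.grk I + VB5.grk (cokernel j) at rC
    change VB5.gdeg k F = VB5.gdeg k I + VB5.gdeg k (cokernel j) at dC
    rw [← VB5.gdeg_congr k eC] at dC
    rw [← VB5.grk_congr eC, VB5.grk_eq hF, VB5.grk_eq hCf'] at rC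
    have rC' : (s : ℤ) = (VB5.grk I : ℤ) + ((s - VB5.grk I : ℕ) : ℤ) := by exact_mod_cast rC
    have eC' : VB5.gdeg k (cokernel f) * (s : ℤ) = VB5.gdeg k F * ((s - VB5.grk I : ℕ) : ℤ) := by
      linear_combination VB5.gdeg k F * rC' - (s : ℤ) * dC - eI'
    refine ⟨s - VB5.grk I, hCf', by rwa [VB5.deg_eq_gdeg k hCf', VB5.deg_eq_gdeg k hF], fun G n jG hjG _ hG => ?_⟩
    haveI := hjG
    obtain ⟨P, jP, hjP, hP, hPr, hPd⟩ := VB5.exists_preimage_sub k (EulerLib.shortExact_cokernel j) hI hFc hC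
      (jG ≫ eC.hom) (SplitP1.isCoh_of_rank hG)
    change VB5.grk P = VB5.grk I + VB5.grk G at hPr
    change VB5.gdeg k P = VB5.gdeg k I + VB5.gdeg k G at hPd
    have h := hF' P jP hjP hP
    rw [hPd, hPr, VB5.grk_eq hF, VB5.grk_eq hG] at h
    push_cast at h
    have hGle : VB5.gdeg k G * (s : ℤ) ≤ VB5.gdeg k F * (n : ℤ) := by linarith
    rw [VB5.deg_eq_gdeg k hG, VB5.deg_eq_gdeg k hCf']
    refine le_of_mul_le_mul_right ?_ hs'
    calc _ = VB5.gdeg k G * (s : ℤ) * ((s - VB5.grk I : ℕ) : ℤ) := by ring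
      _ ≤ VB5.gdeg k F * (n : ℤ) * ((s - VB5.grk I : ℕ) : ℤ) := mul_le_mul_of_nonneg_right hGle (Int.natCast_nonneg _)
      _ = VB5.gdeg k F * ((s - VB5.grk I : ℕ) : ℤ) * (n : ℤ) := by ring
      _ = _ := by rw [← eC']; ring

end Groth.Agent.S16469
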