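import Groth.Statements.S16470
import Groth.Agent.VB5.MaxDestab
import Groth.Agent.SGA3cLib.CentralDescent
import Groth.Agent.AbVarLib.GeomIntegralSmooth

set_option autoImplicit false
set_option linter.all false
universe u
open CategoryTheory CategoryTheory.Limits AlgebraicGeometry
open VBCurve

namespace Groth.Agent.S16470

/-- Let X be a smooth proper integral curve (integral, smooth and proper of dimension one) over an
algebraically closed field k and E a finite locally free O_X-module of rank r ≥ 1 (degree = χ −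
rank·χ(O_X), slope = degree / rank). There is a finite locally free submodule E₁ ⊂ E (a monomorphism
of O_X-modules) of some rank r₁ ≥ 1, the destabilising sub-bundle, such that: every finite locally
free submodule F ⊂ E of rank r' ≥ 1 has slope at most that of E₁ (deg F · r₁ ≤ deg E₁ · r'); and the
maximal slope drops in the quotient, i.e. every finite locally free submodule G of rank r' ≥ 1 of
the cokernel E/E₁ has deg G · r₁ < deg E₁ · r'. Moreover a submodule with these two properties is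
unique: any two are the same subobject of E. (Such an E₁ is slope-semistable, every submodule of E₁
being a submodule of E; the published statement lists semistability of E₁ as a third property, which
is therefore omitted here.) -/
theorem result (k : Type u) [Field k] [IsAlgClosed k] (X : Scheme.{u}) [X.Over (Spec (CommRingCat.of k))]
    [IsIntegral X] [IsProper (X ↘ Spec (CommRingCat.of k))] [Smooth (X ↘ Spec (CommRingCat.of k))]
    (hdim : topologicalKrullDim X = 1)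
    (r : ℕ) (hr : 0 < r) (E : X.Modules) (hE : FlatMod.IsFinLocFreeOfRank r E) :
    (∃ (E₁ : X.Modules) (r₁ : ℕ) (i₁ : E₁ ⟶ E), Mono i₁ ∧ 0 < r₁ ∧ FlatMod.IsFinLocFreeOfRank r₁ E₁ ∧
      (∀ (F : X.Modules) (r' : ℕ) (j : F ⟶ E), Mono j → 0 < r' → FlatMod.IsFinLocFreeOfRank r' F →
        Curv2.deg k X F r' * (r₁ : ℤ) ≤ Curv2.deg k X E₁ r₁ * (r' : ℤ)) ∧
      (∀ (Q : X.Modules) (s : ℕ) (j : Q ⟶ cokernel i₁), Mono j → 0 < s → FlatMod.IsFinLocFreeOfRank s Q →
        Curv2.deg k X Q s * (r₁ : ℤ) < Curv2.deg k X E₁ r₁ * (s : ℤ))) ∧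
    (∀ (E₁ E₁' : X.Modules) (r₁ r₁' : ℕ) (i₁ : E₁ ⟶ E) (i₁' : E₁' ⟶ E),
      Mono i₁ → 0 < r₁ → FlatMod.IsFinLocFreeOfRank r₁ E₁ →
      (∀ (F : X.Modules) (r' : ℕ) (j : F ⟶ E), Mono j → 0 < r' → FlatMod.IsFinLocFreeOfRank r' F →
        Curv2.deg k X F r' * (r₁ : ℤ) ≤ Curv2.deg k X E₁ r₁ * (r' : ℤ)) →
      (∀ (Q : X.Modules) (s : ℕ) (j : Q ⟶ cokernel i₁), Mono j → 0 < s → FlatMod.IsFinLocFreeOfRank s Q →
        Curv2.deg k X Q s * (r₁ : ℤ) < Curv2.deg k X E₁ r₁ * (s : ℤ)) →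
      Mono i₁' → 0 < r₁' → FlatMod.IsFinLocFreeOfRank r₁' E₁' →
      (∀ (F : X.Modules) (r' : ℕ) (j : F ⟶ E), Mono j → 0 < r' → FlatMod.IsFinLocFreeOfRank r' F →
        Curv2.deg k X F r' * (r₁' : ℤ) ≤ Curv2.deg k X E₁' r₁' * (r' : ℤ)) →
      (∀ (Q : X.Modules) (s : ℕ) (j : Q ⟶ cokernel i₁'), Mono j → 0 < s → FlatMod.IsFinLocFreeOfRank s Q →
        Curv2.deg k X Q s * (r₁' : ℤ) < Curv2.deg k X E₁' r₁' * (s : ℤ)) →
      ∃ e : E₁ ≅ E₁', e.hom ≫ i₁' = i₁) := by
  haveI : GeometricallyConnected (X ↘ Spec (CommRingCat.of k)) :=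
    SGA3cLib.CentralDescent.geometricallyConnected_of_isAlgClosed _
  haveI : GeometricallyIntegral (X ↘ Spec (CommRingCat.of k)) := AbVarLib.geometricallyIntegral_of_smooth _
  haveI := CurveRR24.isLocallyNoetherian_of_proper k (X := X)
  have hn := VB5.isIntegrallyClosed_stalk k (X := X)
  have hEc := SplitP1.isCoh_of_rank hE
  refine ⟨?_, ?_⟩
  · obtain ⟨E₁, i, hi, hE₁c, hpos, hE₁, hmax⟩ := VB5.exists_max_destab k hdim hn hr hE
    haveI := hi
    refine ⟨E₁, VB5.grk E₁, i, hi, hpos, hE₁, fun G r' j hj _ hG => ?_, fun Q s j hj hs hQ => ?_⟩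
    · rw [VB5.deg_eq_gdeg k hG, VB5.deg_eq_gdeg k hE₁, ← VB5.grk_eq hG]
      exact (hmax G j hj (SplitP1.isCoh_of_rank hG)).1
    · haveI := hj
      obtain ⟨P, jP, hjP, hP, hPr, hPd⟩ := VB5.exists_preimage_sub k (EulerLib.shortExact_cokernel i) hE₁c hEc
        (Coherent.isCoh_cokernel i hE₁c.1 hEc) j (SplitP1.isCoh_of_rank hQ)
      change VB5.grk P = VB5.grk E₁ + VB5.grk Q at hPr
      change VB5.gdeg k P = VB5.gdeg k E₁ + VB5.gdeg k Q at hPd
      obtain ⟨h1, h2⟩ := hmax P jP hjP hP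
      rw [VB5.grk_eq hQ] at hPr
      rw [VB5.deg_eq_gdeg k hQ, VB5.deg_eq_gdeg k hE₁]
      rw [hPr, hPd] at h1 h2
      push_cast at h1 h2
      refine lt_of_le_of_ne (by linarith) fun he => ?_
      have := h2 (by omega) (by linarith)
      omega
  · intro E₁ E₁' r₁ r₁' i₁ i₁' hi hr₁ hE₁ hmax hquot hi' hr₁' hE₁' hmax' hquot'
    haveI := hi; haveI := hi'
    have slope : VB5.gdeg k E₁ * (r₁' : ℤ) = VB5.gdeg k E₁' * (r₁ : ℤ) := by
      have a := hmax E₁' r₁' i₁' hi' hr₁' hE₁'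
      have b := hmax' E₁ r₁ i₁ hi hr₁ hE₁
      rw [VB5.deg_eq_gdeg k hE₁, VB5.deg_eq_gdeg k hE₁'] at a b
      omega
    have key : ∀ (A B : X.Modules) (a b : ℕ) (ia : A ⟶ E) (ib : B ⟶ E) (_ : Mono ia) (_ : Mono ib)
        (_ : 0 < a) (_ : 0 < b) (hA : FlatMod.IsFinLocFreeOfRank a A) (hB : FlatMod.IsFinLocFreeOfRank b B),
        VB5.gdeg k A * (b : ℤ) = VB5.gdeg k B * (a : ℤ) →
        (∀ (F : X.Modules) (r' : ℕ) (j : F ⟶ E), Mono j → 0 < r' → FlatMod.IsFinLocFreeOfRank r' F →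
          Curv2.deg k X F r' * (a : ℤ) ≤ Curv2.deg k X A a * (r' : ℤ)) →
        (∀ (F : X.Modules) (r' : ℕ) (j : F ⟶ E), Mono j → 0 < r' → FlatMod.IsFinLocFreeOfRank r' F →
          Curv2.deg k X F r' * (b : ℤ) ≤ Curv2.deg k X B b * (r' : ℤ)) →
        (∀ (Q : X.Modules) (s : ℕ) (j : Q ⟶ cokernel ib), Mono j → 0 < s → FlatMod.IsFinLocFreeOfRank s Q →
          Curv2.deg k X Q s * (b : ℤ) < Curv2.deg k X B b * (s : ℤ)) →
        ia ≫ cokernel.π ib = 0 := by
      intro A B a b ia ib hia hib ha hb hA hB hμ hmA hmB hqB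
      haveI := hia; haveI := hib
      have hAss : VB5.SS k A := (VB5.ss_iff k hdim hn hA).2 fun G r' j hj hr' hG => by
        haveI := hj
        exact hmA G r' (j ≫ ia) (mono_comp j ia) hr' hG
      have hb0 : (0 : ℤ) < b := by exact_mod_cast hb
      have hBc := SplitP1.isCoh_of_rank hB
      have hcok := VB5.bundle_cokernel_of_max k hdim hn hE ib hBc fun P j hj hP hPr => by
        haveI := hj
        rw [VB5.grk_eq hB] at hPr
        have hPf := (VB5.sub_bundle hdim.le hn hE j hP).2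
        have := hmB P _ j hj (hPr ▸ hb) hPf
        rw [VB5.deg_eq_gdeg k hPf, VB5.deg_eq_gdeg k hB, hPr] at this
        exact le_of_mul_le_mul_right this hb0
      obtain ⟨I, p, j, hp, hj, hpj, hI, hI0⟩ := VB5.exists_image k hdim hn hA hcok (ia ≫ cokernel.π ib)
      by_contra hne
      have hc := hI0 hne
      have hIf := (VB5.sub_bundle hdim.le hn hcok j hI).2
      have h1 := hqB I _ j hj hc hIf
      have h2 := hAss.quot k (SplitP1.isCoh_of_rank hA) p hI
      rw [VB5.deg_eq_gdeg k hIf, VB5.deg_eq_gdeg k hB] at h1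
      rw [VB5.grk_eq hA] at h2
      have ha0 : (0 : ℤ) < a := by exact_mod_cast ha
      nlinarith [mul_le_mul_of_nonneg_right h2 hb0.le, mul_lt_mul_of_pos_right h1 ha0]
    have e1 := key E₁ E₁' r₁ r₁' i₁ i₁' hi hi' hr₁ hr₁' hE₁ hE₁' slope hmax hmax' hquot'
    have e2 := key E₁' E₁ r₁' r₁ i₁' i₁ hi' hi hr₁' hr₁ hE₁' hE₁ slope.symm hmax' hmax hquot
    let a := (EulerLib.shortExact_cokernel i₁').fIsKernel.lift (KernelFork.ofι i₁ e1)
    let b := (EulerLib.shortExact_cokernel i₁).fIsKernel.lift (KernelFork.ofι i₁' e2)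
    have ha : a ≫ i₁' = i₁ :=
      (EulerLib.shortExact_cokernel i₁').fIsKernel.fac (KernelFork.ofι i₁ e1) WalkingParallelPair.zero
    have hb : b ≫ i₁ = i₁' :=
      (EulerLib.shortExact_cokernel i₁).fIsKernel.fac (KernelFork.ofι i₁' e2) WalkingParallelPair.zero
    exact ⟨⟨a, b, (cancel_mono i₁).1 (by rw [Category.assoc, hb, ha, Category.id_comp]),
      (cancel_mono i₁').1 (by rw [Category.assoc, ha, hb, Category.id_comp])⟩, ha⟩

end Groth.Agent.S16470
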