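import Groth.Statements.S16478
-- import your own Groth.Agent.* helpers here

set_option autoImplicit false
universe u
open GaDual

namespace Groth.Agent.S16478

/-- Let A be a commutative ring of prime characteristic p and n ≥ 1, and let φ be the comorphism of the
closed immersion α_{p^n} → G_a over A: the bialgebra map from the Hopf algebra of the additive group
(generator t primitive) to A[x]/(x^(p^n)) (x primitive) sending t to x. Then the restriction map on
characters, from those of the additive group over A to those of α_{p^n} over A, is surjective: every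
group-like element of A[x]/(x^(p^n)) is the image under φ of a group-like element of the Hopf
algebra of the additive group. -/
theorem result (p : ℕ) [Fact p.Prime] (A : Type u) [CommRing A] [CharP A p]
    (n : ℕ) (hn : 1 ≤ n) (φ : SekSuwa.A A 0 →ₐc[A] AlphaPn.A p n A) (hφ : φ SekSuwa.A.t = AlphaPn.x p n A)
    (u : AlphaPn.A p n A) (hu : IsGroupLikeElem A u) :
    ∃ g : SekSuwa.A A 0, IsGroupLikeElem A g ∧ φ g = u := by
  classical
  haveI : Nontrivial A := CharP.nontrivial_of_char_ne_one (R := A) (Fact.out : p.Prime).ne_one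
  let b := AlphaPn.basis p n A
  let σ : AlphaPn.A p n A →ₗ[A] SekSuwa.A A 0 := b.constr A fun i => (SekSuwa.A.t : SekSuwa.A A 0) ^ (i : ℕ)
  have hσ : ∀ j, j < p ^ n → σ (AlphaPn.x p n A ^ j) = (SekSuwa.A.t : SekSuwa.A A 0) ^ j := fun j hj => by
    rw [← AlphaPn.basis_apply p n A ⟨j, hj⟩]
    exact Module.Basis.constr_basis _ _ _ _
  have hcom : ∀ w, CoalgebraStruct.comul (R := A) (σ w) =
      TensorProduct.map σ σ (CoalgebraStruct.comul (R := A) w) := by
    refine DFunLike.congr_fun (b.ext (f₁ := (CoalgebraStruct.comul (R := A)).comp σ)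
      (f₂ := (TensorProduct.map σ σ).comp (CoalgebraStruct.comul (R := A))) fun i => ?_)
    rw [LinearMap.comp_apply, LinearMap.comp_apply, AlphaPn.basis_apply, hσ _ i.2, Bialgebra.comul_pow,
      Bialgebra.comul_pow, SekSuwa.A.comul_t, AlphaPn.comul_x, zero_smul, add_zero, add_pow, add_pow, map_sum]
    refine Finset.sum_congr rfl fun j hj => ?_
    simp only [Finset.mem_range] at hj
    rw [← nsmul_eq_mul', ← nsmul_eq_mul',
      map_nsmul, Algebra.TensorProduct.tmul_pow, Algebra.TensorProduct.tmul_pow, Algebra.TensorProduct.tmul_pow,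
      Algebra.TensorProduct.tmul_pow, Algebra.TensorProduct.tmul_mul_tmul, Algebra.TensorProduct.tmul_mul_tmul]
    simp only [one_pow, one_mul, mul_one, TensorProduct.map_tmul]
    rw [hσ _ (by omega), hσ _ (by omega)]
  have hφσ : ∀ w, φ (σ w) = w := by
    refine DFunLike.congr_fun (b.ext (f₁ := (φ : SekSuwa.A A 0 →ₗ[A] AlphaPn.A p n A).comp σ)
      (f₂ := LinearMap.id) fun i => ?_)
    rw [LinearMap.comp_apply, AlphaPn.basis_apply, hσ _ i.2]
    show φ (SekSuwa.A.t ^ (i : ℕ)) = _
    rw [map_pow, hφ]; rfl
  refine ⟨σ u, ⟨?_, ?_⟩, hφσ u⟩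
  · rw [← CoalgHomClass.counit_comp_apply φ, hφσ]
    exact hu.counit_eq_one
  · rw [hcom, hu.comul_eq_tmul_self, TensorProduct.map_tmul]

end Groth.Agent.S16478
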