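import Groth.Statements.S16483
import Groth.Agent.PerfSchLib.Basic

set_option autoImplicit false
set_option backward.isDefEq.respectTransparency.types false
open CategoryTheory CategoryTheory.Limits AlgebraicGeometry
universe u
open FrobSch

namespace Groth.Agent.S16483

section

variable {p : ℕ} [Fact p.Prime] (T : Scheme.{u}) [FrobSch.IsCharP T p]

instance isAffineHom_frobIter : ∀ n, IsAffineHom (FrobSch.frobIter T p n)
  | 0 => inferInstanceAs (IsAffineHom (𝟙 T))
  | n + 1 => by
    haveI := isAffineHom_frobIter n
    exact inferInstanceAs (IsAffineHom (FrobSch.frob T p ≫ FrobSch.frobIter T p n))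

theorem frobIter_succ' : ∀ n,
    FrobSch.frobIter T p (n + 1) = FrobSch.frobIter T p n ≫ FrobSch.frob T p
  | 0 => by simp [FrobSch.frobIter]
  | n + 1 => by
    rw [FrobSch.frobIter_succ, frobIter_succ' n, ← Category.assoc, ← FrobSch.frobIter_succ,
      frobIter_succ' n]

theorem ker_le (n : ℕ) : (FrobSch.frobIter T p (n + 1)).ker ≤
    ((FrobSch.frobIter T p n).ker.subschemeι ≫ FrobSch.frob T p).ker := by
  refine fun U => ?_
  rw [Scheme.Hom.ker_apply, Scheme.Hom.ker_apply]
  intro s hs
  rw [RingHom.mem_ker, frobIter_succ'] at hs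
  rw [RingHom.mem_ker, Scheme.Hom.comp_app]
  rw [Scheme.Hom.comp_app] at hs
  change (FrobSch.frobIter T p n).app U.1 (s ^ p) = 0 at hs
  change (FrobSch.frobIter T p n).ker.subschemeι.app U.1 (s ^ p) = 0
  rw [← RingHom.mem_ker, Scheme.IdealSheafData.ker_subschemeι_app, Scheme.Hom.ker_apply,
    RingHom.mem_ker]
  exact hs

end

/-- Let p be a prime, k a perfect field of characteristic p, T a k-scheme and X a k-scheme with
Frobenius twist X^(p) = X ×_{Spec k, F} Spec k and relative Frobenius F_{X/k} : X ⟶ X^(p). For m ≥ 0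
write T^(m) for the closed subscheme of T cut out by the sections whose p^m-th power vanishes (the
scheme-theoretic image of the m-fold absolute Frobenius F_T^m), and T_0 for the reduced closed
subscheme of T; the inclusions T_0 ⟶ T^(n+1) and T_0 ⟶ T^(n) over T are the given morphisms i and j.
Then for every k-morphism w : T^(n+1) ⟶ X there is a k-morphism v : T^(n) ⟶ X^(p) whose restriction
to T_0 is F_{X/k} composed with the restriction of w to T_0. (The published statement takes T to be
the special fibre of a flat p-adic formal scheme of finite type over the Witt vectors of k, is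
phrased for categories of such objects, and takes X locally of finite type over k; none of this is
used, so T and X are arbitrary k-schemes here.) -/
theorem result (p : ℕ) [Fact p.Prime]
    (k : Type u) [Field k] [CharP k p] [PerfectField k] (n : ℕ)
    {T X : Scheme.{u}} [FrobSch.IsCharP T p] (t : T ⟶ Spec (CommRingCat.of k))
    (x : X ⟶ Spec (CommRingCat.of k))
    (i : T.nilradical.subscheme ⟶ (FrobSch.frobIter T p (n + 1)).ker.subscheme)
    (hi : i ≫ (FrobSch.frobIter T p (n + 1)).ker.subschemeι = T.nilradical.subschemeι)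
    (j : T.nilradical.subscheme ⟶ (FrobSch.frobIter T p n).ker.subscheme)
    (hj : j ≫ (FrobSch.frobIter T p n).ker.subschemeι = T.nilradical.subschemeι)
    (w : (FrobSch.frobIter T p (n + 1)).ker.subscheme ⟶ X)
    (hw : w ≫ x = (FrobSch.frobIter T p (n + 1)).ker.subschemeι ≫ t) :
    ∃ v : (FrobSch.frobIter T p n).ker.subscheme ⟶ FrobSch.frobTwist x p,
      v ≫ pullback.snd x (FrobSch.frob (Spec (CommRingCat.of k)) p) =
          (FrobSch.frobIter T p n).ker.subschemeι ≫ t ∧
        j ≫ v = i ≫ w ≫ FrobSch.relFrob x p := by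
  let ι := (FrobSch.frobIter T p n).ker.subschemeι
  let ι' := (FrobSch.frobIter T p (n + 1)).ker.subschemeι
  haveI : FrobSch.IsCharP X p := FrobSch.IsCharP.of_hom x p
  haveI : FrobSch.IsCharP T.nilradical.subscheme p := FrobSch.IsCharP.of_hom T.nilradical.subschemeι p
  haveI : FrobSch.IsCharP (FrobSch.frobIter T p (n + 1)).ker.subscheme p :=
    FrobSch.IsCharP.of_hom ι' p
  let φ : (FrobSch.frobIter T p n).ker.subscheme ⟶ (FrobSch.frobIter T p (n + 1)).ker.subscheme :=
    IsClosedImmersion.lift ι' (ι ≫ FrobSch.frob T p)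
      (by rw [Scheme.IdealSheafData.ker_subschemeι]; exact ker_le T n)
  have hφ : φ ≫ ι' = ι ≫ FrobSch.frob T p := IsClosedImmersion.lift_fac _ _ _
  have hjφ : j ≫ φ = i ≫ FrobSch.frob _ p := by
    rw [← cancel_mono ι', Category.assoc, hφ, Category.assoc, FrobSch.frob_comp p ι',
      ← Category.assoc, ← Category.assoc, hj, hi]
  refine ⟨pullback.lift (φ ≫ w) (ι ≫ t)
    (by rw [Category.assoc, hw, ← Category.assoc, hφ, Category.assoc, Category.assoc,
      FrobSch.frob_comp p t]), pullback.lift_snd _ _ _, pullback.hom_ext ?_ ?_⟩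
  · rw [Category.assoc, pullback.lift_fst, Category.assoc, Category.assoc, FrobSch.relFrob_fst,
      ← Category.assoc, hjφ, Category.assoc, FrobSch.frob_comp p w]
  · rw [Category.assoc, pullback.lift_snd, Category.assoc, Category.assoc, FrobSch.relFrob_snd,
      hw, ← Category.assoc, ← Category.assoc, hj, hi]

end Groth.Agent.S16483
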