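import Groth.Statements.S16486
import Groth.Agent.RefHullLib.NormalHartogs26

set_option autoImplicit false
set_option linter.style.haveILetI false
set_option backward.isDefEq.respectTransparency.types false
universe u
open CategoryTheory AlgebraicGeometry
open SGA3

namespace Groth.Agent.S16486

/-- Let S be a Noetherian normal scheme, A a flat quasi-coherent O_S-module, F ⊆ A a sub-O_S-module of
finite type, and U ⊆ S the set of points s at which the stalk F_s is a flat O_{S,s}-module (the
flatness locus of F, which is open); write j : U → S for the inclusion of the corresponding open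
subscheme. Then the bidual F^** = 𝓗om(𝓗om(F, O_S), O_S) is identified with j_* j^* F: there is an
isomorphism F^** ≅ j_*(F|_U) whose composite with the canonical map F → F^** is the unit F → j_* j^*
F of the adjunction between restriction to U and direct image (such an isomorphism is unique). The
openness of U is taken as part of the hypothesis that U is an open with this underlying set. -/
theorem result (S : Scheme.{u}) [IsNoetherian S]
    (hS : Pi1.IsNormalScheme S) (A F : S.Modules) (hA : Coh.IsQCoh A) (hAfl : FlatMod.IsFlat A)
    (ι : F ⟶ A) [Mono ι] (hF : CohB1.IsFT F) (U : S.Opens) (hU : (U : Set S) = {s : S | FlatMod.IsFlatAt F s}) :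
    ∃ e : RefHull.ddual F ≅ (Scheme.Modules.pushforward U.ι).obj (F.restrict U.ι),
      RefHull.bidualMap F ≫ e.hom = (Scheme.Modules.restrictAdjunction U.ι).unit.app F := by
  haveI := hA
  have hFq : Coh.IsQCoh F := RefHullLib.NormalHartogs26.isQCoh_of_mono_of_isFT ι hA hF
  have hFc : Coh.IsCoh F := Coherent.isCoh_of_isQCoh_of_isFT F hFq hF
  have hinj := TFPush7.stalkMap_injective_of_mono ι
  have hflat : ∀ y : S, y ∈ U ↔ Module.Flat (S.presheaf.stalk y) (F.presheaf.stalk y) := fun y => by
    show y ∈ (U : Set S) ↔ _
    rw [hU]; exact Iff.rfl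
  have hU1 : ∀ y : S, ringKrullDim (S.presheaf.stalk y) ≤ 1 → y ∈ U := fun y hy => by
    rw [hflat]
    haveI := (hS y).1
    haveI := (hS y).2
    haveI : Module.Flat (S.presheaf.stalk y) (A.presheaf.stalk y) := hAfl y
    haveI : IsRegularLocalRing (S.presheaf.stalk y) := CAlgH3.isRegularLocalRing_of_normal_dim_le_one hy
    haveI := AssSch12.finite_stalk hFc y
    haveI : Module.IsTorsionFree (S.presheaf.stalk y) (A.presheaf.stalk y) := inferInstance
    haveI : Module.IsTorsionFree (S.presheaf.stalk y) (F.presheaf.stalk y) :=
      (hinj y).moduleIsTorsionFree _ fun r v => map_smul (RefHull.stalkMapₗ ι y) r v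
    haveI := RefHullLib.free_of_torsionFree_of_dim_le_one (M := F.presheaf.stalk y) hy inferInstance
    infer_instance
  have hdense := RefHullLib.NormalHartogs26.isDenseOpen_of_dim_le_one hS U hU1
  have hpair : ∀ z : S, z ∉ U → SDiv28.RegPairExtend.HasRegPair z := fun z hz => by
    haveI := (hS z).1
    haveI := (hS z).2
    exact RefHullLib.NormalHartogs26.hasRegPair_of_two_le_depth z
      (CAlgH3.two_le_depth_of_normal (SGA3Power26.two_le_of_not_le_one fun h => hz (hU1 z h)))
  haveI hunit : IsIso ((Scheme.Modules.restrictAdjunction U.ι).unit.app (RefHull.ddual F)) :=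
    SDiv28.DualExtend.isIso_unit hdense hpair (RefHull.dual F)
  haveI hres : IsIso ((Scheme.Modules.restrictFunctor U.ι).map (RefHull.bidualMap F)) := by
    refine RefHullLib.isIso_restrict_map _ U fun y hy => ?_
    haveI := AssSch12.finite_stalk hFc y
    haveI : Module.Flat (S.presheaf.stalk y) (F.presheaf.stalk y) := (hflat y).1 hy
    haveI : Module.Free (S.presheaf.stalk y) (F.presheaf.stalk y) := Module.free_of_flat_of_isLocalRing
    exact (RefHullLib.bijective_stalk_bidualMap_iff hFc y).2
      (inferInstanceAs (Module.IsReflexive (S.presheaf.stalk y) (F.presheaf.stalk y)))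
  let u := (Scheme.Modules.restrictAdjunction U.ι).unit
  refine ⟨asIso (u.app (RefHull.ddual F)) ≪≫ (Scheme.Modules.pushforward U.ι).mapIso
    (asIso ((Scheme.Modules.restrictFunctor U.ι).map (RefHull.bidualMap F))).symm, ?_⟩
  have hnat := u.naturality (RefHull.bidualMap F)
  simp only [Functor.id_map, Functor.comp_map] at hnat
  simp only [Iso.trans_hom, asIso_hom, Functor.mapIso_hom, Iso.symm_hom, asIso_inv]
  rw [reassoc_of% hnat, ← Functor.map_comp, IsIso.hom_inv_id, CategoryTheory.Functor.map_id]
  exact Category.comp_id _

end Groth.Agent.S16486
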