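import Groth.Statements.S5971
import Groth.Agent.PrinLib.Affine
import Groth.Agent.Coherent.FinitePres
import Groth.Agent.H8Lim.IdealDescent
import Groth.Agent.EGA43.FPKernel
import Groth.Agent.EGA43.Limit.Basic
import Groth.Agent.Desc19b.ModStFibGrpd
import Mathlib.RingTheory.Finiteness.ModuleFinitePresentation

set_option linter.style.haveILetI false
set_option backward.isDefEq.respectTransparency.types false
set_option backward.isDefEq.respectTransparency false

set_option autoImplicit false
universe u
open CategoryTheory CategoryTheory.Limits AlgebraicGeometry TopologicalSpace Opposite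
open Nrm16

namespace Groth.Agent.S5971

/-- Let f : X ⟶ S be a morphism locally of finite presentation, n a natural number and F a
quasi-coherent O_X-module of finite presentation. Then the sheaf of principal parts P^n_{X/S}(F),
with its left O_X-module structure, is of finite presentation. (The published statement asserts this
for either of the two O_X-module structures of P^n_{X/S}(F); this row states it for the left
structure, the one the sheaf of principal parts carries here.) -/
theorem result {X S : Scheme.{u}} (f : X ⟶ S) [LocallyOfFinitePresentation f] (n : ℕ)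
    (F : X.Modules) (hF : CohB1.IsFP F) :
    CohB1.IsFP (PrinPart.PMod f n F) := by
  let d := PrinPart.diagCl f
  haveI : LocallyOfFinitePresentation (d ≫ (pullback.diagonal f).coborderRange.ι) := by
    rw [Scheme.Hom.liftCoborder_ι]
    haveI : LocallyOfFinitePresentation (pullback.diagonal f ≫ pullback.fst f f) := by
      rw [pullback.diagonal_fst]; infer_instance
    exact EGA43.Limit.locallyOfFinitePresentation_of_comp _ (pullback.fst f f)
  haveI : LocallyOfFinitePresentation d :=
    EGA43.Limit.locallyOfFinitePresentation_of_comp d (pullback.diagonal f).coborderRange.ι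
  haveI : IsClosedImmersion (PrinPart.infNbhdι d n) := inferInstanceAs (IsClosedImmersion (PrinPart.infNbhdι _ n))
  haveI : LocallyOfFinitePresentation (PrinPart.infNbhdι d n) := by
    refine H8Lim.locallyOfFinitePresentation_of_ker_fg _ fun U => ?_
    rw [PrinLib.ker_infNbhdι, Scheme.IdealSheafData.ideal_pow, Pi.pow_apply]
    exact (H8Lim.ker_fg_of_locallyOfFinitePresentation d U).pow
  haveI : LocallyOfFinitePresentation (PrinPart.pr1 f n) := by
    unfold PrinPart.pr1 PrinPart.nbhdι
    infer_instance
  let p := PrinPart.pr1 f n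
  let M := (Scheme.Modules.pullback (PrinPart.pr2 f n)).obj F
  have hM : CohB1.IsFP M := Desc19b.ModStFib.isFP_pullback _ F hF
  haveI : SheafOfModules.IsFinitePresentation.{u} (R := (PrinPart.nbhd f n).ringCatSheaf) M := hM
  haveI hq : Coh.IsQCoh M :=
    inferInstanceAs (SheafOfModules.IsQuasicoherent.{u} (R := (PrinPart.nbhd f n).ringCatSheaf) M)
  haveI : Coh.IsQCoh (PrinPart.PMod f n F) := Coherent.isQCoh_push p M
  refine EGA43.FPKernel.isFP_of_forall_exists_affine _ fun x => ?_
  obtain ⟨U, hU, hxU, -⟩ := Opens.isBasis_iff_nbhd.mp X.isBasis_affineOpens (Opens.mem_top x)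
  refine ⟨U, hU, hxU, ?_⟩
  have hW := hU.preimage p
  haveI := EGA43.QcohFP.finitePresentation_sections M hM hW
  letI := (p.app U).hom.toAlgebra
  haveI : Module.Finite Γ(X, U) Γ(PrinPart.nbhd f n, p ⁻¹ᵁ U) := IsFinite.finite_app p U hU
  haveI : Algebra.FinitePresentation Γ(X, U) Γ(PrinPart.nbhd f n, p ⁻¹ᵁ U) := by
    have h := p.finitePresentation_appLE hU hW le_rfl
    rw [← Scheme.Hom.app_eq_appLE] at h
    exact h
  haveI := Module.FinitePresentation.of_finite_of_finitePresentation Γ(X, U) Γ(PrinPart.nbhd f n, p ⁻¹ᵁ U)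
  letI := Module.compHom Γ(M, p ⁻¹ᵁ U) (p.app U).hom
  haveI : IsScalarTower Γ(X, U) Γ(PrinPart.nbhd f n, p ⁻¹ᵁ U) Γ(M, p ⁻¹ᵁ U) :=
    IsScalarTower.of_algebraMap_smul fun _ _ => rfl
  exact (Module.FinitePresentation.trans Γ(X, U) Γ(M, p ⁻¹ᵁ U) Γ(PrinPart.nbhd f n, p ⁻¹ᵁ U) :
    Module.FinitePresentation Γ(X, U) Γ(M, p ⁻¹ᵁ U))

end Groth.Agent.S5971
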