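import Groth.Statements.S16488
import Mathlib
import Groth.Agent.RefHullLib.RankOne
import Groth.Agent.RefHullLib.LowDim

set_option autoImplicit false
set_option backward.isDefEq.respectTransparency false
universe u
open CategoryTheory CategoryTheory.Limits AlgebraicGeometry TopologicalSpace
open VBPn

namespace Groth.Agent.S16488

/-- Let X be an integral locally Noetherian scheme all of whose local rings are regular, and F a
coherent O_X-module which is reflexive, i.e. the canonical map F → F^** is an isomorphism. Then the
singularity set of F (the set of points at which the stalk of F is not free) has codimension at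
least 3: for every point x such that F_x is not a free O_{X,x}-module, the local ring O_{X,x} has
dimension at least 3. The published statement is for reflexive coherent analytic sheaves on a
complex manifold; this row is its statement for coherent sheaves on a regular integral locally
Noetherian scheme, where the same argument (a reflexive sheaf is locally a second syzygy sheaf)
applies. -/
theorem result (X : Scheme.{u}) [IsIntegral X] [IsLocallyNoetherian X]
    (hreg : ∀ x : X, IsRegularLocalRing (X.presheaf.stalk x)) (F : X.Modules) (hF : Coh.IsCoh F)
    (hrefl : RefHull.IsReflexive F) (x : X) (hx : ¬ Module.Free (X.presheaf.stalk x) (F.presheaf.stalk x)) :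
    (3 : WithBot ℕ∞) ≤ ringKrullDim (X.presheaf.stalk x) := by
  by_contra hcon
  apply hx
  haveI := hreg x
  haveI : Module.IsReflexive (X.presheaf.stalk x) (F.presheaf.stalk x) :=
    (Groth.Agent.RefHullLib.isReflexive_iff_stalks hF).1 hrefl x
  haveI : Coh.IsQCoh F := hF.1
  haveI : Module.Finite (X.presheaf.stalk x) (F.presheaf.stalk x) := Groth.Agent.Props12.finite_stalk_of_isFT F hF.2 x
  refine Groth.Agent.RefHullLib.free_of_reflexive_of_dim_le_two ?_
  have hd : ((IsLocalRing.maximalIdeal (X.presheaf.stalk x)).spanFinrank : WithBot ℕ∞) < 3 := by
    rw [IsRegularLocalRing.spanFinrank_maximalIdeal]; exact not_le.1 hcon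
  rw [← IsRegularLocalRing.spanFinrank_maximalIdeal]
  exact_mod_cast Nat.lt_succ_iff.1 (show (IsLocalRing.maximalIdeal (X.presheaf.stalk x)).spanFinrank < 2 + 1 from by exact_mod_cast hd)

end Groth.Agent.S16488
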