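import Groth.Statements.S16489
import Mathlib
import Groth.Agent.RefHullLib.Extend
import Groth.Agent.RefHullLib.IsoLocus
import Groth.Agent.RefHullLib.LowDim
import Groth.Agent.RefHullLib.RankOne

set_option autoImplicit false
set_option backward.isDefEq.respectTransparency false
universe u
open CategoryTheory CategoryTheory.Limits AlgebraicGeometry TopologicalSpace
open VBPn

namespace Groth.Agent.S16489

/-- Let X be an integral locally Noetherian scheme all of whose local rings are regular, and F a
coherent O_X-module. Call F normal when for all open subsets V ⊆ U of X such that every point of U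
not in V has local ring O_{X,x} of dimension at least 2, the restriction map F(U) → F(V) is
bijective. Then F is reflexive (the canonical map F → F^** is an isomorphism) if and only if F is
torsion-free (each stalk F_x is a torsion-free O_{X,x}-module) and normal. The published statement
is for coherent analytic sheaves on a complex manifold, a sheaf being called normal when for every
open U and every analytic subset A ⊆ U of codimension at least 2 the restriction F(U) → F(U ∖ A) is
bijective; this row is its statement for coherent sheaves on a regular integral locally Noetherian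
scheme, with normality phrased through open subsets V ⊆ U whose complement in U consists of points
with local ring of dimension at least 2, where the same argument applies. -/
theorem result (X : Scheme.{u}) [IsIntegral X] [IsLocallyNoetherian X]
    (hreg : ∀ x : X, IsRegularLocalRing (X.presheaf.stalk x)) (F : X.Modules) (hF : Coh.IsCoh F) :
    RefHull.IsReflexive F ↔
      TorSh.IsTorsionFree F ∧
      (∀ (U V : X.Opens) (hVU : V ≤ U), (∀ x : X, x ∈ U → x ∉ V → (2 : WithBot ℕ∞) ≤ ringKrullDim (X.presheaf.stalk x)) →
        Function.Bijective (F.presheaf.map (homOfLE hVU).op)) := by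
  classical
  have hX : Pi1.IsNormalScheme X := fun x => by
    haveI := hreg x
    haveI := Groth.Agent.CAlgH3.isDomain_of_isRegularLocalRing (X.presheaf.stalk x)
    haveI := Groth.Agent.CAlgH3.ufm_of_regular (X.presheaf.stalk x)
    exact ⟨inferInstance, inferInstance⟩
  have hle : ∀ x : X, ¬ (2 : WithBot ℕ∞) ≤ ringKrullDim (X.presheaf.stalk x) → ringKrullDim (X.presheaf.stalk x) ≤ 1 := by
    intro x h
    haveI := hreg x
    rw [← IsRegularLocalRing.spanFinrank_maximalIdeal] at h ⊢
    have h' : (IsLocalRing.maximalIdeal (X.presheaf.stalk x)).spanFinrank ≤ 1 := by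
      by_contra hc
      exact h (by exact_mod_cast Nat.succ_le_of_lt (not_le.1 hc))
    exact_mod_cast h'
  constructor
  · intro hr
    have hrefl := (Groth.Agent.RefHullLib.isReflexive_iff_stalks hF).1 hr
    have htf : TorSh.IsTorsionFree F := fun x => by
      haveI := Groth.Agent.AssSch12.finite_stalk hF x
      haveI : Module.IsReflexive (X.presheaf.stalk x) (F.presheaf.stalk x) := hrefl x
      infer_instance
    refine ⟨htf, fun U V hVU hcod => ?_⟩
    by_cases hU : (U : Set X).Nonempty
    swap
    · have hU' : ∀ x, x ∉ U := fun x hx => hU ⟨x, hx⟩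
      refine ⟨fun a b _ => Groth.Agent.RefHullLib.section_ext_of_germ_genericPoint F hF.1 (fun x hx => htf x) a b
        fun h => absurd h (hU' _), fun c => ?_⟩
      refine ⟨0, Groth.Agent.RefHullLib.section_ext_of_germ_genericPoint F hF.1 (fun x hx => htf x) _ _
        fun h => absurd (hVU h) (hU' _)⟩
    obtain ⟨x₀, hx₀⟩ := hU
    have hηU : genericPoint X ∈ U := Groth.Agent.RefHullLib.genericPoint_mem_of_mem hx₀
    have hηV : genericPoint X ∈ V := by
      by_contra h
      have h2 := hcod _ hηU h
      haveI := hreg (genericPoint X)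
      rw [ringKrullDim_eq_zero_of_isField (Groth.Agent.RefHullLib.isField_stalk_genericPoint (X := X))] at h2
      exact absurd h2 (by norm_num)
    refine ⟨fun a b hab => ?_, fun c => ?_⟩
    · refine Groth.Agent.RefHullLib.section_ext_of_germ_genericPoint F hF.1 (fun x _ => htf x) a b fun hη => ?_
      have := congrArg (F.presheaf.germ V (genericPoint X) hηV) hab
      simpa [TopCat.Presheaf.germ_res_apply] using this
    · let v := F.presheaf.germ V (genericPoint X) hηV c
      obtain ⟨n, hn⟩ := Groth.Agent.RefHullLib.exists_section_of_codimOne hX hF hrefl hηU v fun y hy hd => by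
        have hyV : y ∈ V := by
          by_contra h
          have := hcod y hy h
          rw [hd] at this
          exact absurd this (by norm_num)
        exact ⟨F.presheaf.germ V y hyV c, Groth.Agent.RefHullLib.toGen_germ F hyV c⟩
      refine ⟨n, Groth.Agent.RefHullLib.section_ext_of_germ_genericPoint F hF.1 (fun x _ => htf x) _ _ fun hη => ?_⟩
      exact (TopCat.Presheaf.germ_res_apply F.presheaf _ _ hη n).trans hn
  · rintro ⟨htf, hnormal⟩
    let D := RefHull.ddual F
    let φ := RefHull.bidualMap F
    have hD : Coh.IsCoh D := Groth.Agent.RefHullLib.isCoh_ddual hF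
    have hDtf : ∀ x, Module.IsTorsionFree (X.presheaf.stalk x) (D.presheaf.stalk x) := fun x => by
      haveI := Groth.Agent.AssSch12.finite_stalk hD x
      haveI : Module.IsReflexive (X.presheaf.stalk x) (D.presheaf.stalk x) :=
        Groth.Agent.RefHullLib.isReflexiveAt_ddual hF x
      infer_instance
    have hinj : ∀ x, Function.Injective (RefHull.stalkMapₗ φ x) := fun x a b hab => by
      refine Groth.Agent.RefHullLib.toGen_injective F hF.1 x (htf x)
        ((Groth.Agent.RefHullLib.bijective_stalk_bidualMap_genericPoint hF).1 ?_)
      rw [← Groth.Agent.RefHullLib.toGen_stalkMap, ← Groth.Agent.RefHullLib.toGen_stalkMap, hab]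
    let V₀ : X.Opens := ⟨_, Groth.Agent.RefHullLib.isOpen_bijective_stalk φ hF hD⟩
    have hlow : ∀ x, x ∉ V₀ → (2 : WithBot ℕ∞) ≤ ringKrullDim (X.presheaf.stalk x) := fun x hx => by
      by_contra h
      apply hx
      haveI := hreg x
      haveI := Groth.Agent.AssSch12.finite_stalk hF x
      haveI := Groth.Agent.CAlgH3.isDomain_of_isRegularLocalRing (X.presheaf.stalk x)
      haveI := Groth.Agent.RefHullLib.free_of_torsionFree_of_dim_le_one (R := X.presheaf.stalk x)
        (M := F.presheaf.stalk x) (hle x h) (htf x)
      show Function.Bijective _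
      rw [Groth.Agent.RefHullLib.bijective_stalk_bidualMap_iff hF]
      show Module.IsReflexive (X.presheaf.stalk x) (F.presheaf.stalk x)
      infer_instance
    refine (Groth.Agent.RefHullLib.isReflexive_iff_bijective_stalk F).2 fun x => ⟨hinj x, fun d => ?_⟩
    obtain ⟨U, hxU, c, rfl⟩ := D.presheaf.exists_germ_eq d
    have hηU : genericPoint X ∈ U := Groth.Agent.RefHullLib.genericPoint_mem_of_mem hxU
    have hη₀ : genericPoint X ∈ V₀ := Groth.Agent.RefHullLib.bijective_stalk_bidualMap_genericPoint hF
    obtain ⟨v, hv⟩ := (Groth.Agent.RefHullLib.bijective_stalk_bidualMap_genericPoint hF).2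
      (D.presheaf.germ U (genericPoint X) hηU c)
    obtain ⟨a, ha⟩ := Groth.Agent.RefHullLib.exists_germ_eq_of_forall_mem_range F hF.1 htf
      (U := U ⊓ V₀) ⟨hηU, hη₀⟩ v fun y hy => by
        obtain ⟨w, hw⟩ := (show Function.Bijective (RefHull.stalkMapₗ φ y) from hy.2).2 (D.presheaf.germ U y hy.1 c)
        refine ⟨w, (Groth.Agent.RefHullLib.bijective_stalk_bidualMap_genericPoint hF).1 ?_⟩
        rw [← Groth.Agent.RefHullLib.toGen_stalkMap, hw, Groth.Agent.RefHullLib.toGen_germ]
        exact hv.symm
    obtain ⟨n, hn⟩ := (hnormal U (U ⊓ V₀) inf_le_left fun y hy hy' => hlow y fun h => hy' ⟨hy, h⟩).2 a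
    refine ⟨F.presheaf.germ U x hxU n, Groth.Agent.RefHullLib.toGen_injective D hD.1 x (hDtf x) ?_⟩
    rw [Groth.Agent.RefHullLib.toGen_stalkMap, Groth.Agent.RefHullLib.toGen_germ, Groth.Agent.RefHullLib.toGen_germ,
      ← hv, ← ha, ← hn, TopCat.Presheaf.germ_res_apply]

end Groth.Agent.S16489
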