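import Groth.Statements.S16490
import Groth.Agent.RefHullLib.Hartogs
import Groth.Agent.RefHullLib.Restrict
import Groth.Agent.RefHullLib.SectionZero
-- import your own Groth.Agent.* helpers here

set_option autoImplicit false
universe u
open CategoryTheory CategoryTheory.Limits AlgebraicGeometry TopologicalSpace
open VBPn

open Groth.Agent.Coherent Groth.Agent.PicLib
set_option linter.style.haveILetI false
set_option backward.isDefEq.respectTransparency.types false

namespace Groth.Agent.S16490

/-- Restriction of sections of a reflexive module across a small closed set. -/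
theorem bijective_of_reflexive {X : Scheme.{u}} [IsIntegral X] [IsLocallyNoetherian X]
    (hreg : ∀ x : X, IsRegularLocalRing (X.presheaf.stalk x)) {E : X.Modules} (hE : Coh.IsCoh E)
    (hrefl : ∀ x : X, RefHull.IsReflexiveAt E x) (U V : X.Opens) (hVU : V ≤ U)
    (hd : ∀ x : X, x ∈ U → x ∉ V → (2 : WithBot ℕ∞) ≤ ringKrullDim (X.presheaf.stalk x)) :
    Function.Bijective (E.presheaf.map (homOfLE hVU).op) := by
  rcases Set.eq_empty_or_nonempty (U : Set X) with hU | hU
  · obtain rfl : V = U := le_antisymm hVU fun x hx =>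
      absurd (show x ∈ (U : Set X) from hx) (by rw [hU]; exact Set.notMem_empty x)
    rw [show (homOfLE hVU).op = 𝟙 _ from Subsingleton.elim _ _, E.presheaf.map_id]
    exact Function.bijective_id
  haveI : Nonempty U.toScheme := hU.to_subtype
  haveI : IsIntegral U.toScheme := isIntegral_of_isOpenImmersion U.ι
  haveI : IsLocallyNoetherian U.toScheme := isLocallyNoetherian_of_isOpenImmersion U.ι
  have hd' : ∀ z : U.toScheme, z ∉ U.ι ⁻¹ᵁ V →
      (2 : ℕ∞) ≤ LocCoh.depth (U.toScheme.presheaf.stalk z) (U.toScheme.presheaf.stalk z) := by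
    intro z hz
    haveI := hreg (U.ι z)
    let e : X.presheaf.stalk (U.ι z) ≃+* U.toScheme.presheaf.stalk z :=
      RingEquiv.ofBijective (U.ι.stalkMap z).hom (ConcreteCategory.bijective_of_isIso (U.ι.stalkMap z))
    haveI : IsRegularLocalRing (U.toScheme.presheaf.stalk z) := IsRegularLocalRing.of_ringEquiv e
    refine (WithBot.coe_le_coe (α := ℕ∞)).1 ?_
    rw [CAlgH3.depth_eq_ringKrullDim, ← ringKrullDim_eq_of_ringEquiv e]
    exact hd (U.ι z) z.2 hz
  have hcoh : Coh.IsCoh (E.restrict U.ι) := Coherent.isCoh_restrict U hE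
  haveI := RefHullLib.isIso_restrictUnit (U.ι ⁻¹ᵁ V) hd' hcoh
    fun z => (RefHullLib.isReflexiveAt_restrict_iff U.ι E z).2 (hrefl _)
  have hb := ConcreteCategory.bijective_of_isIso
    (Scheme.Modules.Hom.app ((Scheme.Modules.restrictAdjunction (U.ι ⁻¹ᵁ V).ι).unit.app (E.restrict U.ι)) ⊤)
  rw [Scheme.Modules.restrictAdjunction_unit_app_app] at hb
  have e1 : U.ι ''ᵁ ⊤ = U := by simp
  have e2 : U.ι ''ᵁ ((U.ι ⁻¹ᵁ V).ι ''ᵁ ((U.ι ⁻¹ᵁ V).ι ⁻¹ᵁ ⊤)) = V := by
    simp only [Scheme.Hom.image_preimage_eq_opensRange_inf, Scheme.Opens.opensRange_ι, inf_top_eq]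
    exact inf_eq_right.2 hVU
  have hb' : Function.Bijective (E.presheaf.map (homOfLE (U.ι.image_mono
      ((U.ι ⁻¹ᵁ V).ι.image_preimage_le ⊤))).op) := hb
  have hcomp : (homOfLE hVU).op = (eqToHom e1).op ≫ (homOfLE (U.ι.image_mono
      ((U.ι ⁻¹ᵁ V).ι.image_preimage_le ⊤))).op ≫ (eqToHom e2.symm).op := Subsingleton.elim _ _
  rw [hcomp, E.presheaf.map_comp, E.presheaf.map_comp]
  exact ((ConcreteCategory.bijective_of_isIso (E.presheaf.map (eqToHom e2.symm).op)).comp hb').comp
    (ConcreteCategory.bijective_of_isIso (E.presheaf.map (eqToHom e1).op))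

/-- Restriction of sections of a torsion-free module is injective. -/
theorem injective_of_torsionFree {X : Scheme.{u}} [IsIntegral X] [IsLocallyNoetherian X]
    {Q : X.Modules} (hQ : Coh.IsCoh Q) (htf : TorSh.IsTorsionFree Q) (U V : X.Opens) (hVU : V ≤ U)
    (hd : ∀ x : X, x ∈ U → x ∉ V → (2 : WithBot ℕ∞) ≤ ringKrullDim (X.presheaf.stalk x)) :
    Function.Injective (Q.presheaf.map (homOfLE hVU).op) := by
  haveI := hQ.1
  refine (injective_iff_map_eq_zero _).2 fun s hs => ?_
  refine SDiv28.eq_zero_of_germ_weakAss Q s fun y hy hyw => ?_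
  obtain rfl : y = genericPoint X := by
    haveI := htf y
    exact SDiv28.eq_genericPoint_of_mem_ass_of_noZeroSMulDivisors Q ⟨fun {c m} hcm => smul_eq_zero.1 hcm⟩
      ((SDiv28.isWeakAssPoint_iff_isAssPoint Q y).1 hyw)
  have hV : genericPoint X ∈ V := by
    by_contra hV
    have h2 := hd _ hy hV
    rw [ringKrullDim_eq_zero_of_isField ((RefHullLib.isField_stalk_genericPoint (X := X)))] at h2
    exact absurd h2 (by decide)
  rw [← TopCat.Presheaf.germ_res_apply Q.presheaf (homOfLE hVU) (genericPoint X) hV s, hs, map_zero]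

/-- Let X be an integral locally Noetherian scheme all of whose local rings are regular, and let 0 → F →
E → Q → 0 be a short exact sequence of coherent O_X-modules in which E is reflexive (the canonical
map E → E^** is an isomorphism) and Q is torsion-free (every stalk Q_x is a torsion-free
O_{X,x}-module). Then F is normal: for all open subsets V ⊆ U of X such that every point of U not in
V has local ring of dimension at least 2, the restriction map F(U) → F(V) is bijective. The
published statement is for coherent analytic sheaves on a complex manifold, a sheaf being called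
normal when for every open U and every analytic subset A ⊆ U of codimension at least 2 the
restriction F(U) → F(U ∖ A) is bijective; this row is its statement for coherent sheaves on a
regular integral locally Noetherian scheme, with normality phrased through open subsets V ⊆ U whose
complement in U consists of points with local ring of dimension at least 2, where the same argument
applies. -/
theorem result (X : Scheme.{u}) [IsIntegral X] [IsLocallyNoetherian X]
    (hreg : ∀ x : X, IsRegularLocalRing (X.presheaf.stalk x)) (S : ShortComplex X.Modules) (hS : S.ShortExact)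
    (hF : Coh.IsCoh S.X₁) (hE : Coh.IsCoh S.X₂) (hQ : Coh.IsCoh S.X₃)
    (hErefl : RefHull.IsReflexive S.X₂) (hQtf : TorSh.IsTorsionFree S.X₃) :
    (∀ (U V : X.Opens) (hVU : V ≤ U), (∀ x : X, x ∈ U → x ∉ V → (2 : WithBot ℕ∞) ≤ ringKrullDim (X.presheaf.stalk x)) →
        Function.Bijective (S.X₁.presheaf.map (homOfLE hVU).op)) := by
  intro U V hVU hd
  haveI := hE.1
  have hrefl := (RefHullLib.isReflexive_iff_stalks hE).1 hErefl
  have hb := bijective_of_reflexive hreg hE hrefl U V hVU hd
  have hnat : ∀ {M N : X.Modules} (g : M ⟶ N) (t : Γ(M, U)),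
      g.app V (M.presheaf.map (homOfLE hVU).op t) = N.presheaf.map (homOfLE hVU).op (g.app U t) :=
    fun g t => Coherent.app_resM g hVU t
  refine ⟨fun a b hab => Coherent.sections_injective hS U (hb.1 ?_), fun t => ?_⟩
  · rw [← hnat, ← hnat]
    exact congrArg _ hab
  · obtain ⟨s, hs⟩ := hb.2 (S.f.app V t)
    have h0 : S.g.app U s = 0 := injective_of_torsionFree hQ hQtf U V hVU hd (by
      rw [← hnat, hs, Coherent.sections_zero, map_zero])
    obtain ⟨r, hr⟩ := Coherent.sections_exact hS s h0
    exact ⟨r, Coherent.sections_injective hS V ((hnat S.f r).trans ((congrArg _ hr).trans hs))⟩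

end Groth.Agent.S16490
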