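import Groth.Statements.S16495
import Groth.Agent.TFPush7.BirDual
import Groth.Agent.EGA43.Unibranch.Open

set_option autoImplicit false
set_option linter.style.haveILetI false
set_option backward.isDefEq.respectTransparency false
set_option backward.isDefEq.respectTransparency.types false
universe u
open CategoryTheory CategoryTheory.Limits AlgebraicGeometry
attribute [local instance] HasDerivedCategory.standard
open ResProp

namespace Groth.Agent.S16495

/-- Let k be a field and let X and Y be integral normal schemes, proper over k, both of dimension d; let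
ω_X and ω_Y be their dualizing modules (the cohomology sheaf in degree -d of p^! O for the structure
morphism p to Spec k, assuming the derived direct image Rp_* on D_QCoh and its right adjoint exist,
which is how the prelude presents p^!), and let f : Y → X be a k-morphism which is birational (an
isomorphism over some nonempty open subset of X). Then for every coherent O_X-module F there is a
surjective k-linear map H^d(Y, 𝓗om_{O_Y}(f^*ω_X, ω_Y) ⊗ f^*F) → H^d(X, F). The published statement
says 'd-dimensional normal schemes'; the row takes X and Y integral, the case to which the text has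
reduced before the lemma. -/
theorem result (k : Type u) [Field k]
    (X Y : Scheme.{u}) [X.Over (Spec (CommRingCat.of k))] [Y.Over (Spec (CommRingCat.of k))] [IsProper (X ↘ (Spec (CommRingCat.of k)))] [IsProper (Y ↘ (Spec (CommRingCat.of k)))]
    [IsIntegral X] [IsIntegral Y] (hXn : Pi1.IsNormalScheme X) (hYn : Pi1.IsNormalScheme Y)
    (d : ℕ) (hdX : topologicalKrullDim X = d) (hdY : topologicalKrullDim Y = d)
    (f : Y ⟶ X) (hf : f ≫ (X ↘ (Spec (CommRingCat.of k))) = Y ↘ (Spec (CommRingCat.of k)))
    (hbir : ∃ U : X.Opens, (U : Set X).Nonempty ∧ IsIso (f ∣_ U))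
    [DCoh.HasRpush (X ↘ (Spec (CommRingCat.of k)))] (hX : DCoh.RpushPreservesQCoh (X ↘ (Spec (CommRingCat.of k)))) [DCoh.HasShriek (X ↘ (Spec (CommRingCat.of k))) hX]
    [DCoh.HasRpush (Y ↘ (Spec (CommRingCat.of k)))] (hY : DCoh.RpushPreservesQCoh (Y ↘ (Spec (CommRingCat.of k)))) [DCoh.HasShriek (Y ↘ (Spec (CommRingCat.of k))) hY]
    (OS : DCoh.DQCoh (Spec (CommRingCat.of k))) (hOS : Nonempty (OS.obj ≅ DCoh.inD (Spec (CommRingCat.of k)) (Coh.structureModule (Spec (CommRingCat.of k)))))
    (F : X.Modules) (hF : Coh.IsCoh F) :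
    ∃ φ : Coh.HH Y (CohB1.tensorMod
          (RefHull.homSh ((Scheme.Modules.pullback f).obj (DCoh.dualizingMod (X ↘ (Spec (CommRingCat.of k))) hX OS d))
            (DCoh.dualizingMod (Y ↘ (Spec (CommRingCat.of k))) hY OS d))
          ((Scheme.Modules.pullback f).obj F)) d →ₗ[k] Coh.HH X F d,
      Function.Surjective φ := by
  obtain ⟨U, ⟨x, hx⟩, hiso⟩ := hbir
  obtain ⟨tX, hrX⟩ := Groth.Agent.DualMod3.exists_rep k X hX OS hOS (d := d) hdX.le
  obtain ⟨tY, hrY⟩ := Groth.Agent.DualMod3.exists_rep k Y hY OS hOS (d := d) hdY.le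
  have hη : f (genericPoint Y) = genericPoint X := by
    haveI : IsDominant f := by
      haveI := hiso
      refine ⟨dense_iff_closure_eq.2 (Set.univ_subset_iff.1 ?_)⟩
      rw [← IsOpen.dense U.2 ⟨x, hx⟩ |>.closure_eq]
      refine closure_mono fun y hy => ?_
      obtain ⟨z, hz⟩ := (ConcreteCategory.bijective_of_isIso (f ∣_ U).base).2 ⟨y, hy⟩
      refine ⟨(f ⁻¹ᵁ U).ι z, ?_⟩
      rw [← Scheme.Hom.comp_apply, ← morphismRestrict_ι, Scheme.Hom.comp_apply, hz]
      rfl
    exact Groth.Agent.EGA43.Unibranch.map_genericPoint_of_isDominant f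
  have hnt : Nontrivial ((DCoh.dualizingMod (Y ↘ (Spec (CommRingCat.of k))) hY OS d).presheaf.stalk (genericPoint Y)) := by
    haveI : ∀ (U V : Scheme.{u}) (j : U ⟶ V) [IsOpenImmersion j],
        PreservesFiniteLimits (Scheme.Modules.restrictFunctor j) := fun U V j _ =>
      Groth.Agent.DCat.PullPerf.preservesFiniteLimits_restrict j
    haveI : ∀ (S : CommRingCat.{u}), PreservesFiniteLimits (tilde.functor S) :=
      Groth.Agent.AffSchLib.preservesFiniteLimits_tilde
    haveI := Groth.Agent.EulerLib.isNoetherian_of_proper k (X := Y)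
    refine ((Groth.Agent.DualLib.OmegaField.top_sheaf hY _ (DCoh.shriekAdj _ hY) OS hOS d hdY (genericPoint Y)).2).2
      ⟨Set.univ, ?_, ?_, trivial⟩
    · rw [irreducibleComponents_eq_singleton]; rfl
    · rw [IsHomeomorph.topologicalKrullDim_eq _ (Homeomorph.Set.univ Y).isHomeomorph]; exact hdY
  exact Groth.Agent.TFPush7.exists_surjective_of_rep f hf hη hdX hrX
    (Groth.Agent.DualMod3.isCoh k X hX OS hOS d) hrY (Groth.Agent.DualMod3.isCoh k Y hY OS hOS d) hnt F hF

end Groth.Agent.S16495
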