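import Groth.Statements.S16498
import Mathlib

set_option linter.all false

set_option autoImplicit false
universe u
open Curves


namespace Groth.Agent.S16498

/-- Let k be a field of odd characteristic p, g ≤ p a natural number, f ∈ k[x] of degree at most 2g + 2,
and α ∈ k. Write f^((p-1)/2) = Σ_l c_l x^l and f(x + α)^((p-1)/2) = Σ_l d_l x^l, and form the g × g
Cartier–Manin matrices (c_{ip-j}) and (d_{ip-j}), indices i, j = 1, …, g (below written with i, j
ranging over Fin g, so that the entry at (i, j) is the coefficient of x^((i+1)p-(j+1))). Then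
(d_{ip-j}) = L · (c_{ip-j}) · U with L_{i,I} = binom(I-1, i-1) α^((I-i)p) and U_{J,j} = binom(p-J,
p-j) α^(j-J); both L and U are unitriangular since a binomial coefficient vanishes when its lower
index exceeds its upper index. (The source works over a perfect field, with f separable of degree 2g
+ 2 and α ∈ k^* a root of f, hypotheses this identity does not use.) -/
theorem result (k : Type u) [Field k] (p : ℕ) [Fact p.Prime] (hp : p ≠ 2) [CharP k p]
    (g : ℕ) (hg : g ≤ p) (f : Polynomial k) (hf : f.natDegree ≤ 2 * g + 2) (α : k) :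
    (Matrix.of fun i j : Fin g =>
        ((f.comp (Polynomial.X + Polynomial.C α)) ^ ((p - 1) / 2)).coeff (((i : ℕ) + 1) * p - ((j : ℕ) + 1))) =
      (Matrix.of fun i I : Fin g => (((I : ℕ).choose (i : ℕ) : ℕ) : k) * α ^ (((I : ℕ) - (i : ℕ)) * p)) *
        (Matrix.of fun i j : Fin g => (f ^ ((p - 1) / 2)).coeff (((i : ℕ) + 1) * p - ((j : ℕ) + 1))) *
        (Matrix.of fun J j : Fin g => (((p - ((J : ℕ) + 1)).choose (p - ((j : ℕ) + 1)) : ℕ) : k) * α ^ ((j : ℕ) - (J : ℕ))) := by
  classical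
  have hpp : 0 < p := (Fact.out : p.Prime).pos
  ext i j
  rw [Matrix.of_apply, ← Polynomial.pow_comp]
  set h := f ^ ((p - 1) / 2) with hh
  set N := (g + 1) * (p - 1) with hN
  have hdeg : h.natDegree ≤ N := by
    refine Polynomial.natDegree_pow_le.trans ((Nat.mul_le_mul_left _ hf).trans ?_)
    calc (p - 1) / 2 * (2 * g + 2) = ((p - 1) / 2 * 2) * (g + 1) := by ring
      _ ≤ (p - 1) * (g + 1) := Nat.mul_le_mul_right _ (Nat.div_mul_le_self _ _)
      _ = N := mul_comm _ _
  have hmul : ∀ (a b : ℕ), b < p → (a + 1) * p - (b + 1) = a * p + (p - (b + 1)) := fun a b hb => by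
    rw [Nat.succ_mul]; omega
  have hdm : ∀ (a r : ℕ), r < p → (a * p + r) / p = a ∧ (a * p + r) % p = r := fun a r hr => by
    constructor
    · rw [mul_comm, Nat.mul_add_div hpp, Nat.div_eq_of_lt hr, add_zero]
    · rw [mul_comm, Nat.mul_add_mod, Nat.mod_eq_of_lt hr]
  have hj : (j : ℕ) < p := lt_of_lt_of_le j.2 hg
  set r := p - ((j : ℕ) + 1) with hr
  have hrp : r < p := by omega
  have hcast : ∀ l : ℕ, ((l.choose ((i : ℕ) * p + r) : ℕ) : k) =
      (((l % p).choose r : ℕ) : k) * (((l / p).choose (i : ℕ) : ℕ) : k) := fun l => by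
    rw [← Nat.cast_mul]
    refine (CharP.natCast_eq_natCast k p).2 ?_
    have := Choose.choose_modEq_choose_mod_mul_choose_div_nat (n := l) (k := (i : ℕ) * p + r) (p := p)
    rwa [(hdm _ _ hrp).1, (hdm _ _ hrp).2] at this
  rw [hmul _ _ hj, ← hr]
  conv_lhs => rw [Polynomial.as_sum_range' h (N + 1) (Nat.lt_succ_of_le hdeg), Polynomial.sum_comp, Polynomial.finsetSum_coeff]
  simp only [Polynomial.monomial_comp, Polynomial.coeff_C_mul, Polynomial.coeff_X_add_C_pow, hcast]
  simp only [Matrix.mul_apply, Matrix.of_apply, Finset.sum_mul]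
  rw [Finset.sum_comm, ← Finset.sum_product']
  refine (Finset.sum_of_injOn (fun x : Fin g × Fin g => (x.1 : ℕ) * p + (p - ((x.2 : ℕ) + 1))) ?_ ?_ ?_ ?_).symm
  · intro x _ y _ hxy
    have hx2 : (x.2 : ℕ) < p := lt_of_lt_of_le x.2.2 hg
    have hy2 : (y.2 : ℕ) < p := lt_of_lt_of_le y.2.2 hg
    have h1 := congrArg (· / p) hxy
    have h2 := congrArg (· % p) hxy
    simp only [(hdm _ _ (show p - ((x.2 : ℕ) + 1) < p by omega)).1, (hdm _ _ (show p - ((y.2 : ℕ) + 1) < p by omega)).1] at h1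
    simp only [(hdm _ _ (show p - ((x.2 : ℕ) + 1) < p by omega)).2, (hdm _ _ (show p - ((y.2 : ℕ) + 1) < p by omega)).2] at h2
    exact Prod.ext (Fin.ext h1) (Fin.ext (by omega))
  · intro x _
    rw [Finset.mem_coe, Finset.mem_range, Nat.lt_succ_iff, hN]
    dsimp only
    have h1 : ((x.1 : ℕ) + 1) * p ≤ g * p := Nat.mul_le_mul_right _ x.1.2
    rw [Nat.succ_mul] at h1
    have h2 : (g + 1) * (p - 1) + (g + 1) = (g + 1) * p := by
      conv_rhs => rw [show p = (p - 1) + 1 by omega]
      ring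
    rw [Nat.succ_mul g p] at h2
    omega
  · intro l hl hl'
    rw [Finset.mem_range, Nat.lt_succ_iff] at hl
    by_cases h1 : (l % p).choose r = 0
    · simp [h1]
    have hrl : r ≤ l % p := Nat.le_of_not_lt fun hlt => h1 (Nat.choose_eq_zero_of_lt hlt)
    have hlm : l % p < p := Nat.mod_lt _ hpp
    have hld : l / p < g := by
      by_contra hge
      have h3 : g * p ≤ l / p * p := Nat.mul_le_mul_right _ (not_lt.1 hge)
      have h4 := Nat.div_add_mod' l p
      have h2 : (g + 1) * (p - 1) + (g + 1) = (g + 1) * p := by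
        conv_rhs => rw [show p = (p - 1) + 1 by omega]
        ring
      rw [Nat.succ_mul g p, ← hN] at h2
      omega
    refine absurd ⟨(⟨l / p, hld⟩, ⟨p - 1 - l % p, by omega⟩), Finset.mem_coe.2 (Finset.mem_product.2 ⟨Finset.mem_univ _, Finset.mem_univ _⟩), ?_⟩ hl'
    show l / p * p + (p - (p - 1 - l % p + 1)) = l
    have h4 := Nat.div_add_mod' l p
    omega
  · rintro ⟨I, J⟩ _
    have hJ : (J : ℕ) < p := lt_of_lt_of_le J.2 hg
    have hq : p - ((J : ℕ) + 1) < p := by omega
    simp only [(hdm _ _ hq).1, (hdm _ _ hq).2, hmul _ _ hJ]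
    rcases lt_or_ge (I : ℕ) (i : ℕ) with hI | hI
    · simp [Nat.choose_eq_zero_of_lt hI]
    rcases lt_or_ge (j : ℕ) (J : ℕ) with hjJ | hjJ
    · have h0 := Nat.choose_eq_zero_of_lt (show p - ((J : ℕ) + 1) < p - ((j : ℕ) + 1) by omega)
      simp [hr, h0]
    have hexp : (I : ℕ) * p + (p - ((J : ℕ) + 1)) - ((i : ℕ) * p + r) = ((I : ℕ) - i) * p + ((j : ℕ) - J) := by
      have h1 : (i : ℕ) * p ≤ I * p := Nat.mul_le_mul_right _ hI
      rw [Nat.sub_mul]; omega
    rw [hexp, pow_add]
    ring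

end Groth.Agent.S16498
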