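import Groth.Statements.S16500
import Mathlib

set_option linter.all false

set_option autoImplicit false
universe u
open Curves

open TensorProduct Matrix

namespace Groth.Agent.S16500

/-- Let k be a field of odd characteristic p, g ≤ p a natural number and f ∈ k[x] of degree at most 2g +
2. Let F be f with its coefficients reversed in degrees 0, …, 2g + 2, i.e. F(X) = X^(2g+2) f(1/X)
(Mathlib's reflect (2g+2) f), and write f^((p-1)/2) = Σ_l c_l x^l and F^((p-1)/2) = Σ_l C_l X^l.
Then C_{ip-j} = c_{(g+1-i)p-(g+1-j)} for all i, j = 1, …, g; that is, the g × g Cartier–Manin matrix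
of F is that of f with the order of both rows and columns reversed (below the indices run over Fin
g, the entry at (i, j) being the coefficient of degree (i+1)p-(j+1), and reversal is Fin.rev). In
particular the two matrices have the same determinant. (The source applies this to f with f(0) = 0,
separable of degree 2g + 2 over a perfect field, so that F has odd degree 2g + 1; the identity uses
none of that.) -/
theorem result (k : Type u) [Field k] (p : ℕ) [Fact p.Prime] (hp : p ≠ 2) [CharP k p]
    (g : ℕ) (hg : g ≤ p) (f : Polynomial k) (hf : f.natDegree ≤ 2 * g + 2) :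
    (Matrix.of fun i j : Fin g =>
        ((Polynomial.reflect (2 * g + 2) f) ^ ((p - 1) / 2)).coeff (((i : ℕ) + 1) * p - ((j : ℕ) + 1))) =
      Matrix.of fun i j : Fin g =>
        (f ^ ((p - 1) / 2)).coeff (((Fin.rev i : ℕ) + 1) * p - ((Fin.rev j : ℕ) + 1)) := by
  set m := (p - 1) / 2
  have key : ∀ t : ℕ, Polynomial.reflect (t * (2 * g + 2)) (f ^ t) = (Polynomial.reflect (2 * g + 2) f) ^ t := by
    intro t
    induction t with
    | zero => simp [Polynomial.reflect_one]
    | succ t ih =>
      rw [pow_succ, pow_succ, Nat.succ_mul, Polynomial.reflect_mul _ _ _ hf, ih]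
      exact (Polynomial.natDegree_pow_le).trans (Nat.mul_le_mul_left _ hf)
  ext i j
  simp only [Matrix.of_apply, ← key, Polynomial.coeff_reflect, Fin.val_rev]
  congr 1
  have hodd := (Fact.out (p := p.Prime)).eq_two_or_odd.resolve_left hp
  have hm : 2 * m + 1 = p := by omega
  have hi := i.2
  have hj := j.2
  obtain ⟨s, hs⟩ : ∃ s, g = (i : ℕ) + 1 + s := ⟨g - i - 1, by omega⟩
  have e1 : ((i : ℕ) + 1) * p ≥ (j : ℕ) + 1 := le_trans (by omega) (Nat.le_mul_of_pos_left p (by omega))
  have e4 : (s + 1) * p ≥ g := le_trans hg (Nat.le_mul_of_pos_left p (by omega))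
  have e3 : m * (2 * g + 2) + (g + 1) = ((i : ℕ) + 1) * p + (s + 1) * p := by
    rw [← hm]; linear_combination (2 * m + 1) * hs
  rw [show g - ((i : ℕ) + 1) + 1 = s + 1 by omega, Polynomial.revAt_le (by omega)]
  omega

end Groth.Agent.S16500
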