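import Groth.Statements.S16507
import Groth.Agent.RCFree24.Free
-- import your own Groth.Agent.* helpers here

set_option autoImplicit false
universe u
open CategoryTheory AlgebraicGeometry
open Curves

set_option backward.isDefEq.respectTransparency.types false
namespace Groth.Agent.S16507

/-- Over an algebraically closed field k, let X be a smooth projective variety of dimension n with a
free rational curve, that is, a nonconstant k-morphism f from the projective line such that the
twist of f^*Ω_{X/k} by O(−1) has no nonzero global sections (equivalently f^*T_X is globally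
generated). Then all plurigenera of X vanish: H^0(X, ω^{⊗m}) = 0 for every m ≥ 1, ω the top exterior
power of Ω_{X/k}. (The published hypothesis is that X is smooth, proper and separably uniruled; when
X is smooth and projective over an algebraically closed base field, a free rational curve makes X
separably uniruled, and conversely such an X carries free rational curves. This row also takes k
algebraically closed and X projective, where the published statement allows any base field and X
proper.) -/
theorem result
    (k : Type u) [Field k] [IsAlgClosed k]
    (X : Scheme.{u}) [X.Over (Spec (CommRingCat.of k))] [IsIntegral X] [Smooth (X ↘ Spec (CommRingCat.of k))]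
    (hX : ∃ (N : ℕ) (ι : X ⟶ CohB1.ProjSpace N k), IsClosedImmersion ι ∧
      ι ≫ CohB1.ProjSpace.toSpec N k = X ↘ Spec (CommRingCat.of k))
    (n : ℕ) (hn : topologicalKrullDim X = n)
    (f : CohB1.ProjSpace 1 k ⟶ X) (hf : f ≫ (X ↘ Spec (CommRingCat.of k)) = CohB1.ProjSpace.toSpec 1 k)
    (hnc : ¬ ∃ x : X, Set.range f.base ⊆ {x})
    (hfree : Subsingleton (Coh.HH (CohB1.ProjSpace 1 k)
      (CohB1.tensorMod ((Scheme.Modules.pullback f).obj (Omega.sheaf (X ↘ Spec (CommRingCat.of k)))) (Twist.twistProjSpace 1 k (-1))) 0))
    (ω : X.Modules) (hω : ExtPow.IsExtPow n (Omega.sheaf (X ↘ Spec (CommRingCat.of k))) ω) (m : ℕ) (hm : 1 ≤ m) :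
    Subsingleton (Coh.HH X (CohB1.tensorPow ω m) 0) := by
  obtain ⟨N, ι, hι, hιs⟩ := hX
  haveI := hι
  haveI : IsProper (CohB1.ProjSpace.toSpec N k) := Groth.Agent.Coherent.isProper_projSpace_toSpec N k
  haveI : IsSeparated (X ↘ Spec (CommRingCat.of k)) := hιs ▸ inferInstance
  exact RCFree24.subsingleton_plurigenus X n hn f hf hnc hfree ω hω m hm

end Groth.Agent.S16507
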