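import Groth.Statements.S16508
import Groth.Agent.RCVan24.VeryFree

-- import your own Groth.Agent.* helpers here

set_option autoImplicit false
universe u
open CategoryTheory AlgebraicGeometry
open Curves

set_option backward.isDefEq.respectTransparency.types false
set_option linter.style.haveILetI false
namespace Groth.Agent.S16508

/-- Over an algebraically closed field k, let X be a smooth projective variety with a very free rational
curve, that is, a nonconstant k-morphism f from the projective line with H^0(f^*Ω_{X/k}) = 0
(equivalently f^*T_X is ample). Then H^0(X, (Λ^p Ω_{X/k})^{⊗m}) = 0 for all p ≥ 1 and m ≥ 1. (The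
published hypothesis is that X is smooth, proper and separably rationally connected; when X is
smooth and projective over an algebraically closed base field, a very free rational curve makes X
separably rationally connected, and conversely such an X carries very free rational curves. This row
also takes k algebraically closed and X projective, where the published statement allows any base
field and X proper.) -/
theorem result
    (k : Type u) [Field k] [IsAlgClosed k]
    (X : Scheme.{u}) [X.Over (Spec (CommRingCat.of k))] [IsIntegral X] [Smooth (X ↘ Spec (CommRingCat.of k))]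
    (hX : ∃ (N : ℕ) (ι : X ⟶ CohB1.ProjSpace N k), IsClosedImmersion ι ∧
      ι ≫ CohB1.ProjSpace.toSpec N k = X ↘ Spec (CommRingCat.of k))
    (f : CohB1.ProjSpace 1 k ⟶ X) (hf : f ≫ (X ↘ Spec (CommRingCat.of k)) = CohB1.ProjSpace.toSpec 1 k)
    (hnc : ¬ ∃ x : X, Set.range f.base ⊆ {x})
    (hvfree : Subsingleton (Coh.HH (CohB1.ProjSpace 1 k) ((Scheme.Modules.pullback f).obj (Omega.sheaf (X ↘ Spec (CommRingCat.of k)))) 0))
    (p : ℕ) (hp : 1 ≤ p) (E : X.Modules) (hE : ExtPow.IsExtPow p (Omega.sheaf (X ↘ Spec (CommRingCat.of k))) E) (m : ℕ) (hm : 1 ≤ m) :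
    Subsingleton (Coh.HH X (CohB1.tensorPow E m) 0) := by
  obtain ⟨N, ι, hι, hιs⟩ := hX
  haveI := hι
  haveI : IsProper (CohB1.ProjSpace.toSpec N k) := Groth.Agent.Coherent.isProper_projSpace_toSpec N k
  haveI : IsSeparated (X ↘ Spec (CommRingCat.of k)) := hιs ▸ inferInstance
  exact RCVan24.subsingleton_pow_extPow k X f hf hvfree p hp E hE m hm

end Groth.Agent.S16508
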