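import Groth.Statements.S16516
import Groth.Agent.BinForm.Basic

set_option autoImplicit false
universe u
open RatCurv

namespace Groth.Agent.S16516

open MvPolynomial in
lemma unique_of_sep (K : Type u) [Field K] (V : Submodule K (MvPolynomial (Fin 2) K))
    (hV : V ≤ homogeneousSubmodule (Fin 2) K 5) (hdim : Module.finrank K ↥V = 5)
    (hsep : ∀ e ∈ homogeneousSubmodule (Fin 2) K 2, e ≠ 0 →
      ∀ F ∈ homogeneousSubmodule (Fin 2) K 5, ∃ v ∈ V,
        ∃ h ∈ homogeneousSubmodule (Fin 2) K 3, F = v + e * h)
    (g g' : homogeneousSubmodule (Fin 2) K 3) (hli : LinearIndependent K ![g, g'])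
    (h1 : ∀ h ∈ homogeneousSubmodule (Fin 2) K 2, g.1 * h ∈ V)
    (h2 : ∀ h ∈ homogeneousSubmodule (Fin 2) K 2, g'.1 * h ∈ V) : False := by
  open Groth.Agent.BinForm in
  let S := homogeneousSubmodule (Fin 2) K 5
  let V' := V.comap S.subtype
  have hq : Module.finrank K (S ⧸ V') = 1 := by
    have := Submodule.finrank_quotient_add_finrank V'
    rw [finrank_forms, (Submodule.comapSubtypeEquivOfLe hV).finrank_eq, hdim] at this
    omega
  let W := Submodule.span K (Set.range ![g, g'])
  have hW : Module.finrank K W = 2 := by rw [finrank_span_eq_card hli]; simp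
  let Φ : homogeneousSubmodule (Fin 2) K 2 →ₗ[K]
      homogeneousSubmodule (Fin 2) K 3 →ₗ[K] S ⧸ V' :=
    (mulForm (show 2 + 3 = 5 from rfl)).compr₂ V'.mkQ
  have hk : ∀ e, W ≤ LinearMap.ker (Φ e) := fun e => by
    rw [Submodule.span_le]
    rintro _ ⟨i, rfl⟩
    refine (Submodule.Quotient.mk_eq_zero V').2 ?_
    fin_cases i
    · change e.1 * g.1 ∈ V; rw [mul_comm]; exact h1 _ e.2
    · change e.1 * g'.1 ∈ V; rw [mul_comm]; exact h2 _ e.2
  let Ψ : homogeneousSubmodule (Fin 2) K 2 →ₗ[K]
      (homogeneousSubmodule (Fin 2) K 3 ⧸ W) →ₗ[K] S ⧸ V' :=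
    { toFun := fun e => W.liftQ (Φ e) (hk e)
      map_add' := fun a b => Submodule.linearMap_qext _ (by ext x; simp)
      map_smul' := fun c a => Submodule.linearMap_qext _ (by ext x; simp) }
  have hinj : Function.Injective Ψ := by
    rw [injective_iff_map_eq_zero]
    intro e he
    by_contra h0
    have hall : S ≤ V := fun F hF => by
      obtain ⟨v, hv, h, hh, rfl⟩ := hsep e.1 e.2 (fun h => h0 (Subtype.ext h)) F hF
      refine V.add_mem hv ?_
      exact (Submodule.Quotient.mk_eq_zero V').1
        (LinearMap.congr_fun he (Submodule.Quotient.mk ⟨h, hh⟩))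
    haveI : Module.Finite K V := Module.finite_of_finrank_eq_succ hdim
    have := Submodule.finrank_mono hall (t := V) (R := K)
    rw [hdim] at this
    erw [finrank_forms] at this
    omega
  have := LinearMap.finrank_le_finrank_of_injective hinj
  have hqW := Submodule.finrank_quotient_add_finrank W
  rw [finrank_forms, hW] at hqW
  rw [Module.finrank_linearMap, hq, finrank_forms, mul_one] at this
  omega


/-- A smooth nondegenerate rational quintic curve C ⊂ P^4 has exactly one 3-secant line. Stated for C
given as the image of P^1 under a 5-dimensional linear series V of binary quintic forms which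
separates every length-2 subscheme of P^1 (for every nonzero quadratic form e the forms of V
together with the multiples of e span all quintic forms), so that P^1 → P(V^*) = P^4 is a closed
embedding with nondegenerate image; the linear forms on P^4 are the elements of V, a line L ⊂ P^4 is
recorded by the 3-dimensional space of linear forms vanishing on it, and L ∩ C has length at least 3
exactly when that space consists of the multiples g · K[s,t]_2 of a cubic form g. The conclusion: a
nonzero cubic g with g · K[s,t]_2 ⊆ V exists and is unique up to a scalar. (That such a line meets C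
in length exactly 3, i.e. is not 4-secant, is immediate in this description and is not restated; the
ground field is algebraically closed of characteristic zero in place of the complex numbers.) -/
theorem result (K : Type u) [Field K] [IsAlgClosed K]
    [CharZero K] (V : Submodule K (MvPolynomial (Fin 2) K))
    (hV : V ≤ MvPolynomial.homogeneousSubmodule (Fin 2) K 5) (hdim : Module.finrank K ↥V = 5)
    (hsep : ∀ e ∈ MvPolynomial.homogeneousSubmodule (Fin 2) K 2, e ≠ 0 →
      ∀ F ∈ MvPolynomial.homogeneousSubmodule (Fin 2) K 5, ∃ v ∈ V,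
        ∃ h ∈ MvPolynomial.homogeneousSubmodule (Fin 2) K 3, F = v + e * h) :
    ∃ g ∈ MvPolynomial.homogeneousSubmodule (Fin 2) K 3, g ≠ 0 ∧
      (∀ h ∈ MvPolynomial.homogeneousSubmodule (Fin 2) K 2, g * h ∈ V) ∧
      ∀ g' ∈ MvPolynomial.homogeneousSubmodule (Fin 2) K 3,
        (∀ h ∈ MvPolynomial.homogeneousSubmodule (Fin 2) K 2, g' * h ∈ V) → ∃ c : K, g' = c • g := by
  open Groth.Agent.BinForm in
  obtain ⟨g, hg, hg0, hgV⟩ := exists_mul_mem (a := 3) (b := 2) (c := 5) (m := 1) rfl V hV
    (by omega) (by norm_num)
  refine ⟨g, hg, hg0, hgV, fun g' hg' hg'V => ?_⟩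
  by_contra! hne
  refine unique_of_sep K V hV hdim hsep ⟨g, hg⟩ ⟨g', hg'⟩ ?_ hgV hg'V
  rw [LinearIndependent.pair_iff' (fun h => hg0 (congrArg Subtype.val h))]
  exact fun c h => hne c (congrArg Subtype.val h).symm

end Groth.Agent.S16516
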