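import Groth.Statements.S16517
import Mathlib
import Groth.Agent.CommAlg4.GorensteinLink
import Groth.Agent.CAlgH3.RegularCore

set_option linter.all false

set_option autoImplicit false
universe u
open CAlg

open IsLocalRing

namespace Groth.Agent.S16517

/-- Let R be a regular local ring, A a Gorenstein local ring which is a flat R-algebra through a local
homomorphism, I ⊂ A an ideal of codimension zero (the Krull dimension of A/I equals that of A) with
A/I Cohen–Macaulay, and J = (0 : I) the annihilator of I in A (the ideal of the residual subscheme).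
Then A/I and A/J are flat over R. -/
theorem result (R A : Type u)
    [CommRing R] [IsRegularLocalRing R] [CommRing A] [Algebra R A] [LocCoh.IsGorensteinLocalRing A]
    [IsLocalHom (algebraMap R A)] [Module.Flat R A] (I : Ideal A)
    (hI : ringKrullDim (A ⧸ I) = ringKrullDim A) [LocCoh.IsCohenMacaulayLocalRing (A ⧸ I)] :
    Module.Flat R (A ⧸ I) ∧ Module.Flat R (A ⧸ (Submodule.annihilator I)) := by
  obtain ⟨rs, -, hrsm, hrs⟩ := Groth.Agent.CAlgH3.exists_isRegular_ofList_eq_maximalIdeal (R := R)
  obtain ⟨-, -, h3, h4⟩ := Groth.Agent.CommAlg4.GorensteinLink.of_flat I hI rs hrs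
  have hmem : ∀ f ∈ rs, f ∈ IsLocalRing.maximalIdeal R := fun f hf => hrsm ▸ Ideal.subset_span hf
  haveI hmax : (Ideal.ofList rs).IsMaximal := hrsm ▸ IsLocalRing.maximalIdeal.isMaximal R
  letI := Ideal.Quotient.field (Ideal.ofList rs)
  exact ⟨(Groth.Agent.EGA41Lib.flat_iff_quot_flat_and_regular (B := A) (A ⧸ I) rs hmem hrs.toIsWeaklyRegular).2 ⟨inferInstance, h3⟩,
    (Groth.Agent.EGA41Lib.flat_iff_quot_flat_and_regular (B := A) (A ⧸ Submodule.annihilator I) rs hmem hrs.toIsWeaklyRegular).2 ⟨inferInstance, h4⟩⟩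

end Groth.Agent.S16517
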