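import Groth.Statements.S16519
import Mathlib.Data.Set.Card
import Mathlib.Data.List.OfFn
import Mathlib.Algebra.BigOperators.Fin
import Mathlib.Algebra.Order.BigOperators.Group.List
import Mathlib.Tactic.Linarith
import Mathlib.Tactic.Positivity

set_option autoImplicit false
open CubicSurf

set_option backward.isDefEq.respectTransparency.types false
set_option backward.isDefEq.respectTransparency false

namespace Groth.Agent.S16519


/-- The lists of length `n` with given sum and sum of squares. -/
def gen : ℕ → ℤ → ℤ → List (List ℤ)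
  | 0, s, q => if s = 0 ∧ q = 0 then [[]] else []
  | n + 1, s, q =>
    if q < 0 ∨ ((n : ℤ) + 1) * q < s ^ 2 then [] else
      ([-4, -3, -2, -1, 0, 1, 2, 3, 4] : List ℤ).flatMap fun b =>
        if b ^ 2 ≤ q ∧ q ≤ 24 then (gen n (s - b) (q - b ^ 2)).map (b :: ·) else []

theorem sumsq_nonneg (l : List ℤ) : 0 ≤ (l.map (· ^ 2)).sum :=
  List.sum_nonneg fun x hx => by
    obtain ⟨y, _, rfl⟩ := List.mem_map.1 hx
    positivity

theorem sq_sum_le : ∀ l : List ℤ, l.sum ^ 2 ≤ (l.length : ℤ) * (l.map (· ^ 2)).sum
  | [] => by simp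
  | b :: l => by
    have h := sq_sum_le l
    have hb := sumsq_nonneg l
    simp only [List.sum_cons, List.length_cons, List.map_cons]
    push_cast
    rcases Nat.eq_zero_or_pos l.length with h0 | h0
    · simp [List.length_eq_zero_iff.1 h0]
    · have hn : (1 : ℤ) ≤ (l.length : ℤ) := by exact_mod_cast h0
      nlinarith [sq_nonneg (b * (l.length : ℤ) - l.sum)]

theorem mem_gen {n : ℕ} {s q : ℤ} {l : List ℤ} :
    l ∈ gen n s q ↔ l.length = n ∧ l.sum = s ∧ ((l.map (· ^ 2)).sum = q ∧ (n = 0 ∨ q ≤ 24)) := by
  induction n generalizing s q l with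
  | zero =>
    rw [gen]
    split_ifs with h
    · constructor
      · intro hl
        simp_all
      · rintro ⟨h1, -⟩
        simp [List.length_eq_zero_iff.1 h1]
    · constructor
      · simp
      · rintro ⟨h1, h2, h3, -⟩
        subst h2 h3
        simp [List.length_eq_zero_iff.1 h1] at h
  | succ n ih =>
    rw [gen]
    cases l with
    | nil => split_ifs <;> simp
    | cons b l =>
      have hb := sumsq_nonneg l
      split_ifs with h
      · simp only [List.not_mem_nil, false_iff, List.map_cons, List.sum_cons]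
        rintro ⟨h1, h2, h3, -⟩
        have hsq := sq_sum_le (b :: l)
        simp only [List.sum_cons, List.map_cons, h1, h2, h3] at hsq
        push_cast at hsq
        rcases h with h | h
        · nlinarith
        · linarith
      · simp only [List.mem_flatMap, List.map_cons, List.sum_cons, List.length_cons]
        constructor
        · rintro ⟨c, -, hc⟩
          split_ifs at hc with hc'
          · simp only [List.mem_map, List.cons.injEq] at hc
            obtain ⟨l', hl', rfl, rfl⟩ := hc
            obtain ⟨h1, h2, h3, h4⟩ := ih.1 hl'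
            exact ⟨by omega, by omega, by omega, Or.inr hc'.2⟩
          · simp at hc
        · rintro ⟨h1, h2, h3, h4⟩
          have hq : q ≤ 24 := by simpa using h4
          have hle : b ^ 2 ≤ q := by linarith
          have hq' : 0 ≤ q := by nlinarith
          refine ⟨b, ?_, ?_⟩
          · have h5 : -4 ≤ b := by nlinarith
            have h6 : b ≤ 4 := by nlinarith
            simp only [List.mem_cons, List.not_mem_nil, or_false]
            omega
          · rw [if_pos (show b ^ 2 ≤ q ∧ q ≤ 24 from ⟨hle, hq⟩)]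
            simp only [List.mem_map, List.cons.injEq]
            exact ⟨l, ih.2 ⟨by omega, by omega, by omega, Or.inr (by nlinarith)⟩, trivial, rfl⟩

/-- On a smooth cubic surface there are exactly 72 divisor classes L with L² = 1 and L · K = −3. Stated
in the lattice ℤ^{1,6} with basis l, e_1, …, e_6 (l² = 1, e_i² = −1, K = −3l + Σ e_i): the integer
vectors (a, b) ∈ ℤ × ℤ^6, standing for a·l − Σ b_i e_i, with 3a − Σ b_i = 3 and a² − Σ b_i² = 1 form
a set of exactly 72 elements. -/
theorem result :
    {p : ℤ × (Fin 6 → ℤ) | 3 * p.1 - (Finset.univ.sum fun i => p.2 i) = 3 ∧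
        p.1 ^ 2 - (Finset.univ.sum fun i => p.2 i ^ 2) = 1}.ncard = 72 := by
  rw [Set.ncard_congr (t := {p : ℤ × List ℤ | 3 * p.1 - p.2.sum = 3 ∧ p.1 ^ 2 - (p.2.map (· ^ 2)).sum = 1 ∧ p.2.length = 6})
    (fun p _ => (p.1, List.ofFn p.2))]
  · rw [show {p : ℤ × List ℤ | 3 * p.1 - p.2.sum = 3 ∧ p.1 ^ 2 - (p.2.map (· ^ 2)).sum = 1 ∧ p.2.length = 6} =
      ↑(([1, 2, 3, 4, 5] : List ℤ).flatMap fun a => (gen 6 (3 * a - 3) (a ^ 2 - 1)).map fun l => (a, l)).toFinset from ?_,
      Set.ncard_coe_finset]
    · decide +kernel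
    · ext ⟨a, l⟩
      simp only [Set.mem_ofPred_eq, List.coe_toFinset, List.mem_flatMap, List.mem_map, Prod.mk.injEq, mem_gen]
      constructor
      · rintro ⟨h1, h2, h3⟩
        suffices h : 1 ≤ a ∧ a ≤ 5 by
          obtain ⟨g1, g2⟩ := h
          refine ⟨a, by simp only [List.mem_cons, List.not_mem_nil, or_false]; omega, l,
            ⟨h3, by omega, by omega, Or.inr (by nlinarith)⟩, rfl, rfl⟩
        have hcs := sq_sum_le l
        rw [h3, show l.sum = 3 * a - 3 by omega, show (l.map (· ^ 2)).sum = a ^ 2 - 1 by omega] at hcs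
        have ha1 : 1 ≤ a := by push_cast at hcs; nlinarith
        have ha5 : a ≤ 5 := by push_cast at hcs; nlinarith
        exact ⟨ha1, ha5⟩
      · rintro ⟨a, ha, l, ⟨h1, h2, h3⟩, rfl, rfl⟩
        exact ⟨by omega, by omega, h1⟩
  · intro p hp
    simp only [Set.mem_ofPred_eq] at hp ⊢
    simp only [List.sum_ofFn, List.map_ofFn, Function.comp_def, List.length_ofFn]
    exact ⟨hp.1, hp.2, trivial⟩
  · intro p q _ _ h
    exact Prod.ext (congrArg Prod.fst h :) (List.ofFn_injective (congrArg Prod.snd h))
  · rintro ⟨a, l⟩ ⟨h1, h2, h3⟩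
    dsimp only at h1 h2 h3
    refine ⟨(a, fun i => l[(i : ℕ)]'(by have := i.2; omega)), ?_, ?_⟩
    · have e : List.ofFn (fun i : Fin 6 => l[(i : ℕ)]'(by have := i.2; omega)) = l := List.ext_getElem (by simp [h3]) (fun i hi hi' => by rw [List.getElem_ofFn])
      rw [← e] at h1 h2
      simp only [List.sum_ofFn, List.map_ofFn, Function.comp_def] at h1 h2
      exact ⟨h1, h2⟩
    · simp only [Prod.mk.injEq, true_and]
      exact List.ext_getElem (by simp [h3]) (fun i hi hi' => by rw [List.getElem_ofFn])

end Groth.Agent.S16519
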