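import Groth.Statements.S1652
import Groth.Agent.AmpleLib.Ample
import Mathlib

set_option autoImplicit false
universe u
open CategoryTheory CategoryTheory.Limits AlgebraicGeometry
open Variety
set_option backward.isDefEq.respectTransparency.types false

namespace Groth.Agent.S1652

open Groth.Agent.AmpleLib Groth.Agent.PicLib Groth.Agent.Coherent TopologicalSpace

theorem exists_mem_glocus {X : Scheme.{u}} [IsIntegral X] {L : X.Modules} (hL : PicF.IsInvertible L)
    (s : Coh.structureModule X ⟶ L) (hs : s ≠ 0) : ∃ x, x ∈ glocus L (unitVal s ⊤) := by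
  by_contra h
  push Not at h
  have h0 : unitVal s ⊤ = 0 := sec_ext L _ _ fun y _ => by
    obtain ⟨U, hy, g, hg⟩ := exists_isGen hL y
    have hb : X.basicOpen (hg.coef le_rfl (resM L le_top (unitVal s ⊤))) = ⊥ := by
      rw [← glocus_inf (unitVal s ⊤) hg]
      exact Opens.ext (Set.eq_empty_iff_forall_notMem.2 fun z hz => h z hz.1)
    rw [basicOpen_eq_bot_iff] at hb
    have h1 := hg.coef_spec le_rfl (resM L le_top (unitVal s ⊤))
    rw [hb, zero_smul] at h1
    exact ⟨U, le_top, hy, h1.symm.trans (map_zero _).symm⟩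
  apply hs
  rw [← unitDesc_unitVal s, h0]
  refine Scheme.Modules.hom_ext _ _ fun W => ConcreteCategory.hom_ext _ _ fun r => ?_
  erw [app_unit (unitDesc L 0), unitVal_unitDesc, map_zero, smul_zero]
  rfl


/-- On a proper curve over a field, if L and M are invertible modules with L ⊗ M ≅ O_X and both L and M
have a nonzero global section, then L is isomorphic to the structure sheaf. -/
theorem result (k : Type u) [Field k] (X : Scheme.{u}) [X.Over (Spec (CommRingCat.of k))]
    [IsIntegral X] [IsProper (X ↘ (Spec (CommRingCat.of k)))] (hdim : topologicalKrullDim X = 1)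
    (L M : X.Modules) (hL : PicF.IsInvertible L) (hM : PicF.IsInvertible M) (hLM : ClSub.IsInverseOf L M)
    (s : Coh.structureModule X ⟶ L) (hs : s ≠ 0) (t : Coh.structureModule X ⟶ M) (ht : t ≠ 0) :
    Nonempty (L ≅ Coh.structureModule X) := by
  obtain ⟨e⟩ := hLM
  let σ := unitVal s (⊤ : X.Opens)
  let τ := unitVal t (⊤ : X.Opens)
  obtain ⟨x, hx⟩ := exists_mem_glocus hL s hs
  obtain ⟨y, hy⟩ := exists_mem_glocus hM t ht
  let r : Γ(X, ⊤) := e.hom.app ⊤ (tmul σ τ)
  have hloc : X.basicOpen r = glocus L σ ⊓ glocus M τ := by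
    rw [← glocus_structureModule r, ← glocus_tmul hL hM σ τ]
    exact glocus_map_iso e (tmul σ τ)
  have hr : r ≠ 0 := fun h0 => by
    obtain ⟨z, hz⟩ := nonempty_preirreducible_inter (glocus L σ).2 (glocus M τ).2 ⟨x, hx⟩ ⟨y, hy⟩
    have h1 : z ∈ X.basicOpen r := hloc.ge hz
    rw [h0, Scheme.basicOpen_zero] at h1
    exact h1
  obtain ⟨r', hr'⟩ := (isField_of_universallyClosed k (X ↘ Spec (CommRingCat.of k))).mul_inv_cancel hr
  have htop : glocus L σ = ⊤ := top_le_iff.1 (by
    rw [← Scheme.basicOpen_of_isUnit X (IsUnit.of_mul_eq_one r' hr'), hloc]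
    exact inf_le_left)
  have hgen := (le_glocus_iff σ ⊤).1 htop.ge
  rw [resM_self] at hgen
  obtain ⟨e', -⟩ := exists_iso_of_gens (fun _ : PUnit.{u + 1} => (⊤ : X.Opens)) ciSup_const
    (fun _ => σ) (fun _ => hgen) (fun _ => oneSec (⊤ : X.Opens)) (fun _ => isGen_oneSec ⊤) (by
      intro i j V hi hj c hc
      have h := (hgen V hi).1 (a₁ := c) (a₂ := 1) (by simpa using hc.symm)
      rw [h, one_smul])
  exact ⟨e'⟩

end Groth.Agent.S1652
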