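import Groth.Statements.S16520
import Groth.Agent.TFPush7.DoubleP1

set_option autoImplicit false
set_option linter.style.haveILetI false
set_option backward.isDefEq.respectTransparency false
set_option backward.isDefEq.respectTransparency.types false
universe u
open CategoryTheory CategoryTheory.Limits AlgebraicGeometry
open Curves

namespace Groth.Agent.S16520

/-- Let E be an elliptic curve over an algebraically closed field k of characteristic zero (in place of
the complex numbers): smooth, proper and geometrically connected over k, of dimension one and genus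
dim_k H^1(E, O_E) = 1; let π : E → P^1_k be a k-morphism which is finite and flat of constant rank
2, and L an invertible O_E-module of degree d = χ(L) − χ(O_E). If d = 2e + 1 then π_*L ≅ O(e) ⊕ O(e
− 1); if d = 2e and L ≅ π^*O(e) then π_*L ≅ O(e) ⊕ O(e − 2); if d = 2e and L is not isomorphic to
π^*O(e) then π_*L ≅ O(e − 1) ⊕ O(e − 1). (Existence of isomorphisms of O-modules on P^1_k; the
source states the isomorphisms abstractly.) -/
theorem result (k : Type u) [Field k]
    [IsAlgClosed k] [CharZero k] (E : Scheme.{u}) [E.Over (Spec (CommRingCat.of k))] [IsProper (E ↘ Spec (CommRingCat.of k))]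
    [Smooth (E ↘ Spec (CommRingCat.of k))] [GeometricallyConnected (E ↘ Spec (CommRingCat.of k))]
    (hE : topologicalKrullDim E = 1) (hg : Curv2.genus k E = 1)
    (π : E ⟶ CohB1.ProjSpace 1 k) (hπ : π ≫ CohB1.ProjSpace.toSpec 1 k = E ↘ Spec (CommRingCat.of k))
    [IsFinite π] [Flat π] (hrk : ∀ y : ↥(CohB1.ProjSpace 1 k), Scheme.Hom.finrank π y = 2)
    (L : E.Modules) (hL : PicF.IsInvertible L) (d : ℤ) (hd : Curv2.deg k E L 1 = d) :
    (∀ e : ℤ, d = 2 * e + 1 → Nonempty ((Scheme.Modules.pushforward π).obj L ≅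
        ∐ fun j : Fin 2 => Twist.twistProjSpace 1 k (![e, e - 1] j))) ∧
    (∀ e : ℤ, d = 2 * e → Nonempty (L ≅ (Scheme.Modules.pullback π).obj (Twist.twistProjSpace 1 k e)) →
        Nonempty ((Scheme.Modules.pushforward π).obj L ≅
          ∐ fun j : Fin 2 => Twist.twistProjSpace 1 k (![e, e - 2] j))) ∧
    (∀ e : ℤ, d = 2 * e → IsEmpty (L ≅ (Scheme.Modules.pullback π).obj (Twist.twistProjSpace 1 k e)) →
        Nonempty ((Scheme.Modules.pushforward π).obj L ≅
          ∐ fun j : Fin 2 => Twist.twistProjSpace 1 k (![e - 1, e - 1] j))) := by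
  haveI : ConnectedSpace E := GeometricallyConnected.connectedSpace (E ↘ Spec (CommRingCat.of k))
    fun U _ => isOpen_discrete _
  haveI := Groth.Agent.AbVarLib.isIntegral_of_smooth_connected (E ↘ Spec (CommRingCat.of k))
  obtain ⟨a, ha, hsum, ⟨iso⟩, hh⟩ :=
    Groth.Agent.TFPush7.DoubleP1.exists_pair k π hπ hrk hE hg hL hd
  have key : ∀ b₀ b₁ : ℤ, a 0 = b₀ → a 1 = b₁ →
      Nonempty ((Scheme.Modules.pushforward π).obj L ≅
        ∐ fun j : Fin 2 => Twist.twistProjSpace 1 k (![b₀, b₁] j)) := by
    rintro _ _ rfl rfl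
    have : a = ![a 0, a 1] := funext fun i => by fin_cases i <;> rfl
    exact ⟨iso ≪≫ eqToIso (by rw [← this])⟩
  refine ⟨fun e he => ?_, fun e he hiso => ?_, fun e he hemp => ?_⟩
  · have h := hh (-e)
    rw [Groth.Agent.TFPush7.DoubleP1.h1_Lm_of_pos k π hπ hrk hE hg hL hd (m := -e) (by omega)] at h
    exact key _ _ (by omega) (by omega)
  · have h := hh (-e)
    rw [(Groth.Agent.TFPush7.DoubleP1.h1_Lm_of_zero k π hπ hrk hE hg hL hd (m := -e) (by omega)).1
      ((Groth.Agent.TFPush7.DoubleP1.nonempty_iso_iff k π hL e).2 hiso)] at h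
    have h' := hh (-e + 1)
    rw [Groth.Agent.TFPush7.DoubleP1.h1_Lm_of_pos k π hπ hrk hE hg hL hd (m := -e + 1) (by omega)] at h'
    exact key _ _ (by omega) (by omega)
  · have h := hh (-e)
    rw [(Groth.Agent.TFPush7.DoubleP1.h1_Lm_of_zero k π hπ hrk hE hg hL hd (m := -e) (by omega)).2
      (not_nonempty_iff.1 fun hn => (not_isEmpty_iff.2 ((Groth.Agent.TFPush7.DoubleP1.nonempty_iso_iff k π hL e).1 hn)) hemp)] at h
    exact key _ _ (by omega) (by omega)

end Groth.Agent.S16520
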