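import Groth.Statements.S16534
import Groth.Agent.CurveRR24.FormSections
import Groth.Agent.CurveRR24.AlgClosed
import Groth.Agent.CurveRR24.Degree
import Groth.Agent.HopfLib.PseudoRefl
import Groth.Agent.DCat.PullTensor
-- import your own Groth.Agent.* helpers here

set_option autoImplicit false
universe u
open CategoryTheory CategoryTheory.Limits AlgebraicGeometry
open Curves
open Groth.Agent.Coherent Groth.Agent.PicLib Groth.Agent.AmpleLib Groth.Agent.EulerLib Groth.Agent.CurveRR24
set_option backward.isDefEq.respectTransparency.types false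
set_option linter.style.haveILetI false
set_option maxHeartbeats 1000000

namespace Groth.Agent.S16534

/-- Over an algebraically closed field k of characteristic zero (in place of the complex numbers), a
smooth connected quintic curve of genus 2 in P^4 lies in a hyperplane and on a quadric surface in
that hyperplane. Here C is smooth, proper and integral of dimension one over k with dim_k H^1(C,
O_C) = 2, i : C → P^4_k is a closed immersion over k with deg i^*O(1) = χ(i^*O(1)) − χ(O_C) = 5, and
the conclusion provides a nonzero linear form l and a quadratic form q not divisible by l such that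
i factors through V_+(l) ∩ V_+(q). -/
theorem result (k : Type u) [Field k] [IsAlgClosed k]
    [CharZero k] (C : Scheme.{u}) [C.Over (Spec (CommRingCat.of k))] [Smooth (C ↘ Spec (CommRingCat.of k))] [IsProper (C ↘ Spec (CommRingCat.of k))]
    [IsIntegral C] (hC : topologicalKrullDim C = 1) (hg : Curv2.genus k C = 2)
    (i : C ⟶ CohB1.ProjSpace 4 k) [IsClosedImmersion i] (hi : i ≫ CohB1.ProjSpace.toSpec 4 k = C ↘ Spec (CommRingCat.of k))
    (hdeg : Curv2.deg k C ((Scheme.Modules.pullback i).obj (Twist.twistProjSpace 4 k 1)) 1 = 5) :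
    ∃ (l : LefPen.Form 4 k 1) (q : LefPen.Form 4 k 2), l ≠ 0 ∧ q.1 ∉ Ideal.span {l.1} ∧
      ∃ j : C ⟶ (LefPen.hypIdeal l ⊔ LefPen.hypIdeal q).subscheme,
        j ≫ (LefPen.hypIdeal l ⊔ LefPen.hypIdeal q).subschemeι = i := by
  haveI := isNoetherian_of_proper k (X := C)
  let P1 := (Scheme.Modules.pullback i).obj (Twist.twistProjSpace 4 k ((1 : ℕ) : ℤ))
  let P2 := (Scheme.Modules.pullback i).obj (Twist.twistProjSpace 4 k ((2 : ℕ) : ℤ))
  have hP1 : PicF.IsInvertible P1 := PicLoc.isInvertible_pullback i (CI14.isInvertible_twist' _)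
  have hP2 : PicF.IsInvertible P2 := PicLoc.isInvertible_pullback i (CI14.isInvertible_twist' _)
  have h0 := CurveRR24.h0_structure k (X := C)
  have hO : Curv2.euler k C (Coh.structureModule C) = -1 := by
    rw [euler_eq_h0_sub_h1 k hC.le _ (isCoh_structureModule C).1, h0]
    have hg' : Module.finrank k (Coh.HH C (Coh.structureModule C) 1) = 2 := hg
    rw [hg']; norm_num
  have hd1 : Curv2.deg k C P1 1 = 5 := hdeg
  have hd2 : Curv2.deg k C P2 1 = 10 := by
    obtain ⟨e⟩ : Nonempty (P2 ≅ CohB1.tensorMod P1 P1) :=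
      nonempty_pullback_twist i ((1 : ℕ) : ℤ) ((1 : ℕ) : ℤ) ((2 : ℕ) : ℤ) (by norm_num)
    have h := deg_tensor k hC.le hP1 hP1
    simp only [Curv2.deg, euler_congr k C e] at h hd1 ⊢
    omega
  have hh : ∀ (L : C.Modules), PicF.IsInvertible L → 2 < Curv2.deg k C L 1 →
      (Module.finrank k (Coh.HH C L 0) : ℤ) = Curv2.deg k C L 1 - 1 := by
    intro L hL hlt
    haveI := subsingleton_h1_of_deg k hC.le h0 hL (by rw [hg]; omega)
    have h := euler_eq_h0_sub_h1 k hC.le L (CurveRR24.isCoh_of_isInvertible k hL).1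
    simp [Curv2.deg, hO, Module.finrank_zero_of_subsingleton (R := k) (M := Coh.HH C L 1)] at h hlt ⊢
    omega
  have e1 : Module.finrank k (Coh.HH C P1 0) = 4 := by
    have := hh P1 hP1 (by omega); omega
  have e2 : Module.finrank k (Coh.HH C P2 0) = 9 := by
    have := hh P2 hP2 (by omega); omega
  obtain ⟨V1, hV1, hn1⟩ := exists_forms_le_ker (d := 1) i hi
  obtain ⟨V2, hV2, hn2⟩ := exists_forms_le_ker (d := 2) i hi
  have hV1' : 0 < Module.finrank k V1 := by
    have hn1' : Nat.choose (4 + 1) 4 ≤ Module.finrank k V1 + Module.finrank k (Coh.HH C P1 0) := hn1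
    rw [e1] at hn1'; norm_num [Nat.choose] at hn1' ⊢; omega
  have hV2' : 6 ≤ Module.finrank k V2 := by
    have hn2' : Nat.choose (4 + 2) 4 ≤ Module.finrank k V2 + Module.finrank k (Coh.HH C P2 0) := hn2
    rw [e2] at hn2'; norm_num [Nat.choose] at hn2' ⊢; omega
  obtain ⟨l, hlV, hl⟩ := Submodule.exists_mem_ne_zero_of_ne_bot
    (p := V1) (fun h => by rw [h, finrank_bot] at hV1'; omega)
  let mulL : LefPen.Form 4 k 1 →ₗ[k] LefPen.Form 4 k 2 :=
    { toFun := fun a => ⟨a.1 * l.1, SetLike.mul_mem_graded a.2 l.2⟩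
      map_add' := fun a b => Subtype.ext (add_mul a.1 b.1 l.1)
      map_smul' := fun c a => Subtype.ext (smul_mul_assoc c a.1 l.1) }
  haveI : Module.Finite k (LefPen.Form 4 k 1) :=
    FiniteDimensional.of_finrank_pos (by rw [GrLib.finrank_homogeneous]; norm_num [Nat.choose])
  haveI : Module.Finite k (LefPen.Form 4 k 2) :=
    FiniteDimensional.of_finrank_pos (by rw [GrLib.finrank_homogeneous]; norm_num [Nat.choose])
  obtain ⟨q, hqV, hq⟩ : ∃ q ∈ V2, q ∉ LinearMap.range mulL := by
    by_contra hcon
    push Not at hcon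
    have h := Submodule.finrank_mono (show V2 ≤ LinearMap.range mulL from hcon)
    have h' : Module.finrank k (LinearMap.range mulL) ≤ Module.finrank k (LefPen.Form 4 k 1) :=
      LinearMap.finrank_range_le mulL
    have h'' : Module.finrank k (LefPen.Form 4 k 1) = 5 := by
      rw [GrLib.finrank_homogeneous]; norm_num [Nat.choose]
    omega
  refine ⟨l, q, hl, fun hmem => hq ?_,
    i.toImage ≫ Scheme.IdealSheafData.inclusion (sup_le (hV1 l hlV) (hV2 q hqV)), ?_⟩
  · obtain ⟨a, ha⟩ := Ideal.mem_span_singleton'.1 hmem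
    have hl' : l.1 ≠ 0 := fun h => hl (Subtype.ext h)
    have h : (l.1 * a).IsHomogeneous 2 := by rw [mul_comm, ha]; exact q.2
    exact ⟨⟨a, HopfLib.isHomogeneous_of_mul l.2 hl' (by norm_num) h⟩, Subtype.ext ha⟩
  · rw [Category.assoc, Scheme.IdealSheafData.inclusion_subschemeι]
    exact i.toImage_imageι

end Groth.Agent.S16534
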