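import Groth.Statements.S16535
import Groth.Agent.DispLib.Psi

set_option autoImplicit false
universe u v
open Disp

namespace Groth.Agent.S16535

/-- Let p be a prime and R a commutative ring in which p is nilpotent (in particular every prime number
other than p is a unit in R); write W = W(R) for the ring of p-typical Witt vectors with Frobenius
σ, and let (P, Q, F, V⁻¹) be a 3n-display over R. Then there is exactly one W-linear map V# : P → W
⊗_{σ,W} P with V#(w·F x) = p·(w ⊗ x) for all w ∈ W, x ∈ P and V#(w·V⁻¹ y) = w ⊗ y for all w ∈ W, y ∈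
Q. (The published statement is made for every ring in which the primes other than p are units. Over
the rationals the ghost map identifies W(ℚ) with ℚ^ℕ and σ with the shift; for the idempotent e =
(1,0,0,…) the module (1−e)W with Q = (1−e)W, F(x) = p·σ(x)(1−e) and V⁻¹(x) = σ(x)(1−e) is a
3n-display, and a W-linear V# would have to send 1−e to 1 ⊗ (1−e), which corresponds to 1 under W
⊗_{σ,W} (1−e)W ≅ W, while e·(1−e) = 0 — impossible. The published proof compares ranks of P and W
⊗_{σ,W} P, which agree when σ fixes the idempotents of W(R); this holds when p is nilpotent in R,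
the case of displays, which is the hypothesis taken here.) -/
theorem result (p : ℕ) [Fact p.Prime] (R : Type u) [CommRing R]
    (hR : ∀ ℓ : ℕ, ℓ.Prime → ℓ ≠ p → IsUnit (ℓ : R)) (hp : IsNilpotent (p : R))
    (P : Type v) [AddCommGroup P] [Module (WittVector p R) P] (D : W4c1extbt610.Display3n p R P) :
    ∃! Vs : P →ₗ[WittVector p R] Dieu.BC (WittVector.frobenius : WittVector p R →+* WittVector p R) P,
      Dieu.IsVSharp D Vs := by
  obtain ⟨L, T, hLT, hQ⟩ := D.exists_normal
  have hLQ : L ≤ D.Q := hQ ▸ le_sup_left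
  haveI := D.finite
  haveI := D.projective
  let σ : WittVector p R →+* WittVector p R := WittVector.frobenius
  have hbij := DispLib.lift_bijective_of_surjective hp _ (DispLib.lift_psi_surjective D hLT hQ hLQ)
  let e := LinearEquiv.ofBijective _ hbij
  let Θ : Dieu.BC σ P →ₗ[WittVector p R] Dieu.BC σ P :=
    Dieu.BC.map σ (DispLib.πL hLT + (p : WittVector p R) • (LinearMap.id - DispLib.πL hLT))
  let Vs : P →ₗ[WittVector p R] Dieu.BC σ P := Θ.comp e.symm.toLinearMap
  have he : ∀ (w : WittVector p R) (x : P),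
      e.symm (w • DispLib.psi D hLT hLQ x) = Dieu.BC.tmul σ w x := by
    intro w x
    rw [LinearEquiv.symm_apply_eq]
    exact (Dieu.BC.lift_tmul _ _ w x).symm
  have hVinv : ∀ y : D.Q, Vs (D.Vinv y) = Dieu.BC.tmul σ 1 (y : P) := by
    intro y
    refine (DispLib.Q_induction D hQ (motive := fun z => ∀ hz : z ∈ D.Q,
      Vs (D.Vinv ⟨z, hz⟩) = Dieu.BC.tmul σ 1 z) (fun l hl hz => ?_) (fun w t ht hz => ?_)
      (fun a b ha hb iha ihb hz => ?_) y) y.2
    · rw [← DispLib.psi_L D hLT hLQ hl, ← one_smul (WittVector p R) (DispLib.psi D hLT hLQ l)]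
      show Θ (e.symm _) = _
      rw [he]
      simp only [Θ, Dieu.BC.map_tmul, LinearMap.add_apply, LinearMap.smul_apply, LinearMap.sub_apply,
        LinearMap.id_apply, DispLib.πL_of_mem hLT hl, sub_self, smul_zero, add_zero]
    · rw [DispLib.Vinv_congr D (y' := ⟨WittVector.verschiebung w • t,
        DispLib.verschiebung_smul_mem D w t⟩) rfl, D.Vinv_verschiebung_smul,
        ← DispLib.psi_T D hLT hLQ ht]
      show Θ (e.symm _) = _
      rw [he]
      simp only [Θ, Dieu.BC.map_tmul, LinearMap.add_apply, LinearMap.smul_apply, LinearMap.sub_apply,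
        LinearMap.id_apply, DispLib.πL_of_mem' hLT ht, sub_zero, zero_add]
      rw [← Dieu.BC.tmul_mul_apply, ← Dieu.BC.tmul_mul_apply, one_mul]
      simp only [σ, map_natCast, WittVector.frobenius_verschiebung]
    · rw [show (⟨a + b, hz⟩ : D.Q) = ⟨a, ha⟩ + ⟨b, hb⟩ from rfl, map_add, map_add, iha ha, ihb hb,
        Dieu.BC.tmul_add]
  refine ⟨Vs, ⟨fun w x => ?_, fun w y => ?_⟩, fun Vs' hVs' => DispLib.ext_of_Vinv D fun y => ?_⟩
  · rw [map_smul, DispLib.F_eq_Vinv, hVinv, ← Dieu.BC.tmul_apply_eq, Dieu.BC.smul_tmul,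
      Dieu.BC.smul_tmul, mul_comm]
    simp only [σ, DispLib.frobenius_verschiebung_one]
  · rw [map_smul, hVinv, Dieu.BC.smul_tmul, mul_one]
  · have := hVs'.app_smul_Vinv 1 y
    rw [one_smul] at this
    rw [this, hVinv]

end Groth.Agent.S16535
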