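import Groth.Statements.S16539
import Groth.Agent.DispLib.DieuSplit

set_option autoImplicit false
universe u v
open Disp

namespace Groth.Agent.S16539
open W4c1extbt610 Groth.Agent.DispLib

theorem frobenius_pow_surjective {p : ℕ} [Fact p.Prime] {k : Type u} [CommRing k] [CharP k p] [PerfectRing k p] :
    ∀ n : ℕ, Function.Surjective
      ((WittVector.frobenius : WittVector p k →+* WittVector p k) ^ n : WittVector p k →+* WittVector p k)
  | 0 => fun x => ⟨x, rfl⟩
  | n + 1 => by
    rw [pow_succ']
    exact (WittVector.frobeniusEquiv p k).surjective.comp (frobenius_pow_surjective n)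

theorem frobenius_pow_injective {p : ℕ} [Fact p.Prime] {k : Type u} [CommRing k] [CharP k p] [PerfectRing k p] :
    ∀ n : ℕ, Function.Injective
      ((WittVector.frobenius : WittVector p k →+* WittVector p k) ^ n : WittVector p k →+* WittVector p k)
  | 0 => fun x y h => h
  | n + 1 => by
    rw [pow_succ']
    exact (WittVector.frobeniusEquiv p k).injective.comp (frobenius_pow_injective n)

theorem pow_eq {p : ℕ} [Fact p.Prime] {k : Type u} [CommRing k] [CharP k p] [PerfectRing k p]
    {M : Type v} [AddCommGroup M] [Module (WittVector p k) M]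
    {Vs : M →ₗ[WittVector p k] Dieu.BC (WittVector.frobenius : WittVector p k →+* WittVector p k) M}
    {V : M → M}
    (h : ∀ x, Vs x = Dieu.BC.tmul (WittVector.frobenius : WittVector p k →+* WittVector p k) 1 (V x)) :
    ∀ (n : ℕ) (x : M), Dieu.vSharpPow Vs n x =
      Dieu.BC.tmul ((WittVector.frobenius : WittVector p k →+* WittVector p k) ^ (n + 1)) 1 (V^[n + 1] x)
  | 0, x => by rw [Dieu.vSharpPow_zero_apply, h, Dieu.BC.castHom_tmul]; rfl
  | n + 1, x => by
    rw [Dieu.vSharpPow_succ_apply, h, Dieu.BC.map_tmul, Dieu.BC.lift_tmul, one_smul, pow_eq h n (V x),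
      Dieu.BC.push_tmul, map_one, Dieu.BC.castHom_tmul, Function.iterate_succ_apply V (n + 1) x]


/-- Let p be a prime, k a perfect commutative ring of characteristic p, W = W(k) with Frobenius
automorphism σ, and M a finitely generated projective W-module carrying a Dieudonné module
structure, a σ-semilinear F and a σ⁻¹-semilinear V with FV = VF = p. Let D be the associated
3n-display (M, VM, F, V⁻¹): the 3n-display structure on M whose submodule is the image of V, whose
Frobenius operator is F and whose inverse operator sends V m to m. Then D is a display, i.e. its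
operator V# satisfies the nilpotence condition, if and only if V is topologically nilpotent for the
p-adic topology on M: for every e some power of V maps M into p^e M. -/
theorem result (p : ℕ) [Fact p.Prime] (k : Type u) [CommRing k]
    [CharP k p] [PerfectRing k p]
    (M : Type v) [AddCommGroup M] [Module (WittVector p k) M] [Module.Finite (WittVector p k) M]
    [Module.Projective (WittVector p k) M] (Dm : Dieu.DieuMod p k M) (D : W4c1extbt610.Display3n p k M)
    (hF : D.F = Dm.F) (hQ : ∀ x : M, x ∈ D.Q ↔ x ∈ Set.range Dm.V)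
    (hV : ∀ (m : M) (h : Dm.V m ∈ D.Q), D.Vinv ⟨Dm.V m, h⟩ = m) :
    Dieu.IsDisplay D ↔ Dm.VTopNilp := by
  have hQ' : ∀ m, Dm.V m ∈ D.Q := fun m => (hQ _).2 ⟨m, rfl⟩
  have hJ : IV p k ⊔ Ideal.span {(p : WittVector p k)} = Ideal.span {(p : WittVector p k)} := by
    rw [IV_eq_span_p, sup_idem]
  have hpV : ∀ z : M, Dm.V ((p : WittVector p k) • z) = (p : WittVector p k) • Dm.V z := fun z => by
    rw [LinearMap.map_smulₛₗ, map_natCast]
  refine ⟨fun ⟨Vs, hVs, N, hN⟩ => ?_, fun h => ?_⟩
  · have hs : ∀ x, Vs x = Dieu.BC.tmul _ 1 (Dm.V x) := fun x => by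
      have := hVs.app_smul_Vinv 1 ⟨Dm.V x, hQ' x⟩
      rwa [one_smul, hV] at this
    have h1 : ∀ x, ∃ z, Dm.V^[N + 1] x = (p : WittVector p k) • z := by
      intro x
      have h2 := hN x
      rw [hJ, mem_span_smul_top, pow_eq hs] at h2
      obtain ⟨w, hw⟩ := h2
      obtain ⟨z, rfl⟩ := ι_surjective _ (frobenius_pow_surjective (p := p) (k := k) (N + 1)) w
      refine ⟨z, ?_⟩
      have h3 : Dieu.BC.tmul ((WittVector.frobenius : WittVector p k →+* WittVector p k) ^ (N + 1)) 1
          (Dm.V^[N + 1] x - (p : WittVector p k) • z) = 0 := by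
        rw [← Dieu.BC.ι_apply, map_sub, LinearMap.map_smulₛₗ, map_natCast, hw, sub_eq_zero]
        rfl
      rw [ι_eq_zero_iff _ (frobenius_pow_surjective (N + 1)),
        (RingHom.injective_iff_ker_eq_bot _).1 (frobenius_pow_injective (N + 1)), Submodule.bot_smul,
        Submodule.mem_bot, sub_eq_zero] at h3
      exact h3
    intro e
    refine ⟨(N + 1) * e, ?_⟩
    induction e with
    | zero => intro m; simp
    | succ e ih =>
      intro m
      rw [Nat.mul_succ, Function.iterate_add_apply]
      obtain ⟨z, hz⟩ := h1 m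
      have hit : ∀ (j : ℕ), Dm.V^[j] ((p : WittVector p k) • z) = (p : WittVector p k) • Dm.V^[j] z := by
        intro j
        induction j with
        | zero => rfl
        | succ j ihj => rw [Function.iterate_succ_apply', Function.iterate_succ_apply', ihj, hpV]
      rw [hz, hit, pow_succ', ← Ideal.smul_eq_mul, Submodule.smul_assoc]
      exact Submodule.smul_mem_smul (Ideal.mem_span_singleton_self _) (ih z)
  · let Vs : M →ₗ[WittVector p k] Dieu.BC (WittVector.frobenius : WittVector p k →+* WittVector p k) M :=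
      { toFun := fun x => Dieu.BC.tmul _ 1 (Dm.V x)
        map_add' := fun a b => by rw [map_add, Dieu.BC.tmul_add]
        map_smul' := fun c x => by
          rw [LinearMap.map_smulₛₗ, ← Dieu.BC.tmul_apply_eq, frobenius_symm, RingHom.id_apply,
            Dieu.BC.smul_tmul, mul_one] }
    refine ⟨Vs, ⟨fun w x => ?_, fun w y => ?_⟩, ?_⟩
    · rw [map_smul]
      show w • Dieu.BC.tmul _ 1 (Dm.V (D.F x)) = _
      rw [hF, Dm.V_F, ← Dieu.BC.tmul_apply_eq, map_natCast, Dieu.BC.smul_tmul, Dieu.BC.smul_tmul, mul_comm]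
    · obtain ⟨y, hy⟩ := y
      obtain ⟨m, rfl⟩ := (hQ y).1 hy
      rw [hV, map_smul]
      show w • Dieu.BC.tmul _ 1 (Dm.V m) = _
      rw [Dieu.BC.smul_tmul, mul_one]
    · obtain ⟨n, hn⟩ := h 1
      refine ⟨n, fun x => ?_⟩
      have := hn (Dm.V x)
      rw [pow_one, mem_span_smul_top] at this
      obtain ⟨z, hz⟩ := this
      rw [hJ, pow_eq (Vs := Vs) (fun _ => rfl), Function.iterate_succ_apply, ← hz, ← Dieu.BC.tmul_apply_eq,
        map_natCast, mem_span_smul_top]
      exact ⟨Dieu.BC.tmul _ 1 z, by rw [Dieu.BC.smul_tmul, mul_one]⟩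

end Groth.Agent.S16539
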