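import Groth.Statements.S16541
import Mathlib
import Groth.Prelude

set_option linter.all false

set_option autoImplicit false
universe u v
open CAlg

open TensorProduct

namespace Groth.Agent.S16541

theorem equalizer_coeff' {S R : Type u} [CommRing S] [CommRing R] [Algebra S R] [Module.FaithfullyFlat S R]
    {y : R} (h : y ⊗ₜ[S] (1 : R) = (1 : R) ⊗ₜ[S] y) : ∃ r, algebraMap S R r = y :=
  (Algebra.IsEffective.of_faithfullyFlat S R y).mp (by
    rw [Algebra.TensorProduct.includeLeftSubRight_apply, h, sub_self])

theorem castHom_tmul {A B M : Type*} [CommRing A] [CommRing B] [AddCommGroup M] [Module A M]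
    {g g' : A →+* B} (e : g = g') (b : B) (x : M) :
    Dieu.BC.castHom e (Dieu.BC.tmul g b x) = Dieu.BC.tmul g' b x := by
  subst e; rfl

theorem flat_equalizer {A B C : Type u} [CommRing A] [CommRing B] [CommRing C] (g : A →+* B)
    (h₁ h₂ : B →+* C) (e : h₁.comp g = h₂.comp g) (hg : Function.Injective g)
    (hex : ∀ b, h₁ b = h₂ b → b ∈ Set.range g)
    (M : Type v) [AddCommGroup M] [Module A M] [Module.Flat A M] :
    Function.Injective (Dieu.BC.ι g M) ∧
      ∀ z : Dieu.BC g M, (Dieu.BC.castHom e (Dieu.BC.push g h₁ z) = Dieu.BC.push g h₂ z ↔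
        z ∈ Set.range (Dieu.BC.ι g M)) := by
  let f : A →ₗ[A] Dieu.Res g :=
    { toFun := fun a => Dieu.Res.mk g (g a)
      map_add' := fun a b => by rw [map_add]; rfl
      map_smul' := fun a b => Dieu.Res.ext (g := g) (by simp [smul_eq_mul, map_mul]) }
  let d : Dieu.Res g →ₗ[A] Dieu.Res (h₂.comp g) :=
    { toFun := fun b => Dieu.Res.mk (h₂.comp g) (h₁ b.val - h₂ b.val)
      map_add' := fun a b => Dieu.Res.ext (g := h₂.comp g) (by simp; ring)
      map_smul' := fun a b => Dieu.Res.ext (g := h₂.comp g) (by
        have he : h₁ (g a) = h₂ (g a) := RingHom.congr_fun e a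
        simp [map_mul, mul_sub, he]) }
  have hf : Function.Exact f d := by
    intro b
    constructor
    · intro hb
      obtain ⟨a, ha⟩ := hex b.val (sub_eq_zero.mp hb)
      exact ⟨a, ha⟩
    · rintro ⟨a, rfl⟩
      exact sub_eq_zero.mpr (RingHom.congr_fun e a)
  have hι : (Dieu.BC.ι g M : M → Dieu.BC g M) = f.rTensor M ∘ (TensorProduct.lid A M).symm := by
    funext m
    show Dieu.BC.tmul g 1 m = _
    simp only [Function.comp_apply, TensorProduct.lid_symm_apply, LinearMap.rTensor_tmul]
    show _ = (Dieu.Res.mk g (g 1)) ⊗ₜ[A] m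
    rw [map_one]
    rfl
  have hd : ∀ z : Dieu.BC g M, (d.rTensor M z : Dieu.BC (h₂.comp g) M) =
      Dieu.BC.castHom e (Dieu.BC.push g h₁ z) - Dieu.BC.push g h₂ z := by
    intro z
    induction z using Dieu.BC.induction_on with
    | zero => rw [map_zero, map_zero, map_zero, sub_zero]; exact map_zero (d.rTensor M)
    | tmul b x =>
      have h3 : Dieu.BC.tmul (h₂.comp g) (h₁ b) x = Dieu.BC.tmul (h₂.comp g) (h₁ b - h₂ b) x +
          Dieu.BC.tmul (h₂.comp g) (h₂ b) x := by rw [← Dieu.BC.add_tmul, sub_add_cancel]
      rw [Dieu.BC.push_tmul, Dieu.BC.push_tmul, castHom_tmul, h3, add_sub_cancel_right]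
      rfl
    | add a b ha hb =>
      rw [map_add, map_add, map_add, add_sub_add_comm, ← ha, ← hb]
      exact map_add (d.rTensor M) a b
  refine ⟨hι ▸ (Module.Flat.rTensor_preserves_injective_linearMap f
    (fun a b hab => hg hab)).comp (LinearEquiv.injective _), fun z => ?_⟩
  rw [← sub_eq_zero, ← hd, hι]
  refine (Module.Flat.rTensor_exact M hf z).trans ⟨fun ⟨w, hw⟩ =>
    ⟨TensorProduct.lid A M w, by rw [Function.comp_apply, LinearEquiv.symm_apply_apply]; exact hw⟩,
    fun ⟨m, hm⟩ => ⟨_, hm⟩⟩

/-- Let p be a prime, S → R a faithfully flat homomorphism of commutative rings and M a flat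
W(S)-module; write ι₁, ι₂ : R → R ⊗_S R for the two coprojections, M_R = W(R) ⊗_{W(S)} M and M_{R ⊗
R} = W(R ⊗_S R) ⊗_{W(S)} M for the scalar extensions along W(S) → W(R) and W(S) → W(R ⊗_S R). Then 0
→ M → M_R ⇉ M_{R ⊗ R} is exact: the map x ↦ 1 ⊗ x from M to M_R is injective, and an element of M_R
has the same image under the two maps w ⊗ x ↦ W(ι₁)(w) ⊗ x and w ⊗ x ↦ W(ι₂)(w) ⊗ x exactly when it
is of the form 1 ⊗ x. The hypothesis e records that the two composite ring maps W(S) → W(R) → W(R
⊗_S R) agree (both coprojections are S-algebra maps); it serves to identify the two targets. -/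
theorem result (p : ℕ) [Fact p.Prime]
    (S R : Type u) [CommRing S] [CommRing R] [Algebra S R] [Module.FaithfullyFlat S R]
    (M : Type v) [AddCommGroup M] [Module (WittVector p S) M] [Module.Flat (WittVector p S) M]
    (e : (WittVector.map (Algebra.TensorProduct.includeLeftRingHom : R →+* TensorProduct S R R) : WittVector p R →+* WittVector p (TensorProduct S R R)).comp (WittVector.map (algebraMap S R) : WittVector p S →+* WittVector p R) = (WittVector.map ((Algebra.TensorProduct.includeRight : R →ₐ[S] TensorProduct S R R) : R →+* TensorProduct S R R) : WittVector p R →+* WittVector p (TensorProduct S R R)).comp (WittVector.map (algebraMap S R) : WittVector p S →+* WittVector p R)) :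
    Function.Injective (Dieu.BC.ι (WittVector.map (algebraMap S R) : WittVector p S →+* WittVector p R) M) ∧
      ∀ z : Dieu.BC (WittVector.map (algebraMap S R) : WittVector p S →+* WittVector p R) M,
        (Dieu.BC.castHom e (Dieu.BC.push (WittVector.map (algebraMap S R) : WittVector p S →+* WittVector p R) (WittVector.map (Algebra.TensorProduct.includeLeftRingHom : R →+* TensorProduct S R R) : WittVector p R →+* WittVector p (TensorProduct S R R)) z) = Dieu.BC.push (WittVector.map (algebraMap S R) : WittVector p S →+* WittVector p R) (WittVector.map ((Algebra.TensorProduct.includeRight : R →ₐ[S] TensorProduct S R R) : R →+* TensorProduct S R R) : WittVector p R →+* WittVector p (TensorProduct S R R)) z ↔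
          z ∈ Set.range (Dieu.BC.ι (WittVector.map (algebraMap S R) : WittVector p S →+* WittVector p R) M)) := by
  refine flat_equalizer _ _ _ e ?_ ?_ M
  · exact WittVector.map_injective _ (FaithfulSMul.algebraMap_injective S R)
  · intro y hy
    have h' := fun n => congrArg (fun z => WittVector.coeff z n) hy
    simp only [WittVector.map_coeff] at h'
    choose r hr using fun n => equalizer_coeff' (S := S) (y := y.coeff n) (h' n)
    exact ⟨WittVector.mk p r, WittVector.ext fun n => by rw [WittVector.map_coeff, WittVector.coeff_mk, hr]⟩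

end Groth.Agent.S16541
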