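import Groth.Statements.S16542
import Groth.Agent.DispLib.Basic
import Mathlib.RingTheory.Flat.FaithfullyFlat.Basic
import Mathlib.RingTheory.Flat.FaithfullyFlat.Algebra

set_option autoImplicit false
universe u v
open Disp

namespace Groth.Agent.S16542

open scoped TensorProduct


/-- Let p be a prime, S → R a faithfully flat homomorphism of commutative rings with p nilpotent in S,
(P, Q, F, V⁻¹) a display over S, and (P_R, Q_R, F_R, V_R⁻¹) a 3n-display structure on P_R = W(R)
⊗_{W(S)} P which is its base change along S → R (Q_R the kernel of P_R → R ⊗_S (P/Q), F_R(w ⊗ x) =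
σ(w) ⊗ F x, V_R⁻¹(w ⊗ y) = σ(w) ⊗ V⁻¹ y for y ∈ Q, V_R⁻¹(V(w) ⊗ x) = w ⊗ F x). Then for x ∈ P one
has x ∈ Q if and only if 1 ⊗ x ∈ Q_R: together with the exactness of 0 → P → P_R ⇉ P_{R ⊗ R} this is
the exactness of 0 → Q → Q_R ⇉ Q_{R ⊗ R} at Q. -/
theorem result (p : ℕ) [Fact p.Prime]
    (S R : Type u) [CommRing S] [CommRing R] [Algebra S R] [Module.FaithfullyFlat S R] (hp : IsNilpotent (p : S))
    (P : Type v) [AddCommGroup P] [Module (WittVector p S) P] (D : W4c1extbt610.Display3n p S P)
    (hD : Dieu.IsDisplay D)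
    (DR : W4c1extbt610.Display3n p R (Dieu.BC (WittVector.map (algebraMap S R) : WittVector p S →+* WittVector p R) P))
    (hDR : Dieu.IsDispBaseChange (algebraMap S R) D DR) (x : P) :
    x ∈ D.Q ↔ Dieu.BC.ι (WittVector.map (algebraMap S R) : WittVector p S →+* WittVector p R) P x ∈ DR.Q := by
  letI q : Submodule (WittVector p S) P := D.Q
  let M := P ⧸ D.Q
  have hker : RingHom.ker (WittVector.constantCoeff : WittVector p S →+* S) ≤
      RingHom.ker (Module.toAddMonoidEnd (WittVector p S) M) := by
    intro w hw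
    rw [← DispLib.IV_eq_ker] at hw
    refine AddMonoidHom.ext fun m => ?_
    obtain ⟨x, rfl⟩ := Submodule.Quotient.mk_surjective _ m
    show w • (Submodule.Quotient.mk x : M) = 0
    rw [← Submodule.Quotient.mk_smul, Submodule.Quotient.mk_eq_zero]
    exact D.IV_smul_le (Submodule.smul_mem_smul hw Submodule.mem_top)
  have hsurj : Function.Surjective (WittVector.constantCoeff : WittVector p S →+* S) := fun s =>
    ⟨WittVector.teichmuller p s, WittVector.teichmuller_coeff_zero p s⟩
  let φ : S →+* AddMonoid.End M :=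
    RingHom.liftOfSurjective (WittVector.constantCoeff : WittVector p S →+* S) hsurj
      ⟨Module.toAddMonoidEnd (WittVector p S) M, hker⟩
  letI : Module S M := Module.compHom M φ
  have hsmul : ∀ (w : WittVector p S) (m : M),
      (WittVector.constantCoeff w : S) • m = w • m := fun w m => by
    show φ (WittVector.constantCoeff w) m = w • m
    simp only [φ, RingHom.liftOfRightInverse_comp_apply]
    rfl
  rw [hDR.Q_eq, LinearMap.mem_ker, Dieu.BC.ι_apply, Dieu.bcQuotMap_tmul, map_one,
    ← Submodule.Quotient.mk_eq_zero D.Q]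
  refine ⟨fun h => by rw [Submodule.mkQ_apply, h, Dieu.BC.tmul_zero], fun h => ?_⟩
  let ψ : M →ₛₗ[((WittVector.constantCoeff : WittVector p R →+* R).comp
      (WittVector.map (algebraMap S R) : WittVector p S →+* WittVector p R))] R ⊗[S] M :=
    { toFun := fun m => (1 : R) ⊗ₜ[S] m
      map_add' := fun a b => TensorProduct.tmul_add _ _ _
      map_smul' := fun w m => by
        show (1 : R) ⊗ₜ[S] (w • m) = ((WittVector.map (algebraMap S R) w).coeff 0) • ((1 : R) ⊗ₜ[S] m)
        rw [← hsmul w m, ← TensorProduct.smul_tmul, TensorProduct.smul_tmul', smul_eq_mul, mul_one,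
          WittVector.map_coeff, Algebra.smul_def, mul_one]
        rfl }
  have h1 := congrArg (Dieu.BC.lift _ ψ) h
  rw [Dieu.BC.lift_tmul, one_smul, map_zero] at h1
  refine Module.FaithfullyFlat.tensorProduct_mk_injective (A := S) (B := R) M ?_
  show (1 : R) ⊗ₜ[S] (D.Q.mkQ x) = (1 : R) ⊗ₜ[S] (0 : M)
  rw [TensorProduct.tmul_zero]
  exact h1

end Groth.Agent.S16542
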