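import Groth.Statements.S16543
import Groth.Agent.DispLib.Rigid

set_option autoImplicit false
universe u v
open Disp

namespace Groth.Agent.S16543
open Groth.Agent.DispLib in

/-- Let p be a prime, S a commutative ring in which p is nilpotent, f : S → R a surjective homomorphism
of commutative rings whose kernel is a nilpotent ideal, and (P, Q, F, V⁻¹), (P', Q', F', V'⁻¹) two
displays over S, i.e. 3n-displays whose operators V# satisfy the nilpotence condition. Let (P_R,
Q_R, F_R, V_R⁻¹) and (P'_R, Q'_R, F'_R, V'_R⁻¹) be their base changes along f, the 3n-display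
structures on W(R) ⊗_{W(S)} P and W(R) ⊗_{W(S)} P' characterised by Q_R = ker(P_R → R ⊗_S P/Q),
F_R(w ⊗ x) = σ(w) ⊗ F x, V_R⁻¹(w ⊗ y) = σ(w) ⊗ V⁻¹ y for y ∈ Q and V_R⁻¹(V(w) ⊗ x) = w ⊗ F x (and
likewise for P'). Then the natural map ψ ↦ id ⊗ ψ from homomorphisms of 3n-displays P → P' to
homomorphisms P_R → P'_R is injective, and its cokernel is a p-torsion group: for every homomorphism
χ of the base-changed 3n-displays there are n and a homomorphism ψ over S with id ⊗ ψ = p^n·χ. -/
theorem result (p : ℕ) [Fact p.Prime]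
    (S R : Type u) [CommRing S] [CommRing R] (hp : IsNilpotent (p : S))
    (f : S →+* R) (hf : Function.Surjective f) (hker : IsNilpotent (RingHom.ker f))
    (P P' : Type v) [AddCommGroup P] [Module (WittVector p S) P] [AddCommGroup P'] [Module (WittVector p S) P']
    (D : W4c1extbt610.Display3n p S P) (D' : W4c1extbt610.Display3n p S P')
    (hD : Dieu.IsDisplay D) (hD' : Dieu.IsDisplay D')
    (DR : W4c1extbt610.Display3n p R (Dieu.BC (WittVector.map f : WittVector p S →+* WittVector p R) P)) (hDR : Dieu.IsDispBaseChange f D DR)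
    (DR' : W4c1extbt610.Display3n p R (Dieu.BC (WittVector.map f : WittVector p S →+* WittVector p R) P')) (hDR' : Dieu.IsDispBaseChange f D' DR') :
    (∀ ψ χ : P →ₗ[WittVector p S] P', W4c1extbt610.IsHom D D' ψ → W4c1extbt610.IsHom D D' χ →
        Dieu.BC.map (WittVector.map f : WittVector p S →+* WittVector p R) ψ = Dieu.BC.map (WittVector.map f : WittVector p S →+* WittVector p R) χ → ψ = χ) ∧
      ∀ χ : Dieu.BC (WittVector.map f : WittVector p S →+* WittVector p R) P →ₗ[WittVector p R] Dieu.BC (WittVector.map f : WittVector p S →+* WittVector p R) P', W4c1extbt610.IsHom DR DR' χ →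
        ∃ (n : ℕ) (ψ : P →ₗ[WittVector p S] P'), W4c1extbt610.IsHom D D' ψ ∧
          Dieu.BC.map (WittVector.map f : WittVector p S →+* WittVector p R) ψ = ((p : WittVector p R) ^ n) • χ := by
  have hg : Function.Surjective (WittVector.map f : WittVector p S →+* WittVector p R) := WittVector.map_surjective f hf
  have hker' : RingHom.ker (WittVector.map f : WittVector p S →+* WittVector p R) = WI p (RingHom.ker f) := ker_map_eq_WI f
  refine ⟨fun ψ χ hψ hχ h => ?_, fun χ hχ => ?_⟩
  · have h0 : ∀ x, (ψ - χ) x ∈ WI p (RingHom.ker f) • (⊤ : Submodule (WittVector p S) P') := by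
      intro x
      rw [← hker', ← ι_eq_zero_iff (WittVector.map f : WittVector p S →+* WittVector p R) hg, ← Dieu.BC.ι_apply, LinearMap.sub_apply, map_sub, sub_eq_zero,
        Dieu.BC.ι_apply, Dieu.BC.ι_apply]
      have hx := LinearMap.congr_fun h (Dieu.BC.tmul (WittVector.map f : WittVector p S →+* WittVector p R) 1 x)
      rwa [Dieu.BC.map_tmul, Dieu.BC.map_tmul] at hx
    refine sub_eq_zero.1 (rigidity hD hp hker (ψ - χ)
      (fun y => D'.Q.sub_mem (hψ.mapsTo _ y.2) (hχ.mapsTo _ y.2)) (fun y => ?_) h0)
    rw [LinearMap.sub_apply, hψ.comm_Vinv, hχ.comm_Vinv, ← map_sub]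
    exact Vinv_congr D' rfl
  · haveI := D.projective
    letI : Module (WittVector p S) (Dieu.BC (WittVector.map f : WittVector p S →+* WittVector p R) P') := Module.compHom _ (WittVector.map f : WittVector p S →+* WittVector p R)
    let ι' : P' →ₗ[WittVector p S] Dieu.BC (WittVector.map f : WittVector p S →+* WittVector p R) P' :=
      { toFun := Dieu.BC.ι (WittVector.map f : WittVector p S →+* WittVector p R) P'
        map_add' := map_add _
        map_smul' := fun a x => (Dieu.BC.ι (WittVector.map f : WittVector p S →+* WittVector p R) P').map_smulₛₗ a x }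
    let μ : P →ₗ[WittVector p S] Dieu.BC (WittVector.map f : WittVector p S →+* WittVector p R) P' :=
      { toFun := fun x => χ (Dieu.BC.ι (WittVector.map f : WittVector p S →+* WittVector p R) P x)
        map_add' := fun a b => by rw [map_add, map_add]
        map_smul' := fun a x => by
          show χ (Dieu.BC.ι (WittVector.map f : WittVector p S →+* WittVector p R) P (a • x)) = (WittVector.map f : WittVector p S →+* WittVector p R) a • χ (Dieu.BC.ι (WittVector.map f : WittVector p S →+* WittVector p R) P x)
          rw [LinearMap.map_smulₛₗ, map_smul] }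
    obtain ⟨ψ₀, hψ₀⟩ := Module.projective_lifting_property ι' μ (ι_surjective (WittVector.map f : WittVector p S →+* WittVector p R) hg)
    have hl : ∀ x, Dieu.BC.tmul (WittVector.map f : WittVector p S →+* WittVector p R) 1 (ψ₀ x) = χ (Dieu.BC.tmul (WittVector.map f : WittVector p S →+* WittVector p R) 1 x) := fun x =>
      LinearMap.congr_fun hψ₀ x
    have hzero : ∀ z ∈ WI p (RingHom.ker f) • (⊤ : Submodule (WittVector p S) P'),
        Dieu.BC.tmul (WittVector.map f : WittVector p S →+* WittVector p R) 1 z = 0 := fun z hz => (ι_eq_zero_iff (WittVector.map f : WittVector p S →+* WittVector p R) hg).2 (hker'.symm ▸ hz)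
    have hw0 : Function.Surjective (((WittVector.constantCoeff : WittVector p R →+* R)).comp (WittVector.map f : WittVector p S →+* WittVector p R)) := by
      intro r
      obtain ⟨s, rfl⟩ := hf r
      exact ⟨WittVector.teichmuller p s, by simp⟩
    have hmod : IsHomMod D D' (RingHom.ker f) ψ₀ := by
      refine ⟨fun x => ?_, fun y => ?_⟩
      · rw [← hker', ← ι_eq_zero_iff (WittVector.map f : WittVector p S →+* WittVector p R) hg, ← Dieu.BC.ι_apply, map_sub, sub_eq_zero,
          Dieu.BC.ι_apply, Dieu.BC.ι_apply, hl]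
        have e1 := hDR.F_tmul 1 x
        have e2 := hDR'.F_tmul 1 (ψ₀ x)
        rw [map_one] at e1 e2
        rw [← e1, hχ.comm_F, ← hl, e2]
      · have hy : Dieu.BC.tmul (WittVector.map f : WittVector p S →+* WittVector p R) 1 (y : P) ∈ DR.Q := by
          rw [hDR.Q_eq, LinearMap.mem_ker, Dieu.bcQuotMap_tmul]
          show Dieu.BC.tmul _ _ (Submodule.Quotient.mk (y : P)) = 0
          rw [(Submodule.Quotient.mk_eq_zero _).2 y.2, Dieu.BC.tmul_zero]
        have h1 := hχ.mapsTo _ hy
        rw [← hl, hDR'.Q_eq, LinearMap.mem_ker, Dieu.bcQuotMap_tmul, map_one,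
          ι_eq_zero_iff _ hw0] at h1
        have hle : RingHom.ker (((WittVector.constantCoeff : WittVector p R →+* R)).comp (WittVector.map f : WittVector p S →+* WittVector p R)) •
            (⊤ : Submodule (WittVector p S) (P' ⧸ D'.Q)) ≤
            (WI p (RingHom.ker f) • (⊤ : Submodule (WittVector p S) P')).map D'.Q.mkQ := by
          refine Submodule.smul_le.2 fun w hw m _ => ?_
          obtain ⟨m, rfl⟩ := Submodule.Quotient.mk_surjective _ m
          refine ⟨WittVector.teichmuller p (w.coeff 0) • m,
            Submodule.smul_mem_smul (teichmuller_mem_WI hw) Submodule.mem_top, ?_⟩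
          rw [Submodule.mkQ_apply, ← Submodule.Quotient.mk_smul, Submodule.Quotient.eq]
          have e : WittVector.teichmuller p (w.coeff 0) • m - w • m =
              -(WittVector.verschiebung (tl w) • m) := by
            rw [verschiebung_tl, sub_smul, neg_sub]
          rw [e]
          exact neg_mem (verschiebung_smul_mem D' _ m)
        obtain ⟨z, hz, hzy⟩ := hle h1
        rw [Submodule.mkQ_apply, Submodule.mkQ_apply, Submodule.Quotient.eq] at hzy
        have hqmem : ψ₀ (y : P) - z ∈ D'.Q := by
          have := D'.Q.neg_mem hzy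
          rwa [neg_sub] at this
        refine ⟨⟨ψ₀ (y : P) - z, hqmem⟩, by rwa [sub_sub_cancel], ?_⟩
        rw [← hker', ← ι_eq_zero_iff (WittVector.map f : WittVector p S →+* WittVector p R) hg, ← Dieu.BC.ι_apply, map_sub, sub_eq_zero,
          Dieu.BC.ι_apply, Dieu.BC.ι_apply, hl]
        have hq' : Dieu.BC.tmul (WittVector.map f : WittVector p S →+* WittVector p R) 1 (ψ₀ (y : P) - z) = χ (Dieu.BC.tmul (WittVector.map f : WittVector p S →+* WittVector p R) 1 (y : P)) := by
          rw [← Dieu.BC.ι_apply, map_sub, Dieu.BC.ι_apply, Dieu.BC.ι_apply, hzero z hz, sub_zero, hl]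
        have hq'' : Dieu.BC.tmul (WittVector.map f : WittVector p S →+* WittVector p R) 1 (ψ₀ (y : P) - z) ∈ DR'.Q := hq' ▸ hχ.mapsTo _ hy
        have e1 := hDR.Vinv_tmul 1 y hy
        have e2 := hDR'.Vinv_tmul 1 ⟨ψ₀ (y : P) - z, hqmem⟩ hq''
        rw [map_one] at e1 e2
        rw [← e1, hχ.comm_Vinv ⟨_, hy⟩, ← e2]
        exact Vinv_congr DR' hq'.symm
    obtain ⟨n, hn⟩ := hmod.exists_pow hp hker
    refine ⟨n, _, hn, Dieu.BC.ext (WittVector.map f : WittVector p S →+* WittVector p R) fun x => ?_⟩
    rw [Dieu.BC.map_tmul, LinearMap.smul_apply, LinearMap.smul_apply, ← Dieu.BC.tmul_apply_eq,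
      Dieu.BC.tmul_eq_smul_tmul_one, hl, map_pow, map_natCast]

end Groth.Agent.S16543
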