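import Groth.Statements.S16544
import Groth.Agent.DispLib.Rigid
import Mathlib.RingTheory.Nilpotent.Lemmas

set_option autoImplicit false
universe u v
open Disp

namespace Groth.Agent.S16544
open Groth.Agent.DispLib in

/-- Let p be a prime and S a commutative ring in which p is nilpotent and whose nilradical (the ideal of
nilpotent elements) is a nilpotent ideal; let (P, Q, F, V⁻¹) and (P', Q', F', V'⁻¹) be displays over
S, i.e. 3n-displays whose operators V# satisfy the nilpotence condition. Then the group of
homomorphisms of displays from P to P' has no p-torsion: a W(S)-linear ψ : P → P' which is a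
homomorphism of 3n-displays and satisfies p·ψ = 0 is zero. (The published statement says
torsion-free; primes other than p are units in S, and the published proof treats the prime p.) -/
theorem result (p : ℕ) [Fact p.Prime]
    (S : Type u) [CommRing S] (hp : IsNilpotent (p : S)) (hn : IsNilpotent (nilradical S))
    (P P' : Type v) [AddCommGroup P] [Module (WittVector p S) P] [AddCommGroup P'] [Module (WittVector p S) P']
    (D : W4c1extbt610.Display3n p S P) (D' : W4c1extbt610.Display3n p S P')
    (hD : Dieu.IsDisplay D) (hD' : Dieu.IsDisplay D')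
    (ψ : P →ₗ[WittVector p S] P') (hψ : W4c1extbt610.IsHom D D' ψ)
    (h : (p : WittVector p S) • ψ = 0) : ψ = 0 := by
  haveI := D'.finite
  haveI := D'.projective
  obtain ⟨n, e, φ, hφ⟩ := exists_coord (A := WittVector p S) (M := P')
  refine rigidity hD hp hn ψ (fun y => hψ.mapsTo _ y.2) (fun y => hψ.comm_Vinv y) fun x => ?_
  rw [mem_smul_top_iff hφ]
  intro k
  rw [WI, RingHom.mem_ker]
  haveI : IsReduced (S ⧸ nilradical S) :=
    (Ideal.isRadical_iff_quotient_reduced _).1 (Ideal.radical_isRadical (0 : Ideal S))
  have hp0 : ((p : ℕ) : S ⧸ nilradical S) = 0 := by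
    rw [← map_natCast (Ideal.Quotient.mk (nilradical S))]
    exact Ideal.Quotient.eq_zero_iff_mem.2 hp
  refine natCast_mul_mem_WI_self hp0 ?_
  have hx : (p : WittVector p S) • ψ x = 0 := LinearMap.congr_fun h x
  have hk := congrArg (φ k) hx
  rw [map_smul, map_zero, smul_eq_mul] at hk
  rw [← map_natCast (WittVector.map (Ideal.Quotient.mk (nilradical S))) p, ← map_mul, hk, map_zero]

end Groth.Agent.S16544
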