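import Groth.Statements.S16545
import Groth.Agent.S16541
import Groth.Agent.S16542
import Groth.Agent.DispLib.Basic
import Mathlib.RingTheory.Flat.Basic

set_option autoImplicit false
universe u v
open Disp

namespace Groth.Agent.S16545

theorem castHom_eq {A : Type u} {B : Type u} [CommRing A] [CommRing B] {P : Type v} [AddCommGroup P]
    [Module A P] {a b c : A →+* B} (e1 : a = c) (e2 : b = c) {z : Dieu.BC a P} {w : Dieu.BC b P}
    (h : Dieu.BC.castHom e1 z = Dieu.BC.castHom e2 w) :
    Dieu.BC.castHom (e1.trans e2.symm) z = w := by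
  subst e1; subst e2; exact h


/-- Let p be a prime, S → R a faithfully flat homomorphism of commutative rings with p nilpotent in S,
ι₁, ι₂ : R → R ⊗_S R the two coprojections, and (P, Q, F, V⁻¹), (P', Q', F', V'⁻¹) displays over S
with base changes (P_R, Q_R, F_R, V_R⁻¹) and (P'_R, Q'_R, F'_R, V'_R⁻¹) along S → R (the 3n-display
structures on W(R) ⊗_{W(S)} P and W(R) ⊗_{W(S)} P' with Q_R = ker(P_R → R ⊗_S P/Q), F_R(w ⊗ x) =
σ(w) ⊗ F x, V_R⁻¹(w ⊗ y) = σ(w) ⊗ V⁻¹ y for y ∈ Q, V_R⁻¹(V(w) ⊗ x) = w ⊗ F x, and likewise for P').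
Let χ : P_R → P'_R be a homomorphism of 3n-displays whose two scalar extensions along W(ι₁) and
W(ι₂) agree, after the modules W(R ⊗_S R) ⊗_{W(ι_i),W(R)} (W(R) ⊗_{W(S)} P) are mapped to W(R ⊗_S R)
⊗_{W(S)} P by the canonical maps u ⊗ (w ⊗ x) ↦ u·W(ι_i)(w) ⊗ x (and likewise for P'). Then there is
exactly one homomorphism of 3n-displays ψ : P → P' over S with id ⊗ ψ = χ: the sequence 0 → Hom(P,
P') → Hom(P_R, P'_R) ⇉ Hom(P_{R⊗R}, P'_{R⊗R}) is exact. The hypotheses e₁, e₂ record that both
composite ring maps W(S) → W(R) → W(R ⊗_S R) equal W(S → R ⊗_S R); they serve to identify targets. -/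
theorem result (p : ℕ) [Fact p.Prime]
    (S R : Type u) [CommRing S] [CommRing R] [Algebra S R] [Module.FaithfullyFlat S R] (hp : IsNilpotent (p : S))
    (e₁ : (WittVector.map (Algebra.TensorProduct.includeLeftRingHom : R →+* TensorProduct S R R) : WittVector p R →+* WittVector p (TensorProduct S R R)).comp (WittVector.map (algebraMap S R) : WittVector p S →+* WittVector p R) = (WittVector.map (algebraMap S (TensorProduct S R R)) : WittVector p S →+* WittVector p (TensorProduct S R R)))
    (e₂ : (WittVector.map ((Algebra.TensorProduct.includeRight : R →ₐ[S] TensorProduct S R R) : R →+* TensorProduct S R R) : WittVector p R →+* WittVector p (TensorProduct S R R)).comp (WittVector.map (algebraMap S R) : WittVector p S →+* WittVector p R) = (WittVector.map (algebraMap S (TensorProduct S R R)) : WittVector p S →+* WittVector p (TensorProduct S R R)))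
    (P P' : Type v) [AddCommGroup P] [Module (WittVector p S) P] [AddCommGroup P'] [Module (WittVector p S) P']
    (D : W4c1extbt610.Display3n p S P) (D' : W4c1extbt610.Display3n p S P')
    (hD : Dieu.IsDisplay D) (hD' : Dieu.IsDisplay D')
    (DR : W4c1extbt610.Display3n p R (Dieu.BC (WittVector.map (algebraMap S R) : WittVector p S →+* WittVector p R) P)) (hDR : Dieu.IsDispBaseChange (algebraMap S R) D DR)
    (DR' : W4c1extbt610.Display3n p R (Dieu.BC (WittVector.map (algebraMap S R) : WittVector p S →+* WittVector p R) P')) (hDR' : Dieu.IsDispBaseChange (algebraMap S R) D' DR')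
    (χ : Dieu.BC (WittVector.map (algebraMap S R) : WittVector p S →+* WittVector p R) P →ₗ[WittVector p R] Dieu.BC (WittVector.map (algebraMap S R) : WittVector p S →+* WittVector p R) P') (hχ : W4c1extbt610.IsHom DR DR' χ)
    (hdesc : ∀ (z₁ : Dieu.BC (WittVector.map (Algebra.TensorProduct.includeLeftRingHom : R →+* TensorProduct S R R) : WittVector p R →+* WittVector p (TensorProduct S R R)) (Dieu.BC (WittVector.map (algebraMap S R) : WittVector p S →+* WittVector p R) P)) (z₂ : Dieu.BC (WittVector.map ((Algebra.TensorProduct.includeRight : R →ₐ[S] TensorProduct S R R) : R →+* TensorProduct S R R) : WittVector p R →+* WittVector p (TensorProduct S R R)) (Dieu.BC (WittVector.map (algebraMap S R) : WittVector p S →+* WittVector p R) P)),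
      (Dieu.BC.castHom (P := P) e₁).comp (Dieu.BC.lift (WittVector.map (Algebra.TensorProduct.includeLeftRingHom : R →+* TensorProduct S R R) : WittVector p R →+* WittVector p (TensorProduct S R R)) (Dieu.BC.push (WittVector.map (algebraMap S R) : WittVector p S →+* WittVector p R) (WittVector.map (Algebra.TensorProduct.includeLeftRingHom : R →+* TensorProduct S R R) : WittVector p R →+* WittVector p (TensorProduct S R R)))) z₁ = (Dieu.BC.castHom (P := P) e₂).comp (Dieu.BC.lift (WittVector.map ((Algebra.TensorProduct.includeRight : R →ₐ[S] TensorProduct S R R) : R →+* TensorProduct S R R) : WittVector p R →+* WittVector p (TensorProduct S R R)) (Dieu.BC.push (WittVector.map (algebraMap S R) : WittVector p S →+* WittVector p R) (WittVector.map ((Algebra.TensorProduct.includeRight : R →ₐ[S] TensorProduct S R R) : R →+* TensorProduct S R R) : WittVector p R →+* WittVector p (TensorProduct S R R)))) z₂ →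
        (Dieu.BC.castHom (P := P') e₁).comp (Dieu.BC.lift (WittVector.map (Algebra.TensorProduct.includeLeftRingHom : R →+* TensorProduct S R R) : WittVector p R →+* WittVector p (TensorProduct S R R)) (Dieu.BC.push (WittVector.map (algebraMap S R) : WittVector p S →+* WittVector p R) (WittVector.map (Algebra.TensorProduct.includeLeftRingHom : R →+* TensorProduct S R R) : WittVector p R →+* WittVector p (TensorProduct S R R)))) (Dieu.BC.map (WittVector.map (Algebra.TensorProduct.includeLeftRingHom : R →+* TensorProduct S R R) : WittVector p R →+* WittVector p (TensorProduct S R R)) χ z₁) =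
          (Dieu.BC.castHom (P := P') e₂).comp (Dieu.BC.lift (WittVector.map ((Algebra.TensorProduct.includeRight : R →ₐ[S] TensorProduct S R R) : R →+* TensorProduct S R R) : WittVector p R →+* WittVector p (TensorProduct S R R)) (Dieu.BC.push (WittVector.map (algebraMap S R) : WittVector p S →+* WittVector p R) (WittVector.map ((Algebra.TensorProduct.includeRight : R →ₐ[S] TensorProduct S R R) : R →+* TensorProduct S R R) : WittVector p R →+* WittVector p (TensorProduct S R R)))) (Dieu.BC.map (WittVector.map ((Algebra.TensorProduct.includeRight : R →ₐ[S] TensorProduct S R R) : R →+* TensorProduct S R R) : WittVector p R →+* WittVector p (TensorProduct S R R)) χ z₂)) :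
    ∃! ψ : P →ₗ[WittVector p S] P', W4c1extbt610.IsHom D D' ψ ∧ Dieu.BC.map (WittVector.map (algebraMap S R) : WittVector p S →+* WittVector p R) ψ = χ := by
  haveI hproj : Module.Projective (WittVector p S) P' := D'.projective
  haveI : Module.Flat (WittVector p S) P' := @Module.Flat.of_projective _ _ _ _ _ hproj
  obtain ⟨hinj, heq⟩ := Groth.Agent.S16541.result p S R P' (e₁.trans e₂.symm)
  have hex : ∀ x : P, ∃ m : P', Dieu.BC.ι (WittVector.map (algebraMap S R) : WittVector p S →+* WittVector p R) P' m =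
      χ (Dieu.BC.tmul _ 1 x) := by
    intro x
    refine (heq _).1 (castHom_eq e₁ e₂ ?_)
    have h := hdesc (Dieu.BC.tmul _ 1 (Dieu.BC.tmul _ 1 x)) (Dieu.BC.tmul _ 1 (Dieu.BC.tmul _ 1 x)) ?_
    · simpa only [LinearMap.comp_apply, Dieu.BC.map_tmul, Dieu.BC.lift_tmul, one_smul] using h
    · simp only [LinearMap.comp_apply, Dieu.BC.lift_tmul, one_smul, Dieu.BC.push_tmul, map_one,
        Dieu.BC.castHom_tmul]
  choose m hm using hex
  let ψ : P →ₗ[WittVector p S] P' :=
    { toFun := m
      map_add' := fun a b => hinj (by rw [map_add, hm, hm, hm, Dieu.BC.tmul_add, map_add])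
      map_smul' := fun a x => hinj (by
        rw [RingHom.id_apply, LinearMap.map_smulₛₗ, hm, hm, ← Dieu.BC.tmul_apply_eq,
          Dieu.BC.tmul_eq_smul_tmul_one, map_smul]) }
  have hψ : ∀ x, Dieu.BC.tmul (WittVector.map (algebraMap S R) : WittVector p S →+* WittVector p R) 1 (ψ x) =
      χ (Dieu.BC.tmul _ 1 x) := hm
  have hQ : ∀ q ∈ D.Q, ψ q ∈ D'.Q := by
    intro q hq
    rw [Groth.Agent.S16542.result p S R hp P' D' hD' DR' hDR', Dieu.BC.ι_apply, hψ]
    exact hχ.mapsTo _ ((Groth.Agent.S16542.result p S R hp P D hD DR hDR q).1 hq)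
  refine ⟨ψ, ⟨⟨hQ, fun x => hinj ?_, fun y => hinj ?_⟩, Dieu.BC.ext _ fun x => ?_⟩, fun ψ' hψ' => ?_⟩
  · have e1 := hDR.F_tmul 1 x
    have e2 := hDR'.F_tmul 1 (ψ x)
    rw [map_one] at e1 e2
    rw [Dieu.BC.ι_apply, Dieu.BC.ι_apply, hψ, ← e1, hχ.comm_F, ← hψ, e2]
  · have hy : Dieu.BC.tmul _ 1 (y : P) ∈ DR.Q :=
      (Groth.Agent.S16542.result p S R hp P D hD DR hDR y).1 y.2
    have hy' : Dieu.BC.tmul _ 1 (ψ (y : P)) ∈ DR'.Q :=
      (Groth.Agent.S16542.result p S R hp P' D' hD' DR' hDR' _).1 (hQ _ y.2)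
    have e1 := hDR.Vinv_tmul 1 y hy
    have e2 := hDR'.Vinv_tmul 1 ⟨ψ (y : P), hQ _ y.2⟩ hy'
    rw [map_one] at e1 e2
    rw [Dieu.BC.ι_apply, Dieu.BC.ι_apply, hψ, ← e1, hχ.comm_Vinv ⟨_, hy⟩, ← e2]
    exact DispLib.Vinv_congr DR' (hψ _).symm
  · rw [Dieu.BC.map_tmul, hψ]
  · refine LinearMap.ext fun x => hinj ?_
    rw [Dieu.BC.ι_apply, Dieu.BC.ι_apply, hψ, ← hψ'.2, Dieu.BC.map_tmul]

end Groth.Agent.S16545
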