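import Groth.Statements.S16546
import Groth.Agent.DispLib.NilpCrit

set_option autoImplicit false
universe u v w
open Disp

namespace Groth.Agent.S16546

/-- Let p be a prime and R a commutative ring in which p is nilpotent (in particular every prime number
other than p is a unit in R); write W = W(R) with Frobenius σ, Verschiebung V, I_R = V(W) and w₀ : W
→ R for the zeroth Witt component. Let (P, Q, F, V⁻¹) be a 3n-display over R with a normal
decomposition P = L ⊕ T, Q = L + I_R·T in which T and L are free with finite bases (t_j) and (l_k).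
Let α be the square matrix over W, indexed by the disjoint union of the two index sets, such that
F(t_j) = Σ_i α_{i,j} e_i and V⁻¹(l_k) = Σ_i α_{i,k} e_i, where (e_i) is the basis of P formed by the
t_j followed by the l_k, and let β be a two-sided inverse of α. Let B be the square block of β on
the L-indices, reduced to R/pR through w₀, and write B^{(p^i)} for the matrix whose entries are the
p^i-th powers of those of B. Then (P, Q, F, V⁻¹) is a display, i.e. its operator V# satisfies the
nilpotence condition, if and only if B^{(p^{N-1})} ⋯ B^{(p)} · B = 0 for some N ≥ 1. -/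
theorem result (p : ℕ) [Fact p.Prime] (R : Type u) [CommRing R]
    (hR : ∀ ℓ : ℕ, ℓ.Prime → ℓ ≠ p → IsUnit (ℓ : R)) (hp : IsNilpotent (p : R))
    (P : Type v) [AddCommGroup P] [Module (WittVector p R) P] (D : W4c1extbt610.Display3n p R P)
    (L T : Submodule (WittVector p R) P) (hLT : IsCompl L T)
    (hQ : D.Q = L ⊔ W4c1extbt610.IV p R • T) (hLQ : L ≤ D.Q)
    (ιT ιL : Type w) [Fintype ιT] [Fintype ιL] [DecidableEq ιT] [DecidableEq ιL]
    (bT : Module.Basis ιT (WittVector p R) T) (bL : Module.Basis ιL (WittVector p R) L)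
    (α β : Matrix (ιT ⊕ ιL) (ιT ⊕ ιL) (WittVector p R)) (hαβ : α * β = 1) (hβα : β * α = 1)
    (hF : ∀ j : ιT, D.F (bT j : P) =
      Finset.univ.sum fun i : ιT ⊕ ιL => α i (Sum.inl j) • Sum.elim (fun a : ιT => (bT a : P)) (fun a : ιL => (bL a : P)) i)
    (hV : ∀ k : ιL, D.Vinv ⟨(bL k : P), hLQ (bL k).2⟩ =
      Finset.univ.sum fun i : ιT ⊕ ιL => α i (Sum.inr k) • Sum.elim (fun a : ιT => (bT a : P)) (fun a : ιL => (bL a : P)) i) :
    Dieu.IsDisplay D ↔
      ∃ N : ℕ, 0 < N ∧
        (((List.range N).reverse.map fun i : ℕ =>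
            (Matrix.of fun k l : ιL =>
                Ideal.Quotient.mk (Ideal.span {(p : R)}) (WittVector.constantCoeff (β (Sum.inr k) (Sum.inr l)))).map
              fun x : R ⧸ Ideal.span {(p : R)} => x ^ p ^ i).prod
          = 0) := by
  classical
  let e : Module.Basis (ιT ⊕ ιL) (WittVector p R) P :=
    (bT.prod bL).map (Submodule.prodEquivOfIsCompl T L hLT.symm)
  let ev : ιT ⊕ ιL → P := Sum.elim (fun a : ιT => (bT a : P)) (fun a : ιL => (bL a : P))
  have he : ∀ i, e i = ev i := by
    intro i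
    rcases i with i | i <;> simp [e, ev, Submodule.coe_prodEquivOfIsCompl']
  let img : ιT ⊕ ιL → Dieu.BC (WittVector.frobenius : WittVector p R →+* WittVector p R) P :=
    Sum.elim (fun a => (p : WittVector p R) • Dieu.BC.tmul _ 1 (bT a : P))
      (fun a => Dieu.BC.tmul _ 1 (bL a : P))
  let Vs : P →ₗ[WittVector p R] Dieu.BC (WittVector.frobenius : WittVector p R →+* WittVector p R) P :=
    e.constr (WittVector p R) fun i => Finset.univ.sum fun m => β m i • img m
  have hVse : ∀ i, Vs (ev i) = Finset.univ.sum fun m => β m i • img m := fun i => by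
    rw [← he]; exact e.constr_basis _ _ i
  have key : ∀ j, Vs (Finset.univ.sum fun i => α i j • ev i) = img j := by
    intro j
    rw [map_sum]
    simp only [map_smul, hVse, Finset.smul_sum, smul_smul]
    rw [Finset.sum_comm]
    simp only [← Finset.sum_smul, mul_comm (α _ _)]
    have : ∀ m, (Finset.univ.sum fun i => β m i * α i j) = (1 : Matrix _ _ (WittVector p R)) m j :=
      fun m => by rw [← hβα]; rfl
    simp only [this, Matrix.one_apply, ite_smul, one_smul, zero_smul, Finset.sum_ite_eq',
      Finset.mem_univ, if_true]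
  have hT : ∀ j, Vs (D.F (bT j : P)) = (p : WittVector p R) • Dieu.BC.tmul _ 1 (bT j : P) := fun j => by
    rw [hF]; exact key (Sum.inl j)
  have hL : ∀ j, Vs (D.Vinv ⟨(bL j : P), hLQ (bL j).2⟩) = Dieu.BC.tmul _ 1 (bL j : P) := fun j => by
    rw [hV]; exact key (Sum.inr j)
  have hVsF : ∀ x, Vs (D.F x) = (p : WittVector p R) • Dieu.BC.tmul _ 1 x := by
    intro x
    let g1 : P →ₛₗ[(WittVector.frobenius : WittVector p R →+* WittVector p R)] _ := Vs.comp D.F
    let g2 : P →ₛₗ[(WittVector.frobenius : WittVector p R →+* WittVector p R)]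
        Dieu.BC (WittVector.frobenius : WittVector p R →+* WittVector p R) P :=
      (p : WittVector p R) • Dieu.BC.ι (WittVector.frobenius : WittVector p R →+* WittVector p R) P
    refine LinearMap.congr_fun (f := g1) (g := g2) (e.ext fun i => ?_) x
    rw [he]
    rcases i with j | j
    · exact hT j
    · show Vs (D.F ((⟨(bL j : P), hLQ (bL j).2⟩ : D.Q) : P)) = _
      rw [DispLib.F_coe, map_smul, hL]
      rfl
  have hVs : Dieu.IsVSharp D Vs := by
    refine ⟨fun w x => ?_, fun w y => ?_⟩
    · rw [map_smul, hVsF, smul_smul, mul_comm, ← smul_smul, ← Dieu.BC.tmul_eq_smul_tmul_one]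
    · rw [map_smul, Dieu.BC.tmul_eq_smul_tmul_one _ w]
      congr 1
      refine (DispLib.Q_induction D hQ (motive := fun z => ∀ hz : z ∈ D.Q,
        Vs (D.Vinv ⟨z, hz⟩) = Dieu.BC.tmul _ 1 z) (fun l hl hz => ?_) (fun w t ht hz => ?_)
        (fun a b ha hb iha ihb hz => ?_) y) y.2
      · let g1 : L →ₛₗ[(WittVector.frobenius : WittVector p R →+* WittVector p R)] _ :=
          (Vs.comp D.Vinv).comp (Submodule.inclusion hLQ)
        let g2 : L →ₛₗ[(WittVector.frobenius : WittVector p R →+* WittVector p R)]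
            Dieu.BC (WittVector.frobenius : WittVector p R →+* WittVector p R) P :=
          (Dieu.BC.ι (WittVector.frobenius : WittVector p R →+* WittVector p R) P).comp L.subtype
        exact LinearMap.congr_fun (f := g1) (g := g2) (bL.ext fun j => hL j) ⟨l, hl⟩
      · rw [DispLib.Vinv_congr D (y' := ⟨_, DispLib.verschiebung_smul_mem D w t⟩) rfl,
          D.Vinv_verschiebung_smul, map_smul, hVsF, smul_smul, ← Dieu.BC.tmul_apply_eq,
          WittVector.frobenius_verschiebung, Dieu.BC.tmul_eq_smul_tmul_one _ (w * _)]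
      · rw [show (⟨a + b, hz⟩ : D.Q) = ⟨a, ha⟩ + ⟨b, hb⟩ from rfl, map_add, map_add, iha ha, ihb hb,
          Dieu.BC.tmul_add]
  -- reductions
  let Z : ℕ → Matrix (ιT ⊕ ιL) (ιT ⊕ ιL) (R ⧸ Ideal.span {(p : R)}) := fun n => Matrix.of fun m i =>
    DispLib.chi p R (DispLib.coordPow e (n + 1) m (Dieu.vSharpPow Vs n (ev i)))
  let bβ : Matrix ιL (ιT ⊕ ιL) (R ⧸ Ideal.span {(p : R)}) := Matrix.of fun k i =>
    DispLib.chi p R (β (Sum.inr k) i)
  let B : Matrix ιL ιL (R ⧸ Ideal.span {(p : R)}) := Matrix.of fun k l =>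
    Ideal.Quotient.mk (Ideal.span {(p : R)}) (WittVector.constantCoeff (β (Sum.inr k) (Sum.inr l)))
  let Pr : ℕ → Matrix ιL ιL (R ⧸ Ideal.span {(p : R)}) := fun N =>
    (((List.range N).reverse.map fun i : ℕ => B.map fun x : R ⧸ Ideal.span {(p : R)} => x ^ p ^ i).prod)
  have hrep : ∀ m i : ιT ⊕ ιL, e.repr (ev i) m = if i = m then 1 else 0 := fun m i => by
    rw [← he, e.repr_self, Finsupp.single_apply]
  have hZ0 : ∀ m i, Z 0 m i = Sum.elim (fun _ => 0) (fun k => bβ k i) m := by
    intro m i
    show DispLib.chi p R (DispLib.coordPow e (0 + 1) m (Dieu.vSharpPow Vs 0 (ev i))) = _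
    rw [Dieu.vSharpPow_zero_apply, hVse, map_sum, map_sum, map_sum, Fintype.sum_sum_type]
    simp only [img, Sum.elim_inl, Sum.elim_inr, map_smul, smul_eq_mul, map_mul, DispLib.chi_p, zero_mul,
      mul_zero, Finset.sum_const_zero, zero_add, Dieu.BC.castHom_tmul, DispLib.coordPow_tmul, one_mul]
    have hs : ∀ k, DispLib.chi p R (((WittVector.frobenius : WittVector p R →+* WittVector p R) ^ 1)
        (e.repr (bL k : P) m)) = if (Sum.inr k : ιT ⊕ ιL) = m then 1 else 0 := fun k => by
      rw [show (bL k : P) = ev (Sum.inr k) from rfl, hrep]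
      split_ifs <;> simp
    rw [Finset.sum_congr rfl fun k _ => by rw [hs k]]
    rcases m with m | m
    · simp
    · simp [bβ]
  have hZs : ∀ n m i, Z (n + 1) m i =
      Finset.univ.sum fun k : ιL => bβ k i * DispLib.frobQ p R (Z n m (Sum.inr k)) := by
    intro n m i
    show DispLib.chi p R (DispLib.coordPow e (n + 1 + 1) m (Dieu.vSharpPow Vs (n + 1) (ev i))) = _
    rw [Dieu.vSharpPow_succ_apply, hVse, map_sum, map_sum, map_sum, map_sum, map_sum,
      Fintype.sum_sum_type]
    simp only [img, Sum.elim_inl, Sum.elim_inr, map_smul, smul_eq_mul, map_mul, DispLib.chi_p, zero_mul,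
      mul_zero, Finset.sum_const_zero, zero_add, Dieu.BC.map_tmul, Dieu.BC.lift_tmul, one_smul,
      DispLib.chi_coordPow_cast_push]
    rfl
  have hPsucc : ∀ N, Pr (N + 1) = (DispLib.frobQ p R).mapMatrix (Pr N) * B := by
    intro N
    simp only [Pr, List.range_succ_eq_map, List.reverse_cons, List.map_append, List.map_cons, List.map_nil,
      List.prod_append, List.prod_cons, List.prod_nil, mul_one, pow_zero, pow_one, map_list_prod,
      List.map_reverse, List.map_map]
    congr 1
    · congr 2
      refine List.map_congr_left fun i _ => Matrix.ext fun a b => ?_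
      show B a b ^ p ^ (i + 1) = (B a b ^ p ^ i) ^ p
      rw [← pow_mul, ← pow_succ]
  have hZ : ∀ n, (∀ j i, Z n (Sum.inl j) i = 0) ∧
      ∀ k i, Z n (Sum.inr k) i = ((DispLib.frobQ p R).mapMatrix (Pr n) * bβ) k i := by
    intro n
    induction n with
    | zero =>
      refine ⟨fun j i => hZ0 _ i, fun k i => ?_⟩
      simp [hZ0, Pr]
    | succ n ih =>
      refine ⟨fun j i => by rw [hZs]; simp [ih.1], fun k i => ?_⟩
      rw [hZs, hPsucc, Matrix.mul_apply]
      refine Finset.sum_congr rfl fun l _ => ?_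
      rw [mul_comm, ih.2]
      rfl
  have hA : ∀ n k l, Z n (Sum.inr k) (Sum.inr l) = Pr (n + 1) k l := fun n k l => by
    rw [(hZ n).2, hPsucc]
    rfl
  constructor
  · rintro ⟨Vs', hVs', N, hN⟩
    have hVV : Vs' = Vs := DispLib.ext_of_Vinv D fun y => by
      have h1 := hVs'.app_smul_Vinv 1 y
      have h2 := hVs.app_smul_Vinv 1 y
      rw [one_smul] at h1 h2
      rw [h1, h2]
    subst hVV
    refine ⟨N + 1, Nat.succ_pos N, show Pr (N + 1) = 0 from Matrix.ext fun k l => ?_⟩
    rw [← hA]
    exact (DispLib.mem_J_smul_iff e (N + 1) _).1 (hN _) _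
  · rintro ⟨N, hN0, hN⟩
    refine ⟨Vs, hVs, N, fun x => ?_⟩
    have hall : ∀ i, Dieu.vSharpPow Vs N (ev i) ∈ (W4c1extbt610.IV p R ⊔ Ideal.span {(p : WittVector p R)}) •
        (⊤ : Submodule (WittVector p R) (Dieu.BC ((WittVector.frobenius : WittVector p R →+* WittVector p R) ^ (N + 1)) P)) := by
      intro i
      rw [DispLib.mem_J_smul_iff e]
      intro m
      show Z N m i = 0
      rcases m with j | k
      · exact (hZ N).1 j i
      · rw [(hZ N).2, show Pr N = 0 from hN, map_zero, Matrix.zero_mul]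
        rfl
    rw [← e.sum_repr x, map_sum]
    exact Submodule.sum_mem _ fun i _ => by rw [map_smul, he]; exact Submodule.smul_mem _ _ (hall i)

end Groth.Agent.S16546
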