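import Groth.Statements.S16547
import Mathlib
import Groth.Agent.CommAlg4.EakinNagata
import Groth.Agent.CAlgH3.RegularCore

set_option linter.all false

set_option autoImplicit false
universe u
open CAlg

open scoped Pointwise

namespace Groth.Agent.S16547

section
open Finset
variable {A B G : Type u} [CommRing A] [IsDomain A]
    [UniqueFactorizationMonoid A]
    [CommRing B] [Algebra B A] [FaithfulSMul B A] [Module.Finite B A]
    [Group G] [Finite G] [MulSemiringAction G A] [FaithfulSMul G A] [SMulCommClass G B A]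
    [Algebra.IsInvariant B A G]

omit [IsDomain A] [UniqueFactorizationMonoid A] [Module.Finite B A] [FaithfulSMul G A] [Algebra.IsInvariant B A G] [Finite G] [FaithfulSMul B A] in
theorem smul_am (σ : G) (b : B) : σ • algebraMap B A b = algebraMap B A b := by
  rw [Algebra.algebraMap_eq_smul_one, smul_comm, smul_one]

omit [UniqueFactorizationMonoid A] in
theorem prime_pow_prod_dvd {ι : Type*} (S : Finset ι) (γ : ι → A) (hp : ∀ i ∈ S, Prime (γ i))
    (hne : ∀ i ∈ S, ∀ j ∈ S, i ≠ j → ¬ γ i ∣ γ j) (n : ℕ) (z : A) (hz : ∀ i ∈ S, γ i ^ n ∣ z) :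
    (∏ i ∈ S, γ i) ^ n ∣ z := by
  classical
  induction S using Finset.induction_on with
  | empty => simp
  | insert a S ha ih =>
    rw [Finset.prod_insert ha, mul_pow]
    obtain ⟨t, rfl⟩ := ih (fun i hi => hp i (mem_insert_of_mem hi))
      (fun i hi j hj => hne i (mem_insert_of_mem hi) j (mem_insert_of_mem hj)) (fun i hi => hz i (mem_insert_of_mem hi))
    have h1 : ¬ γ a ∣ (∏ i ∈ S, γ i) ^ n := fun h => by
      obtain ⟨j, hj, hd⟩ := (hp a (mem_insert_self _ _)).exists_mem_finset_dvd ((hp a (mem_insert_self _ _)).dvd_of_dvd_pow h)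
      exact hne a (mem_insert_self _ _) j (mem_insert_of_mem hj) (fun e => ha (e ▸ hj)) hd
    rw [mul_comm (γ a ^ n)]
    exact mul_dvd_mul_left _ ((hp a (mem_insert_self _ _)).pow_dvd_of_dvd_mul_left n h1 (hz a (mem_insert_self _ _)))

include G in
theorem principal (q : Ideal B) [q.IsPrime] (hq : q.height = 1) (p : Ideal A) [hpp : p.IsPrime] [p.LiesOver q]
    (hres : ∀ a : A, ∃ b c : B, c ∉ q ∧ algebraMap B A c * a - algebraMap B A b ∈ p) :
    ∃ b₀ : B, b₀ ≠ 0 ∧ q = Ideal.span {b₀} := by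
  classical
  haveI := Fintype.ofFinite G
  have hinj := FaithfulSMul.algebraMap_injective B A
  haveI : IsDomain B := hinj.isDomain
  haveI : Algebra.IsIntegral B A := Algebra.IsIntegral.of_finite B A
  have hqp : ∀ c : B, c ∈ q ↔ algebraMap B A c ∈ p := fun c => by rw [p.over_def q]; rfl
  have hq0 : q ≠ ⊥ := fun h => by rw [h, Ideal.height_bot] at hq; exact zero_ne_one hq
  have hp0 : p ≠ ⊥ := fun h => hq0 (eq_bot_iff.2 fun c hc => by
    rw [hqp, h, Ideal.mem_bot, map_eq_zero_iff _ hinj] at hc; exact hc)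
  obtain ⟨π, hπp, hπ⟩ := Ideal.IsPrime.exists_mem_prime_of_ne_bot hpp hp0
  have hspan : Ideal.span {π} = p := by
    refine le_antisymm ((Ideal.span_singleton_le_iff_mem _).2 hπp) ?_
    by_contra hne
    haveI hP' : (Ideal.span {π}).IsPrime := (Ideal.span_singleton_prime hπ.ne_zero).2 hπ
    have hlt : Ideal.span {π} < p := lt_of_le_not_ge ((Ideal.span_singleton_le_iff_mem _).2 hπp) hne
    have h1 := Ideal.IsIntegral.comap_lt_comap (R := B) hlt
    rw [show p.comap (algebraMap B A) = q from (p.over_def q).symm] at h1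
    have h2 : (Ideal.span {π}).comap (algebraMap B A) ≠ ⊥ := fun h =>
      hπ.ne_zero (by
        have := Ideal.eq_bot_of_comap_eq_bot h
        exact Ideal.span_singleton_eq_bot.1 this)
    haveI : q.FiniteHeight := ⟨Or.inr (by rw [hq]; exact ENat.one_ne_top)⟩
    have h3 := Ideal.height_strict_mono_of_isPrime_of_isPrime h1
    rw [hq, Order.lt_one_iff, Ideal.height_eq_zero_iff] at h3
    exact h2 (le_bot_iff.1 (h3.2 ⟨Ideal.isPrime_bot, le_rfl⟩ bot_le))
  have hmem : ∀ (σ : G) (x : A), σ • π ∣ x ↔ σ⁻¹ • x ∈ p := by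
    intro σ x
    rw [← hspan, Ideal.mem_span_singleton]
    constructor
    · rintro ⟨t, rfl⟩
      exact ⟨σ⁻¹ • t, by rw [smul_mul', inv_smul_smul]⟩
    · rintro ⟨t, ht⟩
      exact ⟨σ • t, by rw [← smul_mul', ← ht, smul_inv_smul]⟩
  have hprime : ∀ σ : G, Prime (σ • π) := fun σ => (MulEquiv.prime_iff (MulSemiringAction.toRingEquiv G A σ).toMulEquiv).2 hπ
  let P : G → Ideal A := fun σ => Ideal.span {σ • π}
  let S : Finset (Ideal A) := Finset.univ.image P
  have hS : ∀ Q ∈ S, ∃ σ, P σ = Q := fun Q hQ => by simpa [S] using hQ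
  choose! γ hγ using hS
  have hdisj : ∀ Q ∈ S, ∀ Q' ∈ S, Q ≠ Q' → ¬ γ Q • π ∣ γ Q' • π := fun Q hQ Q' hQ' hne hd => hne (by
    rw [← hγ Q hQ, ← hγ Q' hQ']
    exact Ideal.span_singleton_eq_span_singleton.2 ((hprime _).associated_of_dvd (hprime _) hd))
  let g : A := ∏ Q ∈ S, γ Q • π
  have hPS : ∀ σ, P σ ∈ S := fun σ => Finset.mem_image_of_mem P (Finset.mem_univ σ)
  -- the norm of `π`
  let d : ℕ := (Finset.univ.filter (fun σ => P σ = P 1)).card
  have hfib : ∀ Q ∈ S, (Finset.univ.filter (fun σ => P σ = Q)).card = d := by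
    intro Q hQ
    have key : ∀ τ σ σ' : G, P σ = P σ' → P (τ * σ) = P (τ * σ') := fun τ σ σ' h => by
      have h' := Ideal.span_singleton_eq_span_singleton.1 h
      refine Ideal.span_singleton_eq_span_singleton.2 ?_
      rw [mul_smul, mul_smul]
      exact h'.map (MulSemiringAction.toRingHom G A τ)
    refine Finset.card_bij' (fun σ _ => (γ Q)⁻¹ * σ) (fun σ _ => γ Q * σ) ?_ ?_ ?_ ?_
    · intro σ hσ
      simp only [Finset.mem_filter, Finset.mem_univ, true_and] at hσ ⊢
      have := key (γ Q)⁻¹ σ (γ Q) (hσ.trans (hγ Q hQ).symm)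
      rwa [inv_mul_cancel] at this
    · intro σ hσ
      simp only [Finset.mem_filter, Finset.mem_univ, true_and] at hσ ⊢
      have := key (γ Q) σ 1 hσ
      rw [mul_one] at this
      exact this.trans (hγ Q hQ)
    · intro σ _; simp
    · intro σ _; simp
  have hcard : Fintype.card G = S.card * d := by
    rw [← Finset.card_univ, Finset.card_eq_sum_card_fiberwise (t := S) (f := P) (fun σ _ => hPS σ),
      Finset.sum_congr rfl hfib, Finset.sum_const, smul_eq_mul]
  let nπ : A := ∏ σ : G, σ • π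
  have hnorm : Associated nπ (g ^ d) := by
    rw [show g ^ d = ∏ Q ∈ S, (γ Q • π) ^ d from (Finset.prod_pow S d _).symm]
    show Associated (∏ σ : G, σ • π) _
    rw [← Finset.prod_fiberwise_of_maps_to (t := S) (g := P) (fun σ _ => hPS σ)]
    refine Associated.prod S _ _ fun Q hQ => ?_
    rw [← hfib Q hQ, ← Finset.prod_const]
    refine Associated.prod _ _ _ fun σ hσ => Ideal.span_singleton_eq_span_singleton.1 ?_
    simp only [Finset.mem_filter, Finset.mem_univ, true_and] at hσ
    exact hσ.trans (hγ Q hQ).symm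
  have hinv : ∀ x : A, ∃ b : B, algebraMap B A b = ∏ σ : G, σ • x := fun x =>
    Algebra.IsInvariant.isInvariant (G := G) _ fun τ => by
      rw [Finset.smul_prod']
      exact Fintype.prod_equiv (Equiv.mulLeft τ) _ _ fun σ => by rw [Equiv.coe_mulLeft, mul_smul]
  obtain ⟨b₀, hb₀⟩ := hinv π
  have hb₀q : b₀ ∈ q := by
    rw [hqp, hb₀, ← Finset.mul_prod_erase _ _ (Finset.mem_univ (1 : G)), one_smul]
    exact p.mul_mem_right _ hπp
  have hb₀0 : b₀ ≠ 0 := fun h => by
    rw [h, map_zero, eq_comm, Finset.prod_eq_zero_iff] at hb₀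
    obtain ⟨σ, -, hσ⟩ := hb₀
    exact (hprime σ).ne_zero hσ
  -- the multiplicity of `π` in `q`
  have hex : ∃ n, ∃ x ∈ q, ¬ π ^ (n + 1) ∣ algebraMap B A x := by
    obtain ⟨n, hn⟩ := (FiniteMultiplicity.of_prime_left hπ ((map_ne_zero_iff _ hinj).2 hb₀0) : FiniteMultiplicity π (algebraMap B A b₀))
    exact ⟨n, b₀, hb₀q, hn⟩
  let e := Nat.find hex
  obtain ⟨x₀, hx₀q, hx₀⟩ := Nat.find_spec hex
  have hge : ∀ x ∈ q, g ^ e ∣ algebraMap B A x := fun x hx => by
    refine prime_pow_prod_dvd S (fun Q => γ Q • π) (fun Q _ => hprime _) hdisj e _ fun Q _ => ?_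
    have h1 : π ^ e ∣ algebraMap B A x := by
      rcases Nat.eq_zero_or_pos e with h0 | h0
      · rw [h0, pow_zero]; exact one_dvd _
      · have := Nat.find_min hex (show e - 1 < e by omega)
        push Not at this
        have := this x hx
        rwa [Nat.sub_add_cancel h0] at this
    have h2 := map_dvd (MulSemiringAction.toRingHom G A (γ Q)) h1
    rw [map_pow] at h2
    simpa [smul_am] using h2
  obtain ⟨w, hw⟩ := hge x₀ hx₀q
  -- `g ^ e` generates `qA` locally
  obtain ⟨nw, hnw⟩ := hinv w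
  have hgdvd : ∀ σ : G, (σ • π) ∣ g := fun σ => by
    have h1 : σ • π ∣ γ (P σ) • π := (Ideal.span_singleton_eq_span_singleton.1 (hγ _ (hPS σ)).symm).dvd
    exact h1.trans (Finset.dvd_prod_of_mem (fun Q => γ Q • π) (hPS σ))
  have hwnot : ∀ σ : G, ¬ σ • π ∣ w := by
    intro σ hσ
    refine hx₀ ?_
    have h1 : (σ • π) ^ (e + 1) ∣ algebraMap B A x₀ := by
      rw [hw, pow_succ]
      exact mul_dvd_mul (pow_dvd_pow_of_dvd (hgdvd σ) e) hσ
    have h2 := map_dvd (MulSemiringAction.toRingHom G A σ⁻¹) h1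
    rw [map_pow] at h2
    simpa [smul_am] using h2
  have hnwq : nw ∉ q := by
    rw [hqp, hnw, hpp.prod_mem_iff]
    rintro ⟨σ, -, hσ⟩
    exact hwnot σ⁻¹ ((hmem σ⁻¹ w).2 (by rwa [inv_inv]))
  -- spanning set
  let H : Ideal A → A := fun Q => ∏ Q' ∈ S.erase Q, γ Q' • π
  let gen : S × Fin e → A := fun i => g ^ (i.2 : ℕ) * H i.1
  let N : Submodule B A := Submodule.span B (Set.range gen)
  have hHnot : ∀ Q ∈ S, ¬ γ Q • π ∣ H Q := fun Q hQ hd => by
    obtain ⟨Q', hQ', hd'⟩ := (hprime _).exists_mem_finset_dvd hd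
    exact hdisj Q hQ Q' (Finset.mem_of_mem_erase hQ') (Finset.ne_of_mem_erase hQ').symm hd'
  have hresσ : ∀ (σ : G) (a : A), ∃ b c : B, c ∉ q ∧ σ • π ∣ algebraMap B A c * a - algebraMap B A b := by
    intro σ a
    obtain ⟨b, c, hc, h⟩ := hres (σ⁻¹ • a)
    refine ⟨b, c, hc, (hmem σ _).2 ?_⟩
    rwa [smul_sub, smul_mul', smul_am, smul_am]
  have hnotdvd : ∀ (σ : G) (c : B), c ∉ q → ¬ σ • π ∣ algebraMap B A c := fun σ c hc h =>
    hc ((hqp c).2 (by have := (hmem σ _).1 h; rwa [smul_am] at this))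
  have hstep : ∀ a : A, ∃ s : B, s ∉ q ∧ ∃ t : Ideal A → B, g ∣ algebraMap B A s * a - ∑ Q ∈ S, algebraMap B A (t Q) * H Q := by
    intro a
    have h : ∀ Q, ∃ s t : B, Q ∈ S → s ∉ q ∧ γ Q • π ∣ algebraMap B A s * a - algebraMap B A t * H Q := by
      intro Q
      by_cases hQ : Q ∈ S
      · obtain ⟨b, c, hc, h1⟩ := hresσ (γ Q) a
        obtain ⟨b', c', hc', h2⟩ := hresσ (γ Q) (H Q)
        have hb' : b' ∉ q := fun hb' => by
          have h3 : γ Q • π ∣ algebraMap B A b' := (hmem _ _).2 (by rw [smul_am]; exact (hqp b').1 hb')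
          have h4 := dvd_add h2 h3
          rw [sub_add_cancel] at h4
          exact ((hprime _).dvd_or_dvd h4).elim (hnotdvd _ _ hc') (hHnot Q hQ)
        refine ⟨c * b', b * c', fun _ => ⟨fun h => ((‹q.IsPrime›).mem_or_mem h).elim hc hb', ?_⟩⟩
        have := dvd_sub (h1.mul_left (algebraMap B A b')) (h2.mul_left (algebraMap B A b))
        rw [map_mul, map_mul]
        convert this using 1
        ring
      · exact ⟨1, 0, fun h => absurd h hQ⟩
    choose s t hst using h
    refine ⟨∏ Q ∈ S, s Q, fun h => ?_, fun Q => t Q * ∏ Q' ∈ S.erase Q, s Q', ?_⟩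
    · obtain ⟨Q, hQ, hsQ⟩ := (‹q.IsPrime›).prod_mem_iff.1 h
      exact (hst Q hQ).1 hsQ
    · rw [show g = g ^ 1 from (pow_one g).symm]
      refine prime_pow_prod_dvd S (fun Q => γ Q • π) (fun Q _ => hprime _) hdisj 1 _ fun Q hQ => ?_
      rw [pow_one, ← Finset.add_sum_erase _ _ hQ, ← sub_sub]
      refine dvd_sub ?_ (Finset.dvd_sum fun Q' hQ' => Dvd.dvd.mul_left (Finset.dvd_prod_of_mem (fun Q => γ Q • π)
        (Finset.mem_erase.2 ⟨(Finset.ne_of_mem_erase hQ').symm, hQ⟩)) _)
      rw [← Finset.mul_prod_erase _ _ hQ, map_mul, map_mul]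
      have := (hst Q hQ).2.mul_left (algebraMap B A (∏ Q' ∈ S.erase Q, s Q'))
      convert this using 1
      ring
  have hiter : ∀ n ≤ e, ∀ a : A, ∃ s : B, s ∉ q ∧ ∃ v ∈ N, ∃ y, algebraMap B A s * a = v + g ^ n * y := by
    intro n
    induction n with
    | zero => exact fun _ a => ⟨1, fun h => (‹q.IsPrime›).ne_top ((Ideal.eq_top_iff_one _).2 h), 0, N.zero_mem, a, by simp⟩
    | succ n ih =>
      intro hn a
      obtain ⟨s, hs, v, hv, y, hy⟩ := ih (by omega) a
      obtain ⟨s', hs', t, y', hy'⟩ := hstep y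
      refine ⟨s' * s, fun h => ((‹q.IsPrime›).mem_or_mem h).elim hs' hs,
        s' • v + ∑ Q ∈ S, t Q • (g ^ n * H Q), add_mem (N.smul_mem _ hv) (Submodule.sum_mem _ fun Q hQ =>
          N.smul_mem _ (Submodule.subset_span ⟨(⟨Q, hQ⟩, ⟨n, by omega⟩), rfl⟩)), y', ?_⟩
      rw [map_mul, mul_assoc, hy]
      simp only [Algebra.smul_def, mul_left_comm _ (g ^ n), ← Finset.mul_sum]
      rw [sub_eq_iff_eq_add] at hy'
      rw [mul_add, mul_left_comm _ (g ^ n), hy', pow_succ]
      ring
  have hfin : ∀ a : A, ∃ s : B, s ∉ q ∧ s • a ∈ N ⊔ q • (⊤ : Submodule B A) := by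
    intro a
    obtain ⟨s, hs, v, hv, y, hy⟩ := hiter e le_rfl a
    refine ⟨nw * s, fun h => ((‹q.IsPrime›).mem_or_mem h).elim hnwq hs, ?_⟩
    rw [show (nw * s) • a = algebraMap B A nw * (algebraMap B A s * a) by rw [Algebra.smul_def, map_mul, mul_assoc], hy, mul_add]
    refine Submodule.add_mem_sup (by rw [← Algebra.smul_def]; exact N.smul_mem _ hv) ?_
    rw [hnw, ← Finset.mul_prod_erase _ _ (Finset.mem_univ (1 : G)), one_smul,
      show w * (∏ σ ∈ Finset.univ.erase (1 : G), σ • w) * (g ^ e * y) =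
        (g ^ e * w) * ((∏ σ ∈ Finset.univ.erase (1 : G), σ • w) * y) by ring, ← hw, ← Algebra.smul_def]
    exact Submodule.smul_mem_smul hx₀q trivial
  -- uniformly
  obtain ⟨T, hT⟩ := (Module.Finite.fg_top : (⊤ : Submodule B A).FG)
  choose sf hsf hsf' using hfin
  let s₁ : B := ∏ a ∈ T, sf a
  have hs₁ : s₁ ∉ q := fun h => by
    obtain ⟨a, -, ha⟩ := (‹q.IsPrime›).prod_mem_iff.1 h
    exact hsf a ha
  have hle : LinearMap.range (s₁ • (LinearMap.id : (A ⧸ N) →ₗ[B] A ⧸ N)) ≤ q • ⊤ := by
    rintro _ ⟨z, rfl⟩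
    obtain ⟨z, rfl⟩ := Submodule.Quotient.mk_surjective _ z
    show s₁ • Submodule.Quotient.mk z ∈ _
    rw [← Submodule.Quotient.mk_smul]
    have h1 : s₁ • z ∈ N ⊔ q • (⊤ : Submodule B A) := by
      have hz : z ∈ Submodule.span B (T : Set A) := by rw [hT]; trivial
      induction hz using Submodule.span_induction with
      | mem a ha =>
        show (∏ a ∈ T, sf a) • a ∈ _
        rw [← Finset.prod_erase_mul _ _ ha, mul_smul]
        exact Submodule.smul_mem _ _ (hsf' a)
      | zero => simp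
      | add x y _ _ hx hy => rw [smul_add]; exact add_mem hx hy
      | smul r x _ hx => rw [smul_comm]; exact Submodule.smul_mem _ r hx
    have h2 := Submodule.mem_map_of_mem (f := N.mkQ) h1
    rwa [Submodule.map_sup, Submodule.mkQ_map_self, bot_sup_eq, Submodule.map_smul'', Submodule.map_top, Submodule.range_mkQ] at h2
  obtain ⟨pol, hmon, -, hcoeff, hpol⟩ :=
    LinearMap.exists_monic_and_natDegree_eq_and_coeff_mem_pow_and_aeval_eq_zero B _ q hle
  have hc : pol.eval s₁ ∉ q := by
    intro hm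
    rw [Polynomial.eval_eq_sum_range, Finset.sum_range_succ, hmon.coeff_natDegree, one_mul] at hm
    have h1 : ∑ i ∈ Finset.range pol.natDegree, pol.coeff i * s₁ ^ i ∈ q := Ideal.sum_mem _ fun i hi =>
      q.mul_mem_right _ (Ideal.pow_le_self (by have := Finset.mem_range.1 hi; omega) (hcoeff i))
    exact hs₁ ((‹q.IsPrime›).mem_of_pow_mem _ ((Submodule.add_mem_iff_right _ h1).1 hm))
  have hcN : ∀ a, pol.eval s₁ • a ∈ N := fun a => by
    rw [← Submodule.Quotient.mk_eq_zero, Submodule.Quotient.mk_smul]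
    have := LinearMap.congr_fun hpol (Submodule.Quotient.mk a)
    rw [show s₁ • (LinearMap.id : (A ⧸ N) →ₗ[B] A ⧸ N) = algebraMap B (Module.End B (A ⧸ N)) s₁ from rfl,
      Polynomial.aeval_algebraMap_apply] at this
    rw [← Polynomial.coe_aeval_eq_eval]
    exact this
  -- counting
  have hcount : Fintype.card G ≤ S.card * e := by
    by_contra hlt
    let Φ : (G → A) →ₗ[A] (S × Fin e → A) := LinearMap.pi fun i => ∑ σ : G, (σ • gen i) • LinearMap.proj σ
    have hnot : ¬ Function.Injective Φ := fun h => by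
      have := card_le_of_injective A Φ h
      rw [Fintype.card_prod, Fintype.card_coe, Fintype.card_fin] at this
      exact hlt this
    rw [← LinearMap.ker_eq_bot, Submodule.eq_bot_iff] at hnot
    push Not at hnot
    obtain ⟨α, hα, hα0⟩ := hnot
    refine hα0 ?_
    have hN0 : ∀ v ∈ N, ∑ σ : G, α σ * σ • v = 0 := by
      intro v hv
      induction hv using Submodule.span_induction with
      | mem x hx =>
        obtain ⟨i, rfl⟩ := hx
        have := congrFun (LinearMap.mem_ker.1 hα) i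
        simpa [Φ, mul_comm] using this
      | zero => simp
      | add x y _ _ hx hy => simp [smul_add, mul_add, Finset.sum_add_distrib, hx, hy]
      | smul r x _ hx =>
        rw [← mul_zero (algebraMap B A r), ← hx, Finset.mul_sum]
        exact Finset.sum_congr rfl fun σ _ => by rw [Algebra.smul_def, smul_mul', smul_am]; ring
    have hall : ∀ a : A, ∑ σ : G, α σ * σ • a = 0 := fun a => by
      have h := hN0 _ (hcN a)
      simp only [Algebra.smul_def, smul_mul', smul_am, mul_left_comm (α _), ← Finset.mul_sum] at h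
      exact (mul_eq_zero.1 h).resolve_left ((map_ne_zero_iff _ hinj).2 fun h0 => hc (by rw [h0]; exact q.zero_mem))
    have hli : LinearIndependent A (fun σ : G => ((MulSemiringAction.toRingHom G A σ).toMonoidHom : A → A)) :=
      (linearIndependent_monoidHom A A).comp _ (fun σ τ h => eq_of_smul_eq_smul fun a => DFunLike.congr_fun h a)
    exact funext fun σ => Fintype.linearIndependent_iff.1 hli α (funext fun a => by
      simpa using hall a) σ
  have hde : d ≤ e := Nat.le_of_mul_le_mul_left (hcard ▸ hcount) (Finset.card_pos.2 ⟨P 1, hPS 1⟩)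
  refine ⟨b₀, hb₀0, le_antisymm (fun x hx => ?_) ((Ideal.span_singleton_le_iff_mem _).2 hb₀q)⟩
  obtain ⟨a, ha⟩ : algebraMap B A b₀ ∣ algebraMap B A x := by
    rw [hb₀]
    exact (hnorm.dvd.trans (pow_dvd_pow g hde)).trans (hge x hx)
  obtain ⟨a', rfl⟩ := Algebra.IsInvariant.isInvariant (A := B) (G := G) a fun σ => by
    refine mul_left_cancel₀ ((map_ne_zero_iff _ hinj).2 hb₀0) ?_
    rw [← ha, ← smul_am σ b₀, ← smul_mul', ← ha, smul_am]
  exact Ideal.mem_span_singleton.2 ⟨a', hinj (by rw [map_mul, ha])⟩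

end

/-- Let A be a Noetherian factorial local domain and G a finite group acting faithfully on A by ring
automorphisms; let B be a ring with an injective ring map to A whose image is exactly the ring of
invariants of G, and assume A is a finite B-module. Let q be a prime ideal of B of height one and p
a prime ideal of A lying over q such that the extension of residue fields of the local rings B_q and
A_p is trivial (every element of A is congruent modulo p to some c⁻¹b with b, c in B, c outside q).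
Then q is a principal ideal; and if moreover B/q is a regular local ring, then B is a regular local
ring. -/
theorem result
    {A B G : Type u} [CommRing A] [IsDomain A] [IsNoetherianRing A] [IsLocalRing A]
    [UniqueFactorizationMonoid A]
    [CommRing B] [Algebra B A] [FaithfulSMul B A] [Module.Finite B A]
    [Group G] [Finite G] [MulSemiringAction G A] [FaithfulSMul G A] [SMulCommClass G B A]
    [Algebra.IsInvariant B A G]
    (q : Ideal B) [q.IsPrime] (hq : q.height = 1) (p : Ideal A) [p.IsPrime] [p.LiesOver q]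
    (hres : ∀ a : A, ∃ b c : B, c ∉ q ∧ algebraMap B A c * a - algebraMap B A b ∈ p) :
    Submodule.IsPrincipal q ∧ (IsRegularLocalRing (B ⧸ q) → IsRegularLocalRing B) := by
  have hinj := FaithfulSMul.algebraMap_injective B A
  haveI : IsDomain B := hinj.isDomain
  obtain ⟨b₀, hb₀, rfl⟩ := principal (G := G) q hq p hres
  refine ⟨⟨b₀, rfl⟩, fun hreg => ?_⟩
  haveI : IsNoetherianRing B := Groth.Agent.CommAlg4.EakinNagata.isNoetherianRing B A
  haveI : Algebra.IsIntegral B A := Algebra.IsIntegral.of_finite B A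
  haveI : IsLocalRing B := by
    refine IsLocalRing.of_unique_max_ideal ⟨(IsLocalRing.maximalIdeal A).comap (algebraMap B A),
      Ideal.isMaximal_comap_of_isIntegral_of_isMaximal _, fun M hM => ?_⟩
    obtain ⟨Q, -, hQ, hQM⟩ := Ideal.exists_ideal_over_prime_of_isIntegral M (⊥ : Ideal A) (by
      rw [← RingHom.ker_eq_comap_bot, (RingHom.injective_iff_ker_eq_bot _).1 hinj]; exact bot_le)
    haveI := hQ
    have hQmax : Q.IsMaximal := Ideal.isMaximal_of_isIntegral_of_isMaximal_comap (R := B) Q (hQM ▸ hM)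
    rw [← hQM, IsLocalRing.eq_maximalIdeal hQmax]
  exact Groth.Agent.CAlgH3.isRegularLocalRing_of_quotient (x := b₀)
    (IsLocalRing.le_maximalIdeal (Ideal.IsPrime.ne_top ‹_›) (Ideal.mem_span_singleton_self b₀))
    (fun a c h => mul_left_cancel₀ hb₀ h)

end Groth.Agent.S16547
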