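import Groth.Statements.S16548
import Groth.Agent.Clifford24.InsepResidue
import Groth.Agent.GenSmoothLib.OmegaFree
import Groth.Agent.Pur21Lib.ExceptionalLocus

set_option autoImplicit false
universe u
open CategoryTheory CategoryTheory.Limits AlgebraicGeometry
attribute [local instance] Curv2.resAlgebra
open Curves

namespace Groth.Agent.S16548

/-- Let k be a field, X and Y smooth over k of relative dimension one (not necessarily proper), f : X ->
Y a finite k-morphism and x a closed point of X, with y = f(x). Suppose f is tamely ramified at x: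
m_y O_{X,x} = m_x^e for an integer e ≥ 2 prime to the characteristic of k, and κ(x) is separable
over κ(y). Then κ(x) is separable over k. (Consequently the field generated over k by the residue
fields of all such points is Galois over k.) -/
theorem result (k : Type u) [Field k]
    (X Y : Scheme.{u}) [X.Over (Spec (CommRingCat.of k))] [Y.Over (Spec (CommRingCat.of k))]
    [SmoothOfRelativeDimension 1 (X ↘ Spec (CommRingCat.of k))]
    [SmoothOfRelativeDimension 1 (Y ↘ Spec (CommRingCat.of k))]
    (f : X ⟶ Y) [IsFinite f] (hf : f ≫ (Y ↘ Spec (CommRingCat.of k)) = X ↘ Spec (CommRingCat.of k))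
    (x : X) (hx : IsClosed ({x} : Set X)) (e : ℕ)
    (he : (IsLocalRing.maximalIdeal (Y.presheaf.stalk (f.base x))).map (f.stalkMap x).hom =
      IsLocalRing.maximalIdeal (X.presheaf.stalk x) ^ e)
    (h2 : 2 ≤ e) (hp : ¬ ringChar k ∣ e)
    (hsep : @Algebra.IsSeparable (Y.residueField (f.base x)) (X.residueField x) _ _
      (f.residueFieldMap x).hom.toAlgebra) :
    Algebra.IsSeparable k (X.residueField x) := by
  classical
  let qX := X ↘ Spec (CommRingCat.of k)
  let qY := Y ↘ Spec (CommRingCat.of k)
  haveI : Smooth qX := SmoothOfRelativeDimension.smooth 1 qX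
  haveI : Smooth qY := SmoothOfRelativeDimension.smooth 1 qY
  letI iA : Algebra k (X.presheaf.stalk x) := (GenSmoothLib.stalkStr qX x).toAlgebra
  letI iB : Algebra k (Y.presheaf.stalk (f.base x)) := (GenSmoothLib.stalkStr qY (f.base x)).toAlgebra
  letI iBA : Algebra (Y.presheaf.stalk (f.base x)) (X.presheaf.stalk x) := (f.stalkMap x).hom.toAlgebra
  haveI : IsScalarTower k (Y.presheaf.stalk (f.base x)) (X.presheaf.stalk x) :=
    IsScalarTower.of_algebraMap_eq fun c =>
      (RingHom.congr_fun (GenSmoothLib.stalkMap_stalkStr qX qY f hf x) c).symm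
  haveI : IsLocalHom (algebraMap (Y.presheaf.stalk (f.base x)) (X.presheaf.stalk x)) :=
    inferInstanceAs (IsLocalHom (f.stalkMap x).hom)
  obtain ⟨hA1, -, -⟩ := GenSmoothLib.stalk_facts qX x
  obtain ⟨hB1, -, -⟩ := GenSmoothLib.stalk_facts qY (f.base x)
  haveI := hA1
  haveI := hB1
  haveI : IsNoetherianRing (X.presheaf.stalk x) := Algebra.EssFiniteType.isNoetherianRing k _
  obtain ⟨b⟩ := GenSmoothLib.exists_basis_stalk qX (d := 1) x
  haveI : Algebra.IsSeparable (IsLocalRing.ResidueField (Y.presheaf.stalk (f.base x)))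
      (IsLocalRing.ResidueField (X.presheaf.stalk x)) :=
    @Algebra.IsSeparable.of_equiv_equiv (Y.residueField (f.base x)) (X.residueField x) _ _ _ _ _ _
      (f.residueFieldMap x).hom.toAlgebra _
      (RingEquiv.refl (Y.residueField (f.base x))) (RingEquiv.refl (X.residueField x))
      (RingHom.ext fun r => by
        obtain ⟨r, rfl⟩ := IsLocalRing.residue_surjective r
        rfl) hsep
  by_contra hns
  have hns' : ¬ Algebra.IsSeparable k (IsLocalRing.ResidueField (X.presheaf.stalk x)) := fun h => hns
    (@Algebra.IsSeparable.of_equiv_equiv k (IsLocalRing.ResidueField (X.presheaf.stalk x)) k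
      (X.residueField x) _ _ _ _ _ (Curv2.resAlgebra k X x) (RingEquiv.refl k) (RingEquiv.refl (X.residueField x))
      (RingHom.ext fun r => rfl) h)
  have hm := Clifford24.InsepResidue.map_maximalIdeal_eq_of_not_isSeparable (B := Y.presheaf.stalk (f.base x)) b hns'
  rw [show algebraMap (Y.presheaf.stalk (f.base x)) (X.presheaf.stalk x) = (f.stalkMap x).hom from rfl, he] at hm
  have hbot : IsLocalRing.maximalIdeal (X.presheaf.stalk x) = ⊥ := by
    refine Submodule.eq_bot_of_le_smul_of_le_jacobson_bot (IsLocalRing.maximalIdeal _) _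
      (IsNoetherian.noetherian _) ?_ (IsLocalRing.maximalIdeal_le_jacobson _)
    calc IsLocalRing.maximalIdeal (X.presheaf.stalk x)
        = IsLocalRing.maximalIdeal (X.presheaf.stalk x) ^ e := hm.symm
      _ ≤ IsLocalRing.maximalIdeal (X.presheaf.stalk x) ^ 2 := Ideal.pow_le_pow_right h2
      _ ≤ _ := by rw [pow_two]; exact le_of_eq (smul_eq_mul _ _).symm
  obtain ⟨W, hW, hxW, -⟩ := exists_isAffineOpen_mem_and_subset (x := x) (U := ⊤) trivial
  haveI : IsLocallyNoetherian X := LocallyOfFiniteType.isLocallyNoetherian qX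
  haveI : IsAffine W.toScheme := hW
  haveI : IsNoetherianRing Γ(X, W) := IsLocallyNoetherian.component_noetherian ⟨W, hW⟩
  haveI : TopologicalSpace.NoetherianSpace W.toScheme := noetherianSpace_of_isAffineOpen W hW
  have hgenX : ∀ η : X, η ⤳ x → η = x := fun η hη => by
    obtain ⟨P, hP⟩ : η ∈ Set.range (X.fromSpecStalk x) := by rw [Scheme.range_fromSpecStalk]; exact hη
    have hPc : P = IsLocalRing.closedPoint (X.presheaf.stalk x) := by
      refine PrimeSpectrum.ext ?_
      have h1 : P.asIdeal ≤ IsLocalRing.maximalIdeal (X.presheaf.stalk x) := IsLocalRing.le_maximalIdeal P.2.ne_top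
      rw [hbot] at h1
      show P.asIdeal = IsLocalRing.maximalIdeal (X.presheaf.stalk x)
      rw [hbot, le_bot_iff.mp h1]
    rw [← hP, hPc, Scheme.fromSpecStalk_closedPoint]
  have hopen : IsOpen ({(⟨x, hxW⟩ : W.toScheme)} : Set W.toScheme) := by
    refine Pur21Lib.isOpen_singleton_of_isolated _ (fun y hy => Subtype.ext (hgenX _ (hy.map continuous_subtype_val)))
      (fun y hy => Subtype.ext ?_)
    have := (hy.map continuous_subtype_val).mem_closed hx rfl
    exact this
  have hopenX : IsOpen ({x} : Set X) := by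
    have h := W.ι.isOpenEmbedding.isOpenMap _ hopen
    have h1 : (W.ι '' {⟨x, hxW⟩} : Set X) = {x} := Set.image_singleton
    rw [← h1]
    exact h
  have hdim := Unram17Lib.localDim_of_smoothOfRelativeDimension k qX 1 x
  have hle : FlatMor.localDim X x ≤ topologicalKrullDim ((⟨{x}, hopenX⟩ : X.Opens) : Set X) :=
    iInf_le (fun U : {U : TopologicalSpace.Opens X // x ∈ U} => topologicalKrullDim (U.1 : Set X)) ⟨⟨{x}, hopenX⟩, rfl⟩
  have hzero : topologicalKrullDim ((⟨{x}, hopenX⟩ : X.Opens) : Set X) ≤ 0 := by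
    haveI : Subsingleton ↥((⟨{x}, hopenX⟩ : X.Opens) : Set X) := ⟨fun a b => Subtype.ext (a.2.trans b.2.symm)⟩
    haveI : Subsingleton (TopologicalSpace.IrreducibleCloseds ↥((⟨{x}, hopenX⟩ : X.Opens) : Set X)) := ⟨fun P Q => by
      apply SetLike.coe_injective
      refine Set.ext fun a => ⟨fun _ => ?_, fun _ => ?_⟩
      · obtain ⟨c, hc⟩ := Q.isIrreducible.nonempty
        exact (Subsingleton.elim a c) ▸ hc
      · obtain ⟨c, hc⟩ := P.isIrreducible.nonempty
        exact (Subsingleton.elim a c) ▸ hc⟩
    exact Order.krullDim_nonpos_of_subsingleton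
  rw [hdim] at hle
  exact absurd (hle.trans hzero) (by norm_num)

end Groth.Agent.S16548
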