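import Groth.Statements.S1655
-- import your own Groth.Agent.* helpers here
import Groth.Agent.S5094
import Groth.Agent.EGA43.Unibranch.Open

set_option autoImplicit false
universe u
open CategoryTheory CategoryTheory.Limits AlgebraicGeometry
open Variety

namespace Groth.Agent.S1655

/-- Let X be a Noetherian integral scheme, Y an integral scheme, and f : Y → X a proper morphism that
restricts to an isomorphism over some nonempty open subscheme of X. If x is a point of X whose local
ring is integrally closed and f is quasi-finite at some point lying over x, then f restricts to an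
isomorphism over an open neighbourhood of x. -/
theorem result {X Y : Scheme.{u}} [IsNoetherian X] [IsIntegral X] [IsIntegral Y]
    (f : Y ⟶ X) [IsProper f] (W : X.Opens) (hW : (W : Set X).Nonempty) (hfW : IsIso (f ∣_ W))
    (x : X) (hx : IsIntegrallyClosed (X.presheaf.stalk x)) (y : Y) (hy : f.base y = x) (hq : f.QuasiFiniteAt y) :
    ∃ V : X.Opens, x ∈ V ∧ IsIso (f ∣_ V) := by
  haveI := hfW
  obtain ⟨w, hw⟩ := hW
  let v := (CategoryTheory.inv (f ∣_ W)).base ⟨w, hw⟩
  have hηY : genericPoint Y ∈ f ⁻¹ᵁ W := (genericPoint_specializes v.1).mem_open (f ⁻¹ᵁ W).isOpen v.2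
  have hgen : f (genericPoint Y) = genericPoint X := by
    haveI : IsDominant f := ⟨by
      refine Dense.mono ?_ (W.isOpen.dense ⟨w, hw⟩)
      intro a ha
      obtain ⟨b, hb⟩ := (f ∣_ W).homeomorph.surjective ⟨a, ha⟩
      exact ⟨b.1, (morphismRestrict_base_coe f W b).symm.trans (congrArg Subtype.val hb)⟩⟩
    exact Groth.Agent.EGA43.Unibranch.map_genericPoint_of_isDominant f
  have hbir : IsIso (f.stalkMap (genericPoint Y)) :=
    ((MorphismProperty.isomorphisms CommRingCat).arrow_mk_iso_iff
      (morphismRestrictStalkMap f W ⟨genericPoint Y, hηY⟩)).1 (inferInstanceAs (IsIso ((f ∣_ W).stalkMap _)))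
  subst hy
  exact Groth.Agent.S5094.result f hgen hbir (f.base y) hx (f.asFiber y)
    (Scheme.Hom.quasiFiniteAt_iff_isOpen_singleton_asFiber.1 hq)

end Groth.Agent.S1655
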