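import Groth.Statements.S16554
import Groth.Agent.Inters29.HorizLength

set_option autoImplicit false
universe u
open CategoryTheory CategoryTheory.Limits AlgebraicGeometry
attribute [local instance] Curv2.resAlgebra
open Models
open Groth.Agent

namespace Groth.Agent.S16554

/-- Let R be a Henselian discrete valuation ring with algebraically closed residue field and fraction
field K, C a smooth proper curve over K with H^0(C, O_C) = K, and XR a regular model of C over R: an
integral scheme all of whose local rings are regular, proper and flat over Spec R, with generic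
fibre identified with C through iX. Let x be a closed point of the special fibre of XR and Γ_1, ...,
Γ_n vertical prime divisors with pairwise distinct supports which are exactly the irreducible
components of the special fibre containing x, with multiplicities r_1, ..., r_n. If P is a closed
point of C whose closure in XR meets the special fibre only in x, then the degree [κ(P) : K] equals
c_1 r_1 + ... + c_n r_n for some positive integers c_i. -/
theorem result
    (R : Type u) [CommRing R] [IsDomain R] [IsDiscreteValuationRing R] [HenselianLocalRing R]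
    (hk : IsAlgClosed (IsLocalRing.ResidueField R))
    (C : Scheme.{u}) [C.Over (Spec (CommRingCat.of (FractionRing R)))]
    (hC : Curve.IsSmoothProperCurve (FractionRing R) C (C ↘ Spec (CommRingCat.of (FractionRing R))))
    (hC0 : IsIso (C ↘ Spec (CommRingCat.of (FractionRing R))).appTop)
    (XR : Over (Spec (CommRingCat.of R))) [IsIntegral XR.left]
    (hreg : ∀ y : XR.left, IsRegularLocalRing (XR.left.presheaf.stalk y))
    [IsProper XR.hom] [Flat XR.hom]
    (iX : C ⟶ XR.left)
    (hiX : IsPullback iX (C ↘ Spec (CommRingCat.of (FractionRing R))) XR.hom (Spec.map (CommRingCat.ofHom (algebraMap R (FractionRing R)))))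
    (x : XR.left) (hx : IsClosed ({x} : Set XR.left)) (hxs : x ∈ Models.specialFibreSet R XR)
    {n : ℕ} (Γ : Fin n → ArSurf.VertComp R XR)
    (hinj : Function.Injective fun i => Set.range ((Γ i).ι.base : (Γ i).curve.left → XR.left))
    (hΓ : ∀ Z ∈ Models.fibreComponents R XR,
      x ∈ Z ↔ ∃ i, Set.range ((Γ i).ι.base : (Γ i).curve.left → XR.left) = Z)
    (P : C) (hP : IsClosed ({P} : Set C))
    (hPx : closure ({iX.base P} : Set XR.left) ∩ Models.specialFibreSet R XR = {x}) :
    ∃ c : Fin n → ℕ, (∀ i, 1 ≤ c i) ∧
      Module.finrank (FractionRing R) (C.residueField P) = ∑ i, c i * Models.mult R XR (Γ i) := by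
  classical
  haveI := hk
  obtain ⟨hfp, hfs, hCint, hCdim⟩ := hC
  haveI := hfp
  haveI := hCint
  let f := C ↘ Spec (CommRingCat.of (FractionRing R))
  have hflft : LocallyOfFiniteType f := inferInstance
  have htr := Inters29.trdAt_genericPoint R (X := XR) f hCdim iX hiX
  have hdim := Inters29.topologicalKrullDim_eq_two R (X := XR) htr
  haveI := Inters29.isLocallyNoetherian_of_isProper R (X := XR)
  obtain ⟨m, Δ, hΔ⟩ := Inters29.exists_componentList R (X := XR) hdim
  let F := Models.specialFibreSet R XR
  let gp := fun G : ArSurf.VertComp R XR => G.ι (genericPoint G.curve.left)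
  -- the given curves are components
  have hcomp : ∀ i, ∃ j, Set.range (Δ j).ι.base = Set.range (Γ i).ι.base := fun i => by
    obtain ⟨j, hj⟩ := Inters29.exists_genPt_specializes R Δ hΔ (z := gp (Γ i)) (Inters29.hom_ι_eq R (Γ i) _)
    refine ⟨j, by_contra fun hne => ?_⟩
    refine Inters29.genericPoint_notMem R (Γ i) (Δ j) hreg hdim.le (Ne.symm hne) ?_
    rw [Inters29.support_ker_eq]
    exact hj.mem_closed (Δ j).ι.isClosedEmbedding.isClosed_range ⟨_, rfl⟩
  choose σ hσ using hcomp
  have hσinj : Function.Injective σ := fun i i' h => hinj (show Set.range (Γ i).ι.base = Set.range (Γ i').ι.base by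
    rw [← hσ i, ← hσ i', h])
  have hσmem : ∀ j, x ∈ Set.range (Δ j).ι.base ↔ ∃ i, σ i = j := fun j => by
    have hmemZ : Set.range (Δ j).ι.base ∈ Models.fibreComponents R XR := hΔ.2 ▸ ⟨j, rfl⟩
    rw [hΓ _ hmemZ]
    exact ⟨fun ⟨i, hi⟩ => ⟨i, hΔ.1 (show Set.range (Δ (σ i)).ι.base = _ from (hσ i).trans hi)⟩,
      fun ⟨i, hi⟩ => ⟨i, hi ▸ (hσ i).symm⟩⟩
  have hmult : ∀ i, Models.mult R XR (Γ i) = Models.mult R XR (Δ (σ i)) := fun i => by
    have key : ∀ a b : XR.left, a = b →
        (Module.length (XR.left.presheaf.stalk a) (XR.left.presheaf.stalk a ⧸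
          Ideal.map (Models.stalkHom R XR a) (IsLocalRing.maximalIdeal R))).toNat =
        (Module.length (XR.left.presheaf.stalk b) (XR.left.presheaf.stalk b ⧸
          Ideal.map (Models.stalkHom R XR b) (IsLocalRing.maximalIdeal R))).toNat := by
      rintro _ _ rfl; rfl
    refine key _ _ ((Inters29.genPt_isGenericPoint R (Γ i)).eq ?_)
    rw [← hσ i]
    exact Inters29.genPt_isGenericPoint R (Δ (σ i))
  -- the horizontal point
  haveI := Inters29.isOpenImmersion_generic R
  haveI : IsOpenImmersion iX := MorphismProperty.of_isPullback (P := @IsOpenImmersion) hiX.flip inferInstance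
  let w := iX P
  have hnot : ∀ c : C, iX c ∉ F := fun c hc => by
    have hc' : XR.hom (iX c) = IsLocalRing.closedPoint R := hc
    rw [← Scheme.Hom.comp_apply, hiX.w, Scheme.Hom.comp_apply,
      Subsingleton.elim (f c) (⟨⊥, Ideal.isPrime_bot⟩ : PrimeSpectrum (FractionRing R))] at hc'
    exact Inters29.bot_ne_closedPoint R
      ((PrimeSpectrum.ext (Ideal.comap_bot_of_injective _ (IsFractionRing.injective R (FractionRing R))).symm).trans hc')
  have hwx : w ⤳ x := specializes_iff_mem_closure.2 (hPx.ge (Set.mem_singleton x)).1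
  have hpts : ∀ v, w ⤳ v → v = w ∨ v = x := by
    intro v hv
    by_cases hvF : v ∈ F
    · exact Or.inr (hPx.le ⟨specializes_iff_mem_closure.1 hv, hvF⟩)
    have hb := (Inters29.base_eq_bot_or_closedPoint R (XR.hom v)).resolve_right hvF
    obtain ⟨c, hc, -⟩ := Scheme.exists_preimage_of_isPullback hiX v
      (⟨⊥, Ideal.isPrime_bot⟩ : PrimeSpectrum (FractionRing R))
      (by rw [hb]; exact PrimeSpectrum.ext (Ideal.comap_bot_of_injective _ (IsFractionRing.injective R (FractionRing R))).symm)
    have hPc : P ⤳ c := iX.isEmbedding.specializes_iff.1 (hc.symm ▸ hv)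
    exact Or.inl (by rw [← hc, show c = P from hPc.mem_closed hP rfl])
  let A := XR.left.presheaf.stalk x
  let L := XR.left.residueField w
  let ψ : A →+* L := Inters29.specRes hwx
  letI : Algebra R A := (Models.stalkHom R XR x).toAlgebra
  letI algL : Algebra R L := (ψ.comp (Models.stalkHom R XR x)).toAlgebra
  obtain ⟨N, hN, hψN⟩ := Inters29.exists_fg_range R hwx (hnot P) hxs hpts
  let ψA : A →ₐ[R] L := { ψ with commutes' := fun r => rfl }
  let B : Subalgebra R L := ψA.range
  haveI : IsNoetherian R N := isNoetherian_of_fg_of_noetherian N hN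
  haveI : Module.Finite R B := by
    have hle : Subalgebra.toSubmodule B ≤ N := by
      rintro _ ⟨a, rfl⟩; exact hψN a
    exact Module.Finite.of_injective (Submodule.inclusion hle) (Submodule.inclusion_injective hle)
  obtain ⟨ϖ, hϖ⟩ := IsDiscreteValuationRing.exists_irreducible R
  -- the residue field as a field over `K`
  let K := FractionRing R
  let e : L →+* C.residueField P := (iX.residueFieldMap P).hom
  have he : Function.Bijective e := ConcreteCategory.bijective_of_isIso (iX.residueFieldMap P)
  let eL := RingEquiv.ofBijective e he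
  letI algKL : Algebra K L := (eL.symm.toRingHom.comp (Curv2.resMap K C P)).toAlgebra
  have hsmul : ∀ (c : K) (l : L), e (c • l) = c • e l := fun c l => by
    show e (algebraMap K L c * l) = Curv2.resMap K C P c * e l
    rw [map_mul]
    exact congrArg (· * e l) (eL.apply_symm_apply _)
  let eK : L →ₗ[K] C.residueField P := { toFun := e, map_add' := map_add e, map_smul' := hsmul }
  have hKL : Module.finrank K (C.residueField P) = Module.finrank K L :=
    (LinearEquiv.ofBijective eK he).finrank_eq.symm
  haveI : IsScalarTower R K L := IsScalarTower.of_algebraMap_eq fun r => by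
    apply he.1
    refine Eq.trans ?_ (eL.apply_symm_apply _).symm
    show iX.residueFieldMap P (XR.left.residue _ (XR.left.presheaf.stalkSpecializes hwx
      (XR.left.presheaf.germ ⊤ x trivial (XR.hom.appTop ((Scheme.ΓSpecIso (CommRingCat.of R)).inv r))))) =
      C.residue P (C.presheaf.germ ⊤ P trivial (f.appTop ((Scheme.ΓSpecIso (CommRingCat.of K)).inv (algebraMap R K r))))
    rw [TopCat.Presheaf.germ_stalkSpecializes_apply]
    refine (Scheme.Γevaluation_naturality_apply iX P _).trans (congrArg (C.Γevaluation P) ?_)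
    rw [← ConcreteCategory.comp_apply, ← Scheme.Hom.comp_appTop, hiX.w, Scheme.Hom.comp_appTop, ConcreteCategory.comp_apply]
    exact congrArg f.appTop (ConcreteCategory.congr_hom
      (Scheme.ΓSpecIso_inv_naturality (CommRingCat.ofHom (algebraMap R K))) r).symm
  have hinjR : Function.Injective (algebraMap R L) := by
    rw [IsScalarTower.algebraMap_eq R K L]
    exact (algebraMap K L).injective.comp (IsFractionRing.injective R K)
  have hinjB : Function.Injective (algebraMap R B) := fun a b h => hinjR (congrArg Subtype.val h)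
  haveI : FaithfulSMul R B := (faithfulSMul_iff_algebraMap_injective R B).2 hinjB
  haveI : IsLocalRing B := HenselLib.Olivier.isLocalRing_of_integral_domain (A := R) B
  haveI : IsLocalHom (algebraMap R B) := Algebra.IsIntegral.isLocalHom R B
  haveI : Nontrivial B := inferInstance
  haveI : IsFractionRing B L := IsFractionRing.of_field B L fun z => by
    obtain ⟨a, s, hz⟩ := Inters29.exists_div_eq hwx z
    exact ⟨⟨ψA a, a, rfl⟩, ⟨ψA s, s, rfl⟩, hz⟩
  haveI : Module.Free R B := Module.free_of_finite_type_torsion_free'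
  have hrank : Module.finrank K L = Module.finrank R B := IsFractionRing.finrank_eq R K B L
  have hord : Ring.ord B (algebraMap R B ϖ) = Module.finrank R B := Inters29.ord_eq_finrank hϖ
  -- factorisation
  let τ : A →+* B := ψA.rangeRestrict.toRingHom
  have hτ : Function.Surjective τ := ψA.rangeRestrict_surjective
  have hDe := Inters29.isEffCartier_listComp R Δ hreg hΔ
  choose d hd0 hd using fun j => Misc15.DivDescent.exists_gen (hDe j) x
  let r := fun j => Models.mult R XR (Δ j)
  have hspan : Ideal.span {algebraMap R A ϖ} = Ideal.span {∏ j, d j ^ r j} := by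
    rw [show algebraMap R A ϖ = Models.stalkHom R XR x ϖ from rfl, ← Inters29.stk_specialFibreIdeal_span R hϖ,
      Inters29.specialFibreIdeal_eq_prod R Δ hreg hΔ, SDiv28.CartierPart.stk_prod, ← Ideal.prod_span_singleton]
    refine Finset.prod_congr rfl fun j _ => ?_
    rw [SDiv28.CartierPart.stk_pow, hd j, Ideal.span_singleton_pow]
  have hdB : Ring.ord B (algebraMap R B ϖ) = ∑ j, r j • Ring.ord B (τ (d j)) ∧ ∀ j, 0 < r j → τ (d j) ≠ 0 := by
    have hassoc : Associated (algebraMap R B ϖ) (∏ j, τ (d j) ^ r j) := by
      rw [show algebraMap R B ϖ = τ (algebraMap R A ϖ) from (ψA.rangeRestrict.commutes ϖ).symm,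
        show ∏ j, τ (d j) ^ r j = τ (∏ j, d j ^ r j) by simp [map_prod]]
      exact ((Ideal.span_singleton_eq_span_singleton).1 hspan).map τ
    have hne : ∏ j, τ (d j) ^ r j ≠ 0 := fun h0 => hϖ.ne_zero (hinjB (by
      rw [map_zero, ← associated_zero_iff_eq_zero, ← h0]; exact hassoc))
    have hne' : ∀ j, τ (d j) ^ r j ≠ 0 := fun j => (Finset.prod_ne_zero_iff.1 hne) j (Finset.mem_univ _)
    refine ⟨?_, fun j hj h0 => hne' j (by rw [h0, zero_pow hj.ne'])⟩
    rw [Ring.ord_eq_of_associated hassoc]
    clear hassoc hne
    induction (Finset.univ : Finset (Fin m)) using Finset.induction_on with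
    | empty => simp
    | insert j t hj ih =>
      rw [Finset.prod_insert hj, Finset.sum_insert hj,
        Ring.ord_mul' B (mem_nonZeroDivisors_of_ne_zero (hne' j)), ih]
      congr 1
      rcases eq_or_ne (τ (d j)) 0 with h0 | h0
      · have hr : r j = 0 := by
          by_contra hr
          exact hne' j (by rw [h0, zero_pow hr])
        simp [hr]
      · exact Ring.ord_pow (mem_nonZeroDivisors_of_ne_zero h0) _
  -- unit off the components through `x`
  have hoff : ∀ j, (¬ ∃ i, σ i = j) → Ring.ord B (τ (d j)) = 0 := fun j hj => by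
    refine Ring.ord_of_isUnit (IsUnit.map τ (Ideal.span_singleton_eq_top.1 ?_))
    rw [← hd j]
    refine SDiv28.CartierPart.stk_eq_top ?_
    rw [← SetLike.mem_coe, Inters29.support_ker_eq, hσmem]
    exact hj
  have hpos : ∀ i, 0 < r (σ i) := fun i => by
    refine Nat.pos_of_ne_zero fun h0 => ?_
    have h := Inters29.stk_specialFibreIdeal_genPt R Δ hreg hΔ (σ i)
    rw [show Models.mult R XR (Δ (σ i)) = 0 from h0, pow_zero, Ideal.one_eq_top] at h
    have hg : SDiv28.CartierPart.gen (Δ (σ i)).ι.ker ∈ (Models.specialFibreIdeal R XR).support := by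
      rw [← SetLike.mem_coe, Inters29.support_specialFibreIdeal, Inters29.gen_ker]
      exact Inters29.hom_ι_eq R (Δ (σ i)) _
    exact Ideal.IsPrime.ne_top inferInstance (top_le_iff.1 (h ▸ (SDiv28.CartierPart.mem_support_iff_stk _ _).1 hg))
  have hon : ∀ i, 1 ≤ Ring.ord B (τ (d (σ i))) := fun i => by
    rw [ENat.one_le_iff_ne_zero, Ring.ord, Ne, Module.length_eq_zero_iff, Submodule.Quotient.subsingleton_iff,
      Ideal.span_singleton_eq_top]
    intro hu
    haveI : IsLocalHom τ := IsLocalHom.of_surjective τ hτ
    have hu' : IsUnit (d (σ i)) := isUnit_of_map_unit τ _ hu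
    have hsupp : x ∈ ((Δ (σ i)).ι.ker.support : Set XR.left) := by
      rw [Inters29.support_ker_eq]; exact (hσmem _).2 ⟨i, rfl⟩
    have h := (SDiv28.CartierPart.mem_support_iff_stk _ _).1 hsupp
    rw [hd (σ i), Ideal.span_singleton_eq_top.2 hu'] at h
    exact Ideal.IsPrime.ne_top inferInstance (top_le_iff.1 h)
  have hfin : ∀ i, Ring.ord B (τ (d (σ i))) ≠ ⊤ := fun i htop => by
    have h := hdB.1
    rw [hord, ← Finset.sum_erase_add _ _ (Finset.mem_univ (σ i)), htop, nsmul_eq_mul,
      ENat.mul_top (by exact_mod_cast (hpos i).ne'), add_top] at h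
    exact ENat.natCast_ne_top _ h
  refine ⟨fun i => (Ring.ord B (τ (d (σ i)))).toNat, fun i => ?_, ?_⟩
  · have h := hon i
    rw [← ENat.coe_toNat (hfin i)] at h
    exact_mod_cast h
  · rw [hKL, hrank]
    have h := hdB.1
    rw [hord] at h
    have h2 : ∑ j, r j • Ring.ord B (τ (d j)) = ∑ i, r (σ i) • Ring.ord B (τ (d (σ i))) := by
      rw [← Finset.sum_image (f := fun j => r j • Ring.ord B (τ (d j))) (hσinj.injOn)]
      refine (Finset.sum_subset (Finset.subset_univ _) fun j _ hj => ?_).symm
      rw [hoff j fun ⟨i, hi⟩ => hj (Finset.mem_image.2 ⟨i, Finset.mem_univ _, hi⟩), smul_zero]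
    rw [h2] at h
    have h3 : ((Module.finrank R B : ℕ) : ℕ∞) =
        ((∑ i, (Ring.ord B (τ (d (σ i)))).toNat * Models.mult R XR (Γ i) : ℕ) : ℕ∞) := by
      rw [h, Nat.cast_sum]
      refine Finset.sum_congr rfl fun i _ => ?_
      rw [Nat.cast_mul, ENat.coe_toNat (hfin i), nsmul_eq_mul, hmult i, mul_comm]
    exact_mod_cast h3

end Groth.Agent.S16554
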