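import Groth.Statements.S16559
import Groth.Agent.Surf15.SerreApps
import Groth.Agent.Surf15.PlaneBlowup
import Groth.Agent.Surf15.DetExist
-- import your own Groth.Agent.* helpers here

set_option autoImplicit false
universe u
open CategoryTheory CategoryTheory.Limits AlgebraicGeometry TopologicalSpace
open Surf

open TopologicalSpace
open Groth.Agent.Coherent Groth.Agent.PicLib Groth.Agent.AmpleLib Groth.Agent.EulerLib Groth.Agent.CurveRR24 Groth.Agent.DimLib Groth.Agent.Surf15
set_option linter.style.haveILetI false
set_option backward.isDefEq.respectTransparency.types false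

namespace Groth.Agent.S16559

/-- Let k be an algebraically closed field, p_1, …, p_r distinct closed points of the projective plane
P²_k and σ : X → P²_k the blow-up of P²_k in the ideal of the reduced finite set {p_1, …, p_r}
(universal property), X being regarded over k through σ; X is then an integral smooth proper surface
(carried as hypotheses). Write H = σ^*O(1), (L·M) = χ(O_X) − χ(L) − χ(M) + χ(L ⊗ M) for the
intersection number of invertible modules L, M, and for a closed subscheme C ⊆ X with ideal I_C
write (L·C) = χ(O_C ⊗ L) − χ(O_C) and C² = (I_C·I_C). If L is an invertible O_X-module with (L·H) ≥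
−2, then H²(X, L) = 0. (The source takes the points in general position; that assumption plays no
role here.) -/
theorem result (k : Type u) [Field k] [IsAlgClosed k]
    (r : ℕ) (P : Fin r → ↥(CohB1.ProjSpace 2 k)) (hP : Function.Injective P)
    (hPc : ∀ i, IsClosed ({P i} : Set ↥(CohB1.ProjSpace 2 k))) (hZ : IsClosed (Set.range P))
    (X : Scheme.{u}) [X.Over (Spec (CommRingCat.of k))] (σ : X ⟶ CohB1.ProjSpace 2 k)
    (hσk : σ ≫ CohB1.ProjSpace.toSpec 2 k = X ↘ (Spec (CommRingCat.of k)))
    (hσ : BlowUp.IsBlowUp σ (Scheme.IdealSheafData.vanishingIdeal ⟨Set.range P, hZ⟩))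
    [IsIntegral X] [IsProper (X ↘ (Spec (CommRingCat.of k)))] [Smooth (X ↘ (Spec (CommRingCat.of k)))] (hdim : topologicalKrullDim X = 2)
    (L : X.Modules) (hL : PicF.IsInvertible L) (hLH : -2 ≤ FGA.intNum k X 2 ![L, ((Scheme.Modules.pullback σ).obj (Twist.twistProjSpace 2 k 1))] (Coh.structureModule X)) :
    Subsingleton (Coh.HH X L 2) := by
  have hX : topologicalKrullDim X = ((2 : ℕ) : WithBot ℕ∞) := by exact_mod_cast hdim
  haveI := isSeparated_of_proper (X := X) k
  haveI := Groth.Agent.GenSmoothLib.smoothOfRelativeDimension_toField (X ↘ Spec (CommRingCat.of k)) hX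
  obtain ⟨W, hWd⟩ := exists_isExtPow (Groth.Agent.Canon15.isFinLocFreeOfRank_omega (X ↘ Spec (CommRingCat.of k)) 2)
  have hWi := isInvertible_canonical k hX hWd
  obtain ⟨-, -, hHW⟩ := planeBlowup_invariants k P hPc hZ σ hσk hσ hX hWd hWi
  refine subsingleton_h2_of_nef k hX hWd hWi (fun y hy => deg_pullback_twist_one_nonneg k σ y hy.le) hL ?_
  rw [intNum_eq_B k hX.le hL (PicLoc.isInvertible_pullback σ (isInvertible_twist_one_field k 2))] at hLH
  rw [B_comm k (InvCl.mk W hWi)]
  linarith

end Groth.Agent.S16559
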