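import Groth.Statements.S16561
import Groth.Agent.Surf15.PlaneBlowup
import Groth.Agent.Surf15.PlaneNef
import Groth.Agent.Surf15.SerreApps
import Groth.Agent.Surf15.DetExist
open TopologicalSpace
open Groth.Agent.Coherent Groth.Agent.PicLib Groth.Agent.AmpleLib Groth.Agent.EulerLib Groth.Agent.CurveRR24 Groth.Agent.DimLib Groth.Agent.Surf15
set_option linter.style.haveILetI false
set_option maxHeartbeats 800000
set_option backward.isDefEq.respectTransparency.types false

set_option autoImplicit false
universe u
open CategoryTheory CategoryTheory.Limits AlgebraicGeometry TopologicalSpace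
open Surf

set_option backward.isDefEq.respectTransparency.types false
set_option backward.isDefEq.respectTransparency false

namespace Groth.Agent.S16561


/-- Let k be an algebraically closed field, p_1, …, p_r distinct closed points of the projective plane
P²_k and σ : X → P²_k the blow-up of P²_k in the ideal of the reduced finite set {p_1, …, p_r}
(universal property), X being regarded over k through σ; X is then an integral smooth proper surface
(carried as hypotheses). Write H = σ^*O(1), (L·M) = χ(O_X) − χ(L) − χ(M) + χ(L ⊗ M) for the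
intersection number of invertible modules L, M, and for a closed subscheme C ⊆ X with ideal I_C
write (L·C) = χ(O_C ⊗ L) − χ(O_C) and C² = (I_C·I_C). A (−1)-curve is an integral closed
one-dimensional subscheme E ⊆ X with H¹(E, O_E) = 0 and E² = −1. Let L be an invertible O_X-module,
d = (L·H), χ⁻ = max(−χ(L), 0), and E a (−1)-curve with (H·E) ≤ d + 2. If dim_k H¹(X, L) = χ⁻, then
(L·E) ≥ −1 − χ⁻. (The source takes the points in general position; that assumption plays no role
here.) -/
theorem result (k : Type u) [Field k] [IsAlgClosed k]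
    (r : ℕ) (P : Fin r → ↥(CohB1.ProjSpace 2 k)) (hP : Function.Injective P)
    (hPc : ∀ i, IsClosed ({P i} : Set ↥(CohB1.ProjSpace 2 k))) (hZ : IsClosed (Set.range P))
    (X : Scheme.{u}) [X.Over (Spec (CommRingCat.of k))] (σ : X ⟶ CohB1.ProjSpace 2 k)
    (hσk : σ ≫ CohB1.ProjSpace.toSpec 2 k = X ↘ (Spec (CommRingCat.of k)))
    (hσ : BlowUp.IsBlowUp σ (Scheme.IdealSheafData.vanishingIdeal ⟨Set.range P, hZ⟩))
    [IsIntegral X] [IsProper (X ↘ (Spec (CommRingCat.of k)))] [Smooth (X ↘ (Spec (CommRingCat.of k)))] (hdim : topologicalKrullDim X = 2)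
    (L : X.Modules) (hL : PicF.IsInvertible L)
    (E : X.IdealSheafData) (hEi : IsIntegral E.subscheme) (hE1 : topologicalKrullDim (E.support : Set X) = 1)
    (hEg : Subsingleton (Coh.HH E.subscheme (Coh.structureModule E.subscheme) 1))
    (hEE : FGA.intNum k X 2 ![ClSub.idealMod E, ClSub.idealMod E] (Coh.structureModule X) = -1)
    (hEH : (Curv2.euler k X (CohB1.tensorMod (ClSub.quotMod E) ((Scheme.Modules.pullback σ).obj (Twist.twistProjSpace 2 k 1))) - Curv2.euler k X (ClSub.quotMod E)) ≤ FGA.intNum k X 2 ![L, ((Scheme.Modules.pullback σ).obj (Twist.twistProjSpace 2 k 1))] (Coh.structureModule X) + 2)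
    (h1 : (Module.finrank k (Coh.HH X L 1) : ℤ) = max (-Curv2.euler k X L) 0) :
    -1 - max (-Curv2.euler k X L) 0 ≤ (Curv2.euler k X (CohB1.tensorMod (ClSub.quotMod E) L) - Curv2.euler k X (ClSub.quotMod E)) := by
  have hX : topologicalKrullDim X = ((2 : ℕ) : WithBot ℕ∞) := by exact_mod_cast hdim
  have hE1' : topologicalKrullDim (E.support : Set X) = ((1 : ℕ) : WithBot ℕ∞) := by exact_mod_cast hE1
  haveI := isNoetherian_of_proper (X := X) k
  haveI := isSeparated_of_proper (X := X) k
  haveI := Groth.Agent.GenSmoothLib.smoothOfRelativeDimension_toField (X ↘ Spec (CommRingCat.of k)) hX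
  obtain ⟨W, hWd⟩ := exists_isExtPow (Groth.Agent.Canon15.isFinLocFreeOfRank_omega (X ↘ Spec (CommRingCat.of k)) 2)
  have hWi := isInvertible_canonical k hX hWd
  obtain ⟨-, -, hHW⟩ := planeBlowup_invariants k P hPc hZ σ hσk hσ hX hWd hWi
  have hEc := isEffCartier_of_curve k hX hEi hE1'
  have hI := Groth.Agent.FlatMor12.IdealModGen.isInvertible_idealMod E hEc
  have hH := PicLoc.isInvertible_pullback σ (isInvertible_twist_one_field k 2)
  rw [intNum_eq_B k hX.le hL hH] at hEH
  rw [← deg_mk k _ hH, deg_quotMod k hEc] at hEH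
  have hIL := isInvertible_tensorMod hI hL
  have h2 : Subsingleton (Coh.HH X (CohB1.tensorMod (ClSub.idealMod E) L) 2) := by
    refine subsingleton_h2_of_nef k hX hWd hWi (fun y hy => deg_pullback_twist_one_nonneg k σ y hy.le) hIL ?_
    rw [← InvCl.mk_mul hI hL, B_mul_left k hX.le, B_comm k (InvCl.mk W hWi)]
    change _ < B k (clI' E hEc) (InvCl.mk _ hH) + _
    linarith
  obtain ⟨-, hχ, -⟩ := curve_facts k E hE1' hL
  have hQ : Coh.IsCoh (CohB1.tensorMod (ClSub.quotMod E) L) := isCoh_twist hL (isCoh_quotMod E)
  have hM : Coh.IsCoh (CohB1.tensorMod (Coh.structureModule X) L) := isCoh_twist hL (isCoh_structureModule X)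
  have hle : Module.finrank k (Coh.HH X (CohB1.tensorMod (ClSub.quotMod E) L) 1) ≤
      Module.finrank k (Coh.HH X (CohB1.tensorMod (Coh.structureModule X) L) 1) :=
    haveI := finite_HH_of_isCoh k hM 1
    LinearMap.finrank_le_finrank_of_surjective
      (SerreDual.hmap_surjective_of_shortExact (k := k) (twistSeq_shortExact hL (shortExact_ideal E)) 1 h2)
  rw [finrank_HH_congr k (unitTensorIso L) 1] at hle
  have h3 := euler_three k hX.le hQ.1
  have := le_max_left (-Curv2.euler k X L) 0
  omega

end Groth.Agent.S16561
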