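import Groth.Statements.S16562
import Groth.Agent.Surf15.PlaneNef
-- import your own Groth.Agent.* helpers here

set_option autoImplicit false
universe u
open CategoryTheory CategoryTheory.Limits AlgebraicGeometry TopologicalSpace
open Surf

open TopologicalSpace
open Groth.Agent.Coherent Groth.Agent.PicLib Groth.Agent.AmpleLib Groth.Agent.EulerLib Groth.Agent.CurveRR24 Groth.Agent.DimLib Groth.Agent.Surf15
set_option linter.style.haveILetI false
set_option backward.isDefEq.respectTransparency.types false

namespace Groth.Agent.S16562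

/-- Let k be an algebraically closed field, p_1, …, p_r distinct closed points of the projective plane
P²_k and σ : X → P²_k the blow-up of P²_k in the ideal of the reduced finite set {p_1, …, p_r}
(universal property), X being regarded over k through σ; X is then an integral smooth proper surface
(carried as hypotheses). Write H = σ^*O(1), (L·M) = χ(O_X) − χ(L) − χ(M) + χ(L ⊗ M) for the
intersection number of invertible modules L, M, and for a closed subscheme C ⊆ X with ideal I_C
write (L·C) = χ(O_C ⊗ L) − χ(O_C) and C² = (I_C·I_C). A (−1)-curve is an integral closed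
one-dimensional subscheme E ⊆ X with H¹(E, O_E) = 0 and E² = −1. If L is an invertible O_X-module
and E a (−1)-curve whose H-degree satisfies 2(H·E) > (L·H), and (L·E) < −1, then H⁰(X, L) = 0. (The
source takes the points in general position; that assumption plays no role here.) -/
theorem result (k : Type u) [Field k] [IsAlgClosed k]
    (r : ℕ) (P : Fin r → ↥(CohB1.ProjSpace 2 k)) (hP : Function.Injective P)
    (hPc : ∀ i, IsClosed ({P i} : Set ↥(CohB1.ProjSpace 2 k))) (hZ : IsClosed (Set.range P))
    (X : Scheme.{u}) [X.Over (Spec (CommRingCat.of k))] (σ : X ⟶ CohB1.ProjSpace 2 k)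
    (hσk : σ ≫ CohB1.ProjSpace.toSpec 2 k = X ↘ (Spec (CommRingCat.of k)))
    (hσ : BlowUp.IsBlowUp σ (Scheme.IdealSheafData.vanishingIdeal ⟨Set.range P, hZ⟩))
    [IsIntegral X] [IsProper (X ↘ (Spec (CommRingCat.of k)))] [Smooth (X ↘ (Spec (CommRingCat.of k)))] (hdim : topologicalKrullDim X = 2)
    (L : X.Modules) (hL : PicF.IsInvertible L)
    (E : X.IdealSheafData) (hEi : IsIntegral E.subscheme) (hE1 : topologicalKrullDim (E.support : Set X) = 1)
    (hEg : Subsingleton (Coh.HH E.subscheme (Coh.structureModule E.subscheme) 1))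
    (hEE : FGA.intNum k X 2 ![ClSub.idealMod E, ClSub.idealMod E] (Coh.structureModule X) = -1)
    (hEH : FGA.intNum k X 2 ![L, ((Scheme.Modules.pullback σ).obj (Twist.twistProjSpace 2 k 1))] (Coh.structureModule X) < 2 * (Curv2.euler k X (CohB1.tensorMod (ClSub.quotMod E) ((Scheme.Modules.pullback σ).obj (Twist.twistProjSpace 2 k 1))) - Curv2.euler k X (ClSub.quotMod E)))
    (hLE : (Curv2.euler k X (CohB1.tensorMod (ClSub.quotMod E) L) - Curv2.euler k X (ClSub.quotMod E)) < -1) :
    Subsingleton (Coh.HH X L 0) := by
  have hX : topologicalKrullDim X = ((2 : ℕ) : WithBot ℕ∞) := by exact_mod_cast hdim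
  have hE1' : topologicalKrullDim (E.support : Set X) = ((1 : ℕ) : WithBot ℕ∞) := by exact_mod_cast hE1
  haveI := isNoetherian_of_proper (X := X) k
  have hEc := isEffCartier_of_curve k hX hEi hE1'
  have hI := Groth.Agent.FlatMor12.IdealModGen.isInvertible_idealMod E hEc
  have hH := PicLoc.isInvertible_pullback σ (isInvertible_twist_one_field k 2)
  rw [intNum_eq_B k hX.le hL hH] at hEH
  rw [← deg_mk k _ hH, deg_quotMod k hEc] at hEH
  rw [← deg_mk k _ hL, deg_quotMod k hEc] at hLE
  rw [intNum_eq_B k hX.le hI hI] at hEE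
  have hIL := isInvertible_tensorMod hI hL
  have hIIL := isInvertible_tensorMod hI hIL
  have h1 := h0_twist_eq_of_neg k hE1' hEc hL (by rw [deg_quotMod k hEc]; omega)
  have h2 := h0_twist_eq_of_neg k hE1' hEc hIL (by
    rw [deg_quotMod k hEc, ← InvCl.mk_mul hI hL, B_mul_right k hX.le]
    change B k (clI' E hEc) (clI' E hEc) = -1 at hEE
    change -(B k (clI' E hEc) (clI' E hEc) + B k (clI' E hEc) (InvCl.mk L hL)) < 0
    omega)
  have h0 := subsingleton_h0_of_nef k hX (fun y hy => deg_pullback_twist_one_nonneg k σ y hy.le) hIIL (by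
    rw [← InvCl.mk_mul hI hIL, ← InvCl.mk_mul hI hL, B_mul_left k hX.le, B_mul_left k hX.le]
    change B k (clI' E hEc) (InvCl.mk _ hH) + (B k (clI' E hEc) (InvCl.mk _ hH) + _) < 0
    omega)
  haveI := h0
  rw [Module.finrank_zero_of_subsingleton] at h2
  haveI := finite_HH_of_isCoh k (isCoh_of_isInvertible k hL) 0
  exact (Module.finrank_zero_iff (R := k)).1 (by omega)

end Groth.Agent.S16562
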