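import Groth.Statements.S16563
import Groth.Agent.Surf15.PlaneNef
-- import your own Groth.Agent.* helpers here

set_option autoImplicit false
universe u
open CategoryTheory CategoryTheory.Limits AlgebraicGeometry TopologicalSpace
open Surf

open TopologicalSpace
open Groth.Agent.Coherent Groth.Agent.PicLib Groth.Agent.AmpleLib Groth.Agent.EulerLib Groth.Agent.CurveRR24 Groth.Agent.DimLib Groth.Agent.Surf15
set_option linter.style.haveILetI false
set_option backward.isDefEq.respectTransparency.types false

namespace Groth.Agent.S16563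

/-- Let k be an algebraically closed field, p_1, …, p_r distinct closed points of the projective plane
P²_k and σ : X → P²_k the blow-up of P²_k in the ideal of the reduced finite set {p_1, …, p_r}
(universal property), X being regarded over k through σ; X is then an integral smooth proper surface
(carried as hypotheses). Write H = σ^*O(1), (L·M) = χ(O_X) − χ(L) − χ(M) + χ(L ⊗ M) for the
intersection number of invertible modules L, M, and for a closed subscheme C ⊆ X with ideal I_C
write (L·C) = χ(O_C ⊗ L) − χ(O_C) and C² = (I_C·I_C). A (−1)-curve is an integral closed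
one-dimensional subscheme E ⊆ X with H¹(E, O_E) = 0 and E² = −1. Let L be an invertible O_X-module
and E a (−1)-curve with ideal I_E such that (L·E) = −s with s > 1. Then dim_k H⁰(X, L ⊗ I_E^s) =
dim_k H⁰(X, L); equivalently the injection H⁰(X, L ⊗ I_E^s) → H⁰(X, L) induced by I_E^s ⊆ O_X is
bijective. (The source takes the points in general position; that assumption plays no role here.) -/
theorem result (k : Type u) [Field k] [IsAlgClosed k]
    (r : ℕ) (P : Fin r → ↥(CohB1.ProjSpace 2 k)) (hP : Function.Injective P)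
    (hPc : ∀ i, IsClosed ({P i} : Set ↥(CohB1.ProjSpace 2 k))) (hZ : IsClosed (Set.range P))
    (X : Scheme.{u}) [X.Over (Spec (CommRingCat.of k))] (σ : X ⟶ CohB1.ProjSpace 2 k)
    (hσk : σ ≫ CohB1.ProjSpace.toSpec 2 k = X ↘ (Spec (CommRingCat.of k)))
    (hσ : BlowUp.IsBlowUp σ (Scheme.IdealSheafData.vanishingIdeal ⟨Set.range P, hZ⟩))
    [IsIntegral X] [IsProper (X ↘ (Spec (CommRingCat.of k)))] [Smooth (X ↘ (Spec (CommRingCat.of k)))] (hdim : topologicalKrullDim X = 2)
    (L : X.Modules) (hL : PicF.IsInvertible L)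
    (E : X.IdealSheafData) (hEi : IsIntegral E.subscheme) (hE1 : topologicalKrullDim (E.support : Set X) = 1)
    (hEg : Subsingleton (Coh.HH E.subscheme (Coh.structureModule E.subscheme) 1))
    (hEE : FGA.intNum k X 2 ![ClSub.idealMod E, ClSub.idealMod E] (Coh.structureModule X) = -1)
    (s : ℕ) (hs : 1 < s) (hLE : (Curv2.euler k X (CohB1.tensorMod (ClSub.quotMod E) L) - Curv2.euler k X (ClSub.quotMod E)) = -(s : ℤ)) :
    Module.finrank k (Coh.HH X (CohB1.tensorMod L (ClSub.idealMod (E ^ s))) 0) = Module.finrank k (Coh.HH X L 0) := by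
  have hX : topologicalKrullDim X = ((2 : ℕ) : WithBot ℕ∞) := by exact_mod_cast hdim
  have hE1' : topologicalKrullDim (E.support : Set X) = ((1 : ℕ) : WithBot ℕ∞) := by exact_mod_cast hE1
  haveI := isNoetherian_of_proper (X := X) k
  have hEc := isEffCartier_of_curve k hX hEi hE1'
  have hI := Groth.Agent.FlatMor12.IdealModGen.isInvertible_idealMod E hEc
  rw [← deg_mk k _ hL, deg_quotMod k hEc] at hLE
  rw [intNum_eq_B k hX.le hI hI] at hEE
  change B k (clI' E hEc) (clI' E hEc) = -1 at hEE
  suffices key : ∀ j : ℕ, j < s → ∃ hJ : BlowUp.IsEffCartierIdeal (E ^ (j + 1)),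
      clI' (E ^ (j + 1)) hJ = clI' E hEc ^ (j + 1) ∧
      Module.finrank k (Coh.HH X (CohB1.tensorMod L (ClSub.idealMod (E ^ (j + 1)))) 0) =
        Module.finrank k (Coh.HH X L 0) by
    obtain ⟨-, -, h⟩ := key (s - 1) (by omega)
    rwa [Nat.sub_add_cancel (by omega : 1 ≤ s)] at h
  intro j
  induction j with
  | zero =>
    intro hj
    refine ⟨by simpa using hEc, by simp only [zero_add, pow_one], ?_⟩
    rw [zero_add, pow_one, finrank_HH_congr k (Groth.Agent.AmpleLib.tensorComm _ _) 0]
    exact h0_twist_eq_of_neg k hE1' hEc hL (by rw [deg_quotMod k hEc]; omega)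
  | succ j ih =>
    intro hj
    obtain ⟨hJ, hcl, heq⟩ := ih (by omega)
    have hJ' : BlowUp.IsEffCartierIdeal (E ^ (j + 1 + 1)) := by
      rw [pow_succ']; exact Groth.Agent.ModPairLib.isEffCartier_mul hEc hJ
    refine ⟨hJ', ?_, ?_⟩
    · rw [clI'_congr (pow_succ' E (j + 1)) hJ' (Groth.Agent.ModPairLib.isEffCartier_mul hEc hJ),
        clI'_mul E _ hEc hJ, hcl, ← pow_succ']
    · have hIJ := Groth.Agent.FlatMor12.IdealModGen.isInvertible_idealMod _ hJ
      have hLJ := isInvertible_tensorMod hL hIJ
      have hneg : deg k (ClSub.quotMod E) (InvCl.mk _ hLJ) < 0 := by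
        rw [deg_quotMod k hEc, ← InvCl.mk_mul hL hIJ, B_mul_right k hX.le]
        change -(B k (clI' E hEc) (InvCl.mk L hL) + B k (clI' E hEc) (clI' (E ^ (j + 1)) hJ)) < 0
        rw [hcl, B_pow_right k hX.le, hEE]
        push_cast
        omega
      rw [← heq, ← h0_twist_eq_of_neg k hE1' hEc hLJ hneg]
      obtain ⟨e⟩ := Groth.Agent.Inters29.nonempty_mul_iso _ _ hEc hJ
      obtain ⟨α⟩ := exists_assocIso' (ClSub.idealMod E) hIJ hL
      refine finrank_HH_congr k ?_ 0
      rw [pow_succ']
      exact Groth.Agent.AmpleLib.tensorComm _ _ ≪≫ Groth.Agent.AmpleLib.tensorIso e.symm (Iso.refl L) ≪≫ α ≪≫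
        Groth.Agent.AmpleLib.tensorIso (Iso.refl _) (Groth.Agent.AmpleLib.tensorComm _ _)

end Groth.Agent.S16563
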