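import Groth.Statements.S16564
import Groth.Agent.Surf15.PlaneBlowup
import Groth.Agent.Surf15.SerreApps
import Groth.Agent.Surf15.PlaneNef
import Groth.Agent.Surf15.DetExist
import Groth.Agent.Surf15.Cones
import Groth.Agent.CurveRR24.AlgClosed
open TopologicalSpace
open Groth.Agent.Coherent Groth.Agent.PicLib Groth.Agent.AmpleLib Groth.Agent.EulerLib Groth.Agent.CurveRR24 Groth.Agent.DimLib Groth.Agent.Surf15
set_option linter.style.haveILetI false
set_option maxHeartbeats 800000
set_option backward.isDefEq.respectTransparency.types false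

set_option autoImplicit false
universe u
open CategoryTheory CategoryTheory.Limits AlgebraicGeometry TopologicalSpace
open Surf

set_option backward.isDefEq.respectTransparency.types false
set_option backward.isDefEq.respectTransparency false

namespace Groth.Agent.S16564


/-- Let k be an algebraically closed field, p_1, …, p_r distinct closed points of the projective plane
P²_k and σ : X → P²_k the blow-up of P²_k in the ideal of the reduced finite set {p_1, …, p_r}
(universal property), X being regarded over k through σ; X is then an integral smooth proper surface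
(carried as hypotheses). Write H = σ^*O(1), (L·M) = χ(O_X) − χ(L) − χ(M) + χ(L ⊗ M) for the
intersection number of invertible modules L, M, and for a closed subscheme C ⊆ X with ideal I_C
write (L·C) = χ(O_C ⊗ L) − χ(O_C) and C² = (I_C·I_C). A (−1)-curve is an integral closed
one-dimensional subscheme E ⊆ X with H¹(E, O_E) = 0 and E² = −1. Call an invertible module M
non-special when at most one of H⁰(X, M), H¹(X, M), H²(X, M) is nonzero. Suppose every invertible M
with (M·E) ≥ −1 for every (−1)-curve E is non-special (the non-speciality hypothesis for X). Then no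
integral closed one-dimensional subscheme C ⊆ X has C² ≤ −2. (The source concludes that the curves
of negative self-intersection are exactly the (−1)-curves; its argument treats C² ≤ −2, which is
what is stated here.) (The source takes the points in general position; that assumption plays no
role here.) -/
theorem result (k : Type u) [Field k] [IsAlgClosed k]
    (r : ℕ) (P : Fin r → ↥(CohB1.ProjSpace 2 k)) (hP : Function.Injective P)
    (hPc : ∀ i, IsClosed ({P i} : Set ↥(CohB1.ProjSpace 2 k))) (hZ : IsClosed (Set.range P))
    (X : Scheme.{u}) [X.Over (Spec (CommRingCat.of k))] (σ : X ⟶ CohB1.ProjSpace 2 k)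
    (hσk : σ ≫ CohB1.ProjSpace.toSpec 2 k = X ↘ (Spec (CommRingCat.of k)))
    (hσ : BlowUp.IsBlowUp σ (Scheme.IdealSheafData.vanishingIdeal ⟨Set.range P, hZ⟩))
    [IsIntegral X] [IsProper (X ↘ (Spec (CommRingCat.of k)))] [Smooth (X ↘ (Spec (CommRingCat.of k)))] (hdim : topologicalKrullDim X = 2)
    (hconj : ∀ (M : X.Modules), PicF.IsInvertible M →
      (∀ (E : X.IdealSheafData), IsIntegral E.subscheme → topologicalKrullDim (E.support : Set X) = 1 →
        Subsingleton (Coh.HH E.subscheme (Coh.structureModule E.subscheme) 1) →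
        FGA.intNum k X 2 ![ClSub.idealMod E, ClSub.idealMod E] (Coh.structureModule X) = -1 →
        -1 ≤ (Curv2.euler k X (CohB1.tensorMod (ClSub.quotMod E) M) - Curv2.euler k X (ClSub.quotMod E))) →
      ((Subsingleton (Coh.HH X M 0) ∧ Subsingleton (Coh.HH X M 1)) ∨ (Subsingleton (Coh.HH X M 0) ∧ Subsingleton (Coh.HH X M 2)) ∨
        (Subsingleton (Coh.HH X M 1) ∧ Subsingleton (Coh.HH X M 2))))
    (C : X.IdealSheafData) (hCi : IsIntegral C.subscheme) (hC1 : topologicalKrullDim (C.support : Set X) = 1) :
    -1 ≤ FGA.intNum k X 2 ![ClSub.idealMod C, ClSub.idealMod C] (Coh.structureModule X) := by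
  have hX : topologicalKrullDim X = ((2 : ℕ) : WithBot ℕ∞) := by exact_mod_cast hdim
  have hC1' : topologicalKrullDim (C.support : Set X) = ((1 : ℕ) : WithBot ℕ∞) := by exact_mod_cast hC1
  haveI := isNoetherian_of_proper (X := X) k
  haveI := isSeparated_of_proper (X := X) k
  haveI := Groth.Agent.GenSmoothLib.smoothOfRelativeDimension_toField (X ↘ Spec (CommRingCat.of k)) hX
  obtain ⟨W, hWd⟩ := exists_isExtPow (Groth.Agent.Canon15.isFinLocFreeOfRank_omega (X ↘ Spec (CommRingCat.of k)) 2)
  have hWi := isInvertible_canonical k hX hWd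
  obtain ⟨hχX, -, -⟩ := planeBlowup_invariants k P hPc hZ σ hσk hσ hX hWd hWi
  have hCc := isEffCartier_of_curve k hX hCi hC1'
  have hI := Groth.Agent.FlatMor12.IdealModGen.isInvertible_idealMod C hCc
  rw [intNum_eq_B k hX.le hI hI]
  by_contra hcon
  change ¬ -1 ≤ B k (clI' C hCc) (clI' C hCc) at hcon
  obtain ⟨M, ⟨e⟩⟩ := VarietyLib.exists_isInverseOf hI
  have hM : PicF.IsInvertible M :=
    PicM.isInvertible_of_tensor hI (glocus_isInvertible_of_iso e.symm isInvertible_structureModule)
  have hg : clI' C hCc * InvCl.mk M hM = 1 := by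
    rw [clI', InvCl.mk_mul hI hM]; exact InvCl.mk_eq _ _ e
  have hns := hconj M hM fun E hEi hE1 _ hEE => by
    have hE1' : topologicalKrullDim (E.support : Set X) = ((1 : ℕ) : WithBot ℕ∞) := by exact_mod_cast hE1
    have hEc := isEffCartier_of_curve k hX hEi hE1'
    have hIE := Groth.Agent.FlatMor12.IdealModGen.isInvertible_idealMod E hEc
    rw [intNum_eq_B k hX.le hIE hIE] at hEE
    change B k (clI' E hEc) (clI' E hEc) = -1 at hEE
    have hne : E ≠ C := by
      rintro rfl
      omega
    have h := B_curve_ne_nonneg k hX.le hEc hCc hE1' hC1' hne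
    rw [← deg_mk k _ hM, deg_quotMod k hEc, B_inv_right k hX.le hg]
    omega
  have h0 : Module.finrank k (Coh.HH X M 0) = 1 := by
    have h := h0_twist_eq_of_neg k hC1' hCc hM (by
      rw [deg_quotMod k hCc, B_inv_right k hX.le hg]; omega)
    rw [finrank_HH_congr k e 0] at h
    rw [← h]
    exact h0_structure k
  have hnt : ¬ Subsingleton (Coh.HH X M 0) := fun h => by
    rw [Module.finrank_zero_of_subsingleton] at h0
    omega
  obtain ⟨h1, h2⟩ : Subsingleton (Coh.HH X M 1) ∧ Subsingleton (Coh.HH X M 2) := by tauto
  have hχM := euler_three k hX.le (isQCoh_of_isInvertible hM)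
  rw [h0, Module.finrank_zero_of_subsingleton (M := Coh.HH X M 1),
    Module.finrank_zero_of_subsingleton (M := Coh.HH X M 2), euler_eq_chiCl k hX.le hM] at hχM
  have hr := riemannRoch_cl k hX hWd hWi (InvCl.mk M hM)
  rw [hχX, hχM, B_inv_left k hX.le hg, B_inv_right k hX.le hg, B_inv_left k hX.le hg] at hr
  have hadj := two_euler_quotMod k hX hWd hWi hCc
  rw [intNum_eq_B k hX.le hI hWi, intNum_eq_B k hX.le hI hI] at hadj
  obtain ⟨-, hχC, -⟩ := curve_facts k C hC1' hI
  change _ = B k (clI' C hCc) _ - B k (clI' C hCc) (clI' C hCc) at hadj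
  omega

end Groth.Agent.S16564
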