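import Groth.Statements.S16565
import Groth.Agent.EssDimConic.RuledInt
import Groth.Agent.H8Lim.FibreDimVanish
import Groth.Agent.TFPush7.BirDual
import Groth.Agent.VB5.Basic
import Groth.Agent.SplitP1.Decomp
import Groth.Agent.Hyper24.BiratH1
import Groth.Agent.LESBound.Ineq
import Groth.Agent.BlowUpCoh.EulerPush
import Groth.Agent.Inters29.PullIdeal
-- import your own Groth.Agent.* helpers here

set_option autoImplicit false
universe u
open CategoryTheory CategoryTheory.Limits AlgebraicGeometry TopologicalSpace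
open Surf

namespace Groth.Agent.S16565

open CategoryTheory CategoryTheory.Limits AlgebraicGeometry
open Groth.Agent.Coherent Groth.Agent.EulerLib Groth.Agent.CurveRR24 Groth.Agent.CAlgH3.ModCohSeq
set_option linter.style.haveILetI false
set_option backward.isDefEq.respectTransparency.types false
set_option maxHeartbeats 1000000

section les

variable (k : Type u) [Field k] {X : Scheme.{u}} [X.Over (Spec (CommRingCat.of k))]
  [IsProper (X ↘ Spec (CommRingCat.of k))]

/-- If the sequence of sections is short exact, then `H¹` of the submodule injects. -/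
theorem h1_left_le {S : ShortComplex X.Modules} (hS : S.ShortExact) (h1 : Coh.IsCoh S.X₁)
    (h2 : Coh.IsCoh S.X₂) (h3 : Coh.IsCoh S.X₃)
    (h0 : Module.finrank k (Coh.HH X S.X₂ 0) =
      Module.finrank k (Coh.HH X S.X₁ 0) + Module.finrank k (Coh.HH X S.X₃ 0)) :
    Module.finrank k (Coh.HH X S.X₁ 1) ≤ Module.finrank k (Coh.HH X S.X₂ 1) := by
  haveI := finCoh_of_isProper (X ↘ Spec (CommRingCat.of k)) S.X₂ h2 0
  haveI := finCoh_of_isProper (X ↘ Spec (CommRingCat.of k)) S.X₂ h2 1
  haveI := finCoh_of_isProper (X ↘ Spec (CommRingCat.of k)) S.X₃ h3 0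
  simp only [(HHBaseEquiv k _ _).finrank_eq] at h0 ⊢
  let f0 := postA (baseHom k X) S.f (⊤ : X.Opens) 0
  let g0 := postA (baseHom k X) S.g (⊤ : X.Opens) 0
  have e1 := g0.finrank_range_add_finrank_ker
  rw [LinearMap.exact_iff.1 (exact_postA (baseHom k X) hS ⊤ 0),
    LinearMap.finrank_range_of_inj (postA_zero_injective (baseHom k X) hS ⊤)] at e1
  have hsurj : LinearMap.range g0 = ⊤ := Submodule.eq_top_of_finrank_eq (by omega)
  refine LinearMap.finrank_le_finrank_of_injective (f := postA (baseHom k X) S.f (⊤ : X.Opens) 1)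
    ((injective_iff_map_eq_zero _).2 fun x hx => ?_)
  obtain ⟨y, rfl⟩ := (exact_deltaA_postA (baseHom k X) hS ⊤ 0 x).1 hx
  exact (exact_postA_deltaA (baseHom k X) hS ⊤ 0 y).2 (LinearMap.range_eq_top.1 hsurj y)

/-- A quotient by a module without `H¹` and `H²` has the same `H¹`. -/
theorem h1_congr_of_vanish {S : ShortComplex X.Modules} (hS : S.ShortExact) (hV1 : V S.X₁ 1)
    (hV2 : V S.X₁ 2) (h2 : Coh.IsCoh S.X₂) (h3 : Coh.IsCoh S.X₃) :
    Module.finrank k (Coh.HH X S.X₂ 1) = Module.finrank k (Coh.HH X S.X₃ 1) := by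
  refine le_antisymm ?_ (Hyper24.finrank_h1_right_le k hS hV2 h2)
  haveI := finCoh_of_isProper (X ↘ Spec (CommRingCat.of k)) S.X₃ h3 1
  rw [(HHBaseEquiv k _ _).finrank_eq, (HHBaseEquiv k S.X₃ _).finrank_eq]
  haveI : Subsingleton (HA (baseHom k X) S.X₁ (⊤ : X.Opens) 1) := (V_iff_HMod _ 1).1 hV1
  refine LinearMap.finrank_le_finrank_of_injective (f := postA (baseHom k X) S.g (⊤ : X.Opens) 1)
    ((injective_iff_map_eq_zero _).2 fun x hx => ?_)
  obtain ⟨y, rfl⟩ := (exact_postA (baseHom k X) hS ⊤ 1 x).1 hx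
  rw [Subsingleton.elim y 0, map_zero]

/-- Twisting a surjection with small kernel does not change `H¹` comparisons. -/
theorem h1_twist_congr [IsIntegral X] (hdim : topologicalKrullDim X ≤ 1) {E P : X.Modules} (π : E ⟶ P) [Epi π]
    (hE : Coh.IsCoh E) (hKc : Coh.IsCoh (kernel π)) (hPc : Coh.IsCoh P)
    (hsupp : IsClosed (CohB1.support (kernel π))) (hη : genericPoint X ∉ CohB1.support (kernel π))
    {T : X.Modules} (hT : PicF.IsInvertible T) :
    Module.finrank k (Coh.HH X (CohB1.tensorMod E T) 1) = Module.finrank k (Coh.HH X (CohB1.tensorMod P T) 1) := by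
  haveI := isNoetherian_of_proper k (X := X)
  have hc1 : Coh.IsCoh (CohB1.tensorMod (kernel π) T) := isCoh_twist hT hKc
  have hs : CohB1.support (CohB1.tensorMod (kernel π) T) ⊆ CohB1.support (kernel π) :=
    (EulerLib.support_twist hT (kernel π)).subset
  have v1 : V (CohB1.tensorMod (kernel π) T) 1 :=
    CurveRR24.subsingleton_HH_of_small k hdim hc1.1 hsupp hη hs Nat.one_pos
  have v2 : V (CohB1.tensorMod (kernel π) T) 2 :=
    CurveRR24.subsingleton_HH_of_small k hdim hc1.1 hsupp hη hs two_pos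
  have hS := twistSeq_shortExact hT (EulerLib.shortExact_kernel π)
  have e1 : (twistSeq (ShortComplex.mk (kernel.ι π) π (kernel.condition π)) T).X₁ = CohB1.tensorMod (kernel π) T := rfl
  have e2 : (twistSeq (ShortComplex.mk (kernel.ι π) π (kernel.condition π)) T).X₂ = CohB1.tensorMod E T := rfl
  have e3 : (twistSeq (ShortComplex.mk (kernel.ι π) π (kernel.condition π)) T).X₃ = CohB1.tensorMod P T := rfl
  rw [← e2, ← e3]
  exact h1_congr_of_vanish k hS (e1 ▸ v1) (e1 ▸ v2) (e2 ▸ isCoh_twist hT hE) (e3 ▸ isCoh_twist hT hPc)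

end les

section line

variable (k : Type u) [Field k]

local notation "ℙ" => CohB1.ProjSpace 1 k
local notation "T(" d ")" => Twist.twistProjSpace 1 k d

/-- `h¹` of a twisted sum of twists on the projective line. -/
theorem h1_sigma_twist {r : ℕ} (d : Fin r → ℤ) {P : (ℙ).Modules} (hP : Coh.IsCoh P)
    (e : P ≅ ∐ fun i : Fin r => T(d i)) (a : ℤ) :
    Module.finrank k (Coh.HH ℙ (CohB1.tensorMod P T(a)) 1) = ∑ i, (-1 - a - d i).toNat := by
  obtain ⟨t, -, hrep⟩ := SplitP1.exists_rep k
  have hPa : Coh.IsCoh (CohB1.tensorMod P T(a)) := isCoh_twist (SplitP1.inv_twist k a) hP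
  haveI := CurveRR24.finite_HH_of_isCoh k hPa 1
  have h := (SerreDual.dualEquiv t (hrep _ hPa)).finrank_eq.trans Subspace.dual_finrank_eq
  rw [← h]
  obtain ⟨ea⟩ := SplitP1.nonempty_twist_add k (a := -2 - a) (b := a) (c := -2) (by omega)
  haveI := SplitP1.finite_hom_twist (k := k) hPa (-2)
  haveI : Module.Finite k (CohB1.tensorMod P T(a) ⟶ CohB1.tensorMod T(-2 - a) T(a)) :=
    Module.Finite.equiv (Linear.homCongr k (Iso.refl _) ea.symm)
  obtain ⟨i⟩ := SplitP1.nonempty_inverse k a
  obtain ⟨-, hb⟩ := SplitP1.tensorRightHom_surjective (A := P) (B := T(-2 - a)) (SplitP1.inv_twist k a)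
    (SplitP1.inv_twist k (-a)) i
  rw [← (Linear.homCongr k (Iso.refl (CohB1.tensorMod P T(a))) ea).finrank_eq,
    ← (LinearEquiv.ofBijective _ hb).finrank_eq, (Linear.homCongr k e (Iso.refl T(-2 - a))).finrank_eq,
    SplitP1.finrank_hom_sigma]
  exact Finset.sum_congr rfl fun i _ => by congr 1; omega

variable [IsAlgClosed k]

/-- The ideal of a closed point of the projective line is a twist of negative degree. -/
theorem exists_iso_point (q : ↥(ℙ)) (hq : IsClosed ({q} : Set ↥(ℙ))) :
    ∃ δ : ℤ, δ < 0 ∧ BlowUp.IsEffCartierIdeal (Scheme.IdealSheafData.vanishingIdeal ⟨{q}, hq⟩) ∧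
      Nonempty (ClSub.idealMod (Scheme.IdealSheafData.vanishingIdeal ⟨{q}, hq⟩) ≅ T(δ)) := by
  let p := (ℙ) ↘ Spec (CommRingCat.of k)
  haveI : Smooth p := inferInstanceAs (Smooth (CohB1.ProjSpace.toSpec 1 k))
  have hdim : topologicalKrullDim ↥(ℙ) = 1 := DimLib.PN.topologicalKrullDim_projSpace 1 k
  haveI : SmoothOfRelativeDimension 1 ((ℙ) ↘ Spec (CommRingCat.of k)) := EllGrp5.smoothRD_of_dim p hdim
  haveI : GeometricallyConnected ((ℙ) ↘ Spec (CommRingCat.of k)) :=
    SGA3cLib.CentralDescent.geometricallyConnected_of_isAlgClosed _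
  have hE := EssDimConic.isEffCartier_point k q hq
  have hJ := FlatMor12.IdealModGen.isInvertible_idealMod _ hE
  obtain ⟨d, ⟨hd, ⟨e⟩⟩, -⟩ := SplitP1.existsUnique_splitting 1 _ (PicLib.isFinLocFreeOfRank_one hJ)
  let e' : ClSub.idealMod (Scheme.IdealSheafData.vanishingIdeal ⟨{q}, hq⟩) ≅ T(d 0) :=
    e ≪≫ coproductUniqueIso fun i : Fin 1 => T(d i)
  refine ⟨d 0, ?_, hE, ⟨e'⟩⟩
  have hdeg := EllGrp5.deg_idealMod_section k (pointOfClosedPoint p q hq) (pointOfClosedPoint_comp p q hq)
  have hk : (pointOfClosedPoint p q hq).ker = Scheme.IdealSheafData.vanishingIdeal ⟨{q}, hq⟩ := by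
    rw [pointOfClosedPoint, Scheme.Hom.ker_comp_of_isIso, CurveRR24.ker_fromSpecResidueField' hq]
  rw [hk] at hdeg
  have hz : Subsingleton (Coh.HH ℙ (ClSub.idealMod (Scheme.IdealSheafData.vanishingIdeal ⟨{q}, hq⟩)) 0) :=
    CurveRR24.subsingleton_h0_of_deg_neg k hdim.le hJ (by rw [hdeg]; norm_num)
  have h0 := SplitP1.h0_twist k (d 0)
  rw [← CurveRR24.finrank_HH_congr k e' 0, Module.finrank_zero_of_subsingleton] at h0
  omega

/-- If twisting down does not increase `h¹`, all summands of the torsion-free part are nonnegative. -/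
theorem h1_eq_zero_of_le {E : (ℙ).Modules} (hE : Coh.IsCoh E) {δ : ℤ} (hδ : δ < 0)
    (h : Module.finrank k (Coh.HH ℙ (CohB1.tensorMod E T(δ)) 1) ≤ Module.finrank k (Coh.HH ℙ E 1)) :
    Module.finrank k (Coh.HH ℙ E 1) = 0 ∧
      Module.finrank k (Coh.HH ℙ (CohB1.tensorMod E T(δ)) 1) = 0 ∧
      Module.finrank k (Coh.HH ℙ (CohB1.tensorMod E T(-1)) 1) = 0 := by
  have hdim : topologicalKrullDim ↥(ℙ) = 1 := DimLib.PN.topologicalKrullDim_projSpace 1 k
  haveI : Smooth ((ℙ) ↘ Spec (CommRingCat.of k)) := inferInstanceAs (Smooth (CohB1.ProjSpace.toSpec 1 k))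
  obtain ⟨P, π, hπ, hP, hK⟩ := VB5.exists_tf_quotient hdim.le
    (fun x => VB5.isIntegrallyClosed_stalk k x) hE
  haveI := hπ
  have hPc : Coh.IsCoh P := SplitP1.isCoh_of_rank hP
  have hKc : Coh.IsCoh (kernel π) := Coherent.isCoh_kernel π hE hPc.1
  have hη : genericPoint ↥(ℙ) ∉ CohB1.support (kernel π) := by
    refine (Coherent.notMem_support_iff _ _).2 (ModuleCat.isZero_iff_subsingleton.2 ?_)
    haveI := VB5.finite_generic hKc
    exact (Module.finrank_zero_iff (R := (ℙ).functionField)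
      (M := (kernel π).presheaf.stalk (genericPoint ↥(ℙ)))).1 hK
  have hsupp : IsClosed (CohB1.support (kernel π)) :=
    Coherent.isClosed_support _ (Coherent.locallyFinGen_of_isFT _ hKc.2)
  have key : ∀ a : ℤ, Module.finrank k (Coh.HH ℙ (CohB1.tensorMod E T(a)) 1) =
      Module.finrank k (Coh.HH ℙ (CohB1.tensorMod P T(a)) 1) := by
    intro a
    exact h1_twist_congr k hdim.le π hE hKc hPc hsupp hη (SplitP1.inv_twist k a)
  obtain ⟨d, ⟨-, ⟨e⟩⟩, -⟩ := SplitP1.existsUnique_splitting _ P hP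
  obtain ⟨e0⟩ := SplitP1.nonempty_twist_zero k
  have h0 : Module.finrank k (Coh.HH ℙ E 1) = Module.finrank k (Coh.HH ℙ (CohB1.tensorMod E T(0)) 1) :=
    CurveRR24.finrank_HH_congr k
      ((AmpleLib.unitTensorIso E).symm ≪≫ AmpleLib.tensorComm _ _ ≪≫ AmpleLib.tensorIso (Iso.refl E) e0.symm) 1
  rw [h0, key, key, h1_sigma_twist k d hPc e, h1_sigma_twist k d hPc e] at h
  rw [h0, key, key, key, h1_sigma_twist k d hPc e, h1_sigma_twist k d hPc e, h1_sigma_twist k d hPc e]
  have hle : ∀ i ∈ Finset.univ, (-1 - 0 - d i).toNat ≤ (-1 - δ - d i).toNat := fun i _ => by omega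
  have heq := (Finset.sum_eq_sum_iff_of_le hle).1 (le_antisymm (Finset.sum_le_sum hle) h)
  refine ⟨?_, ?_, ?_⟩ <;>
    exact Finset.sum_eq_zero fun i hi => by have := heq i hi; omega

end line


/-- Let X be a smooth proper integral surface over an algebraically closed field k, π : X → P¹_k a
surjective k-morphism, L an invertible O_X-module with R¹π_*L = 0, q a closed point of P¹_k and F =
π⁻¹(q) its fibre, with ideal I_F. Assume the restriction map H⁰(X, L) → H⁰(F, L|_F) is surjective,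
stated as dim_k H⁰(X, L) = dim_k H⁰(X, L ⊗ I_F) + dim_k H⁰(X, L ⊗ O_F) (the sequence 0 → L ⊗ I_F → L
→ L ⊗ O_F → 0 being exact). Then H¹(X, L) = 0 = H¹(X, L ⊗ I_F), and H¹(P¹_k, π_*L ⊗ O(−1)) = 0, i.e.
the line bundle summands of π_*L all have degree ≥ 0. (The source states this for the blow-up of
P²_k at points in general position fibred over P¹_k by projection from one of the points; its
argument uses only a smooth projective surface mapping onto P¹_k.) -/
theorem result (k : Type u) [Field k] [IsAlgClosed k]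
    (X : Scheme.{u}) [X.Over (Spec (CommRingCat.of k))] [IsIntegral X] [IsProper (X ↘ (Spec (CommRingCat.of k)))] [Smooth (X ↘ (Spec (CommRingCat.of k)))]
    (hdim : topologicalKrullDim X = 2) [HasInjectiveResolutions X.Modules]
    (π : X ⟶ CohB1.ProjSpace 1 k) (hπk : π ≫ CohB1.ProjSpace.toSpec 1 k = X ↘ (Spec (CommRingCat.of k))) (hπs : Function.Surjective π)
    (L : X.Modules) (hL : PicF.IsInvertible L) (hR1 : IsZero ((Coh.Rpush π 1).obj L))
    (q : ↥(CohB1.ProjSpace 1 k)) (hq : IsClosed ({q} : Set ↥(CohB1.ProjSpace 1 k)))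
    (hres : Module.finrank k (Coh.HH X L 0) =
      Module.finrank k (Coh.HH X (CohB1.tensorMod L (ClSub.idealMod ((Scheme.IdealSheafData.vanishingIdeal ⟨{q}, hq⟩).comap π))) 0) +
        Module.finrank k (Coh.HH X (CohB1.tensorMod (ClSub.quotMod ((Scheme.IdealSheafData.vanishingIdeal ⟨{q}, hq⟩).comap π)) L) 0)) :
    Subsingleton (Coh.HH X L 1) ∧ Subsingleton (Coh.HH X (CohB1.tensorMod L (ClSub.idealMod ((Scheme.IdealSheafData.vanishingIdeal ⟨{q}, hq⟩).comap π))) 1) ∧
      Subsingleton (Coh.HH (CohB1.ProjSpace 1 k) (CohB1.tensorMod ((Coh.push π).obj L) (Twist.twistProjSpace 1 k (-1))) 1) := by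
  let P := CohB1.ProjSpace 1 k
  let p := P ↘ Spec (CommRingCat.of k)
  have hP1 : topologicalKrullDim ↥P = 1 := DimLib.PN.topologicalKrullDim_projSpace 1 k
  have hB : Curve.IsSmoothProperCurve k P (P ↘ Spec (CommRingCat.of k)) :=
    ⟨inferInstance, inferInstanceAs (Smooth (CohB1.ProjSpace.toSpec 1 k)), inferInstance, hP1⟩
  have hπ : π ≫ (P ↘ Spec (CommRingCat.of k)) = X ↘ Spec (CommRingCat.of k) := hπk
  haveI : IsProper (π ≫ p) := by show IsProper (π ≫ (P ↘ Spec (CommRingCat.of k))); rw [hπ]; infer_instance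
  haveI : IsProper π := IsProper.of_comp π p
  haveI : IsLocallyNoetherian X := LocallyOfFiniteType.isLocallyNoetherian π
  have hLc : Coh.IsCoh L := CurveRR24.isCoh_of_isInvertible k hL
  haveI : Coh.IsQCoh L := hLc.1
  -- fibres have dimension at most one
  have hfd : ∀ y : P, topologicalKrullDim ↥(π.fiber y) ≤ ((1 : ℕ) : WithBot ℕ∞) := by
    intro y
    rcases CurvesLib24.eq_genericPoint_or_isClosed hP1.le y with h | h
    · subst h; exact (EssDimConic.fibre_dim k hdim hP1 π hπ hπs).le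
    · rw [DimLib.topologicalKrullDim_fiber_eq_preimage]
      have hlt := TFPush7.topologicalKrullDim_lt_of_ne_univ (d := 2) hdim (Z := π.base ⁻¹' {y})
        (h.preimage π.continuous) fun he => by
          obtain ⟨x, hx⟩ := hπs (genericPoint P)
          have : π.base x = y := (he.symm ▸ Set.mem_univ x : x ∈ π.base ⁻¹' {y})
          rw [hx] at this
          have h1 := DimLib.topologicalKrullDim_eq_ptDim_genericPoint p
          rw [this, (DimLib.ptDim_eq_zero_iff p y).2 h, hP1] at h1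
          exact absurd h1 (by decide)
      generalize topologicalKrullDim ↥(π.base ⁻¹' {y}) = e at hlt ⊢
      cases e with
      | bot => exact bot_le
      | coe x =>
        cases x with
        | top => exact absurd hlt (not_lt.2 le_top)
        | coe n =>
          have h2 : ((n : ℕ∞) : WithBot ℕ∞) < ((2 : ℕ∞) : WithBot ℕ∞) := hlt
          have h3 : (n : ℕ∞) < ((2 : ℕ) : ℕ∞) := WithBot.coe_lt_coe.1 h2
          exact WithBot.coe_le_coe.2 (Nat.cast_le.2 (Nat.lt_succ_iff.1 (Nat.cast_lt.1 h3)))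
  have hR : ∀ n : ℕ, 0 < n → IsZero ((Coh.RpushAb π n).obj (Coh.toAb L)) := by
    intro n hn
    rcases (Nat.succ_le_of_lt hn).eq_or_lt with h | h
    · subst h
      exact ((toAbFunctor P).map_isZero hR1).of_iso (toAbRpushIso π _ 1).symm
    · have hz : IsZero ((Coh.Rpush π n).obj L) := ModStalk.isZero_of_stalks fun y => by
        haveI : Subsingleton ((DerSch.stalkFunctor P y).obj ((Coh.Rpush π n).obj L)) :=
          AddCommGrpCat.subsingleton_of_isZero
            (((H8Lim.isZero_stalk_rpushAb_of_fibre_dim π hLc y 1 (hfd y) n h).of_iso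
              ((TopCat.Presheaf.stalkFunctor AddCommGrpCat.{u} y).mapIso
                ((sheafToPresheaf _ _).mapIso ((toAbRpushNatIso π n).app L)))) :
              IsZero (((Coh.Rpush π n).obj L).presheaf.stalk y))
        exact ModuleCat.isZero_of_subsingleton _
      exact ((toAbFunctor P).map_isZero hz).of_iso (toAbRpushIso π _ n).symm
  let E := (Coh.push π).obj L
  have hE : Coh.IsCoh E := VarietyLib.isCoh_push_proper π hLc
  -- cohomology of twists by invertible modules of the line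
  have hlin : ∀ {M : P.Modules}, PicF.IsInvertible M →
      Module.finrank k (Coh.HH X (CohB1.tensorMod ((Scheme.Modules.pullback π).obj M) L) 1) =
        Module.finrank k (Coh.HH P (CohB1.tensorMod E M) 1) := by
    intro M hM
    have hMF : FlatMod.IsFinLocFree M := fun x =>
      let ⟨U, hx, e⟩ := PicLib.isFinLocFreeOfRank_one hM x; ⟨U, 1, hx, e⟩
    haveI : Coh.IsQCoh (CohB1.tensorMod ((Scheme.Modules.pullback π).obj M) L) :=
      (isCoh_iso (AmpleLib.tensorComm _ _) (isCoh_twist (PicLoc.isInvertible_pullback π hM) hLc)).1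
    rw [H0Growth23.finrank_HH_push k π hπ _ (VarietyLib.acyclicOverBasis_of_isZero π _ fun n hn =>
      BlowUpCoh.isZero_rpushAb_tensor_pullback π hMF L n (hR n hn)) 1]
    exact CurveRR24.finrank_HH_congr k (((projIso (f := π) hMF).app L).symm ≪≫ AmpleLib.tensorComm _ _) 1
  have hbase : Module.finrank k (Coh.HH X L 1) = Module.finrank k (Coh.HH P E 1) :=
    H0Growth23.finrank_HH_push k π hπ L (VarietyLib.acyclicOverBasis_of_isZero π L hR) 1
  obtain ⟨δ, hδ, hq', ⟨eq⟩⟩ := exists_iso_point k q hq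
  have hJ : BlowUp.IsEffCartierIdeal ((Scheme.IdealSheafData.vanishingIdeal ⟨{q}, hq⟩).comap π) :=
    EssDimConic.isEffCartier_fibre k hdim hB π hπ hπs q hq
  obtain ⟨ep⟩ := Inters29.nonempty_pullback_idealMod_iso π _ hq' hJ
  let I := (Scheme.IdealSheafData.vanishingIdeal ⟨{q}, hq⟩).comap π
  have hI : PicF.IsInvertible (ClSub.idealMod I) := FlatMor12.IdealModGen.isInvertible_idealMod _ hJ
  have hside : Module.finrank k (Coh.HH X (CohB1.tensorMod L (ClSub.idealMod I)) 1) =
      Module.finrank k (Coh.HH P (CohB1.tensorMod E (Twist.twistProjSpace 1 k δ)) 1) :=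
    (CurveRR24.finrank_HH_congr k (AmpleLib.tensorIso (Iso.refl L)
      (ep.symm ≪≫ (Scheme.Modules.pullback π).mapIso eq) ≪≫ AmpleLib.tensorComm _ _) 1).trans
      (hlin (SplitP1.inv_twist k δ))
  have hle : Module.finrank k (Coh.HH X (CohB1.tensorMod L (ClSub.idealMod I)) 1) ≤
      Module.finrank k (Coh.HH X L 1) := by
    let eO : CohB1.tensorMod (Coh.structureModule X) L ≅ L := AmpleLib.unitTensorIso L
    have h := h1_left_le k (twistSeq_shortExact hL (CurveRR24.shortExact_ideal I))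
      (isCoh_twist hL (CurveRR24.isCoh_idealMod' I)) (isCoh_twist hL (Coherent.isCoh_structureModule (X := X)))
      (isCoh_twist hL (CurveRR24.isCoh_quotMod I))
      ((CurveRR24.finrank_HH_congr k eO 0).trans (hres.trans (by
        rw [CurveRR24.finrank_HH_congr k (AmpleLib.tensorComm L (ClSub.idealMod I)) 0]; rfl)))
    exact le_trans (CurveRR24.finrank_HH_congr k (AmpleLib.tensorComm L (ClSub.idealMod I)) 1).le
      (h.trans (CurveRR24.finrank_HH_congr k eO 1).le)
  rw [hside, hbase] at hle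
  obtain ⟨h1, h2, h3⟩ := h1_eq_zero_of_le k hE hδ hle
  haveI := CurveRR24.finite_HH_of_isCoh k hLc 1
  haveI := CurveRR24.finite_HH_of_isCoh k (isCoh_twist hI hLc) 1
  haveI := CurveRR24.finite_HH_of_isCoh k (isCoh_twist (SplitP1.inv_twist k (-1)) hE) 1
  exact ⟨(Module.finrank_zero_iff (R := k)).1 (hbase.trans h1),
    (Module.finrank_zero_iff (R := k)).1 (hside.trans h2), (Module.finrank_zero_iff (R := k)).1 h3⟩

end Groth.Agent.S16565
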