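import Groth.Statements.S1657
import Groth.Agent.DualMod3.Tricanonical
import Groth.Agent.NodeLib7.BigField
-- import your own Groth.Agent.* helpers here

set_option autoImplicit false
universe u
open CategoryTheory CategoryTheory.Limits AlgebraicGeometry
attribute [local instance] HasDerivedCategory.standard
open Curves

set_option backward.isDefEq.respectTransparency false
set_option linter.style.haveILetI false
set_option maxHeartbeats 1000000
open Groth.Agent Groth.Agent.Subcurves24

namespace Groth.Agent.S1657

/-- Let X be proper of dimension one over k with global functions k and genus g ≥ 2, with at-worst-nodal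
singularities, and let ω_X be its dualizing module (degree -1 cohomology sheaf of f^! O for f : X →
Spec k, assuming Rf_* on D_QCoh and its right adjoint exist). If ω_X is ample, then ω_X^{⊗3} is very
ample — some closed immersion i : X → P^n_k over k has i^* O(1) ≅ ω_X^{⊗3} — and H^1(X, ω_X^{⊗3}) =
0. -/
theorem result (k : Type u) [Field k] (X : Scheme.{u}) [X.Over (Spec (CommRingCat.of k))] [IsProper (X ↘ (Spec (CommRingCat.of k)))] (hdim : topologicalKrullDim X = 1)
    (h0 : Module.finrank k (Coh.HH X (Coh.structureModule X) 0) = 1) (hg : 2 ≤ Curv2.genus k X) (hX : Curv2.AtWorstNodal k X)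
    [DCoh.HasRpush (X ↘ (Spec (CommRingCat.of k)))] (h : DCoh.RpushPreservesQCoh (X ↘ (Spec (CommRingCat.of k)))) [DCoh.HasShriek (X ↘ (Spec (CommRingCat.of k))) h]
    (OY : DCoh.DQCoh (Spec (CommRingCat.of k))) (hOY : Nonempty (OY.obj ≅ DCoh.inD (Spec (CommRingCat.of k)) (Coh.structureModule (Spec (CommRingCat.of k)))))
    (hample : CohB1.IsAmple (DCoh.dualizingMod (X ↘ (Spec (CommRingCat.of k))) h OY 1)) :
    (∃ (n : ℕ) (i : X ⟶ CohB1.ProjSpace n k), IsClosedImmersion i ∧ i ≫ CohB1.ProjSpace.toSpec n k = X ↘ (Spec (CommRingCat.of k)) ∧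
      Nonempty ((Scheme.Modules.pullback i).obj (Twist.twistProjSpace n k 1) ≅ CohB1.tensorPow (DCoh.dualizingMod (X ↘ (Spec (CommRingCat.of k))) h OY 1) 3)) ∧
      Subsingleton (Coh.HH X (CohB1.tensorPow (DCoh.dualizingMod (X ↘ (Spec (CommRingCat.of k))) h OY 1) 3) 1) := by
  classical
  haveI := EulerLib.isNoetherian_of_proper k (X := X)
  obtain ⟨hred, hconn, hW, ⟨t, hrep⟩, hWe, hdW⟩ := DualMod3.nodal_setup k hdim h0 hX h OY hOY
  haveI := hred
  haveI := hconn
  haveI := NodeLib7.geometricallyReduced_of_atWorstNodal k X hX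
  generalize DCoh.dualizingMod (X ↘ (Spec (CommRingCat.of k))) h OY 1 = W at *
  have hL : PicF.IsInvertible (CohB1.tensorPow W 3) := AmpleLib.isInvertible_tensorPow hW 3
  refine ⟨?_, ?_⟩
  swap
  · obtain ⟨L', hL', ⟨e⟩⟩ := CurveRR24.exists_inverse k hL
    have hM : Subsingleton (Coh.HH X (CohB1.tensorMod W L') 0) := by
      refine DualMod3.subsingleton_h0_of_deg_lt_delta k hdim (AmpleLib.isInvertible_tensorMod hW hL') fun J hJr hJc hJ => ?_
      have h1 := DualMod3.deg_sub_pos_of_ample k hample J hJ
      have h3 := DualMod3.deg_sub_pow k hdim.le J hW 3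
      have h4 := DualMod3.deg_sub_tensor k hdim.le J hW hL'
      have h5 := DualMod3.deg_sub_tensor k hdim.le J hL hL'
      have h6 := DualMod3.deg_sub_structure k J
      letI : J.subscheme.Over (Spec (CommRingCat.of k)) := ⟨J.subschemeι ≫ (X ↘ Spec (CommRingCat.of k))⟩
      rw [CurveRR24.deg_congr k ((Scheme.Modules.pullback J.subschemeι).mapIso e) 1] at h5
      push_cast at h3
      omega
    refine DualMod3.subsingleton_h1_of_hom k t hrep (AmpleLib.isQCoh_of_isInvertible hL) fun f => ?_
    refine SerreDual.tensorRightHom_injective k _ W hL' ?_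
    rw [map_zero, ← cancel_epi e.inv, comp_zero]
    haveI : Subsingleton (Coh.structureModule X ⟶ CohB1.tensorMod W L') :=
      (SerreDual.homUnitHH k (CohB1.tensorMod W L')).toEquiv.subsingleton_congr.2 hM
    exact Subsingleton.elim (α := Coh.structureModule X ⟶ CohB1.tensorMod W L') _ _
  let K := AlgebraicClosure k
  let q := X ↘ Spec (CommRingCat.of k)
  let X' := pullback q (Spec.map (CommRingCat.ofHom (algebraMap k K)))
  let g : X' ⟶ X := pullback.fst _ _
  let _ : X'.Over (Spec (CommRingCat.of K)) := ⟨pullback.snd _ _⟩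
  let q' := X' ↘ Spec (CommRingCat.of K)
  have hpb : IsPullback g q' q (Spec.map (CommRingCat.ofHom (algebraMap k K))) :=
    IsPullback.of_hasPullback _ _
  haveI : IsProper q' := inferInstanceAs (IsProper (pullback.snd q (Spec.map (CommRingCat.ofHom (algebraMap k K)))))
  haveI : IsReduced X' := GeometricallyReduced.geometrically_isReduced (f := q)
    (Spec.map (CommRingCat.ofHom (algebraMap k K))) g q' hpb
  haveI := EulerLib.isNoetherian_of_proper K (X := X')
  haveI : IsAffineHom g :=
    MorphismProperty.IsStableUnderBaseChange.of_isPullback (P := @IsAffineHom) hpb.flip inferInstance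
  have hdim' : topologicalKrullDim X' = 1 := (DimLib.topologicalKrullDim_bc q K).trans hdim
  haveI : ConnectedSpace X' := LefPen24.connectedSpace_of_finrank K
    ((CurveRR24.finrank_HH_structure_bc hpb 0).trans h0)
  let W' := (Scheme.Modules.pullback g).obj W
  have hW' : PicF.IsInvertible W' := PicLoc.isInvertible_pullback g hW
  have hA' : CohB1.IsAmple W' := AmpleLib.isAmple_pullback_of_isAffineHom g hample
  obtain ⟨t', hrep'⟩ := DualMod3.exists_rep_pullback g hpb (d := 1) hdim'.le hW t hrep hample
  have hpt : ∀ P : X', IsClosed ({P} : Set X') → P ∉ genericPoints X' := by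
    intro P hP hg'
    have h1 := DualMod3.components_dim_one hdim' (show closure ({P} : Set X') ∈ irreducibleComponents X' from hg')
    rw [hP.closure_eq] at h1
    have h2 : topologicalKrullDim ({P} : Set X') ≤ 0 := by
      haveI : Subsingleton ({P} : Set X') := Set.subsingleton_singleton.coe_sort
      exact topologicalKrullDim_zero_of_discreteTopology _
    rw [h1] at h2
    exact absurd h2 (by decide)
  obtain ⟨e3⟩ := AmpleLib.exists_pullPowIso g hW 3
  refine DualMod3.exists_closedImmersion_of_bc_h1 k g hpb hL hpt ?_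
  refine DualMod3.subsingleton_h1_ideal_of_deg K hdim' hW' t' hrep' (PicLoc.isInvertible_pullback g hL) 2 fun T hT hTd => ?_
  have hd := DualMod3.deg_sub_pos_of_ample K hA' (red T) hTd
  have h3 := DualMod3.deg_sub_pow K hdim'.le (red T) (show PicF.IsInvertible ((Scheme.Modules.pullback g).obj W) from hW') 3
  letI iT : (red T).subscheme.Over (Spec (CommRingCat.of K)) := ⟨(red T).subschemeι ≫ (X' ↘ Spec (CommRingCat.of K))⟩
  rw [CurveRR24.deg_congr K ((Scheme.Modules.pullback (red T).subschemeι).mapIso e3) 1, h3]
  change _ < 3 * @Curv2.deg K _ (red T).subscheme iT ((Scheme.Modules.pullback (red T).subschemeι).obj W') 1 + _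
  by_contra hcon
  have hδ : DualMod3.delta K (red T) = 0 := by omega
  haveI : IsReduced (red T).subscheme := Props12.isReduced_subscheme_vanishingIdeal T
  haveI := hT
  have hbot := DualMod3.eq_bot_of_delta_eq_zero K (red T) hδ
  have hdeg : Curv2.deg K X' W' 1 = 2 * (Curv2.genus k X : ℤ) - 2 := by
    haveI := AmpleLib.isQCoh_of_isInvertible hW
    exact (CurveRR24.deg_bc hpb W 1).trans hdW
  have he : @Curv2.deg K _ (red T).subscheme iT ((Scheme.Modules.pullback (red T).subschemeι).obj W') 1 = Curv2.deg K X' W' 1 := by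
    have e1 := DualMod3.euler_bot K hW'
    have e2 := DualMod3.euler_bot_structure K (X := X')
    have key : ∀ J : X'.IdealSheafData, J = ⊥ →
        @Curv2.deg K _ J.subscheme ⟨J.subschemeι ≫ (X' ↘ Spec (CommRingCat.of K))⟩
          ((Scheme.Modules.pullback J.subschemeι).obj W') 1 = Curv2.deg K X' W' 1 := by
      rintro J rfl
      simp only [Curv2.deg, Nat.cast_one, one_mul]
      rw [e1, e2]
    exact key (red T) hbot
  omega

end Groth.Agent.S1657
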