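import Groth.Statements.S16572
import Mathlib.FieldTheory.Isaacs
import Mathlib.RingTheory.Polynomial.ScaleRoots
import Mathlib.RingTheory.IntegralClosure.IsIntegralClosure.Basic
import Mathlib.FieldTheory.IsAlgClosed.AlgebraicClosure
-- import your own Groth.Agent.* helpers here

set_option autoImplicit false
universe u
open CAlg

set_option maxHeartbeats 1000000

namespace Groth.Agent.S16572

section
variable (A : Type u) [CommRing A]

abbrev σA : Type u := {P : Polynomial A // P.Monic ∧ 0 < P.natDegree}
noncomputable abbrev JA : Ideal (MvPolynomial (σA A) A) :=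
  Ideal.span (Set.range fun P : σA A => Polynomial.aeval (MvPolynomial.X (R := A) P) P.1)

theorem root (P : (σA A)) : Polynomial.aeval (Ideal.Quotient.mk (JA A) (MvPolynomial.X P)) P.1 = 0 := by
  have : Polynomial.aeval (Ideal.Quotient.mkₐ A (JA A) (MvPolynomial.X P)) P.1 = 0 := by
    rw [Polynomial.aeval_algHom_apply]
    exact Ideal.Quotient.eq_zero_iff_mem.mpr (Ideal.subset_span ⟨P, rfl⟩)
  exact this

theorem isIntegral_quotient : Algebra.IsIntegral A (MvPolynomial (σA A) A ⧸ (JA A)) := by
  refine ⟨fun x => ?_⟩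
  obtain ⟨x, rfl⟩ := Ideal.Quotient.mk_surjective x
  induction x using MvPolynomial.induction_on with
  | C a => exact isIntegral_algebraMap
  | add f g hf hg => rw [map_add]; exact hf.add hg
  | mul_X f P hf => rw [map_mul]; exact hf.mul ⟨P.1, P.2.1, root A P⟩

theorem comap_surjective : Function.Surjective (PrimeSpectrum.comap (algebraMap A (MvPolynomial (σA A) A ⧸ (JA A)))) := by
  intro p
  let Ω := AlgebraicClosure p.asIdeal.ResidueField
  have h : ∀ P : (σA A), ∃ x : Ω, Polynomial.eval₂ (algebraMap A Ω) x P.1 = 0 := fun P => by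
    obtain ⟨x, hx⟩ := IsAlgClosed.exists_root (P.1.map (algebraMap A Ω))
      (Polynomial.degree_ne_of_natDegree_ne (by rw [P.2.1.natDegree_map]; exact P.2.2.ne'))
    exact ⟨x, by rwa [Polynomial.eval₂_eq_eval_map]⟩
  choose x hx using h
  let φ : MvPolynomial (σA A) A →ₐ[A] Ω := MvPolynomial.aeval x
  let ψ : (MvPolynomial (σA A) A ⧸ (JA A)) →ₐ[A] Ω := Ideal.Quotient.liftₐ _ φ fun z hz => by
    refine (Ideal.span_le.mpr ?_ : (JA A) ≤ RingHom.ker φ) hz
    rintro _ ⟨P, rfl⟩
    show φ (Polynomial.aeval (MvPolynomial.X P) P.1) = 0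
    rw [← Polynomial.aeval_algHom_apply, Polynomial.aeval_def, MvPolynomial.aeval_X]
    exact hx P
  refine ⟨⟨RingHom.ker ψ, RingHom.ker_isPrime _⟩, PrimeSpectrum.ext (Ideal.ext fun a => ?_)⟩
  show ψ (algebraMap A _ a) = 0 ↔ a ∈ p.asIdeal
  rw [ψ.commutes, IsScalarTower.algebraMap_apply A p.asIdeal.ResidueField Ω, map_eq_zero,
    Ideal.algebraMap_residueField_eq_zero]

end

/-- Let A be a commutative ring and T the quotient of the polynomial ring over A in indeterminates X_P,
one for each monic polynomial P over A of positive degree, by the ideal generated by the elements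
P(X_P). Then the map on prime spectra Spec T → Spec A is surjective, and for every prime ideal Q of
T, with p its contraction to A, the residue field of Q is algebraically closed and integral over the
residue field of p under the induced map of residue fields (so it is an algebraic closure of it). -/
theorem result (A : Type u) [CommRing A] :
    Function.Surjective (PrimeSpectrum.comap (algebraMap A (MvPolynomial {P : Polynomial A // P.Monic ∧ 0 < P.natDegree} A ⧸
      Ideal.span (Set.range fun P : {P : Polynomial A // P.Monic ∧ 0 < P.natDegree} =>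
        Polynomial.aeval (MvPolynomial.X (R := A) P) P.1)))) ∧
    ∀ (Q : Ideal (MvPolynomial {P : Polynomial A // P.Monic ∧ 0 < P.natDegree} A ⧸
      Ideal.span (Set.range fun P : {P : Polynomial A // P.Monic ∧ 0 < P.natDegree} =>
        Polynomial.aeval (MvPolynomial.X (R := A) P) P.1))) [Q.IsPrime],
      IsAlgClosed Q.ResidueField ∧
      (Ideal.ResidueField.map (Q.comap (algebraMap A (MvPolynomial {P : Polynomial A // P.Monic ∧ 0 < P.natDegree} A ⧸
      Ideal.span (Set.range fun P : {P : Polynomial A // P.Monic ∧ 0 < P.natDegree} =>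
        Polynomial.aeval (MvPolynomial.X (R := A) P) P.1)))) Q (algebraMap A (MvPolynomial {P : Polynomial A // P.Monic ∧ 0 < P.natDegree} A ⧸
      Ideal.span (Set.range fun P : {P : Polynomial A // P.Monic ∧ 0 < P.natDegree} =>
        Polynomial.aeval (MvPolynomial.X (R := A) P) P.1))) rfl).IsIntegral := by
  classical
  refine ⟨comap_surjective A, fun Q _ => ?_⟩
  haveI := isIntegral_quotient A
  let T := MvPolynomial (σA A) A ⧸ JA A
  let q := Q.comap (algebraMap A T)
  let f : q.ResidueField →+* Q.ResidueField := Ideal.ResidueField.map q Q (algebraMap A T) rfl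
  letI := f.toAlgebra
  haveI : IsScalarTower A q.ResidueField Q.ResidueField := IsScalarTower.of_algebraMap_eq fun a => by
    show _ = f _
    rw [show f (algebraMap A q.ResidueField a) = _ from Ideal.ResidueField.map_algebraMap _ _ _ _ a]
    exact IsScalarTower.algebraMap_apply A T Q.ResidueField a
  haveI : Algebra.IsIntegral q.ResidueField Q.ResidueField := ⟨fun z => by
    obtain ⟨a, b, hb, rfl⟩ := IsFractionRing.div_surjective (T ⧸ Q) z
    have hi : ∀ c : T ⧸ Q, IsIntegral q.ResidueField (algebraMap (T ⧸ Q) Q.ResidueField c) := fun c => by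
      obtain ⟨c, rfl⟩ := Ideal.Quotient.mk_surjective c
      have h1 := ((Algebra.IsIntegral.isIntegral (R := A) c).map (IsScalarTower.toAlgHom A T Q.ResidueField)).tower_top
        (A := q.ResidueField)
      rw [show algebraMap (T ⧸ Q) Q.ResidueField (Ideal.Quotient.mk Q c) = algebraMap T Q.ResidueField c from
        (IsScalarTower.algebraMap_apply T (T ⧸ Q) Q.ResidueField c).symm]
      exact h1
    rw [div_eq_mul_inv]
    exact (hi a).mul (hi b).isAlgebraic.inv.isIntegral⟩
  refine ⟨?_, fun z => Algebra.IsIntegral.isIntegral (R := q.ResidueField) z⟩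
  haveI : Algebra.IsAlgebraic q.ResidueField Q.ResidueField := Algebra.IsIntegral.isAlgebraic
  refine (IsAlgClosure.of_exists_root (F := q.ResidueField) (E := Q.ResidueField) fun P hP hirr => ?_).isAlgClosed
  obtain ⟨⟨b, hb⟩, hbP⟩ := IsLocalization.exist_integer_multiples_of_finset (nonZeroDivisors (A ⧸ q))
    (S := q.ResidueField) ((Finset.range P.natDegree).image P.coeff)
  obtain ⟨b, rfl⟩ := Ideal.Quotient.mk_surjective b
  let β : q.ResidueField := algebraMap A q.ResidueField b
  have hβ : β ≠ 0 := by
    intro h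
    rw [Ideal.algebraMap_residueField_eq_zero] at h
    exact nonZeroDivisors.ne_zero hb (Ideal.Quotient.eq_zero_iff_mem.mpr h)
  have hlift : P.scaleRoots β ∈ Polynomial.lifts (algebraMap A q.ResidueField) := by
    rw [Polynomial.lifts_iff_coeff_lifts]
    intro i
    rw [Polynomial.coeff_scaleRoots]
    rcases lt_trichotomy i P.natDegree with h | h | h
    · obtain ⟨c, hc⟩ := hbP (P.coeff i) (Finset.mem_image_of_mem _ (Finset.mem_range.mpr h))
      obtain ⟨c, rfl⟩ := Ideal.Quotient.mk_surjective c
      refine ⟨c * b ^ (P.natDegree - i - 1), ?_⟩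
      rw [map_mul, map_pow, show algebraMap A q.ResidueField c = β * P.coeff i from
        hc.trans (Algebra.smul_def _ _), mul_comm β, mul_assoc, ← pow_succ']
      congr 2
      omega
    · exact ⟨1, by rw [h, Nat.sub_self, pow_zero, mul_one, map_one]; exact hP.coeff_natDegree.symm⟩
    · exact ⟨0, by rw [Polynomial.coeff_eq_zero_of_natDegree_lt h, zero_mul, map_zero]⟩
  obtain ⟨P₀, hP₀, hd, hm⟩ := Polynomial.lifts_and_natDegree_eq_and_monic hlift
    (Polynomial.monic_scaleRoots_iff β |>.mpr hP)
  rw [Polynomial.natDegree_scaleRoots] at hd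
  let y : Q.ResidueField := algebraMap T Q.ResidueField
    (Ideal.Quotient.mk _ (MvPolynomial.X ⟨P₀, hm, hd ▸ hirr.natDegree_pos⟩))
  have hy : Polynomial.aeval y (P.scaleRoots β) = 0 := by
    rw [← hP₀, Polynomial.aeval_map_algebraMap, Polynomial.aeval_algebraMap_apply, root A ⟨P₀, hm, hd ▸ hirr.natDegree_pos⟩, map_zero]
  refine ⟨algebraMap q.ResidueField Q.ResidueField β⁻¹ * y, ?_⟩
  have := Polynomial.scaleRoots_aeval_eq_zero (r := β⁻¹) hy
  rwa [← Polynomial.scaleRoots_mul, mul_inv_cancel₀ hβ, Polynomial.scaleRoots_one] at this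

end Groth.Agent.S16572
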