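import Groth.Statements.S16574
import Mathlib.AlgebraicGeometry.QuasiAffine
import Mathlib.AlgebraicGeometry.Morphisms.Separated
import Mathlib.RingTheory.Localization.Integral
import Mathlib.RingTheory.Polynomial.ScaleRoots

set_option autoImplicit false
set_option backward.isDefEq.respectTransparency false
set_option backward.isDefEq.respectTransparency.types false
universe u
open CategoryTheory AlgebraicGeometry
open AffSch

namespace Groth.Agent.S16574

open TopologicalSpace Polynomial
open AlgebraicGeometry CategoryTheory Limits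

/-- An element of `R` integral over `A` after localisation has an integral multiple. -/
theorem exists_integral_multiple {A R S : Type u} [CommRing A] [CommRing R] [CommRing S] [Algebra A R]
    [Algebra R S] [Algebra A S] [IsScalarTower A R S] (f : A) [IsLocalization.Away (algebraMap A R f) S]
    (c : R) (hc : IsIntegral A (algebraMap R S c)) : ∃ L : ℕ, IsIntegral A (algebraMap A R (f ^ L) * c) := by
  nontriviality A
  obtain ⟨p, hp, hp0⟩ := hc
  have h1 : algebraMap R S (eval₂ (algebraMap A R) c p) = 0 := by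
    rw [hom_eval₂, ← IsScalarTower.algebraMap_eq]; exact hp0
  obtain ⟨⟨_, L, rfl⟩, hL⟩ := (IsLocalization.map_eq_zero_iff (Submonoid.powers (algebraMap A R f)) S _).1 h1
  refine ⟨L, (p * X).scaleRoots (f ^ L), (monic_scaleRoots_iff _).2 (hp.mul monic_X), ?_⟩
  rw [scaleRoots_eval₂_mul, hp.natDegree_mul monic_X, natDegree_X, eval₂_mul, eval₂_X, pow_succ, map_pow]
  simp only at hL
  linear_combination ((algebraMap A R f ^ L) ^ p.natDegree * c) * hL

/-- A finite subalgebra with the given localisations. -/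
theorem exists_finite_subalgebra {A R : Type u} [CommRing A] [CommRing R] [Algebra A R] {ι : Type u} [Finite ι]
    (f : ι → A) (Am S : ι → Type u) [∀ i, CommRing (Am i)] [∀ i, CommRing (S i)] [∀ i, Algebra A (Am i)]
    [∀ i, IsLocalization.Away (f i) (Am i)] [∀ i, Algebra R (S i)] [∀ i, Algebra A (S i)]
    [∀ i, IsScalarTower A R (S i)] [∀ i, IsLocalization.Away (algebraMap A R (f i)) (S i)]
    [∀ i, Algebra (Am i) (S i)] [∀ i, IsScalarTower A (Am i) (S i)] [∀ i, Module.Finite (Am i) (S i)] :
    ∃ B : Subalgebra A R, Module.Finite A B ∧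
      ∀ i, IsLocalization.Away (algebraMap A B (f i)) (S i) := by
  classical
  choose T hT using fun i => (Module.Finite.fg_top : (⊤ : Submodule (Am i) (S i)).FG)
  have key : ∀ i (x : S i), ∃ (n : ℕ) (c : R), IsIntegral A c ∧
      algebraMap R (S i) c = algebraMap A (S i) (f i ^ n) * x := fun i x => by
    obtain ⟨⟨_, m, rfl⟩, hm⟩ := IsIntegral.exists_multiple_integral_of_isLocalization
      (Submonoid.powers (f i)) (Rₘ := Am i) x (IsIntegral.of_finite (Am i) x)
    obtain ⟨k, c, hk⟩ := IsLocalization.Away.surj (algebraMap A R (f i)) (algebraMap A (S i) (f i ^ m) * x)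
    rw [← IsScalarTower.algebraMap_apply, ← map_pow] at hk
    have hc : IsIntegral A (algebraMap R (S i) c) := by
      rw [← hk]
      refine IsIntegral.mul ?_ isIntegral_algebraMap
      simpa [Submonoid.smul_def, Algebra.smul_def] using hm
    obtain ⟨L, hL⟩ := exists_integral_multiple (f i) c hc
    refine ⟨L + m + k, _, hL, ?_⟩
    rw [map_mul, ← IsScalarTower.algebraMap_apply, ← hk, pow_add, pow_add, map_mul, map_mul]
    ring
  choose N C hC hCx using key
  cases nonempty_fintype ι
  let s : Set R := ⋃ i, C i '' (T i : Set (S i))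
  let B := Algebra.adjoin A s
  refine ⟨B, Algebra.finite_adjoin_of_finite_of_isIntegral
    (Set.finite_iUnion fun i => (T i).finite_toSet.image _) (fun x hx => by
      obtain ⟨i, y, -, rfl⟩ := by simpa [s] using hx
      exact hC i y), fun i => ?_⟩
  have hBA : ∀ a : A, algebraMap B (S i) (algebraMap A B a) = algebraMap A (S i) a := fun a =>
    (IsScalarTower.algebraMap_apply A R (S i) a).symm
  have hu : IsUnit (algebraMap A (S i) (f i)) := by
    rw [IsScalarTower.algebraMap_apply A R (S i)]
    exact IsLocalization.Away.algebraMap_isUnit _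
  refine IsLocalization.Away.mk _ (by rw [hBA]; exact hu) (fun x => ?_) (fun a b hab => ?_)
  · have hx : x ∈ Submodule.span (Am i) (T i : Set (S i)) := hT i ▸ trivial
    induction hx using Submodule.span_induction with
    | mem x hx =>
      refine ⟨N i x, ⟨C i x, Algebra.subset_adjoin (Set.mem_iUnion.2 ⟨i, x, hx, rfl⟩)⟩, ?_⟩
      rw [hBA, ← map_pow]
      exact (mul_comm _ _).trans (hCx i x).symm
    | zero => exact ⟨0, 0, by simp⟩
    | add x y _ _ hx hy =>
      obtain ⟨n, a, ha⟩ := hx
      obtain ⟨m, b, hb⟩ := hy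
      refine ⟨n + m, a * algebraMap A B (f i) ^ m + b * algebraMap A B (f i) ^ n, ?_⟩
      simp only [map_add, map_mul, map_pow, ← ha, ← hb, pow_add]
      ring
    | smul a x _ hx =>
      obtain ⟨n, b, hb⟩ := hx
      obtain ⟨m, a', ha⟩ := IsLocalization.Away.surj (f i) a
      refine ⟨n + m, algebraMap A B a' * b, ?_⟩
      rw [hBA] at hb ⊢
      rw [map_mul, hBA, ← hb, Algebra.smul_def, IsScalarTower.algebraMap_apply A (Am i) (S i) a', ← ha,
        map_mul, map_pow, ← IsScalarTower.algebraMap_apply, pow_add]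
      ring
  · obtain ⟨n, hn⟩ := IsLocalization.Away.exists_of_eq (S := S i) (algebraMap A R (f i))
      (a := (a : R)) (b := (b : R)) hab
    exact ⟨n, Subtype.ext (by simpa using hn)⟩


theorem main (A : CommRingCat.{u}) (U : (Spec A).Opens) (hU : IsCompact (U : Set (Spec A)))
    (U' : Scheme.{u}) (g : U' ⟶ (U : Scheme.{u})) [IsFinite g] :
    ∃ (B : Type u) (_ : CommRing B) (_ : Algebra A B) (i : U' ⟶ Spec (CommRingCat.of B)),
      Module.Finite A B ∧ IsPullback i g (Spec.map (CommRingCat.ofHom (algebraMap A B))) U.ι := by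
  let h : U' ⟶ Spec A := g ≫ U.ι
  have : CompactSpace U := isCompact_iff_compactSpace.1 hU
  have : U.toScheme.IsQuasiAffine := Scheme.IsQuasiAffine.of_isImmersion U.ι
  have : U'.IsQuasiAffine := Scheme.IsQuasiAffine.of_isAffineHom g
  let φ : A ⟶ Γ(U', ⊤) := (Scheme.ΓSpecIso A).inv ≫ h.appTop
  let : Algebra A Γ(U', ⊤) := φ.hom.toAlgebra
  have hφ : U'.toSpecΓ ≫ Spec.map φ = h := by
    rw [Spec.map_comp, ← Scheme.toSpecΓ_naturality_assoc, ← SpecMap_ΓSpecIso_hom, ← Spec.map_comp,
      Iso.inv_hom_id, Spec.map_id, Category.comp_id]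
  obtain ⟨t, ht, htU⟩ := ((PrimeSpectrum.isBasis_basic_opens (R := A)).isCompact_open_iff_eq_finite_iUnion _
    PrimeSpectrum.isCompact_basicOpen (((show Opens (PrimeSpectrum A) from U)) : Set (PrimeSpectrum A))).1 ⟨hU, U.isOpen⟩
  have : Finite t := ht
  let D : t → (Spec A).Opens := fun a => PrimeSpectrum.basicOpen (R := CommRingCat.of A) a.1
  have hle : ∀ a : t, D a ≤ U := fun a => by
    intro x hx
    refine htU.ge ?_
    revert x
    exact Set.subset_biUnion_of_mem (u := fun a => ((PrimeSpectrum.basicOpen a : Opens (PrimeSpectrum A)) : Set (PrimeSpectrum A))) a.2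
  have hpre : ∀ a : t, h ⁻¹ᵁ D a = U'.basicOpen (algebraMap A Γ(U', ⊤) a.1) :=
    fun a => by
      conv_lhs => rw [← hφ]
      rw [Scheme.Hom.comp_preimage]
      exact U'.toSpecΓ_preimage_basicOpen _
  let S : t → Type u := fun a => Γ(U', U'.basicOpen (algebraMap A Γ(U', ⊤) a.1))
  let Am : t → Type u := fun a => Γ(Spec A, D a)
  let ψ : ∀ a : t, Am a →+* S a := fun a => (h.appLE _ _ (hpre a).ge).hom
  let : ∀ a : t, Algebra (Am a) (S a) := fun a => (ψ a).toAlgebra
  let : ∀ a : t, Algebra A (Am a) := fun a =>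
    inferInstanceAs (Algebra A Γ(Spec A, D a))
  let : ∀ a : t, Algebra A (S a) := fun a => ((algebraMap Γ(U', ⊤) (S a)).comp (algebraMap A Γ(U', ⊤))).toAlgebra
  have : ∀ a : t, IsScalarTower A Γ(U', ⊤) (S a) := fun a => IsScalarTower.of_algebraMap_eq fun _ => rfl
  have : ∀ a : t, IsLocalization.Away a.1 (Am a) := fun a =>
    inferInstanceAs (IsLocalization.Away (a.1 : CommRingCat.of A) Γ(Spec A, D a))
  have : ∀ a : t, IsLocalization.Away (algebraMap A Γ(U', ⊤) a.1) (S a) := fun a =>
    isLocalization_basicOpen_of_qcqs isCompact_univ isQuasiSeparated_univ _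
  have : ∀ a : t, IsScalarTower A (Am a) (S a) := fun a => IsScalarTower.of_algebraMap_eq fun x => by
    change (φ ≫ U'.presheaf.map (homOfLE le_top).op).hom x = (((Scheme.ΓSpecIso A).inv ≫
      (Spec A).presheaf.map (homOfLE le_top).op) ≫ h.appLE _ _ (hpre a).ge).hom x
    rw [Category.assoc, Category.assoc, Scheme.Hom.map_appLE]
    rfl
  have haff : ∀ a : t, IsAffineOpen (U'.basicOpen (algebraMap A Γ(U', ⊤) a.1)) := fun a => by
    rw [← hpre, show h = g ≫ U.ι from rfl, Scheme.Hom.comp_preimage]
    exact ((IsAffineOpen.Spec_basicOpen (R := CommRingCat.of A) a.1).preimage_of_isOpenImmersion U.ι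
      (by rw [Scheme.Opens.opensRange_ι]; exact hle a)).preimage g
  have : ∀ a : t, Module.Finite (Am a) (S a) := fun a => by
    change (ψ a).Finite
    have : IsIso (U.ι.app (D a)) :=
      U.ι.isIso_app _ (by rw [Scheme.Opens.opensRange_ι]; exact hle a)
    have hfin : (h.app (D a)).hom.Finite := by
      rw [show h.app _ = _ from Scheme.Hom.comp_app g U.ι _]
      exact (g.finite_app _ ((IsAffineOpen.Spec_basicOpen (R := CommRingCat.of A) a.1).preimage_of_isOpenImmersion U.ι
        (by rw [Scheme.Opens.opensRange_ι]; exact hle a))).comp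
          (RingHom.Finite.of_surjective (CommRingCat.Hom.hom (U.ι.app (D a)))
            (ConcreteCategory.bijective_of_isIso (U.ι.app (D a))).2)
    rw [show ψ a = (h.app _ ≫ U'.presheaf.map (homOfLE (hpre a).ge).op).hom from rfl, CommRingCat.hom_comp]
    have : IsIso (homOfLE (hpre a).ge) :=
      ⟨homOfLE (hpre a).le, Subsingleton.elim _ _, Subsingleton.elim _ _⟩
    have : IsIso (U'.presheaf.map (homOfLE (hpre a).ge).op) := inferInstance
    exact (RingHom.Finite.of_surjective (CommRingCat.Hom.hom (U'.presheaf.map (homOfLE (hpre a).ge).op))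
      (ConcreteCategory.bijective_of_isIso (U'.presheaf.map (homOfLE (hpre a).ge).op)).2).comp hfin
  obtain ⟨B, hB, hloc⟩ := exists_finite_subalgebra (R := Γ(U', ⊤)) (fun a : t => a.1) Am S
  let i : U' ⟶ Spec (CommRingCat.of B) := U'.toSpecΓ ≫ Spec.map (CommRingCat.ofHom B.val.toRingHom)
  let q := Spec.map (CommRingCat.ofHom (algebraMap A B))
  have hiq : i ≫ q = h := by
    rw [Category.assoc, ← Spec.map_comp, show CommRingCat.ofHom (algebraMap A B) ≫
      CommRingCat.ofHom B.val.toRingHom = φ from rfl, hφ]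
  have hpre' : ∀ a : t, i ⁻¹ᵁ PrimeSpectrum.basicOpen (algebraMap A B a.1) =
      U'.basicOpen (algebraMap A Γ(U', ⊤) a.1) := fun a => by
    rw [Scheme.Hom.comp_preimage]
    exact U'.toSpecΓ_preimage_basicOpen _
  have hloc' : ∀ a : t, (U'.basicOpen (algebraMap A Γ(U', ⊤) a.1)).ι ≫ i = (haff a).isoSpec.hom ≫
      Spec.map (CommRingCat.ofHom (algebraMap B (S a))) := fun a => by
    rw [← Category.assoc, ← Scheme.Opens.toSpecΓ_SpecMap_presheaf_map_top, Category.assoc, ← Spec.map_comp]
    rfl
  have hrange : ∀ a : t, Set.range ((U'.basicOpen (algebraMap A Γ(U', ⊤) a.1)).ι ≫ i) =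
      ((PrimeSpectrum.basicOpen (algebraMap A B a.1) : Opens (PrimeSpectrum B)) : Set (PrimeSpectrum B)) := fun a => by
    rw [hloc', Scheme.Hom.comp_base, TopCat.coe_comp, Set.range_comp,
      (ConcreteCategory.bijective_of_isIso (haff a).isoSpec.hom.base).2.range_eq, Set.image_univ]
    exact PrimeSpectrum.localization_away_comap_range (S a) (algebraMap A B a.1)
  have hcov : ∀ x : U', ∃ a : t, x ∈ U'.basicOpen (algebraMap A Γ(U', ⊤) a.1) := fun x => by
    have hx : h x ∈ (U : Set (Spec A)) := (g x).2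
    rw [htU] at hx
    obtain ⟨a, ha, hxa⟩ := Set.mem_iUnion₂.1 hx
    exact ⟨⟨a, ha⟩, (hpre ⟨a, ha⟩).le hxa⟩
  have : IsOpenImmersion i := by
    refine IsZariskiLocalAtTarget.of_forall_source_exists_preimage _ fun x => ?_
    obtain ⟨a, ha⟩ := hcov x
    refine ⟨PrimeSpectrum.basicOpen (algebraMap A B a.1), (hpre' a).ge ha, ?_⟩
    suffices IsOpenImmersion ((U'.basicOpen (algebraMap A Γ(U', ⊤) a.1)).ι ≫ i) by
      convert! this <;> rw [hpre']
    rw [hloc']
    exact MorphismProperty.comp_mem _ (haff a).isoSpec.hom _ inferInstance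
      (.of_isLocalization (algebraMap A B a.1))
  refine ⟨B, inferInstance, inferInstance, i, hB, ?_⟩
  refine (IsOpenImmersion.isPullback g i U.ι q hiq ?_).flip
  refine le_antisymm (fun y hy => ?_) ?_
  · rw [Scheme.Opens.opensRange_ι] at hy
    have hy' : q y ∈ (U : Set (Spec A)) := hy
    rw [htU] at hy'
    obtain ⟨a, ha, hya⟩ := Set.mem_iUnion₂.1 hy'
    obtain ⟨z, hz⟩ := (hrange ⟨a, ha⟩).ge (show y ∈ _ from hya)
    exact ⟨_, hz⟩
  · rintro _ ⟨z, rfl⟩
    rw [Scheme.Opens.opensRange_ι]
    change q (i z) ∈ U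
    rw [← Scheme.Hom.comp_apply, hiq]
    exact (g z).2


/-- Let A be a commutative ring, U a quasi-compact open subscheme of Spec A and U' → U a finite
morphism. Then there exist a finite A-algebra B and a morphism U' → Spec B such that the square
formed by U' → U, U' → Spec B, Spec B → Spec A and the inclusion of U is cartesian; in particular U'
→ Spec B is the open immersion of the preimage of U. (If U contains the complement of the closed set
of an ideal I then this preimage contains the complement of the closed set of IB; that clause is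
automatic and omitted.) -/
theorem result
    (A : Type u) [CommRing A] (U : (Spec (CommRingCat.of A)).Opens) (hU : IsCompact (U : Set (Spec (CommRingCat.of A))))
    (U' : Scheme.{u}) (g : U' ⟶ (U : Scheme.{u})) [IsFinite g] :
    ∃ (B : Type u) (_ : CommRing B) (_ : Algebra A B) (i : U' ⟶ Spec (CommRingCat.of B)),
      Module.Finite A B ∧ IsPullback i g (Spec.map (CommRingCat.ofHom (algebraMap A B))) U.ι := by
  exact main (CommRingCat.of A) U hU U' g

end Groth.Agent.S16574
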