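import Groth.Statements.S16575
import Groth.Agent.HenselLib.BranchDim
import Groth.Agent.HenselLib.StrictCompletion
import Groth.Agent.HenselLib.PunctureSplit
-- import your own Groth.Agent.* helpers here

set_option autoImplicit false
set_option linter.all false
set_option backward.isDefEq.respectTransparency false
universe u
open CAlg

namespace Groth.Agent.S16575

section
open IsLocalRing

theorem not_two_le_iff (d : WithBot ℕ∞) : ¬ (2 : WithBot ℕ∞) ≤ d ↔ d ≤ 1 := by
  induction d with
  | bot => simp [WithBot.ofNat_ne_bot]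
  | coe d =>
    rw [show ((2 : WithBot ℕ∞)) = ((2 : ℕ∞) : WithBot ℕ∞) from rfl, show ((1 : WithBot ℕ∞)) = ((1 : ℕ∞) : WithBot ℕ∞) from rfl,
      WithBot.coe_le_coe, WithBot.coe_le_coe, not_le, show (2 : ℕ∞) = 1 + 1 from one_add_one_eq_two.symm,
      ENat.lt_add_one_iff ENat.one_ne_top]

variable {A : Type u} [CommRing A] [IsLocalRing A] [IsNoetherianRing A]

theorem iff_of_hull (K : Type u) [Field K] [Algebra A K] [IsLocalHom (algebraMap A K)]
    {S : Type u} [CommRing S] [IsLocalRing S] [Algebra A S] (e : HenselLib.Hull A K ≃ₐ[A] S)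
    [HenselianLocalRing S] [IsLocalHom (algebraMap A S)] (C : WithBot ℕ∞ → Prop) :
    (∀ m' : MaximalSpectrum (CAlg2.normRed A), C (ringKrullDim (Localization.AtPrime m'.asIdeal))) ↔
      ∀ P ∈ minimalPrimes S, C (ringKrullDim (S ⧸ P)) := by
  classical
  obtain ⟨_, _, _, _⟩ := CAlgSmall.UnibranchHull.hull_facts (A := A) (K := K)
  haveI : Module.Flat A S := Module.Flat.of_linearEquiv e.symm.toLinearEquiv
  refine HenselLib.BranchDim.forall_branches_iff (minimalPrimes.finite_of_isNoetherianRing A) ?_ ?_ C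
  · intro q q' hq hq' hle he
    haveI := hq
    haveI := hq'
    refine Ideal.comap_injective_of_surjective e.toAlgHom.toRingHom e.surjective
      (HenselLib.hull_eq_of_le_of_comap_eq (Ideal.comap_mono hle) ?_)
    ext a
    simp only [Ideal.mem_comap]
    show e (algebraMap A _ a) ∈ q ↔ e (algebraMap A _ a) ∈ q'
    rw [e.commutes]
    exact SetLike.ext_iff.1 he a
  · intro T
    obtain ⟨E, i1, i2, i3, g, hg⟩ := EGA43.BranchCount.exists_stage (T.image e.symm)
    refine ⟨E, i1, i2, i3, e.toAlgHom.comp g, fun b hb => ?_⟩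
    obtain ⟨x, hx⟩ := hg (e.symm b) (Finset.mem_image_of_mem _ hb)
    exact ⟨x, by rw [AlgHom.comp_apply, hx]; exact e.apply_symm_apply b⟩

theorem iff_self [HenselianLocalRing A] (C : WithBot ℕ∞ → Prop) :
    (∀ m' : MaximalSpectrum (CAlg2.normRed A), C (ringKrullDim (Localization.AtPrime m'.asIdeal))) ↔
      ∀ P ∈ minimalPrimes A, C (ringKrullDim (A ⧸ P)) := by
  haveI : IsLocalHom (algebraMap A A) := ⟨fun a h => h⟩
  exact HenselLib.BranchDim.forall_branches_iff (A := A) (H := A) (minimalPrimes.finite_of_isNoetherianRing A)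
    (fun q q' _ _ _ he => by simpa using he)
    (fun T => ⟨A, inferInstance, inferInstance, inferInstance, AlgHom.id A A, fun b _ => ⟨b, rfl⟩⟩) C

/-- The strict henselizations of a ring and of its completion have branches of dimension at most one together. -/
theorem exists_small_iff {B C : Type u} [CommRing B] [CommRing C] [IsLocalRing B] [IsLocalRing C]
    [IsNoetherianRing B] [IsNoetherianRing C] [HenselianLocalRing B] [Algebra B C] [Module.Flat B C]
    [IsLocalHom (algebraMap B C)]
    (happ : ∀ (N : ℕ) (c : C), ∃ b : B, c - algebraMap B C b ∈ (maximalIdeal B ^ N).map (algebraMap B C)) :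
    (∃ P ∈ minimalPrimes B, ringKrullDim (B ⧸ P) ≤ 1) ↔ ∃ Q ∈ minimalPrimes C, ringKrullDim (C ⧸ Q) ≤ 1 := by
  have hloc := ((local_hom_TFAE (algebraMap B C)).out 0 4 rfl rfl).mp ‹IsLocalHom (algebraMap B C)›
  haveI : Module.FaithfullyFlat B C := Module.FaithfullyFlat.of_flat_of_isLocalHom
  have hgen : maximalIdeal C ≤ (maximalIdeal B).map (algebraMap B C) := fun z hz => by
    obtain ⟨b, hb⟩ := happ 1 z
    rw [pow_one] at hb
    have hb' : b ∈ maximalIdeal B := by
      rw [← hloc]
      show algebraMap B C b ∈ maximalIdeal C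
      rw [show algebraMap B C b = z - (z - algebraMap B C b) by ring]
      exact sub_mem hz (map_maximalIdeal_le _ hb)
    simpa using add_mem hb (Ideal.mem_map_of_mem (algebraMap B C) hb')
  constructor
  · rintro ⟨P, hP, hd⟩
    haveI := hP.1.1
    obtain ⟨Q₁, hQ₁⟩ := PrimeSpectrum.comap_surjective_of_faithfullyFlat (A := B) (B := C) ⟨P, inferInstance⟩
    obtain ⟨Q, hQ, hQle⟩ := Ideal.exists_minimalPrimes_le (J := Q₁.asIdeal) bot_le
    haveI := hQ.1.1
    have hQP : Q.comap (algebraMap B C) = P := by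
      have h1 : Q.comap (algebraMap B C) ≤ P :=
        (Ideal.comap_mono hQle).trans (congr(($hQ₁).asIdeal) : Q₁.asIdeal.comap (algebraMap B C) = P).le
      exact le_antisymm h1 (hP.2 ⟨inferInstance, bot_le⟩ h1)
    refine ⟨Q, hQ, ?_⟩
    by_cases hPm : P = maximalIdeal B
    · have hQm : Q = maximalIdeal C := le_antisymm (le_maximalIdeal hQ.1.1.ne_top)
        (hgen.trans (Ideal.map_le_iff_le_comap.mpr (hQP.trans hPm).ge))
      subst hQm
      rw [ringKrullDim_eq_zero_of_isField ((Ideal.Quotient.maximal_ideal_iff_isField_quotient _).mp inferInstance)]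
      exact zero_le_one
    rw [ringKrullDim_quotient] at hd
    obtain ⟨x, hxm, hxP⟩ := SetLike.exists_of_lt (lt_of_le_of_ne (le_maximalIdeal hP.1.1.ne_top) hPm)
    haveI : IsLocalRing (C ⧸ Q) := .of_surjective' _ Ideal.Quotient.mk_surjective
    rw [← maximalIdeal_height_eq_ringKrullDim]
    have hmin : maximalIdeal (C ⧸ Q) ∈ (Ideal.span {Ideal.Quotient.mk Q (algebraMap B C x)}).minimalPrimes := by
      refine ⟨⟨inferInstance, ?_⟩, fun R hR _ => ?_⟩
      · rw [Ideal.span_singleton_le_iff_mem, ← map_maximalIdeal_of_surjective _ Ideal.Quotient.mk_surjective]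
        exact Ideal.mem_map_of_mem _ (map_maximalIdeal_le _ (Ideal.mem_map_of_mem _ hxm))
      · haveI := hR.1
        have hxR : x ∈ (R.comap (Ideal.Quotient.mk Q)).comap (algebraMap B C) := hR.2 (Ideal.mem_span_singleton_self _)
        have hQR : Q ≤ R.comap (Ideal.Quotient.mk Q) := fun z hz => by
          simp [Ideal.mem_comap, Ideal.Quotient.eq_zero_iff_mem.mpr hz]
        let y : PrimeSpectrum.zeroLocus (P : Set B) :=
          ⟨⟨(R.comap (Ideal.Quotient.mk Q)).comap (algebraMap B C), inferInstance⟩, hQP.ge.trans (Ideal.comap_mono hQR)⟩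
        let z : PrimeSpectrum.zeroLocus (P : Set B) := ⟨⟨P, inferInstance⟩, fun _ h => h⟩
        have h2 : maximalIdeal B ≤ y.1.asIdeal := by
          rcases (Order.krullDim_le_one_iff.mp hd) y with h | h
          · exact absurd ((show y.1.asIdeal ≤ P from h (show z ≤ y from y.2)) hxR) hxP
          · exact h (show y ≤ (⟨⟨maximalIdeal B, inferInstance⟩, le_maximalIdeal hP.1.1.ne_top⟩ :
              PrimeSpectrum.zeroLocus (P : Set B)) from le_maximalIdeal y.1.2.ne_top)
        rw [← map_maximalIdeal_of_surjective (Ideal.Quotient.mk Q) Ideal.Quotient.mk_surjective,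
          Ideal.map_le_iff_le_comap]
        exact hgen.trans (Ideal.map_le_iff_le_comap.mpr h2)
    exact WithBot.coe_le_coe.mpr (Ideal.height_le_one_of_isPrincipal_of_mem_minimalPrimes _ _ hmin)
  · rintro ⟨Q, hQ, hd⟩
    haveI := hQ.1.1
    rw [ringKrullDim_quotient] at hd
    let P := Q.comap (algebraMap B C)
    have hP : P ∈ minimalPrimes B := CAlgSmall.UnibranchHull.comap_mem_minimalPrimes hQ
    have hQmin : Q ∈ (P.map (algebraMap B C)).minimalPrimes :=
      ⟨⟨inferInstance, Ideal.map_comap_le⟩, fun R hR hRQ => hQ.2 ⟨hR.1, bot_le⟩ hRQ⟩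
    have hcov : ∀ R : Ideal C, R.IsPrime → Q ≤ R → R ≠ Q → R = maximalIdeal C := by
      intro R hR hQR hne
      let y : PrimeSpectrum.zeroLocus (Q : Set C) := ⟨⟨R, hR⟩, hQR⟩
      rcases (Order.krullDim_le_one_iff.mp hd) y with h | h
      · exact absurd (le_antisymm (show R ≤ Q from
          h (show (⟨⟨Q, inferInstance⟩, fun _ h => h⟩ : PrimeSpectrum.zeroLocus (Q : Set C)) ≤ y from hQR)) hQR) hne
      · exact le_antisymm (le_maximalIdeal hR.ne_top)
          (h (show y ≤ (⟨⟨maximalIdeal C, inferInstance⟩, le_maximalIdeal hQ.1.1.ne_top⟩ :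
            PrimeSpectrum.zeroLocus (Q : Set C)) from le_maximalIdeal hR.ne_top))
    refine ⟨P, hP, ?_⟩
    rw [ringKrullDim_quotient, Order.krullDim_le_one_iff]
    intro y
    by_cases hy : y.1.asIdeal = P
    · left
      intro b _
      show y.1.asIdeal ≤ b.1.asIdeal
      rw [hy]; exact b.2
    · right
      intro b _
      haveI := y.1.2
      have h1 := HenselLib.PunctureSplit.eq_of_lt_prime happ P Q hQmin rfl hcov y.1.asIdeal
        (lt_of_le_of_ne y.2 (Ne.symm hy))
      show b.1.asIdeal ≤ y.1.asIdeal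
      rw [h1]; exact le_maximalIdeal b.1.2.ne_top

end

/-- Let A be a Noetherian local ring, S a henselization of A, S' a strict henselization of A, A' the
integral closure of the reduction of A in its total ring of fractions, and Â the completion of A at
its maximal ideal. The following are equivalent: (i) for every maximal ideal m' of A' the local ring
of A' at m' has Krull dimension at least 2; (ii) every irreducible component of Spec S has dimension
at least 2; (ii bis) every irreducible component of Spec S' has dimension at least 2; (iii) every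
irreducible component of Spec Â has dimension at least 2. (A closed subscheme Z of a Noetherian
scheme X is called c_2 when these hold at the local ring of every point of Z; condition (i) at all
points of Z says that the preimage of Z in the normalization has codimension at least 2.) -/
theorem result
    (A : Type u) [CommRing A] [IsNoetherianRing A] [IsLocalRing A]
    (S : Type u) [CommRing S] [IsLocalRing S] [Algebra A S] [IsLocalHom (algebraMap A S)]
    [Hensel.IsHenselization A S]
    (S' : Type u) [CommRing S'] [IsLocalRing S'] [Algebra A S'] [IsLocalHom (algebraMap A S')]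
    [Hensel.IsStrictHenselization A S'] :
    List.TFAE [
      ∀ m' : MaximalSpectrum (CAlg2.normRed A), (2 : WithBot ℕ∞) ≤ ringKrullDim (Localization.AtPrime m'.asIdeal),
      ∀ p ∈ minimalPrimes S, (2 : WithBot ℕ∞) ≤ ringKrullDim (S ⧸ p),
      ∀ p ∈ minimalPrimes S', (2 : WithBot ℕ∞) ≤ ringKrullDim (S' ⧸ p),
      ∀ q ∈ minimalPrimes (AdicCompletion (IsLocalRing.maximalIdeal A) A), (2 : WithBot ℕ∞) ≤ ringKrullDim (AdicCompletion (IsLocalRing.maximalIdeal A) A ⧸ q)] := by
  let Ah := AdicCompletion (IsLocalRing.maximalIdeal A) A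
  haveI : IsNoetherianRing Ah := Groth.Agent.Matlis6.isNoetherianRing_adicCompletion _
  haveI : IsNoetherianRing S' := HenselLib.StrictCompletion.isNoetherianRing_sh A S'
  haveI := Hensel.IsHenselization.henselian (R := A) (S := S)
  haveI := Hensel.IsStrictHenselization.henselian (R := A) (S := S')
  obtain ⟨eh⟩ := HenselLib.exists_equiv_localH (R := A) S
  obtain ⟨es⟩ := HenselLib.exists_equiv_localSH (R := A) S'
  letI : Field (A ⧸ IsLocalRing.maximalIdeal A) := Ideal.Quotient.field _
  haveI : IsLocalHom (algebraMap A (A ⧸ IsLocalRing.maximalIdeal A)) :=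
    ⟨fun r h => by_contra fun hr => h.ne_zero (Ideal.Quotient.eq_zero_iff_mem.mpr
      ((IsLocalRing.mem_maximalIdeal r).mpr hr))⟩
  have h12 := iff_of_hull (A := A) _ eh (fun d => 2 ≤ d)
  have h13 := iff_of_hull (A := A) _ es (fun d => 2 ≤ d)
  let T := HenselLib.LocalSH Ah
  haveI hTs : Hensel.IsStrictHenselization Ah T := HenselLib.isStrictHenselization_localSH
  haveI : IsNoetherianRing T := HenselLib.StrictCompletion.isNoetherianRing_sh Ah T
  haveI : HenselianLocalRing Ah := HenselLib.henselianLocalRing_of_henselianRing _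
  have h4T : (∀ q ∈ minimalPrimes Ah, (2 : WithBot ℕ∞) ≤ ringKrullDim (Ah ⧸ q)) ↔
      ∀ Q ∈ minimalPrimes T, (2 : WithBot ℕ∞) ≤ ringKrullDim (T ⧸ Q) :=
    (iff_self (A := Ah) (fun d => 2 ≤ d)).symm.trans (iff_of_hull (A := Ah) _ AlgEquiv.refl (fun d => 2 ≤ d))
  obtain ⟨g, hgl, hgf, hg, happ⟩ := HenselLib.StrictCompletion.exists_map A S' T
  letI : Algebra S' T := g.toAlgebra
  haveI : Module.Flat S' T := hgf
  haveI : IsLocalHom (algebraMap S' T) := hgl
  have h34 : (∀ p ∈ minimalPrimes S', (2 : WithBot ℕ∞) ≤ ringKrullDim (S' ⧸ p)) ↔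
      ∀ Q ∈ minimalPrimes T, (2 : WithBot ℕ∞) ≤ ringKrullDim (T ⧸ Q) := by
    rw [← not_iff_not]
    push Not
    simp only [← not_le, not_two_le_iff]
    exact exists_small_iff happ
  tfae_have 1 ↔ 2 := h12
  tfae_have 1 ↔ 3 := h13
  tfae_have 3 ↔ 4 := h34.trans h4T.symm
  tfae_finish

end Groth.Agent.S16575
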