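import Groth.Statements.S16576
import Mathlib
import Groth.Agent.CAlgH.GRingMaximal
import Groth.Agent.CAlgH.NagataComplete
import Groth.Agent.CAlgH3.FlatDepth
import Groth.Agent.CAlgH3.Serre
import Groth.Agent.CAlgMisc2.LocalFinite
import Groth.Agent.DimLib.Algebra

set_option linter.all false
set_option maxHeartbeats 1000000

set_option autoImplicit false
universe u
open CAlg

open IsLocalRing
open scoped TensorProduct

namespace Groth.Agent.S16576

theorem two_le_of_flat (C B : Type u) [CommRing C] [IsDomain C] [IsLocalRing C] [IsNoetherianRing C]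
    [IsAdicComplete (maximalIdeal C) C] [CommRing B] [IsLocalRing B] [IsNoetherianRing B] [Algebra C B]
    [IsLocalHom (algebraMap C B)] [Module.Flat C B] (hC : 2 ≤ ringKrullDim C) (q : Ideal B) (hq : q ∈ minimalPrimes B) :
    2 ≤ ringKrullDim (B ⧸ q) := by
  let K := FractionRing C
  let C' := integralClosure C K
  haveI : Module.Finite C C' := Groth.Agent.CAlgH.isN2_of_complete_local_domain C K inferInstance
  haveI : IsLocalRing C' := Groth.Agent.CAlgMisc2.isLocalRing_of_finite_domain_complete (A := C)
  haveI : IsNoetherianRing C' := IsNoetherianRing.of_finite C C'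
  haveI : IsIntegrallyClosed C' := integralClosure.isIntegrallyClosedOfFiniteExtension K (L := K)
  have hinjC : Function.Injective (algebraMap C C') := fun a b h =>
    IsFractionRing.injective C K (congrArg Subtype.val h)
  have hdim : 2 ≤ ringKrullDim C' := by rwa [← Groth.Agent.DimLib.ringKrullDim_eq_of_isIntegral hinjC]
  have hdepth := Groth.Agent.CAlgH3.two_le_depth_of_normal (R := C') hdim
  haveI : IsNoetherianRing (B ⊗[C] C') := IsNoetherianRing.of_finite B (B ⊗[C] C')
  haveI : Algebra.IsIntegral B (B ⊗[C] C') := Algebra.IsIntegral.of_finite B (B ⊗[C] C')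
  letI : Algebra C' (B ⊗[C] C') := Algebra.TensorProduct.rightAlgebra
  haveI : Module.Flat C' (B ⊗[C] C') := Module.Flat.isBaseChange C C' B (B ⊗[C] C')
    (TensorProduct.isPushout (R := C) (S := B) (T := C')).symm.out
  have hinj : Function.Injective (algebraMap B (B ⊗[C] C')) := by
    intro a b h
    have hi := Module.Flat.lTensor_preserves_injective_linearMap (M := B) (Algebra.linearMap C C') hinjC
    refine (TensorProduct.rid C B).symm.injective (hi ?_)
    simpa using h
  haveI := hq.1.1
  haveI : FaithfulSMul B (B ⊗[C] C') := (faithfulSMul_iff_algebraMap_injective B (B ⊗[C] C')).2 hinj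
  obtain ⟨q₁, hq₁, -, hq₁q⟩ := Ideal.exists_comap_eq_of_mem_minimalPrimes (algebraMap B (B ⊗[C] C')) (I := (⊥ : Ideal (B ⊗[C] C'))) q (by
    rwa [Ideal.comap_bot_of_injective _ hinj])
  haveI := hq₁
  obtain ⟨q', hq', hle₁⟩ := Ideal.exists_minimalPrimes_le (I := (⊥ : Ideal (B ⊗[C] C'))) (J := q₁) bot_le
  haveI := hq'.1.1
  have hq'q : q'.comap (algebraMap B (B ⊗[C] C')) = q := by
    have h1 : q'.comap (algebraMap B (B ⊗[C] C')) ≤ q := hq₁q ▸ Ideal.comap_mono hle₁
    exact le_antisymm h1 (hq.2 ⟨inferInstance, bot_le⟩ h1)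
  obtain ⟨m', hm', hqm⟩ := Ideal.exists_le_maximal q' hq'.1.1.ne_top
  haveI := hm'
  have hm'B : m'.comap (algebraMap B (B ⊗[C] C')) = maximalIdeal B :=
    IsLocalRing.eq_maximalIdeal (Ideal.isMaximal_comap_of_isIntegral_of_isMaximal m')
  have hmC : maximalIdeal C ≤ (m'.comap (algebraMap C' (B ⊗[C] C'))).comap (algebraMap C C') := by
    intro x hx
    have h1 : algebraMap C B x ∈ m'.comap (algebraMap B (B ⊗[C] C')) := hm'B ▸ map_nonunit _ x hx
    rw [Ideal.mem_comap, Ideal.mem_comap]
    rw [Ideal.mem_comap] at h1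
    have : algebraMap C' (B ⊗[C] C') (algebraMap C C' x) = algebraMap B (B ⊗[C] C') (algebraMap C B x) := by
      show (1 : B) ⊗ₜ[C] algebraMap C C' x = algebraMap C B x ⊗ₜ[C] (1 : C')
      rw [Algebra.algebraMap_eq_smul_one, Algebra.algebraMap_eq_smul_one, TensorProduct.tmul_smul, TensorProduct.smul_tmul']
    rwa [this]
  haveI : (m'.comap (algebraMap C' (B ⊗[C] C'))).IsPrime := inferInstance
  have hmC' : m'.comap (algebraMap C' (B ⊗[C] C')) = maximalIdeal C' := by
    refine IsLocalRing.eq_maximalIdeal (Ideal.isMaximal_of_isIntegral_of_isMaximal_comap (R := C) _ ?_)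
    have he : (m'.comap (algebraMap C' (B ⊗[C] C'))).comap (algebraMap C C') = maximalIdeal C :=
      ((maximalIdeal.isMaximal C).eq_of_le (Ideal.IsPrime.ne_top inferInstance) hmC).symm
    rw [he]; exact maximalIdeal.isMaximal C
  haveI : IsLocalHom (algebraMap C' (Localization.AtPrime m')) := by
    refine ⟨fun a ha => ?_⟩
    by_contra hna
    have ha' : algebraMap C' (B ⊗[C] C') a ∈ m' := by
      rw [← Ideal.mem_comap, hmC']; exact hna
    rw [IsScalarTower.algebraMap_apply C' (B ⊗[C] C') (Localization.AtPrime m')] at ha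
    exact (IsLocalization.AtPrime.isUnit_to_map_iff (Localization.AtPrime m') m' _).1 ha ha'
  haveI : Module.Flat C' (Localization.AtPrime m') := Module.Flat.trans C' (B ⊗[C] C') (Localization.AtPrime m')
  have h2 : (2 : ℕ∞) ≤ LocCoh.depth (Localization.AtPrime m') (Localization.AtPrime m') :=
    hdepth.trans (le_self_add.trans (Groth.Agent.CAlgH3.depth_add_depth_fibre_le_self (A := C') (B := (Localization.AtPrime m'))))
  let qm := q'.map (algebraMap (B ⊗[C] C') (Localization.AtPrime m'))
  have hdisj : Disjoint (m'.primeCompl : Set (B ⊗[C] C')) q' := Set.disjoint_left.2 fun x hx hxq => hx (hqm hxq)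
  haveI hqmp : qm.IsPrime := IsLocalization.isPrime_of_isPrime_disjoint m'.primeCompl (Localization.AtPrime m') q' inferInstance hdisj
  have hqm_min : qm ∈ minimalPrimes (Localization.AtPrime m') := by
    refine ⟨⟨hqmp, bot_le⟩, fun P hP hle => ?_⟩
    haveI := hP.1
    have h3 : P.comap (algebraMap (B ⊗[C] C') (Localization.AtPrime m')) ≤ q' := by
      intro x hx
      have := hle hx
      exact (IsLocalization.comap_map_of_isPrime_disjoint m'.primeCompl (Localization.AtPrime m') inferInstance hdisj).le this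
    have h4 := hq'.2 ⟨inferInstance, bot_le⟩ h3
    exact (Ideal.map_mono h4).trans (le_of_eq (IsLocalization.map_comap m'.primeCompl (Localization.AtPrime m') P))
  have hass : qm ∈ associatedPrimes (Localization.AtPrime m') (Localization.AtPrime m') := by
    refine Module.associatedPrimes.minimalPrimes_annihilator_subset_associatedPrimes (Localization.AtPrime m') (Localization.AtPrime m') ?_
    convert hqm_min
    all_goals first
      | rfl
      | exact (Module.annihilator_eq_bot (R := Localization.AtPrime m') (M := Localization.AtPrime m')).2 inferInstance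
  let ic : CommRing (Localization.AtPrime m') := inferInstance

  have h5 : (2 : WithBot ℕ∞) ≤ ringKrullDim ((Localization.AtPrime m') ⧸ qm) :=
    le_trans (WithBot.coe_le_coe.2 h2) (Groth.Agent.CAlgH3.depth_le_ringKrullDim_quotient hass)
  have h6 : ringKrullDim ((Localization.AtPrime m') ⧸ qm) ≤ ringKrullDim ((B ⊗[C] C') ⧸ q') := by
    rw [← Module.supportDim_quotient_eq_ringKrullDim, ← Module.supportDim_quotient_eq_ringKrullDim]
    refine Order.krullDim_le_of_strictMono (fun P => ⟨PrimeSpectrum.comap (algebraMap (B ⊗[C] C') (Localization.AtPrime m')) P.1, ?_⟩) fun P Q h => ?_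
    · have hP : (qm : Set (Localization.AtPrime m')) ⊆ P.1.asIdeal := by
        simpa [Module.support_eq_zeroLocus, Ideal.annihilator_quotient] using P.2
      simp only [Module.support_eq_zeroLocus, Ideal.annihilator_quotient, PrimeSpectrum.mem_zeroLocus]
      exact fun x hx => hP (Ideal.mem_map_of_mem _ hx)
    · refine lt_of_le_of_ne (Ideal.comap_mono (le_of_lt h)) fun he => ?_
      exact ne_of_lt h (Subtype.ext (PrimeSpectrum.localization_comap_injective (Localization.AtPrime m') m'.primeCompl (congrArg Subtype.val he)))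
  haveI : q'.LiesOver q := ⟨hq'q.symm⟩
  rw [Groth.Agent.DimLib.ringKrullDim_eq_of_isIntegral (R := B ⧸ q) (S := (B ⊗[C] C') ⧸ q')
    (FaithfulSMul.algebraMap_injective _ _)]
  exact h5.trans h6

/-- Let A → B be a flat local homomorphism of Noetherian local rings and let Â, B̂ be their completions
at the maximal ideals. If every irreducible component of Spec Â has dimension at least 2, then every
irreducible component of Spec B̂ has dimension at least 2. (This is the c_2 condition in its
completed form; globally: the preimage of a c_2 closed subset under a flat morphism of Noetherian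
schemes is c_2, in particular the condition is invariant under Zariski and étale localization.) -/
theorem result
    (A B : Type u) [CommRing A] [CommRing B] [IsNoetherianRing A] [IsNoetherianRing B]
    [IsLocalRing A] [IsLocalRing B] (f : A →+* B) [IsLocalHom f] (hf : f.Flat)
    (hA : ∀ q ∈ minimalPrimes (AdicCompletion (IsLocalRing.maximalIdeal A) A), (2 : WithBot ℕ∞) ≤ ringKrullDim (AdicCompletion (IsLocalRing.maximalIdeal A) A ⧸ q)) :
    ∀ q ∈ minimalPrimes (AdicCompletion (IsLocalRing.maximalIdeal B) B), (2 : WithBot ℕ∞) ≤ ringKrullDim (AdicCompletion (IsLocalRing.maximalIdeal B) B ⧸ q) := by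
  letI := f.toAlgebra
  haveI : IsLocalHom (algebraMap A B) := ‹IsLocalHom f›
  haveI : Module.Flat A B := RingHom.flat_algebraMap_iff.1 hf
  obtain ⟨_, _, hff⟩ := Groth.Agent.CommAlg6.exists_algebra_completion A B
  let Ah := EGA4.Cpl A
  let Bh := EGA4.Cpl B
  haveI := AdicCompletion.isLocalRing_of_fg (IsNoetherian.noetherian (maximalIdeal A))
  haveI := AdicCompletion.isLocalRing_of_fg (IsNoetherian.noetherian (maximalIdeal B))
  haveI : IsNoetherianRing Ah := Groth.Agent.Matlis6.isNoetherianRing_adicCompletion _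
  haveI : IsNoetherianRing Bh := Groth.Agent.Matlis6.isNoetherianRing_adicCompletion _
  haveI : IsAdicComplete (maximalIdeal Ah) Ah := AdicCompletion.isAdicComplete_of_fg (IsNoetherian.noetherian (maximalIdeal A))
  intro q hq
  haveI := hq.1.1
  haveI : Module.Flat Ah Bh := inferInstance
  let p : Ideal Ah := q.comap (algebraMap Ah Bh)
  have hp : p ∈ minimalPrimes Ah := by
    refine ⟨⟨inferInstance, bot_le⟩, fun P hP hle => ?_⟩
    haveI := hP.1
    haveI : q.LiesOver p := ⟨rfl⟩
    obtain ⟨Q, hQq, hQ, hQP⟩ := Ideal.exists_ideal_le_liesOver_of_le (R := Ah) (S := Bh) q hle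
    haveI := hQ
    have : q ≤ Q := hq.2 ⟨hQ, bot_le⟩ hQq
    rw [hQP.over]
    exact Ideal.comap_mono this
  haveI : IsLocalHom (algebraMap Ah Bh) := by
    refine ⟨fun a ha => ?_⟩
    by_contra hna
    obtain ⟨P, hP⟩ := PrimeSpectrum.comap_surjective_of_faithfullyFlat (A := Ah) (B := Bh) ⟨maximalIdeal Ah, inferInstance⟩
    have h1 : a ∈ P.asIdeal.comap (algebraMap Ah Bh) := by
      rw [show P.asIdeal.comap (algebraMap Ah Bh) = maximalIdeal Ah from congrArg PrimeSpectrum.asIdeal hP]
      exact hna
    exact P.isPrime.ne_top (Ideal.eq_top_of_isUnit_mem _ h1 ha)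
  let C := Ah ⧸ p
  haveI : IsLocalRing C := .of_surjective' _ Ideal.Quotient.mk_surjective
  haveI : IsAdicComplete (maximalIdeal C) C := Groth.Agent.CAlgH.isAdicComplete_quotient p
  let B2 := Bh ⧸ p.map (algebraMap Ah Bh)
  have hpq : p.map (algebraMap Ah Bh) ≤ q := Ideal.map_comap_le
  haveI : Nontrivial B2 := Ideal.Quotient.nontrivial_iff.2 (ne_top_of_le_ne_top (Ideal.IsPrime.ne_top inferInstance) hpq)
  haveI : IsLocalRing B2 := .of_surjective' _ Ideal.Quotient.mk_surjective
  haveI : Module.Flat C B2 :=
    Module.Flat.of_linearEquiv ((Algebra.TensorProduct.quotIdealMapEquivQuotTensor Bh p).toLinearEquiv)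
  haveI : IsLocalHom (algebraMap C B2) := by
    refine ⟨fun a ha => ?_⟩
    obtain ⟨a, rfl⟩ := Ideal.Quotient.mk_surjective a
    haveI : IsLocalHom (Ideal.Quotient.mk (p.map (algebraMap Ah Bh))) := IsLocalHom.of_surjective _ Ideal.Quotient.mk_surjective
    exact ((IsUnit.of_map (Ideal.Quotient.mk (p.map (algebraMap Ah Bh))) (algebraMap Ah Bh a) ha).of_map (algebraMap Ah Bh) a).map _
  let q2 : Ideal B2 := q.map (Ideal.Quotient.mk _)
  have hsurj : Function.Surjective (Ideal.Quotient.mk (p.map (algebraMap Ah Bh))) := Ideal.Quotient.mk_surjective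
  have hcq : q2.comap (Ideal.Quotient.mk _) = q := by
    rw [Ideal.comap_map_of_surjective _ hsurj, ← RingHom.ker_eq_comap_bot, Ideal.mk_ker, sup_eq_left.2 hpq]
  have hq2 : q2 ∈ minimalPrimes B2 := by
    refine ⟨⟨Ideal.map_isPrime_of_surjective hsurj (by rwa [Ideal.mk_ker]), bot_le⟩, fun P hP hle => ?_⟩
    haveI := hP.1
    have : q ≤ P.comap (Ideal.Quotient.mk _) := hq.2 ⟨inferInstance, bot_le⟩ (hcq ▸ Ideal.comap_mono hle)
    exact Ideal.map_le_iff_le_comap.2 this
  have := two_le_of_flat C B2 (hA p hp) q2 hq2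
  rwa [ringKrullDim_eq_of_ringEquiv (DoubleQuot.quotQuotEquivQuotOfLE hpq)] at this

end Groth.Agent.S16576
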