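import Groth.Statements.S16577
import Groth.Agent.HenselLib.WEtFibre
import Groth.Agent.HenselLib.HullWEt
import Groth.Agent.HenselLib.LocalHens

set_option autoImplicit false
universe u
open Hensel

namespace Groth.Agent.S16577

/-- Let A be a Noetherian local ring with a strict henselization S', and p a prime ideal of A. Call p an
immediate étale generization of the closed point when the strict henselization S'/pS' of A/p has an
irreducible component of dimension 1, that is, some minimal prime P over pS' has dim S'/P = 1. Then
p is an immediate étale generization of the closed point if and only if p is the contraction of some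
prime ideal P of S' with dim S'/P = 1. -/
theorem result
    (A : Type u) [CommRing A] [IsNoetherianRing A] [IsLocalRing A]
    (S' : Type u) [CommRing S'] [IsLocalRing S'] [Algebra A S'] [IsLocalHom (algebraMap A S')]
    [Hensel.IsStrictHenselization A S']
    (p : Ideal A) [p.IsPrime] :
    (∃ P ∈ (p.map (algebraMap A S')).minimalPrimes, ringKrullDim (S' ⧸ P) = 1) ↔
    (∃ P : Ideal S', P.IsPrime ∧ P.comap (algebraMap A S') = p ∧ ringKrullDim (S' ⧸ P) = 1) := by
  obtain ⟨e⟩ := HenselLib.exists_equiv_localSH (R := A) S'
  haveI : Algebra.WeaklyEtale A S' := HenselLib.weaklyEtale_of_equiv e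
  exact ⟨fun ⟨P, hP, h⟩ => ⟨P, ((HenselLib.WEt.mem_minimalPrimes_map_iff p P).mp hP).1,
      ((HenselLib.WEt.mem_minimalPrimes_map_iff p P).mp hP).2, h⟩,
    fun ⟨P, hP, hPp, h⟩ => ⟨P, (HenselLib.WEt.mem_minimalPrimes_map_iff p P).mpr ⟨hP, hPp⟩, h⟩⟩

end Groth.Agent.S16577
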