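import Groth.Statements.S16578
import Groth.Agent.HenselLib.StrictCompletion
import Groth.Agent.HenselLib.PunctureSplit

set_option autoImplicit false
set_option linter.all false
universe u
open Hensel IsLocalRing

namespace Groth.Agent.S16578

/-- In a one-dimensional quotient by a prime nothing lies strictly between the prime and the maximal ideal. -/
theorem covered {R : Type u} [CommRing R] [IsLocalRing R] (Q : Ideal R) [Q.IsPrime]
    (hd : ringKrullDim (R ⧸ Q) = 1) :
    Q ≠ maximalIdeal R ∧ ∀ P : Ideal R, P.IsPrime → Q ≤ P → P ≠ Q → P = maximalIdeal R := by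
  rw [ringKrullDim_quotient] at hd
  let z : PrimeSpectrum.zeroLocus (Q : Set R) := ⟨⟨Q, inferInstance⟩, fun _ h => h⟩
  let top : PrimeSpectrum.zeroLocus (Q : Set R) :=
    ⟨⟨maximalIdeal R, inferInstance⟩, le_maximalIdeal (Ideal.IsPrime.ne_top ‹_›)⟩
  refine ⟨fun h => ?_, fun P hP hQP hne => ?_⟩
  · have : Subsingleton (PrimeSpectrum.zeroLocus (Q : Set R)) := ⟨fun a b => Subtype.ext (PrimeSpectrum.ext
      ((((maximalIdeal.isMaximal R).eq_of_le a.1.2.ne_top (h ▸ a.2)).symm).trans
        ((maximalIdeal.isMaximal R).eq_of_le b.1.2.ne_top (h ▸ b.2))))⟩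
    have h0 := Order.krullDim_nonpos_of_subsingleton (α := PrimeSpectrum.zeroLocus (Q : Set R))
    rw [hd] at h0
    exact absurd h0 (by decide)
  · let y : PrimeSpectrum.zeroLocus (Q : Set R) := ⟨⟨P, hP⟩, hQP⟩
    have h1 := (Order.krullDim_le_one_iff).mp hd.le y
    rcases h1 with h1 | h1
    · exact absurd (le_antisymm (show P ≤ Q from h1 (show z ≤ y from hQP)) hQP) hne
    · exact le_antisymm (le_maximalIdeal hP.ne_top) (h1 (show y ≤ top from le_maximalIdeal hP.ne_top))

theorem one_le_dim {R : Type u} [CommRing R] [IsLocalRing R] (Q : Ideal R) [Q.IsPrime]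
    (hne : Q ≠ maximalIdeal R) : 1 ≤ ringKrullDim (R ⧸ Q) := by
  rw [ringKrullDim_quotient, Order.one_le_krullDim_iff]
  exact ⟨⟨⟨Q, inferInstance⟩, fun _ h => h⟩,
    ⟨⟨maximalIdeal R, inferInstance⟩, le_maximalIdeal (Ideal.IsPrime.ne_top ‹_›)⟩,
    lt_of_le_of_ne (le_maximalIdeal (Ideal.IsPrime.ne_top ‹_›) : Q ≤ maximalIdeal R)
      (fun h => hne congr(($h).1.asIdeal))⟩

/-- Let A be a Noetherian local ring with completion Â at its maximal ideal, S' a strict henselization
of A, T' a strict henselization of Â, and p a prime ideal of A. Say that a prime p of a Noetherian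
local ring with strict henselization S is an immediate étale generization of the closed point when
some minimal prime P over pS has dim S/P = 1. Then p is an immediate étale generization of the
closed point of A if and only if some minimal prime q over pÂ (a maximal point of the fibre over p
of Spec Â → Spec A) is an immediate étale generization of the closed point of Â. -/
theorem result
    (A : Type u) [CommRing A] [IsNoetherianRing A] [IsLocalRing A]
    (S' : Type u) [CommRing S'] [IsLocalRing S'] [Algebra A S'] [IsLocalHom (algebraMap A S')]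
    [Hensel.IsStrictHenselization A S']
    (T' : Type u) [CommRing T'] [IsLocalRing T'] [Algebra (AdicCompletion (IsLocalRing.maximalIdeal A) A) T'] [IsLocalHom (algebraMap (AdicCompletion (IsLocalRing.maximalIdeal A) A) T')]
    [Hensel.IsStrictHenselization (AdicCompletion (IsLocalRing.maximalIdeal A) A) T']
    (p : Ideal A) [p.IsPrime] :
    (∃ P ∈ (p.map (algebraMap A S')).minimalPrimes, ringKrullDim (S' ⧸ P) = 1) ↔
    (∃ q ∈ (p.map (algebraMap A (AdicCompletion (IsLocalRing.maximalIdeal A) A))).minimalPrimes,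
      ∃ Q ∈ (q.map (algebraMap (AdicCompletion (IsLocalRing.maximalIdeal A) A) T')).minimalPrimes, ringKrullDim (T' ⧸ Q) = 1) := by
  let Ah := AdicCompletion (maximalIdeal A) A
  haveI : IsNoetherianRing Ah := Groth.Agent.Matlis6.isNoetherianRing_adicCompletion _
  haveI : IsNoetherianRing S' := HenselLib.StrictCompletion.isNoetherianRing_sh A S'
  haveI : IsNoetherianRing T' := HenselLib.StrictCompletion.isNoetherianRing_sh Ah T'
  haveI := Hensel.IsStrictHenselization.henselian (R := A) (S := S')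
  haveI : Module.Flat Ah T' := by
    obtain ⟨e⟩ := HenselLib.exists_equiv_localSH (R := Ah) T'
    exact Module.Flat.of_linearEquiv e.symm.toLinearEquiv
  obtain ⟨g, hgl, hgf, hg, happ⟩ := HenselLib.StrictCompletion.exists_map A S' T'
  letI : Algebra S' T' := g.toAlgebra
  haveI : Module.Flat S' T' := hgf
  haveI : IsLocalHom (algebraMap S' T') := hgl
  have hpT : (p.map (algebraMap A S')).map g = (p.map (algebraMap A Ah)).map (algebraMap Ah T') := by
    rw [Ideal.map_map, Ideal.map_map, hg]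
  constructor
  · rintro ⟨P, hP, hd⟩
    haveI := hP.1.1
    have hPm := covered P hd
    obtain ⟨x, hxm, hxP⟩ := SetLike.exists_of_lt (lt_of_le_of_ne (le_maximalIdeal (Ideal.IsPrime.ne_top ‹P.IsPrime›)) hPm.1)
    haveI : Module.FaithfullyFlat S' T' := Module.FaithfullyFlat.of_flat_of_isLocalHom
    obtain ⟨Q₁, hQ₁⟩ := PrimeSpectrum.comap_surjective_of_faithfullyFlat (A := S') (B := T') ⟨P, inferInstance⟩
    have hQ₁P : Q₁.asIdeal.comap g = P := congr(($hQ₁).asIdeal)
    obtain ⟨Q, hQ, hQle⟩ := Ideal.exists_minimalPrimes_le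
      (show P.map g ≤ Q₁.asIdeal from Ideal.map_le_iff_le_comap.mpr hQ₁P.ge)
    haveI := hQ.1.1
    have hQP : Q.comap g = P := le_antisymm (hQ₁P ▸ Ideal.comap_mono hQle) (Ideal.map_le_iff_le_comap.mp hQ.1.2)
    -- dimension one
    have hQm : Q ≠ maximalIdeal T' := fun h => hPm.1 (by
      rw [← hQP, h]
      exact ((local_hom_TFAE g).out 0 4 rfl rfl).mp hgl)
    have hover : ∀ R : Ideal T', R.IsPrime → Q ≤ R → algebraMap S' T' x ∈ R → R = maximalIdeal T' := by
      intro R hR hQR hxR
      have h1 : R.comap g = maximalIdeal S' := hPm.2 _ inferInstance (hQP ▸ Ideal.comap_mono hQR) fun h => hxP (h ▸ hxR)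
      refine le_antisymm (le_maximalIdeal hR.ne_top) ?_
      calc maximalIdeal T' = (maximalIdeal T').comap (RingHom.id T') := rfl
        _ ≤ (maximalIdeal S').map g := fun z hz => by
          obtain ⟨b, hb⟩ := happ 1 z
          rw [pow_one] at hb
          have hbm : g b ∈ maximalIdeal T' := by
            rw [show g b = z - (z - g b) by ring]
            exact sub_mem hz (map_maximalIdeal_le g hb)
          have hb' : b ∈ maximalIdeal S' := by
            rw [← ((local_hom_TFAE g).out 0 4 rfl rfl).mp hgl]; exact hbm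
          simpa using add_mem hb (Ideal.mem_map_of_mem g hb')
        _ ≤ R := Ideal.map_le_iff_le_comap.mpr h1.ge
    have hdim : ringKrullDim (T' ⧸ Q) ≤ 1 := by
      haveI : IsLocalRing (T' ⧸ Q) := .of_surjective' _ Ideal.Quotient.mk_surjective
      rw [← maximalIdeal_height_eq_ringKrullDim]
      have hmin : maximalIdeal (T' ⧸ Q) ∈ (Ideal.span {Ideal.Quotient.mk Q (algebraMap S' T' x)}).minimalPrimes := by
        refine ⟨⟨inferInstance, ?_⟩, fun R hR _ => ?_⟩
        · rw [Ideal.span_singleton_le_iff_mem, ← map_maximalIdeal_of_surjective _ Ideal.Quotient.mk_surjective]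
          exact Ideal.mem_map_of_mem _ (map_maximalIdeal_le g (Ideal.mem_map_of_mem g hxm))
        · haveI := hR.1
          have h2 := hover (R.comap (Ideal.Quotient.mk Q)) inferInstance
            (fun z hz => by simp [Ideal.mem_comap, Ideal.Quotient.eq_zero_iff_mem.mpr hz])
            (hR.2 (Ideal.mem_span_singleton_self _))
          rw [← map_maximalIdeal_of_surjective (Ideal.Quotient.mk Q) Ideal.Quotient.mk_surjective, ← h2,
            Ideal.map_comap_of_surjective _ Ideal.Quotient.mk_surjective]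
      exact WithBot.coe_le_coe.mpr (Ideal.height_le_one_of_isPrincipal_of_mem_minimalPrimes _ _ hmin)
    have hQmin : Q ∈ ((p.map (algebraMap A S')).map g).minimalPrimes :=
      ⟨⟨inferInstance, (Ideal.map_mono hP.1.2).trans hQ.1.2⟩, fun R hR hRQ => hQ.2 ⟨hR.1,
        Ideal.map_le_iff_le_comap.mpr (hP.2 ⟨hR.1.comap g, Ideal.map_le_iff_le_comap.mp hR.2⟩
          (hQP ▸ Ideal.comap_mono hRQ))⟩ hRQ⟩
    rw [hpT] at hQmin
    refine ⟨Q.comap (algebraMap Ah T'), ⟨⟨inferInstance, Ideal.map_le_iff_le_comap.mp hQmin.1.2⟩, fun q hq hqQ => ?_⟩,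
      Q, ⟨⟨inferInstance, Ideal.map_comap_le⟩, fun R hR hRQ => hQmin.2 ⟨hR.1, (Ideal.map_mono
        (Ideal.map_le_iff_le_comap.mp hQmin.1.2)).trans hR.2⟩ hRQ⟩, le_antisymm hdim (one_le_dim Q hQm)⟩
    by_contra hne
    haveI := hq.1
    haveI : Q.LiesOver (Q.comap (algebraMap Ah T')) := ⟨rfl⟩
    obtain ⟨R, hRQ, hR, hRq⟩ := Ideal.exists_ideal_lt_liesOver_of_lt (p := q) (q := Q.comap (algebraMap Ah T')) Q
      (lt_of_le_not_ge hqQ hne)
    exact hRQ.not_ge (hQmin.2 ⟨hR, Ideal.map_le_iff_le_comap.mpr (hq.2.trans hRq.over.le)⟩ hRQ.le)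
  · rintro ⟨q, hq, Q, hQ, hd⟩
    haveI := hq.1.1
    haveI := hQ.1.1
    have hQq : Q.comap (algebraMap Ah T') = q := by
      refine le_antisymm ?_ (Ideal.map_le_iff_le_comap.mp hQ.1.2)
      by_contra hne
      haveI : Q.LiesOver (Q.comap (algebraMap Ah T')) := ⟨rfl⟩
      obtain ⟨R, hRQ, hR, hRq⟩ := Ideal.exists_ideal_lt_liesOver_of_lt (p := q) (q := Q.comap (algebraMap Ah T')) Q
        (lt_of_le_not_ge (Ideal.map_le_iff_le_comap.mp hQ.1.2) hne)
      exact hRQ.not_ge (hQ.2 ⟨hR, Ideal.map_le_iff_le_comap.mpr hRq.over.le⟩ hRQ.le)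
    have hQmin : Q ∈ ((p.map (algebraMap A S')).map g).minimalPrimes := by
      rw [hpT]
      refine ⟨⟨inferInstance, (Ideal.map_mono hq.1.2).trans hQ.1.2⟩, fun R hR hRQ => hQ.2 ⟨hR.1, ?_⟩ hRQ⟩
      exact Ideal.map_le_iff_le_comap.mpr (hq.2 ⟨hR.1.comap (algebraMap Ah T'), Ideal.map_le_iff_le_comap.mp hR.2⟩
        (hQq ▸ Ideal.comap_mono hRQ))
    let P := Q.comap g
    have hP : P ∈ (p.map (algebraMap A S')).minimalPrimes := by
      refine ⟨⟨inferInstance, Ideal.map_le_iff_le_comap.mp hQmin.1.2⟩, fun R hR hRP => ?_⟩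
      by_contra hne
      haveI := hR.1
      haveI : Q.LiesOver P := ⟨rfl⟩
      obtain ⟨R', hRQ, hR', hRq⟩ := Ideal.exists_ideal_lt_liesOver_of_lt (p := R) (q := P) Q (lt_of_le_not_ge hRP hne)
      exact hRQ.not_ge (hQmin.2 ⟨hR', Ideal.map_le_iff_le_comap.mpr (hR.2.trans hRq.over.le)⟩ hRQ.le)
    have hQP : Q ∈ (P.map (algebraMap S' T')).minimalPrimes :=
      ⟨⟨inferInstance, Ideal.map_comap_le⟩, fun R hR hRQ => hQmin.2 ⟨hR.1,
        (Ideal.map_mono hP.1.2).trans hR.2⟩ hRQ⟩
    obtain ⟨hQm, hcov⟩ := covered Q hd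
    refine ⟨P, hP, ?_⟩
    have hPm : P ≠ maximalIdeal S' := fun h => by
      refine hQm (le_antisymm (le_maximalIdeal (Ideal.IsPrime.ne_top ‹Q.IsPrime›)) fun z hz => ?_)
      obtain ⟨b, hb⟩ := happ 1 z
      rw [pow_one] at hb
      have hb1 : z - g b ∈ Q := (Ideal.map_le_iff_le_comap.mpr h.ge) hb
      have hb2 : b ∈ maximalIdeal S' := by
        rw [← ((local_hom_TFAE g).out 0 4 rfl rfl).mp hgl]
        show g b ∈ maximalIdeal T'
        rw [show g b = z - (z - g b) by ring]
        exact sub_mem hz (le_maximalIdeal (Ideal.IsPrime.ne_top ‹Q.IsPrime›) hb1)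
      have hb3 : g b ∈ Q := h.ge hb2
      simpa using add_mem hb1 hb3
    refine le_antisymm ?_ (one_le_dim P hPm)
    rw [ringKrullDim_quotient, Order.krullDim_le_one_iff]
    intro y
    by_cases hy : y.1.asIdeal = P
    · left
      intro b _
      show y.1.asIdeal ≤ b.1.asIdeal
      rw [hy]; exact b.2
    · right
      intro b hyb
      haveI := y.1.2
      have h1 := HenselLib.PunctureSplit.eq_of_lt_prime (fun N c => happ N c) P Q hQP rfl hcov y.1.asIdeal
        (lt_of_le_of_ne y.2 (Ne.symm hy))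
      show b.1.asIdeal ≤ y.1.asIdeal
      rw [h1]; exact le_maximalIdeal b.1.2.ne_top

end Groth.Agent.S16578
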