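import Groth.Statements.S16579
import Groth.Agent.EGA43.GabberClopen.Main
-- import your own Groth.Agent.* helpers here

set_option autoImplicit false
set_option backward.isDefEq.respectTransparency false
universe u
open CategoryTheory AlgebraicGeometry
open Hensel

namespace Groth.Agent.S16579

/-- The case of the constant sheaf on a two-element set. Let (A, I) be a henselian pair with I finitely
generated (A not necessarily Noetherian), Â the I-adic completion of A, π : Spec Â → Spec A the
completion morphism, U a quasi-compact open subscheme of Spec A containing the complement of V(I),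
and Û = π⁻¹(U). Then V ↦ (π|Û)⁻¹(V) is a bijection from the clopen subsets of U onto the clopen
subsets of Û; equivalently, for every finite set F the locally constant F-valued functions on U and
on Û correspond under composition with π. -/
theorem result
    (A : Type u) [CommRing A] (I : Ideal A) (hI : I.FG) [HenselianRing A I]
    (U : (Spec (CommRingCat.of A)).Opens) (hU : IsCompact (U : Set (Spec (CommRingCat.of A))))
    (hUI : ∀ x : Spec (CommRingCat.of A), x ∉ U → I ≤ x.asIdeal) :
    Function.Bijective (fun V : {V : Set ↥U // IsClopen V} =>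
      (⟨((Spec.map (CommRingCat.ofHom (algebraMap A (AdicCompletion I A)))) ∣_ U).base.hom ⁻¹' V.1, V.2.preimage ((Spec.map (CommRingCat.ofHom (algebraMap A (AdicCompletion I A)))) ∣_ U).base.hom.continuous⟩ :
        {V' : Set ↥((Spec.map (CommRingCat.ofHom (algebraMap A (AdicCompletion I A)))) ⁻¹ᵁ U) // IsClopen V'})) := by
  let π := Spec.map (CommRingCat.ofHom (algebraMap A (AdicCompletion I A)))
  let f := algebraMap A (AdicCompletion I A)
  have hb := Groth.Agent.EGA43.GabberClopen.bij_completion I hI (U.1 : Set (PrimeSpectrum A)) fun z hz => hUI z hz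
  let g := (π ∣_ U).base.hom
  have hg : ∀ y : ↥(π ⁻¹ᵁ U), (g y).1 = PrimeSpectrum.comap f y.1 := fun y => by
    show ((π ∣_ U) y).1 = π y.1
    rw [morphismRestrict_base_coe]
  have hin : ∀ V : {V : Set ↥U // IsClopen V},
      Groth.Agent.EGA43.GabberClopen.ClopenIn (U.1 : Set (PrimeSpectrum A)) (Subtype.val '' V.1) := by
    intro V
    refine ⟨Subtype.coe_image_subset _ _, U.2.isOpenMap_subtype_val _ V.2.2, ?_⟩
    have h := U.2.isOpenMap_subtype_val _ V.2.1.isOpen_compl
    rwa [Set.image_compl_eq_range_diff_image Subtype.val_injective, Subtype.range_coe] at h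
  constructor
  · intro V V' h
    have h' : g ⁻¹' V.1 = g ⁻¹' V'.1 := congrArg Subtype.val h
    refine Subtype.ext ?_
    have he := hb.2 _ _ (hin V) (hin V') (by
      ext z
      constructor
      · rintro ⟨a, ha, hz⟩
        have hzU : z ∈ π ⁻¹ᵁ U := show PrimeSpectrum.comap f z ∈ (U.1 : Set (PrimeSpectrum A)) from hz ▸ a.2
        have h1 : g ⟨z, hzU⟩ = a := Subtype.ext ((hg _).trans hz.symm)
        exact ⟨g ⟨z, hzU⟩, (Set.ext_iff.1 h' ⟨z, hzU⟩).1 (show g ⟨z, hzU⟩ ∈ _ by rw [h1]; exact ha), hg _⟩
      · rintro ⟨a, ha, hz⟩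
        have hzU : z ∈ π ⁻¹ᵁ U := show PrimeSpectrum.comap f z ∈ (U.1 : Set (PrimeSpectrum A)) from hz ▸ a.2
        have h1 : g ⟨z, hzU⟩ = a := Subtype.ext ((hg _).trans hz.symm)
        exact ⟨g ⟨z, hzU⟩, (Set.ext_iff.1 h' ⟨z, hzU⟩).2 (show g ⟨z, hzU⟩ ∈ _ by rw [h1]; exact ha), hg _⟩)
    exact Subtype.val_injective.image_injective he
  · intro V'
    obtain ⟨W, hW, hpre⟩ := hb.1 (Subtype.val '' V'.1) (by
      refine ⟨?_, (π ⁻¹ᵁ U).2.isOpenMap_subtype_val _ V'.2.2, ?_⟩
      · rintro _ ⟨a, -, rfl⟩
        exact a.2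
      · have h := (π ⁻¹ᵁ U).2.isOpenMap_subtype_val _ V'.2.1.isOpen_compl
        rwa [Set.image_compl_eq_range_diff_image Subtype.val_injective, Subtype.range_coe] at h)
    have hWc : IsClopen (Subtype.val ⁻¹' W : Set ↥U) := by
      refine ⟨isOpen_compl_iff.1 ?_, hW.2.1.preimage continuous_subtype_val⟩
      convert hW.2.2.preimage continuous_subtype_val using 1
      ext a
      exact ⟨fun h => ⟨a.2, h⟩, fun h => h.2⟩
    refine ⟨⟨_, hWc⟩, Subtype.ext ?_⟩
    ext y
    show (g y).1 ∈ W ↔ y ∈ V'.1
    rw [hg, ← Set.mem_preimage, hpre]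
    exact Subtype.val_injective.mem_set_image

end Groth.Agent.S16579
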