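import Groth.Statements.S1658
import Groth.Agent.SecDiv28.Basic
import Groth.Agent.PicLib.TwistGen
import Groth.Agent.EulerLib.InvClass

set_option autoImplicit false
universe u
open CategoryTheory CategoryTheory.Limits AlgebraicGeometry
open Divisors

namespace Groth.Agent.S1658

/-- Let X be Noetherian with an ample invertible module and N any invertible O_X-module. For every
finite set E of points of X there are effective Cartier divisors D and D', whose supports miss E,
with N ⊗ I_D ≅ I_{D'} (that is, N ≅ O_X(D) ⊗ O_X(D')^{-1}), where I_D, I_{D'} are the ideal sheaves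
as O_X-modules. -/
theorem result (X : Scheme.{u}) [IsNoetherian X] (L : X.Modules) (hL : CohB1.IsAmple L)
    (N : X.Modules) (hN : PicF.IsInvertible N) (E : Set X) (hE : E.Finite) :
    ∃ D D' : X.IdealSheafData, BlowUp.IsEffCartierIdeal D ∧ BlowUp.IsEffCartierIdeal D' ∧
      Disjoint E (D.support : Set X) ∧ Disjoint E (D'.support : Set X) ∧
      Nonempty (CohB1.tensorMod N (ClSub.idealMod D) ≅ ClSub.idealMod D') := by
  have hZ : (E ∪ AssSch.Ass (Coh.structureModule X)).Finite :=
    hE.union (AssSch12.finite_ass _ (Coherent.isCoh_structureModule X))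
  have hLi : PicF.IsInvertible L := hL.1
  have hO : PicF.IsInvertible (Coh.structureModule X) := AmpleLib.isInvertible_structureModule
  obtain ⟨n₁, hn₁⟩ := PicLib.exists_twist_gen_of_finite hL hN _ hZ
  obtain ⟨n₂, hn₂⟩ := PicLib.exists_twist_gen_of_finite hL hO _ hZ
  obtain ⟨t, ht⟩ := hn₁ (n₁ + n₂) (Nat.le_add_right _ _)
  obtain ⟨t', ht'⟩ := hn₂ (n₁ + n₂) (Nat.le_add_left _ _)
  have hP : PicF.IsInvertible (CohB1.tensorPow L (n₁ + n₂)) := AmpleLib.isInvertible_tensorPow hLi _
  have hA := AmpleLib.isInvertible_tensorMod hN hP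
  have hB := AmpleLib.isInvertible_tensorMod hO hP
  obtain ⟨D, hD, ⟨e⟩, hDs⟩ := SecDiv28.exists_effCartier_of_section hA t fun z hz => ht (Or.inr hz)
  obtain ⟨D', hD', ⟨e'⟩, hDs'⟩ := SecDiv28.exists_effCartier_of_section hB t' fun z hz => ht' (Or.inr hz)
  have hI := FlatMor12.IdealModGen.isInvertible_idealMod D hD
  have hI' := FlatMor12.IdealModGen.isInvertible_idealMod D' hD'
  refine ⟨D, D', hD, hD', ?_, ?_, ?_⟩
  · rw [hDs, Set.disjoint_compl_right_iff_subset]
    exact Set.subset_union_left.trans ht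
  · rw [hDs', Set.disjoint_compl_right_iff_subset]
    exact Set.subset_union_left.trans ht'
  · have h1 := EulerLib.InvCl.mk_eq (AmpleLib.isInvertible_tensorMod hI hA) hO e
    have h2 := EulerLib.InvCl.mk_eq (AmpleLib.isInvertible_tensorMod hI' hB) hO e'
    rw [← EulerLib.InvCl.mk_mul hI hA, ← EulerLib.InvCl.mk_mul hN hP] at h1
    rw [← EulerLib.InvCl.mk_mul hI' hB, ← EulerLib.InvCl.mk_mul hO hP,
      show EulerLib.InvCl.mk (Coh.structureModule X) hO = 1 from rfl, one_mul] at h2
    rw [show EulerLib.InvCl.mk (Coh.structureModule X) hO = 1 from rfl] at h1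
    refine Quotient.exact (show EulerLib.InvCl.mk (CohB1.tensorMod N (ClSub.idealMod D))
      (AmpleLib.isInvertible_tensorMod hN hI) = EulerLib.InvCl.mk (ClSub.idealMod D') hI' from ?_)
    rw [← EulerLib.InvCl.mk_mul hN hI]
    calc EulerLib.InvCl.mk N hN * EulerLib.InvCl.mk _ hI
        = EulerLib.InvCl.mk N hN * EulerLib.InvCl.mk _ hI *
            (EulerLib.InvCl.mk _ hI' * EulerLib.InvCl.mk _ hP) := by rw [h2, mul_one]
      _ = EulerLib.InvCl.mk _ hI * (EulerLib.InvCl.mk N hN * EulerLib.InvCl.mk _ hP) *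
            EulerLib.InvCl.mk _ hI' := by ac_rfl
      _ = EulerLib.InvCl.mk _ hI' := by rw [h1, one_mul]

end Groth.Agent.S1658
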