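import Groth.Statements.S16583
import Groth.Agent.EtZeroDim.Basic
-- import your own Groth.Agent.* helpers here

set_option autoImplicit false
universe u
open CategoryTheory AlgebraicGeometry
open EtCore

namespace Groth.Agent.S16583

/-- Let X be a scheme such that every local ring of X is a field and every residue field of X is
algebraically closed, and let f : Y → X be an étale morphism. Then f is Zariski-locally trivial: for
every point y of Y there exist an open V of X containing f(y) and a section s : V → Y of f over V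
whose image contains y. (The published lemma is stated for a specific scheme X^c attached to a
coherent scheme — the constructible topology of a suitable integral cover, which has these two
properties by construction; the row states the assertion for every scheme with these two properties,
which is all the printed proof uses. The lemma's further assertions about the étale and Zariski
topoi, torsors and gerbes on X^c are not included.) -/
theorem result
    (X Y : Scheme.{u}) (hX : ∀ x : X, IsField (X.presheaf.stalk x))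
    (hX' : ∀ x : X, IsAlgClosed (X.residueField x))
    (f : Y ⟶ X) [Etale f] (y : Y) :
    ∃ (V : X.Opens) (s : (V : Scheme.{u}) ⟶ Y), f.base y ∈ V ∧ s ≫ f = V.ι ∧ y ∈ Set.range s.base := by
  obtain ⟨U, hU, hyU, -⟩ := exists_isAffineOpen_mem_and_subset (X := X) (x := f.base y) (U := ⊤) trivial
  haveI : IsAffine (U : Scheme.{u}) := hU
  have h1 : ∀ s : (U : Scheme.{u}), IsClosed ({s} : Set (U : Scheme.{u})) := fun a => by
    refine closure_subset_iff_isClosed.1 fun b hb => ?_
    have hs : a ⤳ b := specializes_iff_mem_closure.2 hb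
    have hsX : U.ι a ⤳ U.ι b := hs.map U.ι.continuous
    have hmem : U.ι a ∈ Set.range (X.fromSpecStalk (U.ι b)) := by
      rw [Scheme.range_fromSpecStalk]
      exact hsX
    obtain ⟨p, hp⟩ := hmem
    letI := (hX (U.ι b)).toField
    haveI : Subsingleton ↥(Spec (X.presheaf.stalk (U.ι b))) :=
      inferInstanceAs (Subsingleton (PrimeSpectrum (X.presheaf.stalk (U.ι b))))
    have hp' : p = IsLocalRing.closedPoint (X.presheaf.stalk (U.ι b)) := Subsingleton.elim _ _
    rw [hp', Scheme.fromSpecStalk_closedPoint] at hp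
    exact (U.ι.isOpenEmbedding.injective hp)
  have h2 : ∀ s : (U : Scheme.{u}), IsSepClosed ((U : Scheme.{u}).residueField s) := fun s => by
    haveI := hX' (U.ι s)
    haveI : IsAlgClosed ((U : Scheme.{u}).residueField s) :=
      IsAlgClosed.of_ringEquiv _ _ (asIso (U.ι.residueFieldMap s)).commRingCatIsoToRingEquiv
    infer_instance
  obtain ⟨O, hzO, hO⟩ := EtZeroDim.exists_openImmersion_nhd h1 h2 (f ∣_ U) (⟨y, hyU⟩ : ↥(f ⁻¹ᵁ U))
  haveI := hO
  let g : (O : Scheme.{u}) ⟶ X := (O.ι ≫ f ∣_ U) ≫ U.ι
  have hg : g = (O.ι ≫ (f ⁻¹ᵁ U).ι) ≫ f := by simp [g]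
  have hy : g ⟨⟨y, hyU⟩, hzO⟩ = f y := by rw [hg]; rfl
  refine ⟨g.opensRange, g.isoOpensRange.inv ≫ O.ι ≫ (f ⁻¹ᵁ U).ι, ⟨_, hy⟩, ?_, ?_⟩
  · rw [Category.assoc, ← hg, Scheme.Hom.isoOpensRange_inv_comp]
  · refine ⟨g.isoOpensRange.hom ⟨⟨y, hyU⟩, hzO⟩, ?_⟩
    change (g.isoOpensRange.hom ≫ g.isoOpensRange.inv ≫ O.ι ≫ (f ⁻¹ᵁ U).ι) _ = y
    rw [Iso.hom_inv_id_assoc]
    rfl

end Groth.Agent.S16583
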