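import Groth.Statements.S1659
import Groth.Agent.SDiv28.CartierPart
import Groth.Agent.ModPairLib.Colon
import Groth.Agent.S1568

set_option autoImplicit false
universe u
open CategoryTheory CategoryTheory.Limits AlgebraicGeometry
open Divisors

namespace Groth.Agent.S1659

/-- Let X be Noetherian, D an effective Cartier divisor and D_1, …, D_r effective Cartier divisors which
are integral as closed subschemes, with D contained set-theoretically in their union. Then D = Σ a_i
D_i for some a_i ≥ 0, i.e. the ideal sheaf of D is the product of the a_i-th powers of the ideal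
sheaves of the D_i. -/
theorem result (X : Scheme.{u}) [IsNoetherian X] (D : X.IdealSheafData) (hD : BlowUp.IsEffCartierIdeal D)
    (r : ℕ) (Ds : Fin r → X.IdealSheafData) (hDs : ∀ i, BlowUp.IsEffCartierIdeal (Ds i)) (hint : ∀ i, IsIntegral (Ds i).subscheme)
    (hsub : (D.support : Set X) ⊆ ⋃ i, ((Ds i).support : Set X)) :
    ∃ a : Fin r → ℕ, D = ∏ i, Ds i ^ a i := by
  classical
  have htop : BlowUp.IsEffCartierIdeal (⊤ : X.IdealSheafData) := fun x => by
    obtain ⟨_, ⟨U, hU, rfl⟩, hxU, -⟩ :=
      X.isBasis_affineOpens.exists_subset_of_mem_open (Set.mem_univ x) isOpen_univ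
    refine ⟨⟨U, hU⟩, hxU, 1, one_mem _, ?_⟩
    rw [Ideal.span_singleton_one]; rfl
  let E : ULift.{u} (Fin r) → X.IdealSheafData := fun i => Ds i.down
  haveI : ∀ i, IsIntegral (E i).subscheme := fun i => hint i.down
  obtain ⟨T, n, hle, U, hU, hcod⟩ := Groth.Agent.SDiv28.CartierPart.main D E (fun i => hDs i.down) ∅
    (fun _ h => h.elim) (fun z hz => Or.inr (by
      obtain ⟨i, hi⟩ := Set.mem_iUnion.1 (hsub hz)
      exact Set.mem_iUnion.2 ⟨⟨i⟩, hi⟩))
  have hone : BlowUp.IsEffCartierIdeal (1 : X.IdealSheafData) := by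
    have h1 : (1 : X.IdealSheafData) = ⊤ := by
      have h0 := Scheme.IdealSheafData.top_mul (1 : X.IdealSheafData)
      rwa [mul_one, eq_comm] at h0
    rw [h1]; exact htop
  have hpow : ∀ (i : ULift.{u} (Fin r)) (k : ℕ), BlowUp.IsEffCartierIdeal (E i ^ k) := fun i k => by
    induction k with
    | zero => rw [pow_zero]; exact hone
    | succ k ih => rw [pow_succ]; exact Groth.Agent.ModPairLib.isEffCartier_mul ih (hDs i.down)
  have hP : BlowUp.IsEffCartierIdeal (∏ i ∈ T, E i ^ n i) := by
    clear hle hU hcod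
    induction T using Finset.induction_on with
    | empty => rw [Finset.prod_empty]; exact hone
    | insert i s his ih =>
      rw [Finset.prod_insert his]
      exact Groth.Agent.ModPairLib.isEffCartier_mul (hpow i (n i)) ih
  obtain ⟨K, hK⟩ := Groth.Agent.ModPairLib.exists_mul_eq hP hle
  have hKc : BlowUp.IsEffCartierIdeal K := Groth.Agent.ModPairLib.isEffCartier_of_mul (hK ▸ hD) hP
  have hKU : K.comap U.ι = ⊤ := by
    refine Groth.Agent.ModPairLib.eq_top_of_mul_eq (E := (∏ i ∈ T, E i ^ n i).comap U.ι)
      (Groth.Agent.Misc15.DivDescent.isEffCartier_comap_flat U.ι _ hP) ?_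
    rw [← Groth.Agent.ModPairLib.comap_mul, hK, hU]
  have hKtop : K = ⊤ := by
    by_contra hne
    have hnonempty : (K.support : Set X).Nonempty := by
      rw [Set.nonempty_iff_ne_empty]
      intro h0
      refine hne ((Scheme.IdealSheafData.support_eq_bot_iff _).1 ?_)
      exact SetLike.coe_injective (h0.trans TopologicalSpace.Closeds.coe_bot.symm)
    obtain ⟨z, hzK, hmin⟩ :=
      (InvImage.wf (fun x : X => Order.coheight x) wellFounded_lt).has_min (K.support : Set X) hnonempty
    have hgen : ∀ y ∈ (K.support : Set X), y ⤳ z → y = z := by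
      intro y hy hyz
      by_contra hyne
      have h1 := Groth.Agent.SDiv28.CartierPart.dim_add_one_le hyz hyne
      have h2 : Order.coheight z ≤ Order.coheight y := not_lt.1 (hmin y hy)
      have hne_top : Order.coheight y ≠ ⊤ := fun h3 => by
        have h4 := ringKrullDim_lt_top (R := X.presheaf.stalk y)
        rw [ringKrullDim_stalk_eq_coheight, h3] at h4
        exact lt_irrefl _ h4
      exact absurd (h1.trans h2) (not_le.2 (ENat.lt_add_one_iff hne_top |>.2 le_rfl))
    have hzD : z ∈ (D.support : Set X) := by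
      refine (Groth.Agent.SDiv28.CartierPart.mem_support_iff_stk D z).2 ?_
      rw [← hK, Groth.Agent.SDiv28.CartierPart.stk_mul]
      exact Ideal.mul_le_left.trans ((Groth.Agent.SDiv28.CartierPart.mem_support_iff_stk K z).1 hzK)
    have hzU : z ∉ U := fun hzU => by
      have h5 : (⟨z, hzU⟩ : (U : Scheme.{u})) ∈ (K.comap U.ι).support := by
        rw [Scheme.IdealSheafData.support_comap]; exact hzK
      rw [hKU, Scheme.IdealSheafData.support_top] at h5
      exact h5
    have h6 := hcod z ⟨hzD, hzU⟩
    rw [Groth.Agent.S1568.result X K hKc z hzK hgen] at h6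
    exact absurd h6 (by norm_num)
  refine ⟨fun i => if (⟨i⟩ : ULift.{u} (Fin r)) ∈ T then n ⟨i⟩ else 0, ?_⟩
  rw [← hK, hKtop, Scheme.IdealSheafData.top_mul]
  rw [← Equiv.ulift.prod_comp (fun i : Fin r => Ds i ^ _)]
  rw [← Finset.prod_subset (Finset.subset_univ T)]
  · exact Finset.prod_congr rfl fun i hi => by simp [E, hi]
  · exact fun i _ hi => by simp [hi]
end Groth.Agent.S1659
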