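import Groth.Statements.S16600
import Groth.Agent.LGLib.Basic

set_option autoImplicit false
open AlgebraicGeometry
universe u
open LGRing

namespace Groth.Agent.S16600

/-- Let R be an LG-ring, M a finite locally free R-module, W(M) = Spec Sym(M^∨) the vector bundle of M
(its points with values in an R-algebra R' are the R-algebra maps Sym(M^∨) → R', i.e. the R-linear
maps M^∨ → R'), and U ⊆ W(M) an open quasi-compact subscheme. Then U(R) is non-empty if and only if
U(R ⧸ m) is non-empty for every maximal ideal m of R. -/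
theorem result {R : Type u} [CommRing R]
    (hR : LGRing.IsLGRing R) (M : Type u) [AddCommGroup M] [Module R M] [Module.Finite R M] [Module.Projective R M]
    (U : (Spec (CommRingCat.of (SymmetricAlgebra R (Module.Dual R M)))).Opens)
    (hU : IsCompact (U : Set ↥(Spec (CommRingCat.of (SymmetricAlgebra R (Module.Dual R M)))))) :
    (∃ φ : Module.Dual R M →ₗ[R] R,
      Set.range (Spec.map (CommRingCat.ofHom (SymmetricAlgebra.lift φ).toRingHom)).base ⊆
        (U : Set ↥(Spec (CommRingCat.of (SymmetricAlgebra R (Module.Dual R M)))))) ↔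
    ∀ (m : Ideal R) [m.IsMaximal], ∃ φ : Module.Dual R M →ₗ[R] (R ⧸ m),
      Set.range (Spec.map (CommRingCat.ofHom (SymmetricAlgebra.lift φ).toRingHom)).base ⊆
        (U : Set ↥(Spec (CommRingCat.of (SymmetricAlgebra R (Module.Dual R M))))) := by
  constructor
  · rintro ⟨φ, hφ⟩ m hm
    refine ⟨(Ideal.Quotient.mkₐ R m).toLinearMap ∘ₗ φ, ?_⟩
    rintro _ ⟨q, rfl⟩
    have e : SymmetricAlgebra.lift ((Ideal.Quotient.mkₐ R m).toLinearMap ∘ₗ φ) =
        (Ideal.Quotient.mkₐ R m).comp (SymmetricAlgebra.lift φ) :=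
      SymmetricAlgebra.algHom_ext (LinearMap.ext fun f => by simp)
    have h := hφ ⟨q.comap (Ideal.Quotient.mk m), rfl⟩
    rw [e]
    exact h
  · intro h
    obtain ⟨n, π, σ, hπσ⟩ := Groth.Agent.LGLib.exists_retract (R := R) M
    obtain ⟨t, ht⟩ := Groth.Agent.LGLib.exists_basic U.carrier hU U.is_open'
    obtain ⟨s, hs⟩ := Groth.Agent.LGLib.exists_point hR (Groth.Agent.LGLib.coord π) t fun m hm => by
      obtain ⟨φ, hφ⟩ := h m
      letI := Ideal.Quotient.field m
      let q : PrimeSpectrum (R ⧸ m) := ⟨⊥, Ideal.isPrime_bot⟩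
      obtain ⟨g, hg, hgq⟩ := (ht _).mp (hφ ⟨q, rfl⟩)
      refine ⟨fun i => φ (LinearMap.proj i ∘ₗ σ), g, hg, ?_⟩
      rw [← AlgHom.comp_apply, Groth.Agent.LGLib.exists_coord_eq π σ hπσ φ]
      exact hgq
    refine ⟨∑ i, (Module.Dual.eval R M (π (Pi.single i 1))).smulRight (s i), ?_⟩
    rintro _ ⟨q, rfl⟩
    obtain ⟨g, hg, hgq⟩ := hs q
    refine (ht _).mpr ⟨g, hg, ?_⟩
    rw [← Groth.Agent.LGLib.aeval_coord π s]
    exact hgq

end Groth.Agent.S16600
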