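import Groth.Statements.S16601
import Groth.Agent.LGLib.Basic

set_option autoImplicit false
open AlgebraicGeometry
universe u
open LGRing

namespace Groth.Agent.S16601

/-- Let R be an LG-ring whose residue fields at maximal ideals are all infinite (R satisfies the
primitive criterion), M a finite locally free R-module with vector bundle W(M) = Spec Sym(M^∨), and
U ⊆ W(M) an open quasi-compact subscheme which is fibrewise dense over the closed points of Spec R
(for every maximal ideal m, the trace of U on the closed fibre Spec (Sym(M^∨) ⧸ m Sym(M^∨)) is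
dense). Then U has an R-valued point. (The source asks U to be R-dense in W(M); only density of the
closed fibres is used, which is what is assumed here.) -/
theorem result {R : Type u} [CommRing R]
    (hR : LGRing.IsLGRing R) (hinf : ∀ (m : Ideal R) [m.IsMaximal], Infinite (R ⧸ m))
    (M : Type u) [AddCommGroup M] [Module R M] [Module.Finite R M] [Module.Projective R M]
    (U : (Spec (CommRingCat.of (SymmetricAlgebra R (Module.Dual R M)))).Opens)
    (hU : IsCompact (U : Set ↥(Spec (CommRingCat.of (SymmetricAlgebra R (Module.Dual R M))))))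
    (hdense : ∀ (m : Ideal R) [m.IsMaximal],
      Dense ((Spec.map (CommRingCat.ofHom (Ideal.Quotient.mk
        (Ideal.map (algebraMap R (SymmetricAlgebra R (Module.Dual R M))) m)))).base ⁻¹'
          (U : Set ↥(Spec (CommRingCat.of (SymmetricAlgebra R (Module.Dual R M))))))) :
    ∃ φ : Module.Dual R M →ₗ[R] R,
      Set.range (Spec.map (CommRingCat.ofHom (SymmetricAlgebra.lift φ).toRingHom)).base ⊆
        (U : Set ↥(Spec (CommRingCat.of (SymmetricAlgebra R (Module.Dual R M))))) := by
  obtain ⟨n, π, σ, hπσ⟩ := Groth.Agent.LGLib.exists_retract (R := R) M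
  obtain ⟨t, ht⟩ := Groth.Agent.LGLib.exists_basic U.carrier hU U.is_open'
  obtain ⟨s, hs⟩ := Groth.Agent.LGLib.exists_point hR (Groth.Agent.LGLib.coord π) t fun m hm => by
    have : Infinite (R ⧸ m) := hinf m
    let A := SymmetricAlgebra R (Module.Dual R M)
    let J : Ideal A := m.map (algebraMap R A)
    have hne : J ≠ ⊤ := by
      intro htop
      have h1 : J ≤ RingHom.ker ((Ideal.Quotient.mkₐ R m).comp (SymmetricAlgebra.lift (0 : Module.Dual R M →ₗ[R] R))) := by
        refine Ideal.map_le_iff_le_comap.mpr fun r hr => ?_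
        rw [Ideal.mem_comap, RingHom.mem_ker, AlgHom.commutes, Ideal.Quotient.algebraMap_eq]
        exact Ideal.Quotient.eq_zero_iff_mem.mpr hr
      have h2 := h1 (htop ▸ Submodule.mem_top : (1 : A) ∈ J)
      rw [RingHom.mem_ker, map_one] at h2
      have : Nontrivial (R ⧸ m) := Ideal.Quotient.nontrivial_iff.mpr hm.ne_top
      exact one_ne_zero h2
    have : Nontrivial (A ⧸ J) := Ideal.Quotient.nontrivial_iff.mpr hne
    obtain ⟨q, hq⟩ := (PrimeSpectrum.nonempty_iff_nontrivial (R := A ⧸ J)).mpr this |>.elim
      fun x => (hdense m).nonempty (h := ⟨x⟩)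
    obtain ⟨g, hg, hgq⟩ := (ht _).mp hq
    obtain ⟨v, hv⟩ := Groth.Agent.LGLib.exists_notMem_map π σ hπσ m (g := g) fun hmem => hgq (by
      have h0 : Ideal.Quotient.mk J g = 0 := Ideal.Quotient.eq_zero_iff_mem.mpr hmem
      change Ideal.Quotient.mk J g ∈ q.asIdeal
      rw [h0]; exact zero_mem _)
    exact ⟨v, g, hg, hv⟩
  refine ⟨∑ i, (Module.Dual.eval R M (π (Pi.single i 1))).smulRight (s i), ?_⟩
  rintro _ ⟨q, rfl⟩
  obtain ⟨g, hg, hgq⟩ := hs q
  refine (ht _).mpr ⟨g, hg, ?_⟩
  rw [← Groth.Agent.LGLib.aeval_coord π s]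
  exact hgq

end Groth.Agent.S16601
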