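import Groth.Statements.S16602
import Mathlib
import Groth.Agent.CSA.LGModules

set_option autoImplicit false
universe u v w
open Brauer

namespace Groth.Agent.S16602

/-- Let R be an LG-ring with Spec R connected and A an Azumaya R-algebra. Then any two indecomposable
finitely generated projective left A-modules are isomorphic (a module is indecomposable when it is
non-zero and the only idempotents of its endomorphism ring are 0 and 1). (This extends the semilocal
case.) -/
theorem result {R : Type u} [CommRing R]
    (hR : LGRing.IsLGRing R) [ConnectedSpace (PrimeSpectrum R)] {A : Type v} [Ring A] [Algebra R A] [IsAzumaya R A]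
    (P Q : Type w) [AddCommGroup P] [Module A P] [Module.Finite A P] [Module.Projective A P] [Nontrivial P]
    [AddCommGroup Q] [Module A Q] [Module.Finite A Q] [Module.Projective A Q] [Nontrivial Q]
    (hP : ∀ e : Module.End A P, IsIdempotentElem e → e = 0 ∨ e = 1)
    (hQ : ∀ e : Module.End A Q, IsIdempotentElem e → e = 0 ∨ e = 1) : Nonempty (P ≃ₗ[A] Q) := by
  open Groth.Agent.CSA in
    letI : Module R P := Module.compHom P (algebraMap R A)
    letI : Module R Q := Module.compHom Q (algebraMap R A)
    haveI : IsScalarTower R A P := IsScalarTower.of_algebraMap_smul fun _ _ => rfl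
    haveI : IsScalarTower R A Q := IsScalarTower.of_algebraMap_smul fun _ _ => rfl
    obtain ⟨hP₁, hP₂⟩ := projective_restrict (R := R) (A := A) P
    obtain ⟨hQ₁, hQ₂⟩ := projective_restrict (R := R) (A := A) Q
    haveI : Module.FinitePresentation R P := Module.finitePresentation_of_projective R P
    haveI : Module.FinitePresentation R Q := Module.finitePresentation_of_projective R Q
    obtain ⟨p₀⟩ := (inferInstance : Nonempty (PrimeSpectrum R))
    have hP0 : ∀ p, Module.rankAtStalk (R := R) P p = Module.rankAtStalk (R := R) P p₀ := fun p =>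
      Module.isLocallyConstant_rankAtStalk.apply_eq_of_preconnectedSpace p p₀
    have hQ0 : ∀ p, Module.rankAtStalk (R := R) Q p = Module.rankAtStalk (R := R) Q p₀ := fun p =>
      Module.isLocallyConstant_rankAtStalk.apply_eq_of_preconnectedSpace p p₀
    rcases Nat.le_total (Module.rankAtStalk (R := R) Q p₀) (Module.rankAtStalk (R := R) P p₀) with hle | hle
    · obtain ⟨f, g, hfg⟩ := exists_split_surjective hR (A := A) P Q fun p => by rw [hP0, hQ0]; exact hle
      have hfg' : ∀ y, f (g y) = y := fun y => LinearMap.congr_fun hfg y
      rcases hP (g ∘ₗ f) (LinearMap.ext fun x => by simp [Module.End.mul_apply, hfg']) with h0 | h1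
      · obtain ⟨y, hy⟩ := exists_ne (0 : Q)
        exact absurd ((hfg' y).symm.trans (by
          rw [← hfg' (f (g y)), ← LinearMap.comp_apply g f, h0, LinearMap.zero_apply, map_zero])) hy
      · exact ⟨LinearEquiv.ofLinearMap f g hfg h1⟩
    · obtain ⟨f, g, hfg⟩ := exists_split_surjective hR (A := A) Q P fun p => by rw [hP0, hQ0]; exact hle
      have hfg' : ∀ y, f (g y) = y := fun y => LinearMap.congr_fun hfg y
      rcases hQ (g ∘ₗ f) (LinearMap.ext fun x => by simp [Module.End.mul_apply, hfg']) with h0 | h1
      · obtain ⟨y, hy⟩ := exists_ne (0 : P)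
        exact absurd ((hfg' y).symm.trans (by
          rw [← hfg' (f (g y)), ← LinearMap.comp_apply g f, h0, LinearMap.zero_apply, map_zero])) hy
      · exact ⟨(LinearEquiv.ofLinearMap f g hfg h1).symm⟩
end Groth.Agent.S16602
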