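import Groth.Statements.S16607
import Mathlib
import Groth.Agent.CSA.LGModules

set_option autoImplicit false
universe u v
open Brauer

namespace Groth.Agent.S16607

/-- Let R be an LG-ring, A and B Azumaya R-algebras and n ≥ 1. If Mₙ(A) ≅ Mₙ(B) as R-algebras then A ≅ B
as R-algebras (cancellation of Azumaya algebras). -/
theorem result {R : Type u} [CommRing R]
    (hR : LGRing.IsLGRing R) (A B : Type v) [Ring A] [Algebra R A] [IsAzumaya R A] [Ring B] [Algebra R B]
    [IsAzumaya R B] (n : ℕ) (hn : 0 < n)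
    (e : Matrix (Fin n) (Fin n) A ≃ₐ[R] Matrix (Fin n) (Fin n) B) : Nonempty (A ≃ₐ[R] B) := by
  open Groth.Agent.CSA TensorProduct in
    haveI : Nonempty (Fin n) := ⟨⟨0, hn⟩⟩
    haveI : FaithfulSMul R (Fin n → R) := ⟨fun {a b} h => by simpa using congrFun (h 1) ⟨0, hn⟩⟩
    let E : Module.End R (Fin n → R) ≃ₐ[R] Matrix (Fin n) (Fin n) R := LinearMap.toMatrixAlgEquiv'
    let eA : A ⊗[R] Module.End R (Fin n → R) ≃ₐ[R] Matrix (Fin n) (Fin n) A :=
      (Algebra.TensorProduct.congr AlgEquiv.refl E).trans (matrixEquivTensor (Fin n) R A).symm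
    let eB : B ⊗[R] Module.End R (Fin n → R) ≃ₐ[R] Matrix (Fin n) (Fin n) B :=
      (Algebra.TensorProduct.congr AlgEquiv.refl E).trans (matrixEquivTensor (Fin n) R B).symm
    refine nonempty_algEquiv_of_brauer hR (P := Fin n → R) (Q := Fin n → R) (fun p => ?_) ((eA.trans e).trans eB.symm)
    have h1 := congrFun (Module.rankAtStalk_eq_of_equiv ((eA.trans e).trans eB.symm).toLinearEquiv) p
    simp only [Module.rankAtStalk_tensorProduct, Pi.mul_apply, rankAtStalk_end] at h1
    refine Nat.eq_of_mul_eq_mul_right ?_ h1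
    haveI : Nontrivial R :=
      nontrivial_of_ne (1 : R) 0 fun h => p.isPrime.ne_top ((Ideal.eq_top_iff_one _).mpr (h ▸ p.asIdeal.zero_mem))
    rw [Module.rankAtStalk_eq_finrank_of_free, Pi.natCast_apply, Module.finrank_fin_fun]
    exact Nat.mul_pos hn hn
end Groth.Agent.S16607
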