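import Groth.Statements.S16608
import Mathlib
import Groth.Agent.CSA.LGModules

set_option autoImplicit false
open scoped TensorProduct
universe u v
open Brauer

namespace Groth.Agent.S16608

/-- Let R be an LG-ring and A, B, C Azumaya R-algebras. If A ⊗_R C ≅ B ⊗_R C as R-algebras then A ≅ B as
R-algebras. -/
theorem result {R : Type u} [CommRing R]
    (hR : LGRing.IsLGRing R) (A B C : Type v) [Ring A] [Algebra R A] [IsAzumaya R A] [Ring B] [Algebra R B]
    [IsAzumaya R B] [Ring C] [Algebra R C] [IsAzumaya R C]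
    (e : A ⊗[R] C ≃ₐ[R] B ⊗[R] C) : Nonempty (A ≃ₐ[R] B) := by
  open Groth.Agent.CSA TensorProduct in
    haveI : Module.Finite R Cᵐᵒᵖ := Module.Finite.equiv (MulOpposite.opLinearEquiv R)
    haveI : Module.Projective R Cᵐᵒᵖ := Module.Projective.of_equiv (MulOpposite.opLinearEquiv R (M := C))
    let E : C ⊗[R] Cᵐᵒᵖ ≃ₐ[R] Module.End R C := AlgEquiv.ofBijective _ (IsAzumaya.bij (R := R) (A := C))
    let eA : A ⊗[R] Module.End R C ≃ₐ[R] (A ⊗[R] C) ⊗[R] Cᵐᵒᵖ :=
      (Algebra.TensorProduct.congr AlgEquiv.refl E.symm).trans (Algebra.TensorProduct.assoc R R R A C Cᵐᵒᵖ).symm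
    let eB : B ⊗[R] Module.End R C ≃ₐ[R] (B ⊗[R] C) ⊗[R] Cᵐᵒᵖ :=
      (Algebra.TensorProduct.congr AlgEquiv.refl E.symm).trans (Algebra.TensorProduct.assoc R R R B C Cᵐᵒᵖ).symm
    refine nonempty_algEquiv_of_brauer hR (P := C) (Q := C) (fun p => ?_)
      ((eA.trans (Algebra.TensorProduct.congr e AlgEquiv.refl)).trans eB.symm)
    have h1 := congrFun (Module.rankAtStalk_eq_of_equiv e.toLinearEquiv) p
    simp only [Module.rankAtStalk_tensorProduct, Pi.mul_apply] at h1
    refine Nat.eq_of_mul_eq_mul_right (Nat.pos_of_ne_zero ?_) h1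
    rw [Ne, Module.rankAtStalk_eq_zero_iff_notMem_support, not_not, Module.support_eq_zeroLocus,
      PrimeSpectrum.mem_zeroLocus, Module.annihilator_eq_bot.mpr inferInstance]
    intro x hx
    rw [show x = 0 from hx]
    exact p.asIdeal.zero_mem
end Groth.Agent.S16608
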