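import Groth.Statements.S1661
import Groth.Agent.ModPairLib.EffCartier
import Mathlib

set_option autoImplicit false
universe u
open CategoryTheory CategoryTheory.Limits AlgebraicGeometry
open Divisors

namespace Groth.Agent.S1661
open TopologicalSpace RingTheory.Sequence

/-- If i : Z → Y and j : Y → X are regular closed immersions then so is their composite Z → X. This is
the closed-immersion case of the published statement. -/
theorem result {Z Y X : Scheme.{u}} (i : Z ⟶ Y) (j : Y ⟶ X)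
    (hi : Mor2.IsRegularClosedImmersion i) (hj : Mor2.IsRegularClosedImmersion j) : Mor2.IsRegularClosedImmersion (i ≫ j) := by
  have hic := hi.1
  have hjc := hj.1
  refine ⟨inferInstance, fun z => ?_⟩
  obtain ⟨U, hU, hjU, rs, hrs, hrsI⟩ := hj.2 (i z)
  obtain ⟨V, hV, hiV, ss, hss, hssI⟩ := hi.2 z
  -- a basic open of `U` whose trace on `Y` lies in `V`
  have hopen : ∃ O : X.Opens, j ⁻¹ᵁ O = V := by
    obtain ⟨O, hO, hOV⟩ := j.isEmbedding.isInducing.isOpen_iff.1 V.isOpen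
    exact ⟨⟨O, hO⟩, Opens.ext hOV⟩
  obtain ⟨O, hO⟩ := hopen
  obtain ⟨g, hgO, hzg⟩ := hU.exists_basicOpen_le (V := O) ⟨j (i z), by rw [← hO] at hiV; exact hiV⟩ hjU
  set D := X.basicOpen g
  have hDV : j ⁻¹ᵁ D ≤ V := hO ▸ j.preimage_mono hgO
  obtain ⟨b, hbD, hzb⟩ := hV.exists_basicOpen_le (V := j ⁻¹ᵁ D) ⟨i z, hzg⟩ hiV
  -- shrink again to a basic open of both charts
  have hopen' : ∃ O' : X.Opens, j ⁻¹ᵁ O' = Y.basicOpen b := by
    obtain ⟨O', hO', hOV'⟩ := j.isEmbedding.isInducing.isOpen_iff.1 (Y.basicOpen b).isOpen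
    exact ⟨⟨O', hO'⟩, Opens.ext hOV'⟩
  obtain ⟨O', hO'⟩ := hopen'
  obtain ⟨g', hgO', hzg'⟩ := hU.exists_basicOpen_le (V := D ⊓ O') ⟨j (i z), ⟨hzg, by
    rw [← hO'] at hzb; exact hzb⟩⟩ hjU
  set E := X.basicOpen g'
  have hEU : E ≤ U := X.basicOpen_le g'
  have hW : IsAffineOpen (j ⁻¹ᵁ E) := (hU.basicOpen g').preimage j
  have hWb : j ⁻¹ᵁ E ≤ Y.basicOpen b := hO' ▸ j.preimage_mono (hgO'.trans inf_le_right)
  have hWV : j ⁻¹ᵁ E ≤ V := hWb.trans (Y.basicOpen_le b)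
  -- `j ⁻¹ E` is a basic open of `V`
  let gj : Γ(Y, j ⁻¹ᵁ U) := j.app U g'
  have hjE : j ⁻¹ᵁ E = Y.basicOpen gj := Scheme.preimage_basicOpen j g'
  have hbU : Y.basicOpen b ≤ j ⁻¹ᵁ U := hbD.trans (j.preimage_mono (X.basicOpen_le g))
  let gb : Γ(Y, Y.basicOpen b) := Y.presheaf.map (homOfLE hbU).op gj
  have hgb : Y.basicOpen gb = j ⁻¹ᵁ E := by
    rw [Scheme.basicOpen_res, ← hjE, inf_eq_right.2 hWb]
  -- flatness of both localisations
  letI : Algebra Γ(X, U) Γ(X, E) := (X.presheaf.map (homOfLE hEU).op).hom.toAlgebra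
  haveI : IsLocalization.Away g' Γ(X, E) := hU.isLocalization_basicOpen g'
  haveI : Module.Flat Γ(X, U) Γ(X, E) := IsLocalization.flat _ (Submonoid.powers g')
  letI : Algebra Γ(Y, V) Γ(Y, j ⁻¹ᵁ E) := (Y.presheaf.map (homOfLE hWV).op).hom.toAlgebra
  haveI : Module.Flat Γ(Y, V) Γ(Y, j ⁻¹ᵁ E) := by
    letI : Algebra Γ(Y, Y.basicOpen b) Γ(Y, j ⁻¹ᵁ E) := (Y.presheaf.map (homOfLE hWb).op).hom.toAlgebra
    haveI : IsLocalization.Away gb Γ(Y, j ⁻¹ᵁ E) :=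
      (hV.basicOpen b).isLocalization_of_eq_basicOpen gb (homOfLE hWb) hgb.symm
    haveI : Module.Flat Γ(Y, Y.basicOpen b) Γ(Y, j ⁻¹ᵁ E) := IsLocalization.flat _ (Submonoid.powers gb)
    haveI := hV.isLocalization_basicOpen b
    haveI : Module.Flat Γ(Y, V) Γ(Y, Y.basicOpen b) := IsLocalization.flat _ (Submonoid.powers b)
    haveI : IsScalarTower Γ(Y, V) Γ(Y, Y.basicOpen b) Γ(Y, j ⁻¹ᵁ E) := .of_algebraMap_eq fun r =>
      (ModPairLib.res_res (Y.basicOpen_le b) hWb r).symm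
    exact Module.Flat.trans Γ(Y, V) Γ(Y, Y.basicOpen b) _
  let rs' : List Γ(X, E) := rs.map (algebraMap Γ(X, U) Γ(X, E))
  let ss' : List Γ(Y, j ⁻¹ᵁ E) := ss.map (algebraMap Γ(Y, V) Γ(Y, j ⁻¹ᵁ E))
  have hrs' : IsWeaklyRegular Γ(X, E) rs' := IsWeaklyRegular.of_flat (S := Γ(X, E)) hrs.toIsWeaklyRegular
  have hss' : IsWeaklyRegular Γ(Y, j ⁻¹ᵁ E) ss' :=
    IsWeaklyRegular.of_flat (S := Γ(Y, j ⁻¹ᵁ E)) hss.toIsWeaklyRegular
  have hkj : RingHom.ker (j.app E).hom = Ideal.ofList rs' := by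
    rw [← Scheme.Hom.ker_apply j ⟨E, hU.basicOpen g'⟩, ← j.ker.map_ideal (U := ⟨E, hU.basicOpen g'⟩) (V := ⟨U, hU⟩) hEU,
      hrsI, Ideal.map_ofList]
    rfl
  have hki : RingHom.ker (i.app (j ⁻¹ᵁ E)).hom = Ideal.ofList ss' := by
    rw [← Scheme.Hom.ker_apply i ⟨j ⁻¹ᵁ E, hW⟩, ← i.ker.map_ideal (U := ⟨j ⁻¹ᵁ E, hW⟩) (V := ⟨V, hV⟩) hWV,
      hssI, Ideal.map_ofList]
    rfl
  let ψ := (j.app E).hom
  have hψ : Function.Surjective ψ := j.app_surjective E (hU.basicOpen g')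
  choose lift hlift using hψ
  let ts : List Γ(X, E) := ss'.map lift
  have hts : ts.map ψ = ss' := by
    rw [List.map_map, show ⇑ψ ∘ lift = id from funext hlift, List.map_id]
  letI : Algebra Γ(X, E) Γ(Y, j ⁻¹ᵁ E) := ψ.toAlgebra
  have e : (Γ(X, E) ⧸ (Ideal.ofList rs' • ⊤ : Submodule Γ(X, E) Γ(X, E))) ≃ₗ[Γ(X, E)] Γ(Y, j ⁻¹ᵁ E) :=
    (Submodule.quotEquivOfEq _ _ (by
      rw [smul_eq_mul, Ideal.mul_top, ← hkj]
      exact Submodule.ext fun a => Iff.rfl)).trans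
      ((Algebra.linearMap Γ(X, E) Γ(Y, j ⁻¹ᵁ E)).quotKerEquivOfSurjective fun b => ⟨lift b, hlift b⟩)
  have hker : RingHom.ker ((i ≫ j).app E).hom = Ideal.ofList (rs' ++ ts) := by
    show RingHom.ker ((i.app (j ⁻¹ᵁ E)).hom.comp ψ) = _
    rw [← RingHom.comap_ker, hki, ← hts, ← Ideal.map_ofList,
      Ideal.comap_map_of_surjective' ψ (fun b => ⟨lift b, hlift b⟩), hkj, Ideal.ofList_append, sup_comm]
  refine ⟨E, hU.basicOpen g', hzg', rs' ++ ts, ⟨(isWeaklyRegular_append_iff _ rs' ts).2 ⟨hrs', ?_⟩, ?_⟩, ?_⟩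
  · rw [e.isWeaklyRegular_congr, ← isWeaklyRegular_map_algebraMap_iff Γ(Y, j ⁻¹ᵁ E)]
    exact hts ▸ hss'
  · rw [smul_eq_mul, Ideal.mul_top, ← hker]
    intro h
    have h1 : ((i ≫ j).app E) 1 = 0 := RingHom.mem_ker.1 (h ▸ Submodule.mem_top)
    rw [map_one] at h1
    have h2 := congrArg (Z.presheaf.germ ((i ≫ j) ⁻¹ᵁ E) z hzg') h1
    rw [map_one, map_zero] at h2
    exact one_ne_zero h2
  · rw [Scheme.Hom.ker_apply (i ≫ j) ⟨E, hU.basicOpen g'⟩]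
    exact hker
end Groth.Agent.S1661
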