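import Groth.Statements.S16783
import Groth.Agent.IsoTriv.SchemeLocal
import Groth.Agent.IsoTriv.TorsionScheme
import Groth.Agent.IsoTriv.TypeCrit

set_option autoImplicit false
open CategoryTheory MonoidalCategory CartesianMonoidalCategory MonObj GrpObj AlgebraicGeometry
universe u
open CategoryTheory.Limits
open SGA3x

namespace Groth.Agent.S16783

open CoactBr Groth.Agent.HopfLib.SpPoints Groth.Agent.IsoTriv Groth.Agent.IsoTriv.SchemeSpec Groth.Agent.SGA3bLib
open CategoryTheory.Limits
open scoped TensorProduct

theorem exists_point_algebra {S : Scheme.{u}} (H : Over S) [GrpObj H] {R : Type u} [CommRing R]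
    (g : Spec (CommRingCat.of R) ⟶ S) [IsOpenImmersion g] {A : Type u} [CommRing A] [HopfAlgebra R A]
    (e : Grp.mk (Red.bc g H) ≅ Grp.mk (sp R A)) (p : PrimeSpectrum R) (K : Type u) [Field K]
    (t : Spec (CommRingCat.of K) ⟶ S) (ht : ∀ x, t.base x = g.base p) :
    ∃ a : Algebra R K, RingHom.ker (algebraMap R K) = p.asIdeal ∧
      Nonempty (Grp.mk (Red.bc t H) ≅ Grp.mk (sp K (K ⊗[R] A))) := by
  let c := IsOpenImmersion.lift g t (by rintro _ ⟨x, rfl⟩; exact ⟨p, (ht x).symm⟩)
  have hc : c ≫ g = t := IsOpenImmersion.lift_fac _ _ _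
  letI a : Algebra R K := (Spec.preimage c).hom.toAlgebra
  have hstr : str R K = c := Spec.map_preimage c
  refine ⟨a, ?_, ?_⟩
  · have h1 : c.base (⊥ : PrimeSpectrum K) = p := g.isOpenEmbedding.injective (by
      rw [← Scheme.Hom.comp_apply, hc]; exact ht _)
    rw [← hstr] at h1
    exact congrArg PrimeSpectrum.asIdeal h1
  · obtain ⟨b⟩ := nonempty_bc_spec (R := R) K A
    obtain ⟨i⟩ := SchemeLocal.nonempty_bc_comp g (str R K) t (by rw [hstr, hc]) H
    obtain ⟨j⟩ := nonempty_bc_congr (str R K) e
    exact ⟨i.symm ≪≫ j ≪≫ b⟩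

/-- Let H be an affine, flat, finitely presented group scheme over a scheme S whose geometric fibres are
of multiplicative type and such that, for every n ≥ 1, the order of the n-torsion subgroup scheme of
the fibre H_s is locally constant in s. Then H is of multiplicative type. -/
theorem result {S : Scheme.{u}} (H : Over S) [GrpObj H]
    (hHa : IsAffineHom H.hom) (hHfl : Flat H.hom) (hHfp : LocallyOfFinitePresentation H.hom)
    (hfib : ∀ s : S, SGA3x.IsMultTypeFT (Red.geomFibre s H))
    (hord : ∀ n : ℕ, 0 < n → ∃ d : S → ℕ, IsLocallyConstant d ∧ ∀ (s : S)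
      (x : ↥(Spec (S.residueField s))),
      ((pullback.snd η[H].left (𝟙 H ^ n : H ⟶ H).left ≫ H.hom).fiberToSpecResidueField s).finrank x = d s) :
    SGA3x.IsMultTypeFT H := by
  refine SchemeLocal.isMultTypeFT_of_hopf H fun R _ g hg A _ _ e => ?_
  haveI := hg
  let a : Red.bc g H ≅ sp R A := (Grp.forget _).mapIso e
  haveI : IsIso a.inv.left := ((Over.forget _).mapIso a).isIso_inv
  have hflA : Flat (sp R A).hom := by
    rw [← Over.w a.inv]
    haveI : Flat (Red.bc g H).hom := MorphismProperty.pullback_snd (P := @Flat) _ _ hHfl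
    infer_instance
  have hfpA : LocallyOfFinitePresentation (sp R A).hom := by
    rw [← Over.w a.inv]
    haveI : LocallyOfFinitePresentation (Red.bc g H).hom := MorphismProperty.pullback_snd (P := @LocallyOfFinitePresentation) _ _ hHfp
    infer_instance
  have h1 : Flat (Spec.map (CommRingCat.ofHom (algebraMap R A))) := hflA
  rw [HasRingHomProperty.Spec_iff (P := @Flat), CommRingCat.hom_ofHom, RingHom.flat_algebraMap_iff] at h1
  have h2 : LocallyOfFinitePresentation (Spec.map (CommRingCat.ofHom (algebraMap R A))) := hfpA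
  rw [LocallyOfFinitePresentation.SpecMap_iff, CommRingCat.hom_ofHom, RingHom.finitePresentation_algebraMap] at h2
  have := h2
  have hfibK : ∀ p : PrimeSpectrum R, SGA3b.IsMultType p.asIdeal.ResidueField (p.asIdeal.ResidueField ⊗[R] A) := by
    intro p
    let s : S := g.base p
    let K := AlgebraicClosure (S.residueField s)
    have ht : ∀ x, (Red.geomPt s).base x = g.base p := fun x => by
      show (S.fromSpecResidueField s).base _ = s
      exact Scheme.fromSpecResidueField_apply ..
    obtain ⟨aK, hker, ⟨i⟩⟩ := exists_point_algebra H g e p K (Red.geomPt s) ht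
    letI := aK
    obtain ⟨-, hK⟩ := SchemeBridge.multTypeFT_iff.mp (SchemeBridge.isMultTypeFT_of_iso i (hfib s))
    let κ := p.asIdeal.ResidueField
    let f : κ →+* K := Ideal.ResidueField.lift p.asIdeal (algebraMap R K) (le_of_eq hker.symm)
      (fun a ha => Ne.isUnit fun h => ha (hker ▸ h))
    let : Algebra κ K := f.toAlgebra
    have : IsScalarTower R κ K := .of_algebraMap_eq fun r => by
      exact (Ideal.ResidueField.lift_algebraMap _ _ _ _ r).symm
    exact isMultType_of_const (isMultTypeConst_descend K (cancelBC (R := R) κ K A).symm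
      (isMultTypeConst_of_isLocalRing hK))
  refine ⟨inferInstance, isMultType_of_fibres_types h2 (fun p _ => hfibK ⟨p, inferInstance⟩) fun n hn => ?_⟩
  obtain ⟨d, hd, hds⟩ := hord n hn
  suffices h : torsionOrder R A n = fun p => d (g.base p) from h ▸ hd.comp_continuous g.continuous
  funext p
  let s : S := g.base p
  obtain ⟨ak, hker, ⟨i⟩⟩ := exists_point_algebra H g e p (S.residueField s) (S.fromSpecResidueField s)
    (fun x => Scheme.fromSpecResidueField_apply ..)
  letI := ak
  have hmt : SGA3b.IsMultType (S.residueField s) ((S.residueField s : Type u) ⊗[R] A) := by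
    let k : Type u := S.residueField s
    let κ := p.asIdeal.ResidueField
    let f : κ →+* k := Ideal.ResidueField.lift p.asIdeal (algebraMap R k) (le_of_eq hker.symm)
      (fun a ha => Ne.isUnit fun h => ha (hker ▸ h))
    let : Algebra κ k := f.toAlgebra
    have : IsScalarTower R κ k := .of_algebraMap_eq fun r => by
      exact (Ideal.ResidueField.lift_algebraMap _ _ _ _ r).symm
    obtain ⟨R', _, _, hff, N, _, ⟨e'⟩⟩ := isMultTypeConst_bc (isMultTypeConst_of_isLocalRing (hfibK p)) k
    exact isMultType_of_const ⟨R', inferInstance, inferInstance, hff, N, inferInstance,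
      ⟨(bcEquiv R' (cancelBC (R := R) κ k A).symm).trans e'⟩⟩
  have := finite_quotient_torsion
    (inferInstance : Algebra.FiniteType (S.residueField s) ((S.residueField s : Type u) ⊗[R] A)) hmt hn
  refine Eq.trans ?_ (hds s (⊥ : PrimeSpectrum (S.residueField s)))
  rw [show (pullback.snd η[H].left (𝟙 H ^ n : H ⟶ H).left ≫ H.hom).fiberToSpecResidueField s =
      pullback.snd (pullback.snd η[H].left (𝟙 H ^ n : H ⟶ H).left ≫ H.hom) (S.fromSpecResidueField s) from rfl]
  refine Eq.trans ?_ (TorsionScheme.finrank_torsion H n (k := (S.residueField s : Type u)) (S.fromSpecResidueField s) i _).symm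
  rw [torsionOrder_eq p hker n]
  exact (((Ideal.quotientEquivAlgOfEq _ (torsionIdeal_baseChange (R' := (S.residueField s : Type u)) (R := R) (A := A) n)).trans
      (Algebra.TensorProduct.tensorQuotientEquiv (R := R) (S.residueField s : Type u) A (S.residueField s : Type u)
        (SGA3b.torsionIdeal R A n)).symm).toLinearEquiv.finrank_eq).symm

end Groth.Agent.S16783
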