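import Groth.Statements.S16611
import Groth.Agent.S16783
import Groth.Agent.S13096
import Groth.Agent.SGA3bLib.MonoDiag
import Groth.Agent.IsoTriv.SchemeLocal
import Groth.Agent.IsoTriv.TypeLocus

set_option autoImplicit false
open CategoryTheory MonoidalCategory CartesianMonoidalCategory MonObj GrpObj AlgebraicGeometry
universe u
open SGA3x

namespace Groth.Agent.S16611

open CoactBr Groth.Agent.HopfLib.SpPoints Groth.Agent.IsoTriv Groth.Agent.IsoTriv.SchemeSpec Groth.Agent.SGA3bLib
open CategoryTheory.Limits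
open scoped TensorProduct

theorem injective_of_covers {R : Type u} [CommRing R] {A B : Type u} [CommRing A] [Algebra R A] [CommRing B] [Algebra R B]
    (φ : A →ₐ[R] B)
    (h : ∀ p : PrimeSpectrum R, ∃ (T : Type u) (_ : CommRing T) (_ : Algebra R T), Module.Flat R T ∧
      p ∈ Set.range (PrimeSpectrum.comap (algebraMap R T)) ∧ Function.Injective (φ.toLinearMap.lTensor T)) :
    Function.Injective φ := by
  rw [injective_iff_map_eq_zero]
  intro x hx
  by_contra hne
  obtain ⟨m, hm, hle⟩ := Ideal.exists_le_maximal (LinearMap.ker (LinearMap.toSpanSingleton R A x)) (fun h => hne (by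
    have h1 : (1 : R) ∈ LinearMap.ker (LinearMap.toSpanSingleton R A x) := h ▸ Submodule.mem_top
    simpa using h1))
  obtain ⟨T, _, _, hfl, ⟨q, hq⟩, hinj⟩ := h ⟨m, hm.isPrime⟩
  let J := LinearMap.ker (LinearMap.toSpanSingleton R A x)
  let u : R ⧸ J →ₗ[R] A := Submodule.liftQ J (LinearMap.toSpanSingleton R A x) le_rfl
  have hu : Function.Injective u := LinearMap.ker_eq_bot.mp (Submodule.ker_liftQ_eq_bot' _ _ rfl)
  have hT := Module.Flat.lTensor_preserves_injective_linearMap (M := T) u hu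
  have h0 : (1 : T) ⊗ₜ[R] x = 0 := hinj (by rw [LinearMap.lTensor_tmul, map_zero]; simp [hx])
  have h1 : (1 : T) ⊗ₜ[R] (Ideal.Quotient.mk J 1) = 0 := hT (by
    rw [LinearMap.lTensor_tmul, map_zero, ← h0]
    congr 1
    exact one_smul R x)
  have h2 := congrArg (Algebra.TensorProduct.lift (Algebra.ofId T (T ⧸ q.asIdeal))
    (Ideal.Quotient.liftₐ J (Algebra.ofId R (T ⧸ q.asIdeal)) fun r hr => by
      have : r ∈ m := hle hr
      rw [← show (q.comap (algebraMap R T)).asIdeal = m from congrArg PrimeSpectrum.asIdeal hq] at this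
      exact Ideal.Quotient.eq_zero_iff_mem.mpr this) fun _ _ => Commute.all _ _) h1
  simp at h2

/-- Over an arbitrary scheme S, a monomorphism f : T ⟶ T' of S-tori with the same rank function (at
every point of S the geometric fibres of T and T' are split tori of the same rank) is an
isomorphism. -/
theorem result {S : Scheme.{u}} {T T' : Over S} [GrpObj T] [GrpObj T']
    (hT : Red.IsTorus T) (hT' : Red.IsTorus T') (f : T ⟶ T') [IsMonHom f] [Mono f]
    (hrk : ∀ s : ↥S, ∃ r : ℕ, Red.IsSplitTorusWith (Fin r → ℤ) (Red.geomFibre s T) ∧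
      Red.IsSplitTorusWith (Fin r → ℤ) (Red.geomFibre s T')) : IsIso f := by
  haveI := SGA3cLib.torus_isAffineHom hT
  haveI := SGA3cLib.torus_isAffineHom hT'
  have hTm : ∀ {T : Over S} [GrpObj T], Red.IsTorus T → SGA3x.IsMultTypeFT T := by
    intro T _ ⟨S', g, h1, h2, h3, h4⟩
    refine ⟨S', g, h1, h2, h3, fun s => ?_⟩
    obtain ⟨U, hU, r, e⟩ := h4 s
    exact ⟨U, hU, Fin r → ℤ, inferInstance, inferInstance, e⟩
  suffices IsIso f.left from
    have : IsIso ((Over.forget S).map f) := this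
    isIso_of_reflects_iso f (Over.forget S)
  suffices h : ∀ (R : Type u) [CommRing R] (g : Spec (CommRingCat.of R) ⟶ S), IsOpenImmersion g →
      IsIso (((Over.pullback g).map f : Red.bc g T ⟶ Red.bc g T')).left by
    let 𝒰 := Precoverage.ZeroHypercover.pullback₁ T'.hom S.affineCover
    refine IsZariskiLocalAtTarget.of_openCover (P := MorphismProperty.isomorphisms Scheme) 𝒰 fun i => ?_
    let g : Spec _ ⟶ S := S.affineCover.f i
    let F : Red.bc g T ⟶ Red.bc g T' := (Over.pullback g).map f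
    suffices hF : IsIso F.left by
      have hw : f.left ≫ T'.hom = T.hom := Over.w f
      have hFf : F.left ≫ pullback.fst T'.hom g = pullback.fst T.hom g ≫ f.left := pullback.lift_fst _ _ _
      have hFs : F.left ≫ pullback.snd T'.hom g = pullback.snd T.hom g := pullback.lift_snd _ _ _
      have sq : IsPullback (pullback.fst T.hom g) F.left f.left (pullback.fst T'.hom g) := by
        refine IsPullback.of_bot (h₃₁ := g) (v₂₁ := pullback.snd T'.hom g) (v₂₂ := T'.hom) ?_ hFf.symm
          (IsPullback.of_hasPullback T'.hom g)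
        rw [hFs, hw]
        exact IsPullback.of_hasPullback T.hom g
      show IsIso (pullback.snd f.left (pullback.fst T'.hom g))
      rw [← sq.isoPullback_inv_snd]
      infer_instance
    exact h _ g (S.affineCover.map_prop i)
  intro R _ g hg
  haveI := hg
  haveI : IsAffineHom (Red.bc g T).hom := MorphismProperty.pullback_snd (P := @IsAffineHom) _ _ ‹_›
  haveI : IsAffineHom (Red.bc g T').hom := MorphismProperty.pullback_snd (P := @IsAffineHom) _ _ ‹_›
  haveI : IsAffine (Red.bc g T).left := isAffine_of_isAffineHom (Red.bc g T).hom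
  haveI : IsAffine (Red.bc g T').left := isAffine_of_isAffineHom (Red.bc g T').hom
  obtain ⟨B, _, _, ⟨e⟩⟩ := exists_spec (Red.bc g T)
  obtain ⟨A, _, _, ⟨e'⟩⟩ := exists_spec (Red.bc g T')
  let F : Red.bc g T ⟶ Red.bc g T' := (Over.pullback g).map f
  haveI : Mono F := (Over.pullback g).map_mono f
  let u : Red.bc g T ≅ sp R B := (Grp.forget _).mapIso e
  let u' : Red.bc g T' ≅ sp R A := (Grp.forget _).mapIso e'
  haveI : IsMonHom u.inv := e.inv.hom.isMonHom_hom
  haveI : IsMonHom u'.hom := e'.hom.hom.isMonHom_hom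
  let J : sp R B ⟶ sp R A := u.inv ≫ F ≫ u'.hom
  obtain ⟨φ, hφ⟩ := exists_bialgHom J
  suffices hb : Function.Bijective φ by
    haveI : IsIso J.left := by
      rw [hφ]
      haveI : IsIso (CommRingCat.ofHom (φ : A →+* B)) := (ConcreteCategory.isIso_iff_bijective _).mpr hb
      exact (Scheme.Spec.mapIso (asIso (CommRingCat.ofHom (φ : A →+* B))).op).isIso_hom
    haveI : IsIso u.inv.left := ((Over.forget _).mapIso u).isIso_inv
    haveI : IsIso u'.hom.left := ((Over.forget _).mapIso u').isIso_hom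
    have hJ : F.left = u.hom.left ≫ J.left ≫ u'.inv.left := by
      rw [← Over.comp_left, ← Over.comp_left]
      exact congrArg CommaMorphism.left (by simp [J])
    haveI : IsIso u.hom.left := ((Over.forget _).mapIso u).isIso_hom
    haveI : IsIso u'.inv.left := ((Over.forget _).mapIso u').isIso_inv
    show IsIso F.left
    rw [hJ]
    infer_instance
  obtain ⟨hftB, hmB⟩ := SchemeLocal.isMultType_of_bc T (hTm hT) g e
  obtain ⟨hftA, hmA⟩ := SchemeLocal.isMultType_of_bc T' (hTm hT') g e'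
  have hmono : ∀ (X : Type u) [CommRing X] [Algebra R X],
      Function.Injective (fun x : B →ₐ[R] X => x.comp (φ : A →ₐ[R] B)) := by
    intro X _ _ x y hxy
    let ox : ∀ _ : B →ₐ[R] X, Over.mk (str R X) ⟶ sp R B := fun x =>
      Over.homMk (Spec.map (CommRingCat.ofHom x.toRingHom)) (by
        show Spec.map _ ≫ Spec.map _ = Spec.map _
        rw [← Spec.map_comp, ← CommRingCat.ofHom_comp]
        congr
        exact x.comp_algebraMap)
    have h1 : ox x ≫ J = ox y ≫ J := by
      refine Over.OverMorphism.ext ?_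
      show Spec.map _ ≫ J.left = Spec.map _ ≫ J.left
      rw [hφ]
      refine ((Spec.map_comp _ _).symm.trans ?_).trans (Spec.map_comp _ _)
      exact congrArg (fun z => Spec.map (CommRingCat.ofHom z)) (congrArg AlgHom.toRingHom hxy)
    have h2 := congrArg CommaMorphism.left ((cancel_mono J).mp h1)
    exact AlgHom.coe_ringHom_injective (congrArg CommRingCat.Hom.hom (Spec.map_injective h2))
  have hsurj := surjective_of_mono hmB φ hmono
  refine ⟨injective_of_covers (φ : A →ₐ[R] B) fun p => ?_, hsurj⟩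
  obtain ⟨ι₁, _, T₁, _, _, hf₁, hc₁, hd₁⟩ := hasCover_of_isMultType hmA
  obtain ⟨ι₂, _, T₂, _, _, hf₂, hc₂, hd₂⟩ := hasCover_of_isMultType hmB
  obtain ⟨i, q₁, hq₁⟩ := hc₁ p
  obtain ⟨j, q₂, hq₂⟩ := hc₂ p
  obtain ⟨M, _, ⟨d₁⟩⟩ := hd₁ i
  obtain ⟨N, _, ⟨d₂⟩⟩ := hd₂ j
  haveI := hf₁ i
  haveI := hf₂ j
  let K := AlgebraicClosure (S.residueField (g.base p))
  have ht : ∀ x, (Red.geomPt (g.base p)).base x = g.base p := fun x => by
    show (S.fromSpecResidueField (g.base p)).base _ = g.base p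
    exact Scheme.fromSpecResidueField_apply ..
  obtain ⟨r, ⟨c₁⟩, ⟨c₂⟩⟩ := hrk (g.base p)
  obtain ⟨aB, hkB, ⟨iB⟩⟩ := S16783.exists_point_algebra T g e p K (Red.geomPt (g.base p)) ht
  obtain ⟨d⟩ := nonempty_DS K (Fin r → ℤ)
  obtain ⟨aA, hkA, ⟨iA⟩⟩ := S16783.exists_point_algebra T' g e' p K (Red.geomPt (g.base p)) ht
  letI := aA
  obtain ⟨eA⟩ := nonempty_bialgEquiv (iA.symm ≪≫ c₂ ≪≫ d)
  let eA' := eA.trans (MonoidAlgebra.domCongrBialgEquiv (R := K) (A := K) MulEquiv.ulift.{0, u}.symm)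
  letI := aB
  obtain ⟨eB⟩ := nonempty_bialgEquiv (iB.symm ≪≫ c₁ ≪≫ d)
  have hb : ∀ a : Algebra R K, RingHom.ker (@algebraMap R K _ _ a) = p.asIdeal →
      (⊥ : PrimeSpectrum K).comap (@algebraMap R K _ _ a) = p := fun a ha => PrimeSpectrum.ext ha
  obtain ⟨m₂⟩ := @nonempty_mulEquiv_of_over R _ B _ _ (T₂ j) K _ _ _ aB _ _ _ _ d₂ (eB.trans (MonoidAlgebra.domCongrBialgEquiv (R := K) (A := K) MulEquiv.ulift.{0, u}.symm)) q₂ ⊥ (hq₂.trans (hb aB hkB).symm)
  obtain ⟨m₁⟩ := @nonempty_mulEquiv_of_over R _ A _ _ (T₁ i) K _ _ _ aA _ _ _ _ d₁ eA' q₁ ⊥ (hq₁.trans (hb aA hkA).symm)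
  let P := T₁ i ⊗[R] T₂ j
  let : Algebra (T₂ j) P := Algebra.TensorProduct.rightAlgebra
  haveI : IsScalarTower R (T₂ j) P := .of_algebraMap_eq fun x =>
    ((Algebra.TensorProduct.includeRight : T₂ j →ₐ[R] P).commutes x).symm
  refine ⟨P, inferInstance, inferInstance, inferInstance, ?_, ?_⟩
  · obtain ⟨z, hz, -⟩ := Scheme.Pullback.exists_preimage_pullback (f := str R (T₁ i)) (g := str R (T₂ j)) q₁ q₂
      (hq₁.trans hq₂.symm)
    refine ⟨(pullbackSpecIso R (T₁ i) (T₂ j)).hom.base z, ?_⟩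
    show (str R P).base _ = p
    rw [show str R P = Spec.map (CommRingCat.ofHom (Algebra.TensorProduct.includeLeftRingHom : T₁ i →+* P)) ≫
      str R (T₁ i) from by
        show _ = Spec.map _ ≫ Spec.map _
        rw [← Spec.map_comp]
        rfl, ← Scheme.Hom.comp_apply, pullbackSpecIso_hom_fst_assoc, Scheme.Hom.comp_apply, hz]
    exact hq₁
  haveI : Algebra.FinitePresentation R A := by
    haveI := SGA3cLib.TrivLocus.locallyOfFinitePresentation_of_multTypeFT (sp R A) (SchemeBridge.multTypeFT_iff.mpr ⟨hftA, hmA⟩)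
    have h2 : LocallyOfFinitePresentation (Spec.map (CommRingCat.ofHom (algebraMap R A))) :=
      (inferInstance : LocallyOfFinitePresentation (sp R A).hom)
    rw [LocallyOfFinitePresentation.SpecMap_iff, CommRingCat.hom_ofHom, RingHom.finitePresentation_algebraMap] at h2
    exact h2
  let ψ : P ⊗[R] A →ₐc[P] P ⊗[R] B := Bialgebra.TensorProduct.map (BialgHom.id P P) φ
  have hψ : Function.Surjective ψ := by
    exact LinearMap.lTensor_surjective P hsurj
  let back : P ⊗[R] B ≃ₐc[P] P ⊗[R] A := ((bcTriv (R := R) (T' := P) d₂).trans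
    (MonoidAlgebra.domCongrBialgEquiv (R := P) (A := P) (m₂.trans m₁.symm))).trans (bcTriv (R := R) (T' := P) d₁).symm
  have h := S13096.result P (P ⊗[R] A) ((back.toAlgEquiv : P ⊗[R] B →ₐ[P] P ⊗[R] A).comp (ψ : P ⊗[R] A →ₐ[P] P ⊗[R] B))
    (back.toAlgEquiv.surjective.comp hψ)
  intro x y hxy
  exact h.injective (congrArg (fun z => back.toAlgEquiv z) (show (ψ : P ⊗[R] A →ₐ[P] P ⊗[R] B) x = (ψ : P ⊗[R] A →ₐ[P] P ⊗[R] B) y from hxy))

end Groth.Agent.S16611
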