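import Groth.Statements.S19792
import Groth.Agent.Cochar26.SplitData

set_option autoImplicit false
set_option linter.style.haveILetI false
set_option backward.isDefEq.respectTransparency.types false
open CategoryTheory MonoidalCategory CartesianMonoidalCategory MonObj GrpObj AlgebraicGeometry
universe u
open SGA3x

namespace Groth.Agent.S19792

/-- Let S be an arbitrary scheme and G an S-group of finite multiplicative type. The locally split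
subtori of G (subgroup monomorphisms T ⟶ G with T Zariski-locally on S isomorphic to split tori
D(ℤ^r)) form a directed family: any two of them, E₁ ⟶ G and E₂ ⟶ G, both factor through a third
locally split subtorus E₃ ⟶ G. -/
theorem result {S : Scheme.{u}} {G : Over S} [GrpObj G]
    (hG : SGA3x.IsMultTypeFT G) {E₁ E₂ : Over S} [GrpObj E₁] [GrpObj E₂]
    (j₁ : E₁ ⟶ G) [IsMonHom j₁] [Mono j₁] (j₂ : E₂ ⟶ G) [IsMonHom j₂] [Mono j₂]
    (h₁ : ∀ s : ↥S, ∃ U : S.Opens, s ∈ U ∧ ∃ r : ℕ, Red.IsSplitTorusWith (Fin r → ℤ) (Red.bc U.ι E₁))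
    (h₂ : ∀ s : ↥S, ∃ U : S.Opens, s ∈ U ∧ ∃ r : ℕ, Red.IsSplitTorusWith (Fin r → ℤ) (Red.bc U.ι E₂)) :
    ∃ (E₃ : Over S) (_ : GrpObj E₃) (j₃ : E₃ ⟶ G) (g₁ : E₁ ⟶ E₃) (g₂ : E₂ ⟶ E₃), IsMonHom j₃ ∧ Mono j₃ ∧
      (∀ s : ↥S, ∃ U : S.Opens, s ∈ U ∧ ∃ r : ℕ, Red.IsSplitTorusWith (Fin r → ℤ) (Red.bc U.ι E₃)) ∧
      g₁ ≫ j₃ = j₁ ∧ g₂ ≫ j₃ = j₂ := by
  have hc := fun X a b => IsoTriv.mul_comm_of_multTypeFT hG (X := X) a b
  haveI := IsoTriv.SchemeBridge.isAffineHom_of_multTypeFT G hG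
  let u : E₁ ⊗ E₂ ⟶ G := (fst E₁ E₂ ≫ j₁) * (snd E₁ E₂ ≫ j₂)
  haveI : IsMonHom u := Cochar26.isMonHom_mul hc _ _
  have hs : ∀ s : S, ∃ W : S.Opens, s ∈ W ∧ Cochar26.ImageDatum u W := fun s => by
    obtain ⟨U, hsU, r, hU⟩ := Cochar26.exists_split_prod h₁ h₂ s
    exact Cochar26.exists_datum hG u hU s hsU
  obtain ⟨Q, gQ, n, hn, hnc, ⟨g, hg⟩, hloc⟩ := Cochar26.exists_image (Cochar26.exists_hloc hs)
  haveI := hnc
  refine ⟨Q, gQ, n, lift (𝟙 E₁) 1 ≫ g, lift 1 (𝟙 E₂) ≫ g, hn, Over.mono_of_mono_left _, fun s => ?_, ?_, ?_⟩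
  · obtain ⟨W, hsW, r, Q₀, _, p, j, hj, hjc, hp, hpj, ⟨d⟩⟩ := hs s
    haveI := hj
    obtain ⟨e⟩ := hloc W Q₀ p j hjc hp hpj
    exact ⟨W, hsW, r, ⟨e ≪≫ d⟩⟩
  · rw [Category.assoc, hg, MonObj.comp_mul, lift_fst_assoc, lift_snd_assoc, Category.id_comp, MonObj.one_comp,
      _root_.mul_one]
  · rw [Category.assoc, hg, MonObj.comp_mul, lift_fst_assoc, lift_snd_assoc, Category.id_comp, MonObj.one_comp,
      _root_.one_mul]

end Groth.Agent.S19792
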