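import Groth.Statements.S16613
import Groth.Agent.S19792
import Groth.Agent.Cochar26.Rank
import Groth.Agent.Cochar26.SplitData
import Groth.Agent.Cochar26.LocalRank

set_option autoImplicit false
set_option linter.style.haveILetI false
set_option backward.isDefEq.respectTransparency.types false
open CategoryTheory MonoidalCategory CartesianMonoidalCategory MonObj GrpObj AlgebraicGeometry
universe u
open SGA3x

namespace Groth.Agent.S16613

/-- Let S be a connected scheme and G an S-group of finite multiplicative type. Then G admits a unique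
maximal locally split subtorus (a monomorphism T ⟶ G with T Zariski-locally on S isomorphic to split
tori D(ℤ^r)); since locally split subtori form a directed family it is the greatest one: every
locally split subtorus of G factors through it. -/
theorem result {S : Scheme.{u}}
    [ConnectedSpace ↥S] {G : Over S} [GrpObj G] (hG : SGA3x.IsMultTypeFT G) :
    ∃ (T : Over S) (_ : GrpObj T) (j : T ⟶ G), IsMonHom j ∧ Mono j ∧
      (∀ s : ↥S, ∃ U : S.Opens, s ∈ U ∧ ∃ r : ℕ, Red.IsSplitTorusWith (Fin r → ℤ) (Red.bc U.ι T)) ∧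
      ∀ (T' : Over S) [GrpObj T'] (j' : T' ⟶ G) [IsMonHom j'] [Mono j'],
        (∀ s : ↥S, ∃ U : S.Opens, s ∈ U ∧ ∃ r : ℕ, Red.IsSplitTorusWith (Fin r → ℤ) (Red.bc U.ι T')) → ∃ g : T' ⟶ T, g ≫ j = j' := by
  classical
  obtain ⟨s₀⟩ := (inferInstance : Nonempty S)
  let P : ℕ → Prop := fun r => ∃ (E : Over S) (_ : GrpObj E) (j : E ⟶ G), IsMonHom j ∧ Mono j ∧
    (∀ s : ↥S, ∃ U : S.Opens, s ∈ U ∧ ∃ r : ℕ, Red.IsSplitTorusWith (Fin r → ℤ) (Red.bc U.ι E)) ∧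
    Cochar26.HasRank E r s₀
  obtain ⟨r₀, hr₀⟩ : ∃ r₀, ∀ r, P r → r ≤ r₀ := Cochar26.exists_rank_bound hG s₀
  have h0 : P 0 := by
    refine ⟨Red.DS S (Fin 0 → ℤ), inferInstance, 1, Cochar26.isMonHom_one', ⟨fun a b _ => Cochar26.ds_ext fun m => by
      rw [Subsingleton.elim m 0, ofAdd_zero, map_one, map_one]⟩, fun s => ?_, Cochar26.hasRank_DS 0 s₀⟩
    obtain ⟨U, hs, h⟩ := Cochar26.hasRank_DS 0 s
    exact ⟨U, hs, 0, h⟩
  let r := Nat.findGreatest P r₀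
  obtain ⟨T, gT, j, hj, hjm, hT, hTr⟩ : P r := Nat.findGreatest_spec (Nat.zero_le _) h0
  haveI := hj
  haveI := hjm
  refine ⟨T, gT, j, hj, hjm, hT, fun T' _ j' _ _ hT' => ?_⟩
  obtain ⟨E₃, gE₃, j₃, g₁, g₂, hj₃, hm₃, hs₃, h₁, h₂⟩ := Groth.Agent.S19792.result hG j j' hT hT'
  haveI := hj₃
  haveI := hm₃
  haveI : IsIso g₁ := by
    haveI : Mono (g₁ ≫ j₃) := by rw [h₁]; infer_instance
    haveI : Mono g₁ := mono_of_mono g₁ j₃
    haveI : IsMonHom g₁ := SGA3cLib.BCPoints.isMonHom_of_mul g₁ fun X x y => by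
      rw [← cancel_mono j₃, Category.assoc, h₁, MonObj.mul_comp x y j, MonObj.mul_comp _ _ j₃, Category.assoc,
        Category.assoc, h₁]
    obtain ⟨U, hU, r₃, hr₃⟩ := hs₃ s₀
    have hle : r₃ ≤ r := Nat.le_findGreatest (hr₀ r₃ ⟨E₃, gE₃, j₃, hj₃, hm₃, hs₃, U, hU, hr₃⟩)
      ⟨E₃, gE₃, j₃, hj₃, hm₃, hs₃, U, hU, hr₃⟩
    obtain rfl : r₃ = r := le_antisymm hle (Cochar26.HasRank.le_of_mono g₁ hTr ⟨U, hU, hr₃⟩)
    exact Cochar26.isIso_of_mono_rank g₁ (Cochar26.HasRank.all hT hTr) (Cochar26.HasRank.all hs₃ ⟨U, hU, hr₃⟩)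
  exact ⟨g₂ ≫ inv g₁, by rw [Category.assoc, show inv g₁ ≫ j = j₃ by rw [IsIso.inv_comp_eq, h₁], h₂]⟩

end Groth.Agent.S16613
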