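import Groth.Statements.S16614
import Groth.Agent.Cochar26.Lattice
import Groth.Agent.Cochar26.Rank
import Groth.Agent.SGA3cLib.CentralDescent

set_option autoImplicit false
set_option linter.style.haveILetI false
set_option backward.isDefEq.respectTransparency.types false
open CategoryTheory MonoidalCategory CartesianMonoidalCategory MonObj GrpObj AlgebraicGeometry
universe u
open SGA3x

namespace Groth.Agent.S16614

/-- Over an arbitrary scheme S, an S-group G of finite multiplicative type admits a maximal split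
subtorus: a monomorphism T ⟶ G from a split torus T ≅ D_S(ℤ^r) which is maximal among split subtori
(if T factors through a split subtorus T' ⟶ G then the factoring morphism is an isomorphism). -/
theorem result {S : Scheme.{u}} {G : Over S} [GrpObj G]
    (hG : SGA3x.IsMultTypeFT G) :
    ∃ (T : Over S) (_ : GrpObj T) (j : T ⟶ G) (r : ℕ), IsMonHom j ∧ Mono j ∧ Red.IsSplitTorusWith (Fin r → ℤ) T ∧
      ∀ (T' : Over S) [GrpObj T'] (j' : T' ⟶ G) [IsMonHom j'] [Mono j'] (r' : ℕ) (g : T ⟶ T'),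
        Red.IsSplitTorusWith (Fin r' → ℤ) T' → g ≫ j' = j → IsIso g := by
  classical
  have hc := fun X a b => IsoTriv.mul_comm_of_multTypeFT hG (X := X) a b
  let P : ℕ → Prop := fun r => ∃ j : Red.DS S (Fin r → ℤ) ⟶ G, IsMonHom j ∧ Mono j
  have h0 : P 0 := ⟨1, Cochar26.isMonHom_one', ⟨fun a b _ => Cochar26.ds_ext fun m => by
    rw [Subsingleton.elim m 0, ofAdd_zero, map_one, map_one]⟩⟩
  rcases isEmpty_or_nonempty S with hS | hS
  · obtain ⟨j, hj, hjm⟩ := h0
    refine ⟨_, inferInstance, j, 0, hj, hjm, ⟨Iso.refl _⟩, fun T' _ j' _ _ r' g _ _ => ?_⟩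
    haveI : IsEmpty T'.left := ⟨fun x => hS.false (T'.hom x)⟩
    haveI : IsEmpty (Red.DS S (Fin 0 → ℤ)).left := ⟨fun x => hS.false ((Red.DS S (Fin 0 → ℤ)).hom x)⟩
    haveI : IsIso ((Over.forget S).map g) := isIso_of_isEmpty g.left
    exact isIso_of_reflects_iso g (Over.forget S)
  obtain ⟨s⟩ := hS
  let ω := S.fromSpecResidueField s
  obtain ⟨r₀, j₀, hj₀, hj₀m, hu⟩ := Cochar26.exists_greatest (SGA3cLib.CentralDescent.isMultTypeFT_bc ω G hG)
  have hbound : ∀ r, P r → r ≤ r₀ := by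
    rintro r ⟨j, hj, hjm⟩
    haveI := hj
    haveI := hjm
    obtain ⟨c, hcm, -⟩ := SGA3cLib.CentralEq.exists_bc_DS ω
    haveI := hcm (Fin r → ℤ)
    haveI : Mono ((Over.pullback ω).map j) := Functor.map_mono _ _
    haveI : IsMonHom ((c (Fin r → ℤ)).inv) := inferInstance
    obtain ⟨g, hgm, hg⟩ := hu r ((c (Fin r → ℤ)).inv ≫ (Over.pullback ω).map j)
    haveI := hgm
    haveI : Mono (g ≫ j₀) := by rw [hg]; infer_instance
    haveI : Mono g := mono_of_mono g j₀
    exact Cochar26.rank_le_of_mono g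
  let r := Nat.findGreatest P r₀
  obtain ⟨j, hj, hjm⟩ : P r := Nat.findGreatest_spec (Nat.zero_le _) h0
  haveI := hjm
  refine ⟨Red.DS S (Fin r → ℤ), inferInstance, j, r, hj, hjm, ⟨Iso.refl _⟩, fun T' _ j' _ _ r' g hT' hg => ?_⟩
  obtain ⟨e'⟩ := hT'
  let e : T' ≅ Red.DS S (Fin r' → ℤ) := (Grp.forget _).mapIso e'
  haveI : IsMonHom e.inv := e'.inv.hom.isMonHom_hom
  haveI : IsMonHom e.hom := e'.hom.hom.isMonHom_hom
  have hr' : r' ≤ r := Nat.le_findGreatest (hbound r' ⟨e.inv ≫ j', inferInstance, inferInstance⟩)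
    ⟨e.inv ≫ j', inferInstance, inferInstance⟩
  haveI : Mono (g ≫ j') := by rw [hg]; infer_instance
  haveI : Mono g := mono_of_mono g j'
  haveI : IsMonHom g := SGA3cLib.BCPoints.isMonHom_of_mul g fun X x y => by
    haveI := hj
    rw [← cancel_mono j', Category.assoc, hg, MonObj.mul_comp x y j, MonObj.mul_comp _ _ j', Category.assoc,
      Category.assoc, hg]
  haveI : Nonempty S := ⟨s⟩
  let g' : Red.DS S (Fin r → ℤ) ⟶ Red.DS S (Fin r' → ℤ) := g ≫ e.hom
  haveI : IsMonHom g' := inferInstance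
  obtain rfl : r' = r := le_antisymm hr' (Cochar26.rank_le_of_mono g')
  haveI := Cochar26.isIso_of_mono g'
  rw [show g = g' ≫ e.inv by simp [g']]
  infer_instance

end Groth.Agent.S16614
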