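import Groth.Statements.S16617
import Groth.Agent.Cochar26.QuotTorus

set_option autoImplicit false
set_option linter.style.haveILetI false
set_option backward.isDefEq.respectTransparency.types false
open CategoryTheory MonoidalCategory CartesianMonoidalCategory MonObj GrpObj AlgebraicGeometry
universe u
open SGA3x

namespace Groth.Agent.S16617

/-- Let S be a connected scheme, T ≅ D_S(ℤ^r) a split S-torus, H a subgroup scheme of T of (finite)
multiplicative type and q : T ⟶ Q a homomorphism presenting Q as the fppf quotient T/H. Then Q is a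
split torus of rank at most r. -/
theorem result {S : Scheme.{u}} [ConnectedSpace ↥S]
    {T H Q : Over S} [GrpObj T] [GrpObj H] [GrpObj Q] (r : ℕ) (hT : Red.IsSplitTorusWith (Fin r → ℤ) T)
    (i : H ⟶ T) [IsMonHom i] [Mono i] (hH : SGA3x.IsMultTypeFT H) (q : T ⟶ Q) [IsMonHom q]
    (hq : RedSub.IsQuotient i q) : ∃ r' : ℕ, r' ≤ r ∧ Red.IsSplitTorusWith (Fin r' → ℤ) Q := by
  obtain ⟨e₀⟩ := hT
  let e : T ≅ Red.DS S (Fin r → ℤ) := (Grp.forget _).mapIso e₀
  haveI : IsMonHom e.inv := e₀.inv.hom.isMonHom_hom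
  haveI : IsMonHom e.hom := e₀.hom.hom.isMonHom_hom
  have hiff := fun (X : Over S) (a b : X ⟶ Red.DS S (Fin r → ℤ)) =>
    Cochar26.conj_hiff e i q (fun X a b => RedQuotLib.comp_eq_iff hq a b) X a b
  obtain ⟨s⟩ := (inferInstance : Nonempty S)
  obtain ⟨U, L, hsU, hUc, hL⟩ := Cochar26.exists_local_kernel hH (i ≫ e.hom) s
  obtain ⟨d⟩ := Cochar26.exists_iso_DS L (e.inv ≫ q)
    ((RedQuotLib.IsFppfCov.of_isIso e.inv).comp (RedQuotLib.IsFppfCov.of_isQuotient hq))
    (fun X a b => Cochar26.iff_of_points (Red.DSmap S L.subtype) (hiff X)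
      (fun x => hL X (fun y => Cochar26.mem_of_connected hUc hsU _) x) a b)
  obtain ⟨r', hr', ⟨d'⟩⟩ := Cochar26.exists_split_DS S L
  exact ⟨r', hr', ⟨d ≪≫ d'⟩⟩

end Groth.Agent.S16617
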