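import Groth.Statements.S16618
import Groth.Agent.AGFQuot23.NormBorel
import Groth.Agent.AGFQuot23.Borel
import Groth.Agent.CommAlg4.SmoothMono
import Groth.Agent.Unram17Lib.RelDim

set_option linter.all false
set_option backward.isDefEq.respectTransparency.types false

set_option autoImplicit false
open CategoryTheory MonoidalCategory CartesianMonoidalCategory MonObj GrpObj AlgebraicGeometry
universe u
open Par

namespace Groth.Agent.S16618

open CategoryTheory.Limits MonoidalCategory CartesianMonoidalCategory MonObj Topology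

theorem localDim_le_of_isInducing {A B : Type u} [TopologicalSpace A] [TopologicalSpace B] {e : A → B}
    (he : IsInducing e) (a : A) : FlatMor.localDim A a ≤ FlatMor.localDim B (e a) := by
  refine le_iInf fun U => ?_
  refine iInf_le_of_le ⟨⟨e ⁻¹' (U.1 : Set B), U.1.2.preimage he.continuous⟩, U.2⟩ ?_
  exact (show IsInducing (Set.restrictPreimage (U.1 : Set B) e) from he.restrictPreimage _).topologicalKrullDim_le

theorem fibreDimAt_le_of_isClosedImmersion {X Y S : Scheme.{u}} (f : X ⟶ Y) [IsClosedImmersion f] (g : Y ⟶ S)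
    (h : X ⟶ S) (hfg : f ≫ g = h) (x : X) : FlatMor.fibreDimAt h x ≤ FlatMor.fibreDimAt g (f x) := by
  subst hfg
  let e₀ : ↥((f ≫ g).base ⁻¹' {g (f x)}) → ↥(g.base ⁻¹' {g (f x)}) := fun z => ⟨f z.1, z.2⟩
  have he₀ : IsInducing e₀ :=
    (f.isClosedEmbedding.isInducing.comp IsInducing.subtypeVal).codRestrict
      (s := g.base ⁻¹' {g (f x)}) fun z => z.2
  have he : IsInducing ((g.fiberHomeo (g (f x))).symm ∘ e₀ ∘ (f ≫ g).fiberHomeo (g (f x))) :=
    (g.fiberHomeo _).symm.isInducing.comp (he₀.comp ((f ≫ g).fiberHomeo _).isInducing)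
  have hx : ((f ≫ g).fiberHomeo (g (f x))) ((f ≫ g).asFiber x) = ⟨x, rfl⟩ :=
    Homeomorph.apply_symm_apply _ _
  have := localDim_le_of_isInducing he ((f ≫ g).asFiber x)
  simp only [Function.comp_apply, hx] at this
  exact this

theorem isLocallyConstant_fibreDimAt {X Y : Scheme.{u}} (f : X ⟶ Y) [Smooth f] :
    IsLocallyConstant fun x : X => FlatMor.fibreDimAt f x := by
  refine (IsLocallyConstant.iff_exists_open _).2 fun x => ?_
  obtain ⟨V, n, hxV, hn⟩ := Unram17Lib.exists_smoothOfRelativeDimension f x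
  refine ⟨V, V.2, hxV, fun y hy => ?_⟩
  have h : ∀ z : V.toScheme, FlatMor.fibreDimAt f (V.ι z) = (n : WithBot ℕ∞) := fun z => by
    rw [Unram17Lib.fibreDimAt_eq_of_openImmersion V.ι (𝟙 Y) (Category.comp_id (V.ι ≫ f)).symm z,
      Unram17Lib.fibreDimAt_of_smoothOfRelativeDimension (V.ι ≫ f) n]
  exact (h ⟨y, hy⟩).trans (h ⟨x, hxV⟩).symm

theorem isConnected_fibre {S : Scheme.{u}} {G P : Over S} [GrpObj G] [GrpObj P] (hG : Red.IsReductive G)
    (p : P ⟶ G) (hP : Red.IsParabolic p) (s : S) : _root_.IsConnected (P.hom.base ⁻¹' {s}) := by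
  haveI := hG.1
  haveI := hG.2.1
  haveI : IsAffine (Red.geomFibre s G).left := inferInstanceAs (IsAffine (pullback G.hom (Red.geomPt s)))
  haveI : Smooth (Red.geomFibre s G).hom :=
    MorphismProperty.pullback_snd (P := @Smooth) G.hom (Red.geomPt s) inferInstance
  haveI : ConnectedSpace (Red.geomFibre s G).left := (hG.2.2 s).2.2.1
  haveI : ConnectedSpace ↥(pullback P.hom (Red.geomPt s)) := AGFQuot23.connectedSpace_of_isParabolicOver (hP.2.2.2 s)
  let q := Spec.map (CommRingCat.ofHom (algebraMap (S.residueField s) (AlgebraicClosure (S.residueField s))))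
  haveI : Surjective q := ⟨fun y => ⟨IsLocalRing.closedPoint _, Subsingleton.elim (α := PrimeSpectrum _) _ _⟩⟩
  let m : pullback P.hom (Red.geomPt s) ⟶ pullback P.hom (S.fromSpecResidueField s) :=
    pullback.lift (pullback.fst _ _) (pullback.snd _ _ ≫ q) (by rw [Category.assoc]; exact pullback.condition)
  have hm : IsPullback m (pullback.snd _ _) (pullback.snd P.hom (S.fromSpecResidueField s)) q := by
    refine IsPullback.of_right ?_ (pullback.lift_snd _ _ _) (IsPullback.of_hasPullback P.hom (S.fromSpecResidueField s))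
    rw [pullback.lift_fst]
    exact IsPullback.of_hasPullback P.hom (Red.geomPt s)
  haveI : Surjective m := MorphismProperty.of_isPullback hm.flip ‹Surjective q›
  haveI : ConnectedSpace ↥(P.hom.fiber s) := m.surjective.connectedSpace m.continuous
  rw [← P.hom.range_fiberι s]
  exact isConnected_range (P.hom.fiberι s).continuous

theorem isParabolic_id {S : Scheme.{u}} {G : Over S} [GrpObj G] (hG : Red.IsReductive G) :
    Red.IsParabolic (𝟙 G) := by
  haveI := hG.1
  refine ⟨inferInstance, inferInstanceAs (IsClosedImmersion (𝟙 G.left)), hG.2.1, fun s => ?_⟩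
  haveI := hG.2.1
  haveI : IsAffine (Red.geomFibre s G).left := inferInstanceAs (IsAffine (pullback G.hom (Red.geomPt s)))
  haveI : Smooth (Red.geomFibre s G).hom :=
    MorphismProperty.pullback_snd (P := @Smooth) G.hom (Red.geomPt s) inferInstance
  obtain ⟨B, _, i, hi⟩ := AGFQuot23.exists_isBorelOver _ (Red.geomFibre s G)
  rw [CategoryTheory.Functor.map_id]
  exact ⟨inferInstance, inferInstanceAs (IsClosedImmersion (𝟙 _)), ‹Smooth (Red.geomFibre s G).hom›,
    B, inferInstance, i, by rw [Category.comp_id]; exact hi⟩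

/-- The (constant) relative dimension of a parabolic subgroup. -/
theorem exists_dim {S : Scheme.{u}} [ConnectedSpace ↥S] {G P : Over S} [GrpObj G] [GrpObj P] (hG : Red.IsReductive G)
    (p : P ⟶ G) (hP : Red.IsParabolic p) :
    ∃ n : ℕ, ∀ x : P.left, FlatMor.fibreDimAt P.hom x = (n : WithBot ℕ∞) := by
  haveI := hP.2.2.1
  have hlc := isLocallyConstant_fibreDimAt P.hom
  let e : S → P.left := fun s => (η[P]).left s
  have he : Continuous e := (η[P]).left.continuous
  have hes : ∀ s : S, P.hom (e s) = s := fun s => by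
    show P.hom ((η[P]).left s) = s
    rw [← Scheme.Hom.comp_apply, Over.w (η[P])]
    rfl
  obtain ⟨s₀⟩ := (inferInstance : Nonempty S)
  obtain ⟨V, n, hV, hn⟩ := Unram17Lib.exists_smoothOfRelativeDimension P.hom (e s₀)
  refine ⟨n, fun x => ?_⟩
  have h₀ : FlatMor.fibreDimAt P.hom (e s₀) = (n : WithBot ℕ∞) := by
    have := Unram17Lib.fibreDimAt_eq_of_openImmersion V.ι (𝟙 S) (Category.comp_id (V.ι ≫ P.hom)).symm
      (⟨e s₀, hV⟩ : V.toScheme)
    rw [Unram17Lib.fibreDimAt_of_smoothOfRelativeDimension (V.ι ≫ P.hom) n] at this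
    exact this
  rw [← h₀]
  refine Eq.trans ?_ ((hlc.comp_continuous he).apply_eq_of_preconnectedSpace (P.hom x) s₀)
  exact hlc.apply_eq_of_isPreconnected (isConnected_fibre hG p hP (P.hom x)).isPreconnected rfl (hes (P.hom x))


/-- A reductive group scheme G over a connected scheme S admits a minimal parabolic subgroup P (every
parabolic subgroup of G contained in P is equal to P). -/
theorem result {S : Scheme.{u}} [ConnectedSpace ↥S] {G : Over S} [GrpObj G]
    (hG : Red.IsReductive G) :
    ∃ (P : Over S) (_ : GrpObj P) (p : P ⟶ G), Red.IsParabolic p ∧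
      ∀ (P₁ : Over S) [GrpObj P₁] (p₁ : P₁ ⟶ G) (f : P₁ ⟶ P), Red.IsParabolic p₁ → f ≫ p = p₁ → IsIso f := by
  classical
  obtain ⟨s₀⟩ := (inferInstance : Nonempty S)
  let Q : ℕ → Prop := fun n => ∃ (P : Over S) (_ : GrpObj P) (p : P ⟶ G), Red.IsParabolic p ∧
    ∀ x : P.left, FlatMor.fibreDimAt P.hom x = (n : WithBot ℕ∞)
  have hQ : ∃ n, Q n := by
    obtain ⟨n, hn⟩ := exists_dim hG (𝟙 G) (isParabolic_id hG)
    exact ⟨n, G, inferInstance, 𝟙 G, isParabolic_id hG, hn⟩
  obtain ⟨P, _, p, hp, hdim⟩ := Nat.find_spec hQ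
  refine ⟨P, inferInstance, p, hp, ?_⟩
  intro P₁ _ p₁ f hp₁ hf
  obtain ⟨n₁, hn₁⟩ := exists_dim hG p₁ hp₁
  haveI := hp.1
  haveI := hp₁.1
  haveI := hp.2.1
  haveI := hp₁.2.1
  haveI := hp.2.2.1
  haveI := hp₁.2.2.1
  haveI : Mono p := Over.mono_of_mono_left p
  haveI : IsClosedImmersion (f.left ≫ p.left) := by rw [← Over.comp_left, hf]; infer_instance
  haveI : IsClosedImmersion f.left := IsClosedImmersion.of_comp f.left p.left
  haveI : Smooth (f.left ≫ P.hom) := by rw [Over.w f]; infer_instance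
  let e₁ : S → P₁.left := fun s => (η[P₁]).left s
  have hle : n₁ ≤ Nat.find hQ := by
    have h := fibreDimAt_le_of_isClosedImmersion f.left P.hom P₁.hom (Over.w f) (e₁ s₀)
    rw [hn₁, hdim] at h
    exact_mod_cast h
  have hn : n₁ = Nat.find hQ := le_antisymm hle (Nat.find_min' hQ ⟨P₁, inferInstance, p₁, hp₁, hn₁⟩)
  haveI : IsOpenImmersion f.left := CommAlg4.isOpenImmersion_of_mono_of_fibreDimAt P.hom f.left fun x => by
    rw [hdim, Over.w f, hn₁, hn]
  haveI : Surjective f.left := ⟨fun y => by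
    have hfe : ∀ s : S, P.hom (f.left (e₁ s)) = s := fun s => by
      show P.hom (f.left ((η[P₁]).left s)) = s
      rw [← Scheme.Hom.comp_apply, Over.w f, ← Scheme.Hom.comp_apply, Over.w (η[P₁])]
      rfl
    exact (isConnected_fibre hG p hp (P.hom y)).isPreconnected.subset_isClopen
      ⟨f.left.isClosedEmbedding.isClosed_range, f.left.isOpenEmbedding.isOpen_range⟩
      ⟨f.left (e₁ (P.hom y)), hfe _, Set.mem_range_self _⟩ (rfl : y ∈ P.hom.base ⁻¹' {P.hom y})⟩
  haveI : IsIso f.left := by
    haveI : Epi f.left.base := (TopCat.epi_iff_surjective _).2 f.left.surjective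
    exact IsOpenImmersion.isIso f.left
  haveI : IsIso ((Over.forget S).map f) := ‹IsIso f.left›
  exact isIso_of_reflects_iso f (Over.forget S)

end Groth.Agent.S16618
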