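import Groth.Statements.S16619
import Mathlib
import Groth.Agent.CSA.CornerAzumaya

set_option autoImplicit false
open scoped TensorProduct
universe u
open Brauer

namespace Groth.Agent.S16619

/-- Let R be a connected commutative ring. Then every class of the Brauer group of R is represented by
an Azumaya algebra B with idemp(B) = {0, 1}: for every Azumaya R-algebra A there are such a B and
faithfully projective R-modules P, Q with A ⊗_R End_R(P) ≅ B ⊗_R End_R(Q) as R-algebras. -/
theorem result {R : Type u} [CommRing R]
    [ConnectedSpace (PrimeSpectrum R)] (A : Type u) [Ring A] [Algebra R A] [IsAzumaya R A] :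
    ∃ (B : Type u) (_ : Ring B) (_ : Algebra R B) (_ : IsAzumaya R B) (P Q : Type u) (_ : AddCommGroup P)
      (_ : Module R P) (_ : AddCommGroup Q) (_ : Module R Q),
      (∀ b : B, IsIdempotentElem b → b = 0 ∨ b = 1) ∧ Module.Finite R P ∧ Module.Projective R P ∧
      FaithfulSMul R P ∧ Module.Finite R Q ∧ Module.Projective R Q ∧ FaithfulSMul R Q ∧
      Nonempty (A ⊗[R] Module.End R P ≃ₐ[R] B ⊗[R] Module.End R Q) := by
  classical
  open Groth.Agent.CSA in
    obtain ⟨p₀⟩ := (inferInstance : Nonempty (PrimeSpectrum R))
    haveI : Nontrivial R := nontrivial_of_ne (1 : R) 0 fun h =>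
      p₀.isPrime.ne_top ((Ideal.eq_top_iff_one _).mpr (h ▸ p₀.asIdeal.zero_mem))
    haveI : Nontrivial A := (FaithfulSMul.algebraMap_injective R A).nontrivial
    have hconst : ∀ (M : Type u) [AddCommGroup M] [Module R M] [Module.Finite R M] [Module.Projective R M],
        ∀ p : PrimeSpectrum R, Module.rankAtStalk (R := R) M p = Module.rankAtStalk (R := R) M p₀ := by
      intro M _ _ _ _ p
      haveI : Module.FinitePresentation R M := Module.finitePresentation_of_projective R M
      exact Module.isLocallyConstant_rankAtStalk.apply_eq_of_preconnectedSpace p p₀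
    have hfaith : ∀ (M : Type u) [AddCommGroup M] [Module R M] [Module.Finite R M] [Module.Projective R M]
        [Nontrivial M], FaithfulSMul R M := by
      intro M _ _ _ _ _
      have hpos : Module.rankAtStalk (R := R) M p₀ ≠ 0 := fun h0 => not_subsingleton M
        (Module.rankAtStalk_eq_zero_iff_subsingleton.mp (funext fun p => (hconst M p).trans h0))
      refine ⟨fun {a b} hab => sub_eq_zero.mp ?_⟩
      by_contra hne
      obtain ⟨m, hm, hle⟩ := Ideal.exists_le_maximal _ (show (⊥ : Ideal R).colon {a - b} ≠ ⊤ by
        rw [Ne, Ideal.eq_top_iff_one, Submodule.mem_colon_singleton, Submodule.mem_bot, one_smul]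
        exact hne)
      let S := Localization.AtPrime m
      haveI : Module.Free S (S ⊗[R] M) := Module.free_of_flat_of_isLocalRing
      have hrk : Module.finrank S (S ⊗[R] M) ≠ 0 := by
        rw [← Module.rankAtStalk_eq_finrank_tensorProduct (M := M) ⟨m, hm.isPrime⟩, hconst M]; exact hpos
      obtain ⟨i⟩ : Nonempty (Module.Free.ChooseBasisIndex S (S ⊗[R] M)) := by
        by_contra hemp
        rw [not_nonempty_iff] at hemp
        exact hrk (by rw [Module.finrank_eq_card_chooseBasisIndex, Fintype.card_eq_zero])
      have h0 : algebraMap R S (a - b) • Module.Free.chooseBasis S (S ⊗[R] M) i = 0 := by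
        rw [algebraMap_smul]
        generalize Module.Free.chooseBasis S (S ⊗[R] M) i = z
        induction z using TensorProduct.induction_on with
        | zero => rw [smul_zero]
        | add x y hx hy => rw [smul_add, hx, hy, add_zero]
        | tmul s x => rw [← TensorProduct.tmul_smul, sub_smul, hab, sub_self, TensorProduct.tmul_zero]
      have h1 := congrArg (fun z => (Module.Free.chooseBasis S (S ⊗[R] M)).repr z i) h0
      simp only [map_smul, map_zero, Finsupp.smul_apply, Module.Basis.repr_self, Finsupp.single_eq_same,
        Finsupp.zero_apply, smul_eq_mul, mul_one] at h1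
      obtain ⟨⟨t, ht⟩, hta⟩ := (IsLocalization.map_eq_zero_iff m.primeCompl S _).mp h1
      exact ht (hle (Submodule.mem_colon_singleton.mpr ((Submodule.mem_bot R).mpr hta)))
    let P : ℕ → Prop := fun n => ∃ e : A, IsIdempotentElem e ∧ e ≠ 0 ∧
      Module.rankAtStalk (R := R) (cornerSub R e) p₀ = n
    obtain ⟨e, he, he0, hrk⟩ : P (Nat.find (p := P) ⟨_, 1, IsIdempotentElem.one, one_ne_zero, rfl⟩) :=
      Nat.find_spec (p := P) _
    obtain ⟨_, _⟩ := finite_projective_corner (R := R) he
    obtain ⟨_, _⟩ := finite_projective_leftIdeal (R := R) he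
    haveI : Nontrivial (CornerAlg R he) := nontrivial_of_ne 1 0 fun h => he0 (by
      have := congrArg (CornerAlg.val (R := R) he) h
      rwa [CornerAlg.val_one, map_zero] at this)
    haveI : Nontrivial (leftIdeal R e) := nontrivial_of_ne ⟨e, (mem_leftIdeal he).mpr he.eq⟩ 0
      fun h => he0 (congrArg Subtype.val h)
    haveI := hfaith (CornerAlg R he)
    haveI := hfaith (leftIdeal R e)
    haveI hAz : IsAzumaya R (CornerAlg R he) := { bij := bijective_mulLeftRight_corner he }
    refine ⟨CornerAlg R he, inferInstance, inferInstance, hAz, CornerAlg R he, leftIdeal R e, inferInstance,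
      inferInstance, inferInstance, inferInstance, fun b hb => ?_, inferInstance, inferInstance, inferInstance,
      inferInstance, inferInstance, inferInstance, ?_⟩
    · by_contra hcon
      push Not at hcon
      set f := CornerAlg.val he b
      have hf : IsIdempotentElem f := by
        show f * f = f
        rw [← CornerAlg.val_mul, hb.eq]
      have hf0 : f ≠ 0 := fun h => hcon.1 (CornerAlg.val_injective he (h.trans (map_zero _).symm))
      obtain ⟨_, _⟩ := finite_projective_corner (R := R) hf
      -- `fAf` is a proper direct summand of `eAe`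
      let ι : CornerAlg R hf →ₗ[R] CornerAlg R he := LinearMap.codRestrict (cornerSub R e) (CornerAlg.val hf) fun x =>
        (mem_cornerSub he).mpr ⟨by
          rw [← CornerAlg.left_id hf x, ← mul_assoc, CornerAlg.left_id], by
          rw [← CornerAlg.right_id hf x, mul_assoc, CornerAlg.right_id]⟩
      have hι : ∀ x, CornerAlg.val he (ι x) = CornerAlg.val hf x := fun x => rfl
      let π : CornerAlg R he →ₗ[R] CornerAlg R hf := CornerAlg.proj hf ∘ₗ CornerAlg.val he
      have hπι : ∀ x, π (ι x) = x := fun x => CornerAlg.proj_val hf x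
      haveI : Module.Finite R (LinearMap.ker π) := Module.Finite.of_surjective
        ((LinearMap.id - ι ∘ₗ π).codRestrict (LinearMap.ker π) fun x => by
          simp [LinearMap.mem_ker, hπι]) fun x => ⟨x.1, Subtype.ext (by simp [LinearMap.mem_ker.mp x.2])⟩
      haveI : Module.Projective R (LinearMap.ker π) := Module.Projective.of_split (LinearMap.ker π).subtype
        ((LinearMap.id - ι ∘ₗ π).codRestrict (LinearMap.ker π) fun x => by
          simp [LinearMap.mem_ker, hπι]) (LinearMap.ext fun x => Subtype.ext (by simp [LinearMap.mem_ker.mp x.2]))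
      let E : CornerAlg R he ≃ₗ[R] CornerAlg R hf × LinearMap.ker π :=
        { toFun := fun x => (π x, ⟨x - ι (π x), by simp [LinearMap.mem_ker, hπι]⟩)
          map_add' := fun x y => Prod.ext (map_add π x y) (Subtype.ext (by simp; abel))
          map_smul' := fun r x => Prod.ext (map_smul π r x) (Subtype.ext (by simp [smul_sub]))
          invFun := fun x => ι x.1 + x.2.1
          left_inv := fun x => by simp
          right_inv := fun x => Prod.ext (by simp [hπι, LinearMap.mem_ker.mp x.2.2])
            (Subtype.ext (by simp [hπι, LinearMap.mem_ker.mp x.2.2])) }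
      have hsum := congrFun (Module.rankAtStalk_eq_of_equiv E) p₀
      rw [Module.rankAtStalk_prod] at hsum
      have hker : Module.rankAtStalk (R := R) (LinearMap.ker π) p₀ ≠ 0 := fun h0 => by
        have hsub : Subsingleton (LinearMap.ker π) :=
          Module.rankAtStalk_eq_zero_iff_subsingleton.mp (funext fun p => (hconst _ p).trans h0)
        refine hcon.2 ?_
        have h1 : ι (π 1) = 1 := by
          have := congrArg Subtype.val (hsub.elim ⟨1 - ι (π 1), by simp [LinearMap.mem_ker, hπι]⟩ 0)
          exact (sub_eq_zero.mp this).symm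
        refine CornerAlg.val_injective he ?_
        rw [← h1, hι]
        show f = CornerAlg.val hf (CornerAlg.proj hf (CornerAlg.val he 1))
        rw [CornerAlg.val_proj, CornerAlg.val_one, ← mul_assoc, mul_assoc, CornerAlg.left_id, hf.eq]
      have hlt : Module.rankAtStalk (R := R) (cornerSub R f) p₀ < Module.rankAtStalk (R := R) (cornerSub R e) p₀ := by
        show Module.rankAtStalk (R := R) (CornerAlg R hf) p₀ < Module.rankAtStalk (R := R) (CornerAlg R he) p₀
        rw [hsum, Pi.add_apply]
        omega
      rw [hrk] at hlt
      exact Nat.find_min (p := P) _ hlt ⟨f, hf, hf0, rfl⟩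
    · let E₀ : A ⊗[R] (CornerAlg R he)ᵐᵒᵖ ≃ₐ[R] Module.End R (leftIdeal R e) :=
        AlgEquiv.ofBijective _ (bijective_actLeftIdeal he)
      let E₁ : CornerAlg R he ⊗[R] (CornerAlg R he)ᵐᵒᵖ ≃ₐ[R] Module.End R (CornerAlg R he) :=
        AlgEquiv.ofBijective _ hAz.bij
      exact ⟨((Algebra.TensorProduct.congr AlgEquiv.refl
        (E₁.symm.trans (Algebra.TensorProduct.comm R _ _))).trans
        (Algebra.TensorProduct.assoc R R R A (CornerAlg R he)ᵐᵒᵖ (CornerAlg R he)).symm).trans
        ((Algebra.TensorProduct.congr E₀ AlgEquiv.refl).trans (Algebra.TensorProduct.comm R _ _))⟩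
end Groth.Agent.S16619
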