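import Groth.Statements.S16620
import Groth.Agent.Cochar26.OpenExt

set_option autoImplicit false
set_option linter.style.haveILetI false
set_option backward.isDefEq.respectTransparency.types false
open CategoryTheory MonoidalCategory CartesianMonoidalCategory MonObj GrpObj AlgebraicGeometry
universe u
open SGA3x

namespace Groth.Agent.S16620

/-- Let S be a connected, normal, locally Noetherian scheme, T an S-torus and T₀ ⟶ T its unique maximal
split subtorus, i.e. a split subtorus through which every split subtorus of T factors. Then every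
cocharacter λ : 𝔾_m ⟶ T over S factors through T₀; this is the equality X_*(T₀)(S) = X_*(T)(S) of
groups of cocharacters defined over S. -/
theorem result {S : Scheme.{u}} [ConnectedSpace ↥S]
    [IsLocallyNoetherian S] (hnorm : ∀ x : ↥S, IsDomain (S.presheaf.stalk x) ∧ IsIntegrallyClosed (S.presheaf.stalk x))
    {T T₀ : Over S} [GrpObj T] [GrpObj T₀] (hT : Red.IsTorus T) (j₀ : T₀ ⟶ T) [IsMonHom j₀] [Mono j₀] (r₀ : ℕ)
    (hT₀ : Red.IsSplitTorusWith (Fin r₀ → ℤ) T₀)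
    (hmax : ∀ (T' : Over S) [GrpObj T'] (j' : T' ⟶ T) [IsMonHom j'] [Mono j'] (r' : ℕ),
      Red.IsSplitTorusWith (Fin r' → ℤ) T' → ∃ g : T' ⟶ T₀, g ≫ j₀ = j')
    (lam : Red.Gm S ⟶ T) [IsMonHom lam] : ∃ mu : Red.Gm S ⟶ T₀, mu ≫ j₀ = lam := by
  have hTm := MultExt26.isMultTypeFT_of_torus T hT
  obtain ⟨r, j, hj, hjm, hu⟩ := Cochar26.exists_greatest hTm
  haveI := hj
  haveI := hjm
  obtain ⟨g₀, hg₀⟩ := hmax (Red.DS S (Fin r → ℤ)) j r ⟨Iso.refl _⟩
  let ψ : Red.DS S (Fin 1 → ℤ) ⟶ Red.Gm S := Red.DSmap S (AddMonoidHom.single (fun _ : Fin 1 => ℤ) 0)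
  let ψ' : Red.Gm S ⟶ Red.DS S (Fin 1 → ℤ) := Red.DSmap S (Pi.evalAddMonoidHom (fun _ : Fin 1 => ℤ) 0)
  have hψ : ψ' ≫ ψ = 𝟙 _ := by
    rw [Cochar26.DSmap_comp, show ((Pi.evalAddMonoidHom (fun _ : Fin 1 => ℤ) 0).comp
      (AddMonoidHom.single (fun _ : Fin 1 => ℤ) 0)) = AddMonoidHom.id ℤ from
        AddMonoidHom.ext fun x => by simp, Cochar26.DSmap_id]
  obtain ⟨g, -, hg⟩ := hu 1 (ψ ≫ lam)
  exact ⟨ψ' ≫ g ≫ g₀, by rw [Category.assoc, Category.assoc, hg₀, hg, ← Category.assoc, hψ, Category.id_comp]⟩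

end Groth.Agent.S16620
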