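import Groth.Statements.S16621
import Groth.Agent.Cochar26.OpenExt

set_option autoImplicit false
set_option linter.style.haveILetI false
set_option backward.isDefEq.respectTransparency.types false
open CategoryTheory MonoidalCategory CartesianMonoidalCategory MonObj GrpObj AlgebraicGeometry
universe u
open SGA3x

namespace Groth.Agent.S16621

/-- Let S be a connected, normal, locally Noetherian scheme, T an S-torus and T₀ ⟶ T its unique maximal
split subtorus (a split subtorus through which every split subtorus of T factors). Then T₀ is also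
the unique maximal locally split subtorus of T: every subtorus T₁ ⟶ T which is split Zariski-locally
on S factors through T₀. (Without normality this fails.) -/
theorem result {S : Scheme.{u}} [ConnectedSpace ↥S]
    [IsLocallyNoetherian S] (hnorm : ∀ x : ↥S, IsDomain (S.presheaf.stalk x) ∧ IsIntegrallyClosed (S.presheaf.stalk x))
    {T T₀ T₁ : Over S} [GrpObj T] [GrpObj T₀] [GrpObj T₁] (hT : Red.IsTorus T) (j₀ : T₀ ⟶ T) [IsMonHom j₀] [Mono j₀]
    (r₀ : ℕ) (hT₀ : Red.IsSplitTorusWith (Fin r₀ → ℤ) T₀)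
    (hmax : ∀ (T' : Over S) [GrpObj T'] (j' : T' ⟶ T) [IsMonHom j'] [Mono j'] (r' : ℕ),
      Red.IsSplitTorusWith (Fin r' → ℤ) T' → ∃ g : T' ⟶ T₀, g ≫ j₀ = j')
    (j₁ : T₁ ⟶ T) [IsMonHom j₁] [Mono j₁]
    (hT₁ : ∀ s : ↥S, ∃ U : S.Opens, s ∈ U ∧ ∃ r : ℕ, Red.IsSplitTorusWith (Fin r → ℤ) (Red.bc U.ι T₁)) :
    ∃ g : T₁ ⟶ T₀, g ≫ j₀ = j₁ := by
  classical
  have hTm := MultExt26.isMultTypeFT_of_torus T hT
  choose U hU r hr using hT₁
  have hex : ∀ x, ∃ g : Red.bc (U x).ι T₁ ⟶ Red.bc (U x).ι T₀,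
      g ≫ (Over.pullback (U x).ι).map j₀ = (Over.pullback (U x).ι).map j₁ := fun x =>
    Cochar26.factor_of_open hnorm hTm j₀ hmax (U x) (Red.bc (U x).ι T₁) ((Over.pullback (U x).ι).map j₁) (r x) (hr x)
  choose g hg using hex
  let 𝒰 := (S.openCoverOfIsOpenCover U (TopologicalSpace.IsOpenCover.mk
    (eq_top_iff.2 fun x _ => TopologicalSpace.Opens.mem_iSup.2 ⟨x, hU x⟩))).pullback₁ T₁.hom
  let w : ∀ x : S, Limits.pullback T₁.hom (U x).ι ⟶ T₀.left := fun x => (g x).left ≫ Limits.pullback.fst T₀.hom (U x).ι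
  have hw : ∀ x, w x ≫ j₀.left = Limits.pullback.fst T₁.hom (U x).ι ≫ j₁.left := fun x => by
    have h1 : ((Over.pullback (U x).ι).map j₀).left ≫ Limits.pullback.fst T.hom (U x).ι =
        Limits.pullback.fst T₀.hom (U x).ι ≫ j₀.left := Limits.pullback.lift_fst _ _ _
    have h2 : ((Over.pullback (U x).ι).map j₁).left ≫ Limits.pullback.fst T.hom (U x).ι =
        Limits.pullback.fst T₁.hom (U x).ι ≫ j₁.left := Limits.pullback.lift_fst _ _ _
    rw [Category.assoc, ← h1, ← Category.assoc, ← Over.comp_left, hg, h2]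
  haveI : Mono j₀.left := inferInstance
  let a : T₁.left ⟶ T₀.left := Scheme.Cover.glueMorphisms 𝒰 w fun x y => by
    rw [← cancel_mono j₀.left]
    refine (Category.assoc _ _ _).trans (((congrArg (Limits.pullback.fst _ _ ≫ ·) (hw x)).trans ?_).trans
      ((congrArg (Limits.pullback.snd _ _ ≫ ·) (hw y)).symm.trans (Category.assoc _ _ _).symm))
    exact Limits.pullback.condition_assoc _
  have ha : a ≫ j₀.left = j₁.left := Scheme.Cover.hom_ext 𝒰 _ _ fun x => by
    show 𝒰.f x ≫ a ≫ j₀.left = _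
    rw [← Category.assoc, Scheme.Cover.ι_glueMorphisms]
    exact hw x
  exact ⟨Over.homMk a (by rw [← Over.w j₀, reassoc_of% ha, Over.w j₁]), Over.OverMorphism.ext ha⟩

end Groth.Agent.S16621
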