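import Groth.Statements.S16624
import Groth.Agent.Quot8.FreeTwist
import Groth.Agent.Quot8.Assemble
-- import your own Groth.Agent.* helpers here

set_option autoImplicit false
set_option backward.isDefEq.respectTransparency.types false
universe u
open FGA

namespace Groth.Agent.S16624

open AlgebraicGeometry CategoryTheory in
/-- Let S be a Noetherian scheme, n and r natural numbers, l an integer, and E the module O^r ⊗ O(-l) on
projective n-space P^n_S over S. The Quot functor of E over S — sending a locally Noetherian
S-scheme T to the set of submodules K of E_T (the pullback of E to P^n_S ×_S T) whose quotient E_T/K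
is coherent and flat over T, with pullback of submodules as transition maps — is represented by an
S-scheme Q with a universal submodule, and Q is a disjoint union of S-schemes each admitting a
closed immersion over S into some projective space P^m_S. (The source states this for each fixed
Hilbert polynomial; the indexing of the pieces by Hilbert polynomials is not recorded here.) -/
theorem result (S : Scheme.{u}) [IsNoetherian S]
    (n r : ℕ) (l : ℤ) :
    ∃ (Q : Over S) (K : FGA.QuotSet (CohB1.ProjSpaceOver.toBase n S)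
        (CohB1.tensorMod (FlatMod.freeMod (CohB1.ProjSpaceOver n S) r) (Twist.twistOver n S (-l))) Q),
      FGA.QuotRepresentedBy (CohB1.ProjSpaceOver.toBase n S)
        (CohB1.tensorMod (FlatMod.freeMod (CohB1.ProjSpaceOver n S) r) (Twist.twistOver n S (-l))) Q K ∧
      ∃ (ι : Type u) (P : ι → Scheme.{u}) (e : (∐ P) ≅ Q.left) (m : ι → ℕ)
        (c : ∀ a, P a ⟶ CohB1.ProjSpaceOver (m a) S),
        ∀ a, IsClosedImmersion (c a) ∧
          c a ≫ CohB1.ProjSpaceOver.toBase (m a) S = Limits.Sigma.ι P a ≫ e.hom ≫ Q.hom := by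
  classical
  choose Z hZ KZ hKZ hc huniv using fun Ψ => Groth.Agent.Quot8.exists_quot_piece (S := S) n r l Ψ
  haveI : ∀ Ψ, IsLocallyNoetherian (Z Ψ).left := hZ
  let f := CohB1.ProjSpaceOver.toBase n S
  let E := Groth.Agent.Quot8.EF l S n r
  let χ : ∀ {T : Over S}, Subobject (FGA.ET f E T) → T.left → ℤ → ℤ := fun {T} K y d =>
    Groth.Agent.Quot8.chi (PicF.XTproj f T) (Groth.Agent.Quot8.hX n T) (Limits.cokernel K.arrow) y d
  obtain ⟨K₀, hK₀⟩ := Groth.Agent.Quot8.exists_quot_of_pieces (f := f) (E := E) χ
    (fun g K y d => Groth.Agent.Quot8.chi_cokernel_quotPull g K y d)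
    (fun {T} _ K y => (Groth.Agent.Quot8.exists_chi_poly K.2.1 (Groth.Agent.Quot8.isPn_hX T) y).imp fun _ h => h.2)
    (fun {T} _ K y => Groth.Agent.Quot8.exists_open_hasHP K.2.1 (Groth.Agent.Quot8.isPn_hX T) K.2.2 y)
    Z KZ hKZ huniv
  choose m c hc₁ hc₂ using hc
  refine ⟨_, K₀, hK₀, ULift.{u} (Polynomial ℚ), fun i => (Z i.down).left, Iso.refl _, fun i => m i.down,
    fun i => c i.down, fun i => ⟨hc₁ _, ?_⟩⟩
  rw [hc₂, Iso.refl_hom, Category.id_comp]
  exact (Limits.Sigma.ι_desc (fun i : ULift.{u} (Polynomial ℚ) => (Z i.down).hom) i).symm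

end Groth.Agent.S16624
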