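import Groth.Statements.S16625
import Groth.Agent.Quot8.Regular
-- import your own Groth.Agent.* helpers here

set_option autoImplicit false
set_option backward.isDefEq.respectTransparency.types false
set_option backward.isDefEq.respectTransparency.types false
universe u
open FGA

namespace Groth.Agent.S16625

open AlgebraicGeometry CategoryTheory CategoryTheory.Limits in
/-- Let S be a Noetherian scheme with projective n-space π : P^n_S → S, Q a coherent module on P^n_S
which is flat over S, and m > 0 an integer such that for every point s of S the restriction Q_s of Q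
to the fibre P^n_S ×_S Spec κ(s) is m-regular: H^i of the restriction of Q(m - i) = Q ⊗ O(m - i) to
that fibre vanishes for every i ≥ 1. Then for every integer d ≥ m: (1) π_*(Q(d)) is a finite locally
free O_S-module; (2) R^i π_*(Q(d)) = 0 for every i ≥ 1 (higher direct images of the underlying
abelian sheaf); (3) the counit π^*π_*(Q(d)) → Q(d) is an epimorphism. (The source's (1) also says
that the formation of π_*(Q(d)) commutes with arbitrary base change T → S; that clause is not
recorded here.) -/
theorem result (S : Scheme.{u}) [IsNoetherian S] (n : ℕ)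
    (Q : (CohB1.ProjSpaceOver n S).Modules) (hQ : Coh.IsCoh Q)
    (hflat : FlatMod.IsFlatOver (CohB1.ProjSpaceOver.toBase n S) Q) (m : ℤ) (hm : 0 < m)
    (hreg : ∀ (s : S) (i : ℕ), 1 ≤ i →
      Subsingleton (Coh.HH (pullback (CohB1.ProjSpaceOver.toBase n S) (S.fromSpecResidueField s))
        ((Scheme.Modules.pullback
            (pullback.fst (CohB1.ProjSpaceOver.toBase n S) (S.fromSpecResidueField s))).obj
          (CohB1.tensorMod Q (Twist.twistOver n S (m - i)))) i))
    (d : ℤ) (hd : m ≤ d) :
    FlatMod.IsFinLocFree ((Coh.push (CohB1.ProjSpaceOver.toBase n S)).obj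
        (CohB1.tensorMod Q (Twist.twistOver n S d))) ∧
      (∀ i : ℕ, 1 ≤ i → IsZero ((Coh.RpushAb (CohB1.ProjSpaceOver.toBase n S) i).obj
        (Coh.toAb (CohB1.tensorMod Q (Twist.twistOver n S d))))) ∧
      Epi ((Scheme.Modules.pullbackPushforwardAdjunction (CohB1.ProjSpaceOver.toBase n S)).counit.app
        (CohB1.tensorMod Q (Twist.twistOver n S d))) := by
  let h := pullback.fst (CohB1.ProjSpace.toSpec n (ULift.{u} ℤ)) (specULiftZIsTerminal.from S)
  have H : Groth.Agent.Quot8.IsPn n (CohB1.ProjSpaceOver.toBase n S) h :=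
    Groth.Agent.Quot8.isPn_projSpaceOver n S
  haveI := Groth.Agent.RelVALib.isProper_toBase n S
  haveI : IsLocallyNoetherian (CohB1.ProjSpaceOver n S) :=
    LocallyOfFiniteType.isLocallyNoetherian (CohB1.ProjSpaceOver.toBase n S)
  haveI : IsLocallyNoetherian (pullback (CohB1.ProjSpace.toSpec n (ULift.{u} ℤ)) (specULiftZIsTerminal.from S)) := ‹IsLocallyNoetherian (CohB1.ProjSpaceOver n S)›
  have hr : Groth.Agent.Quot8.RegFib (CohB1.ProjSpaceOver.toBase n S) h Q m :=
    Groth.Agent.Quot8.regFib_of_fiberRank hQ fun y i hi =>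
      (Groth.Agent.Coherent.CohBC.subsingleton_fiberH_iff_fiberRank (CohB1.ProjSpaceOver.toBase n S) _
        (Groth.Agent.Quot8.isCoh_twist (h := h) hQ (m - i)) y i).1 (hreg y i hi)
  exact ⟨Groth.Agent.Quot8.isFinLocFree_push_twist H hQ hflat hr hd,
    fun i hi => Groth.Agent.Quot8.isZero_rpushAb_twist H hQ hflat hr hd i hi,
    Groth.Agent.Quot8.epi_counit_twist H hQ hflat hr hd⟩

end Groth.Agent.S16625
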