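import Groth.Statements.S16629
import Groth.Agent.GrassLib.PBundle.Main
import Groth.Agent.GrassLib.GrassExists
import Groth.Agent.GrassLib.MapOfEpi
import Groth.Agent.Quot8.QuotCalc
import Groth.Agent.Coherent.CohBC.HomSheaf
-- import your own Groth.Agent.* helpers here

set_option autoImplicit false
set_option backward.isDefEq.respectTransparency.types false
universe u
open Grass

namespace Groth.Agent.S16629

open AlgebraicGeometry CategoryTheory CategoryTheory.Limits in
/-- Let S be a Noetherian scheme, V a finite locally free O_S-module of rank n, and 0 < q < n. The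
Grassmannian functor Gr(q, V) — sending an S-scheme T to the set of submodules K of V_T (the
pullback of V to S ×_S T) whose quotient V_T/K is finite locally free of rank q, with pullback of
submodules as transition maps — is represented by an S-scheme G carrying a universal such submodule;
and for every O_S-module L that is a q-th exterior power of V and every projective bundle π : P → S
of L (an invertible quotient O_P(1) of π^*L with the universal property for invertible quotients of
pullbacks of L), there is a closed immersion G → P over S. (In the source the closed immersion is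
the Plücker morphism sending a quotient to its top exterior power; here it is only asserted to
exist.) -/
theorem result (S : Scheme.{u}) [IsNoetherian S]
    (n q : ℕ) (hq : 0 < q) (hqn : q < n) (V : S.Modules) (hV : FlatMod.IsFinLocFreeOfRank n V) :
    ∃ (G : Over S) (K : Subobject (FGA.ET (𝟙 S) V G)),
      FlatMod.IsFinLocFreeOfRank q (cokernel K.arrow) ∧
      (∀ (T : Over S) (K' : Subobject (FGA.ET (𝟙 S) V T)),
        FlatMod.IsFinLocFreeOfRank q (cokernel K'.arrow) → ∃! g : T ⟶ G, FGA.quotPull (𝟙 S) V g K = K') ∧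
      (∀ (L : S.Modules), ExtPow.IsExtPow q V L →
        ∀ (P : Scheme.{u}) (π : P ⟶ S) (O1 : P.Modules) (u : (Scheme.Modules.pullback π).obj L ⟶ O1),
          KRR.IsProjBundle π L O1 u →
            ∃ c : G.left ⟶ P, IsClosedImmersion c ∧ c ≫ π = G.hom) := by
  obtain ⟨G, p, Q, qu, hG⟩ := GrassLib.exists_isGrass V
    (Coherent.CohBC.isCoh_of_isFinLocFree (fun x => by
      obtain ⟨U, hx, e⟩ := hV x
      exact ⟨U, n, hx, e⟩)) q
  haveI := hG.epi
  have w : pullback.snd (𝟙 S) p ≫ p = pullback.fst (𝟙 S) p := by
    rw [← pullback.condition, Category.comp_id]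
  let qT : FGA.ET (𝟙 S) V (Over.mk p) ⟶ (Scheme.Modules.pullback (pullback.snd (𝟙 S) p)).obj Q :=
    Grass.quotBC (h := pullback.snd (𝟙 S) p) (g := pullback.fst (𝟙 S) p) w qu
  haveI : Epi qT := GrassLib.epi_quotBC qu w
  refine ⟨Over.mk p, kernelSubobject qT, ?_, ?_, ?_⟩
  · obtain ⟨i, -⟩ := Quot8.exists_cokernel_kernelSubobject_iso qT
    intro x
    obtain ⟨U, hx, ⟨e⟩⟩ := GrassLib.isFinLocFreeOfRank_pullback (pullback.snd (𝟙 S) p) hG.rank x
    exact ⟨U, hx, ⟨(Scheme.Modules.restrictFunctor U.ι).mapIso i ≪≫ e⟩⟩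
  · intro T K' hK'
    obtain ⟨h, ⟨hh, e, he⟩, huniq⟩ := hG.univ _ (pullback.fst (𝟙 S) T.hom) _ hK' (cokernel.π K'.arrow) inferInstance
    let ε : T.left ⟶ PicF.XT (𝟙 S) T := pullback.lift T.hom (𝟙 T.left) (by simp)
    have hε : pullback.snd (𝟙 S) T.hom ≫ ε = 𝟙 _ := by
      apply pullback.hom_ext
      · rw [Category.assoc, Category.id_comp, pullback.lift_fst, ← pullback.condition, Category.comp_id]
      · rw [Category.assoc, Category.id_comp, pullback.lift_snd, Category.comp_id]
    have key : ∀ g : T ⟶ Over.mk p, FGA.quotPull (𝟙 S) V g (kernelSubobject qT) = K' ↔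
        pullback.snd (𝟙 S) T.hom ≫ g.left = h := by
      intro g
      have hmap : PicF.XTmap (𝟙 S) g ≫ pullback.snd (𝟙 S) p = pullback.snd (𝟙 S) T.hom ≫ g.left :=
        pullback.lift_snd _ _ _
      have hg0 : (pullback.snd (𝟙 S) T.hom ≫ g.left) ≫ p = pullback.fst (𝟙 S) T.hom := by
        rw [Category.assoc, show g.left ≫ p = T.hom from Over.w g, ← pullback.condition, Category.comp_id]
      have hstep : kernelSubobject (Quot8.bcQ (𝟙 S) V g qT) =
          kernelSubobject (Grass.quotBC hg0 qu) := by
        obtain ⟨i, hi⟩ : ∃ i : (Scheme.Modules.pullback (pullback.snd (𝟙 S) T.hom ≫ g.left)).obj Q ≅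
            (Scheme.Modules.pullback (PicF.XTmap (𝟙 S) g)).obj ((Scheme.Modules.pullback (pullback.snd (𝟙 S) p)).obj Q),
            Grass.quotBC hg0 qu ≫ i.hom = Quot8.bcQ (𝟙 S) V g qT := by
          obtain ⟨i, hi⟩ := Quot8.exists_quotBC_comp (h := pullback.snd (𝟙 S) p) (h' := PicF.XTmap (𝟙 S) g)
            p qu hmap.symm hg0 w (FGA.XTmap_fst (𝟙 S) g)
          refine ⟨i, ?_⟩
          rw [Quot8.quotBC_eq_gen, hi, Quot8.bcQ_eq, Quot8.ETiso_eq]
          simp only [qT, Quot8.quotBC_eq_gen]
          rfl
        rw [← hi, Quot8.kernelSubobject_comp_iso]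
      haveI := GrassLib.epi_quotBC qu hg0
      rw [Quot8.quotPull_kernelSubobject, hstep]
      constructor
      · intro hk
        obtain ⟨i, hi⟩ := Quot8.exists_iso_of_kernelSubobject_eq (Grass.quotBC hg0 qu) (cokernel.π K'.arrow)
          (hk.trans (Quot8.kernelSubobject_cokernel K').symm)
        exact huniq _ ⟨hg0, i, hi⟩
      · intro hgh
        have key2 : ∀ (r : PicF.XT (𝟙 S) T ⟶ G) (hr : r ≫ p = pullback.fst (𝟙 S) T.hom), r = h →
            kernelSubobject (Grass.quotBC hr qu) = K' := by
          rintro _ hr rfl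
          refine (Quot8.kernelSubobject_comp_iso _ e).symm.trans ?_
          simp only [he]
          exact Quot8.kernelSubobject_cokernel K'
        exact key2 _ hg0 hgh
    refine ⟨Over.homMk (ε ≫ h) (by
      show (ε ≫ h) ≫ p = T.hom
      rw [Category.assoc, hh, pullback.lift_fst]), (key _).2 ?_, fun g hg => ?_⟩
    · show pullback.snd (𝟙 S) T.hom ≫ ε ≫ h = h
      rw [← Category.assoc, hε, Category.id_comp]
    · refine Over.OverMorphism.ext ?_
      show g.left = ε ≫ h
      rw [← (key g).1 hg, ← Category.assoc, pullback.lift_snd, Category.id_comp]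
  · intro L hL P π O1 u hP
    obtain ⟨φ, hφ⟩ := hL
    exact GrassLib.PBundle.exists_closedImmersion φ hφ hP hV hqn.le hG

end Groth.Agent.S16629
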