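import Groth.Statements.S1663
import Groth.Agent.S1607
import Groth.Agent.Coherent.RpushVanish
import Groth.Agent.Coherent.ModExt
import Groth.Agent.Coherent.RpushComp
-- import your own Groth.Agent.* helpers here

set_option autoImplicit false
set_option backward.isDefEq.respectTransparency.types false
universe u
open CategoryTheory CategoryTheory.Limits AlgebraicGeometry
open Variety

namespace Groth.Agent.S1663

/-- Let X be a scheme whose local rings are Noetherian of Krull dimension at most one, j : U → X the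
inclusion of a retrocompact open (j quasi-compact) and F a quasi-coherent O_U-module. Then R^p j_* F
vanishes for all p > 0. -/
theorem result (X : Scheme.{u})
    (hX : ∀ x : X, IsNoetherianRing (X.presheaf.stalk x) ∧ ringKrullDim (X.presheaf.stalk x) ≤ 1)
    (U : X.Opens) [QuasiCompact U.ι] [HasInjectiveResolutions (U : Scheme.{u}).Modules]
    (F : (U : Scheme.{u}).Modules) (hF : Coh.IsQCoh F) (p : ℕ) (hp : 0 < p) :
    IsZero ((Coh.Rpush U.ι p).obj F) := by
  haveI : IsAffineHom U.ι := by
    refine ⟨fun V hV => ?_⟩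
    have hc : IsCompact (U.ι ⁻¹ᵁ V : Set U.toScheme) := Scheme.Hom.isCompact_preimage U.ι hV.isCompact
    have himg : U.ι ''ᵁ (U.ι ⁻¹ᵁ V) = U ⊓ V := by
      rw [Scheme.Hom.image_preimage_eq_opensRange_inf, Scheme.Opens.opensRange_ι]
    rw [← U.ι.isAffineOpen_iff_of_isOpenImmersion, himg]
    have : IsAffine (V : Scheme.{u}) := hV
    have h := Groth.Agent.S1607.result (V : Scheme.{u}) (fun v => by
        have e := (asIso (V.ι.stalkMap v)).commRingCatIsoToRingEquiv
        exact ⟨@isNoetherianRing_of_ringEquiv _ _ _ _ e (hX (V.ι v)).1,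
          (ringKrullDim_eq_of_ringEquiv e).symm.trans_le (hX (V.ι v)).2⟩)
      (V.ι ⁻¹ᵁ U) (by
        have : IsCompact ((U ⊓ V : X.Opens) : Set X) := by
          rw [← himg]; exact hc.image U.ι.continuous
        refine (V.ι.isOpenEmbedding.isInducing.isCompact_iff).2 ?_
        convert this using 1
        ext z
        exact ⟨fun ⟨w, hw, e⟩ => e ▸ ⟨hw, w.2⟩, fun hz => ⟨⟨z, hz.2⟩, hz.1, rfl⟩⟩)
    have h2 := h.image_of_isOpenImmersion V.ι
    rwa [Scheme.Hom.image_preimage_eq_opensRange_inf, Scheme.Opens.opensRange_ι, inf_comm] at h2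
  haveI : Coh.IsQCoh F := hF
  have h0 := Groth.Agent.Coherent.isZero_rpushAb_of_isAffineHom U.ι F p hp
  have h1 := h0.of_iso (Groth.Agent.Coherent.toAbRpushIso U.ι F p)
  rw [IsZero.iff_id_eq_zero]
  exact (Groth.Agent.Coherent.toAbFunctor X).map_injective (h1.eq_of_src _ _)

end Groth.Agent.S1663
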