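import Groth.Statements.S16630
import Groth.Agent.TFPush7.Stab
import Groth.Agent.S1585
import Groth.Agent.CommAlg6.DimMaps
-- import your own Groth.Agent.* helpers here

set_option autoImplicit false
set_option linter.style.haveILetI false
set_option backward.isDefEq.respectTransparency.types false
universe u
open CategoryTheory CategoryTheory.Limits AlgebraicGeometry
open TFCurv

namespace Groth.Agent.S16630
open Groth.Agent Groth.Agent.EulerLib

/-- Let X be an integral proper curve (integral, proper, of dimension one) over an algebraically closed
field k, ν : X~ → X its normalisation, L an ample invertible module on X and E a finite locally free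
module of rank n on X~. Then E is semistable if and only if ν_*E is semistable on X. Semistability
is taken for pure one-dimensional sheaves with respect to reduced Hilbert polynomials, E being
polarised by ν^*L and ν_*E by L; on an integral curve this is the slope condition deg F · rk E ≤ deg
E · rk F for every nonzero torsion-free subsheaf F, degrees being defined through the Euler
characteristic, and it does not depend on the ample polarisation. -/
theorem result (k : Type u) [Field k] [IsAlgClosed k] (X : Scheme.{u}) [X.Over (Spec (CommRingCat.of k))] [IsIntegral X] [IsProper (X ↘ Spec (CommRingCat.of k))] (hdim : topologicalKrullDim X = 1) [QuasiCompact (X.fromSpecStalk (genericPoint X))] [QuasiSeparated (X.fromSpecStalk (genericPoint X))] (L : X.Modules) (hL : CohB1.IsAmple L) (n : ℕ) (E : (Curv2.normalization X).Modules) (hE : FlatMod.IsFinLocFreeOfRank n E) :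
    letI : (Curv2.normalization X).Over (Spec (CommRingCat.of k)) := ⟨Curv2.normalizationι X ≫ X ↘ Spec (CommRingCat.of k)⟩
    ShStab.IsSemistable k (Curv2.normalization X) ((Scheme.Modules.pullback (Curv2.normalizationι X)).obj L) E 1 ↔ ShStab.IsSemistable k X L ((Coh.push (Curv2.normalizationι X)).obj E) 1 := by
  letI : (Curv2.normalization X).Over (Spec (CommRingCat.of k)) := ⟨Curv2.normalizationι X ≫ X ↘ Spec (CommRingCat.of k)⟩
  obtain ⟨hfin, -, ⟨U, hUne, hiso⟩, hint, -⟩ := Groth.Agent.S1585.result k X
  haveI := hfin
  haveI := hiso
  haveI : IsProper (Curv2.normalization X ↘ Spec (CommRingCat.of k)) :=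
    inferInstanceAs (IsProper (Curv2.normalizationι X ≫ _))
  haveI := isNoetherian_of_proper (X := X) k
  haveI : IsLocallyNoetherian (Curv2.normalization X) :=
    LocallyOfFiniteType.isLocallyNoetherian (Curv2.normalizationι X)
  have hY : topologicalKrullDim (Curv2.normalization X) ≤ 1 :=
    (CommAlg6.topologicalKrullDim_le_of_fibres (Curv2.normalizationι X).continuous fun x x' hs hx =>
      CommAlg6.eq_of_specializes_of_locallyQuasiFinite (Curv2.normalizationι X) hs hx).trans hdim.le
  exact Groth.Agent.TFPush7.isSemistable_iff (Curv2.normalizationι X) k rfl hdim.le hY hL U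
    (((genericPoint_spec X).mem_open_set_iff U.isOpen).2 (by simpa using hUne))
    (Groth.Agent.Coherent.CohBC.isCoh_of_isFinLocFree fun x => let ⟨V, hx, e⟩ := hE x; ⟨V, n, hx, e⟩)

end Groth.Agent.S16630
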