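import Groth.Statements.S16644
import Mathlib

set_option linter.all false

set_option autoImplicit false
open QuadZ

open TensorProduct Matrix

namespace Groth.Agent.S16644

theorem det_alt_odd_char_two {A : Type*} [CommRing A] (h2 : (2 : A) = 0) {n : ℕ} (hn : Odd n)
    (M : Matrix (Fin n) (Fin n) A) (hs : ∀ i j, M i j = M j i) (hd : ∀ i, M i i = 0) : M.det = 0 := by
  classical
  have hxx : ∀ x : A, x + x = 0 := fun x => by rw [← two_mul, h2, zero_mul]
  have hneg : ∀ x : A, -x = x := fun x => neg_eq_iff_add_eq_zero.2 (hxx x)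
  rw [Matrix.det_apply']
  refine Finset.sum_involution (fun σ _ => σ⁻¹) (fun σ _ => ?_) (fun σ _ hne heq => ?_)
    (fun σ _ => Finset.mem_univ _) (fun σ _ => inv_inv σ)
  · have : ∏ i, M (σ⁻¹ i) i = ∏ i, M (σ i) i := by
      rw [← Equiv.prod_comp σ (fun i => M (σ⁻¹ i) i)]
      exact Finset.prod_congr rfl fun i _ => by rw [Equiv.Perm.inv_def, Equiv.symm_apply_apply, hs]
    rw [Equiv.Perm.sign_inv, this]; exact hxx _
  · obtain ⟨i, hi⟩ : ∃ i, σ i = i := by
      by_contra hc
      push Not at hc
      have h1 : ∑ _i : Fin n, (1 : ZMod 2) = 0 :=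
        Finset.sum_involution (fun i _ => σ i) (fun _ _ => rfl) (fun i _ _ => hc i)
          (fun _ _ => Finset.mem_univ _) (fun i _ => by nth_rewrite 1 [← heq]; simp)
      rw [Finset.sum_const, Finset.card_univ, Fintype.card_fin, nsmul_one, ZMod.natCast_eq_zero_iff_even] at h1
      exact Nat.not_even_iff_odd.2 hn h1
    refine hne (mul_eq_zero_of_right _ (Finset.prod_eq_zero (Finset.mem_univ i) ?_))
    rw [hi, hd]

/-- For odd n, the discriminant of the universal quadratic form Σ_{i ≤ j} A_{ij} x_i x_j in n variables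
(variables A_{ij} indexed by unordered pairs), i.e. the determinant of the symmetric matrix with
diagonal entries 2 A_{ii} and off-diagonal entries A_{ij}, is divisible by 2 in the integral
polynomial ring ℤ[A_{ij}] (so the half-discriminant is an integral polynomial). -/
theorem result (n : ℕ) (hn : Odd n) :
    (2 : MvPolynomial (Sym2 (Fin n)) ℤ) ∣
      (Matrix.of fun i j : Fin n =>
        if i = j then 2 * MvPolynomial.X (R := ℤ) (σ := Sym2 (Fin n)) (Sym2.mk i j)
        else MvPolynomial.X (R := ℤ) (σ := Sym2 (Fin n)) (Sym2.mk i j)).det := by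
  suffices h : MvPolynomial.C (2 : ℤ) ∣ (Matrix.of fun i j : Fin n =>
        if i = j then 2 * MvPolynomial.X (R := ℤ) (σ := Sym2 (Fin n)) (Sym2.mk i j)
        else MvPolynomial.X (R := ℤ) (σ := Sym2 (Fin n)) (Sym2.mk i j)).det by
    rwa [map_ofNat] at h
  rw [MvPolynomial.C_dvd_iff_map_hom_eq_zero (Int.castRingHom (ZMod 2)) (2 : ℤ) (fun r => by
    simpa using (ZMod.intCast_zmod_eq_zero_iff_dvd r 2))]
  · rw [RingHom.map_det]
    have h2 : (2 : MvPolynomial (Sym2 (Fin n)) (ZMod 2)) = 0 := by
      rw [← map_ofNat (MvPolynomial.C (σ := Sym2 (Fin n))) 2, show (2 : ZMod 2) = 0 from rfl, map_zero]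
    refine det_alt_odd_char_two h2 hn _ (fun i j => ?_) (fun i => ?_)
    · rcases eq_or_ne i j with rfl | hij
      · rfl
      · simp [hij, hij.symm, Sym2.eq_swap]
    · simp [h2]

end Groth.Agent.S16644
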