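import Groth.Statements.S16647
import Groth.Agent.Et18.Descent
-- import your own Groth.Agent.* helpers here

set_option autoImplicit false
open CategoryTheory MonoidalCategory CartesianMonoidalCategory MonObj GrpObj AlgebraicGeometry
universe u
open GrpSch

namespace Groth.Agent.S16647

open CategoryTheory.Limits

theorem isPullback_torsor {S : Scheme.{u}} {N G Q T : Over S} [GrpObj N] [GrpObj G] [GrpObj Q] (a : N ⟶ G) (b : G ⟶ Q)
    [IsMonHom b] (hk : AlgGrp.IsKernel a b) (φ : T ⟶ G) :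
    IsPullback ((fst N T ≫ a) * (snd N T ≫ φ)) (snd N T) b (φ ≫ b) := by
  have hab : ∀ {W : Over S} (x : W ⟶ N), (x ≫ a) ≫ b = 1 := fun x => by
    rw [Category.assoc, hk.w, ← Category.assoc, show x ≫ toUnit N = toUnit _ from toUnit_unique _ _]
    rfl
  have hw : ((fst N T ≫ a) * (snd N T ≫ φ)) ≫ b = snd N T ≫ φ ≫ b := by
    rw [MonObj.mul_comp, hab, _root_.one_mul, Category.assoc]
  have hd : ∀ s : PullbackCone b (φ ≫ b), (s.fst * (s.snd ≫ φ)⁻¹) ≫ b = toUnit _ ≫ η[Q] := fun s => by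
    rw [MonObj.mul_comp, GrpObj.inv_comp, s.condition, Category.assoc, mul_inv_cancel]
    rfl
  refine ⟨⟨hw⟩, ⟨PullbackCone.IsLimit.mk hw (fun s => lift (hk.lift _ (toUnit _) (hd s)) s.snd)
    (fun s => ?_) (fun s => lift_snd _ _) fun s m h1 h2 => ?_⟩⟩
  · rw [MonObj.comp_mul, lift_fst_assoc, lift_snd_assoc, hk.lift_fst, inv_mul_cancel_right]
  · refine CartesianMonoidalCategory.hom_ext _ _ (hk.hom_ext ?_ (toUnit_unique _ _)) ?_
    · rw [lift_fst, hk.lift_fst, eq_mul_inv_iff_mul_eq]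
      rw [MonObj.comp_mul] at h1
      rw [← h1, ← h2]
      simp only [Category.assoc]
    · rw [lift_snd, h2]

theorem isPullback_whiskerRight {S : Scheme.{u}} {A B : Over S} (f : A ⟶ B) (T : Over S) :
    IsPullback (f ▷ T) (fst A T) (fst B T) f :=
  ⟨⟨whiskerRight_fst f T⟩, ⟨PullbackCone.IsLimit.mk (whiskerRight_fst f T)
    (fun s => lift s.snd (s.fst ≫ snd B T))
    (fun s => CartesianMonoidalCategory.hom_ext _ _ (by simp [s.condition]) (by simp))
    (fun s => lift_fst _ _)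
    fun s m h1 h2 => CartesianMonoidalCategory.hom_ext _ _ (by simpa using h2) (by simp [← h1])⟩⟩

/-- In a commutative diagram of short exact sequences of S-group schemes that are flat, separated and of
finite presentation over a scheme S (in each row the first homomorphism is the kernel of the second
and the second is a flat surjection), if the two outer vertical homomorphisms are closed immersions
then so is the middle one. -/
theorem result {S : Scheme.{u}}
    {H₁' H₁ H₁'' H₂' H₂ H₂'' : Over S} [GrpObj H₁'] [GrpObj H₁] [GrpObj H₁''] [GrpObj H₂'] [GrpObj H₂] [GrpObj H₂'']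
    [Flat H₁'.hom] [Flat H₁.hom] [Flat H₁''.hom] [Flat H₂'.hom] [Flat H₂.hom] [Flat H₂''.hom]
    [IsSeparated H₁'.hom] [IsSeparated H₁.hom] [IsSeparated H₁''.hom]
    [IsSeparated H₂'.hom] [IsSeparated H₂.hom] [IsSeparated H₂''.hom]
    [QuasiCompact H₁'.hom] [QuasiCompact H₁.hom] [QuasiCompact H₁''.hom]
    [QuasiCompact H₂'.hom] [QuasiCompact H₂.hom] [QuasiCompact H₂''.hom]
    [LocallyOfFinitePresentation H₁'.hom] [LocallyOfFinitePresentation H₁.hom] [LocallyOfFinitePresentation H₁''.hom]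
    [LocallyOfFinitePresentation H₂'.hom] [LocallyOfFinitePresentation H₂.hom] [LocallyOfFinitePresentation H₂''.hom]
    (a₁ : H₁' ⟶ H₁) (b₁ : H₁ ⟶ H₁'') (a₂ : H₂' ⟶ H₂) (b₂ : H₂ ⟶ H₂'')
    [IsMonHom a₁] [IsMonHom b₁] [IsMonHom a₂] [IsMonHom b₂]
    (h₁ : AlgGrp.IsKernel a₁ b₁) (hb₁ : Flat b₁.left ∧ Surjective b₁.left)
    (h₂ : AlgGrp.IsKernel a₂ b₂) (hb₂ : Flat b₂.left ∧ Surjective b₂.left)
    (j' : H₁' ⟶ H₂') (j : H₁ ⟶ H₂) (j'' : H₁'' ⟶ H₂'') [IsMonHom j'] [IsMonHom j] [IsMonHom j'']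
    (sq₁ : a₁ ≫ j = j' ≫ a₂) (sq₂ : b₁ ≫ j'' = j ≫ b₂)
    (hj' : IsClosedImmersion j'.left) (hj'' : IsClosedImmersion j''.left) :
    IsClosedImmersion j.left := by
  let P := pullback b₂ j''
  let c : H₁ ⟶ P := pullback.lift j b₁ sq₂.symm
  have hc₁ : c ≫ pullback.fst b₂ j'' = j := pullback.lift_fst _ _ _
  have hc₂ : c ≫ pullback.snd b₂ j'' = b₁ := pullback.lift_snd _ _ _
  have hA := isPullback_torsor a₁ b₁ h₁ (𝟙 H₁)
  rw [Category.id_comp, Category.comp_id] at hA
  have hB : IsPullback ((fst H₂' H₁ ≫ a₂) * (snd H₂' H₁ ≫ j)) (snd H₂' H₁) b₂ (b₁ ≫ j'') := by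
    have h := isPullback_torsor a₂ b₂ h₂ j
    rwa [← sq₂] at h
  have hPsq : IsPullback (pullback.fst b₂ j'') (pullback.snd b₂ j'') b₂ j'' := IsPullback.of_hasPullback _ _
  let l : H₂' ⊗ H₁ ⟶ P := pullback.lift ((fst H₂' H₁ ≫ a₂) * (snd H₂' H₁ ≫ j)) (snd H₂' H₁ ≫ b₁)
    (by rw [Category.assoc]; exact hB.w)
  have hl₁ : l ≫ pullback.fst b₂ j'' = (fst H₂' H₁ ≫ a₂) * (snd H₂' H₁ ≫ j) := pullback.lift_fst _ _ _
  have hl₂ : l ≫ pullback.snd b₂ j'' = snd H₂' H₁ ≫ b₁ := pullback.lift_snd _ _ _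
  have hP' : IsPullback l (snd H₂' H₁) (pullback.snd b₂ j'') b₁ := by
    refine IsPullback.of_right ?_ hl₂ hPsq
    rw [hl₁]
    exact hB
  have hsq : IsPullback ((fst H₁' H₁ ≫ a₁) * snd H₁' H₁) (j' ▷ H₁) c l := by
    refine IsPullback.of_bot ?_ ?_ hP'
    · rw [whiskerRight_snd, hc₂]
      exact hA
    · refine hPsq.hom_ext ?_ ?_
      · rw [Category.assoc, Category.assoc, hc₁, hl₁, MonObj.comp_mul, MonObj.mul_comp, whiskerRight_fst_assoc,
          whiskerRight_snd_assoc, Category.assoc, sq₁]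
      · rw [Category.assoc, Category.assoc, hc₂, hl₂, whiskerRight_snd_assoc]
        exact hA.w
  have hw : IsClosedImmersion (j' ▷ H₁).left :=
    MorphismProperty.of_isPullback (P := @IsClosedImmersion) ((isPullback_whiskerRight j' H₁).map (Over.forget S)).flip hj'
  haveI : QuasiCompact (b₁.left ≫ H₁''.hom) := by rw [Over.w b₁]; infer_instance
  have hb : QuasiCompact b₁.left := QuasiCompact.of_comp b₁.left H₁''.hom
  have hlsq := hP'.map (Over.forget S)
  have hlQ : (@Surjective ⊓ @Flat ⊓ @QuasiCompact : MorphismProperty Scheme.{u}) l.left :=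
    ⟨⟨MorphismProperty.of_isPullback hlsq.flip hb₁.2, MorphismProperty.of_isPullback hlsq.flip hb₁.1⟩,
      MorphismProperty.of_isPullback hlsq.flip hb⟩
  haveI : MorphismProperty.DescendsAlong @IsClosedImmersion (@Surjective ⊓ @Flat ⊓ @QuasiCompact) :=
    Groth.Agent.Et18.descends_isClosedImmersion.{u}
  haveI : IsClosedImmersion c.left :=
    MorphismProperty.of_isPullback_of_descendsAlong (P := @IsClosedImmersion)
      (Q := @Surjective ⊓ @Flat ⊓ @QuasiCompact) (hsq.map (Over.forget S)).flip hlQ hw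
  haveI : IsClosedImmersion (pullback.fst b₂ j'').left :=
    MorphismProperty.of_isPullback (P := @IsClosedImmersion) (hPsq.map (Over.forget S)).flip hj''
  rw [← hc₁, Over.comp_left]
  infer_instance
end Groth.Agent.S16647
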