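import Groth.Statements.S1665
import Groth.Agent.VarietyLib.DimOne

set_option autoImplicit false
universe u
open Variety

namespace Groth.Agent.S1665

/-- Let B be a Noetherian domain of dimension one with finitely many maximal ideals and B' its integral
closure in its fraction field. Then B' is a Dedekind domain with finitely many maximal ideals, and
for every nonzero x in the Jacobson radical of B' and every y ∈ B' some power x^n satisfies x^n y ∈
B. -/
theorem result (B : Type u) [CommRing B] [IsDomain B] [IsNoetherianRing B]
    (hdim : ringKrullDim B = 1) (hsl : Finite (MaximalSpectrum B)) :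
    IsDedekindDomain (integralClosure B (FractionRing B)) ∧ Finite (MaximalSpectrum (integralClosure B (FractionRing B))) ∧
      ∀ x : integralClosure B (FractionRing B), x ≠ 0 → x ∈ (⊥ : Ideal (integralClosure B (FractionRing B))).jacobson →
        ∀ y : integralClosure B (FractionRing B), ∃ n : ℕ, (x ^ n * y).1 ∈ (algebraMap B (FractionRing B)).range := by
  let K := FractionRing B
  let B₀ : Subring K := (algebraMap B K).range
  let e : B ≃+* B₀ := RingEquiv.ofBijective (algebraMap B K).rangeRestrict
    ⟨fun a b h => IsFractionRing.injective B K (congrArg Subtype.val h),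
      (algebraMap B K).rangeRestrict_surjective⟩
  have : IsNoetherianRing B₀ := isNoetherianRing_of_ringEquiv B e
  have : IsFractionRing B₀ K := by
    refine IsFractionRing.of_field B₀ K fun z => ?_
    obtain ⟨a, b, -, h⟩ := IsFractionRing.div_surjective B z
    exact ⟨e a, e b, h.symm⟩
  have hdim₀ : ringKrullDim B₀ = 1 := (ringKrullDim_eq_of_ringEquiv e).symm.trans hdim
  have hsl₀ : Finite (MaximalSpectrum B₀) :=
    Finite.of_injective (fun M : MaximalSpectrum B₀ =>
      (⟨M.asIdeal.comap e, Ideal.comap_isMaximal_of_surjective _ e.surjective⟩ : MaximalSpectrum B))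
      fun M N h => MaximalSpectrum.ext
        (Ideal.comap_injective_of_surjective (e : B →+* B₀) e.surjective (congrArg MaximalSpectrum.asIdeal h))
  have hmem : ∀ z : K, z ∈ integralClosure B K ↔ z ∈ integralClosure B₀ K := by
    intro z
    letI : Algebra B B₀ := (e : B →+* B₀).toAlgebra
    have : IsScalarTower B B₀ K := .of_algebraMap_eq fun _ => rfl
    have : Algebra.IsIntegral B B₀ :=
      ⟨fun x => by obtain ⟨y, rfl⟩ := e.surjective x; exact isIntegral_algebraMap (x := y)⟩
    exact ⟨fun h => IsIntegral.tower_top h, fun h => isIntegral_trans z h⟩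
  let eW : integralClosure B₀ K ≃+* integralClosure B K :=
    { toFun := fun w => ⟨w.1, (hmem _).2 w.2⟩
      invFun := fun w => ⟨w.1, (hmem _).1 w.2⟩
      left_inv := fun _ => rfl
      right_inv := fun _ => rfl
      map_mul' := fun _ _ => rfl
      map_add' := fun _ _ => rfl }
  have := Groth.Agent.VarietyLib.DimOne.isDedekindDomain_integralClosure B₀ hdim₀
  have := Groth.Agent.VarietyLib.DimOne.finite_maximalSpectrum_integralClosure B₀ hdim₀ hsl₀
  have hded : IsDedekindDomain (integralClosure B K) := by
    have : IsNoetherianRing (integralClosure B K) := isNoetherianRing_of_ringEquiv _ eW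
    have : IsIntegrallyClosed (integralClosure B K) := IsIntegrallyClosed.of_equiv eW
    have : Ring.KrullDimLE 1 (integralClosure B K) := by
      rw [Ring.krullDimLE_iff, ← ringKrullDim_eq_of_ringEquiv eW]
      exact Ring.krullDimLE_iff.1 inferInstance
    have : Ring.DimensionLEOne (integralClosure B K) :=
      ⟨fun {p} hp0 hp => Ideal.IsPrime.isMaximal_of_ne_bot hp hp0⟩
    exact { }
  refine ⟨hded, Finite.of_injective (fun M : MaximalSpectrum (integralClosure B K) =>
      (⟨M.asIdeal.comap eW, Ideal.comap_isMaximal_of_surjective _ eW.surjective⟩ :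
        MaximalSpectrum (integralClosure B₀ K)))
      fun M N h => MaximalSpectrum.ext (Ideal.comap_injective_of_surjective
        (eW : integralClosure B₀ K →+* integralClosure B K) eW.surjective (congrArg MaximalSpectrum.asIdeal h)),
    fun x _ hx y => ?_⟩
  have hJ : Groth.Agent.VarietyLib.DimOne.InJac B₀ x.1 := by
    intro O hBO hO
    have hWO : ∀ w : integralClosure B K, (w : K) ∈ O.toSubring := fun w =>
      Groth.Agent.VarietyLib.DimOne.integral_mem B₀ O hBO ((hmem _).1 w.2)
    let P : Ideal (integralClosure B K) := (IsLocalRing.maximalIdeal O).comap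
      (((integralClosure B K).toSubring.subtype).codRestrict O.toSubring hWO :
        integralClosure B K →+* O)
    obtain ⟨c, hc0, hc⟩ := Groth.Agent.VarietyLib.DimOne.exists_nonzero_center B₀ O hBO hO
    obtain ⟨hcO, hcm⟩ := ValuationSubring.mem_nonunits_iff_exists_mem_maximalIdeal.1 hc
    have hcP : eW (algebraMap B₀ (integralClosure B₀ K) c) ∈ P := hcm
    have hP : P ≠ ⊥ := fun h => by
      rw [h, Submodule.mem_bot, map_eq_zero_iff _ eW.injective] at hcP
      exact hc0 (Subtype.ext (congrArg (fun w : integralClosure B₀ K => (w : K)) hcP))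
    have hxP : x ∈ P := (Ideal.mem_sInf.1 hx)
      ⟨bot_le, Ring.DimensionLEOne.maximalOfPrime hP (Ideal.comap_isPrime _ _)⟩
    exact ValuationSubring.mem_nonunits_iff_exists_mem_maximalIdeal.2 ⟨hWO x, hxP⟩
  obtain ⟨N, hN⟩ := Groth.Agent.VarietyLib.DimOne.exists_pow_mem B₀ hdim₀ hJ y.1
  exact ⟨N, hN N le_rfl⟩

end Groth.Agent.S1665
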