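import Groth.Statements.S16650
import Groth.Agent.AGFQuot23.RelNormalizer

set_option autoImplicit false
open CategoryTheory MonoidalCategory CartesianMonoidalCategory MonObj GrpObj AlgebraicGeometry
universe u
open RedSub

namespace Groth.Agent.S16650

/-- The centre of a reductive group scheme G over a scheme S is contained in every parabolic subgroup of
G. -/
theorem result {S : Scheme.{u}} {G Z P : Over S} [GrpObj G] [GrpObj Z] [GrpObj P]
    (hG : Red.IsReductive G) (z : Z ⟶ G) (hZ : Red.IsCentre z) (p : P ⟶ G) (hP : Red.IsParabolic p) :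
    ∃ f : Z ⟶ P, f ≫ p = z := by
  haveI := hG.1
  haveI := hG.2.1
  haveI := hP.1
  haveI := hP.2.1
  haveI := hP.2.2.1
  haveI : QuasiCompact P.hom := by rw [← Over.w p]; infer_instance
  refine ((Groth.Agent.AGFQuot23.isClosedImmersion_and_isNormalizerOf_self (fun s => (hG.2.2 s).2.2.1) p hP.2.2.2).2.2.2 Z z).2
    fun X x h => ?_
  have hc : (x ≫ z) * (h ≫ p) = (h ≫ p) * (x ≫ z) := by
    simpa using (hZ.2.2 Z z).1 ⟨𝟙 Z, Category.id_comp z⟩ X x (h ≫ p)
  exact ⟨⟨h, by rw [hc, mul_inv_cancel_right]⟩, ⟨h, by rw [_root_.mul_assoc, ← hc]; exact inv_mul_cancel_left _ _⟩⟩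

end Groth.Agent.S16650
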