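import Groth.Statements.S16663
import Groth.Agent.Conn12.Along

set_option autoImplicit false
universe v u
open TensorProduct
open Conn

namespace Groth.Agent.S16663

/-- Let B be an A-algebra with a receptacle of differentials (Ω, δ), Ω a finite free B-module (the local
form of a weakly smooth scheme), and let M be a finitely ℤ-graded B-module presented as a finite
family of finite free B-modules M_i with integer degrees deg i (the local form of a graded vector
bundle), with total module Π_i M_i. Let ∇ be a connection on Π_i M_i preserving the grading, in the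
sense that (pr_j ⊗ 1)(∇(ι_i m)) = 0 for m ∈ M_i whenever deg i ≠ deg j, and let ∇_E be the induced
connection on the B-linear endomorphisms, the one with (ev_m ⊗ 1)(∇_E φ) = ∇(φ m) − (φ ⊗ 1)(∇ m).
Give B the connection b ↦ 1 ⊗ δ b. Then the supertrace, φ ↦ tr(ε ∘ φ) with ε = Σ_i (−1)^{deg i} ι_i
∘ pr_i the grading involution, is a horizontal map End_B(Π_i M_i) → B. -/
theorem result {A : Type v} {B Ω ι : Type u}
    [CommRing A] [CommRing B] [Algebra A B]
    [AddCommGroup Ω] [Module B Ω] [Module A Ω] [IsScalarTower A B Ω] [Module.Finite B Ω] [Module.Free B Ω]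
    [Fintype ι] [DecidableEq ι] (deg : ι → ℤ) (M : ι → Type u)
    [∀ i, AddCommGroup (M i)] [∀ i, Module B (M i)] [∀ i, Module A (M i)] [∀ i, IsScalarTower A B (M i)]
    [∀ i, Module.Free B (M i)] [∀ i, Module.Finite B (M i)]
    (δ : Derivation A B Ω) (nabla : (Π k, M k) →ₗ[A] (Π k, M k) ⊗[B] Ω) (hc : Conn.IsConn δ nabla)
    (hgr : ∀ i j : ι, deg i ≠ deg j → ∀ m : M i,
      TensorProduct.map (LinearMap.proj j : (Π k, M k) →ₗ[B] M j) LinearMap.id (nabla (LinearMap.single B M i m)) = 0)
    (nablaE : ((Π k, M k) →ₗ[B] (Π k, M k)) →ₗ[A] ((Π k, M k) →ₗ[B] (Π k, M k)) ⊗[B] Ω)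
    (hE : Conn.IsHomConn nabla nabla nablaE) :
    Conn.IsHorizontal nablaE (Conn.triv δ)
      (LinearMap.trace B (Π k, M k) ∘ₗ LinearMap.llcomp B (Π k, M k) (Π k, M k) (Π k, M k)
        (∑ i : ι, (LinearMap.single B M i) ∘ₗ (((-1 : B) ^ (deg i).natAbs) • (LinearMap.proj i : (Π k, M k) →ₗ[B] M i)))) := by
  rw [Groth.Agent.Conn12.isHorizontal_iff (Module.Free.chooseBasis B Ω)]
  intro q φ
  generalize hθ : (Module.Free.chooseBasis B Ω).coord q = θ
  set ε : (Π k, M k) →ₗ[B] (Π k, M k) :=
    ∑ i : ι, (LinearMap.single B M i) ∘ₗ (((-1 : B) ^ (deg i).natAbs) • (LinearMap.proj i : (Π k, M k) →ₗ[B] M i)) with hε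
  rw [Groth.Agent.Conn12.along_triv, LinearMap.comp_apply, LinearMap.comp_apply,
    LinearMap.llcomp_apply', LinearMap.llcomp_apply',
    ← Groth.Agent.Conn12.trace_along δ nabla hc hE θ (ε ∘ₗ φ)]
  have hε1 : ∀ (x : Π k, M k), ε x = fun i => (-1 : B) ^ (deg i).natAbs • x i := by
    intro x
    funext j
    rw [hε, LinearMap.sum_apply, Finset.sum_apply, Finset.sum_eq_single j]
    · simp
    · intro i _ hij
      simp [Pi.single_eq_of_ne (Ne.symm hij)]
    · simp
  have hpow : ∀ k : ℕ, δ ((-1 : B) ^ k) = 0 := fun k => by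
    rcases neg_one_pow_eq_or B k with h | h <;> rw [h] <;> simp
  have hsingle : ∀ (i : ι) (m : M i), Conn.along nabla θ (ε (LinearMap.single B M i m)) =
      ε (Conn.along nabla θ (LinearMap.single B M i m)) := by
    intro i m
    have e1 : ε (LinearMap.single B M i m) = (-1 : B) ^ (deg i).natAbs • LinearMap.single B M i m := by
      rw [hε1]
      funext j
      rcases eq_or_ne j i with rfl | hj
      · simp
      · simp [Pi.single_eq_of_ne hj]
    rw [e1, Groth.Agent.Conn12.along_smul δ nabla hc, hpow, map_zero, zero_smul, add_zero, hε1]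
    funext j
    rw [Pi.smul_apply]
    by_cases hd : deg i = deg j
    · rw [hd]
    · have := congrArg (Groth.Agent.Conn12.contract (M j) θ) (hgr i j hd m)
      rw [Groth.Agent.Conn12.contract_map, map_zero, LinearMap.proj_apply] at this
      rw [Groth.Agent.Conn12.along_eq, this, smul_zero, smul_zero]
  have hcomm : ∀ x, Conn.along nabla θ (ε x) = ε (Conn.along nabla θ x) := by
    intro x
    rw [← Finset.univ_sum_single x]
    simp only [map_sum]
    exact Finset.sum_congr rfl fun i _ => hsingle i (x i)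
  congr 1
  refine LinearMap.ext fun x => ?_
  simp only [LinearMap.comp_apply, Groth.Agent.Conn12.along_hom hE, map_sub, hcomm]

end Groth.Agent.S16663
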