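import Groth.Statements.S16667
import Mathlib
import Groth.Prelude
import Groth.Agent.CAlgH3.Depth

set_option linter.all false

set_option autoImplicit false
universe u
open CAlg


namespace Groth.Agent.S16667

theorem depth_eq_one {A : Type u} [CommRing A] [IsDomain A] [IsNoetherianRing A] {a c : A} (ha : a ≠ 0)
    (P : Ideal A) [P.IsPrime] (haP : a ∈ P) (hc : ∀ r, r ∈ P ↔ a ∣ r * c) :
    LocCoh.depth (Localization.AtPrime P) (Localization.AtPrime P) = 1 := by
  let L := Localization.AtPrime P
  let a' : L := algebraMap A L a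
  have ham : a' ∈ IsLocalRing.maximalIdeal L := by
    rw [← Localization.AtPrime.map_eq_maximalIdeal]; exact Ideal.mem_map_of_mem _ haP
  have hinjL : Function.Injective (algebraMap A L) := IsLocalization.injective L P.primeCompl_le_nonZeroDivisors
  have ha' : a' ≠ 0 := (map_ne_zero_iff _ hinjL).2 ha
  have hreg : IsSMulRegular L a' := fun x y h => mul_left_cancel₀ ha' h
  rw [← Groth.Agent.CAlgH3.depth_quotSMulTop_add_one ham hreg]
  let z : QuotSMulTop a' L := Submodule.Quotient.mk (algebraMap A L c)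
  have hz : ∀ w : L, w • z = 0 ↔ w ∈ IsLocalRing.maximalIdeal L := by
    intro w
    show Submodule.Quotient.mk (w • algebraMap A L c) = 0 ↔ _
    rw [Submodule.Quotient.mk_eq_zero, Submodule.mem_smul_pointwise_iff_exists]
    obtain ⟨⟨r, s⟩, rfl⟩ := IsLocalization.mk'_surjective P.primeCompl w
    rw [IsLocalization.AtPrime.mk'_mem_maximal_iff L P r s, hc]
    constructor
    · rintro ⟨q, -, hq⟩
      obtain ⟨⟨u, v⟩, rfl⟩ := IsLocalization.mk'_surjective P.primeCompl q
      simp only [smul_eq_mul, a'] at hq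
      rw [IsLocalization.mul_mk'_eq_mk'_of_mul, mul_comm (IsLocalization.mk' L r s), IsLocalization.mul_mk'_eq_mk'_of_mul,
        IsLocalization.mk'_eq_iff_eq] at hq
      have h := hinjL hq
      have : (v : A) * r ∈ P := (hc _).2 ⟨s * u, by linear_combination -h⟩
      exact (hc r).1 ((‹P.IsPrime›.mem_or_mem this).resolve_left v.2)
    · rintro ⟨u, hu⟩
      refine ⟨IsLocalization.mk' L u s, trivial, ?_⟩
      simp only [smul_eq_mul, a']
      rw [IsLocalization.mul_mk'_eq_mk'_of_mul, mul_comm (IsLocalization.mk' L r s), IsLocalization.mul_mk'_eq_mk'_of_mul,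
        ← hu, mul_comm r c]
  haveI : Nontrivial (QuotSMulTop a' L) := ⟨⟨z, 0, fun h => by
    have := (hz 1).1 (by rw [one_smul]; exact h)
    exact (IsLocalRing.maximalIdeal.isMaximal L).ne_top ((Ideal.eq_top_iff_one _).2 this)⟩⟩
  rw [Groth.Agent.CAlgH3.depth_eq_zero_iff.2, zero_add]
  exact isAssociatedPrime_iff.2 ⟨(IsLocalRing.maximalIdeal.isMaximal L).isPrime, z, by
    ext w; rw [Submodule.mem_colon_singleton, Submodule.mem_bot, hz]⟩

/-- Let A be a Noetherian integral domain satisfying Serre's condition (S_2), with fraction field K. An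
element of K which lies in the localization A_p for every prime p of A with depth(A_p) = 1 lies in
A. -/
theorem result {A : Type u} [CommRing A] [IsDomain A]
    [IsNoetherianRing A] (hS2 : LocCoh.HasSk 2 A A) (x : FractionRing A)
    (hx : ∀ (p : Ideal A) [p.IsPrime],
      LocCoh.depth (Localization.AtPrime p) (Localization.AtPrime p) = 1 →
        x ∈ Set.range (algebraMap (Localization.AtPrime p) (FractionRing A))) :
    x ∈ Set.range (algebraMap A (FractionRing A)) := by
  obtain ⟨⟨b, a, ha⟩, hba⟩ := IsLocalization.surj (nonZeroDivisors A) x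
  have ha0 : a ≠ 0 := nonZeroDivisors.ne_zero ha
  have hinj := IsFractionRing.injective A (FractionRing A)
  by_contra hnot
  have hb : (Ideal.Quotient.mk (Ideal.span {a}) b) ≠ 0 := by
    rw [Ne, Ideal.Quotient.eq_zero_iff_mem, Ideal.mem_span_singleton']
    rintro ⟨q, hq⟩
    refine hnot ⟨q, mul_right_cancel₀ ((map_ne_zero_iff _ hinj).2 ha0) ?_⟩
    rw [hba, ← map_mul, hq]
  obtain ⟨P, hP, hle⟩ := exists_le_isAssociatedPrime_of_isNoetherianRing A _ hb
  obtain ⟨hPp, z, hPz⟩ := isAssociatedPrime_iff.1 hP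
  obtain ⟨c, rfl⟩ := Ideal.Quotient.mk_surjective z
  have hc : ∀ r, r ∈ P ↔ a ∣ r * c := fun r => by
    rw [hPz, Submodule.mem_colon_singleton, Submodule.mem_bot, ← Ideal.Quotient.mk_eq_mk,
      ← Submodule.Quotient.mk_smul, Ideal.Quotient.mk_eq_mk, Ideal.Quotient.eq_zero_iff_mem, Ideal.mem_span_singleton, smul_eq_mul]
  have haP : a ∈ P := (hc a).2 (dvd_mul_right a c)
  obtain ⟨w, hw⟩ := hx P (depth_eq_one ha0 P haP hc)
  obtain ⟨⟨r, s⟩, hrs⟩ := IsLocalization.surj P.primeCompl w
  refine s.2 (hle ?_)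
  rw [Submodule.mem_colon_singleton, Submodule.mem_bot, ← Ideal.Quotient.mk_eq_mk,
      ← Submodule.Quotient.mk_smul, Ideal.Quotient.mk_eq_mk, Ideal.Quotient.eq_zero_iff_mem, Ideal.mem_span_singleton]
  refine ⟨r, hinj ?_⟩
  have h := congrArg (algebraMap (Localization.AtPrime P) (FractionRing A)) hrs
  simp only [map_mul, ← IsScalarTower.algebraMap_apply, hw] at h
  simp only [smul_eq_mul, map_mul]
  rw [← hba, ← h]
  ring

end Groth.Agent.S16667
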