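import Groth.Statements.S16671
import Groth.Agent.ReflEmbed.Main

set_option autoImplicit false
universe u
open CategoryTheory CategoryTheory.Limits AlgebraicGeometry
open Coh

namespace Groth.Agent.S16671

/-- Let k be a field, X an integral scheme locally of finite type over k carrying an ample invertible
module L, and E a coherent O_X-module all of whose stalks are reflexive. Then there are natural
numbers q, q', integers r, r' ≥ 1 and a coherent O_X-module E' with a short exact sequence 0 → E →
(L^q)^r → E' → 0 (tensor powers of L, direct sums of copies) and a monomorphism E' → (L^q')^r'; and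
E' is finite locally free whenever E is. (In the published statement X is an integral locally closed
subscheme of P^N_k, the sums are restrictions of O(m)^r with m any integer, and E is reflexive
coherent.) -/
theorem result (k : Type u) [Field k] (X : Scheme.{u})
    (f : X ⟶ Spec (CommRingCat.of k)) [LocallyOfFiniteType f] [IsIntegral X]
    (L : X.Modules) (hL : CohB1.IsAmple L) (E : X.Modules) (hE : Coh.IsCoh E)
    (hEr : ∀ x : X, Module.IsReflexive (X.presheaf.stalk x) (E.presheaf.stalk x)) :
    ∃ (q r q' r' : ℕ) (E' : X.Modules) (ι : E ⟶ ∐ fun _ : Fin r => CohB1.tensorPow L q)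
      (π : (∐ fun _ : Fin r => CohB1.tensorPow L q) ⟶ E') (w : ι ≫ π = 0)
      (ι' : E' ⟶ ∐ fun _ : Fin r' => CohB1.tensorPow L q'),
      1 ≤ r ∧ 1 ≤ r' ∧ (ShortComplex.mk ι π w).ShortExact ∧ Mono ι' ∧ Coh.IsCoh E' ∧
        (FlatMod.IsFinLocFree E → FlatMod.IsFinLocFree E') := by
  haveI : IsLocallyNoetherian X := LocallyOfFiniteType.isLocallyNoetherian f
  exact Groth.Agent.ReflEmbed.exists_twist_embedding hL hE hEr

end Groth.Agent.S16671
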