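import Groth.Statements.S16673
import Groth.Agent.AbCubeLib.PTorsion
import Groth.Agent.AbCubeLib.ChowKernel
import Groth.Agent.AbCubeLib.PointsBC
-- import your own Groth.Agent.* helpers here

set_option autoImplicit false
universe u
open CategoryTheory CategoryTheory.Limits MonoidalCategory CartesianMonoidalCategory MonObj GrpObj AlgebraicGeometry
open AbVar

namespace Groth.Agent.S16673

/-- Let k be a field of characteristic p > 0 with an algebraic closure k̄, let X and Y be abelian
varieties over k (proper, geometrically integral, commutative k-group schemes) and let h : X → Y be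
a homomorphism which is finite and surjective (an isogeny). If i and j are natural numbers such that
for every m ≥ 0 the group X[p^m](k̄) of k̄-valued points of X killed by p^m (k̄-valued points being
the k-morphisms Spec k̄ → X, a group under the group law of X) is isomorphic to (ℤ/p^m)^i and the
group Y[p^m](k̄) is isomorphic to (ℤ/p^m)^j (groups of points written multiplicatively), then i = j:
the p-rank is an isogeny invariant. -/
theorem result (k : Type u) [Field k] (p : ℕ) [Fact p.Prime] [CharP k p]
    (X Y : Over (Spec (CommRingCat.of k)))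
    [GrpObj X] [IsCommMonObj X] [IsProper X.hom] [GeometricallyIntegral X.hom]
    [GrpObj Y] [IsCommMonObj Y] [IsProper Y.hom] [GeometricallyIntegral Y.hom]
    (h : X ⟶ Y) [IsMonHom h] [IsFinite h.left] [Surjective h.left]
    (i j : ℕ)
    (hi : ∀ m : ℕ, Nonempty (AbDual.torsPts X (p ^ m)
      (Over.mk (Spec.map (CommRingCat.ofHom (algebraMap k (AlgebraicClosure k))))) ≃*
      Multiplicative (Fin i → ZMod (p ^ m))))
    (hj : ∀ m : ℕ, Nonempty (AbDual.torsPts Y (p ^ m)
      (Over.mk (Spec.map (CommRingCat.ofHom (algebraMap k (AlgebraicClosure k))))) ≃*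
      Multiplicative (Fin j → ZMod (p ^ m)))) :
    i = j := by
  classical
  have hp : p.Prime := Fact.out
  let T := Over.mk (Spec.map (CommRingCat.ofHom (algebraMap k (AlgebraicClosure k))))
  have hcount : ∀ (Z : Over (Spec (CommRingCat.of k))) [GrpObj Z] [IsCommMonObj Z] (r : ℕ),
      (∀ m : ℕ, Nonempty (AbDual.torsPts Z (p ^ m) T ≃* Multiplicative (Fin r → ZMod (p ^ m)))) →
      ∀ m, Nat.card (Groth.Agent.AbCubeLib.tors (Additive (T ⟶ Z)) (p ^ m)) = p ^ (r * m) := by
    intro Z _ _ r hr m
    haveI : NeZero (p ^ m) := ⟨(pow_pos hp.pos m).ne'⟩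
    rw [Groth.Agent.AbCubeLib.natCard_tors_additive, Nat.card_congr (hr m).some.toEquiv,
      Nat.card_congr Multiplicative.toAdd, Nat.card_pi, Finset.prod_const, Finset.card_univ, Fintype.card_fin,
      Nat.card_zmod, ← pow_mul, mul_comm]
  let f : Additive (T ⟶ X) →+ Additive (T ⟶ Y) :=
    MonoidHom.toAdditive (MonoidHom.mk' (fun a : T ⟶ X => a ≫ h) fun a b => MonObj.mul_comp a b h)
  haveI : Finite f.ker :=
    haveI : Finite {b : T ⟶ X | b ≫ h = 1} :=
      (Groth.Agent.AbCubeLib.finite_extPt_ker (L := AlgebraicClosure k) h).to_subtype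
    Finite.of_injective (fun x : f.ker => (⟨Additive.toMul x.1, congrArg Additive.toMul x.2⟩ : {b : T ⟶ X | b ≫ h = 1}))
      fun x y hxy => Subtype.ext (Additive.toMul.injective (congrArg Subtype.val hxy))
  haveI : LocallyOfFiniteType h.left := inferInstance
  have hsurj : Function.Surjective f := fun z => by
    obtain ⟨y, hy⟩ := Groth.Agent.AbCubeLib.exists_pts_lift_of_surjective h (Additive.toMul z)
    exact ⟨Additive.ofMul y, congrArg Additive.ofMul hy⟩
  haveI : IsFinite ((𝟙 X) ^ p).left := Groth.Agent.AbCubeLib.isFinite_pow (A := X) hp.pos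
  haveI : Surjective ((𝟙 X) ^ p).left := Groth.Agent.AbCubeLib.surjective_pow (A := X) hp.pos
  have hdiv : Function.Surjective fun x : Additive (T ⟶ X) => p • x := fun x => by
    obtain ⟨y, hy⟩ := Groth.Agent.AbCubeLib.exists_pts_lift_of_surjective ((𝟙 X) ^ p) (Additive.toMul x)
    refine ⟨Additive.ofMul y, Additive.toMul.injective ?_⟩
    show Additive.toMul (p • Additive.ofMul y) = Additive.toMul x
    rw [toMul_nsmul, ← hy, MonObj.comp_pow, Category.comp_id]
    rfl
  exact Groth.Agent.AbCubeLib.rank_eq_of_surjective hp.one_lt hdiv f hsurj (hcount X i hi) (hcount Y j hj)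

end Groth.Agent.S16673
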