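import Groth.Statements.S16674
import Groth.Agent.AlgGrpLib.EtaleOrder
import Groth.Agent.AbCubeLib.PointCount
import Groth.Agent.OT.Generic
import Mathlib.RingTheory.HopfAlgebra.Convolution
import Mathlib.RingTheory.Etale.Field
import Mathlib.GroupTheory.Perm.Cycle.Type

set_option autoImplicit false
universe u
open CartDual

namespace Groth.Agent.S16674
open WithConv TensorProduct

set_option maxHeartbeats 1000000 in
set_option maxRecDepth 4000 in
/-- Let k be a field of characteristic p > 0 and A a finite-dimensional commutative and cocommutative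
Hopf algebra over k, the coordinate ring of a finite commutative k-group scheme G, with Cartier dual
the convolution Hopf algebra Hom_k(A, k). Then G is étale-étale, i.e. both A and its dual are étale
k-algebras, if and only if p does not divide the rank dim_k A of G. -/
theorem result (k : Type u) [Field k] (p : ℕ) [Fact p.Prime] [CharP k p]
    (A : Type u) [CommRing A] [HopfAlgebra k A] [Coalgebra.IsCocomm k A] [FiniteDimensional k A] :
    (Algebra.Etale k A ∧ Algebra.Etale k (CartDual.D k A)) ↔ ¬ p ∣ Module.finrank k A := by
  have hfin : Module.finrank k (CartDual.D k A) = Module.finrank k A :=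
    (CartDual.toDual k A).finrank_eq.trans Subspace.dual_finrank_eq
  refine ⟨fun ⟨hA, hD⟩ hdvd => ?_, fun hp => ?_⟩
  swap
  · have h : (Module.finrank k A : k) ≠ 0 := fun h => hp ((CharP.cast_eq_zero_iff k p _).1 h)
    exact ⟨Groth.Agent.AlgGrpLib.EtaleOrder.etale_hopf k A h, Groth.Agent.AlgGrpLib.EtaleOrder.etale_hopf k (CartDual.D k A) (by rwa [hfin])⟩
  classical
  let L := AlgebraicClosure k
  -- the geometric points
  haveI : IsReduced (L ⊗[k] A) := Algebra.FormallyUnramified.isReduced_of_field L (L ⊗[k] A)
  haveI : Finite (L ⊗[k] A →ₐ[L] L) := by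
    have := minpoly.AlgHom.fintype L (L ⊗[k] A) L
    infer_instance
  let pts : (L ⊗[k] A →ₐ[L] L) ≃ WithConv (A →ₐ[k] L) :=
    { toFun := fun χ => toConv ((χ.restrictScalars k).comp Algebra.TensorProduct.includeRight)
      invFun := fun u => Algebra.TensorProduct.lift (AlgHom.id L L) u.ofConv fun _ _ => .all _ _
      left_inv := fun χ => by
        refine Algebra.TensorProduct.ext (Subsingleton.elim _ _) (AlgHom.ext fun a => ?_)
        simp
      right_inv := fun u => WithConv.ext (AlgHom.ext fun a => by simp) }
  have hcard : Nat.card (WithConv (A →ₐ[k] L)) = Module.finrank k A := by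
    rw [← Nat.card_congr pts, Groth.Agent.AbCubeLib.natCard_algHom_eq_of_isReduced, Module.finrank_baseChange]
  haveI : Finite (WithConv (A →ₐ[k] L)) := Finite.of_equiv _ pts
  letI : Group (WithConv (A →ₐ[k] L)) :=
    { inv := fun u => toConv (u.ofConv.comp (HopfAlgebra.antipodeAlgHom k A))
      inv_mul_cancel := fun u => WithConv.ext (AlgHom.ext fun x => by
        rw [AlgHom.convMul_apply]
        have h := congrArg u.ofConv (HopfAlgebra.mul_antipode_rTensor_comul_apply (R := k) x)
        rw [AlgHom.commutes] at h
        refine Eq.trans ?_ (h.trans (AlgHom.convOne_apply x).symm)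
        induction Coalgebra.comul (R := k) x using TensorProduct.induction_on with
        | zero => simp
        | tmul a c => simp
        | add a c ha hc => simp only [map_add, ha, hc]) }
  obtain ⟨u, hu⟩ := exists_prime_orderOf_dvd_card' p (hcard ▸ hdvd)
  -- the dual algebra over the closure is reduced
  haveI : IsReduced (L ⊗[k] CartDual.D k A) :=
    Algebra.FormallyUnramified.isReduced_of_field L (L ⊗[k] CartDual.D k A)
  let post : CartDual.D k A →ₐ[k] WithConv (A →ₗ[k] L) :=
    { toFun := fun f => toConv ((Algebra.ofId k L).toLinearMap ∘ₗ f.ofConv)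
      map_one' := by
        refine WithConv.ext (LinearMap.ext fun a => ?_)
        simp [LinearMap.convOne_def, Algebra.ofId_apply]
      map_mul' := fun f g => Groth.Agent.OT.comp_convMul (Algebra.ofId k L) f g
      map_zero' := by simp
      map_add' := fun f g => by simp [LinearMap.comp_add]
      commutes' := fun c => by
        refine WithConv.ext (LinearMap.ext fun a => ?_)
        simp [Algebra.algebraMap_eq_smul_one, LinearMap.convOne_def, Algebra.ofId_apply, mul_smul] }
  haveI : IsScalarTower k L (WithConv (A →ₗ[k] L)) := IsScalarTower.of_algebraMap_eq fun c =>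
    WithConv.ext (LinearMap.ext fun a => by
      simp [Algebra.algebraMap_eq_smul_one, LinearMap.convOne_def])
  let Φ : L ⊗[k] CartDual.D k A →ₐ[L] WithConv (A →ₗ[k] L) :=
    Algebra.TensorProduct.lift (Algebra.ofId L _) post fun _ _ => .all _ _
  let b := Module.finBasis k A
  have hsurj : Function.Surjective Φ := fun f => by
    refine ⟨∑ i, (f.ofConv (b i)) ⊗ₜ[k] toConv (b.coord i), WithConv.ext (b.ext fun j => ?_)⟩
    rw [map_sum]
    simp [Φ, post, Algebra.TensorProduct.lift_tmul, Algebra.ofId_apply, Algebra.algebraMap_eq_smul_one,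
      Finsupp.single_apply]
  haveI : Module.Finite L (WithConv (A →ₗ[k] L)) := Module.Finite.of_surjective Φ.toLinearMap hsurj
  have hrk : Module.finrank L (L ⊗[k] CartDual.D k A) = Module.finrank L (WithConv (A →ₗ[k] L)) := by
    rw [Module.finrank_baseChange, hfin, (WithConv.linearEquiv L (A →ₗ[k] L)).finrank_eq, Module.finrank_linearMap,
      Module.finrank_self, mul_one]
  have hinj : Function.Injective Φ :=
    (LinearMap.injective_iff_surjective_of_finrank_eq_finrank hrk (f := Φ.toLinearMap)).2 hsurj
  haveI : IsReduced (WithConv (A →ₗ[k] L)) :=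
    isReduced_of_injective (AlgEquiv.ofBijective Φ ⟨hinj, hsurj⟩).symm.toRingHom
      (AlgEquiv.ofBijective Φ ⟨hinj, hsurj⟩).symm.injective
  haveI : CharP L p := charP_of_injective_algebraMap (algebraMap k L).injective p
  let v : WithConv (A →ₗ[k] L) := toConv u.ofConv.toLinearMap
  have hv : v ^ p = 1 := by
    have hup : u ^ p = 1 := by rw [← hu]; exact pow_orderOf_eq_one u
    have h := congrArg (fun w : WithConv (A →ₐ[k] L) => toConv w.ofConv.toLinearMap) hup
    simp only [AlgHom.toLinearMap_convPow, AlgHom.toLinearMap_convOne] at h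
    exact h
  haveI : Nontrivial (WithConv (A →ₗ[k] L)) := ⟨⟨1, 0, fun h => by
    have := congrArg (fun w : WithConv (A →ₗ[k] L) => w.ofConv 1) h
    simp [LinearMap.convOne_def] at this⟩⟩
  haveI : CharP (WithConv (A →ₗ[k] L)) p :=
    charP_of_injective_algebraMap (algebraMap L (WithConv (A →ₗ[k] L))).injective p
  have hv1 : v = 1 := by
    rw [← sub_eq_zero]
    refine IsReduced.eq_zero _ ⟨p, ?_⟩
    rw [sub_pow_char, hv, one_pow, sub_self]
  have hu1 : u = 1 := by
    refine WithConv.ext (AlgHom.toLinearMap_injective (WithConv.toConv_injective ?_))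
    rw [AlgHom.toLinearMap_convOne]
    exact hv1
  rw [hu1] at hu
  exact (Fact.out : p.Prime).ne_one (hu.symm.trans orderOf_one)

end Groth.Agent.S16674
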