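import Groth.Statements.S16676
import Groth.Agent.AbVarLib.KernelTorsor
import Mathlib.AlgebraicGeometry.Morphisms.UniversallyInjective
import Mathlib.AlgebraicGeometry.Morphisms.Finite
open CategoryTheory MonoidalCategory CartesianMonoidalCategory MonObj GrpObj

set_option autoImplicit false
universe u
open CategoryTheory CategoryTheory.Limits MonoidalCategory CartesianMonoidalCategory MonObj GrpObj AlgebraicGeometry
open AbVar

namespace Groth.Agent.S16676

/-- The equivalence of its second and third conditions. Let X and Y be abelian varieties over a field k
(proper, geometrically integral k-group schemes), f : X → Y a homomorphism which is finite, flat and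
surjective (an isogeny), and i : N → X the kernel of f (the square formed by i, f, the unit section
of Y and the structure map of N is cartesian). Then f is universally injective (a purely inseparable
morphism) if and only if the scheme N is connected. (The published item also includes the equivalent
condition that the function field of X is purely inseparable over that of Y; that clause is not part
of this statement.) -/
theorem result (k : Type u) [Field k]
    (X Y : Over (Spec (CommRingCat.of k)))
    [GrpObj X] [IsProper X.hom] [GeometricallyIntegral X.hom]
    [GrpObj Y] [IsProper Y.hom] [GeometricallyIntegral Y.hom]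
    (f : X ⟶ Y) [IsMonHom f] [IsFinite f.left] [Flat f.left] [Surjective f.left]
    (N : Over (Spec (CommRingCat.of k))) (i : N ⟶ X) (hN : AlgGrp.IsKernel i f) :
    UniversallyInjective f.left ↔ ConnectedSpace ↥N.left := by
  have := Groth.Agent.AbVarLib.isFinite_kernel f i hN
  let e : 𝟙_ (Over (Spec (CommRingCat.of k))) ⟶ N := hN.lift η[X] (toUnit _)
    (by rw [IsMonHom.one_hom, toUnit_unique (toUnit (𝟙_ (Over (Spec (CommRingCat.of k))))) (𝟙 _), Category.id_comp])
  have hes : e.left ≫ N.hom = 𝟙 _ := Over.w e
  constructor
  · intro h
    have := Groth.Agent.AbVarLib.kernel_of f i @UniversallyInjective hN h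
    have : Subsingleton ↥N.left := N.hom.injective.subsingleton
    have : Nonempty ↥N.left := ⟨e.left (IsLocalRing.closedPoint k)⟩
    exact { toPreconnectedSpace := ⟨Set.subsingleton_univ.isPreconnected⟩, toNonempty := ‹_› }
  · intro h
    refine Groth.Agent.AbVarLib.of_kernel f i @UniversallyInjective hN ?_
    have hd : DiscreteTopology ↥N.left := by
      obtain ⟨p⟩ : Nonempty ↥(Spec (CommRingCat.of k)) := inferInstance
      have hq := N.hom.isDiscrete_preimage_singleton p
      have hu : N.hom ⁻¹' {p} = Set.univ := Set.eq_univ_of_forall fun z => Subsingleton.elim (α := ↥(Spec (CommRingCat.of k))) _ _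
      rw [hu] at hq
      exact isDiscrete_univ_iff.1 hq
    have hs : Subsingleton ↥N.left := Set.subsingleton_univ_iff.1 isPreconnected_univ.subsingleton
    refine ((tfae_universallyInjective N.hom).out 0 2 rfl rfl).2 ⟨fun a b _ => Subsingleton.elim a b, fun x => ?_⟩
    have hsurj : Function.Surjective (N.hom.residueFieldMap x).hom := by
      intro z
      obtain ⟨p⟩ : Nonempty ↥(Spec (CommRingCat.of k)) := inferInstance
      obtain rfl : x = e.left p := Subsingleton.elim _ _
      have h1 : IsIso ((e.left ≫ N.hom).residueFieldMap p) := by
        rw [Scheme.Hom.residueFieldMap_congr hes]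
        infer_instance
      have h2 := (ConcreteCategory.bijective_of_isIso ((e.left ≫ N.hom).residueFieldMap p)).2
      rw [Scheme.residueFieldMap_comp] at h2
      obtain ⟨a, ha⟩ := h2 ((e.left.residueFieldMap p).hom z)
      exact ⟨a, (e.left.residueFieldMap p).hom.injective ha⟩
    algebraize [(N.hom.residueFieldMap x).hom]
    exact (AlgEquiv.ofBijective (Algebra.ofId ((Spec (CommRingCat.of k)).residueField (N.hom x)) (N.left.residueField x))
      ⟨(N.hom.residueFieldMap x).hom.injective, hsurj⟩).isPurelyInseparable

end Groth.Agent.S16676
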