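import Groth.Statements.S1668
import Groth.Agent.VarietyLib.NormalBaseChange
import Groth.Agent.VarietyLib.PiNormal

set_option autoImplicit false
universe u
open CategoryTheory CategoryTheory.Limits AlgebraicGeometry
open Variety
open Groth.Agent
open scoped TensorProduct
attribute [local instance] Curv2.stalkAlgebra

namespace Groth.Agent.S1668

theorem isNormalRing_field (K : Type u) [Field K] : EGA4.IsNormalRing K :=
  VarietyLib.isNormalRing_of_artinian_reduced K

/-- Normality over finite purely inseparable extensions gives normality of `O_x ⊗ K` for all `K`. -/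
theorem isNormalRing_stalk_tensor (k : Type u) [Field k] (S : Type u) [CommRing S] [Algebra k S]
    (h : ∀ (k' : Type u) [Field k'] [Algebra k k'], Module.Finite k k' → IsPurelyInseparable k k' →
      EGA4.IsNormalRing (k' ⊗[k] S))
    (K : Type u) [Field K] [Algebra k K] : EGA4.IsNormalRing (S ⊗[k] K) :=
  CommAlg6.NormalTensor.isNormalRing_tensor_of_isGeomNormal k S K
    (VarietyLib.isGeomNormal_of_purelyInseparable k S h) (isNormalRing_field K)


/-- Let X be a scheme over k such that X_{k'} is a normal scheme (all local rings integrally closed
domains) for every finite purely inseparable extension k' of k. Then X_K is a normal scheme for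
every field extension K of k. -/
theorem result (k : Type u) [Field k] (X : Scheme.{u}) [X.Over (Spec (CommRingCat.of k))]
    (h : ∀ (k' : Type u) [Field k'] [Algebra k k'] [FiniteDimensional k k'] [IsPurelyInseparable k k'],
      Pi1.IsNormalScheme (Curv2.bc k X k'))
    (K : Type u) [Field K] [Algebra k K] : Pi1.IsNormalScheme (Curv2.bc k X K) := by
  intro z
  refine VarietyLib.isNormal_stalk_bc k X K (Curv2.bcFst k X K z) ?_ z specializes_rfl
  refine isNormalRing_stalk_tensor k _ (fun k' _ _ hf hpi => ?_) K
  haveI : FiniteDimensional k k' := hf
  exact CommAlg6.isNormalRing_of_ringEquiv (Algebra.TensorProduct.comm k _ k').toRingEquiv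
    (VarietyLib.isNormalRing_tensor_of_stalks k X k' _ fun w _ => h k' w)

end Groth.Agent.S1668
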