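import Groth.Statements.S16682
import Groth.Agent.CubeLib.FibreRankLoci
-- import your own Groth.Agent.* helpers here

set_option autoImplicit false
universe u
open CategoryTheory CategoryTheory.Limits MonoidalCategory CartesianMonoidalCategory AlgebraicGeometry
open AbVar

namespace Groth.Agent.S16682

/-- Let k be a field, X a proper geometrically integral k-scheme (a complete variety), Y a variety over
k (separated, of finite type, geometrically integral), and L, M two invertible modules on X ×_k Y
(the product in the category of k-schemes). If for every closed point y of Y the restrictions of L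
and M to the fibre X ×_k Spec k(y) are isomorphic, then there is an invertible O_Y-module N with L
isomorphic to M ⊗ p^*N, where p : X ×_k Y → Y is the second projection (existence of an isomorphism;
N is determined only up to isomorphism). -/
theorem result (k : Type u) [Field k]
    (X Y : Over (Spec (CommRingCat.of k)))
    [IsProper X.hom] [GeometricallyIntegral X.hom]
    [IsSeparated Y.hom] [QuasiCompact Y.hom] [LocallyOfFiniteType Y.hom] [GeometricallyIntegral Y.hom]
    (L M : (X ⊗ Y).left.Modules) (hL : PicF.IsInvertible L) (hM : PicF.IsInvertible M)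
    (h : ∀ y : ↥Y.left, IsClosed ({y} : Set ↥Y.left) →
      Nonempty ((Scheme.Modules.pullback (pullback.fst (snd X Y).left (Y.left.fromSpecResidueField y))).obj L ≅
        (Scheme.Modules.pullback (pullback.fst (snd X Y).left (Y.left.fromSpecResidueField y))).obj M)) :
    ∃ N : Y.left.Modules, PicF.IsInvertible N ∧
      Nonempty (L ≅ CohB1.tensorMod M ((Scheme.Modules.pullback (snd X Y).left).obj N)) := by
  have hP : CategoryTheory.IsPullback (fst X Y).left (snd X Y).left X.hom Y.hom := CategoryTheory.IsPullback.of_hasPullback X.hom Y.hom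
  have : IsProper (snd X Y).left := CategoryTheory.MorphismProperty.of_isPullback (P := @IsProper) hP inferInstance
  have : Flat X.hom := Groth.Agent.CubeLib.flat_of_field _
  have : Flat (snd X Y).left := CategoryTheory.MorphismProperty.of_isPullback (P := @Flat) hP inferInstance
  have : GeometricallyIntegral (snd X Y).left := CategoryTheory.MorphismProperty.of_isPullback (P := @GeometricallyIntegral) hP inferInstance
  have : GeometricallyConnected (snd X Y).left := ⟨fun K _ w Q a b h => by
    have := GeometricallyIrreducible.geometrically_irreducibleSpace (f := (snd X Y).left) w a b h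
    infer_instance⟩
  have : IsIntegral Y.left := GeometricallyIntegral.isIntegral_of_subsingleton Y.hom
  have : IsLocallyNoetherian Y.left := LocallyOfFiniteType.isLocallyNoetherian Y.hom
  have : JacobsonSpace Y.left := LocallyOfFiniteType.jacobsonSpace Y.hom
  have hint : ∀ y : Y.left, IsIntegral ((snd X Y).left.fiber y) := fun y =>
    GeometricallyIntegral.geometrically_isIntegral (f := (snd X Y).left) _ _ _
      (CategoryTheory.IsPullback.of_hasPullback (snd X Y).left (Y.left.fromSpecResidueField y))
  obtain ⟨b, hb⟩ := Groth.Agent.PicLib.PicM.exists_mul_eq_one (Groth.Agent.PicLib.PicM.of hM)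
  obtain ⟨N, hN, hNe⟩ := Groth.Agent.PicLib.PicM.exists_eq_of (Groth.Agent.PicLib.PicM.of hL * b)
  have hall : ∀ y, Groth.Agent.PicLib.PicM.pull ((snd X Y).left.fiberι y) (Groth.Agent.PicLib.PicM.of hN) = 1 := by
    intro y
    by_contra hy
    obtain ⟨z, hz, hzc⟩ := nonempty_inter_closedPoints
      (Z := {y : Y.left | Groth.Agent.PicLib.PicM.pull ((snd X Y).left.fiberι y) (Groth.Agent.PicLib.PicM.of hN) = 1}ᶜ) ⟨y, hy⟩
      (Groth.Agent.CubeLib.isClosed_setOf_trivial_fibre (snd X Y).left hint hN).isOpen_compl.isLocallyClosed
    refine hz ?_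
    show Groth.Agent.PicLib.PicM.pull ((snd X Y).left.fiberι z) (Groth.Agent.PicLib.PicM.of hN) = 1
    rw [← hNe, map_mul, show Groth.Agent.PicLib.PicM.pull ((snd X Y).left.fiberι z) (Groth.Agent.PicLib.PicM.of hL) = Groth.Agent.PicLib.PicM.pull ((snd X Y).left.fiberι z) (Groth.Agent.PicLib.PicM.of hM) by
      rw [Groth.Agent.PicLib.PicM.pull_of, Groth.Agent.PicLib.PicM.pull_of]
      exact (Groth.Agent.PicLib.PicM.of_eq_iff _ _).2 (h z hzc), ← map_mul, hb, map_one]
  obtain ⟨e, he⟩ := Groth.Agent.CubeLib.exists_pull_eq (f := (snd X Y).left) (Groth.Agent.CubeLib.bijective_algebraMap_fibre _) (Groth.Agent.PicLib.PicM.of hN) hall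
  obtain ⟨E, hE, rfl⟩ := Groth.Agent.PicLib.PicM.exists_eq_of e
  refine ⟨E, hE, ?_⟩
  have key : Groth.Agent.PicLib.PicM.of hL = Groth.Agent.PicLib.PicM.of hM * Groth.Agent.PicLib.PicM.pull (snd X Y).left (Groth.Agent.PicLib.PicM.of hE) := by
    rw [he, ← hNe, _root_.mul_left_comm, hb, _root_.mul_one]
  rw [Groth.Agent.PicLib.PicM.pull_of, Groth.Agent.PicLib.PicM.of_mul] at key
  exact (Groth.Agent.PicLib.PicM.of_eq_iff _ _).1 key

end Groth.Agent.S16682
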