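import Groth.Statements.S16683
import Groth.Agent.AbCohLib.PicSmooth
-- import your own Groth.Agent.* helpers here

set_option autoImplicit false
set_option linter.style.haveILetI false
set_option backward.isDefEq.respectTransparency.types false
universe u
open CategoryTheory CategoryTheory.Limits MonoidalCategory CartesianMonoidalCategory MonObj GrpObj AlgebraicGeometry
open AbVar

namespace Groth.Agent.S16683

open CategoryTheory CategoryTheory.Limits MonObj AlgebraicGeometry in
open Groth.Agent in
/-- Fix a field k and a g-dimensional abelian variety X over k (a proper, geometrically integral k-group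
scheme with underlying space of Krull dimension g), and let P be a k-scheme locally of finite type
which represents, through φ, the relative Picard functor Pic_{X/k} (the fppf sheaf associated to T ↦
Pic(X ×_k T)). Then P is smooth over k — in particular its identity component Pic⁰_{X/k}, the dual
of X, is reduced and hence an abelian variety — and the underlying space of P has Krull dimension g
= dim X. (The published statement also identifies g with dim_k H^1(X, O_X) and the kernel of φ_L
with K(L) for L ample; those clauses are not part of this statement. The Picard scheme is taken as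
given.) -/
theorem result (k : Type u) [Field k]
    (X : Over (Spec (CommRingCat.of k))) [GrpObj X] [IsProper X.hom] [GeometricallyIntegral X.hom]
    (g : ℕ) (hg : topologicalKrullDim ↥X.left = g)
    (P : Over (Spec (CommRingCat.of k)))
    (φ : ∀ T : Over (Spec (CommRingCat.of k)), PicF.Cl (PicF.XT X.hom T) → (T ⟶ P))
    (hP : AbDual.IsRelPicK Scheme.fppfPrecoverage X.hom P φ) [LocallyOfFiniteType P.hom] :
    Smooth P.hom ∧ topologicalKrullDim ↥P.left = g := by
  letI : X.left.Over (Spec (CommRingCat.of k)) := ⟨X.hom⟩
  haveI : IsSeparated (X.left ↘ Spec (CommRingCat.of k)) := inferInstanceAs (IsSeparated X.hom)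
  haveI : QuasiCompact (X.left ↘ Spec (CommRingCat.of k)) := inferInstanceAs (QuasiCompact X.hom)
  have hP' : PicRel.IsRelPic (X.left ↘ Spec (CommRingCat.of k)) P φ :=
    Groth.Agent.AbCohLib.isRelPic_of_isRelPicK η[X].left (Over.w η[X])
      (fun T U => Groth.Agent.AbCohLib.isIso_XTproj_app X T U) hP
  let K := AlgebraicClosure k
  let j : Spec (CommRingCat.of K) ⟶ Spec (CommRingCat.of k) :=
    Spec.map (CommRingCat.ofHom (algebraMap k K))
  let XK : Over (Spec (CommRingCat.of K)) := (Over.pullback j).obj X
  letI : GrpObj XK := Functor.grpObjObj
  haveI : IsProper XK.hom := inferInstanceAs (IsProper (Limits.pullback.snd X.hom j))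
  haveI : GeometricallyIntegral XK.hom :=
    inferInstanceAs (GeometricallyIntegral (Limits.pullback.snd X.hom j))
  let PK : Over (Spec (CommRingCat.of K)) := Over.mk (Limits.pullback.snd P.hom j)
  haveI : LocallyOfFiniteType PK.hom := inferInstanceAs (LocallyOfFiniteType (Limits.pullback.snd P.hom j))
  have hgK : topologicalKrullDim XK.left = g := (Groth.Agent.DimLib.topologicalKrullDim_bc X.hom K).trans hg
  have hge : (g : WithBot ℕ∞) ≤ topologicalKrullDim P.left :=
    (Groth.Agent.AbCohLib.dim_le_pic XK hgK (P := PK) (Groth.Agent.S17906.result X.hom j P φ hP')).trans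
      (Groth.Agent.DimLib.topologicalKrullDim_bc P.hom K).le
  have h1 : Module.finrank k (Coh.HH X.left (Coh.structureModule X.left) 1) = g := by
    letI : XK.left.Over (Spec (CommRingCat.of K)) := ⟨XK.hom⟩
    haveI : CompactSpace X.left := QuasiCompact.compactSpace_of_compactSpace X.hom
    haveI : QuasiSeparatedSpace X.left :=
      (HasAffineProperty.iff_of_isAffine (P := @QuasiSeparated) (f := X.hom)).mp inferInstance
    rw [← Groth.Agent.CurveRR24.finrank_HH_structure_bc (k := k) (K := K) (X := X.left) (X' := XK.left)
      (g := Limits.pullback.fst X.hom j) (IsPullback.of_hasPullback X.hom j) 1,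
      Groth.Agent.AbCohLib.finrank_HH_structure XK hgK 1, Nat.choose_one_right]
  obtain ⟨hle, hiff⟩ := Groth.Agent.H8Coh.PicDim.dim_le_and_smooth_iff hP'
  rw [Groth.Agent.H8Coh.PicDim.dim_at_origin hP', h1] at hle hiff
  have hd : topologicalKrullDim P.left = g := le_antisymm hle hge
  exact ⟨hiff.2 hd, hd⟩

end Groth.Agent.S16683
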