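import Groth.Statements.S16685
import Groth.Agent.SGA3cLib.HeightOne
import Mathlib.RingTheory.Artinian.Ring

set_option autoImplicit false
universe u
open HopfRep

namespace Groth.Agent.S16685

/-- The description of the kernel of Frobenius established in the course of the proof. Let k be a field
of characteristic p > 0 and A a finite-dimensional commutative Hopf algebra over k which is a local
ring, the coordinate ring of a connected finite k-group scheme G; let I be the augmentation ideal
(the kernel of the counit), d = dim_k I/I² the dimension of the tangent space at the identity, and J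
⊆ A the ideal generated by the p-th powers of the elements of I, so that A/J is the coordinate ring
of the kernel G[F] of the relative Frobenius. Then A/J is isomorphic as a k-algebra to k[X_1, …,
X_d]/(X_1^p, …, X_d^p) (existence of an isomorphism; it depends on the choice of elements of I
lifting a basis of I/I²); in particular G[F] has rank p^d. -/
theorem result (k : Type u) [Field k] (p : ℕ) [Fact p.Prime] [CharP k p]
    (A : Type u) [CommRing A] [HopfAlgebra k A] [FiniteDimensional k A] [IsLocalRing A]
    (d : ℕ) (hd : Module.finrank k (RingHom.ker (Bialgebra.counitAlgHom k A).toRingHom).Cotangent = d) :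
    Nonempty ((A ⧸ Ideal.span ((fun a : A => a ^ p) '' (RingHom.ker (Bialgebra.counitAlgHom k A).toRingHom : Set A))) ≃ₐ[k]
      (MvPolynomial (Fin d) k ⧸ Ideal.span (Set.range fun i : Fin d => (MvPolynomial.X i : MvPolynomial (Fin d) k) ^ p))) := by
  haveI : IsArtinianRing A := IsArtinianRing.of_finite k A
  exact Groth.Agent.SGA3cLib.exists_algEquiv_frobeniusKernel k p A
    (by
      haveI : Nontrivial A := RingHom.domain_nontrivial (Bialgebra.counitAlgHom k A).toRingHom
      rw [IsLocalRing.eq_maximalIdeal (RingHom.ker_isMaximal_of_surjective
        (Bialgebra.counitAlgHom k A).toRingHom fun t => ⟨algebraMap k A t, (Bialgebra.counitAlgHom k A).commutes t⟩),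
        ← IsLocalRing.jacobson_eq_maximalIdeal (⊥ : Ideal A) bot_ne_top]
      exact IsArtinianRing.isNilpotent_jacobson_bot) d hd

end Groth.Agent.S16685
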