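import Groth.Statements.S16687
import Groth.Agent.AbCubeLib.Invariant
import Groth.Agent.AbCubeLib.MulBy
import Groth.Agent.AbCubeLib.Torsion
import Groth.Agent.AbCubeLib.FiniteProduct
import Groth.Agent.CubeLib.FieldChange
import Groth.Agent.AbSchLib.GlobalSections
-- import your own Groth.Agent.* helpers here

set_option autoImplicit false
universe u
open CategoryTheory CategoryTheory.Limits MonoidalCategory CartesianMonoidalCategory MonObj GrpObj AlgebraicGeometry
open AbVar

namespace Groth.Agent.S16687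

/-- A class trivial after extending the ground field is trivial. -/
theorem eq_one_of_bc {k K : Type u} [Field k] [Field K] {g : Spec (CommRingCat.of K) ⟶ Spec (CommRingCat.of k)}
    {W : Over (Spec (CommRingCat.of k))} [IsProper W.hom] [GeometricallyIntegral W.hom] {P : Scheme.{u}}
    {p : P ⟶ W.left} {q : P ⟶ Spec (CommRingCat.of K)} (H : IsPullback p q W.hom g) (b : PicLib.PicM W.left)
    (h : PicLib.PicM.pull p b = 1) : b = 1 := by
  obtain ⟨L, hL, rfl⟩ := PicLib.PicM.exists_eq_of b
  have : Flat g := CubeLib.flat_of_field g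
  have : GeometricallyConnected W.hom := CubeLib.geometricallyConnected_hom W
  have hbij : ∀ U : (Spec (CommRingCat.of k)).Opens, Function.Bijective (W.hom.app U) := by
    intro U
    by_cases hU : U = ⊤
    · subst hU; exact AbSchLib.bijective_appTop_of_field k W.hom
    · have hU' : U = ⊥ := by
        refine TopologicalSpace.Opens.ext (Set.eq_empty_iff_forall_notMem.2 fun x hx => hU ?_)
        exact TopologicalSpace.Opens.ext (Set.eq_univ_of_forall fun y => Subsingleton.elim (α := PrimeSpectrum k) x y ▸ hx)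
      subst hU'
      haveI : Subsingleton Γ(Spec (CommRingCat.of k), ⊥) := inferInstance
      haveI : Subsingleton Γ(W.left, W.hom ⁻¹ᵁ ⊥) := by rw [Scheme.Hom.preimage_bot]; infer_instance
      exact ⟨fun _ _ _ => Subsingleton.elim _ _, fun z => ⟨0, Subsingleton.elim _ _⟩⟩
  obtain ⟨hN, hiso⟩ := PicLib.exists_descend_of_flat_cover W.hom hbij hL
    (fun _ : PUnit.{1} => Spec (CommRingCat.of K)) (fun _ => g)
    (fun y => ⟨PUnit.unit, IsLocalRing.closedPoint K, Subsingleton.elim (α := PrimeSpectrum k) _ _⟩)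
    (fun Z' _ => (Subsingleton.set_cases (α := PrimeSpectrum k) (p := IsOpen) isOpen_empty isOpen_univ Z'))
    (fun _ => 1) (fun _ => by
      rw [map_one]
      refine (congrArg (fun σ => PicLib.PicM.pull σ (PicLib.PicM.of hL)) H.isoPullback_inv_fst.symm).trans ?_
      exact (PicLib.PicM.pull_pull _ _ _).symm.trans ((congrArg (PicLib.PicM.pull _) h).trans (map_one _)))
  have e : PicLib.PicM.of hL = PicLib.PicM.pull W.hom (PicLib.PicM.of hN) := by
    rw [PicLib.PicM.pull_of, PicLib.PicM.of_eq_iff]
    exact ⟨(asIso ((Scheme.Modules.pullbackPushforwardAdjunction W.hom).counit.app L)).symm⟩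
  rw [e, PicLib.PicM.eq_one_of_field k (PicLib.PicM.of hN), map_one]

/-- Let X be an abelian variety over a field k (a proper, geometrically integral k-group scheme) with
group law m : X ×_k X → X and projections p₁, p₂, let L be an invertible O_X-module, and let n ≥ 2
be an integer such that n^*L ≅ L^{⊗ n}, where n : X → X is multiplication by n (the n-th power of
the identity in the group of endomorphisms). Then the class of L lies in Pic⁰_{X/k}, i.e. the
Mumford module of L is trivial: m^*L ≅ p₁^*L ⊗ p₂^*L (existence of an isomorphism of modules on X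
×_k X). (The published statement allows any integer n other than 0 and 1, negative n included; this
row takes n a natural number with n ≥ 2. The converse implication also holds; this row is the
direction from one such n.) -/
theorem result (k : Type u) [Field k]
    (X : Over (Spec (CommRingCat.of k))) [GrpObj X] [IsProper X.hom] [GeometricallyIntegral X.hom]
    (L : X.left.Modules) (hL : PicF.IsInvertible L) (n : ℕ) (hn : 2 ≤ n)
    (h : Nonempty ((Scheme.Modules.pullback (𝟙 X ^ n).left).obj L ≅ CohB1.tensorPow L n)) :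
    Nonempty ((Scheme.Modules.pullback μ[X].left).obj L ≅
      CohB1.tensorMod ((Scheme.Modules.pullback (fst X X).left).obj L)
        ((Scheme.Modules.pullback (snd X X).left).obj L)) := by
  classical
  let a : PicLib.PicM X.left := PicLib.PicM.of hL
  let g : Spec (CommRingCat.of (AlgebraicClosure k)) ⟶ Spec (CommRingCat.of k) :=
    Spec.map (CommRingCat.ofHom (algebraMap k (AlgebraicClosure k)))
  let F := Over.pullback g
  let X' := F.obj X
  letI : GrpObj X' := Functor.grpObjObj
  haveI : IsProper X'.hom := inferInstanceAs (IsProper (Limits.pullback.snd X.hom g))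
  haveI : GeometricallyIntegral X'.hom := inferInstanceAs (GeometricallyIntegral (Limits.pullback.snd X.hom g))
  let π : X'.left ⟶ X.left := Limits.pullback.fst X.hom g
  have hX : IsPullback π X'.hom X.hom g := IsPullback.of_hasPullback X.hom g
  have hmap : ∀ {V : Over (Spec (CommRingCat.of k))} (φ : V ⟶ X),
      (F.map φ).left ≫ π = Limits.pullback.fst V.hom g ≫ φ.left := fun φ => Limits.pullback.lift_fst _ _ _
  let a' : PicLib.PicM X'.left := PicLib.PicM.pull π a
  have hn' : AbCubeLib.pb ((𝟙 X') ^ n) a' = a' ^ n := by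
    have e : (𝟙 X') ^ n = F.map ((𝟙 X) ^ n) := by
      have := map_pow (F.homMonoidHom : (X ⟶ X) →* (F.obj X ⟶ F.obj X)) (𝟙 X) n
      show (𝟙 (F.obj X)) ^ n = _
      rw [← F.map_id X]
      exact this.symm
    have hn0 : AbCubeLib.pb ((𝟙 X) ^ n) a = a ^ n := by
      show PicLib.PicM.pull _ (PicLib.PicM.of hL) = PicLib.PicM.of hL ^ n
      rw [PicLib.PicM.pull_of, ← PicLib.PicM.of_tensorPow hL n, PicLib.PicM.of_eq_iff]
      exact h
    show PicLib.PicM.pull _ (PicLib.PicM.pull π a) = PicLib.PicM.pull π a ^ n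
    rw [PicLib.PicM.pull_pull, e, hmap, ← PicLib.PicM.pull_pull]
    show PicLib.PicM.pull π (AbCubeLib.pb ((𝟙 X) ^ n) a) = _
    rw [hn0, map_pow]
  -- invariance over the algebraic closure
  have hinv : ∀ x : 𝟙_ (Over (Spec (CommRingCat.of (AlgebraicClosure k)))) ⟶ X',
      AbCubeLib.pb (𝟙 X' * (toUnit X' ≫ x)) a' = a' := by
    intro x
    haveI : IsCommMonObj X' := isCommMonObj_of_isProper_of_geometricallyIntegral X'
    have hN : 0 < n.choose 2 * 2 := Nat.mul_pos (Nat.choose_pos hn) two_pos
    let b := AbCubeLib.pb (𝟙 X')⁻¹ a'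
    have htors : a' ^ n.choose 2 * b ^ n.choose 2 = 1 := by
      have h2 := hn'
      rw [AbCubeLib.pb_pow, AbCubeLib.pb_id, AbCubeLib.choose_two_succ, pow_add] at h2
      refine (PicLib.PicM.isUnit (a' ^ n)).mul_left_cancel ?_
      rw [_root_.mul_one]
      refine Eq.trans ?_ h2
      rw [← _root_.mul_assoc, _root_.mul_comm (a' ^ n)]
    obtain ⟨y, rfl⟩ := AbCubeLib.exists_pow_eq (A := X') hN x
    let T : (𝟙_ (Over (Spec (CommRingCat.of (AlgebraicClosure k)))) ⟶ X') → (X' ⟶ X') :=
      fun z => 𝟙 X' * (toUnit X' ≫ z)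
    -- `z ↦ T_z^* a' / a'` is a homomorphism
    have hsq : ∀ z w, AbCubeLib.pb (T (z * w)) a' * a' = AbCubeLib.pb (T z) a' * AbCubeLib.pb (T w) a' := by
      intro z w
      have h := AbCubeLib.square_const a' (𝟙 X') z w
      rwa [AbCubeLib.pb_id] at h
    have hpow : ∀ m : ℕ, AbCubeLib.pb (T (y ^ m)) a' * a' ^ m = AbCubeLib.pb (T y) a' ^ m * a' := by
      intro m
      induction m with
      | zero =>
        show AbCubeLib.pb (𝟙 X' * (toUnit X' ≫ y ^ 0)) a' * a' ^ 0 = _
        rw [pow_zero, pow_zero, pow_zero, MonObj.comp_one, _root_.mul_one, _root_.mul_one, AbCubeLib.pb_id,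
          _root_.one_mul]
      | succ m ih =>
        rw [pow_succ y, pow_succ' a' m, ← _root_.mul_assoc, hsq, _root_.mul_comm (AbCubeLib.pb (T (y ^ m)) a'),
          _root_.mul_assoc, ih, ← _root_.mul_assoc, pow_succ']
    have hb : AbCubeLib.pb (T y) b * a' = b * AbCubeLib.pb (T y) a' := AbCubeLib.pb_inv_translate a' y
    have h1 : AbCubeLib.pb (T y) a' ^ n.choose 2 * AbCubeLib.pb (T y) b ^ n.choose 2 = 1 := by
      show PicLib.PicM.pull (T y).left a' ^ _ * PicLib.PicM.pull (T y).left b ^ _ = 1
      rw [← (map_pow (PicLib.PicM.pull (T y).left) a' _), ← (map_pow (PicLib.PicM.pull (T y).left) b _),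
        ← (map_mul (PicLib.PicM.pull (T y).left) _ _), htors, map_one]
    have h2 : AbCubeLib.pb (T y) a' ^ (n.choose 2 * 2) = a' ^ (n.choose 2 * 2) := by
      have h3 := congrArg (· ^ n.choose 2) hb
      simp only [mul_pow] at h3
      calc AbCubeLib.pb (T y) a' ^ (n.choose 2 * 2)
          = AbCubeLib.pb (T y) a' ^ n.choose 2 *
              ((a' ^ n.choose 2 * b ^ n.choose 2) * AbCubeLib.pb (T y) a' ^ n.choose 2) := by
            rw [htors, _root_.one_mul, ← pow_add, ← two_mul, mul_comm 2]
        _ = AbCubeLib.pb (T y) a' ^ n.choose 2 *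
              (a' ^ n.choose 2 * (AbCubeLib.pb (T y) b ^ n.choose 2 * a' ^ n.choose 2)) := by
            rw [h3, _root_.mul_assoc]
        _ = (AbCubeLib.pb (T y) a' ^ n.choose 2 * AbCubeLib.pb (T y) b ^ n.choose 2) *
              (a' ^ n.choose 2 * a' ^ n.choose 2) := by
            simp only [_root_.mul_assoc, _root_.mul_left_comm]
        _ = a' ^ (n.choose 2 * 2) := by rw [h1, _root_.one_mul, ← pow_add, ← two_mul, mul_comm 2]
    refine (PicLib.PicM.isUnit (a' ^ (n.choose 2 * 2))).mul_right_cancel ?_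
    show AbCubeLib.pb (T (y ^ (n.choose 2 * 2))) a' * _ = _
    rw [hpow, h2, _root_.mul_comm]
  have hprim := AbCubeLib.pb_fst_mul_snd_of_invariant a' hinv
  -- descend
  let hXX := CubeLib.isPullback_bcProd hX hX
  let c : PicLib.PicM (X ⊗ X).left := AbCubeLib.pb μ[X] a
  let d : PicLib.PicM (X ⊗ X).left := AbCubeLib.pb (fst X X) a * AbCubeLib.pb (snd X X) a
  have hμ : μ[X] = fst X X * snd X X := by rw [Hom.mul_def, lift_fst_snd, Category.id_comp]
  have key : PicLib.PicM.pull (CubeLib.bcProd hX hX) c = PicLib.PicM.pull (CubeLib.bcProd hX hX) d := by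
    let θ : X' ⊗ X' ⟶ F.obj (X ⊗ X) := Over.homMk
      (Limits.pullback.lift (CubeLib.bcProd hX hX) (X' ⊗ X').hom hXX.w) (Limits.pullback.lift_snd _ _ _)
    have hθ : θ.left ≫ Limits.pullback.fst (X ⊗ X).hom g = CubeLib.bcProd hX hX := Limits.pullback.lift_fst _ _ _
    have hθ1 : θ ≫ F.map (fst X X) = fst X' X' := by
      refine Over.OverMorphism.ext (Limits.pullback.hom_ext ?_ ?_)
      · show (θ.left ≫ (F.map (fst X X)).left) ≫ π = (fst X' X').left ≫ π
        rw [Category.assoc, hmap, ← Category.assoc, hθ, CubeLib.bcProd_fst]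
      · exact (Over.w (θ ≫ F.map (fst X X))).trans (Over.w (fst X' X')).symm
    have hθ2 : θ ≫ F.map (snd X X) = snd X' X' := by
      refine Over.OverMorphism.ext (Limits.pullback.hom_ext ?_ ?_)
      · show (θ.left ≫ (F.map (snd X X)).left) ≫ π = (snd X' X').left ≫ π
        rw [Category.assoc, hmap, ← Category.assoc, hθ, CubeLib.bcProd_snd]
      · exact (Over.w (θ ≫ F.map (snd X X))).trans (Over.w (snd X' X')).symm
    have e : (fst X' X' * snd X' X').left ≫ π = CubeLib.bcProd hX hX ≫ μ[X].left := by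
      have e0 : fst X' X' * snd X' X' = θ ≫ F.map (fst X X * snd X X) := by
        rw [show F.map (fst X X * snd X X) = F.map (fst X X) * F.map (snd X X) from
          map_mul (F.homMonoidHom : ((X ⊗ X) ⟶ X) →* (F.obj (X ⊗ X) ⟶ F.obj X)) _ _, MonObj.comp_mul, hθ1, hθ2]
      rw [e0, Over.comp_left, Category.assoc, hmap, ← Category.assoc, hθ, hμ]
    show PicLib.PicM.pull _ (PicLib.PicM.pull μ[X].left a) =
      PicLib.PicM.pull _ (PicLib.PicM.pull (fst X X).left a * PicLib.PicM.pull (snd X X).left a)
    rw [map_mul, PicLib.PicM.pull_pull, PicLib.PicM.pull_pull, PicLib.PicM.pull_pull, ← e, CubeLib.bcProd_fst,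
      CubeLib.bcProd_snd, ← PicLib.PicM.pull_pull, ← PicLib.PicM.pull_pull, ← PicLib.PicM.pull_pull]
    exact hprim
  haveI : GeometricallyIntegral (X ⊗ X).hom := AbCubeLib.geometricallyIntegral_tensor' X X
  haveI : IsProper (X ⊗ X).hom := inferInstanceAs (IsProper (Limits.pullback.fst X.hom X.hom ≫ X.hom))
  have hcd : c = d := by
    obtain ⟨d', hd'⟩ := PicLib.PicM.exists_mul_eq_one d
    refine PicLib.PicM.eq_of_mul_inv hd' ?_
    refine eq_one_of_bc hXX _ ?_
    rw [map_mul, key, ← map_mul, hd', map_one]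
  have hcd' : PicLib.PicM.pull μ[X].left (PicLib.PicM.of hL) =
      PicLib.PicM.pull (fst X X).left (PicLib.PicM.of hL) * PicLib.PicM.pull (snd X X).left (PicLib.PicM.of hL) := hcd
  simp only [PicLib.PicM.pull_of, PicLib.PicM.of_mul] at hcd'
  exact (PicLib.PicM.of_eq_iff _ _).1 hcd'


end Groth.Agent.S16687
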