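import Groth.Statements.S16689
import Groth.Agent.HopfLib.Integral

set_option autoImplicit false
universe u v w
open ComodSub
open scoped TensorProduct

namespace Groth.Agent.S16689

/-- Let `k` be a commutative ring, `A` a commutative Hopf algebra over `k` with antipode `S`, and `M` a
`k`-module with a right `A`-comodule structure `m ↦ Σ m₀ ⊗ m₁`. Then the map `M → A ⊗ M`, `m ↦ Σ
S(m₁) ⊗ m₀`, is coassociative and counital: it is the coaction of a left `A`-comodule structure on
`M` (a left structure is determined by its coaction, so this structure is unique). -/
theorem result (k : Type u) [CommRing k]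
    (A : Type v) [CommRing A] [HopfAlgebra k A]
    (M : Type w) [AddCommGroup M] [Module k M] (c : HopfRep.Comod k A M) :
    ∃ l : ComodSub.LComod k A M, l.coact = ComodSub.lcoactOfRight c := by
  refine ⟨{ coact := ComodSub.lcoactOfRight c, coassoc := ?_, counit_comp := ?_ }, rfl⟩
  · refine LinearMap.ext fun m => ?_
    have hc := LinearMap.congr_fun c.coassoc m
    simp only [LinearMap.comp_apply, LinearEquiv.coe_coe] at hc
    let S := HopfAlgebraStruct.antipode k (A := A)
    let Θ : M ⊗[k] (A ⊗[k] A) →ₗ[k] A ⊗[k] (A ⊗[k] M) :=
      (TensorProduct.assoc k A A M).toLinearMap ∘ₗ (TensorProduct.comm k M (A ⊗[k] A)).toLinearMap ∘ₗ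
        (TensorProduct.comm k A A).toLinearMap.lTensor M ∘ₗ (TensorProduct.map S S).lTensor M
    have hlhs : ∀ t : M ⊗[k] A, (ComodSub.lcoactOfRight c).lTensor A
        (TensorProduct.comm k M A (S.lTensor M t)) =
          Θ (TensorProduct.assoc k M A A (c.coact.rTensor A t)) := by
      intro t
      induction t using TensorProduct.induction_on with
      | zero => simp
      | add p q hp hq => simp only [map_add, hp, hq]
      | tmul x a =>
        simp only [TensorProduct.comm_tmul, LinearMap.lTensor_tmul, LinearMap.rTensor_tmul]
        rw [show ComodSub.lcoactOfRight c x = TensorProduct.comm k M A (S.lTensor M (c.coact x)) from rfl]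
        generalize c.coact x = u
        induction u using TensorProduct.induction_on with
        | zero => simp
        | add p q hp hq => simp only [TensorProduct.tmul_add, TensorProduct.add_tmul, map_add, hp, hq]
        | tmul y b => simp [Θ, S]
    have hrhs : ∀ t : M ⊗[k] A, TensorProduct.assoc k A A M
        ((CoalgebraStruct.comul (R := k) (A := A)).rTensor M (TensorProduct.comm k M A (S.lTensor M t))) =
          Θ ((CoalgebraStruct.comul (R := k) (A := A)).lTensor M t) := by
      intro t
      induction t using TensorProduct.induction_on with
      | zero => simp
      | add p q hp hq => simp only [map_add, hp, hq]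
      | tmul x a =>
        simp only [TensorProduct.comm_tmul, LinearMap.lTensor_tmul, LinearMap.rTensor_tmul]
        rw [show S a = HopfAlgebraStruct.antipode k a from rfl, Groth.Agent.HopfLib.comul_antipode]
        generalize CoalgebraStruct.comul (R := k) a = u
        induction u using TensorProduct.induction_on with
        | zero => simp
        | add p q hp hq => simp only [TensorProduct.tmul_add, TensorProduct.add_tmul, map_add, hp, hq]
        | tmul b d => simp [Θ, S]
    simp only [LinearMap.comp_apply, LinearEquiv.coe_coe]
    refine (hlhs (c.coact m)).trans ?_
    rw [hc, ← hrhs]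
    rfl
  · refine LinearMap.ext fun m => ?_
    have hc := LinearMap.congr_fun c.counit_comp m
    simp only [LinearMap.comp_apply, LinearMap.flip_apply, TensorProduct.mk_apply] at hc
    have h : ∀ t : M ⊗[k] A, (CoalgebraStruct.counit (R := k) (A := A)).rTensor M
        (TensorProduct.comm k M A ((HopfAlgebraStruct.antipode k).lTensor M t)) =
          TensorProduct.comm k M k ((CoalgebraStruct.counit (R := k) (A := A)).lTensor M t) := by
      intro t
      induction t using TensorProduct.induction_on with
      | zero => simp
      | add p q hp hq => simp only [map_add, hp, hq]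
      | tmul x a => simp
    refine (h (c.coact m)).trans ?_
    rw [hc]
    simp

end Groth.Agent.S16689
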