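import Groth.Statements.S16690
import Groth.Agent.HopfLib.ComodHom

set_option backward.isDefEq.respectTransparency.types false
open TensorProduct

set_option autoImplicit false
universe u v w
open ComodSub

namespace Groth.Agent.S16690

/-- Let `k` be a commutative ring, `A` a `k`-coalgebra that is flat over `k`, and `M` a finitely
presented `k`-module with a right `A`-comodule structure `m ↦ Σ m₀ ⊗ m₁`. Then the dual module `M^*
= Hom(M, k)` carries a left `A`-comodule structure whose coaction sends a form `g` to the element of
`A ⊗ M^*` that reads, through `a ⊗ φ ↦ (m ↦ φ(m) a)`, as the map `m ↦ Σ g(m₀) m₁` (the left dual of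
the given structure). (The published statement takes coalgebras to be commutative algebras whose
comultiplication and counit are algebra maps; the construction uses no multiplication on `A`, so
here `A` is any flat coalgebra.) -/
theorem result (k : Type u) [CommRing k]
    (A : Type v) [AddCommGroup A] [Module k A] [Coalgebra k A] [Module.Flat k A]
    (M : Type w) [AddCommGroup M] [Module k M] [Module.FinitePresentation k M]
    (c : HopfRep.Comod k A M) :
    ∃ l : ComodSub.LComod k A (Module.Dual k M), ComodSub.LComod.IsLDual c l := by
  let e : A ⊗[k] Module.Dual k M ≃ₗ[k] (M →ₗ[k] A) := LinearEquiv.ofBijective (HopfLib.ComodHom.toHom (k := k) (M := M) A)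
    ⟨HopfLib.ComodHom.toHom_injective k M A, HopfLib.ComodHom.toHom_surjective k M A⟩
  let dl : Module.Dual k M →ₗ[k] (M →ₗ[k] A) :=
    { toFun := fun g => ComodSub.ldualFun c g
      map_add' := fun g h => by
        ext m; simp [ComodSub.ldualFun_apply, LinearMap.rTensor_add]
      map_smul' := fun r g => by
        ext m; simp [ComodSub.ldualFun_apply, LinearMap.rTensor_smul] }
  let co : Module.Dual k M →ₗ[k] A ⊗[k] Module.Dual k M := e.symm.toLinearMap ∘ₗ dl
  have hco : ∀ g, HopfLib.ComodHom.toHom A (co g) = ComodSub.ldualFun c g := fun g => e.apply_symm_apply (dl g)
  refine ⟨{ coact := co, coassoc := ?_, counit_comp := ?_ }, fun g => hco g⟩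
  · refine LinearMap.ext fun g => (TensorProduct.assoc k A A (Module.Dual k M)).symm.injective
      (HopfLib.ComodHom.toHom_injective k M (A ⊗[k] A) (LinearMap.ext fun m => ?_))
    have h1 : ∀ z : A ⊗[k] Module.Dual k M,
        HopfLib.ComodHom.toHom (A ⊗[k] A) ((TensorProduct.assoc k A A (Module.Dual k M)).symm (co.lTensor A z)) m =
          (HopfLib.ComodHom.toHom A z).rTensor A (c.coact m) := by
      intro z
      induction z using TensorProduct.induction_on with
      | zero => simp
      | add u v hu hv => simp only [map_add, LinearMap.add_apply, LinearMap.rTensor_add, hu, hv]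
      | tmul a φ =>
        have h : ∀ w : A ⊗[k] Module.Dual k M,
            HopfLib.ComodHom.toHom (A ⊗[k] A) ((TensorProduct.assoc k A A (Module.Dual k M)).symm (a ⊗ₜ[k] w)) m =
              a ⊗ₜ[k] HopfLib.ComodHom.toHom A w m := fun w => by
          induction w using TensorProduct.induction_on with
          | zero => simp
          | add u v hu hv => simp only [TensorProduct.tmul_add, map_add, LinearMap.add_apply, hu, hv]
          | tmul b ψ => simp [TensorProduct.tmul_smul]
        rw [LinearMap.lTensor_tmul, h, hco, ComodSub.ldualFun_apply]
        generalize c.coact m = t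
        induction t using TensorProduct.induction_on with
        | zero => simp
        | add u v hu hv => simp only [map_add, TensorProduct.tmul_add, hu, hv]
        | tmul v b => simp [TensorProduct.smul_tmul']
    have h2 : ∀ z : A ⊗[k] Module.Dual k M,
        HopfLib.ComodHom.toHom (A ⊗[k] A) ((CoalgebraStruct.comul (R := k) (A := A)).rTensor (Module.Dual k M) z) m =
          CoalgebraStruct.comul (HopfLib.ComodHom.toHom A z m) := fun z => by
      induction z using TensorProduct.induction_on with
      | zero => simp
      | add u v hu hv => simp only [map_add, LinearMap.add_apply, hu, hv]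
      | tmul a φ => simp
    simp only [LinearMap.comp_apply, LinearEquiv.coe_coe, LinearEquiv.symm_apply_apply]
    rw [h1, h2, hco]
    have hc := congrArg (fun t => TensorProduct.lid k (A ⊗[k] A) (g.rTensor (A ⊗[k] A) t)) (LinearMap.congr_fun c.coassoc m)
    simp only [LinearMap.comp_apply, LinearEquiv.coe_coe] at hc
    have h3 : ∀ t : M ⊗[k] A, (ComodSub.ldualFun c g).rTensor A t =
        TensorProduct.lid k (A ⊗[k] A) (g.rTensor (A ⊗[k] A) (TensorProduct.assoc k M A A (c.coact.rTensor A t))) := fun t => by
      induction t using TensorProduct.induction_on with
      | zero => simp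
      | add u v hu hv => simp only [map_add, hu, hv]
      | tmul v b =>
        rw [LinearMap.rTensor_tmul, LinearMap.rTensor_tmul, ComodSub.ldualFun_apply]
        generalize c.coact v = s
        induction s using TensorProduct.induction_on with
        | zero => simp
        | add u v hu hv => simp only [map_add, TensorProduct.add_tmul, hu, hv]
        | tmul p q => simp [TensorProduct.smul_tmul']
    rw [h3, hc, ComodSub.ldualFun_apply]
    generalize c.coact m = s
    induction s using TensorProduct.induction_on with
    | zero => simp
    | add u v hu hv => simp only [map_add, hu, hv]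
    | tmul p q => simp
  · refine LinearMap.ext fun g => (TensorProduct.lid k (Module.Dual k M)).injective (LinearMap.ext fun m => ?_)
    have h1 : ∀ z : A ⊗[k] Module.Dual k M,
        TensorProduct.lid k (Module.Dual k M) ((CoalgebraStruct.counit (R := k) (A := A)).rTensor _ z) m =
          CoalgebraStruct.counit (R := k) (HopfLib.ComodHom.toHom A z m) := fun z => by
      induction z using TensorProduct.induction_on with
      | zero => simp
      | add u v hu hv => simp only [map_add, LinearMap.add_apply, hu, hv]
      | tmul a φ => simp [mul_comm]
    simp only [LinearMap.comp_apply]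
    rw [h1, hco, ComodSub.ldualFun_apply]
    have hc := congrArg (fun t => g (TensorProduct.rid k M t)) (LinearMap.congr_fun c.counit_comp m)
    simp only [LinearMap.comp_apply, LinearMap.flip_apply, TensorProduct.mk_apply, TensorProduct.rid_tmul, one_smul] at hc
    rw [TensorProduct.mk_apply, TensorProduct.lid_tmul, one_smul, ← hc]
    generalize c.coact m = s
    induction s using TensorProduct.induction_on with
    | zero => simp
    | add u v hu hv => simp only [map_add, hu, hv]
    | tmul p q => simp [mul_comm]

end Groth.Agent.S16690
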