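import Groth.Statements.S16697
import Groth.Agent.Stk19.AlgSt.CoverDiag
import Groth.Agent.Stk19.AlgSt.DescentSp
import Groth.Agent.Stk19.AlgSt.SepRep
import Groth.Agent.Stk19.AlgSt.Qc
import Groth.Agent.Stk19.AlgSt.PointsTop
import Groth.Agent.Stk19.AlgSt.LocQ
import Groth.Agent.Stk19b.ProdSq
import Groth.Agent.Stk19b.Quot.Torsor
import Groth.Agent.AlgSpLib.MorMore
import Groth.Agent.AlgSpLib.FpqcBaseAffine2
import Groth.Agent.AlgSpLib.ProperImage

set_option autoImplicit false
universe u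
open AlgSt AlgSt.IsWellNighAffine

set_option backward.isDefEq.respectTransparency.types false
set_option backward.isDefEq.respectTransparency false

namespace Groth.Agent.S16697
open CategoryTheory CategoryTheory.Limits MonoidalCategory CartesianMonoidalCategory AlgebraicGeometry
open Groth.Agent Groth.Agent.Stk19 Groth.Agent.Desc19
open AlgSp (RepWith)


open CategoryTheory AlgebraicGeometry in
/-- A well-nigh affine algebraic stack is quasi-compact, quasi-DM over `S` and separated over `S` (for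
`S = Spec ℤ` these are the absolute notions of the published statement). The characterisation by
presentations `[U/R]` with `U`, `R` affine and `s`, `t` finite locally free is not stated. -/
theorem result (S : Scheme.{u}) (𝒳 : AlgSt.Cat S)
    (h𝒳 : AlgSt.IsAlgStack Scheme.fppfPrecoverage 𝒳) (hw : AlgSt.IsWellNighAffine 𝒳) :
    AlgSt.IsQuasiCompact 𝒳 ∧ AlgSt.IsQuasiDMOver 𝒳 ∧ AlgSt.IsSeparatedOver 𝒳 := by
  obtain ⟨U, x, hU, hx⟩ := hw
  have : IsAffine U.left := hU
  have : IsSeparated U.hom := IsSeparated.of_comp U.hom (terminal.from _)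
  let w : AlgSt.ofSch U ⥤ᵇ 𝒳 := BasedFunctor.comp (AlgSt.toOverCat U) x
  have hw : AlgSt.RepByAlgSpWith _ w := with_equiv_comp (isEquivOver_toOverCat U) hx
  have hs : AlgSt.RepByAlgSpWith AlgSp.IsSurjectiveMor w :=
    repByAlgSpWith_mono (fun _ _ _ _ h => h.1.1.1) hw
  have hfl : AlgSt.RepByAlgSpWith (AlgSp.LocP @Flat) w :=
    repByAlgSpWith_mono (fun _ _ _ _ h => h.1.1.2) hw
  have hfp : AlgSt.RepByAlgSpWith (AlgSp.LocP @LocallyOfFinitePresentation) w :=
    repByAlgSpWith_mono (fun _ _ _ _ h => h.2) hw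
  have hpr : AlgSt.RepByAlgSpWith AlgSp.IsProperMor w :=
    repByAlgSpWith_mono (fun _ _ a hX h => AlgSpLib.isProperMor_of_repWith hX (AlgSp.IsAlgSpace.yon_obj _)
      (AlgSpLib.RepWith.mono (fun _ _ g (_ : IsFinite g) => (inferInstance : IsProper g))
        ((AlgSpLib.isFiniteMor_iff_repWith a).1 h.1.2))) hw
  have hqf : AlgSt.RepByAlgSpWith (AlgSp.LocP (@LocallyQuasiFinite ⊓ @LocallyOfFiniteType)) w :=
    repByAlgSpWith_mono (fun _ _ a hX h => AlgSpLib.locP_of_repWith AlgSpLib.etLocal_lqf hX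
      (AlgSpLib.RepWith.mono (fun _ _ g (_ : IsFinite g) => ⟨inferInstance, inferInstance⟩)
        ((AlgSpLib.isFiniteMor_iff_repWith a).1 h.1.2))) hw
  let W : AlgSp.Space S := ⟨_, AlgSp.IsAlgSpace.yon_obj U⟩
  refine ⟨isQuasiCompact_of_surjective (isAlgStack_overCat U) h𝒳 x ?_ (isQuasiCompact_overCat U), ?_, ?_⟩
  · exact isSurjective_of_with h𝒳.isStack.1 (repByAlgSpWith_mono (fun _ _ _ _ h => h.1.1.1) hx)
  · exact diag_toSelf_of_cover (respSrc_locP AlgSpLib.etLocal_lqf) (schDescent_locP AlgSpLib.etLocal_lqf)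
      h𝒳.diag hfl hfp hs (fpToProd_of_cancel (pbStable_locP AlgSpLib.etLocal_lqf) cancel_lqf W w hqf)
  · obtain ⟨E, hE, hE₁, -⟩ := Stk19b.exists_prod_equiv U U
    have hsep : IsSeparated (fst U U).left := MorphismProperty.IsStableUnderBaseChange.of_isPullback
      (Stk19b.Quot.isPullback_left_snd (G := U) U).flip (inferInstanceAs (IsSeparated U.hom))
    have hg : AlgSt.RepByAlgSpWith AlgSp.IsSeparatedMor (FibCat.fpFst (FibCat.toSelf (AlgSt.ofSch U)) (FibCat.toSelf (AlgSt.ofSch U))) :=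
      (repByAlgSpWith_iff_of_square (a := E) (b := BasedFunctor.id _) (f := FibCat.fpFst _ _) (f' := BasedFunctor.comp E (FibCat.fpFst _ _)) hE
        (isEquivOver_id _) (Iso.refl _)).1 (hE₁ ▸ repByAlgSpWith_ofSpMap pbStable_diagWith
          (V := ⟨_, AlgSp.IsAlgSpace.yon_obj (U ⊗ U)⟩) (Z := W) ((AlgSp.yon S).map (fst U U))
          ((AlgSp.isSeparatedMor_yon_map_iff _).2 hsep))
    have hc : AlgSt.RepByAlgSpWith AlgSp.IsProperMor (fpToProd w w) :=
      repByAlgSpWith_of_comp (Q := AlgSp.IsSeparatedMor) pbStable_proper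
        (fun _ _ _ hX hY hZ a b hb h => AlgSpLib.isProperMor_of_comp_separated hX hY hZ h hb)
        hg (f := fpToProd w w) (repByAlgSpWith_fpFst w hpr)
    exact diag_toSelf_of_cover (respSrc_of_baseChange pbStable_proper) schDescent_proper h𝒳.diag hfl hfp hs hc

end Groth.Agent.S16697
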