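import Groth.Statements.S16698
import Groth.Agent.Stk19.AlgSt.SepRep
import Groth.Agent.Stk19.AlgSt.Over
import Groth.Agent.Stk19.AlgSt.FpAlg
import Groth.Agent.Stk19b.KernelGrpd

set_option autoImplicit false
universe u
open AlgSt AlgSt.IsWellNighAffine

set_option backward.isDefEq.respectTransparency.types false
set_option backward.isDefEq.respectTransparency false

open Groth.Agent
namespace Groth.Agent.S16698
open CategoryTheory CategoryTheory.Limits AlgebraicGeometry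
theorem schemeTested_surjective {S : Scheme.{u}} :
    Stk19.SchemeTested (AlgSp.IsSurjectiveMor (S := S)) := fun V Z a h z => by
  obtain ⟨W, p, hpe, hps⟩ := Z.property.atlas
  obtain ⟨w, rfl⟩ := AlgSpLib.surjective_map_of_repWith hps z
  obtain ⟨x, rfl⟩ := h p w
  exact ⟨AlgSp.Points.map (pullback.fst a p) x, by
    rw [← AlgSp.Points.map_comp, ← AlgSp.Points.map_comp, pullback.condition]⟩


open CategoryTheory AlgebraicGeometry in
/-- A well-nigh affine algebraic stack which is an algebraic space is an affine scheme. -/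
theorem result (S : Scheme.{u}) (𝒳 : AlgSt.Cat S)
    (h𝒳 : AlgSt.IsAlgStack Scheme.fppfPrecoverage 𝒳) (hw : AlgSt.IsWellNighAffine 𝒳)
    (hsp : AlgSt.RepByAlgSp 𝒳) :
    ∃ (U : Over S) (e : AlgSt.ofSch U ⥤ᵇ 𝒳), IsAffine U.left ∧ FibCat.IsEquivOver e := by
  obtain ⟨U, x, hU, hx⟩ := hw
  obtain ⟨F, e, he⟩ := hsp
  obtain ⟨ei, -, -, ⟨c⟩⟩ := Stk19.exists_inverse he
  let Φ := BasedFunctor.comp (BasedFunctor.comp (AlgSt.toOverCat U) x) ei
  obtain ⟨i⟩ := Stk19.spHom_iso Φ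
  let a : (AlgSp.yon S).obj U ⟶ F.obj := Stk19.spHom Φ
  let j : BasedFunctor.comp (AlgSt.ofSpMap a) e ≅ BasedFunctor.comp (AlgSt.toOverCat U) x :=
    (Stk19.postB _ e).mapIso i.symm ≪≫ (Stk.restr (BasedFunctor.comp (AlgSt.toOverCat U) x) _).mapIso c
  have h := (Stk19.repByAlgSpWith_iff_of_square (Stk19.isEquivOver_toOverCat U) he j).2 hx
  let V : AlgSp.Space S := ⟨_, AlgSp.IsAlgSpace.yon_obj U⟩
  have hs : AlgSp.IsSurjectiveMor a :=
    Stk19.prop_of_repByAlgSpWith_ofSpMap Stk19.pbStable_surjective schemeTested_surjective (V := V) (Z := F) a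
      (Stk19.repByAlgSpWith_mono (fun _ _ _ _ h => h.1.1.1) h)
  have hfin : AlgSp.IsFiniteMor a :=
    Stk19.prop_of_repByAlgSpWith_ofSpMap (Stk19.isFiniteMor_eq (S := S) ▸ Stk19.pbStable_affineWith)
      (Stk19.isFiniteMor_eq (S := S) ▸ Stk19.schemeTested_affineWith) (V := V) (Z := F) a
      (Stk19.repByAlgSpWith_mono (fun _ _ _ _ h => h.1.2) h)
  have hfl : AlgSp.LocP @Flat a :=
    Stk19.prop_of_repByAlgSpWith_ofSpMap (Stk19.pbStable_locP AlgSpLib.etLocal_flat)
      (Stk19.schemeTested_locP AlgSpLib.etLocal_flat) (V := V) (Z := F) a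
      (Stk19.repByAlgSpWith_mono (fun _ _ _ _ h => h.1.1.2) h)
  have hfp : AlgSp.LocP @LocallyOfFinitePresentation a :=
    Stk19.prop_of_repByAlgSpWith_ofSpMap (Stk19.pbStable_locP AlgSpLib.etLocal_lfp)
      (Stk19.schemeTested_locP AlgSpLib.etLocal_lfp) (V := V) (Z := F) a
      (Stk19.repByAlgSpWith_mono (fun _ _ _ _ h => h.2) h)
  have hr := (AlgSpLib.isFiniteMor_iff_repWith a).1 hfin
  have : IsAffine U.left := hU
  obtain ⟨M, hM, ⟨φ⟩⟩ := Stk19b.KernelGrpd.exists_affine_iso a hr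
    ((AlgSpLib.repWith_iff_locP AlgSpLib.etLocal_flat V.property F.property hr.1).2 hfl)
    ((AlgSpLib.repWith_iff_locP AlgSpLib.etLocal_lfp V.property F.property hr.1).2 hfp)
    (AlgSpLib.repWith_surjective_of_surjective_map hr.1 hs)
  exact ⟨M, BasedFunctor.comp (AlgSt.ofSpMap φ.hom) e, hM,
    Stk19.isEquivOver_comp (Stk19.isEquivOver_ofSpMap φ.hom) he⟩

end Groth.Agent.S16698
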