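import Groth.Statements.S16699
import Groth.Agent.Stk19.AlgSt.SepRep
import Groth.Agent.Stk19.AlgSt.Over

set_option autoImplicit false
universe u
open AlgSt AlgSt.IsWellNighAffine

set_option backward.isDefEq.respectTransparency.types false
set_option backward.isDefEq.respectTransparency false

open Groth.Agent
namespace Groth.Agent.S16699


open CategoryTheory AlgebraicGeometry in
/-- An algebraic stack affine over a well-nigh affine algebraic stack is well-nigh affine. -/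
theorem result (S : Scheme.{u}) (𝒳 𝒳' : AlgSt.Cat S)
    (h𝒳 : AlgSt.IsAlgStack Scheme.fppfPrecoverage 𝒳) (h𝒳' : AlgSt.IsAlgStack Scheme.fppfPrecoverage 𝒳')
    (hw : AlgSt.IsWellNighAffine 𝒳) (f : 𝒳' ⥤ᵇ 𝒳) (hf : AlgSt.RepByAlgSpWith AlgSp.IsAffineMor f) :
    AlgSt.IsWellNighAffine 𝒳' := by
  obtain ⟨U, x, hU, hx⟩ := hw
  obtain ⟨F, e, he, ha⟩ := hf U x
  obtain ⟨W, i, fst, sq, hW⟩ := ha (Z := U) hU (𝟙 _)
  have : IsIso fst := sq.isIso_fst_of_isIso
  let a : FibCat.overCat W ⥤ᵇ FibCat.fp x f :=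
    BasedFunctor.comp (BasedFunctor.comp (AlgSt.ofOverCat W) (AlgSt.ofSpMap fst)) e
  have hae : FibCat.IsEquivOver a :=
    Stk19.isEquivOver_comp (Stk19.isEquivOver_comp (Stk19.isEquivOver_ofOverCat W) (Stk19.isEquivOver_ofSpMap fst)) he
  refine ⟨W, BasedFunctor.comp a (FibCat.fpSnd x f), hW, ?_⟩
  exact (Stk19.repByAlgSpWith_iff_of_square (f := FibCat.fpSnd x f) hae (Stk19.isEquivOver_id _) (Iso.refl _)).2
    (Stk19.repByAlgSpWith_fpSnd f hx)

end Groth.Agent.S16699
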