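import Groth.Statements.S16705
import Groth.Agent.Stk19b.Quot.ToSp

set_option autoImplicit false
universe u
open AlgSt

set_option backward.isDefEq.respectTransparency.types false
set_option backward.isDefEq.respectTransparency false

open Groth.Agent.Stk19 Groth.Agent.Stk19b.Quot

namespace Groth.Agent.S16705


open CategoryTheory AlgebraicGeometry in
/-- Categorical case, schemes as test category: for the quotient stack `[X/G]` of an action of a group
scheme `G` affine, flat and locally of finite presentation over `S`, the morphism `π : [X/G] → Y`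
induced by a morphism of schemes `f : X → Y` is a categorical moduli space in schemes if and only if
`f` is a categorical quotient in schemes. (The uniform variants and other test categories are not
stated.) -/
theorem result (S : Scheme.{u}) (G : Over S) [GrpObj G]
    [IsAffineHom G.hom] [Flat G.hom] [LocallyOfFinitePresentation G.hom]
    (X Y : Over S) (aX : AlgGrp.Action G X) (f : X ⟶ Y)
    (π : AlgSt.QuotSt Scheme.fppfPrecoverage G aX ⥤ᵇ AlgSt.ofSch Y)
    (hπ : Nonempty (BasedFunctor.comp (AlgSt.quotMap Scheme.fppfPrecoverage G aX) π ≅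
      AlgSt.ofSpMap ((AlgSp.yon S).map f))) :
    AlgSt.IsCatModuliSch π ↔ GIT.IsCatQuot aX f := by
  obtain ⟨i⟩ := hπ
  have hπ' := eq_of_iso i
  have key : ∀ {N : AlgSp.Sp S} (g : (AlgSp.yon S).obj Y ⟶ N),
      BasedFunctor.comp (AlgSt.quotMap Scheme.fppfPrecoverage G aX) (BasedFunctor.comp π (AlgSt.ofSpMap g)) =
        AlgSt.ofSpMap ((AlgSp.yon S).map f ≫ g) := fun g => by
    rw [← ofSpMap_comp]
    exact congrArg (fun θ : AlgSt.ofSch X ⥤ᵇ AlgSt.ofSch Y => BasedFunctor.comp θ (AlgSt.ofSpMap g)) hπ'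
  constructor
  · rintro ⟨-, h⟩
    refine ⟨?_, fun Z ψ hψ => ?_⟩
    · obtain ⟨f', hf', hc⟩ := exists_inv (N := (AlgSp.yon S).obj Y) π
      rw [hπ'] at hc
      rw [← ofSpMap_inj (eqToIso hc).hom, ← Functor.map_comp, ← Functor.map_comp] at hf'
      exact (AlgSp.yon S).map_injective hf'
    · obtain ⟨φ, hφ⟩ := exists_of_inv (aX := aX) ((AlgSp.yon S).map ψ) (by
        rw [← Functor.map_comp, ← Functor.map_comp, hψ])
      obtain ⟨g, ⟨j⟩, hu⟩ := h _ (isRepresentable_yon Z) φ
      refine ⟨(AlgSp.yon S).preimage g, (AlgSp.yon S).map_injective ?_, fun χ hχ => ?_⟩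
      · rw [Functor.map_comp, Functor.map_preimage]
        have e := key g
        rw [eq_of_iso j, hφ] at e
        exact (ofSpMap_inj (eqToIso e).hom).symm
      · apply (AlgSp.yon S).map_injective
        rw [Functor.map_preimage]
        refine hu _ ⟨eqToIso (eq_of_comp ?_)⟩
        rw [key, hφ, ← Functor.map_comp, hχ]
  · rintro ⟨hinv, h⟩
    refine ⟨isRepresentable_yon Y, fun N hN φ => ?_⟩
    obtain ⟨Z, ⟨e⟩⟩ := exists_yon_iso hN
    obtain ⟨f', hf', hφ⟩ := exists_inv φ
    let ψ : X ⟶ Z := (AlgSp.yon S).preimage (f' ≫ e.inv)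
    have hψ : (AlgSp.yon S).map ψ = f' ≫ e.inv := (AlgSp.yon S).map_preimage _
    obtain ⟨χ, hχ, hu⟩ := h Z ψ ((AlgSp.yon S).map_injective (by
      rw [Functor.map_comp, Functor.map_comp, hψ, reassoc_of% hf']))
    refine ⟨(AlgSp.yon S).map χ ≫ e.hom, ⟨eqToIso (eq_of_comp ?_)⟩, fun g hg => ?_⟩
    · rw [key, hφ, ← Functor.map_comp_assoc, hχ, hψ, Category.assoc, e.inv_hom_id, Category.comp_id]
    · obtain ⟨j⟩ := hg
      have e' := key g
      rw [eq_of_iso j, hφ] at e'
      have hg' : f' = (AlgSp.yon S).map f ≫ g := ofSpMap_inj (eqToIso e').hom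
      have : (AlgSp.yon S).preimage (g ≫ e.inv) = χ := hu _ ((AlgSp.yon S).map_injective (by
        rw [Functor.map_comp, Functor.map_preimage, hψ, hg', Category.assoc]))
      rw [← this, Functor.map_preimage, Category.assoc, e.inv_hom_id, Category.comp_id]

end Groth.Agent.S16705
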