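import Groth.Statements.S16707
import Mathlib.RingTheory.Derivation.Basic
import Mathlib.RingTheory.Flat.Equalizer
import Mathlib.RingTheory.Henselian
import Mathlib.RingTheory.Regular.RegularSequence
import Mathlib.RingTheory.RegularLocalRing.Defs
import Mathlib.RingTheory.SimpleRing.Principal
import Mathlib.RingTheory.Flat.FaithfullyFlat.Algebra
import Mathlib.RingTheory.Ideal.AssociatedPrime.Basic
import Mathlib.RingTheory.HopkinsLevitzki
import Mathlib.RingTheory.Support
import Mathlib.Tactic
import Groth.Agent.CommAlg4.Basic

set_option linter.all false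

set_option autoImplicit false
universe u v
open CAlg

open Groth.Agent.CommAlg4

namespace Groth.Agent.S16707

open TensorProduct in
/-- Let A be a commutative ring, I a nilpotent ideal of A and f : M → N a homomorphism of A-modules with
N flat over A (no finiteness assumption on M or N). If the base change of f to A/I, that is M/IM →
N/IN, is bijective, then f is bijective. -/
theorem result (A : Type u) [CommRing A] (I : Ideal A)
    (hI : IsNilpotent I) (M N : Type v) [AddCommGroup M] [Module A M] [AddCommGroup N] [Module A N]
    [Module.Flat A N] (f : M →ₗ[A] N)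
    (hf : Function.Bijective (f.baseChange (A ⧸ I))) :
    Function.Bijective f := by
  have hf' : Function.Bijective (f.lTensor (A ⧸ I)) := by
    rwa [LinearMap.baseChange_eq_ltensor] at hf
  have key : ∀ (P : Type v) [AddCommGroup P] [Module A P], Subsingleton ((A ⧸ I) ⊗[A] P) → Subsingleton P := by
    intro P _ _ h
    have h0 : (I • ⊤ : Submodule A P) = ⊤ := by
      have : Subsingleton (P ⧸ (I • ⊤ : Submodule A P)) := (quotTensorEquivQuotSMul P I).symm.injective.subsingleton
      exact Submodule.Quotient.subsingleton_iff.mp this
    obtain ⟨k, hk⟩ := hI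
    have h1 : ∀ j, (I ^ j • ⊤ : Submodule A P) = ⊤ := by
      intro j; induction j with
      | zero => simp [Ideal.one_eq_top]
      | succ j ih => rw [pow_succ, mul_smul, h0, ih]
    have := h1 k; rw [hk, Submodule.zero_eq_bot, Submodule.bot_smul] at this
    exact (Submodule.subsingleton_iff A).mp (subsingleton_of_bot_eq_top this)
  have hsurj : Function.Surjective f := by
    have := key (N ⧸ LinearMap.range f) (by
      have hex : Function.Exact (f.lTensor (A ⧸ I)) ((LinearMap.range f).mkQ.lTensor (A ⧸ I)) :=
        lTensor_exact _ (LinearMap.exact_map_mkQ_range f) (Submodule.mkQ_surjective _)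
      refine ⟨fun a b => ?_⟩
      obtain ⟨a', rfl⟩ := LinearMap.lTensor_surjective (A ⧸ I) (Submodule.mkQ_surjective (LinearMap.range f)) a
      obtain ⟨b', rfl⟩ := LinearMap.lTensor_surjective (A ⧸ I) (Submodule.mkQ_surjective (LinearMap.range f)) b
      rw [(hex a').mpr (hf'.2 a'), (hex b').mpr (hf'.2 b')])
    rw [← LinearMap.range_eq_top]
    exact Submodule.Quotient.subsingleton_iff.mp this
  refine ⟨?_, hsurj⟩
  have hinj := LinearMap.lTensor_injective_of_exact_of_flat f hsurj (LinearMap.ker f).subtype
    (LinearMap.ker f).injective_subtype (LinearMap.exact_subtype_ker_map f) (A ⧸ I)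
  have : Subsingleton (LinearMap.ker f) := key _ ⟨fun a b => hinj (hf'.1 (by
    have hz : ∀ a, (f.lTensor (A ⧸ I)) ((LinearMap.ker f).subtype.lTensor (A ⧸ I) a) = 0 := by
      intro a; rw [← LinearMap.lTensor_comp_apply, LinearMap.comp_ker_subtype]; simp
    rw [hz, hz]))⟩
  exact LinearMap.ker_eq_bot.mp (Submodule.eq_bot_of_subsingleton)

end Groth.Agent.S16707
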