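import Groth.Statements.S16708
import Groth.Agent.HopfLib.IntegralTrace

set_option autoImplicit false
universe u
open HopfRep

namespace Groth.Agent.S16708

/-- Let G be a finite group and k a field in which the order of G is a nonzero element. Then the
constant group scheme of G over k is linearly reductive: every finite-dimensional comodule over its
coordinate Hopf algebra (the algebra of functions G → k with the Hopf structure of the constant
group) is semisimple, i.e. every subcomodule admits a complementary subcomodule. -/
theorem result (k : Type u) [Field k] (G : Type u) [Group G]
    [Fintype G] [DecidableEq G] (hG : ((Fintype.card G : ℕ) : k) ≠ 0) :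
    HopfRep.IsLinearlyReductive k (ConstGrp.F k G) := by
  have hfin : (Module.finrank k (ConstGrp.F k G) : k) = (Fintype.card G : k) := by
    rw [show Module.finrank k (ConstGrp.F k G) = Fintype.card G from
      (ConstGrp.equivFun k G).toLinearEquiv.finrank_eq.trans (Module.finrank_pi k)]
  let α : ConstGrp.F k G →ₗ[k] k := (Fintype.card G : k)⁻¹ • Algebra.trace k (ConstGrp.F k G)
  refine Groth.Agent.HopfLib.isLinearlyReductive_of_integral (α := α) (fun a => ?_) ?_
  · have h := Groth.Agent.HopfLib.isIntegral_trace (k := k) a
    have e : ∀ t : TensorProduct k (ConstGrp.F k G) (ConstGrp.F k G), Groth.Agent.HopfLib.sliceL α t =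
        (Fintype.card G : k)⁻¹ • Groth.Agent.HopfLib.sliceL (Algebra.trace k (ConstGrp.F k G)) t := by
      intro t
      induction t using TensorProduct.induction_on with
      | zero => simp
      | add p q hp hq => simp only [map_add, smul_add, hp, hq]
      | tmul x y => simp [α, mul_smul]
    rw [e, h]
    simp [α, mul_smul]
  · have := Algebra.trace_algebraMap (R := k) (S := ConstGrp.F k G) 1
    rw [map_one] at this
    simp [α, this, hfin, hG]

end Groth.Agent.S16708
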