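import Groth.Statements.S1671
import Groth.Agent.DualMod3.TailApps
import Groth.Agent.Clifford24.Subcurves.Main
-- import your own Groth.Agent.* helpers here

set_option autoImplicit false
universe u
open CategoryTheory CategoryTheory.Limits AlgebraicGeometry
attribute [local instance] HasDerivedCategory.standard
open Curves

set_option backward.isDefEq.respectTransparency false
set_option linter.style.haveILetI false
set_option maxHeartbeats 1000000
open Groth.Agent

namespace Groth.Agent.S1671

/-- Let X be proper of dimension one over k with global functions k and at-worst-nodal singularities,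
ω_X its dualizing module (degree -1 cohomology sheaf of f^! O for f : X → Spec k, assuming Rf_* on
D_QCoh and its right adjoint exist), and C ⊆ X a rational tail, viewed as a reduced closed
subscheme. Then the restriction of ω_X to C has negative degree (over k). -/
theorem result (k : Type u) [Field k] (X : Scheme.{u}) [X.Over (Spec (CommRingCat.of k))] [IsProper (X ↘ (Spec (CommRingCat.of k)))] (hdim : topologicalKrullDim X = 1)
    (h0 : Module.finrank k (Coh.HH X (Coh.structureModule X) 0) = 1) (hX : Curv2.AtWorstNodal k X)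
    [DCoh.HasRpush (X ↘ (Spec (CommRingCat.of k)))] (h : DCoh.RpushPreservesQCoh (X ↘ (Spec (CommRingCat.of k)))) [DCoh.HasShriek (X ↘ (Spec (CommRingCat.of k))) h]
    (OY : DCoh.DQCoh (Spec (CommRingCat.of k))) (hOY : Nonempty (OY.obj ≅ DCoh.inD (Spec (CommRingCat.of k)) (Coh.structureModule (Spec (CommRingCat.of k)))))
    (C : Set X) (hC : C ∈ irreducibleComponents (X : Type u)) (hCt : Curv2.IsRationalTail X C hC) :
    @Curv2.deg k _ (Scheme.IdealSheafData.vanishingIdeal ⟨C, isClosed_of_mem_irreducibleComponents C hC⟩).subscheme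
        ⟨(Scheme.IdealSheafData.vanishingIdeal ⟨C, isClosed_of_mem_irreducibleComponents C hC⟩).subschemeι ≫ (X ↘ (Spec (CommRingCat.of k)))⟩
        ((Scheme.Modules.pullback (Scheme.IdealSheafData.vanishingIdeal ⟨C, isClosed_of_mem_irreducibleComponents C hC⟩).subschemeι).obj (DCoh.dualizingMod (X ↘ (Spec (CommRingCat.of k))) h OY 1)) 1 < 0 := by
  haveI := EulerLib.isNoetherian_of_proper k (X := X)
  obtain ⟨hred, hconn, hW, ⟨t, hrep⟩, hWe, hdW⟩ := DualMod3.nodal_setup k hdim h0 hX h OY hOY
  haveI := hred
  haveI := hconn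
  generalize DCoh.dualizingMod (X ↘ (Spec (CommRingCat.of k))) h OY 1 = W at *
  obtain ⟨-, hne, hsub, hred', heval, hH1⟩ := hCt
  haveI : IsIntegral (Scheme.IdealSheafData.vanishingIdeal (⟨C, isClosed_of_mem_irreducibleComponents C hC⟩ : TopologicalSpace.Closeds X)).subscheme :=
    VarietyLib.isIntegral_vanishingIdeal _ hC.1
  let J : X.IdealSheafData := Scheme.IdealSheafData.vanishingIdeal (⟨C, isClosed_of_mem_irreducibleComponents C hC⟩ : TopologicalSpace.Closeds X)
  haveI : IsIntegral J.subscheme := VarietyLib.isIntegral_vanishingIdeal _ hC.1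
  haveI : AlgebraicGeometry.IsReduced J.subscheme := inferInstance
  haveI : ConnectedSpace J.subscheme := inferInstance
  have hd : topologicalKrullDim J.subscheme = 1 :=
    (VarietyLib.topologicalKrullDim_vanishingIdeal _).trans (DualMod3.components_dim_one hdim hC)
  obtain ⟨H, n, m, hpos, hH, hn, hm, hdeg, hm0, hm1, hms⟩ := DualMod3.sub_data k hdim.le hW t hrep hWe J hd
  have hsupp : (⟨closure ((J.support : Set X)ᶜ), isClosed_closure⟩ : TopologicalSpace.Closeds X) = DualMod3.compl C :=
    TopologicalSpace.Closeds.ext (by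
      show closure _ = closure _
      rw [Scheme.IdealSheafData.coe_support_vanishingIdeal]
      rfl)
  have hker := DualMod3.ker_opens_compl (X := X) (isClosed_of_mem_irreducibleComponents C hC)
  have hg0 : n = 0 := by
    letI : J.subscheme.Over (Spec (CommRingCat.of k)) := ⟨J.subschemeι ≫ (X ↘ (Spec (CommRingCat.of k)))⟩
    haveI : Subsingleton (Coh.HH J.subscheme (Coh.structureModule J.subscheme) 1) := hH1
    have hz : Curv2.genus k J.subscheme = 0 := Module.finrank_zero_of_subsingleton
    rw [hz] at hn
    rcases mul_eq_zero.1 hn.symm with e | e <;> omega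
  have hm' : m ≤ 1 := hms (by
    have key : ∀ (IZ : X.IdealSheafData) (_ : (Scheme.Opens.ι (⟨Cᶜ, (isClosed_of_mem_irreducibleComponents C hC).isOpen_compl⟩ : X.Opens)).ker = IZ),
        Function.Surjective (Scheme.IdealSheafData.inclusion (le_sup_left : J ≤ J ⊔ IZ)).appTop := by
      rintro _ rfl
      intro b
      let Q := J ⊔ (Scheme.Opens.ι (⟨Cᶜ, (isClosed_of_mem_irreducibleComponents C hC).isOpen_compl⟩ : X.Opens)).ker
      let incl := Scheme.IdealSheafData.inclusion (le_sup_left : J ≤ Q)
      obtain ⟨c⟩ := hne
      obtain ⟨z, hz⟩ := DualMod3.surjective_residueFieldMap incl c (Q.subscheme.Γevaluation c b)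
      obtain ⟨a, ha⟩ := (heval c).2 z
      refine ⟨a, ?_⟩
      have h1 : Q.subscheme.Γevaluation c (incl.appTop a) = Q.subscheme.Γevaluation c b := by
        rw [← Scheme.Γevaluation_naturality_apply incl c a, ← hz]
        exact congrArg _ ha
      haveI : AlgebraicGeometry.IsReduced Q.subscheme := hred'
      refine sub_eq_zero.1 ((basicOpen_eq_bot_iff (incl.appTop a - b)).1 (eq_bot_iff.2 fun w hw => ?_))
      exfalso
      haveI : Subsingleton Q.subscheme := hsub
      rw [Subsingleton.elim w c] at hw
      exact (Scheme.evaluation_ne_zero_iff_mem_basicOpen _ _ _ (incl.appTop a - b)).2 hw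
        (by rw [map_sub]; exact sub_eq_zero.2 h1)
    exact key _ (hker.trans (congrArg _ hsupp.symm)))
  refine lt_of_eq_of_lt hdeg ?_
  rw [hg0]
  have : (1 : ℤ) ≤ (H : ℤ) := by exact_mod_cast hpos
  have : (m : ℤ) ≤ 1 := by exact_mod_cast hm'
  push_cast
  nlinarith


end Groth.Agent.S1671
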