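import Groth.Statements.S16711
import Groth.Agent.VarietyLib.NakaiCurves
import Groth.Agent.CurveRR24.Section

set_option autoImplicit false
universe u
open CategoryTheory CategoryTheory.Limits AlgebraicGeometry TopologicalSpace
open Variety
open Groth.Agent

namespace Groth.Agent.S16711



/-- The implication from the fourth condition to ampleness. Fix an algebraically closed field k, a
proper k-scheme X and an invertible O_X-module L. Assume that L is strictly nef, meaning χ(O_C ⊗ L)
- χ(O_C) > 0 for every integral closed subscheme C ⊆ X of dimension one, and that for every integral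
closed subscheme Z ⊆ X some positive tensor power of the pullback L|_Z has a nonzero global section
O_Z → L|_Z^{⊗ m}. Then L is ample. -/
theorem result (k : Type u) [Field k] [IsAlgClosed k]
    (X : Scheme.{u}) [X.Over (Spec (CommRingCat.of k))] [IsProper (X ↘ (Spec (CommRingCat.of k)))]
    (L : X.Modules) (hL : PicF.IsInvertible L)
    (hnef : ∀ C : X.IdealSheafData, IsIntegral C.subscheme →
      topologicalKrullDim (C.support : Set X) = 1 →
        0 < Curv2.euler k X (CohB1.tensorMod (ClSub.quotMod C) L) - Curv2.euler k X (ClSub.quotMod C))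
    (heff : ∀ Z : X.IdealSheafData, IsIntegral Z.subscheme →
      ∃ (m : ℕ) (s : Coh.structureModule Z.subscheme ⟶
          CohB1.tensorPow ((Scheme.Modules.pullback Z.subschemeι).obj L) (m + 1)), s ≠ 0) :
    CohB1.IsAmple L := by
  haveI : IsNoetherian X := EulerLib.isNoetherian_of_proper (X := X) k
  refine VarietyLib.isAmple_of_posInt k hL (VarietyLib.posInt_of_effective k hL (fun z hz => ?_) fun z => ?_)
  · rw [VarietyLib.interDeg_one_eq k hL]
    exact hnef (AssSch12.clI z) (VarietyLib.isIntegral_clI z) (by rw [VarietyLib.support_clI, hz]; rfl)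
  · obtain ⟨m, s, hs⟩ := heff (AssSch12.clI z) (VarietyLib.isIntegral_clI z)
    refine ⟨m, Coherent.unitVal s ⊤, fun h => hs ?_⟩
    rw [← AmpleLib.unitDesc_unitVal s, h]
    refine Scheme.Modules.hom_ext _ _ fun V => ConcreteCategory.hom_ext _ _ fun r => ?_
    exact (CurveRR24.unitDesc_app _ 0 V r).trans (by rw [map_zero, smul_zero]; rfl)

end Groth.Agent.S16711
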