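import Groth.Statements.S16712
import Groth.Agent.VarietyLib.CurvePull

set_option autoImplicit false
universe u
open CategoryTheory CategoryTheory.Limits AlgebraicGeometry TopologicalSpace
open Variety
open Groth.Agent

namespace Groth.Agent.S16712

/-- Let X and X' be proper schemes over a field k, f : X' → X a surjective k-morphism and L an
invertible O_X-module. Then L is nef, meaning χ(O_C ⊗ L) - χ(O_C) ≥ 0 for every integral closed
subscheme C ⊆ X of dimension one, if and only if the pullback f^*L is nef on X' in the same sense. -/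
theorem result (k : Type u) [Field k] (X X' : Scheme.{u})
    [X.Over (Spec (CommRingCat.of k))] [IsProper (X ↘ (Spec (CommRingCat.of k)))]
    [X'.Over (Spec (CommRingCat.of k))] [IsProper (X' ↘ (Spec (CommRingCat.of k)))]
    (f : X' ⟶ X) (hf : f ≫ (X ↘ (Spec (CommRingCat.of k))) = X' ↘ (Spec (CommRingCat.of k)))
    [Surjective f] (L : X.Modules) (hL : PicF.IsInvertible L) :
    (∀ C : X.IdealSheafData, IsIntegral C.subscheme →
        topologicalKrullDim (C.support : Set X) = 1 →
          0 ≤ Curv2.euler k X (CohB1.tensorMod (ClSub.quotMod C) L) - Curv2.euler k X (ClSub.quotMod C)) ↔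
      (∀ C' : X'.IdealSheafData, IsIntegral C'.subscheme →
        topologicalKrullDim (C'.support : Set X') = 1 →
          0 ≤ Curv2.euler k X' (CohB1.tensorMod (ClSub.quotMod C') ((Scheme.Modules.pullback f).obj L)) -
            Curv2.euler k X' (ClSub.quotMod C')) := by
  have hL' := PicLoc.isInvertible_pullback f hL
  let a := EulerLib.InvCl.mk L hL
  have key : ∀ (z : X') (hz : topologicalKrullDim (closure ({z} : Set X')) = ((1 : ℕ) : WithBot ℕ∞)),
      Curv2.euler k X' (CohB1.tensorMod (ClSub.quotMod (AssSch12.clI z)) ((Scheme.Modules.pullback f).obj L)) -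
        Curv2.euler k X' (ClSub.quotMod (AssSch12.clI z)) =
      (f.residueDegree z : ℤ) * EulerLib.interDeg (fun _ : Fin 1 => a) (EulerLib.chiCl k (AssSch12.clM (f z))) := by
    intro z hz
    refine Eq.trans ?_ (VarietyLib.interDeg_pull_clM k f hf z hz (fun _ => a))
    exact (VarietyLib.interDeg_one_eq k hL' (AssSch12.clM z)).symm
  constructor
  · intro h C' hC' hdim
    haveI := hC'
    obtain ⟨z, rfl⟩ : ∃ z, C' = AssSch12.clI z := ⟨_, VarietyLib.eq_clI_of_isIntegral C'⟩
    rw [VarietyLib.support_clI] at hdim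
    rw [key z (by exact_mod_cast hdim)]
    haveI : LocallyOfFiniteType (f ≫ (X ↘ Spec (CommRingCat.of k))) := by rw [hf]; infer_instance
    have hle := DimLib.ptDim_apply_le (X ↘ Spec (CommRingCat.of k)) f z
    have hzd : DimLib.ptDim (f ≫ (X ↘ Spec (CommRingCat.of k))) z = 1 := by
      rw [hf]
      rw [VarietyLib.dim_closure_eq_ptDim k z] at hdim
      exact_mod_cast hdim
    rw [hzd] at hle
    have hd : topologicalKrullDim (closure ({f z} : Set X)) = (DimLib.ptDim (X ↘ Spec (CommRingCat.of k)) (f z) : WithBot ℕ∞) :=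
      VarietyLib.dim_closure_eq_ptDim k (f z)
    rcases Nat.le_one_iff_eq_zero_or_eq_one.1 hle with h0 | h1
    · rw [h0] at hd
      haveI := EulerLib.isNoetherian_of_proper (X := X) k
      rw [EulerLib.interDeg_eq_zero _ (EulerLib.finDeg_chiCl k (Coherent.isCoh_clM (f z))
        (((EulerLib.dim_mono (EulerLib.support_clM_subset (f z))).trans hd.le).trans_lt (by norm_num))), mul_zero]
    · rw [h1] at hd
      refine mul_nonneg (Int.natCast_nonneg _) ?_
      rw [VarietyLib.interDeg_one_eq k hL]
      exact h (AssSch12.clI (f z)) (VarietyLib.isIntegral_clI (f z)) (by rw [VarietyLib.support_clI, hd]; rfl)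
  · intro h C hC hdim
    haveI := hC
    obtain ⟨ξ, rfl⟩ : ∃ ξ, C = AssSch12.clI ξ := ⟨_, VarietyLib.eq_clI_of_isIntegral C⟩
    rw [VarietyLib.support_clI] at hdim
    obtain ⟨z, rfl, hzd⟩ := VarietyLib.exists_point_over k f hf ξ
    have hzdim : topologicalKrullDim (closure ({z} : Set X')) = ((1 : ℕ) : WithBot ℕ∞) := by
      rw [VarietyLib.dim_closure_eq_ptDim k z, hzd, ← VarietyLib.dim_closure_eq_ptDim k (f z), hdim, Nat.cast_one]
    have h' := h (AssSch12.clI z) (VarietyLib.isIntegral_clI z) (by rw [VarietyLib.support_clI, hzdim, Nat.cast_one])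
    rw [key z hzdim] at h'
    have hpos : (0 : ℤ) < f.residueDegree z :=
      Int.natCast_pos.2 (Nat.pos_of_ne_zero (VarietyLib.residueDegree_ne_zero k f hf hzd))
    have h1 := (mul_nonneg_iff_of_pos_left hpos).1 h'
    rw [VarietyLib.interDeg_one_eq k hL] at h1
    exact h1

end Groth.Agent.S16712
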