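import Groth.Statements.S16718
import Groth.Agent.HopfLib.Comod
import Mathlib.RingTheory.FiniteType

set_option autoImplicit false
universe u v w
open TensorProduct
open GLin

namespace Groth.Agent.S16718

/-- Let k be a field, A a finitely generated commutative Hopf algebra over k (an affine algebraic group
G), R a finitely generated commutative k-algebra carrying an A-comodule structure whose coaction is
an algebra homomorphism (an action of G on X = Spec R), and I an ideal of R which is a subcomodule
(a G-invariant closed subscheme Z of X). Then there is a finite-dimensional subcomodule W of R with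
W ⊆ I generating I as an ideal; equivalently there is a G-equivariant morphism f from X to the
affine space of a finite-dimensional G-representation with f⁻¹(0) = Z as closed subschemes. -/
theorem result (k : Type u) [Field k]
    (A : Type v) [CommRing A] [HopfAlgebra k A] (hA : Algebra.FiniteType k A)
    (R : Type w) [CommRing R] [Algebra k R] [HopfRep.Comod k A R] [GLin.IsCoactAlg k A R]
    (hR : Algebra.FiniteType k R) (I : Ideal R)
    (hI : HopfRep.IsSubcomod (k := k) (A := A) (I.restrictScalars k)) :
    ∃ W : Submodule k R, Module.Finite k W ∧ HopfRep.IsSubcomod (k := k) (A := A) W ∧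
      W ≤ I.restrictScalars k ∧ Ideal.span (W : Set R) = I := by
  have hN : IsNoetherianRing R := Algebra.FiniteType.isNoetherianRing k R
  obtain ⟨s, hs⟩ : I.FG := IsNoetherian.noetherian I
  have hsI : (s : Set R) ⊆ I := hs ▸ Ideal.subset_span
  obtain ⟨W, hW, hsW, hWs⟩ := Groth.Agent.HopfLib.exists_finite_subcomod (k := k) (A := A) (V := R)
    (s : Set R) s.finite_toSet
  have : Module.Finite k W := hW
  refine ⟨W ⊓ I.restrictScalars k, Submodule.finiteDimensional_inf_left W (I.restrictScalars k),
    Groth.Agent.HopfLib.isSubcomod_inf hWs hI, inf_le_right, le_antisymm ?_ ?_⟩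
  · exact Ideal.span_le.2 fun x hx => hx.2
  · exact hs.ge.trans (Ideal.span_mono fun x hx => ⟨hsW hx, hsI hx⟩)

end Groth.Agent.S16718
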