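import Groth.Statements.S1673
import Groth.Agent.DualMod3.TailApps
import Groth.Agent.Clifford24.Subcurves.Main
-- import your own Groth.Agent.* helpers here

set_option autoImplicit false
universe u
open CategoryTheory CategoryTheory.Limits AlgebraicGeometry
attribute [local instance] HasDerivedCategory.standard
open Curves

set_option backward.isDefEq.respectTransparency false
set_option linter.style.haveILetI false
set_option maxHeartbeats 1000000
open Groth.Agent

namespace Groth.Agent.S1673

/-- Let X be proper of dimension one over k with global functions k, at-worst-nodal singularities and no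
rational tail, and ω_X its dualizing module (via f^! O, assuming Rf_* on D_QCoh and its right
adjoint exist). In genus 1, ω_X ≅ O_X; in genus at least 2, every tensor power ω_X^{⊗m} with m ≥ 2
is globally generated. -/
theorem result (k : Type u) [Field k] (X : Scheme.{u}) [X.Over (Spec (CommRingCat.of k))] [IsProper (X ↘ (Spec (CommRingCat.of k)))] (hdim : topologicalKrullDim X = 1)
    (h0 : Module.finrank k (Coh.HH X (Coh.structureModule X) 0) = 1) (hX : Curv2.AtWorstNodal k X) (hnt : ∀ (C : Set X) (hC : C ∈ irreducibleComponents (X : Type u)), ¬ Curv2.IsRationalTail X C hC)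
    [DCoh.HasRpush (X ↘ (Spec (CommRingCat.of k)))] (h : DCoh.RpushPreservesQCoh (X ↘ (Spec (CommRingCat.of k)))) [DCoh.HasShriek (X ↘ (Spec (CommRingCat.of k))) h]
    (OY : DCoh.DQCoh (Spec (CommRingCat.of k))) (hOY : Nonempty (OY.obj ≅ DCoh.inD (Spec (CommRingCat.of k)) (Coh.structureModule (Spec (CommRingCat.of k))))) :
    (Curv2.genus k X = 1 → Nonempty ((DCoh.dualizingMod (X ↘ (Spec (CommRingCat.of k))) h OY 1) ≅ Coh.structureModule X)) ∧
      (2 ≤ Curv2.genus k X → ∀ m : ℕ, 2 ≤ m → Curv2.IsGloballyGenerated (CohB1.tensorPow (DCoh.dualizingMod (X ↘ (Spec (CommRingCat.of k))) h OY 1) m)) := by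
  haveI := EulerLib.isNoetherian_of_proper k (X := X)
  obtain ⟨hred, hconn, hW, ⟨t, hrep⟩, hWe, hdW⟩ := DualMod3.nodal_setup k hdim h0 hX h OY hOY
  haveI := hred
  haveI := hconn
  generalize DCoh.dualizingMod (X ↘ (Spec (CommRingCat.of k))) h OY 1 = W at *
  refine ⟨fun hg => DualMod3.trivial_of_genus_one k hdim hW t hrep hWe (by omega) hg hnt, fun hg m hm => ?_⟩
  obtain ⟨-, hle⟩ := DualMod3.genus_le_deg k hdim hW t hrep hWe hnt (Or.inl (by omega))
  have hp := AmpleLib.isInvertible_tensorPow hW m
  refine (Subcurves24.gl_of_deg_subcurves k hdim hp fun J hJr hJc hJ => ?_).globallyGenerated hp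
  rw [DualMod3.deg_sub_pow k hdim.le J hW m]
  have hm' : (2 : ℤ) ≤ (m : ℤ) := by exact_mod_cast hm
  by_cases hb : J = ⊥
  · subst hb
    have hg' : @Curv2.genus k _ (⊥ : X.IdealSheafData).subscheme ⟨(⊥ : X.IdealSheafData).subschemeι ≫ (X ↘ (Spec (CommRingCat.of k)))⟩ = Curv2.genus k X := by
      have h1 := DualMod3.euler_bot_structure k (X := X)
      have h2 := DualMod3.h0_eq_of_eq_bot k (⊥ : X.IdealSheafData) rfl
      have h3 := CurveRR24.euler_structure k (X := X) hdim.le
      letI : (⊥ : X.IdealSheafData).subscheme.Over (Spec (CommRingCat.of k)) := ⟨(⊥ : X.IdealSheafData).subschemeι ≫ (X ↘ (Spec (CommRingCat.of k)))⟩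
      haveI : IsProper ((⊥ : X.IdealSheafData).subscheme ↘ Spec (CommRingCat.of k)) :=
        inferInstanceAs (IsProper ((⊥ : X.IdealSheafData).subschemeι ≫ (X ↘ (Spec (CommRingCat.of k)))))
      have h4 := CurveRR24.euler_structure k (X := (⊥ : X.IdealSheafData).subscheme) hJ.le
      omega
    have hd : @Curv2.deg k _ (⊥ : X.IdealSheafData).subscheme ⟨(⊥ : X.IdealSheafData).subschemeι ≫ (X ↘ (Spec (CommRingCat.of k)))⟩
        ((Scheme.Modules.pullback (⊥ : X.IdealSheafData).subschemeι).obj W) 1 = Curv2.deg k X W 1 := by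
      simp only [Curv2.deg, Nat.cast_one, one_mul]
      rw [DualMod3.euler_bot k hW, DualMod3.euler_bot_structure k]
    rw [hg', hd, hdW]
    have : (2 : ℤ) ≤ (Curv2.genus k X : ℤ) := by exact_mod_cast hg
    nlinarith
  · have h1 := hle J hJr hJc hJ hb
    nlinarith


end Groth.Agent.S1673
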