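import Groth.Statements.S1674
import Groth.Agent.DualMod3.TailApps
import Groth.Agent.Clifford24.Subcurves.Main
-- import your own Groth.Agent.* helpers here

set_option autoImplicit false
universe u
open CategoryTheory CategoryTheory.Limits AlgebraicGeometry
attribute [local instance] HasDerivedCategory.standard
open Curves

set_option backward.isDefEq.respectTransparency false
set_option linter.style.haveILetI false
set_option maxHeartbeats 1000000
open Groth.Agent

namespace Groth.Agent.S1674

/-- Let X be proper of dimension one over k with global functions k and at-worst-nodal singularities,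
ω_X its dualizing module (via f^! O, assuming Rf_* on D_QCoh and its right adjoint exist), and C ⊆ X
a rational bridge, viewed as a reduced closed subscheme. Then the restriction of ω_X to C has degree
zero (over k). -/
theorem result (k : Type u) [Field k] (X : Scheme.{u}) [X.Over (Spec (CommRingCat.of k))] [IsProper (X ↘ (Spec (CommRingCat.of k)))] (hdim : topologicalKrullDim X = 1)
    (h0 : Module.finrank k (Coh.HH X (Coh.structureModule X) 0) = 1) (hX : Curv2.AtWorstNodal k X)
    [DCoh.HasRpush (X ↘ (Spec (CommRingCat.of k)))] (h : DCoh.RpushPreservesQCoh (X ↘ (Spec (CommRingCat.of k)))) [DCoh.HasShriek (X ↘ (Spec (CommRingCat.of k))) h]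
    (OY : DCoh.DQCoh (Spec (CommRingCat.of k))) (hOY : Nonempty (OY.obj ≅ DCoh.inD (Spec (CommRingCat.of k)) (Coh.structureModule (Spec (CommRingCat.of k)))))
    (C : Set X) (hC : C ∈ irreducibleComponents (X : Type u)) (hCb : Curv2.IsRationalBridge k X C hC) :
    @Curv2.deg k _ (Scheme.IdealSheafData.vanishingIdeal ⟨C, isClosed_of_mem_irreducibleComponents C hC⟩).subscheme
        ⟨(Scheme.IdealSheafData.vanishingIdeal ⟨C, isClosed_of_mem_irreducibleComponents C hC⟩).subschemeι ≫ (X ↘ (Spec (CommRingCat.of k)))⟩
        ((Scheme.Modules.pullback (Scheme.IdealSheafData.vanishingIdeal ⟨C, isClosed_of_mem_irreducibleComponents C hC⟩).subschemeι).obj (DCoh.dualizingMod (X ↘ (Spec (CommRingCat.of k))) h OY 1)) 1 = 0 := by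
  haveI := EulerLib.isNoetherian_of_proper k (X := X)
  obtain ⟨hred, hconn, hW, ⟨t, hrep⟩, hWe, hdW⟩ := DualMod3.nodal_setup k hdim h0 hX h OY hOY
  haveI := hred
  haveI := hconn
  generalize DCoh.dualizingMod (X ↘ (Spec (CommRingCat.of k))) h OY 1 = W at *
  obtain ⟨-, hdeg2, hH1⟩ := hCb
  haveI : IsIntegral (Scheme.IdealSheafData.vanishingIdeal (⟨C, isClosed_of_mem_irreducibleComponents C hC⟩ : TopologicalSpace.Closeds X)).subscheme :=
    VarietyLib.isIntegral_vanishingIdeal _ hC.1
  let J : X.IdealSheafData := Scheme.IdealSheafData.vanishingIdeal (⟨C, isClosed_of_mem_irreducibleComponents C hC⟩ : TopologicalSpace.Closeds X)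
  haveI : IsIntegral J.subscheme := VarietyLib.isIntegral_vanishingIdeal _ hC.1
  haveI : AlgebraicGeometry.IsReduced J.subscheme := inferInstance
  haveI : ConnectedSpace J.subscheme := inferInstance
  have hd : topologicalKrullDim J.subscheme = 1 :=
    (VarietyLib.topologicalKrullDim_vanishingIdeal _).trans (DualMod3.components_dim_one hdim hC)
  obtain ⟨H, n, m, hpos, hH, hn, hm, hdeg, hm0, hm1, hms⟩ := DualMod3.sub_data k hdim.le hW t hrep hWe J hd
  have hsupp : (⟨closure ((J.support : Set X)ᶜ), isClosed_closure⟩ : TopologicalSpace.Closeds X) = DualMod3.compl C :=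
    TopologicalSpace.Closeds.ext (by
      show closure _ = closure _
      rw [Scheme.IdealSheafData.coe_support_vanishingIdeal]
      rfl)
  letI : J.subscheme.Over (Spec (CommRingCat.of k)) := ⟨J.subschemeι ≫ (X ↘ (Spec (CommRingCat.of k)))⟩
  have hker := DualMod3.ker_opens_compl (X := X) (isClosed_of_mem_irreducibleComponents C hC)
  have hg0 : n = 0 := by
    letI : J.subscheme.Over (Spec (CommRingCat.of k)) := ⟨J.subschemeι ≫ (X ↘ (Spec (CommRingCat.of k)))⟩
    haveI : Subsingleton (Coh.HH J.subscheme (Coh.structureModule J.subscheme) 1) := hH1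
    have hz : Curv2.genus k J.subscheme = 0 := Module.finrank_zero_of_subsingleton
    rw [hz] at hn
    rcases mul_eq_zero.1 hn.symm with e | e <;> omega
  have hm' : m = 2 := by
    rw [hker, Surf15.finrank_h0_quotMod k J rfl] at hdeg2
    have hd2 : DualMod3.delta k J = Module.finrank k (Coh.HH X (ClSub.quotMod (J ⊔ Subcurves24.red (DualMod3.compl C))) 0) := by
      unfold DualMod3.delta
      rw [hsupp]
    rw [hd2] at hm
    rw [hm, ← hH] at hdeg2
    exact Nat.eq_of_mul_eq_mul_left hpos (hdeg2.trans (mul_comm _ _))
  refine hdeg.trans ?_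
  rw [hg0, hm']
  norm_num


end Groth.Agent.S1674
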