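import Groth.Statements.S16731
import Groth.Agent.TFPush7.PointedNum
import Groth.Agent.TFPush7.PointedSemi
import Groth.Agent.DualMod3.TailNum
import Groth.Agent.TFPush7.StableComp
import Groth.Agent.S14512
import Groth.Agent.CurveRR24.DoubleCover.Morphism

set_option linter.style.haveILetI false
set_option backward.isDefEq.respectTransparency false
set_option backward.isDefEq.respectTransparency.types false
set_option maxHeartbeats 1000000

set_option autoImplicit false
universe u
open CurvSt

namespace Groth.Agent.S16731

open CategoryTheory CategoryTheory.Limits AlgebraicGeometry in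
/-- Let k be an algebraically closed field and X a proper connected scheme over k of dimension one with
at-worst-nodal singularities. For a natural number g the following are equivalent: (i) X, with no
marked points, is a stable curve of genus g in the component form — dim H^1(X, O_X) = g, every
irreducible component which is a smooth rational curve (the image of a closed immersion of the
projective line) contains at least three points lying on other components, and 2g ≥ 3; (ii) dim
H^1(X, O_X) = g with g ≥ 2, and no irreducible component of X is a rational tail or a rational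
bridge. (With no marked points the published statement excludes only genus one; it fails for the
projective line, which has genus zero, no rational tail and no rational bridge, and is not stable,
so genus at least two is required in (ii) here — exactly what the inequality 2g ≥ 3 of (i) forces.) -/
theorem result (k : Type u) [Field k] [IsAlgClosed k] (X : Scheme.{u})
    [X.Over (Spec (CommRingCat.of k))] [IsProper (X ↘ Spec (CommRingCat.of k))] [ConnectedSpace X]
    (hdim : topologicalKrullDim X = 1) (hX : Curv2.AtWorstNodal k X) (g : ℕ) :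
    CurvSt.IsStablePtd k X (X ↘ Spec (CommRingCat.of k)) g (Fin.elim0 : Fin 0 → X) ↔
      (Curv2.genus k X = g ∧ 2 ≤ g ∧
        (∀ (C : Set X) (hC : C ∈ irreducibleComponents (X : Type u)), ¬ Curv2.IsRationalTail X C hC) ∧
        (∀ (C : Set X) (hC : C ∈ irreducibleComponents (X : Type u)), ¬ Curv2.IsRationalBridge k X C hC)) := by
  classical
  haveI := Groth.Agent.EulerLib.isNoetherian_of_proper k (X := X)
  haveI : X.IsSeparated := Groth.Agent.EulerLib.isSeparated_of_proper (X := X) k
  haveI := Groth.Agent.NodeLib7.geometricallyReduced_of_atWorstNodal k X hX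
  haveI : AlgebraicGeometry.IsReduced X := GeometricallyReduced.geometrically_isReduced
    (f := X ↘ Spec (CommRingCat.of k)) (𝟙 _) (𝟙 X) (X ↘ Spec (CommRingCat.of k)) (IsPullback.of_horiz_isIso ⟨by simp⟩)
  let f := X ↘ Spec (CommRingCat.of k)
  haveI : DCoh.HasRpush f := Groth.Agent.DCat.hasRpush f
  have hp : DCoh.RpushPreservesQCoh f := fun K hK => Groth.Agent.DQCoh.isQCohD_Rpush f K hK
  haveI : DCoh.HasShriek f hp := Groth.Agent.Dual22Lib.AdjGeom.isLeftAdjoint_RpushQ f hp
  let OY : DCoh.DQCoh (Spec (CommRingCat.of k)) :=
    ⟨DCoh.inD (Spec (CommRingCat.of k)) (Coh.structureModule _), Groth.Agent.DCat.RelEquivBC.isQCohD_inD_structure _⟩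
  have hmeet := Groth.Agent.TFPush7.StableComp.meetPts_eq (X := X)
  have hcomp := Groth.Agent.TFPush7.StableComp.component_data k X hdim hX hp OY ⟨Iso.refl _⟩
  constructor
  · rintro ⟨-, -, -, ⟨-, hg⟩, -, -, hst, hg2⟩
    -- a component without `H¹` is a smooth rational component
    have hrat : ∀ (C : Set X) (hC : C ∈ irreducibleComponents (X : Type u)),
        Subsingleton (Coh.HH (Scheme.IdealSheafData.vanishingIdeal ⟨C, isClosed_of_mem_irreducibleComponents C hC⟩).subscheme
          (Coh.structureModule _) 1) → 3 ≤ (C ∩ closure Cᶜ).ncard := fun C hC h1 => by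
      let T : TopologicalSpace.Closeds X := ⟨C, isClosed_of_mem_irreducibleComponents C hC⟩
      let J := Scheme.IdealSheafData.vanishingIdeal T
      haveI : IsIntegral J.subscheme := Groth.Agent.VarietyLib.isIntegral_vanishingIdeal T hC.1
      have hJd : topologicalKrullDim J.subscheme = 1 := (Groth.Agent.VarietyLib.topologicalKrullDim_vanishingIdeal T).trans
        (Groth.Agent.DualMod3.components_dim_one hdim hC)
      letI : J.subscheme.Over (Spec (CommRingCat.of k)) := ⟨J.subschemeι ≫ (X ↘ (Spec (CommRingCat.of k)))⟩
      haveI : IsProper (J.subscheme ↘ Spec (CommRingCat.of k)) :=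
        inferInstanceAs (IsProper (J.subschemeι ≫ (X ↘ (Spec (CommRingCat.of k)))))
      haveI := Groth.Agent.EulerLib.isNoetherian_of_proper k (X := J.subscheme)
      have hg0 : Curv2.genus k J.subscheme = 0 := @Module.finrank_zero_of_subsingleton k _ _ _ _ _ h1
      haveI := Groth.Agent.S14512.result k J.subscheme hJd hg0
      obtain ⟨P, -, hP⟩ := IsClosed.exists_closed_singleton (isClosed_univ (X := J.subscheme))
        ⟨Classical.arbitrary J.subscheme, trivial⟩
      obtain ⟨L, hL, hdeg⟩ := Groth.Agent.CurveRR24.exists_deg_one_of_section k hJd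
        (pointOfClosedPoint (J.subscheme ↘ Spec (CommRingCat.of k)) P hP) (pointOfClosedPoint_comp _ P hP)
      obtain ⟨e, he⟩ := Groth.Agent.CurveRR24.exists_iso_projLine_of_h1 k hJd h1 hL hdeg
      have hE : CurvSt.IsSmRatComp k X (X ↘ Spec (CommRingCat.of k)) C := by
        refine ⟨hC, e.inv ≫ J.subschemeι, inferInstance, ?_, ?_⟩
        · rw [Category.assoc, Iso.inv_comp_eq]
          exact he.symm
        · have hr : Set.range J.subschemeι = C := by
            rw [J.range_subschemeι, Scheme.IdealSheafData.coe_support_vanishingIdeal]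
            rfl
          rw [Scheme.Hom.comp_base, TopCat.coe_comp, Set.range_comp,
            show Set.range ⇑e.inv = Set.univ from Set.range_eq_univ.2 e.inv.homeomorph.surjective,
            Set.image_univ, hr]
      have h3 := hst C hE
      haveI : IsEmpty {i : Fin 0 // (Fin.elim0 : Fin 0 → X) i ∈ C} := ⟨fun i => i.1.elim0⟩
      rw [Nat.card_of_isEmpty, Nat.cast_zero, add_zero, hmeet C hC] at h3
      obtain ⟨-, -, -, hfin, -⟩ := hcomp C hC
      rw [← hfin.cast_ncard_eq] at h3
      exact_mod_cast h3
    refine ⟨hg, by omega, fun C hC htl => ?_, fun C hC hbr => ?_⟩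
    · obtain ⟨n, m, hm, -, hsub, -, -, -, h4, -⟩ := hcomp C hC
      have h1 := htl.2.2.2.2.2
      have := h4 (hsub.2 h1) htl
      have := hrat C hC h1
      omega
    · obtain ⟨n, m, hm, -, hsub, -, -, -, -, h5⟩ := hcomp C hC
      have h1 := hbr.2.2
      have := h5 (hsub.2 h1) hbr
      have := hrat C hC h1
      omega
  · rintro ⟨hg, hg2, hnt, hnb⟩
    refine ⟨inferInstance, inferInstance, hdim, ⟨hX, hg⟩, fun a => a.elim0, fun i => i.elim0, ?_, by omega⟩
    rintro E ⟨hE, e, he, heq, hr⟩
    obtain ⟨n, m, hm, hfin, hsub, h0', h1', h2', -, -⟩ := hcomp E hE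
    have hn0 : n = 0 := by
      refine hsub.2 ?_
      haveI := he
      let T : TopologicalSpace.Closeds X := ⟨E, isClosed_of_mem_irreducibleComponents E hE⟩
      have hT : T = Groth.Agent.Props12.rangeClosure e := TopologicalSpace.Closeds.ext (by
        show E = closure (Set.range e)
        rw [show Set.range e = E from hr, (isClosed_of_mem_irreducibleComponents E hE).closure_eq])
      show Subsingleton (Coh.HH (Scheme.IdealSheafData.vanishingIdeal T).subscheme (Coh.structureModule _) 1)
      haveI : IsIntegral (CohB1.ProjSpace 1 k) := Groth.Agent.CurveLib.isIntegral_projSpace k 1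
      rw [hT, ← Groth.Agent.Props12.ker_eq_vanishingIdeal e]
      obtain ⟨φ, hφ⟩ : ∃ φ : CohB1.ProjSpace 1 k ≅ e.ker.subscheme, φ.hom ≫ e.ker.subschemeι = e :=
        ⟨asIso e.toImage, e.toImage_imageι⟩
      letI : e.ker.subscheme.Over (Spec (CommRingCat.of k)) := ⟨e.ker.subschemeι ≫ (X ↘ (Spec (CommRingCat.of k)))⟩
      haveI : IsProper (e.ker.subscheme ↘ Spec (CommRingCat.of k)) :=
        inferInstanceAs (IsProper (e.ker.subschemeι ≫ (X ↘ (Spec (CommRingCat.of k)))))
      haveI := Groth.Agent.EulerLib.isNoetherian_of_proper k (X := e.ker.subscheme)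
      haveI := Groth.Agent.CurveRR24.finite_HH_of_isCoh k (Groth.Agent.Coherent.isCoh_structureModule e.ker.subscheme) 1
      refine (Module.finrank_zero_iff (R := k)).1 (Groth.Agent.CurveRR24.genus_of_iso_projLine k φ.symm ?_)
      show φ.inv ≫ CohB1.ProjSpace.toSpec 1 k = e.ker.subschemeι ≫ (X ↘ (Spec (CommRingCat.of k)))
      rw [← heq, ← Category.assoc, show φ.inv ≫ e = e.ker.subschemeι from (Iso.inv_comp_eq φ).2 hφ.symm]
    haveI : IsEmpty {i : Fin 0 // (Fin.elim0 : Fin 0 → X) i ∈ E} := ⟨fun i => i.1.elim0⟩
    rw [Nat.card_of_isEmpty, Nat.cast_zero, add_zero, hmeet E hE, ← hfin.cast_ncard_eq, ← hm]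
    have : m ≠ 0 := fun h => by have := h0' hn0 h; omega
    have : m ≠ 1 := fun h => hnt E hE (h1' hn0 h)
    have : m ≠ 2 := fun h => hnb E hE (h2' hn0 h)
    exact_mod_cast (show 3 ≤ m by omega)

end Groth.Agent.S16731
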