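import Groth.Statements.S16742
import Mathlib
import Groth.Prelude
import Groth.Agent.FlatCrit.Tor

set_option linter.all false

set_option autoImplicit false
universe u
open CAlg

open CategoryTheory CategoryTheory.Limits AlgebraicGeometry
open scoped TensorProduct

namespace Groth.Agent.S16742

/-- The equivalence in affine form, with flatness of the reduction in place of smoothness. Let p be a
prime, A~ a commutative ring flat over Z/p^2 and B~ an A~-algebra such that B~/pB~ is flat over
A~/pA~. Then B~ is flat over A~ if and only if every element of B~ killed by p is a multiple of p;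
equivalently multiplication by p identifies B~/pB~ with pB~. (The published statement assumes the
reduction smooth over A~/pA~ and the schemes noetherian, and phrases (b) as B~ being a lifting, that
is flat over A~; the statement here assumes only that the reduction is flat, where the equivalence
still holds by the local flatness criterion for the square-zero ideal generated by p.) -/
theorem result (p : ℕ) [Fact p.Prime]
    (Al : Type u) [CommRing Al] [Algebra (ZMod (p ^ 2)) Al] [Module.Flat (ZMod (p ^ 2)) Al]
    (Bl : Type u) [CommRing Bl] [Algebra Al Bl]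
    (hB : Module.Flat (Al ⧸ Ideal.span {(p : Al)})
      (Bl ⧸ (Ideal.span {(p : Al)}).map (algebraMap Al Bl))) :
    Module.Flat Al Bl ↔ ∀ b : Bl, (p : Bl) * b = 0 → b ∈ Ideal.span {(p : Bl)} := by
  classical
  have hpp : (p : Al) * p = 0 := by
    have : ((p : ZMod (p ^ 2))) * p = 0 := by rw [← Nat.cast_mul, ← pow_two, ZMod.natCast_self]
    simpa using congrArg (algebraMap (ZMod (p ^ 2)) Al) this
  have hann : ∀ x : Al, (p : Al) * x = 0 → (p : Al) ∣ x := by
    intro x hx
    have hx1 : ∑ i : Fin 1, (![(p : ZMod (p ^ 2))] i) • (![x] i) = 0 := by simpa [Algebra.smul_def] using hx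
    obtain ⟨κ, a, y, hy, ha⟩ := Module.Flat.isTrivialRelation_of_sum_smul_eq_zero (R := ZMod (p ^ 2)) (M := Al) (f := ![(p : ZMod (p ^ 2))]) (x := ![x]) hx1
    have hy0 := hy 0
    simp only [Matrix.cons_val_fin_one] at hy0
    rw [hy0]
    refine Finset.dvd_sum fun j _ => ?_
    have h0 := ha j
    simp only [Fin.sum_univ_one, Matrix.cons_val_fin_one] at h0
    haveI : NeZero (p ^ 2) := ⟨pow_ne_zero 2 (Fact.out : p.Prime).ne_zero⟩
    obtain ⟨t, ht⟩ : p ∣ (a 0 j).val := by
      have h1 : ((p * (a 0 j).val : ℕ) : ZMod (p ^ 2)) = 0 := by rw [Nat.cast_mul, ZMod.natCast_zmod_val]; exact h0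
      rw [ZMod.natCast_eq_zero_iff] at h1
      exact (Nat.mul_dvd_mul_iff_left (Fact.out : p.Prime).pos).1 ((dvd_of_eq (pow_two p).symm).trans h1)
    rw [← ZMod.natCast_zmod_val (a 0 j), ht, Algebra.smul_def]
    simp [mul_assoc]
  constructor
  · intro hflat b hb
    have hb1 : ∑ i : Fin 1, (![(p : Al)] i) • (![b] i) = 0 := by simpa [Algebra.smul_def] using hb
    obtain ⟨κ, a, y, hy, ha⟩ := Module.Flat.isTrivialRelation_of_sum_smul_eq_zero (R := Al) (M := Bl) (f := ![(p : Al)]) (x := ![b]) hb1
    have hy0 := hy 0
    simp only [Matrix.cons_val_fin_one] at hy0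
    rw [hy0, Ideal.mem_span_singleton]
    refine Finset.dvd_sum fun j _ => ?_
    have h0 := ha j
    simp only [Fin.sum_univ_one, Matrix.cons_val_fin_one] at h0
    obtain ⟨c, hc⟩ := hann _ h0
    rw [hc, Algebra.smul_def, map_mul, map_natCast, mul_assoc]
    exact dvd_mul_right _ _
  · intro hb
    set I := Ideal.span {(p : Al)}
    refine Groth.Agent.FlatCrit.flat_of_isNilpotent (I := I) ?_ ?_ ⟨2, (Ideal.span_singleton_pow _ 2).trans (by rw [pow_two, hpp]; simp)⟩
    · let g : Al →ₗ[Al] I :=
        (LinearMap.mulRight Al (p : Al)).codRestrict _ (fun r => Ideal.mul_mem_left _ _ (Ideal.mem_span_singleton_self _))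
      have hg : Function.Surjective g := by
        rintro ⟨z, hz⟩
        obtain ⟨a, rfl⟩ := Ideal.mem_span_singleton'.mp hz
        exact ⟨a, rfl⟩
      rw [injective_iff_map_eq_zero]
      intro x hx
      obtain ⟨y, rfl⟩ := LinearMap.rTensor_surjective Bl hg x
      obtain ⟨m, rfl⟩ := (TensorProduct.lid Al Bl).symm.surjective y
      have hg1 : (g 1 : Al) = p := one_mul _
      have : (p : Al) • m = 0 := by
        simpa [hg1, -LinearMap.codRestrict_apply] using congrArg (TensorProduct.lid Al Bl) hx
      rw [Algebra.smul_def, map_natCast] at this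
      obtain ⟨m', hm'⟩ := Ideal.mem_span_singleton.1 (hb m this)
      have hm'' : m = (p : Al) • m' := by rw [hm', Algebra.smul_def, map_natCast]
      simp only [TensorProduct.lid_symm_apply, LinearMap.rTensor_tmul]
      rw [hm'', ← TensorProduct.smul_tmul, ← map_smul, smul_eq_mul, mul_one]
      have : g (p : Al) = 0 := Subtype.ext hpp
      rw [this, TensorProduct.zero_tmul]
    · refine Groth.Agent.FlatCrit.quotFlat_of_flat I ?_
      have heq : I • (⊤ : Submodule Al Bl) = (I.map (algebraMap Al Bl)).restrictScalars Al := Ideal.smul_top_eq_map I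
      let e : ((Al ⧸ I) ⊗[Al] Bl) ≃ₗ[Al] (Bl ⧸ I.map (algebraMap Al Bl)) :=
        TensorProduct.quotTensorEquivQuotSMul Bl I ≪≫ₗ Submodule.quotEquivOfEq _ _ heq ≪≫ₗ Submodule.Quotient.restrictScalarsEquiv Al _
      exact Module.Flat.of_linearEquiv (LinearEquiv.extendScalarsOfSurjective Ideal.Quotient.mk_surjective e)

end Groth.Agent.S16742
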