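import Groth.Statements.S16744
import Groth.Agent.LogDR9.Proj

set_option autoImplicit false
universe u
open DeRham

namespace Groth.Agent.S16744

open exteriorPower in
/-- The case of affine n-space over an affine base of characteristic p with boundary divisor t_1⋯t_r =
0, all degrees. Let p be a prime, R a commutative ring with p = 0 in R, B = R[t_1, …, t_n] and r ≤
n. Let (L, ι, dl) be the module of differentials of B over R with logarithmic poles along t_1, …,
t_r, pinned by its defining properties (t_i · dl_i = ι(dt_i); ι(Ω_{B/R}) and the dl_i generate; no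
(t_1⋯t_r)-torsion; the kernel of ι is the (t_1⋯t_r)-power torsion), and let d be the logarithmic de
Rham differential on the exterior powers of L (the de Rham rule for ι ∘ d together with d(dl_i) = 0,
and d ∘ d = 0). Put w_ν = dl_ν for ν < r and w_ν = ι(t_ν^{p-1} dt_ν) for ν ≥ r (indices from 0), and
for an a-element set s of indices let e_s be the wedge of the w_ν, ν ∈ s, in increasing order. Then
an a-form with logarithmic poles is closed exactly when it is an exact form plus a combination Σ_s
g_s(t_1^p, …, t_n^p) · e_s with coefficients polynomials in the p-th powers of the variables, and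
such a combination is exact only if every g_s vanishes: the a-th cohomology of the logarithmic de
Rham complex of affine n-space is free over R[t_1^p, …, t_n^p] on the classes of the e_s. -/
theorem result (p : ℕ) [Fact p.Prime]
    (R : Type u) [CommRing R] [CharP R p] (n r a : ℕ) (hr : r ≤ n)
    (L : Type u) [AddCommGroup L] [Module (MvPolynomial (Fin n) R) L] [Module R L]
    [IsScalarTower R (MvPolynomial (Fin n) R) L]
    (ι : (Ω[MvPolynomial (Fin n) R⁄R]) →ₗ[MvPolynomial (Fin n) R] L) (dl : Fin r → L)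
    (hL : LogDiff.IsLog (KaehlerDifferential.D R (MvPolynomial (Fin n) R))
      (fun i : Fin r => (MvPolynomial.X (Fin.castLE hr i) : MvPolynomial (Fin n) R)) ι dl)
    (d : ∀ q : ℕ, ↥(⋀[MvPolynomial (Fin n) R]^q L) →ₗ[R] ↥(⋀[MvPolynomial (Fin n) R]^(q + 1) L))
    (hd : DeRham.IsDiff (ι.compDer (KaehlerDifferential.D R (MvPolynomial (Fin n) R))) d)
    (hlog : LogDiff.IsLogRule (KaehlerDifferential.D R (MvPolynomial (Fin n) R)) ι dl d)
    (w : Fin n → L) (hw : ∀ i : Fin r, w (Fin.castLE hr i) = dl i)
    (hw' : ∀ ν : Fin n, r ≤ (ν : ℕ) → w ν = ι (((MvPolynomial.X ν : MvPolynomial (Fin n) R) ^ (p - 1)) •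
      KaehlerDifferential.D R (MvPolynomial (Fin n) R) (MvPolynomial.X ν)))
    (e : Finset (Fin n) → ↥(⋀[MvPolynomial (Fin n) R]^a L))
    (he : ∀ (s : Finset (Fin n)) (hs : s.card = a),
      e s = exteriorPower.ιMulti (MvPolynomial (Fin n) R) a (fun j => w (s.orderEmbOfFin hs j))) :
    (∀ ω, ω ∈ DeRham.cocycles d a ↔
      ∃ (g : Finset (Fin n) → MvPolynomial (Fin n) R) (η : ↥(⋀[MvPolynomial (Fin n) R]^a L)),
        η ∈ DeRham.coboundaries d a ∧
          ω = η + ∑ s ∈ Finset.powersetCard a Finset.univ, MvPolynomial.expand p (g s) • e s) ∧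
    (∀ g : Finset (Fin n) → MvPolynomial (Fin n) R,
      (∑ s ∈ Finset.powersetCard a Finset.univ, MvPolynomial.expand p (g s) • e s) ∈ DeRham.coboundaries d a →
        ∀ s ∈ Finset.powersetCard a (Finset.univ : Finset (Fin n)), g s = 0) := by
  classical
  have hp : p.Prime := Fact.out
  let ε := Groth.Agent.LogDR9.eps ι dl
  let B := (Groth.Agent.LogDR9.basis hL).exteriorPower a
  let M := exteriorPower.ιMulti (MvPolynomial (Fin n) R) a (M := L)
  let δ : Finset (Fin n) → (Fin n →₀ ℕ) := fun s => ∑ ν ∈ s, Finsupp.single ν (if r ≤ (ν : ℕ) then p - 1 else 0)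
  have hδ : ∀ (s : Finset (Fin n)) (ν : Fin n), δ s ν = if ν ∈ s ∧ r ≤ (ν : ℕ) then p - 1 else 0 := by
    intro s ν
    simp only [δ, Finsupp.finsetSum_apply, Finsupp.single_apply, Finset.sum_ite_eq']
    by_cases h1 : ν ∈ s <;> simp [h1]
  have hwε : ∀ ν : Fin n, w ν =
      (MvPolynomial.monomial (Finsupp.single ν (if r ≤ (ν : ℕ) then p - 1 else 0)) (1 : R)) • ε ν := by
    intro ν
    by_cases h : (ν : ℕ) < r
    · rw [if_neg (not_le_of_gt h), Finsupp.single_zero, show ε ν = dl ⟨ν, h⟩ from dif_pos h,
        MvPolynomial.monomial_zero', map_one, one_smul, ← hw ⟨ν, h⟩]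
      rfl
    · rw [if_pos (not_lt.1 h), show ε ν = ι (KaehlerDifferential.D R _ (MvPolynomial.X ν)) from dif_neg h,
        hw' ν (not_lt.1 h), map_smul, MvPolynomial.X_pow_eq_monomial]
  have heB : ∀ (s : Finset (Fin n)) (hs : s.card = a),
      e s = MvPolynomial.monomial (δ s) (1 : R) • M (ε ∘ s.orderEmbOfFin hs) := by
    intro s hs
    rw [he s hs]
    simp only [hwε]
    refine (M.toMultilinearMap.map_smul_univ _ _).trans ?_
    congr 1
    simp only [δ, MvPolynomial.monomial_sum_one]
    have := Finset.prod_map Finset.univ (s.orderEmbOfFin hs).toEmbedding fun ν : Fin n =>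
      (MvPolynomial.monomial (Finsupp.single ν (if r ≤ (ν : ℕ) then p - 1 else 0)) (1 : R))
    rw [Finset.map_orderEmbOfFin_univ] at this
    exact this.symm
  have himg : ∀ (s : Finset (Fin n)) (hs : s.card = a), Finset.univ.image (s.orderEmbOfFin hs) = s := fun s hs =>
    Finset.image_orderEmbOfFin_univ s hs
  have hgood : ∀ (s : Finset (Fin n)) (hs : s.card = a) (q : Fin n →₀ ℕ),
      Groth.Agent.LogDR9.Good r p (p • q + δ s) (s.orderEmbOfFin hs) := by
    intro s hs q ν
    rw [Finsupp.add_apply, Finsupp.smul_apply, smul_eq_mul, hδ, Groth.Agent.LogDR9.chi, himg s hs, add_assoc]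
    refine dvd_add (dvd_mul_right p _) ?_
    by_cases h : ν ∈ s ∧ r ≤ (ν : ℕ)
    · rw [if_pos h, if_pos h, Nat.sub_add_cancel hp.one_le]
    · rw [if_neg h, if_neg h]
      exact dvd_zero p
  have hterm : ∀ (s : Finset (Fin n)) (hs : s.card = a) (q : Fin n →₀ ℕ) (c : R),
      MvPolynomial.expand p (MvPolynomial.monomial q c) • e s =
        MvPolynomial.monomial (p • q + δ s) c • M (ε ∘ s.orderEmbOfFin hs) := by
    intro s hs q c
    rw [heB s hs, smul_smul, MvPolynomial.expand_monomial, MvPolynomial.monomial_mul, mul_one]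
  let l : List (Fin n) := Finset.univ.toList
  let P := Groth.Agent.LogDR9.proj hL d p l a
  -- the combinations are closed and fixed by the projector
  have hfix : ∀ (s : Finset (Fin n)), s.card = a → ∀ g : MvPolynomial (Fin n) R,
      d a (MvPolynomial.expand p g • e s) = 0 ∧
        P (MvPolynomial.expand p g • e s) = MvPolynomial.expand p g • e s := by
    intro s hs g
    induction g using MvPolynomial.induction_on' with
    | monomial q c =>
      rw [hterm s hs]
      refine ⟨Groth.Agent.LogDR9.d_good hL d p hlog _ _ _ (hgood s hs q), ?_⟩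
      refine (Groth.Agent.LogDR9.proj_gen hL d p hlog l _ _ _).trans (if_pos fun μ _ => hgood s hs q μ)
    | add g g' hg hg' =>
      rw [map_add, add_smul, map_add, map_add, hg.1, hg'.1, hg.2, hg'.2, add_zero]
      exact ⟨rfl, rfl⟩
  have hfixsum : ∀ g : Finset (Fin n) → MvPolynomial (Fin n) R,
      d a (∑ s ∈ Finset.powersetCard a Finset.univ, MvPolynomial.expand p (g s) • e s) = 0 ∧
        P (∑ s ∈ Finset.powersetCard a Finset.univ, MvPolynomial.expand p (g s) • e s) =
          ∑ s ∈ Finset.powersetCard a Finset.univ, MvPolynomial.expand p (g s) • e s := fun g => by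
    rw [map_sum, map_sum]
    exact ⟨Finset.sum_eq_zero fun s hs => (hfix s (Finset.mem_powersetCard.1 hs).2 (g s)).1,
      Finset.sum_congr rfl fun s hs => (hfix s (Finset.mem_powersetCard.1 hs).2 (g s)).2⟩
  -- the image of the projector
  have himage : ∀ z, ∃ g : Finset (Fin n) → MvPolynomial (Fin n) R,
      P z = ∑ s ∈ Finset.powersetCard a Finset.univ, MvPolynomial.expand p (g s) • e s := by
    intro z
    refine Groth.Agent.LogDR9.gen_induction (motive := fun z => ∃ g : Finset (Fin n) → MvPolynomial (Fin n) R,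
      P z = ∑ s ∈ Finset.powersetCard a Finset.univ, MvPolynomial.expand p (g s) • e s) ?_ ?_ ?_ hL z
    · exact ⟨0, by simp⟩
    · rintro x y ⟨g, hg⟩ ⟨g', hg'⟩
      exact ⟨g + g', by simp only [map_add, hg, hg', Pi.add_apply, add_smul, Finset.sum_add_distrib]⟩
    intro m c j
    refine (?_ : ∃ g : Finset (Fin n) → MvPolynomial (Fin n) R,
      Groth.Agent.LogDR9.proj hL d p l a (MvPolynomial.monomial m c • M (ε ∘ j)) = _)
    rw [Groth.Agent.LogDR9.proj_gen hL d p hlog]
    by_cases hj : Function.Injective j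
    swap
    · obtain ⟨i₁, i₂, h12, hne⟩ := Function.not_injective_iff.1 hj
      refine ⟨0, ?_⟩
      rw [show M (ε ∘ j) = 0 from M.map_eq_zero_of_eq _ (by simp [h12]) hne]
      simp
    split_ifs with hall
    swap
    · exact ⟨0, by simp⟩
    let s := Finset.univ.image j
    have hs : s.card = a := by rw [Finset.card_image_of_injective _ hj, Finset.card_fin]
    let σ0 : Fin a → Fin a := fun k => (s.orderIsoOfFin hs).symm ⟨j k, Finset.mem_image_of_mem j (Finset.mem_univ k)⟩
    have hσj : ∀ k, s.orderEmbOfFin hs (σ0 k) = j k := fun k => by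
      simp [σ0, ← Finset.coe_orderIsoOfFin_apply]
    have hσi : Function.Injective σ0 := fun x y h => hj (by rw [← hσj, h, hσj])
    let σ : Equiv.Perm (Fin a) := Equiv.ofBijective σ0 ⟨hσi, Finite.injective_iff_surjective.1 hσi⟩
    obtain ⟨q, hq⟩ : ∃ q : Fin n →₀ ℕ, p • q + δ s = m := by
      refine ⟨(m - δ s).mapRange (· / p) (Nat.zero_div p), Finsupp.ext fun ν => ?_⟩
      have hν : p ∣ m ν + Groth.Agent.LogDR9.chi r ν j := hall ν (Finset.mem_toList.2 (Finset.mem_univ ν))
      rw [Groth.Agent.LogDR9.chi] at hν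
      rw [Finsupp.add_apply, Finsupp.smul_apply, Finsupp.mapRange_apply, Finsupp.tsub_apply, smul_eq_mul, hδ]
      by_cases h : ν ∈ s ∧ r ≤ (ν : ℕ)
      · rw [if_pos h] at hν ⊢
        have h1 : p ≤ m ν + 1 := Nat.le_of_dvd (by omega) hν
        have h2 : p ∣ m ν - (p - 1) := by
          rw [show m ν - (p - 1) = m ν + 1 - p by have := hp.one_le; omega]
          exact Nat.dvd_sub hν dvd_rfl
        rw [Nat.mul_div_cancel' h2]
        omega
      · rw [if_neg h] at hν ⊢
        rw [Nat.sub_zero, Nat.add_zero]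
        exact Nat.mul_div_cancel' (by simpa using hν)
    refine ⟨Pi.single s (((Equiv.Perm.sign σ : ℤ) : R) • MvPolynomial.monomial q c), ?_⟩
    rw [Finset.sum_eq_single_of_mem s (Finset.mem_powersetCard.2 ⟨Finset.subset_univ s, hs⟩)
      (fun t _ ht => by rw [Pi.single_eq_of_ne ht, map_zero, zero_smul]), Pi.single_eq_same]
    have hM : M (ε ∘ j) = ((Equiv.Perm.sign σ : ℤ) : R) • M (ε ∘ s.orderEmbOfFin hs) := by
      rw [show ε ∘ j = (ε ∘ s.orderEmbOfFin hs) ∘ σ from funext fun k => congrArg ε (hσj k).symm,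
        M.map_perm, Units.smul_def]
      exact (Int.cast_smul_eq_zsmul R _ _).symm
    rw [hM, map_smul, smul_assoc, hterm s hs, hq, smul_comm]
  refine ⟨fun ω => ⟨fun hω => ?_, ?_⟩, fun g hg => ?_⟩
  · obtain ⟨g, hg⟩ := himage ω
    refine ⟨g, ω - P ω, Groth.Agent.LogDR9.sub_proj_mem hL d p hd.2 l ω hω, ?_⟩
    rw [← hg, sub_add_cancel]
  · rintro ⟨g, η, hη, rfl⟩
    show d a (η + _) = 0
    rw [map_add, (hfixsum g).1, add_zero]
    cases a with
    | zero => rw [(Submodule.mem_bot R).1 hη, map_zero]
    | succ b => obtain ⟨ξ, rfl⟩ := hη; exact DFunLike.congr_fun (hd.2 b) ξ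
  · intro t ht
    set T := ∑ s ∈ Finset.powersetCard a Finset.univ, MvPolynomial.expand p (g s) • e s with hT
    have hT0 : T = 0 := by
      rw [hT, ← (hfixsum g).2, ← hT]
      cases a with
      | zero => rw [(Submodule.mem_bot R).1 hg, map_zero]
      | succ b =>
        obtain ⟨ξ, hξ⟩ := hg
        rw [← hξ]
        show Groth.Agent.LogDR9.proj hL d p l (b + 1) (d b ξ) = 0
        rw [← Groth.Agent.LogDR9.d_proj hL d p hd.2]
        clear_value T
        clear himage hfixsum hfix hT hξ
        refine Groth.Agent.LogDR9.gen_induction (motive := fun z => d b (Groth.Agent.LogDR9.proj hL d p l b z) = 0)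
          (by rw [map_zero, map_zero]) (fun x y hx hy => by rw [map_add, map_add, hx, hy, add_zero])
          (fun m c j => ?_) hL ξ
        rw [Groth.Agent.LogDR9.proj_gen hL d p hlog]
        split_ifs with h
        · exact Groth.Agent.LogDR9.d_good hL d p hlog _ _ _ fun μ => h μ (Finset.mem_toList.2 (Finset.mem_univ μ))
        · exact map_zero _
    have ht' := Finset.mem_powersetCard.1 ht
    have hB : ∀ (s : Finset (Fin n)) (hs : s.card = a), M (ε ∘ s.orderEmbOfFin hs) = B ⟨s, hs⟩ := fun s hs => by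
      rw [exteriorPower.basis_apply]
      simp [exteriorPower.ιMulti_family, M, ε, Groth.Agent.LogDR9.basis, Function.comp_def,
        Set.powersetCard.ofFinEmbEquiv_symm_apply]
    have h0 := congrArg (fun z => B.repr z ⟨t, ht'.2⟩) hT0
    simp only [hT, map_sum, map_zero, Finsupp.finsetSum_apply, Finsupp.coe_zero, Pi.zero_apply] at h0
    rw [Finset.sum_eq_single_of_mem t ht (fun s hs hne => by
      rw [heB s (Finset.mem_powersetCard.1 hs).2, hB, smul_smul, map_smul, Finsupp.smul_apply, B.repr_self,
        Finsupp.single_eq_of_ne (fun h => hne (congrArg Subtype.val h).symm), smul_zero]),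
      heB t ht'.2, hB, smul_smul, map_smul, Finsupp.smul_apply, B.repr_self, Finsupp.single_eq_same, smul_eq_mul,
      mul_one] at h0
    ext q
    have h1 := congrArg (MvPolynomial.coeff (p • q + δ t)) h0
    rw [MvPolynomial.coeff_mul_monomial, mul_one, MvPolynomial.coeff_expand_smul _ hp.ne_zero] at h1
    simpa using h1

end Groth.Agent.S16744
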