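import Groth.Statements.S1675
import Groth.Agent.DualMod3.TailApps
import Groth.Agent.Clifford24.Subcurves.Main
-- import your own Groth.Agent.* helpers here

set_option autoImplicit false
universe u
open CategoryTheory CategoryTheory.Limits AlgebraicGeometry
attribute [local instance] HasDerivedCategory.standard
open Curves

set_option backward.isDefEq.respectTransparency false
set_option linter.style.haveILetI false
set_option maxHeartbeats 1000000
open Groth.Agent

namespace Groth.Agent.S1675

/-- Let X be proper of dimension one over k with global functions k and at-worst-nodal singularities, of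
genus g ≥ 2, with no rational tail and no rational bridge, and let ω_X be its dualizing module (via
f^! O, assuming Rf_* on D_QCoh and its right adjoint exist). Then ω_X is ample. -/
theorem result (k : Type u) [Field k] (X : Scheme.{u}) [X.Over (Spec (CommRingCat.of k))] [IsProper (X ↘ (Spec (CommRingCat.of k)))] (hdim : topologicalKrullDim X = 1)
    (h0 : Module.finrank k (Coh.HH X (Coh.structureModule X) 0) = 1) (hX : Curv2.AtWorstNodal k X) (hnt : ∀ (C : Set X) (hC : C ∈ irreducibleComponents (X : Type u)), ¬ Curv2.IsRationalTail X C hC)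
    (hnb : ∀ (C : Set X) (hC : C ∈ irreducibleComponents (X : Type u)), ¬ Curv2.IsRationalBridge k X C hC) (hg : 2 ≤ Curv2.genus k X)
    [DCoh.HasRpush (X ↘ (Spec (CommRingCat.of k)))] (h : DCoh.RpushPreservesQCoh (X ↘ (Spec (CommRingCat.of k)))) [DCoh.HasShriek (X ↘ (Spec (CommRingCat.of k))) h]
    (OY : DCoh.DQCoh (Spec (CommRingCat.of k))) (hOY : Nonempty (OY.obj ≅ DCoh.inD (Spec (CommRingCat.of k)) (Coh.structureModule (Spec (CommRingCat.of k))))) :
    CohB1.IsAmple (DCoh.dualizingMod (X ↘ (Spec (CommRingCat.of k))) h OY 1) := by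
  haveI := EulerLib.isNoetherian_of_proper k (X := X)
  obtain ⟨hred, hconn, hW, ⟨t, hrep⟩, hWe, hdW⟩ := DualMod3.nodal_setup k hdim h0 hX h OY hOY
  haveI := hred
  haveI := hconn
  generalize DCoh.dualizingMod (X ↘ (Spec (CommRingCat.of k))) h OY 1 = W at *
  refine (VarietyLib.isAmple_iff_deg_pos_components k hdim.le hW).2 fun Z hZ hZd => ?_
  obtain ⟨C, hCc⟩ := Z
  have hC : C ∈ irreducibleComponents (X : Type u) := hZ
  haveI : IsIntegral (Scheme.IdealSheafData.vanishingIdeal (⟨C, isClosed_of_mem_irreducibleComponents C hC⟩ : TopologicalSpace.Closeds X)).subscheme :=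
    VarietyLib.isIntegral_vanishingIdeal _ hC.1
  let J : X.IdealSheafData := Scheme.IdealSheafData.vanishingIdeal (⟨C, isClosed_of_mem_irreducibleComponents C hC⟩ : TopologicalSpace.Closeds X)
  haveI : IsIntegral J.subscheme := VarietyLib.isIntegral_vanishingIdeal _ hC.1
  haveI : AlgebraicGeometry.IsReduced J.subscheme := inferInstance
  haveI : ConnectedSpace J.subscheme := inferInstance
  have hd : topologicalKrullDim J.subscheme = 1 :=
    (VarietyLib.topologicalKrullDim_vanishingIdeal _).trans (DualMod3.components_dim_one hdim hC)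
  obtain ⟨H, n, m, hpos, hH, hn, hm, hdeg, hm0, hm1, hms⟩ := DualMod3.sub_data k hdim.le hW t hrep hWe J hd
  have hsupp : (⟨closure ((J.support : Set X)ᶜ), isClosed_closure⟩ : TopologicalSpace.Closeds X) = DualMod3.compl C :=
    TopologicalSpace.Closeds.ext (by
      show closure _ = closure _
      rw [Scheme.IdealSheafData.coe_support_vanishingIdeal]
      rfl)
  letI : J.subscheme.Over (Spec (CommRingCat.of k)) := ⟨J.subschemeι ≫ (X ↘ (Spec (CommRingCat.of k)))⟩
  have hker := DualMod3.ker_opens_compl (X := X) (isClosed_of_mem_irreducibleComponents C hC)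
  refine lt_of_lt_of_eq ?_ hdeg.symm
  refine mul_pos (by exact_mod_cast hpos) ?_
  rcases Nat.eq_zero_or_pos m with e | e
  · have hb := hm0 e
    have hgX : H * n = Curv2.genus k X ∧ H = 1 := by
      have hd0 := DualMod3.h0_eq_of_eq_bot k J hb
      have hH' := hH.trans (hd0.trans h0)
      refine ⟨hn.symm.trans ?_, hH'⟩
      have h1 : ∀ J : X.IdealSheafData, J = ⊥ →
          @Curv2.euler k _ J.subscheme ⟨J.subschemeι ≫ (X ↘ Spec (CommRingCat.of k))⟩ (Coh.structureModule J.subscheme) =
            Curv2.euler k X (Coh.structureModule X) := by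
        rintro _ rfl; exact DualMod3.euler_bot_structure k
      have h3 := CurveRR24.euler_structure k (X := X) hdim.le
      have h2 := h1 J hb
      letI : J.subscheme.Over (Spec (CommRingCat.of k)) := ⟨J.subschemeι ≫ (X ↘ (Spec (CommRingCat.of k)))⟩
      haveI : IsProper (J.subscheme ↘ Spec (CommRingCat.of k)) :=
        inferInstanceAs (IsProper (J.subschemeι ≫ (X ↘ (Spec (CommRingCat.of k)))))
      have h4 := CurveRR24.euler_structure k (X := J.subscheme) hd.le
      omega
    obtain ⟨e1, e2⟩ := hgX
    rw [e2, one_mul] at e1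
    omega
  rcases Nat.eq_zero_or_pos n with en | en
  · by_contra hneg
    have hm12 : m = 1 ∨ m = 2 := by omega
    have hgen := hn.trans (by rw [en, mul_zero])
    rcases hm12 with h1' | h2'
    · refine hnt C hC (DualMod3.isRationalTail_of k hdim.le C hC hgen ?_)
      have hb := hm1 h1'
      have key : ∀ IZ : X.IdealSheafData, IZ = Subcurves24.red (DualMod3.compl C) →
          Function.Bijective (Scheme.IdealSheafData.inclusion (le_sup_left : J ≤ J ⊔ IZ)).appTop →
          Function.Bijective (Scheme.IdealSheafData.inclusion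
            (le_sup_left : J ≤ J ⊔ Subcurves24.red (DualMod3.compl C))).appTop := by
        rintro _ rfl h'; exact h'
      exact key _ (congrArg _ hsupp) hb
    · refine hnb C hC ⟨?_, ?_, ?_⟩
      · rw [hker, Scheme.IdealSheafData.coe_support_vanishingIdeal]
        by_contra hne
        have hz : DualMod3.delta k J = 0 := by
          unfold DualMod3.delta
          rw [hsupp]
          let Q := J ⊔ Subcurves24.red (DualMod3.compl C)
          show Module.finrank k (Coh.HH X (ClSub.quotMod Q) 0) = 0
          letI : Q.subscheme.Over (Spec (CommRingCat.of k)) := ⟨Q.subschemeι ≫ (X ↘ (Spec (CommRingCat.of k)))⟩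
          rw [Surf15.finrank_h0_quotMod k Q rfl]
          haveI : IsEmpty Q.subscheme := ⟨fun y => by
            have hy : Q.subschemeι y ∈ (Q.support : Set X) := by rw [← Q.range_subschemeι]; exact ⟨y, rfl⟩
            have hy' := Scheme.IdealSheafData.support_antitone (le_sup_right : Subcurves24.red (DualMod3.compl C) ≤ Q) hy
            rw [← SetLike.mem_coe, Scheme.IdealSheafData.coe_support_vanishingIdeal] at hy'
            exact hne ⟨_, hy'⟩⟩
          haveI : Subsingleton Γ(Q.subscheme, ⊤) := CommRingCat.subsingleton_of_isTerminal (by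
            rw [show (⊤ : Q.subscheme.Opens) = ⊥ from TopologicalSpace.Opens.ext (Set.eq_empty_of_isEmpty _)]
            exact Q.subscheme.sheaf.isTerminalOfEmpty)
          haveI : Subsingleton (Coherent.GA (Coherent.baseHom k Q.subscheme) (Coh.structureModule Q.subscheme)) :=
            inferInstanceAs (Subsingleton Γ(Q.subscheme, ⊤))
          rw [(CurveRR24.hhZero k (Coh.structureModule Q.subscheme)).finrank_eq]
          exact Module.finrank_zero_of_subsingleton
        rw [hm] at hz
        rcases mul_eq_zero.1 hz with e' | e' <;> omega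
      · rw [hker, Surf15.finrank_h0_quotMod k J rfl, ← hH]
        have hd2 : DualMod3.delta k J = Module.finrank k (Coh.HH X (ClSub.quotMod (J ⊔ Subcurves24.red (DualMod3.compl C))) 0) := by
          unfold DualMod3.delta
          rw [hsupp]
        show Module.finrank k (Coh.HH X (ClSub.quotMod (J ⊔ Subcurves24.red (DualMod3.compl C))) 0) = 2 * H
        rw [← hd2, hm, h2', mul_comm]
      · letI : J.subscheme.Over (Spec (CommRingCat.of k)) := ⟨J.subschemeι ≫ (X ↘ (Spec (CommRingCat.of k)))⟩
        haveI : IsProper (J.subscheme ↘ Spec (CommRingCat.of k)) :=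
          inferInstanceAs (IsProper (J.subschemeι ≫ (X ↘ (Spec (CommRingCat.of k)))))
        haveI := CurveRR24.isLocallyNoetherian_of_proper k (X := J.subscheme)
        haveI := CurveRR24.finite_HH_of_isCoh k (Coherent.isCoh_structureModule J.subscheme) 1
        exact Module.finrank_zero_iff.1 hgen
  · omega


end Groth.Agent.S1675
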