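import Groth.Statements.S16751
import Groth.Agent.FlatMor12.Cube.Scalar
import Groth.Agent.FlatMorDim.Semicont
import Groth.Agent.CohExch.ChartApps
import Groth.Agent.CohExch.ChartMain
-- import your own Groth.Agent.* helpers here

set_option autoImplicit false
set_option backward.isDefEq.respectTransparency.types false
universe u
open CurvSt

namespace Groth.Agent.S16751

open CategoryTheory CategoryTheory.Limits AlgebraicGeometry in
/-- The functions on a fibre have rank one exactly when the rank of `H⁰` is one. -/
theorem finrank_gamma {X S : AlgebraicGeometry.Scheme.{u}} (f : X ⟶ S) (s : S)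
    (h : Models.hRank ↥(S.residueField s) (f.fiber s) (f.fiberToSpecResidueField s)
      (Coh.structureModule (f.fiber s)) 0 = 1) :
    Module.finrank (S.residueField s) Γ(f.fiber s, ⊤) = 1 := by
  rw [← Groth.Agent.FlatMor12.Cube.fiberRank_structure_eq_finrank]
  letI := Groth.Agent.Clifford24.fibreOver f s
  exact (Groth.Agent.Coherent.CohBC.finrank_HH_congr (S.residueField s) (PicLoc.pullbackStructureIso (f.fiberι s)) 0).trans h

open CategoryTheory CategoryTheory.Limits AlgebraicGeometry in
/-- Let f : X → S be a flat, proper morphism of schemes, locally of finite presentation, all of whose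
fibres have dimension at most one (a family of curves whose total space is a scheme), and assume
that for every point s of S the fibre X_s has dim_{κ(s)} H^0(X_s, O_{X_s}) = 1 (the residue field is
the ring of global functions of the fibre). Then (1) the map O_S → f_* O_X is an isomorphism, and so
is O_{S'} → f'_* O_{X'} for the base change f' of f along any morphism of schemes S' → S; and (2)
R^1 f_* O_X is a finite locally free O_S-module. The source allows the total space to be an
algebraic space, and also asserts the compatibility of R^1 f_* O_X with arbitrary base change, which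
is not stated here. -/
theorem result (X S : Scheme.{u}) (f : X ⟶ S)
    [Flat f] [IsProper f] [LocallyOfFinitePresentation f]
    (hdim : ∀ s : S, topologicalKrullDim ↥(f.fiber s) ≤ 1)
    (h0 : ∀ s : S, Models.hRank ↥(S.residueField s) (f.fiber s) (f.fiberToSpecResidueField s)
      (Coh.structureModule (f.fiber s)) 0 = 1)
    [HasInjectiveResolutions X.Modules] :
    (∀ (S' : Scheme.{u}) (g : S' ⟶ S), IsIso (ClSub.unitToPush (pullback.snd f g))) ∧
      FlatMod.IsFinLocFree ((Coh.Rpush f 1).obj (Coh.structureModule X)) := by
  have hy : ∀ y : S, Function.Bijective (algebraMap (S.residueField y) Γ(f.fiber y, ⊤)) :=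
    fun y => Groth.Agent.CubeLib.bijective_algebraMap_fibre_of_finrank _ (finrank_gamma f y (h0 y))
  refine ⟨fun S' g => ?_, fun x => ?_⟩
  · haveI : IsProper (pullback.snd f g) := MorphismProperty.pullback_snd (P := @IsProper) _ _ inferInstance
    exact Groth.Agent.Clifford24.isIso_unitToPush (pullback.snd f g)
      (Groth.Agent.FlatMor12.Cube.bijective_algebraMap_baseChange f (fun y => finrank_gamma f y (h0 y)) g)
  · haveI := Groth.Agent.Coherent.isQCoh_structureModule (X := X)
    obtain ⟨C, hC, hC0, hC1⟩ := Groth.Agent.Clifford24.exists_chart_structure f hy x (p := 2)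
      (Groth.Agent.CohExch.subsingleton_fiberH_of_dim (Groth.Agent.Clifford24.isFP_structure (X := X)) 1 x (hdim x) 2 (by norm_num))
    obtain ⟨W, n, hW, hWn⟩ := C.exists_trivial_nhd 1 (by simpa using hC1) (by simpa using hC0) hC
    exact ⟨W, n, hW, hWn⟩

end Groth.Agent.S16751
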