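import Groth.Statements.S16752
import Groth.Agent.FlatMor12.Cube.Scalar
import Groth.Agent.FlatMorDim.Semicont
import Groth.Agent.CohExch.ChartApps
import Groth.Agent.CohExch.ChartMain
-- import your own Groth.Agent.* helpers here

set_option autoImplicit false
set_option backward.isDefEq.respectTransparency.types false
universe u
open CurvSt

namespace Groth.Agent.S16752

theorem one_le_of_pos (a : WithBot ℕ∞) (h : 0 < a) : 1 ≤ a := by
  induction a using WithBot.recBotCoe with
  | bot => exact absurd h (by simp)
  | coe a => exact WithBot.coe_le_coe.2 (Order.one_le_iff_pos.2 (WithBot.coe_pos.1 h))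

open CategoryTheory CategoryTheory.Limits AlgebraicGeometry in
/-- The functions on a fibre have rank one exactly when the rank of `H⁰` is one. -/
theorem finrank_gamma {X S : AlgebraicGeometry.Scheme.{u}} (f : X ⟶ S) (s : S)
    (h : Models.hRank ↥(S.residueField s) (f.fiber s) (f.fiberToSpecResidueField s)
      (Coh.structureModule (f.fiber s)) 0 = 1) :
    Module.finrank (S.residueField s) Γ(f.fiber s, ⊤) = 1 := by
  rw [← Groth.Agent.FlatMor12.Cube.fiberRank_structure_eq_finrank]
  letI := Groth.Agent.Clifford24.fibreOver f s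
  exact (Groth.Agent.Coherent.CohBC.finrank_HH_congr (S.residueField s) (PicLoc.pullbackStructureIso (f.fiberι s)) 0).trans h

open CategoryTheory CategoryTheory.Limits AlgebraicGeometry in
/-- Let f : X → S be a flat, proper morphism of schemes, locally of finite presentation, all of whose
fibres have dimension at most one (a family of curves whose total space is a scheme). Then the set
of points s of S such that the fibre X_s has dimension one and dim_{κ(s)} H^0(X_s, O_{X_s}) = 1 (the
conditions under which the genus of X_s is defined) is open in S. The source allows the total space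
to be an algebraic space and phrases the result as the existence of an open substack of the stack of
curves with this membership condition. -/
theorem result (X S : Scheme.{u}) (f : X ⟶ S)
    [Flat f] [IsProper f] [LocallyOfFinitePresentation f]
    (hdim : ∀ s : S, topologicalKrullDim ↥(f.fiber s) ≤ 1) :
    IsOpen {s : S | topologicalKrullDim ↥(f.fiber s) = 1 ∧
      Models.hRank ↥(S.residueField s) (f.fiber s) (f.fiberToSpecResidueField s)
        (Coh.structureModule (f.fiber s)) 0 = 1} := by
  haveI := Groth.Agent.Coherent.isQCoh_structureModule (X := X)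
  have hopen : IsOpen {s : S | (0 : WithBot ℕ∞) < topologicalKrullDim ↥(f.fiber s)} :=
    Groth.Agent.FlatMorDim.isOpen_lt_fiber_dim f 0
  refine isOpen_iff_forall_mem_open.2 fun s ⟨hs1, hs0⟩ => ?_
  have hfl := Groth.Agent.Clifford24.isFlatOver_structure f
  obtain ⟨C₀, hC₀, -⟩ := Groth.Agent.CohExch.exists_chart (f := f) (Groth.Agent.Clifford24.isFP_structure (X := X)) hfl
    (V := ⊤) (s := s) trivial
  obtain ⟨C, hC, -, hC0, -⟩ := Groth.Agent.CohExch.Chart.exists_flat_of_epi0 hfl
    (Groth.Agent.Clifford24.epi_bc0_structure f s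
      (Groth.Agent.CubeLib.bijective_algebraMap_fibre_of_finrank _ (finrank_gamma f s hs0))) C₀ hC₀
  have hrank : ∀ v : S, Models.hRank ↥(S.residueField v) (f.fiber v) (f.fiberToSpecResidueField v)
      (Coh.structureModule (f.fiber v)) 0 = CohIII.fiberRank f (Coh.structureModule X) 0 v := fun v => by
    letI := Groth.Agent.Clifford24.fibreOver f v
    exact (Groth.Agent.Coherent.CohBC.finrank_HH_congr (S.residueField v) (PicLoc.pullbackStructureIso (f.fiberι v)) 0).symm
  obtain ⟨O, hO, hsO, hOc⟩ := (IsLocallyConstant.iff_exists_open _).1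
    (C.isLocallyConstant_fiberRank hfl 0 hC0 (by simpa using C.flat_neg_one)) ⟨s, hC⟩
  refine ⟨(Subtype.val '' O) ∩ {v | (0 : WithBot ℕ∞) < topologicalKrullDim ↥(f.fiber v)}, ?_,
    (C.U.2.isOpenEmbedding_subtypeVal.isOpenMap O hO).inter hopen,
    ⟨⟨⟨s, hC⟩, hsO, rfl⟩, by show (0 : WithBot ℕ∞) < _; rw [hs1]; exact zero_lt_one⟩⟩
  rintro _ ⟨⟨⟨v, hv⟩, hvO, rfl⟩, hv0⟩
  refine ⟨le_antisymm (hdim v) ?_, ?_⟩
  · exact Groth.Agent.S16752.one_le_of_pos _ hv0
  · rw [hrank, hOc _ hvO, ← hrank s, hs0]

end Groth.Agent.S16752
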