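import Groth.Statements.S16754
import Groth.Agent.EllGrp5.Field
import Groth.Agent.FlatMor12.Cube.Scalar
import Groth.Agent.FlatMor12.SteinGeneral
import Groth.Agent.AbSchLib.RigidityOver
-- import your own Groth.Agent.* helpers here

set_option autoImplicit false
set_option backward.isDefEq.respectTransparency.types false
universe u
open CurvSt

namespace Groth.Agent.S16754

open CategoryTheory CategoryTheory.Limits AlgebraicGeometry in
/-- Let k be a field and X a scheme which is proper and smooth over k and of dimension one. Then the
following are equivalent: dim_k H^0(X, O_X) = 1 (the ground field is the ring of global functions);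
X is geometrically connected over k; X is geometrically integral over k. (The remaining conditions
of the source concern membership in an open substack of the stack of curves and are not stated.) -/
theorem result (k : Type u) [Field k]
    (X : Scheme.{u}) [X.Over (Spec (CommRingCat.of k))] [IsProper (X ↘ Spec (CommRingCat.of k))]
    [Smooth (X ↘ Spec (CommRingCat.of k))] (hdim : topologicalKrullDim ↥X = 1) :
    (Module.finrank k (Coh.HH X (Coh.structureModule X) 0) = 1 ↔ GeometricallyConnected (X ↘ Spec (CommRingCat.of k))) ∧
      (GeometricallyConnected (X ↘ Spec (CommRingCat.of k)) ↔ GeometricallyIntegral (X ↘ Spec (CommRingCat.of k))) := by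
  let q := X ↘ Spec (CommRingCat.of k)
  have hci : GeometricallyConnected q → GeometricallyIntegral q := fun h =>
    haveI := h
    Groth.Agent.AbVarLib.geometricallyIntegral_of_smooth q
  have hic : GeometricallyIntegral q → GeometricallyConnected q := fun h =>
    haveI := h
    Groth.Agent.AbSchLib.geometricallyConnected_of_irreducible q
  refine ⟨⟨fun h0 => ?_, fun h => ?_⟩, hci, hic⟩
  · have hy : ∀ y : Spec (CommRingCat.of k),
        Function.Bijective (algebraMap ((Spec (CommRingCat.of k)).residueField y) Γ(q.fiber y, ⊤)) := fun y => by
      refine Groth.Agent.CubeLib.bijective_algebraMap_fibre_of_finrank _ ?_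
      rw [← Groth.Agent.FlatMor12.Cube.fiberRank_structure_eq_finrank, Groth.Agent.EllGrp5.fiberRank_of_field q 0 y]
      exact h0
    exact Groth.Agent.FlatMor12.SteinGeneral.geometricallyConnected_of_isIso_app q
      (Groth.Agent.FlatMor12.Cube.isIso_app_of_scalar q hy)
  · haveI := hci h
    haveI : IsIntegral X := GeometricallyIntegral.isIntegral_of_subsingleton q
    exact Groth.Agent.CurveRR24.h0_structure_of_geomIntegral k

end Groth.Agent.S16754
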