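import Groth.Statements.S16758
import Groth.Agent.Clifford24.SmoothFamilyO
import Groth.Agent.CohDer1.Blanchard.Base
import Groth.Agent.CubeLib.FibrewiseTriv
-- import your own Groth.Agent.* helpers here

set_option autoImplicit false
set_option linter.style.haveILetI false
set_option backward.isDefEq.respectTransparency.types false
universe u
open PicF

namespace Groth.Agent.S16758

open AlgebraicGeometry CategoryTheory CategoryTheory.Limits in
open CategoryTheory CategoryTheory.Limits MonObj AlgebraicGeometry in
open Groth.Agent in
/-- (2) ⇔ (3): let f : X → Y be proper and flat with Y locally Noetherian. Then dim_{κ(y)} H⁰(X_y,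
O_{X_y}) = 1 for every point y of Y if and only if for every morphism T → Y the base change f_T : X
×_Y T → T induces isomorphisms O_T(U) → O_{X ×_Y T}(f_T⁻¹ U) on all opens U of T, i.e. O_T = (f_T)_*
O universally. (The published statement takes X and Y Noetherian; the argument is local on Y, so Y
is only assumed locally Noetherian here.) -/
theorem result {X Y : Scheme.{u}} (f : X ⟶ Y)
    [IsProper f] [Flat f] [IsLocallyNoetherian Y] :
    (∀ y : Y, Module.finrank (Y.residueField y) Γ(f.fiber y, ⊤) = 1) ↔
      ∀ (T : Scheme.{u}) (g : T ⟶ Y) (U : T.Opens), IsIso ((pullback.snd f g).app U) := by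
  constructor
  · intro h T g U
    haveI : LocallyOfFinitePresentation f := inferInstance
    haveI : IsProper (pullback.snd f g) := MorphismProperty.pullback_snd (P := @IsProper) _ _ inferInstance
    haveI : Flat (pullback.snd f g) := MorphismProperty.pullback_snd (P := @Flat) _ _ inferInstance
    haveI : LocallyOfFinitePresentation (pullback.snd f g) :=
      MorphismProperty.pullback_snd (P := @LocallyOfFinitePresentation) _ _ inferInstance
    have hy : ∀ t : T, Function.Bijective (algebraMap (T.residueField t) Γ((pullback.snd f g).fiber t, ⊤)) := by
      intro t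
      let y := g t
      have hsq : g.residueFieldMap t ≫ 𝟙 _ = g.residueFieldMap t := Category.comp_id _
      -- the fibre over `t` as a flat base change of the fibre over `g t`
      let φ : Spec (T.residueField t) ⟶ Spec (Y.residueField y) := Spec.map (g.residueFieldMap t)
      have e : φ ≫ Y.fromSpecResidueField y = T.fromSpecResidueField t ≫ g :=
        Scheme.Hom.SpecMap_residueFieldMap_fromSpecResidueField g t
      haveI : Flat φ := by
        refine HasRingHomProperty.Spec_iff.2 ?_
        letI := (g.residueFieldMap t).hom.toAlgebra
        exact (inferInstance : Module.Flat (Y.residueField y) (T.residueField t))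
      let m : (pullback.snd f g).fiber t ⟶ f.fiber y :=
        pullback.lift ((pullback.snd f g).fiberι t ≫ pullback.fst f g)
          ((pullback.snd f g).fiberToSpecResidueField t ≫ φ) (by
            rw [Category.assoc, pullback.condition, ← Category.assoc, (pullback.snd f g).fiber_fac, Category.assoc,
              Category.assoc, e])
      have hfst : m ≫ f.fiberι y = (pullback.snd f g).fiberι t ≫ pullback.fst f g := pullback.lift_fst _ _ _
      have hsnd : m ≫ f.fiberToSpecResidueField y = (pullback.snd f g).fiberToSpecResidueField t ≫ φ :=
        pullback.lift_snd _ _ _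
      have sq₁ : IsPullback ((pullback.snd f g).fiberι t ≫ pullback.fst f g)
          ((pullback.snd f g).fiberToSpecResidueField t) f (T.fromSpecResidueField t ≫ g) :=
        (IsPullback.of_hasPullback (pullback.snd f g) (T.fromSpecResidueField t)).paste_horiz
          (IsPullback.of_hasPullback f g)
      have sq : IsPullback m ((pullback.snd f g).fiberToSpecResidueField t) (f.fiberToSpecResidueField y) φ := by
        refine IsPullback.of_right ?_ hsnd (IsPullback.of_hasPullback f (Y.fromSpecResidueField y))
        rw [show m ≫ pullback.fst f (Y.fromSpecResidueField y) = (pullback.snd f g).fiberι t ≫ pullback.fst f g from hfst, e]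
        exact sq₁
      haveI : IsProper (f.fiberToSpecResidueField y) := MorphismProperty.pullback_snd (P := @IsProper) _ _ inferInstance
      have hb := Groth.Agent.CubeLib.bijective_algebraMap_fibre_of_finrank f (h y)
      have happ : Function.Bijective (f.fiberToSpecResidueField y).appTop := by
        have h' : Function.Bijective ((f.fiberToSpecResidueField y).appTop.hom.comp
            (Scheme.ΓSpecIso (Y.residueField y)).inv.hom) := hb
        rw [RingHom.coe_comp] at h'
        exact (Function.Bijective.of_comp_iff _ (ConcreteCategory.bijective_of_isIso _)).1 h'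
      have hall : ∀ V : (Spec (Y.residueField y)).Opens, Function.Bijective ((f.fiberToSpecResidueField y).app V) := by
        intro V
        haveI : Subsingleton ↥(Spec (Y.residueField y)) :=
          inferInstanceAs (Subsingleton (PrimeSpectrum (Y.residueField y)))
        by_cases hne : (V : Set ↥(Spec (Y.residueField y))).Nonempty
        · obtain ⟨p, hp⟩ := hne
          obtain rfl : V = ⊤ := top_le_iff.1 fun z _ => Subsingleton.elim p z ▸ hp
          exact happ
        · obtain rfl : V = ⊥ := le_bot_iff.1 fun z hz => (hne ⟨z, hz⟩).elim
          haveI : Subsingleton Γ(f.fiber y, (f.fiberToSpecResidueField y) ⁻¹ᵁ ⊥) := by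
            rw [show (f.fiberToSpecResidueField y) ⁻¹ᵁ ⊥ = ⊥ from rfl]; infer_instance
          exact ⟨fun a b _ => Subsingleton.elim a b, fun b => ⟨0, Subsingleton.elim _ _⟩⟩
      have := (Groth.Agent.CohDer1.Blanchard.bijective_app_of_isPullback sq hall ⊤)
      show Function.Bijective (((pullback.snd f g).fiberToSpecResidueField t).appTop.hom.comp
        (Scheme.ΓSpecIso (T.residueField t)).inv.hom)
      rw [RingHom.coe_comp]
      exact this.comp (ConcreteCategory.bijective_of_isIso (Scheme.ΓSpecIso (T.residueField t)).inv)
    haveI := Groth.Agent.Clifford24.isIso_unitToPush (pullback.snd f g) hy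
    rw [ConcreteCategory.isIso_iff_bijective]
    exact ConcreteCategory.bijective_of_isIso ((ClSub.unitToPush (pullback.snd f g)).app U)
  · intro h y
    have hb : Function.Bijective (f.fiberToSpecResidueField y).appTop :=
      (ConcreteCategory.isIso_iff_bijective _).1 (h _ (Y.fromSpecResidueField y) ⊤)
    have hb' : Function.Bijective (algebraMap (Y.residueField y) Γ(f.fiber y, ⊤)) := by
      show Function.Bijective ((f.fiberToSpecResidueField y).appTop.hom.comp
        (Scheme.ΓSpecIso (Y.residueField y)).inv.hom)
      rw [RingHom.coe_comp]
      exact hb.comp (ConcreteCategory.bijective_of_isIso (Scheme.ΓSpecIso (Y.residueField y)).inv)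
    exact (LinearEquiv.ofBijective (Algebra.linearMap (Y.residueField y) Γ(f.fiber y, ⊤)) hb').symm.finrank_eq.trans
      (Module.finrank_self _)

end Groth.Agent.S16758
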