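import Groth.Statements.S16759
import Groth.Agent.CubeLib.FibrewiseTriv
-- import your own Groth.Agent.* helpers here

set_option autoImplicit false
universe u
open PicF

namespace Groth.Agent.S16759

open AlgebraicGeometry CategoryTheory CategoryTheory.Limits in
/-- Let f : X → Y be proper and flat with Y locally Noetherian and reduced, assume dim_{κ(y)} H⁰(X_y,
O_{X_y}) = 1 for every y, and let L be an invertible O_X-module. Then L ≅ f^*M for some invertible
O_Y-module M if and only if L|_{X_y} ≅ O_{X_y} for every point y of Y; moreover, when this holds,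
f_*L is invertible and the counit f^*f_*L → L of the pullback–pushforward adjunction is an
isomorphism (so one may take M = f_*L). (The published statement takes X and Y Noetherian; only
local Noetherianity of Y is used.) -/
theorem result {X Y : Scheme.{u}} (f : X ⟶ Y)
    [IsProper f] [Flat f] [IsLocallyNoetherian Y] [IsReduced Y]
    (h0 : ∀ y : Y, Module.finrank (Y.residueField y) Γ(f.fiber y, ⊤) = 1)
    (L : X.Modules) (hL : PicF.IsInvertible L) :
    ((∃ M : Y.Modules, PicF.IsInvertible M ∧ Nonempty ((Scheme.Modules.pullback f).obj M ≅ L)) ↔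
        ∀ y : Y, Nonempty (CohIII.fiberMod f L y ≅ Coh.structureModule (f.fiber y))) ∧
      ((∀ y : Y, Nonempty (CohIII.fiberMod f L y ≅ Coh.structureModule (f.fiber y))) →
        PicF.IsInvertible ((Scheme.Modules.pushforward f).obj L) ∧
          IsIso ((Scheme.Modules.pullbackPushforwardAdjunction f).counit.app L)) := by
  have hb := fun y => Groth.Agent.CubeLib.bijective_algebraMap_fibre_of_finrank f (h0 y)
  have hcv : ∀ y, Nonempty (CohIII.fiberMod f L y ≅ Coh.structureModule (f.fiber y)) →
      Groth.Agent.PicLib.PicM.pull (f.fiberι y) (Groth.Agent.PicLib.PicM.of hL) = 1 := fun y h => by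
    rw [Groth.Agent.PicLib.PicM.pull_of]
    exact (Groth.Agent.PicLib.PicM.of_eq_one_iff _).2 h
  refine ⟨⟨?_, fun h => ?_⟩, fun h => Groth.Agent.CubeLib.counit_of_trivial_fibres hb hL fun y => hcv y (h y)⟩
  · rintro ⟨M, hM, ⟨e⟩⟩ y
    have hpull : Groth.Agent.PicLib.PicM.pull f (Groth.Agent.PicLib.PicM.of hM) = Groth.Agent.PicLib.PicM.of hL := by
      rw [Groth.Agent.PicLib.PicM.pull_of]
      exact (Groth.Agent.PicLib.PicM.of_eq_iff _ _).2 ⟨e⟩
    have key := Groth.Agent.CubeLib.fibre_eq_one_of_pull (f := f) (Groth.Agent.PicLib.PicM.of hM) y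
    rw [hpull, Groth.Agent.PicLib.PicM.pull_of] at key
    exact (Groth.Agent.PicLib.PicM.of_eq_one_iff _).1 key
  · obtain ⟨hG, hiso⟩ := Groth.Agent.CubeLib.counit_of_trivial_fibres hb hL fun y => hcv y (h y)
    exact ⟨_, hG, ⟨CategoryTheory.asIso ((Scheme.Modules.pullbackPushforwardAdjunction f).counit.app L)⟩⟩

end Groth.Agent.S16759
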