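import Groth.Statements.S16762


set_option autoImplicit false
set_option linter.style.haveILetI false
universe u
open CAlgX

open scoped TensorProduct
namespace Groth.Agent.S16762

/-- Let A → A' be faithfully flat and u : M → N a map of A-modules. Then u is universally injective (u ⊗
id_Q injective for every A-module Q) if and only if its base change A' ⊗_A M → A' ⊗_A N is
universally injective as a map of A'-modules. -/
theorem result (A A' : Type u) [CommRing A] [CommRing A']
    [Algebra A A'] [Module.FaithfullyFlat A A'] {M N : Type u} [AddCommGroup M] [Module A M]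
    [AddCommGroup N] [Module A N] (u : M →ₗ[A] N) :
    CAlgX.UniversallyInjective A u ↔ CAlgX.UniversallyInjective A' (u.baseChange A') := by
  have key : ∀ (Q : Type u) [AddCommGroup Q] [Module A Q] [Module A' Q] [IsScalarTower A A' Q],
      Function.Injective ((u.baseChange A').rTensor Q) ↔ Function.Injective (u.rTensor Q) := by
    intro Q _ _ _ _
    let eM := (TensorProduct.comm A' (A' ⊗[A] M) Q).trans (TensorProduct.AlgebraTensorModule.cancelBaseChange A A' A' Q M)
    let eN := (TensorProduct.comm A' (A' ⊗[A] N) Q).trans (TensorProduct.AlgebraTensorModule.cancelBaseChange A A' A' Q N)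
    have h : ∀ z, eN ((u.baseChange A').rTensor Q z) = u.lTensor Q (eM z) := by
      intro z
      induction z using TensorProduct.induction_on with
      | zero => simp
      | add x y hx hy => rw [map_add, map_add, map_add, map_add, hx, hy]
      | tmul w q =>
        induction w using TensorProduct.induction_on with
        | zero => simp
        | add x y hx hy =>
          rw [TensorProduct.add_tmul, map_add, map_add, map_add, map_add, hx, hy]
        | tmul a m => simp [eM, eN]
    refine Iff.trans ?_ (LinearMap.lTensor_inj_iff_rTensor_inj Q u)
    constructor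
    · intro hi x y hxy
      obtain ⟨x, rfl⟩ := eM.surjective x
      obtain ⟨y, rfl⟩ := eM.surjective y
      rw [← h, ← h] at hxy
      exact congrArg eM (hi (eN.injective hxy))
    · intro hi x y hxy
      exact eM.injective (hi (by rw [← h, ← h, hxy]))
  constructor
  · intro hu Q _ _
    letI := Module.compHom Q (algebraMap A A')
    haveI : IsScalarTower A A' Q := IsScalarTower.of_algebraMap_smul fun _ _ => rfl
    exact (key Q).2 (hu Q)
  · intro hu Q _ _
    have h1 := (key (A' ⊗[A] Q)).1 (hu (A' ⊗[A] Q))
    rw [← Module.FaithfullyFlat.lTensor_injective_iff_injective A A' (u.rTensor Q)]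
    let eM : A' ⊗[A] (M ⊗[A] Q) ≃ₗ[A] M ⊗[A] (A' ⊗[A] Q) := TensorProduct.leftComm A A' M Q
    let eN : A' ⊗[A] (N ⊗[A] Q) ≃ₗ[A] N ⊗[A] (A' ⊗[A] Q) := TensorProduct.leftComm A A' N Q
    have h : ∀ z, eN ((u.rTensor Q).lTensor A' z) = u.rTensor (A' ⊗[A] Q) (eM z) := by
      intro z
      induction z using TensorProduct.induction_on with
      | zero => simp
      | add x y hx hy => rw [map_add, map_add, map_add, map_add, hx, hy]
      | tmul a w =>
        induction w using TensorProduct.induction_on with
        | zero => simp
        | add x y hx hy => rw [TensorProduct.tmul_add, map_add, map_add, map_add, map_add, hx, hy]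
        | tmul m q => simp [eM, eN]
    intro x y hxy
    exact eM.injective (h1 (by rw [← h, ← h, hxy]))

end Groth.Agent.S16762
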