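import Groth.Statements.S16772
import Groth.Agent.SGA3cLib.TransporterFP

set_option autoImplicit false
open CategoryTheory MonoidalCategory CartesianMonoidalCategory MonObj GrpObj AlgebraicGeometry
universe u
open SGA3x

namespace Groth.Agent.S16772

/-- Let G be an affine group scheme of finite presentation over a scheme S and Y ⊆ G a closed subscheme
which is finite, flat and of finite presentation over S. Then the centralizer of Y in G (points of G
commuting with every point of Y after any base change) is representable by a closed subscheme of G. -/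
theorem result {S : Scheme.{u}} (G Y : Over S) [GrpObj G]
    (hGa : IsAffineHom G.hom) (hGfp : LocallyOfFinitePresentation G.hom)
    (y : Y ⟶ G) (hy : IsClosedImmersion y.left) (hYf : IsFinite Y.hom) (hYfl : Flat Y.hom)
    (hYfp : LocallyOfFinitePresentation Y.hom) :
    ∃ (C : Over S) (c : C ⟶ G), IsClosedImmersion c.left ∧
      ∀ (X : Over S) (g : X ⟶ G), (∃ z : X ⟶ C, z ≫ c = g) ↔
        ∀ (X' : Over S) (x : X' ⟶ X) (a : X' ⟶ Y), (x ≫ g) * (a ≫ y) = (a ≫ y) * (x ≫ g) := by
  haveI := hGa; haveI := hGfp; haveI := hy; haveI := hYf; haveI := hYfl; haveI := hYfp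
  let Δ : G ⟶ G ⊗ G := lift (𝟙 G) (𝟙 G)
  haveI : IsClosedImmersion Δ.left := by
    have h : Δ.left = Limits.pullback.diagonal G.hom := by
      apply Limits.pullback.hom_ext
      · rw [Limits.pullback.diagonal_fst]; exact congrArg (fun t : G ⟶ G => t.left) (lift_fst (𝟙 G) (𝟙 G))
      · rw [Limits.pullback.diagonal_snd]; exact congrArg (fun t : G ⟶ G => t.left) (lift_snd (𝟙 G) (𝟙 G))
    rw [h]; exact IsSeparated.isClosedImmersion_diagonal
  obtain ⟨C, c, hc, -, hC⟩ := SGA3cLib.TransporterFP.exists_transporter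
    (SGA3cLib.TransporterFP.pure_snd_of_finite (X := Y) (P := G)) (lift (snd Y G * (fst Y G ≫ y)) ((fst Y G ≫ y) * snd Y G)) Δ
  refine ⟨C, c, hc, fun X g => (hC X g).trans (forall₃_congr fun X' x a => ⟨?_, fun h => ?_⟩)⟩
  · rintro ⟨w, hw⟩
    have h1 := congrArg (· ≫ fst G G) hw
    have h2 := congrArg (· ≫ snd G G) hw
    simp [Δ, MonObj.comp_mul] at h1 h2
    exact h1.trans h2.symm
  · exact ⟨(x ≫ g) * (a ≫ y), by simp [Δ, MonObj.comp_mul, ← h]⟩

end Groth.Agent.S16772
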