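import Groth.Statements.S16774
import Groth.Agent.Luna12.Reductive
import Groth.Agent.S8403
import Groth.Agent.MaxTorus26.Basic
import Groth.Agent.AbVarLib.HomFibre
import Groth.Agent.S0386
import Groth.Agent.S7800
import Groth.Agent.S3908
import Groth.Agent.SGA3cLib.MTTransporterSub
import Groth.Agent.SGA3cLib.HomGroup
import Groth.Agent.SGA3cLib.TrivLocus
-- import your own Groth.Agent.* helpers here

set_option autoImplicit false
set_option backward.isDefEq.respectTransparency false
set_option backward.isDefEq.respectTransparency.types false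
open CategoryTheory.Limits
set_option maxHeartbeats 2000000
set_option synthInstance.maxHeartbeats 400000
open CategoryTheory MonoidalCategory CartesianMonoidalCategory MonObj GrpObj AlgebraicGeometry
universe u
open Red

namespace Groth.Agent.S16774

theorem isMaximalTorus_of_centralizer {S : Scheme.{u}} {G T : Over S} [GrpObj G] [GrpObj T] {i : T ⟶ G}
    (hT : Red.IsTorus T) (h : Red.IsCentralizerOf i i) : Red.IsMaximalTorus i := by
  haveI := h.1
  haveI := h.2.1
  refine ⟨inferInstance, inferInstance, hT, fun s T' _ j _ _ f hT' hfj => ?_⟩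
  let p := Red.geomPt s
  haveI : (Over.pullback p).IsRightAdjoint := (Over.mapPullbackAdj _).isRightAdjoint
  obtain ⟨z, hz⟩ := S8403.centralizer_bc p i i h T' j fun X x y => by
    rw [← hfj, ← Category.assoc y f j, ← MonObj.mul_comp, ← MonObj.mul_comp, SGA3cLib.torus_mul_comm hT']
  haveI : Mono ((Over.pullback p).map i) := inferInstance
  refine ⟨z, ?_, ?_⟩
  · rw [← cancel_mono ((Over.pullback p).map i), Category.assoc, hz, hfj, Category.id_comp]
  · rw [← cancel_mono j, Category.assoc, hfj, hz, Category.id_comp]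

theorem self_centralizer {S : Scheme.{u}} {G T Z : Over S} [GrpObj G] [GrpObj T] [GrpObj Z] {i : T ⟶ G}
    [IsMonHom i] [Mono i] {z : Z ⟶ G} (hz : Red.IsCentralizerOf i z) {f : T ⟶ Z} [IsIso f] (hf : f ≫ z = i) :
    Red.IsCentralizerOf i i := by
  refine ⟨inferInstance, inferInstance, fun X g => ⟨fun ⟨w, hw⟩ => ?_, fun h => ?_⟩⟩
  · exact (hz.2.2 X g).1 ⟨w ≫ f, by rw [Category.assoc, hf, hw]⟩
  · obtain ⟨w, hw⟩ := (hz.2.2 X g).2 h
    exact ⟨w ≫ CategoryTheory.inv f, by rw [← hw, Category.assoc, ← hf, IsIso.inv_hom_id_assoc]⟩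

theorem isIso_geom {S : Scheme.{u}} {G T Z : Over S} [GrpObj G] [GrpObj T] [GrpObj Z] {i : T ⟶ G} [IsMonHom i] [Mono i]
    {z : Z ⟶ G} (hz : Red.IsCentralizerOf i z) {f : T ⟶ Z} (hf : f ≫ z = i) (s : S)
    (hs : Red.IsReductiveOver (AlgebraicClosure (S.residueField s)) (Red.geomFibre s G))
    (hTs : Red.IsMaximalTorus ((Over.pullback (Red.geomPt s)).map i)) :
    IsIso ((Over.pullback (Red.geomPt s)).map f) := by
  let p := Red.geomPt s
  haveI : (Over.pullback p).IsRightAdjoint := (Over.mapPullbackAdj _).isRightAdjoint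
  haveI := hTs.1
  haveI := hTs.2.1
  have hK := Luna12.isCentralizerOf_self hs (HMTor29.MaxTorus.isMaxTorus hTs)
  have hzK := MaxTorus26.isCentralizerOf_bc p hz
  haveI := hzK.2.1
  obtain ⟨w, hw⟩ := (hK.2.2 _ ((Over.pullback p).map z)).2 ((hzK.2.2 _ _).1 ⟨𝟙 _, Category.id_comp _⟩)
  refine ⟨w, ?_, ?_⟩
  · rw [← cancel_mono ((Over.pullback p).map i), Category.assoc, hw, ← Functor.map_comp, hf, Category.id_comp]
  · rw [← cancel_mono ((Over.pullback p).map z), Category.assoc, ← Functor.map_comp, hf, hw, Category.id_comp]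

theorem isIso_fibre {S : Scheme.{u}} {T Z : Over S} (f : T ⟶ Z) (s : S)
    (h : IsIso ((Over.pullback (Red.geomPt s)).map f)) : IsIso (AbVarLib.fibreMap f s) := by
  let q : Spec (CommRingCat.of (AlgebraicClosure (S.residueField s))) ⟶ Spec (CommRingCat.of (S.residueField s)) :=
    Spec.map (CommRingCat.ofHom (algebraMap (S.residueField s) (AlgebraicClosure (S.residueField s))))
  haveI : Surjective q := AGFImage11.surjective_fieldMap q
  haveI := h
  haveI : IsIso ((Over.pullback q).map ((Over.pullback (S.fromSpecResidueField s)).map f)) :=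
    (NatIso.isIso_map_iff (Over.pullbackComp q (S.fromSpecResidueField s)) f).1 h
  exact AGFImage11.isIso_of_isIso_map q _

end Groth.Agent.S16774

namespace Groth.Agent.S16774

/-- Let G be a smooth affine group scheme with connected fibres over a scheme S, T ⊆ G a subtorus with
centralizer Z = Z_G(T) ⊇ T, and s ∈ S a point at which the geometric fibre of G is reductive and the
geometric fibre of T is a maximal torus. Then over some open neighbourhood U of s the inclusion T →
Z_G(T) is an isomorphism and T is a maximal torus of G. (The published statement allows disconnected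
fibres and concerns identity components; here the fibres of G are connected.) -/
theorem result {S : Scheme.{u}} {G T Z : Over S} [GrpObj G] [GrpObj T] [GrpObj Z]
    (hG : Smooth G.hom) (hGa : IsAffineHom G.hom) (hconn : ∀ s : S, _root_.IsConnected (G.hom.base ⁻¹' {s}))
    (i : T ⟶ G) [IsMonHom i] [Mono i] (hT : Red.IsTorus T) (z : Z ⟶ G) (hz : Red.IsCentralizerOf i z)
    (f : T ⟶ Z) (hf : f ≫ z = i) (s : S)
    (hs : Red.IsReductiveOver (AlgebraicClosure (S.residueField s)) (Red.geomFibre s G))
    (hTs : Red.IsMaximalTorus ((Over.pullback (Red.geomPt s)).map i)) :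
    ∃ U : S.Opens, s ∈ U ∧ IsIso ((Over.pullback U.ι).map f) ∧ Red.IsMaximalTorus ((Over.pullback U.ι).map i) := by
  haveI := hG; haveI := hGa; haveI := hz.1; haveI := hz.2.1
  haveI : IsSeparated G.hom := inferInstance
  obtain ⟨hZsm, hZcl⟩ := CentConn12.smooth_closed hT i hz
  haveI := hZsm; haveI := hZcl
  haveI : IsMonHom (f ≫ z) := by rw [hf]; infer_instance
  haveI : IsMonHom f := AGFQuot23.isMonHom_of_comp_mono' f z
  haveI : Mono (f ≫ z) := by rw [hf]; infer_instance
  haveI : Mono f := mono_of_mono f z
  haveI : IsAffineHom Z.hom := by rw [← Over.w z]; infer_instance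
  have hmts := SGA3cLib.CentralFib.locally_of_multTypeFT (MultExt26.isMultTypeFT_of_torus T hT)
  haveI : IsClosedImmersion f.left := SGA3cLib.MTTransporterSub.isClosedImmersion_of_mono hmts f
  haveI : IsClosedImmersion i.left := SGA3cLib.MTTransporterSub.isClosedImmersion_of_mono hmts i
  have hTm := MultExt26.isMultTypeFT_of_torus T hT
  haveI : Flat T.hom := SGA3cLib.HomGroup.flat_of_multTypeFT T hTm
  haveI : LocallyOfFinitePresentation T.hom := SGA3cLib.TrivLocus.locallyOfFinitePresentation_of_multTypeFT T hTm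
  haveI : LocallyOfFinitePresentation (f.left ≫ Z.hom) := by rw [Over.w f]; infer_instance
  haveI : Flat (f.left ≫ Z.hom) := by rw [Over.w f]; infer_instance
  haveI : LocallyOfFinitePresentation f.left := H8Lim.lfp_cancel_right f.left Z.hom
  -- the flat locus
  let W : T.left.Opens := ⟨{x : T.left | (f.left.stalkMap x).hom.Flat}, S0386.result f.left⟩
  haveI : Flat (W.ι ≫ f.left) := by
    rw [Flat.iff_flat_stalkMap]
    intro x
    rw [Scheme.Hom.stalkMap_comp, CommRingCat.hom_comp]
    exact RingHom.Flat.comp x.2 (Flat.stalkMap W.ι x)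
  let O : Set Z.left := (W.ι ≫ f.left) '' Set.univ
  have hO : IsOpen O := (W.ι ≫ f.left).isOpenMap _ isOpen_univ
  have hOsub : O ⊆ Set.range f.left.base := by
    rintro _ ⟨x, -, rfl⟩
    exact ⟨W.ι x, rfl⟩
  have hfib := isIso_fibre f s (isIso_geom hz hf s hs hTs)
  have hsO : η[Z].left.base s ∈ O := by
    have he : f.left.base (η[T].left.base s) = η[Z].left.base s :=
      congrArg (fun g : 𝟙_ (Over S) ⟶ Z => g.left.base s) (IsMonHom.one_hom f)
    have hgs : Z.hom (f.left (η[T].left.base s)) = s := by
      rw [← Scheme.Hom.comp_apply, Over.w f]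
      exact congrArg (fun g : S ⟶ S => g.base s) (Over.w η[T])
    refine ⟨⟨η[T].left.base s, (FlatMor12.flat_stalkMap_of_fibre f.left Z.hom _ (Flat.stalkMap _ _) ?_).1⟩, trivial, he⟩
    rw [hgs]
    have hP := AbVarLib.isPullback_pullback_map (S.fromSpecResidueField s) f
    haveI : IsIso (AbVarLib.fibreMap f s).left := inferInstanceAs (IsIso ((Over.forget _).map (AbVarLib.fibreMap f s)))
    rw [← show hP.isoPullback.inv ≫ (AbVarLib.fibreMap f s).left = pullback.snd f.left (Z.hom.fiberι s) from
      hP.isoPullback_inv_snd]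
    infer_instance
  let U : S.Opens := ⟨η[Z].left.base ⁻¹' O, hO.preimage η[Z].left.continuous⟩
  refine ⟨U, hsO, ?_⟩
  haveI : (Over.pullback U.ι).IsRightAdjoint := (Over.mapPullbackAdj _).isRightAdjoint
  let fU := (Over.pullback U.ι).map f
  haveI : IsClosedImmersion fU.left := MorphismProperty.overPullbackMap U.ι f inferInstance
  haveI : Surjective fU.left := ⟨fun y => by
    let x := pullback.fst Z.hom U.ι y
    let t := Z.hom x
    have ht : t ∈ U := by
      have h1 : t = U.ι (pullback.snd Z.hom U.ι y) :=
        congrArg (fun g : pullback Z.hom U.ι ⟶ S => g.base y) pullback.condition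
      rw [h1]
      exact (pullback.snd Z.hom U.ι y).2
    suffices x ∈ Set.range f.left.base by
      obtain ⟨a, ha⟩ := this
      have hb : y ∈ (pullback.fst Z.hom U.ι).base ⁻¹' Set.range f.left.base := ⟨a, ha⟩
      let hP := (AbVarLib.isPullback_pullback_map U.ι f).flip
      obtain ⟨c, hc⟩ : y ∈ Set.range (pullback.fst (pullback.fst Z.hom U.ι) f.left).base := by
        rw [Scheme.Pullback.range_fst]
        exact hb
      refine ⟨hP.isoPullback.inv c, ?_⟩
      rw [← hc]
      exact congrArg (fun g : pullback (pullback.fst Z.hom U.ι) f.left ⟶ _ => g.base c) hP.isoPullback_inv_fst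
    let q := S.fromSpecResidueField t
    haveI : IsAffine (Red.bc q G).left := by
      haveI : IsAffineHom (pullback.snd G.hom q) := inferInstance
      exact isAffine_of_isAffineHom (pullback.snd G.hom q)
    haveI : Smooth (Red.bc q G).hom := inferInstanceAs (Smooth (pullback.snd G.hom q))
    haveI : ConnectedSpace (Red.bc q G).left :=
      (G.hom.fiberHomeo t).connectedSpace_iff.2 (isConnected_iff_connectedSpace.1 (hconn t))
    haveI : (Over.pullback q).IsRightAdjoint := (Over.mapPullbackAdj _).isRightAdjoint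
    haveI : IsMonHom ((Over.pullback q).map i) := inferInstance
    haveI : Mono ((Over.pullback q).map i) := inferInstance
    haveI : ConnectedSpace (Red.bc q Z).left := S3908.result _ (Red.bc q G) (Red.bc q T) ((Over.pullback q).map i)
      (TorusAb27.isTorus_bc q T hT) (Red.bc q Z) ((Over.pullback q).map z) (MaxTorus26.isCentralizerOf_bc q hz)
    haveI : Smooth (Red.bc q Z).hom := inferInstanceAs (Smooth (pullback.snd Z.hom q))
    haveI : IrreducibleSpace (Red.bc q Z).left := SGA3cLib.irreducibleSpace_of_connected (Red.bc q Z)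
    let A : Set (Z.hom.fiber t) := (Z.hom.fiberι t).base ⁻¹' O
    have hAo : IsOpen A := hO.preimage (Z.hom.fiberι t).continuous
    have hAne : A.Nonempty := by
      obtain ⟨a, ha⟩ : η[Z].left.base t ∈ Set.range (Z.hom.fiberι t).base := by
        rw [Z.hom.range_fiberι]
        exact congrArg (fun g : S ⟶ S => g.base t) (Over.w η[Z])
      exact ⟨a, show _ ∈ O by rw [ha]; exact ht⟩
    haveI : IrreducibleSpace (Z.hom.fiber t) := ‹IrreducibleSpace (Red.bc q Z).left›
    have h2 : (Z.hom.fiberι t).base ⁻¹' Set.range f.left.base = Set.univ := by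
      refine Set.eq_univ_of_univ_subset ?_
      rw [← (hAo.dense hAne).closure_eq]
      exact closure_minimal (fun a ha => hOsub ha)
        (f.left.isClosedEmbedding.isClosed_range.preimage (Z.hom.fiberι t).continuous)
    obtain ⟨a, ha⟩ : x ∈ Set.range (Z.hom.fiberι t).base := (Z.hom.range_fiberι t).ge rfl
    rw [← ha]
    exact h2.ge (Set.mem_univ a)⟩
  haveI : Flat (Red.bc U.ι T).hom := inferInstanceAs (Flat (pullback.snd T.hom U.ι))
  haveI : LocallyOfFinitePresentation (Red.bc U.ι T).hom :=
    inferInstanceAs (LocallyOfFinitePresentation (pullback.snd T.hom U.ι))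
  haveI : Smooth (Red.bc U.ι Z).hom := inferInstanceAs (Smooth (pullback.snd Z.hom U.ι))
  haveI : IsSeparated (Red.bc U.ι T).hom := by
    haveI : IsAffineHom T.hom := by rw [← Over.w f]; infer_instance
    exact inferInstanceAs (IsSeparated (pullback.snd T.hom U.ι))
  haveI : IsSeparated (Red.bc U.ι Z).hom := inferInstanceAs (IsSeparated (pullback.snd Z.hom U.ι))
  haveI : GeometricallyReduced (Red.bc U.ι Z).hom := AbSchLib.geometricallyReduced_of_smooth _
  haveI : Flat fU.left := (S7800.result (Red.bc U.ι T) (Red.bc U.ι Z) fU).1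
  haveI : LocallyOfFinitePresentation fU.left := MorphismProperty.overPullbackMap U.ι f inferInstance
  haveI : IsOpenImmersion fU.left := IsOpenImmersion.of_flat_of_mono fU.left
  haveI : IsIso fU.left := IsOpenImmersion.isIso fU.left
  haveI hiso : IsIso fU := (isIso_iff_of_reflects_iso fU (Over.forget _)).1 ‹_›
  haveI : IsMonHom ((Over.pullback U.ι).map i) := inferInstance
  haveI : Mono ((Over.pullback U.ι).map i) := inferInstance
  exact ⟨hiso, isMaximalTorus_of_centralizer (TorusAb27.isTorus_bc U.ι T hT)
    (self_centralizer (MaxTorus26.isCentralizerOf_bc U.ι hz) (f := fU)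
      (by rw [← Functor.map_comp, hf]))⟩


end Groth.Agent.S16774
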