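import Groth.Statements.S16775
import Groth.Agent.IsoTriv.ExtensionMT
import Groth.Agent.IsoTriv.ExtensionNormal
import Groth.Agent.AbVarLib.KernelTorsor
import Groth.Agent.Et18.Descent

set_option autoImplicit false
open CategoryTheory MonoidalCategory CartesianMonoidalCategory MonObj GrpObj AlgebraicGeometry
universe u
open SGA3x

namespace Groth.Agent.S16775

open CategoryTheory.Limits
open Groth.Agent.IsoTriv

theorem isMultTypeFT_of_extension' {S : Scheme.{u}} {H E K : Over S} [GrpObj H] [GrpObj E] [GrpObj K]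
    (i : H ⟶ E) [IsMonHom i] (p : E ⟶ K) [IsMonHom p] [Surjective p.left] [Flat p.left] [QuasiCompact p.left]
    (hker : AlgGrp.IsKernel i p) (hH : SGA3x.IsMultTypeFT H) (hK : SGA3x.IsMultTypeFT K)
    (hc : ∀ (X : Over S) (a b : X ⟶ E), a * b = b * a) : SGA3x.IsMultTypeFT E := by
  haveI := Agent.Et18.descends_isAffineHom.{u}
  haveI := SchemeBridge.isAffineHom_of_multTypeFT H hH
  haveI := SchemeBridge.isAffineHom_of_multTypeFT K hK
  haveI : LocallyOfFinitePresentation H.hom := Agent.SGA3cLib.TrivLocus.locallyOfFinitePresentation_of_multTypeFT H hH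
  haveI : LocallyOfFinitePresentation K.hom := Agent.SGA3cLib.TrivLocus.locallyOfFinitePresentation_of_multTypeFT K hK
  haveI : IsAffineHom p.left := Agent.AbVarLib.of_kernel p i @IsAffineHom hker inferInstance
  haveI : LocallyOfFinitePresentation p.left := Agent.AbVarLib.of_kernel p i @LocallyOfFinitePresentation hker inferInstance
  have hKf : Flat K.hom := ExtensionMT.flat_of_multTypeFT K hK
  have hw : p.left ≫ K.hom = E.hom := Over.w p
  refine ExtensionMT.isMultTypeFT_of_extension i p (hw ▸ inferInstance) (hw ▸ inferInstance)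
    (hw ▸ inferInstance) hker hH hK fun s => Or.inr fun X a b => ?_
  obtain ⟨a, rfl⟩ := (Agent.SGA3cLib.BCPoints.pt (S.fromSpecResidueField s) E X).surjective a
  obtain ⟨b, rfl⟩ := (Agent.SGA3cLib.BCPoints.pt (S.fromSpecResidueField s) E X).surjective b
  rw [← Agent.SGA3cLib.BCPoints.pt_mul, ← Agent.SGA3cLib.BCPoints.pt_mul, hc]

theorem quasiCompact_of_selfBase {X Y : Scheme.{u}} (q : X ⟶ Y) [Surjective q] [Flat q] [LocallyOfFinitePresentation q]
    {W : Scheme.{u}} (a b : W ⟶ X) (sq : IsPullback a b q q) [QuasiCompact a] : QuasiCompact q := by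
  rw [quasiCompact_iff_forall_isAffineOpen]
  intro V hV
  have ho : IsOpenMap q.base := q.isOpenMap
  classical
  choose Ps hPa hPm hPle using fun x : (q ⁻¹ᵁ V : X.Opens) =>
    exists_isAffineOpen_mem_and_subset (U := q ⁻¹ᵁ V) (x := x.1) x.2
  obtain ⟨G, hG⟩ := hV.isCompact.elim_finite_subcover (fun x => q.base '' (Ps x : X.Opens))
    (fun x => ho _ (Ps x).2) fun v hv => by
      obtain ⟨x, rfl⟩ := q.surjective v
      exact Set.mem_iUnion.mpr ⟨⟨x, hv⟩, x, hPm _, rfl⟩
  have he : ((q ⁻¹ᵁ V : X.Opens) : Set X) = ⋃ x ∈ G, b.base '' (a.base ⁻¹' (Ps x : X.Opens)) := by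
    refine Set.Subset.antisymm (fun y hy => ?_) (Set.iUnion₂_subset fun x hx => ?_)
    · obtain ⟨x, hx, z, hz, hzy⟩ := Set.mem_iUnion₂.mp (hG hy)
      obtain ⟨w, hw1, hw2⟩ := Scheme.Pullback.exists_preimage_pullback (f := q) (g := q) z y hzy
      refine Set.mem_iUnion₂.mpr ⟨x, hx, sq.isoPullback.inv.base w, ?_, ?_⟩
      · show a.base (sq.isoPullback.inv.base w) ∈ (Ps x : Set X)
        rw [← Scheme.Hom.comp_apply, sq.isoPullback_inv_fst, hw1]; exact hz
      · rw [← Scheme.Hom.comp_apply, sq.isoPullback_inv_snd, hw2]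
    · rintro _ ⟨w, hw, rfl⟩
      show q.base (b.base w) ∈ V
      rw [← Scheme.Hom.comp_apply, ← sq.w]
      exact hPle x hw
  rw [he]
  exact G.finite_toSet.isCompact_biUnion fun x _ => (a.isCompact_preimage (hPa x).isCompact).image b.continuous

/-- Let G be a smooth affine group scheme with connected fibres over a scheme S, H ⊆ G a normal subgroup
scheme of multiplicative type (of finite type), G → Q = G/H the quotient, and H' ⊆ Q a central
subgroup scheme of multiplicative type (of finite type). Then the preimage of H' in G is a central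
subgroup scheme of G of multiplicative type. -/
theorem result {S : Scheme.{u}} {G H Q H' P : Over S}
    [GrpObj G] [GrpObj H] [GrpObj Q] [GrpObj H'] [GrpObj P]
    (hG : Smooth G.hom) (hGa : IsAffineHom G.hom) (hconn : ∀ s : S, _root_.IsConnected (G.hom.base ⁻¹' {s}))
    (i : H ⟶ G) [IsMonHom i] [Mono i] (hH : SGA3x.IsMultTypeFT H) (hHn : AlgGrp.IsNormalHom i)
    (q : G ⟶ Q) [IsMonHom q] (hq : RedSub.IsQuotient i q) (hker : AlgGrp.IsKernel i q)
    (j : H' ⟶ Q) [IsMonHom j] [Mono j] (hH' : SGA3x.IsMultTypeFT H')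
    (hcenH' : ∀ (X : Over S) (x : X ⟶ H') (g : X ⟶ Q), (x ≫ j) * g = g * (x ≫ j))
    (i' : P ⟶ G) [IsMonHom i'] (p : P ⟶ H') (hP : IsPullback i' p q j) :
    SGA3x.IsMultTypeFT P ∧ ∀ (X : Over S) (x : X ⟶ P) (g : X ⟶ G), (x ≫ i') * g = g * (x ≫ i') := by
  haveI : Surjective q.left := hq.1
  haveI : Flat q.left := hq.2.1
  haveI : LocallyOfFinitePresentation q.left := hq.2.2.1
  haveI := hGa
  haveI := hG
  haveI := SchemeBridge.isAffineHom_of_multTypeFT H hH
  haveI : LocallyOfFinitePresentation H.hom := Agent.SGA3cLib.TrivLocus.locallyOfFinitePresentation_of_multTypeFT H hH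
  haveI : QuasiCompact (fst G H).left := MorphismProperty.pullback_fst (P := @QuasiCompact) _ _ inferInstance
  haveI : QuasiCompact q.left :=
    @quasiCompact_of_selfBase _ _ q.left _ _ _ _ _ _ (hq.2.2.2.map (Over.forget S)) ‹QuasiCompact (fst G H).left›
  obtain ⟨hps, hpf, hpq⟩ : Surjective p.left ∧ Flat p.left ∧ QuasiCompact p.left :=
    have sq := hP.map (Over.forget S)
    ⟨MorphismProperty.of_isPullback (P := @Surjective) sq ‹_›, MorphismProperty.of_isPullback (P := @Flat) sq ‹_›,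
      MorphismProperty.of_isPullback (P := @QuasiCompact) sq ‹_›⟩
  haveI : Mono i' := ⟨fun a b h => hP.hom_ext h (by
    rw [← cancel_mono j, Category.assoc, Category.assoc, ← hP.w, reassoc_of% h])⟩
  haveI : IsMonHom p := by
    refine Agent.SGA3cLib.BCPoints.isMonHom_of_mul _ fun X a b => ?_
    rw [← cancel_mono j]
    conv_rhs => rw [MonObj.mul_comp]
    simp only [Category.assoc, ← hP.w, MonObj.mul_comp]
  let k : H ⟶ P := hP.lift i 1 (by rw [ExtensionComm.comp_isKernel i q hker, MonObj.one_comp])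
  have hki : k ≫ i' = i := hP.lift_fst _ _ _
  have hkp : k ≫ p = 1 := hP.lift_snd _ _ _
  haveI : IsMonHom k := by
    refine Agent.SGA3cLib.BCPoints.isMonHom_of_mul _ fun X a b => ?_
    rw [← cancel_mono i']
    conv_rhs => rw [MonObj.mul_comp]
    simp only [Category.assoc, hki]
    exact MonObj.mul_comp a b i
  have hkk : AlgGrp.IsKernel k p := by
    refine IsPullback.of_right (h₁₂ := i') (h₂₂ := j) (v₁₃ := q) ?_ (hkp.trans Hom.one_def) hP
    rw [hki, IsMonHom.one_hom j]
    exact hker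
  have hconnS : ∀ s : S, ConnectedSpace ↥(Limits.pullback G.hom (S.fromSpecResidueField s)) := fun s =>
    ExtensionComm.connectedSpace_fibre (hconn s)
  have hHc := Agent.SGA3cLib.NormalMultCentral.central G H hconnS i hH hHn
  have hH'c := fun (X : Over S) (a b : X ⟶ H') => mul_comm_of_multTypeFT hH' a b
  have hlift : ∀ (X : Over S) (g : X ⟶ G) (x : X ⟶ P), ∃ c : X ⟶ H, c ≫ i = g * (x ≫ i') * g⁻¹ * (x ≫ i')⁻¹ :=
    fun X g x => ExtensionComm.exists_lift_kernel i q hker _ (by
      simp only [MonObj.mul_comp, GrpObj.inv_comp, Category.assoc, hP.w]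
      rw [← Category.assoc x p j, ← hcenH' X (x ≫ p) (g ≫ q), mul_inv_cancel_right, mul_inv_cancel])
  choose φ hφ using hlift
  have hcen : ∀ (X : Over S) (x : X ⟶ P) (g : X ⟶ G), (x ≫ i') * g = g * (x ≫ i') := fun X x g => by
    have h := ExtensionNormal.eq_one (G := G) (Z := H) k p hkk hH' hconn φ
      (fun X Y r g x => by
        rw [← cancel_mono i, Category.assoc, hφ, hφ]
        simp only [MonObj.comp_mul, GrpObj.comp_inv, Category.assoc])
      (fun X g x y => by
        rw [← cancel_mono i, MonObj.mul_comp, hφ, hφ, hφ, MonObj.mul_comp]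
        have h1 : (x ≫ i') * (g * (y ≫ i') * g⁻¹ * (y ≫ i')⁻¹) = (g * (y ≫ i') * g⁻¹ * (y ≫ i')⁻¹) * (x ≫ i') := by
          rw [← hφ]; exact hHc X (x ≫ i') (φ X g y)
        calc g * ((x ≫ i') * (y ≫ i')) * g⁻¹ * ((x ≫ i') * (y ≫ i'))⁻¹
            = g * (x ≫ i') * g⁻¹ * (x ≫ i')⁻¹ * ((x ≫ i') * (g * (y ≫ i') * g⁻¹ * (y ≫ i')⁻¹)) * (x ≫ i')⁻¹ := by group
          _ = _ := by rw [h1]; group)
      (fun X x => by rw [← cancel_mono i, hφ, MonObj.one_comp, _root_.one_mul, inv_one, _root_.mul_one, mul_inv_cancel])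
      (fun X g n => by
        rw [← cancel_mono i, hφ, MonObj.one_comp, Category.assoc, hki, hHc X g n, mul_inv_cancel_right, mul_inv_cancel])
      X g x
    have h2 := congrArg (fun z => z ≫ i) h
    rw [hφ, MonObj.one_comp] at h2
    exact (mul_inv_eq_iff_eq_mul.mp (mul_inv_eq_one.mp h2)).symm
  refine ⟨isMultTypeFT_of_extension' k p hkk hH hH' fun X a b => ?_, hcen⟩
  rw [← cancel_mono i', MonObj.mul_comp, MonObj.mul_comp]
  exact hcen X a (b ≫ i')

end Groth.Agent.S16775
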