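import Groth.Statements.S16794
import Groth.Agent.Hochschild5.Basic

set_option autoImplicit false
universe v u
open PCurv

namespace Groth.Agent.S16794

open TensorProduct in
/-- Let p be a prime number and B a commutative algebra of characteristic p over a commutative ring A
whose module Ω of Kähler differentials over A is free of rank one on a form ω; let θ₀ be the
A-derivation of B dual to ω (its B-linear functional Ω → B takes the value 1 on ω), and let ∇ be a
connection on a finite free B-module M. Then the p-curvature of ∇ vanishes identically — for every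
A-derivation θ of B and every derivation θ' that agrees with the p-fold iterate of θ, the
endomorphism (∇_θ)^p − ∇_{θ'} of M is zero — if and only if it vanishes for the single derivation
θ₀. -/
theorem result {A : Type v} {B M : Type u} [CommRing A] [CommRing B]
    [Algebra A B] (p : ℕ) [Fact p.Prime] [CharP B p]
    [AddCommGroup M] [Module B M] [Module A M] [IsScalarTower A B M] [Module.Finite B M] [Module.Free B M]
    (bΩ : Module.Basis (Fin 1) B (KaehlerDifferential A B)) (θ₀ : Derivation A B B)
    (hθ₀ : θ₀.liftKaehlerDifferential (bΩ 0) = 1)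
    (nabla : M →ₗ[A] M ⊗[B] KaehlerDifferential A B)
    (hc : Conn.IsConn (KaehlerDifferential.D A B) nabla) :
    (∀ θ θp : Derivation A B B, Conn.IsIterPow θ p θp → Conn.pCurv p nabla θ θp = 0) ↔
      (∀ θp : Derivation A B B, Conn.IsIterPow θ₀ p θp → Conn.pCurv p nabla θ₀ θp = 0) := by
  have hp : p.Prime := Fact.out
  let δ₀ := Groth.Agent.Hochschild5.iterDer θ₀ p
  have hD : ∀ θ : Derivation A B B, θ = θ.liftKaehlerDifferential (bΩ 0) • θ₀ := fun θ => by
    have hl : θ.liftKaehlerDifferential = θ.liftKaehlerDifferential (bΩ 0) • θ₀.liftKaehlerDifferential := by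
      refine bΩ.ext fun i => ?_
      rw [Subsingleton.elim i 0, LinearMap.smul_apply, hθ₀, smul_eq_mul, mul_one]
    ext x
    have := LinearMap.congr_fun hl (KaehlerDifferential.D A B x)
    rwa [LinearMap.smul_apply, Derivation.liftKaehlerDifferential_comp_D,
      Derivation.liftKaehlerDifferential_comp_D] at this
  have hlift : ∀ (b : B) (θ : Derivation A B B),
      (b • θ).liftKaehlerDifferential = b • θ.liftKaehlerDifferential := fun b θ =>
    Derivation.liftKaehlerDifferential_unique _ _ (by ext; simp)
  have hlift' : ∀ (θ θ' : Derivation A B B),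
      (θ + θ').liftKaehlerDifferential = θ.liftKaehlerDifferential + θ'.liftKaehlerDifferential := fun θ θ' =>
    Derivation.liftKaehlerDifferential_unique _ _ (by ext; simp)
  have hal : ∀ (b c : B) (θ θ' : Derivation A B B) (m : M), Conn.alongDer nabla (b • θ + c • θ') m =
      b • Conn.alongDer nabla θ m + c • Conn.alongDer nabla θ' m := fun b c θ θ' m => by
    simp only [Conn.alongDer, Conn.along_apply, hlift', hlift, TensorProduct.map_add_right,
      TensorProduct.map_smul_right, LinearMap.add_apply, LinearMap.smul_apply, map_add, map_smul]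
  have hsemi : Groth.Agent.Hochschild5.Semi (⇑θ₀) (⇑(Conn.alongDer nabla θ₀)) := by
    refine ⟨fun _ _ => map_add _ _ _, fun c m => ?_⟩
    simp only [Conn.alongDer, Conn.along_apply, hc c m, map_add, map_smul, TensorProduct.map_tmul,
      LinearMap.id_coe, id_eq, TensorProduct.rid_tmul, Derivation.liftKaehlerDifferential_comp_D]
    abel
  constructor
  · exact fun h θp hθp => h θ₀ θp hθp
  intro h θ θp hθp
  set b := θ.liftKaehlerDifferential (bΩ 0) with hb
  have h0 := h δ₀ (Groth.Agent.Hochschild5.iterDer_apply θ₀ p)
  set c := Groth.Agent.Hochschild5.coef (⇑θ₀) b p 1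
  have hθpe : θp = b ^ p • δ₀ + c • θ₀ := by
    ext x
    rw [hθp x, hD θ, ← hb, Derivation.add_apply, Derivation.smul_apply, Derivation.smul_apply,
      Groth.Agent.Hochschild5.iterDer_apply]
    exact Groth.Agent.Hochschild5.iterate_smul_prime θ₀ b p (Groth.Agent.Hochschild5.semi_self θ₀) x
  ext m
  have e1 : (⇑(Conn.alongDer nabla θ))^[p] m = (fun x => b • Conn.alongDer nabla θ₀ x)^[p] m := by
    congr 2
    funext x
    have := hal b 0 θ₀ θ₀ x
    rw [zero_smul, zero_smul, add_zero, add_zero] at this
    rw [← this, ← hD θ]
  have h0m := LinearMap.congr_fun h0 m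
  simp only [Conn.pCurv, LinearMap.sub_apply, LinearMap.zero_apply, Module.End.pow_apply] at h0m ⊢
  rw [e1, Groth.Agent.Hochschild5.iterate_smul_prime θ₀ b p hsemi, hθpe, hal, sub_eq_zero.1 h0m, sub_self]

end Groth.Agent.S16794
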