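import Groth.Statements.S16798
import Groth.Agent.Log15.Ext
-- import your own Groth.Agent.* helpers here

set_option autoImplicit false
universe v u
open LogConn

namespace Groth.Agent.S16798

open TensorProduct in
/-- Let B be a commutative algebra over a commutative ring A, λ ∈ B, and t₁, …, tₙ ∈ B elements whose
differentials dt₁, …, dtₙ form a basis of the Kähler differentials Ω of B over A; let L be a
B-module free on ω₁, …, ωₙ with a B-linear ι : Ω → L sending dtᵢ to tᵢ ωᵢ (ωᵢ playing the role of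
dlog tᵢ), and E a B-module with an A-linear ∇ : E → E ⊗ L obeying the λ-twisted Leibniz rule ∇(b e)
= b ∇e + λ e ⊗ ι(db); write ∇ᵢ for the components of ∇ in the basis ω, ∇_J for their composite over
a finite index set J in increasing order, and E_I = Σ_{J ⊆ I} (∏_{i ∈ I∖J} tᵢ) · ∇_J(E) (an
A-submodule of E) for a finite index set I. Assume ∇ flat: for the logarithmic de Rham differential
d on the exterior powers of L (pinned on generators by d(b₀ · e₁ ∧ ⋯ ∧ e_p) = ι(db₀) ∧ e₁ ∧ ⋯ ∧ e_p,
factors eⱼ of the form ι(db) or ωᵢ) and the λ-twisted extension ∇^• of ∇ (∇^p(e ⊗ η) = ∇(e) ∧ η + e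
⊗ λ dη) one has ∇¹ ∘ ∇ = 0. Let u₁, …, uₙ be units of B such that the elements t'ᵢ = uᵢ tᵢ again
have differentials forming a basis of Ω, and such that the elements ω'ᵢ = ωᵢ + uᵢ⁻¹ ι(duᵢ) again
form a basis of L (a second admissible coordinate system with the same branches, ω'ᵢ playing the
role of dlog t'ᵢ). Then for every p the layer ⊕_{|K| = p} E_K ⊗ ω_K formed with the coordinates t,
the basis ω and the components of ∇ in ω coincides with the layer formed with t', ω' and the
components of ∇ in ω'. (The published statement also allows a permutation of the indices.) -/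
theorem result {A : Type v} {B L E : Type u} [CommRing A] [CommRing B]
    [Algebra A B] [AddCommGroup L] [Module B L] [Module A L] [IsScalarTower A B L]
    [AddCommGroup E] [Module B E] [Module A E] [IsScalarTower A B E]
    (lam : B) {n : ℕ} (t : Fin n → B) (bΩ : Module.Basis (Fin n) B (KaehlerDifferential A B))
    (hbΩ : ∀ i, bΩ i = KaehlerDifferential.D A B (t i))
    (ω : Module.Basis (Fin n) B L) (ι : KaehlerDifferential A B →ₗ[B] L)
    (hι : ∀ i, ι (KaehlerDifferential.D A B (t i)) = t i • ω i)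
    (nabla : E →ₗ[A] E ⊗[B] L)
    (hc : Conn.IsLamConn (ι.compDer (KaehlerDifferential.D A B)) lam nabla)
    (d : ∀ p : ℕ, ↥(⋀[B]^p L) →ₗ[A] ↥(⋀[B]^(p + 1) L))
    (hd : LogDiff.IsLogRule (KaehlerDifferential.D A B) ι (⇑ω) d)
    (nablas : ∀ p : ℕ, E ⊗[B] ↥(⋀[B]^p L) →ₗ[A] E ⊗[B] ↥(⋀[B]^(p + 1) L))
    (hint : Conn.IsIntegrable nabla (fun p => lam • d p) nablas)
    (u : Fin n → Bˣ) (bΩ' : Module.Basis (Fin n) B (KaehlerDifferential A B))
    (hbΩ' : ∀ i, bΩ' i = KaehlerDifferential.D A B ((u i : B) * t i))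
    (ω' : Module.Basis (Fin n) B L)
    (hω' : ∀ i, ω' i = ω i + ((u i)⁻¹ : Bˣ).val • ι (KaehlerDifferential.D A B (u i : B)))
    (p : ℕ) :
    LogConn.layer nabla ω t p = LogConn.layer nabla ω' (fun i => (u i : B) * t i) p := by
  have hι' : ∀ i, ι (KaehlerDifferential.D A B ((u i : B) * t i)) =
      ((u i : B) * t i) • ω' i := by
    intro i
    have hu : (u i : B) * t i * ((u i)⁻¹ : Bˣ).val = t i := by
      rw [mul_right_comm, Units.mul_inv, one_mul]
    rw [hω', Derivation.leibniz, map_add, map_smul, map_smul, hι, smul_smul, smul_add, smul_smul,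
      hu]
  let C := Log15.coordOfBasis (KaehlerDifferential.D A B) t bΩ hbΩ ω ι hι
  let C' := Log15.coordOfBasis (KaehlerDifferential.D A B) (fun i => (u i : B) * t i) bΩ' hbΩ'
    ω' ι hι'
  have hcomm := Log15.comp_comm (fun j => Log15.d_ιMulti_comp hd 1 _) hint
  have hd1 : ∀ j, d 1 (exteriorPower.ιMulti B 1 (ω' ∘ fun _ => j)) = 0 := by
    intro j
    have e1 : exteriorPower.ιMulti B 1 (ω' ∘ fun _ => j) =
        exteriorPower.ιMulti B 1 (fun _ => ω j) + ((u j)⁻¹ : Bˣ).val •
          exteriorPower.ιMulti B 1 (fun _ => ι (KaehlerDifferential.D A B (u j : B))) := by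
      apply (exteriorPower.oneEquiv B L).injective
      simp [exteriorPower.oneEquiv_ιMulti, hω']
    rw [e1, map_add, hd 1 _ _ (fun _ => Or.inl ⟨_, rfl⟩)]
    have z := Log15.d_ιMulti_comp hd 1 (fun _ => j)
    rw [show ((⇑ω) ∘ fun _ : Fin 1 => j) = fun _ => ω j from rfl] at z
    rw [z, zero_add, Derivation.leibniz_of_mul_eq_one _ (Units.inv_mul (u j)), map_smul]
    have hc1 : ∀ x : L, (Fin.cons x (fun _ => ι (KaehlerDifferential.D A B (u j : B))) :
        Fin 2 → L) = Function.update
          (fun _ => ι (KaehlerDifferential.D A B (u j : B))) 0 x := fun x => by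
      funext k; fin_cases k <;> simp
    rw [hc1, AlternatingMap.map_update_smul]
    rw [Function.update_eq_self, AlternatingMap.map_eq_zero_of_eq _ _ (i := 0) (j := 1) rfl
      (show (0 : Fin 2) ≠ 1 by decide), smul_zero]
  have hcomm' := Log15.comp_comm hd1 hint
  have hg : ∀ j i, ω'.coord j (ω i) = (if i = j then 1 else 0) +
      (u j : B) * t j * (-(((u i)⁻¹ : Bˣ).val * C'.pd j (u i : B))) := by
    intro j i
    have hi : ω i = ω' i - ((u i)⁻¹ : Bˣ).val • ι (KaehlerDifferential.D A B (u i : B)) :=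
      eq_sub_of_add_eq (hω' i).symm
    have hD : ι (KaehlerDifferential.D A B (u i : B)) = _ := C'.δ_eq (u i : B)
    rw [hi, hD]
    simp [Finsupp.single_apply]
    ring
  have hg' : ∀ j i, ω.coord j (ω' i) = (if i = j then 1 else 0) +
      t j * (((u i)⁻¹ : Bˣ).val * C.pd j (u i : B)) := by
    intro j i
    have hD : ι (KaehlerDifferential.D A B (u i : B)) = _ := C.δ_eq (u i : B)
    rw [hω', hD]
    simp [Finsupp.single_apply]
    ring
  refine le_antisymm ?_ ?_
  · refine Log15.layer_le_layer_of_change C' hc hcomm' C (fun i => ((u i)⁻¹ : Bˣ).val)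
      (fun i => by rw [← mul_assoc, Units.inv_mul, one_mul])
      (fun j i => ((u j)⁻¹ : Bˣ).val * (((u i)⁻¹ : Bˣ).val * C.pd j (u i : B))) (fun j i => ?_)
      (fun j i => -(((u i)⁻¹ : Bˣ).val * C'.pd j (u i : B))) (fun j i => hg j i) p
    rw [hg' j i, ← mul_assoc _ (((u j)⁻¹ : Bˣ).val), mul_right_comm (u j : B) (t j),
      Units.mul_inv, one_mul]
  · refine Log15.layer_le_layer_of_change C hc hcomm C' (fun i => (u i : B)) (fun i => rfl)
      (fun j i => (u j : B) * -(((u i)⁻¹ : Bˣ).val * C'.pd j (u i : B))) (fun j i => ?_)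
      (fun j i => ((u i)⁻¹ : Bˣ).val * C.pd j (u i : B)) (fun j i => hg' j i) p
    rw [hg j i]
    ring

end Groth.Agent.S16798
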