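import Groth.Statements.S16802
import Groth.Agent.CohAff19.DescendThm

set_option autoImplicit false
universe u
open CategoryTheory MonoidalCategory CartesianMonoidalCategory AlgebraicGeometry
open StMod

set_option backward.isDefEq.respectTransparency.types false
set_option backward.isDefEq.respectTransparency false

namespace Groth.Agent.S16802


/-- Let `S` be a scheme, `G` a group scheme over `S` whose structure morphism is affine, flat and
locally of finite presentation, acting on a scheme `X` that is quasi-compact, quasi-separated and
locally of finite presentation over `S`; let `[X/G]` be the fppf quotient stack (torsor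
description), assumed algebraic with finite inertia, and let `φ : [X/G] ⟶ M` be a coarse moduli
space with `M` a scheme over `S`, `φ` quasi-compact and quasi-separated. Let `g : M' ⟶ M` be a
morphism of schemes over `S` and `φ' : [X/G] ×_M M' ⟶ M'` the first projection of the 2-fibre
product, assumed to be a coarse moduli space as well, quasi-compact and quasi-separated; assume `g`
faithfully flat (flat and surjective). If the base change is tame — pushforward along `φ'` is exact
on quasi-coherent modules of `[X/G] ×_M M'` — then `[X/G]` is tame: pushforward along `φ` is exact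
on quasi-coherent modules. (The published setting has `S = Spec R` and `X = Spec B` affine; this row
allows any base scheme `S` and any `X` quasi-compact, quasi-separated and locally of finite
presentation over `S`, the generality in which the published argument runs.) (Here '`[X/G]` tame' is
rendered as: pushforward along its coarse moduli map takes surjections of quasi-coherent modules to
maps surjective on sections over every affine scheme etale over the target.) -/
theorem result
    (S : Scheme.{u}) (G : Over S) [GrpObj G]
    [IsAffineHom G.hom] [Flat G.hom] [LocallyOfFinitePresentation G.hom]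
    (X : Over S) [QuasiCompact X.hom] [QuasiSeparated X.hom] [LocallyOfFinitePresentation X.hom]
    (aX : AlgGrp.Action G X)
    (h𝒳 : AlgSt.IsAlgStack Scheme.fppfPrecoverage (AlgSt.QuotSt Scheme.fppfPrecoverage G aX))
    (hI : AlgSt.RepByAlgSpWith AlgSp.IsFiniteMor
      (FibCat.inertiaToBase (FibCat.toSelf (AlgSt.QuotSt Scheme.fppfPrecoverage G aX))))
    (M M' : Over S) (g : M' ⟶ M)
    (φ : AlgSt.QuotSt Scheme.fppfPrecoverage G aX ⥤ᵇ AlgSt.ofSch M) (hφ : AlgSt.IsCoarseModuli φ)
    (hqc : AlgSt.IsQuasiCompactMor Scheme.fppfPrecoverage φ) (hqs : AlgSt.IsQuasiSeparatedMor φ)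
    (h𝒳' : AlgSt.IsAlgStack Scheme.fppfPrecoverage
      (FibCat.fp (AlgSt.ofSpMap ((AlgSp.yon S).map g)) φ))
    (hφ' : AlgSt.IsCoarseModuli (FibCat.fpFst (AlgSt.ofSpMap ((AlgSp.yon S).map g)) φ))
    (hqc' : AlgSt.IsQuasiCompactMor Scheme.fppfPrecoverage
      (FibCat.fpFst (AlgSt.ofSpMap ((AlgSp.yon S).map g)) φ))
    (hqs' : AlgSt.IsQuasiSeparatedMor (FibCat.fpFst (AlgSt.ofSpMap ((AlgSp.yon S).map g)) φ))
    [Flat g.left] [Surjective g.left]
    (h' : StMod.IsCohAffine (FibCat.fpFst (AlgSt.ofSpMap ((AlgSp.yon S).map g)) φ)) :
    StMod.IsCohAffine φ := by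
  exact CohAff19.isCohAffine_descend h𝒳 (AlgSp.IsAlgSpace.yon_obj M) (AlgSp.IsAlgSpace.yon_obj M')
    (AlgSpLib.locP_of_repWith AlgSpLib.etLocal_flat (AlgSp.IsAlgSpace.yon_obj M')
      ((AlgSp.repWith_yon_map_iff _ g).2 ‹Flat g.left›))
    ((AlgSpLib.surjective_map_yon_map_iff g).2 ‹Surjective g.left›) hqc hqs h'

end Groth.Agent.S16802
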