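import Groth.Statements.S16805
import Groth.Agent.Stk19b.LocIm.ResGerbe

set_option autoImplicit false
universe u
open CategoryTheory AlgebraicGeometry
open Gerb

set_option backward.isDefEq.respectTransparency.types false
set_option backward.isDefEq.respectTransparency false

open Groth.Agent
namespace Groth.Agent.S16805


/-- For an algebraic stack 𝒵 the following are equivalent: 𝒵 is reduced with exactly one point; 𝒵
receives a surjective flat morphism from the spectrum of a field; 𝒵 receives a locally of finite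
type, surjective, flat morphism from the spectrum of a field. -/
theorem result
    (S : Scheme.{u}) (𝒵 : AlgSt.Cat S) (h𝒵 : AlgSt.IsAlgStack Scheme.fppfPrecoverage 𝒵) :
    [AlgSt.SmoothLocally (fun T => IsReduced T) 𝒵 ∧ Nonempty (AlgSt.Points 𝒵) ∧ Subsingleton (AlgSt.Points 𝒵),
      ∃ (k : Type u) (_ : Field k) (a : Spec (CommRingCat.of k) ⟶ S)
        (z : FibCat.overCat (Over.mk a) ⥤ᵇ 𝒵), AlgSt.RepByAlgSpWith AlgSp.IsSurjectiveMor z ∧ AlgSt.RepByAlgSpWith (AlgSp.LocP @Flat) z,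
      ∃ (k : Type u) (_ : Field k) (a : Spec (CommRingCat.of k) ⟶ S)
        (z : FibCat.overCat (Over.mk a) ⥤ᵇ 𝒵), AlgSt.RepByAlgSpWith (AlgSp.LocP @LocallyOfFiniteType) z ∧
          AlgSt.RepByAlgSpWith AlgSp.IsSurjectiveMor z ∧ AlgSt.RepByAlgSpWith (AlgSp.LocP @Flat) z].TFAE := by
  tfae_have 1 → 2 := fun ⟨h1, h2, h3⟩ => by
    obtain ⟨k, _, a, z, hs, hf⟩ := Stk19b.LocIm.exists_flat_field h𝒵 h1 h2 h3
    exact ⟨k, inferInstance, a, z, hs, hf⟩
  tfae_have 2 → 3 := fun ⟨k, _, a, z, hs, hf⟩ => Stk19b.LocIm.exists_lft_flat_field h𝒵 hs hf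
  tfae_have 3 → 1 := fun ⟨k, _, a, z, _, hs, hf⟩ =>
    ⟨Stk19b.LocIm.reduced_of_field h𝒵 hs hf, Stk19b.LocIm.subsingleton_points_of_field h𝒵 hs⟩
  tfae_finish

end Groth.Agent.S16805
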