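import Groth.Statements.S16806
import Groth.Agent.Stk19b.LocIm.ResGerbe

set_option autoImplicit false
universe u
open CategoryTheory AlgebraicGeometry
open Gerb

set_option backward.isDefEq.respectTransparency.types false
set_option backward.isDefEq.respectTransparency false

open Groth.Agent
namespace Groth.Agent.S16806


/-- An algebraic stack 𝒵 is reduced, locally Noetherian and has exactly one point if and only if it
receives a locally finitely presented, surjective, flat morphism from the spectrum of a field. -/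
theorem result
    (S : Scheme.{u}) (𝒵 : AlgSt.Cat S) (h𝒵 : AlgSt.IsAlgStack Scheme.fppfPrecoverage 𝒵) :
    (AlgSt.SmoothLocally (fun T => IsReduced T) 𝒵 ∧ AlgSt.SmoothLocally (fun T => IsLocallyNoetherian T) 𝒵 ∧
        Nonempty (AlgSt.Points 𝒵) ∧ Subsingleton (AlgSt.Points 𝒵)) ↔
      ∃ (k : Type u) (_ : Field k) (a : Spec (CommRingCat.of k) ⟶ S)
        (z : FibCat.overCat (Over.mk a) ⥤ᵇ 𝒵), AlgSt.RepByAlgSpWith (AlgSp.LocP @LocallyOfFinitePresentation) z ∧
          AlgSt.RepByAlgSpWith AlgSp.IsSurjectiveMor z ∧ AlgSt.RepByAlgSpWith (AlgSp.LocP @Flat) z := by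
  refine ⟨fun ⟨h1, h2, h3, h4⟩ => Stk19b.LocIm.exists_fppf_field h𝒵 h1 h2 h3 h4, ?_⟩
  rintro ⟨k, _, a, z, hp, hs, hf⟩
  exact ⟨Stk19b.LocIm.reduced_of_field h𝒵 hs hf, Stk19b.LocIm.noetherian_of_field h𝒵 hp hs hf,
    Stk19b.LocIm.subsingleton_points_of_field h𝒵 hs⟩

end Groth.Agent.S16806
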