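import Groth.Statements.S16809
import Groth.Agent.Stk19b.LocIm.ResGerbe
import Groth.Agent.S12867

set_option autoImplicit false
universe u
open CategoryTheory AlgebraicGeometry
open Gerb

set_option backward.isDefEq.respectTransparency.types false
set_option backward.isDefEq.respectTransparency false

open Groth.Agent
namespace Groth.Agent.S16809


/-- (1)⇔(2)⇔(3): for a point x of an algebraic stack 𝒳 the following are equivalent: some algebraic
stack with exactly one point maps monomorphically to 𝒳 onto x; some reduced algebraic stack with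
exactly one point does; some algebraic stack 𝒵 with a monomorphism f : 𝒵 → 𝒳 receives a surjective
flat morphism z from the spectrum of a field with f(z) = x. -/
theorem result
    (S : Scheme.{u}) (𝒳 : AlgSt.Cat S) (h𝒳 : AlgSt.IsAlgStack Scheme.fppfPrecoverage 𝒳) (x : AlgSt.Points 𝒳) :
    [Gerb.ResGerbeExists Scheme.fppfPrecoverage 𝒳 x,
      ∃ (𝒵 : AlgSt.Cat S) (f : 𝒵 ⥤ᵇ 𝒳), AlgSt.IsAlgStack Scheme.fppfPrecoverage 𝒵 ∧
        AlgSt.SmoothLocally (fun T => IsReduced T) 𝒵 ∧ AlgSt.IsMono f ∧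
        Nonempty (AlgSt.Points 𝒵) ∧ Subsingleton (AlgSt.Points 𝒵) ∧ ∀ p, AlgSt.Points.map f p = x,
      ∃ (𝒵 : AlgSt.Cat S) (f : 𝒵 ⥤ᵇ 𝒳) (k : Type u) (_ : Field k) (a : Spec (CommRingCat.of k) ⟶ S)
        (z : FibCat.overCat (Over.mk a) ⥤ᵇ 𝒵), AlgSt.IsAlgStack Scheme.fppfPrecoverage 𝒵 ∧ AlgSt.IsMono f ∧
        AlgSt.RepByAlgSpWith AlgSp.IsSurjectiveMor z ∧ AlgSt.RepByAlgSpWith (AlgSp.LocP @Flat) z ∧
        ∀ t : ↥(Over.mk a).left, AlgSt.Points.map f (AlgSt.Points.ofChart z t) = x].TFAE := by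
  tfae_have 2 → 1 := by
    rintro ⟨𝒵, f, h1, -, h3, h4, h5, h6⟩
    exact ⟨𝒵, f, h1, h3, h4, h5, h6⟩
  tfae_have 2 → 3 := by
    rintro ⟨𝒵, f, h1, h2, h3, h4, h5, h6⟩
    obtain ⟨k, _, a, z, hs, hf⟩ := Stk19b.LocIm.exists_flat_field h1 h2 h4 h5
    exact ⟨𝒵, f, k, inferInstance, a, z, h1, h3, hs, hf, fun t => h6 _⟩
  tfae_have 3 → 2 := by
    rintro ⟨𝒵, f, k, _, a, z, h1, h3, hs, hf, ht⟩
    refine ⟨𝒵, f, h1, Stk19b.LocIm.reduced_of_field h1 hs hf, h3,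
      (Stk19b.LocIm.subsingleton_points_of_field h1 hs).1, (Stk19b.LocIm.subsingleton_points_of_field h1 hs).2, fun p => ?_⟩
    obtain ⟨t, rfl⟩ := Stk19.ofChart_surjective h1.isStack.1 hs p
    exact ht t
  tfae_have 1 → 2 := by
    rintro ⟨𝒵, i, h1, h2, h3, h4, h5⟩
    obtain ⟨Q, ⟨hc, hA, hI⟩, hr, hred⟩ := S12867.result h1 Set.univ isClosed_univ
    obtain ⟨_, _⟩ := Stk19.fullyFaithful_of_mono h1.isStack.1 h𝒳.isStack.1 h2
    let j := BasedFunctor.comp (AlgSt.subIncl 𝒵 Q) i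
    have : j.toFunctor.Full := Functor.Full.comp (AlgSt.subIncl 𝒵 Q).toFunctor i.toFunctor
    have : j.toFunctor.Faithful := Functor.Faithful.comp (AlgSt.subIncl 𝒵 Q).toFunctor i.toFunctor
    refine ⟨AlgSt.fullSub 𝒵 Q, j, hA, hred, fun T y => ?_, ?_, ⟨fun p q => ?_⟩, fun p => ?_⟩
    · obtain ⟨X, e, he⟩ := Stk19b.repByAlgSp1_of_faithful hA h𝒳 j T y
      exact ⟨X, e, he, Stk19b.LocIm.mono_witness_of_ff he⟩
    · obtain ⟨p⟩ := h3
      obtain ⟨q, -⟩ : p ∈ Set.range (AlgSt.Points.map (AlgSt.subIncl 𝒵 Q)) := hr.symm ▸ Set.mem_univ p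
      exact ⟨q⟩
    · exact Stk19.points_injective_of_mono hA.isStack.1 h1.isStack.1 (Stk19b.LocIm.isMono_subIncl h1 hA) (h4.elim _ _)
    · rw [Stk19.points_map_comp]
      exact h5 _
  tfae_finish

end Groth.Agent.S16809
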