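import Groth.Statements.S16810
import Groth.Agent.Stk19b.LocIm.ResGerbe

set_option autoImplicit false
universe u
open CategoryTheory AlgebraicGeometry
open Gerb

set_option backward.isDefEq.respectTransparency.types false
set_option backward.isDefEq.respectTransparency false

open Groth.Agent
namespace Groth.Agent.S16810


/-- If some reduced algebraic stack with exactly one point admits a monomorphism to the algebraic stack
𝒳 with image the point x, then there is a unique strictly full subcategory of 𝒳 which is a reduced,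
locally Noetherian algebraic stack with exactly one point mapping to x. -/
theorem result
    (S : Scheme.{u}) (𝒳 : AlgSt.Cat S) (h𝒳 : AlgSt.IsAlgStack Scheme.fppfPrecoverage 𝒳) (x : AlgSt.Points 𝒳)
    (𝒵 : AlgSt.Cat S) (h𝒵 : AlgSt.IsAlgStack Scheme.fppfPrecoverage 𝒵)
    (hred : AlgSt.SmoothLocally (fun T => IsReduced T) 𝒵)
    (hne : Nonempty (AlgSt.Points 𝒵)) (hsub : Subsingleton (AlgSt.Points 𝒵))
    (f : 𝒵 ⥤ᵇ 𝒳) (hf : AlgSt.IsMono f) (hfx : ∀ p : AlgSt.Points 𝒵, AlgSt.Points.map f p = x) :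
    ∃ Q : 𝒳.obj → Prop, Gerb.IsResGerbe Scheme.fppfPrecoverage 𝒳 x Q ∧
      ∀ Q' : 𝒳.obj → Prop, Gerb.IsResGerbe Scheme.fppfPrecoverage 𝒳 x Q' → ∀ ξ : 𝒳.obj, Q' ξ ↔ Q ξ := by
  obtain ⟨k₀, _, a₀, z₀, hs₀, hf₀⟩ := Stk19b.LocIm.exists_flat_field h𝒵 hred hne hsub
  obtain ⟨k, _, a, z, hl, -, -⟩ := Stk19b.LocIm.exists_lft_flat_field h𝒵 hs₀ hf₀
  obtain ⟨_, _⟩ := Stk19.fullyFaithful_of_mono h𝒵.isStack.1 h𝒳.isStack.1 hf
  obtain ⟨hR, -⟩ := Stk19b.LocIm.exists_resGerbe_factor h𝒳 h𝒵 f hfx hl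
  exact ⟨_, hR, fun Q' hQ' ξ => Stk19b.LocIm.resGerbe_unique h𝒳 hQ' hR ξ⟩

end Groth.Agent.S16810
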