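import Groth.Statements.S16833
import Groth.Agent.AlgSpLib.ProperQF
import Groth.Agent.AlgSpLib.MorQC
import Groth.Agent.AlgSpLib.MorProper
-- import your own Groth.Agent.* helpers here

set_option autoImplicit false
universe u
open AlgSp

namespace Groth.Agent.S16833

set_option backward.isDefEq.respectTransparency.types false

open CategoryTheory AlgebraicGeometry in
/-- Let p : U → X and f : X → Y be morphisms of algebraic spaces over a scheme S with p etale and
surjective and f separated. If the composite U → Y is finite, then f is finite. -/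
theorem result {S : Scheme.{u}}
    {U X Y : AlgSp.Space S} (p : U ⟶ X) (f : X ⟶ Y)
    (hp : AlgSp.IsEtaleMor p.hom) (hps : AlgSp.IsSurjectiveMor p.hom)
    (hf : AlgSp.IsSeparatedMor f.hom) (h : AlgSp.IsFiniteMor (p ≫ f).hom) :
    AlgSp.IsFiniteMor f.hom := by
  open Groth.Agent.AlgSpLib in
  have hfin := (isFiniteMor_iff_repWith _).1 h
  have hprop : AlgSp.IsProperMor (p ≫ f).hom :=
    isProperMor_of_repWith U.property Y.property
      (RepWith.mono (fun _ _ g (_ : IsFinite g) => (inferInstance : IsProper g)) hfin)
  have hlq : AlgSp.LocP (@LocallyQuasiFinite ⊓ @LocallyOfFiniteType) (p ≫ f).hom :=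
    locP_of_repWith etLocal_lqf U.property
      (RepWith.mono (fun _ _ g (_ : IsFinite g) => ⟨inferInstance, inferInstance⟩) hfin)
  obtain ⟨W, a, hae, has⟩ := U.property.atlas
  have hae' : AlgSp.RepWith @Etale (a ≫ p.hom) := hp a hae
  have has' : AlgSp.RepWith @Surjective (a ≫ p.hom) := repWith_surjective_of_surjective_map hae'.1 fun x => by
    obtain ⟨u, rfl⟩ := hps x
    obtain ⟨w, rfl⟩ := surjective_map_of_repWith has u
    exact ⟨w, AlgSp.Points.map_comp _ _ _⟩
  have hl : AlgSp.LocP (@LocallyQuasiFinite ⊓ @LocallyOfFiniteType) f.hom := by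
    refine locP_of_source_cover etLocal_lqf X.property Y.property (a ≫ p.hom) hae' has' ?_
    rw [Category.assoc]
    exact locP_comp etLocal_lqf (AlgSp.IsAlgSpace.yon_obj W) U.property Y.property
      (locP_of_repWith etLocal_lqf (AlgSp.IsAlgSpace.yon_obj W) (RepWith.mono etLocal_lqf.of_etale hae)) hlq
  refine (isFiniteMor_iff_repWith _).2 (repWith_isFinite_of_proper_lqf X.property Y.property
    ⟨hf, ⟨fun A B c d e hc hd w => (hl c d e hc hd w).2, ?_⟩, ?_⟩ hl)
  · exact isQuasiCompactMor_of_surjective X.property Y.property hps hprop.2.1.2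
  · exact isUnivClosedMor_of_surjective hps hprop.2.2

end Groth.Agent.S16833
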