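import Groth.Statements.S16834
import Groth.Agent.AlgSpLib.FpqcBaseAffine
import Groth.Agent.AlgSpLib.GeomConn
-- import your own Groth.Agent.* helpers here

set_option autoImplicit false
universe u
open CategoryTheory CategoryTheory.Limits AlgebraicGeometry
open AlgSp

namespace Groth.Agent.S16834

open Groth.Agent.AlgSpLib

/-- Let k be a field with algebraic closure k̄ and X an algebraic space over Spec k which is
quasi-separated over k and whose structure morphism is locally of finite type. If the base change X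
×_k Spec k̄ (product with h_{Spec k̄} in fppf sheaves over Spec k) is isomorphic to h_T for an
affine scheme T over k, then X is isomorphic to h_U for an affine scheme U over k. -/
theorem result (k : Type u) [Field k]
    (X : AlgSp.Space (Spec (CommRingCat.of k))) (hqs : AlgSp.IsQuasiSeparatedSp X.obj)
    (hlft : ∀ q : X.obj ⟶ (AlgSp.yon (Spec (CommRingCat.of k))).obj (Over.mk (𝟙 _)),
      AlgSp.LocP @LocallyOfFiniteType q)
    (kbar : Type u) [Field kbar] [Algebra k kbar] [IsAlgClosure k kbar]
    (T : Over (Spec (CommRingCat.of k))) (hT : IsAffine T.left)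
    (e : X.obj ⨯ (AlgSp.yon (Spec (CommRingCat.of k))).obj
        (Over.mk (Spec.map (CommRingCat.ofHom (algebraMap k kbar)))) ≅
      (AlgSp.yon (Spec (CommRingCat.of k))).obj T) :
    ∃ (U : Over (Spec (CommRingCat.of k))), IsAffine U.left ∧
      Nonempty (X.obj ≅ (AlgSp.yon (Spec (CommRingCat.of k))).obj U) := by
  let B := Spec (CommRingCat.of k)
  let Z : Over B := Over.mk (𝟙 B)
  let V : Over B := Over.mk (Spec.map (CommRingCat.ofHom (algebraMap k kbar)))
  let c : V ⟶ Z := Over.homMk V.hom (Category.comp_id _)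
  have hterm : IsTerminal ((AlgSp.yon B).obj Z) := Over.mkIdTerminal.isTerminalObj (AlgSp.yon B) _
  let f : X.obj ⟶ (AlgSp.yon B).obj Z := hterm.from _
  obtain ⟨w, hw⟩ := (AlgSp.yon B).map_surjective (e.inv ≫ prod.snd)
  have sq0 : IsPullback (prod.fst : X.obj ⨯ (AlgSp.yon B).obj V ⟶ X.obj) prod.snd f ((AlgSp.yon B).map c) :=
    by
      have hc : (AlgSp.yon B).map c = hterm.from _ := hterm.hom_ext _ _
      rw [hc]
      exact IsPullback.of_is_product' (prodIsProd _ _) hterm
  have sq : IsPullback (e.inv ≫ prod.fst) ((AlgSp.yon B).map w) f ((AlgSp.yon B).map c) :=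
    sq0.of_iso e (Iso.refl _) (Iso.refl _) (Iso.refl _) (by simp <;> rfl) (by rw [hw]; simp <;> rfl) (by simp) (by simp)
  obtain ⟨A, i, fst, hA, sqA⟩ := exists_affine_of_fpqc_family (Z := Z) (fun _ : Fin 1 => c)
    (inferInstanceAs (IsAffine B)) (fun _ => inferInstanceAs (IsAffine (Spec (CommRingCat.of kbar))))
    (fun _ => by
      show Flat (Spec.map (CommRingCat.ofHom (algebraMap k kbar)))
      rw [HasRingHomProperty.Spec_iff (P := @Flat)]
      exact RingHom.Flat.of_isField (Field.toIsField k) _)
    (fun z => ⟨0, (IsLocalRing.closedPoint kbar : ↥(Spec (CommRingCat.of kbar))),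
      Subsingleton.elim (α := ↥(Spec (CommRingCat.of k))) _ _⟩)
    X.property (f := f) (W := fun _ => T) (fun _ => hT) (w := fun _ => w) (a := fun _ => e.inv ≫ prod.fst)
    (fun _ => sq)
  have : IsIso fst := sqA.isIso_fst_of_isIso
  exact ⟨A, hA, ⟨(asIso fst).symm⟩⟩

end Groth.Agent.S16834
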