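import Groth.Statements.S16835
import Groth.Agent.InvEtale25.Main

set_option autoImplicit false
set_option backward.isDefEq.respectTransparency.types false
universe u
open InvTh

namespace Groth.Agent.S16835



/-- Let R be a Noetherian commutative ring, A and B commutative R-algebras of finite type on which a
finite group G acts by R-algebra automorphisms, and B → A a G-equivariant homomorphism of
R-algebras. Assume that at every maximal ideal x of A, A is etale over B at x and the inertia
subgroup of x in G equals the inertia subgroup of its contraction to B. Give A^G the B^G-algebra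
structure induced by B → A (compatible with B^G → B → A through A^G → A). Then A^G is etale over
B^G. The source also asserts that the square formed by the quotient stacks and the invariant
quotients is cartesian; that clause is not stated. -/
theorem result (R : Type u)
    [CommRing R] [IsNoetherianRing R] (A B : Type u) [CommRing A] [CommRing B] [Algebra R A] [Algebra R B]
    [Algebra.FiniteType R A] [Algebra.FiniteType R B]
    (G : Type u) [Group G] [Finite G] [MulSemiringAction G A] [MulSemiringAction G B]
    [SMulCommClass G R A] [SMulCommClass G R B]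
    [Algebra B A] [IsScalarTower R B A]
    (hGeq : ∀ (g : G) (b : B), algebraMap B A (g • b) = g • algebraMap B A b)
    [Algebra (FixedPoints.subalgebra R B G) (FixedPoints.subalgebra R A G)]
    [IsScalarTower (FixedPoints.subalgebra R B G) (FixedPoints.subalgebra R A G) A]
    (h : ∀ (x : Ideal A) (_ : x.IsMaximal),
      Algebra.IsEtaleAt B x ∧ x.inertia G = (x.comap (algebraMap B A)).inertia G) :
    Algebra.Etale (FixedPoints.subalgebra R B G) (FixedPoints.subalgebra R A G) := by
  let PG := FixedPoints.subalgebra R B G
  let QG := FixedPoints.subalgebra R A G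
  haveI : Algebra.IsInvariant PG B G := ⟨fun b hb => ⟨⟨b, hb⟩, rfl⟩⟩
  haveI : Algebra.IsInvariant QG A G := ⟨fun a ha => ⟨⟨a, ha⟩, rfl⟩⟩
  haveI : SMulCommClass G PG B := ⟨fun g c b => by
    show g • ((c : B) * b) = (c : B) * g • b
    rw [smul_mul', c.2 g]⟩
  haveI : SMulCommClass G QG A := ⟨fun g c b => by
    show g • ((c : A) * b) = (c : A) * g • b
    rw [smul_mul', c.2 g]⟩
  haveI : Algebra.IsIntegral PG B := Algebra.IsInvariant.isIntegral PG B G
  haveI : Algebra.FiniteType PG B := Algebra.FiniteType.of_restrictScalars_finiteType R PG B
  haveI : Module.Finite PG B := Algebra.IsIntegral.finite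
  haveI : Algebra.FiniteType R PG := ⟨fg_of_fg_of_fg R PG B Algebra.FiniteType.out Module.Finite.fg_top
    Subtype.val_injective⟩
  haveI : IsNoetherianRing PG := Algebra.FiniteType.isNoetherianRing R PG
  haveI : Algebra.IsIntegral QG A := Algebra.IsInvariant.isIntegral QG A G
  haveI : Algebra.FiniteType QG A := Algebra.FiniteType.of_restrictScalars_finiteType R QG A
  haveI : Module.Finite QG A := Algebra.IsIntegral.finite
  haveI : Algebra.FiniteType R QG := ⟨fg_of_fg_of_fg R QG A Algebra.FiniteType.out Module.Finite.fg_top
    Subtype.val_injective⟩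
  haveI : IsScalarTower R PG QG := IsScalarTower.of_algebraMap_eq fun r => Subtype.ext (by
    show algebraMap R A r = ((algebraMap PG QG (algebraMap R PG r) : QG) : A)
    have h := IsScalarTower.algebraMap_apply PG QG A (algebraMap R PG r)
    exact (IsScalarTower.algebraMap_apply R B A r).trans ((IsScalarTower.algebraMap_apply PG B A _).symm.trans h))
  haveI : Algebra.FiniteType PG QG := Algebra.FiniteType.of_restrictScalars_finiteType R PG QG
  haveI : Algebra.FinitePresentation PG QG := Algebra.FinitePresentation.of_finiteType.1 inferInstance
  refine Algebra.etaleLocus_eq_univ_iff_etale.1 (Set.eq_univ_of_forall fun P => ?_)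
  obtain ⟨m, hm, hle⟩ := Ideal.exists_le_maximal P.asIdeal P.isPrime.ne_top
  haveI := hm.isPrime
  obtain ⟨x, hxm, hxc⟩ := Ideal.exists_ideal_over_maximal_of_isIntegral (S := A) m
    (by rw [(RingHom.injective_iff_ker_eq_bot (algebraMap QG A)).1 Subtype.val_injective]; exact bot_le)
  haveI := hxm.isPrime
  obtain ⟨h1, h2⟩ := h x hxm
  have h3 := InvEtale25.isEtaleAt_invariants R A B G hGeq x h1 h2
  have h4 : (⟨m, hm.isPrime⟩ : PrimeSpectrum QG) ∈ Algebra.etaleLocus PG QG := by
    show Algebra.IsEtaleAt PG m
    simpa only [← hxc] using h3
  exact ((PrimeSpectrum.le_iff_specializes P ⟨m, hm.isPrime⟩).1 hle).mem_open Algebra.isOpen_etaleLocus h4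

end Groth.Agent.S16835
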