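import Groth.Statements.S16836

set_option autoImplicit false
universe u v
open scoped Classical
open AbVar

namespace Groth.Agent.S16836

open Polynomial UniqueFactorizationMonoid in
theorem pair_eq (F : Type*) [Field F] (M N : Multiset F[X]) :
    ∑ P ∈ M.toFinset, M.count P * N.count P * P.natDegree = (M.map fun P => N.count P * P.natDegree).sum := by
  rw [Finset.sum_multiset_map_count]
  exact Finset.sum_congr rfl fun P _ => by rw [smul_eq_mul, mul_assoc]

open Polynomial UniqueFactorizationMonoid in
theorem natDegree_sum_normalizedFactors (F : Type*) [Field F] (g : F[X]) (hg : g ≠ 0) :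
    ((normalizedFactors g).map natDegree).sum = g.natDegree := by
  rw [← Polynomial.natDegree_multiset_prod _ (fun h => zero_notMem_normalizedFactors g h)]
  exact natDegree_eq_of_degree_eq (degree_eq_degree_of_associated (prod_normalizedFactors hg))


open Polynomial UniqueFactorizationMonoid in
/-- Let K ⊆ L be a field extension and f₁, f₂ non-zero polynomials in K[t]. For a field F and
polynomials g₁, g₂ over F put r_F(g₁, g₂) = Σ_P mult_P(g₁) · mult_P(g₂) · deg P, the sum running
over the monic irreducible polynomials P in F[t] (mult_P the multiplicity of P as an irreducible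
factor). Assume K is perfect. Then r_K(f₁, f₂) = r_L(f₁, f₂): the number does not depend on the
field over which the factorisations are taken. (Perfectness of K cannot be dropped: for K = F_p(s),
L = K(s^{1/p}) and f₁ = f₂ = t^p − s the number is p over K and p² over L, since the irreducible t^p
− s becomes a p-th power over L; the published statement has no restriction on K, and its proof
requires the relevant K[t]-modules to remain semisimple after base change, which holds when every
irreducible factor stays squarefree over L, in particular for K perfect.) -/
theorem result (K : Type u) (L : Type v) [Field K] [PerfectField K] [Field L] [Algebra K L]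
    (f₁ f₂ : K[X]) (h₁ : f₁ ≠ 0) (h₂ : f₂ ≠ 0) :
    ∑ P ∈ (normalizedFactors (f₁.map (algebraMap K L))).toFinset,
        (normalizedFactors (f₁.map (algebraMap K L))).count P *
          (normalizedFactors (f₂.map (algebraMap K L))).count P * P.natDegree =
      ∑ P ∈ (normalizedFactors f₁).toFinset,
        (normalizedFactors f₁).count P * (normalizedFactors f₂).count P * P.natDegree := by
  set φ := algebraMap K L
  set Φ : K[X] → Multiset L[X] := fun P => normalizedFactors (P.map φ)
  have hmap0 : ∀ P : K[X], P ≠ 0 → P.map φ ≠ 0 := fun P hP => (Polynomial.map_ne_zero_iff φ.injective).2 hP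
  have hbind : ∀ f : K[X], f ≠ 0 → normalizedFactors (f.map φ) = (normalizedFactors f).bind Φ := by
    intro f hf
    have ha : Associated (((normalizedFactors f).map (Polynomial.map φ)).prod) (f.map φ) := by
      rw [← Polynomial.coe_mapRingHom, ← map_multiset_prod]
      exact (prod_normalizedFactors hf).map _
    rw [← (associated_iff_normalizedFactors_eq_normalizedFactors
        (by
          intro h
          obtain ⟨P, hP, hP0⟩ := Multiset.mem_map.1 (Multiset.prod_eq_zero_iff.1 h)
          exact hmap0 P (irreducible_of_normalized_factor P hP).ne_zero hP0) (hmap0 f hf)).1 ha,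
      normalizedFactors_multiset_prod, Multiset.bind, Multiset.join, Multiset.map_map]
    · rfl
    · intro h
      obtain ⟨P, hP, hP0⟩ := Multiset.mem_map.1 h
      exact hmap0 P (irreducible_of_normalized_factor P hP).ne_zero hP0
  have hsq : ∀ P ∈ normalizedFactors f₁ + normalizedFactors f₂, Irreducible P ∧ normalize P = P := fun P hP => by
    rcases Multiset.mem_add.1 hP with h | h <;>
      exact ⟨irreducible_of_normalized_factor P h, normalize_normalized_factor P h⟩
  have hcount : ∀ P ∈ normalizedFactors f₁ + normalizedFactors f₂, ∀ p ∈ Φ P,
      ∀ Q ∈ normalizedFactors f₁ + normalizedFactors f₂, (Φ Q).count p = if Q = P then 1 else 0 := by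
    intro P hP p hp Q hQ
    obtain ⟨hPi, hPn⟩ := hsq P hP
    obtain ⟨hQi, hQn⟩ := hsq Q hQ
    split_ifs with h
    · subst h
      refine Multiset.count_eq_one_of_mem ?_ hp
      exact (UniqueFactorizationMonoid.squarefree_iff_nodup_normalizedFactors (hmap0 Q hQi.ne_zero)).1
        (((PerfectField.separable_of_irreducible hQi).map).squarefree)
    · refine Multiset.count_eq_zero.2 fun hpQ => ?_
      have hcop : IsCoprime Q P := (hQi.coprime_iff_not_dvd).2 fun hd =>
        h (by rw [← hQn, ← hPn]; exact normalize_eq_normalize hd (hQi.dvd_symm hPi hd))
      exact (irreducible_of_normalized_factor p hp).not_isUnit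
        ((hcop.map (Polynomial.mapRingHom φ)).isUnit_of_dvd' (dvd_of_mem_normalizedFactors hpQ) (dvd_of_mem_normalizedFactors hp))
  rw [pair_eq, pair_eq, hbind f₁ h₁, Multiset.map_bind, Multiset.sum_bind]
  refine congrArg Multiset.sum (Multiset.map_congr rfl fun P hP => ?_)
  have hP' : P ∈ normalizedFactors f₁ + normalizedFactors f₂ := Multiset.mem_add.2 (Or.inl hP)
  have hc : ∀ p ∈ Φ P, (normalizedFactors (f₂.map φ)).count p = (normalizedFactors f₂).count P := by
    intro p hp
    rw [hbind f₂ h₂, Multiset.count_bind,
      Multiset.map_congr rfl (fun Q hQ => hcount P hP' p hp Q (Multiset.mem_add.2 (Or.inr hQ)))]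
    induction normalizedFactors f₂ using Multiset.induction with
    | empty => simp
    | cons a s ih =>
      rw [Multiset.map_cons, Multiset.sum_cons, ih, Multiset.count_cons]
      by_cases h : a = P
      · subst h; simp [add_comm]
      · simp [h, Ne.symm h]
  rw [Multiset.map_congr rfl (fun p hp => by rw [hc p hp]), Multiset.sum_map_mul_left,
    natDegree_sum_normalizedFactors L _ (hmap0 P (irreducible_of_normalized_factor P hP).ne_zero),
    Polynomial.natDegree_map]

end Groth.Agent.S16836
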