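import Groth.Statements.S1684
import Groth.Agent.SDiv28.UfdPrincipal
import Mathlib

set_option autoImplicit false
universe u
open CategoryTheory CategoryTheory.Limits AlgebraicGeometry TopologicalSpace
open SDiv

namespace Groth.Agent.S1684

/-- Let X be a locally Noetherian scheme and 𝓘 a quasi-coherent ideal sheaf whose closed subscheme D is
integral, of codimension 1 in X (the local ring of X at the generic point of D has dimension 1), and
such that the local ring of X at every point of D is a unique factorisation domain. Then 𝓘 is the
ideal sheaf of an effective Cartier divisor. -/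
theorem result (X : Scheme.{u}) [IsLocallyNoetherian X] (𝓘 : X.IdealSheafData)
    [IsIntegral 𝓘.subscheme]
    (hcodim : ringKrullDim (X.presheaf.stalk (𝓘.subschemeι (genericPoint ↥𝓘.subscheme))) = 1)
    (hufd : ∀ x : ↥X, x ∈ 𝓘.support → IsDomain (X.presheaf.stalk x) ∧ UniqueFactorizationMonoid (X.presheaf.stalk x)) :
    BlowUp.IsEffCartierIdeal 𝓘 := by
  refine SDiv28.Ufd.isEffCartierIdeal 𝓘 hufd fun z hz => ?_
  have hmax := (SDiv28.isWeakAssPoint_structureModule_iff_reduced z).1
    ((SDiv28.isWeakAssPoint_structureModule_iff z).2 hz)
  rwa [← hmax _ (genericPoint_specializes z)]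
end Groth.Agent.S1684
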