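import Groth.Statements.S16841
import Groth.Agent.AbCubeLib.CharpolyFrob
-- import your own Groth.Agent.* helpers here

set_option autoImplicit false
universe u
open CategoryTheory MonoidalCategory CartesianMonoidalCategory MonObj GrpObj AlgebraicGeometry
open AbVar

namespace Groth.Agent.S16841

/-- Let k be a finite field with q elements and algebraic closure Ω, ℓ a prime invertible in k, and X an
abelian variety over k (a proper, geometrically integral commutative group scheme over k) of
dimension g, with geometric Frobenius π_X (the endomorphism that is the identity on points and the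
q-th power map on sections); assume, as is the case, that the ℓ-adic Tate module of Ω-points T_ℓ X
is free of finite rank over ℤ_ℓ, and let f_X ∈ ℤ[t] be the polynomial mapping to the characteristic
polynomial of T_ℓ(π_X) (the characteristic polynomial of Frobenius). Only the inequality is stated,
not the equality case. Then the trace of π_X, which is minus the second-highest coefficient of f_X,
satisfies |trace(π_X)| ≤ g · ⌊2√q⌋. -/
theorem result (k Ω : Type u) [Field k] [Finite k] [Field Ω] [Algebra k Ω] [IsAlgClosure k Ω]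
    (l : ℕ) [Fact l.Prime] (hl : (l : k) ≠ 0) (X : Over (Spec (CommRingCat.of k)))
    [GrpObj X] [IsCommMonObj X] [IsProper X.hom] [GeometricallyIntegral X.hom]
    (g : ℕ) (hg : topologicalKrullDim X.left = g)
    (πX : X ⟶ X) [IsMonHom πX] (hπb : πX.left.base = 𝟙 _)
    (hπle : ∀ U : X.left.Opens, U ≤ πX.left ⁻¹ᵁ U)
    (hπapp : ∀ (U : X.left.Opens) (s : Γ(X.left, U)), (πX.left.appLE U U (hπle U)).hom s = s ^ Nat.card k)
    [Module.Free ℤ_[l] (AbDual.TateMod X l (SGA7.pt Ω))] [Module.Finite ℤ_[l] (AbDual.TateMod X l (SGA7.pt Ω))]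
    (P : Polynomial ℤ) (hP : (AbDual.tateMapₗ (l := l) (T := SGA7.pt Ω) πX).charpoly = P.map (Int.castRingHom ℤ_[l])) :
    |(P.nextCoeff : ℝ)| ≤ (g : ℝ) * (⌊2 * Real.sqrt (Nat.card k)⌋ : ℝ) := by
  haveI : IsAlgClosed Ω := IsAlgClosure.isAlgClosed k
  have hq : Nat.card k ≠ 0 := Nat.card_pos.ne'
  have hpull : ∀ a : Groth.Agent.PicLib.PicM X.left,
      Groth.Agent.PicLib.PicM.pull (EndAV.End.of πX).toHom.left a = a ^ Nat.card k :=
    Groth.Agent.AbCubeLib.pull_eq_pow_of_powerMap πX.left (Nat.card k) hπle hπapp
  obtain ⟨hm, hd, -⟩ := Groth.Agent.AbCubeLib.charpoly_spec (Spec.map (CommRingCat.ofHom (algebraMap k Ω))) hl hg (EndAV.End.of πX) P hP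
  exact Groth.Agent.AbCubeLib.abs_nextCoeff_le P hm hd hq
    (Groth.Agent.AbCubeLib.norm_root_eq_sqrt (Spec.map (CommRingCat.ofHom (algebraMap k Ω))) (EndAV.End.of πX) hq hpull P hP)

end Groth.Agent.S16841
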