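import Groth.Statements.S16846
import Groth.Agent.AbVarLib.FrobeniusKilled
import Groth.Agent.AbVarLib.KernelQuot
import Groth.Agent.AbVarLib.HomDim
import Groth.Agent.UnipStruct.Group
import Groth.Agent.UnipStruct.VecGroup
import Mathlib.AlgebraicGeometry.Group.Abelian

set_option autoImplicit false
set_option linter.style.haveILetI false
set_option backward.isDefEq.respectTransparency.types false
universe u
open CategoryTheory MonoidalCategory CartesianMonoidalCategory MonObj GrpObj AlgebraicGeometry
open AbVar

namespace Groth.Agent.S16846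

/-- Fix a finite field k of size q and an abelian variety X over k (a proper, geometrically integral
commutative group scheme over k) and π_X its geometric Frobenius (the identity on points, the q-th
power map on sections; a homomorphism). Then the endomorphism ring End_k(X) contains q/π_X: there is
a homomorphism v : X → X with π_X followed by v, and v followed by π_X, both equal to multiplication
by q (the q-th power of the identity in the group of morphisms X → X). -/
theorem result (k : Type u) [Field k] [Finite k] (X : Over (Spec (CommRingCat.of k)))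
    [GrpObj X] [IsCommMonObj X] [IsProper X.hom] [GeometricallyIntegral X.hom]
    (πX : X ⟶ X) [IsMonHom πX] (hπb : πX.left.base = 𝟙 _)
    (hπle : ∀ U : X.left.Opens, U ≤ πX.left ⁻¹ᵁ U)
    (hπapp : ∀ (U : X.left.Opens) (s : Γ(X.left, U)), (πX.left.appLE U U (hπle U)).hom s = s ^ Nat.card k) :
    ∃ (v : X ⟶ X) (_ : IsMonHom v), πX ≫ v = (𝟙 X) ^ Nat.card k ∧ v ≫ πX = (𝟙 X) ^ Nat.card k := by
  haveI := Groth.Agent.AbVarLib.isProper_left πX
  haveI hs : Surjective πX.left := ⟨fun y => ⟨y, by show πX.left.base y = y; rw [hπb]; rfl⟩⟩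
  obtain ⟨hfin, hflat⟩ := Groth.Agent.AbVarLib.isFinite_and_flat_of_surjective πX rfl
  let N := Groth.Agent.UnipStruct.kerObj πX
  let i : N ⟶ X := Groth.Agent.UnipStruct.kerι πX
  have hN : AlgGrp.IsKernel i πX := Groth.Agent.UnipStruct.isKernel_kerι πX
  haveI : IsClosedImmersion i.left := Groth.Agent.UnipStruct.isClosedImmersion_kerι πX
  haveI : Mono i := Groth.Agent.AlgGrpLib.kernel_mono hN
  haveI : IsCommMonObj N := by
    refine ⟨(cancel_mono i).1 ?_⟩
    rw [MonObj.mul_eq_mul, MonObj.comp_mul, braiding_hom_fst, braiding_hom_snd, Groth.Agent.UnipStruct.kerι_mul,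
      Groth.Agent.UnipStruct.kerι_mul, mul_comm]
  have hsq : IsPullback i.left N.hom πX.left η[X].left := by
    have h := hN.map (Over.forget _)
    have hsnd : (toUnit N).left = N.hom := (Category.comp_id _).symm.trans (Over.w (toUnit N))
    rw [← hsnd]
    exact h
  haveI : IsFinite N.hom := MorphismProperty.of_isPullback hsq inferInstance
  haveI : IsAffine N.left := isAffine_of_isAffineHom N.hom
  let pk : Spec (CommRingCat.of k) := IsLocalRing.closedPoint k
  let x0 : X.left := η[X].left.base pk
  obtain ⟨_, ⟨U, hU, rfl⟩, hxU, -⟩ :=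
    X.left.isBasis_affineOpens.exists_subset_of_mem_open (Set.mem_univ x0) isOpen_univ
  replace hU : IsAffineOpen U := hU
  have hall : ∀ z : N.left, i.left.base z = x0 := fun z => by
    have h := congrArg (fun f : N.left ⟶ X.left => f.base z) hsq.w
    have h' : πX.left.base (i.left.base z) = η[X].left.base (N.hom.base z) := h
    rw [hπb, show N.hom.base z = pk from
      @Subsingleton.elim _ (inferInstanceAs (Subsingleton (PrimeSpectrum k))) _ _] at h'
    exact h'
  obtain ⟨g, hg⟩ := Groth.Agent.AbVarLib.exists_factor hU (N.left.isoSpec.inv ≫ i.left) (by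
    rintro _ ⟨z, rfl⟩
    rw [Scheme.Hom.comp_apply, hall]
    exact hxU)
  obtain ⟨χ, hχ⟩ := Groth.Agent.AbVarLib.exists_factor hU η[X].left (by
    rintro _ ⟨z, rfl⟩
    rw [show z = pk from @Subsingleton.elim _ (inferInstanceAs (Subsingleton (PrimeSpectrum k))) _ _]
    exact hxU)
  have hgs : Function.Surjective g := by
    haveI h1 : IsClosedImmersion (Spec.map (CommRingCat.ofHom g) ≫ hU.fromSpec) := by rw [← hg]; infer_instance
    haveI := IsClosedImmersion.of_comp (Spec.map (CommRingCat.ofHom g)) hU.fromSpec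
    have h2 := (IsClosedImmersion.isAffine_surjective_of_isAffine (Spec.map (CommRingCat.ofHom g))).2
    intro a
    obtain ⟨b, hb⟩ := h2 ((Scheme.ΓSpecIso _).inv.hom a)
    refine ⟨(Scheme.ΓSpecIso _).hom.hom b, ?_⟩
    have h3 := congrArg (fun m => m.hom b) (Scheme.ΓSpecIso_naturality (CommRingCat.ofHom g))
    simp only [CommRingCat.hom_comp, RingHom.comp_apply, CommRingCat.hom_ofHom] at h3
    refine h3.symm.trans ((congrArg (Scheme.ΓSpecIso _).hom.hom hb).trans ?_)
    exact congrArg (fun m => m.hom a) (Scheme.ΓSpecIso Γ(N.left, ⊤)).inv_hom_id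
  have hfrob : g.comp (πX.left.appLE U U (hπle U)).hom =
      (Groth.Agent.AbVarLib.structureHom N).comp χ := by
    refine Groth.Agent.AbVarLib.specMap_fromSpec_injective hU ?_
    rw [CommRingCat.ofHom_comp, CommRingCat.ofHom_comp, Spec.map_comp, Spec.map_comp, Category.assoc,
      show CommRingCat.ofHom (πX.left.appLE U U (hπle U)).hom = πX.left.appLE U U (hπle U) from rfl,
      hU.SpecMap_appLE_fromSpec πX.left hU (hπle U), Category.assoc, ← hχ,
      ← Category.assoc, ← hg, Groth.Agent.AbVarLib.specMap_structureHom, Category.assoc, hsq.w, Category.assoc]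
  have hkill : (𝟙 N) ^ Nat.card k = 1 := by
    refine Groth.Agent.AbVarLib.pow_card_eq_one N fun a => ?_
    obtain ⟨s, rfl⟩ := hgs a
    refine ⟨χ s, ?_⟩
    rw [← map_pow, ← hπapp U s]
    exact RingHom.congr_fun hfrob s
  have hψ : i ≫ (𝟙 X) ^ Nat.card k = 1 := by
    rw [MonObj.comp_pow, Category.comp_id, ← Category.id_comp i, ← MonObj.pow_comp, hkill, MonObj.one_comp]
  haveI : IsCommMonObj X := inferInstance
  haveI : IsMonHom ((𝟙 X) ^ Nat.card k) := Groth.Agent.UnipStruct.isMonHom_pow_id _
  obtain ⟨v, ⟨hv, hπv⟩, -⟩ := Groth.Agent.AbVarLib.existsUnique_lift_of_kernel πX i hN ((𝟙 X) ^ Nat.card k) hψ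
  haveI := hv
  refine ⟨v, hv, hπv, ?_⟩
  haveI : Epi πX := Over.epi_of_epi_left _
  rw [← cancel_epi πX, ← Category.assoc, hπv, MonObj.pow_comp, Category.id_comp, MonObj.comp_pow, Category.comp_id]

end Groth.Agent.S16846
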