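import Groth.Statements.S16847
import Groth.Agent.AbCubeLib.CharpolyMinpoly
-- import your own Groth.Agent.* helpers here

set_option autoImplicit false
universe u
open CategoryTheory MonoidalCategory CartesianMonoidalCategory MonObj GrpObj AlgebraicGeometry
open AbVar

namespace Groth.Agent.S16847

/-- Let k be a finite field with q elements and algebraic closure Ω, ℓ a prime invertible in k, and X an
abelian variety over k (a proper, geometrically integral commutative group scheme over k) of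
dimension g, with geometric Frobenius π_X (the endomorphism that is the identity on points and the
q-th power map on sections); assume, as is the case, that the ℓ-adic Tate module of Ω-points T_ℓ X
is free of finite rank over ℤ_ℓ, and let f_X ∈ ℤ[t] be the polynomial mapping to the characteristic
polynomial of T_ℓ(π_X) (the characteristic polynomial of Frobenius). Then ℚ[π_X] ⊆ End⁰(X) = ℚ ⊗
End_k(X) is a field (equivalently, X is elementary, i.e. isogenous to a power of a simple abelian
variety — that reformulation is not restated) if and only if f_X = h^n for some irreducible h ∈ ℚ[t]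
and some n ≥ 1. -/
theorem result (k Ω : Type u) [Field k] [Finite k] [Field Ω] [Algebra k Ω] [IsAlgClosure k Ω]
    (l : ℕ) [Fact l.Prime] (hl : (l : k) ≠ 0) (X : Over (Spec (CommRingCat.of k)))
    [GrpObj X] [IsCommMonObj X] [IsProper X.hom] [GeometricallyIntegral X.hom]
    (πX : X ⟶ X) [IsMonHom πX] (hπb : πX.left.base = 𝟙 _)
    (hπle : ∀ U : X.left.Opens, U ≤ πX.left ⁻¹ᵁ U)
    (hπapp : ∀ (U : X.left.Opens) (s : Γ(X.left, U)), (πX.left.appLE U U (hπle U)).hom s = s ^ Nat.card k)
    [Module.Free ℤ_[l] (AbDual.TateMod X l (SGA7.pt Ω))] [Module.Finite ℤ_[l] (AbDual.TateMod X l (SGA7.pt Ω))]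
    (P : Polynomial ℤ) (hP : (AbDual.tateMapₗ (l := l) (T := SGA7.pt Ω) πX).charpoly = P.map (Int.castRingHom ℤ_[l])) :
    IsField (EndAV.QAdj (EndAV.End.of πX)) ↔
      ∃ (h : Polynomial ℚ) (n : ℕ), Irreducible h ∧ 0 < n ∧ P.map (Int.castRingHom ℚ) = h ^ n := by
  haveI : IsAlgClosed Ω := IsAlgClosure.isAlgClosed k
  let j₀ : Spec (CommRingCat.of Ω) ⟶ Spec (CommRingCat.of k) := Spec.map (CommRingCat.ofHom (algebraMap k Ω))
  obtain ⟨F, hFm, hsq, -, hF⟩ := Groth.Agent.AbCubeLib.exists_squarefree_of_pull_pow (EndAV.End.of πX) Nat.card_pos.ne'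
    (Groth.Agent.AbCubeLib.pull_eq_pow_of_powerMap πX.left (Nat.card k) hπle hπapp)
  have hint : IsIntegral ℚ (EndAV.toEnd0 (EndAV.End.of πX)) := ⟨F, hFm, hF⟩
  obtain ⟨r, hr⟩ := Groth.Agent.AbCubeLib.exists_dim_eq X
  obtain ⟨hPm, hPd, -⟩ := Groth.Agent.AbCubeLib.charpoly_spec j₀ hl hr (EndAV.End.of πX) P hP
  have hCH := Groth.Agent.AbCubeLib.aeval_charpoly_toEnd0 j₀ hl (EndAV.End.of πX) P hP
  constructor
  · intro hfield
    have hi := Groth.Agent.AbCubeLib.irreducible_minpoly_of_isField_adjoin hint hfield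
    obtain ⟨P', -, -, hP', hP''⟩ := Groth.Agent.AbCubeLib.exists_charpoly_eq_pow j₀ hl hr (EndAV.End.of πX) hi
      (minpoly.monic hint) (minpoly.aeval ℚ _)
    have e : P' = P := Polynomial.map_injective _ (RingHom.injective_int (Int.castRingHom ℤ_[l])) (hP'.symm.trans hP)
    subst e
    refine ⟨_, _, hi, Nat.pos_of_ne_zero fun h0 => ?_, hP''⟩
    rw [hP'', h0, pow_zero, map_one] at hCH
    haveI : Nontrivial (EndAV.End0 X) := by
      obtain ⟨a, b, hab⟩ := hfield.exists_pair_ne
      exact ⟨⟨a.1, b.1, fun h => hab (Subtype.ext h)⟩⟩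
    exact one_ne_zero hCH
  · rintro ⟨h, n, hi, hn, hPh⟩
    have hr0 : r ≠ 0 := by
      rintro rfl
      have hd := congrArg Polynomial.natDegree hPh
      rw [hPm.natDegree_map, hPd, Polynomial.natDegree_pow] at hd
      exact (Nat.mul_pos hn hi.natDegree_pos).ne' (by omega)
    haveI := Groth.Agent.AbCubeLib.nontrivial_end0 j₀ hl hr hr0
    refine Groth.Agent.AbCubeLib.isField_adjoin_of_irreducible hint ?_
    have hm2 : Squarefree (minpoly ℚ (EndAV.toEnd0 (EndAV.End.of πX))) := hsq.squarefree_of_dvd (minpoly.dvd ℚ _ hF)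
    have hdvd : minpoly ℚ (EndAV.toEnd0 (EndAV.End.of πX)) ∣ h :=
      (hm2.dvd_pow_iff_dvd hn.ne').1 (hPh ▸ minpoly.dvd ℚ _ hCH)
    obtain ⟨c, hc⟩ := hdvd
    exact (irreducible_mul_isUnit ((hi.isUnit_or_isUnit hc).resolve_left (minpoly.not_isUnit ℚ _))).1 (hc ▸ hi)


end Groth.Agent.S16847
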