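import Groth.Statements.S16849
import Groth.Agent.AbCubeLib.FrobCount
import Groth.Agent.AbCubeLib.FrobZeta
-- import your own Groth.Agent.* helpers here

set_option autoImplicit false
universe u
open CategoryTheory MonoidalCategory CartesianMonoidalCategory MonObj GrpObj AlgebraicGeometry
open AbVar

namespace Groth.Agent.S16849

/-- Let k be a finite field with q elements and algebraic closure Ω, ℓ a prime invertible in k, and X an
abelian variety over k (a proper, geometrically integral commutative group scheme over k) of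
dimension g, with geometric Frobenius π_X (the endomorphism that is the identity on points and the
q-th power map on sections); assume, as is the case, that the ℓ-adic Tate module of Ω-points T_ℓ X
is free of finite rank over ℤ_ℓ, and let f_X ∈ ℤ[t] be the polynomial mapping to the characteristic
polynomial of T_ℓ(π_X) (the characteristic polynomial of Frobenius). Let α_1, …, α_{2g} be the
complex roots of f_X with multiplicity and, for 0 ≤ j ≤ 2g, P_j(t) = ∏_I (1 − α_I t), the product
over the j-element sub-multisets I of the roots, α_I = ∏_{i ∈ I} α_i (so P_j is the reciprocal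
characteristic polynomial of the j-th exterior power of V_ℓ(π_X)). Then every P_j has integer
coefficients, and the zeta function Z(X; t) = exp(Σ_{m ≥ 1} N_m t^m / m) (N_m the number of points
of X in a degree-m extension of k, counted through closed points) satisfies Z(X; t) · ∏_{j even}
P_j(t) = ∏_{j odd} P_j(t) in ℂ⟦t⟧, i.e. Z(X; t) = P_1 P_3 ⋯ P_{2g−1} / (P_0 P_2 ⋯ P_{2g}). -/
theorem result (k Ω : Type u) [Field k] [Finite k] [Field Ω] [Algebra k Ω] [IsAlgClosure k Ω]
    (l : ℕ) [Fact l.Prime] (hl : (l : k) ≠ 0) (X : Over (Spec (CommRingCat.of k)))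
    [GrpObj X] [IsCommMonObj X] [IsProper X.hom] [GeometricallyIntegral X.hom]
    (πX : X ⟶ X) [IsMonHom πX] (hπb : πX.left.base = 𝟙 _)
    (hπle : ∀ U : X.left.Opens, U ≤ πX.left ⁻¹ᵁ U)
    (hπapp : ∀ (U : X.left.Opens) (s : Γ(X.left, U)), (πX.left.appLE U U (hπle U)).hom s = s ^ Nat.card k)
    [Module.Free ℤ_[l] (AbDual.TateMod X l (SGA7.pt Ω))] [Module.Finite ℤ_[l] (AbDual.TateMod X l (SGA7.pt Ω))]
    (P : Polynomial ℤ) (hP : (AbDual.tateMapₗ (l := l) (T := SGA7.pt Ω) πX).charpoly = P.map (Int.castRingHom ℤ_[l])) :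
    (∀ j : ℕ, ∃ Q : Polynomial ℤ, Q.map (Int.castRingHom ℂ) = (((P.map (Int.castRingHom ℂ)).roots.powersetCard j).map
          (fun I => (1 : Polynomial ℂ) - Polynomial.C I.prod * Polynomial.X)).prod) ∧
      (Zeta.zetaFun X.hom).map (algebraMap ℚ ℂ) *
          ∏ j ∈ (Finset.range (P.natDegree + 1)).filter (fun j => Even j),
            (((((P.map (Int.castRingHom ℂ)).roots.powersetCard j).map
          (fun I => (1 : Polynomial ℂ) - Polynomial.C I.prod * Polynomial.X)).prod : Polynomial ℂ) : PowerSeries ℂ) =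
        ∏ j ∈ (Finset.range (P.natDegree + 1)).filter (fun j => Odd j),
          (((((P.map (Int.castRingHom ℂ)).roots.powersetCard j).map
          (fun I => (1 : Polynomial ℂ) - Polynomial.C I.prod * Polynomial.X)).prod : Polynomial ℂ) : PowerSeries ℂ) := by
  haveI : IsAlgClosed Ω := IsAlgClosure.isAlgClosed k
  have hPm : P.Monic := Polynomial.monic_of_injective (RingHom.injective_int (Int.castRingHom ℤ_[l]))
    (hP ▸ LinearMap.charpoly_monic _)
  refine ⟨fun j => Groth.Agent.AbCubeLib.exists_int_poly_powersetCard P hPm j, ?_⟩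
  obtain ⟨r₀, hr₀⟩ := Groth.Agent.AbCubeLib.exists_fin_map (P.map (Int.castRingHom ℂ)).roots
  obtain ⟨d, r, hr, hd⟩ : ∃ (d : ℕ) (r : Fin d → ℂ), (P.map (Int.castRingHom ℂ)).roots =
      (Finset.univ : Finset (Fin d)).val.map r ∧ P.natDegree = d := ⟨_, r₀, hr₀, by
    rw [← Polynomial.Splits.natDegree_eq_card_roots (IsAlgClosed.splits _), hPm.natDegree_map]⟩
  have hcount : ∀ m, (Zeta.nPts X.hom (m + 1) : ℂ) = ∏ i, (1 - r i ^ (m + 1)) := by
    intro m
    obtain ⟨k', _, _, _, hk'⟩ := Groth.Agent.ZetaLib.exists_extension k m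
    have e : (Over.mk (Spec.map (CommRingCat.ofHom (algebraMap k k'))) ⟶ X) ≃ Groth.Agent.ZetaLib.Pts X.hom k' :=
      { toFun := fun a => ⟨a.left, Over.w a⟩
        invFun := fun g => Over.homMk g.1 g.2
        left_inv := fun a => Over.OverMorphism.ext rfl
        right_inv := fun g => rfl }
    rw [← hk', Groth.Agent.ZetaLib.nPts_eq_card, ← Nat.card_congr e,
      Groth.Agent.AbCubeLib.natCard_points_eq Ω hl (EndAV.End.of πX) hπle hπapp P hP k', hr, Multiset.map_map]
    rfl
  have hE : ∀ j, (((P.map (Int.castRingHom ℂ)).roots.powersetCard j).map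
          (fun I => (1 : Polynomial ℂ) - Polynomial.C I.prod * Polynomial.X)).prod =
        ∏ I ∈ (Finset.univ : Finset (Fin d)).powersetCard j,
          ((1 : Polynomial ℂ) - Polynomial.C (∏ i ∈ I, r i) * Polynomial.X) := fun j => by
    rw [hr]
    exact Groth.Agent.AbCubeLib.prod_powersetCard_map r j (fun c => (1 : Polynomial ℂ) - Polynomial.C c * Polynomial.X)
  simp only [hE, hd]
  exact Groth.Agent.AbCubeLib.zeta_mul_prod_even_eq X.hom r hcount


end Groth.Agent.S16849
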