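import Groth.Statements.S1685
import Groth.Agent.CAlgH.RegImmStalk
import Groth.Agent.CAlgH3.Depth
import Groth.Agent.CAlgH3.RegularCore
import Mathlib

set_option autoImplicit false
universe u
open CategoryTheory CategoryTheory.Limits AlgebraicGeometry TopologicalSpace
open SDiv

namespace Groth.Agent.S1685

/-- Let X be a locally Noetherian scheme all of whose local rings satisfy Serre's condition (S_k), and
let D be the closed subscheme of an effective Cartier divisor. Then all local rings of D satisfy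
(S_{k-1}). -/
theorem result (X : Scheme.{u}) [IsLocallyNoetherian X] (k : ℕ)
    (hX : ∀ x : ↥X, min (k : WithBot ℕ∞) (ringKrullDim (X.presheaf.stalk x)) ≤
      ((LocCoh.depth (X.presheaf.stalk x) (X.presheaf.stalk x) : ℕ∞) : WithBot ℕ∞))
    (𝓘 : X.IdealSheafData) (h𝓘 : BlowUp.IsEffCartierIdeal 𝓘) (d : ↥𝓘.subscheme) :
    min ((k - 1 : ℕ) : WithBot ℕ∞) (ringKrullDim (𝓘.subscheme.presheaf.stalk d)) ≤
      ((LocCoh.depth (𝓘.subscheme.presheaf.stalk d) (𝓘.subscheme.presheaf.stalk d) : ℕ∞) : WithBot ℕ∞) := by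
  let x := 𝓘.subschemeι d
  obtain ⟨U, hxU, f, hf, hfI⟩ := h𝓘 x
  letI := X.presheaf.algebra_section_stalk (⟨x, hxU⟩ : U.1)
  haveI := U.2.isLocalization_stalk ⟨x, hxU⟩
  haveI : IsClosedImmersion (𝓘.subschemeι ∣_ U.1) := inferInstance
  let g := X.presheaf.germ U.1 x hxU f
  have hg : g ∈ nonZeroDivisors (X.presheaf.stalk x) :=
    IsLocalization.map_nonZeroDivisors_le (U.2.primeIdealOf ⟨x, hxU⟩).asIdeal.primeCompl _
      (Submonoid.mem_map_of_mem _ hf)
  let ψ := (𝓘.subschemeι.stalkMap d).hom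
  have hψ : Function.Surjective ψ := 𝓘.subschemeι.stalkMap_surjective d
  have hker : RingHom.ker ψ = Ideal.span {g} := by
    rw [CAlgH.RegImmStalk.ker_stalkMap_eq 𝓘.subschemeι d U.2 hxU, 𝓘.ker_subschemeι_app U, hfI, Ideal.map_span,
      Set.image_singleton]
  have hgm : g ∈ IsLocalRing.maximalIdeal (X.presheaf.stalk x) :=
    IsLocalRing.le_maximalIdeal (RingHom.ker_ne_top ψ) (hker.ge (Ideal.mem_span_singleton_self g))
  let e : X.presheaf.stalk x ⧸ Ideal.span {g} ≃+* 𝓘.subscheme.presheaf.stalk d :=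
    (Ideal.quotEquivOfEq hker.symm).trans (RingHom.quotientKerEquivOfSurjective hψ)
  haveI : IsLocalRing (X.presheaf.stalk x ⧸ Ideal.span {g}) := e.symm.isLocalRing
  haveI : Nontrivial (X.presheaf.stalk x ⧸ Ideal.span {g}) := inferInstance
  rw [← CAlgH3.depth_ringEquiv e, ← ringKrullDim_eq_of_ringEquiv e, CAlgH3.depth_quotient_ring]
  have hreg : IsSMulRegular (X.presheaf.stalk x) g :=
    fun a b hab => (mul_cancel_left_mem_nonZeroDivisors hg).1 hab
  have hdepth := CAlgH3.depth_quotSMulTop_add_one (M := X.presheaf.stalk x) hgm hreg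
  rw [CAlgH3.depth_congr (CAlgH3.quotSMulTopSelf g)] at hdepth
  have hdim := ringKrullDim_quotient_succ_le_of_nonZeroDivisor hg
  have h := hX x
  rw [← hdepth] at h
  generalize LocCoh.depth (X.presheaf.stalk x) (X.presheaf.stalk x ⧸ Ideal.span {g}) = D at h ⊢
  obtain ⟨m, hm⟩ := WithBot.ne_bot_iff_exists.1
    (ringKrullDim_ne_bot (R := X.presheaf.stalk x ⧸ Ideal.span {g}))
  rw [← hm] at hdim ⊢
  rcases k with - | j
  · exact (min_le_left _ _).trans (WithBot.coe_le_coe.2 zero_le)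
  have h2 : ((min ((j + 1 : ℕ) : ℕ∞) (m + 1) : ℕ∞) : WithBot ℕ∞) ≤ ((D + 1 : ℕ∞) : WithBot ℕ∞) := by
    refine le_trans (le_min ?_ ?_) h
    · exact WithBot.coe_le_coe.2 (min_le_left _ _)
    · exact (WithBot.coe_le_coe.2 (min_le_right _ _)).trans hdim
  refine WithBot.coe_le_coe.2 (?_ : min ((j : ℕ) : ℕ∞) m ≤ D)
  have h3 := WithBot.coe_le_coe.1 h2
  rw [Nat.cast_add, Nat.cast_one, min_add_add_right] at h3
  exact (WithTop.add_le_add_iff_right ENat.one_ne_top).1 h3
end Groth.Agent.S1685
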