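import Groth.Statements.S16850
import Groth.Agent.AbCubeLib.CharpolyFrob
import Groth.Agent.AbCubeLib.RootFuncEq
-- import your own Groth.Agent.* helpers here

set_option autoImplicit false
universe u
open CategoryTheory MonoidalCategory CartesianMonoidalCategory MonObj GrpObj AlgebraicGeometry
open AbVar

namespace Groth.Agent.S16850

/-- Let k be a finite field with q elements and algebraic closure Ω, ℓ a prime invertible in k, and X an
abelian variety over k (a proper, geometrically integral commutative group scheme over k) of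
dimension g, with geometric Frobenius π_X (the endomorphism that is the identity on points and the
q-th power map on sections); assume, as is the case, that the ℓ-adic Tate module of Ω-points T_ℓ X
is free of finite rank over ℤ_ℓ, and let f_X ∈ ℤ[t] be the polynomial mapping to the characteristic
polynomial of T_ℓ(π_X) (the characteristic polynomial of Frobenius). With P_j(t) = ∏_I (1 − α_I t)
over the j-element sub-multisets I of the complex roots of f_X (α_I their product), the zeta
function of X is the rational function Z(X; t) = ∏_{j=0}^{2g} P_j(t)^{(−1)^{j+1}}, and for g ≥ 1 it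
satisfies the functional equation Z(X; 1/(q^g t)) = Z(X; t). (The dimension-zero case must be
excluded: for X a point, Z(X; t) = 1/(1 − t) and Z(X; 1/t) = t/(t − 1) differ; the published
statement has no such restriction, and its proof uses Σ_j (−1)^{j+1} C(2g, j) = 0, valid only for g
≥ 1.) Stated pointwise: for every non-zero complex number t such that no P_j vanishes at t or at
1/(q^g t), ∏_j P_j(1/(q^g t))^{(−1)^{j+1}} = ∏_j P_j(t)^{(−1)^{j+1}}. -/
theorem result (k Ω : Type u) [Field k] [Finite k] [Field Ω] [Algebra k Ω] [IsAlgClosure k Ω]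
    (l : ℕ) [Fact l.Prime] (hl : (l : k) ≠ 0) (X : Over (Spec (CommRingCat.of k)))
    [GrpObj X] [IsCommMonObj X] [IsProper X.hom] [GeometricallyIntegral X.hom]
    (g : ℕ) (hg : topologicalKrullDim X.left = g) (hg1 : 1 ≤ g)
    (πX : X ⟶ X) [IsMonHom πX] (hπb : πX.left.base = 𝟙 _)
    (hπle : ∀ U : X.left.Opens, U ≤ πX.left ⁻¹ᵁ U)
    (hπapp : ∀ (U : X.left.Opens) (s : Γ(X.left, U)), (πX.left.appLE U U (hπle U)).hom s = s ^ Nat.card k)
    [Module.Free ℤ_[l] (AbDual.TateMod X l (SGA7.pt Ω))] [Module.Finite ℤ_[l] (AbDual.TateMod X l (SGA7.pt Ω))]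
    (P : Polynomial ℤ) (hP : (AbDual.tateMapₗ (l := l) (T := SGA7.pt Ω) πX).charpoly = P.map (Int.castRingHom ℤ_[l]))
    (t : ℂ) (ht : t ≠ 0)
    (hPt : ∀ j ∈ Finset.range (2 * g + 1), Polynomial.eval t ((((P.map (Int.castRingHom ℂ)).roots.powersetCard j).map
          (fun I => (1 : Polynomial ℂ) - Polynomial.C I.prod * Polynomial.X)).prod : Polynomial ℂ) ≠ 0)
    (hPs : ∀ j ∈ Finset.range (2 * g + 1), Polynomial.eval (((Nat.card k : ℂ) ^ g * t)⁻¹) ((((P.map (Int.castRingHom ℂ)).roots.powersetCard j).map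
          (fun I => (1 : Polynomial ℂ) - Polynomial.C I.prod * Polynomial.X)).prod : Polynomial ℂ) ≠ 0) :
    ∏ j ∈ Finset.range (2 * g + 1), (Polynomial.eval (((Nat.card k : ℂ) ^ g * t)⁻¹) ((((P.map (Int.castRingHom ℂ)).roots.powersetCard j).map
          (fun I => (1 : Polynomial ℂ) - Polynomial.C I.prod * Polynomial.X)).prod : Polynomial ℂ)) ^ ((-1 : ℤ) ^ (j + 1)) =
      ∏ j ∈ Finset.range (2 * g + 1), (Polynomial.eval t ((((P.map (Int.castRingHom ℂ)).roots.powersetCard j).map
          (fun I => (1 : Polynomial ℂ) - Polynomial.C I.prod * Polynomial.X)).prod : Polynomial ℂ)) ^ ((-1 : ℤ) ^ (j + 1)) := by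
  haveI : IsAlgClosed Ω := IsAlgClosure.isAlgClosed k
  have hq : Nat.card k ≠ 0 := Nat.card_pos.ne'
  have hpull : ∀ a : Groth.Agent.PicLib.PicM X.left,
      Groth.Agent.PicLib.PicM.pull (EndAV.End.of πX).toHom.left a = a ^ Nat.card k :=
    Groth.Agent.AbCubeLib.pull_eq_pow_of_powerMap πX.left (Nat.card k) hπle hπapp
  let j₀ : Spec (CommRingCat.of Ω) ⟶ Spec (CommRingCat.of k) := Spec.map (CommRingCat.ofHom (algebraMap k Ω))
  obtain ⟨hm, hd, -⟩ := Groth.Agent.AbCubeLib.charpoly_spec j₀ hl hg (EndAV.End.of πX) P hP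
  have hnorm := Groth.Agent.AbCubeLib.norm_root_eq_sqrt j₀ (EndAV.End.of πX) hq hpull P hP
  have hpos := Groth.Agent.AbCubeLib.eval_zero_pos j₀ hl hg (EndAV.End.of πX) hq hpull P hP
  obtain ⟨r₀, hr₀⟩ := Groth.Agent.AbCubeLib.exists_fin_map (P.map (Int.castRingHom ℂ)).roots
  obtain ⟨d, r, hr, hdd⟩ : ∃ (d : ℕ) (r : Fin d → ℂ), (P.map (Int.castRingHom ℂ)).roots =
      (Finset.univ : Finset (Fin d)).val.map r ∧ 2 * g = d := ⟨_, r₀, hr₀, by
    rw [← Polynomial.Splits.natDegree_eq_card_roots (IsAlgClosed.splits _), hm.natDegree_map, hd]⟩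
  have hrn : ∀ i, ‖r i‖ = Real.sqrt (Nat.card k) := fun i =>
    hnorm (r i) (hr ▸ Multiset.mem_map_of_mem r (Finset.mem_univ_val i))
  have hr0 : ∀ i, r i ≠ 0 := fun i h => by
    have h1 := hrn i
    rw [h, norm_zero] at h1
    exact (Real.sqrt_pos.2 (Nat.cast_pos.2 (Nat.pos_of_ne_zero hq))).ne h1
  have hev : ((P.eval 0 : ℤ) : ℂ) = ∏ i, r i := by
    have h := congrArg (Polynomial.eval (0 : ℂ)) ((IsAlgClosed.splits (P.map (Int.castRingHom ℂ))).eq_prod_roots_of_monic (hm.map _))
    rw [Polynomial.eval_multiset_prod, Multiset.map_map, hr, Multiset.map_map] at h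
    rw [← eq_intCast (Int.castRingHom ℂ) (P.eval 0), ← Polynomial.eval_map_apply, map_zero, h]
    show ∏ i, Polynomial.eval 0 (Polynomial.X - Polynomial.C (r i)) = _
    simp only [Polynomial.eval_sub, Polynomial.eval_X, Polynomial.eval_C, zero_sub]
    rw [Finset.prod_neg, Finset.card_univ, Fintype.card_fin, (hdd ▸ even_two_mul g : Even d).neg_one_pow, _root_.one_mul]
  have hprod : ∏ i, r i = (Nat.card k : ℂ) ^ g := by
    have hn := congrArg norm hev
    rw [Complex.norm_intCast, abs_of_pos (by exact_mod_cast hpos), norm_prod, Finset.prod_congr rfl (fun i _ => hrn i),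
      Finset.prod_const, Finset.card_univ, Fintype.card_fin, ← hdd, pow_mul, Real.sq_sqrt (Nat.cast_nonneg _)] at hn
    rw [← hev]
    exact_mod_cast congrArg (fun x : ℝ => (x : ℂ)) hn
  have hE : ∀ (x : ℂ) (j : ℕ), Polynomial.eval x (((P.map (Int.castRingHom ℂ)).roots.powersetCard j).map
          (fun I => (1 : Polynomial ℂ) - Polynomial.C I.prod * Polynomial.X)).prod =
        ∏ I ∈ (Finset.univ : Finset (Fin d)).powersetCard j, (1 - (∏ i ∈ I, r i) * x) := fun x j => by
    rw [hr, Groth.Agent.AbCubeLib.prod_powersetCard_map r j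
      (fun c => (1 : Polynomial ℂ) - Polynomial.C c * Polynomial.X), Polynomial.eval_prod]
    simp [Polynomial.eval_prod]
  simp only [hE, hdd]
  rw [← hprod]
  exact Groth.Agent.AbCubeLib.alternating_funcEq (hdd ▸ even_two_mul g) (by omega) r hr0 t ht


end Groth.Agent.S16850
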