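import Groth.Statements.S16854
import Groth.Agent.CommAlg4.LangFixed
import Mathlib.LinearAlgebra.Dimension.OrzechProperty
import Mathlib.RingTheory.Henselian
import Mathlib.RingTheory.PicardGroup
import Mathlib.RingTheory.RegularLocalRing.Defs
import Mathlib.RingTheory.SimpleRing.Principal
import Mathlib.RingTheory.WittVector.Complete
import Mathlib.Tactic
import Groth.Agent.CommAlg4.LangFixed

set_option linter.all false

set_option autoImplicit false
universe u v
open CAlg


namespace Groth.Agent.S16854

theorem iterate_frobenius_constantCoeff {k : Type u} [CommRing k] (p : ℕ) [Fact p.Prime] [CharP k p]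
    (ν : ℕ) (a : WittVector p k) :
    WittVector.constantCoeff ((⇑(WittVector.frobenius : WittVector p k →+* WittVector p k))^[ν] a) =
      WittVector.constantCoeff a ^ p ^ ν := by
  induction ν with
  | zero => simp
  | succ n ih =>
    rw [Function.iterate_succ_apply', pow_succ, pow_mul, ← ih]
    exact WittVector.coeff_frobenius_charP _ _ 0

/-- Let k be an algebraically closed field of characteristic p > 0, ν ≥ 1, W = W(k) the ring of
p-typical Witt vectors with its Frobenius endomorphism σ, M a finitely generated free W-module and F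
: M → M a bijective additive map that is σ^ν-semilinear, F(a·m) = σ^ν(a)·F(m). Then M admits a
W-basis consisting of F-fixed elements; in particular M is spanned over W by M₀ = {m | F(m) = m}, a
module over the Witt vectors of F_{p^ν}. (The copy allows ν < 0 as well, reducing to F⁻¹; stated
here for ν ≥ 1.) -/
theorem result (k : Type u) [Field k] [IsAlgClosed k]
    (p : ℕ) [Fact p.Prime] [CharP k p] (ν : ℕ) (hν : 1 ≤ ν)
    (M : Type v) [AddCommGroup M] [Module (WittVector p k) M]
    [Module.Finite (WittVector p k) M] [Module.Free (WittVector p k) M]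
    (F : M →+ M)
    (hF : ∀ (a : WittVector p k) (m : M), F (a • m) = ((⇑(WittVector.frobenius : WittVector p k →+* WittVector p k))^[ν] a) • F m)
    (hbij : Function.Bijective F) :
    ∃ (ι : Type v) (b : Module.Basis ι (WittVector p k) M), ∀ i, F (b i) = b i := by
  classical
  let ι := Fin (Module.finrank (WittVector p k) M)
  let B : Module.Basis ι (WittVector p k) M := Module.finBasis (WittVector p k) M
  let cc := (WittVector.constantCoeff : WittVector p k →+* k)
  have hp0 : cc (p : WittVector p k) = 0 := by rw [map_natCast, CharP.cast_eq_zero]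
  let π : M →+ (ι → k) := AddMonoidHom.mk' (fun m i => cc (B.repr m i))
    (fun a b => funext fun i => by simp)
  have hπsmul : ∀ (a : WittVector p k) m, π (a • m) = cc a • π m := fun a m => funext fun i => by simp [π]
  have hker : ∀ m, π m = 0 → ∃ m', m = (p : WittVector p k) • m' := by
    intro m hm
    have : ∀ i, ∃ c, B.repr m i = (p : WittVector p k) * c := by
      intro i
      have h1 : B.repr m i ∈ RingHom.ker cc := congrFun hm i
      rw [WittVector.ker_constantCoeff] at h1
      obtain ⟨c, hc⟩ := Ideal.mem_span_singleton.mp h1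
      exact ⟨c, hc⟩
    choose c hc using this
    refine ⟨∑ i, c i • B i, ?_⟩
    conv_lhs => rw [← B.sum_repr m]
    rw [Finset.smul_sum]
    exact Finset.sum_congr rfl fun i _ => by rw [hc, mul_smul]
  let lift : (ι → k) → M := fun c => ∑ i, WittVector.teichmuller p (c i) • B i
  have hlift : ∀ c, π (lift c) = c := by
    intro c; funext i
    show cc (B.repr (∑ i, WittVector.teichmuller p (c i) • B i) i) = c i
    rw [B.repr_sum_self]
    exact WittVector.teichmuller_coeff_zero p (c i)
  have hFp : ∀ m, F ((p : WittVector p k) • m) = (p : WittVector p k) • F m := fun m => by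
    rw [Nat.cast_smul_eq_nsmul, map_nsmul, Nat.cast_smul_eq_nsmul]
  have hFπ : ∀ m m', π m = π m' → π (F m) = π (F m') := by
    intro m m' h
    obtain ⟨d, hd⟩ := hker (m - m') (by rw [map_sub, h, sub_self])
    rw [← sub_eq_zero, ← map_sub, ← map_sub, hd, hFp, hπsmul, hp0, zero_smul]
  let q := p ^ ν
  have hq : 2 ≤ q := (Fact.out : p.Prime).two_le.trans (Nat.le_self_pow (by omega) p)
  let φ : (ι → k) →+ (ι → k) := AddMonoidHom.mk' (fun c => π (F (lift c))) fun c d => by
    rw [← map_add π, ← map_add F]
    exact hFπ _ _ (by simp [map_add, hlift])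
  have hφπ : ∀ m, π (F m) = φ (π m) := fun m => hFπ _ _ (hlift _).symm
  have hφ : ∀ (a : k) c, φ (a • c) = a ^ q • φ c := by
    intro a c
    have h1 : a • c = π (WittVector.teichmuller p a • lift c) := by
      rw [hπsmul, hlift]
      congr 1
    rw [h1, ← hφπ, hF, hπsmul, iterate_frobenius_constantCoeff]
    congr 1
  have hφi : Function.Injective φ := by
    rw [injective_iff_map_eq_zero]
    intro c hc
    obtain ⟨d, hd⟩ := hker (F (lift c)) hc
    obtain ⟨d', rfl⟩ := hbij.2 d
    rw [← hFp] at hd
    rw [← hlift c, hbij.1 hd, hπsmul, hp0, zero_smul]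
  obtain ⟨κ, bk, hbk⟩ := Groth.Agent.CommAlg4.LangFixed.exists_basis_fixed hq φ hφ hφi
  -- improve an approximate fixed point
  have step : ∀ (j : ℕ) (m : M), (∃ z, F m - m = ((p : WittVector p k) ^ j) • z) →
      ∃ y, ∃ z, F (m + ((p : WittVector p k) ^ j) • y) - (m + ((p : WittVector p k) ^ j) • y) =
        ((p : WittVector p k) ^ (j + 1)) • z := by
    rintro j m ⟨z, hz⟩
    obtain ⟨c, hc⟩ := Groth.Agent.CommAlg4.LangFixed.surjective_sub_id hq φ hφ hφi (- π z)
    refine ⟨lift c, ?_⟩
    obtain ⟨z', hz'⟩ := hker (z + (F (lift c) - lift c))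
      (by rw [map_add, map_sub, hφπ, hlift, hc, add_neg_cancel])
    refine ⟨z', ?_⟩
    have hpj : F (((p : WittVector p k) ^ j) • lift c) = ((p : WittVector p k) ^ j) • F (lift c) := by
      rw [← Nat.cast_pow, Nat.cast_smul_eq_nsmul, map_nsmul, Nat.cast_smul_eq_nsmul]
    rw [map_add, hpj, pow_succ, mul_smul, ← hz', smul_add, smul_sub, ← hz]
    abel
  choose! nxt hnxt using step
  have hfix : ∀ i : κ, ∃ m, F m = m ∧ π m = bk i := by
    intro i
    let S : ℕ → M := fun j => Nat.rec (lift (bk i)) (fun j m => m + ((p : WittVector p k) ^ (j+1)) • nxt (j + 1) m) j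
    have hS : ∀ j, ∃ z, F (S j) - S j = ((p : WittVector p k) ^ (j + 1)) • z := by
      intro j
      induction j with
      | zero =>
        obtain ⟨z, hz⟩ := hker (F (lift (bk i)) - lift (bk i))
          (by rw [map_sub, hφπ, hlift, hbk, sub_self])
        exact ⟨z, by rw [pow_one]; exact hz⟩
      | succ j ih => exact hnxt (j + 1) (S j) ih
    have hsm : ∀ (j : ℕ) (z : M), ((p : WittVector p k) ^ j) • z ∈
        (Ideal.span {(p : WittVector p k)} ^ j • ⊤ : Submodule (WittVector p k) M) := fun j z =>
      Submodule.smul_mem_smul (Ideal.pow_mem_pow (Ideal.mem_span_singleton_self _) j) trivial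
    have hcauchy : ∀ {a b : ℕ}, a ≤ b → ∃ z, S b = S a + ((p : WittVector p k) ^ (a + 1)) • z := by
      intro a b hab
      induction b, hab using Nat.le_induction with
      | base => exact ⟨0, by simp⟩
      | succ b hb ih =>
        obtain ⟨z, hz⟩ := ih
        refine ⟨z + ((p : WittVector p k) ^ (b - a)) • nxt (b + 1) (S b), ?_⟩
        show S b + _ = _
        rw [smul_add, smul_smul, ← pow_add, show a + 1 + (b - a) = b + 1 by omega, ← add_assoc, ← hz]
    have hcoord : ∀ t : ι, ∃ c, ∀ j, ∃ d, B.repr (S j) t - c = (p : WittVector p k) ^ j * d := by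
      intro t
      obtain ⟨c, hc⟩ := IsPrecomplete.prec (I := Ideal.span {(p : WittVector p k)}) inferInstance
        (f := fun j => B.repr (S j) t) (fun {a b} hab => by
          rw [SModEq.sub_mem]
          obtain ⟨z, hz⟩ := hcauchy hab
          rw [hz, map_add, Finsupp.add_apply, sub_add_cancel_left, map_smul, Finsupp.smul_apply,
            smul_eq_mul, smul_eq_mul, Ideal.mul_top, Ideal.span_singleton_pow]
          exact Submodule.neg_mem _ (Ideal.mem_span_singleton.mpr
            (Dvd.dvd.mul_right (pow_dvd_pow _ (Nat.le_succ a)) _)))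
      refine ⟨c, fun j => ?_⟩
      have := (SModEq.sub_mem).mp (hc j)
      rw [smul_eq_mul, Ideal.mul_top, Ideal.span_singleton_pow, Ideal.mem_span_singleton] at this
      exact this
    choose c hc using hcoord
    let L : M := ∑ t, c t • B t
    have hSL : ∀ j, ∃ z, S j - L = ((p : WittVector p k) ^ j) • z := by
      intro j
      choose d hd using fun t => hc t j
      refine ⟨∑ t, d t • B t, ?_⟩
      conv_lhs => rw [← B.sum_repr (S j)]
      rw [← Finset.sum_sub_distrib, Finset.smul_sum]
      exact Finset.sum_congr rfl fun t _ => by rw [← sub_smul, hd, mul_smul]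
    refine ⟨L, ?_, ?_⟩
    · rw [← sub_eq_zero]
      have hdiv : ∀ j, ∃ z, F L - L = ((p : WittVector p k) ^ j) • z := by
        intro j
        obtain ⟨z, hz⟩ := hSL j
        obtain ⟨z', hz'⟩ := hS j
        have hpj : F (((p : WittVector p k) ^ j) • z) = ((p : WittVector p k) ^ j) • F z := by
          rw [← Nat.cast_pow, Nat.cast_smul_eq_nsmul, map_nsmul, Nat.cast_smul_eq_nsmul]
        refine ⟨(p : WittVector p k) • z' - (F z - z), ?_⟩
        have e : F L - L = (F (S j) - S j) - (F (S j - L) - (S j - L)) := by rw [map_sub]; abel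
        rw [e, hz', hz, hpj, smul_sub, smul_sub, pow_succ, mul_smul]
      apply B.repr.injective
      rw [map_zero]
      ext1 t
      rw [Finsupp.zero_apply]
      refine IsHausdorff.haus (I := Ideal.span {(p : WittVector p k)}) inferInstance _ fun j => ?_
      rw [SModEq.zero, smul_eq_mul, Ideal.mul_top, Ideal.span_singleton_pow, Ideal.mem_span_singleton]
      obtain ⟨z, hz⟩ := hdiv j
      rw [hz, map_smul, Finsupp.smul_apply, smul_eq_mul]
      exact dvd_mul_right _ _
    · obtain ⟨z, hz⟩ := hSL 1
      have e1 : π (S 1) = bk i := by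
        show π (lift (bk i) + _) = _
        rw [map_add, hπsmul, map_pow, hp0, zero_pow (by omega : 0 + 1 ≠ 0), zero_smul, add_zero, hlift]
      rw [← e1, eq_comm, ← sub_eq_zero, ← map_sub, hz, pow_one, hπsmul, hp0, zero_smul]
  choose m hm hmπ using hfix
  have : Fintype κ := FiniteDimensional.fintypeBasisIndex bk
  have hcard : Fintype.card κ = Module.finrank (WittVector p k) M := by
    rw [← Module.finrank_eq_card_basis bk, Module.finrank_pi, Fintype.card_fin]
  have hsp : ⊤ ≤ Submodule.span (WittVector p k) (Set.range m) := by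
    refine Submodule.le_of_le_smul_of_le_jacobson_bot (I := Ideal.span {(p : WittVector p k)})
      Module.Finite.fg_top (IsAdicComplete.le_jacobson_bot (Ideal.span {(p : WittVector p k)})) ?_
    intro x _
    obtain ⟨d, hd⟩ := hker (x - ∑ i, WittVector.teichmuller p (bk.repr (π x) i) • m i) (by
      rw [map_sub, map_sum, sub_eq_zero]
      conv_lhs => rw [← bk.sum_repr (π x)]
      refine Finset.sum_congr rfl fun i _ => ?_
      rw [hπsmul, hmπ]
      exact congrArg (· • bk i) (WittVector.teichmuller_coeff_zero p _).symm)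
    rw [sub_eq_iff_eq_add] at hd
    rw [hd]
    exact Submodule.add_mem _ (Submodule.mem_sup_right (Submodule.smul_mem_smul (Ideal.mem_span_singleton_self _) trivial))
      (Submodule.mem_sup_left (Submodule.sum_mem _ fun i _ => Submodule.smul_mem _ _ (Submodule.subset_span ⟨i, rfl⟩)))
  refine ⟨ULift.{v} (Fin (Fintype.card κ)), (basisOfTopLeSpanOfCardEqFinrank m hsp hcard).reindex
    ((Fintype.equivFin κ).trans Equiv.ulift.{v}.symm), fun i => ?_⟩
  rw [Module.Basis.reindex_apply, coe_basisOfTopLeSpanOfCardEqFinrank]
  exact hm _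

end Groth.Agent.S16854
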