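import Groth.Statements.S16856
import Groth.Agent.S16841
import Groth.Agent.AbCubeLib.WeilPolyEq
-- import your own Groth.Agent.* helpers here

set_option autoImplicit false
universe u
open CategoryTheory MonoidalCategory CartesianMonoidalCategory MonObj GrpObj AlgebraicGeometry
open AbVar

namespace Groth.Agent.S16856

/-- Equality case of the Hasse–Weil–Serre bound: let k be a finite field with q elements and algebraic
closure Ω, ℓ a prime invertible in k, and X an abelian variety over k (a proper, geometrically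
integral commutative group scheme over k) of dimension g, with geometric Frobenius π_X (the
endomorphism that is the identity on points and the q-th power map on sections); assume, as is the
case, that the ℓ-adic Tate module of Ω-points T_ℓ X is free of finite rank over ℤ_ℓ, and let f_X ∈
ℤ[t] be the polynomial mapping to the characteristic polynomial of T_ℓ(π_X) (the characteristic
polynomial of Frobenius). Put m = ⌊2√q⌋. Then |trace(π_X)| = g·m (equality in the bound |trace(π_X)|
≤ g·m; the trace is minus the second-highest coefficient of f_X) if and only if either α + q/α = m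
for every root α of f_X or α + q/α = −m for every root, i.e. if and only if f_X = (t² − m t + q)^g
or f_X = (t² + m t + q)^g. -/
theorem result (k Ω : Type u) [Field k] [Finite k] [Field Ω] [Algebra k Ω] [IsAlgClosure k Ω]
    (l : ℕ) [Fact l.Prime] (hl : (l : k) ≠ 0) (X : Over (Spec (CommRingCat.of k)))
    [GrpObj X] [IsCommMonObj X] [IsProper X.hom] [GeometricallyIntegral X.hom]
    (g : ℕ) (hg : topologicalKrullDim X.left = g)
    (πX : X ⟶ X) [IsMonHom πX] (hπb : πX.left.base = 𝟙 _)
    (hπle : ∀ U : X.left.Opens, U ≤ πX.left ⁻¹ᵁ U)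
    (hπapp : ∀ (U : X.left.Opens) (s : Γ(X.left, U)), (πX.left.appLE U U (hπle U)).hom s = s ^ Nat.card k)
    [Module.Free ℤ_[l] (AbDual.TateMod X l (SGA7.pt Ω))] [Module.Finite ℤ_[l] (AbDual.TateMod X l (SGA7.pt Ω))]
    (P : Polynomial ℤ) (hP : (AbDual.tateMapₗ (l := l) (T := SGA7.pt Ω) πX).charpoly = P.map (Int.castRingHom ℤ_[l])) :
    |(P.nextCoeff : ℝ)| = (g : ℝ) * (⌊2 * Real.sqrt (Nat.card k)⌋ : ℝ) ↔
      (P = (Polynomial.X ^ 2 - Polynomial.C ⌊2 * Real.sqrt (Nat.card k)⌋ * Polynomial.X + Polynomial.C (Nat.card k : ℤ)) ^ g ∨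
        P = (Polynomial.X ^ 2 + Polynomial.C ⌊2 * Real.sqrt (Nat.card k)⌋ * Polynomial.X + Polynomial.C (Nat.card k : ℤ)) ^ g) := by
  haveI : IsAlgClosed Ω := IsAlgClosure.isAlgClosed k
  have hq : Nat.card k ≠ 0 := Nat.card_pos.ne'
  have hpull : ∀ a : Groth.Agent.PicLib.PicM X.left,
      Groth.Agent.PicLib.PicM.pull (EndAV.End.of πX).toHom.left a = a ^ Nat.card k :=
    Groth.Agent.AbCubeLib.pull_eq_pow_of_powerMap πX.left (Nat.card k) hπle hπapp
  obtain ⟨hm, hd, -⟩ := Groth.Agent.AbCubeLib.charpoly_spec (Spec.map (CommRingCat.ofHom (algebraMap k Ω))) hl hg (EndAV.End.of πX) P hP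
  have hroots := Groth.Agent.AbCubeLib.norm_root_eq_sqrt (Spec.map (CommRingCat.ofHom (algebraMap k Ω))) (EndAV.End.of πX) hq hpull P hP
  set m : ℤ := ⌊2 * Real.sqrt (Nat.card k)⌋ with hmdef
  have hm0 : (0 : ℝ) ≤ (g : ℝ) * (m : ℝ) :=
    mul_nonneg (Nat.cast_nonneg g) (Int.cast_nonneg (Int.floor_nonneg.2 (by positivity)))
  refine ⟨fun h => ?_, fun h => ?_⟩
  · rcases (abs_eq hm0).1 h with h' | h'
    · right
      have := Groth.Agent.AbCubeLib.eq_quadratic_pow_of_nextCoeff_eq P hm hd hq hroots (-1) (by norm_num)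
        (by rw [h']; push_cast; ring)
      rw [this, Polynomial.C_mul]
      congr 1
      simp only [map_neg, map_one, neg_one_mul, sub_neg_eq_add, ← hmdef, neg_mul, _root_.one_mul]
    · left
      have := Groth.Agent.AbCubeLib.eq_quadratic_pow_of_nextCoeff_eq P hm hd hq hroots 1 (by norm_num)
        (by rw [h']; push_cast; ring)
      rw [this, _root_.one_mul]
  · have key : ∀ c : ℤ, (Polynomial.X ^ 2 + Polynomial.C c * Polynomial.X + Polynomial.C (Nat.card k : ℤ)).nextCoeff = c ∧
        (Polynomial.X ^ 2 + Polynomial.C c * Polynomial.X + Polynomial.C (Nat.card k : ℤ)).Monic := fun c => by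
      have hdeg : (Polynomial.X ^ 2 + Polynomial.C c * Polynomial.X + Polynomial.C (Nat.card k : ℤ)).natDegree = 2 := by
        compute_degree!
      refine ⟨?_, by monicity!⟩
      rw [Polynomial.nextCoeff_of_natDegree_pos (by omega), hdeg]
      simp [Polynomial.coeff_X, Polynomial.coeff_C]
    have hpow : ∀ c : ℤ, |(c : ℝ)| = (m : ℝ) →
        P = (Polynomial.X ^ 2 + Polynomial.C c * Polynomial.X + Polynomial.C (Nat.card k : ℤ)) ^ g →
        |(P.nextCoeff : ℝ)| = (g : ℝ) * (m : ℝ) := fun c hc hP' => by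
      rw [hP', (key c).2.nextCoeff_pow, (key c).1, nsmul_eq_mul]
      push_cast
      rw [abs_mul, hc, Nat.abs_cast]
    have hmm : |(m : ℝ)| = (m : ℝ) := abs_of_nonneg (Int.cast_nonneg (Int.floor_nonneg.2 (by positivity)))
    rcases h with h | h
    · exact hpow (-m) (by push_cast; rw [abs_neg, hmm]) (by rw [h, map_neg, neg_mul, ← sub_eq_add_neg])
    · exact hpow m hmm h


end Groth.Agent.S16856
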