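import Groth.Statements.S1686
import Groth.Agent.SDiv28.LocalDim

set_option autoImplicit false
universe u
open CategoryTheory CategoryTheory.Limits AlgebraicGeometry TopologicalSpace
open SDiv

namespace Groth.Agent.S1686

/-- Let D be the closed subscheme of an effective Cartier divisor on a scheme S and d a point of D with
image s in S. If the local dimension of S at s is finite, then the local dimension of D at d is
strictly smaller. -/
theorem result (S : Scheme.{u}) (𝓘 : S.IdealSheafData) (h𝓘 : BlowUp.IsEffCartierIdeal 𝓘) (d : ↥𝓘.subscheme)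
    (hfin : FlatMor.localDim ↥S (𝓘.subschemeι d) ≠ ⊤) :
    FlatMor.localDim ↥𝓘.subscheme d < FlatMor.localDim ↥S (𝓘.subschemeι d) := by
  refine Groth.Agent.SDiv28.localDim_lt 𝓘.subschemeι.isClosedEmbedding (fun z => ?_) d hfin
  have hz : 𝓘.subschemeι z ∈ 𝓘.support := by
    rw [← SetLike.mem_coe, ← 𝓘.range_subschemeι]; exact ⟨z, rfl⟩
  obtain ⟨y, hy, hne⟩ := Groth.Agent.SDiv28.exists_specializes_ne h𝓘 hz
  by_cases hyr : y ∈ Set.range 𝓘.subschemeι
  swap
  · exact ⟨y, hy, hyr⟩
  -- go up to a maximal generisation, which avoids the divisor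
  obtain ⟨w, hw, hmax⟩ : ∃ w : S, w ⤳ 𝓘.subschemeι z ∧ ∀ v : S, v ⤳ w → v = w := by
    obtain ⟨C, hC, hzC⟩ := exists_mem_irreducibleComponents_subset_of_isIrreducible _
      (isIrreducible_singleton (x := 𝓘.subschemeι z))
    have hCc : IsClosed C := isClosed_of_mem_irreducibleComponents C hC
    obtain ⟨w, hw⟩ := QuasiSober.sober hC.1 hCc
    refine ⟨w, hw.specializes (hzC rfl), fun v hv => ?_⟩
    have hsub : C ⊆ closure {v} := by
      rw [← hw]; exact closure_minimal (Set.singleton_subset_iff.2 hv.mem_closure) isClosed_closure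
    have hle : closure {v} ⊆ C := hC.2 isIrreducible_singleton.closure hsub
    exact (hv.antisymm (hw.specializes (hle (subset_closure rfl)))).eq
  refine ⟨w, hw, fun ⟨u, hu⟩ => ?_⟩
  have hwS : w ∈ 𝓘.support := by
    rw [← SetLike.mem_coe, ← 𝓘.range_subschemeι]; exact ⟨u, hu⟩
  obtain ⟨v, hv, hvne⟩ := Groth.Agent.SDiv28.exists_specializes_ne h𝓘 hwS
  exact hvne (hmax v hv)
end Groth.Agent.S1686
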