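import Groth.Statements.S16861
import Groth.Agent.Stk19b.Rigid.Space

set_option autoImplicit false
universe u
open CategoryTheory AlgebraicGeometry
open Gerb

set_option backward.isDefEq.respectTransparency.types false
set_option backward.isDefEq.respectTransparency false

open Groth.Agent
namespace Groth.Agent.S16861


/-- An algebraic stack is a gerbe (over some algebraic space) exactly when its inertia is flat and
locally of finite presentation over it. -/
theorem result
    (S : Scheme.{u}) (𝒳 : AlgSt.Cat S) (h𝒳 : AlgSt.IsAlgStack Scheme.fppfPrecoverage 𝒳) :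
    Gerb.IsAlgGerbe Scheme.fppfPrecoverage 𝒳 ↔
      AlgSt.LocQ (AlgSp.LocP @Flat) (FibCat.inertiaToBase (FibCat.toSelf 𝒳)) ∧
        AlgSt.LocQ (AlgSp.LocP @LocallyOfFinitePresentation) (FibCat.inertiaToBase (FibCat.toSelf 𝒳)) := by
  exact ⟨Stk19b.Rigid.inertia_props_of_gerbe h𝒳,
    fun h => Stk19b.Rigid.isAlgGerbe_of_inertia h𝒳 h.1 h.2⟩

end Groth.Agent.S16861
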