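import Groth.Statements.S16862
import Groth.Agent.Stk19b.Gerbe.Flat
import Groth.Agent.Stk19.AlgSt.InertiaSep
import Groth.Agent.Stk19.AlgSt.AlgMisc

set_option autoImplicit false
universe u
open CategoryTheory AlgebraicGeometry
open Gerb

set_option backward.isDefEq.respectTransparency.types false
set_option backward.isDefEq.respectTransparency false

open Groth.Agent
namespace Groth.Agent.S16862


/-- If a morphism f of algebraic stacks makes its source a gerbe over its target, then the relative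
inertia of f is flat and locally of finite presentation over the source. -/
theorem result
    (S : Scheme.{u}) (𝒳 𝒴 : AlgSt.Cat S)
    (h𝒳 : AlgSt.IsAlgStack Scheme.fppfPrecoverage 𝒳) (h𝒴 : AlgSt.IsAlgStack Scheme.fppfPrecoverage 𝒴)
    (f : 𝒳 ⥤ᵇ 𝒴) (hf : Gerb.IsGerbeOver (QuotSh.J Scheme.fppfPrecoverage S) f) :
    AlgSt.LocQ (AlgSp.LocP @Flat) (FibCat.inertiaToBase f) ∧
      AlgSt.LocQ (AlgSp.LocP @LocallyOfFinitePresentation) (FibCat.inertiaToBase f) := by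
  have hD := Stk19b.Gerbe.rep1_diag_of_algStack h𝒳 h𝒴 f
  have hN := Stk19.isAlgStack_fp h𝒴.isStack h𝒴.diag h𝒳 h𝒳 f f
  obtain ⟨-, h₁, h₂⟩ := Stk19b.Gerbe.gerbe_diag_props h𝒳 h𝒴 hf
  have w₁ := Stk19.inertia_with_of_diag (Stk19.with_of_locQ Stk19.smST_flat (Stk19.pbStable_locP AlgSpLib.etLocal_flat)
    (Stk19.schDescent_locP AlgSpLib.etLocal_flat) h𝒳 hN hD h₁)
  have w₂ := Stk19.inertia_with_of_diag (Stk19.with_of_locQ Stk19.smST_lfp (Stk19.pbStable_locP AlgSpLib.etLocal_lfp)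
    (Stk19.schDescent_locP AlgSpLib.etLocal_lfp) h𝒳 hN hD h₂)
  have hI := Stk19.isAlgStack_of_rep1 (Stk19.fibGrpd_inertia h𝒳.isStack.1 h𝒴.isStack.1 f) h𝒳 _ (Stk19.repByAlgSp1_of_with w₁)
  exact ⟨Stk19.locQ_of_with Stk19.smST_flat hI h𝒳 w₁, Stk19.locQ_of_with Stk19.smST_lfp hI h𝒳 w₂⟩

end Groth.Agent.S16862
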