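import Groth.Statements.S16863
import Groth.Agent.Stk19b.Gerbe.Flat
import Groth.Agent.Stk19.RepDiag

set_option autoImplicit false
universe u
open CategoryTheory AlgebraicGeometry
open Gerb

set_option backward.isDefEq.respectTransparency.types false
set_option backward.isDefEq.respectTransparency false

open Groth.Agent
namespace Groth.Agent.S16863


/-- If f makes 𝒳 a gerbe over 𝒴, then for morphisms x₁ : T₁ → 𝒳, x₂ : T₂ → 𝒳 from algebraic spaces the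
comparison morphism T₁ ×_𝒳 T₂ → T₁ ×_𝒴 T₂ (induced by the two projections and the 2-isomorphism
obtained by applying f to the canonical one) is surjective, flat and locally of finite presentation. -/
theorem result
    (S : Scheme.{u}) (𝒳 𝒴 : AlgSt.Cat S)
    (h𝒳 : AlgSt.IsAlgStack Scheme.fppfPrecoverage 𝒳) (h𝒴 : AlgSt.IsAlgStack Scheme.fppfPrecoverage 𝒴)
    (f : 𝒳 ⥤ᵇ 𝒴) (hf : Gerb.IsGerbeOver (QuotSh.J Scheme.fppfPrecoverage S) f)
    (T₁ T₂ : AlgSp.Space S) (x₁ : AlgSt.ofSp T₁.obj ⥤ᵇ 𝒳) (x₂ : AlgSt.ofSp T₂.obj ⥤ᵇ 𝒳)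
    (e : BasedFunctor.comp (FibCat.fpFst x₁ x₂) (BasedFunctor.comp x₁ f) ≅
      BasedFunctor.comp (FibCat.fpSnd x₁ x₂) (BasedFunctor.comp x₂ f))
    (he : ∀ a, e.hom.toNatTrans.app a = f.map a.obj.iso.hom) :
    AlgSt.IsSurjective (FibCat.fpLift (FibCat.fpFst x₁ x₂) (FibCat.fpSnd x₁ x₂) e) ∧
      AlgSt.LocQ (AlgSp.LocP @Flat) (FibCat.fpLift (FibCat.fpFst x₁ x₂) (FibCat.fpSnd x₁ x₂) e) ∧
      AlgSt.LocQ (AlgSp.LocP @LocallyOfFinitePresentation)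
        (FibCat.fpLift (FibCat.fpFst x₁ x₂) (FibCat.fpSnd x₁ x₂) e) := by
  have hT₁ := (Stk19.isDM_ofSp T₁).1
  have hT₂ := (Stk19.isDM_ofSp T₂).1
  obtain ⟨hs, h₁, h₂⟩ := Stk19b.Gerbe.gerbe_diag_props h𝒳 h𝒴 hf
  have hff := Stk19.isAlgStack_fp h𝒴.isStack h𝒴.diag h𝒳 h𝒳 f f
  have hD := Stk19b.Gerbe.rep1_diag_of_algStack h𝒳 h𝒴 f
  have w₁ := Stk19.with_of_locQ Stk19.smST_flat (Stk19.pbStable_locP AlgSpLib.etLocal_flat)
    (Stk19.schDescent_locP AlgSpLib.etLocal_flat) h𝒳 hff hD h₁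
  have w₂ := Stk19.with_of_locQ Stk19.smST_lfp (Stk19.pbStable_locP AlgSpLib.etLocal_lfp)
    (Stk19.schDescent_locP AlgSpLib.etLocal_lfp) h𝒳 hff hD h₂
  have w₃ := Stk19.with_surjective_of_isSurjective h𝒳.isStack.1 hff.isStack.1 hD hs
  have hA := Stk19.isAlgStack_fp h𝒳.isStack h𝒳.diag hT₁ hT₂ x₁ x₂
  have hB := Stk19.isAlgStack_fp h𝒴.isStack h𝒴.diag hT₁ hT₂ (BasedFunctor.comp x₁ f) (BasedFunctor.comp x₂ f)
  have hE : FibCat.fpLift (FibCat.fpFst x₁ x₂) (FibCat.fpSnd x₁ x₂) e = Stk19.fpPush x₁ x₂ f := by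
    unfold Stk19.fpPush
    exact congrArg (FibCat.fpLift (FibCat.fpFst x₁ x₂) (FibCat.fpSnd x₁ x₂))
      (Iso.ext (Stk19.based_hom_ext fun a => he a))
  rw [hE]
  have key : ∀ {P : MorphismProperty (AlgSp.Sp S)}, AlgSt.RepByAlgSpWith P (FibCat.diag f) →
      AlgSt.RepByAlgSpWith P (Stk19.fpPush x₁ x₂ f) := fun h =>
    (Stk19.repByAlgSpWith_iff_of_square (f' := Stk19.fpPush x₁ x₂ f)
      (f := FibCat.fpFst (Stk19.relPairMap x₁ x₂ f) (FibCat.diag f))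
      (a := Stk19.relMagic x₁ x₂ f) (b := BasedFunctor.id _)
      (Stk19.isEquivOver_relMagic x₁ x₂ f) (Stk19.isEquivOver_id _) (Iso.refl _)).2
      (Stk19.repByAlgSpWith_fpFst _ h)
  exact ⟨Stk19.isSurjective_of_with hB.isStack.1 (key w₃), Stk19.locQ_of_with Stk19.smST_flat hA hB (key w₁),
    Stk19.locQ_of_with Stk19.smST_lfp hA hB (key w₂)⟩

end Groth.Agent.S16863
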