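import Groth.Statements.S16869
import Groth.Agent.Stk19b.Gerbe.Flat
import Groth.Agent.Stk19.AlgSt.UnivInj

set_option autoImplicit false
universe u
open CategoryTheory AlgebraicGeometry
open Gerb

set_option backward.isDefEq.respectTransparency.types false
set_option backward.isDefEq.respectTransparency false

open Groth.Agent
namespace Groth.Agent.S16869


/-- A morphism of algebraic stacks making its source a gerbe over its target is a universal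
homeomorphism. -/
theorem result
    (S : Scheme.{u}) (𝒳 𝒴 : AlgSt.Cat S)
    (h𝒳 : AlgSt.IsAlgStack Scheme.fppfPrecoverage 𝒳) (h𝒴 : AlgSt.IsAlgStack Scheme.fppfPrecoverage 𝒴)
    (f : 𝒳 ⥤ᵇ 𝒴) (hf : Gerb.IsGerbeOver (QuotSh.J Scheme.fppfPrecoverage S) f) :
    AlgSt.IsUnivHomeo Scheme.fppfPrecoverage f := by
  intro 𝒵 h𝒵 g
  have hN := Stk19.isAlgStack_fp h𝒴.isStack h𝒴.diag h𝒵 h𝒳 g f
  have hg := Stk19.gerbeOver_fpFst h𝒳.isStack.1 h𝒵.isStack.1 h𝒴.isStack.1 g hf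
  obtain ⟨hs, h₁, h₂⟩ := Stk19b.Gerbe.gerbe_props hN h𝒵 hg
  obtain ⟨hd, -, -⟩ := Stk19b.Gerbe.gerbe_diag_props h𝒳 h𝒴 hf
  exact ⟨Stk19.continuous_points_map h𝒵 _, Stk19.isOpenMor_of_locQ hN h𝒵 h₁ h₂,
      (Stk19.isUnivInjective_iff h𝒳 h𝒴 f).2 hd 𝒵 h𝒵 g, hs⟩

end Groth.Agent.S16869
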