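import Groth.Statements.S16877
import Groth.Agent.Stk19.Equiv

set_option autoImplicit false
universe u
open CategoryTheory AlgebraicGeometry Opposite
open Gerb

set_option backward.isDefEq.respectTransparency.types false
set_option backward.isDefEq.respectTransparency false

namespace Groth.Agent.S16877


/-- If π : 𝒳 → X makes the algebraic stack 𝒳 a gerbe over the algebraic space X, then X is the fppf
sheafification of the presheaf of isomorphism classes of objects of 𝒳: the map of presheaves sending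
the class of an object x to the section π(x) of X is locally surjective and locally injective.
(Consequently the space over which a gerbe lives is determined by the gerbe.) -/
theorem result
    (S : Scheme.{u}) (𝒳 : AlgSt.Cat S) (h𝒳 : AlgSt.IsAlgStack Scheme.fppfPrecoverage 𝒳)
    [FibCat.IsFibGrpd 𝒳.p]
    (X : AlgSp.Space S) (π : 𝒳 ⥤ᵇ AlgSt.ofSp X.obj)
    (hπ : Gerb.IsGerbeOver (QuotSh.J Scheme.fppfPrecoverage S) π) :
    ∃ c : Gerb.isoClPsh 𝒳 ⟶ X.obj.obj,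
      (∀ x : 𝒳.obj, c.app (op (𝒳.p.obj x)) (Quot.mk _ (Gerb.fib x)) =
          X.obj.obj.map (eqToHom (π.w_obj x).symm).op (π.obj x).sec) ∧
      Presheaf.IsLocallySurjective (QuotSh.J Scheme.fppfPrecoverage S) c ∧
      Presheaf.IsLocallyInjective (QuotSh.J Scheme.fppfPrecoverage S) c := by
  classical
  let val : ∀ (U : Over S) (a : 𝒳.p.Fiber U), X.obj.obj.obj (op U) := fun U a =>
    X.obj.obj.map (eqToHom ((π.w_obj a.1).trans a.2).symm).op (π.obj a.1).sec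
  have hval : ∀ {U V : Over S} (f : V ⟶ U) (a : 𝒳.p.Fiber U) (b : 𝒳.p.Fiber V) (ψ : b.1 ⟶ a.1),
      𝒳.p.map ψ = eqToHom b.2 ≫ f ≫ eqToHom a.2.symm → X.obj.obj.map f.op (val U a) = val V b := by
    intro U V f a b ψ hψ
    have hh : (π.map ψ).hom = eqToHom (π.w_obj b.1) ≫ 𝒳.p.map ψ ≫ eqToHom (π.w_obj a.1).symm :=
      Groth.Agent.Stk19.based_map π ψ
    simp only [val]
    rw [← (π.map ψ).map_sec, hh, hψ]
    simp only [← Functor.map_comp_apply, ← op_comp]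
    simp
  let c₀ : ∀ U : (Over S)ᵒᵖ, Gerb.IsoCl 𝒳 U.unop → X.obj.obj.obj U := fun U =>
    Quot.lift (val U.unop) (fun a a' ⟨φ⟩ => by
      have hm : 𝒳.p.map φ.1 = eqToHom a.2 ≫ 𝟙 _ ≫ eqToHom a'.2.symm := by
        have := φ.2
        simpa using IsHomLift.fac' 𝒳.p (𝟙 U.unop) φ.1
      have := hval (𝟙 _) a' a φ.1 hm
      simpa using this.symm)
  have hpull : ∀ {U V : Over S} (f : V ⟶ U) (a : 𝒳.p.Fiber U) (y : 𝒳.obj) (ψ : y ⟶ a.1) (hy : 𝒳.p.obj y = V),
      𝒳.p.map ψ = eqToHom hy ≫ f ≫ eqToHom a.2.symm →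
      Quot.mk (Gerb.IsoRel 𝒳 V) (Gerb.pullFib 𝒳 f a) = Quot.mk _ (⟨y, hy⟩ : 𝒳.p.Fiber V) := by
    intro U V f a y ψ hy hψ
    obtain ⟨χ, hχ, -⟩ := Gerb.exists_hom_pull 𝒳 a.1 (f ≫ eqToHom a.2.symm) ψ
      (IsHomLift.of_fac' 𝒳.p _ _ hy rfl (by simp [hψ]))
    exact (Quot.sound ⟨⟨χ, hχ⟩⟩).symm
  have hpullHom : ∀ {U V : Over S} (f : V ⟶ U) (a : 𝒳.p.Fiber U),
      𝒳.p.map (Gerb.pullHom 𝒳 a.1 (f ≫ eqToHom a.2.symm)) =
        eqToHom (Gerb.pullFib 𝒳 f a).2 ≫ f ≫ eqToHom a.2.symm := by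
    intro U V f a
    have := Gerb.pullHom_isHomLift 𝒳 a.1 (f ≫ eqToHom a.2.symm)
    exact (IsHomLift.fac' 𝒳.p (f ≫ eqToHom a.2.symm) _).trans (by simp)
  let c : Gerb.isoClPsh 𝒳 ⟶ X.obj.obj :=
    { app := fun U => ↾(c₀ U)
      naturality := fun U V f => by
        ext q
        obtain ⟨a⟩ := q
        exact (hval f.unop a (Gerb.pullFib 𝒳 f.unop a) _ (hpullHom f.unop a)).symm }
  refine ⟨c, fun x => rfl, ⟨fun {U} s => ?_⟩, ⟨fun {U} q q' e => ?_⟩⟩
  · obtain ⟨R, hR, hx⟩ := hπ.1 (⟨U, s⟩ : (AlgSt.ofSp X.obj).obj)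
    refine GrothendieckTopology.superset_covering _ (fun V f hf => ?_) hR
    obtain ⟨x, g, hg⟩ := hx f hf
    have eV : (π.obj x).base = V := IsHomLift.domain_eq (AlgSt.ofSp X.obj).p f g
    have hgm : g.hom = eqToHom eV ≫ f := by
      have := IsHomLift.fac' (AlgSt.ofSp X.obj).p f g
      simp only [eqToHom_refl, Category.comp_id] at this
      exact this
    refine ⟨Quot.mk _ (⟨x, (π.w_obj x).symm.trans eV⟩ : 𝒳.p.Fiber V), ?_⟩
    change val V _ = X.obj.obj.map f.op s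
    simp only [val]
    rw [← g.map_sec, hgm]
    simp only [← Functor.map_comp_apply, ← op_comp]
    simp
  · obtain ⟨a⟩ := q
    obtain ⟨a'⟩ := q'
    change val U.unop a = val U.unop a' at e
    have eb : (π.obj a.1).base = (π.obj a'.1).base :=
      ((π.w_obj a.1).trans a.2).trans ((π.w_obj a'.1).trans a'.2).symm
    let b : π.obj a.1 ⟶ π.obj a'.1 := ⟨eqToHom eb, by
      have := congrArg (X.obj.obj.map (eqToHom ((π.w_obj a.1).trans a.2)).op) e
      simp only [val, ← Functor.map_comp_apply, ← op_comp] at this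
      simpa using this.symm⟩
    obtain ⟨R, hR, hx⟩ := hπ.2 a.1 a'.1 b ((Groth.Agent.Stk19.vert_iff _ _).2 ⟨π.w_obj a.1, eb, rfl⟩)
    have hR'' := GrothendieckTopology.pullback_stable _ (eqToHom a.2.symm) hR
    refine GrothendieckTopology.superset_covering _ (fun V f hf => ?_) hR''
    obtain ⟨x₀, φ, ψ, hφ, hψ, -⟩ := hx _ hf
    have e0 : 𝒳.p.obj x₀ = V := IsHomLift.domain_eq 𝒳.p (f ≫ eqToHom a.2.symm) φ
    change Quot.mk (Gerb.IsoRel 𝒳 V) (Gerb.pullFib 𝒳 f a) = Quot.mk _ (Gerb.pullFib 𝒳 f a')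
    rw [hpull f a x₀ φ e0 (by simpa using IsHomLift.fac' 𝒳.p (f ≫ eqToHom a.2.symm) φ),
      hpull f a' x₀ ψ e0 (by simpa using IsHomLift.fac' 𝒳.p (f ≫ eqToHom a.2.symm) ψ)]

end Groth.Agent.S16877
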