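import Groth.Statements.S16894
-- import your own Groth.Agent.* helpers here
import Groth.Agent.VarietyLib.NefBig

set_option autoImplicit false
universe u
open CategoryTheory CategoryTheory.Limits AlgebraicGeometry
open Vanish

namespace Groth.Agent.S16894

/-- Let k be an algebraically closed field and X an irreducible proper smooth k-scheme of dimension n
with an ample invertible O_X-module A (a projective manifold), and let L be an invertible
O_X-module. Then L is numerically effective, i.e. the degree of the pullback of L to every integral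
one-dimensional closed subscheme Y ⊆ X is non-negative, if and only if L^⊗ν ⊗ A is ample for every ν
> 0. (The published lemma says 'for an ample sheaf A'; the equivalence is stated here for any given
ample A, which is what the argument gives.) -/
theorem result (k : Type u) [Field k] [IsAlgClosed k]
    (X : Scheme.{u}) [X.Over (Spec (CommRingCat.of k))] [IsProper (X ↘ Spec (CommRingCat.of k))]
    [Smooth (X ↘ Spec (CommRingCat.of k))] [IrreducibleSpace X] (n : ℕ) (hn : topologicalKrullDim X = n)
    (A : X.Modules) (hA : CohB1.IsAmple A) (L : X.Modules) (hL : PicF.IsInvertible L) :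
    (∀ (Y : Scheme.{u}) (i : Y ⟶ X) [IsClosedImmersion i], IsIntegral Y → topologicalKrullDim Y = 1 →
      0 ≤ Pic13.curveDeg k (i ≫ (X ↘ Spec (CommRingCat.of k))) ((Scheme.Modules.pullback i).obj L)) ↔
      ∀ ν : ℕ, 0 < ν → CohB1.IsAmple (CohB1.tensorMod (CohB1.tensorPow L ν) A) := by
  haveI : IsNoetherian X := EulerLib.isNoetherian_of_proper (X := X) k
  have hP : ∀ ν, PicF.IsInvertible (CohB1.tensorMod (CohB1.tensorPow L ν) A) := fun ν =>
    AmpleLib.isInvertible_tensorMod (AmpleLib.isInvertible_tensorPow hL ν) hA.1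
  have hcl : ∀ ν, EulerLib.InvCl.mk _ (hP ν) = EulerLib.InvCl.mk L hL ^ ν * EulerLib.InvCl.mk A hA.1 := fun ν => by
    rw [← EulerLib.InvCl.mk_mul (AmpleLib.isInvertible_tensorPow hL ν) hA.1, EulerLib.InvCl.mk_tensorPow hL]
  constructor
  · intro h ν _
    exact VarietyLib.isAmple_nef_mul_ample k hA (VarietyLib.nefCl_of_curveDeg k hL h) ν one_pos (hP ν)
      (by rw [hcl, pow_one])
  · intro h Y i hi _ hY
    refine VarietyLib.curveDeg_nonneg_of_nefCl k hL (fun z hz => ?_) Y i hY
    by_contra hneg
    rw [not_le] at hneg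
    set φ := EulerLib.chiCl k (AssSch12.clM z)
    have hF := Coherent.isCoh_clM z
    have hd : topologicalKrullDim (CohB1.support (AssSch12.clM z)) = ((1 : ℕ) : WithBot ℕ∞) := by
      rw [EulerLib.support_clM, hz]
    have hcl2 : EulerLib.ClDeg 2 φ := EulerLib.clDeg_chiCl k hF hd.le
    set x := EulerLib.interDeg (fun _ : Fin 1 => EulerLib.InvCl.mk L hL) φ
    set y := EulerLib.interDeg (fun _ : Fin 1 => EulerLib.InvCl.mk A hA.1) φ
    have hy : 0 < y := EulerLib.interDeg_pos k 1 (fun _ => A) (fun _ => hA) _ hF hd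
    let ν : ℕ := y.toNat + 1
    have hpos := EulerLib.interDeg_pos k 1 (fun _ => _) (fun _ => h ν (Nat.succ_pos _)) _ hF hd
    rw [show (fun _ : Fin 1 => EulerLib.InvCl.mk (CohB1.tensorMod (CohB1.tensorPow L ν) A) (h ν (Nat.succ_pos _)).1) =
        fun _ : Fin 1 => EulerLib.InvCl.mk L hL ^ ν * EulerLib.InvCl.mk A hA.1 from funext fun _ => hcl ν,
      VarietyLib.interDeg_const, pow_one] at hpos
    have hmul := VarietyLib.mono_dOp_mul (EulerLib.InvCl.mk A hA.1) (EulerLib.InvCl.mk A hA.1)
      (EulerLib.InvCl.mk L hL ^ ν) (EulerLib.InvCl.mk A hA.1) 0 0 (φ := φ) hcl2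
    have hpow := VarietyLib.mono_dOp_pow (EulerLib.InvCl.mk A hA.1) (EulerLib.InvCl.mk A hA.1)
      (EulerLib.InvCl.mk L hL) 0 0 (φ := φ) hcl2 ν
    simp only [pow_zero, mul_one, Module.End.one_apply] at hmul hpow
    rw [hmul, hpow, Pi.add_apply, Pi.smul_apply, smul_eq_mul] at hpos
    have hx : x = (VarietyLib.dOp (EulerLib.InvCl.mk L hL)) φ 1 := by
      simp only [x, VarietyLib.interDeg_const, pow_one]
    have hy' : y = (VarietyLib.dOp (EulerLib.InvCl.mk A hA.1)) φ 1 := by
      simp only [y, VarietyLib.interDeg_const, pow_one]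
    rw [← hx, ← hy'] at hpos
    have hν : y < (ν : ℤ) := by simp only [ν]; omega
    nlinarith

end Groth.Agent.S16894
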