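import Groth.Statements.S16896
-- import your own Groth.Agent.* helpers here
import Groth.Agent.VarietyLib.NefBig
import Groth.Agent.WeilLib.Geom

set_option autoImplicit false
universe u
open CategoryTheory CategoryTheory.Limits AlgebraicGeometry
open Vanish

namespace Groth.Agent.S16896

/-- Let k be an algebraically closed field of characteristic zero and X an irreducible proper smooth
k-scheme of dimension n with an ample invertible O_X-module (a projective manifold). Let L be a
numerically effective invertible O_X-module (non-negative degree on every integral one-dimensional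
closed subscheme) and L⁻¹ a tensor inverse of L. Then the Iitaka dimension of L equals n, expressed
by the equivalent condition that some L^⊗ν with ν > 0 receives a monomorphism from an ample
invertible module (L^⊗ν ≅ A(C) with A ample and C effective), if and only if the self-intersection
number c_1(L)^n = ∫ c_1(L)^n · [O_X] (the alternating sum of Euler characteristics attached to n
copies of L⁻¹) is positive. (Only the characteristic-zero case is stated; the
positive-characteristic case assumes a lifting to the Witt vectors of length two.) -/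
theorem result (k : Type u) [Field k] [IsAlgClosed k] [CharZero k]
    (X : Scheme.{u}) [X.Over (Spec (CommRingCat.of k))] [IsProper (X ↘ Spec (CommRingCat.of k))]
    [Smooth (X ↘ Spec (CommRingCat.of k))] [IrreducibleSpace X] (n : ℕ) (hn : topologicalKrullDim X = n)
    (H : X.Modules) (hH : CohB1.IsAmple H) (L Linv : X.Modules) (hL : PicF.IsInvertible L) (hLinv : ClSub.IsInverseOf Linv L)
    (hnef : (∀ (Y : Scheme.{u}) (i : Y ⟶ X) [IsClosedImmersion i], IsIntegral Y → topologicalKrullDim Y = 1 →
      0 ≤ Pic13.curveDeg k (i ≫ (X ↘ Spec (CommRingCat.of k))) ((Scheme.Modules.pullback i).obj L))) :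
    (∃ (ν : ℕ) (A : X.Modules) (φ : A ⟶ CohB1.tensorPow L ν), 0 < ν ∧ CohB1.IsAmple A ∧ Mono φ) ↔
      0 < FGA.intNum k X n (fun _ : Fin n => Linv) (Coh.structureModule X) := by
  haveI : IsReduced X := WeilLib.isReduced_of_smooth (X ↘ Spec (CommRingCat.of k))
  haveI : IsIntegral X := isIntegral_of_irreducibleSpace_of_isReduced X
  haveI : IsNoetherian X := EulerLib.isNoetherian_of_proper (X := X) k
  have ha := VarietyLib.nefCl_of_curveDeg k hL hnef
  have hO := Coherent.isCoh_structureModule X
  rw [VarietyLib.intNum_inv_eq k hL hLinv hn.le hO]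
  constructor
  · rintro ⟨ν, A, φ, -, hA, hφ⟩
    obtain ⟨a', ha'⟩ := H0Growth23.exists_inv hA.1
    have he := VarietyLib.effCl_of_mono hA.1 (AmpleLib.isInvertible_tensorPow hL ν) φ ha'
    rw [EulerLib.InvCl.mk_tensorPow hL] at he
    exact VarietyLib.pow_pos_of_effCl k hn hA ha' ha he
  · intro hpos
    obtain ⟨A, hA, hA0⟩ := H0Growth23.exists_ample_eff k ⟨H, hH⟩
    obtain ⟨a', ha'⟩ := H0Growth23.exists_inv hA.1
    obtain ⟨m, hm, he⟩ := VarietyLib.exists_effCl_of_nef_pos k hn hA hA0 ha' ha hpos
    rw [← EulerLib.InvCl.mk_tensorPow hL] at he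
    obtain ⟨φ, hφ⟩ := VarietyLib.exists_mono_of_effCl hA.1 ha' (AmpleLib.isInvertible_tensorPow hL m) he
    exact ⟨m, A, φ, hm, hA, hφ⟩

end Groth.Agent.S16896
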