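import Groth.Statements.S1690
import Groth.Agent.RefHullLib.FreeLocus
import Mathlib

set_option autoImplicit false
universe u
open CategoryTheory CategoryTheory.Limits AlgebraicGeometry TopologicalSpace
open SDiv

namespace Groth.Agent.S1690

/-- (1) if and only if (3): let X be an integral locally Noetherian normal scheme and F a coherent
module. Then F is reflexive (stalkwise) if and only if there is an open subscheme j : U ⟶ X such
that every point outside U has local ring of dimension at least 2, the restriction of F to U is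
finite locally free, and the canonical map F ⟶ j_* j^* F is an isomorphism. -/
theorem result (X : Scheme.{u}) [IsIntegral X] [IsLocallyNoetherian X] (hX : Pi1.IsNormalScheme X)
    (F : X.Modules) (hF : Coh.IsCoh F) :
    (∀ x : ↥X, Module.IsReflexive (X.presheaf.stalk x) (F.presheaf.stalk x)) ↔
      ∃ U : X.Opens, (∀ x : ↥X, x ∉ U → (2 : WithBot ℕ∞) ≤ ringKrullDim (X.presheaf.stalk x)) ∧
        FlatMod.IsFinLocFree (F.restrict U.ι) ∧ IsIso ((Scheme.Modules.restrictAdjunction U.ι).unit.app F) := by
  have hdepth : ∀ U : X.Opens, (∀ x : ↥X, x ∉ U → (2 : WithBot ℕ∞) ≤ ringKrullDim (X.presheaf.stalk x)) →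
      ∀ x : ↥X, x ∉ U → (2 : ℕ∞) ≤ LocCoh.depth (X.presheaf.stalk x) (X.presheaf.stalk x) := fun U hU x hx => by
    haveI := (hX x).1
    haveI := (hX x).2
    exact CAlgH3.two_le_depth_of_normal (hU x hx)
  constructor
  · intro hrefl
    let U : X.Opens := ⟨_, RefHullLib.isOpen_free_stalk hF⟩
    have hU : ∀ x : ↥X, x ∉ U → (2 : WithBot ℕ∞) ≤ ringKrullDim (X.presheaf.stalk x) := fun x hx => by
      by_contra hlt
      rw [not_le] at hlt
      have hle : ringKrullDim (X.presheaf.stalk x) ≤ 1 := by
        rw [ringKrullDim_stalk_eq_coheight] at hlt ⊢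
        refine WithBot.coe_le_coe.2 ?_
        rw [show (2 : WithBot ℕ∞) = ((2 : ℕ∞) : WithBot ℕ∞) from rfl, WithBot.coe_lt_coe,
          ← one_add_one_eq_two, ENat.lt_add_one_iff ENat.one_ne_top] at hlt
        exact hlt
      haveI := (hX x).1
      haveI := (hX x).2
      haveI := CAlgH3.isRegularLocalRing_of_normal_dim_le_one hle
      haveI := AssSch12.finite_stalk hF x
      haveI := hrefl x
      exact hx (RefHullLib.free_of_torsionFree_of_dim_le_one hle inferInstance)
    exact ⟨U, hU, (RefHullLib.isFinLocFree_restrict_iff hF U).2 fun y hy => hy,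
      RefHullLib.isIso_restrictUnit U (hdepth U hU) hF hrefl⟩
  · rintro ⟨U, hU, hfree, hiso⟩
    refine (RefHullLib.isReflexive_iff_stalks hF).1
      (RefHullLib.isReflexive_of_isIso_restrictUnit U (hdepth U hU) hF (fun y hy => ?_) hiso)
    haveI := AssSch12.finite_stalk hF y
    haveI := (RefHullLib.isFinLocFree_restrict_iff hF U).1 hfree y hy
    show Module.IsReflexive _ _
    infer_instance
end Groth.Agent.S1690
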