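import Groth.Statements.S16901
import Groth.Agent.VarietyLib.NefBig
import Groth.Agent.H0Growth23.Big

set_option autoImplicit false
universe u
open CategoryTheory CategoryTheory.Limits AlgebraicGeometry
open Vanish

open Groth.Agent Groth.Agent.Coherent
namespace Groth.Agent.S16901

/-- Let k be an algebraically closed field and X an integral proper k-scheme of dimension n with an
ample invertible O_X-module (a projective variety, not assumed non-singular), and let L be an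
invertible O_X-module. The Iitaka dimension of L is n, in the growth form the text adopts as its
working definition (for some ν > 0 there is a constant a > 0 with μ^n ≤ a · dim_k H^0(X, L^⊗νμ) for
all μ ≥ 1), if and only if for some ν > 0 there are an ample invertible module A and a monomorphism
A → L^⊗ν (that is, L^⊗ν(−C) is ample for some effective divisor C). -/
theorem result (k : Type u) [Field k] [IsAlgClosed k]
    (X : Scheme.{u}) [X.Over (Spec (CommRingCat.of k))] [IsIntegral X] [IsProper (X ↘ Spec (CommRingCat.of k))]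
    (n : ℕ) (hn : topologicalKrullDim X = n) (H : X.Modules) (hH : CohB1.IsAmple H)
    (L : X.Modules) (hL : PicF.IsInvertible L) :
    (∃ ν a : ℕ, 0 < ν ∧ 0 < a ∧ ∀ μ : ℕ, 1 ≤ μ →
        μ ^ n ≤ a * Module.finrank k (Coh.HH X (CohB1.tensorPow L (ν * μ)) 0)) ↔
      ∃ (ν : ℕ) (A : X.Modules) (φ : A ⟶ CohB1.tensorPow L ν), 0 < ν ∧ CohB1.IsAmple A ∧ Mono φ := by
  constructor
  · rintro ⟨ν, a, hν, ha, h⟩
    obtain ⟨m, hm, φ, hφ⟩ := H0Growth23.exists_mono_of_big k hn hH hL fun C => by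
      obtain ⟨μ, hμ⟩ := exists_nat_gt (max (C * (a : ℚ) * (ν : ℚ) ^ n) 1)
      have hμ1 : 1 ≤ μ := by exact_mod_cast ((le_max_right _ _).trans hμ.le)
      refine ⟨ν * μ, Nat.mul_pos hν hμ1, ?_⟩
      rw [H0Growth23.h0Cl_pow k L hL]
      have hh : (μ : ℚ) ^ n ≤ (a : ℚ) * (Module.finrank k (Coh.HH X (CohB1.tensorPow L (ν * μ)) 0) : ℚ) := by
        exact_mod_cast h μ hμ1
      set f : ℚ := (Module.finrank k (Coh.HH X (CohB1.tensorPow L (ν * μ)) 0) : ℚ)
      have ha' : (0 : ℚ) < a := by exact_mod_cast ha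
      have hν' : (1 : ℚ) ≤ ν := by exact_mod_cast hν
      have hμ' : (1 : ℚ) ≤ μ := by exact_mod_cast hμ1
      have hC : C * (a : ℚ) * (ν : ℚ) ^ n < ν * μ :=
        ((le_max_left _ _).trans_lt hμ).trans_le (le_mul_of_one_le_left (by positivity) hν')
      have key : (a : ℚ) * (C * ((ν : ℚ) * μ) ^ n) < (a : ℚ) * (f * ((ν : ℚ) * μ)) := by
        calc (a : ℚ) * (C * ((ν : ℚ) * μ) ^ n) = (C * a * (ν : ℚ) ^ n) * (μ : ℚ) ^ n := by rw [mul_pow]; ring
          _ < ((ν : ℚ) * μ) * (μ : ℚ) ^ n := mul_lt_mul_of_pos_right hC (by positivity)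
          _ ≤ ((ν : ℚ) * μ) * ((a : ℚ) * f) := mul_le_mul_of_nonneg_left hh (by positivity)
          _ = _ := by ring
      push_cast
      exact lt_of_mul_lt_mul_left key ha'.le
    exact ⟨m, H, φ, hm, hH, hφ⟩
  · rintro ⟨ν, A, φ, hν, hA, hφ⟩
    haveI := hφ
    obtain ⟨a', ha'⟩ := H0Growth23.exists_inv hA.1
    have he := VarietyLib.effCl_of_mono hA.1 (AmpleLib.isInvertible_tensorPow hL ν) φ ha'
    rw [EulerLib.InvCl.mk_tensorPow hL] at he
    obtain ⟨c, N, hc, hN⟩ := H0Growth23.exists_ample_lower k hn hA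
    obtain ⟨a, ha⟩ := exists_nat_gt (1 / c)
    have ha0 : (0 : ℚ) < a := lt_trans (by positivity) ha
    refine ⟨ν * (N + 1), a, Nat.mul_pos hν N.succ_pos, by exact_mod_cast ha0, fun μ hμ => ?_⟩
    set M := (N + 1) * μ with hM
    have hNM : N ≤ M := (Nat.le_succ N).trans (Nat.le_mul_of_pos_right _ hμ)
    have hle : H0Growth23.h0Cl k (EulerLib.InvCl.mk A hA.1 ^ M) ≤
        Module.finrank k (Coh.HH X (CohB1.tensorPow L (ν * (N + 1) * μ)) 0) := by
      rw [← H0Growth23.h0Cl_pow k L hL]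
      refine (H0Growth23.h0Cl_le_mul k (a := EulerLib.InvCl.mk A hA.1 ^ M) (he.pow M)).trans (le_of_eq ?_)
      rw [← mul_pow, mul_assoc, mul_comm a', ha', mul_one, ← pow_mul, Nat.mul_assoc]
    have h1 : c * (M : ℚ) ^ n ≤ (H0Growth23.h0Cl k (EulerLib.InvCl.mk A hA.1 ^ M) : ℚ) := hN M hNM
    have h2 : (μ : ℚ) ^ n ≤ (M : ℚ) ^ n := by
      apply pow_le_pow_left₀ (by positivity)
      exact_mod_cast Nat.le_mul_of_pos_left μ N.succ_pos
    have h3 : (μ : ℚ) ^ n ≤ (a : ℚ) * (H0Growth23.h0Cl k (EulerLib.InvCl.mk A hA.1 ^ M) : ℚ) := by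
      have hac : 1 ≤ (a : ℚ) * c := by
        rw [div_lt_iff₀ hc] at ha
        exact ha.le
      calc (μ : ℚ) ^ n ≤ 1 * (M : ℚ) ^ n := by rwa [one_mul]
        _ ≤ ((a : ℚ) * c) * (M : ℚ) ^ n := mul_le_mul_of_nonneg_right hac (by positivity)
        _ = (a : ℚ) * (c * (M : ℚ) ^ n) := by ring
        _ ≤ _ := mul_le_mul_of_nonneg_left h1 ha0.le
    have h4 : μ ^ n ≤ a * H0Growth23.h0Cl k (EulerLib.InvCl.mk A hA.1 ^ M) := by exact_mod_cast h3
    exact h4.trans (Nat.mul_le_mul_left a hle)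

end Groth.Agent.S16901
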