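import Groth.Statements.S16903
-- import your own Groth.Agent.* helpers here
import Groth.Agent.VarietyLib.NefGrowth
import Groth.Agent.WeilLib.Geom

set_option autoImplicit false
universe u
open CategoryTheory CategoryTheory.Limits AlgebraicGeometry
open Vanish

namespace Groth.Agent.S16903

/-- Let k be an algebraically closed field of characteristic zero and X an irreducible proper smooth
k-scheme of dimension n with an ample invertible O_X-module (a projective manifold); let L be a
numerically effective invertible O_X-module with tensor inverse L⁻¹ and m a natural number such that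
c_1(L)^m is numerically trivial, i.e. the intersection number (L^m · V) = ∫ c_1(L)^m [O_V] vanishes
for every integral closed subscheme V ⊆ X of dimension m. Then κ(L) < m, in the growth form: there
are no ν > 0 and a > 0 with μ^m ≤ a · dim_k H^0(X, L^⊗νμ) for all μ ≥ 1. (This expresses ν(L) ≥
κ(L); only the characteristic-zero case is stated.) -/
theorem result (k : Type u) [Field k] [IsAlgClosed k] [CharZero k]
    (X : Scheme.{u}) [X.Over (Spec (CommRingCat.of k))] [IsProper (X ↘ Spec (CommRingCat.of k))]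
    [Smooth (X ↘ Spec (CommRingCat.of k))] [IrreducibleSpace X] (n : ℕ) (hn : topologicalKrullDim X = n)
    (H : X.Modules) (hH : CohB1.IsAmple H) (L Linv : X.Modules) (hL : PicF.IsInvertible L) (hLinv : ClSub.IsInverseOf Linv L)
    (hnef : (∀ (Y : Scheme.{u}) (i : Y ⟶ X) [IsClosedImmersion i], IsIntegral Y → topologicalKrullDim Y = 1 →
      0 ≤ Pic13.curveDeg k (i ≫ (X ↘ Spec (CommRingCat.of k))) ((Scheme.Modules.pullback i).obj L)))
    (m : ℕ) (hm : (∀ (V : Scheme.{u}) (i : V ⟶ X) [IsClosedImmersion i], IsIntegral V → topologicalKrullDim V = (m : ℕ) →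
      FGA.intNum k X n (fun _ : Fin m => Linv) ((Scheme.Modules.pushforward i).obj (Coh.structureModule V)) = 0)) :
    ¬ (∃ ν a : ℕ, 0 < ν ∧ 0 < a ∧ ∀ μ : ℕ, 1 ≤ μ →
        μ ^ m ≤ a * Module.finrank k (Coh.HH X (CohB1.tensorPow L (ν * μ)) 0)) := by
  haveI : IsReduced X := WeilLib.isReduced_of_smooth (X ↘ Spec (CommRingCat.of k))
  haveI : IsIntegral X := isIntegral_of_irreducibleSpace_of_isReduced X
  haveI : IsNoetherian X := EulerLib.isNoetherian_of_proper (X := X) k
  have ha := VarietyLib.nefCl_of_curveDeg k hL hnef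
  obtain ⟨e⟩ := hLinv
  have hLi : PicF.IsInvertible Linv := PicLib.PicM.isInvertible_of_tensor hL
    (AmpleLib.glocus_isInvertible_of_iso (AmpleLib.tensorComm L Linv ≪≫ e).symm AmpleLib.isInvertible_structureModule)
  have hpt : ∀ z : X, topologicalKrullDim (closure ({z} : Set X)) = (m : WithBot ℕ∞) →
      (VarietyLib.dOp (EulerLib.InvCl.mk L hL) ^ m) (EulerLib.chiCl k (AssSch12.clM z)) 1 = 0 := by
    intro z hz
    haveI := VarietyLib.isIntegral_clI z
    have hdim : topologicalKrullDim (AssSch12.clI z).subscheme = (m : WithBot ℕ∞) :=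
      (VarietyLib.topologicalKrullDim_vanishingIdeal _).trans hz
    have h : FGA.intNum k X n (fun _ : Fin m => Linv) (AssSch12.clM z) = 0 :=
      hm _ (AssSch12.clI z).subschemeι inferInstance hdim
    rw [EulerLib.intNum_eq k _ (fun _ => hLi) (Coherent.isCoh_clM z) hn.le,
      EulerLib.altSum_of_inverse (fun _ : Fin m => EulerLib.InvCl.mk L hL) _
        (fun _ => (EulerLib.InvCl.mk_mul hL hLi).trans (EulerLib.InvCl.mk_eq _ _ (AmpleLib.tensorComm L Linv ≪≫ e)))
        (EulerLib.clDeg_chiCl k (Coherent.isCoh_clM z)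
          ((EulerLib.dim_mono (EulerLib.support_clM z).le).trans hz.le)),
      VarietyLib.interDeg_const] at h
    exact h
  rintro ⟨ν, a, hν, ha0, hgr⟩
  rcases m with _ | m
  · obtain ⟨z, -, hz⟩ := IsClosed.exists_closed_singleton (isClosed_univ (X := X)) Set.univ_nonempty
    haveI : Nonempty (TopologicalSpace.IrreducibleCloseds ({z} : Set X)) :=
      ⟨⟨closure {(⟨z, rfl⟩ : ({z} : Set X))}, isIrreducible_singleton.closure, isClosed_closure⟩⟩
    have hd : topologicalKrullDim (closure ({z} : Set X)) = ((0 : ℕ) : WithBot ℕ∞) := by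
      rw [hz.closure_eq]
      exact_mod_cast (topologicalKrullDim_zero_of_discreteTopology ({z} : Set X)).antisymm Order.krullDim_nonneg
    have h := EulerLib.interDeg_pos k 0 (fun i => i.elim0) (fun i => i.elim0) _ (Coherent.isCoh_clM z)
      (by rw [EulerLib.support_clM, hd])
    have h0 := hpt z hd
    rw [EulerLib.interDeg_zero] at h
    rw [pow_zero, Module.End.one_apply] at h0
    omega
  obtain ⟨B, hB⟩ := VarietyLib.exists_h0_bound_nef k ⟨H, hH⟩ ha hpt (Coherent.isCoh_structureModule X)
  let μ := a * B * ν ^ m + 1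
  have h1 := hgr μ (Nat.le_add_left 1 _)
  have h2 := hB (ν * μ) (Nat.mul_pos hν (Nat.succ_pos _))
  rw [← EulerLib.InvCl.mk_tensorPow hL, H0Growth23.hh_structure k 0 _ (AmpleLib.isInvertible_tensorPow hL _)] at h2
  have h3 : μ ^ (m + 1) ≤ (a * B * ν ^ m) * μ ^ m := by
    refine h1.trans ((Nat.mul_le_mul_left a h2).trans_eq ?_)
    rw [mul_pow]
    ring
  rw [pow_succ' μ m] at h3
  have h4 : μ ≤ a * B * ν ^ m := Nat.le_of_mul_le_mul_right h3 (pow_pos (Nat.succ_pos _) m)
  simp only [μ] at h4
  omega

end Groth.Agent.S16903
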