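import Groth.Statements.S16904
import Groth.Agent.SemiAmple14.Points
import Groth.Agent.S16903

set_option autoImplicit false
universe u
open CategoryTheory CategoryTheory.Limits AlgebraicGeometry
open Vanish

open Groth.Agent
namespace Groth.Agent.S16904

/-- Let k be an algebraically closed field of characteristic zero and X an irreducible proper smooth
k-scheme of dimension n with an ample invertible O_X-module (a projective manifold); let L be a
semi-ample invertible O_X-module (some L^⊗μ with μ > 0 is globally generated; such L is numerically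
effective) with tensor inverse L⁻¹. Then for every natural number m, c_1(L)^m is numerically trivial
— (L^m · V) = 0 for every integral closed subscheme V ⊆ X of dimension m — if and only if κ(L) < m
in the growth form: there are no ν > 0 and a > 0 with μ^m ≤ a · dim_k H^0(X, L^⊗νμ) for all μ ≥ 1.
(This expresses ν(L) = κ(L) for semi-ample L; characteristic zero only.) -/
theorem result (k : Type u) [Field k] [IsAlgClosed k] [CharZero k]
    (X : Scheme.{u}) [X.Over (Spec (CommRingCat.of k))] [IsProper (X ↘ Spec (CommRingCat.of k))]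
    [Smooth (X ↘ Spec (CommRingCat.of k))] [IrreducibleSpace X] (n : ℕ) (hn : topologicalKrullDim X = n)
    (H : X.Modules) (hH : CohB1.IsAmple H) (L Linv : X.Modules) (hL : PicF.IsInvertible L) (hLinv : ClSub.IsInverseOf Linv L)
    (hsa : ∃ μ : ℕ, 0 < μ ∧ Curv2.IsGloballyGenerated (CohB1.tensorPow L μ))
    (m : ℕ) :
    (∀ (V : Scheme.{u}) (i : V ⟶ X) [IsClosedImmersion i], IsIntegral V → topologicalKrullDim V = (m : ℕ) →
      FGA.intNum k X n (fun _ : Fin m => Linv) ((Scheme.Modules.pushforward i).obj (Coh.structureModule V)) = 0) ↔ ¬ (∃ ν a : ℕ, 0 < ν ∧ 0 < a ∧ ∀ μ : ℕ, 1 ≤ μ →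
        μ ^ m ≤ a * Module.finrank k (Coh.HH X (CohB1.tensorPow L (ν * μ)) 0)) := by
  haveI : IsReduced X := WeilLib.isReduced_of_smooth (X ↘ Spec (CommRingCat.of k))
  haveI : IsNoetherian X := EulerLib.isNoetherian_of_proper (X := X) k
  obtain ⟨μ₀, hμ₀, hgg⟩ := hsa
  constructor
  · intro hm
    exact Groth.Agent.S16903.result k X n hn H hH L Linv hL hLinv
      (fun Y i _ _ hY => VarietyLib.curveDeg_nonneg_of_nefCl k hL
        (SemiAmple14.nefCl_of_semiample k hL hμ₀ hgg) Y i hY) m hm
  · intro hno V i _ _ hVd
    by_contra hne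
    obtain ⟨e⟩ := hLinv
    have hLi : PicF.IsInvertible Linv := PicLib.PicM.isInvertible_of_tensor hL
      (AmpleLib.glocus_isInvertible_of_iso (AmpleLib.tensorComm L Linv ≪≫ e).symm AmpleLib.isInvertible_structureModule)
    letI : V.Over (Spec (CommRingCat.of k)) := ⟨i ≫ (X ↘ Spec (CommRingCat.of k))⟩
    haveI : IsProper (V ↘ Spec (CommRingCat.of k)) := inferInstanceAs (IsProper (i ≫ (X ↘ Spec (CommRingCat.of k))))
    haveI : IsNoetherian V := EulerLib.isNoetherian_of_proper (X := V) k
    have hF : Coh.IsCoh ((Scheme.Modules.pushforward i).obj (Coh.structureModule V)) :=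
      Coherent.isCoh_push_finite i (Coherent.isCoh_structureModule V)
    have hFd : topologicalKrullDim (CohB1.support ((Scheme.Modules.pushforward i).obj (Coh.structureModule V)))
        ≤ (m : WithBot ℕ∞) := by
      refine (EulerLib.dim_mono (Coherent.support_push_subset i _)).trans (le_of_eq ?_)
      rw [← i.isClosedEmbedding.isEmbedding.toHomeomorph.isHomeomorph.topologicalKrullDim_eq, hVd]
    rw [EulerLib.intNum_eq k _ (fun _ => hLi) hF hn.le,
      EulerLib.altSum_of_inverse (fun _ : Fin m => EulerLib.InvCl.mk L hL) _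
        (fun _ => (EulerLib.InvCl.mk_mul hL hLi).trans (EulerLib.InvCl.mk_eq _ _ (AmpleLib.tensorComm L Linv ≪≫ e)))
        (EulerLib.clDeg_chiCl k hF hFd),
      VarietyLib.interDeg_const] at hne
    exact hno (SemiAmple14.exists_growth k hL hμ₀ hgg hF hFd hne)

end Groth.Agent.S16904
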