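import Groth.Statements.S16909
import Groth.Agent.AmpleLib.FTIdeal
import Groth.Agent.AmpleLib.Local

set_option autoImplicit false
universe u
open CategoryTheory CategoryTheory.Limits AlgebraicGeometry
open ResProp

set_option backward.isDefEq.respectTransparency.types false
set_option backward.isDefEq.respectTransparency false

namespace Groth.Agent.S16909


/-- Let `X` be a quasi-compact and quasi-separated scheme on which every quasi-coherent module is
globally generated (a quotient of a free module on some index type, i.e. the structure sheaf is a
generating family). Then `X` is quasi-affine. No separatedness hypothesis is made; it follows. (The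
published statement is for an algebraic stack over an algebraic space with affine stabilizer groups
at closed points and concludes that it is representable by a quasi-affine morphism; that general
case rests on results outside this text, and this row is the final step of its proof, the case of a
scheme.) -/
theorem result (X : Scheme.{u}) [CompactSpace X]
    [QuasiSeparatedSpace X] (h : ∀ M : X.Modules, Coh.IsQCoh M → Curv2.IsGloballyGenerated M) :
    X.IsQuasiAffine := by
  refine Scheme.IsQuasiAffine.of_forall_exists_mem_basicOpen X fun x => ?_
  obtain ⟨U, hU, hxU, -⟩ := exists_isAffineOpen_mem_and_subset (x := x) (U := ⊤) trivial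
  obtain ⟨I, -, hI, hO⟩ := Groth.Agent.AmpleLib.exists_idealMod_compl hU
  obtain ⟨J, q, hq⟩ := h _ hI.1
  have hφ : Groth.Agent.AmpleLib.HitsAt (ClSub.idealModι I) x := by
    obtain ⟨k, hk⟩ := Groth.Agent.AmpleLib.exists_idealModι_eq_one I
    exact ⟨_, k, hO.ge hxU, hk ▸ Groth.Agent.AmpleLib.isGen_oneSec _⟩
  let p : Groth.Agent.Coherent.freeMod X J ⟶ ClSub.idealMod I := q
  have : Epi p := hq
  obtain ⟨j, hj⟩ := Groth.Agent.AmpleLib.exists_mem_glocus_of_epi_free Groth.Agent.AmpleLib.isInvertible_structureModule
    (ClSub.idealModι I) hφ p
  let k : Γ(ClSub.idealMod I, ⊤) := p.app ⊤ (Groth.Agent.Coherent.freeBasisVec j ⊤)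
  let r : Γ(X, ⊤) := (ClSub.idealModι I).app ⊤ k
  have hr : x ∈ X.basicOpen r := (Groth.Agent.AmpleLib.glocus_structureModule r).le hj
  have hle : X.basicOpen r ≤ U := (Groth.Agent.AmpleLib.basicOpen_idealModι_le I ⊤ k).trans hO.le
  refine ⟨r, ?_, hr⟩
  have := Groth.Agent.AmpleLib.isAffineOpen_glocus_inf Groth.Agent.AmpleLib.isInvertible_structureModule
    (show Γ(Coh.structureModule X, ⊤) from r) hU
  rwa [Groth.Agent.AmpleLib.glocus_structureModule, inf_eq_left.2 hle] at this

end Groth.Agent.S16909
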