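import Groth.Statements.S16913
import Groth.Agent.ResProp20.QuotPush
-- import your own Groth.Agent.* helpers here

set_option autoImplicit false
universe u
open CategoryTheory CategoryTheory.Limits AlgebraicGeometry MonoidalCategory
open ResProp

namespace Groth.Agent.S16913

/-- Over an affine base scheme `S`, let `G` be a group scheme over `S`, affine, flat and locally of
finite presentation over `S`, and `X` a scheme quasi-compact and quasi-separated over `S` with an
action of `G`. If the quotient stack `[X/G]` (fppf `G`-torsors given as schemes, with an equivariant
map to `X`) has the resolution property — its locally free quasi-coherent modules of finite type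
form a generating family: two morphisms of quasi-coherent modules `M ⟶ N` on `[X/G]` that agree
after composition with every morphism from such a module into `M` are equal — then the scheme `X`
has the resolution property: every quasi-coherent module of finite type on `X` is a quotient of a
finite locally free module. (The published statement is over an algebraic stack `S` with `G → S`
quasi-affine and concerns the resolution property relative to `S`; over an affine base the relative
notion is the absolute one, and `G` is taken affine here.) -/
theorem result (S : Scheme.{u}) [IsAffine S]
    (G : Over S) [GrpObj G] [IsAffineHom G.hom] [Flat G.hom] [LocallyOfFinitePresentation G.hom]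
    (X : Over S) [QuasiCompact X.hom] [QuasiSeparated X.hom] (aX : AlgGrp.Action G X)
    (h : ∀ (M N : StMod.QCoh (AlgSt.QuotSt Scheme.fppfPrecoverage G aX)) (a b : M ⟶ N),
      (∀ E : StMod.QCoh (AlgSt.QuotSt Scheme.fppfPrecoverage G aX),
        E.obj.IsLocFree → E.obj.IsFinType → ∀ φ : E ⟶ M, φ ≫ a = φ ≫ b) → a = b) :
    PerfAux.HasResolutionProperty X.left := by
  exact ResProp20.QuotPush.hasResolutionProperty aX h

end Groth.Agent.S16913
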