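import Groth.Statements.S16917
import Groth.Agent.DimLib.Avoid

set_option autoImplicit false
open CategoryTheory AlgebraicGeometry
universe u
open Variety

namespace Groth.Agent.S16917

/-- Let k be an uncountable algebraically closed field, X a k-scheme of finite type and Z₀, Z₁, …
countably many closed subsets of X. Then the countable union of the Zₙ, read through closed points,
has a unique irredundant decomposition: there is exactly one countable family S of irreducible
closed subsets of X, pairwise not contained in one another, such that a closed point of X lies in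
some member of S if and only if it lies in some Zₙ. (The published statement is the existence and
uniqueness of the irredundant decomposition of a countable union of algebraic varieties into
c-components, a variety being read through its closed points; with all points of the scheme the
uniqueness would not need the uncountable field.) -/
theorem result (k : Type u) [Field k] [IsAlgClosed k]
    [Uncountable k] (X : Scheme.{u}) (sX : X ⟶ Spec (CommRingCat.of k)) [LocallyOfFiniteType sX]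
    [QuasiCompact sX] (Z : ℕ → TopologicalSpace.Closeds X) :
    ∃! S : Set (TopologicalSpace.Closeds X), S.Countable ∧ (∀ T ∈ S, IsIrreducible (T : Set X)) ∧
      IsAntichain (· ≤ ·) S ∧
      {x : X | IsClosed ({x} : Set X) ∧ ∃ T ∈ S, x ∈ T} =
        {x : X | IsClosed ({x} : Set X) ∧ ∃ n, x ∈ Z n} := by
  classical
  have : IsLocallyNoetherian X := LocallyOfFiniteType.isLocallyNoetherian sX
  have : CompactSpace X := QuasiCompact.compactSpace_of_compactSpace sX
  have : IsNoetherian X := {}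
  let C : Set (TopologicalSpace.Closeds X) := ⋃ n, {T | IsIrreducible (T : Set X) ∧ Maximal (fun S : Set X => IsIrreducible S ∧ S ⊆ Z n) T}
  have hCc : C.Countable := by
    refine Set.countable_iUnion fun n => Set.Finite.countable ?_
    obtain ⟨F, hF, hFcl, hFirr, hFeq⟩ := TopologicalSpace.NoetherianSpace.exists_finite_set_isClosed_irreducible (Z n).isClosed
    refine (hF.preimage (fun _ _ _ _ h => SetLike.coe_injective h)).subset (s := (fun T : TopologicalSpace.Closeds X => (T : Set X)) ⁻¹' F) ?_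
    rintro T ⟨hTirr, hTmax⟩
    obtain ⟨η, hη⟩ := QuasiSober.sober hTirr T.isClosed
    obtain ⟨G, hG, hηG⟩ : η ∈ ⋃₀ F := hFeq ▸ hTmax.1.2 hη.mem
    have hsub : (T : Set X) ⊆ G := hη.def ▸ closure_minimal (Set.singleton_subset_iff.2 hηG) (hFcl G hG)
    have := hTmax.2 ⟨hFirr G hG, hFeq ▸ Set.subset_sUnion_of_mem hG⟩ hsub
    show (T : Set X) ∈ F
    rwa [Set.Subset.antisymm hsub this]
  have hCcov : {x : X | IsClosed ({x} : Set X) ∧ ∃ T ∈ C, x ∈ T} = {x : X | IsClosed ({x} : Set X) ∧ ∃ n, x ∈ Z n} := by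
    ext x
    refine and_congr_right fun _ => ⟨?_, ?_⟩
    · rintro ⟨T, hT, hxT⟩
      obtain ⟨n, -, hn⟩ := Set.mem_iUnion.1 hT
      exact ⟨n, hn.1.2 hxT⟩
    · rintro ⟨n, hn⟩
      obtain ⟨F, hF, hFcl, hFirr, hFeq⟩ := TopologicalSpace.NoetherianSpace.exists_finite_set_isClosed_irreducible (Z n).isClosed
      obtain ⟨G, hG, hxG⟩ : x ∈ ⋃₀ F := hFeq ▸ hn
      obtain ⟨G', hle, hG', hmax⟩ := hF.exists_le_maximal hG
      refine ⟨⟨G', hFcl G' hG'⟩, Set.mem_iUnion.2 ⟨n, hFirr G' hG', ⟨hFirr G' hG', hFeq ▸ Set.subset_sUnion_of_mem hG'⟩, ?_⟩, hle hxG⟩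
      rintro S ⟨hSirr, hSsub⟩ hle'
      rw [hFeq] at hSsub
      obtain ⟨η, hη⟩ := QuasiSober.sober hSirr.closure isClosed_closure
      have hmem : η ∈ ⋃₀ F := closure_minimal hSsub (hFeq ▸ (Z n).isClosed) hη.mem
      obtain ⟨H, hH, hηH⟩ := hmem
      have hSH : S ⊆ H := subset_closure.trans (hη.def ▸ closure_minimal (Set.singleton_subset_iff.2 hηH) (hFcl H hH))
      exact hSH.trans (hmax hH (hle'.trans hSH))
  have hmaxC : ∀ T ∈ C, ∃ T' ∈ C, T ≤ T' ∧ ∀ U ∈ C, T' ≤ U → U = T' := by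
    intro T hT
    have hgp : ∀ U ∈ C, ∃ η, IsGenericPoint η (U : Set X) := fun U hU => by
      obtain ⟨n, hn, -⟩ := Set.mem_iUnion.1 hU
      exact QuasiSober.sober hn U.isClosed
    have : Nonempty X := ⟨(hgp T hT).choose⟩
    choose! gp hgp using hgp
    obtain ⟨N, hN⟩ : ∃ N : ℕ, ∀ x : X, Groth.Agent.DimLib.ptDim sX x ≤ N := by
      obtain ⟨F, hF, hFcl, hFirr, hFeq⟩ := TopologicalSpace.NoetherianSpace.exists_finite_set_isClosed_irreducible (isClosed_univ (X := X))
      choose! g hg using fun G (hG : G ∈ F) => QuasiSober.sober (hFirr G hG) (hFcl G hG)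
      refine ⟨∑ G ∈ hF.toFinset, Groth.Agent.DimLib.ptDim sX (g G), fun x => ?_⟩
      obtain ⟨G, hG, hxG⟩ : x ∈ ⋃₀ F := hFeq ▸ Set.mem_univ x
      refine le_trans ?_ (Finset.single_le_sum (f := fun G => Groth.Agent.DimLib.ptDim sX (g G)) (fun _ _ => Nat.zero_le _) (hF.mem_toFinset.2 hG))
      by_cases e : g G = x
      · rw [e]
      · exact (Groth.Agent.DimLib.ptDim_lt_of_specializes sX ((hg G hG).specializes hxG) e).le
    induction hn : N - Groth.Agent.DimLib.ptDim sX (gp T) using Nat.strong_induction_on generalizing T with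
    | _ m ih =>
    by_cases h : ∀ U ∈ C, T ≤ U → U = T
    · exact ⟨T, hT, le_rfl, h⟩
    push Not at h
    obtain ⟨U, hU, hle, hne⟩ := h
    have hlt := Groth.Agent.DimLib.ptDim_lt_of_specializes sX ((hgp U hU).specializes (hle (hgp T hT).mem))
      (fun e => hne (SetLike.coe_injective (by rw [← (hgp U hU).def, e, (hgp T hT).def])))
    obtain ⟨T', hT', hle', hmax⟩ := ih _ (by have := hN (gp U); omega) U hU rfl
    exact ⟨T', hT', hle.trans hle', hmax⟩
  refine ⟨{T | T ∈ C ∧ ∀ U ∈ C, T ≤ U → U = T}, ⟨hCc.mono fun T hT => hT.1, fun T hT => ?_, ?_, ?_⟩, ?_⟩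
  · obtain ⟨n, hn, -⟩ := Set.mem_iUnion.1 hT.1
    exact hn
  · exact fun T hT U hU hne hle => hne (hT.2 U hU.1 hle).symm
  · rw [← hCcov]
    ext x
    refine and_congr_right fun _ => ⟨fun ⟨T, hT, hx⟩ => ⟨T, hT.1, hx⟩, fun ⟨T, hT, hx⟩ => ?_⟩
    obtain ⟨T', hT', hle, hmax⟩ := hmaxC T hT
    exact ⟨T', ⟨hT', hmax⟩, hle hx⟩
  rintro S ⟨hSc, hSirr, hSanti, hScov⟩
  have key : ∀ (A B : Set (TopologicalSpace.Closeds X)), B.Countable → (∀ T ∈ A, IsIrreducible (T : Set X)) →
      ({x : X | IsClosed ({x} : Set X) ∧ ∃ T ∈ A, x ∈ T} ⊆ {x : X | IsClosed ({x} : Set X) ∧ ∃ T ∈ B, x ∈ T}) →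
      ∀ T ∈ A, ∃ U ∈ B, T ≤ U := by
    intro A B hB hA hsub T hT
    by_contra! hc
    obtain ⟨η, hη⟩ := QuasiSober.sober (hA T hT) T.isClosed
    obtain ⟨g, hg⟩ : ∃ g : ℕ → Set X, ∀ U ∈ B, ∃ n, g n = (U : Set X) ∧ True := by
      rcases B.eq_empty_or_nonempty with rfl | hne
      · exact ⟨fun _ => ∅, by simp⟩
      · obtain ⟨g, hg⟩ := hB.exists_eq_range hne
        exact ⟨fun n => (g n : Set X), fun U hU => by
          rw [hg] at hU; obtain ⟨n, rfl⟩ := hU; exact ⟨n, rfl, trivial⟩⟩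
    obtain ⟨x, hηx, hx, hav⟩ := Groth.Agent.DimLib.exists_isClosed_singleton_avoid sX η
      (fun U : {n : ℕ // ∃ U ∈ B, g n = (U : Set X)} => g U.1)
      (fun ⟨n, U, _, e⟩ => by show IsClosed (g n); rw [e]; exact U.isClosed)
      (fun ⟨n, U, hU, e⟩ h => hc U hU (by
        change η ∈ g n at h
        rw [e] at h
        exact SetLike.coe_subset_coe.1 (hη.def ▸ closure_minimal (Set.singleton_subset_iff.2 h) U.isClosed)))
    obtain ⟨-, U, hU, hxU⟩ := hsub ⟨hx, T, hT, hηx.mem_closed T.isClosed hη.mem⟩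
    obtain ⟨n, hn, -⟩ := hg U hU
    exact hav ⟨n, U, hU, hn⟩ (show x ∈ g n by rw [hn]; exact hxU)
  have hS0irr : ∀ T ∈ {T | T ∈ C ∧ ∀ U ∈ C, T ≤ U → U = T}, IsIrreducible ((T : TopologicalSpace.Closeds X) : Set X) := fun T hT => by
    obtain ⟨n, hn, -⟩ := Set.mem_iUnion.1 hT.1
    exact hn
  have hS0cov : {x : X | IsClosed ({x} : Set X) ∧ ∃ T ∈ {T | T ∈ C ∧ ∀ U ∈ C, T ≤ U → U = T}, x ∈ T} = {x : X | IsClosed ({x} : Set X) ∧ ∃ T ∈ S, x ∈ T} := by
    rw [hScov, ← hCcov]
    ext x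
    refine and_congr_right fun _ => ⟨fun ⟨T, hT, hx⟩ => ⟨T, hT.1, hx⟩, fun ⟨T, hT, hx⟩ => ?_⟩
    obtain ⟨T', hT', hle, hmax⟩ := hmaxC T hT
    exact ⟨T', ⟨hT', hmax⟩, hle hx⟩
  have k1 := key _ S hSc hS0irr hS0cov.subset
  have k2 := key S _ (hCc.mono fun T hT => hT.1) hSirr hS0cov.symm.subset
  ext T
  constructor
  · intro hT
    obtain ⟨U, hU, hTU⟩ := k2 T hT
    obtain ⟨T', hT', hUT⟩ := k1 U hU
    have : T = T' := hSanti.eq hT hT' (hTU.trans hUT)
    subst this
    rwa [le_antisymm hTU hUT]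
  · intro hT
    obtain ⟨U, hU, hTU⟩ := k1 T hT
    obtain ⟨T', hT', hUT⟩ := k2 U hU
    have : T' = T := hT.2 T' hT'.1 (hTU.trans hUT)
    subst this
    rwa [le_antisymm hTU hUT]

end Groth.Agent.S16917
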