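import Groth.Statements.S16918
import Groth.Agent.GQuot15.Basic
import Groth.Agent.DimLib.Avoid

set_option backward.isDefEq.respectTransparency.types false

set_option autoImplicit false
universe u
open CategoryTheory MonoidalCategory CartesianMonoidalCategory MonObj GrpObj AlgebraicGeometry
open GrpSch

namespace Groth.Agent.S16918

open CartesianMonoidalCategory MonObj GrpObj in
theorem main {k : Type u} [Field k] [IsAlgClosed k] [Uncountable k] (A : Over (Spec (CommRingCat.of k)))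
    [GrpObj A] [IsProper A.hom] (K : Subgroup (𝟙_ (Over (Spec (CommRingCat.of k))) ⟶ A))
    (Z : ℕ → TopologicalSpace.Closeds ↥A.left)
    (hK : ∀ x : 𝟙_ (Over (Spec (CommRingCat.of k))) ⟶ A, x ∈ K ↔ GQuot15.ptv x ∈ ⋃ n, (Z n : Set ↥A.left)) :
    let adm : TopologicalSpace.Closeds ↥A.left → Prop := fun T => IsIrreducible (T : Set ↥A.left) ∧
        ∀ x : 𝟙_ (Over (Spec (CommRingCat.of k))) ⟶ A, GQuot15.ptv x ∈ (T : Set ↥A.left) → x ∈ K
    (∃! T : TopologicalSpace.Closeds ↥A.left,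
      Maximal adm T ∧ GQuot15.ptv (1 : 𝟙_ (Over (Spec (CommRingCat.of k))) ⟶ A) ∈ (T : Set ↥A.left)) ∧
    ∀ T : TopologicalSpace.Closeds ↥A.left, Maximal adm T →
      GQuot15.ptv (1 : 𝟙_ (Over (Spec (CommRingCat.of k))) ⟶ A) ∈ (T : Set ↥A.left) →
      (∃ n, (T : Set ↥A.left) ⊆ (Z n : Set ↥A.left)) ∧
      ∀ x y : 𝟙_ (Over (Spec (CommRingCat.of k))) ⟶ A, GQuot15.ptv x ∈ (T : Set ↥A.left) →
        GQuot15.ptv y ∈ (T : Set ↥A.left) → GQuot15.ptv (x * y⁻¹) ∈ (T : Set ↥A.left) := by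
  intro adm
  classical
  haveI : LocallyOfFiniteType A.hom := inferInstance
  haveI : IsLocallyNoetherian A.left := LocallyOfFiniteType.isLocallyNoetherian A.hom
  haveI : CompactSpace A.left := QuasiCompact.compactSpace_of_compactSpace A.hom
  haveI : IsNoetherian A.left := {}
  -- countable avoidance
  have hsubZ : ∀ T, adm T → ∃ n, (T : Set ↥A.left) ⊆ (Z n : Set ↥A.left) := by
    intro T hT
    obtain ⟨g, hg⟩ := QuasiSober.sober hT.1 T.isClosed
    by_contra! hc
    obtain ⟨z, hgz, hz, hav⟩ := DimLib.exists_isClosed_singleton_avoid A.hom g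
      (fun n => (Z n : Set ↥A.left)) (fun n => (Z n).isClosed)
      (fun n hn => hc n (hg.def ▸ closure_minimal (Set.singleton_subset_iff.2 hn) (Z n).isClosed))
    obtain ⟨p, hp⟩ := AlgGrpLib.OrbitDim.exists_ratPoint_mem (X := A) (S := {z}) hz.isLocallyClosed ⟨z, rfl⟩
    have hpz : GQuot15.ptv p = z := hp _
    have hpK := hT.2 p (hpz ▸ hgz.mem_closed T.isClosed hg.mem)
    obtain ⟨n, hn⟩ := Set.mem_iUnion.1 ((hK p).1 hpK)
    exact hav n (hpz ▸ hn)
  -- join of two admissible subsets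
  have hjoin : ∀ T₁ T₂ : TopologicalSpace.Closeds ↥A.left, adm T₁ → adm T₂ →
      GQuot15.ptv (1 : 𝟙_ (Over (Spec (CommRingCat.of k))) ⟶ A) ∈ (T₁ : Set ↥A.left) →
      GQuot15.ptv (1 : 𝟙_ (Over (Spec (CommRingCat.of k))) ⟶ A) ∈ (T₂ : Set ↥A.left) →
      ∃ T, adm T ∧ T₁ ≤ T ∧ T₂ ≤ T ∧
        ∀ x y, GQuot15.ptv x ∈ (T₁ : Set ↥A.left) → GQuot15.ptv y ∈ (T₂ : Set ↥A.left) →
          GQuot15.ptv (x * y) ∈ (T : Set ↥A.left) := by
    intro T₁ T₂ h₁ h₂ e₁ e₂
    let S : Set ↥A.left := {p | ∃ x y : 𝟙_ (Over (Spec (CommRingCat.of k))) ⟶ A,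
      GQuot15.ptv x ∈ (T₁ : Set ↥A.left) ∧ GQuot15.ptv y ∈ (T₂ : Set ↥A.left) ∧ GQuot15.ptv (x * y) = p}
    let L : (𝟙_ (Over (Spec (CommRingCat.of k))) ⟶ A) → (A ⟶ A) := fun x => (toUnit A ≫ x) * 𝟙 A
    let R : (𝟙_ (Over (Spec (CommRingCat.of k))) ⟶ A) → (A ⟶ A) := fun y => 𝟙 A * (toUnit A ≫ y)
    have hL : ∀ x y, (L x).left.base (GQuot15.ptv y) = GQuot15.ptv (x * y) := fun x y => by
      rw [← GQuot15.ptv_comp, MonObj.comp_mul, Category.comp_id, ← Category.assoc,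
        toUnit_unique (y ≫ toUnit A) (𝟙 _), Category.id_comp]
    have hR : ∀ x y, (R y).left.base (GQuot15.ptv x) = GQuot15.ptv (x * y) := fun x y => by
      rw [← GQuot15.ptv_comp, MonObj.comp_mul, Category.comp_id, ← Category.assoc,
        toUnit_unique (x ≫ toUnit A) (𝟙 _), Category.id_comp]
    have hS : IsIrreducible S := by
      refine ⟨⟨_, 1, 1, e₁, e₂, rfl⟩, fun U V hU hV ⟨p, ⟨x₁, y₁, hx₁, hy₁, hp⟩, hpU⟩
        ⟨q, ⟨x₂, y₂, hx₂, hy₂, hq⟩, hqV⟩ => ?_⟩
      subst hp hq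
      have hO : ((T₁ : Set ↥A.left) ∩ ((R y₁).left.base ⁻¹' U ∩ (R y₂).left.base ⁻¹' V)).Nonempty :=
        h₁.1.2 _ _ (hU.preimage (R y₁).left.continuous) (hV.preimage (R y₂).left.continuous)
          ⟨_, hx₁, by rw [Set.mem_preimage, hR]; exact hpU⟩ ⟨_, hx₂, by rw [Set.mem_preimage, hR]; exact hqV⟩
      obtain ⟨x, hx⟩ := AlgGrpLib.OrbitDim.exists_ratPoint_mem (X := A)
        (T₁.isClosed.isLocallyClosed.inter
          ((hU.preimage (R y₁).left.continuous).inter (hV.preimage (R y₂).left.continuous)).isLocallyClosed) hO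
      obtain ⟨hxT, hxU, hxV⟩ : GQuot15.ptv x ∈ (T₁ : Set ↥A.left) ∧
          GQuot15.ptv x ∈ (R y₁).left.base ⁻¹' U ∧ GQuot15.ptv x ∈ (R y₂).left.base ⁻¹' V := hx _
      rw [Set.mem_preimage, hR] at hxU hxV
      have hO' : ((T₂ : Set ↥A.left) ∩ ((L x).left.base ⁻¹' U ∩ (L x).left.base ⁻¹' V)).Nonempty :=
        h₂.1.2 _ _ (hU.preimage (L x).left.continuous) (hV.preimage (L x).left.continuous)
          ⟨_, hy₁, by rw [Set.mem_preimage, hL]; exact hxU⟩ ⟨_, hy₂, by rw [Set.mem_preimage, hL]; exact hxV⟩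
      obtain ⟨y, hy⟩ := AlgGrpLib.OrbitDim.exists_ratPoint_mem (X := A)
        (T₂.isClosed.isLocallyClosed.inter
          ((hU.preimage (L x).left.continuous).inter (hV.preimage (L x).left.continuous)).isLocallyClosed) hO'
      obtain ⟨hyT, hyU, hyV⟩ : GQuot15.ptv y ∈ (T₂ : Set ↥A.left) ∧
          GQuot15.ptv y ∈ (L x).left.base ⁻¹' U ∧ GQuot15.ptv y ∈ (L x).left.base ⁻¹' V := hy _
      rw [Set.mem_preimage, hL] at hyU hyV
      exact ⟨_, ⟨x, y, hxT, hyT, rfl⟩, hyU, hyV⟩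
    let P : Set ↥(A ⊗ A).left := (fst A A).left.base ⁻¹' T₁ ∩ (snd A A).left.base ⁻¹' T₂
    have hP : IsClosed P :=
      (T₁.isClosed.preimage (fst A A).left.continuous).inter (T₂.isClosed.preimage (snd A A).left.continuous)
    haveI : IsProper (A ⊗ A).hom := by
      show IsProper (Limits.pullback.fst A.hom A.hom ≫ A.hom)
      infer_instance
    haveI : IsProper (μ[A].left ≫ A.hom) := by rw [Over.w]; infer_instance
    haveI : IsProper μ[A].left := IsProper.of_comp μ[A].left A.hom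
    have hSC : S ⊆ μ[A].left.base '' P := by
      rintro _ ⟨x, y, hx, hy, rfl⟩
      refine ⟨GQuot15.ptv (lift x y), ⟨?_, ?_⟩, ?_⟩
      · rw [Set.mem_preimage, ← GQuot15.ptv_comp, lift_fst]; exact hx
      · rw [Set.mem_preimage, ← GQuot15.ptv_comp, lift_snd]; exact hy
      · rw [← GQuot15.ptv_comp, Hom.mul_def]
    refine ⟨⟨closure S, isClosed_closure⟩, ⟨hS.closure, fun z hz => ?_⟩, ?_, ?_,
      fun x y hx hy => subset_closure ⟨x, y, hx, hy, rfl⟩⟩
    · obtain ⟨w₀, hw₀, hw₀'⟩ := closure_minimal hSC (μ[A].left.isClosedMap _ hP) hz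
      haveI : LocallyOfFiniteType (A ⊗ A).hom := inferInstance
      obtain ⟨w, hw⟩ := AlgGrpLib.OrbitDim.exists_ratPoint_mem (X := A ⊗ A)
        (hP.inter ((GQuot15.isClosed_ptv z).preimage μ[A].left.continuous)).isLocallyClosed ⟨w₀, hw₀, hw₀'⟩
      obtain ⟨⟨hw1, hw2⟩, hw3⟩ : (GQuot15.ptv w ∈ (fst A A).left.base ⁻¹' (T₁ : Set ↥A.left) ∧
          GQuot15.ptv w ∈ (snd A A).left.base ⁻¹' (T₂ : Set ↥A.left)) ∧
          GQuot15.ptv w ∈ μ[A].left.base ⁻¹' {GQuot15.ptv z} := hw _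
      have hz' : (w ≫ fst A A) * (w ≫ snd A A) = z := by
        rw [Hom.mul_def, ← comp_lift, lift_fst_snd, Category.comp_id]
        exact GQuot15.kpt_ext _ _ hw3
      rw [← hz']
      exact K.mul_mem (h₁.2 _ hw1) (h₂.2 _ hw2)
    · intro p hp
      by_contra hn
      obtain ⟨x, hx⟩ := AlgGrpLib.OrbitDim.exists_ratPoint_mem (X := A)
        (T₁.isClosed.isLocallyClosed.inter (isClosed_closure (s := S)).isOpen_compl.isLocallyClosed) ⟨p, hp, hn⟩
      obtain ⟨hx1, hx2⟩ : GQuot15.ptv x ∈ (T₁ : Set ↥A.left) ∧ GQuot15.ptv x ∉ closure S := hx _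
      exact hx2 (subset_closure ⟨x, 1, hx1, e₂, by rw [_root_.mul_one]⟩)
    · intro p hp
      by_contra hn
      obtain ⟨x, hx⟩ := AlgGrpLib.OrbitDim.exists_ratPoint_mem (X := A)
        (T₂.isClosed.isLocallyClosed.inter (isClosed_closure (s := S)).isOpen_compl.isLocallyClosed) ⟨p, hp, hn⟩
      obtain ⟨hx1, hx2⟩ : GQuot15.ptv x ∈ (T₂ : Set ↥A.left) ∧ GQuot15.ptv x ∉ closure S := hx _
      exact hx2 (subset_closure ⟨1, x, e₁, hx1, by rw [_root_.one_mul]⟩)
  let e := GQuot15.ptv (1 : 𝟙_ (Over (Spec (CommRingCat.of k))) ⟶ A)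
  let E : TopologicalSpace.Closeds ↥A.left := ⟨{e}, GQuot15.isClosed_ptv _⟩
  have hE : adm E := ⟨isIrreducible_singleton, fun x hx => by rw [GQuot15.kpt_ext x 1 hx]; exact K.one_mem⟩
  -- existence of a maximal one
  obtain ⟨T₀, hT₀, heT₀⟩ : ∃ T, Maximal adm T ∧ e ∈ (T : Set ↥A.left) := by
    haveI : Nonempty A.left := ⟨e⟩
    choose! g hg using fun (T : TopologicalSpace.Closeds ↥A.left) (hT : adm T) => QuasiSober.sober hT.1 T.isClosed
    obtain ⟨N, hN⟩ : ∃ N : ℕ, ∀ x : A.left, DimLib.ptDim A.hom x ≤ N := by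
      obtain ⟨F, hF, hFcl, hFirr, hFeq⟩ :=
        TopologicalSpace.NoetherianSpace.exists_finite_set_isClosed_irreducible (isClosed_univ (X := A.left))
      haveI : Nonempty A.left := ⟨e⟩
      choose! w hw using fun G (hG : G ∈ F) => QuasiSober.sober (hFirr G hG) (hFcl G hG)
      refine ⟨∑ G ∈ hF.toFinset, DimLib.ptDim A.hom (w G), fun x => ?_⟩
      obtain ⟨G, hG, hxG⟩ : x ∈ ⋃₀ F := hFeq ▸ Set.mem_univ x
      refine le_trans ?_ (Finset.single_le_sum (f := fun G => DimLib.ptDim A.hom (w G)) (fun _ _ => Nat.zero_le _)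
        (hF.mem_toFinset.2 hG))
      by_cases h : w G = x
      · rw [h]
      · exact (DimLib.ptDim_lt_of_specializes A.hom ((hw G hG).specializes hxG) h).le
    let D : Set ℕ := {d | ∃ T, adm T ∧ e ∈ (T : Set ↥A.left) ∧ DimLib.ptDim A.hom (g T) = d}
    have hD : BddAbove D := ⟨N, by rintro _ ⟨T, -, -, rfl⟩; exact hN _⟩
    obtain ⟨T, hT, heT, hdim⟩ : sSup D ∈ D := Nat.sSup_mem ⟨_, E, hE, rfl, rfl⟩ hD
    refine ⟨T, ⟨hT, fun U hU hle => ?_⟩, heT⟩
    by_contra hne
    have hlt := DimLib.ptDim_lt_of_specializes A.hom ((hg U hU).specializes (hle (hg T hT).mem))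
      (fun h => hne (SetLike.coe_subset_coe.1 (by rw [← (hg U hU).def, h, (hg T hT).def])))
    have := le_csSup hD ⟨U, hU, hle heT, rfl⟩
    omega
  have huniq : ∀ T T', Maximal adm T → e ∈ (T : Set ↥A.left) → adm T' → e ∈ (T' : Set ↥A.left) → T' ≤ T ∧
      ∀ x y, GQuot15.ptv x ∈ (T : Set ↥A.left) → GQuot15.ptv y ∈ (T' : Set ↥A.left) →
        GQuot15.ptv (x * y) ∈ (T : Set ↥A.left) := by
    intro T T' hT he hT' he'
    obtain ⟨U, hU, h1, h2, h3⟩ := hjoin T T' hT.1 hT' he he'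
    have := hT.2 hU h1
    exact ⟨h2.trans this, fun x y hx hy => this (h3 x y hx hy)⟩
  refine ⟨⟨T₀, ⟨hT₀, heT₀⟩, fun T hT => le_antisymm (huniq T₀ T hT₀ heT₀ hT.1.1 hT.2).1
    (huniq T T₀ hT.1 hT.2 hT₀.1 heT₀).1⟩, fun T hT he => ⟨hsubZ T hT.1, fun x y hx hy => ?_⟩⟩
  have hinv : ∀ p, ι[A].left.base (ι[A].left.base p) = p := fun p => by
    have h : ι[A] ≫ ι[A] = 𝟙 A := by
      have h1 : ((𝟙 A : A ⟶ A)⁻¹)⁻¹ = 𝟙 A := _root_.inv_inv _
      rwa [Hom.inv_def, Hom.inv_def, Category.id_comp] at h1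
    exact congrArg (fun f : A ⟶ A => f.left.base p) h
  let T' : TopologicalSpace.Closeds ↥A.left := ⟨ι[A].left.base ⁻¹' T, T.isClosed.preimage ι[A].left.continuous⟩
  have hpt : ∀ z : 𝟙_ (Over (Spec (CommRingCat.of k))) ⟶ A, ι[A].left.base (GQuot15.ptv z) = GQuot15.ptv z⁻¹ :=
    fun z => by rw [← GQuot15.ptv_comp, Hom.inv_def]
  have himg : (T' : Set ↥A.left) = ι[A].left.base '' T := by
    ext p
    exact ⟨fun hp => ⟨_, hp, hinv p⟩, fun ⟨q, hq, hqp⟩ => by
      show ι[A].left.base p ∈ (T : Set ↥A.left)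
      rw [← hqp, hinv]; exact hq⟩
  have hT' : adm T' := by
    refine ⟨himg ▸ hT.1.1.image _ ι[A].left.continuous.continuousOn, fun z hz => ?_⟩
    change ι[A].left.base (GQuot15.ptv z) ∈ (T : Set ↥A.left) at hz
    rw [hpt] at hz
    simpa using K.inv_mem (hT.1.2 _ hz)
  have he' : e ∈ (T' : Set ↥A.left) := by
    show ι[A].left.base e ∈ (T : Set ↥A.left)
    rw [hpt, inv_one]; exact he
  refine (huniq T T' hT he hT' he').2 x y⁻¹ hx ?_
  show ι[A].left.base (GQuot15.ptv y⁻¹) ∈ (T : Set ↥A.left)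
  rw [hpt, _root_.inv_inv]
  exact hy

/-- Let k be an uncountable algebraically closed field, A an abelian variety over k (a proper,
geometrically integral group scheme over k) and K a subgroup of the group of k-points of A (sections
of A over Spec k, a group through the group structure of A) which is the trace of a countable union
of closed subsets: a k-point belongs to K exactly when its image point lies in some Zₙ. Call an
irreducible closed subset T of A admissible when every k-point whose image lies in T belongs to K.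
Then there is exactly one maximal admissible T containing the image of the neutral element; that T
is contained in some Zₙ, and the k-points landing in T are closed under x, y ↦ x·y⁻¹, so that T is a
closed irreducible subgroup variety of A lying in one of the Zₙ. (The published statement says that
the irredundant decomposition of K has a unique component through 0 and that it is an abelian
subvariety; the maximal admissible subsets are exactly the components of that decomposition, each of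
which lies in some Zₙ, and this containment is the part of the conclusion that uses the
uncountability of k.) -/
theorem result (k : Type u)
    [Field k] [IsAlgClosed k] [Uncountable k] (A : Over (Spec (CommRingCat.of k))) [GrpObj A]
    [IsProper A.hom] [GeometricallyIntegral A.hom]
    (K : Subgroup (𝟙_ (Over (Spec (CommRingCat.of k))) ⟶ A))
    (Z : ℕ → TopologicalSpace.Closeds ↥A.left)
    (hK : ∀ x : 𝟙_ (Over (Spec (CommRingCat.of k))) ⟶ A,
      x ∈ K ↔ Set.range ⇑x.left.base ⊆ ⋃ n, (Z n : Set ↥A.left)) :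
    (∃! T : TopologicalSpace.Closeds ↥A.left,
      Maximal (fun T : TopologicalSpace.Closeds ↥A.left => IsIrreducible (T : Set ↥A.left) ∧
        ∀ x : 𝟙_ (Over (Spec (CommRingCat.of k))) ⟶ A, Set.range ⇑x.left.base ⊆ (T : Set ↥A.left) → x ∈ K) T ∧
      Set.range ⇑(1 : 𝟙_ (Over (Spec (CommRingCat.of k))) ⟶ A).left.base ⊆ (T : Set ↥A.left)) ∧
    ∀ T : TopologicalSpace.Closeds ↥A.left,
      Maximal (fun T : TopologicalSpace.Closeds ↥A.left => IsIrreducible (T : Set ↥A.left) ∧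
        ∀ x : 𝟙_ (Over (Spec (CommRingCat.of k))) ⟶ A, Set.range ⇑x.left.base ⊆ (T : Set ↥A.left) → x ∈ K) T →
      Set.range ⇑(1 : 𝟙_ (Over (Spec (CommRingCat.of k))) ⟶ A).left.base ⊆ (T : Set ↥A.left) →
      (∃ n, (T : Set ↥A.left) ⊆ (Z n : Set ↥A.left)) ∧
      ∀ x y : 𝟙_ (Over (Spec (CommRingCat.of k))) ⟶ A,
        Set.range ⇑x.left.base ⊆ (T : Set ↥A.left) → Set.range ⇑y.left.base ⊆ (T : Set ↥A.left) →
        Set.range ⇑(x * y⁻¹).left.base ⊆ (T : Set ↥A.left) := by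
  have hmem : ∀ (x : 𝟙_ (Over (Spec (CommRingCat.of k))) ⟶ A) (T : Set ↥A.left),
      Set.range ⇑x.left.base ⊆ T ↔ GQuot15.ptv x ∈ T := fun x T =>
    ⟨fun h => h ⟨_, rfl⟩, by rintro h _ ⟨t, rfl⟩; rwa [GQuot15.apply_eq_ptv]⟩
  simp only [hmem] at hK ⊢
  exact main A K Z hK

end Groth.Agent.S16918
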