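import Groth.Statements.S16919
import Mathlib.FieldTheory.IsAlgClosed.AlgebraicClosure
import Mathlib.FieldTheory.IsAlgClosed.Classification
import Mathlib.RingTheory.FiniteStability
import Mathlib.RingTheory.Henselian
import Mathlib.RingTheory.RegularLocalRing.Defs
import Mathlib.RingTheory.SimpleRing.Principal
import Mathlib.Tactic

set_option linter.all false

set_option autoImplicit false
universe u
open TensorProduct
open CAlg

open scoped TensorProduct

namespace Groth.Agent.S16919

theorem exists_equiv_extending {k₀ R₀ L k : Type u} [Field k₀] [CommRing R₀] [Algebra k₀ R₀]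
    [Algebra.FiniteType k₀ R₀] [Field L] [IsAlgClosed L] [Field k] [IsAlgClosed k]
    [Algebra k₀ L] [Algebra k₀ k] (i₁ : R₀ →ₐ[k₀] L) (hi₁ : Function.Injective i₁)
    (i₂ : R₀ →ₐ[k₀] k) (hi₂ : Function.Injective i₂)
    (hinf : Cardinal.aleph0 ≤ Algebra.trdeg k₀ k) (hL : Algebra.trdeg k₀ L = Algebra.trdeg k₀ k) :
    ∃ e : L ≃+* k, ∀ r, e (i₁ r) = i₂ r := by
  classical
  have : IsDomain R₀ := hi₂.isDomain i₂.toRingHom
  let K₀ := FractionRing R₀
  let j₁ : K₀ →ₐ[k₀] L := IsFractionRing.liftAlgHom hi₁
  let j₂ : K₀ →ₐ[k₀] k := IsFractionRing.liftAlgHom hi₂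
  let : Algebra K₀ L := j₁.toRingHom.toAlgebra
  let : Algebra K₀ k := j₂.toRingHom.toAlgebra
  have : IsScalarTower k₀ K₀ L := IsScalarTower.of_algebraMap_eq fun x => (j₁.commutes x).symm
  have : IsScalarTower k₀ K₀ k := IsScalarTower.of_algebraMap_eq fun x => (j₂.commutes x).symm
  have hfin₀ : Algebra.trdeg k₀ K₀ < Cardinal.aleph0 := by
    have : Algebra.IsAlgebraic R₀ K₀ := IsLocalization.isAlgebraic K₀ (nonZeroDivisors R₀)
    have : FaithfulSMul R₀ K₀ := (faithfulSMul_iff_algebraMap_injective R₀ K₀).mpr (IsFractionRing.injective R₀ K₀)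
    have : FaithfulSMul k₀ R₀ := (faithfulSMul_iff_algebraMap_injective k₀ R₀).mpr (algebraMap k₀ R₀).injective
    rw [← trdeg_add_eq k₀ R₀ (A := K₀), trdeg_eq_zero (R := R₀) (A := K₀), add_zero]
    exact trdeg_lt_aleph0_of_finiteType
  have hκ₂ : Algebra.trdeg K₀ k = Algebra.trdeg k₀ k := by
    have h := trdeg_add_eq k₀ K₀ (A := k)
    exact Cardinal.eq_of_add_eq_of_aleph0_le h (hfin₀.trans_le hinf) hinf
  have hκ₁ : Algebra.trdeg K₀ L = Algebra.trdeg k₀ k := by
    have h := trdeg_add_eq k₀ K₀ (A := L)
    exact Cardinal.eq_of_add_eq_of_aleph0_le (h.trans hL) (hfin₀.trans_le hinf) hinf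
  obtain ⟨s, hs⟩ := exists_isTranscendenceBasis K₀ L
  obtain ⟨t, ht⟩ := exists_isTranscendenceBasis K₀ k
  obtain ⟨σ⟩ := Cardinal.eq.mp
    ((hs.cardinalMk_eq_trdeg.trans hκ₁).trans (ht.cardinalMk_eq_trdeg.trans hκ₂).symm)
  let A₁ := Algebra.adjoin K₀ (Set.range ((↑) : s → L))
  let A₂ := Algebra.adjoin K₀ (Set.range ((↑) : t → k))
  have := IsAlgClosed.isAlgClosure_of_transcendence_basis ((↑) : s → L) hs
  have := IsAlgClosed.isAlgClosure_of_transcendence_basis ((↑) : t → k) ht
  let E : A₁ ≃ₐ[K₀] A₂ :=
    hs.1.aevalEquiv.symm.trans ((MvPolynomial.renameEquiv K₀ σ).trans ht.1.aevalEquiv)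
  refine ⟨IsAlgClosure.equivOfEquiv L k E.toRingEquiv, fun r => ?_⟩
  have h1 : i₁ r = algebraMap A₁ L (algebraMap K₀ A₁ (algebraMap R₀ K₀ r)) :=
    (IsFractionRing.lift_algebraMap hi₁ r).symm
  rw [h1, IsAlgClosure.equivOfEquiv_algebraMap]
  show algebraMap A₂ k (E (algebraMap K₀ A₁ (algebraMap R₀ K₀ r))) = i₂ r
  rw [E.commutes]
  exact IsFractionRing.lift_algebraMap hi₂ r

theorem trdeg_algClosure_lt {k R : Type u} [Field k] [CommRing R] [IsDomain R] [Algebra k R]
    [Algebra.FiniteType k R] :
    Algebra.trdeg k (AlgebraicClosure (FractionRing R)) < Cardinal.aleph0 := by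
  have : Algebra.IsAlgebraic R (FractionRing R) :=
    IsLocalization.isAlgebraic (FractionRing R) (nonZeroDivisors R)
  have : Algebra.IsAlgebraic R (AlgebraicClosure (FractionRing R)) :=
    Algebra.IsAlgebraic.trans R (FractionRing R) _
  have : FaithfulSMul R (AlgebraicClosure (FractionRing R)) :=
    (faithfulSMul_iff_algebraMap_injective R _).mpr (by
      rw [IsScalarTower.algebraMap_eq R (FractionRing R)]
      exact (algebraMap (FractionRing R) _).injective.comp (IsFractionRing.injective R _))
  have : FaithfulSMul k R :=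
    (faithfulSMul_iff_algebraMap_injective k R).mpr (algebraMap k R).injective
  rw [← trdeg_add_eq k R (A := AlgebraicClosure (FractionRing R)), trdeg_eq_zero (R := R), add_zero]
  exact trdeg_lt_aleph0_of_finiteType

/-- Let k₀ → k be an extension of fields with k algebraically closed and of infinite transcendence
degree over k₀, R₀ a finitely generated k₀-algebra whose base change R = k ⊗ R₀ is an integral
domain (so Spec R is an integral affine k-scheme of finite type with the model Spec R₀ over k₀), and
P a k-point of Spec R, i.e. a k-algebra homomorphism ev : R → k, lying over the generic point of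
Spec R₀, i.e. with ev injective on R₀. Then there is a field isomorphism e from an algebraic closure
of the fraction field of R (the function field of Spec R) onto k such that e(1 ⊗ r) = ev(1 ⊗ r) for
every r in R₀: e extends evaluation at P on R₀. (The published setting has k algebraically closed of
characteristic zero and of infinite transcendence degree over its prime field, and k₀ the subfield
generated by the coefficients of equations of Spec R, which is finitely generated over the prime
field, so that k has infinite transcendence degree over k₀; only this last property and no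
characteristic assumption enter here. The isomorphism is not canonical.) -/
theorem result (k₀ k : Type u)
    [Field k₀] [Field k] [Algebra k₀ k] [IsAlgClosed k] (hinf : ∃ x : ℕ → k, AlgebraicIndependent k₀ x)
    (R₀ : Type u) [CommRing R₀] [Algebra k₀ R₀] [Algebra.FiniteType k₀ R₀] [IsDomain (k ⊗[k₀] R₀)]
    (ev : k ⊗[k₀] R₀ →ₐ[k] k) (hP : Function.Injective fun r : R₀ => ev (1 ⊗ₜ[k₀] r)) :
    ∃ e : AlgebraicClosure (FractionRing (k ⊗[k₀] R₀)) ≃+* k,
      ∀ r : R₀, e (algebraMap (k ⊗[k₀] R₀) (AlgebraicClosure (FractionRing (k ⊗[k₀] R₀)))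
        (1 ⊗ₜ[k₀] r)) = ev (1 ⊗ₜ[k₀] r) := by
  let R := k ⊗[k₀] R₀
  let L := AlgebraicClosure (FractionRing R)
  have hinfk : Cardinal.aleph0 ≤ Algebra.trdeg k₀ k := by
    obtain ⟨x, hx⟩ := hinf
    simpa using hx.lift_cardinalMk_le_trdeg
  have hκL : Algebra.trdeg k₀ L = Algebra.trdeg k₀ k := by
    rw [← trdeg_add_eq k₀ k (A := L)]
    exact Cardinal.add_eq_left hinfk ((trdeg_algClosure_lt (k := k) (R := R)).le.trans hinfk)
  have hRL : Function.Injective (algebraMap R L) := by
    rw [IsScalarTower.algebraMap_eq R (FractionRing R) L]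
    exact (algebraMap (FractionRing R) L).injective.comp (IsFractionRing.injective R _)
  exact exists_equiv_extending
    ((IsScalarTower.toAlgHom k₀ R L).comp Algebra.TensorProduct.includeRight)
    (hRL.comp fun a b h => hP (congrArg ev h))
    ((ev.restrictScalars k₀).comp Algebra.TensorProduct.includeRight) hP hinfk hκL

end Groth.Agent.S16919
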