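import Groth.Statements.S1692
import Mathlib

set_option autoImplicit false
universe u
open CategoryTheory CategoryTheory.Limits AlgebraicGeometry TopologicalSpace
open SDiv

namespace Groth.Agent.S1692

/-- Let X be a locally Noetherian integral scheme and f a nonzero rational function. Then the closures
of the codimension-one points at which f has nonzero order of vanishing form a locally finite family
of closed subsets of X. -/
theorem result (X : Scheme.{u}) [IsIntegral X] [IsLocallyNoetherian X] (f : ↑X.functionField) (hf : f ≠ 0) :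
    LocallyFinite (fun ξ : {ξ : ↥X // Order.coheight ξ = 1 ∧ Scheme.ord f ξ ≠ 0} => closure ({ξ.1} : Set ↥X)) := by
  obtain ⟨U, hU, f', hne, hgerm, hunit⟩ := exists_isUnit_germ_eq X f hf
  intro x
  obtain ⟨_, ⟨V, hV, rfl⟩, hxV, -⟩ :=
    X.isBasis_affineOpens.exists_subset_of_mem_open (Set.mem_univ x) isOpen_univ
  refine ⟨V, V.isOpen.mem_nhds hxV, ?_⟩
  haveI : IsNoetherianRing Γ(X, V) := IsLocallyNoetherian.component_noetherian ⟨V, hV⟩
  haveI : TopologicalSpace.NoetherianSpace (V : Set X) := noetherianSpace_of_isAffineOpen V hV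
  let W : Set (V : Set X) := Subtype.val ⁻¹' (U : Set X)ᶜ
  obtain ⟨S, hSfin, hSc, hSi, hSW⟩ :=
    TopologicalSpace.NoetherianSpace.exists_finite_set_isClosed_irreducible
      (U.isOpen.isClosed_compl.preimage continuous_subtype_val : IsClosed W)
  let G : Set X := {η | ∃ s ∈ S, IsGenericPoint η (closure (Subtype.val '' s))}
  have hG : G.Finite := by
    refine Set.Finite.subset (hSfin.biUnion (t := fun s => {η | IsGenericPoint η (closure (Subtype.val '' s))})
      fun s _ => Set.Subsingleton.finite fun a ha b hb => ha.eq hb) ?_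
    rintro η ⟨s, hs, h⟩
    exact Set.mem_biUnion hs h
  refine (hG.preimage Subtype.val_injective.injOn).subset ?_
  rintro ⟨ξ, hcoh, hord⟩ ⟨z, hz, hzV⟩
  change ξ ∈ G
  have hξV : ξ ∈ V := by
    obtain ⟨_, h1, rfl⟩ := mem_closure_iff.1 hz V V.isOpen hzV
    exact h1
  have hξU : ξ ∉ U := fun h => hord (by rw [← hgerm]; exact Scheme.ord_of_isUnit hunit h)
  have hξW : (⟨ξ, hξV⟩ : (V : Set X)) ∈ ⋃₀ S := hSW.subset hξU
  obtain ⟨s, hs, hξs⟩ := hξW
  have hsU : closure (Subtype.val '' s) ⊆ (U : Set X)ᶜ := by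
    refine closure_minimal ?_ U.isOpen.isClosed_compl
    rintro _ ⟨a, ha, rfl⟩
    exact hSW.symm.subset ⟨s, hs, ha⟩
  have hirr : IsIrreducible (closure (Subtype.val '' s : Set X)) :=
    ((hSi s hs).image _ continuous_subtype_val.continuousOn).closure
  obtain ⟨η, hη⟩ := QuasiSober.sober hirr isClosed_closure
  refine ⟨s, hs, ?_⟩
  have hle : ξ ≤ η := Scheme.le_iff_specializes.2 (hη.specializes (subset_closure ⟨⟨ξ, hξV⟩, hξs, rfl⟩))
  by_cases hge : η ≤ ξ
  · have heq : ξ = η := ((Scheme.le_iff_specializes.1 hge).antisymm (Scheme.le_iff_specializes.1 hle)).eq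
    rw [heq]; exact hη
  · exfalso
    have hηU : η ∉ U := hsU hη.mem
    obtain ⟨⟨g, hgU⟩⟩ := hne
    have hgenU : genericPoint X ∈ U :=
      (genericPoint_spec X).mem_open_set_iff U.isOpen |>.2 ⟨g, Set.mem_univ _, hgU⟩
    have h1 : ξ < η := lt_of_le_not_ge hle hge
    have h2 : η < genericPoint X := lt_of_le_not_ge
      (Scheme.le_iff_specializes.2 (genericPoint_specializes η))
      (fun h => hηU ((Scheme.le_iff_specializes.1 h).mem_open U.isOpen hgenU))
    have h3 := Order.coheight_add_one_le h1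
    have h4 := Order.coheight_add_one_le h2
    rw [hcoh] at h3
    have h6 : (2 : ℕ∞) ≤ 1 := by
      calc (2 : ℕ∞) = 0 + 1 + 1 := by norm_num
        _ ≤ Order.coheight η + 1 := by
          gcongr; exact le_trans (by gcongr; exact bot_le) h4
        _ ≤ 1 := h3
    exact absurd h6 (by norm_num)
end Groth.Agent.S1692
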