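import Groth.Statements.S1693
import Mathlib

set_option autoImplicit false
universe u
open CategoryTheory CategoryTheory.Limits AlgebraicGeometry TopologicalSpace
open SDiv

namespace Groth.Agent.S1693

/-- Let X be a locally Noetherian scheme and Z a closed subset. Then the irreducible components of Z
form a locally finite family of subsets of X. -/
theorem result (X : Scheme.{u}) [IsLocallyNoetherian X] (Z : Set ↥X) (hZ : IsClosed Z) :
    LocallyFinite (fun T : ↥(irreducibleComponents ↥Z) => ((↑) '' (T.1 : Set ↥Z) : Set ↥X)) := by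
  intro x
  obtain ⟨_, ⟨V, hV, rfl⟩, hxV, -⟩ :=
    X.isBasis_affineOpens.exists_subset_of_mem_open (Set.mem_univ x) isOpen_univ
  refine ⟨V, V.isOpen.mem_nhds hxV, ?_⟩
  haveI : IsNoetherianRing Γ(X, V) := IsLocallyNoetherian.component_noetherian ⟨V, hV⟩
  haveI : TopologicalSpace.NoetherianSpace (V : Set X) := noetherianSpace_of_isAffineOpen V hV
  let W : Set (V : Set X) := Subtype.val ⁻¹' Z
  obtain ⟨S, hSfin, hSc, hSi, hSW⟩ :=
    TopologicalSpace.NoetherianSpace.exists_finite_set_isClosed_irreducible (hZ.preimage continuous_subtype_val : IsClosed W)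
  let c : Set (V : Set X) → Set ↥Z := fun s => closure (Subtype.val ⁻¹' (Subtype.val '' s))
  refine ((hSfin.image c).preimage Subtype.val_injective.injOn).subset ?_
  rintro ⟨T, hT⟩ ⟨_, ⟨t, htT, rfl⟩, htV⟩
  change T ∈ c '' S
  have hopen : IsOpen (Subtype.val ⁻¹' (V : Set X) : Set ↥Z) := V.isOpen.preimage continuous_subtype_val
  have hTi : IsIrreducible T := hT.1
  have hTsub : T ⊆ closure (T ∩ Subtype.val ⁻¹' (V : Set X)) :=
    subset_closure_inter_of_isPreirreducible_of_isOpen hTi.2 hopen ⟨t, htT, htV⟩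
  have hTcov : T ⊆ ⋃₀ (c '' S) := by
    have hcl : IsClosed (⋃₀ (c '' S)) := by
      rw [Set.sUnion_eq_biUnion]
      exact (hSfin.image c).isClosed_biUnion fun s hs => by
        obtain ⟨a, -, rfl⟩ := hs; exact isClosed_closure
    refine hTsub.trans (closure_minimal ?_ hcl)
    rintro z ⟨-, hzV⟩
    have hzW : (⟨z.1, hzV⟩ : (V : Set X)) ∈ ⋃₀ S := hSW.subset z.2
    obtain ⟨s, hs, hzs⟩ := hzW
    exact ⟨c s, ⟨s, hs, rfl⟩, subset_closure ⟨_, hzs, rfl⟩⟩
  obtain ⟨Q, hQ, hTQ⟩ := isIrreducible_iff_sUnion_isClosed.1 hTi (hSfin.image c).toFinset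
    (fun z hz => by
      obtain ⟨a, -, rfl⟩ := (Set.Finite.mem_toFinset _).1 hz; exact isClosed_closure)
    (by simpa using hTcov)
  obtain ⟨s, hs, rfl⟩ := (Set.Finite.mem_toFinset _).1 hQ
  have hsW : ∀ a ∈ s, (a : X) ∈ Z := fun a ha => hSW.symm.subset ⟨s, hs, ha⟩
  have hci : IsIrreducible (c s) := by
    refine IsIrreducible.closure ?_
    have hirr : IsIrreducible (Subtype.val '' s : Set X) :=
      (hSi s hs).image _ continuous_subtype_val.continuousOn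
    obtain ⟨a, ha⟩ := (hSi s hs).1
    refine ⟨⟨⟨_, hsW a ha⟩, a, ha, rfl⟩, ?_⟩
    rintro U₁ U₂ hU₁ hU₂ ⟨z₁, hz₁, h₁⟩ ⟨z₂, hz₂, h₂⟩
    obtain ⟨O₁, hO₁, rfl⟩ := isOpen_induced_iff.1 hU₁
    obtain ⟨O₂, hO₂, rfl⟩ := isOpen_induced_iff.1 hU₂
    obtain ⟨_, ⟨b, hb, rfl⟩, hbO⟩ := hirr.2 O₁ O₂ hO₁ hO₂ ⟨_, hz₁, h₁⟩ ⟨_, hz₂, h₂⟩
    exact ⟨⟨_, hsW b hb⟩, ⟨b, hb, rfl⟩, hbO⟩
  exact ⟨s, hs, le_antisymm (hT.2 hci hTQ) hTQ⟩
end Groth.Agent.S1693
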