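import Groth.Statements.S16949
import Groth.Agent.CohExch.ChartMain

set_option autoImplicit false
universe u
open Coherent

namespace Groth.Agent.S16949

open AlgebraicGeometry CategoryTheory Scheme.Modules in
/-- In a general degree p, written p = q + 2 here: let π : X → Y be proper of finite presentation, F a
quasi-coherent O_X-module of finite presentation, flat over Y, and q a natural number. Suppose that
for every point y of Y the cohomology H^{q+2}(X_y, F|_{X_y}) of the restriction of F to the
scheme-theoretic fibre vanishes and the degree-q base change map of the fibre square at y, κ(y)^*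
R^q π_* F → R^q (X_y → Spec κ(y))_* (F|_{X_y}), is an epimorphism; here R^q is the q-th right
derived functor of direct image on O-modules and the base change map is the pinned one of the
structure GenBC, relative to pinned comparison data for π and for the fibre morphisms, given at
every point. Then R^{q+1} π_* F is finite locally free. (The source concludes local freeness; its
argument produces finite local freeness.) -/
theorem result
    {X Y : Scheme.{u}} (π : X ⟶ Y) [IsProper π] [LocallyOfFinitePresentation π]
    [HasInjectiveResolutions X.Modules] [∀ y : Y, HasInjectiveResolutions (π.fiber y).Modules]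
    (F : X.Modules) [Coh.IsQCoh F] (hfp : CohB1.IsFP F) (hfl : FlatMod.IsFlatOver π F) (q : ℕ)
    {Δ : RDer.DerivedLES (pushforward π)} (E : CohCmp.SectCmp π Δ)
    (Δy : ∀ y : Y, RDer.DerivedLES (pushforward (π.fiberToSpecResidueField y)))
    (Ey : ∀ y : Y, CohCmp.SectCmp (π.fiberToSpecResidueField y) (Δy y))
    (By : ∀ y : Y, CohCmp.GenBC π (Y.fromSpecResidueField y) (π.fiberToSpecResidueField y) (π.fiberι y) (π.fiber_fac y) E (Ey y))
    (hq2 : ∀ y : Y, Subsingleton (CohIII.fiberH π F y (q + 2)))
    (hq : ∀ y : Y, Epi ((By y).bc q F)) :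
    FlatMod.IsFinLocFree ((Coh.Rpush π (q + 1)).obj F) := by
  intro y
  obtain ⟨C₁, h₁, -, -, hf₁, -⟩ :=
    Groth.Agent.CohExch.exists_zero_chart hfp hfl (V := ⊤) (s := y) trivial (q + 2) (hq2 y)
  obtain ⟨C₂, h₂, -, hf₂, hm⟩ := C₁.exists_flat_of_epi hfl (By y) h₁ q (hq y)
  refine C₂.exists_trivial_nhd (q + 1) (hm _ ?_) ?_ h₂
  · rwa [show ((q + 1 : ℕ) : ℤ) = ((q + 2 : ℕ) : ℤ) - 1 by omega]
  · rwa [show ((q + 1 : ℕ) : ℤ) - 1 = (q : ℤ) by omega]

end Groth.Agent.S16949
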