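import Groth.Statements.S16951
import Groth.Agent.FlatMor12.Cube.Seesaw
import Groth.Agent.FlatMor12.Cube.VectorSeesaw
import Groth.Agent.NeronLib.RigidProduct
-- import your own Groth.Agent.* helpers here

set_option autoImplicit false
universe u
open PicF

namespace Groth.Agent.S16951

section
open AlgebraicGeometry CategoryTheory CategoryTheory.Limits Groth.Agent.PicLib Groth.Agent.CubeLib
  Groth.Agent.FlatMor12.Cube Groth.Agent.Coherent

/-- The properties of a module pulled back from an invertible module on the base. -/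
theorem of_pull {X S : Scheme.{u}} (f : X ⟶ S) [IsProper f] [Flat f] [LocallyOfFinitePresentation f]
    [GeometricallyIntegral f]
    (hy : ∀ s : S, Function.Bijective (algebraMap (S.residueField s) Γ(f.fiber s, ⊤)))
    {N : X.Modules} (hN : PicF.IsInvertible N) {b : PicM S} (hb : PicM.pull f b = PicM.of hN) (s : S) :
    Nontrivial (CohIII.fiberH f N s 0) ∧
      Epi (CohBC.bc0 f (S.fromSpecResidueField s) (f.fiberToSpecResidueField s) (f.fiberι s) (f.fiber_fac s) N) := by
  haveI : GeometricallyConnected f := NeronLib.geometricallyConnected_of_irreducible f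
  obtain ⟨N₀, hN₀, rfl⟩ := PicM.exists_eq_of b
  have h1 : PicM.pull (f.fiberι s) (PicM.of hN) = 1 := hb ▸ fibre_eq_one_of_pull _ s
  rw [PicM.pull_of] at h1
  obtain ⟨a, ha⟩ := exists_ne_zero_of_eq_one h1
  refine ⟨⟨⟨(h0 _).symm a, 0, fun h => ha ((h0 _).symm.injective (h.trans (map_zero _).symm))⟩⟩, ?_⟩
  rw [PicM.pull_of, PicM.of_eq_iff] at hb
  obtain ⟨e⟩ := hb
  haveI := VectorSeesaw.isIso_bc0_of_eq_pull (f.fiber_fac s)
    (fun V => haveI := isIso_app_of_scalar f hy V; ConcreteCategory.bijective_of_isIso (f.app V))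
    (VectorSeesaw.bijective_app f (IsPullback.of_hasPullback f (S.fromSpecResidueField s)))
    (M := N₀) (fun x => let ⟨U, hx, e⟩ := isFinLocFreeOfRank_one hN₀ x; ⟨U, 1, hx, e⟩) e
  infer_instance

end

open AlgebraicGeometry CategoryTheory Scheme.Modules Groth.Agent.PicLib Groth.Agent.CubeLib Groth.Agent.FlatMor12.Cube Groth.Agent.Coherent in
/-- Let f : X → S be a proper flat morphism of locally Noetherian schemes whose fibres are geometrically
integral, and let L be an invertible O_X-module with an inverse M (an isomorphism L ⊗ M ≅ O_X). Then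
the following are equivalent: (a) L ≅ f^* L₀ for some invertible O_S-module L₀; (b) for N = L and
for N = M, at every point s of S the space H^0(X_s, N|_{X_s}) of sections over the scheme-theoretic
fibre is nonzero and the degree-0 base change map of the fibre square, κ(s)^* f_* N → (X_s → Spec
κ(s))_* (N|_{X_s}), is an epimorphism. When this holds, dim_{κ(s)} H^0(X_s, N|_{X_s}) = 1 for every
s and both N, the counit f^* f_* L → L is an isomorphism, and any invertible L₀ with L ≅ f^* L₀ is
isomorphic to f_* L. -/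
theorem result
    {X S : Scheme.{u}} (f : X ⟶ S) [IsProper f] [Flat f] [IsLocallyNoetherian X] [IsLocallyNoetherian S]
    [GeometricallyIntegral f] (L M : X.Modules) (hL : PicF.IsInvertible L)
    (hM : Nonempty (CohB1.tensorMod L M ≅ Coh.structureModule X)) :
    ((∃ L₀ : S.Modules, PicF.IsInvertible L₀ ∧ Nonempty (L ≅ (pullback f).obj L₀)) ↔
      ((∀ s : S, Nontrivial (CohIII.fiberH f L s 0)) ∧ (∀ s : S, Nontrivial (CohIII.fiberH f M s 0)) ∧
        (∀ s : S, Epi (CohBC.bc0 f (S.fromSpecResidueField s) (f.fiberToSpecResidueField s) (f.fiberι s) (f.fiber_fac s) L)) ∧ (∀ s : S, Epi (CohBC.bc0 f (S.fromSpecResidueField s) (f.fiberToSpecResidueField s) (f.fiberι s) (f.fiber_fac s) M)))) ∧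
    (((∀ s : S, Nontrivial (CohIII.fiberH f L s 0)) ∧ (∀ s : S, Nontrivial (CohIII.fiberH f M s 0)) ∧
        (∀ s : S, Epi (CohBC.bc0 f (S.fromSpecResidueField s) (f.fiberToSpecResidueField s) (f.fiberι s) (f.fiber_fac s) L)) ∧ (∀ s : S, Epi (CohBC.bc0 f (S.fromSpecResidueField s) (f.fiberToSpecResidueField s) (f.fiberι s) (f.fiber_fac s) M))) →
      (∀ s : S, CohIII.fiberRank f L 0 s = 1 ∧ CohIII.fiberRank f M 0 s = 1) ∧
      IsIso ((pullbackPushforwardAdjunction f).counit.app L) ∧
      ∀ L₀ : S.Modules, PicF.IsInvertible L₀ → Nonempty (L ≅ (pullback f).obj L₀) →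
        Nonempty (L₀ ≅ (pushforward f).obj L)) := by
  obtain ⟨hLM⟩ := hM
  haveI : LocallyOfFinitePresentation f := inferInstance
  haveI : GeometricallyConnected f := NeronLib.geometricallyConnected_of_irreducible f
  have hMi : PicF.IsInvertible M := PicM.isInvertible_of_tensor hL fun y => by
    obtain ⟨U, hy, ⟨e⟩⟩ := (AmpleLib.isInvertible_structureModule (X := X)) y
    exact ⟨U, hy, ⟨(restrictFunctor U.ι).mapIso hLM ≪≫ e⟩⟩
  have hmul : PicM.of hL * PicM.of hMi = 1 := by
    rw [PicM.of_mul]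
    exact (PicM.of_eq_one_iff _).2 ⟨hLM⟩
  have hy : ∀ s : S, Function.Bijective (algebraMap (S.residueField s) Γ(f.fiber s, ⊤)) :=
    CubeLib.bijective_algebraMap_fibre f
  have hπ : ∀ V : S.Opens, Function.Bijective (f.app V) := fun V =>
    haveI := isIso_app_of_scalar f hy V
    ConcreteCategory.bijective_of_isIso (f.app V)
  have hback : ((∀ s : S, Nontrivial (CohIII.fiberH f L s 0)) ∧ (∀ s : S, Nontrivial (CohIII.fiberH f M s 0)) ∧
      (∀ s : S, Epi (CohBC.bc0 f (S.fromSpecResidueField s) (f.fiberToSpecResidueField s) (f.fiberι s) (f.fiber_fac s) L)) ∧ (∀ s : S, Epi (CohBC.bc0 f (S.fromSpecResidueField s) (f.fiberToSpecResidueField s) (f.fiberι s) (f.fiber_fac s) M))) →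
      (∀ s : S, CohIII.fiberRank f L 0 s = 1 ∧ CohIII.fiberRank f M 0 s = 1) ∧
      PicF.IsInvertible ((pushforward f).obj L) ∧ IsIso ((pullbackPushforwardAdjunction f).counit.app L) := by
    rintro ⟨h1, h2, h3, -⟩
    have htriv : ∀ s : S, PicM.pull (f.fiberι s) (PicM.of hL) = 1 := fun s => by
      haveI : IsProper (f.fiberToSpecResidueField s) :=
        MorphismProperty.pullback_snd (P := @IsProper) _ _ inferInstance
      have hsec : ∀ {N : X.Modules}, Nontrivial (CohIII.fiberH f N s 0) →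
          ∃ a : Γ(CohIII.fiberMod f N s, ⊤), a ≠ 0 := fun {N} hN => by
        by_contra hc
        push Not at hc
        haveI := subsingleton_of_forall_eq (0 : Γ(CohIII.fiberMod f N s, ⊤)) hc
        exact not_subsingleton _ (h0 (CohIII.fiberMod f N s)).toEquiv.subsingleton
      obtain ⟨a, ha⟩ := hsec (h1 s)
      obtain ⟨c, hc⟩ := hsec (h2 s)
      rw [PicM.pull_of]
      refine eq_one_of_sections (K := S.residueField s) (f.fiberToSpecResidueField s) _
        (PicLoc.isInvertible_pullback (f.fiberι s) hMi) ?_ ha hc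
      have := congrArg (PicM.pull (f.fiberι s)) hmul
      rwa [map_mul, map_one, PicM.pull_of, PicM.pull_of] at this
    have htrivM : ∀ s : S, PicM.pull (f.fiberι s) (PicM.of hMi) = 1 := fun s => by
      have := congrArg (PicM.pull (f.fiberι s)) hmul
      rwa [map_mul, map_one, htriv, one_mul] at this
    haveI := H8Coh.FibreAmple.isQCoh_of_invertible hL
    obtain ⟨hN, hc⟩ := isInvertible_push_and_isIso_counit (f := f) (L := L) fun s => by
      obtain ⟨C, hC, -⟩ := CohExch.exists_chart (H8Coh.FibreAmple.isFP_of_invertible hL)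
        (CohBC.isFlatOver_of_isFinLocFree f fun x =>
          let ⟨U, hx, e⟩ := isFinLocFreeOfRank_one hL x
          ⟨U, 1, hx, e⟩) (V := ⊤) (s := s) trivial
      obtain ⟨C', hC', -, hflat, -⟩ := C.exists_flat_of_epi0 (CohBC.isFlatOver_of_isFinLocFree f fun x =>
          let ⟨U, hx, e⟩ := isFinLocFreeOfRank_one hL x
          ⟨U, 1, hx, e⟩) (h3 s) hC
      obtain ⟨U, hsU, t, ht⟩ := exists_gen_of_chart f hy hL s (htriv s) C' hC' hflat
      exact ⟨U, hsU, fun V _ => isIso_app_of_scalar f hy V, t, ht⟩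
    exact ⟨fun s => ⟨fiberRank_eq_one (hy s) (htriv s), fiberRank_eq_one (hy s) (htrivM s)⟩, hN, hc⟩
  refine ⟨⟨?_, fun h => ?_⟩, fun h => ?_⟩
  · rintro ⟨L₀, hL₀, ⟨e⟩⟩
    have hb : PicM.pull f (PicM.of hL₀) = PicM.of hL := by
      rw [PicM.pull_of]
      exact (PicM.of_eq_iff _ _).2 ⟨e.symm⟩
    obtain ⟨b, hbb⟩ := PicM.exists_mul_eq_one (PicM.of hL₀)
    have hb' : PicM.pull f b = PicM.of hMi := by
      refine mul_left_cancel (a := PicM.of hL) ?_
      rw [hmul, ← hb, ← map_mul, hbb, map_one]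
    exact ⟨fun s => (of_pull f hy hL hb s).1, fun s => (of_pull f hy hMi hb' s).1,
      fun s => (of_pull f hy hL hb s).2, fun s => (of_pull f hy hMi hb' s).2⟩
  · obtain ⟨-, hN, hc⟩ := hback h
    exact ⟨_, hN, ⟨(asIso ((pullbackPushforwardAdjunction f).counit.app L)).symm⟩⟩
  · obtain ⟨hr, -, hc⟩ := hback h
    refine ⟨hr, hc, fun L₀ hL₀ e => ?_⟩
    obtain ⟨e⟩ := e
    exact ⟨VectorSeesaw.pushIso hπ (fun x => let ⟨U, hx, e⟩ := isFinLocFreeOfRank_one hL₀ x; ⟨U, 1, hx, e⟩) e.symm⟩

end Groth.Agent.S16951
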