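import Groth.Statements.S16962
import Mathlib.RingTheory.TensorProduct.Maps

set_option autoImplicit false
universe u
open ConstAct

namespace Groth.Agent.S16962

open scoped TensorProduct

/-- The `g`-coefficient of an element of `B ⊗ F`. -/
noncomputable def coef (R : Type u) [CommRing R] (B : Type u) [CommRing B] [Algebra R B]
    (Γ : Type u) (g : Γ) : B ⊗[R] ConstGrp.F R Γ →ₐ[R] B :=
  (Algebra.TensorProduct.rid R R B).toAlgHom.comp
    (Algebra.TensorProduct.map (AlgHom.id R B) (ConstGrp.ev R g))

theorem coef_tmul (R : Type u) [CommRing R] (B : Type u) [CommRing B] [Algebra R B]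
    (Γ : Type u) (g : Γ) (b : B) (f : ConstGrp.F R Γ) : coef R B Γ g (b ⊗ₜ[R] f) = f g • b := by
  simp [coef]

theorem sum_coef (R : Type u) [CommRing R] (B : Type u) [CommRing B] [Algebra R B]
    (Γ : Type u) [Fintype Γ] [DecidableEq Γ] (t : B ⊗[R] ConstGrp.F R Γ) :
    ∑ g : Γ, coef R B Γ g t ⊗ₜ[R] ConstGrp.e R g = t := by
  induction t using TensorProduct.induction_on with
  | zero => simp
  | tmul b f =>
    simp only [coef_tmul, TensorProduct.smul_tmul, ← TensorProduct.tmul_sum, ← ConstGrp.eq_sum_smul_e]
  | add x y hx hy => simp [TensorProduct.add_tmul, Finset.sum_add_distrib, hx, hy]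

theorem eq_of_coef (R : Type u) [CommRing R] (B : Type u) [CommRing B] [Algebra R B]
    (Γ : Type u) [Fintype Γ] [DecidableEq Γ] (f : Γ → B) (g : Γ) :
    coef R B Γ g (∑ h : Γ, f h ⊗ₜ[R] ConstGrp.e R h) = f g := by
  simp [coef_tmul, ConstGrp.e_apply, ite_smul]

open TensorProduct in
/-- Let R be a commutative ring, Γ a finite group and B a commutative R-algebra equipped with a comodule
structure over the Hopf algebra of R-valued functions on Γ (the coordinate ring of the constant
group scheme of Γ over Spec R, with basis the indicator functions e_γ) whose coaction B → B ⊗ Fun(Γ,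
R) is a homomorphism of algebras, i.e. an action of the constant group scheme on Spec B. Then there
is exactly one action of Γ on B by R-algebra automorphisms whose associated coaction b ↦ Σ_γ (γ · b)
⊗ e_γ is the given coaction; and for that action the ring of invariants of the comodule algebra (the
b whose coaction is b ⊗ 1) equals the ring of elements fixed by Γ. (That the coaction associated
with an action is a comodule algebra structure is the other direction of the published equivalence
and is a construction here.) -/
theorem result (R : Type u) [CommRing R]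
    (B : Type u) [CommRing B] [Algebra R B] (Γ : Type u) [Group Γ] [Fintype Γ] [DecidableEq Γ]
    [HopfRep.Comod R (ConstGrp.F R Γ) B] [GLin.IsCoactAlg R (ConstGrp.F R Γ) B] :
    ∃! a : MulSemiringAction Γ B, ∃ _ : SMulCommClass Γ R B,
      ConstAct.coactLin R B Γ = HopfRep.Comod.coact (k := R) (A := ConstGrp.F R Γ) (V := B) ∧
        GLin.invariants R (ConstGrp.F R Γ) B = ConstAct.inv R B Γ := by
  classical
  let π : Γ → (B →ₐ[R] B) := fun g => (coef R B Γ g).comp (GLin.coactAlgHom R (ConstGrp.F R Γ) B)
  have hρ : ∀ a : B, HopfRep.Comod.coact (k := R) (A := ConstGrp.F R Γ) a =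
      ∑ g : Γ, π g a ⊗ₜ[R] ConstGrp.e R g := fun a => (sum_coef R B Γ _).symm
  have hone : ∀ a : B, π 1 a = a := by
    intro a
    have h := LinearMap.congr_fun (HopfRep.Comod.counit_comp (k := R) (A := ConstGrp.F R Γ) (V := B)) a
    simp only [LinearMap.comp_apply, hρ, map_sum, LinearMap.lTensor_tmul, ConstGrp.counit_e,
      TensorProduct.tmul_ite, Finset.sum_ite_eq, Finset.mem_univ, if_true, LinearMap.flip_apply,
      TensorProduct.mk_apply] at h
    simpa using congrArg (TensorProduct.rid R B) h
  have hmul : ∀ (g h : Γ) (a : B), π g (π h a) = π (g * h) a := by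
    intro g h a
    have hc := LinearMap.congr_fun (HopfRep.Comod.coassoc (k := R) (A := ConstGrp.F R Γ) (V := B)) a
    simp only [LinearMap.comp_apply] at hc
    rw [hρ a] at hc
    simp only [map_sum, LinearMap.rTensor_tmul, LinearMap.lTensor_tmul, ConstGrp.comul_e] at hc
    simp only [hρ, TensorProduct.sum_tmul, map_sum, LinearEquiv.coe_coe, TensorProduct.assoc_tmul,
      TensorProduct.tmul_sum] at hc
    let E : ConstGrp.F R Γ ⊗[R] ConstGrp.F R Γ →ₗ[R] R :=
      LinearMap.mul' R R ∘ₗ TensorProduct.map (ConstGrp.ev R g).toLinearMap (ConstGrp.ev R h).toLinearMap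
    have := congrArg (fun t => TensorProduct.rid R B (E.lTensor B t)) hc
    simp [E, map_sum, ConstGrp.e_apply, ite_smul, eq_inv_mul_iff_mul_eq, mul_comm] at this
    rw [Finset.sum_comm] at this
    simpa using this
  let a₀ : MulSemiringAction Γ B :=
    { smul := fun g b => π g b
      one_smul := hone
      mul_smul := fun g h b => (hmul g h b).symm
      smul_zero := fun g => map_zero (π g)
      smul_add := fun g => map_add (π g)
      smul_one := fun g => map_one (π g)
      smul_mul := fun g => map_mul (π g) }
  have hcomm : @SMulCommClass Γ R B a₀.toSMul _ := ⟨fun g r b => map_smul (π g) r b⟩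
  refine ⟨a₀, ⟨hcomm, ?_, ?_⟩, ?_⟩
  · apply LinearMap.ext
    intro b
    rw [ConstAct.coactLin_apply, hρ]
    rfl
  · ext b
    change HopfRep.Comod.coact (k := R) (A := ConstGrp.F R Γ) b = b ⊗ₜ[R] (1 : ConstGrp.F R Γ) ↔ ∀ g : Γ, π g b = b
    constructor
    · intro hb g
      change coef R B Γ g (HopfRep.Comod.coact b) = b
      rw [hb, coef_tmul, ConstGrp.one_apply, one_smul]
    · intro hb
      rw [hρ b]
      simp only [hb, ← TensorProduct.tmul_sum, ConstGrp.sum_e]
  · rintro a ⟨hca, h1, -⟩
    have key : ∀ (g : Γ) (b : B), g • b = π g b := by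
      intro g b
      have hb := LinearMap.congr_fun h1 b
      rw [ConstAct.coactLin_apply] at hb
      change _ = coef R B Γ g (HopfRep.Comod.coact b)
      rw [← hb, eq_of_coef]
    obtain @⟨@⟨@⟨@⟨⟨sm⟩, _⟩, _⟩, _, _⟩, _, _⟩ := a
    have hsm : sm = fun g b => π g b := funext fun g => funext fun b => key g b
    subst hsm
    rfl

end Groth.Agent.S16962
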