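import Groth.Statements.S16963
import Groth.Agent.RootDat.Weyl

set_option autoImplicit false
universe u
open scoped BigOperators
open ConstAct

namespace Groth.Agent.S16963

open scoped TensorProduct in
theorem coef_eq (R : Type u) [CommRing R] (B : Type u) [CommRing B] [Algebra R B]
    (Γ : Type u) [Fintype Γ] [DecidableEq Γ] {f f' : Γ → B}
    (h : ∑ g : Γ, f g ⊗ₜ[R] ConstGrp.e R g = ∑ g : Γ, f' g ⊗ₜ[R] ConstGrp.e R g) (g : Γ) : f g = f' g := by
  have := congrArg (fun t => TensorProduct.rid R B ((ConstGrp.ev R g).toLinearMap.lTensor B t)) h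
  simpa [map_sum, ConstGrp.e_apply, ite_smul] using this

open TensorProduct in
/-- Let R be a commutative ring and Γ a finite group acting on a commutative R-algebra B by R-algebra
automorphisms; regard B as a comodule algebra over the Hopf algebra of R-valued functions on Γ (the
constant group scheme of Γ acting on Spec B) through the coaction b ↦ Σ_γ (γ · b) ⊗ e_γ. Then the
action is tame — there is a comodule map α from the Hopf algebra, with its regular coaction, to B
with α(1) = 1 (a total integral) — if and only if the trace b ↦ Σ_γ γ · b, which takes values in the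
ring of invariants B^Γ, maps B onto B^Γ. -/
theorem result (R : Type u) [CommRing R]
    (B : Type u) [CommRing B] [Algebra R B] (Γ : Type u) [Group Γ] [Fintype Γ] [DecidableEq Γ]
    [MulSemiringAction Γ B] [SMulCommClass Γ R B] :
    letI := ConstAct.comod R B Γ
    (∃ α : ConstGrp.F R Γ →ₗ[R] B, Hoch.IsComodHom (ConstGrp.F R Γ) α ∧ α 1 = 1) ↔
      ∀ c : B, c ∈ ConstAct.inv R B Γ → ∃ b : B, ∑ γ : Γ, γ • b = c := by
  classical
  letI := ConstAct.comod R B Γ
  constructor
  · rintro ⟨α, hα, h1⟩ c hc
    have key : ∀ k : Γ, k • α (ConstGrp.e R 1) = α (ConstGrp.e R k⁻¹) := by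
      intro k
      have h := LinearMap.congr_fun hα (ConstGrp.e R 1)
      simp only [LinearMap.comp_apply] at h
      erw [ConstAct.coactLin_apply] at h
      change _ = α.rTensor _ (Coalgebra.comul (R := R) (ConstGrp.e R (1 : Γ))) at h
      rw [ConstGrp.comul_e, map_sum] at h
      simp only [LinearMap.rTensor_tmul, mul_one] at h
      have h' : ∑ a : Γ, α (ConstGrp.e R a) ⊗ₜ[R] ConstGrp.e R a⁻¹ =
          ∑ a : Γ, α (ConstGrp.e R a⁻¹) ⊗ₜ[R] ConstGrp.e R a :=
        Fintype.sum_equiv (Equiv.inv Γ) _ _ (fun a => by simp)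
      rw [h'] at h
      exact coef_eq R B Γ h k
    refine ⟨α (ConstGrp.e R 1) * c, ?_⟩
    simp only [smul_mul', (ConstAct.mem_inv R B Γ c).mp hc, key, ← Finset.sum_mul]
    rw [← map_sum, Fintype.sum_equiv (Equiv.inv Γ) (fun g => ConstGrp.e R g⁻¹) (fun g => ConstGrp.e R g)
      (fun g => rfl), ConstGrp.sum_e, h1, one_mul]
  · intro h
    obtain ⟨b, hb⟩ := h 1 (one_mem _)
    refine ⟨(ConstGrp.basis R Γ).constr R (fun g => g⁻¹ • b), ?_, ?_⟩
    · refine ConstGrp.linearMap_ext fun g => ?_
      simp only [LinearMap.comp_apply]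
      erw [ConstAct.coactLin_apply]
      change _ = LinearMap.rTensor _ _ (Coalgebra.comul (R := R) (ConstGrp.e R g))
      rw [ConstGrp.comul_e, map_sum]
      simp only [LinearMap.rTensor_tmul, ← ConstGrp.basis_apply, Module.Basis.constr_basis]
      refine Fintype.sum_equiv ((Equiv.inv Γ).trans (Equiv.mulLeft g)) _ _ fun k => ?_
      simp [smul_smul, mul_assoc]
    · conv_lhs => rw [← ConstGrp.sum_e (R := R) (G := Γ)]
      simp only [map_sum, ← ConstGrp.basis_apply, Module.Basis.constr_basis]
      rw [← hb]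
      exact Fintype.sum_equiv (Equiv.inv Γ) _ _ fun g => rfl

end Groth.Agent.S16963
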