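import Groth.Statements.S16966
import Groth.Agent.Clifford24.Sub

set_option autoImplicit false
universe u
open CategoryTheory CategoryTheory.Limits AlgebraicGeometry Opposite
open Curves

namespace Groth.Agent.S16966

/-- Let X be a smooth projective curve over an algebraically closed field k of characteristic 0 (an
integral scheme, proper over k, of dimension one, with all local rings regular), of genus g ≥ 1, and
L an invertible O_X-module with deg L > 2g. Then the morphism to projective space given by the
complete linear system of L is linearly stable, stated through the criterion by invertible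
subsheaves: for every invertible module M and every monomorphism ι : M ⟶ L that is not an
isomorphism, with dim_k H^0(X, M) ≥ 2, one has deg L · (h^0(M) - 1) < deg M · (h^0(L) - 1), i.e. the
reduced degree deg M / (h^0(M) - 1) of the projection exceeds the reduced degree deg L / (h^0(L) -
1). Degrees are χ(·) - χ(O_X). -/
theorem result (k : Type u) [Field k] [IsAlgClosed k] [CharZero k] (X : Scheme.{u}) [X.Over (Spec (CommRingCat.of k))]
    [IsIntegral X] [IsProper (X ↘ (Spec (CommRingCat.of k)))] (hdim : topologicalKrullDim X = 1)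
    (hreg : ∀ x : X, IsRegularLocalRing (X.presheaf.stalk x))
    (hg : 1 ≤ Curv2.genus k X) (L : X.Modules) (hL : PicF.IsInvertible L)
    (hdeg : 2 * (Curv2.genus k X : ℤ) < Curv2.deg k X L 1)
    (M : X.Modules) (hM : PicF.IsInvertible M) (ι : M ⟶ L) [Mono ι] (hι : ¬ IsIso ι)
    (h2 : 2 ≤ Module.finrank k (Coh.HH X M 0)) :
    Curv2.deg k X L 1 * ((Module.finrank k (Coh.HH X M 0) : ℤ) - 1) <
      Curv2.deg k X M 1 * ((Module.finrank k (Coh.HH X L 0) : ℤ) - 1) := by
  obtain ⟨_, _⟩ := Groth.Agent.Clifford24.smooth_geomIntegral_of_regular k hreg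
  haveI := Groth.Agent.EulerLib.isNoetherian_of_proper k (X := X)
  have hnt : Nontrivial (Coh.HH X M 0) := Module.nontrivial_of_finrank_pos (R := k) (by omega)
  have hι0 : ι ≠ 0 := fun h0 => by
    obtain ⟨s, hs⟩ := Groth.Agent.CurveRR24.exists_ne_zero_of_nontrivial k hnt
    subst h0
    refine hs (Groth.Agent.Coherent.app_injective_of_mono (0 : M ⟶ L) ⊤ ?_)
    simp
  have hlt := Groth.Agent.Clifford24.deg_lt_of_hom k hdim hM hL ι hι0 hι
  have hh := Groth.Agent.Clifford24.h0_eq_of_deg k hdim hL (by omega)
  obtain ⟨-, -, hle⟩ := Groth.Agent.CurveRR24.deg_nonneg_of_section k hdim.le hM hnt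
  rw [Groth.Agent.CurveRR24.h0_structure_of_geomIntegral k] at hle
  have h2' : (2 : ℤ) ≤ Module.finrank k (Coh.HH X M 0) := by exact_mod_cast h2
  have hg' : (1 : ℤ) ≤ Curv2.genus k X := by exact_mod_cast hg
  rw [hh]
  rcases Groth.Agent.Clifford24.nonspecial_or_clifford k hdim hM hnt with h | h
  · rw [h]; nlinarith
  · nlinarith

end Groth.Agent.S16966
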