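import Groth.Statements.S16967
import Groth.Agent.Clifford24.EqualityMain

set_option autoImplicit false
universe u
open CategoryTheory CategoryTheory.Limits AlgebraicGeometry Opposite
open Curves

namespace Groth.Agent.S16967

/-- Let X be a smooth projective curve over an algebraically closed field k of characteristic 0
(integral, proper over k, of dimension one, all local rings regular) of genus g ≥ 3 that is not
hyperelliptic: there is no invertible module of degree 2 with two k-linearly independent global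
sections. Then the canonical morphism of X is linearly stable, stated through the criterion by
invertible subsheaves: for every invertible module M and every monomorphism ι : M ⟶ Ω_{X/k} which is
not an isomorphism, with dim_k H^0(X, M) ≥ 2, one has deg Ω_{X/k} · (h^0(M) - 1) < deg M ·
(h^0(Ω_{X/k}) - 1). Degrees are χ(·) - χ(O_X). -/
theorem result (k : Type u) [Field k] [IsAlgClosed k] [CharZero k] (X : Scheme.{u}) [X.Over (Spec (CommRingCat.of k))]
    [IsIntegral X] [IsProper (X ↘ (Spec (CommRingCat.of k)))] (hdim : topologicalKrullDim X = 1)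
    (hreg : ∀ x : X, IsRegularLocalRing (X.presheaf.stalk x))
    (hg : 3 ≤ Curv2.genus k X)
    (hnh : ¬ ∃ (N : X.Modules) (t : Fin 2 → LinSer.Sect X N), LinSer.IsLinSer k X N 2 1 t)
    (M : X.Modules) (hM : PicF.IsInvertible M) (ι : M ⟶ Omega.sheaf (X ↘ (Spec (CommRingCat.of k)))) [Mono ι] (hι : ¬ IsIso ι)
    (h2 : 2 ≤ Module.finrank k (Coh.HH X M 0)) :
    Curv2.deg k X (Omega.sheaf (X ↘ (Spec (CommRingCat.of k)))) 1 * ((Module.finrank k (Coh.HH X M 0) : ℤ) - 1) <
      Curv2.deg k X M 1 * ((Module.finrank k (Coh.HH X (Omega.sheaf (X ↘ (Spec (CommRingCat.of k)))) 0) : ℤ) - 1) := by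
  obtain ⟨_, _⟩ := Groth.Agent.Clifford24.smooth_geomIntegral_of_regular k hreg
  haveI := Groth.Agent.EulerLib.isNoetherian_of_proper k (X := X)
  have hΩ := Groth.Agent.OmegaDual24.isInvertible_omega (k := k) (X := X) hdim
  have hdΩ := Groth.Agent.OmegaDual24.deg_omega k hdim (X := X)
  have hgΩ := (Groth.Agent.OmegaDual24.finrank_omega k hdim (X := X)).1
  have hnt : Nontrivial (Coh.HH X M 0) := Module.nontrivial_of_finrank_pos (R := k) (by omega)
  have hι0 : ι ≠ 0 := fun h0 => by
    obtain ⟨s, hs⟩ := Groth.Agent.CurveRR24.exists_ne_zero_of_nontrivial k hnt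
    subst h0
    refine hs (Groth.Agent.Coherent.app_injective_of_mono
      (0 : M ⟶ Omega.sheaf (X ↘ Spec (CommRingCat.of k))) ⊤ ?_)
    simp
  have hlt := Groth.Agent.Clifford24.deg_lt_of_hom k hdim hM hΩ ι hι0 hι
  obtain ⟨N, hN, ⟨e⟩⟩ := Groth.Agent.CurveRR24.exists_inverse k hM
  obtain ⟨hfin, hhom⟩ := Groth.Agent.Clifford24.hom_equiv_h0 k hM hΩ hN e
  haveI := hfin
  have hsp : Nontrivial (Coh.HH X (CohB1.tensorMod (Omega.sheaf (X ↘ Spec (CommRingCat.of k))) N) 0) :=
    Module.nontrivial_of_finrank_pos (R := k) (by rw [← hhom]; exact Module.finrank_pos_iff_exists_ne_zero.2 ⟨ι, hι0⟩)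
  have hc := Groth.Agent.Clifford24.clifford k hdim hM hN e hnt hsp
  have hne : 2 * (Module.finrank k (Coh.HH X M 0) : ℤ) ≠ Curv2.deg k X M 1 + 2 := by
    intro heq
    refine hnh ?_
    obtain ⟨L, hL, hd, h2', -⟩ := Groth.Agent.Clifford24.equality k hdim hM hN e hnt hsp
      ⟨fun i => by
        have hd := Groth.Agent.CurveRR24.deg_congr k i 1
        rw [Groth.Agent.CurveRR24.deg_structure] at hd
        omega⟩
      ⟨fun i => by
        have hd := Groth.Agent.CurveRR24.deg_congr k i 1
        omega⟩ heq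
    obtain ⟨t, ht⟩ := Groth.Agent.Clifford24.exists_linIndep_of_le k hL h2'
    exact ⟨L, t, hL, hd, ht⟩
  rw [hgΩ, hdΩ]
  have hg' : (3 : ℤ) ≤ Curv2.genus k X := by exact_mod_cast hg
  nlinarith [lt_of_le_of_ne hc hne]

end Groth.Agent.S16967
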