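import Groth.Statements.S16968
import Groth.Agent.Clifford24.Canonical
import Groth.Agent.Clifford24.Sub

set_option autoImplicit false
universe u
open CategoryTheory CategoryTheory.Limits AlgebraicGeometry Opposite
open Curves

namespace Groth.Agent.S16968

/-- Let X be a smooth projective curve over an algebraically closed field k of characteristic 0
(integral, proper over k, of dimension one, all local rings regular) of genus g ≥ 3 which is
hyperelliptic, with a g^1_2 given as an invertible module N of degree 2 and two k-linearly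
independent global sections t_0, t_1. Then the canonical morphism of X is linearly semistable but
not linearly stable, stated through the criterion by invertible subsheaves: (i) for every invertible
module M and every monomorphism ι : M ⟶ Ω_{X/k} which is not an isomorphism, with dim_k H^0(X, M) ≥
2, one has deg Ω_{X/k} · (h^0(M) - 1) ≤ deg M · (h^0(Ω_{X/k}) - 1); (ii) N admits a monomorphism
into Ω_{X/k} which is not an isomorphism and for which equality holds. Degrees are χ(·) - χ(O_X).
(The published statement gives no genus bound for the hyperelliptic case; here g ≥ 3 is assumed,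
since for g = 2 the module N is the canonical module itself and clause (ii) fails.) -/
theorem result (k : Type u) [Field k] [IsAlgClosed k] [CharZero k] (X : Scheme.{u}) [X.Over (Spec (CommRingCat.of k))]
    [IsIntegral X] [IsProper (X ↘ (Spec (CommRingCat.of k)))] (hdim : topologicalKrullDim X = 1)
    (hreg : ∀ x : X, IsRegularLocalRing (X.presheaf.stalk x))
    (hg : 3 ≤ Curv2.genus k X)
    (N : X.Modules) (t : Fin 2 → LinSer.Sect X N) (hN : LinSer.IsLinSer k X N 2 1 t) :
    (∀ (M : X.Modules) (ι : M ⟶ Omega.sheaf (X ↘ (Spec (CommRingCat.of k)))), PicF.IsInvertible M → Mono ι → ¬ IsIso ι →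
        2 ≤ Module.finrank k (Coh.HH X M 0) →
        Curv2.deg k X (Omega.sheaf (X ↘ (Spec (CommRingCat.of k)))) 1 * ((Module.finrank k (Coh.HH X M 0) : ℤ) - 1) ≤
          Curv2.deg k X M 1 * ((Module.finrank k (Coh.HH X (Omega.sheaf (X ↘ (Spec (CommRingCat.of k)))) 0) : ℤ) - 1)) ∧
      ∃ ι : N ⟶ Omega.sheaf (X ↘ (Spec (CommRingCat.of k))), Mono ι ∧ ¬ IsIso ι ∧
        Curv2.deg k X (Omega.sheaf (X ↘ (Spec (CommRingCat.of k)))) 1 * ((Module.finrank k (Coh.HH X N 0) : ℤ) - 1) =
          Curv2.deg k X N 1 * ((Module.finrank k (Coh.HH X (Omega.sheaf (X ↘ (Spec (CommRingCat.of k)))) 0) : ℤ) - 1) := by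
  obtain ⟨_, _⟩ := Groth.Agent.Clifford24.smooth_geomIntegral_of_regular k hreg
  haveI := Groth.Agent.EulerLib.isNoetherian_of_proper k (X := X)
  have hΩ := Groth.Agent.OmegaDual24.isInvertible_omega (k := k) (X := X) hdim
  have hdΩ := Groth.Agent.OmegaDual24.deg_omega k hdim (X := X)
  have hgΩ := (Groth.Agent.OmegaDual24.finrank_omega k hdim (X := X)).1
  rw [hgΩ, hdΩ]
  refine ⟨fun M ι hM _ hι h2 => ?_, ?_⟩
  · have hnt : Nontrivial (Coh.HH X M 0) := Module.nontrivial_of_finrank_pos (R := k) (by omega)
    have hι0 : ι ≠ 0 := fun h0 => by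
      obtain ⟨s, hs⟩ := Groth.Agent.CurveRR24.exists_ne_zero_of_nontrivial k hnt
      subst h0
      refine hs (Groth.Agent.Coherent.app_injective_of_mono (0 : M ⟶ Omega.sheaf (X ↘ Spec (CommRingCat.of k))) ⊤ ?_)
      simp
    have hlt := Groth.Agent.Clifford24.deg_lt_of_hom k hdim hM hΩ ι hι0 hι
    rw [hdΩ] at hlt
    rcases Groth.Agent.Clifford24.nonspecial_or_clifford k hdim hM hnt with h | h
    · rw [h]; nlinarith
    · nlinarith
  · obtain ⟨hNi, hd, hs⟩ := hN
    have h2 := Groth.Agent.Clifford24.le_h0_of_linIndep k hNi t hs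
    obtain ⟨-, -, hle⟩ := Groth.Agent.CurveRR24.deg_nonneg_of_section k hdim.le hNi
      (Module.nontrivial_of_finrank_pos (R := k) (by omega))
    have hle' := Groth.Agent.CurveRR24.h0_le_deg k hdim.le (by omega) hNi (by rw [hd]; norm_num)
    have h0N : Module.finrank k (Coh.HH X N 0) = 2 := by rw [hd] at hle'; omega
    obtain ⟨N', hN', ⟨e⟩⟩ := Groth.Agent.CurveRR24.exists_inverse k hNi
    have hrr := Groth.Agent.Clifford24.riemann_roch_omega k hdim hNi hN' e
    rw [hd, h0N] at hrr
    obtain ⟨hfin, hr⟩ := Groth.Agent.Clifford24.hom_equiv_h0 k hNi hΩ hN' e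
    haveI := hfin
    obtain ⟨ι, hι⟩ := (Module.finrank_pos_iff_exists_ne_zero (R := k) (M := N ⟶ Omega.sheaf _)).1
      (show 0 < Module.finrank k (N ⟶ Omega.sheaf (X ↘ Spec (CommRingCat.of k))) by rw [hr]; omega)
    refine ⟨ι, Groth.Agent.Clifford24.mono_of_ne_zero k hNi hΩ ι hι, fun hiso => ?_, ?_⟩
    · have := Groth.Agent.CurveRR24.deg_congr k (asIso ι) 1
      rw [hd, hdΩ] at this
      omega
    · rw [hd, h0N]; push_cast; ring

end Groth.Agent.S16968
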