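import Groth.Statements.S16973
import Groth.Agent.Hyper24.Degree
import Groth.Agent.FF.CastelnuovoDouble
import Groth.Agent.CurveRR24.SmoothCompletion
-- import your own Groth.Agent.* helpers here

set_option autoImplicit false
universe u
open CategoryTheory CategoryTheory.Limits AlgebraicGeometry Opposite
open Curves

namespace Groth.Agent.S16973

set_option backward.isDefEq.respectTransparency.types false
set_option maxHeartbeats 1000000
open Groth.Agent
attribute [local instance] Curv2.stalkAlgebra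

/-- Let F be a smooth projective curve over an algebraically closed field k of characteristic 0
(integral, proper over k, of dimension one, all local rings regular) of genus g, and γ ≥ 1 an
integer with g > 4γ + 1. Then F carries at most one involution whose quotient has genus at most γ;
equivalently, degree-2 covers of curves of genus ≤ γ by F are unique: if for i = 1, 2, P_i is a
smooth projective curve over k of genus dim_k H^1(P_i, O) ≤ γ and f_i : F ⟶ P_i is a morphism over k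
which is finite and flat of constant rank 2, then there is an isomorphism e : P_1 ≅ P_2 over k with
f_1 ≫ e = f_2. -/
theorem result (k : Type u) [Field k] [IsAlgClosed k] [CharZero k] (X : Scheme.{u}) [X.Over (Spec (CommRingCat.of k))]
    [IsIntegral X] [IsProper (X ↘ (Spec (CommRingCat.of k)))] (hdim : topologicalKrullDim X = 1)
    (hreg : ∀ x : X, IsRegularLocalRing (X.presheaf.stalk x))
    (γ : ℕ) (hγ : 1 ≤ γ) (hg : 4 * γ + 1 < Curv2.genus k X)
    (P₁ : Scheme.{u}) [P₁.Over (Spec (CommRingCat.of k))] [IsIntegral P₁] [IsProper (P₁ ↘ (Spec (CommRingCat.of k)))]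
    (hdim₁ : topologicalKrullDim P₁ = 1) (hreg₁ : ∀ y : P₁, IsRegularLocalRing (P₁.presheaf.stalk y)) (hγ₁ : Curv2.genus k P₁ ≤ γ)
    (P₂ : Scheme.{u}) [P₂.Over (Spec (CommRingCat.of k))] [IsIntegral P₂] [IsProper (P₂ ↘ (Spec (CommRingCat.of k)))]
    (hdim₂ : topologicalKrullDim P₂ = 1) (hreg₂ : ∀ y : P₂, IsRegularLocalRing (P₂.presheaf.stalk y)) (hγ₂ : Curv2.genus k P₂ ≤ γ)
    (f₁ : X ⟶ P₁) (hf₁ : f₁ ≫ (P₁ ↘ Spec (CommRingCat.of k)) = X ↘ Spec (CommRingCat.of k))
    [IsFinite f₁] [Flat f₁] (hr₁ : ∀ y : P₁, Scheme.Hom.finrank f₁ y = 2)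
    (f₂ : X ⟶ P₂) (hf₂ : f₂ ≫ (P₂ ↘ Spec (CommRingCat.of k)) = X ↘ Spec (CommRingCat.of k))
    [IsFinite f₂] [Flat f₂] (hr₂ : ∀ y : P₂, Scheme.Hom.finrank f₂ y = 2) :
    ∃ e : P₁ ≅ P₂, e.hom ≫ (P₂ ↘ Spec (CommRingCat.of k)) = (P₁ ↘ Spec (CommRingCat.of k)) ∧ f₁ ≫ e.hom = f₂ := by
  classical
  haveI : JacobsonSpace X := LocallyOfFiniteType.jacobsonSpace (X ↘ Spec (CommRingCat.of k))
  haveI : JacobsonSpace P₁ := LocallyOfFiniteType.jacobsonSpace (P₁ ↘ Spec (CommRingCat.of k))
  haveI : JacobsonSpace P₂ := LocallyOfFiniteType.jacobsonSpace (P₂ ↘ Spec (CommRingCat.of k))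
  haveI : Smooth (X ↘ Spec (CommRingCat.of k)) :=
    CurveRR24.smooth_of_regular_closedPoints (X ↘ Spec (CommRingCat.of k)) fun x _ => hreg x
  haveI : Smooth (P₁ ↘ Spec (CommRingCat.of k)) :=
    CurveRR24.smooth_of_regular_closedPoints (P₁ ↘ Spec (CommRingCat.of k)) fun x _ => hreg₁ x
  haveI : Smooth (P₂ ↘ Spec (CommRingCat.of k)) :=
    CurveRR24.smooth_of_regular_closedPoints (P₂ ↘ Spec (CommRingCat.of k)) fun x _ => hreg₂ x
  haveI := FBaseLib.geometricallyIrreducible_of_isAlgClosed (X ↘ Spec (CommRingCat.of k))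
  haveI := FBaseLib.geometricallyIrreducible_of_isAlgClosed (P₁ ↘ Spec (CommRingCat.of k))
  haveI := FBaseLib.geometricallyIrreducible_of_isAlgClosed (P₂ ↘ Spec (CommRingCat.of k))
  have hK := Zeta24.isFunctionField (k := k) hdim (hc := rfl)
  have hK₁ := Zeta24.isFunctionField (k := k) hdim₁ (hc := rfl)
  have hK₂ := Zeta24.isFunctionField (k := k) hdim₂ (hc := rfl)
  have e₁ := CurveRR24.genericPoint_map_of_finite f₁ hdim hdim₁.le
  have e₂ := CurveRR24.genericPoint_map_of_finite f₂ hdim hdim₂.le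
  haveI : IsLocallyNoetherian P₁ := CurveRR24.isLocallyNoetherian_of_proper k (X := P₁)
  haveI : IsLocallyNoetherian P₂ := CurveRR24.isLocallyNoetherian_of_proper k (X := P₂)
  letI := (Hyper24.ffMap f₁ e₁).toAlgebra
  letI := (Hyper24.ffMap f₂ e₂).toAlgebra
  haveI : FiniteDimensional P₁.functionField X.functionField := Hyper24.finiteDimensional_ffMap f₁ e₁
  haveI : FiniteDimensional P₂.functionField X.functionField := Hyper24.finiteDimensional_ffMap f₂ e₂
  haveI : IsScalarTower k P₁.functionField X.functionField :=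
    IsScalarTower.of_algebraMap_eq fun c => (Hyper24.ffMap_algebraMap f₁ e₁ hf₁ c).symm
  haveI : IsScalarTower k P₂.functionField X.functionField :=
    IsScalarTower.of_algebraMap_eq fun c => (Hyper24.ffMap_algebraMap f₂ e₂ hf₂ c).symm
  obtain ⟨τ, hτ, hfτ⟩ := Hyper24.exists_iso_of_range_eq (k := k) hdim₁ hdim₂ f₁ f₂ e₁ e₂ hf₁ hf₂ fun z => by
    by_contra hz
    have h := FF.castelnuovo_double (two_ne_zero : (2 : k) ≠ 0) hK hK₁ hK₂
      (Hyper24.finrank_ffMap_of_rank f₁ e₁ hr₁) (Hyper24.finrank_ffMap_of_rank f₂ e₂ hr₂)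
      fun h => hz (by
        have := Set.ext_iff.1 h z
        exact this)
    rw [← Zeta24.finrank_h1 hdim rfl hK, ← Zeta24.finrank_h1 hdim₁ rfl hK₁, ← Zeta24.finrank_h1 hdim₂ rfl hK₂] at h
    change (Curv2.genus k X : ℤ) ≤ 2 * (Curv2.genus k P₁ : ℤ) + 2 * (Curv2.genus k P₂ : ℤ) + 1 at h
    omega
  exact ⟨τ, hτ, hfτ⟩

end Groth.Agent.S16973
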