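import Groth.Statements.S16976
import Groth.Agent.Surf15.Fibre
import Groth.Agent.VarietyLib.NakaiCurves
import Groth.Agent.VarietyLib.PullDegree
-- import your own Groth.Agent.* helpers here

set_option autoImplicit false
universe u
open CategoryTheory CategoryTheory.Limits AlgebraicGeometry TopologicalSpace
open Surf

namespace Groth.Agent.S16976

/-- Let f : S ⟶ B be a relatively minimal fibration of genus at least 2 over an algebraically closed
field k of characteristic 0 (S a smooth projective integral surface, B a smooth projective integral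
curve, f a surjective k-morphism with O_B ⟶ f_*O_S an isomorphism, every closed fibre with χ(O_F) <
0, and no (-1)-curve in a fibre: every integral closed curve E ⊆ S with regular local rings, mapped
to a point and with χ(O_E) = 1, has E.E ≠ -1). Let F = f⁻¹(p) be the fibre over a closed point, with
ideal sheaf I_F = m_p·O_S. Then F is a positive multiple m·E of a 1-connected effective divisor E:
for every m ≥ 1 and every locally principal ideal sheaf I_E with I_E^m = I_F that is not the n-th
power (n ≥ 2) of a locally principal ideal sheaf (so that E = F/m with m the greatest common divisor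
of the multiplicities of F), and for every factorisation I_E = I_A · I_B with I_A, I_B locally
principal ideal sheaves different from O_S (an effective decomposition E = A + B), the intersection
number A.B — computed as the intersection number of the ideal sheaves I_A, I_B on S — is at least 1. -/
theorem result (k : Type u) [Field k] [IsAlgClosed k] [CharZero k]
    (S : Scheme.{u}) [S.Over (Spec (CommRingCat.of k))] [IsProper (S ↘ (Spec (CommRingCat.of k)))]
    [Smooth (S ↘ (Spec (CommRingCat.of k)))] [IsIntegral S] (hdimS : topologicalKrullDim S = 2)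
    (B : Scheme.{u}) [B.Over (Spec (CommRingCat.of k))] [IsProper (B ↘ (Spec (CommRingCat.of k)))]
    [Smooth (B ↘ (Spec (CommRingCat.of k)))] [IsIntegral B] (hdimB : topologicalKrullDim B = 1)
    (f : S ⟶ B) [f.IsOver (Spec (CommRingCat.of k))] [Surjective f] (hconn : IsIso (ClSub.unitToPush f))
    (hg : ∀ p : B, IsClosed ({p} : Set B) → Curv2.euler k S (ClSub.quotMod (f.fiberι p).ker) < 0)
    (hmin : ∀ (E : Scheme.{u}) (j : E ⟶ S), IsClosedImmersion j → IsIntegral E → topologicalKrullDim E = 1 →
      (∀ e : E, IsRegularLocalRing (E.presheaf.stalk e)) → (∃ p : B, Set.range (j ≫ f).base ⊆ {p}) →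
      Curv2.euler k S (ClSub.quotMod j.ker) = 1 →
      FGA.intNum k S 2 ![ClSub.idealMod j.ker, ClSub.idealMod j.ker] (Coh.structureModule S) ≠ -1)
    (p : B) (hp : IsClosed ({p} : Set B))
    (m : ℕ) (hm : 1 ≤ m) (IE : S.IdealSheafData) (hIE : Curv2.IsLocPrincipal IE)
    (hpow : IE ^ m = (Scheme.IdealSheafData.vanishingIdeal ⟨{p}, hp⟩).comap f)
    (hprim : ∀ n : ℕ, 2 ≤ n → ∀ J : S.IdealSheafData, Curv2.IsLocPrincipal J → J ^ n ≠ IE)
    (IA IB : S.IdealSheafData) (hIA : Curv2.IsLocPrincipal IA) (hIB : Curv2.IsLocPrincipal IB)
    (hA : IA ≠ ⊤) (hB : IB ≠ ⊤) (hAB : IA * IB = IE) :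
    1 ≤ FGA.intNum k S 2 ![ClSub.idealMod IA, ClSub.idealMod IB] (Coh.structureModule S) := by
  have hX : topologicalKrullDim S = ((2 : ℕ) : WithBot ℕ∞) := by exact_mod_cast hdimS
  have hreg := fun x : S => Groth.Agent.VarietyLib.isRegularLocalRing_stalk_of_smooth k S (S ↘ Spec (CommRingCat.of k)) x
  have hregB := fun x : B => Groth.Agent.VarietyLib.isRegularLocalRing_stalk_of_smooth k B (B ↘ Spec (CommRingCat.of k)) x
  haveI := EulerLib.isNoetherian_of_proper (X := B) k
  haveI := EulerLib.isSeparated_of_proper (X := B) k
  haveI : IsProper (f ≫ (B ↘ Spec (CommRingCat.of k))) := by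
    rw [CategoryTheory.comp_over f]; infer_instance
  haveI : IsProper f := IsProper.of_comp f (B ↘ Spec (CommRingCat.of k))
  have hiso : ∀ V : B.Opens, IsIso (f.app V) := fun V => by
    haveI : IsIso ((ClSub.unitToPush f).app V) := inferInstance
    have hbij : Function.Bijective (f.app V) :=
      ConcreteCategory.bijective_of_isIso ((ClSub.unitToPush f).app V)
    exact (ConcreteCategory.isIso_iff_bijective _).2 hbij
  have hpre : _root_.IsPreconnected (f ⁻¹' {p} : Set S) :=
    Coherent.isPreconnected_preimage_singleton f hiso p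
  let P : B.IdealSheafData := Scheme.IdealSheafData.vanishingIdeal ⟨{p}, hp⟩
  have hPeq : P = AssSch12.clI p := congrArg Scheme.IdealSheafData.vanishingIdeal
    (Closeds.ext (show ({p} : Set B) = closure {p} from hp.closure_eq.symm))
  have hne : p ≠ genericPoint B := fun h => CurvesLib24.not_isClosed_genericPoint hdimB (h ▸ hp)
  have hP : BlowUp.IsEffCartierIdeal P := by
    rw [hPeq]
    haveI := VarietyLib.isIntegral_clI p
    have hgen : SDiv28.CartierPart.gen (AssSch12.clI p) = p := VarietyLib.clI_genericPoint p
    refine Inters29.isEffCartier_of_coheight_one hregB _ ?_ (by rw [hgen]; exact hne)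
    rw [hgen]
    have h1 := Order.coheight_le_krullDim p
    rw [← DimLib.topologicalKrullDim_eq_krullDim, hdimB] at h1
    exact WithBot.coe_le_coe.1 h1
  have hPs : (P.support : Set B) = {p} := by
    rw [hPeq, VarietyLib.support_clI, hp.closure_eq]
  have hη : genericPoint S ∉ ((IE ^ m).support : Set S) := by
    rw [hpow, Scheme.IdealSheafData.support_comap]
    show f (genericPoint S) ∉ (P.support : Set B)
    rw [hPs]
    intro h
    refine hne ?_
    rw [← Set.mem_singleton_iff.1 h]
    have h1 := ((genericPoint_spec S).image f.continuous)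
    rw [Set.image_univ, f.surjective.range_eq, closure_univ] at h1
    exact h1.eq (genericPoint_spec B)
  have hηE : genericPoint S ∉ (IE.support : Set S) := fun h => hη (by
    obtain ⟨n, rfl⟩ := Nat.exists_eq_add_of_le hm
    rw [add_comm, pow_succ, Scheme.IdealSheafData.support_mul]
    exact Or.inr h)
  have hEc := Surf15.isEffCartier_of_locPrincipal hIE hηE
  have hηA : genericPoint S ∉ (IA.support : Set S) := fun h => hηE (by
    rw [← hAB, Scheme.IdealSheafData.support_mul]; exact Or.inl h)
  have hηB : genericPoint S ∉ (IB.support : Set S) := fun h => hηE (by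
    rw [← hAB, Scheme.IdealSheafData.support_mul]; exact Or.inr h)
  have hAc := Surf15.isEffCartier_of_locPrincipal hIA hηA
  have hBc := Surf15.isEffCartier_of_locPrincipal hIB hηB
  have h := Surf15.B_pos_of_fibre k hX hreg f hP hPs hpre hEc hm hpow
    (fun n hn J hJ => hprim n hn J fun x _ => by
      obtain ⟨U, hxU, g, -, hg⟩ := hJ x
      exact ⟨U, hxU, g, hg⟩) hAc hBc hA hB hAB
  rw [Surf15.intNum_eq_B k hX.le (FlatMor12.IdealModGen.isInvertible_idealMod _ hAc)
    (FlatMor12.IdealModGen.isInvertible_idealMod _ hBc)]
  exact h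

end Groth.Agent.S16976
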