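import Groth.Statements.S16978
import Groth.Agent.CastelSmall24.Main
-- import your own Groth.Agent.* helpers here

set_option autoImplicit false
universe u
open CategoryTheory CategoryTheory.Limits AlgebraicGeometry Opposite
open Curves

set_option backward.isDefEq.respectTransparency.types false
namespace Groth.Agent.S16978

/-- Let X be a smooth projective curve over an algebraically closed field k of characteristic 0
(integral, proper over k, of dimension one, all local rings regular), and L an invertible O_X-module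
of degree d which is special (dim_k H^1(X, L) ≥ 1) with dim_k H^0(X, L) = r + 1. Suppose the map of
the complete linear system of L factors as X ⟶ Γ ⟶ Y ⟶ P^r_k where π : X ⟶ Γ is a k-morphism, finite
and flat of constant rank a, onto a smooth projective curve Γ over k of genus γ, Y ⟶ P^r_k is an
integral closed subscheme, ψ : Γ ⟶ Y restricts to an isomorphism over a nonempty open subset of Y,
the pullback of O(1) along the composite embeds in L by a monomorphism ι, and every nonzero global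
section of O(1) pulls back to a nonzero section (so the composite is the map of the complete linear
system, through an a-sheeted cover followed by a birational map). Then: (1) if a = 2, either 2r + 2γ
≤ d or 4r ≤ d; (2) if a ≥ 3, 3r ≤ d. Degrees are χ(·) - χ(O_X). -/
theorem result (k : Type u) [Field k] [IsAlgClosed k] [CharZero k] (X : Scheme.{u}) [X.Over (Spec (CommRingCat.of k))]
    [IsIntegral X] [IsProper (X ↘ (Spec (CommRingCat.of k)))] (hdim : topologicalKrullDim X = 1)
    (hreg : ∀ x : X, IsRegularLocalRing (X.presheaf.stalk x))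
    (L : X.Modules) (hL : PicF.IsInvertible L) (r : ℕ)
    (h0 : Module.finrank k (Coh.HH X L 0) = r + 1) (h1 : 1 ≤ Module.finrank k (Coh.HH X L 1))
    (Γ : Scheme.{u}) [Γ.Over (Spec (CommRingCat.of k))] [IsIntegral Γ] [IsProper (Γ ↘ (Spec (CommRingCat.of k)))]
    (hdimΓ : topologicalKrullDim Γ = 1) (hregΓ : ∀ y : Γ, IsRegularLocalRing (Γ.presheaf.stalk y))
    (π : X ⟶ Γ) (hπ : π ≫ (Γ ↘ Spec (CommRingCat.of k)) = X ↘ Spec (CommRingCat.of k))
    [IsFinite π] [Flat π] (a : ℕ) (ha : ∀ y : Γ, Scheme.Hom.finrank π y = a)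
    (Y : Scheme.{u}) [IsIntegral Y] (j : Y ⟶ CohB1.ProjSpace r k) [IsClosedImmersion j] (ψ : Γ ⟶ Y)
    (hψ : ψ ≫ j ≫ CohB1.ProjSpace.toSpec r k = Γ ↘ Spec (CommRingCat.of k))
    (hbir : ∃ U : Y.Opens, (U : Set Y).Nonempty ∧ IsIso (ψ ∣_ U))
    (ι : (Scheme.Modules.pullback (π ≫ ψ ≫ j)).obj (Twist.twistProjSpace r k 1) ⟶ L) [Mono ι]
    (hnd : ∀ s : LinSer.Sect (CohB1.ProjSpace r k) (Twist.twistProjSpace r k 1), s ≠ 0 → OmegaSh.pullSect (π ≫ ψ ≫ j) (Twist.twistProjSpace r k 1) ⊤ s ≠ 0) :
    (a = 2 → 2 * (r : ℤ) + 2 * Curv2.genus k Γ ≤ Curv2.deg k X L 1 ∨ 4 * (r : ℤ) ≤ Curv2.deg k X L 1) ∧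
      (3 ≤ a → 3 * (r : ℤ) ≤ Curv2.deg k X L 1) := by
  let N := (Scheme.Modules.pullback (ψ ≫ j)).obj (Twist.twistProjSpace r k 1)
  have hN : PicF.IsInvertible N := PicLoc.isInvertible_pullback _ (Groth.Agent.SerreDual.isInvertible_twist r k 1)
  haveI := Groth.Agent.EulerLib.isNoetherian_of_proper k (X := Γ)
  have hb := Groth.Agent.CastelSmall24.bounds k hdimΓ hregΓ (ψ ≫ j) (by rw [Category.assoc]; exact hψ)
    (Groth.Agent.CastelSmall24.nondeg_of_comp k π (ψ ≫ j) hnd)
  have hle := Groth.Agent.CastelSmall24.deg_le k hdim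
    (PicLoc.isInvertible_pullback (π ≫ ψ ≫ j) (Groth.Agent.SerreDual.isInvertible_twist r k 1)) hL ι
  have he : Curv2.deg k X ((Scheme.Modules.pullback π).obj N) 1 = _ := Groth.Agent.CurveRR24.deg_congr k
    ((Scheme.Modules.pullbackComp π (ψ ≫ j)).app (Twist.twistProjSpace r k 1)) 1
  obtain ⟨y⟩ : Nonempty Γ := inferInstance
  have hd := Groth.Agent.CurveRR24.deg_pullback k π hπ hdimΓ.le hN y
  rw [ha y] at hd
  change Curv2.deg k X _ 1 = (a : ℤ) * Curv2.deg k Γ N 1 at hd
  simp only [] at hb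
  rw [← he] at hle
  change Curv2.deg k X _ 1 ≤ _ at hle
  rw [hd] at hle
  obtain ⟨h1, h2⟩ := hb
  change (r : ℤ) ≤ Curv2.deg k Γ N 1 at h1
  change _ ≤ Curv2.deg k Γ N 1 ∨ _ ≤ Curv2.deg k Γ N 1 at h2
  refine ⟨fun ha2 => ?_, fun ha3 => ?_⟩
  · subst ha2
    rcases h2 with h2 | h2
    · exact Or.inl (by push_cast at hle; omega)
    · exact Or.inr (by push_cast at hle; omega)
  · have h3 : (3 : ℤ) ≤ a := by omega
    nlinarith [mul_le_mul h3 h1 (Int.natCast_nonneg r) (Int.natCast_nonneg a)]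

end Groth.Agent.S16978
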