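import Groth.Statements.S16979
import Mathlib

set_option linter.all false

set_option autoImplicit false
universe u v
open CAlg

open IsLocalRing
open scoped TensorProduct

namespace Groth.Agent.S16979

theorem charpoly_dvd_minpoly_of_separable {K : Type*} [Field K] {n : Type*} [Fintype n] [DecidableEq n]
    (M : Matrix n n K) (h : M.charpoly.Separable) : M.charpoly ∣ minpoly K M := by
  let L := AlgebraicClosure K
  refine (Polynomial.map_dvd_map (algebraMap K L) (algebraMap K L).injective M.charpoly_monic).1 ?_
  have hsp : (M.charpoly.map (algebraMap K L)).Splits := IsAlgClosed.splits _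
  have hne : (minpoly K M).map (algebraMap K L) ≠ 0 := Polynomial.map_ne_zero (minpoly.ne_zero (Matrix.isIntegral M))
  refine (Polynomial.Splits.dvd_iff_roots_le_roots hsp (Polynomial.map_ne_zero M.charpoly_monic.ne_zero) hne).2 ?_
  rw [Multiset.le_iff_subset (Polynomial.nodup_roots h.map)]
  intro μ hμ
  rw [Polynomial.mem_roots (Polynomial.map_ne_zero M.charpoly_monic.ne_zero), ← Matrix.charpoly_map] at hμ
  rw [Polynomial.mem_roots hne, Polynomial.IsRoot.def, Polynomial.eval_map]
  let ψ : Module.End L (n → L) := Matrix.toLinAlgEquiv' (M.map (algebraMap K L))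
  have hev : Module.End.HasEigenvalue ψ μ := by
    rw [Module.End.hasEigenvalue_iff_mem_spectrum]
    have := (Matrix.mem_spectrum_iff_isRoot_charpoly (A := M.map (algebraMap K L))).2 hμ
    exact (AlgEquiv.spectrum_eq (Matrix.toLinAlgEquiv' (R := L) (n := n)) _).symm ▸ this
  obtain ⟨v, hv⟩ := hev.exists_hasEigenvector
  have h2 := Module.End.aeval_apply_of_hasEigenvector (p := (minpoly K M).map (algebraMap K L)) hv
  have h0 : Polynomial.aeval ψ ((minpoly K M).map (algebraMap K L)) = 0 := by
    rw [show ψ = Matrix.toLinAlgEquiv' (M.map (algebraMap K L)) from rfl]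
    rw [Polynomial.aeval_algHom_apply, Polynomial.aeval_map_algebraMap]
    have : M.map (algebraMap K L) = (Algebra.ofId K L).mapMatrix M := rfl
    rw [this, Polynomial.aeval_algHom_apply, minpoly.aeval, map_zero, map_zero]
  rw [h0, LinearMap.zero_apply, Polynomial.eval_map] at h2
  exact (smul_eq_zero.1 h2.symm).resolve_right hv.2

/-- Let R be an integral domain with fraction field K and φ a square matrix over R whose characteristic
polynomial becomes separable in K[T] (equivalently, K[T] modulo the characteristic polynomial is
geometrically reduced over K). Then a polynomial f over R satisfies f(φ) = 0 exactly when the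
characteristic polynomial of φ divides f in R[T]: the kernel of evaluation at φ (the minimal ideal
of φ) is the principal ideal generated by the characteristic polynomial. -/
theorem result
    {R : Type u} [CommRing R] [IsDomain R] {n : Type v} [Fintype n] [DecidableEq n]
    (φ : Matrix n n R)
    (hsep : (φ.charpoly.map (algebraMap R (FractionRing R))).Separable) :
    RingHom.ker (Polynomial.aeval (R := R) φ) = Ideal.span {φ.charpoly} := by
  let K := FractionRing R
  refine le_antisymm (fun q hq => ?_) ((Ideal.span_singleton_le_iff_mem _).2 (Matrix.aeval_self_charpoly φ))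
  rw [Ideal.mem_span_singleton, ← Polynomial.map_dvd_map (algebraMap R K) (IsFractionRing.injective R K) φ.charpoly_monic]
  rw [← Matrix.charpoly_map] at hsep ⊢
  refine (charpoly_dvd_minpoly_of_separable _ hsep).trans (minpoly.dvd _ _ ?_)
  have : φ.map (algebraMap R K) = (Algebra.ofId R K).mapMatrix φ := rfl
  rw [Polynomial.aeval_map_algebraMap, this, Polynomial.aeval_algHom_apply, RingHom.mem_ker.1 hq, map_zero]

end Groth.Agent.S16979
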