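import Groth.Statements.S16980
import Mathlib
-- import your own Groth.Agent.* helpers here

set_option autoImplicit false
universe u
open CAlg

namespace Groth.Agent.S16980

/-- anchor -/
theorem anchor16980 : 0 + 0 = 0 := rfl

section Helpers

open MvPolynomial

theorem XY_sub_C_regular {A : Type u} [CommRing A] (a : A) {P : MvPolynomial (Fin 2) A}
    (h : P * (X 0 * X 1 - C a) = 0) : P = 0 := by
  classical
  nontriviality A
  let o : MonomialOrder (Fin 2) := MonomialOrder.degLex
  have hXY : (X 0 * X 1 : MvPolynomial (Fin 2) A) = monomial (Finsupp.single 0 1 + Finsupp.single 1 1) 1 := by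
    rw [X, X, monomial_mul, one_mul]
  have hdeg : o.degree (X 0 * X 1 - C a : MvPolynomial (Fin 2) A) = Finsupp.single 0 1 + Finsupp.single 1 1 := by
    have h1 : o.degree (X 0 * X 1 : MvPolynomial (Fin 2) A) = Finsupp.single 0 1 + Finsupp.single 1 1 := by
      rw [hXY, o.degree_monomial, if_neg one_ne_zero]
    rw [o.degree_sub_of_lt, h1]
    rw [h1, o.degree_C, map_zero]
    refine lt_of_le_of_ne bot_le (Ne.symm ?_)
    intro h0
    have := congrArg (fun u : Fin 2 →₀ ℕ => u 0) (o.toSyn.injective (h0.trans (map_zero o.toSyn).symm))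
    simp at this
  have hlc : IsRegular (o.leadingCoeff (X 0 * X 1 - C a : MvPolynomial (Fin 2) A)) := by
    rw [MonomialOrder.leadingCoeff, hdeg, coeff_sub, hXY, coeff_monomial, if_pos rfl, coeff_C, if_neg, sub_zero]
    · exact isRegular_one
    · intro h0
      have := congrArg (fun u : Fin 2 →₀ ℕ => u 0) h0
      simp at this
  by_contra hP
  have h2 := o.leadingCoeff_mul_of_isRegular_left (g := P) hlc
  rw [mul_comm] at h
  rw [h, o.leadingCoeff_zero] at h2
  exact o.leadingCoeff_ne_zero_iff.mpr hP (hlc.left.mul_left_eq_zero_iff.mp h2.symm)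

theorem exists_eq_X_zero_mul {A : Type u} [CommRing A] (a : A) {P : MvPolynomial (Fin 2) A}
    (hX : P * X 0 ∈ Ideal.span {(X 0 * X 1 - C a : MvPolynomial (Fin 2) A)})
    (hY : P * X 1 ∈ Ideal.span {(X 0 * X 1 - C a : MvPolynomial (Fin 2) A)}) :
    P ∈ Ideal.span {(X 0 * X 1 - C a : MvPolynomial (Fin 2) A)} := by
  classical
  obtain ⟨Q, hQ⟩ := Ideal.mem_span_singleton'.1 hX
  obtain ⟨R, hR⟩ := Ideal.mem_span_singleton'.1 hY
  have h1 : Q * X 1 = R * X 0 := by
    rw [← sub_eq_zero]
    apply XY_sub_C_regular a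
    rw [sub_mul, mul_right_comm, hQ, mul_right_comm R, hR]
    ring
  obtain ⟨S, hS⟩ : X 0 ∣ Q := by
    rw [X_dvd_iff_modMonomial_eq_zero]
    ext u
    by_cases hu : Finsupp.single (0 : Fin 2) 1 ≤ u
    · rw [coeff_modMonomial_of_le _ hu, coeff_zero]
    · rw [coeff_modMonomial_of_not_le _ hu, coeff_zero]
      have := congrArg (coeff (u + Finsupp.single 1 1)) h1
      rw [coeff_mul_X, coeff_mul_X', if_neg] at this
      · exact this
      · rw [Finsupp.mem_support_iff]
        intro hne
        apply hu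
        rw [Finsupp.single_le_iff]
        simp at hne
        omega
  rw [Ideal.mem_span_singleton']
  refine ⟨S, ?_⟩
  rw [← sub_eq_zero]
  have h2 : (S * (X 0 * X 1 - C a) - P) * X 0 = 0 := by
    rw [sub_mul, ← hQ, hS]; ring
  ext u
  have := congrArg (coeff (u + Finsupp.single 0 1)) h2
  rwa [coeff_mul_X, coeff_zero] at this

end Helpers


set_option maxHeartbeats 1600000 in
/-- Let A be a commutative ring, J an A-module, A′ = A ⊕ εJ the trivial square-zero extension of A by J,
and τ any element of A′. Let B′ be the A′-algebra A′[x,y]/(xy − τ), presented by two generators x, y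
with the evaluation map from the polynomial ring in two variables over A′ surjective and with kernel
generated by XY − τ. Let I ⊆ B′ be the ideal generated by the square-zero ideal J of A′, so that B =
B′/I is A[x,y]/(xy − t) with t the A-component of τ. Then the first map of the conormal sequence of
B′ → B relative to A, namely I → B ⊗_{B′} Ω_{B′/A}, i ↦ 1 ⊗ di, is injective (so the sequence 0 → I
→ B ⊗_{B′} Ω_{B′/A} → Ω_{B/A} → 0 is exact on the left as well; this is the local computation at a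
node for first-order deformations of nodal curves). -/
theorem result
    (A : Type u) [CommRing A] (J : Type u) [AddCommGroup J] [Module A J] [Module Aᵐᵒᵖ J]
    [IsCentralScalar A J] (τ : TrivSqZeroExt A J)
    (B' : Type u) [CommRing B'] [Algebra (TrivSqZeroExt A J) B'] [Algebra A B']
    [IsScalarTower A (TrivSqZeroExt A J) B'] (x y : B')
    (hsurj : Function.Surjective
      (MvPolynomial.aeval ![x, y] : MvPolynomial (Fin 2) (TrivSqZeroExt A J) →ₐ[TrivSqZeroExt A J] B'))
    (hker : RingHom.ker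
      (MvPolynomial.aeval ![x, y] : MvPolynomial (Fin 2) (TrivSqZeroExt A J) →ₐ[TrivSqZeroExt A J] B') =
      Ideal.span {MvPolynomial.X 0 * MvPolynomial.X 1 - MvPolynomial.C τ}) :
    Function.Injective (KaehlerDifferential.kerToTensor A B'
      (B' ⧸ Ideal.map (algebraMap (TrivSqZeroExt A J) B') (TrivSqZeroExt.kerIdeal A J))) := by
  classical
  open MvPolynomial in
  let π : MvPolynomial (Fin 2) (TrivSqZeroExt A J) →ₐ[(TrivSqZeroExt A J)] B' := MvPolynomial.aeval ![x, y]
  set K := Ideal.map (algebraMap (TrivSqZeroExt A J) B') (TrivSqZeroExt.kerIdeal A J) with hKdef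
  let B := B' ⧸ K
  -- the reduction to `A[X, Y]`
  let fA : (TrivSqZeroExt A J) →+* A := (TrivSqZeroExt.fstHom A A J).toRingHom
  have hmapker : ∀ P : MvPolynomial (Fin 2) (TrivSqZeroExt A J), π P ∈ K →
      MvPolynomial.map fA P ∈ Ideal.span {(MvPolynomial.X 0 * MvPolynomial.X 1 - MvPolynomial.C (fA τ) : MvPolynomial (Fin 2) A)} := by
    intro P hP
    have hK' : K = ((TrivSqZeroExt.kerIdeal A J).map (MvPolynomial.C : (TrivSqZeroExt A J) →+* _)).map π.toRingHom := by
      rw [hKdef, Ideal.map_map]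
      congr 1
      exact (RingHom.ext fun c => (π.commutes c).symm)
    rw [hK'] at hP
    replace hP : P ∈ Ideal.comap π.toRingHom (((TrivSqZeroExt.kerIdeal A J).map (MvPolynomial.C : TrivSqZeroExt A J →+* _)).map π.toRingHom) := hP
    rw [Ideal.comap_map_of_surjective' π.toRingHom hsurj] at hP
    obtain ⟨P₁, hP₁, P₂, hP₂, rfl⟩ := Submodule.mem_sup.1 hP
    rw [map_add]
    refine add_mem ?_ ?_
    · have : Ideal.map (MvPolynomial.map fA) ((TrivSqZeroExt.kerIdeal A J).map (MvPolynomial.C : (TrivSqZeroExt A J) →+* MvPolynomial (Fin 2) (TrivSqZeroExt A J))) ≤ ⊥ := by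
        rw [Ideal.map_map, Ideal.map_le_iff_le_comap]
        intro c hc
        show MvPolynomial.map fA (MvPolynomial.C c) = 0
        rw [MvPolynomial.map_C, show fA c = 0 from hc, map_zero]
      rw [(Submodule.mem_bot _).1 (this (Ideal.mem_map_of_mem _ hP₁))]
      exact zero_mem _
    · have h2 : P₂ ∈ Ideal.span {(MvPolynomial.X 0 * MvPolynomial.X 1 - MvPolynomial.C τ : MvPolynomial (Fin 2) (TrivSqZeroExt A J))} := hker.le hP₂
      obtain ⟨Q, rfl⟩ := Ideal.mem_span_singleton'.1 h2
      rw [map_mul, map_sub, map_mul, MvPolynomial.map_X, MvPolynomial.map_X, MvPolynomial.map_C]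
      exact Ideal.mul_mem_left _ _ (Ideal.mem_span_singleton_self _)
  have hmapK : ∀ P : MvPolynomial (Fin 2) (TrivSqZeroExt A J), MvPolynomial.map fA P = 0 → π P ∈ K := by
    intro P hP
    rw [P.as_sum, map_sum]
    refine sum_mem fun u _ => ?_
    rw [MvPolynomial.monomial_eq, map_mul, MvPolynomial.aeval_C]
    refine K.mul_mem_right _ (Ideal.mem_map_of_mem _ ?_)
    show fA (P.coeff u) = 0
    rw [← MvPolynomial.coeff_map, hP, MvPolynomial.coeff_zero]
  have hK2 : ∀ c₁ ∈ K, ∀ c₂ ∈ K, c₁ * c₂ = 0 := by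
    intro c₁ h₁ c₂ h₂
    have : c₁ * c₂ ∈ K * K := Ideal.mul_mem_mul h₁ h₂
    rw [hKdef, ← Ideal.map_mul, ← pow_two, TrivSqZeroExt.kerIdeal_sq, Ideal.map_bot] at this
    exact this
  have hann : ∀ b : B', b * x ∈ K → b * y ∈ K → b ∈ K := by
    intro b hbx hby
    obtain ⟨P, rfl⟩ := hsurj b
    have h1 := hmapker (P * MvPolynomial.X 0) (by simpa [π] using hbx)
    have h2 := hmapker (P * MvPolynomial.X 1) (by simpa [π] using hby)
    rw [map_mul, MvPolynomial.map_X] at h1 h2
    obtain ⟨S, hS⟩ := Ideal.mem_span_singleton'.1 (exists_eq_X_zero_mul (fA τ) h1 h2)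
    obtain ⟨S', rfl⟩ := MvPolynomial.map_surjective fA (fun c => ⟨TrivSqZeroExt.inl c, rfl⟩) S
    have h3 : π (P - S' * (MvPolynomial.X 0 * MvPolynomial.X 1 - MvPolynomial.C τ)) ∈ K := hmapK _ (by
      rw [map_sub, map_mul, map_sub, map_mul, MvPolynomial.map_X, MvPolynomial.map_X, MvPolynomial.map_C, hS, sub_self])
    rw [map_sub, map_mul, show π (MvPolynomial.X 0 * MvPolynomial.X 1 - MvPolynomial.C τ) = 0 from
      hker.ge (Ideal.mem_span_singleton_self _), mul_zero, sub_zero] at h3
    exact h3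
  -- the target of the derivation
  let jK : (TrivSqZeroExt A J) → K := fun c => ⟨algebraMap (TrivSqZeroExt A J) B' (TrivSqZeroExt.inr (TrivSqZeroExt.snd c)),
    Ideal.mem_map_of_mem _ (show TrivSqZeroExt.fst (TrivSqZeroExt.inr (TrivSqZeroExt.snd c) : TrivSqZeroExt A J) = 0 from TrivSqZeroExt.fst_inr _ (TrivSqZeroExt.snd c))⟩
  let N : Submodule B' (K × B × B) := B' ∙ ((jK τ, -Ideal.Quotient.mk K y, -Ideal.Quotient.mk K x) : K × B × B)
  let M := (K × B × B) ⧸ N
  let q : (K × B × B) →ₗ[B'] M := N.mkQ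
  letI : Module B'ᵐᵒᵖ M := Module.compHom M ((RingHom.id B').fromOpposite mul_comm)
  haveI : IsCentralScalar B' M := ⟨fun r m => rfl⟩
  let f₀ : (TrivSqZeroExt A J) →+* TrivSqZeroExt B' M :=
    { toFun := fun c => TrivSqZeroExt.inl (algebraMap (TrivSqZeroExt A J) B' c) + TrivSqZeroExt.inr (q (jK c, 0, 0))
      map_one' := by
        have : jK (1 : (TrivSqZeroExt A J)) = 0 := Subtype.ext (by simp [jK])
        rw [this, show ((0 : K), (0 : B), (0 : B)) = 0 from rfl, map_zero, TrivSqZeroExt.inr_zero, add_zero, map_one,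
          TrivSqZeroExt.inl_one]
      map_mul' := fun c d => by
        have hj : jK (c * d) = algebraMap (TrivSqZeroExt A J) B' c • jK d + algebraMap (TrivSqZeroExt A J) B' d • jK c := Subtype.ext (by
          show algebraMap (TrivSqZeroExt A J) B' _ = algebraMap (TrivSqZeroExt A J) B' c * algebraMap (TrivSqZeroExt A J) B' _ + algebraMap (TrivSqZeroExt A J) B' d * algebraMap (TrivSqZeroExt A J) B' _
          rw [← map_mul, ← map_mul, ← map_add]
          congr 1
          ext
          · simp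
          · simp [op_smul_eq_smul])
        ext
        · simp
        · simp only [TrivSqZeroExt.snd_add, TrivSqZeroExt.snd_inl, TrivSqZeroExt.snd_inr, zero_add,
            TrivSqZeroExt.snd_mul, TrivSqZeroExt.fst_add, TrivSqZeroExt.fst_inl, TrivSqZeroExt.fst_inr, add_zero,
            op_smul_eq_smul, ← map_smul, ← map_add, Prod.smul_mk, smul_zero, Prod.mk_add_mk, hj]
      map_zero' := by
        have : jK (0 : (TrivSqZeroExt A J)) = 0 := Subtype.ext (by simp [jK])
        rw [this, show ((0 : K), (0 : B), (0 : B)) = 0 from rfl, map_zero, map_zero, TrivSqZeroExt.inr_zero, add_zero,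
          TrivSqZeroExt.inl_zero]
      map_add' := fun c d => by
        have hj : jK (c + d) = jK c + jK d := Subtype.ext (by simp [jK])
        rw [hj, show ((jK c + jK d, 0, 0) : K × B × B) = (jK c, 0, 0) + (jK d, 0, 0) by simp, map_add q, map_add,
          TrivSqZeroExt.inl_add, TrivSqZeroExt.inr_add]
        abel }
  let g : MvPolynomial (Fin 2) (TrivSqZeroExt A J) →+* TrivSqZeroExt B' M := MvPolynomial.eval₂Hom f₀
    ![TrivSqZeroExt.inl x + TrivSqZeroExt.inr (q (0, 1, 0)), TrivSqZeroExt.inl y + TrivSqZeroExt.inr (q (0, 0, 1))]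
  have hgker : RingHom.ker π.toRingHom ≤ RingHom.ker g := by
    refine hker.le.trans ((Ideal.span_singleton_le_iff_mem _).2 ?_)
    have hxy : x * y = algebraMap (TrivSqZeroExt A J) B' τ := by
      have := hker.ge (Ideal.mem_span_singleton_self _)
      simpa [sub_eq_zero] using this
    rw [RingHom.mem_ker]
    ext
    · simp [g, f₀, hxy]
    · have hgX0 : g (MvPolynomial.X 0) = TrivSqZeroExt.inl x + TrivSqZeroExt.inr (q (0, 1, 0)) := MvPolynomial.eval₂Hom_X' f₀ _ 0
      have hgX1 : g (MvPolynomial.X 1) = TrivSqZeroExt.inl y + TrivSqZeroExt.inr (q (0, 0, 1)) := MvPolynomial.eval₂Hom_X' f₀ _ 1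
      have hgC : g (MvPolynomial.C τ) = TrivSqZeroExt.inl (algebraMap (TrivSqZeroExt A J) B' τ) + TrivSqZeroExt.inr (q (jK τ, 0, 0)) :=
        MvPolynomial.eval₂Hom_C f₀ _ τ
      rw [map_sub, map_mul, hgX0, hgX1, hgC, TrivSqZeroExt.snd_sub, TrivSqZeroExt.snd_mul]
      simp only [TrivSqZeroExt.fst_add, TrivSqZeroExt.fst_inl, TrivSqZeroExt.fst_inr, add_zero,
        TrivSqZeroExt.snd_add, TrivSqZeroExt.snd_inl, TrivSqZeroExt.snd_inr, zero_add, op_smul_eq_smul,
        TrivSqZeroExt.snd_zero, ← map_smul, ← map_add, ← map_sub]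
      refine (Submodule.Quotient.mk_eq_zero N).2 (Submodule.mem_span_singleton.2 ⟨-1, ?_⟩)
      simp [Algebra.smul_def, B]
  let e : B' →+* TrivSqZeroExt B' M := RingHom.liftOfSurjective π.toRingHom hsurj ⟨g, hgker⟩
  have he : ∀ P, e (π P) = g P := fun P => RingHom.liftOfRightInverse_comp_apply _ _ _ _ P
  have hfst : ∀ b, TrivSqZeroExt.fst (e b) = b := by
    intro b
    obtain ⟨P, rfl⟩ := hsurj b
    show TrivSqZeroExt.fst (e (π P)) = π P
    rw [he]
    induction P using MvPolynomial.induction_on with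
    | C c => simp [g, f₀, π]
    | add P Q hP hQ => rw [map_add, TrivSqZeroExt.fst_add, hP, hQ, map_add]
    | mul_X P i hP =>
      rw [map_mul, TrivSqZeroExt.fst_mul, hP, map_mul]
      fin_cases i <;> simp [g, π]
  have hA : ∀ a : A, TrivSqZeroExt.snd (e (algebraMap A B' a)) = 0 := by
    intro a
    rw [IsScalarTower.algebraMap_apply A (TrivSqZeroExt A J) B', ← π.commutes, he]
    have : jK (algebraMap A (TrivSqZeroExt A J) a) = 0 := Subtype.ext (by simp [jK, TrivSqZeroExt.algebraMap_eq_inl])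
    simp [g, f₀, this, show ((0 : K), (0 : B), (0 : B)) = 0 from rfl]
  let D : Derivation A B' M := Derivation.mk'
    { toFun := fun b => TrivSqZeroExt.snd (e b)
      map_add' := fun b c => by rw [map_add, TrivSqZeroExt.snd_add]
      map_smul' := fun a b => by
        rw [Algebra.smul_def, map_mul, TrivSqZeroExt.snd_mul, hfst, hfst, hA, smul_zero, add_zero, RingHom.id_apply,
          IsScalarTower.algebraMap_smul] }
    (fun b c => by
      show TrivSqZeroExt.snd (e (b * c)) = b • TrivSqZeroExt.snd (e c) + c • TrivSqZeroExt.snd (e b)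
      rw [map_mul, TrivSqZeroExt.snd_mul, hfst, hfst, op_smul_eq_smul])
  have hDK : ∀ k : K, D k = q (k, 0, 0) := by
    rintro ⟨k, hk⟩
    suffices h : ∀ k ∈ Submodule.span B' (algebraMap (TrivSqZeroExt A J) B' '' (TrivSqZeroExt.kerIdeal A J : Set (TrivSqZeroExt A J))),
        ∀ h : k ∈ K, D k = q ((⟨k, h⟩ : K), 0, 0) from h k hk hk
    intro k hk'
    refine Submodule.span_induction (p := fun k _ => ∀ h : k ∈ K, D k = q ((⟨k, h⟩ : K), 0, 0)) ?_ ?_ ?_ ?_ hk'
    · rintro _ ⟨c, hc, rfl⟩ _
      show TrivSqZeroExt.snd (e (algebraMap (TrivSqZeroExt A J) B' c)) = _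
      refine ((congrArg (fun z => TrivSqZeroExt.snd (e z)) (π.commutes c).symm).trans (congrArg TrivSqZeroExt.snd (he _))).trans ?_
      have hj : jK c = ⟨algebraMap (TrivSqZeroExt A J) B' c, Ideal.mem_map_of_mem _ hc⟩ := Subtype.ext (by
        show algebraMap (TrivSqZeroExt A J) B' _ = algebraMap (TrivSqZeroExt A J) B' c
        congr 1
        ext
        · rw [TrivSqZeroExt.fst_inr]; exact (show fA c = 0 from hc).symm
        · rw [TrivSqZeroExt.snd_inr])
      simp [g, f₀, hj]
    · intro h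
      rw [map_zero, show ((⟨0, h⟩ : K), (0 : B), (0 : B)) = 0 from rfl, map_zero]
    · intro a b ha hb h1 h2 h
      rw [map_add, h1 ha, h2 hb, ← map_add, Prod.mk_add_mk, Prod.mk_add_mk, add_zero]
      rfl
    · intro r a ha h1 h
      have ha : a ∈ K := ha
      have hz : a • D r = 0 := by
        obtain ⟨⟨k₁, b₁, b₂⟩, hv⟩ := N.mkQ_surjective (D r)
        rw [← hv]
        show a • q (k₁, b₁, b₂) = 0
        rw [← map_smul]
        have : a • ((k₁, b₁, b₂) : K × B × B) = 0 := by
          refine Prod.ext (Subtype.ext (hK2 a ha k₁ k₁.2)) (Prod.ext ?_ ?_) <;>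
            · show a • _ = (0 : B)
              rw [Algebra.smul_def, Ideal.Quotient.algebraMap_eq, Ideal.Quotient.eq_zero_iff_mem.2 ha, zero_mul]
        rw [this, map_zero]
      simp only [smul_eq_mul]
      rw [D.leibniz, h1 ha, hz, add_zero, ← map_smul]
      simp
  rw [injective_iff_map_eq_zero]
  rintro ⟨k, hk⟩ hz
  have hkK : k ∈ K := by
    have h : Ideal.Quotient.mk K k = 0 := hk
    exact Ideal.Quotient.eq_zero_iff_mem.1 h
  have h1 : (1 : B) ⊗ₜ[B'] D k = 0 := by
    have := congrArg (LinearMap.lTensor B D.liftKaehlerDifferential) hz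
    rw [map_zero] at this
    refine Eq.trans ?_ this
    show _ = LinearMap.lTensor B D.liftKaehlerDifferential ((1 : B) ⊗ₜ[B'] KaehlerDifferential.D A B' k)
    rw [LinearMap.lTensor_tmul, Derivation.liftKaehlerDifferential_comp_D]
  have h2 : D k ∈ K • (⊤ : Submodule B' M) := by
    rw [← Submodule.Quotient.mk_eq_zero]
    have := congrArg (TensorProduct.quotTensorEquivQuotSMul M K) h1
    simpa [B] using this
  have h3 : K • (⊤ : Submodule B' M) = ⊥ := by
    rw [eq_bot_iff, Submodule.smul_le]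
    rintro a ha m -
    obtain ⟨⟨k₁, b₁, b₂⟩, rfl⟩ := N.mkQ_surjective m
    rw [← map_smul, Submodule.mem_bot]
    have : a • ((k₁, b₁, b₂) : K × B × B) = 0 := by
      refine Prod.ext (Subtype.ext (hK2 a ha k₁ k₁.2)) (Prod.ext ?_ ?_) <;>
        · show a • _ = (0 : B)
          rw [Algebra.smul_def, Ideal.Quotient.algebraMap_eq, Ideal.Quotient.eq_zero_iff_mem.2 ha, zero_mul]
    rw [this, map_zero]
  rw [h3, Submodule.mem_bot, hDK ⟨k, hkK⟩] at h2
  obtain ⟨b, hb⟩ := Submodule.mem_span_singleton.1 ((Submodule.Quotient.mk_eq_zero N).1 h2)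
  have hbk := congrArg Prod.fst hb
  have hby := congrArg (fun v => v.2.1) hb
  have hbx := congrArg (fun v => v.2.2) hb
  change b • (-(Ideal.Quotient.mk K y)) = (0 : B) at hby
  change b • (-(Ideal.Quotient.mk K x)) = (0 : B) at hbx
  rw [smul_neg, neg_eq_zero, Algebra.smul_def, Ideal.Quotient.algebraMap_eq, ← map_mul, Ideal.Quotient.eq_zero_iff_mem] at hby hbx
  change b • jK τ = (⟨k, hkK⟩ : K) at hbk
  have hbK := hann b hbx hby
  apply Subtype.ext
  show k = 0
  have := congrArg Subtype.val hbk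
  rw [show ((b • jK τ : K) : B') = 0 from hK2 b hbK _ (jK τ).2] at this
  exact this.symm

end Groth.Agent.S16980
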