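import Groth.Statements.S16981
import Mathlib
import Groth.Prelude

set_option linter.all false

set_option autoImplicit false
universe u v
open CAlg

open CategoryTheory MonoidalCategory

namespace Groth.Agent.S16981

/-- Let A be a complete Noetherian local ring and f : E → A a surjective ring homomorphism whose kernel
has square zero and is finitely generated (equivalently, is a finite A-module for the induced module
structure). Then E is separated and complete for the adic topology of the inverse image of the
maximal ideal of A. (The published statement takes A to be the completion of a local ring of a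
scheme of finite type over an Artinian local ring and the kernel the completion of a finite module;
this row assumes only that A is complete Noetherian local and the kernel finitely generated.) -/
theorem result
    {A : Type u} {E : Type v} [CommRing A] [CommRing E] [IsNoetherianRing A] [IsLocalRing A]
    [IsAdicComplete (IsLocalRing.maximalIdeal A) A]
    (f : E →+* A) (hf : Function.Surjective f)
    (hsq : RingHom.ker f ^ 2 = ⊥) (hfg : (RingHom.ker f).FG) :
    IsAdicComplete ((IsLocalRing.maximalIdeal A).comap f) E := by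
  classical
  set K := RingHom.ker f
  set m := IsLocalRing.maximalIdeal A
  set I := m.comap f
  have hKK : ∀ a b, a ∈ K → b ∈ K → a * b = 0 := fun a b ha hb =>
    Ideal.mem_bot.1 (hsq ▸ (sq K).symm ▸ Ideal.mul_mem_mul ha hb)
  have hKI : K ≤ I := fun x hx => by
    show f x ∈ m
    rw [RingHom.mem_ker.1 hx]; exact m.zero_mem
  -- lifting of units
  haveI : Nontrivial E := f.domain_nontrivial
  have hunit : ∀ x : E, x ∉ I → IsUnit x := fun x hx => by
    have hu : IsUnit (f x) := by
      by_contra h
      exact hx ((IsLocalRing.mem_maximalIdeal _).2 h)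
    obtain ⟨b, hb⟩ := hu.exists_right_inv
    obtain ⟨y, rfl⟩ := hf b
    have hk : x * y - 1 ∈ K := RingHom.mem_ker.2 (by rw [map_sub, map_mul, hb, map_one, sub_self])
    have hu2 : IsUnit (x * y) := by
      have hn : IsNilpotent (x * y - 1) := ⟨2, by rw [sq]; exact hKK _ _ hk hk⟩
      have := hn.isUnit_add_one
      rwa [sub_add_cancel] at this
    exact (IsUnit.mul_iff.1 hu2).1
  haveI : IsLocalRing E := IsLocalRing.of_nonunits_add fun a b ha hb => by
    have h1 : a ∈ I := by_contra fun h => ha (hunit a h)
    have h2 : b ∈ I := by_contra fun h => hb (hunit b h)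
    intro hu
    have hm : f (a + b) ∈ m := Ideal.mem_comap.1 (I.add_mem h1 h2)
    exact (IsLocalRing.mem_maximalIdeal _).1 hm (hu.map f)
  haveI : Module.Finite E K := Module.Finite.iff_fg.2 hfg
  haveI : IsNoetherianRing E := by
    rw [isNoetherianRing_iff, isNoetherian_iff_submodule_quotient K]
    have hqE : IsNoetherian E (E ⧸ K) := by
      haveI : IsNoetherianRing (E ⧸ K) := isNoetherianRing_of_ringEquiv A (RingHom.quotientKerEquivOfSurjective hf).symm
      let emb : Submodule E (E ⧸ K) ↪o Ideal (E ⧸ K) :=
        OrderEmbedding.ofMapLEIff (fun N =>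
          { carrier := N
            add_mem' := fun ha hb => N.add_mem ha hb
            zero_mem' := N.zero_mem
            smul_mem' := fun c x hx => by
              obtain ⟨c, rfl⟩ := Ideal.Quotient.mk_surjective c
              exact N.smul_mem c hx }) fun N N' => Iff.rfl
      haveI : WellFoundedGT (Ideal (E ⧸ K)) := isNoetherian_iff'.1 inferInstance
      exact isNoetherian_iff'.2 emb.wellFoundedGT
    refine ⟨?_, hqE⟩
    haveI := hqE
    obtain ⟨r, g, hg⟩ := Submodule.fg_iff_exists_fin_generating_family.1 hfg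
    have hgK : ∀ i, g i ∈ K := fun i => by rw [← hg]; exact Submodule.subset_span ⟨i, rfl⟩
    let φ : (Fin r → E ⧸ K) →ₗ[E] K :=
        ∑ i : Fin r, (Submodule.liftQ K ((LinearMap.toSpanSingleton E K ⟨g i, hgK i⟩)) fun x hx =>
          LinearMap.mem_ker.2 (Subtype.ext (hKK _ _ hx (hgK i)))) ∘ₗ LinearMap.proj i
    refine isNoetherian_of_surjective φ (LinearMap.range_eq_top.2 ?_)
    rintro ⟨x, hx⟩
    rw [← hg] at hx
    obtain ⟨c, rfl⟩ := Submodule.mem_span_range_iff_exists_fun E |>.1 hx
    exact ⟨fun i => Submodule.Quotient.mk (c i), Subtype.ext (by simp [φ]; exact Finset.sum_congr rfl fun i _ => rfl)⟩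
  have hI : I ≠ ⊤ := fun h => (IsLocalRing.maximalIdeal.isMaximal A).ne_top (by
    rw [Ideal.eq_top_iff_one]
    have : f 1 ∈ m := Ideal.mem_comap.1 (show (1 : E) ∈ I by rw [h]; trivial)
    rwa [map_one] at this)
  have hmap : ∀ n, (I ^ n).map f = m ^ n := fun n => by rw [Ideal.map_pow, Ideal.map_comap_of_surjective f hf]
  haveI hH : IsHausdorff I E := ⟨fun x hx => by
    have : x ∈ ⨅ n, I ^ n := (Submodule.mem_iInf _).2 fun n => by
      have := SModEq.zero.1 (hx n)
      simpa using this
    rwa [Ideal.iInf_pow_eq_bot_of_isLocalRing I hI, Ideal.mem_bot] at this⟩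
  haveI : IsPrecomplete I E := ⟨fun x hx => by
    have hx' : ∀ {a b : ℕ}, a ≤ b → x a - x b ∈ I ^ a := fun h => by
      have := SModEq.sub_mem.1 (hx h)
      simpa using this
    obtain ⟨L, hL⟩ := IsPrecomplete.prec (I := m) (M := A) inferInstance (f := fun n => f (x n)) (fun {a b} h => by
      rw [SModEq.sub_mem, Ideal.smul_top_eq_map, ← map_sub]
      simpa [hmap] using Ideal.mem_map_of_mem f (hx' h))
    obtain ⟨e, rfl⟩ := hf L
    have hk : ∀ n, ∃ k ∈ K, x n - e - k ∈ I ^ n := fun n => by
      have h1 : f (x n - e) ∈ (I ^ n).map f := by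
        rw [hmap, map_sub]
        have := SModEq.sub_mem.1 (hL n)
        simpa using this
      obtain ⟨y, hy, hfy⟩ := (Ideal.mem_map_iff_of_surjective f hf).1 h1
      exact ⟨x n - e - y, RingHom.mem_ker.2 (by rw [map_sub, hfy, sub_self]), by simpa using hy⟩
    choose k hkK hk using hk
    obtain ⟨c, hc⟩ := Ideal.exists_pow_inf_eq_pow_smul I (N := K)
    have hstep : ∀ n, k (n + c) - k (n + c + 1) ∈ I ^ n • K := fun n => by
      have h1 : k (n + c) - k (n + c + 1) ∈ I ^ (n + c) := by
        have := (I ^ (n + c)).add_mem ((I ^ (n + c)).sub_mem (hx' (Nat.le_succ (n + c))) (hk (n + c)))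
          (Ideal.pow_le_pow_right (Nat.le_succ (n + c)) (hk (n + c + 1)))
        rwa [show x (n + c) - x (n + c + 1) - (x (n + c) - e - k (n + c)) + (x (n + c + 1) - e - k (n + c + 1)) = k (n + c) - k (n + c + 1) by ring] at this
      have h2 : k (n + c) - k (n + c + 1) ∈ I ^ (n + c) • (⊤ : Submodule E E) ⊓ K := ⟨by simpa using h1, K.sub_mem (hkK _) (hkK _)⟩
      rw [hc _ (Nat.le_add_left c n), Nat.add_sub_cancel] at h2
      exact Submodule.smul_mono le_rfl inf_le_right h2
    obtain ⟨r, g, hg⟩ := Submodule.fg_iff_exists_fin_generating_family.1 hfg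
    have hcomb : ∀ (J : Ideal E) (z : E), z ∈ J • K → ∃ u : Fin r → E, (∀ i, u i ∈ J) ∧ ∑ i, u i * g i = z := by
      intro J z hz
      rw [← hg, Submodule.mem_ideal_smul_span_iff_exists_sum] at hz
      obtain ⟨a, ha, rfl⟩ := hz
      exact ⟨fun i => a i, ha, by rw [Finsupp.sum_fintype]; · simp
                                  · intro i; simp⟩
    choose u hu hue using fun n => hcomb _ _ (hstep n)
    let S : ℕ → Fin r → E := fun n i => ∑ j ∈ Finset.range n, u j i
    have hS : ∀ n, k c - k (n + c) = ∑ i, S n i * g i := by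
      intro n
      induction n with
      | zero => simp [S]
      | succ n ih =>
        have : ∑ i, S (n + 1) i * g i = ∑ i, S n i * g i + ∑ i, u n i * g i := by
          rw [← Finset.sum_add_distrib]; exact Finset.sum_congr rfl fun i _ => by simp [S, Finset.sum_range_succ, add_mul]
        rw [this, ← ih, hue, show n + 1 + c = n + c + 1 by ring]; ring
    have hScauchy : ∀ i {a b : ℕ}, a ≤ b → S a i - S b i ∈ I ^ a := fun i {a b} h => by
      simp only [S]
      rw [← Finset.sum_range_add_sum_Ico _ h, sub_add_cancel_left]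
      exact Ideal.neg_mem_iff _ |>.2 (Ideal.sum_mem _ fun j hj => Ideal.pow_le_pow_right (Finset.mem_Ico.1 hj).1 (hu j i))
    choose T hT using fun i => IsPrecomplete.prec (I := m) (M := A) inferInstance (f := fun n => f (S n i)) (fun {a b} h => by
      rw [SModEq.sub_mem, Ideal.smul_top_eq_map, ← map_sub]
      simpa [hmap] using Ideal.mem_map_of_mem f (hScauchy i h))
    choose t ht using fun i => hf (T i)
    refine ⟨e + (k c - ∑ i, t i * g i), fun n => ?_⟩
    rw [SModEq.sub_mem]
    have hgK : ∀ i, g i ∈ K := fun i => hg ▸ Submodule.subset_span ⟨i, rfl⟩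
    have hterm : ∀ i, (t i - S n i) * g i ∈ I ^ n := fun i => by
      have h1 : f (t i - S n i) ∈ (I ^ n).map f := by
        rw [hmap, map_sub, ht, ← neg_sub, Ideal.neg_mem_iff]
        have := SModEq.sub_mem.1 (hT i n)
        simpa using this
      obtain ⟨y, hy, hfy⟩ := (Ideal.mem_map_iff_of_surjective f hf).1 h1
      have hz : (t i - S n i - y) * g i = 0 := hKK _ _ (RingHom.mem_ker.2 (by rw [map_sub, hfy, sub_self])) (hgK i)
      rw [sub_mul, sub_eq_zero] at hz
      rw [hz]; exact Ideal.mul_mem_right _ _ hy
    have : x n - (e + (k c - ∑ i, t i * g i)) = (x n - x (n + c)) + (x (n + c) - e - k (n + c)) + ∑ i, (t i - S n i) * g i := by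
      simp only [sub_mul, Finset.sum_sub_distrib, ← hS]; ring
    rw [this]
    have hA1 : x n - x (n + c) ∈ I ^ n := hx' (Nat.le_add_right n c)
    have hA2 : x (n + c) - e - k (n + c) ∈ I ^ n := Ideal.pow_le_pow_right (Nat.le_add_right n c) (hk (n + c))
    have hA3 : ∑ i, (t i - S n i) * g i ∈ I ^ n := Submodule.sum_mem (I ^ n) (fun i _ => hterm i)
    have hfin : x n - x (n + c) + (x (n + c) - e - k (n + c)) + ∑ i, (t i - S n i) * g i ∈ I ^ n :=
      Ideal.add_mem (I ^ n) (Ideal.add_mem (I ^ n) hA1 hA2) hA3
    have hI9 : (I ^ n • ⊤ : Submodule E E) = I ^ n := by simp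
    rw [hI9]
    exact hfin⟩
  exact ⟨⟩

end Groth.Agent.S16981
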