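import Groth.Statements.S16982
import Mathlib
import Groth.Prelude
import Groth.Agent.S16981

set_option linter.all false

set_option autoImplicit false
universe u v w w'
open CAlg


namespace Groth.Agent.S16982

theorem sub_truncTotal_mem_pow {R : Type u} [CommRing R] {σ : Type v} [Finite σ] (n : ℕ)
    (φ : MvPowerSeries σ R) :
    φ - (MvPowerSeries.truncTotal n φ : MvPowerSeries σ R) ∈ (Ideal.span (Set.range (MvPowerSeries.X : σ → MvPowerSeries σ R))) ^ n := by
  let P := MvPolynomial σ R
  let I := MvPolynomial.idealOfVars σ R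
  let e := MvPowerSeries.toAdicCompletionAlgEquiv σ R
  let z := φ - (MvPowerSeries.truncTotal n φ : MvPowerSeries σ R)
  have h1 : e z ∈ (AdicCompletion.eval I P n).ker := by
    rw [LinearMap.mem_ker, AdicCompletion.eval_apply]
    show (MvPowerSeries.toAdicCompletion σ R z).val n = 0
    rw [MvPowerSeries.toAdicCompletion_apply_eq_mk_truncTotal]
    refine Ideal.Quotient.eq_zero_iff_mem.2 ?_
    rw [smul_eq_mul, Ideal.mul_top, MvPolynomial.mem_pow_idealOfVars_iff']
    intro x hx
    rw [MvPowerSeries.coeff_truncTotal _ hx]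
    simp [z, MvPowerSeries.coeff_truncTotal _ hx]
  rw [← AdicCompletion.pow_smul_top_eq_ker_eval (MvPolynomial.idealOfVars_fg σ R), Ideal.smul_top_eq_map] at h1
  have h2 := Ideal.mem_map_of_mem e.symm.toAlgHom.toRingHom (show e z ∈ (I ^ n).map (algebraMap P (AdicCompletion I P)) from h1)
  rw [Ideal.map_map, AlgHom.toRingHom_eq_coe, AlgHom.comp_algebraMap, Ideal.map_pow, Ideal.map_span, ← Set.range_comp] at h2
  have h3 : e.symm.toAlgHom.toRingHom (e z) = z := e.symm_apply_apply z
  have h4 : (algebraMap P (MvPowerSeries σ R)) ∘ MvPolynomial.X = (MvPowerSeries.X : σ → MvPowerSeries σ R) := by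
    funext i; exact MvPolynomial.coe_X i
  rw [h4] at h2
  have h5 : e.symm (e z) ∈ Ideal.span (Set.range (MvPowerSeries.X : σ → MvPowerSeries σ R)) ^ n := h2
  rwa [AlgEquiv.symm_apply_apply] at h5

/-- Let R be a commutative ring, A a complete Noetherian local R-algebra written as a quotient of a
power series ring over R in finitely many variables by a surjective R-algebra map π, and f : E → A a
surjective R-algebra map whose kernel has square zero and is finitely generated. Then π lifts along
f to an R-algebra map λ from the power series ring to E with f ∘ λ = π. (The published statement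
takes R Artinian local and asks for a lift that is continuous for the adic topologies; this row
allows any commutative R and asks for any lift.) -/
theorem result
    {R : Type u} [CommRing R] {σ : Type v} [Finite σ]
    {A : Type w} {E : Type w'} [CommRing A] [CommRing E] [Algebra R A] [Algebra R E]
    [IsNoetherianRing A] [IsLocalRing A] [IsAdicComplete (IsLocalRing.maximalIdeal A) A]
    (π : MvPowerSeries σ R →ₐ[R] A) (hπ : Function.Surjective π)
    (f : E →ₐ[R] A) (hf : Function.Surjective f)
    (hsq : RingHom.ker f.toRingHom ^ 2 = ⊥) (hfg : (RingHom.ker f.toRingHom).FG) :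
    ∃ l : MvPowerSeries σ R →ₐ[R] E, f.comp l = π := by
  classical
  let m := IsLocalRing.maximalIdeal A
  let I := m.comap f.toRingHom
  haveI : IsAdicComplete I E := Groth.Agent.S16981.result f.toRingHom hf hsq hfg
  have hX : ∀ i, π (MvPowerSeries.X i) ∈ m := by
    intro i
    by_contra hi
    obtain ⟨b, hb⟩ := (IsLocalRing.notMem_maximalIdeal.1 hi).exists_right_inv
    obtain ⟨y, rfl⟩ := hπ b
    have hu : IsUnit (1 - MvPowerSeries.X i * y) := by
      rw [MvPowerSeries.isUnit_iff_constantCoeff]; simp
    have := hu.map π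
    rw [map_sub, map_mul, hb, map_one, sub_self, isUnit_zero_iff] at this
    exact zero_ne_one this
  choose e he using fun i => hf (π (MvPowerSeries.X i))
  have heI : ∀ i, e i ∈ I := fun i => by
    show f (e i) ∈ m
    rw [he]; exact hX i
  have hle : ∀ n, ∀ p ∈ MvPolynomial.idealOfVars σ R ^ n, ((Ideal.Quotient.mkₐ R (I ^ n)).comp (MvPolynomial.aeval e)) p = 0 := by
    intro n p hp
    refine Ideal.Quotient.eq_zero_iff_mem.2 ?_
    have := Ideal.mem_map_of_mem (MvPolynomial.aeval e : MvPolynomial σ R →ₐ[R] E).toRingHom hp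
    rw [Ideal.map_pow, Ideal.map_span, ← Set.range_comp] at this
    refine Ideal.pow_right_mono (Ideal.span_le.2 ?_) n this
    rintro _ ⟨i, rfl⟩
    simpa using heI i
  let F : ∀ n, MvPowerSeries σ R →ₐ[R] E ⧸ I ^ n := fun n =>
    (Ideal.Quotient.liftₐ _ _ (hle n)).comp ((MvPowerSeries.truncTotalAlgHom σ R n).restrictScalars R)
  have hFapp : ∀ n φ, F n φ = Ideal.Quotient.mk (I ^ n) (MvPolynomial.aeval e (MvPowerSeries.truncTotal n φ)) := fun n φ => by
    show ((Ideal.Quotient.mkₐ R (I ^ n)).comp (MvPolynomial.aeval e)) _ = _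
    rfl
  have hF : ∀ {a b : ℕ} (h : a ≤ b), (Ideal.Quotient.factorₐ R (Ideal.pow_le_pow_right h)).comp (F b) = F a := by
    intro a b h
    refine AlgHom.ext fun φ => ?_
    rw [AlgHom.comp_apply, hFapp, hFapp, Ideal.Quotient.factorₐ_apply, Ideal.Quotient.factor_mk, Ideal.Quotient.eq]
    have := hle a _ (MvPowerSeries.truncTotal_sub_truncTotal_mem_pow_idealOfVars h le_rfl φ)
    rw [AlgHom.comp_apply, Ideal.Quotient.mkₐ_eq_mk, Ideal.Quotient.eq_zero_iff_mem, map_sub] at this
    exact this
  refine ⟨IsAdicComplete.liftAlgHom I F hF, AlgHom.ext fun φ => ?_⟩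
  refine IsHausdorff.eq_iff_smodEq (I := m).2 fun n => ?_
  rw [SModEq.sub_mem, smul_eq_mul, Ideal.mul_top]
  let L := IsAdicComplete.liftAlgHom I F hF φ
  have h1 : L - MvPolynomial.aeval e (MvPowerSeries.truncTotal n φ) ∈ I ^ n := by
    rw [← Ideal.Quotient.eq, ← hFapp]
    exact IsAdicComplete.mk_liftAlgHom I F hF n φ
  have h2 : f L - f (MvPolynomial.aeval e (MvPowerSeries.truncTotal n φ)) ∈ m ^ n := by
    have := Ideal.mem_map_of_mem f.toRingHom h1
    rw [Ideal.map_pow, Ideal.map_comap_of_surjective f.toRingHom hf] at this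
    simpa using this
  have h3 : π φ - π (MvPowerSeries.truncTotal n φ : MvPowerSeries σ R) ∈ m ^ n := by
    have := Ideal.mem_map_of_mem π.toRingHom (sub_truncTotal_mem_pow n φ)
    rw [Ideal.map_pow, Ideal.map_span, ← Set.range_comp] at this
    refine Ideal.pow_right_mono (Ideal.span_le.2 ?_) n (by simpa using this)
    rintro _ ⟨i, rfl⟩
    exact hX i
  have h4 : ∀ p : MvPolynomial σ R, f (MvPolynomial.aeval e p) = π (p : MvPowerSeries σ R) := fun p => by
    refine AlgHom.congr_fun (φ₁ := f.comp (MvPolynomial.aeval e)) (φ₂ := π.comp (MvPolynomial.coeToMvPowerSeries.algHom R)) (MvPolynomial.algHom_ext fun i => ?_) p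
    simp [he]
  show f L - π φ ∈ m ^ n
  have h5 := Ideal.sub_mem _ h2 h3
  rw [h4] at h5
  rwa [sub_sub_sub_cancel_right] at h5

end Groth.Agent.S16982
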