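import Groth.Statements.S16983
import Mathlib.Tactic

set_option autoImplicit false
universe u
open DeformData

namespace Groth.Agent.S16983

/-- Let p be a prime, s ≥ 1, B a finite index set with a subset B₀ of exactly three elements, m_j ≥ 1
integers coprime to p, and σ_{i,j} (i < s, j ∈ B) rational numbers with m_j σ_{i,j} an integer, such
that Σ_j (σ_{i,j} − 1) = −2 for every i, the fractional part of σ_{i,j} equals that of p^i σ_{0,j},
no σ_{i,j} equals 1, and the minimum over i of ⌊σ_{i,j}⌋ is 0 for j ∈ B₀ and 1 for j ∉ B₀. Then for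
every i the fractional parts ⟨σ_{i,j}⟩ sum over j to 1 (purity), and ⌊σ_{i,j}⌋ is 0 on B₀ and 1 off
B₀ for every i. (The hypotheses are exactly the properties of the signature of a special deformation
datum on the projective line: each entry is an integer divided by a stabilizer order m_j in a group
of order prime to p, the degree identity coming from Riemann–Hurwitz, the Frobenius-twist relation
between fractional parts, and the speciality conditions; the statement is given here for any such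
tuple.) -/
theorem result
    {B : Type u} [Fintype B] [DecidableEq B] (B₀ : Finset B) (hB₀ : B₀.card = 3)
    (p : ℕ) (hp : p.Prime) (s : ℕ) (hs : 0 < s)
    (m : B → ℕ) (hm : ∀ j, 0 < m j) (hmp : ∀ j, Nat.Coprime (m j) p)
    (σ : Fin s → B → ℚ) (hint : ∀ i j, ∃ h : ℤ, σ i j = (h : ℚ) / (m j : ℚ))
    (hsum : ∀ i, ∑ j, (σ i j - 1) = -2)
    (hfract : ∀ i j, Int.fract (σ i j) = Int.fract ((p : ℚ) ^ (i : ℕ) * σ ⟨0, hs⟩ j))
    (hne : ∀ i j, σ i j ≠ 1)
    (hB₀min : ∀ j ∈ B₀, (∃ i, ⌊σ i j⌋ = 0) ∧ ∀ i, 0 ≤ ⌊σ i j⌋)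
    (hBmin : ∀ j ∉ B₀, (∃ i, ⌊σ i j⌋ = 1) ∧ ∀ i, 1 ≤ ⌊σ i j⌋) :
    (∀ i, ∑ j, Int.fract (σ i j) = 1) ∧ (∀ i j, ⌊σ i j⌋ = if j ∈ B₀ then 0 else 1) := by
  classical
  have hF0 : ∀ i j, Int.fract (σ i j) = 0 → ∀ i', Int.fract (σ i' j) = 0 := by
    intro i j h i'
    obtain ⟨t, ht⟩ := hint ⟨0, hs⟩ j
    have hmq : (m j : ℚ) ≠ 0 := by exact_mod_cast (hm j).ne'
    rw [hfract i j, ht, Int.fract_eq_iff] at h
    obtain ⟨-, -, z, hz⟩ := h
    have hdvd : (m j : ℤ) ∣ (p : ℤ) ^ (i : ℕ) * t := ⟨z, by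
      rw [sub_zero, mul_div_assoc', div_eq_iff hmq] at hz
      have : (((p : ℤ) ^ (i : ℕ) * t : ℤ) : ℚ) = (((m j : ℤ) * z : ℤ) : ℚ) := by push_cast; rw [hz]; ring
      exact_mod_cast this⟩
    have hcop : IsCoprime (m j : ℤ) ((p : ℤ) ^ (i : ℕ)) := (Nat.isCoprime_iff_coprime.2 (hmp j)).pow_right
    obtain ⟨c, rfl⟩ := hcop.dvd_of_dvd_mul_left hdvd
    rw [hfract i' j, ht]
    push_cast
    rw [mul_div_cancel_left₀ _ hmq]
    exact_mod_cast Int.fract_intCast ((p : ℤ) ^ (i' : ℕ) * c)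
  have hlow : ∀ i j, (if j ∈ B₀ then (0 : ℤ) else 1) ≤ ⌊σ i j⌋ := fun i j => by
    split_ifs with h
    · exact (hB₀min j h).2 i
    · exact (hBmin j h).2 i
  have hcard : ∑ j, (if j ∈ B₀ then (0 : ℤ) else 1) = (Fintype.card B : ℤ) - 3 := by
    rw [Finset.sum_ite, Finset.sum_const_zero, zero_add, Finset.sum_const, nsmul_one, Finset.filter_not,
      Finset.filter_mem_eq_inter, Finset.univ_inter, Finset.card_univ_sdiff, hB₀, Nat.cast_sub (hB₀ ▸ Finset.card_le_univ B₀)]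
    norm_num
  have hrel : ∀ i, ∑ j, Int.fract (σ i j) = (((Fintype.card B : ℤ) - 2 - ∑ j, ⌊σ i j⌋ : ℤ) : ℚ) := fun i => by
    have h := hsum i
    rw [Finset.sum_sub_distrib, Finset.sum_const, nsmul_one, Finset.card_univ] at h
    simp only [Int.fract, Finset.sum_sub_distrib]
    push_cast
    linarith
  have key : ∀ i, ∑ j, Int.fract (σ i j) = 1 := by
    intro i
    have h1 : (Fintype.card B : ℤ) - 3 ≤ ∑ j, ⌊σ i j⌋ := hcard ▸ Finset.sum_le_sum fun j _ => hlow i j
    have h2 : (0 : ℤ) ≤ (Fintype.card B : ℤ) - 2 - ∑ j, ⌊σ i j⌋ := by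
      have := Finset.sum_nonneg fun j (_ : j ∈ Finset.univ) => Int.fract_nonneg (σ i j)
      rw [hrel] at this
      exact_mod_cast this
    rcases eq_or_lt_of_le h2 with h0 | h0
    swap
    · rw [hrel, show (Fintype.card B : ℤ) - 2 - ∑ j, ⌊σ i j⌋ = 1 by omega, Int.cast_one]
    exfalso
    have hz : ∀ i' j, Int.fract (σ i' j) = 0 := fun i' j => by
      refine hF0 i j ?_ i'
      have hs0 : ∑ j, Int.fract (σ i j) = 0 := by rw [hrel, ← h0, Int.cast_zero]
      exact (Finset.sum_eq_zero_iff_of_nonneg fun j _ => Int.fract_nonneg _).1 hs0 j (Finset.mem_univ _)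
    have hfl : ∀ i' j, ⌊σ i' j⌋ ≠ 1 := fun i' j h => hne i' j (by
      rw [← Int.floor_add_fract (σ i' j), h, hz, add_zero, Int.cast_one])
    have hall : ∀ j, j ∈ B₀ := fun j => by
      by_contra hj
      obtain ⟨i', hi'⟩ := (hBmin j hj).1
      exact hfl i' j hi'
    have hs1 : ∑ j, ⌊σ i j⌋ = 1 := by
      have : Fintype.card B = 3 := by rw [← hB₀, Finset.eq_univ_iff_forall.2 hall, Finset.card_univ]
      omega
    obtain ⟨j, -, hj⟩ := Finset.exists_ne_zero_of_sum_ne_zero (s := Finset.univ) (by rw [hs1]; exact one_ne_zero)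
    have h3 := Finset.single_le_sum (f := fun j => ⌊σ i j⌋) (fun j _ => (hB₀min j (hall j)).2 i) (Finset.mem_univ j)
    have h4 := (hB₀min j (hall j)).2 i
    have := hfl i j
    simp only [hs1] at h3
    omega
  refine ⟨key, fun i j => ?_⟩
  have h := hrel i
  rw [key] at h
  have h' : (1 : ℤ) = (Fintype.card B : ℤ) - 2 - ∑ j, ⌊σ i j⌋ := by exact_mod_cast h
  exact ((Finset.sum_eq_sum_iff_of_le fun j _ => hlow i j).1 (by omega) j (Finset.mem_univ j)).symm

end Groth.Agent.S16983
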