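import Groth.Statements.S16986
import Groth.Agent.QuadLib.Smooth

set_option autoImplicit false
universe u
open CategoryTheory AlgebraicGeometry
open QuadGrp

namespace Groth.Agent.S16986

/-- Let Q be a quadratic form on R^n, n ≥ 1, over a commutative ring R, non-degenerate in the sense that
its polar form is a perfect pairing when n is even and its half-discriminant (in the standard basis)
is a unit when n is odd, and let G be a group scheme over Spec R which is the orthogonal group of Q
(its A-valued points are the isometries of the base change Q_A, naturally in the R-algebra A). Then
G is smooth over Spec R if and only if n is even or 2 is a unit in R. (The published statement is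
for a line-bundle-valued form on a vector bundle over an arbitrary scheme; the case of a free module
over an affine base with trivialised values is stated.) -/
theorem result (R : Type u) [CommRing R] (n : ℕ) (hn : 1 ≤ n)
    (Q : QuadraticForm R (Fin n → R))
    (hQ : QuadGrp.IsNondeg (Pi.basisFun R (Fin n)) (LinearEquiv.refl R R) Q)
    (G : Over (Spec (CommRingCat.of R))) [GrpObj G] (D : QuadGrp.OrthRep Q G) :
    AlgebraicGeometry.Smooth G.hom ↔ (Even n ∨ IsUnit (2 : R)) := by
  haveI : Module.Free R (Fin n → R) := inferInstance
  let b := Pi.basisFun R (Fin n)
  rw [Groth.Agent.QuadLib.smooth_iff_of_ptData (Groth.Agent.QuadLib.orthPt b Q) D]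
  refine ⟨fun hs => ?_, Groth.Agent.QuadLib.orth_smooth b Q hQ⟩
  rcases Nat.even_or_odd n with he | ho
  · exact Or.inl he
  · exact Or.inr (Groth.Agent.QuadLib.isUnit_two_of_orth_smooth b Q hQ ho)

end Groth.Agent.S16986
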