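import Groth.Statements.S16999
import Groth.Agent.CliffStr.OddGlobal

set_option autoImplicit false
universe u v
open QuadGrp

namespace Groth.Agent.S16999

/-- Centre over a local base: over a local ring R, let Q be a quadratic form on a free module M with a
basis indexed by Fin (2m+1) whose half-discriminant in that basis is a unit. Then the centre of the
Clifford algebra C(Q) is generated by the square root of a unit: there is a central unit z, odd for
the ℤ/2-grading, with z² a scalar, such that 1, z are linearly independent and span the centre. (The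
published statement: the centre is a ℤ/2-graded locally free module of rank 2 with degree-0 part the
structure sheaf and degree-1 part an invertible sheaf squaring to it; over a local base this is the
form stated.) -/
theorem result {R : Type u} [CommRing R] [IsLocalRing R]
    {M : Type v} [AddCommGroup M] [Module R M]
    (m : ℕ) (b : Module.Basis (Fin (2 * m + 1)) R M) (Q : QuadraticForm R M)
    (hQ : QuadGrp.IsSemiregular b (LinearEquiv.refl R R) Q) :
    ∃ z : CliffordAlgebra Q, z ∈ Subalgebra.center R (CliffordAlgebra Q) ∧ z ∈ CliffordAlgebra.evenOdd Q 1 ∧ IsUnit z ∧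
      z * z ∈ (algebraMap R (CliffordAlgebra Q)).range ∧ LinearIndependent R ![(1 : CliffordAlgebra Q), z] ∧
      Subalgebra.toSubmodule (Subalgebra.center R (CliffordAlgebra Q)) = Submodule.span R {1, z} := by
  obtain ⟨c, hc, ⟨u, hu, hcu⟩, -, hcen, -⟩ := CliffStr.exists_local_gen b hQ
  haveI := Module.Free.of_basis b
  have hmem : c ∈ Subalgebra.center R (CliffordAlgebra Q) := (CliffStr.mem_center_iff c).2 hc.central
  obtain ⟨u, rfl⟩ := hu
  refine ⟨c, hmem, hc.odd, ⟨⟨c, (↑u⁻¹ : R) • c, ?_, ?_⟩, rfl⟩, ⟨_, hcu.symm⟩, ?_, le_antisymm ?_ ?_⟩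
  · rw [mul_smul_comm, hcu, Algebra.algebraMap_eq_smul_one, smul_smul, Units.inv_mul, one_smul]
  · rw [smul_mul_assoc, hcu, Algebra.algebraMap_eq_smul_one, smul_smul, Units.inv_mul, one_smul]
  · refine LinearIndependent.pair_iff.2 fun s t hst => ?_
    obtain ⟨h1, h2⟩ := CliffStr.eq_zero_of_add_eq_zero (a := s • (1 : CliffordAlgebra Q)) (b := t • c)
      (Submodule.smul_mem _ s (SetLike.one_mem_graded _)) (Submodule.smul_mem _ t hc.odd) hst
    have h3 : t • (c * c) = 0 := by rw [← smul_mul_assoc, h2, zero_mul]
    rw [hcu, Algebra.algebraMap_eq_smul_one, smul_smul, ← Algebra.algebraMap_eq_smul_one] at h3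
    rw [← Algebra.algebraMap_eq_smul_one] at h1
    refine ⟨CliffStr.algebraMap_inj h1, ?_⟩
    exact (Units.mul_left_eq_zero u).1 (CliffStr.algebraMap_inj h3)
  · intro y hy
    obtain ⟨a, s, rfl⟩ := hcen y hy
    rw [Algebra.algebraMap_eq_smul_one]
    exact add_mem (Submodule.smul_mem _ a (Submodule.subset_span (Set.mem_insert _ _)))
      (Submodule.smul_mem _ s (Submodule.subset_span (Set.mem_insert_of_mem _ rfl)))
  · refine Submodule.span_le.2 ?_
    rintro y (rfl | rfl)
    · exact one_mem (Subalgebra.center R (CliffordAlgebra Q))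
    · exact hmem

end Groth.Agent.S16999
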