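import Groth.Statements.S17000
import Groth.Agent.QuadLib.SplitSorth

set_option autoImplicit false
open CategoryTheory AlgebraicGeometry
open QuadGrp

namespace Groth.Agent.S17000

/-- For m ≥ 1, a group scheme over Spec ℤ which is the naive special orthogonal group (kernel of the
determinant on the orthogonal group) of the standard split quadratic form in 2m variables is a
reduced scheme and is not flat over ℤ. (The published statement also identifies the complement of
the Dickson special orthogonal group inside it with the non-identity component of the orthogonal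
group in characteristic 2.) -/
theorem result (m : ℕ) (hm : 1 ≤ m)
    (G : Over (Spec (CommRingCat.of ℤ))) [GrpObj G] (D : QuadGrp.SOrth'Rep (QuadGrp.splitForm ℤ (2 * m)) G) :
    AlgebraicGeometry.IsReduced G.left ∧ ¬ AlgebraicGeometry.Flat G.hom := by
  obtain ⟨u, hu, he⟩ := Groth.Agent.QuadLib.exists_iso_of_ptData
    (Groth.Agent.QuadLib.sorthPt (Pi.basisFun ℤ (Fin (2 * m))) (QuadGrp.splitForm ℤ (2 * m))) D
  obtain ⟨e⟩ := Groth.Agent.QuadLib.exists_algEquiv m
  haveI := Groth.Agent.QuadLib.isReduced_quot m
  haveI : _root_.IsReduced (Groth.Agent.QuadLib.sorthEqs (Pi.basisFun ℤ (Fin (2 * m)))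
      (QuadGrp.splitForm ℤ (2 * m))).Coord :=
    isReduced_of_injective e.toRingEquiv e.toRingEquiv.injective
  refine ⟨isReduced_of_isOpenImmersion (inv u), fun hfl => Groth.Agent.QuadLib.not_flat_quot m hm ?_⟩
  rw [← MorphismProperty.cancel_left_of_respectsIso @AlgebraicGeometry.Flat u G.hom, he,
    HasRingHomProperty.Spec_iff (P := @AlgebraicGeometry.Flat), CommRingCat.hom_ofHom,
    RingHom.flat_algebraMap_iff] at hfl
  exact Module.Flat.of_linearEquiv e.toLinearEquiv.symm

end Groth.Agent.S17000
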