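import Groth.Statements.S17005
import Groth.Agent.QuadLib.Infinitesimal

set_option autoImplicit false
universe u
open scoped TensorProduct
open QuadGrp

namespace Groth.Agent.S17005

/-- Let Q be a non-degenerate quadratic form on R^n, n ≥ 3, over a commutative ring R (perfect polar
pairing for even n, unit half-discriminant in the standard basis for odd n). An isometry g of Q of
determinant one commutes, after base change to every R-algebra A, with every determinant-one
isometry of Q_A if and only if g is multiplication by a scalar whose square is one; for odd n such a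
scalar is 1 because the determinant of g is its n-th power. (Points-level form of: the functorial
centre of the naive special orthogonal group is the central μ₂ for even rank and trivial for odd
rank.) -/
theorem result (R : Type u) [CommRing R] (n : ℕ) (hn : 3 ≤ n)
    (Q : QuadraticForm R (Fin n → R))
    (hQ : QuadGrp.IsNondeg (Pi.basisFun R (Fin n)) (LinearEquiv.refl R R) Q)
    (g : (Fin n → R) ≃ₗ[R] (Fin n → R)) (hg : g ∈ QuadGrp.SO' Q) :
    (∀ (A : Type u) [CommRing A] [Algebra R A], ∀ h ∈ QuadGrp.sorth' Q A,
        g.baseChange R A (Fin n → R) (Fin n → R) * h = h * g.baseChange R A (Fin n → R) (Fin n → R)) ↔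
      ∃ c : R, c * c = 1 ∧ ∀ v, g v = c • v := by
  refine ⟨fun h => ?_, fun ⟨c, _, hc⟩ A _ _ k _ => Groth.Agent.QuadLib.commute_baseChange_of_scalar hc A k⟩
  have hcomm := Groth.Agent.QuadLib.commutes_of_dual Q (g := g) fun x y =>
    h (DualNumber R) _ (Groth.Agent.QuadLib.dualRot_mem_sorth' Q x y)
  obtain ⟨c, hc⟩ := Groth.Agent.QuadLib.isScalar_of_commutes _ hcomm (hn) (Pi.basisFun R _)
    (fun P hP => Groth.Agent.QuadLib.exists_minor_notMem (by omega) _ Q (hQ) P hP)
  exact ⟨c, Groth.Agent.QuadLib.scalar_sq_eq_one (by omega) _ Q (hQ) (hg.1) hc, hc⟩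

end Groth.Agent.S17005
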