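import Groth.Statements.S17018
import Groth.Agent.ModelLib7.SpecialFibre
-- import your own Groth.Agent.* helpers here

set_option autoImplicit false
set_option backward.isDefEq.respectTransparency false
universe u
open CategoryTheory CategoryTheory.Limits AlgebraicGeometry
open scoped TensorProduct
open Models

namespace Groth.Agent.S17018

/-- Let R be a discrete valuation ring with algebraically closed residue field and f : X → Spec R a
proper flat morphism whose generic fibre (base change to the fraction field of R) is smooth of
relative dimension 1 and connected and whose special fibre (base change to the residue field) is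
connected and reduced; let ξ be the generic point of an irreducible component of the special fibre
and B a discrete valuation ring given with an isomorphism from the local ring of X at ξ under which
R → B is the map induced by f. Then the maximal ideal of B is the extension of the maximal ideal of
R: a uniformizer of R maps to a uniformizer of B. (The published setting takes everything
essentially of finite type over a field of characteristic zero; the printed argument does not use
this and it is not imposed here.) -/
theorem result
    (R : Type u) [CommRing R] [IsDomain R] [IsDiscreteValuationRing R]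
    [IsAlgClosed (IsLocalRing.ResidueField R)]
    (X : Scheme.{u}) (f : X ⟶ Spec (CommRingCat.of R)) [IsProper f] [Flat f]
    (XK : Scheme.{u}) (gK : XK ⟶ X) (fK : XK ⟶ Spec (CommRingCat.of (FractionRing R)))
    (hK : IsPullback gK fK f (Spec.map (CommRingCat.ofHom (algebraMap R (FractionRing R)))))
    [SmoothOfRelativeDimension 1 fK] [ConnectedSpace XK]
    (Xs : Scheme.{u}) (gs : Xs ⟶ X) (fs : Xs ⟶ Spec (CommRingCat.of (IsLocalRing.ResidueField R)))
    (hs : IsPullback gs fs f (Spec.map (CommRingCat.ofHom (IsLocalRing.residue R))))
    [ConnectedSpace Xs] [IsReduced Xs]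
    (ξ : Xs) (hξ : closure ({ξ} : Set Xs) ∈ irreducibleComponents Xs)
    (B : Type u) [CommRing B] [IsDomain B] [IsDiscreteValuationRing B] [Algebra R B]
    (e : X.presheaf.stalk (gs.base ξ) ≅ CommRingCat.of B)
    (he : e.hom.hom.comp ((X.presheaf.germ ⊤ (gs.base ξ) trivial).hom.comp (Coh.toGlobal f)) =
      algebraMap R B) :
    IsLocalRing.maximalIdeal B = Ideal.map (algebraMap R B) (IsLocalRing.maximalIdeal R) := by
  let i : Spec (CommRingCat.of (IsLocalRing.ResidueField R)) ⟶ Spec (CommRingCat.of R) :=
    Spec.map (CommRingCat.ofHom (algebraMap R (IsLocalRing.ResidueField R)))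
  obtain ⟨ε, hε⟩ : ∃ ε : Xs ≅ pullback f i, ε.hom ≫ pullback.fst f i = gs :=
    ⟨hs.isoPullback, hs.isoPullback_hom_fst⟩
  clear hs
  subst hε
  obtain ⟨hsurj, hker⟩ := ModelLib7.ker_stalkMap_closedFibre f (ε.hom ξ)
  have hfield : IsField (Xs.presheaf.stalk ξ) := isField_stalk_of_closure_mem_irreducibleComponents _ _ hξ
  have hmax : RingHom.ker ((pullback.fst f i).stalkMap (ε.hom ξ)).hom = IsLocalRing.maximalIdeal _ := by
    refine IsLocalRing.eq_maximalIdeal ?_
    letI := (((ε.hom.stalkMap ξ).hom).toAlgebra)
    have hb : Function.Bijective (ε.hom.stalkMap ξ).hom := ConcreteCategory.bijective_of_isIso (ε.hom.stalkMap ξ)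
    have hf2 : IsField ((pullback f i).presheaf.stalk (ε.hom ξ)) :=
      MulEquiv.isField hfield (RingEquiv.ofBijective _ hb).toMulEquiv
    letI := hf2.toField
    exact RingHom.ker_isMaximal_of_surjective _ hsurj
  let E := e.commRingCatIsoToRingEquiv
  rw [← IsLocalRing.map_maximalIdeal_of_surjective E.toRingHom E.surjective, ← he, ← Ideal.map_map]
  exact congrArg (Ideal.map E.toRingHom) (hmax.symm.trans hker)

end Groth.Agent.S17018
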