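import Groth.Statements.S17019
import Groth.Agent.S17018
import Groth.Agent.ModelLib7.GenericFibreField
import Groth.Agent.ModelLib7.DVRTensor
-- import your own Groth.Agent.* helpers here

set_option autoImplicit false
set_option backward.isDefEq.respectTransparency false
universe u
open CategoryTheory CategoryTheory.Limits AlgebraicGeometry
open scoped TensorProduct
open Models

namespace Groth.Agent.S17019

/-- Let R be a discrete valuation ring with algebraically closed residue field and f : X → Spec R a
proper flat morphism whose generic fibre (base change to the fraction field of R) is smooth of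
relative dimension 1 and connected and whose special fibre (base change to the residue field) is
connected and reduced; let ξ be the generic point of an irreducible component of the special fibre
and B a discrete valuation ring given with an isomorphism from the local ring of X at ξ under which
R → B is the map induced by f; let R' be a discrete valuation ring with an injective local
homomorphism R → R' which is generically finite (Frac R ⊗_R R' is a finite module over Frac R). Then
B ⊗_R R' is an integral domain and a discrete valuation ring. (The published setting takes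
everything essentially of finite type over a field of characteristic zero; the printed argument does
not use this and it is not imposed here.) -/
theorem result
    (R : Type u) [CommRing R] [IsDomain R] [IsDiscreteValuationRing R]
    [IsAlgClosed (IsLocalRing.ResidueField R)]
    (X : Scheme.{u}) (f : X ⟶ Spec (CommRingCat.of R)) [IsProper f] [Flat f]
    (XK : Scheme.{u}) (gK : XK ⟶ X) (fK : XK ⟶ Spec (CommRingCat.of (FractionRing R)))
    (hK : IsPullback gK fK f (Spec.map (CommRingCat.ofHom (algebraMap R (FractionRing R)))))
    [SmoothOfRelativeDimension 1 fK] [ConnectedSpace XK]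
    (Xs : Scheme.{u}) (gs : Xs ⟶ X) (fs : Xs ⟶ Spec (CommRingCat.of (IsLocalRing.ResidueField R)))
    (hs : IsPullback gs fs f (Spec.map (CommRingCat.ofHom (IsLocalRing.residue R))))
    [ConnectedSpace Xs] [IsReduced Xs]
    (ξ : Xs) (hξ : closure ({ξ} : Set Xs) ∈ irreducibleComponents Xs)
    (B : Type u) [CommRing B] [IsDomain B] [IsDiscreteValuationRing B] [Algebra R B]
    (e : X.presheaf.stalk (gs.base ξ) ≅ CommRingCat.of B)
    (he : e.hom.hom.comp ((X.presheaf.germ ⊤ (gs.base ξ) trivial).hom.comp (Coh.toGlobal f)) =
      algebraMap R B)
    (R' : Type u) [CommRing R'] [IsDomain R'] [IsDiscreteValuationRing R'] [Algebra R R']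
    (hinj : Function.Injective (algebraMap R R')) [IsLocalHom (algebraMap R R')]
    [Module.Finite (FractionRing R) (FractionRing R ⊗[R] R')] :
    ∃ _ : IsDomain (B ⊗[R] R'), IsDiscreteValuationRing (B ⊗[R] R') := by
  let i : Spec (CommRingCat.of (IsLocalRing.ResidueField R)) ⟶ Spec (CommRingCat.of R) :=
    Spec.map (CommRingCat.ofHom (algebraMap R (IsLocalRing.ResidueField R)))
  have hs' : IsPullback gs fs f i := hs
  haveI : ConnectedSpace ↥(pullback f i) :=
    hs'.isoPullback.hom.homeomorph.surjective.connectedSpace hs'.isoPullback.hom.continuous
  haveI : AlgebraicGeometry.IsReduced (pullback f i) := isReduced_of_isOpenImmersion hs'.isoPullback.inv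
  haveI : Smooth fK := SmoothOfRelativeDimension.smooth 1 fK
  have hmax := S17018.result R X f XK gK fK hK Xs gs fs hs ξ hξ B e he
  haveI : Module.Flat R B := by
    have h3 := (ModelLib7.flat_germ_toGlobal f (gs.base ξ)).comp
      (RingHom.Flat.of_bijective (ConcreteCategory.bijective_of_isIso e.hom))
    rw [he] at h3
    exact RingHom.flat_algebraMap_iff.1 h3
  haveI : FaithfulSMul R R' := (faithfulSMul_iff_algebraMap_injective R R').2 hinj
  let K := FractionRing R
  let F := FractionRing R'
  haveI : FaithfulSMul R F := (faithfulSMul_iff_algebraMap_injective R F).2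
    (by rw [IsScalarTower.algebraMap_eq R R' F]; exact (IsFractionRing.injective R' F).comp hinj)
  letI : Algebra K F := FractionRing.liftAlgebra R F
  haveI : IsScalarTower R K F := FractionRing.isScalarTower_liftAlgebra R F
  let ψ : K ⊗[R] R' →ₐ[K] F :=
    Algebra.TensorProduct.lift (Algebra.ofId K F) (IsScalarTower.toAlgHom R R' F) fun _ _ => Commute.all _ _
  have hint : ∀ r : R', IsIntegral K (algebraMap R' F r) := fun r => by
    have h := (IsIntegral.of_finite K ((1 : K) ⊗ₜ[R] r)).map ψ
    simpa [ψ] using h
  haveI : Algebra.IsAlgebraic K F := ⟨fun z => by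
    obtain ⟨a, b, rfl⟩ := IsLocalization.exists_mk'_eq (nonZeroDivisors R') z
    rw [IsFractionRing.mk'_eq_div, div_eq_mul_inv]
    exact ((hint a).mul (hint b).inv).isAlgebraic⟩
  have halg : ∀ r : R', IsAlgebraic R r := fun r =>
    (isAlgebraic_algebraMap_iff (IsFractionRing.injective R' F)).1
      ((IsFractionRing.isAlgebraic_iff R K F).2 (hint r).isAlgebraic)
  exact ModelLib7.isDVR_tensor_of_isField R B hmax R' hinj halg
    (ModelLib7.isField_tensor_of_specialFibre R f gK fK hK (gs.base ξ) B e he hmax F)

end Groth.Agent.S17019
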