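import Groth.Statements.S17021
import Groth.Agent.ExtFlat27.Main
import Groth.Agent.CAlgH3.Serre
import Groth.Agent.CAlgH3.Depth
-- import your own Groth.Agent.* helpers here

set_option autoImplicit false
set_option linter.style.haveILetI false
set_option backward.isDefEq.respectTransparency.types false
universe u
open CategoryTheory CategoryTheory.Limits AlgebraicGeometry
open PicF

namespace Groth.Agent.S17021

open CategoryTheory CategoryTheory.Limits MonObj AlgebraicGeometry in
open Groth.Agent in
/-- Let X be a locally Noetherian scheme all of whose local rings satisfy Serre's condition (S₂), p a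
closed point of X whose local ring has Krull dimension 2, U the open complement of p and L an
invertible O_U-module. Suppose L extends to an invertible module over an étale neighbourhood of p:
there are an étale morphism j : V → X, a point q of V with j(q) = p and an invertible O_V-module M
whose pullback to j⁻¹(U) is isomorphic to the pullback of L along j⁻¹(U) → U. Then L extends to X:
some invertible O_X-module has pullback to U isomorphic to L. (Stated for schemes; the published
statement is for a Deligne–Mumford stack of dimension 2 satisfying (S₂) and its proof passes to a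
scheme on an étale chart. Dimension 2 is imposed here on the local ring at p. The published setting
takes everything essentially of finite type over a field of characteristic zero; here X is only
assumed locally Noetherian.) -/
theorem result {X : Scheme.{u}} [IsLocallyNoetherian X]
    (hS2 : ∀ x : X, LocCoh.HasSk 2 (X.presheaf.stalk x) (X.presheaf.stalk x))
    (p : X) (hp : IsClosed ({p} : Set X)) (hdim : ringKrullDim (X.presheaf.stalk p) = 2)
    (U : X.Opens) (hU : (U : Set X) = {p}ᶜ)
    (L : (U : Scheme.{u}).Modules) (hL : PicF.IsInvertible L)
    {V : Scheme.{u}} (j : V ⟶ X) [Etale j] (q : V) (hq : j.base q = p)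
    (M : V.Modules) (hM : PicF.IsInvertible M)
    (e : (Scheme.Modules.pullback (j ⁻¹ᵁ U).ι).obj M ≅ (Scheme.Modules.pullback (j ∣_ U)).obj L) :
    ∃ N : X.Modules, PicF.IsInvertible N ∧ Nonempty ((Scheme.Modules.pullback U.ι).obj N ≅ L) := by
  have hd : (2 : ℕ∞) ≤ LocCoh.depth (X.presheaf.stalk p) (X.presheaf.stalk p) := by
    have h := (CAlgH3.hasSk_self_iff (R := X.presheaf.stalk p) 2).1 (hS2 p) (IsLocalRing.maximalIdeal _)
    let e := (IsLocalization.atUnits (X.presheaf.stalk p)
      (IsLocalRing.maximalIdeal (X.presheaf.stalk p)).primeCompl
      (S := Localization.AtPrime (IsLocalRing.maximalIdeal (X.presheaf.stalk p))) (fun z hz => by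
        by_contra hn
        exact hz ((IsLocalRing.mem_maximalIdeal z).2 hn))).toRingEquiv
    rw [← ringKrullDim_eq_of_ringEquiv e, hdim, ← CAlgH3.depth_ringEquiv e] at h
    simp at h; exact WithBot.coe_le_coe.1 h
  have hoff : ∀ x : X, x ∉ U → x = p := fun x hx => by
    have : x ∉ (U : Set X) := hx
    rw [hU] at this
    simpa using this
  haveI : IsLocallyNoetherian V := LocallyOfFiniteType.isLocallyNoetherian j
  refine ExtFlat27.exists_extension U (ExtFlat27.hb_of_depth U fun x hx => (hoff x hx).symm ▸ hd) hL fun x hx => ?_
  refine ⟨V, j, q, inferInstance, hq.trans (hoff x hx).symm,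
    ExtFlat27.hb_of_depth _ fun z hz => ExtFlat27.two_le_depth_of_flat j z ?_, M, hM, ⟨e⟩⟩
  exact (hoff _ hz).symm ▸ hd

end Groth.Agent.S17021
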