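import Groth.Statements.S17022
import Groth.Agent.TameHurwitz24.Euler
import Groth.Agent.FlatMorWeightLen.Main
import Groth.Agent.CycLib28.FiniteDeg
import Groth.Agent.EllGrp5.Curve
import Groth.Agent.EulerLib.NumEquivDeg
import Groth.Agent.AbVarLib.HomFlat
import Groth.Agent.Clifford24.Main
import Groth.Agent.CurveRR24.AlgClosed
import Groth.Agent.CurveRR24.DegOneApps
import Groth.Agent.CurveRR24.GenusZero
import Groth.Agent.CurveRR24.DoubleCover.Morphism
import Groth.Agent.P1SC24.Reduce
import Groth.Agent.FlatMorWeight.GeomPoints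
-- import your own Groth.Agent.* helpers here

set_option autoImplicit false
universe u
open CategoryTheory CategoryTheory.Limits AlgebraicGeometry
open Curves

set_option backward.isDefEq.respectTransparency.types false
set_option maxHeartbeats 1000000
namespace Groth.Agent.S17022

open Groth.Agent AlgebraicGeometry

theorem exists_generic_equiv {X Y : Scheme.{u}} [IsIntegral X] [IsIntegral Y] (f : X ⟶ Y)
    (e : f (genericPoint X) = genericPoint Y) :
    ∃ (i : Y.functionField ≃+* Y.residueField (f (genericPoint X)))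
      (j : X.functionField ≃+* X.residueField (genericPoint X)),
      (f.residueFieldMap (genericPoint X)).hom.comp i.toRingHom =
        j.toRingHom.comp (Y.presheaf.stalkSpecializes (specializes_of_eq e) ≫ f.stalkMap (genericPoint X)).hom := by
  let i₀ : Y.functionField →+* Y.residueField (f (genericPoint X)) :=
    (Y.residue (f (genericPoint X))).hom.comp (Y.presheaf.stalkSpecializes (specializes_of_eq e)).hom
  have hi : Function.Bijective i₀ := by
    refine ⟨i₀.injective, ?_⟩
    show Function.Surjective ((Y.residue (f (genericPoint X))).hom ∘ (Y.presheaf.stalkSpecializes (specializes_of_eq e)).hom)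
    refine (Scheme.residue_surjective Y _).comp fun z => ?_
    refine ⟨(Y.presheaf.stalkSpecializes (specializes_of_eq e.symm)).hom z, ?_⟩
    rw [← ConcreteCategory.comp_apply, TopCat.Presheaf.stalkSpecializes_comp, TopCat.Presheaf.stalkSpecializes_refl]
    rfl
  let j₀ : X.functionField →+* X.residueField (genericPoint X) := (X.residue (genericPoint X)).hom
  have hj : Function.Bijective j₀ := ⟨j₀.injective, Scheme.residue_surjective _ _⟩
  exact ⟨RingEquiv.ofBijective i₀ hi, RingEquiv.ofBijective j₀ hj,
    RingHom.ext fun z => ConcreteCategory.congr_hom (Scheme.residue_residueFieldMap f (genericPoint X))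
      ((Y.presheaf.stalkSpecializes (specializes_of_eq e)).hom z)⟩

theorem residueDegree_generic {X Y : Scheme.{u}} [IsIntegral X] [IsIntegral Y] (f : X ⟶ Y)
    (e : f (genericPoint X) = genericPoint Y) :
    letI := ((Y.presheaf.stalkSpecializes (specializes_of_eq e) ≫ f.stalkMap (genericPoint X)).hom).toAlgebra
    f.residueDegree (genericPoint X) = Module.finrank Y.functionField X.functionField := by
  obtain ⟨i, j, h⟩ := exists_generic_equiv f e
  let _ := ((Y.presheaf.stalkSpecializes (specializes_of_eq e) ≫ f.stalkMap (genericPoint X)).hom).toAlgebra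
  let _ := (f.residueFieldMap (genericPoint X)).hom.toAlgebra
  exact (Algebra.finrank_eq_of_equiv_equiv i j h).symm

theorem finite_functionField {X Y : Scheme.{u}} [IsIntegral X] [IsIntegral Y] (f : X ⟶ Y) [IsFinite f]
    (e : f (genericPoint X) = genericPoint Y) :
    letI := ((Y.presheaf.stalkSpecializes (specializes_of_eq e) ≫ f.stalkMap (genericPoint X)).hom).toAlgebra
    Module.Finite Y.functionField X.functionField := by
  obtain ⟨i, j, h⟩ := exists_generic_equiv f e
  let _ := ((Y.presheaf.stalkSpecializes (specializes_of_eq e) ≫ f.stalkMap (genericPoint X)).hom).toAlgebra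
  let _ := (f.residueFieldMap (genericPoint X)).hom.toAlgebra
  haveI : Module.Finite (Y.residueField (f (genericPoint X))) (X.residueField (genericPoint X)) :=
    FlatMorWeight.residueFieldMap_finite f (genericPoint X)
  refine Module.Finite.of_equiv_equiv i.symm j.symm (RingHom.ext fun z => j.injective ?_)
  obtain ⟨w, rfl⟩ := i.surjective z
  simp only [RingHom.coe_comp, Function.comp_apply, RingEquiv.toRingHom_eq_coe, RingHom.coe_coe,
    RingEquiv.symm_apply_apply, RingEquiv.apply_symm_apply]
  exact (RingHom.congr_fun h w).symm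

theorem isAlgebraic_residue {X Y : Scheme.{u}} (f : X ⟶ Y) [IsFinite f] (x : X) :
    letI := (f.residueFieldMap x).hom.toAlgebra
    Algebra.IsAlgebraic (Y.residueField (f x)) (X.residueField x) := by
  let _ := (f.residueFieldMap x).hom.toAlgebra
  haveI : Module.Finite (Y.residueField (f x)) (X.residueField x) := FlatMorWeight.residueFieldMap_finite f x
  exact Algebra.IsAlgebraic.of_finite _ _

theorem ramAt_eq {X Y : Scheme.{u}} (f : X ⟶ Y) (x : X) :
    TameHurwitz24.ramAt f x = (CycLib28.lenFibre f x).toNat := by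
  let _ := (f.stalkMap x).hom.toAlgebra
  haveI : (IsLocalRing.maximalIdeal (X.presheaf.stalk x)).LiesOver (IsLocalRing.maximalIdeal (Y.presheaf.stalk (f x))) :=
    ⟨(IsLocalRing.maximalIdeal_comap (f.stalkMap x).hom).symm⟩
  haveI : IsLocalization.AtPrime (Y.presheaf.stalk (f x)) (IsLocalRing.maximalIdeal (Y.presheaf.stalk (f x))) :=
    IsLocalization.self fun z hz => IsLocalRing.notMem_maximalIdeal.1 hz
  haveI : IsLocalization.AtPrime (X.presheaf.stalk x) (IsLocalRing.maximalIdeal (X.presheaf.stalk x)) :=
    IsLocalization.self fun z hz => IsLocalRing.notMem_maximalIdeal.1 hz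
  exact CycLib28.ramificationIdx_eq_length (IsLocalRing.maximalIdeal (Y.presheaf.stalk (f x))) _
    (f.stalkMap x).hom fun _ => rfl

theorem ramAt_pos {X Y : Scheme.{u}} (f : X ⟶ Y) [IsFinite f] (x : X) : 0 < TameHurwitz24.ramAt f x := by
  rw [ramAt_eq]
  haveI : Nontrivial (X.presheaf.stalk x ⧸
      Ideal.map (f.stalkMap x).hom (IsLocalRing.maximalIdeal (Y.presheaf.stalk (f x)))) := by
    refine Ideal.Quotient.nontrivial_iff.2 (ne_of_lt (lt_of_le_of_lt ?_ (IsLocalRing.maximalIdeal.isMaximal _).lt_top))
    exact ((IsLocalRing.local_hom_TFAE (f.stalkMap x).hom).out 0 2 rfl rfl).mp inferInstance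
  exact Nat.pos_of_ne_zero fun h => (ENat.toNat_eq_zero.1 h).elim
    (fun h => (Module.length_pos (R := X.presheaf.stalk x)).ne' h) (FlatMorWeightLen.isFiniteLength_fibre f x)

theorem ramAt_eq_one {X Y : Scheme.{u}} (f : X ⟶ Y) (W : Y.Opens) [Etale (f ∣_ W)] (x : X) (hx : f x ∈ W) :
    TameHurwitz24.ramAt f x = 1 := by
  rw [ramAt_eq]
  have h1 : CycLib28.lenFibre ((f ⁻¹ᵁ W).ι ≫ f) ⟨x, hx⟩ = 1 := by
    rw [← morphismRestrict_ι]
    exact FlatMorWeightLen.lenFibre_etale _ _
  rw [CycLib28.lenFibre_comp, FlatMorWeightLen.lenFibre_etale (f ⁻¹ᵁ W).ι, mul_one] at h1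
  exact congrArg ENat.toNat h1

theorem sum_ramAt_le {X Y : Scheme.{u}} (f : X ⟶ Y) [Flat f] [IsFinite f] (y : Y) (F : Finset X)
    (hF : ∀ x ∈ F, f x = y) : ∑ x ∈ F, TameHurwitz24.ramAt f x ≤ Scheme.Hom.finrank f y := by
  classical
  rw [← Nat.cast_le (α := ℕ∞), Nat.cast_sum, FlatMorWeightLen.finrank_eq_sum_fibre]
  haveI : Fintype {u : X // f u = y} := (f.finite_preimage_singleton y).fintype
  rw [finsum_eq_sum_of_fintype, ← Finset.sum_subtype_of_mem (p := fun u => f u = y) _ hF]
  refine (Finset.sum_le_sum fun u _ => ?_).trans (Finset.sum_le_sum_of_subset (Finset.subset_univ _))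
  rw [ramAt_eq, ENat.coe_toNat (FlatMorWeightLen.isFiniteLength_fibre f u.1)]
  refine le_mul_of_one_le_left zero_le' ?_
  let _ := (f.residueFieldMap u.1).hom.toAlgebra
  haveI : Module.Finite (Y.residueField (f u.1)) (X.residueField u.1) := FlatMorWeight.residueFieldMap_finite f u.1
  have hp : 0 < f.residueDegree u.1 := Module.finrank_pos (R := Y.residueField (f u.1)) (M := X.residueField u.1)
  exact_mod_cast hp

/-- Let k be an algebraically closed field of characteristic zero, C a connected scheme which is proper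
and smooth of relative dimension 1 over k, and f : C → P¹_k a surjective morphism over k which is
étale over the complement of two closed points p, q of P¹_k (p = q is allowed). Then C is isomorphic
to P¹_k over k, and f has exactly one point over p and exactly one point over q. (Existence of an
isomorphism only; the published statement moreover identifies f, in suitable coordinates, with (a :
b) ↦ (aⁿ : bⁿ) for some n. The published statement leaves implicit that the ground field is
algebraically closed and that C is a connected smooth proper curve; its argument uses both, and over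
a non-closed field the projective line over a finite extension is a connected cover with no
ramification.) -/
theorem result (k : Type u) [Field k]
    [IsAlgClosed k] [CharZero k] {C : Scheme.{u}} (s : C ⟶ Spec (CommRingCat.of k))
    [IsProper s] [SmoothOfRelativeDimension 1 s] [ConnectedSpace C]
    (f : C ⟶ CohB1.ProjSpace 1 k) (hf : f ≫ CohB1.ProjSpace.toSpec 1 k = s) [Surjective f]
    (p q : ↥(CohB1.ProjSpace 1 k)) (hp : IsClosed ({p} : Set ↥(CohB1.ProjSpace 1 k))) (hq : IsClosed ({q} : Set ↥(CohB1.ProjSpace 1 k)))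
    (W : (CohB1.ProjSpace 1 k).Opens) (hW : (W : Set ↥(CohB1.ProjSpace 1 k)) = {p, q}ᶜ) [Etale (f ∣_ W)] :
    (∃ e : C ≅ CohB1.ProjSpace 1 k, e.hom ≫ CohB1.ProjSpace.toSpec 1 k = s) ∧
      (∀ x y : C, f.base x = p → f.base y = p → x = y) ∧
      (∀ x y : C, f.base x = q → f.base y = q → x = y) := by
  haveI : Smooth s := SmoothOfRelativeDimension.smooth 1 s
  let _ : C.Over (Spec (CommRingCat.of k)) := ⟨s⟩
  let _ : (CohB1.ProjSpace 1 k).Over (Spec (CommRingCat.of k)) := ⟨CohB1.ProjSpace.toSpec 1 k⟩
  haveI : IsProper (C ↘ Spec (CommRingCat.of k)) := inferInstanceAs (IsProper s)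
  haveI : Smooth (C ↘ Spec (CommRingCat.of k)) := inferInstanceAs (Smooth s)
  haveI : IsProper (CohB1.ProjSpace.toSpec 1 k) := Groth.Agent.CurveLib.isProper_projSpace k 1
  haveI : IsProper ((CohB1.ProjSpace 1 k) ↘ Spec (CommRingCat.of k)) :=
    inferInstanceAs (IsProper (CohB1.ProjSpace.toSpec 1 k))
  haveI : Smooth ((CohB1.ProjSpace 1 k) ↘ Spec (CommRingCat.of k)) := Groth.Agent.P1Lib24.smooth_projLine k
  haveI := Groth.Agent.CurveLib.isIntegral_projSpace k 1
  haveI : IsIntegral C := Groth.Agent.AbVarLib.isIntegral_of_smooth_connected s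
  haveI := Groth.Agent.EulerLib.isNoetherian_of_proper k (X := C)
  haveI := Groth.Agent.EulerLib.isNoetherian_of_proper k (X := CohB1.ProjSpace 1 k)
  have hdC : topologicalKrullDim C = 1 := Groth.Agent.EllGrp5.dim_eq_one s
  have hdP : topologicalKrullDim (CohB1.ProjSpace 1 k) = 1 := Groth.Agent.DimLib.PN.topologicalKrullDim_projSpace 1 k
  have e : f (genericPoint C) = genericPoint (CohB1.ProjSpace 1 k) :=
    Groth.Agent.AbVarLib.map_genericPoint_of_surjective f
  haveI : IsFinite f := Groth.Agent.EulerLib.isFinite_of_ne_point k f hf hdC.le fun h => by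
    obtain ⟨z, hz⟩ := f.surjective p
    rw [h z, e] at hz
    exact Groth.Agent.CurvesLib24.not_isClosed_genericPoint hdP (hz ▸ hp)
  have hnC := Groth.Agent.VB5.isIntegrallyClosed_stalk k (X := C)
  have hnP := Groth.Agent.VB5.isIntegrallyClosed_stalk k (X := CohB1.ProjSpace 1 k)
  haveI := Groth.Agent.Hurwitz24.flat_of_dominant f e hdP.le hnP
  haveI : LocallyOfFinitePresentation f := Groth.Agent.Coherent.CohBC.locallyOfFinitePresentation_of_isLocallyNoetherian f
  let alg := ((((CohB1.ProjSpace 1 k)).presheaf.stalkSpecializes (specializes_of_eq e) ≫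
    f.stalkMap (genericPoint C)).hom).toAlgebra
  have hsep : @Algebra.IsSeparable (CohB1.ProjSpace 1 k).functionField C.functionField _ _ alg := by
    letI := alg
    haveI := charZero_of_injective_ringHom (R := k) (A := (CohB1.ProjSpace 1 k).functionField)
      (((CohB1.ProjSpace 1 k).presheaf.germ ⊤ (genericPoint _) trivial).hom.comp
        (Groth.Agent.Coherent.baseHom k (CohB1.ProjSpace 1 k))).injective
    haveI : FiniteDimensional (CohB1.ProjSpace 1 k).functionField C.functionField :=
      finite_functionField f e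
    exact inferInstance
  obtain ⟨S, cnt, hS, hout, heq⟩ := Groth.Agent.TameHurwitz24.ramification_identity k hdC hdP hnC hnP f hf e hsep
  -- the degree
  have hN : ∀ y, Scheme.Hom.finrank f y = @Module.finrank (CohB1.ProjSpace 1 k).functionField C.functionField
      _ _ alg.toModule := fun y =>
    (Groth.Agent.Hurwitz24.residueDegree_eq_finrank f e y).symm.trans (residueDegree_generic f e)
  letI := alg
  set n := Module.finrank (CohB1.ProjSpace 1 k).functionField C.functionField with hn
  clear_value n
  let rr : C → ℕ := fun x => Groth.Agent.TameHurwitz24.ramAt f x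
  have hpos : ∀ x, 0 < rr x := fun x => ramAt_pos f x
  have htame : ∀ x : C, IsClosed ({x} : Set C) → Groth.Agent.TameHurwitz24.TameAt f x := fun x hx => by
    let _ := (f.residueFieldMap x).hom.toAlgebra
    have hfx : IsClosed ({f x} : Set (CohB1.ProjSpace 1 k)) := by
      rw [← Set.image_singleton]; exact f.isClosedMap _ hx
    let _ := Curv2.resAlgebra k (CohB1.ProjSpace 1 k) (f x)
    haveI := Groth.Agent.CurveRR24.finite_resField hfx k
    haveI : PerfectField ((CohB1.ProjSpace 1 k).residueField (f x)) := by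
      haveI := charZero_of_injective_ringHom (R := k) (A := (CohB1.ProjSpace 1 k).residueField (f x))
        (algebraMap k ((CohB1.ProjSpace 1 k).residueField (f x))).injective
      infer_instance
    haveI : Algebra.IsAlgebraic ((CohB1.ProjSpace 1 k).residueField (f x)) (C.residueField x) :=
      isAlgebraic_residue f x
    refine ⟨inferInstance, ?_⟩
    haveI := charZero_of_injective_ringHom (R := k) (A := (CohB1.ProjSpace 1 k).residueField (f x))
      (algebraMap k ((CohB1.ProjSpace 1 k).residueField (f x))).injective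
    exact Nat.cast_ne_zero.2 (hpos x).ne'
  classical
  -- fibres
  have hfib : ∀ y : CohB1.ProjSpace 1 k, (f ⁻¹' {y}).Finite := fun y => f.finite_preimage_singleton y
  let F : (CohB1.ProjSpace 1 k) → Finset C := fun y => (hfib y).toFinset
  have hF : ∀ y x, x ∈ F y ↔ f x = y := fun y x => (hfib y).mem_toFinset
  have hFne : ∀ y, 0 < (F y).card := fun y => by
    obtain ⟨x, hx⟩ := f.surjective y
    exact Finset.card_pos.2 ⟨x, (hF y x).2 hx⟩
  have hFsum : ∀ y, (∑ x ∈ F y, (rr x - 1)) + (F y).card ≤ n := fun y => by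
    refine le_trans ?_ ((sum_ramAt_le f y (F y) fun x hx => (hF y x).1 hx).trans_eq (hN y))
    rw [Finset.card_eq_sum_ones, ← Finset.sum_add_distrib]
    exact Finset.sum_le_sum fun x _ => le_of_eq (Nat.sub_add_cancel (hpos x))
  have hout' : ∀ x : C, x ∉ F p ∪ F q → rr x - 1 = 0 := fun x hx => by
    rw [Finset.mem_union, hF, hF, not_or] at hx
    have hxW : f x ∈ W := by
      show f x ∈ (W : Set (CohB1.ProjSpace 1 k))
      rw [hW]
      exact fun h => h.elim hx.1 hx.2
    show Groth.Agent.TameHurwitz24.ramAt f x - 1 = 0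
    rw [ramAt_eq_one f W x hxW]
  have hsum : (∑ x ∈ S, cnt x * Groth.Agent.TameHurwitz24.degAt k x) ≤ ∑ x ∈ F p ∪ F q, (rr x - 1) := by
    have h1 : ∀ x ∈ S, cnt x * Groth.Agent.TameHurwitz24.degAt k x = rr x - 1 := fun x hx => by
      rw [(hS x hx).2.2.2.2 (htame x (hS x hx).1), Groth.Agent.TameHurwitz24.degAt,
        Groth.Agent.CurveRR24.finrank_resField k (hS x hx).1, mul_one]
    rw [Finset.sum_congr rfl h1]
    exact Finset.sum_le_sum_of_ne_zero fun x _ hne => by_contra fun h => hne (hout' x h)
  have hC0 := Groth.Agent.CurveRR24.h0_structure k (X := C)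
  have hP0 := Groth.Agent.CurveRR24.h0_structure k (X := CohB1.ProjSpace 1 k)
  have hPg : Curv2.genus k (CohB1.ProjSpace 1 k) = 0 :=
    Groth.Agent.CurveRR24.genus_of_iso_projLine k (Iso.refl _) (Category.id_comp _)
  rw [Groth.Agent.CurveRR24.euler_structure k hdC.le, hC0, Groth.Agent.CurveRR24.euler_structure k hdP.le, hP0,
    hPg] at heq
  simp only [Nat.cast_one, Nat.cast_zero, sub_zero, sub_self, zero_sub, mul_neg, mul_one] at heq
  have hnpos : 0 < n := lt_of_lt_of_le (hFne p) (le_trans (Nat.le_add_left _ _) (hFsum p))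
  obtain ⟨hg, hcp, hcq⟩ : Curv2.genus k C = 0 ∧ (F p).card = 1 ∧ (F q).card = 1 := by
    have hp0 := hFne p
    have hq0 := hFne q
    have hps := hFsum p
    have hqs := hFsum q
    rcases eq_or_ne p q with rfl | hpq
    · rw [Finset.union_self] at hsum
      omega
    · rw [Finset.sum_union (Finset.disjoint_left.2 fun x hx hx' => hpq
        (((hF p x).1 hx).symm.trans ((hF q x).1 hx')))] at hsum
      omega
  refine ⟨?_, fun x y hx hy => Finset.card_le_one.1 hcp.le x ((hF p x).2 hx) y ((hF p y).2 hy),
    fun x y hx hy => Finset.card_le_one.1 hcq.le x ((hF q x).2 hx) y ((hF q y).2 hy)⟩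
  have h1 : Subsingleton (Coh.HH C (Coh.structureModule C) 1) := by
    haveI := Groth.Agent.CurveRR24.finite_HH_of_isCoh k (Groth.Agent.Coherent.isCoh_structureModule C) 1
    exact (Module.finrank_zero_iff (R := k)).1 hg
  obtain ⟨P, -, hP⟩ := IsClosed.exists_closed_singleton (isClosed_univ (X := C)) ⟨Classical.arbitrary C, trivial⟩
  obtain ⟨L, hL, hdeg⟩ := Groth.Agent.CurveRR24.exists_deg_one_of_section k hdC
    (pointOfClosedPoint s P hP) (pointOfClosedPoint_comp s P hP)
  exact Groth.Agent.CurveRR24.exists_iso_projLine_of_h1 k hdC h1 hL hdeg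

end Groth.Agent.S17022
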