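import Groth.Statements.S17023
import Groth.Agent.HenselLib.EtaleDedekind
import Mathlib.RingTheory.Unramified.LocalStructure
import Mathlib.RingTheory.Unramified.LocalRing

set_option autoImplicit false
universe u
open FlatMor

open scoped TensorProduct

namespace Groth.Agent.S17023

/-- Let B be a discrete valuation ring, A a B-algebra of finite type and p a prime ideal of A which lies
over the maximal ideal of B (a point of the special fibre), at which A is smooth over B (the
localization A_p is formally smooth over B), and such that B maps onto the residue field κ(p). Then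
there are a discrete valuation ring B' and a ring map ψ : A → B' pulling the maximal ideal of B'
back to p, such that the composite B → A → B' is injective, the maximal ideal of B generates the
maximal ideal of B', and B maps onto the residue field of B'; in other words Spec B' → Spec A → Spec
B is surjective and unramified with trivial residue field extension. (The published statement does
not say that the closed point of Spec B' goes to p; it is required here. The published setting takes
A essentially of finite type over a field of characteristic zero; here A is taken of finite type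
over B, with no ground field.) -/
theorem result
    (B : Type u) [CommRing B] [IsDomain B] [IsDiscreteValuationRing B]
    (A : Type u) [CommRing A] [Algebra B A] [Algebra.FiniteType B A]
    (p : Ideal A) [p.IsPrime] (hp : p.comap (algebraMap B A) = IsLocalRing.maximalIdeal B)
    [Algebra.IsSmoothAt B p]
    (hres : Function.Surjective ((algebraMap A p.ResidueField).comp (algebraMap B A))) :
    ∃ (B' : Type u) (_ : CommRing B') (_ : IsDomain B') (_ : IsDiscreteValuationRing B') (ψ : A →+* B'),
      Ideal.comap ψ (IsLocalRing.maximalIdeal B') = p ∧
      Function.Injective (ψ.comp (algebraMap B A)) ∧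
      Ideal.map (ψ.comp (algebraMap B A)) (IsLocalRing.maximalIdeal B) = IsLocalRing.maximalIdeal B' ∧
      Function.Surjective ((IsLocalRing.residue B').comp (ψ.comp (algebraMap B A))) := by
  classical
  have : Algebra.FinitePresentation B A := Algebra.FinitePresentation.of_finiteType.1 inferInstance
  obtain ⟨f, hf, n, _, hT, hse⟩ := Algebra.IsSmoothAt.exists_isStandardEtale_mvPolynomial (R := B) (p := p)
  let L := Localization.Away f
  let P := MvPolynomial (Fin n) B
  let K := p.ResidueField
  let α : B →+* K := (algebraMap A K).comp (algebraMap B A)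
  let ρ : L →+* K := IsLocalization.Away.lift f (g := algebraMap A K)
    (isUnit_iff_ne_zero.2 fun h => hf (Ideal.algebraMap_residueField_eq_zero.1 h))
  have hρ : ∀ a : A, ρ (algebraMap A L a) = algebraMap A K a :=
    IsLocalization.Away.lift_eq f _
  choose a ha using fun i => hres (ρ (algebraMap P L (MvPolynomial.X i)))
  let ev : P →+* B := MvPolynomial.eval a
  let _ : Algebra P B := ev.toAlgebra
  let _ : Algebra P K := (α.comp ev).toAlgebra
  have hP : ρ.comp (algebraMap P L) = α.comp ev := MvPolynomial.ringHom_ext
    (fun b => by
      simp only [RingHom.comp_apply, ev, MvPolynomial.eval_C]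
      rw [← MvPolynomial.algebraMap_eq]
      rw [← IsScalarTower.algebraMap_apply B P L, IsScalarTower.algebraMap_apply B A L, hρ]
      rfl)
    (fun i => by
      simp only [RingHom.comp_apply, ev, MvPolynomial.eval_X]
      exact (ha i).symm)
  let ρ' : L →ₐ[P] K := { ρ with commutes' := fun x => RingHom.congr_fun hP x }
  let _ : Algebra B K := α.toAlgebra
  have : IsScalarTower P B K := .of_algebraMap_eq fun _ => rfl
  let C := B ⊗[P] L
  let θ : C →ₐ[B] K := Algebra.TensorProduct.lift (Algebra.ofId B K) ρ' fun _ _ => .all _ _
  have hθs : Function.Surjective θ := fun y => by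
    obtain ⟨b, hb⟩ := hres y
    exact ⟨algebraMap B C b, by rw [θ.commutes]; exact hb⟩
  let q : Ideal C := RingHom.ker θ
  have : q.IsMaximal := RingHom.ker_isMaximal_of_surjective θ hθs
  let B' := Localization.AtPrime q
  have hqc : q.comap (algebraMap B C) = IsLocalRing.maximalIdeal B := by
    ext b
    rw [← hp, Ideal.mem_comap, RingHom.mem_ker, θ.commutes, Ideal.mem_comap]
    exact Ideal.algebraMap_residueField_eq_zero
  have hloc : IsLocalHom (algebraMap B B') := ⟨fun b hb => by
    by_contra h
    have hbq : algebraMap B C b ∈ q := by
      rw [← Ideal.mem_comap, hqc]; exact h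
    rw [IsScalarTower.algebraMap_apply B C B'] at hb
    exact (IsLocalization.AtPrime.isUnit_to_map_iff B' q (algebraMap B C b)).1 hb hbq⟩
  have : Module.Flat C B' := IsLocalization.flat B' q.primeCompl
  have : Module.Flat B B' := Module.Flat.trans B C B'
  have hinj : Function.Injective (algebraMap B B') :=
    HenselLib.ValRingWEt.algebraMap_injective_of_flat B B'
  have : Algebra.Etale P L := inferInstance
  have : Algebra.Etale B C := inferInstance
  have : Algebra.FormallyUnramified C B' := .of_isLocalization q.primeCompl
  have : Algebra.FormallyUnramified B B' := .comp B C B'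
  have : Algebra.EssFiniteType C B' := .of_isLocalization B' q.primeCompl
  have : Algebra.EssFiniteType B B' := .comp B C B'
  have hmap : (IsLocalRing.maximalIdeal B).map (algebraMap B B') = IsLocalRing.maximalIdeal B' :=
    Algebra.FormallyUnramified.map_maximalIdeal (R := B) (S := B')
  have hnf : ¬ IsField B' := fun hF => by
    rw [IsLocalRing.isField_iff_maximalIdeal_eq.1 hF,
      Ideal.map_eq_bot_iff_of_injective hinj] at hmap
    exact IsDiscreteValuationRing.not_a_field B hmap
  obtain ⟨hd, hdvr⟩ := HenselLib.EtaleDedekind.isDVR B C q hnf
  let ψ : A →+* B' := (algebraMap C B').comp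
    ((Algebra.TensorProduct.includeRight : L →ₐ[P] C).toRingHom.comp (algebraMap A L))
  let θ' : B' →+* K := IsLocalization.lift (M := q.primeCompl) (g := θ.toRingHom)
    fun s => isUnit_iff_ne_zero.2 fun h => s.2 h
  have hθ' : RingHom.ker θ' = IsLocalRing.maximalIdeal B' := by
    refine le_antisymm (IsLocalRing.le_maximalIdeal (RingHom.ker_ne_top _)) fun x hx => ?_
    obtain ⟨⟨c, s⟩, rfl⟩ := IsLocalization.mk'_surjective q.primeCompl x
    rw [RingHom.mem_ker, IsLocalization.lift_mk'_spec, mul_zero]
    exact (IsLocalization.AtPrime.mk'_mem_maximal_iff B' q c s).1 hx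
  have hθψ : ∀ a, θ' (ψ a) = algebraMap A K a := fun a => by
    simp only [θ', ψ, RingHom.comp_apply, IsLocalization.lift_eq]
    show θ ((1 : B) ⊗ₜ[P] algebraMap A L a) = _
    rw [Algebra.TensorProduct.lift_tmul, map_one, one_mul]
    exact hρ a
  have hcomp : ψ.comp (algebraMap B A) = algebraMap B B' := by
    ext b
    simp only [ψ, RingHom.comp_apply, ← IsScalarTower.algebraMap_apply B A L]
    rw [IsScalarTower.algebraMap_apply B P L]
    show algebraMap C B' ((1 : B) ⊗ₜ[P] algebraMap P L _) = _
    rw [Algebra.algebraMap_eq_smul_one (A := L), ← TensorProduct.smul_tmul,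
      ← Algebra.algebraMap_eq_smul_one, IsScalarTower.algebraMap_apply B C B']
    congr 2
    show MvPolynomial.eval a (MvPolynomial.C b) = b
    exact MvPolynomial.eval_C b
  refine ⟨B', inferInstance, hd, hdvr, ψ, ?_, by rw [hcomp]; exact hinj, by rw [hcomp]; exact hmap, fun y => ?_⟩
  · rw [← hθ']
    ext a
    rw [Ideal.mem_comap, RingHom.mem_ker, hθψ]
    exact Ideal.algebraMap_residueField_eq_zero
  · obtain ⟨x, rfl⟩ := IsLocalRing.residue_surjective y
    obtain ⟨b, hb⟩ := hres (θ' x)
    refine ⟨b, (Ideal.Quotient.eq).2 ?_⟩
    rw [← hθ', RingHom.mem_ker, map_sub, sub_eq_zero]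
    exact (hθψ _).trans hb

end Groth.Agent.S17023
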