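import Groth.Statements.S17043
import Groth.Agent.FModLib.RHomQcoh
-- import your own Groth.Agent.* helpers here

set_option autoImplicit false
open CategoryTheory CategoryTheory.Limits
universe u
attribute [local instance] HasDerivedCategory.standard
open FSch

namespace Groth.Agent.S17043

/-- Let 𝔛 be a locally Noetherian formal scheme (an adic system of thickenings with locally Noetherian
levels), F a cohomologically bounded-above complex of O_𝔛-modules with coherent cohomology sheaves,
and G ∈ D(O_𝔛) cohomologically bounded below with coherent cohomology sheaves. Then the internal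
derived Hom RHom(F, G) (the right adjoint of the derived tensor with F, assumed to exist) has
coherent cohomology sheaves. (The published statement takes F in the derived category of
bounded-above complexes with coherent cohomology, the range its proof treats.) -/
theorem result (𝔛 : FSch.Sys.{u}) (h𝔛 : 𝔛.IsLocNoethFormal)
    (F : CochainComplex (FSch.ModF 𝔛 h𝔛.1) ℤ) [ModSite.HasLTensorCx F] [DerComp.HasRHom F]
    (hF : ∀ i : ℤ, FSch.IsCohF 𝔛 h𝔛.1 (SiteCmp.HMod (DerivedCategory.Q.obj F) i))
    (m : ℤ) (hFm : ∀ i : ℤ, m ≤ i → IsZero (SiteCmp.HMod (DerivedCategory.Q.obj F) i))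
    (G : DerivedCategory (FSch.ModF 𝔛 h𝔛.1)) (hG : ∀ i : ℤ, FSch.IsCohF 𝔛 h𝔛.1 (SiteCmp.HMod G i))
    (n : ℤ) (hGn : ∀ i : ℤ, i ≤ n → IsZero (SiteCmp.HMod G i)) (i : ℤ) :
    FSch.IsCohF 𝔛 h𝔛.1 (SiteCmp.HMod ((DerComp.RHom F).obj G) i) := by
  exact Groth.Agent.FModLib.isCohF_hmod_rhom h𝔛.1 h𝔛 F hF m hFm G hG n hGn i

end Groth.Agent.S17043
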