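import Groth.Statements.S17065
import Mathlib.Algebra.Algebra.Rat
import Mathlib.Algebra.MvPolynomial.Funext
import Mathlib.Algebra.Order.Ring.Star
import Mathlib.Algebra.Ring.IsFormallyReal
import Mathlib.Data.Rat.Star
import Mathlib.LinearAlgebra.Charpoly.Basic
import Mathlib.LinearAlgebra.FreeModule.PID
import Mathlib.RingTheory.AdicCompletion.AsTensorProduct
import Mathlib.RingTheory.AdicCompletion.Noetherian
import Mathlib.RingTheory.Adjoin.PowerBasis
import Mathlib.RingTheory.Etale.Field
import Mathlib.RingTheory.Flat.TorsionFree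
import Mathlib.RingTheory.Henselian
import Mathlib.RingTheory.Polynomial.GaussLemma
import Mathlib.RingTheory.PowerSeries.NoZeroDivisors
import Mathlib.RingTheory.RegularLocalRing.Defs
import Mathlib.RingTheory.SimpleRing.Principal
import Mathlib.Tactic

set_option linter.all false

set_option autoImplicit false
universe u
open CAlg

open scoped TensorProduct

namespace Groth.Agent.S17065

/-- The local algebraic statement its proof establishes: let A be a Noetherian ring, I ≤ J radical
ideals and Â the J-adic completion of A. If J^n Â ⊆ I Â for some n, then the closed set V(J) is open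
inside V(I) ⊆ Spec A. (Globally: if X₂ ⊆ X₁ are the completions of a locally Noetherian scheme along
nested closed subsets Z₂ ⊆ Z₁ and the ideal of Z₁ generates an ideal of definition of X₂, then X₂ is
a union of connected components of X₁.) -/
theorem result (A : Type u) [CommRing A] [IsNoetherianRing A]
    (I J : Ideal A) (hIJ : I ≤ J) (hI : I.IsRadical) (hJ : J.IsRadical) (n : ℕ)
    (h : (J ^ n).map (algebraMap A (AdicCompletion J A)) ≤ I.map (algebraMap A (AdicCompletion J A))) :
    IsOpen ((fun x : PrimeSpectrum.zeroLocus (I : Set A) => (x : PrimeSpectrum A)) ⁻¹'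
      PrimeSpectrum.zeroLocus (J : Set A)) := by
  have key : J ^ n ≤ I ⊔ J ^ (n + 1) := by
    have h' := Ideal.map_mono (f := (AdicCompletion.evalₐ J (n + 1)).toRingHom) h
    rw [Ideal.map_map, Ideal.map_map] at h'
    have he : (AdicCompletion.evalₐ J (n + 1)).toRingHom.comp (algebraMap A (AdicCompletion J A)) =
        Ideal.Quotient.mk (J ^ (n + 1)) := (AdicCompletion.evalₐ J (n + 1)).comp_algebraMap
    rw [he, Ideal.map_le_iff_le_comap, Ideal.comap_map_of_surjective _ Ideal.Quotient.mk_surjective,
      ← RingHom.ker_eq_comap_bot, Ideal.mk_ker] at h'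
    exact h'
  let N : Submodule A (A ⧸ I) := Submodule.map I.mkQ (J ^ n)
  have hN : N ≤ J • N := by
    rintro _ ⟨x, hx, rfl⟩
    obtain ⟨a, ha, b, hb, rfl⟩ := Submodule.mem_sup.mp (key hx)
    rw [map_add, show I.mkQ a = 0 from (Submodule.Quotient.mk_eq_zero I).mpr ha, zero_add]
    have : I.mkQ b ∈ Submodule.map I.mkQ (J • (J ^ n : Submodule A A)) := by
      refine Submodule.mem_map_of_mem ?_
      rw [smul_eq_mul, ← pow_succ']
      exact hb
    rwa [Submodule.map_smul''] at this
  obtain ⟨r, hr, hr'⟩ := Submodule.exists_sub_one_mem_and_smul_eq_zero_of_fg_of_le_smul J N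
    (((IsNoetherian.noetherian (J ^ n : Submodule A A))).map _) hN
  have hset : ((fun x : PrimeSpectrum.zeroLocus (I : Set A) => (x : PrimeSpectrum A)) ⁻¹'
      PrimeSpectrum.zeroLocus (J : Set A)) =
      ((fun x : PrimeSpectrum.zeroLocus (I : Set A) => (x : PrimeSpectrum A)) ⁻¹'
        (PrimeSpectrum.basicOpen r : Set (PrimeSpectrum A))) := by
    ext ⟨x, hx⟩
    simp only [Set.mem_preimage, PrimeSpectrum.mem_zeroLocus, SetLike.coe_subset_coe,
      SetLike.mem_coe, PrimeSpectrum.mem_basicOpen]
    constructor
    · intro hJx hrx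
      exact x.isPrime.ne_top ((Ideal.eq_top_iff_one _).mpr
        (by simpa using sub_mem hrx (hJx hr)))
    · intro hrx j hj
      refine x.isPrime.mem_of_pow_mem n ((x.isPrime.mem_or_mem (?_ : r * j ^ n ∈ x.asIdeal)).resolve_left hrx)
      refine hx ?_
      have := hr' _ ⟨j ^ n, Ideal.pow_mem_pow hj n, rfl⟩
      rw [← map_smul] at this
      exact (Submodule.Quotient.mk_eq_zero I).mp this
  rw [hset]
  exact (PrimeSpectrum.basicOpen r).isOpen.preimage continuous_subtype_val

end Groth.Agent.S17065
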