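import Groth.Statements.S17070
import Groth.Agent.RGamT.CompQcPull
import Groth.Agent.RGamT.CompQcPush
-- import your own Groth.Agent.* helpers here

set_option autoImplicit false
open CategoryTheory CategoryTheory.Limits AlgebraicGeometry
universe u
open FTors

namespace Groth.Agent.S17070

/-- Quasi-coherent torsion modules, and the coherence clause: let X be a locally Noetherian scheme, 𝓘 a
quasi-coherent ideal of O_X, X̂ the completion of X along 𝓘 and κ : X̂ ⟶ X the completion morphism
of ringed spaces. Then κ^* of a quasi-coherent 𝓘-power-torsion O_X-module is a quasi-coherent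
torsion O_X̂-module; κ_* of a quasi-coherent torsion O_X̂-module M is quasi-coherent and 𝓘-power
torsion, and is coherent when M is coherent. -/
theorem result (X : Scheme.{u}) [IsLocallyNoetherian X]
    (𝓘 : X.IdealSheafData) (hX : (FSch.completionAlong X 𝓘).IsFormal) :
    (∀ N : ModSite.Mod X.sheaf, FTors.IsTorsZp X 𝓘 N → SheafOfModules.IsQuasicoherent.{u} N →
      FTors.IsQCT (FSch.completionAlong X 𝓘) hX ((FSch.toSchemeMor (FSch.completionAlong X 𝓘) hX (FSch.completionToX X 𝓘) (FSch.completionToX_comm X 𝓘)).pull.obj N)) ∧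
    (∀ M : FSch.ModF (FSch.completionAlong X 𝓘) hX, FTors.IsQCT (FSch.completionAlong X 𝓘) hX M →
      FTors.IsTorsZp X 𝓘 ((FSch.toSchemeMor (FSch.completionAlong X 𝓘) hX (FSch.completionToX X 𝓘) (FSch.completionToX_comm X 𝓘)).push.obj M) ∧ SheafOfModules.IsQuasicoherent.{u} ((FSch.toSchemeMor (FSch.completionAlong X 𝓘) hX (FSch.completionToX X 𝓘) (FSch.completionToX_comm X 𝓘)).push.obj M) ∧
      (FSch.IsCohF (FSch.completionAlong X 𝓘) hX M → Coh.IsCoh ((FSch.toSchemeMor (FSch.completionAlong X 𝓘) hX (FSch.completionToX X 𝓘) (FSch.completionToX_comm X 𝓘)).push.obj M))) := by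
  have hci : ∀ n, IsClosedImmersion (FSch.completionToX X 𝓘 n) := fun n =>
    inferInstanceAs (IsClosedImmersion (𝓘 ^ (n + 1)).subschemeι)
  have hker : ∀ n, (FSch.completionToX X 𝓘 n).ker = 𝓘 ^ (n + 1) := fun n =>
    Scheme.IdealSheafData.ker_subschemeι _
  have hL := Groth.Agent.FSchLib.isLocNoethFormal_completionAlong 𝓘
  exact ⟨fun N hN hq => ⟨Groth.Agent.RGamT.isTors_pull _ _ hX hci 𝓘 hker hL hN,
      haveI := hq; Groth.Agent.RGamT.isQuasicoherent_pull _ _ hX N⟩,
    fun M hM => ⟨Groth.Agent.RGamT.isTors_push _ _ hX hci 𝓘 hker hL hM.1,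
      Groth.Agent.RGamT.isQCoh_push _ _ hX hci 𝓘 hker hL hM,
      fun hc => Groth.Agent.RGamT.isCoh_push _ _ hX hci 𝓘 hker hL hM hc⟩⟩

end Groth.Agent.S17070
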