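import Groth.Statements.S17075
import Mathlib.AlgebraicGeometry.PullbackCarrier

set_option autoImplicit false
universe u
open CategoryTheory CategoryTheory.Limits AlgebraicGeometry
open MorSch

namespace Groth.Agent.S17075

/-- Let g : X → S be a proper morphism, i : V → X a closed immersion and j : U → X an open immersion.
Then there is an open subset S₀ of S such that, for every scheme S' and every morphism f : S' → S,
the image of f lies in S₀ if and only if the base change V ×_S S' → X ×_S S' of i factors through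
the open subscheme U ×_S S', equivalently the composite V ×_S S' → V → X has image contained in the
image of j. -/
theorem result
    {V X U S : Scheme.{u}} (g : X ⟶ S) [IsProper g] (i : V ⟶ X) [IsClosedImmersion i]
    (j : U ⟶ X) [IsOpenImmersion j] :
    ∃ S₀ : S.Opens, ∀ (S' : Scheme.{u}) (f : S' ⟶ S),
      Set.range f ⊆ (S₀ : Set S) ↔
        Set.range (pullback.fst (i ≫ g) f ≫ i) ⊆ Set.range j := by
  let C : Set S := g '' (Set.range i \ Set.range j)
  have hC : IsClosed C := g.isClosedMap _ (i.isClosedEmbedding.isClosed_range.inter j.isOpenEmbedding.isOpen_range.isClosed_compl)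
  refine ⟨⟨Cᶜ, hC.isOpen_compl⟩, fun S' f => ?_⟩
  show Set.range f ⊆ Cᶜ ↔ _
  rw [Scheme.Hom.comp_base, TopCat.coe_comp, Set.range_comp, Scheme.Pullback.range_fst]
  constructor
  · rintro h _ ⟨v, ⟨s', hs'⟩, rfl⟩
    by_contra hv
    refine h ⟨s', rfl⟩ ⟨i v, ⟨⟨v, rfl⟩, hv⟩, ?_⟩
    rw [hs', Scheme.Hom.comp_apply]
  · rintro h _ ⟨s', rfl⟩ ⟨_, ⟨⟨v, rfl⟩, hv⟩, hg⟩
    exact hv (h ⟨v, ⟨s', by rw [Scheme.Hom.comp_apply, hg]⟩, rfl⟩)

end Groth.Agent.S17075
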