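import Groth.Statements.S17076
import Groth.Agent.FlatMor12.IsoLocus

set_option autoImplicit false
universe u
open CategoryTheory CategoryTheory.Limits AlgebraicGeometry
open MorSch

namespace Groth.Agent.S17076

/-- Let S be a locally Noetherian scheme, X and Y schemes proper over S with X flat over S, and f : X →
Y an S-morphism. Then there is an open subset S₀ of S such that, for every locally Noetherian scheme
S' and every morphism h : S' → S, the image of h lies in S₀ if and only if the base change X ×_S S'
→ Y ×_S S' of f is an isomorphism. (The published statement also supposes that some fibre of f is an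
isomorphism; that hypothesis only serves to make S₀ nonempty and is not needed.) -/
theorem result
    {S : Scheme.{u}} [IsLocallyNoetherian S] (X Y : Over S) [IsProper X.hom] [IsProper Y.hom]
    [Flat X.hom] (f : X ⟶ Y) :
    ∃ S₀ : S.Opens, ∀ (S' : Scheme.{u}) [IsLocallyNoetherian S'] (h : S' ⟶ S),
      Set.range h ⊆ (S₀ : Set S) ↔ IsIso ((Over.pullback h).map f).left := by
  have w : f.left ≫ Y.hom = X.hom := Over.w f
  haveI : IsProper (f.left ≫ Y.hom) := w ▸ inferInstance
  haveI : LocallyOfFinitePresentation (f.left ≫ Y.hom) :=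
    w ▸ LocallyOfFinitePresentation.iff_locallyOfFiniteType.2 inferInstance
  haveI : Flat (f.left ≫ Y.hom) := w ▸ inferInstance
  haveI : LocallyOfFinitePresentation Y.hom := LocallyOfFinitePresentation.iff_locallyOfFiniteType.2 inferInstance
  obtain ⟨U, hU, hisoU⟩ := Groth.Agent.FlatMor12.exists_isOpen_fibreIso f.left Y.hom
  refine ⟨U, fun S' _ h => ?_⟩
  let F := ((Over.pullback h).map f).left
  have hF1 : F ≫ pullback.fst Y.hom h = pullback.fst X.hom h ≫ f.left := pullback.lift_fst _ _ _
  have hF2 : F ≫ pullback.snd Y.hom h = pullback.snd X.hom h := pullback.lift_snd _ _ _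
  have sqF : IsPullback (pullback.fst X.hom h) F f.left (pullback.fst Y.hom h) :=
    IsPullback.of_bot (by rw [hF2, w]; exact IsPullback.of_hasPullback _ _) hF1.symm
      (IsPullback.of_hasPullback _ _)
  have hFiso : IsIso F ↔ IsIso (pullback.snd f.left (pullback.fst Y.hom h)) := by
    rw [← sqF.isoPullback_hom_snd]
    exact isIso_comp_left_iff _ _
  show _ ↔ IsIso F
  rw [hFiso]
  constructor
  · intro hh
    obtain ⟨j', -, hiso⟩ := Groth.Agent.FlatMor12.isIso_snd_restrict f.left (Y.hom ⁻¹ᵁ U) (pullback.fst Y.hom h)
      fun t => by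
        show Y.hom (pullback.fst Y.hom h t) ∈ U
        rw [← Scheme.Hom.comp_apply, pullback.condition, Scheme.Hom.comp_apply]
        exact hh ⟨_, rfl⟩
    exact hiso.1 inferInstance
  · intro hiso
    rintro _ ⟨t, rfl⟩
    refine (hU (h t)).2 ?_
    obtain ⟨j, hje, sqT⟩ : ∃ j : (pullback.snd Y.hom h).fiber t ⟶ Y.hom.fiber (h t),
        j ≫ Y.hom.fiberι (h t) = (pullback.snd Y.hom h).fiberι t ≫ pullback.fst Y.hom h ∧
        IsPullback j ((pullback.snd Y.hom h).fiberToSpecResidueField t)
          (Y.hom.fiberToSpecResidueField (h t)) (Spec.map (h.residueFieldMap t)) :=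
      ⟨_, pullback.lift_fst _ _ _,
        isPullback_fiberToSpecResidueField_of_isPullback (IsPullback.of_hasPullback Y.hom h) t⟩
    have hjfl : Flat (Spec.map (h.residueFieldMap t)) := by
      rw [Flat.SpecMap_iff]
      let _ := (h.residueFieldMap t).hom.toAlgebra
      exact (inferInstance : Module.Flat (S.residueField (h t)) (S'.residueField t))
    have hjs : Surjective (Spec.map (h.residueFieldMap t)) :=
      ⟨fun z => ⟨IsLocalRing.closedPoint _, Subsingleton.elim (α := PrimeSpectrum _) _ _⟩⟩
    have hQ : (@Surjective ⊓ @Flat ⊓ @QuasiCompact : MorphismProperty Scheme.{u}) j :=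
      ⟨⟨MorphismProperty.of_isPullback sqT.flip hjs, MorphismProperty.of_isPullback sqT.flip hjfl⟩,
        MorphismProperty.of_isPullback sqT.flip inferInstance⟩
    have h1 : IsIso (pullback.snd f.left ((pullback.snd Y.hom h).fiberι t ≫ pullback.fst Y.hom h)) := by
      rw [← pullbackLeftPullbackSndIso_inv_snd_snd f.left (pullback.fst Y.hom h) ((pullback.snd Y.hom h).fiberι t)]
      infer_instance
    rw [← hje, ← pullbackLeftPullbackSndIso_inv_snd_snd f.left (Y.hom.fiberι (h t)) j, isIso_comp_left_iff] at h1
    exact MorphismProperty.of_pullback_snd_of_descendsAlong (P := MorphismProperty.isomorphisms Scheme.{u})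
      (Q := (@Surjective ⊓ @Flat ⊓ @QuasiCompact)) hQ h1

end Groth.Agent.S17076
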