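import Groth.Statements.S17078
import Groth.Agent.BinForm.Common

set_option autoImplicit false
universe u
open RatCurve

namespace Groth.Agent.S17078

/-- Let k be an algebraically closed field and F_0, …, F_{n-1} homogeneous polynomials of degree d in
k[u, v]. Then the F_i have no common factor other than units if and only if there is an integer m ≥
d such that every homogeneous polynomial of degree m can be written Σ_i F_i G_i with each G_i
homogeneous of degree m − d, i.e. the k-linear map (G_i)_i ↦ Σ_i F_i G_i from n copies of k[u,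
v]_{m−d} to k[u, v]_m is surjective. -/
theorem result
    {k : Type u} [Field k] [IsAlgClosed k] {n : ℕ} (F : Fin n → MvPolynomial (Fin 2) k)
    (d : ℕ) (hF : ∀ i, (F i).IsHomogeneous d) :
    (¬ ∃ H : MvPolynomial (Fin 2) k, ¬ IsUnit H ∧ ∀ i, H ∣ F i) ↔
      ∃ m : ℕ, d ≤ m ∧ ∀ P : MvPolynomial (Fin 2) k, P.IsHomogeneous m →
        ∃ G : Fin n → MvPolynomial (Fin 2) k, (∀ i, (G i).IsHomogeneous (m - d)) ∧
          P = ∑ i, F i * G i := by
  rw [Groth.Agent.BinForm.common_factor_iff F (fun _ => d) hF]
  constructor
  · intro h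
    exact Groth.Agent.BinForm.exists_combination F d hF fun a ha => by
      by_contra h0; exact h ⟨a, h0, ha⟩
  · rintro ⟨m, -, h⟩ ⟨a, ha, h0⟩
    obtain ⟨j, hj⟩ := Function.ne_iff.1 ha
    obtain ⟨G, -, hG⟩ := h (MvPolynomial.X j ^ m) (MvPolynomial.isHomogeneous_X_pow j m)
    have := congrArg (MvPolynomial.eval a) hG
    simp [h0] at this
    exact hj this.1

end Groth.Agent.S17078
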