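import Groth.Statements.S17079
import Mathlib.CategoryTheory.Comma.Over.Pullback

set_option autoImplicit false
universe u
open CategoryTheory CategoryTheory.Limits AlgebraicGeometry
open MorSch

namespace Groth.Agent.S17079

/-- Let gX : X → S and gY : Y → S be morphisms and suppose the functor Mor_S(X, Y) — sending an S-scheme
T to the set of S-morphisms T ×_S X → Y, with base change as transition maps — is represented by an
S-scheme M. Then for every morphism h : S' → S the functor Mor_{S'}(X ×_S S', Y ×_S S') on
S'-schemes is represented by M ×_S S'. (The published statement assumes X and Y projective over S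
with X flat and S, S' locally Noetherian; this row assumes only that the functor is represented by
M. Only the existence of a representing structure on M ×_S S' is asserted, not its compatibility
with the one on M.) -/
theorem result
    {X Y S S' : Scheme.{u}} (gX : X ⟶ S) (gY : Y ⟶ S) (h : S' ⟶ S)
    (M : Over S) (e : (Flatn.morS gX gY).RepresentableBy M) :
    Nonempty ((Flatn.morS (pullback.snd gX h) (pullback.snd gY h)).RepresentableBy
      (Over.mk (pullback.snd M.hom h))) := by
  let A := Over.mapPullbackAdj h
  let N : Over S' := (Over.pullback h).obj (Over.mk gY)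
  have sq : ∀ T : Over S', IsPullback (pullback.fst T.hom (pullback.snd gX h)) (pullback.snd T.hom (pullback.snd gX h) ≫ pullback.fst gX h)
      (T.hom ≫ h) gX := fun T =>
    (IsPullback.of_hasPullback T.hom (pullback.snd gX h)).paste_vert (IsPullback.of_hasPullback gX h).flip |>.flip |>.flip
  let i : ∀ T : Over S', (Over.map h).obj ((Over.map (pullback.snd gX h)).obj ((Over.pullback (pullback.snd gX h)).obj T)) ≅
      (Over.map gX).obj ((Over.pullback gX).obj ((Over.map h).obj T)) := fun T =>
    Over.isoMk (sq T).isoPullback (by
      show (sq T).isoPullback.hom ≫ pullback.snd (T.hom ≫ h) gX ≫ gX =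
        (pullback.snd T.hom (pullback.snd gX h) ≫ (pullback.snd gX h)) ≫ h
      rw [IsPullback.isoPullback_hom_snd_assoc, Category.assoc, Category.assoc, pullback.condition])
  have hi : ∀ {T T' : Over S'} (φ : T ⟶ T'),
      (Over.map h).map ((Over.map (pullback.snd gX h)).map ((Over.pullback (pullback.snd gX h)).map φ)) ≫ (i T').hom =
        (i T).hom ≫ (Over.map gX).map ((Over.pullback gX).map ((Over.map h).map φ)) := by
    intro T T' φ
    ext
    apply pullback.hom_ext
    · simp [i]
      erw [pullback.lift_fst, pullback.lift_fst, IsPullback.isoPullback_hom_fst_assoc]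
    · simp [i]
      erw [pullback.lift_snd_assoc, pullback.lift_snd, IsPullback.isoPullback_hom_snd]
  have eY : ((Over.pullback h).obj (Over.mk gY)) = Over.mk (pullback.snd gY h) := rfl
  refine ⟨{
    homEquiv := fun {T} => ((A.homEquiv T M).symm.trans e.homEquiv).trans
      ((((i T).homFromEquiv (Z := Over.mk gY)).symm).trans (A.homEquiv _ (Over.mk gY)))
    homEquiv_comp := ?_ }⟩
  intro T T' f g
  show A.homEquiv _ (Over.mk gY) ((i T).hom ≫ e.homEquiv ((A.homEquiv T M).symm (f ≫ g))) =
    (Over.map (pullback.snd gX h)).map ((Over.pullback (pullback.snd gX h)).map f) ≫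
      A.homEquiv _ (Over.mk gY) ((i T').hom ≫ e.homEquiv ((A.homEquiv T' M).symm g))
  rw [← A.homEquiv_naturality_left, A.homEquiv_naturality_left_symm, ← Category.assoc, hi, Category.assoc,
    e.homEquiv_comp]
  rfl

end Groth.Agent.S17079
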