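import Groth.Statements.S17080
import Groth.Agent.FlatMor12.MorSAF

set_option autoImplicit false
universe u
open CategoryTheory CategoryTheory.Limits AlgebraicGeometry
open MorSch

namespace Groth.Agent.S17080

open Limits

/-- The open where a relative morphism factors through an open subscheme. -/
theorem range_subset_iff {X Y U S : Scheme.{u}} (gX : X ⟶ S) [IsProper gX] (gY : Y ⟶ S) (j : U ⟶ Y)
    [IsOpenImmersion j] (M : Over S) (e : (Flatn.morS gX gY).RepresentableBy M) :
    ∃ M₀ : M.left.Opens, ∀ (T : Over S) (t : T ⟶ M),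
      (Set.range t.left ⊆ (M₀ : Set M.left) ↔
        Set.range (Over.Hom.left (e.homEquiv t :
          (Over.map gX).obj ((Over.pullback gX).obj T) ⟶ Over.mk gY)) ⊆ Set.range j) := by
  let b := (e.homEquiv (𝟙 M) : (Over.map gX).obj ((Over.pullback gX).obj M) ⟶ Over.mk gY).left
  let C : Set ↥(pullback M.hom gX) := b ⁻¹' (Set.range j)ᶜ
  have hC : IsClosed (pullback.fst M.hom gX '' C) :=
    (pullback.fst M.hom gX).isClosedMap _ (j.isOpenEmbedding.isOpen_range.isClosed_compl.preimage b.continuous)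
  refine ⟨⟨(pullback.fst M.hom gX '' C)ᶜ, hC.isOpen_compl⟩, fun T t => ?_⟩
  have he : (e.homEquiv t : (Over.map gX).obj ((Over.pullback gX).obj T) ⟶ Over.mk gY).left =
      ((Over.pullback gX).map t).left ≫ b := by
    rw [show e.homEquiv t = _ from (congrArg e.homEquiv (Category.comp_id t).symm).trans (e.homEquiv_comp t (𝟙 M))]
    rfl
  have hh : ((Over.pullback gX).map t).left ≫ pullback.fst M.hom gX = pullback.fst T.hom gX ≫ t.left := by
    simp [Over.pullback]
    erw [pullback.lift_fst]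
  rw [he]
  constructor
  · rintro ht _ ⟨w, rfl⟩
    by_contra hc
    refine ht ⟨pullback.fst T.hom gX w, rfl⟩ ⟨((Over.pullback gX).map t).left w, hc, ?_⟩
    exact congr(($hh).base w)
  · rintro ht _ ⟨x, rfl⟩ ⟨w, hw, hwx⟩
    obtain ⟨w', -, hw'⟩ := FlatMor12.MorSAF.exists_fibre_preimage gX t x w hwx.symm
    refine hw ?_
    rw [← hw']
    exact ht ⟨w', rfl⟩


/-- Let gX : X → S be proper and flat, gY : Y → S separated and j : U → Y an open immersion, and suppose
the functor Mor_S(X, Y) — S-schemes T ↦ S-morphisms T ×_S X → Y — is represented by an S-scheme M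
via e. Then there are an open subset M₀ of M and a representation e₀ of Mor_S(X, U) by the open
subscheme M₀ (viewed over S through M) which is compatible with e: for every S-morphism φ : T → M₀,
the S-morphism T ×_S X → Y classified by φ followed by the inclusion M₀ → M is the S-morphism T ×_S
X → U classified by φ, followed by j. In particular the morphism Mor_S(X, U) → Mor_S(X, Y) induced
by j is an open immersion. (Published for X projective and flat and Y quasi-projective over a
locally Noetherian S, which is how M is known to exist there; representability is taken as a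
hypothesis here.) -/
theorem result
    {X Y U S : Scheme.{u}} (gX : X ⟶ S) [IsProper gX] [Flat gX] (gY : Y ⟶ S) [IsSeparated gY]
    (j : U ⟶ Y) [IsOpenImmersion j] (M : Over S) (e : (Flatn.morS gX gY).RepresentableBy M) :
    ∃ (M₀ : M.left.Opens)
      (e₀ : (Flatn.morS gX (j ≫ gY)).RepresentableBy (Over.mk (M₀.ι ≫ M.hom))),
      ∀ (T : Over S) (φ : T ⟶ Over.mk (M₀.ι ≫ M.hom)),
        (e.homEquiv (φ ≫ Over.homMk M₀.ι rfl) :
            (Over.map gX).obj ((Over.pullback gX).obj T) ⟶ Over.mk gY) =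
          (e₀.homEquiv φ : (Over.map gX).obj ((Over.pullback gX).obj T) ⟶ Over.mk (j ≫ gY)) ≫
            (Over.homMk j rfl : Over.mk (j ≫ gY) ⟶ Over.mk gY) := by
  obtain ⟨M₀, hM₀⟩ := range_subset_iff gX gY j M e
  let incl : Over.mk (M₀.ι ≫ M.hom) ⟶ M := Over.homMk M₀.ι rfl
  have hr : ∀ {T : Over S} (φ : T ⟶ Over.mk (M₀.ι ≫ M.hom)),
      Set.range (Over.Hom.left (e.homEquiv (φ ≫ incl) :
        (Over.map gX).obj ((Over.pullback gX).obj T) ⟶ Over.mk gY)) ⊆ Set.range j := fun {T} φ =>
    (hM₀ T (φ ≫ incl)).1 (by rintro _ ⟨x, rfl⟩; exact (φ.left x).2)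
  let J : Over.mk (j ≫ gY) ⟶ Over.mk gY := Over.homMk j rfl
  have : Mono J := Over.mono_of_mono_left J
  let toU : ∀ {T : Over S}, (T ⟶ Over.mk (M₀.ι ≫ M.hom)) →
      ((Over.map gX).obj ((Over.pullback gX).obj T) ⟶ Over.mk (j ≫ gY)) := fun {T} φ =>
    Over.homMk (IsOpenImmersion.lift j _ (hr φ)) (by
      show _ ≫ j ≫ gY = _
      rw [IsOpenImmersion.lift_fac_assoc]
      exact Over.w _)
  have hJ : ∀ {T : Over S} (φ : T ⟶ Over.mk (M₀.ι ≫ M.hom)),
      toU φ ≫ J = e.homEquiv (φ ≫ incl) := fun {T} φ => Over.OverMorphism.ext (IsOpenImmersion.lift_fac _ _ _)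
  have hinc : Mono incl := Over.mono_of_mono_left incl
  have hbij : ∀ T : Over S, Function.Bijective (toU (T := T)) := fun T => by
    refine ⟨fun φ φ' h => ?_, fun ψ => ?_⟩
    · rw [← cancel_mono incl]
      exact e.homEquiv.injective (by rw [← hJ, ← hJ, h])
    · let t : T ⟶ M := e.homEquiv.symm (ψ ≫ J)
      have ht : Set.range t.left ⊆ Set.range M₀.ι := by
        rw [Scheme.Opens.range_ι]
        refine (hM₀ T t).2 ?_
        rw [show e.homEquiv t = ψ ≫ J from e.homEquiv.apply_symm_apply _]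
        rintro _ ⟨w, rfl⟩
        exact ⟨ψ.left w, rfl⟩
      let φ : T ⟶ Over.mk (M₀.ι ≫ M.hom) := Over.homMk (IsOpenImmersion.lift M₀.ι t.left ht) (by
        show _ ≫ M₀.ι ≫ M.hom = _
        rw [IsOpenImmersion.lift_fac_assoc, Over.w t])
      have hφ : φ ≫ incl = t := Over.OverMorphism.ext (IsOpenImmersion.lift_fac _ _ _)
      refine ⟨φ, (cancel_mono J).1 ?_⟩
      rw [hJ, hφ]
      exact e.homEquiv.apply_symm_apply _
  refine ⟨M₀, { homEquiv := fun {T} => Equiv.ofBijective _ (hbij T), homEquiv_comp := ?_ }, fun T φ => (hJ φ).symm⟩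
  intro T T' t φ
  refine (cancel_mono J).1 (((hJ (t ≫ φ)).trans ?_).trans
    ((congrArg (_ ≫ ·) (hJ φ).symm).trans (Category.assoc _ _ _).symm))
  rw [Category.assoc, e.homEquiv_comp]
  rfl

end Groth.Agent.S17080
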