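import Groth.Statements.S17084
import Mathlib.AlgebraicGeometry.Limits
import Mathlib.CategoryTheory.Extensive

set_option autoImplicit false
universe u
open CategoryTheory CategoryTheory.Limits AlgebraicGeometry
open MorSch

namespace Groth.Agent.S17084

/-- Let (X_i)_{i ∈ ι} be a finite family of schemes over S with structure morphisms g_i : X_i → S, let Y
→ S be a scheme over S and T an S-scheme. Then for every family of S-morphisms a_i : T ×_S X_i → Y
there is a unique S-morphism b : T ×_S (∐_i X_i) → Y whose restriction along each T ×_S X_i → T ×_S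
(∐_i X_i) is a_i. In other words the canonical map Mor_S(∐_i X_i, Y) → ∏_i Mor_S(X_i, Y) of functors
on S-schemes is an isomorphism. -/
theorem result
    {S Y : Scheme.{u}} {ι : Type u} [Finite ι] (X : ι → Scheme.{u}) (g : ∀ i, X i ⟶ S)
    (gY : Y ⟶ S) (T : Over S) (a : ∀ i, (Flatn.morS (g i) gY).obj (Opposite.op T)) :
    ∃! b : (Flatn.morS (Sigma.desc g) gY).obj (Opposite.op T),
      ∀ i, pullback.map T.hom (g i) T.hom (Sigma.desc g) (𝟙 T.left) (Sigma.ι X i) (𝟙 S)
          ((Category.comp_id _).trans (Category.id_comp _).symm)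
          ((Category.comp_id _).trans (Sigma.ι_desc g i).symm) ≫ b.left = (a i).left := by
  classical
  let m : ∀ i, pullback T.hom (g i) ⟶ pullback T.hom (Sigma.desc g) := fun i =>
    pullback.map T.hom (g i) T.hom (Sigma.desc g) (𝟙 T.left) (Sigma.ι X i) (𝟙 S)
      ((Category.comp_id _).trans (Category.id_comp _).symm)
      ((Category.comp_id _).trans (Sigma.ι_desc g i).symm)
  have hpb : ∀ i, IsPullback (m i) (pullback.snd T.hom (g i)) (pullback.snd T.hom (Sigma.desc g))
      (Sigma.ι X i) := fun i => by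
    refine IsPullback.of_right ?_ (pullback.lift_snd _ _ _) (IsPullback.of_hasPullback T.hom (Sigma.desc g))
    simp only [m, pullback.lift_fst, Category.comp_id, Sigma.ι_desc]
    exact IsPullback.of_hasPullback T.hom (g i)
  obtain ⟨hc⟩ := FinitaryPreExtensive.isUniversal_finiteCoproducts (coproductIsCoproduct X)
    (Cofan.mk _ m) (Discrete.natTrans fun i => pullback.snd T.hom (g i.as))
    (pullback.snd T.hom (Sigma.desc g)) (by ext ⟨i⟩; exact (hpb i).w.symm) (.of_discrete _)
    (fun ⟨i⟩ => hpb i)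
  have ha : ∀ i, (a i).left ≫ gY = pullback.snd T.hom (g i) ≫ g i := fun i => Over.w (a i)
  let b₀ : pullback T.hom (Sigma.desc g) ⟶ Y := Cofan.IsColimit.desc hc fun i => (a i).left
  have hb : ∀ i, m i ≫ b₀ = (a i).left := fun i => Cofan.IsColimit.fac hc _ i
  refine ⟨(Over.homMk b₀ ?_ : (Over.map (Sigma.desc g)).obj ((Over.pullback (Sigma.desc g)).obj T) ⟶ Over.mk gY),
    hb, fun b hb' => Over.OverMorphism.ext (Cofan.IsColimit.hom_ext hc _ _ fun i => (hb' i).trans (hb i).symm)⟩
  show b₀ ≫ gY = pullback.snd T.hom (Sigma.desc g) ≫ Sigma.desc g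
  refine Cofan.IsColimit.hom_ext hc _ _ fun i => ?_
  show m i ≫ _ = m i ≫ _
  rw [reassoc_of% (hb i), ha i, reassoc_of% (hpb i).w, Sigma.ι_desc]

end Groth.Agent.S17084
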