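import Groth.Statements.S17085
import Groth.Agent.Hyper24.FrobTwist
import Groth.Agent.P1Lib24.Basic
import Groth.Agent.CurveRR24.RatPoint
import Groth.Agent.ASBun8.GenPt
import Groth.Agent.NeronLib.CodimOne
import Mathlib.FieldTheory.RatFunc.Luroth

set_option autoImplicit false
universe u
open CategoryTheory CategoryTheory.Limits AlgebraicGeometry
open RatCurve

namespace Groth.Agent.S17085

set_option backward.isDefEq.respectTransparency.types false
set_option linter.style.haveILetI false
set_option maxHeartbeats 1000000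
open Groth.Agent
attribute [local instance] Curv2.stalkAlgebra

theorem ker_comp_of_isDominant {A B Z : Scheme.{u}} (j : A ⟶ B) [IsDominant j] [IsReduced B] (h : B ⟶ Z) :
    (j ≫ h).ker = h.ker := by
  haveI := IsSchemeTheoreticallyDominant.of_isDominant j
  rw [Scheme.Hom.ker_comp, j.ker_eq_bot, Scheme.IdealSheafData.map_bot]

theorem good_generic (X : Scheme.{u}) [IsIntegral X] :
    ASBun8.GenPt.Good (X.fromSpecStalk (genericPoint X)) := by
  refine ⟨?_, fun x => ASBun8.GenPt.isIso_stalkMap _ x⟩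
  have h : genericPoint X ∈ Set.range (X.fromSpecStalk (genericPoint X)) := by
    rw [Scheme.range_fromSpecStalk]
    exact specializes_rfl
  show Dense _
  rw [dense_iff_closure_eq, ← Set.univ_subset_iff, ← genericPoint_closure]
  exact closure_mono (Set.singleton_subset_iff.2 h)

theorem birational_of_hom (k : Type u) [Field k] {X : Scheme.{u}} [IsIntegral X] [X.Over (Spec (CommRingCat.of k))]
    [IsProper (X ↘ Spec (CommRingCat.of k))] (hdim : topologicalKrullDim X = 1)
    [IsIntegral (CohB1.ProjSpace 1 k)]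
    (f : CohB1.ProjSpace 1 k ⟶ X) (hf : f ≫ (X ↘ Spec (CommRingCat.of k)) = CohB1.ProjSpace.toSpec 1 k)
    (eg : f (genericPoint (CohB1.ProjSpace 1 k)) = genericPoint X) :
    Scheme.BirationalOver (X ↘ Spec (CommRingCat.of k)) (CohB1.ProjSpace.toSpec 1 k) := by
  classical
  letI : (CohB1.ProjSpace 1 k).Over (Spec (CommRingCat.of k)) := ⟨CohB1.ProjSpace.toSpec 1 k⟩
  haveI : IsProper (CohB1.ProjSpace.toSpec 1 k) := CurveLib.isProper_projSpace k 1
  haveI : IsProper ((CohB1.ProjSpace 1 k) ↘ Spec (CommRingCat.of k)) := ‹IsProper (CohB1.ProjSpace.toSpec 1 k)›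
  haveI : Smooth ((CohB1.ProjSpace 1 k) ↘ Spec (CommRingCat.of k)) := P1Lib24.smooth_projLine k
  have hdP : topologicalKrullDim (CohB1.ProjSpace 1 k) = 1 := DimLib.PN.topologicalKrullDim_projSpace 1 k
  obtain ⟨t, htr, ht1, -⟩ := Hyper24.exists_coord (k := k) hdP (𝟙 (CohB1.ProjSpace 1 k)) (Category.id_comp _)
    (n := 1) one_pos (fun y => by rw [Scheme.Hom.finrank_eq_one_of_isIso]; rfl) rfl
  have htop := IntermediateField.finrank_eq_one_iff_eq_top.mp ht1
  let eP : RatFunc k ≃ₐ[k] (CohB1.ProjSpace 1 k).functionField :=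
    (RatFunc.algEquivOfTranscendental t htr).trans ((IntermediateField.equivOfEq htop).trans IntermediateField.topEquiv)
  let φf : X.functionField →ₐ[k] (CohB1.ProjSpace 1 k).functionField :=
    { Hyper24.ffMap f eg with commutes' := Hyper24.ffMap_algebraMap f eg hf }
  let ψ : X.functionField →ₐ[k] RatFunc k := eP.symm.toAlgHom.comp φf
  have hE : ψ.fieldRange ≠ ⊥ := fun h => by
    have hall : ∀ z : X.functionField, ∃ c : k, algebraMap k X.functionField c = z := fun z => by
      have hm : ψ z ∈ ψ.fieldRange := ⟨z, rfl⟩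
      rw [h] at hm
      obtain ⟨c, hc⟩ := IntermediateField.mem_bot.1 hm
      exact ⟨c, ψ.injective ((ψ.commutes c).trans hc)⟩
    haveI : JacobsonSpace X := LocallyOfFiniteType.jacobsonSpace (X ↘ Spec (CommRingCat.of k))
    obtain ⟨W, hW, hηW, -⟩ := exists_isAffineOpen_mem_and_subset (x := genericPoint X) (U := (⊤ : X.Opens)) trivial
    obtain ⟨x, hxW, hx⟩ := nonempty_inter_closedPoints (⟨_, hηW⟩ : (W : Set X).Nonempty) W.2.isLocallyClosed
    haveI : Nonempty W := ⟨⟨_, hηW⟩⟩
    haveI := functionField_isFractionRing_of_isAffineOpen X W hW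
    have hfld : IsField Γ(X, W) := by
      refine ⟨⟨0, 1, zero_ne_one⟩, mul_comm, fun {a} ha => ?_⟩
      obtain ⟨c, hc⟩ := hall (algebraMap Γ(X, W) X.functionField a)
      have hg : algebraMap Γ(X, W) X.functionField (EmbLib24.gl (X ↘ Spec (CommRingCat.of k)) W c⁻¹) =
          algebraMap k X.functionField c⁻¹ := EmbLib24.germ_gl _ hηW c⁻¹
      refine ⟨EmbLib24.gl (X ↘ Spec (CommRingCat.of k)) W c⁻¹, IsFractionRing.injective Γ(X, W) X.functionField ?_⟩
      have hc0 : c ≠ 0 := fun e => ha (IsFractionRing.injective Γ(X, W) X.functionField (by rw [← hc, e, map_zero, map_zero]))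
      rw [map_mul, hg, ← hc, ← map_mul, mul_inv_cancel₀ hc0, map_one, map_one]
    letI := hfld.toField
    have h1 : hW.primeIdealOf ⟨x, hxW⟩ = hW.primeIdealOf ⟨genericPoint X, hηW⟩ :=
      Subsingleton.elim (α := PrimeSpectrum Γ(X, W)) _ _
    have h2 := congrArg (fun q => hW.fromSpec q) h1
    simp only [IsAffineOpen.fromSpec_primeIdealOf] at h2
    rw [mem_closedPoints_iff, h2] at hx
    exact CurvesLib24.not_isClosed_genericPoint hdim hx
  obtain ⟨s, hs⟩ : RatFunc.Luroth.generator ψ.fieldRange ∈ ψ.fieldRange := RatFunc.Luroth.generator_mem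
  have hs' : ψ s = RatFunc.Luroth.generator ψ.fieldRange := hs
  have hadj : IntermediateField.adjoin k {s} = ⊤ := by
    apply IntermediateField.map_injective ψ
    rw [IntermediateField.adjoin_map, Set.image_singleton, ← AlgHom.fieldRange_eq_map, hs']
    exact RatFunc.Luroth.eq_adjoin_generator.symm
  have hstr : Transcendental k s := fun h => RatFunc.Luroth.transcendental_generator hE (hs' ▸ h.algHom ψ)
  let eX : RatFunc k ≃ₐ[k] X.functionField :=
    (RatFunc.algEquivOfTranscendental s hstr).trans ((IntermediateField.equivOfEq hadj).trans IntermediateField.topEquiv)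
  let iX : X.presheaf.stalk (genericPoint X) ≅ CommRingCat.of (RatFunc k) := eX.symm.toRingEquiv.toCommRingCatIso
  let iP : (CohB1.ProjSpace 1 k).presheaf.stalk (genericPoint (CohB1.ProjSpace 1 k)) ≅ CommRingCat.of (RatFunc k) :=
    eP.symm.toRingEquiv.toCommRingCatIso
  have hP : CommRingCat.ofHom (Curv2.stalkMap k (CohB1.ProjSpace 1 k) (genericPoint _)) ≫ iP.hom =
      CommRingCat.ofHom (algebraMap k (RatFunc k)) := by
    ext c; exact eP.symm.commutes c
  have hX : CommRingCat.ofHom (Curv2.stalkMap k X (genericPoint _)) ≫ iX.hom =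
      CommRingCat.ofHom (algebraMap k (RatFunc k)) := by
    ext c; exact eX.symm.commutes c
  exact ASBun8.GenPt.birationalOver _ _
    ((ASBun8.GenPt.good_of_isIso (Spec.map iX.hom)).comp (good_generic X))
    ((ASBun8.GenPt.good_of_isIso (Spec.map iP.hom)).comp (good_generic (CohB1.ProjSpace 1 k)))
    (by
      rw [Category.assoc, Category.assoc, ← CurveLib.specMap_stalkMap, ← Spec.map_comp, hX]
      show _ = _ ≫ _ ≫ ((CohB1.ProjSpace 1 k) ↘ Spec (CommRingCat.of k))
      rw [← CurveLib.specMap_stalkMap]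
      rw [← Spec.map_comp, hP])

/-- Let k be an algebraically closed field and C ⊆ P^n_k a closed subscheme which is an integral scheme
of dimension one (a projective curve). Then C is rational — some nonempty open subscheme of C is
isomorphic over k to an open subscheme of the projective line P^1_k — if and only if C is the
scheme-theoretic image of some k-morphism f : P^1_k → P^n_k, i.e. the ideal sheaf of C in P^n_k is
the kernel ideal sheaf of f. -/
theorem result
    {k : Type u} [Field k] [IsAlgClosed k] {n : ℕ} (C : Scheme.{u})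
    (i : C ⟶ CohB1.ProjSpace n k) [IsClosedImmersion i] [IsIntegral C]
    (hdim : topologicalKrullDim C = 1) :
    (∃ (U : C.Opens) (V : (CohB1.ProjSpace 1 k).Opens) (e : (↑U : Scheme.{u}) ≅ ↑V),
        Nonempty U ∧
          e.hom ≫ V.ι ≫ CohB1.ProjSpace.toSpec 1 k = U.ι ≫ i ≫ CohB1.ProjSpace.toSpec n k) ↔
      ∃ f : CohB1.ProjSpace 1 k ⟶ CohB1.ProjSpace n k,
        f ≫ CohB1.ProjSpace.toSpec n k = CohB1.ProjSpace.toSpec 1 k ∧ f.ker = i.ker := by
  haveI := CurveLib.isIntegral_projSpace k 1
  haveI : IsProper (CohB1.ProjSpace.toSpec n k) := CurveLib.isProper_projSpace k n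
  haveI : IsProper (CohB1.ProjSpace.toSpec 1 k) := CurveLib.isProper_projSpace k 1
  letI : C.Over (Spec (CommRingCat.of k)) := ⟨i ≫ CohB1.ProjSpace.toSpec n k⟩
  haveI : IsProper (C ↘ Spec (CommRingCat.of k)) :=
    inferInstanceAs (IsProper (i ≫ CohB1.ProjSpace.toSpec n k))
  constructor
  · rintro ⟨U, V, e, hU, he⟩
    haveI := hU
    obtain ⟨u₀⟩ := hU
    have hUd : Dense (U : Set C) := U.2.dense ⟨_, u₀.2⟩
    have hVd : Dense (V : Set (CohB1.ProjSpace 1 k)) := V.2.dense ⟨_, (e.hom u₀).2⟩
    haveI : IsDominant U.ι := ⟨by rw [DenseRange, U.range_ι]; exact hUd⟩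
    haveI : IsDominant V.ι := ⟨by rw [DenseRange, V.range_ι]; exact hVd⟩
    haveI : Smooth (CohB1.ProjSpace.toSpec 1 k) := P1Lib24.smooth_projLine k
    obtain ⟨U', hle, hU', f', hf', hf'V⟩ := NeronLib.exists_extension_codim_one (NeronLib.smoothRegular_spec k)
      (CohB1.ProjSpace.toSpec 1 k) (CohB1.ProjSpace.toSpec n k) V hVd (e.inv ≫ U.ι ≫ i) (by
        rw [Category.assoc, Category.assoc, ← he, e.inv_hom_id_assoc])
    have htop : U' = ⊤ := by
      refine eq_top_iff.2 fun x _ => hU' x ?_
      haveI : JacobsonSpace (CohB1.ProjSpace 1 k) := LocallyOfFiniteType.jacobsonSpace (CohB1.ProjSpace.toSpec 1 k)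
      obtain ⟨c, hcx, hc⟩ := nonempty_inter_closedPoints (X := CohB1.ProjSpace 1 k) (Z := closure {x})
        (Set.Nonempty.closure ⟨_, rfl⟩) isClosed_closure.isLocallyClosed
      refine le_trans ?_ (CurveLib.ringKrullDim_projLine k c hc).le
      rw [ringKrullDim_stalk_eq_coheight, ringKrullDim_stalk_eq_coheight]
      exact_mod_cast Order.coheight_anti (show c ≤ x from specializes_iff_mem_closure.mpr hcx)
    subst htop
    haveI : IsIso (Scheme.Opens.ι (⊤ : (CohB1.ProjSpace 1 k).Opens)) :=
      (Scheme.topIso (CohB1.ProjSpace 1 k)).isIso_hom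
    refine ⟨inv (Scheme.Opens.ι (⊤ : (CohB1.ProjSpace 1 k).Opens)) ≫ f', ?_, ?_⟩
    · rw [Category.assoc, hf', IsIso.inv_hom_id_assoc]
    · have h2 : V.ι ≫ inv (Scheme.Opens.ι (⊤ : (CohB1.ProjSpace 1 k).Opens)) ≫ f' = e.inv ≫ U.ι ≫ i := by
        rw [← hf'V, ← Category.assoc]
        congr 1
        rw [IsIso.comp_inv_eq, Scheme.homOfLE_ι]
      rw [← ker_comp_of_isDominant V.ι, h2, Scheme.Hom.ker_comp_of_isIso, ker_comp_of_isDominant]
  · rintro ⟨f, hf, hker⟩
    let g : CohB1.ProjSpace 1 k ⟶ C := IsClosedImmersion.lift i f hker.symm.le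
    have hgi : g ≫ i = f := IsClosedImmersion.lift_fac _ _ _
    have hg : g ≫ (C ↘ Spec (CommRingCat.of k)) = CohB1.ProjSpace.toSpec 1 k := by
      show g ≫ i ≫ CohB1.ProjSpace.toSpec n k = _
      rw [reassoc_of% hgi, hf]
    haveI : IsProper f := by
      have : IsProper (f ≫ CohB1.ProjSpace.toSpec n k) := by rw [hf]; infer_instance
      exact IsProper.of_comp f (CohB1.ProjSpace.toSpec n k)
    have hrange : Set.range i = Set.range f := by
      rw [← f.isClosedMap.isClosed_range.closure_eq, ← Scheme.Hom.support_ker f, hker, Scheme.Hom.support_ker,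
        i.isClosedEmbedding.isClosed_range.closure_eq]
    have eg : g (genericPoint (CohB1.ProjSpace 1 k)) = genericPoint C := by
      obtain ⟨y, hy⟩ := hrange.subset ⟨genericPoint C, rfl⟩
      have h1 : g y = genericPoint C := i.injective (by rw [← hy, ← hgi]; rfl)
      exact ((genericPoint_specializes (g (genericPoint (CohB1.ProjSpace 1 k)))).antisymm
        (h1 ▸ (genericPoint_specializes y).map g.continuous)).eq.symm
    obtain ⟨φ, hφ⟩ := birational_of_hom k hdim g hg eg
    refine ⟨φ.source, φ.target, φ.iso, ?_, hφ⟩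
    obtain ⟨x, hx⟩ := φ.dense_source.nonempty
    exact ⟨⟨x, hx⟩⟩

end Groth.Agent.S17085
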