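import Groth.Statements.S17086
-- import your own Groth.Agent.* helpers here
import Groth.Agent.Clifford24.IdealInv
import Groth.Agent.DimLib.ProjDim
import Groth.Agent.SerreDual.ProjRegular
import Groth.Agent.CurveLib.ProjLine
import Groth.Agent.CAlgH3.RegularLocal
import Groth.Agent.CAlgH3.Factorial
import Groth.Agent.CAlgH3.Serre

set_option autoImplicit false
universe u
open CategoryTheory CategoryTheory.Limits AlgebraicGeometry
open RatCurve

namespace Groth.Agent.S17086

/-- Let k be an algebraically closed field, X a closed subscheme of P^n_k, Z ⊆ X a closed subscheme and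
σ : B → X a blow-up of X along Z (the inverse image ideal of Z is effective Cartier and σ is final
with this property). Then every k-morphism f : P^1_k → X whose image is not contained in Z lifts
uniquely along σ: there is exactly one morphism g : P^1_k → B with g ≫ σ = f. Equivalently, over the
open locus of morphisms meeting X ∖ Z, the morphism Mor(P^1_k, B) → Mor(P^1_k, X) induced by σ is a
bijection on k-points. -/
theorem result
    {k : Type u} [Field k] [IsAlgClosed k] {n : ℕ} (X : Scheme.{u})
    (c : X ⟶ CohB1.ProjSpace n k) [IsClosedImmersion c]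
    (Z : Scheme.{u}) (iZ : Z ⟶ X) [IsClosedImmersion iZ]
    (B : Scheme.{u}) (σ : B ⟶ X) (hσ : BlowUp.IsBlowUp σ iZ.ker)
    (f : CohB1.ProjSpace 1 k ⟶ X)
    (hf : f ≫ c ≫ CohB1.ProjSpace.toSpec n k = CohB1.ProjSpace.toSpec 1 k)
    (hfZ : ¬ Set.range f ⊆ Set.range iZ) :
    ∃! g : CohB1.ProjSpace 1 k ⟶ B, g ≫ σ = f := by
  haveI := Groth.Agent.CurveLib.isIntegral_projSpace k 1
  haveI : IsLocallyNoetherian (CohB1.ProjSpace 1 k) := by
    haveI := Groth.Agent.CurveLib.isProper_projSpace k 1
    exact LocallyOfFiniteType.isLocallyNoetherian (CohB1.ProjSpace.toSpec 1 k)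
  refine hσ.2 _ f (Groth.Agent.Clifford24.isEffCartierIdeal_of_normal
    (Groth.Agent.DimLib.PN.topologicalKrullDim_projSpace 1 k).le (fun x => ?_) _ fun hη => hfZ ?_)
  · haveI := Groth.Agent.SerreDual.isRegularLocalRing_stalk_projSpace (k := k) 1 x
    haveI := Groth.Agent.CAlgH3.isDomain_of_isRegularLocalRing ((CohB1.ProjSpace 1 k).presheaf.stalk x)
    haveI := @Groth.Agent.CAlgH3.ufm_of_regular _ _ _ (Groth.Agent.CAlgH3.isDomain_of_isRegularLocalRing ((CohB1.ProjSpace 1 k).presheaf.stalk x))
    infer_instance
  · rw [Scheme.IdealSheafData.support_comap, TopologicalSpace.Closeds.coe_preimage, Scheme.Hom.support_ker,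
      Set.mem_preimage, (AlgebraicGeometry.Scheme.Hom.isClosedEmbedding iZ).isClosed_range.closure_eq] at hη
    rintro _ ⟨x, rfl⟩
    have h := (genericPoint_specializes x).map f.continuous
    exact h.mem_closed (AlgebraicGeometry.Scheme.Hom.isClosedEmbedding iZ).isClosed_range hη

end Groth.Agent.S17086
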