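import Groth.Statements.S17088
import Mathlib.AlgebraicGeometry.ZariskisMainTheorem

set_option autoImplicit false
universe u
open CategoryTheory CategoryTheory.Limits AlgebraicGeometry
open MorSch

namespace Groth.Agent.S17088

/-- Let f : X → S be a separated morphism, ι : W → X an immersion and T an S-scheme. For every closed
subscheme V of W ×_S T which is proper and flat over T — a T-point of the Hilbert functor of W over
S — the composite V → W ×_S T → X ×_S T is a closed immersion, and the map sending V to the ideal
sheaf of this composite, from T-points of the Hilbert functor of W to ideal sheaves on X ×_S T, is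
injective: an immersion induces a monomorphism of Hilbert functors. -/
theorem result
    {W X S : Scheme.{u}} (f : X ⟶ S) [IsSeparated f] (ι : W ⟶ X) [IsImmersion ι]
    (T : Over S) :
    (∀ V : FGA.HilbSet (ι ≫ f) T,
      IsClosedImmersion (V.1.subschemeι ≫ pullback.map (ι ≫ f) T.hom f T.hom ι (𝟙 T.left) (𝟙 S)
          (Category.comp_id _) ((Category.comp_id _).trans (Category.id_comp _).symm))) ∧
    Function.Injective (fun V : FGA.HilbSet (ι ≫ f) T =>
      (V.1.subschemeι ≫ pullback.map (ι ≫ f) T.hom f T.hom ι (𝟙 T.left) (𝟙 S)
          (Category.comp_id _) ((Category.comp_id _).trans (Category.id_comp _).symm)).ker) := by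
  let m := Limits.pullback.map (ι ≫ f) T.hom f T.hom ι (𝟙 T.left) (𝟙 S)
    (Category.comp_id _) ((Category.comp_id _).trans (Category.id_comp _).symm)
  have hm : Mono m := ⟨fun a b h => by
    refine Limits.pullback.hom_ext ?_ ?_
    · rw [← cancel_mono ι, Category.assoc, Category.assoc]
      have e := h =≫ Limits.pullback.fst f T.hom
      simp only [m, Category.assoc] at e
      erw [Limits.pullback.lift_fst] at e
      exact e
    · have e := h =≫ Limits.pullback.snd f T.hom
      simp only [m, Category.assoc] at e
      erw [Limits.pullback.lift_snd] at e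
      simpa using e⟩
  have hcl : ∀ V : FGA.HilbSet (ι ≫ f) T, IsClosedImmersion (V.1.subschemeι ≫ m) := fun V => by
    have h1 : IsProper ((V.1.subschemeι ≫ m) ≫ Limits.pullback.snd f T.hom) := by
      rw [Category.assoc, Limits.pullback.lift_snd, Category.comp_id]
      exact V.2.1
    exact (IsClosedImmersion.iff_isProper_and_mono _).2 ⟨IsProper.of_comp _ (Limits.pullback.snd f T.hom), mono_comp _ _⟩
  refine ⟨hcl, fun V V' h => Subtype.ext (le_antisymm ?_ ?_)⟩
  · have := hcl V
    let l := IsClosedImmersion.lift (V.1.subschemeι ≫ m) (V'.1.subschemeι ≫ m) (le_of_eq h)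
    have hl : l ≫ V.1.subschemeι = V'.1.subschemeι := by
      rw [← cancel_mono m, Category.assoc, IsClosedImmersion.lift_fac]
    have := Scheme.Hom.le_ker_comp l V.1.subschemeι
    rwa [hl, Scheme.IdealSheafData.ker_subschemeι, Scheme.IdealSheafData.ker_subschemeι] at this
  · have := hcl V'
    let l := IsClosedImmersion.lift (V'.1.subschemeι ≫ m) (V.1.subschemeι ≫ m) (le_of_eq h.symm)
    have hl : l ≫ V'.1.subschemeι = V.1.subschemeι := by
      rw [← cancel_mono m, Category.assoc, IsClosedImmersion.lift_fac]
    have := Scheme.Hom.le_ker_comp l V'.1.subschemeι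
    rwa [hl, Scheme.IdealSheafData.ker_subschemeι, Scheme.IdealSheafData.ker_subschemeι] at this

end Groth.Agent.S17088
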