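import Groth.Statements.S17089
import Groth.Agent.MaxTorImg10.Central
import Groth.Agent.AGFQuot23.CentTorusNilpotent
import Groth.Agent.BorelImg10.Main
import Groth.Agent.AGFQuot23.NeutralSub
import Groth.Agent.SGA3cLib.BCPoints
-- import your own Groth.Agent.* helpers here

set_option autoImplicit false
set_option backward.isDefEq.respectTransparency false
set_option backward.isDefEq.respectTransparency.types false
open CategoryTheory.Limits
set_option backward.isDefEq.respectTransparency.types false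
set_option synthInstance.maxHeartbeats 400000
set_option maxHeartbeats 1000000
universe u
open CategoryTheory MonoidalCategory CartesianMonoidalCategory MonObj GrpObj AlgebraicGeometry
open AGF

namespace Groth.Agent.S17089

open Groth.Agent in
/-- A point of the base change normalizing the base-changed subgroup gives a point of the normalizer. -/
theorem exists_norm_pt {S S' : Scheme.{u}} (σ : S' ⟶ S) {U U' N : Over S} [GrpObj U] [GrpObj U'] [GrpObj N]
    (i : U ⟶ U') (n : N ⟶ U') (hn : Red.IsNormalizerOf i n) (g : 𝟙_ (Over S') ⟶ Red.bc σ U')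
    (l l' : Red.bc σ U ⟶ Red.bc σ U)
    (hl : l ≫ (Over.pullback σ).map i = (toUnit _ ≫ g) * (Over.pullback σ).map i * (toUnit _ ≫ g)⁻¹)
    (hl' : l' ≫ (Over.pullback σ).map i = (toUnit _ ≫ g)⁻¹ * (Over.pullback σ).map i * (toUnit _ ≫ g)) :
    ∃ z : (Over.map σ).obj (𝟙_ (Over S')) ⟶ N, SGA3cLib.BCPoints.pt σ U' _ (z ≫ n) = g := by
  let gk := (SGA3cLib.BCPoints.pt σ U' _).symm g
  obtain ⟨z, hz⟩ := (hn.2.2 _ gk).2 fun X' x h => by
    let X'' : Over S' := Over.mk (x.left ≫ (𝟙_ (Over S')).hom)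
    let x' : X'' ⟶ 𝟙_ (Over S') := Over.homMk x.left
    let e : (Over.map σ).obj X'' ≅ X' := Over.isoMk (Iso.refl _) (by simpa [X''] using (Over.w x).symm)
    have hx : e.hom ≫ x = (Over.map σ).map x' := Over.OverMorphism.ext (by simp [e, x'])
    let hK := SGA3cLib.BCPoints.pt σ U X'' (e.hom ≫ h)
    have hg : SGA3cLib.BCPoints.pt σ U' X'' ((e.hom ≫ x) ≫ gk) = x' ≫ g := by
      rw [hx, SGA3cLib.BCPoints.pt_map_comp]; simp [gk]
    constructor
    · refine ⟨e.inv ≫ (SGA3cLib.BCPoints.pt σ U X'').symm (hK ≫ l), ?_⟩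
      rw [← cancel_epi e.hom]
      apply (SGA3cLib.BCPoints.pt σ U' X'').injective
      simp only [MonObj.comp_mul, GrpObj.comp_inv, ← Category.assoc, e.hom_inv_id, Category.id_comp,
        SGA3cLib.BCPoints.pt_mul, SGA3cLib.BCPoints.pt_inv, hg, SGA3cLib.BCPoints.pt_comp, Equiv.apply_symm_apply]
      rw [Category.assoc hK, hl]
      simp only [MonObj.comp_mul, GrpObj.comp_inv, hK, SGA3cLib.BCPoints.pt_comp, ← Category.assoc, comp_toUnit, toUnit_unique (toUnit X'') x']
    · refine ⟨e.inv ≫ (SGA3cLib.BCPoints.pt σ U X'').symm (hK ≫ l'), ?_⟩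
      rw [← cancel_epi e.hom]
      apply (SGA3cLib.BCPoints.pt σ U' X'').injective
      simp only [MonObj.comp_mul, GrpObj.comp_inv, ← Category.assoc, e.hom_inv_id, Category.id_comp,
        SGA3cLib.BCPoints.pt_mul, SGA3cLib.BCPoints.pt_inv, hg, SGA3cLib.BCPoints.pt_comp, Equiv.apply_symm_apply]
      rw [Category.assoc hK, hl']
      simp only [MonObj.comp_mul, GrpObj.comp_inv, hK, SGA3cLib.BCPoints.pt_comp, ← Category.assoc, comp_toUnit, toUnit_unique (toUnit X'') x']
  exact ⟨z, by rw [hz]; exact Equiv.apply_symm_apply _ _⟩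

open Groth.Agent in
/-- A connected unipotent group over an algebraically closed field is nilpotent on points. -/
theorem nilpotent_points {K : Type u} [Field K] [IsAlgClosed K] {G : Over (Spec (CommRingCat.of K))} [GrpObj G]
    [IsAffine G.left] [Smooth G.hom] [ConnectedSpace G.left] (hG : Red.HasNoSubtorus K G) :
    Group.IsNilpotent (𝟙_ (Over (Spec (CommRingCat.of K))) ⟶ G) := by
  obtain ⟨T, _, iT, hT⟩ := MaxTorImg10.exists_maxTorus G
  haveI := hT.1; haveI := hT.2.1
  haveI : IsIso T.hom := hG T iT hT.2.2.1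
  have hu : ∀ (W : Over (Spec (CommRingCat.of K))) (x : W ⟶ T), x = 1 := fun W x => by
    refine Over.OverMorphism.ext ?_
    rw [← cancel_mono T.hom, Over.w x, Over.w (1 : W ⟶ T)]
  obtain ⟨n, hn⟩ := AGFQuot23.isNilpotentGrp_of_central_maxTorus hT fun W g x => by
    rw [hu W x, MonObj.one_comp, _root_.mul_one, _root_.one_mul]
  exact ⟨⟨n, hn _⟩⟩

end Groth.Agent.S17089

namespace Groth.Agent.S17089

/-- Let k be a field, U' an affine, smooth, connected k-group scheme whose geometric fibre contains no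
non-trivial subtorus (a smooth connected unipotent group), i : U ⟶ U' a closed subgroup scheme which
is smooth and connected and whose inclusion is not an isomorphism, and n : N ⟶ U' the normalizer of
U in U'. Then N is strictly larger than U: the inclusion of N does not factor through U. -/
theorem result (k : Type u) [Field k]
    (U' : Over (Spec (CommRingCat.of k))) [GrpObj U'] [IsAffine U'.left] [Smooth U'.hom] [ConnectedSpace ↥U'.left]
    (hU' : ∀ s : ↥(Spec (CommRingCat.of k)),
      Red.HasNoSubtorus (AlgebraicClosure ((Spec (CommRingCat.of k)).residueField s)) (Red.geomFibre s U'))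
    (U : Over (Spec (CommRingCat.of k))) [GrpObj U] (i : U ⟶ U') [IsMonHom i] (hi : IsClosedImmersion i.left)
    [Smooth U.hom] [ConnectedSpace ↥U.left] (hne : ¬ IsIso i.left)
    (N : Over (Spec (CommRingCat.of k))) [GrpObj N] (n : N ⟶ U') (hn : Red.IsNormalizerOf i n) :
    ¬ ∃ f : N ⟶ U, f ≫ i = n := by
  rintro ⟨f, hf⟩
  apply hne
  let s : (Spec (CommRingCat.of k) : Scheme.{u}) := IsLocalRing.closedPoint k
  let σ := Red.geomPt s
  let V := Red.bc σ U
  let W := Red.bc σ U'
  haveI : IsAffine W.left := inferInstanceAs (IsAffine (pullback U'.hom σ))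
  haveI : Smooth W.hom := inferInstanceAs (Smooth (pullback.snd U'.hom σ))
  haveI : Smooth V.hom := inferInstanceAs (Smooth (pullback.snd U.hom σ))
  haveI : ConnectedSpace W.left := Groth.Agent.BorelImg10.connectedSpace_bc U' σ
  let iK : V ⟶ W := (Over.pullback σ).map i
  haveI : IsMonHom iK := inferInstanceAs (IsMonHom ((Over.pullback σ).map i))
  haveI : IsClosedImmersion iK.left := MorphismProperty.overPullbackMap σ i hi
  haveI : Mono iK := Over.mono_of_mono_left iK
  haveI : IsReduced V.left := Groth.Agent.AbSchLib.isReduced_of_smooth V.hom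
  haveI : IsReduced W.left := Groth.Agent.AbSchLib.isReduced_of_smooth W.hom
  haveI := nilpotent_points (G := W) (hU' s)
  let φ : (𝟙_ _ ⟶ V) →* (𝟙_ _ ⟶ W) := MonoidHom.mk' (fun h => h ≫ iK) fun a b => MonObj.mul_comp a b iK
  have htop : φ.range = ⊤ := by
    by_contra hlt
    obtain ⟨g, hg, hgn⟩ := SetLike.exists_of_lt ((Group.normalizerCondition_of_isNilpotent (G := 𝟙_ _ ⟶ W)) φ.range (lt_top_iff_ne_top.2 hlt))
    have hlift : ∀ g' : 𝟙_ _ ⟶ W, g' ∈ Subgroup.normalizer (φ.range : Set _) →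
        ∃ l : V ⟶ V, l ≫ iK = (toUnit _ ≫ g') * iK * (toUnit _ ≫ g')⁻¹ := by
      intro g' hg'
      refine Groth.Agent.AGFQuot23.exists_lift_of_points _ iK fun b => ?_
      obtain ⟨h', hh'⟩ := (Subgroup.mem_normalizer_iff.1 hg' (b ≫ iK)).1 ⟨b, rfl⟩
      refine ⟨Groth.Agent.AlgGrpLib.ptOf h', congrArg (fun r : _ ⟶ W => Groth.Agent.AlgGrpLib.ptOf r) (hh'.trans ?_)⟩
      simp only [MonObj.comp_mul, GrpObj.comp_inv, ← Category.assoc, toUnit_unique (b ≫ toUnit _) (𝟙 _), Category.id_comp]
    obtain ⟨l, hl⟩ := hlift g hg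
    obtain ⟨l', hl'⟩ := hlift g⁻¹ ((Subgroup.normalizer _).inv_mem hg)
    rw [GrpObj.comp_inv, _root_.inv_inv] at hl'
    obtain ⟨z, hz⟩ := exists_norm_pt σ i n hn g l l' hl hl'
    refine hgn ⟨Groth.Agent.SGA3cLib.BCPoints.pt σ U _ (z ≫ f), ?_⟩
    show Groth.Agent.SGA3cLib.BCPoints.pt σ U _ (z ≫ f) ≫ iK = g
    rw [← hz, ← hf, ← Category.assoc z f i, Groth.Agent.SGA3cLib.BCPoints.pt_comp σ (z ≫ f) i]
  obtain ⟨r, hr⟩ := Groth.Agent.AGFQuot23.exists_lift_of_points (𝟙 W) iK fun b => by
    obtain ⟨b', hb'⟩ := (htop.ge (Subgroup.mem_top b) : b ∈ φ.range)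
    exact ⟨Groth.Agent.AlgGrpLib.ptOf b', congrArg (fun r : _ ⟶ W => Groth.Agent.AlgGrpLib.ptOf r) (hb'.trans (Category.comp_id b).symm)⟩
  haveI : IsReduced U'.left := Groth.Agent.AbSchLib.isReduced_of_smooth U'.hom
  haveI : Surjective σ := ⟨fun x => ⟨IsLocalRing.closedPoint _, Subsingleton.elim (α := PrimeSpectrum k) _ _⟩⟩
  haveI : Surjective i.left := ⟨fun y => by
    obtain ⟨w, rfl⟩ := (pullback.fst U'.hom σ).surjective y
    refine ⟨(pullback.fst U.hom σ) (r.left w), ?_⟩
    have e : r.left ≫ iK.left = 𝟙 _ := by rw [← Over.comp_left, hr]; rfl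
    have e2 : iK.left ≫ pullback.fst U'.hom σ = pullback.fst U.hom σ ≫ i.left := pullback.lift_fst _ _ _
    have e3 : r.left ≫ pullback.fst U.hom σ ≫ i.left = pullback.fst U'.hom σ := by
      rw [← e2, ← Category.assoc, e]; exact Category.id_comp _
    exact congrArg (fun m : _ ⟶ U'.left => m w) e3⟩
  exact isIso_of_isClosedImmersion_of_surjective _


end Groth.Agent.S17089
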