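import Groth.Statements.S17090
import Groth.Agent.MaxTorImg10.Central
import Groth.Agent.AGFQuot23.CentTorusNilpotent
import Groth.Agent.BorelImg10.Main
import Groth.Agent.AGFQuot23.NeutralSub
import Groth.Agent.SGA3cLib.BCPoints
import Groth.Agent.S8000
import Groth.Agent.EulerLib.Degree
import Groth.Agent.AlgSpLib.FibreDimFun
import Groth.Agent.AlgGrpLib.SemiabSum
-- import your own Groth.Agent.* helpers here

set_option autoImplicit false
set_option backward.isDefEq.respectTransparency false
set_option backward.isDefEq.respectTransparency.types false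
open CategoryTheory.Limits
open scoped commutatorElement
set_option backward.isDefEq.respectTransparency.types false
set_option synthInstance.maxHeartbeats 400000
set_option maxHeartbeats 1000000
universe u
open CategoryTheory MonoidalCategory CartesianMonoidalCategory MonObj GrpObj AlgebraicGeometry
open AGF

namespace Groth.Agent.S17090

open Groth.Agent in
/-- A connected unipotent group over an algebraically closed field is nilpotent on points. -/
theorem nilpotent_points {K : Type u} [Field K] [IsAlgClosed K] {G : Over (Spec (CommRingCat.of K))} [GrpObj G]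
    [IsAffine G.left] [Smooth G.hom] [ConnectedSpace G.left] (hG : Red.HasNoSubtorus K G) :
    Group.IsNilpotent (𝟙_ (Over (Spec (CommRingCat.of K))) ⟶ G) := by
  obtain ⟨T, _, iT, hT⟩ := MaxTorImg10.exists_maxTorus G
  haveI := hT.1; haveI := hT.2.1
  haveI : IsIso T.hom := hG T iT hT.2.2.1
  have hu : ∀ (W : Over (Spec (CommRingCat.of K))) (x : W ⟶ T), x = 1 := fun W x => by
    refine Over.OverMorphism.ext ?_
    rw [← cancel_mono T.hom, Over.w x, Over.w (1 : W ⟶ T)]
  obtain ⟨n, hn⟩ := AGFQuot23.isNilpotentGrp_of_central_maxTorus hT fun W g x => by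
    rw [hu W x, MonObj.one_comp, _root_.mul_one, _root_.one_mul]
  exact ⟨⟨n, hn _⟩⟩
open Groth.Agent in
/-- The set of rational points normalizing a closed subgroup, given a dense family of them, is everything. -/
theorem normalizer_all {K : Type u} [Field K] [IsAlgClosed K] {V W A : Over (Spec (CommRingCat.of K))} [GrpObj V] [GrpObj W]
    [LocallyOfFiniteType A.hom] [LocallyOfFiniteType W.hom] (j : V ⟶ W) [IsClosedImmersion j.left]
    (ψ : A ⟶ W) (hd : closure (Set.range ψ.left) = Set.univ)
    (h : ∀ (a : 𝟙_ (Over (Spec (CommRingCat.of K))) ⟶ A) (u : 𝟙_ (Over (Spec (CommRingCat.of K))) ⟶ V),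
      ∃ u' : 𝟙_ (Over (Spec (CommRingCat.of K))) ⟶ V, (a ≫ ψ) * (u ≫ j) * (a ≫ ψ)⁻¹ = u' ≫ j)
    (g : 𝟙_ (Over (Spec (CommRingCat.of K))) ⟶ W) (u : 𝟙_ (Over (Spec (CommRingCat.of K))) ⟶ V) :
    ∃ u' : 𝟙_ (Over (Spec (CommRingCat.of K))) ⟶ V, g * (u ≫ j) * g⁻¹ = u' ≫ j := by
  haveI : LocallyOfFiniteType (𝟙_ (Over (Spec (CommRingCat.of K)))).hom :=
    inferInstanceAs (LocallyOfFiniteType (𝟙 (Spec (CommRingCat.of K))))
  haveI : IsReduced (𝟙_ (Over (Spec (CommRingCat.of K)))).left := inferInstanceAs (IsReduced (Spec (CommRingCat.of K)))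
  let c : W ⟶ W := 𝟙 W * (toUnit W ≫ u ≫ j) * (𝟙 W)⁻¹
  have hc : ∀ x : 𝟙_ (Over (Spec (CommRingCat.of K))) ⟶ W, x ≫ c = x * (u ≫ j) * x⁻¹ := fun x => by
    simp only [c, MonObj.comp_mul, GrpObj.comp_inv, Category.comp_id, ← Category.assoc,
      toUnit_unique (x ≫ toUnit W) (𝟙 _), Category.id_comp]
  have hcl : IsClosed (c.left ⁻¹' Set.range j.left) := j.left.isClosedEmbedding.isClosed_range.preimage c.left.continuous
  have hall : c.left ⁻¹' Set.range j.left = Set.univ := by
    refine Set.eq_univ_of_univ_subset (hd.ge.trans (closure_minimal ?_ hcl))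
    rintro _ ⟨a, rfl⟩
    exact AGFQuot23.subset_of_forall_point (Z := A) isClosed_univ.isLocallyClosed (hcl.preimage ψ.left.continuous)
      (fun b _ => by
        obtain ⟨u', hu'⟩ := h b u
        exact ⟨AlgGrpLib.ptOf u', congrArg (fun r : _ ⟶ W => AlgGrpLib.ptOf r) ((hu'.symm).trans (hc (b ≫ ψ)).symm)⟩)
      (Set.mem_univ a)
  obtain ⟨u', hu'⟩ := AGFQuot23.exists_lift_of_points (g * (u ≫ j) * g⁻¹) j fun b => by
    rw [show b = 𝟙 _ from (toUnit_unique b _).trans (toUnit_unique (toUnit _) _), Category.id_comp, ← hc g]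
    exact (Set.eq_univ_iff_forall.1 hall (AlgGrpLib.ptOf g) : _)
  exact ⟨u', hu'.symm⟩

end Groth.Agent.S17090

namespace Groth.Agent.S17090

/-- The particular case of codimension one: let k be a field, U' an affine, smooth, connected k-group
scheme whose geometric fibre contains no non-trivial subtorus (a smooth connected unipotent group)
and i : U ⟶ U' a closed subgroup scheme which is smooth and connected. If dim U' = dim U + 1
(dimensions of the underlying topological spaces), then U is a normal subgroup of U'. -/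
theorem result (k : Type u) [Field k]
    (U' : Over (Spec (CommRingCat.of k))) [GrpObj U'] [IsAffine U'.left] [Smooth U'.hom] [ConnectedSpace ↥U'.left]
    (hU' : ∀ s : ↥(Spec (CommRingCat.of k)),
      Red.HasNoSubtorus (AlgebraicClosure ((Spec (CommRingCat.of k)).residueField s)) (Red.geomFibre s U'))
    (U : Over (Spec (CommRingCat.of k))) [GrpObj U] (i : U ⟶ U') [IsMonHom i] (hi : IsClosedImmersion i.left)
    [Smooth U.hom] [ConnectedSpace ↥U.left]
    (d : ℕ) (hd : topologicalKrullDim ↥U.left = (d : WithBot ℕ∞))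
    (hd' : topologicalKrullDim ↥U'.left = ((d + 1 : ℕ) : WithBot ℕ∞)) :
    AlgGrp.IsNormalHom i := by
  let s : (Spec (CommRingCat.of k) : Scheme.{u}) := IsLocalRing.closedPoint k
  let σ := Red.geomPt s
  let K := AlgebraicClosure ((Spec (CommRingCat.of k)).residueField s)
  letI : Algebra k K := (Spec.preimage σ).hom.toAlgebra
  have hσ : Spec.map (CommRingCat.ofHom (algebraMap k K)) = σ := Spec.map_preimage σ
  haveI : LocallyOfFiniteType U.hom := inferInstance
  let V := Red.bc σ U
  let W := Red.bc σ U'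
  haveI : IsAffine W.left := inferInstanceAs (IsAffine (pullback U'.hom σ))
  haveI : Smooth W.hom := inferInstanceAs (Smooth (pullback.snd U'.hom σ))
  haveI : Smooth V.hom := inferInstanceAs (Smooth (pullback.snd U.hom σ))
  haveI : ConnectedSpace W.left := Groth.Agent.BorelImg10.connectedSpace_bc U' σ
  haveI : ConnectedSpace V.left := Groth.Agent.BorelImg10.connectedSpace_bc U σ
  let iK : V ⟶ W := (Over.pullback σ).map i
  haveI : IsMonHom iK := inferInstanceAs (IsMonHom ((Over.pullback σ).map i))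
  haveI : IsClosedImmersion iK.left := MorphismProperty.overPullbackMap σ i hi
  haveI : QuasiCompact W.hom := (quasiCompact_iff_compactSpace W.hom).2 inferInstance
  haveI : QuasiCompact V.hom := by rw [← Over.w iK]; infer_instance
  haveI : IrreducibleSpace W.left := Groth.Agent.SGA3cLib.irreducibleSpace_of_connected W
  haveI : IrreducibleSpace V.left := Groth.Agent.SGA3cLib.irreducibleSpace_of_connected V
  haveI : LocallyOfFiniteType (𝟙_ (Over (Spec (CommRingCat.of K)))).hom :=
    inferInstanceAs (LocallyOfFiniteType (𝟙 (Spec (CommRingCat.of K))))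
  haveI : IsReduced (𝟙_ (Over (Spec (CommRingCat.of K)))).left := inferInstanceAs (IsReduced (Spec (CommRingCat.of K)))
  have hdV : topologicalKrullDim ↥V.left = (d : WithBot ℕ∞) := by
    rw [← hd]; exact (congrArg (fun m => topologicalKrullDim ↥(pullback U.hom m)) hσ).symm.trans
      (Groth.Agent.AlgSpLib.topologicalKrullDim_pullback_field U.hom _)
  have hdW : topologicalKrullDim ↥W.left = ((d + 1 : ℕ) : WithBot ℕ∞) := by
    rw [← hd']; exact (congrArg (fun m => topologicalKrullDim ↥(pullback U'.hom m)) hσ).symm.trans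
      (Groth.Agent.AlgSpLib.topologicalKrullDim_pullback_field U'.hom _)
  let φ : (𝟙_ _ ⟶ V) →* (𝟙_ _ ⟶ W) := MonoidHom.mk' (fun h => h ≫ iK) fun a b => MonObj.mul_comp a b iK
  have hnorm : ∀ (g : 𝟙_ _ ⟶ W) (u : 𝟙_ _ ⟶ V), ∃ u' : 𝟙_ _ ⟶ V, g * (u ≫ iK) * g⁻¹ = u' ≫ iK := by
    classical
    obtain ⟨n, hn⟩ := Subgroup.nilpotent_iff_lowerCentralSeries.1 (nilpotent_points (G := W) (hU' s))
    let L := fun m => (⊤ : Subgroup (𝟙_ _ ⟶ W)).lowerCentralSeries m
    have hex : ∃ m, L m ≤ φ.range := ⟨n, by show (⊤ : Subgroup _).lowerCentralSeries n ≤ _; rw [hn]; exact bot_le⟩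
    intro g u
    have fin : ∀ m, L (m + 1) ≤ φ.range → ∀ c ∈ L m, ∀ v : 𝟙_ _ ⟶ V, ∃ v' : 𝟙_ _ ⟶ V, c * (v ≫ iK) * c⁻¹ = v' ≫ iK := by
      intro m hm c hc v
      have h1 : ⁅c, v ≫ iK⁆ ∈ φ.range := hm (Subgroup.commutator_mem_commutator hc (Subgroup.mem_top _))
      obtain ⟨w, hw⟩ := h1
      refine ⟨w * v, ?_⟩
      rw [MonObj.mul_comp, show w ≫ iK = ⁅c, v ≫ iK⁆ from hw, commutatorElement_def, inv_mul_cancel_right]
    rcases h0 : Nat.find hex with _ | m
    · have h := Nat.find_spec hex
      rw [h0] at h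
      obtain ⟨w, hw⟩ := h (show g ∈ L 0 from Subgroup.mem_top g)
      exact ⟨w * u * w⁻¹, by rw [MonObj.mul_comp, MonObj.mul_comp, GrpObj.inv_comp, show w ≫ iK = g from hw]⟩
    have hm1 : L (m + 1) ≤ φ.range := h0 ▸ Nat.find_spec hex
    rcases m with _ | m
    · exact fin 0 hm1 g (Subgroup.mem_top g) u
    have hm : ¬ L (m + 1) ≤ φ.range := Nat.find_min hex (by omega)
    obtain ⟨a, ha, b, hab⟩ : ∃ a ∈ L m, ∃ b : 𝟙_ _ ⟶ W, ⁅a, b⁆ ∉ φ.range := by
      by_contra hcon
      push Not at hcon
      exact hm ((Subgroup.commutator_le).2 fun a ha b _ => hcon a ha b)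
    haveI : ConnectedSpace (V ⊗ W).left := Groth.Agent.AlgGrpLib.SemiabSum.connectedSpace_tensor V W
    haveI : Smooth (V ⊗ W).hom := inferInstanceAs (Smooth (pullback.fst V.hom W.hom ≫ V.hom))
    haveI : IrreducibleSpace (V ⊗ W).left := Groth.Agent.SGA3cLib.irreducibleSpace_of_connected _
    let A : V ⊗ W ⟶ W := toUnit _ ≫ a
    let ψ : V ⊗ W ⟶ W := (fst V W ≫ iK) * (A * snd V W * A⁻¹ * (snd V W)⁻¹)
    have hψ : ∀ (v : 𝟙_ _ ⟶ V) (w : 𝟙_ _ ⟶ W), lift v w ≫ ψ = (v ≫ iK) * ⁅a, w⁆ := fun v w => by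
      simp only [ψ, A, MonObj.comp_mul, GrpObj.comp_inv, ← Category.assoc, lift_fst, lift_snd,
        toUnit_unique (lift v w ≫ toUnit _) (𝟙 _), Category.id_comp, commutatorElement_def]
    let T := Set.range iK.left
    let Y := closure (Set.range ψ.left)
    have hY : IsIrreducible Y := by
      rw [show Y = closure (ψ.left '' Set.univ) from congrArg closure Set.image_univ.symm]
      exact ((IrreducibleSpace.isIrreducible_univ _).image _ ψ.left.continuous.continuousOn).closure
    have hTY : T ⊆ Y := fun t ht => Groth.Agent.AGFQuot23.subset_of_forall_point (Z := W)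
      iK.left.isClosedEmbedding.isClosed_range.isLocallyClosed isClosed_closure (fun x hx => by
        obtain ⟨x', hx'⟩ := Groth.Agent.AGFQuot23.exists_lift_of_points x iK (fun y => by
          rw [show y = 𝟙 _ from (toUnit_unique y _).trans (toUnit_unique (toUnit _) _), Category.id_comp]; exact hx)
        refine subset_closure ⟨Groth.Agent.AlgGrpLib.ptOf (lift x' 1), congrArg (fun r : _ ⟶ W => Groth.Agent.AlgGrpLib.ptOf r) (?_ : lift x' 1 ≫ ψ = x)⟩
        rw [hψ, commutatorElement_one_right, _root_.mul_one, hx']) ht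
    have hdT : topologicalKrullDim ↥T = (d : WithBot ℕ∞) := by
      rw [← hdV]
      exact (iK.left.isClosedEmbedding.isEmbedding.toHomeomorph.isHomeomorph.topologicalKrullDim_eq _).symm
    have hYuniv : Y = Set.univ := by
      by_contra hne'
      obtain ⟨y, hy⟩ := QuasiSober.sober hY isClosed_closure
      have hyT : y ∉ T := fun hy' => hab (by
        have hsub : Y ⊆ T := hy.def ▸ closure_minimal (Set.singleton_subset_iff.2 hy') iK.left.isClosedEmbedding.isClosed_range
        obtain ⟨w, hw⟩ := Groth.Agent.AGFQuot23.exists_lift_of_points ⁅a, b⁆ iK (fun z => by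
          rw [show z = 𝟙 _ from (toUnit_unique z _).trans (toUnit_unique (toUnit _) _), Category.id_comp]
          refine hsub (subset_closure ⟨Groth.Agent.AlgGrpLib.ptOf (lift 1 b), congrArg (fun r : _ ⟶ W => Groth.Agent.AlgGrpLib.ptOf r) (?_ : lift 1 b ≫ ψ = ⁅a, b⁆)⟩)
          rw [hψ, MonObj.one_comp, _root_.one_mul])
        exact ⟨w, hw⟩)
      have h2 : topologicalKrullDim ↥Y < ((d + 1 : ℕ) : WithBot ℕ∞) :=
        Groth.Agent.EulerLib.dim_lt_of_notMem isClosed_closure (Set.subset_univ Y) isClosed_univ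
          (y := genericPoint W.left) (genericPoint_closure _) (fun hg => hne' (Set.eq_univ_of_univ_subset
            ((genericPoint_closure (α := W.left)).ge.trans (closure_minimal (Set.singleton_subset_iff.2 hg) isClosed_closure))))
          (((Homeomorph.Set.univ ↥W.left).isHomeomorph.topologicalKrullDim_eq _).le.trans hdW.le)
      have h3 : topologicalKrullDim ↥Y ≤ (d : WithBot ℕ∞) := by
        revert h2
        generalize topologicalKrullDim ↥Y = x
        intro h2
        cases x with
        | bot => exact bot_le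
        | coe x =>
          have h2' : x < ((d + 1 : ℕ) : ℕ∞) := WithBot.coe_lt_coe.1 h2
          push_cast at h2'
          exact WithBot.coe_le_coe.2 ((ENat.lt_add_one_iff (ENat.coe_ne_top d)).1 h2')
      exact absurd (Groth.Agent.EulerLib.dim_lt_of_notMem iK.left.isClosedEmbedding.isClosed_range hTY isClosed_closure
        hy.def hyT h3) (by rw [hdT]; exact lt_irrefl _)
    refine normalizer_all iK ψ hYuniv (fun x v => ?_) g u
    have hx : x ≫ ψ = (x ≫ fst V W ≫ iK) * ⁅a, x ≫ snd V W⁆ := by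
      conv_lhs => rw [show x = lift (x ≫ fst V W) (x ≫ snd V W) by ext <;> simp]
      rw [hψ, Category.assoc]
    obtain ⟨v', hv'⟩ := fin (m + 1) hm1 ⁅a, x ≫ snd V W⁆ (Subgroup.commutator_mem_commutator ha (Subgroup.mem_top _)) v
    refine ⟨(x ≫ fst V W) * v' * (x ≫ fst V W)⁻¹, ?_⟩
    rw [hx, MonObj.mul_comp, MonObj.mul_comp, GrpObj.inv_comp, ← hv', Category.assoc]
    group
  haveI : IsSepClosed K := inferInstance
  haveI : LocallyOfFiniteType U'.hom := inferInstance
  haveI : QuasiCompact U'.hom := inferInstance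
  haveI : QuasiCompact U.hom := by rw [← Over.w i]; infer_instance
  haveI := hi
  refine Groth.Agent.S8000.result k K U' U i fun g h => ?_
  let e : (Over.map σ).obj (𝟙_ (Over (Spec (CommRingCat.of K)))) ≅ Over.mk (Spec.map (CommRingCat.ofHom (algebraMap k K))) :=
    Over.isoMk (Iso.refl _) (by
      show 𝟙 _ ≫ Spec.map (CommRingCat.ofHom (algebraMap k K)) = 𝟙 _ ≫ σ
      rw [hσ])
  obtain ⟨u', hu'⟩ := hnorm (Groth.Agent.SGA3cLib.BCPoints.pt σ U' _ (e.hom ≫ g)) (Groth.Agent.SGA3cLib.BCPoints.pt σ U _ (e.hom ≫ h))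
  refine ⟨e.inv ≫ (Groth.Agent.SGA3cLib.BCPoints.pt σ U _).symm u', ?_⟩
  rw [← cancel_epi e.hom]
  apply (Groth.Agent.SGA3cLib.BCPoints.pt σ U' _).injective
  simp only [MonObj.comp_mul, GrpObj.comp_inv, ← Category.assoc, e.hom_inv_id, Category.id_comp,
    Groth.Agent.SGA3cLib.BCPoints.pt_mul, Groth.Agent.SGA3cLib.BCPoints.pt_inv, Groth.Agent.SGA3cLib.BCPoints.pt_comp,
    Equiv.apply_symm_apply]
  simpa only [Groth.Agent.SGA3cLib.BCPoints.pt_comp, Category.assoc] using hu'


end Groth.Agent.S17090
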