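import Groth.Statements.S17092
import Groth.Agent.Luna12.RadBorels
-- import your own Groth.Agent.* helpers here

set_option autoImplicit false
set_option backward.isDefEq.respectTransparency false
set_option backward.isDefEq.respectTransparency.types false
open CategoryTheory.Limits
universe u
open CategoryTheory MonoidalCategory CartesianMonoidalCategory MonObj GrpObj AlgebraicGeometry
open AGF

namespace Groth.Agent.S17092

/-- Let k be an algebraically closed field, G an affine, smooth, connected k-group scheme, u : U ⟶ G its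
unipotent radical (the largest normal closed subgroup scheme, smooth and quasi-compact over k, whose
geometric fibre is connected and contains no non-trivial subtorus), T a maximal torus of G and j : H
⟶ G a closed subgroup scheme which is smooth and connected. If H lies in the unipotent radical of
every Borel subgroup of G containing T, then H lies in U: j factors through u. (Together with the
inclusion of U in the unipotent radical of every Borel subgroup of G, this says that the identity
component of the reduced intersection of the unipotent radicals of the Borel subgroups containing T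
is U; it is trivial when G is reductive.) -/
theorem result (k : Type u) [Field k] [IsAlgClosed k]
    (G : Over (Spec (CommRingCat.of k))) [GrpObj G] [IsAffine G.left] [Smooth G.hom] [ConnectedSpace ↥G.left]
    (U : Over (Spec (CommRingCat.of k))) [GrpObj U] (u : U ⟶ G) (hU : Par.IsUnipotentRadical u)
    (T : Over (Spec (CommRingCat.of k))) [GrpObj T] (iT : T ⟶ G) (hT : AGF.IsMaxTorus iT)
    (H : Over (Spec (CommRingCat.of k))) [GrpObj H] (j : H ⟶ G) [IsMonHom j] (hj : IsClosedImmersion j.left)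
    [Smooth H.hom] [ConnectedSpace ↥H.left]
    (hH : ∀ (B : Over (Spec (CommRingCat.of k))) [GrpObj B] (iB : B ⟶ G) (t : T ⟶ B), Red.IsBorelOver k iB → t ≫ iB = iT →
      ∀ (V : Over (Spec (CommRingCat.of k))) [GrpObj V] (v : V ⟶ B), Par.IsUnipotentRadical v → ∃ f : H ⟶ V, f ≫ v ≫ iB = j) :
    ∃ g : H ⟶ U, g ≫ u = j := by
  haveI := hj
  haveI := hT.1
  haveI : QuasiCompact G.hom := (quasiCompact_iff_compactSpace G.hom).2 inferInstance
  have hTt : Red.IsTorus T := hT.2.2.1
  haveI : Smooth T.hom := Groth.Agent.AlgGrpLib.AxesTorus.smooth_of_isTorus hTt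
  haveI : ConnectedSpace T.left := Groth.Agent.TorusConnLib.connectedSpace T hTt
  haveI : IsAffineHom T.hom := Groth.Agent.IsoTriv.SchemeBridge.isAffineHom_of_multTypeFT T
    (Groth.Agent.MultExt26.isMultTypeFT_of_torus T hTt)
  haveI : IsAffine T.left := isAffine_of_isAffineHom T.hom
  haveI : Group.IsSolvable (𝟙_ (Over (Spec (CommRingCat.of k))) ⟶ T) :=
    isSolvable_of_comm fun x y => Groth.Agent.SGA3cLib.torus_mul_comm hTt x y
  obtain ⟨B₀, _, iB₀, hB₀⟩ := Groth.Agent.AGFQuot23.exists_isBorelOver k G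
  haveI := hB₀.1; haveI := hB₀.2.1; haveI := hB₀.2.2.1
  haveI : Mono iB₀ := Over.mono_of_mono_left iB₀
  haveI : QuasiCompact B₀.hom := by rw [← Over.w iB₀]; infer_instance
  obtain ⟨X, a, o, -, hX1, -, hX2, hX3, hX4⟩ := Groth.Agent.AlgGrpLib.HomogQuotProj.exists_quotient_projMono G B₀ iB₀
  obtain ⟨g, t, ht⟩ := Groth.Agent.HMTor29.MaxTorus.exists_factor iT ⟨hX1, hX2, hX3, hX4⟩
    (Groth.Agent.AGFQuot23.isProper_of_isBorelOver hB₀ ⟨hX1, hX2, hX3, hX4⟩)
  have hB := Groth.Agent.AGFQuot23.isBorelOver_comp_cj hB₀ g⁻¹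
  have hlift : ∀ (B : Over (Spec (CommRingCat.of k))) [GrpObj B] (iB : B ⟶ G) (t : T ⟶ B), Red.IsBorelOver k iB →
      t ≫ iB = iT → ∃ (V : Over (Spec (CommRingCat.of k))) (_ : GrpObj V) (v : V ⟶ B) (f : H ⟶ V),
        Par.IsUnipotentRadical v ∧ f ≫ v ≫ iB = j := fun B _ iB t hBo hte => by
    haveI := hBo.2.1; haveI := hBo.2.2.1
    haveI : IsAffine B.left := isAffine_of_isAffineHom iB.left
    obtain ⟨V, gV, v, hv⟩ := Groth.Agent.Luna12.exists_radical_par B
    letI := gV
    obtain ⟨f, hf⟩ := hH B iB t hBo hte V v hv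
    exact ⟨V, gV, v, f, hv, hf⟩
  refine Groth.Agent.Luna12.factors_radical hU hT j ?_ fun B _ iB hBo ⟨t', ht'⟩ x => ?_
  · obtain ⟨V, gV, v, f, hv, hf⟩ := hlift B₀ _ t hB (by
      rw [← Category.assoc, ht, Category.assoc, Groth.Agent.AGFQuot23.cj_comp, mul_inv_cancel,
        Groth.Agent.AGFQuot23.cj_one, Category.comp_id])
    letI := gV
    haveI := hv.1; haveI := hv.2.1; haveI := hB.1; haveI := hB.2.1
    haveI : Mono v := Over.mono_of_mono_left v
    haveI : Mono (iB₀ ≫ Groth.Agent.AGFQuot23.cj g⁻¹) := Over.mono_of_mono_left _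
    haveI : Mono (v ≫ iB₀ ≫ Groth.Agent.AGFQuot23.cj g⁻¹) := mono_comp _ _
    haveI : Mono j := Over.mono_of_mono_left j
    haveI : IsMonHom (f ≫ v ≫ iB₀ ≫ Groth.Agent.AGFQuot23.cj g⁻¹) := by rw [hf]; infer_instance
    haveI := Groth.Agent.AGFQuot23.isMonHom_of_comp_mono' f (v ≫ iB₀ ≫ Groth.Agent.AGFQuot23.cj g⁻¹)
    haveI : Mono (f ≫ v ≫ iB₀ ≫ Groth.Agent.AGFQuot23.cj g⁻¹) := by rw [hf]; infer_instance
    haveI : Mono f := mono_of_mono f (v ≫ iB₀ ≫ Groth.Agent.AGFQuot23.cj g⁻¹)
    intro P _ p _ _ hP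
    exact Groth.Agent.AGFQuot23.hasNoSubtorus_of_geomFibre (IsLocalRing.closedPoint k : Spec (CommRingCat.of k))
      (hv.2.2.2.2.2.1 _).2 P (p ≫ f) hP
  · obtain ⟨V, gV, v, f, hv, hf⟩ := hlift B iB t' hBo ht'
    exact ⟨x ≫ f ≫ v, by simp only [Category.assoc, hf]⟩


end Groth.Agent.S17092
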