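import Groth.Statements.S17093
import Groth.Agent.Luna12.RadBorels
import Groth.Agent.Luna12.Quot
import Groth.Agent.HopfQuot.SchemeQuot
import Groth.Agent.AGFImage11.RadicalDescent
import Groth.Agent.AGFImage11.Isogeny
import Groth.Agent.AlgGrpLib.ExactSeqBasics
import Groth.Agent.FlatMor12.GeomDescent
-- import your own Groth.Agent.* helpers here

set_option autoImplicit false
set_option backward.isDefEq.respectTransparency false
set_option backward.isDefEq.respectTransparency.types false
set_option synthInstance.maxHeartbeats 400000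
set_option maxHeartbeats 1000000
open CategoryTheory.Limits
universe u
open CategoryTheory MonoidalCategory CartesianMonoidalCategory MonObj GrpObj AlgebraicGeometry
open AGF

namespace Groth.Agent.S17093

/-- Let k be an algebraically closed field, G and G' affine, smooth, connected k-group schemes, π : G ⟶
G' a surjective homomorphism, u : U ⟶ G the unipotent radical of G and u' : U' ⟶ G' that of G'
(largest normal closed subgroup schemes, smooth and quasi-compact over k, with connected geometric
fibre containing no non-trivial subtorus). Then π carries U onto U': u ≫ π factors through u' by a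
morphism U ⟶ U' which is surjective. -/
theorem result (k : Type u) [Field k] [IsAlgClosed k]
    (G G' : Over (Spec (CommRingCat.of k))) [GrpObj G] [GrpObj G'] [IsAffine G.left] [Smooth G.hom] [ConnectedSpace ↥G.left]
    [IsAffine G'.left] [Smooth G'.hom] [ConnectedSpace ↥G'.left]
    (π : G ⟶ G') [IsMonHom π] (hπ : Surjective π.left)
    (U : Over (Spec (CommRingCat.of k))) [GrpObj U] (u : U ⟶ G) (hU : Par.IsUnipotentRadical u)
    (U' : Over (Spec (CommRingCat.of k))) [GrpObj U'] (u' : U' ⟶ G') (hU' : Par.IsUnipotentRadical u') :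
    ∃ f : U ⟶ U', f ≫ u' = u ≫ π ∧ Surjective f.left := by
  haveI := hπ
  obtain ⟨hum, hucl, hun, husm, huqc, hufib, humax⟩ := id hU
  obtain ⟨hum', hucl', hun', husm', huqc', hufib', humax'⟩ := id hU'
  haveI := hum; haveI := hucl; haveI := husm
  haveI := hum'; haveI := hucl'; haveI := husm'
  haveI : QuasiCompact G.hom := (quasiCompact_iff_compactSpace G.hom).2 inferInstance
  haveI : QuasiCompact G'.hom := (quasiCompact_iff_compactSpace G'.hom).2 inferInstance
  haveI : Mono u' := Over.mono_of_mono_left u'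
  let s₀ : (Spec (CommRingCat.of k) : Scheme.{u}) := IsLocalRing.closedPoint k
  haveI : IsAffine U.left := isAffine_of_isAffineHom u.left
  haveI : IsAffine U'.left := isAffine_of_isAffineHom u'.left
  haveI := Groth.Agent.Luna12.connectedSpace_of_geom s₀ (hufib s₀).1
  haveI := Groth.Agent.Luna12.connectedSpace_of_geom s₀ (hufib' s₀).1
  have hUt : Red.HasNoSubtorus k U := Groth.Agent.AGFQuot23.hasNoSubtorus_of_geomFibre s₀ (hufib s₀).2
  have hUt' : Red.HasNoSubtorus k U' := Groth.Agent.AGFQuot23.hasNoSubtorus_of_geomFibre s₀ (hufib' s₀).2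
  haveI : QuasiCompact U.hom := huqc
  haveI : QuasiCompact U'.hom := huqc'
  -- the image of the radical
  obtain ⟨M, _, iM, g, hiM, hgm, hclM, hg, hgs, -, hsmM, -, -⟩ := Groth.Agent.AlgGrpLib.ImageSubgroup.exists_image (u ≫ π)
  haveI := hiM; haveI := hgm; haveI := hclM; haveI := hgs; haveI := hsmM
  haveI : Mono iM := Over.mono_of_mono_left iM
  haveI : ConnectedSpace M.left := g.left.surjective.connectedSpace g.left.continuous
  haveI : IsAffine M.left := isAffine_of_isAffineHom iM.left
  have hMn : AlgGrp.IsNormalHom iM := Groth.Agent.AGFImage11.isNormalHom_image π u iM g hg hun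
  have hMt : Red.HasNoSubtorus k M := Groth.Agent.AlgGrpLib.TorusUnip.hasNoSubtorus_of_surjective g hUt
  obtain ⟨fM, hfM⟩ := humax' M iM hclM hMn hsmM ((quasiCompact_iff_compactSpace M.hom).2 inferInstance)
    fun s => Groth.Agent.Luna12.geom_unip hMt s
  refine ⟨g ≫ fM, by rw [Category.assoc, hfM, hg], ?_⟩
  suffices h : ∃ l : U' ⟶ M, l ≫ iM = u' by
    obtain ⟨l, hl⟩ := h
    haveI : IsIso fM := ⟨l, by rw [← cancel_mono iM, Category.assoc, hl, hfM, Category.id_comp],
      by rw [← cancel_mono u', Category.assoc, hfM, hl, Category.id_comp]⟩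
    haveI : IsIso fM.left := inferInstanceAs (IsIso ((Over.forget _).map fM))
    rw [Over.comp_left]; infer_instance
  -- the quotient of the target by the image
  haveI : IsReduced G.left := Groth.Agent.AbSchLib.isReduced_of_smooth G.hom
  haveI : IsReduced G'.left := Groth.Agent.AbSchLib.isReduced_of_smooth G'.hom
  obtain ⟨Q, gQ, qM, hqm, hQa, hQl, hqf, hqs, hqk⟩ := Groth.Agent.HopfQuot.exists_affine_quotient G' M iM hMn
  letI := gQ
  haveI := hqm; haveI := hQa; haveI := hQl; haveI := hqf; haveI := hqs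
  haveI : IsReduced Q.left := Groth.Agent.FlatMor12.isReduced_of_flat_surjective qM.left
  haveI : GeometricallyReduced Q.hom := Groth.Agent.AbVarLib.geometricallyReduced_of_perfectField Q.hom
  haveI : Smooth Q.hom := Groth.Agent.AbVarLib.smooth_of_geometricallyReduced Q
  -- the reductive quotient of the source
  obtain ⟨Q₀, gQ₀, q₀, hq₀m, hQ₀a, hQ₀l, hq₀f, hq₀s, hq₀k⟩ := Groth.Agent.HopfQuot.exists_affine_quotient G U u hun
  letI := gQ₀
  haveI := hq₀m; haveI := hQ₀a; haveI := hQ₀l; haveI := hq₀f; haveI := hq₀s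
  haveI : IsReduced Q₀.left := Groth.Agent.FlatMor12.isReduced_of_flat_surjective q₀.left
  haveI : GeometricallyReduced Q₀.hom := Groth.Agent.AbVarLib.geometricallyReduced_of_perfectField Q₀.hom
  haveI : Smooth Q₀.hom := Groth.Agent.AbVarLib.smooth_of_geometricallyReduced Q₀
  haveI : ConnectedSpace Q₀.left := q₀.left.surjective.connectedSpace q₀.left.continuous
  haveI : QuasiCompact Q₀.hom := (quasiCompact_iff_compactSpace Q₀.hom).2 inferInstance
  haveI : QuasiCompact Q.hom := (quasiCompact_iff_compactSpace Q.hom).2 inferInstance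
  have hred₀ : Red.IsReductiveOver k Q₀ := by
    refine ⟨inferInstance, inferInstance, inferInstance, fun V _ v _ hvcl hvsm hvconn hvn hvt => ?_⟩
    haveI := hvcl
    haveI : IsAffine V.left := isAffine_of_isAffineHom v.left
    exact Groth.Agent.AGFImage11.isTrivial_of_good_quotient Groth.Agent.AGFImage11.extStable_unipP
      (⟨U, inferInstance, u, inferInstance, hucl, husm, inferInstance, hun,
        ⟨inferInstance, husm, inferInstance, hUt⟩⟩ : Groth.Agent.AlgGrpLib.LargestNormal.Good Groth.Agent.AGFImage11.UnipP G)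
      (fun A => by
        letI := A.grp
        haveI := A.isHom; haveI := A.closed
        obtain ⟨hAa, hAs, hAc, hAt⟩ := A.prop
        haveI := hAa; haveI := hAs; haveI := hAc
        exact humax A.obj A.emb A.closed A.normal hAs ((quasiCompact_iff_compactSpace A.obj.hom).2 inferInstance)
          fun s => Groth.Agent.Luna12.geom_unip hAt s)
      q₀ hq₀k ⟨V, inferInstance, v, inferInstance, hvcl, hvsm, hvconn, hvn, ⟨inferInstance, hvsm, hvconn, hvt⟩⟩
  have hgM1 : iM ≫ qM = 1 := Groth.Agent.AlgGrpLib.kernel_comp hqk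
  haveI : QuasiCompact q₀.left := Groth.Agent.AlgGrpLib.quasiCompact_left q₀
  obtain ⟨p, hp⟩ := Groth.Agent.AlgGrpLib.ExactSeqBasics.exists_desc q₀ hq₀k (π ≫ qM) (by
    rw [← Category.assoc, ← hg, Category.assoc, hgM1, MonObj.comp_one])
  haveI : IsMonHom p := Groth.Agent.SGA3cLib.BCPoints.isMonHom_of_mul p fun X x y => by
    have huniv : (fst Q₀ Q₀ * snd Q₀ Q₀) ≫ p = (fst Q₀ Q₀ ≫ p) * (snd Q₀ Q₀ ≫ p) := by
      haveI : IsReduced (Q₀ ⊗ Q₀).left := Groth.Agent.AlgGrpLib.isReduced_tensor Q₀ Q₀
      haveI : LocallyOfFiniteType (Q₀ ⊗ Q₀).hom := by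
        change LocallyOfFiniteType (pullback.fst Q₀.hom Q₀.hom ≫ Q₀.hom)
        infer_instance
      refine Groth.Agent.AGFQuot23.hom_ext_of_points _ _ fun b => ?_
      obtain ⟨b₁, hb₁⟩ := Groth.Agent.AGFQuot23.exists_ratPoint_lift q₀ (b ≫ fst Q₀ Q₀)
      obtain ⟨b₂, hb₂⟩ := Groth.Agent.AGFQuot23.exists_ratPoint_lift q₀ (b ≫ snd Q₀ Q₀)
      rw [← Category.assoc, MonObj.comp_mul, MonObj.comp_mul, ← Category.assoc b, ← Category.assoc b, ← hb₁, ← hb₂,
        ← MonObj.mul_comp, Category.assoc, Category.assoc, Category.assoc, hp, MonObj.mul_comp]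
    have h := congrArg (fun f => lift x y ≫ f) huniv
    simpa only [MonObj.comp_mul, ← Category.assoc, lift_fst, lift_snd] using h
  haveI : Surjective p.left := ⟨fun z => by
    obtain ⟨w, rfl⟩ := qM.left.surjective z
    obtain ⟨x, rfl⟩ := π.left.surjective w
    refine ⟨q₀.left x, ?_⟩
    rw [← Scheme.Hom.comp_apply, ← Scheme.Hom.comp_apply, ← Over.comp_left, ← Over.comp_left, hp]⟩
  have hred : Red.IsReductiveOver k Q := Groth.Agent.Luna12.isReductiveOver_of_surjective hred₀ p
  -- the radical of the target dies in the quotient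
  obtain ⟨M', _, iM', g', hiM', hgm', hclM', hg', hgs', -, hsmM', -, -⟩ :=
    Groth.Agent.AlgGrpLib.ImageSubgroup.exists_image (u' ≫ qM)
  haveI := hiM'; haveI := hgm'; haveI := hclM'; haveI := hgs'; haveI := hsmM'
  haveI : ConnectedSpace M'.left := g'.left.surjective.connectedSpace g'.left.continuous
  haveI : IsAffine M'.left := isAffine_of_isAffineHom iM'.left
  have htriv : Red.IsTrivialGrp M' := hred.2.2.2 M' iM' hclM' hsmM' inferInstance
    (Groth.Agent.AGFImage11.isNormalHom_image qM u' iM' g' hg' hun')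
    (Groth.Agent.AlgGrpLib.TorusUnip.hasNoSubtorus_of_surjective g' hUt')
  refine Groth.Agent.AlgGrpLib.exists_lift_kernel hqk ?_
  haveI : IsIso M'.hom := htriv
  rw [← hg', show g' = 1 from Groth.Agent.AGFImage11.subsingleton_hom_of_isIso _ _, MonObj.one_comp]


end Groth.Agent.S17093
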