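import Groth.Statements.S17099
import Groth.Agent.UnipP26.NotMono

set_option autoImplicit false
set_option backward.isDefEq.respectTransparency.types false
set_option maxHeartbeats 800000
set_option synthInstance.maxHeartbeats 200000
universe u
open CategoryTheory MonoidalCategory CartesianMonoidalCategory MonObj GrpObj AlgebraicGeometry
open AGF

namespace Groth.Agent.S17099

/-- Let p be a prime, k a field of characteristic p, G a reductive k-group scheme (affine, smooth,
connected reductive geometric fibre) and z : Z ⟶ G its scheme-theoretic centre. Then Z contains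
neither α_p nor Z/pZ as a subgroup scheme: no homomorphism of k-group schemes from α_p (the spectrum
of k[X]/(X^p) with X primitive) to Z is a monomorphism, and no homomorphism from the constant
k-group scheme of the cyclic group of order p to Z is a monomorphism. (Stated over every field of
characteristic p; applied over an algebraic closure of k to the base change of G, whose centre is
the base change of Z, this is the published assertion about the geometric centre.) -/
theorem result (p : ℕ) [Fact p.Prime]
    (k : Type u) [Field k] [CharP k p]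
    (G : Over (Spec (CommRingCat.of k))) [GrpObj G] (hG : Red.IsReductive G)
    (Z : Over (Spec (CommRingCat.of k))) [GrpObj Z] (z : Z ⟶ G) (hz : Red.IsCentre z) :
    (∀ (φ : (Spec (CommRingCat.of (AlphaP.A p k))).asOver (Spec (CommRingCat.of k)) ⟶ Z), IsMonHom φ → ¬ Mono φ.left) ∧
      (∀ (ψ : (Spec (CommRingCat.of (ConstGrp.F k (Multiplicative (ZMod p))))).asOver (Spec (CommRingCat.of k)) ⟶ Z),
        IsMonHom ψ → ¬ Mono ψ.left) := by
  refine ⟨fun φ hφ hm => ?_, fun ψ hψ hm => ?_⟩
  · haveI := hφ
    haveI := hm
    haveI : Mono φ := Over.mono_of_mono_left φ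
    have h := Groth.Agent.UnipP26.eq_counit_of_mono hG z hz (Groth.Agent.UnipP26.isUnipotent_alphaP p k) φ
      (AlphaP.x p k)
    rw [AlphaP.counit_x, map_zero] at h
    have h2 := AlphaP.basis_apply p k ⟨1, (Fact.out : p.Prime).one_lt⟩
    rw [pow_one, h] at h2
    exact (AlphaP.basis p k).ne_zero _ h2
  · haveI := hψ
    haveI := hm
    haveI : Mono ψ := Over.mono_of_mono_left ψ
    have h := Groth.Agent.UnipP26.eq_counit_of_mono hG z hz (Groth.Agent.UnipP26.isUnipotent_constZMod p k) ψ
      (ConstGrp.e k (Multiplicative.ofAdd (1 : ZMod p)))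
    have h2 := congrArg (fun f => f (Multiplicative.ofAdd (1 : ZMod p))) h
    simp only [ConstGrp.e_apply_self, ConstGrp.algebraMap_apply] at h2
    have hne : (1 : Multiplicative (ZMod p)) ≠ Multiplicative.ofAdd (1 : ZMod p) := fun he =>
      zero_ne_one (congrArg Multiplicative.toAdd he : (0 : ZMod p) = 1)
    have h3 : CoalgebraStruct.counit (R := k) (ConstGrp.e k (Multiplicative.ofAdd (1 : ZMod p))) =
        ConstGrp.e k (Multiplicative.ofAdd (1 : ZMod p)) 1 :=
      ConstGrp.counitAlg_apply k (Multiplicative (ZMod p)) (ConstGrp.e k (Multiplicative.ofAdd (1 : ZMod p)))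
    rw [h3, ConstGrp.e_apply_of_ne hne] at h2
    exact one_ne_zero h2

end Groth.Agent.S17099
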