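import Groth.Statements.S17100
import Groth.Agent.ConjConst26.TorusInvariants

set_option autoImplicit false
set_option backward.isDefEq.respectTransparency.types false
set_option maxHeartbeats 800000
set_option synthInstance.maxHeartbeats 200000
universe u
open CategoryTheory MonoidalCategory CartesianMonoidalCategory MonObj GrpObj AlgebraicGeometry
open AGF

namespace Groth.Agent.S17100

/-- General assertion made in its proof: let k be an algebraically closed field, G an affine, smooth,
connected k-group scheme, S a subtorus of G with centralizer c : C ⟶ G, and j : H ⟶ G a closed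
subgroup scheme which is smooth and connected and is normalised by S (conjugates of points of H by
points of S are points of H). Then the scheme-theoretic intersection C ∩ H (the fibre product of C
and H over G) is smooth over k and connected. -/
theorem result (k : Type u) [Field k] [IsAlgClosed k]
    (G : Over (Spec (CommRingCat.of k))) [GrpObj G] [IsAffine G.left] [Smooth G.hom] [ConnectedSpace ↥G.left]
    (S : Over (Spec (CommRingCat.of k))) [GrpObj S] (iS : S ⟶ G) [IsMonHom iS] [Mono iS] (hS : Red.IsTorus S)
    (C : Over (Spec (CommRingCat.of k))) [GrpObj C] (c : C ⟶ G) (hc : Red.IsCentralizerOf iS c)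
    (H : Over (Spec (CommRingCat.of k))) [GrpObj H] (j : H ⟶ G) [IsMonHom j] (hj : IsClosedImmersion j.left)
    [Smooth H.hom] [ConnectedSpace ↥H.left]
    (hnorm : ∀ (X : Over (Spec (CommRingCat.of k))) (s : X ⟶ S) (h : X ⟶ H), ∃ h' : X ⟶ H,
      (s ≫ iS) * (h ≫ j) * (s ≫ iS)⁻¹ = h' ≫ j)
    (I : Over (Spec (CommRingCat.of k))) (p : I ⟶ C) (q : I ⟶ H) (hI : IsPullback p q c j) :
    Smooth I.hom ∧ ConnectedSpace ↥I.left := by
  haveI := hj
  haveI : IsAffineHom G.hom := inferInstance
  haveI : IsAffineHom H.hom := by rw [← Over.w j]; infer_instance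
  haveI : Mono j := Over.mono_of_mono_left j
  obtain ⟨hcm, hcmono, hC⟩ := hc
  choose act' hact using fun (X : Over (Spec (CommRingCat.of k))) (p : (X ⟶ S) × (X ⟶ H)) => hnorm X p.1 p.2
  let act : S ⊗ H ⟶ H := act' _ (fst S H, snd S H)
  have hact_pt : ∀ {X : Over (Spec (CommRingCat.of k))} (s : X ⟶ S) (h : X ⟶ H),
      lift s h ≫ act ≫ j = (s ≫ iS) * (h ≫ j) * (s ≫ iS)⁻¹ := by
    intro X s h
    have e : act ≫ j = (fst S H ≫ iS) * (snd S H ≫ j) * (fst S H ≫ iS)⁻¹ := (hact _ (fst S H, snd S H)).symm
    rw [e]
    simp only [MonObj.comp_mul, GrpObj.comp_inv, lift_fst_assoc, lift_snd_assoc]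
  let a : AlgGrp.Action S H :=
    { act := act
      one_act := by
        rw [← cancel_mono j]
        have h1 : (η[S] ▷ H) = lift (1 : 𝟙_ (Over (Spec (CommRingCat.of k))) ⊗ H ⟶ S) (snd _ _) := by
          apply CartesianMonoidalCategory.hom_ext <;> simp [Hom.one_def, toUnit_unique (fst (𝟙_ (Over (Spec (CommRingCat.of k)))) H) (toUnit _)]
        rw [h1, Category.assoc, hact_pt]
        simp [MonObj.one_comp, leftUnitor_hom]
      mul_act := by
        rw [← cancel_mono j]
        have h1 : (μ[S] ▷ H) = lift ((fst (S ⊗ S) H ≫ fst S S) * (fst (S ⊗ S) H ≫ snd S S)) (snd _ _) := by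
          apply CartesianMonoidalCategory.hom_ext <;> simp [Hom.mul_def]
        have h2 : (α_ S S H).hom ≫ (S ◁ act) = lift (fst (S ⊗ S) H ≫ fst S S)
            (lift (fst (S ⊗ S) H ≫ snd S S) (snd _ _) ≫ act) := by
          apply CartesianMonoidalCategory.hom_ext
          · simp
          · simp only [Category.assoc, whiskerLeft_snd, lift_snd]
            rw [← Category.assoc]
            congr 1
            apply CartesianMonoidalCategory.hom_ext <;> simp
        rw [h1, ← Category.assoc (α_ S S H).hom, h2, Category.assoc, hact_pt, Category.assoc, hact_pt]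
        simp only [Category.assoc, hact_pt]
        simp only [MonObj.mul_comp, Category.assoc]
        group }
  have hmul : Groth.Agent.AlgGrpLib.MultTypeAct.IsGrpAction a := by
    intro X g h h'
    rw [← cancel_mono j]
    simp only [MonObj.mul_comp, Category.assoc, a, hact_pt]
    group
  obtain ⟨F, f, hf, hsm, key, hconn⟩ := Groth.Agent.ConjConst26.TorusInvariants.exists_invariants hS a hmul
  haveI := hf
  haveI : Mono f := Over.mono_of_mono_left f
  haveI : Mono q := by
    haveI := hcmono
    exact hI.flip.mono_fst_of_mono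
  have hfix : ∀ (X : Over (Spec (CommRingCat.of k))) (h : X ⟶ H),
      (∃ x : X ⟶ F, x ≫ f = h) ↔ ∃ z : X ⟶ C, z ≫ c = h ≫ j := by
    intro X h
    rw [key, hC]
    constructor
    · intro hh X' x s
      have := congrArg (· ≫ j) (hh X' x s)
      simp only [Category.assoc, a, hact_pt] at this
      rw [mul_inv_eq_iff_eq_mul] at this
      exact this.symm
    · intro hh X' x s
      rw [← cancel_mono j]
      simp only [Category.assoc, a, hact_pt]
      rw [mul_inv_eq_iff_eq_mul]
      exact (hh X' x s).symm
  obtain ⟨u, hu⟩ := (hfix I q).2 ⟨p, hI.w⟩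
  obtain ⟨z, hz⟩ := (hfix F f).1 ⟨𝟙 F, by simp⟩
  let v : F ⟶ I := hI.lift z f hz
  have hv : v ≫ q = f := hI.lift_snd _ _ _
  let e : I ≅ F := ⟨u, v, by rw [← cancel_mono q, Category.assoc, hv, hu, Category.id_comp],
    by rw [← cancel_mono f, Category.assoc, hu, hv, Category.id_comp]⟩
  haveI := hsm
  haveI : IsIso e.hom.left := inferInstanceAs (IsIso ((Over.forget _).mapIso e).hom)
  haveI : IsIso e.inv.left := inferInstanceAs (IsIso ((Over.forget _).mapIso e).inv)
  refine ⟨by rw [← Over.w e.hom]; infer_instance, ?_⟩
  have hHc : ∀ s : ↥(Spec (CommRingCat.of k)), _root_.IsConnected (H.hom.base ⁻¹' {s}) := fun s => by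
    rw [show (H.hom.base ⁻¹' {s}) = Set.univ from Set.eq_univ_of_forall fun x => Subsingleton.elim (α := PrimeSpectrum k) _ _]
    exact isConnected_univ
  have hF := (hconn inferInstance hHc).2 (IsLocalRing.closedPoint k)
  haveI : ConnectedSpace ↥F.left := connectedSpace_iff_univ.2 (by
    convert hF using 1
    exact (Set.eq_univ_of_forall fun x => Subsingleton.elim (α := PrimeSpectrum k) _ _).symm)
  exact e.inv.left.homeomorph.surjective.connectedSpace e.inv.left.continuous

end Groth.Agent.S17100
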