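import Groth.Statements.S17101
import Groth.Agent.Misc15.LogNCDBasic
import Groth.Agent.OmegaLib.LocFree
import Groth.Agent.OmegaLib.Der
import Groth.Agent.Kummer10.Chart
import Groth.Agent.FinCovLib29.Basis
import Groth.Agent.GrassLib.PBundle.ExtBasis
import Groth.Agent.Coherent.QcohOps
import Mathlib.RingTheory.Etale.Kaehler
import Mathlib.RingTheory.Kaehler.Polynomial
-- import your own Groth.Agent.* helpers here

set_option autoImplicit false
set_option linter.style.haveILetI false
set_option backward.isDefEq.respectTransparency false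
set_option backward.isDefEq.respectTransparency.types false
set_option maxHeartbeats 1600000
universe u
open CategoryTheory AlgebraicGeometry
open LogNCD

namespace Groth.Agent.S17101

open CategoryTheory.Limits Opposite TopologicalSpace
open Groth.Agent Groth.Agent.PicLib Groth.Agent.Coherent Groth.Agent.Misc15.LogNCDBasic
open scoped TensorProduct

variable {X S : Scheme.{u}} {f : X ⟶ S} {Ω' : X.Modules} {d : OmegaSh.Der f Ω'}

/-- Etale coordinates give a basis of the differentials on affine opens. -/
theorem exists_dual_basis (hd : OmegaSh.IsUniversal d) {W : X.Opens} {m : ℕ} (v : ULift.{u} (Fin m) → Γ(W, ⊤))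
    (het : Etale (AffineSpace.homOfVector (W.ι ≫ f) v)) {W0 : S.Opens} (hW0 : IsAffineOpen W0)
    {V : X.Opens} (hV : IsAffineOpen V) (hVW : V ≤ W) (hV0 : V ≤ f ⁻¹ᵁ W0) :
    ∃ b : Module.Basis (ULift.{u} (Fin m)) Γ(X, V) Γ(Ω', V), ∀ s, b s = d.app V (LogNCD.sectOn W hVW (v s)) := by
  haveI : IsAffine V.toScheme := hV
  haveI : IsAffine W0.toScheme := hW0
  haveI := het
  let p := f.resLE W0 V hV0
  let w : ULift.{u} (Fin m) → Γ(V, ⊤) := fun s => (X.homOfLE hVW).appTop (v s)
  let h := AffineSpace.homOfVector p w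
  haveI : Etale (h ≫ AffineSpace.map _ W0.ι) := by
    have e : h ≫ AffineSpace.map _ W0.ι = X.homOfLE hVW ≫ AffineSpace.homOfVector (W.ι ≫ f) v := by
      apply AffineSpace.hom_ext
      · simp [h, p]
      · intro i; simp [h, w]
    rw [e]; infer_instance
  haveI : IsOpenImmersion (AffineSpace.map (ULift.{u} (Fin m)) W0.ι) :=
    MorphismProperty.of_isPullback (P := @IsOpenImmersion) (AffineSpace.isPullback_map W0.ι).flip inferInstance
  haveI : Etale h := Etale.of_comp h (AffineSpace.map _ W0.ι)
  let B := Γ(X, V)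
  let A := Γ(S, W0)
  let φ : A →+* B := (f.appLE W0 V hV0).hom
  let c : ULift.{u} (Fin m) → B := fun s => LogNCD.sectOn W hVW (v s)
  have h1 := Kummer10.eval₂Hom_etale_of_affine p w
  let eB := V.topIso.commRingCatIsoToRingEquiv
  let eA := W0.topIso.commRingCatIsoToRingEquiv
  have heq : MvPolynomial.eval₂Hom φ c = eB.toRingHom.comp ((MvPolynomial.eval₂Hom p.appTop.hom w).comp
      (MvPolynomial.mapEquiv (ULift.{u} (Fin m)) eA.symm).toRingHom) := by
    refine MvPolynomial.ringHom_ext (fun r => ?_) fun s => ?_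
    · rw [MvPolynomial.eval₂Hom_C]
      show φ r = eB (MvPolynomial.eval₂Hom p.appTop.hom w (MvPolynomial.map eA.symm.toRingHom (MvPolynomial.C r)))
      rw [MvPolynomial.map_C, MvPolynomial.eval₂Hom_C]
      show (f.appLE W0 V hV0) r = V.topIso.hom (p.appTop (W0.topIso.inv r))
      rw [← CommRingCat.comp_apply, ← CommRingCat.comp_apply]
      simp only [p, Scheme.Hom.resLE_app_top, Scheme.Opens.topIso, Functor.mapIso_hom, Functor.mapIso_inv,
        eqToIso.hom, eqToIso.inv, Category.assoc, Iso.op_hom, Iso.op_inv, Iso.symm_hom,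
        Scheme.Hom.appLE_map, Scheme.Hom.map_appLE]
    · rw [MvPolynomial.eval₂Hom_X']
      show c s = eB (MvPolynomial.eval₂Hom p.appTop.hom w (MvPolynomial.map eA.symm.toRingHom (MvPolynomial.X s)))
      rw [MvPolynomial.map_X, MvPolynomial.eval₂Hom_X']
      show LogNCD.sectOn W hVW (v s) = V.topIso.hom ((X.homOfLE hVW).appTop (v s))
      simp [LogNCD.sectOn, ← CommRingCat.comp_apply, ← Functor.map_comp,
        Scheme.Opens.topIso]
  have h2 : (MvPolynomial.eval₂Hom φ c).Etale := by
    rw [heq]; exact RingHom.Etale.respectsIso.1 _ eB (RingHom.Etale.respectsIso.2 _ _ h1)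
  obtain ⟨ψ, hψ⟩ := OmegaLib.exists_sections_equiv hd hV0 hW0 hV
  letI : Algebra A B := φ.toAlgebra
  letI : Algebra (MvPolynomial (ULift.{u} (Fin m)) A) B := (MvPolynomial.eval₂Hom φ c).toAlgebra
  haveI : IsScalarTower A (MvPolynomial (ULift.{u} (Fin m)) A) B := IsScalarTower.of_algebraMap_eq fun r =>
    (MvPolynomial.eval₂Hom_C φ c r).symm
  haveI : Algebra.Etale (MvPolynomial (ULift.{u} (Fin m)) A) B := RingHom.etale_algebraMap.1 h2
  let b0 := ((KaehlerDifferential.mvPolynomialBasis A (ULift.{u} (Fin m))).baseChange B).map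
    (KaehlerDifferential.tensorKaehlerEquivOfFormallyEtale A (MvPolynomial (ULift.{u} (Fin m)) A) B)
  refine ⟨b0.map ψ, fun s => ?_⟩
  have hb0 : b0 s = KaehlerDifferential.D A B (c s) := by
    simp only [b0, Module.Basis.map_apply, Module.Basis.baseChange_apply]
    rw [← LinearEquiv.eq_symm_apply]
    have e : KaehlerDifferential.mvPolynomialBasis A (ULift.{u} (Fin m)) s =
        KaehlerDifferential.D A _ (MvPolynomial.X s) := by
      apply (KaehlerDifferential.mvPolynomialBasis A (ULift.{u} (Fin m))).repr.injective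
      rw [Module.Basis.repr_self, KaehlerDifferential.mvPolynomialBasis_repr_D_X]
    rw [e, ← KaehlerDifferential.tensorKaehlerEquivOfFormallyEtale_symm_D_algebraMap]
    congr 2
    exact MvPolynomial.eval₂Hom_X' φ c s
  rw [Module.Basis.map_apply, hb0]
  exact hψ _

/-- Restriction of a section of a chart. -/
theorem res_sectOn (W : X.Opens) {U V : X.Opens} (h : U ≤ W) (h' : V ≤ U) (s : Γ(W, ⊤)) :
    X.presheaf.map (homOfLE h').op (LogNCD.sectOn W h s) = LogNCD.sectOn W (h'.trans h) s := by
  simp only [LogNCD.sectOn]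
  rw [← CommRingCat.comp_apply, ← Functor.map_comp]
  rfl


/-- Let f : X → S be smooth of relative dimension n, (Ω', d) a universal receptacle for the
differentials of X over S, D = (D_1, …, D_r) a relative strict normal crossing divisor (each point
of the divisor has an étale chart to affine n-space over S in which the components through it are
coordinate hyperplanes) and Ω¹(log D) the sheaf of differentials with logarithmic poles along D,
pinned with its inclusion of Ω' and its residue maps by the affine-local description. Then Ω¹(log D)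
is a finite locally free O_X-module of rank n; locally a basis is dv_1/v_1, …, dv_s/v_s, dv_{s+1},
…, dv_n for the chart coordinates v_i. (Stated relative to an arbitrary base scheme with étale
coordinates in place of local parameters; the published statement is for a manifold over an
algebraically closed field and also lists the induced bases of the higher exterior powers.) -/
theorem result {X S : Scheme.{u}} (f : X ⟶ S) (n : ℕ)
    [SmoothOfRelativeDimension n f] {Ω' : X.Modules} (d : OmegaSh.Der f Ω') (hd : OmegaSh.IsUniversal d)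
    {r : ℕ} (D : Fin r → X.IdealSheafData) (hD : LogNCD.IsNCD D f) (Λ : LogNCD.LogMod d D) :
    FlatMod.IsFinLocFreeOfRank n Λ.L := by
  classical
  haveI : Smooth f := SmoothOfRelativeDimension.smooth n f
  haveI := Λ.mono
  have hΩ : FlatMod.IsFinLocFreeOfRank n Ω' := fun x => by
    obtain ⟨U, m, hxU, he, hm⟩ := OmegaLib.exists_free_rank_fibreDimAt hd x
    rw [Unram17Lib.fibreDimAt_of_smoothOfRelativeDimension f n] at hm
    obtain rfl : n = m := by exact_mod_cast hm
    exact ⟨U, hxU, he⟩
  intro x
  suffices h : ∃ (U : X.Opens) (e : ULift.{u} (Fin n) → Γ(Λ.L, U)), x ∈ U ∧ IsBasisOn Λ.L U e by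
    obtain ⟨U, e, hx, he⟩ := h
    exact ⟨U, hx, FinCovLib29.nonempty_iso_of_isBasisOn he⟩
  obtain ⟨U₁, e₁, hxU₁, he₁⟩ := FinCovLib29.exists_isBasisOn_of_rank hΩ x
  by_cases hne : Nonempty (LogNCD.Through D x)
  swap
  · -- no component passes
    let C : X.Opens := ⟨(⋃ i, ((D i).support : Set X))ᶜ,
      (isClosed_iUnion_of_finite fun i => (D i).support.isClosed').isOpen_compl⟩
    have hxC : x ∈ C := by
      intro h
      obtain ⟨i, hi⟩ := Set.mem_iUnion.1 h
      exact hne ⟨⟨i, hi⟩⟩
    refine ⟨U₁ ⊓ C, fun s => resM Λ.L inf_le_left (Λ.ι.app U₁ (e₁ s)), ⟨hxU₁, hxC⟩, ?_⟩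
    refine GrassLib.PBundle.isBasisOn_of_affine _ fun V hV hVa => ?_
    obtain ⟨-, dl, hdl, hspan, -, -⟩ := Λ.rule ⟨V, hVa⟩ (fun _ => 1) fun i => by
      rw [Ideal.span_singleton_one]
      exact BlowUpCoh.ideal_eq_top_of_disjoint (I := D i) ⟨V, hVa⟩
        (fun y hy hs => (hV hy).2 (Set.mem_iUnion.2 ⟨i, hs⟩))
    have hbij : Function.Bijective (Λ.ι.app V) := by
      refine ⟨app_injective_of_mono Λ.ι V, fun z => ?_⟩
      obtain ⟨ω, a, rfl⟩ := exists_decomp Λ hspan z
      refine ⟨ω, ?_⟩
      have h0 : ∀ i, dl i = 0 := fun i => by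
        have h := hdl i
        rw [one_smul, OmegaLib.app_one] at h
        exact h.trans (map_zero _)
      simp [h0]
    convert hbij.comp (he₁ (hV.trans inf_le_left)) using 1
    funext c
    simp only [Function.comp_apply, map_sum, resM_resM]
    exact Finset.sum_congr rfl fun s _ => by rw [Scheme.Modules.Hom.app_smul, app_resM]
  -- adapted coordinates
  obtain ⟨W, hxW, m, v, e, he, het, hD1, hD2⟩ := hD x hne
  obtain ⟨_, ⟨W0, hW0, rfl⟩, hxW0, -⟩ :=
    S.isBasis_affineOpens.exists_subset_of_mem_open (Set.mem_univ (f x)) isOpen_univ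
  obtain ⟨U, hU, hxU, hUle⟩ := exists_isAffineOpen_mem_and_subset (x := x) (U := U₁ ⊓ (W ⊓ f ⁻¹ᵁ W0))
    ⟨hxU₁, hxW, hxW0⟩
  have hUW : U ≤ W := fun z hz => (hUle hz).2.1
  have hU0 : U ≤ f ⁻¹ᵁ W0 := fun z hz => (hUle hz).2.2
  obtain ⟨bU, hbU⟩ := exists_dual_basis hd v het hW0 hU hUW hU0
  haveI : Nontrivial Γ(X, U) := by
    haveI : Nonempty U := ⟨⟨x, hxU⟩⟩
    infer_instance
  have hmn : m = n := by
    let c : Module.Basis (ULift.{u} (Fin n)) Γ(X, U) Γ(Ω', U) :=
      Module.Basis.ofEquivFun (LinearEquiv.ofBijective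
        { toFun := fun a : ULift.{u} (Fin n) → Γ(X, U) => ∑ s, a s • resM Ω' (fun z hz => (hUle hz).1) (e₁ s)
          map_add' := fun a b => by simp [add_smul, Finset.sum_add_distrib]
          map_smul' := fun r a => by simp [mul_smul, Finset.smul_sum] }
        (he₁ (fun z hz => (hUle hz).1))).symm
    simpa using Fintype.card_congr (bU.indexEquiv c)
  subst hmn
  let g : Fin r → Γ(X, U) := fun i =>
    if h : x ∈ (D i).support then LogNCD.sectOn W hUW (v (ULift.up (e ⟨i, h⟩))) else 1
  have hg : ∀ (V : X.affineOpens) (hV : V.1 ≤ U) (i : Fin r),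
      (D i).ideal V = Ideal.span {X.presheaf.map (homOfLE hV).op (g i)} := fun V hV i => by
    by_cases h : x ∈ (D i).support
    · simp only [g, dif_pos h, res_sectOn]
      exact hD1 ⟨i, h⟩ V (hV.trans hUW)
    · simp only [g, dif_neg h, map_one, Ideal.span_singleton_one]
      exact hD2 i h V (hV.trans hUW)
  obtain ⟨-, dl, hdl, -, hres1, hres2⟩ := Λ.rule ⟨U, hU⟩ g fun i => by
    simpa using hg ⟨U, hU⟩ le_rfl i
  let gen : ULift.{u} (Fin m) → Γ(Λ.L, U) := fun s =>
    if h : ∃ i, e i = s.down then dl h.choose.1 else Λ.ι.app U (d.app U (LogNCD.sectOn W hUW (v s)))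
  have hgen1 : ∀ i, gen (ULift.up (e i)) = dl i.1 := fun i => by
    have h : ∃ j, e j = (ULift.up.{u} (e i)).down := ⟨i, rfl⟩
    simp only [gen, dif_pos h]
    rw [he h.choose_spec]
  refine ⟨U, gen, hxU, GrassLib.PBundle.isBasisOn_of_affine _ fun V hVU hV => ?_⟩
  obtain ⟨b, hb⟩ := exists_dual_basis hd v het hW0 hV (hVU.trans hUW) (hVU.trans hU0)
  obtain ⟨htor, dlV, hdlV, hspan, h1, h2⟩ := Λ.rule ⟨V, hV⟩ (fun i => X.presheaf.map (homOfLE hVU).op (g i))
    (hg ⟨V, hV⟩ hVU)
  let gV : Fin r → Γ(X, V) := fun i => X.presheaf.map (homOfLE hVU).op (g i)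
  have hdlres : ∀ i, resM Λ.L hVU (dl i) = dlV i := fun i => by
    refine sub_eq_zero.1 (htor _ ?_)
    have hh : gV i • resM Λ.L hVU (dl i) = gV i • dlV i := by
      refine (resM_smul Λ.L hVU (g i) (dl i)).symm.trans ?_
      refine (congrArg (resM Λ.L hVU) (hdl i)).trans ?_
      refine (app_resM Λ.ι hVU (d.app U (g i))).symm.trans ?_
      refine Eq.trans ?_ (hdlV i).symm
      exact congrArg (Λ.ι.app V) (OmegaLib.app_map d hVU (g i)).symm
    show (∏ j, gV j) • _ = 0
    rw [← Finset.prod_erase_mul Finset.univ gV (Finset.mem_univ i), mul_smul, smul_sub, hh, sub_self, smul_zero]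
  let G : ULift.{u} (Fin m) → Γ(Λ.L, V) := fun s => resM Λ.L hVU (gen s)
  let t : ULift.{u} (Fin m) → Γ(X, V) := fun s =>
    if ∃ i, e i = s.down then LogNCD.sectOn W (hVU.trans hUW) (v s) else 1
  have hG : ∀ s, Λ.ι.app V (b s) = t s • G s := fun s => by
    rw [hb]
    by_cases h : ∃ i, e i = s.down
    · obtain ⟨i, hi⟩ := h
      obtain rfl : s = ULift.up (e i) := ULift.ext _ _ hi.symm
      have hgi : gV i.1 = LogNCD.sectOn W (hVU.trans hUW) (v (ULift.up (e i))) := by
        simp only [gV, g, dif_pos i.2, res_sectOn]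
        rfl
      simp only [t, G, if_pos (⟨i, rfl⟩ : ∃ j, e j = (ULift.up.{u} (e i)).down), hgen1, hdlres, ← hgi]
      exact (hdlV i.1).symm
    · simp only [t, G, gen, if_neg h, dif_neg h, one_smul]
      rw [← app_resM]
      refine congrArg (Λ.ι.app V) ?_
      rw [← res_sectOn W hUW hVU]
      exact OmegaLib.app_map d hVU _
  constructor
  · refine fun c c' hcc => sub_eq_zero.1 ?_
    have h0 : ∑ s, (c - c') s • G s = 0 := by
      simp only [Pi.sub_apply, sub_smul, Finset.sum_sub_distrib]
      exact sub_eq_zero.2 hcc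
    generalize c - c' = a at h0 ⊢
    have hdiv : ∀ s, ∃ q, a s = q * t s := fun s => by
      by_cases h : ∃ i, e i = s.down
      · obtain ⟨i, hi⟩ := h
        obtain rfl : s = ULift.up (e i) := ULift.ext _ _ hi.symm
        have hsum := congrArg ((Λ.res i.1).app V) h0
        rw [map_zero, map_sum, Finset.sum_eq_single (ULift.up (e i))] at hsum
        · rw [Scheme.Modules.Hom.app_smul] at hsum
          simp only [G, hgen1, hdlres] at hsum
          replace hsum := (smul_oneOn (D i.1) V (a (ULift.up (e i)))).symm.trans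
            ((congrArg (a (ULift.up (e i)) • ·) (h1 i.1)).symm.trans hsum)
          have hmem : a (ULift.up (e i)) ∈ (D i.1).ideal ⟨V, hV⟩ := by
            rw [← (D i.1).ker_subschemeι_app ⟨V, hV⟩]; exact hsum
          rw [hg ⟨V, hV⟩ hVU i.1] at hmem
          obtain ⟨q, hq⟩ := Ideal.mem_span_singleton'.1 hmem
          refine ⟨q, hq.symm.trans ?_⟩
          simp only [t, if_pos (⟨i, rfl⟩ : ∃ j, e j = (ULift.up.{u} (e i)).down), g, dif_pos i.2, res_sectOn]
          rfl
        · intro s' _ hs'
          rw [Scheme.Modules.Hom.app_smul]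
          by_cases h' : ∃ j, e j = s'.down
          · obtain ⟨j, hj⟩ := h'
            obtain rfl : s' = ULift.up (e j) := ULift.ext _ _ hj.symm
            simp only [G, hgen1, hdlres]
            exact (congrArg (_ • ·) (h2 j.1 i.1 fun e' =>
              hs' (congrArg (fun k => ULift.up (e k)) (Subtype.ext e' : j = i)))).trans (smul_zero _)
          · simp only [G, gen, dif_neg h']
            rw [← app_resM]
            show _ • (Λ.ι ≫ Λ.res i.1).app V _ = 0
            rw [Λ.res_ι i.1]
            exact smul_zero _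
        · exact fun h => absurd (Finset.mem_univ _) h
      · exact ⟨a s, by simp [t, if_neg h]⟩
    choose q hq using hdiv
    have hz : ∑ s, q s • b s = 0 := by
      refine app_injective_of_mono Λ.ι V ?_
      rw [map_zero, map_sum, ← h0]
      exact Finset.sum_congr rfl fun s _ => by rw [Scheme.Modules.Hom.app_smul, hG, smul_smul, ← hq]
    have hq0 := Fintype.linearIndependent_iff.1 b.linearIndependent q hz
    funext s
    rw [hq, hq0, zero_mul]
    rfl
  · intro z
    suffices hz : z ∈ Submodule.span Γ(X, V) (Set.range G) by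
      exact (Submodule.mem_span_range_iff_exists_fun _).1 hz
    obtain ⟨ω, a, rfl⟩ := exists_decomp Λ hspan z
    refine add_mem ?_ (Submodule.sum_mem _ fun i _ => Submodule.smul_mem _ _ ?_)
    · rw [← b.sum_repr ω, map_sum]
      refine Submodule.sum_mem _ fun s _ => ?_
      rw [Scheme.Modules.Hom.app_smul, hG, smul_smul]
      exact Submodule.smul_mem _ _ (Submodule.subset_span ⟨s, rfl⟩)
    · by_cases h : x ∈ (D i).support
      · refine Submodule.subset_span ⟨ULift.up (e ⟨i, h⟩), ?_⟩
        simp only [G, hgen1, hdlres]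
      · have h0 := hdlV i
        simp only [g, dif_neg h, map_one, one_smul, OmegaLib.app_one] at h0
        rw [h0]
        convert Submodule.zero_mem _
        exact map_zero _

end Groth.Agent.S17101
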