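import Groth.Statements.S17102
import Groth.Agent.Misc15.LogNCDBasic
-- import your own Groth.Agent.* helpers here

set_option autoImplicit false
set_option backward.isDefEq.respectTransparency false
set_option backward.isDefEq.respectTransparency.types false
set_option linter.style.haveILetI false
universe u
open CategoryTheory CategoryTheory.Limits AlgebraicGeometry
open LogNCD

namespace Groth.Agent.S17102

open Opposite
open Groth.Agent Groth.Agent.DCat Groth.Agent.Coherent Groth.Agent.Misc15.LogNCDBasic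

/-- Let f : X → S be smooth, (Ω', d) a universal receptacle for the differentials of X over S, D = (D_1,
…, D_r) a relative strict normal crossing divisor and Ω¹(log D) the pinned sheaf of differentials
with logarithmic poles, with its inclusion ι of Ω' and residues res_j : Ω¹(log D) → O_{D_j}. Then
the residue sequence 0 → Ω' → Ω¹(log D) → ⊕_{j} O_{D_j} → 0, whose second map is the map into the
product (a finite direct sum) with components res_j, is a short exact sequence of O_X-modules. The
argument h, the vanishing of the composite, holds since every res_j ∘ ι vanishes; it is an argument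
only so that the short complex can be formed. (Stated relative to an arbitrary base; the published
statement is over an algebraically closed field.) -/
theorem result {X S : Scheme.{u}} (f : X ⟶ S) [Smooth f]
    {Ω' : X.Modules} (d : OmegaSh.Der f Ω') (hd : OmegaSh.IsUniversal d)
    {r : ℕ} (D : Fin r → X.IdealSheafData) (hD : LogNCD.IsNCD D f) (Λ : LogNCD.LogMod d D)
    (h : Λ.ι ≫ Pi.lift Λ.res = 0) :
    (ShortComplex.mk Λ.ι (Pi.lift Λ.res) h).ShortExact := by
  classical
  have hπ : ∀ j, Pi.lift Λ.res ≫ Pi.π (fun k => ClSub.quotMod (D k)) j = Λ.res j := fun j => Pi.lift_π _ _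
  haveI := Λ.mono
  refine { exact := OmegaLib.exact_of_stalks _ fun x => ?_, mono_f := Λ.mono,
           epi_g := OmegaLib.epi_of_stalks_surjective _ fun x v => ?_ }
  · rw [ShortComplex.moduleCat_exact_iff]
    intro v hv
    obtain ⟨V, hxV, s, rfl⟩ := KTor28.exists_gm Λ.L v
    have hz : ∀ j, ∃ (W : X.Opens) (hW : W ≤ V), x ∈ W ∧ (Λ.res j).app W (resM Λ.L hW s) = 0 := fun j => by
      have h0 : KTor28.gm _ hxV ((Λ.res j).app V s) = KTor28.gm (ClSub.quotMod (D j)) hxV 0 := by
        rw [← KTor28.gm_map, ← hπ j, Functor.map_comp]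
        show (DerSch.stalkFunctor X x).map (Pi.π _ j) _ = _
        refine (congrArg _ (show (DerSch.stalkFunctor X x).map (Pi.lift Λ.res) (KTor28.gm Λ.L hxV s) = 0 from hv)).trans ?_
        rw [map_zero, KTor28.gm_zero]
      obtain ⟨W, hW, hxW, he⟩ := KTor28.gm_eq _ hxV h0
      exact ⟨W, hW, hxW, (app_resM (Λ.res j) hW s).trans (he.trans (map_zero _))⟩
    choose W hW hxW hW0 using hz
    let V' : X.Opens := ⟨(V : Set X) ∩ ⋂ j, (W j : Set X), V.2.inter (isOpen_iInter_of_finite fun j => (W j).2)⟩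
    obtain ⟨U, hxU, hUV, g, hg⟩ := exists_principal_nhd hD x V' ⟨hxV, Set.mem_iInter.2 hxW⟩
    have hUV1 : U.1 ≤ V := fun y hy => (hUV hy).1
    obtain ⟨-, dl, hdl, hspan, h1, h2⟩ := Λ.rule U g hg
    obtain ⟨ω, a, ha⟩ := exists_decomp Λ hspan (resM Λ.L hUV1 s)
    have hres : ∀ j, (Λ.res j).app U.1 (resM Λ.L hUV1 s) = 0 := fun j => by
      have hUW : U.1 ≤ W j := fun y hy => Set.mem_iInter.1 (hUV hy).2 j
      rw [show resM Λ.L hUV1 s = resM Λ.L hUW (resM Λ.L (hW j) s) from (resM_resM Λ.L _ _ s).symm, app_resM,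
        hW0 j, map_zero]
    have hc : ∀ j, ∃ c : Γ(X, U.1), c * g j = a j := fun j => by
      have h3 := hres j
      rw [ha, res_sum Λ U.1 dl h1 h2 a ω j] at h3
      have h4 : a j ∈ (D j).ideal U := by rw [← (D j).ker_subschemeι_app U]; exact h3
      rw [hg j] at h4
      exact Ideal.mem_span_singleton'.1 h4
    choose c hc using hc
    refine ⟨KTor28.gm Ω' hxU (ω + ∑ j, c j • d.app U.1 (g j)), ?_⟩
    show (DerSch.stalkFunctor X x).map Λ.ι _ = _
    rw [KTor28.gm_map, ← KTor28.gm_res Λ.L hUV1 hxU s, ha, map_add, map_sum]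
    congr 2
    refine Finset.sum_congr rfl fun j _ => ?_
    rw [Scheme.Modules.Hom.app_smul, ← hc j, mul_smul]
    exact congrArg (c j • ·) (hdl j).symm
  · obtain ⟨V, hxV, z, rfl⟩ := KTor28.exists_gm (∏ᶜ fun k => ClSub.quotMod (D k)) v
    obtain ⟨U, hxU, hUV, g, hg⟩ := exists_principal_nhd hD x V hxV
    obtain ⟨-, dl, hdl, hspan, h1, h2⟩ := Λ.rule U g hg
    have ha : ∀ j, ∃ a : Γ(X, U.1), (D j).subschemeι.app U.1 a =
        (Pi.π (fun k => ClSub.quotMod (D k)) j).app U.1 (resM _ hUV z) := fun j =>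
      (D j).subschemeι_app_surjective U _
    choose a ha using ha
    let t : Γ(Λ.L, U.1) := ∑ j, a j • dl j
    refine ⟨KTor28.gm Λ.L hxU (Λ.ι.app U.1 0 + t), stalk_pi_ext _ x fun j => ?_⟩
    rw [KTor28.gm_map, KTor28.gm_map, ← KTor28.gm_res _ hUV hxU z, KTor28.gm_map]
    refine congrArg (KTor28.gm (ClSub.quotMod (D j)) hxU) (Eq.trans ?_ (ha j))
    show (Pi.lift Λ.res ≫ Pi.π (fun k => ClSub.quotMod (D k)) j).app U.1 _ = _
    rw [hπ j, res_sum Λ U.1 dl h1 h2 a 0 j]

end Groth.Agent.S17102
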