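import Groth.Statements.S1712
import Groth.Agent.DualLib.LocalDepth
import Groth.Agent.DualLib.Depth

set_option autoImplicit false
universe u
open CategoryTheory
attribute [local instance] HasDerivedCategory.standard
open Dual

namespace Groth.Agent.S1712

/-- Let A be a Noetherian local ring with a normalized dualizing complex ω, M a finite A-module and E^j
the A-module of maps M → ω[-j] in D(A). A prime p is in the support of one of E^0, …, E^i if and
only if the depth of M_p over A_p plus the dimension of A/p is at most i. -/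
theorem result (A : Type u) [CommRing A] [IsLocalRing A] [IsNoetherianRing A] (ω : Dual.D A) (hω : Dual.IsDualizing A ω) (hn : Dual.IsNormalized A ω) (M : Type u) [AddCommGroup M] [Module A M] [Module.Finite A M] (i : ℕ) (p : PrimeSpectrum A) : (∃ j : ℕ, j ≤ i ∧ p ∈ Module.support A (Dual.inD A M ⟶ ω⟦(-(j : ℤ))⟧)) ↔ ((LocCoh.depth (Localization.AtPrime p.asIdeal) (LocalizedModule p.asIdeal.primeCompl M) : ℕ∞) : WithBot ℕ∞) + ringKrullDim (A ⧸ p.asIdeal) ≤ (i : WithBot ℕ∞) := by
  obtain ⟨e, he⟩ := Groth.Agent.DualLib.exists_coheight_eq p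
  have hdeg : Groth.Agent.DualLib.deg hω p = -(e : ℤ) :=
    ((Groth.Agent.DualLib.deg_spec hω p _).1 (Groth.Agent.DualLib.mem_support_quotient hω hn e p he)).symm
  rw [Groth.Agent.DualLib.ringKrullDim_quotient_eq_coheight, he]
  by_cases hp : p ∈ Module.support A M
  · haveI : Nontrivial (LocalizedModule p.asIdeal.primeCompl M) := hp
    haveI : IsNoetherianRing (Localization.AtPrime p.asIdeal) :=
      IsLocalization.isNoetherianRing p.asIdeal.primeCompl (Localization.AtPrime p.asIdeal) inferInstance
    obtain ⟨n, hn'⟩ := Groth.Agent.CAlgH3.exists_depth_eq_natCast (R := Localization.AtPrime p.asIdeal)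
      (M := LocalizedModule p.asIdeal.primeCompl M)
    obtain ⟨h1, h2⟩ := Groth.Agent.DualLib.localDepth_spec hω p n M hp hn'
    rw [hn']
    constructor
    · rintro ⟨j, hji, hj⟩
      by_contra hlt
      have hlt' : i < n + e := by
        by_contra hge
        exact hlt (by exact_mod_cast Nat.le_of_not_lt hge)
      exact h1 _ (by omega) hj
    · intro hle
      have hle' : n + e ≤ i := by exact_mod_cast hle
      refine ⟨n + e, hle', ?_⟩
      rw [hdeg] at h2
      rwa [show -((n + e : ℕ) : ℤ) = -(e : ℤ) - n by push_cast; omega]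
  · haveI : Subsingleton (LocalizedModule p.asIdeal.primeCompl M) := Module.notMem_support_iff.1 hp
    haveI : IsNoetherianRing (Localization.AtPrime p.asIdeal) :=
      IsLocalization.isNoetherianRing p.asIdeal.primeCompl (Localization.AtPrime p.asIdeal) inferInstance
    rw [Groth.Agent.CAlgH3.depth_eq_top_of_subsingleton]
    constructor
    · rintro ⟨j, -, hj⟩
      exact absurd hj (Groth.Agent.DualLib.notMem_support_range hω p _ M
        fun r hr hrp => absurd (Module.mem_support_mono hrp hr) hp)
    · intro hle
      have : (⊤ : WithBot ℕ∞) + (e : WithBot ℕ∞) ≤ (i : WithBot ℕ∞) := hle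
      exact absurd (WithBot.coe_le_coe.1 (show (((⊤ : ℕ∞) + (e : ℕ∞) : ℕ∞) : WithBot ℕ∞) ≤ ((i : ℕ∞) : WithBot ℕ∞) by
        rw [WithBot.coe_add]; exact this)) (by simp)

end Groth.Agent.S1712
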