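import Groth.Statements.S17120
import Groth.Agent.S8914
import Groth.Agent.FlatCrit.Tor
import Groth.Agent.FlatCrit.Inj
import Groth.Agent.FlatMorThick.FiniteOrder
import Groth.Agent.FSchLib.IdealSheaf
import Groth.Agent.BlowUpCoh.Regular
import Groth.Agent.Kummer10.Chart
import Mathlib.RingTheory.TensorProduct.Quotient
import Mathlib.Data.ZMod.QuotientRing

set_option autoImplicit false
set_option maxHeartbeats 2000000
set_option linter.style.haveILetI false
set_option backward.isDefEq.respectTransparency false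
set_option backward.isDefEq.respectTransparency.types false
universe u
open Lift

namespace Groth.Agent.S17120

open CategoryTheory CategoryTheory.Limits AlgebraicGeometry Opposite TopologicalSpace
open Groth.Agent
open scoped TensorProduct

/-- The annihilator of `p` in a flat module is the image of `p`. -/
theorem exists_eq_smul_of_flat {A M : Type u} [CommRing A] [AddCommGroup M] [Module A M] [Module.Flat A M] (p : A)
    (hp : p * p = 0) (hA : ∀ a : A, p * a = 0 → ∃ b, a = p * b) (m : M) (hm : p • m = 0) : ∃ m', m = p • m' := by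
  let q : A →ₗ[A] A := LinearMap.mul A A p
  have hex : Function.Exact q q := fun a => ⟨fun h => by obtain ⟨b, hb⟩ := hA a h; exact ⟨b, hb.symm⟩,
    fun ⟨b, hb⟩ => by rw [← hb]; show p * (p * b) = 0; rw [← mul_assoc, hp, zero_mul]⟩
  have h := Module.Flat.lTensor_exact M hex
  have key : ∀ x : M ⊗[A] A, TensorProduct.rid A M (q.lTensor M x) = p • TensorProduct.rid A M x := by
    intro x
    induction x with
    | zero => simp
    | add x y hx hy => simp [hx, hy, smul_add]
    | tmul m a => simp [q, mul_smul]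
  obtain ⟨y, hy⟩ := (h ((TensorProduct.rid A M).symm m)).1 ((TensorProduct.rid A M).injective (by
    rw [key, LinearEquiv.apply_symm_apply, map_zero, hm]))
  exact ⟨TensorProduct.rid A M y, by rw [← key, hy, LinearEquiv.apply_symm_apply]⟩

theorem zmod_ann (p : ℕ) [Fact p.Prime] (R : Type u) [CommRing R] (φ : ULift.{u} (ZMod (p ^ 2)) →+* R) (hφ : φ.Flat) :
    (p : R) * p = 0 ∧ ∀ a : R, (p : R) * a = 0 → ∃ b, a = p * b := by
  have hp2 : (p : ULift.{u} (ZMod (p ^ 2))) * p = 0 := by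
    rw [← Nat.cast_mul, ← sq]
    exact ULift.ext _ _ (ZMod.natCast_self (p ^ 2))
  refine ⟨by rw [← map_natCast φ, ← map_mul, hp2, map_zero], fun a ha => ?_⟩
  algebraize [φ]
  have hA : ∀ x : ULift.{u} (ZMod (p ^ 2)), (p : ULift.{u} (ZMod (p ^ 2))) * x = 0 → ∃ y : ULift.{u} (ZMod (p ^ 2)), x = (p : ULift.{u} (ZMod (p ^ 2))) * y := by
    rintro ⟨x⟩ hx
    haveI : NeZero (p ^ 2) := ⟨pow_ne_zero _ (Fact.out : p.Prime).ne_zero⟩
    have h0 : (p : ZMod (p ^ 2)) * x = 0 := congrArg ULift.down hx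
    have h1 : ((p * x.val : ℕ) : ZMod (p ^ 2)) = 0 := by rw [Nat.cast_mul, ZMod.natCast_zmod_val]; exact h0
    have h2 : p * p ∣ p * x.val := by rw [← sq]; exact (ZMod.natCast_eq_zero_iff _ _).1 h1
    obtain ⟨c, hc⟩ := (Nat.mul_dvd_mul_iff_left (Fact.out : p.Prime).pos).1 h2
    exact ⟨⟨(c : ZMod (p ^ 2))⟩, ULift.ext _ _ (by
      show x = (p : ZMod (p ^ 2)) * c
      rw [← Nat.cast_mul, ← hc, ZMod.natCast_zmod_val])⟩
  have hs : ∀ r : R, (p : ULift.{u} (ZMod (p ^ 2))) • r = (p : R) * r := fun r => by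
    rw [Algebra.smul_def, map_natCast]
  obtain ⟨b, hb⟩ := exists_eq_smul_of_flat (A := ULift.{u} (ZMod (p ^ 2))) (p : ULift.{u} (ZMod (p ^ 2))) hp2 hA a
    (by rw [hs, ha])
  exact ⟨b, by rw [← hs]; exact hb⟩

theorem flat_of_eq {R S T : Type u} [CommRing R] [CommRing S] [CommRing T] (f : R →+* S) (hf : f.Flat)
    (e : S ≃+* T) (g : R →+* T) (h : ∀ a, e (f a) = g a) : g.Flat := by
  rw [show g = e.toRingHom.comp f from RingHom.ext fun a => (h a).symm]
  exact hf.comp (.of_bijective e.bijective)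

/-- A coordinate of an étale chart is regular and cuts out a flat subscheme. -/
theorem coord_reg {A B : Type u} [CommRing A] [CommRing B] {σ : Type u} (φ : A →+* B) (c : σ → B) (s : σ)
    (h : (MvPolynomial.eval₂Hom φ c).Etale) :
    (∀ b, c s * b = 0 → b = 0) ∧ ((Ideal.Quotient.mk (Ideal.span {c s})).comp φ).Flat := by
  classical
  let P := MvPolynomial σ A
  let e : P →+* B := MvPolynomial.eval₂Hom φ c
  algebraize [e]
  haveI : Algebra.Etale P B := h
  haveI : Module.Flat P B := inferInstance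
  have hs : algebraMap P B (MvPolynomial.X s) = c s := MvPolynomial.eval₂Hom_X' φ c s
  refine ⟨fun b hb => ?_, ?_⟩
  · have hX : IsSMulRegular P (MvPolynomial.X s : P) := fun a b hab => MvPolynomial.X_mul_cancel_left_iff.1 hab
    have hXB : IsSMulRegular B (MvPolynomial.X s : P) := IsSMulRegular.of_flat hX
    refine hXB ?_
    show (MvPolynomial.X s : P) • b = (MvPolynomial.X s : P) • (0 : B)
    rw [smul_zero, Algebra.smul_def, hs, hb]
  · let J : Ideal P := Ideal.span {MvPolynomial.X s}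
    let ρ : P →ₐ[A] P := MvPolynomial.aeval fun t => if t = s then 0 else MvPolynomial.X t
    let mk : P →ₐ[A] P ⧸ J := Ideal.Quotient.mkₐ A J
    have hJ : ∀ a ∈ J, ρ a = 0 := fun a ha => by
      obtain ⟨b, rfl⟩ := Ideal.mem_span_singleton'.1 ha
      rw [map_mul, show ρ (MvPolynomial.X s) = 0 from (MvPolynomial.aeval_X _ s).trans (if_pos rfl), mul_zero]
    let σ' : (P ⧸ J) →ₐ[A] P := Ideal.Quotient.liftₐ J ρ hJ
    have hret : mk.comp ρ = mk := MvPolynomial.algHom_ext fun t => by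
      by_cases ht : t = s
      · subst ht
        simp only [ρ, AlgHom.comp_apply, MvPolynomial.aeval_X, if_true, map_zero]
        exact (Ideal.Quotient.eq_zero_iff_mem.2 (Ideal.mem_span_singleton_self _)).symm
      · show mk (ρ (MvPolynomial.X t)) = mk (MvPolynomial.X t)
        rw [show ρ (MvPolynomial.X t) = MvPolynomial.X t from (MvPolynomial.aeval_X _ t).trans (if_neg ht)]
    haveI : Module.Flat A (P ⧸ J) := Module.Flat.of_retract σ'.toLinearMap mk.toLinearMap (LinearMap.ext fun q => by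
      obtain ⟨q, rfl⟩ := Ideal.Quotient.mk_surjective q
      exact AlgHom.congr_fun hret q)
    have h1 : (algebraMap A (P ⧸ J)).Flat := RingHom.flat_algebraMap_iff.2 inferInstance
    have h2 : (algebraMap (P ⧸ J) ((P ⧸ J) ⊗[P] B)).Flat := RingHom.flat_algebraMap_iff.2 inferInstance
    have hmap : J.map (algebraMap P B) = Ideal.span {c s} := by rw [Ideal.map_span, Set.image_singleton, hs]
    let eC : (P ⧸ J) ⊗[P] B ≃+* B ⧸ Ideal.span {c s} :=
      (Algebra.TensorProduct.quotIdealMapEquivQuotTensor B J).symm.toRingEquiv.trans (Ideal.quotEquivOfEq hmap)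
    refine flat_of_eq _ (h1.comp h2) eC _ fun a => ?_
    show eC ((Ideal.Quotient.mk J (MvPolynomial.C a)) ⊗ₜ[P] (1 : B)) = Ideal.Quotient.mk _ (φ a)
    have : (Ideal.Quotient.mk J (MvPolynomial.C a)) ⊗ₜ[P] (1 : B) = (1 : P ⧸ J) ⊗ₜ[P] φ a := by
      rw [show φ a = (MvPolynomial.C a : P) • (1 : B) by
        rw [Algebra.smul_def, mul_one]; exact (MvPolynomial.eval₂Hom_C φ c a).symm,
        ← TensorProduct.smul_tmul]
      congr 1
      exact (mul_one _).symm
    rw [this, ← Algebra.TensorProduct.quotIdealMapEquivQuotTensor_mk]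
    simp only [eC, RingEquiv.trans_apply, AlgEquiv.coe_ringEquiv, AlgEquiv.symm_apply_apply]
    rfl

/-- The ring statement. -/
theorem ring_key {A B : Type u} [CommRing A] [CommRing B] (φ : A →+* B) (hφ : φ.Flat) (p : A) (hp : p * p = 0)
    (hA : ∀ a : A, p * a = 0 → ∃ b, a = p * b) (I : Ideal B) (f : B)
    (hIf : I ⊔ Ideal.span {φ p} = Ideal.span {f} ⊔ Ideal.span {φ p})
    (hreg : ∀ b, f * b ∈ Ideal.span {φ p} → b ∈ Ideal.span {φ p}) :
    (((Ideal.Quotient.mk I).comp φ).Flat → ∃ g, g ∈ nonZeroDivisors B ∧ I = Ideal.span {g}) ∧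
    (∀ {A₀ : Type u} [CommRing A₀] (q : A →+* A₀), Function.Surjective q → RingHom.ker q = Ideal.span {p} →
      ∀ (ψ : A₀ →+* B ⧸ (I ⊔ Ideal.span {φ p})), ψ.comp q = (Ideal.Quotient.mk _).comp φ → ψ.Flat →
      (∃ g, g ∈ nonZeroDivisors B ∧ I = Ideal.span {g}) → ((Ideal.Quotient.mk I).comp φ).Flat) := by
  algebraize [φ]
  have hann : ∀ b : B, φ p * b = 0 → ∃ c, b = φ p * c := fun b hb => by
    obtain ⟨c, hc⟩ := exists_eq_smul_of_flat p hp hA b (by rw [Algebra.smul_def]; exact hb)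
    exact ⟨c, by rw [hc, Algebra.smul_def]; rfl⟩
  have hpp : φ p * φ p = 0 := by rw [← map_mul, hp, map_zero]
  constructor
  · intro hfl
    haveI : Module.Flat A (B ⧸ I) := RingHom.flat_algebraMap_iff.1 hfl
    have hfm : f ∈ I ⊔ Ideal.span {φ p} := hIf ▸ Ideal.mem_sup_left (Ideal.mem_span_singleton_self f)
    obtain ⟨g, hgI, t, ht, hgt⟩ := Submodule.mem_sup.1 hfm
    obtain ⟨t, rfl⟩ := Ideal.mem_span_singleton'.1 ht
    have hz : ∀ b : B, g * b = 0 → b = 0 := by
      intro b hb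
      have h1 : f * b ∈ Ideal.span {φ p} := Ideal.mem_span_singleton'.2 ⟨t * b, by rw [← hgt, add_mul, hb]; ring⟩
      obtain ⟨c, rfl⟩ := Ideal.mem_span_singleton'.1 (hreg b h1)
      obtain ⟨e, he⟩ := hann (g * c) (by linear_combination hb)
      have h2 : f * c ∈ Ideal.span {φ p} := Ideal.mem_span_singleton'.2 ⟨e + t * c, by rw [← hgt]; linear_combination -he⟩
      obtain ⟨d, rfl⟩ := Ideal.mem_span_singleton'.1 (hreg c h2)
      linear_combination d * hpp
    have step : ∀ x ∈ I, ∃ c d, x = g * c + φ p * d := by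
      intro x hx
      have h1 : x ∈ Ideal.span {f} ⊔ Ideal.span {φ p} := hIf ▸ Ideal.mem_sup_left hx
      obtain ⟨u', hu', v', hv', rfl⟩ := Submodule.mem_sup.1 h1
      obtain ⟨c, rfl⟩ := Ideal.mem_span_singleton'.1 hu'
      obtain ⟨d, rfl⟩ := Ideal.mem_span_singleton'.1 hv'
      exact ⟨c, c * t + d, by rw [← hgt]; ring⟩
    refine ⟨g, mem_nonZeroDivisors_iff.2 ⟨hz, fun b hb => hz b (by rw [mul_comm]; exact hb)⟩,
      le_antisymm (fun x hx => ?_) ((Ideal.span_singleton_le_iff_mem _).2 hgI)⟩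
    obtain ⟨c, d, rfl⟩ := step x hx
    have hd : p • (Ideal.Quotient.mk I d) = 0 := by
      show Ideal.Quotient.mk I (p • d) = 0
      rw [Ideal.Quotient.eq_zero_iff_mem, Algebra.smul_def]
      have := I.sub_mem hx (I.mul_mem_right c hgI)
      rwa [add_sub_cancel_left] at this
    obtain ⟨m, hm⟩ := exists_eq_smul_of_flat p hp hA _ hd
    obtain ⟨m, rfl⟩ := Ideal.Quotient.mk_surjective m
    have h2 : d - φ p * m ∈ I := by
      rw [← Ideal.Quotient.eq, hm]
      show Ideal.Quotient.mk I (p • m) = _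
      rw [Algebra.smul_def]; rfl
    obtain ⟨c', d', hd'⟩ := step _ h2
    exact Ideal.mem_span_singleton'.2 ⟨c + φ p * c', by linear_combination (-(φ p)) * hd' + (- m - d') * hpp⟩
  · intro A₀ _ q hq hkq ψ hψ hψf ⟨g, hg, hIg⟩
    subst hIg
    obtain ⟨w, hw⟩ : ∃ w, f - w * g ∈ Ideal.span {φ p} := by
      have h1 : f ∈ Ideal.span {g} ⊔ Ideal.span {φ p} := hIf ▸ Ideal.mem_sup_left (Ideal.mem_span_singleton_self f)
      obtain ⟨u', hu', v', hv', h⟩ := Submodule.mem_sup.1 h1
      obtain ⟨w, rfl⟩ := Ideal.mem_span_singleton'.1 hu'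
      exact ⟨w, by rw [← h, add_sub_cancel_left]; exact hv'⟩
    obtain ⟨r, hr⟩ : ∃ r, g - r * f ∈ Ideal.span {φ p} := by
      have h1 : g ∈ Ideal.span {f} ⊔ Ideal.span {φ p} := hIf ▸ Ideal.mem_sup_left (Ideal.mem_span_singleton_self g)
      obtain ⟨u', hu', v', hv', h⟩ := Submodule.mem_sup.1 h1
      obtain ⟨w, rfl⟩ := Ideal.mem_span_singleton'.1 hu'
      exact ⟨w, by rw [← h, add_sub_cancel_left]; exact hv'⟩
    have hwr : 1 - w * r ∈ Ideal.span {φ p} := hreg _ (by
      have := add_mem hw (Ideal.mul_mem_left _ w hr)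
      convert this using 1; ring)
    have hregg : ∀ b, g * b ∈ Ideal.span {φ p} → b ∈ Ideal.span {φ p} := fun b hb => by
      have h1 : r * b ∈ Ideal.span {φ p} := hreg _ (by
        have := sub_mem hb (Ideal.mul_mem_right b _ hr)
        convert this using 1; ring)
      have := add_mem (Ideal.mul_mem_left _ w h1) (Ideal.mul_mem_right b _ hwr)
      convert this using 1; ring
    let M := B ⧸ Ideal.span {g}
    show (algebraMap A M).Flat
    rw [RingHom.flat_algebraMap_iff]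
    refine FlatCrit.flat_of_isNilpotent (I := Ideal.span {p}) ?_ (FlatCrit.quotFlat_of_flat _ ?_)
      ⟨2, by rw [Ideal.span_singleton_pow, sq, hp]; exact Ideal.span_singleton_eq_bot.2 rfl⟩
    · let J : Ideal A := Ideal.span {p}
      let p' : J := ⟨p, Ideal.mem_span_singleton_self p⟩
      have hrep : ∀ z : J ⊗[A] M, ∃ m : M, z = p' ⊗ₜ[A] m := by
        intro z
        induction z with
        | zero => exact ⟨0, by simp⟩
        | add x y hx hy =>
          obtain ⟨m, rfl⟩ := hx; obtain ⟨m', rfl⟩ := hy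
          exact ⟨m + m', (TensorProduct.tmul_add _ _ _).symm⟩
        | tmul a m =>
          obtain ⟨b, hb⟩ := Ideal.mem_span_singleton'.1 a.2
          have ha : a = b • p' := Subtype.ext hb.symm
          exact ⟨b • m, by rw [ha, TensorProduct.smul_tmul]⟩
      rw [injective_iff_map_eq_zero]
      intro z hz
      obtain ⟨m, rfl⟩ := hrep z
      have hm : p • m = 0 := by
        have := congrArg (TensorProduct.lid A M) hz
        simpa [p'] using this
      obtain ⟨b, rfl⟩ := Ideal.Quotient.mk_surjective m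
      have hb : φ p * b ∈ Ideal.span {g} := by
        rw [← Ideal.Quotient.eq_zero_iff_mem, ← hm]
        show _ = Ideal.Quotient.mk _ (p • b)
        rw [Algebra.smul_def]; rfl
      obtain ⟨c, hc⟩ := Ideal.mem_span_singleton'.1 hb
      obtain ⟨d, hd⟩ := Ideal.mem_span_singleton'.1 (hregg c (Ideal.mem_span_singleton'.2 ⟨b, by rw [mul_comm g, hc, mul_comm]⟩))
      subst hd
      obtain ⟨e, he⟩ := hann (b - d * g) (by linear_combination -hc)
      have hm' : Ideal.Quotient.mk (Ideal.span {g}) b = p • Ideal.Quotient.mk (Ideal.span {g}) e := by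
        show _ = Ideal.Quotient.mk _ (p • e)
        rw [Ideal.Quotient.eq, Algebra.smul_def]
        exact Ideal.mem_span_singleton'.2 ⟨d, by linear_combination -he⟩
      rw [hm', ← TensorProduct.smul_tmul, show p • p' = 0 from Subtype.ext hp, TensorProduct.zero_tmul]
    · rw [← RingHom.flat_algebraMap_iff]
      let J : Ideal A := Ideal.span {p}
      have hJ : (J.map (algebraMap A M)) = (Ideal.span {φ p}).map (Ideal.Quotient.mk (Ideal.span {g})) := by
        rw [Ideal.map_span, Ideal.map_span, Set.image_singleton, Set.image_singleton]; rfl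
      let eM : (A ⧸ J) ⊗[A] M ≃+* B ⧸ (Ideal.span {g} ⊔ Ideal.span {φ p}) :=
        (Algebra.TensorProduct.quotIdealMapEquivQuotTensor M J).symm.toRingEquiv.trans
          ((Ideal.quotEquivOfEq hJ).trans (DoubleQuot.quotQuotEquivQuotSup _ _))
      let eA : A ⧸ J ≃+* A₀ := (Ideal.quotEquivOfEq hkq.symm).trans (RingHom.quotientKerEquivOfSurjective hq)
      refine flat_of_eq (ψ.comp eA.toRingHom) ((RingHom.Flat.of_bijective eA.bijective).comp hψf) eM.symm _ fun x => ?_
      obtain ⟨a, rfl⟩ := Ideal.Quotient.mk_surjective x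
      apply eM.injective
      refine (eM.apply_symm_apply _).trans ?_
      refine (RingHom.congr_fun hψ a).trans ?_
      have key : (Ideal.Quotient.mk J a) ⊗ₜ[A] (1 : M) = (1 : A ⧸ J) ⊗ₜ[A] algebraMap A M a := by
        rw [show algebraMap A M a = a • (1 : M) by rw [Algebra.smul_def, mul_one], ← TensorProduct.smul_tmul]
        congr 1
        exact (mul_one _).symm
      show _ = eM ((Ideal.Quotient.mk J a) ⊗ₜ[A] (1 : M))
      rw [key, ← Algebra.TensorProduct.quotIdealMapEquivQuotTensor_mk]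
      simp only [eM, RingEquiv.trans_apply, AlgEquiv.coe_ringEquiv, AlgEquiv.symm_apply_apply]
      rfl

variable {X S : Scheme.{u}}

/-- Locally a component of a normal crossing divisor is cut out by a regular equation with flat zero locus. -/
theorem exists_eq {f : X ⟶ S} {r : ℕ} {D : Fin r → X.IdealSheafData} (hD : LogNCD.IsNCD D f) (m : Fin r) (x : X) :
    ∃ O : X.Opens, x ∈ O ∧ ∀ (U : X.affineOpens) (V : S.affineOpens), U.1 ≤ O → ∀ e : U.1 ≤ f ⁻¹ᵁ V.1,
      ∃ g : Γ(X, U.1), (D m).ideal U = Ideal.span {g} ∧ (∀ b, g * b = 0 → b = 0) ∧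
        ((Ideal.Quotient.mk (Ideal.span {g})).comp (f.appLE V.1 U.1 e).hom).Flat := by
  classical
  by_cases hx : x ∈ (D m).support
  swap
  · refine ⟨⟨((D m).support : Set X)ᶜ, (D m).support.isClosed'.isOpen_compl⟩, hx, fun U V hU e => ⟨1, ?_, fun b hb => by simpa using hb, ?_⟩⟩
    · rw [Ideal.span_singleton_one]
      exact BlowUpCoh.ideal_eq_top_of_disjoint (I := D m) U fun y hy hs => hU hy hs
    · haveI : Subsingleton (Γ(X, U.1) ⧸ Ideal.span {(1 : Γ(X, U.1))}) :=
        Ideal.Quotient.subsingleton_iff.2 Ideal.span_singleton_one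
      algebraize [(Ideal.Quotient.mk (Ideal.span {(1 : Γ(X, U.1))})).comp (f.appLE V.1 U.1 e).hom]
      exact RingHom.flat_algebraMap_iff.2 inferInstance
  · obtain ⟨W, hxW, n, v, ee, -, het, hv, -⟩ := hD x ⟨⟨m, hx⟩⟩
    refine ⟨W, hxW, fun U V hUW e => ?_⟩
    obtain ⟨U, hU⟩ := U
    obtain ⟨W0, hW0⟩ := V
    refine ⟨LogNCD.sectOn W hUW (v (ULift.up (ee ⟨m, hx⟩))), hv ⟨m, hx⟩ ⟨U, hU⟩ hUW, ?_⟩
    haveI : IsAffine U.toScheme := hU
    haveI : IsAffine W0.toScheme := hW0
    haveI := het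
    let p := f.resLE W0 U e
    let w : ULift.{u} (Fin n) → Γ(U, ⊤) := fun s => (X.homOfLE hUW).appTop (v s)
    let h := AffineSpace.homOfVector p w
    haveI : Etale (h ≫ AffineSpace.map _ W0.ι) := by
      have e' : h ≫ AffineSpace.map _ W0.ι = X.homOfLE hUW ≫ AffineSpace.homOfVector (W.ι ≫ f) v := by
        apply AffineSpace.hom_ext
        · simp [h, p]
        · intro i; simp [h, w]
      rw [e']; infer_instance
    haveI : IsOpenImmersion (AffineSpace.map (ULift.{u} (Fin n)) W0.ι) :=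
      MorphismProperty.of_isPullback (P := @IsOpenImmersion) (AffineSpace.isPullback_map W0.ι).flip inferInstance
    haveI : Etale h := Etale.of_comp h (AffineSpace.map _ W0.ι)
    let φ : Γ(S, W0) →+* Γ(X, U) := (f.appLE W0 U e).hom
    let c : ULift.{u} (Fin n) → Γ(X, U) := fun s => LogNCD.sectOn W hUW (v s)
    have h1 := Kummer10.eval₂Hom_etale_of_affine p w
    let eB := U.topIso.commRingCatIsoToRingEquiv
    let eA := W0.topIso.commRingCatIsoToRingEquiv
    have heq : MvPolynomial.eval₂Hom φ c = eB.toRingHom.comp ((MvPolynomial.eval₂Hom p.appTop.hom w).comp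
        (MvPolynomial.mapEquiv (ULift.{u} (Fin n)) eA.symm).toRingHom) := by
      refine MvPolynomial.ringHom_ext (fun r => ?_) fun s => ?_
      · rw [MvPolynomial.eval₂Hom_C]
        show φ r = eB (MvPolynomial.eval₂Hom p.appTop.hom w (MvPolynomial.map eA.symm.toRingHom (MvPolynomial.C r)))
        rw [MvPolynomial.map_C, MvPolynomial.eval₂Hom_C]
        show (f.appLE W0 U e) r = U.topIso.hom (p.appTop (W0.topIso.inv r))
        rw [← CommRingCat.comp_apply, ← CommRingCat.comp_apply]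
        simp only [p, Scheme.Hom.resLE_app_top, Scheme.Opens.topIso, Functor.mapIso_hom, Functor.mapIso_inv,
          eqToIso.hom, eqToIso.inv, Category.assoc, Iso.op_hom, Iso.op_inv, Iso.symm_hom,
          Scheme.Hom.appLE_map, Scheme.Hom.map_appLE]
      · rw [MvPolynomial.eval₂Hom_X']
        show c s = eB (MvPolynomial.eval₂Hom p.appTop.hom w (MvPolynomial.map eA.symm.toRingHom (MvPolynomial.X s)))
        rw [MvPolynomial.map_X, MvPolynomial.eval₂Hom_X']
        show LogNCD.sectOn W hUW (v s) = U.topIso.hom ((X.homOfLE hUW).appTop (v s))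
        simp [LogNCD.sectOn, ← CommRingCat.comp_apply, ← Functor.map_comp, Scheme.Opens.topIso]
    have h2 : (MvPolynomial.eval₂Hom φ c).Etale := by
      rw [heq]
      exact RingHom.Etale.respectsIso.1 _ eB (RingHom.Etale.respectsIso.2 _ _ h1)
    exact coord_reg φ c (ULift.up (ee ⟨m, hx⟩)) h2

/-- Reduction modulo `p`. -/
noncomputable def redMap (p : ℕ) : CommRingCat.of (ULift.{u} (ZMod (p ^ 2))) ⟶ CommRingCat.of (ULift.{u} (ZMod p)) :=
  CommRingCat.ofHom ((ZMod.castHom (dvd_pow_self p two_ne_zero) (ULift.{u} (ZMod p))).comp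
    (ULift.ringEquiv : ULift.{u} (ZMod (p ^ 2)) ≃+* ZMod (p ^ 2)).toRingHom)

theorem redMap_natCast (p : ℕ) (n : ℕ) : ((redMap.{u} p).hom n) = (n : ULift.{u} (ZMod p)) := map_natCast _ n

theorem exists_natCast (p : ℕ) (n : ℕ) [NeZero n] (x : ULift.{u} (ZMod n)) : ∃ a : ℕ, x = (a : ULift.{u} (ZMod n)) :=
  ⟨x.down.val, ULift.ext _ _ (ZMod.natCast_zmod_val x.down).symm⟩

theorem redMap_surjective (p : ℕ) [Fact p.Prime] : Function.Surjective (redMap.{u} p).hom := fun y => by
  haveI : NeZero p := ⟨(Fact.out : p.Prime).ne_zero⟩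
  obtain ⟨a, rfl⟩ := exists_natCast p p y
  exact ⟨a, redMap_natCast p a⟩

theorem redMap_ker (p : ℕ) [Fact p.Prime] :
    RingHom.ker (redMap.{u} p).hom = Ideal.span {(p : ULift.{u} (ZMod (p ^ 2)))} := by
  haveI : NeZero (p ^ 2) := ⟨pow_ne_zero _ (Fact.out : p.Prime).ne_zero⟩
  refine le_antisymm (fun x hx => ?_) ((Ideal.span_singleton_le_iff_mem _).2 ?_)
  · obtain ⟨a, rfl⟩ := exists_natCast p (p ^ 2) x
    have h : ((a : ULift.{u} (ZMod p))) = 0 := (redMap_natCast p a).symm.trans hx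
    have h' : (a : ZMod p) = 0 := congrArg ULift.down h
    rw [ZMod.natCast_eq_zero_iff] at h'
    obtain ⟨c, rfl⟩ := h'
    exact Ideal.mem_span_singleton'.2 ⟨c, by rw [Nat.cast_mul, mul_comm]⟩
  · rw [RingHom.mem_ker]
    exact (redMap_natCast p p).trans (ULift.ext _ _ (ZMod.natCast_self p))

theorem ker_app_eq (p : ℕ) [Fact p.Prime] {Z Z0 : Scheme.{u}} (i : Z0 ⟶ Z) (q0 : Z0 ⟶ Spec (CommRingCat.of (ULift.{u} (ZMod p))))
    (q : Z ⟶ Spec (CommRingCat.of (ULift.{u} (ZMod (p ^ 2))))) [IsClosedImmersion i]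
    (hpb : IsPullback i q0 q (Spec.map (redMap.{u} p))) (U : Z.affineOpens) :
    RingHom.ker (i.app U.1).hom = Ideal.span {(p : Γ(Z, U.1))} := by
  haveI : IsClosedImmersion (Spec.map (redMap.{u} p)) := IsClosedImmersion.spec_of_surjective _ (redMap_surjective p)
  rw [← Scheme.Hom.ker_apply, FlatMorThick.ker_eq_comap_of_isPullback hpb,
    FSchLib.ideal_comap_eq_map q _ U ⟨⊤, isAffineOpen_top _⟩ le_top, Scheme.Hom.ker_apply]
  have h0 : RingHom.ker ((Spec.map (redMap.{u} p)).app ⊤).hom =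
      Ideal.span {(p : Γ(Spec (CommRingCat.of (ULift.{u} (ZMod (p ^ 2)))), ⊤))} := by
    let eT := (Scheme.ΓSpecIso (CommRingCat.of (ULift.{u} (ZMod (p ^ 2))))).commRingCatIsoToRingEquiv
    let eS := (Scheme.ΓSpecIso (CommRingCat.of (ULift.{u} (ZMod p)))).commRingCatIsoToRingEquiv
    ext x
    have h : eS ((Spec.map (redMap.{u} p)).appTop x) = (redMap.{u} p).hom (eT x) :=
      congrArg (fun k => k.hom x) (Scheme.ΓSpecIso_naturality (redMap.{u} p))
    rw [RingHom.mem_ker, ← map_eq_zero_iff _ eS.injective]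
    refine (Eq.congr_left h).trans ?_
    rw [← RingHom.mem_ker, redMap_ker, Ideal.mem_span_singleton, Ideal.mem_span_singleton, ← map_natCast eT, map_dvd_iff eT]
  rw [h0, Ideal.map_span, Set.image_singleton, map_natCast]

/-- Let p be a prime, S~ a scheme flat over Z/p² with reduction S = S~ ×_{Z/p²} F_p (i_S : S → S~ the
cartesian closed immersion), S noetherian, and f : X → S a smooth morphism with X noetherian; let
D_1, …, D_r be quasi-coherent ideal sheaves on X forming a strict normal crossing divisor relative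
to S. Let X~ be a lifting of X to S~ (a flat g : X~ → S~ with j : X → X~ cartesian over i_S) and
D~_1, …, D~_r closed subschemes of X~, given by quasi-coherent ideal sheaves, with D~_m ×_{S~} S =
D_m, i.e. the ideal of D~_m pulled back along j is that of D_m. Then for each m the subscheme D~_m
is flat over S~ — so that it is a lifting of D_m — if and only if its ideal sheaf is an invertible
O_{X~}-module, i.e. D~_m is an effective Cartier divisor in X~. (The published lemma adds a third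
equivalent condition describing the liftings by étale coordinates.) -/
theorem result (p : ℕ) [Fact p.Prime]
    (Sl : Scheme.{u}) (gS : Sl ⟶ Spec (CommRingCat.of (ULift.{u} (ZMod (p ^ 2))))) [Flat gS]
    (S : Scheme.{u}) (iS : S ⟶ Sl) (fS : S ⟶ Spec (CommRingCat.of (ULift.{u} (ZMod p))))
    (hS : IsPullback iS fS gS (Spec.map (CommRingCat.ofHom
      ((ZMod.castHom (dvd_pow_self p two_ne_zero) (ULift.{u} (ZMod p))).comp
        (ULift.ringEquiv : ULift.{u} (ZMod (p ^ 2)) ≃+* ZMod (p ^ 2)).toRingHom))))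
    [IsNoetherian S]
    (X : Scheme.{u}) (f : X ⟶ S) [Smooth f] [IsNoetherian X]
    {r : ℕ} (D : Fin r → X.IdealSheafData) (hD : LogNCD.IsNCD D f)
    (Xl : Scheme.{u}) (g : Xl ⟶ Sl) [Flat g] (j : X ⟶ Xl) (hX : IsPullback j f g iS)
    (Dl : Fin r → Xl.IdealSheafData) (hDl : ∀ m, (Dl m).comap j = D m) (m : Fin r) :
    Flat ((Dl m).subschemeι ≫ g) ↔ PicF.IsInvertible (ClSub.idealMod (Dl m)) := by
  classical
  let red := redMap.{u} p
  change IsPullback iS fS gS (Spec.map (redMap.{u} p)) at hS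
  have hredsurj := redMap_surjective.{u} p
  have hredker := redMap_ker.{u} p
  haveI : IsClosedImmersion (Spec.map red) := IsClosedImmersion.spec_of_surjective red hredsurj
  haveI : Surjective (Spec.map red) := ⟨fun (P : PrimeSpectrum (ULift.{u} (ZMod (p ^ 2)))) => by
    have hle : RingHom.ker red.hom ≤ P.asIdeal := by
      rw [hredker, Ideal.span_singleton_le_iff_mem]
      refine P.isPrime.mem_of_pow_mem 2 ?_
      rw [← Nat.cast_pow, show ((p ^ 2 : ℕ) : ULift.{u} (ZMod (p ^ 2))) = 0 from ULift.ext _ _ (ZMod.natCast_self _)]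
      exact zero_mem _
    have : P ∈ Set.range (PrimeSpectrum.comap red.hom) := by
      rw [range_comap_of_surjective _ red.hom hredsurj]; exact hle
    exact this⟩
  haveI : IsClosedImmersion iS := MorphismProperty.of_isPullback hS.flip inferInstance
  haveI : Surjective iS := MorphismProperty.of_isPullback hS.flip inferInstance
  haveI : IsClosedImmersion j := MorphismProperty.of_isPullback hX.flip inferInstance
  haveI : Surjective j := MorphismProperty.of_isPullback hX.flip inferInstance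
  have hpS := ker_app_eq p iS fS gS hS
  have hpX := ker_app_eq p j (f ≫ fS) (g ≫ gS) (hX.paste_vert hS)
  have hflA : ∀ V : Sl.affineOpens, ((p : Γ(Sl, V.1)) * p = 0) ∧ ∀ a : Γ(Sl, V.1), (p : Γ(Sl, V.1)) * a = 0 → ∃ b, a = p * b := fun V =>
    zmod_ann p _ _ ((RingHom.Flat.of_bijective
      (Scheme.ΓSpecIso (CommRingCat.of (ULift.{u} (ZMod (p ^ 2))))).commRingCatIsoToRingEquiv.symm.bijective).comp
        (HasRingHomProperty.appLE (P := @Flat) gS inferInstance ⟨⊤, isAffineOpen_top _⟩ V le_top))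
  -- charts
  have chart : ∀ (z : Xl), ∃ O : Xl.Opens, z ∈ O ∧ ∀ (U : Xl.affineOpens) (V : Sl.affineOpens), U.1 ≤ O →
      ∀ e : U.1 ≤ g ⁻¹ᵁ V.1, ∃ F : Γ(Xl, U.1),
        (Dl m).ideal U ⊔ Ideal.span {(p : Γ(Xl, U.1))} = Ideal.span {F} ⊔ Ideal.span {(p : Γ(Xl, U.1))} ∧
        (∀ b, F * b ∈ Ideal.span {(p : Γ(Xl, U.1))} → b ∈ Ideal.span {(p : Γ(Xl, U.1))}) ∧
        ∃ (A₀ : Type u) (_ : CommRing A₀) (q : Γ(Sl, V.1) →+* A₀) (_ : Function.Surjective q)
          (_ : RingHom.ker q = Ideal.span {(p : Γ(Sl, V.1))})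
          (ψ : A₀ →+* Γ(Xl, U.1) ⧸ ((Dl m).ideal U ⊔ Ideal.span {(p : Γ(Xl, U.1))})),
          ψ.comp q = (Ideal.Quotient.mk _).comp (g.appLE V.1 U.1 e).hom ∧ ψ.Flat := by
    intro z
    obtain ⟨x, rfl⟩ := j.surjective z
    obtain ⟨O0, hxO0, hO0⟩ := exists_eq hD m x
    obtain ⟨O', hO', hO'e⟩ := j.isClosedEmbedding.isInducing.isOpen_iff.1 O0.isOpen
    refine ⟨⟨O', hO'⟩, show x ∈ j ⁻¹' O' by rw [hO'e]; exact hxO0, fun U V hUO e => ?_⟩
    let U0 : X.affineOpens := ⟨j ⁻¹ᵁ U.1, U.2.preimage j⟩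
    let V0 : S.affineOpens := ⟨iS ⁻¹ᵁ V.1, V.2.preimage iS⟩
    have e0 : U0.1 ≤ f ⁻¹ᵁ V0.1 := by
      show j ⁻¹ᵁ U.1 ≤ (f ≫ iS) ⁻¹ᵁ V.1
      rw [← hX.w]
      exact fun y hy => e hy
    obtain ⟨g0, hg0, hreg, hfl⟩ := hO0 U0 V0 (fun y hy => by rw [← SetLike.mem_coe, ← hO'e]; exact hUO hy) e0
    let π : Γ(Xl, U.1) →+* Γ(X, U0.1) := (j.app U.1).hom
    have hπ : Function.Surjective π := j.app_surjective U.1 U.2
    have hkπ : RingHom.ker π = Ideal.span {(p : Γ(Xl, U.1))} := hpX U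
    obtain ⟨F, hF⟩ := hπ g0
    have hmap : ((Dl m).ideal U).map π = Ideal.span {g0} := by
      rw [← hg0, ← hDl m, FSchLib.ideal_comap_eq_map j (Dl m) U0 U le_rfl, ← Scheme.Hom.app_eq_appLE]
    have hsup : (Dl m).ideal U ⊔ Ideal.span {(p : Γ(Xl, U.1))} = (Ideal.span {g0}).comap π := by
      rw [← hmap, Ideal.comap_map_of_surjective _ hπ, ← RingHom.ker_eq_comap_bot, hkπ]
    refine ⟨F, ?_, fun b hb => ?_, Γ(S, V0.1), inferInstance, (iS.app V.1).hom, iS.app_surjective V.1 V.2, hpS V, ?_⟩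
    · rw [hsup, ← hF, ← Set.image_singleton (f := π), ← Ideal.map_span, Ideal.comap_map_of_surjective _ hπ,
        ← RingHom.ker_eq_comap_bot, hkπ]
    · rw [← hkπ, RingHom.mem_ker] at hb ⊢
      exact hreg _ (by rw [← hF, ← map_mul]; exact hb)
    let τ : Γ(Xl, U.1) ⧸ ((Dl m).ideal U ⊔ Ideal.span {(p : Γ(Xl, U.1))}) →+* Γ(X, U0.1) ⧸ Ideal.span {g0} :=
      Ideal.quotientMap _ π hsup.le
    have hτ : Function.Bijective τ :=
      ⟨Ideal.quotientMap_injective' hsup.ge, Ideal.quotientMap_surjective hπ⟩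
    refine ⟨(RingEquiv.ofBijective τ hτ).symm.toRingHom.comp ((Ideal.Quotient.mk _).comp (f.appLE V0.1 U0.1 e0).hom),
      RingHom.ext fun a => ?_, hfl.comp (.of_bijective (RingEquiv.ofBijective τ hτ).symm.bijective)⟩
    refine (RingEquiv.ofBijective τ hτ).injective ?_
    refine ((RingEquiv.ofBijective τ hτ).apply_symm_apply _).trans ?_
    show _ = Ideal.Quotient.mk _ (π ((g.appLE V.1 U.1 e).hom a))
    refine congrArg (Ideal.Quotient.mk _) ?_
    show (iS.app V.1 ≫ f.appLE V0.1 U0.1 e0) a = (g.appLE V.1 U.1 e ≫ j.app U.1) a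
    rw [Scheme.Hom.app_eq_appLE, Scheme.Hom.app_eq_appLE, Scheme.Hom.appLE_comp_appLE, Scheme.Hom.appLE_comp_appLE]
    simp only [hX.w]
    rfl
  -- the affine piece of the subscheme
  have piece : ∀ (U : Xl.affineOpens) (V : Sl.affineOpens) (e : U.1 ≤ g ⁻¹ᵁ V.1),
      ∃ (e' : (Dl m).subschemeι ⁻¹ᵁ U.1 ≤ ((Dl m).subschemeι ≫ g) ⁻¹ᵁ V.1),
        (((Dl m).subschemeι ≫ g).appLE V.1 ((Dl m).subschemeι ⁻¹ᵁ U.1) e').hom.Flat ↔
          ((Ideal.Quotient.mk ((Dl m).ideal U)).comp (g.appLE V.1 U.1 e).hom).Flat := by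
    intro U V e
    refine ⟨fun y hy => e hy, ?_⟩
    let eI := ((Dl m).subschemeObjIso U).commRingCatIsoToRingEquiv
    have h : (((Dl m).subschemeι ≫ g).appLE V.1 ((Dl m).subschemeι ⁻¹ᵁ U.1) (fun y hy => e hy)).hom =
        eI.symm.toRingHom.comp ((Ideal.Quotient.mk ((Dl m).ideal U)).comp (g.appLE V.1 U.1 e).hom) := by
      rw [← Scheme.Hom.appLE_comp_appLE (Dl m).subschemeι g V.1 U.1 _ e le_rfl, ← Scheme.Hom.app_eq_appLE,
        Scheme.IdealSheafData.subschemeι_app]
      rfl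
    rw [h]
    refine ⟨fun hh => ?_, fun hh => hh.comp (.of_bijective eI.symm.bijective)⟩
    have h2 := hh.comp (RingHom.Flat.of_bijective eI.bijective)
    convert h2 using 1
    ext a
    exact (eI.apply_symm_apply _).symm
  rw [S8914.result]
  constructor
  · intro hflat z
    obtain ⟨O, hzO, hO⟩ := chart z
    obtain ⟨V, hV, hzV, -⟩ := exists_isAffineOpen_mem_and_subset (x := g z) (U := ⊤) trivial
    obtain ⟨U, hU, hzU, hUle⟩ := exists_isAffineOpen_mem_and_subset (x := z) (U := O ⊓ g ⁻¹ᵁ V) ⟨hzO, hzV⟩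
    have e : U ≤ g ⁻¹ᵁ V := fun y hy => (hUle hy).2
    obtain ⟨F, hF, hreg, -⟩ := hO ⟨U, hU⟩ ⟨V, hV⟩ (fun y hy => (hUle hy).1) e
    obtain ⟨e', he'⟩ := piece ⟨U, hU⟩ ⟨V, hV⟩ e
    have hfl := he'.1 (HasRingHomProperty.appLE (P := @Flat) _ hflat ⟨V, hV⟩ ⟨_, hU.preimage _⟩ e')
    obtain ⟨hp, hA⟩ := hflA ⟨V, hV⟩
    obtain ⟨G, hG, hIG⟩ := (ring_key (g.appLE V U e).hom (HasRingHomProperty.appLE (P := @Flat) g inferInstance ⟨V, hV⟩ ⟨U, hU⟩ e)
      (p : Γ(Sl, V)) hp hA _ F (by rw [map_natCast]; exact hF) (by rw [map_natCast]; exact hreg)).1 hfl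
    exact ⟨⟨U, hU⟩, hzU, G, hG, hIG⟩
  · intro hcart
    rw [HasRingHomProperty.iff_exists_appLE (P := @Flat)
      (RingHom.Flat.stableUnderComposition.stableUnderCompositionWithLocalizationAway RingHom.Flat.holdsForLocalizationAway).left]
    intro y
    obtain ⟨O, hzO, hO⟩ := chart ((Dl m).subschemeι y)
    obtain ⟨U1, hzU1, G1, hG1, hIG1⟩ := hcart ((Dl m).subschemeι y)
    obtain ⟨V, hV, hzV, -⟩ := exists_isAffineOpen_mem_and_subset (x := g ((Dl m).subschemeι y)) (U := ⊤) trivial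
    obtain ⟨a, haO, hya⟩ := U1.2.exists_basicOpen_le (V := O ⊓ g ⁻¹ᵁ V) ⟨(Dl m).subschemeι y, hzO, hzV⟩ hzU1
    let U : Xl.affineOpens := Xl.affineBasicOpen a
    have hle : U.1 ≤ U1.1 := Xl.basicOpen_le a
    have e : U.1 ≤ g ⁻¹ᵁ V := fun y hy => (haO hy).2
    obtain ⟨F, hF, hreg, A₀, _, q, hq, hkq, ψ, hψ, hψf⟩ := hO U ⟨V, hV⟩ (fun y hy => (haO hy).1) e
    obtain ⟨e', he'⟩ := piece U ⟨V, hV⟩ e
    refine ⟨⟨V, hV⟩, ⟨_, U.2.preimage (Dl m).subschemeι⟩, hya, e', he'.2 ?_⟩
    obtain ⟨hp, hA⟩ := hflA ⟨V, hV⟩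
    let ρ := (Xl.presheaf.map (homOfLE hle).op).hom
    have hgen : (Dl m).ideal U = Ideal.span {ρ G1} := by
      rw [← (Dl m).map_ideal (U := U) (V := U1) hle, hIG1, Ideal.map_span, Set.image_singleton]
      rfl
    have hnzd : ρ G1 ∈ nonZeroDivisors Γ(Xl, U.1) := by
      haveI := U1.2.isLocalization_basicOpen a
      exact IsLocalization.map_nonZeroDivisors_le (Submonoid.powers a) Γ(Xl, Xl.basicOpen a) ⟨G1, hG1, rfl⟩
    refine (ring_key (g.appLE V U.1 e).hom (HasRingHomProperty.appLE (P := @Flat) g inferInstance ⟨V, hV⟩ U e)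
      (p : Γ(Sl, V)) hp hA ((Dl m).ideal U) F (by rw [map_natCast]; exact hF) (by rw [map_natCast]; exact hreg)).2 q hq hkq
      ((Ideal.quotEquivOfEq (by rw [map_natCast])).toRingHom.comp ψ) ?_ (hψf.comp (.of_bijective (RingEquiv.bijective _)))
      ⟨ρ G1, hnzd, hgen⟩
    rw [RingHom.comp_assoc, hψ]
    rfl

end Groth.Agent.S17120
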