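import Groth.Statements.S17128
import Groth.Agent.Misc15.LogNCDSub
-- import your own Groth.Agent.* helpers here

set_option autoImplicit false
set_option backward.isDefEq.respectTransparency false
set_option backward.isDefEq.respectTransparency.types false
set_option linter.style.haveILetI false
set_option maxHeartbeats 1000000
universe u
open CategoryTheory CategoryTheory.Limits AlgebraicGeometry
open LogNCD

namespace Groth.Agent.S17128

open Opposite
open Groth.Agent Groth.Agent.DCat Groth.Agent.Coherent Groth.Agent.Misc15.LogNCDBasic Groth.Agent.Misc15.LogNCDSub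

/-- Let f : X → S be smooth, (Ω', d) a universal receptacle for the differentials of X over S, D = (D_0,
…, D_r) a relative strict normal crossing divisor and i an index; let Ω¹(log D) be the pinned log
module of D and Ω¹(log(D − D_i)) the pinned log module of the family with the component D_i removed.
Then the inclusion Ω¹(log(D − D_i)) ⊆ Ω¹(log D) exists as an O_X-linear map κ compatible with the
inclusions of Ω', and for every such κ the sequence 0 → Ω¹(log(D − D_i)) → Ω¹(log D) → O_{D_i} → 0,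
whose second map is the residue along D_i (the map β_i in degree one), is short exact. The argument
h, the vanishing of the composite, holds for every such κ and is an argument only so that the short
complex can be formed. (Stated relative to an arbitrary base; the published statement, over an
algebraically closed field, covers all degrees a with the residue β_i into the logarithmic
(a−1)-forms on D_i.) -/
theorem result {X S : Scheme.{u}} (f : X ⟶ S) [Smooth f]
    {Ω' : X.Modules} (d : OmegaSh.Der f Ω') (hd : OmegaSh.IsUniversal d)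
    {r : ℕ} (D : Fin (r + 1) → X.IdealSheafData) (hD : LogNCD.IsNCD D f) (i : Fin (r + 1))
    (Λ : LogNCD.LogMod d D) (Λ' : LogNCD.LogMod d (D ∘ i.succAbove)) :
    (∃ κ : Λ'.L ⟶ Λ.L, LogNCD.IsSubLog Λ' Λ κ) ∧
      ∀ (κ : Λ'.L ⟶ Λ.L) (hκ : LogNCD.IsSubLog Λ' Λ κ) (h : κ ≫ Λ.res i = 0),
        (ShortComplex.mk κ (Λ.res i) h).ShortExact := by
  refine ⟨Misc15.LogNCDSub.exists_sub Λ Λ' hD, fun κ hκ h => ?_⟩
  have hκι : ∀ (V : X.Opens) (ω : Γ(Ω', V)), κ.app V (Λ'.ι.app V ω) = Λ.ι.app V ω := fun V ω => by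
    show (Λ'.ι ≫ κ).app V ω = _
    rw [show Λ'.ι ≫ κ = Λ.ι from hκ]
  have hmap : ∀ (z : X) (ω : KTor28.st z Ω'), (DerSch.stalkFunctor X z).map κ ((DerSch.stalkFunctor X z).map Λ'.ι ω) =
      (DerSch.stalkFunctor X z).map Λ.ι ω := fun z ω => by
    rw [← ConcreteCategory.comp_apply, ← Functor.map_comp, show Λ'.ι ≫ κ = Λ.ι from hκ]
  haveI := Λ.mono
  haveI := Λ'.mono
  refine { exact := OmegaLib.exact_of_stalks _ fun x => ?_,
           mono_f := OmegaLib.mono_of_stalks_injective _ fun x => ?_,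
           epi_g := OmegaLib.epi_of_stalks_surjective _ fun x v => ?_ }
  · rw [ShortComplex.moduleCat_exact_iff]
    intro v hv
    obtain ⟨V, hxV, s, rfl⟩ := KTor28.exists_gm Λ.L v
    have h0 : KTor28.gm _ hxV ((Λ.res i).app V s) = KTor28.gm (ClSub.quotMod (D i)) hxV 0 := by
      rw [← KTor28.gm_map, KTor28.gm_zero]; exact hv
    obtain ⟨W, hW, hxW, he⟩ := KTor28.gm_eq _ hxV h0
    rw [map_zero, ← app_resM] at he
    obtain ⟨U, hxU, hUW, g, hg⟩ := exists_principal_nhd hD x W hxW
    obtain ⟨htor, dl, hdl, hspan, h1, h2⟩ := Λ.rule U g hg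
    obtain ⟨-, dl', hdl', -, -, -⟩ := Λ'.rule U (g ∘ i.succAbove) fun l => hg _
    obtain ⟨ω, a, ha⟩ := exists_decomp Λ hspan (resM Λ.L hUW (resM Λ.L hW s))
    have hres : (Λ.res i).app U.1 (resM Λ.L hUW (resM Λ.L hW s)) = 0 := by rw [app_resM, he, map_zero]
    rw [ha, res_sum Λ U.1 dl h1 h2 a ω i] at hres
    have h4 : a i ∈ (D i).ideal U := by rw [← (D i).ker_subschemeι_app U]; exact hres
    rw [hg i] at h4
    obtain ⟨c, hc⟩ := Ideal.mem_span_singleton'.1 h4
    have hκdl : ∀ j, κ.app U.1 (dl' j) = dl (i.succAbove j) := fun j => by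
      refine sub_eq_zero.1 (htor _ ?_)
      rw [smul_sub, prod_smul_dl g (i.succAbove j), prod_smul_dl g (i.succAbove j) (dl (i.succAbove j)),
        ← Scheme.Modules.Hom.app_smul]
      rw [show g (i.succAbove j) • dl' j = Λ'.ι.app U.1 (d.app U.1 (g (i.succAbove j))) from hdl' j, hκι,
        show g (i.succAbove j) • dl (i.succAbove j) = Λ.ι.app U.1 (d.app U.1 (g (i.succAbove j))) from hdl _, sub_self]
    let t : Γ(Λ'.L, U.1) := ∑ j, a (i.succAbove j) • dl' j
    refine ⟨KTor28.gm Λ'.L hxU (Λ'.ι.app U.1 (ω + c • d.app U.1 (g i)) + t), ?_⟩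
    show (DerSch.stalkFunctor X x).map κ _ = _
    rw [KTor28.gm_map, ← KTor28.gm_res Λ.L hW hxW s, ← KTor28.gm_res Λ.L hUW hxU, ha, map_add, hκι]
    congr 1
    rw [map_sum, Fin.sum_univ_succAbove _ i, map_add, Scheme.Modules.Hom.app_smul, ← hc, mul_smul,
      ← show g i • dl i = Λ.ι.app U.1 (d.app U.1 (g i)) from hdl i, add_assoc]
    congr 2
    exact Finset.sum_congr rfl fun j _ => by rw [Scheme.Modules.Hom.app_smul, hκdl]
  · refine (injective_iff_map_eq_zero _).2 fun v hv => ?_
    obtain ⟨V, hxV, s, rfl⟩ := KTor28.exists_gm Λ'.L v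
    obtain ⟨U, hxU, hUV, g, hg⟩ := exists_principal_nhd hD x V hxV
    obtain ⟨htor', dl', hdl', hs', -, -⟩ := Λ'.rule U (g ∘ i.succAbove) fun l => hg _
    obtain ⟨htor, -⟩ := Λ.rule U g hg
    obtain ⟨ω, a, ha⟩ := exists_decomp Λ' hs' (resM Λ'.L hUV s)
    -- a multiple of the section comes from `Ω'`
    obtain ⟨t, ht⟩ := exists_section Λ Λ' U g hg (resM Λ'.L hUV s)
    obtain ⟨cz, hreg, ω₀, e1, e2⟩ := ht x hxU
    rw [KTor28.gm_res] at e1
    have hω : ω₀ = 0 := stalk_injective Λ.ι x (by
      rw [map_zero, ← hmap, ← e1, map_smul, show (DerSch.stalkFunctor X x).map κ (KTor28.gm Λ'.L hxV s) = 0 from hv,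
        smul_zero])
    -- the equations are regular on the smaller log module
    rw [hω, map_zero] at e1
    exact regular_sub Λ Λ' U g hg hxU hreg _ e1
  · obtain ⟨V, hxV, z, rfl⟩ := KTor28.exists_gm (ClSub.quotMod (D i)) v
    obtain ⟨U, hxU, hUV, g, hg⟩ := exists_principal_nhd hD x V hxV
    obtain ⟨-, dl, hdl, hspan, h1, h2⟩ := Λ.rule U g hg
    obtain ⟨a, ha⟩ := (D i).subschemeι_app_surjective U (resM (ClSub.quotMod (D i)) hUV z)
    let dli : Γ(Λ.L, U.1) := dl i
    refine ⟨KTor28.gm Λ.L hxU (a • dli), ?_⟩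
    show (DerSch.stalkFunctor X x).map (Λ.res i) _ = _
    rw [KTor28.gm_map, ← KTor28.gm_res _ hUV hxU z, Scheme.Modules.Hom.app_smul]
    exact congrArg (KTor28.gm _ hxU) ((congrArg (a • ·) (h1 i)).trans ((smul_oneOn _ _ a).trans ha))

end Groth.Agent.S17128
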