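import Groth.Statements.S1713
import Groth.Agent.DualLib.LocalDuality
import Groth.Agent.Matlis6.HullExistence

set_option autoImplicit false
universe u
open CategoryTheory
attribute [local instance] HasDerivedCategory.standard
open Dual

namespace Groth.Agent.S1713

/-- Let A be a Noetherian local ring with maximal ideal m and a normalized dualizing complex ω, and M a
finite A-module. For every i ≥ 0 the annihilator of the A-module of maps M → ω[-i] in D(A) equals
the annihilator of the local cohomology module H^i_m(M). -/
theorem result (A : Type u) [CommRing A] [IsLocalRing A] [IsNoetherianRing A] (ω : Dual.D A) (hω : Dual.IsDualizing A ω) (hn : Dual.IsNormalized A ω) (M : Type u) [AddCommGroup M] [Module A M] [Module.Finite A M] (i : ℕ) : Module.annihilator A (Dual.inD A M ⟶ ω⟦(-(i : ℤ))⟧) = Module.annihilator A (LocCoh.H (IsLocalRing.maximalIdeal A) i M) := by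
  obtain ⟨E₀, _, _, f₀, hf⟩ := Groth.Agent.Matlis6.exists_isInjectiveHull A (IsLocalRing.ResidueField A)
  obtain ⟨e⟩ := Groth.Agent.DualLib.nonempty_localDuality hω hn hf M i
  haveI := Groth.Agent.DualLib.finite hω M (-(i : ℤ))
  rw [e.annihilator_eq]
  refine le_antisymm (fun a ha => Module.mem_annihilator.2 fun t => LinearMap.ext fun z => ?_) fun a ha =>
    Module.mem_annihilator.2 fun z => ?_
  · rw [LinearMap.smul_apply, ← map_smul, Module.mem_annihilator.1 ha z, map_zero, LinearMap.zero_apply]
  · obtain ⟨k, p, hp⟩ := Module.Finite.exists_fin' A (Groth.Agent.DualLib.E ω M (-(i : ℤ)))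
    let q := p.quotKerEquivOfSurjective hp
    by_contra hz
    have h0 : q.symm (a • z) ≠ 0 := fun h => hz (q.symm.injective (h.trans (map_zero _).symm))
    obtain ⟨φ, hφ⟩ := (Groth.Agent.Matlis6.of_isInjectiveHull_residueField hf).exists_apply_ne_zero_local h0
    apply hφ
    have h1 := LinearMap.congr_fun (Module.mem_annihilator.1 ha (φ ∘ₗ q.symm.toLinearMap)) z
    rw [LinearMap.smul_apply, ← map_smul] at h1
    exact h1

end Groth.Agent.S1713
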