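import Groth.Statements.S17138
import Groth.Agent.JacAJ27.AbelSurj
-- import your own Groth.Agent.* helpers here

set_option autoImplicit false
set_option linter.style.haveILetI false
set_option backward.isDefEq.respectTransparency.types false
universe u
open CategoryTheory CategoryTheory.Limits AlgebraicGeometry MonoidalCategory CartesianMonoidalCategory MonObj
open Jac

namespace Groth.Agent.S17138

open CategoryTheory CategoryTheory.Limits MonObj AlgebraicGeometry in
open Groth.Agent in
/-- Let X be a smooth proper geometrically connected curve of genus g ≥ 1 over a field k and n ≥ 1; let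
(Y, q) be the n-th symmetric power C^(n) of X over k (q : X ×_k ⋯ ×_k X → Y a quotient of the n-fold
fibre power by the symmetric group permuting the factors: affine, invariant, identifying sections of
O_Y with invariant sections, with q over k), let (J_n, ψ_n) be a coarse moduli scheme, on all
k-schemes, for line bundles of degree n on X modulo twisting from the base (the degree-n Picard
scheme), and let j_n : Y → J_n be the morphism through which the classifying map of the family O(Γ_1
+ ⋯ + Γ_n) on X × X^n factors (Γ_i the graph of the i-th projection; the family F is pinned by F ⊗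
I_{Γ_1} ⊗ ⋯ ⊗ I_{Γ_n} ≅ O), i.e. q followed by j_n is ψ_n of that family, so that j_n sends an
effective divisor D of degree n to the class of O(D). If g ≤ n, then j_n is surjective (on the
underlying topological spaces). -/
theorem result (k : Type u) [Field k]
    (X : Scheme.{u}) [X.Over (Spec (CommRingCat.of k))]
    [IsProper (X ↘ Spec (CommRingCat.of k))] [Smooth (X ↘ Spec (CommRingCat.of k))]
    [GeometricallyConnected (X ↘ Spec (CommRingCat.of k))] (hdim : topologicalKrullDim ↥X = 1)
    (g : ℕ) (hg : Curv2.genus k X = g) (hg1 : 1 ≤ g)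
    (n : ℕ) (hn : 1 ≤ n)
    (Y : Scheme.{u}) (q : SymProd.fibPow (X ↘ Spec (CommRingCat.of k)) n ⟶ Y) (gY : Y ⟶ Spec (CommRingCat.of k))
    (hq : SymProd.IsSymProd (X ↘ Spec (CommRingCat.of k)) n q gY)
    (Jn : Over (Spec (CommRingCat.of k)))
    (ψn : (ModFun.PicDeg (X ↘ Spec (CommRingCat.of k)) (n : ℤ)).Hom ⊤ Jn)
    (hJn : ModFun.IsCoarseModuli ⊤ (ModFun.PicDeg (X ↘ Spec (CommRingCat.of k)) (n : ℤ)) Jn ψn)
    (F : (PicF.XT (X ↘ Spec (CommRingCat.of k)) (Over.mk (WidePullback.base fun (_ : Fin n) => (X ↘ Spec (CommRingCat.of k))))).Modules)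
    (hF : Nonempty (CohB1.tensorMod F (FGA.tensorList (List.ofFn fun i : Fin n =>
        ClSub.idealMod (pullback.lift (WidePullback.π (fun (_ : Fin n) => (X ↘ Spec (CommRingCat.of k))) i) (𝟙 (SymProd.fibPow (X ↘ Spec (CommRingCat.of k)) n))
          ((WidePullback.π_arrow (fun (_ : Fin n) => (X ↘ Spec (CommRingCat.of k))) i).trans (Category.id_comp _).symm) :
            SymProd.fibPow (X ↘ Spec (CommRingCat.of k)) n ⟶ PicF.XT (X ↘ Spec (CommRingCat.of k)) (Over.mk (WidePullback.base fun (_ : Fin n) => (X ↘ Spec (CommRingCat.of k))))).ker)) ≅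
      Coh.structureModule _))
    (hT : (⊤ : ObjectProperty (Over (Spec (CommRingCat.of k)))) (Over.mk (WidePullback.base fun (_ : Fin n) => (X ↘ Spec (CommRingCat.of k)))))
    (hFok : (ModFun.PicDeg (X ↘ Spec (CommRingCat.of k)) (n : ℤ)).ok (Over.mk (WidePullback.base fun (_ : Fin n) => (X ↘ Spec (CommRingCat.of k)))) F)
    (jn : Over.mk gY ⟶ Jn)
    (hjn : Over.homMk q hq.over ≫ jn = ψn.app (Over.mk (WidePullback.base fun (_ : Fin n) => (X ↘ Spec (CommRingCat.of k)))) F hT hFok)
    (hgn : g ≤ n) :
    Function.Surjective jn.left.base := by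
  haveI := AbVarLib.geometricallyIntegral_of_smooth (X ↘ Spec (CommRingCat.of k))
  haveI : IsIntegral X := GeometricallyIntegral.isIntegral_of_subsingleton (X ↘ Spec (CommRingCat.of k))
  haveI := GenSmoothLib.smoothOfRelativeDimension_toField (X ↘ Spec (CommRingCat.of k)) (d := 1)
    (by rw [hdim]; rfl)
  exact JacAJ27.surjective_abelMap hdim g hg n hgn Y q gY hq Jn ψn hJn F hF hT hFok jn hjn

end Groth.Agent.S17138
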