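import Groth.Statements.S1714
import Groth.Agent.CAlgH3.DT.FlatDeg
-- import your own Groth.Agent.* helpers here

set_option autoImplicit false
universe u
open CategoryTheory
attribute [local instance] HasDerivedCategory.standard
open LocCoh

namespace Groth.Agent.S1714

/-- Let A be a Noetherian ring with a dualizing complex, I an ideal, M a finite A-module, A' and M' the
I-adic completions. Let p' ⊆ q' be primes of A' with I A' ⊆ q', lying over the primes p ⊆ q of A.
Then the depth of M'_{p'} over A'_{p'} is at least the depth of M_p over A_p, and depth(M'_{p'})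
plus the dimension of the interval of primes [p', q'] equals depth(M_p) plus the dimension of [p,
q]. -/
theorem result (A : Type u) [CommRing A] [IsNoetherianRing A] (hA : ∃ ω : Dual.D A, Dual.IsDualizing A ω) (I : Ideal A) (M : Type u) [AddCommGroup M] [Module A M] [Module.Finite A M] (p' q' : PrimeSpectrum (AdicCompletion I A)) (hpq : p' ≤ q') (hq : Ideal.map (algebraMap A (AdicCompletion I A)) I ≤ q'.asIdeal) : LocCoh.depth (Localization.AtPrime (p'.asIdeal.comap (algebraMap A (AdicCompletion I A)))) (LocalizedModule (p'.asIdeal.comap (algebraMap A (AdicCompletion I A))).primeCompl M) ≤ LocCoh.depth (Localization.AtPrime p'.asIdeal) (LocalizedModule p'.asIdeal.primeCompl (AdicCompletion I M)) ∧ ((LocCoh.depth (Localization.AtPrime p'.asIdeal) (LocalizedModule p'.asIdeal.primeCompl (AdicCompletion I M)) : ℕ∞) : WithBot ℕ∞) + Order.krullDim (Set.Icc p' q') = ((LocCoh.depth (Localization.AtPrime (p'.asIdeal.comap (algebraMap A (AdicCompletion I A)))) (LocalizedModule (p'.asIdeal.comap (algebraMap A (AdicCompletion I A))).primeCompl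 M) : ℕ∞) : WithBot ℕ∞) + Order.krullDim (Set.Icc ((PrimeSpectrum.comap (algebraMap A (AdicCompletion I A))) p') ((PrimeSpectrum.comap (algebraMap A (AdicCompletion I A))) q')) := by
  refine ⟨Groth.Agent.CAlgH3.DT.le_depth_completion I M p'.asIdeal, ?_⟩
  obtain ⟨ω, hω⟩ := hA
  haveI := Groth.Agent.Matlis6.isNoetherianRing_adicCompletion I
  let B := AdicCompletion I A
  haveI : Module.Flat A B := AdicCompletion.flat_of_isNoetherian I
  haveI := Groth.Agent.DualLib.preservesFiniteLimits_flat (A := A) (B := B)
  haveI := Groth.Agent.DualLib.preservesFiniteColimits_ext (A := A) (B := B)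
  haveI : DRing.HasLBaseChange (algebraMap A B) := Groth.Agent.DCat.hasLBaseChange _
  obtain ⟨e⟩ := Groth.Agent.DualLib.nonempty_LBaseChange_iso (B := B) (RingHom.flat_algebraMap_iff.2 inferInstance) ω
  have hB := Groth.Agent.DualLib.isDualizing_of_iso e (Groth.Agent.S1779.result A I ω hω)
  obtain ⟨n, hn, hdp⟩ := Groth.Agent.CAlgH3.DT.deg_baseChange hω hB p'
  obtain ⟨m, hm, hdq⟩ := Groth.Agent.CAlgH3.DT.deg_baseChange hω hB q'
  have hm0 : m = 0 := by
    refine Nat.cast_eq_zero.1 (hm.symm.trans (Groth.Agent.CAlgH3.DT.fibDepth_eq_zero q'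
      ⟨⟨q'.2, Ideal.map_comap_le⟩, fun Q hQ _ => ?_⟩))
    intro x hx
    obtain ⟨a, ha⟩ := Ideal.Quotient.mk_surjective (AdicCompletion.evalOneₐ I x)
    have hxa : x - algebraMap A B a ∈ I.map (algebraMap A (AdicCompletion I A)) := by
      show x - algebraMap A (AdicCompletion I A) a ∈ I.map (algebraMap A (AdicCompletion I A))
      rw [← AdicCompletion.ker_evalOneₐ_eq_map I (IsNoetherian.noetherian _), RingHom.mem_ker, map_sub, sub_eq_zero,
        ← RingHom.comp_apply, AdicCompletion.evalOneₐ_comp_algebraMap_eq_mk]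
      exact ha.symm
    have haq : a ∈ q'.asIdeal.under A := show algebraMap A B a ∈ q'.asIdeal by simpa using sub_mem hx (hq hxa)
    have hI : I ≤ q'.asIdeal.under A := Ideal.map_le_iff_le_comap.1 hq
    exact hQ.2 (sub_add_cancel x (algebraMap A B a) ▸
      add_mem (Ideal.map_mono hI hxa) (Ideal.mem_map_of_mem (algebraMap A B) haq))
  have hle : PrimeSpectrum.comap (algebraMap A B) p' ≤ PrimeSpectrum.comap (algebraMap A B) q' := Ideal.comap_mono hpq
  rw [Groth.Agent.CAlgH3.DT.krullDim_Icc hB hpq, Groth.Agent.CAlgH3.DT.krullDim_Icc hω hle,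
    Groth.Agent.CAlgH3.DT.depth_completion_eq_add I M p'.asIdeal]
  unfold Groth.Agent.CAlgH3.DT.fibDepth at hn
  erw [hn]
  have h1 := Groth.Agent.DualLib.deg_mono hω hle
  have h2 := Groth.Agent.DualLib.deg_mono hB hpq
  show ((LocCoh.depth (Localization.AtPrime (p'.asIdeal.under A)) (LocalizedModule (p'.asIdeal.under A).primeCompl M) +
    (n : ℕ∞) : ℕ∞) : WithBot ℕ∞) + _ =
      ((LocCoh.depth (Localization.AtPrime (p'.asIdeal.under A)) (LocalizedModule (p'.asIdeal.under A).primeCompl M) : ℕ∞) :
        WithBot ℕ∞) + _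
  generalize LocCoh.depth (Localization.AtPrime (p'.asIdeal.under A))
    (LocalizedModule (p'.asIdeal.under A).primeCompl M) = D
  induction D with
  | top =>
    simp only [top_add]
    rw [← WithBot.coe_natCast, ← WithBot.coe_natCast, ← WithBot.coe_add, ← WithBot.coe_add, top_add, top_add]
  | coe D =>
    exact_mod_cast (show D + n + (Groth.Agent.DualLib.deg hB q' - Groth.Agent.DualLib.deg hB p').toNat =
      D + (Groth.Agent.DualLib.deg hω (PrimeSpectrum.comap (algebraMap A B) q') -
        Groth.Agent.DualLib.deg hω (PrimeSpectrum.comap (algebraMap A B) p')).toNat by omega)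


end Groth.Agent.S1714
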