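import Groth.Statements.S17143
import Groth.Agent.IsocLib.Ord

set_option autoImplicit false
universe u v
open Isoc

namespace Groth.Agent.S17143

/-- Let k be a perfect field of characteristic p, a ∈ ℤ, W = W(k) with fraction field L, and (N, F) a
σ^a-F-isocrystal over k (N finite-dimensional over L, F a bijective σ^a-semilinear endomorphism)
with first Newton slope λ₁(N, F) = lam. Then for m ∈ ℤ and n ∈ ℕ the twisted iterate (N, p^m F^n), a
σ^(an)-F-isocrystal, has first Newton slope n · lam + m. (The published statement allows every n ∈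
ℤ, with F^n the inverse iterate for n < 0; that case is false in general, since the first slope of
(N, F⁻¹) is minus the LARGEST slope of (N, F): for N = N_0 ⊕ N_1, the sum of the standard
isocrystals of slopes 0 and 1, λ₁(N, F) = 0 while λ₁(N, F⁻¹) = −1. Only n ≥ 0 is stated here.) -/
theorem result (p : ℕ) [Fact p.Prime] (k : Type u) [Field k] [CharP k p] [PerfectRing k p] (a : ℤ)
    (N : Type v) [AddCommGroup N] [Module (WittVector p k) N] [Module (FractionRing (WittVector p k)) N]
    [IsScalarTower (WittVector p k) (FractionRing (WittVector p k)) N]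
    (F : N →ₛₗ[Isoc.frob p k a] N) (hF : Isoc.IsIsoc F) (lam : ℝ) (hlam : Isoc.IsFirstSlope F lam) (m : ℤ) (n : ℕ) :
    Isoc.IsFirstSlope ((p : (FractionRing (WittVector p k))) ^ m • Isoc.iter F n) (n * lam + m) := by
  obtain ⟨M, hM, o, ho, hl⟩ := hlam
  haveI := Groth.Agent.IsocLib.nontrivial_of_isOrd (ho 1 le_rfl)
  refine ⟨M, hM, fun j => m * j + Groth.Agent.IsocLib.oFun hF hM (n * j), fun j _ => ?_, ?_⟩
  · have h := Groth.Agent.IsocLib.oFun_spec hF hM (n * j)
    simp only [Isoc.IsOrd, Groth.Agent.IsocLib.latImg_twist,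
      Groth.Agent.IsocLib.pPow_le_iff, Groth.Agent.IsocLib.pPow_add] at h ⊢
    constructor
    · convert h.1 using 2
      ring
    · convert h.2 using 3
      ring
  · obtain ⟨l, hl'⟩ := Groth.Agent.IsocLib.exists_tendsto_oFun hF hM
    obtain rfl : l = lam := Groth.Agent.IsocLib.slope_unique hM hM
      (fun j _ => Groth.Agent.IsocLib.oFun_spec hF hM j) ho hl' hl
    rcases Nat.eq_zero_or_pos n with rfl | hn
    · have h0 : Groth.Agent.IsocLib.oFun hF hM 0 = 0 := by
        refine le_antisymm ?_ (Groth.Agent.IsocLib.isOrd_le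
          (Groth.Agent.IsocLib.oFun_spec hF hM 0)
          (by simp [Groth.Agent.IsocLib.latImg_zero, Groth.Agent.IsocLib.pPow_zero]))
        have := (Groth.Agent.IsocLib.oFun_spec hF hM 0).1
        rw [Groth.Agent.IsocLib.latImg_zero] at this
        exact Groth.Agent.IsocLib.le_of_le_pPow hM this
      refine tendsto_const_nhds.congr' (Filter.eventually_atTop.mpr ⟨1, fun j hj => ?_⟩)
      have : (j : ℝ) ≠ 0 := by positivity
      simp only [zero_mul, h0]
      push_cast
      field_simp
      ring
    · refine (((hl'.comp (Filter.tendsto_id.const_mul_atTop' hn :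
        Filter.Tendsto (fun j : ℕ => n * j) Filter.atTop Filter.atTop)).const_mul (n : ℝ)).add_const
        (m : ℝ)).congr' (Filter.eventually_atTop.mpr ⟨1, fun j hj => ?_⟩)
      have : (j : ℝ) ≠ 0 := by positivity
      have : (n : ℝ) ≠ 0 := by positivity
      simp only [Function.comp]
      push_cast
      field_simp
      ring

end Groth.Agent.S17143
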