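import Groth.Statements.S17144
import Groth.Agent.IsocLib.Chain

set_option autoImplicit false
universe u v
open Isoc

namespace Groth.Agent.S17144

/-- Let k be a perfect field of characteristic p, a ∈ ℤ, W = W(k) with fraction field L, and (N, F) a
σ^a-F-isocrystal over k (N finite-dimensional over L, F a bijective σ^a-semilinear endomorphism) of
height h = dim_L N. If there is a W-lattice M in N with F^(h+1)(M) ⊆ p^(-1) · M, then (N, F) is
effective, i.e. there is a W-lattice M'' in N with F(M'') ⊆ M''. -/
theorem result (p : ℕ) [Fact p.Prime] (k : Type u) [Field k] [CharP k p] [PerfectRing k p] (a : ℤ)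
    (N : Type v) [AddCommGroup N] [Module (WittVector p k) N] [Module (FractionRing (WittVector p k)) N]
    [IsScalarTower (WittVector p k) (FractionRing (WittVector p k)) N]
    (F : N →ₛₗ[Isoc.frob p k a] N) (hF : Isoc.IsIsoc F) (h : ℕ) (hh : Module.finrank (FractionRing (WittVector p k)) N = h)
    (M : Submodule (WittVector p k) N) (hM : M.IsLattice (FractionRing (WittVector p k)))
    (hFM : Isoc.latImg F (h + 1) M ≤ Isoc.pPow (-1) M) : Isoc.IsEffective F := by
  haveI := hF.finite
  rcases subsingleton_or_nontrivial N with hN | hN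
  · refine ⟨M, hM, fun x _ => ?_⟩
    rw [Subsingleton.elim x 0]
    exact zero_mem _
  · obtain ⟨e, c, M', hM', hc, hch, hle, hM'e⟩ :=
      Groth.Agent.IsocLib.exists_small_den hM (Nat.succ_pos h) hFM
    rw [hh] at hch
    have he : 0 ≤ e := by
      by_contra he
      have h2 : e * ((h.succ : ℕ) : ℤ) ≤ (-1) * ((h.succ : ℕ) : ℤ) :=
        mul_le_mul_of_nonneg_right (by omega) (by positivity)
      push_cast at h2 hle ⊢
      omega
    obtain ⟨M'', hM'', h1⟩ := Groth.Agent.IsocLib.exists_lattice_of_le hM' hc hM'e
      (r' := 0) (s' := 1) (by push_cast; omega)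
    exact ⟨M'', hM'', h1.trans (le_of_eq (Groth.Agent.IsocLib.pPow_zero M''))⟩

end Groth.Agent.S17144
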