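import Groth.Statements.S1715
import Groth.Agent.CAlgH3.DT.Module
import Groth.Agent.DualLib.LocalDim
import Groth.Agent.DualLib.LocalDepth
-- import your own Groth.Agent.* helpers here

set_option autoImplicit false
universe u
open CategoryTheory
attribute [local instance] HasDerivedCategory.standard
open LocCoh

namespace Groth.Agent.S1715

/-- For an affine scheme: let A be a Noetherian ring with a dualizing complex and M a finite A-module
satisfying Serre's condition (S_k). Then there are only finitely many primes p such that M_p has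
depth exactly k while its support has dimension greater than k. (The source states this for coherent
modules on a Noetherian scheme with a dualizing complex.) -/
theorem result (A : Type u) [CommRing A] [IsNoetherianRing A] (hA : ∃ ω : Dual.D A, Dual.IsDualizing A ω) (M : Type u) [AddCommGroup M] [Module A M] [Module.Finite A M] (k : ℕ) (hM : LocCoh.HasSk k A M) : Set.Finite {p : PrimeSpectrum A | LocCoh.depth (Localization.AtPrime p.asIdeal) (LocalizedModule p.asIdeal.primeCompl M) = k ∧ (k : WithBot ℕ∞) < Module.supportDim (Localization.AtPrime p.asIdeal) (LocalizedModule p.asIdeal.primeCompl M)} := by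
  classical
  obtain ⟨ω, hω⟩ := hA
  obtain ⟨lo, hlo⟩ := Groth.Agent.CAlgH3.DT.exists_deg_bound hω
  obtain ⟨lo', hi, hL⟩ := Groth.Agent.DualLib.exists_injAmplitude hω
  let U : Set (Ideal A) := ⋃ j ∈ (Set.Icc (lo - k) hi), ⋃ r ∈ (Module.annihilator A M).minimalPrimes,
    (Module.annihilator A (Groth.Agent.DualLib.E ω M j) ⊔ r).minimalPrimes
  have hU : U.Finite := (Set.finite_Icc _ _).biUnion fun j _ =>
    (Ideal.finite_minimalPrimes_of_isNoetherianRing A _).biUnion fun r _ =>
      Ideal.finite_minimalPrimes_of_isNoetherianRing A _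
  refine Set.Finite.of_finite_image (f := PrimeSpectrum.asIdeal) (hU.subset ?_) fun a _ b _ h => PrimeSpectrum.ext h
  rintro _ ⟨p, ⟨hdep, hdim⟩, rfl⟩
  have hp : p ∈ Module.support A M := by
    by_contra hp
    haveI : Subsingleton (LocalizedModule p.asIdeal.primeCompl M) := not_nontrivial_iff_subsingleton.1 hp
    rw [Module.supportDim_eq_bot_of_subsingleton] at hdim
    exact not_lt_bot hdim
  obtain ⟨d, hd, hdall, r, hr, hrp, hrmin, hrd⟩ := Groth.Agent.DualLib.exists_localDim hω p M hp
  rw [hd] at hdim
  have hkd : k < d := by exact_mod_cast hdim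
  obtain ⟨-, htop⟩ := Groth.Agent.DualLib.localDepth_spec hω p k M hp hdep
  have hfinE : ∀ j : ℤ, Module.Finite A (Groth.Agent.DualLib.E ω M j) := fun j =>
    Groth.Agent.DualLib.finite_hom_of_injAmp hL hω.finite_cohomology _
      (Groth.Agent.CAlgH3.DT.finite_HD_inD M) j
  let j := Groth.Agent.DualLib.deg hω p - k
  haveI := hfinE j
  have hrmem : r.asIdeal ∈ (Module.annihilator A M).minimalPrimes := ⟨⟨r.2, Module.annihilator_le_of_mem_support hr⟩,
    fun P hP hPr => (congrArg PrimeSpectrum.asIdeal (hrmin ⟨P, hP.1⟩ (Module.mem_support_iff_of_finite.2 hP.2) hPr)).ge⟩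
  have hjmem : j ∈ Set.Icc (lo - (k : ℤ)) hi := by
    refine ⟨by have := hlo p; simp only [j]; omega, ?_⟩
    by_contra hc
    haveI : Subsingleton (Groth.Agent.DualLib.E ω M j) :=
      Groth.Agent.DualLib.subsingleton_hom_of_isGE hL _ 0 j (by omega)
    exact Groth.Agent.DualLib.notMem_support_of_subsingleton p htop
  simp only [U, Set.mem_iUnion]
  refine ⟨j, hjmem, r.asIdeal, hrmem, ⟨p.2, sup_le (Module.annihilator_le_of_mem_support htop) hrp⟩, fun P hP hPp => ?_⟩
  by_contra hne
  let q : PrimeSpectrum A := ⟨P, hP.1⟩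
  haveI : q.asIdeal.IsPrime := hP.1
  have hqp : q < p := lt_of_le_of_ne hPp fun e => hne (congrArg PrimeSpectrum.asIdeal e).ge
  have hqE : q ∈ Module.support A (Groth.Agent.DualLib.E ω M j) :=
    Module.mem_support_iff_of_finite.2 (le_sup_left.trans hP.2)
  have hrq : r ≤ q := le_sup_right.trans hP.2
  have hqM : q ∈ Module.support A M := Module.mem_support_mono hrq hr
  obtain ⟨d', hd', hdall', -⟩ := Groth.Agent.DualLib.exists_localDim hω q M hqM
  obtain ⟨n, hn⟩ : ∃ n : ℕ, LocCoh.depth (Localization.AtPrime q.asIdeal) (LocalizedModule q.asIdeal.primeCompl M) = n := by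
    haveI : Nontrivial (LocalizedModule q.asIdeal.primeCompl M) := hqM
    haveI : Module.Finite (Localization.AtPrime q.asIdeal) (LocalizedModule q.asIdeal.primeCompl M) :=
      Module.Finite.of_isLocalizedModule q.asIdeal.primeCompl (LocalizedModule.mkLinearMap q.asIdeal.primeCompl M)
    exact (ENat.ne_top_iff_exists.1 Groth.Agent.CAlgH3.depth_lt_top.ne).imp fun n h => h.symm
  obtain ⟨hvan, -⟩ := Groth.Agent.DualLib.localDepth_spec hω q n M hqM hn
  have h1 : j ≤ Groth.Agent.DualLib.deg hω q - n := by
    by_contra hc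
    exact hvan j (by omega) hqE
  have h2 := hM q.asIdeal
  rw [hd', hn] at h2
  have h3 : k ≤ n ∨ d' ≤ n := (min_le_iff.1 h2).imp (fun h => by exact_mod_cast h) fun h => by exact_mod_cast h
  have h4 := hdall' r hr hrq
  have h5 := Groth.Agent.DualLib.deg_lt hω hqp
  simp only [j] at h1
  omega


end Groth.Agent.S1715
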