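import Groth.Statements.S17157
import Groth.Agent.IsocLib.FiniteField

set_option autoImplicit false
universe u
open Isoc

namespace Groth.Agent.S17157

/-- Let k be a finite field of characteristic p, W = W(k), L its fraction field with Frobenius σ, and
let U be the σ-semilinear endomorphism of L² = (Fin 2 → L) determined by U(e₀) = e₀ and U(e₁) = e₀ +
e₁ on the standard basis. Then (L², U) is an F-isocrystal in which the sub-isocrystal L · e₀ admits
no U-stable complementary L-subspace; in particular the category of F-isocrystals over a finite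
field is not semisimple. (Over an algebraically closed field a complement exists.) -/
theorem result
    (p : ℕ) [Fact p.Prime] (k : Type u) [Field k] [CharP k p] [PerfectRing k p] [Finite k]
    (U : (Fin 2 → (FractionRing (WittVector p k))) →ₛₗ[Isoc.frob p k 1] (Fin 2 → (FractionRing (WittVector p k))))
    (hU0 : U (Pi.single 0 1) = Pi.single 0 1)
    (hU1 : U (Pi.single 1 1) = Pi.single 0 1 + Pi.single 1 1)
    (Q : Submodule (FractionRing (WittVector p k)) (Fin 2 → (FractionRing (WittVector p k)))) (hQ : ∀ x ∈ Q, U x ∈ Q) :
    ¬ IsCompl (Submodule.span (FractionRing (WittVector p k)) {(Pi.single 0 1 : Fin 2 → (FractionRing (WittVector p k)))}) Q := by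
  intro hc
  haveI := Fintype.ofFinite k
  obtain ⟨m, -, hk⟩ := FiniteField.card k p
  have h1 : (Pi.single 1 1 : Fin 2 → FractionRing (WittVector p k)) ∈
      Submodule.span (FractionRing (WittVector p k))
        {(Pi.single 0 1 : Fin 2 → FractionRing (WittVector p k))} ⊔ Q := by
    rw [hc.sup_eq_top]; trivial
  obtain ⟨y, hy, q, hq, hyq⟩ := Submodule.mem_sup.mp h1
  obtain ⟨c, rfl⟩ := Submodule.mem_span_singleton.mp hy
  obtain rfl : q = Pi.single 1 1 - c • Pi.single 0 1 := eq_sub_of_add_eq' hyq
  have h2 := sub_mem hq (hQ _ hq)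
  rw [map_sub, map_smulₛₗ, hU0, hU1] at h2
  have h3 : (Pi.single 1 1 - c • Pi.single 0 1 -
      (Pi.single 0 1 + Pi.single 1 1 - Isoc.frob p k 1 c • Pi.single 0 1) :
        Fin 2 → FractionRing (WittVector p k)) = (Isoc.frob p k 1 c - c - 1) • Pi.single 0 1 := by
    rw [sub_smul, sub_smul, one_smul]
    abel
  rw [h3] at h2
  have h4 := Submodule.disjoint_def.mp hc.disjoint _
    (Submodule.smul_mem _ _ (Submodule.mem_span_singleton_self _)) h2
  have h5 : Isoc.frob p k 1 c = c + 1 := by
    have := congrFun h4 0
    simp at this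
    linear_combination this
  have h6 : ∀ n : ℕ, (⇑(Isoc.frob p k 1))^[n] c = c + n := by
    intro n
    induction n with
    | zero => simp
    | succ n ih =>
      rw [Function.iterate_succ_apply', ih, map_add, map_natCast, h5]
      push_cast
      ring
  have h7 := h6 (m : ℕ)
  rw [Groth.Agent.IsocLib.iterate_frob_card hk] at h7
  exact Groth.Agent.IsocLib.natCast_ne_zero (n := (m : ℕ)) m.ne_zero (by linear_combination -h7)

end Groth.Agent.S17157
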