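import Groth.Statements.S1717
import Groth.Agent.CAlgH3.CatenaryS2Equidim
import Groth.Agent.CAlgH3.Serre
import Mathlib

set_option autoImplicit false
universe u
open LocCoh

namespace Groth.Agent.S1717

/-- Let A be a catenary Noetherian local ring satisfying Serre's condition (S_2). Then Spec A is
equidimensional: for every minimal prime p of A the dimension of A/p equals the dimension of A. -/
theorem result (A : Type u) [CommRing A] [IsLocalRing A] [IsNoetherianRing A] (hc : CAlg.IsCatenary A) (hS : LocCoh.HasSk 2 A A) (p : Ideal A) (hp : p ∈ minimalPrimes A) : ringKrullDim (A ⧸ p) = ringKrullDim A := by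
  refine Groth.Agent.CAlgH3.CatenaryS2Equidim.ringKrullDim_quotient_eq hc (fun q hq => ?_) p hp
  have h := (Groth.Agent.CAlgH3.hasSk_self_iff 2).1 hS q.asIdeal
  rw [IsLocalization.AtPrime.ringKrullDim_eq_height q.asIdeal (Localization.AtPrime q.asIdeal),
    ← WithBot.coe_natCast, ← WithBot.coe_min, WithBot.coe_le_coe] at h
  exact (le_min le_rfl hq).trans h

end Groth.Agent.S1717
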