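import Groth.Statements.S17171
import Mathlib
import Groth.Prelude

set_option linter.all false

set_option autoImplicit false
open QSymFn

open TensorProduct Polynomial

namespace Groth.Agent.S17171

section
variable (f : (n : ℕ) → MvPolynomial (Fin n) ℤ)
  (hf : ∀ (n m : ℕ) (φ : Fin n ↪o Fin m) (e : Fin n →₀ ℕ), MvPolynomial.coeff e (f n) = MvPolynomial.coeff (Finsupp.mapDomain φ e) (f m))

noncomputable def bd (e : ℕ →₀ ℕ) : ℕ := e.support.sup id + 1

noncomputable def limF : MvPowerSeries ℕ ℤ := fun e =>
  MvPolynomial.coeff (e.comapDomain (Fin.val : Fin (bd e) → ℕ) Fin.val_injective.injOn) (f (bd e))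

theorem exists_mapDomain (e : ℕ →₀ ℕ) : Finsupp.mapDomain (Fin.val : Fin (bd e) → ℕ)
    (e.comapDomain (Fin.val : Fin (bd e) → ℕ) Fin.val_injective.injOn) = e := by
  refine Finsupp.mapDomain_comapDomain _ Fin.val_injective _ fun x hx => ?_
  exact ⟨⟨x, Nat.lt_succ_of_le (Finset.le_sup (f := id) hx)⟩, rfl⟩

include hf in
theorem limF_apply {n : ℕ} (e : Fin n →₀ ℕ) :
    MvPowerSeries.coeff (Finsupp.mapDomain Fin.val e) (limF f) = MvPolynomial.coeff e (f n) := by
  let E := Finsupp.mapDomain (Fin.val : Fin n → ℕ) e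
  show MvPolynomial.coeff (E.comapDomain (Fin.val : Fin (bd E) → ℕ) Fin.val_injective.injOn) (f (bd E)) = _
  rw [hf n (max n (bd E)) (Fin.castLEOrderEmb (le_max_left _ _)) e,
    hf (bd E) (max n (bd E)) (Fin.castLEOrderEmb (le_max_right _ _))]
  congr 1
  apply Finsupp.mapDomain_injective Fin.val_injective
  rw [← Finsupp.mapDomain_comp, ← Finsupp.mapDomain_comp]
  exact exists_mapDomain E
end

theorem degree_mapDomain' {α β : Type*} (g : α → β) (e : α →₀ ℕ) : (Finsupp.mapDomain g e).degree = e.degree := by
  induction e using Finsupp.induction with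
  | zero => simp
  | single_add a b e _ _ ih => simp [Finsupp.mapDomain_add, ih]

/-- The ring QSym of quasisymmetric functions over ℤ, with its restriction maps to the polynomial rings
in finitely many ordered variables, is the limit of the diagram S ↦ ℤ[α_s : s ∈ S] over finite
ordered sets S and order-preserving injections (an injection φ : S → T acting by α_t ↦ α_s when t =
φ s and α_t ↦ 0 otherwise), the limit being taken in graded rings. Stated here on degree-d
components, with the variables indexed by ℕ in place of the positive integers and the finite ordered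
sets taken to be the Fin n: (a) if F is a formal power series over ℤ in variables indexed by ℕ which
is quasisymmetric (for strictly increasing i, j : Fin ℓ → ℕ and positive exponents a, the
coefficients of ∏ x_{i t}^{a t} and ∏ x_{j t}^{a t} agree) and all of whose monomials have degree d,
then its restrictions to the initial segments Fin n ⊂ ℕ are compatible with every order embedding
Fin n ↪o Fin m; (b) every family of degree-d homogeneous polynomials f n ∈ ℤ[x_s : s ∈ Fin n],
compatible with all order embeddings Fin n ↪o Fin m in this sense, is the family of restrictions of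
exactly one such quasisymmetric F of degree d. -/
theorem result (d : ℕ) :
    (∀ F : MvPowerSeries ℕ ℤ,
      (∀ (ℓ : ℕ) (i j : Fin ℓ → ℕ) (a : Fin ℓ → ℕ), StrictMono i → StrictMono j → (∀ t, 0 < a t) →
        MvPowerSeries.coeff (∑ t : Fin ℓ, Finsupp.single (i t) (a t)) F =
          MvPowerSeries.coeff (∑ t : Fin ℓ, Finsupp.single (j t) (a t)) F) →
      (∀ e : ℕ →₀ ℕ, MvPowerSeries.coeff e F ≠ 0 → e.degree = d) →
      ∀ (n m : ℕ) (φ : Fin n ↪o Fin m) (e : Fin n →₀ ℕ),
        MvPowerSeries.coeff (Finsupp.mapDomain Fin.val e) F =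
          MvPowerSeries.coeff (Finsupp.mapDomain Fin.val (Finsupp.mapDomain φ e)) F) ∧
    (∀ f : (n : ℕ) → MvPolynomial (Fin n) ℤ,
      (∀ n, (f n).IsHomogeneous d) →
      (∀ (n m : ℕ) (φ : Fin n ↪o Fin m) (e : Fin n →₀ ℕ),
        MvPolynomial.coeff e (f n) = MvPolynomial.coeff (Finsupp.mapDomain φ e) (f m)) →
      ∃! F : MvPowerSeries ℕ ℤ,
        (∀ (ℓ : ℕ) (i j : Fin ℓ → ℕ) (a : Fin ℓ → ℕ), StrictMono i → StrictMono j → (∀ t, 0 < a t) →
          MvPowerSeries.coeff (∑ t : Fin ℓ, Finsupp.single (i t) (a t)) F =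
            MvPowerSeries.coeff (∑ t : Fin ℓ, Finsupp.single (j t) (a t)) F) ∧
        (∀ e : ℕ →₀ ℕ, MvPowerSeries.coeff e F ≠ 0 → e.degree = d) ∧
        (∀ (n : ℕ) (e : Fin n →₀ ℕ),
          MvPowerSeries.coeff (Finsupp.mapDomain Fin.val e) F = MvPolynomial.coeff e (f n))) := by
  classical
  refine ⟨fun F hF _ n m φ e => ?_, fun f hhom hf => ?_⟩
  · let i : Fin e.support.card → Fin n := e.support.orderEmbOfFin rfl
    have he : e = ∑ t, Finsupp.single (i t) (e (i t)) := by
      conv_lhs => rw [← Finsupp.sum_single e]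
      rw [Finsupp.sum, ← Finset.sum_image (f := fun x => Finsupp.single x (e x))
        (fun a _ b _ h => (e.support.orderEmbOfFin rfl).injective h), Finset.image_orderEmbOfFin_univ]
    have h := hF e.support.card (fun t => (i t : ℕ)) (fun t => (φ (i t) : ℕ)) (fun t => e (i t))
      (fun a b hab => (e.support.orderEmbOfFin rfl).strictMono hab)
      (fun a b hab => φ.strictMono ((e.support.orderEmbOfFin rfl).strictMono hab))
      (fun t => Nat.pos_of_ne_zero (Finsupp.mem_support_iff.1 (Finset.orderEmbOfFin_mem _ _ t)))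
    conv_lhs => rw [he]
    conv_rhs => rw [he]
    simpa only [Finsupp.mapDomain_finset_sum, Finsupp.mapDomain_single] using h
  · refine ⟨limF f, ⟨fun ℓ i j a hi hj _ => ?_, fun e he => ?_, fun n e => limF_apply f hf e⟩, fun G hG => ?_⟩
    · have key : ∀ i : Fin ℓ → ℕ, StrictMono i → MvPowerSeries.coeff (∑ t : Fin ℓ, Finsupp.single (i t) (a t)) (limF f) =
          MvPolynomial.coeff (∑ t : Fin ℓ, Finsupp.single t (a t)) (f ℓ) := by
        intro i hi
        let N := Finset.univ.sup i + 1
        let φ : Fin ℓ ↪o Fin N := OrderEmbedding.ofStrictMono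
          (fun t => ⟨i t, Nat.lt_succ_of_le (Finset.le_sup (Finset.mem_univ t))⟩) hi
        rw [hf ℓ N φ, ← limF_apply f hf (n := N)]
        congr 1
        simp [Finsupp.mapDomain_finset_sum, Finsupp.mapDomain_single, φ, OrderEmbedding.ofStrictMono]
      rw [key i hi, key j hj]
    · change MvPolynomial.coeff _ (f (bd e)) ≠ 0 at he
      rw [← exists_mapDomain e, degree_mapDomain', Finsupp.degree_eq_weight_one]
      exact hhom _ he
    · ext e
      conv_lhs => rw [← exists_mapDomain e]
      conv_rhs => rw [← exists_mapDomain e]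
      rw [hG.2.2, limF_apply f hf]

end Groth.Agent.S17171
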