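import Groth.Statements.S17174
import Groth.Agent.GraphLib.Cuts

set_option autoImplicit false
universe u
open LabGraph

namespace Groth.Agent.S17174

open LabGraph in
/-- Let Γ be the weighted dual graph of a Deligne–Mumford semistable curve X of genus g ≥ 3 over an
algebraically closed field (connected; every weight-zero vertex without loop is joined to the other
vertices by at least two edges), and let d, d' be two multidegrees of the same (arbitrary) total
degree D (g ≥ 3 being the paper's standing assumption) which both satisfy the Basic Inequality and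
lie in the same degree class (d - d' is a twist). Then d - d' can be written in normal form: there
is a labelling h of the vertices by natural numbers taking exactly the values 0, 1, …, q, with d -
d' equal to the twist of h (that is, d - d' = Σ_v h(v)·c_v with c_v the multidegree of O(C_v)), such
that for distinct levels i ≠ j in {0, …, q} the subcurves on h⁻¹(i) and h⁻¹(j) meet (some edge joins
the two levels) exactly when |i - j| = 1. -/
theorem result {V E : Type u} [Fintype V] [Fintype E]
    [DecidableEq V] [DecidableEq E] (ends : E → V × V) (w : V → ℕ) (hX : IsSemistableGraph ends w)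
    (hg : 3 ≤ genus ends w) (d d' : V → ℤ)
    (hBI : SatisfiesBI ends w d) (hBI' : SatisfiesBI ends w d') (heq : TwistEquiv ends d d') :
    ∃ (q : ℕ) (h : V → ℕ), (∀ v : V, h v ≤ q) ∧ (∀ i : ℕ, i ≤ q → ∃ v : V, h v = i) ∧
      (∀ v : V, d v - d' v = twist ends (fun u => (h u : ℤ)) v) ∧
      (∀ i j : ℕ, i ≤ q → j ≤ q → i ≠ j →
        ((∃ e : E, (h (ends e).1 = i ∧ h (ends e).2 = j) ∨ (h (ends e).1 = j ∧ h (ends e).2 = i)) ↔
          (i + 1 = j ∨ j + 1 = i))) := by
  classical
  obtain ⟨φ, hφ⟩ := heq
  obtain ⟨⟨v₀⟩, hconn⟩ := hX.1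
  obtain ⟨m, -, hm⟩ := Finset.exists_min_image Finset.univ φ ⟨v₀, Finset.mem_univ v₀⟩
  have hmin : ∀ v, φ m ≤ φ v := fun v => hm v (Finset.mem_univ v)
  have hK : 0 < canDeg ends w Finset.univ := by rw [Groth.Agent.GraphLib.canDeg_univ]; omega
  have hedge : ∀ e : E, |φ (ends e).1 - φ (ends e).2| ≤ 1 := by
    have key : ∀ (e : E) (a b : V), (ends e = (a, b) ∨ ends e = (b, a)) → φ a < φ b → φ b - φ a ≤ 1 := by
      intro e a b he hab
      by_contra hgt
      let Y := Finset.univ.filter fun v => φ b ≤ φ v
      have hsum : (∑ v : V, d' v) = ∑ v : V, d v := by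
        have := Groth.Agent.GraphLib.twist_total ends φ
        simp only [← hφ, Finset.sum_sub_distrib] at this
        linarith
      have hd : Groth.Agent.GraphLib.dev ends w d Y - Groth.Agent.GraphLib.dev ends w d' Y =
          canDeg ends w Finset.univ * ∑ v ∈ Y, twist ends φ v := by
        simp only [Groth.Agent.GraphLib.dev, ← hφ, Finset.sum_sub_distrib, hsum]
        ring
      have h1 : 2 * |Groth.Agent.GraphLib.dev ends w d Y| ≤ (cut ends Y : ℤ) * canDeg ends w Finset.univ := hBI Y
      have h2 : 2 * |Groth.Agent.GraphLib.dev ends w d' Y| ≤ (cut ends Y : ℤ) * canDeg ends w Finset.univ := hBI' Y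
      have hlt : ∑ v ∈ Y, twist ends φ v < -(cut ends Y : ℤ) := by
        rw [Groth.Agent.GraphLib.twist_sum, Groth.Agent.GraphLib.cut_eq, ← Finset.sum_neg_distrib]
        refine Finset.sum_lt_sum (fun x _ => ?_) ⟨e, Finset.mem_univ e, ?_⟩
        · simp only [Groth.Agent.GraphLib.chi, Y, Finset.mem_filter, Finset.mem_univ, true_and]
          by_cases h1 : φ b ≤ φ (ends x).1 <;> by_cases h2 : φ b ≤ φ (ends x).2 <;> simp [h1, h2] <;> omega
        · simp only [Groth.Agent.GraphLib.chi, Y, Finset.mem_filter, Finset.mem_univ, true_and]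
          rcases he with he | he <;> simp [he, not_le.2 hab] <;> omega
      have h3 := mul_lt_mul_of_pos_left hlt hK
      rw [← hd] at h3
      have := abs_le.1 (le_refl |Groth.Agent.GraphLib.dev ends w d Y|)
      have := abs_le.1 (le_refl |Groth.Agent.GraphLib.dev ends w d' Y|)
      nlinarith
    intro e
    rw [abs_le]
    rcases lt_trichotomy (φ (ends e).1) (φ (ends e).2) with h | h | h
    · have := key e _ _ (Or.inl rfl) h; omega
    · omega
    · have := key e _ _ (Or.inr rfl) h; omega
  let h : V → ℕ := fun v => (φ v - φ m).toNat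
  have hh : ∀ v, (h v : ℤ) = φ v - φ m := fun v => Int.toNat_of_nonneg (by linarith [hmin v])
  have hstep : ∀ e : E, h (ends e).1 ≤ h (ends e).2 + 1 ∧ h (ends e).2 ≤ h (ends e).1 + 1 := fun e => by
    have := abs_le.1 (hedge e)
    have := hh (ends e).1
    have := hh (ends e).2
    omega
  obtain ⟨M, -, hM⟩ := Finset.exists_max_image Finset.univ h ⟨v₀, Finset.mem_univ v₀⟩
  have hcross : ∀ i, i < h M → ∃ e : E, (h (ends e).1 = i ∧ h (ends e).2 = i + 1) ∨
      (h (ends e).1 = i + 1 ∧ h (ends e).2 = i) := by
    intro i hi
    have hm0 : h m = 0 := by simp [h]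
    have hp := hconn m M
    have : ∀ x, Relation.ReflTransGen (Adj ends) x M → h x ≤ i → ∃ e : E,
        (h (ends e).1 = i ∧ h (ends e).2 = i + 1) ∨ (h (ends e).1 = i + 1 ∧ h (ends e).2 = i) := by
      intro x hx
      induction hx using Relation.ReflTransGen.head_induction_on with
      | refl => intro hle; omega
      | @head x y hxy _ ih =>
        intro hle
        by_cases hy : h y ≤ i
        · exact ih hy
        · obtain ⟨e, he⟩ := hxy
          refine ⟨e, ?_⟩
          have := hstep e
          rcases he with he | he <;> simp only [he] at this ⊢ <;> omega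
    exact this m hp (by omega)
  refine ⟨h M, h, fun v => hM v (Finset.mem_univ v), fun i hi => ?_, fun v => ?_, fun i j hi hj hij => ?_⟩
  · rcases lt_or_eq_of_le hi with hi | hi
    · obtain ⟨e, he | he⟩ := hcross i hi
      · exact ⟨_, he.1⟩
      · exact ⟨_, he.2⟩
    · exact ⟨M, hi.symm⟩
  · rw [hφ v]
    simp only [twist, hh, sub_sub_sub_cancel_right]
  · constructor
    · rintro ⟨e, he⟩
      have := hstep e
      omega
    · rintro (hi' | hj')
      · obtain ⟨e, he⟩ := hcross i (by omega)
        exact ⟨e, by rcases he with he | he <;> omega⟩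
      · obtain ⟨e, he⟩ := hcross j (by omega)
        exact ⟨e, by rcases he with he | he <;> omega⟩

end Groth.Agent.S17174
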