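import Groth.Statements.S17176
import Mathlib

set_option autoImplicit false
open Curves

namespace Groth.Agent.S17176

/-- Fix integers g ≥ 3 and d. For a complete subcurve Y of arithmetic genus g_Y of a nodal curve of
genus g, meeting the rest of the curve in k points, the lower extreme of the Basic Inequality for
line bundles of degree d is m = d(2g_Y - 2 + k)/(2g - 2) - k/2, which is an integer exactly when 2(g
- 1) divides d(2g_Y - 2 + k) - k(g - 1). Then gcd(d - g + 1, 2g - 2) = 1 if and only if m is not an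
integer for all integers g_Y, k with 0 < g_Y < g - 1, k ≥ 1 and k + 2g_Y - 2 < 2g - 2. (The row
makes explicit the bound 2g_Y - 2 + k < 2g - 2, which is automatic for subcurves of stable curves
and is satisfied by every subcurve to which the source applies the lemma; the source leaves the
ambient curve's class implicit.) -/
theorem result (g d : ℤ) (hg : 3 ≤ g) :
    Int.gcd (d - g + 1) (2 * g - 2) = 1 ↔
      ∀ gY k : ℤ, 0 < gY → gY < g - 1 → 1 ≤ k → k + 2 * gY - 2 < 2 * g - 2 →
        ¬ (2 * (g - 1) ∣ d * (2 * gY - 2 + k) - k * (g - 1)) := by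
  have key : ∀ gY k : ℤ, (2 * (g - 1) ∣ d * (2 * gY - 2 + k) - k * (g - 1)) ↔
      (2 * g - 2 ∣ (2 * gY - 2 + k) * (d - g + 1)) := fun gY k => by
    rw [show (2 * gY - 2 + k) * (d - g + 1) = (d * (2 * gY - 2 + k) - k * (g - 1)) + 2 * (g - 1) * (1 - gY) by ring,
      show 2 * g - 2 = 2 * (g - 1) by ring, dvd_add_left (dvd_mul_right _ _)]
  simp only [key]
  constructor
  · intro h gY k h1 h2 h3 h4 hdvd
    have hd := (Int.isCoprime_iff_gcd_eq_one.mpr h).symm.dvd_of_dvd_mul_right hdvd
    have := Int.le_of_dvd (by omega) hd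
    omega
  · intro h
    by_contra hg1
    set G : ℕ := Int.gcd (d - g + 1) (2 * g - 2) with hG
    have hG0 : G ≠ 0 := fun e => by
      have := (Int.gcd_eq_zero_iff.mp (hG.symm.trans e)).2
      omega
    obtain ⟨a, ha⟩ : (G : ℤ) ∣ d - g + 1 := Int.gcd_dvd_left _ _
    obtain ⟨b, hb⟩ : (G : ℤ) ∣ 2 * g - 2 := Int.gcd_dvd_right _ _
    have hG2 : (2 : ℤ) ≤ G := by omega
    have hb1 : 1 ≤ b := by
      by_contra hc
      have : (G : ℤ) * b ≤ 0 := mul_nonpos_of_nonneg_of_nonpos (by omega) (by omega)
      omega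
    have hb2 : b + b ≤ 2 * g - 2 := by
      have : 2 * b ≤ (G : ℤ) * b := mul_le_mul_of_nonneg_right hG2 (by omega)
      omega
    refine h 1 b one_pos (by omega) hb1 (by omega) ⟨a, ?_⟩
    rw [ha, hb]; ring

end Groth.Agent.S17176
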