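import Groth.Statements.S17177
import Groth.Agent.NormalSheaf3.Dual
import Groth.Agent.EulerPn5.SplitPull
import Groth.Agent.Dual22Lib.ProjSmooth
import Groth.Agent.CurveLib.ProjLine
import Groth.Agent.CycLib28.InterPull
import Groth.Agent.CurveRR24.Sky
import Groth.Agent.Coherent.Existence.HomAffine
import Groth.Agent.VarietyLib.GeomComponents

set_option autoImplicit false
universe u
open CategoryTheory CategoryTheory.Limits AlgebraicGeometry
attribute [local instance] HasDerivedCategory.standard
open Curves
open Groth.Agent.Coherent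

set_option backward.isDefEq.respectTransparency false
set_option linter.style.haveILetI false
set_option maxHeartbeats 1000000

namespace Groth.Agent.S17177

/-- Let k be an algebraically closed field, r ≥ 1, and X ⊆ P^r_k a closed subscheme, cut out by a
quasi-coherent ideal sheaf I, which is a connected nodal curve: reduced, connected, of dimension
one, with at-worst-nodal singularities over k. Suppose H^1(X, O_X(1)) = 0, O_X(1) being the
pull-back of O(1). Let N = Hom_{O_X}(I/I², O_X) be the normal sheaf (the sheaf Hom, assumed to exist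
as the right adjoint of tensoring with the conormal sheaf I/I²). Then H^1(X, N) = 0. (In the paper X
is a curve of degree d ≥ 20(g - 1) and genus g ≥ 3 whose Hilbert point is semistable, for which
H^1(X, O_X(1)) = 0 holds, and the vanishing is used to conclude that the Hilbert scheme is
nonsingular of dimension r(r + 2) + 4g - 3 at the point of X; that deduction, through the
identification of the tangent space with H^0(X, N) and Riemann–Roch, is not part of this row.) -/
theorem result
    (k : Type u) [Field k] [IsAlgClosed k] (r : ℕ) (hr : 1 ≤ r)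
    (I₀ : (CohB1.ProjSpace r k).IdealSheafData) [I₀.subscheme.Over (Spec (CommRingCat.of k))]
    (hX : I₀.subscheme ↘ Spec (CommRingCat.of k) = I₀.subschemeι ≫ (CohB1.ProjSpace r k ↘ Spec (CommRingCat.of k)))
    [IsReduced I₀.subscheme] [ConnectedSpace I₀.subscheme] (hdim : topologicalKrullDim I₀.subscheme = 1)
    (hnod : Curv2.AtWorstNodal k I₀.subscheme)
    (h1 : Subsingleton (Coh.HH I₀.subscheme
      ((Scheme.Modules.pullback I₀.subschemeι).obj (Twist.twistProjSpace r k 1)) 1))
    [DCoh.HasSheafHom (Omega.conormal I₀.subschemeι)] :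
    Subsingleton (Coh.HH I₀.subscheme
      ((DCoh.sheafHom (Omega.conormal I₀.subschemeι)).obj (Coh.structureModule I₀.subscheme)) 1) := by
  classical
  let P := CohB1.ProjSpace r k
  let p : P ⟶ Spec (CommRingCat.of k) := CohB1.ProjSpace.toSpec r k
  let X := I₀.subscheme
  let i : X ⟶ P := I₀.subschemeι
  haveI : IsProper p := CurveLib.isProper_projSpace k r
  haveI : Smooth p := Dual22Lib.ProjSmooth.smooth_toSpec r k
  haveI : QuasiSeparated (CohB1.ProjSpace.toSpec r k) := (inferInstance : QuasiSeparated p)
  have hXp : X ↘ Spec (CommRingCat.of k) = i ≫ p := hX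
  haveI : IsProper (X ↘ Spec (CommRingCat.of k)) := by rw [hXp]; infer_instance
  haveI : LocallyOfFiniteType (i ≫ p) := inferInstance
  haveI := EulerLib.isNoetherian_of_proper k (X := X)
  haveI : IsLocallyNoetherian P := LocallyOfFiniteType.isLocallyNoetherian p
  let hd := OmegaLib.isUniversal_dOmega p
  obtain ⟨φ, hφ⟩ := Omega15.exists_conormalDiff i (OmegaSh.dOmega p)
  obtain ⟨f, g, w, hS⟩ := EulerPn5.exists_euler_seq r k
  let N : P.Modules := Twist.twistProjSpace r k (-1)
  obtain ⟨e⟩ := EulerPn5.nonempty_mpow_fin N (r + 1)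
  let pi : Fin (r + 1) → (EulerPn5.mpow N (r + 1) ⟶ N) := fun l =>
    e.hom ≫ Sigma.π (fun _ : Fin (r + 1) => N) l
  let io : Fin (r + 1) → (N ⟶ EulerPn5.mpow N (r + 1)) := fun l =>
    Sigma.ι (fun _ : Fin (r + 1) => N) l ≫ e.inv
  have hsum : ∑ l, pi l ≫ io l = 𝟙 (EulerPn5.mpow N (r + 1)) := by
    have h0 : ∑ j, Sigma.π (fun _ : Fin (r + 1) => N) j ≫ Sigma.ι (fun _ : Fin (r + 1) => N) j = 𝟙 _ := by
      refine Sigma.hom_ext _ _ fun i => ?_
      rw [Preadditive.comp_sum, Category.comp_id, Finset.sum_eq_single i
        (fun j _ hj => by rw [Sigma.ι_π_of_ne_assoc _ hj.symm, zero_comp])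
        (fun h => absurd (Finset.mem_univ i) h)]
      rw [Sigma.ι_π_eq_id_assoc]
    have h1 : ∀ l, pi l ≫ io l =
        e.hom ≫ ((Sigma.π (fun _ : Fin (r + 1) => N) l ≫ Sigma.ι (fun _ : Fin (r + 1) => N) l) ≫ e.inv) :=
      fun l => by simp only [pi, io, Category.assoc]
    rw [Finset.sum_congr rfl fun l _ => h1 l, ← Preadditive.comp_sum, ← Preadditive.sum_comp, h0, Category.id_comp,
      e.hom_inv_id]
  let L : X.Modules := (Scheme.Modules.pullback i).obj (Twist.twistProjSpace r k 1)
  let L' : X.Modules := (Scheme.Modules.pullback i).obj N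
  let δ : Fin (r + 1) → (Omega.conormal i ⟶ L') := fun l => φ ≫ (Scheme.Modules.pullback i).map (f ≫ pi l)
  have hL : PicF.IsInvertible L := PicLoc.isInvertible_pullback i (Coherent.isInvertible_twistProjSpaceZ r 1 k)
  obtain ⟨a₀⟩ := EulerPn5.nonempty_tt (n := r) (A := k) (show (-1 : ℤ) + 1 = 0 by norm_num)
  obtain ⟨b₀⟩ := EulerPn5.nonempty_twist0 (n := r) (A := k)
  obtain ⟨s₀⟩ := AmpleLib.exists_pullStructureIso i
  let a : CohB1.tensorMod L' L ≅ Coh.structureModule X :=
    (DCat.PullTensor.pullTensorIso i _ _).symm ≪≫ (Scheme.Modules.pullback i).mapIso (a₀ ≪≫ b₀) ≪≫ s₀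
  have hC : Coh.IsCoh (Omega.conormal i) :=
    CycLib28.InterSheaf.isCoh_pullback i (CurveRR24.isCoh_idealMod' i.ker)
  have hN : Coh.IsCoh (internalHom (Omega.conormal i) (Coh.structureModule X)) :=
    Existence.isCoh_internalHom hC (isCoh_structureModule X)
  have hgen : ∀ η ∈ genericPoints X, Function.Surjective
      ((DerSch.stalkFunctor X η).map (Sigma.desc fun l => NormalSheaf3.dualHom (δ l) a)) := by
    intro η hη
    have hK : IsField (X.presheaf.stalk η) :=
      MeroLib.isField_stalk_of_max (VarietyLib.mem_genericPoints_iff.1 hη)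
    let S₀ := (ShortComplex.mk f g w).map (DerSch.stalkFunctor P (i η))
    have hS₀ : S₀.ShortExact := hS.map_of_exact (DerSch.stalkFunctor P (i η))
    haveI : Projective S₀.X₃ := by
      haveI : Module.Projective (P.presheaf.stalk (i η))
          ((Coh.structureModule P).presheaf.stalk (i η)) := Module.Projective.of_equiv (SDiv28.unitStalkEquiv (i η))
      exact (IsProjective.iff_projective ((Coh.structureModule P).presheaf.stalk (i η) :)).1 inferInstance
    let spl := hS₀.splittingOfProjective
    have hinj := NormalSheaf3.injective_stalk_pullback i f η spl.r spl.f_r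
    have hφi := NormalSheaf3.injective_stalk_conormalDiff k p i hd hφ η hK
    refine NormalSheaf3.surjective_stalk_dual η hC hL a hK δ fun c hc => ?_
    refine (injective_iff_map_eq_zero ((DerSch.stalkFunctor X η).map φ).hom).1 hφi c ?_
    refine (injective_iff_map_eq_zero
      ((DerSch.stalkFunctor X η).map ((Scheme.Modules.pullback i).map f)).hom).1 hinj _ ?_
    have h1 : (Scheme.Modules.pullback i).map f =
        ∑ l, (Scheme.Modules.pullback i).map (f ≫ pi l) ≫ (Scheme.Modules.pullback i).map (io l) := by
      simp only [← Functor.map_comp, ← Functor.map_sum, Category.assoc, ← Preadditive.comp_sum, hsum]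
      exact congrArg (Scheme.Modules.pullback i).map (Category.comp_id f).symm
    show (DerSch.stalkFunctor X η).map ((Scheme.Modules.pullback i).map f) ((DerSch.stalkFunctor X η).map φ c) = 0
    rw [← ConcreteCategory.comp_apply, ← Functor.map_comp, h1, Preadditive.comp_sum, Functor.map_sum]
    show (∑ l, (DerSch.stalkFunctor X η).map (φ ≫ (Scheme.Modules.pullback i).map (f ≫ pi l) ≫
      (Scheme.Modules.pullback i).map (io l))).hom c = 0
    rw [ModuleCat.hom_sum, LinearMap.sum_apply]
    refine Finset.sum_eq_zero fun l _ => ?_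
    rw [← Category.assoc, Functor.map_comp]
    show (DerSch.stalkFunctor X η).map ((Scheme.Modules.pullback i).map (io l))
      ((DerSch.stalkFunctor X η).map (δ l) c) = 0
    rw [hc l, map_zero]
  have hE : Coh.IsQCoh (∐ fun _ : Fin (r + 1) => L) :=
    (CohBC.isCoh_of_isFinLocFree (DCat.PerfTensor.isFinLocFree_sigma _ fun _ =>
      SerreDual.isFinLocFree_of_invertible hL)).1
  haveI : Subsingleton (Coh.HH X L 1) := h1
  haveI hN' : Subsingleton (Coh.HH X ((internalHomFunctor (Omega.conormal i)).obj (Coh.structureModule X)) 1) :=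
    NormalSheaf3.subsingleton_h1_of_generic_epi k hdim.le hN _ hgen hE
  exact (SerreDual.hmapIso k ((sheafHomIso (Omega.conormal i)).app (Coh.structureModule X)) 1).toEquiv.subsingleton

end Groth.Agent.S17177
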