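import Groth.Statements.S17178
import Groth.Agent.Coherent.DevissageApps
import Groth.Agent.VarietyLib.DetDeg
import Groth.Agent.MeroLib.Torsion
import Groth.Agent.S7688
import Groth.Agent.DualLib.OmegaStalk
import Groth.Agent.EulerLib.StabBasic
-- import your own Groth.Agent.* helpers here

set_option autoImplicit false
universe u
set_option linter.style.haveILetI false
open CategoryTheory CategoryTheory.Limits AlgebraicGeometry
open Curves

namespace Groth.Agent.S17178
open Groth.Agent Groth.Agent.VarietyLib Groth.Agent.EulerLib Groth.Agent.CurveRR24 Groth.Agent.Coherent TopologicalSpace Opposite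

theorem eq_of_specializes {X : Scheme.{u}} {y z : X} (hz : z ∈ genericPoints X) (h : y ⤳ z) : y = z := by
  have h1 : closure ({z} : Set X) ⊆ closure {y} := specializes_iff_closure_subset.1 h
  exact (inseparable_iff_closure_eq.2 (h1.antisymm ((show closure ({z} : Set X) ∈ irreducibleComponents X from hz).2
    isIrreducible_singleton.closure h1)).symm).eq

/-- Let k be an algebraically closed field and X a nodal curve over k: proper over k, reduced,
connected, every irreducible component of dimension one, with at-worst-nodal singularities. Let J be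
a coherent O_X-module which is pure of dimension one (every nonzero coherent submodule has
one-dimensional support), for instance a pure quotient with one-dimensional support of a rank-one
torsion-free sheaf. Let U be an open subset and f a function on U vanishing at every point of U
lying in the support Y of J. Then f acts as zero on J over U: for every x ∈ U the germ of f at x
annihilates the stalk J_x. In other words the ideal sheaf of the reduced subcurve Y annihilates J,
so J is an O_Y-module; this is the first assertion in the proof that every such quotient q : I → J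
of a rank-one torsion-free I factors through the torsion-free restriction of I to Y, the remaining
assertion (that the induced map is an isomorphism) not being part of this row. -/
theorem result
    (k : Type u) [Field k] [IsAlgClosed k] (X : Scheme.{u}) [X.Over (Spec (CommRingCat.of k))]
    [IsProper (X ↘ Spec (CommRingCat.of k))] [IsReduced X] [ConnectedSpace X]
    (hequi : ∀ Z ∈ irreducibleComponents (X : Type u), topologicalKrullDim Z = 1)
    (hX : Curv2.AtWorstNodal k X)
    (J : X.Modules) (hJc : Coh.IsCoh J) (hJp : ShStab.IsPure X J 1)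
    (U : X.Opens) (f : X.presheaf.obj (Opposite.op U))
    (hf : ∀ x : X, x ∈ U → x ∈ CohB1.support J → x ∉ X.basicOpen f)
    (x : X) (hx : x ∈ U) (t : J.presheaf.stalk x) :
    (X.presheaf.germ U x hx f) • t = 0 := by
  haveI := isNoetherian_of_proper (X := X) k
  haveI : Nonempty X := ⟨x⟩
  have hdim : topologicalKrullDim X ≤ 1 := (DualLib.OmegaStalk.topologicalKrullDim_eq_of_components (X := X) (d := 1) fun Z hZ => hequi Z hZ).le
  obtain ⟨W₀, hxW₀, m, rfl⟩ := TopCat.Presheaf.exists_germ_eq J.presheaf t
  let W : X.Opens := W₀ ⊓ U
  let r : Γ(X, W) := X.presheaf.map (homOfLE (inf_le_right : W ≤ U)).op f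
  let a : Γ(J, W) := r • (J.presheaf.map (homOfLE (inf_le_left : W ≤ W₀)).op m)
  suffices ha : a = 0 by
    have h := congrArg (J.presheaf.germ W x (show x ∈ W from ⟨hxW₀, hx⟩)) ha
    rw [map_zero, QCohLoc.germ_smul', TopCat.Presheaf.germ_res_apply, TopCat.Presheaf.germ_res_apply] at h
    exact h
  let O : X.Opens := ⟨{z | ∃ hz : z ∈ W, J.presheaf.germ W z hz a = 0}, isOpen_iff_forall_mem_open.2 fun z ⟨hz, h0⟩ => by
      obtain ⟨V, hzV, i, i', he⟩ := TopCat.Presheaf.germ_eq J.presheaf z hz hz a 0 (h0.trans (map_zero _).symm)
      refine ⟨V, fun y hy => ⟨i.le hy, ?_⟩, V.2, hzV⟩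
      rw [← TopCat.Presheaf.germ_res_apply J.presheaf i y hy a, he, map_zero, map_zero]⟩
  let B : Set X := (W : Set X) ∩ (O : Set X)ᶜ
  have hgen : ∀ z ∈ B, z ∉ genericPoints X := by
    rintro z ⟨hz, hzO⟩ hg
    refine hzO ⟨hz, ?_⟩
    show J.presheaf.germ W z hz (r • J.presheaf.map (homOfLE (inf_le_left : W ≤ W₀)).op m) = 0
    rw [QCohLoc.germ_smul', TopCat.Presheaf.germ_res_apply X.presheaf]
    by_cases hs : z ∈ CohB1.support J
    · have hfld := MeroLib.isField_stalk_of_max (fun y hy =>
        eq_of_specializes hg hy) (x := z)
      have : X.presheaf.germ U z hz.2 f = 0 := by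
        by_contra hne
        refine hf z hz.2 hs ((X.mem_basicOpen f z hz.2).2 ?_)
        letI := hfld.toField
        exact isUnit_iff_ne_zero.2 hne
      rw [this, zero_smul]
    · haveI : Subsingleton (J.presheaf.stalk z) := not_not.1 hs
      exact Subsingleton.elim _ _
  have hcl : ∀ y ∈ closure B, y ∉ genericPoints X := fun y hy hg => by
    obtain ⟨g, hgB, hgy⟩ := S7688.exists_mem_specializes W.2 O.2.isClosed_compl hy
    exact hgen g hgB ((eq_of_specializes hg hgy).symm ▸ hg)
  obtain ⟨-, hsub⟩ := S7688.finite_of_isClosed_no_generic hdim isClosed_closure hcl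
  have hBc : IsClosed B := hsub B subset_closure
  have hB0 : topologicalKrullDim B ≤ 0 := VarietyLib.dim_le_zero_of_closed_points hBc fun y hy =>
    S7688.isClosed_of_not_generic hdim (hgen y hy)
  let V : X.Opens := ⟨Bᶜ, hBc.isOpen_compl⟩
  let η := (Scheme.Modules.restrictAdjunction V.ι).unit.app J
  haveI := hJc.1
  haveI hP : Coh.IsQCoh ((Coh.push V.ι).obj (J.restrict V.ι)) := isQCoh_push V.ι _
  have hK : CohB1.support (kernel η) ⊆ B := fun z hz => by
    by_contra hzB
    refine hz (subsingleton_of_forall_eq 0 fun b => ?_)
    apply (ModuleCat.mono_iff_injective ((DerSch.stalkFunctor X z).map (kernel.ι η))).1 inferInstance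
    refine Eq.trans ?_ (map_zero ((DerSch.stalkFunctor X z).map (kernel.ι η)).hom).symm
    apply (bijective_stalk_restrictUnit J (V := V) hzB).1
    refine ((stalk_comp_apply _ _ _).trans ?_).trans (map_zero ((DerSch.stalkFunctor X z).map η).hom).symm
    rw [kernel.condition]
    exact stalk_zero_apply _
  have hz : IsZero (kernel η) := by
    by_contra h0
    have h1 := (hJp _ (kernel.ι η) inferInstance (isCoh_kernel η hJc hP) h0).symm.le.trans
      ((EulerLib.dim_mono hK).trans hB0)
    exact absurd h1 (not_le.2 (by exact_mod_cast Nat.one_pos))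
  haveI : Mono η := Preadditive.mono_of_kernel_zero (hz.eq_of_src _ _)
  apply app_injective_of_mono η W
  refine Eq.trans ?_ (map_zero _).symm
  show J.presheaf.map (homOfLE (V.ι.image_preimage_le W)).op a = 0
  refine TopCat.Presheaf.section_ext (F := (⟨J.presheaf, J.isSheaf⟩ : TopCat.Sheaf Ab X)) _ _ 0 fun z hz => Eq.trans ?_ (map_zero _).symm
  show J.presheaf.germ _ z hz (J.presheaf.map _ a) = 0
  rw [TopCat.Presheaf.germ_res_apply]
  obtain ⟨w, hw, rfl⟩ := hz
  by_contra h
  exact w.2 ⟨hw, fun ⟨_, h'⟩ => h h'⟩

end Groth.Agent.S17178
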