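import Groth.Statements.S17180
import Groth.Agent.Surf15.IntPush
import Groth.Agent.Surf15.Fibre
import Groth.Agent.Surf15.CycleSections
import Groth.Agent.VarietyLib.PointComplement
import Groth.Agent.HTop16.PairSquare
import Groth.Agent.AbVarLib.HomFlat
import Groth.Agent.CurvesLib24.Basic
-- import your own Groth.Agent.* helpers here

set_option autoImplicit false
universe u
open CategoryTheory CategoryTheory.Limits AlgebraicGeometry
open Surf TopologicalSpace
open Groth.Agent.Coherent Groth.Agent.PicLib Groth.Agent.AmpleLib Groth.Agent.EulerLib Groth.Agent.CurveRR24 Groth.Agent.DimLib Groth.Agent.Surf15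
set_option linter.style.haveILetI false
set_option backward.isDefEq.respectTransparency.types false

namespace Groth.Agent.S17180

/-- Let k be a field, X an integral proper k-scheme of dimension 2 with regular local rings which is
geometrically irreducible over k, C an integral proper smooth k-scheme of dimension 1, and f : X → C
a surjective k-morphism. Let L be an invertible O_X-module whose intersection number with every
vertical integral curve (a closed integral one-dimensional E ⊆ X sent by f to a single point) is 0,
and whose intersection number with some horizontal integral curve P (closed, integral,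
one-dimensional, with f(P) not a single point) is 0. Then (L·L) ≤ 0, and if (L·L) = 0 then L is
numerically trivial: its intersection number with every closed integral curve of X is 0. Here (L·L)
= χ(O_X) − 2χ(L) + χ(L ⊗ L) and the number with a curve Y is χ(O_Y) − χ(L ⊗ O_Y), both packaged as
FGA.intNum. (The published assertion is the positive-definiteness of the pairing −(D·D′) on classes
of divisors of degree 0 on the generic fibre modulo classes of fibre components, after tensoring
with the rationals; this row gives that content for divisor classes up to numerical equivalence,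
which is what the printed argument establishes, and leaves aside the identification of the pairing
with a canonical height. The published setting also takes X to be the relatively minimal regular
model, projective over k, of a smooth projective geometrically irreducible curve of positive genus
over the function field of C, with C projective and geometrically irreducible; this row keeps only
the hypotheses the printed argument uses.) -/
theorem result (k : Type u) [Field k]
    (X : Scheme.{u}) [X.Over (Spec (CommRingCat.of k))] [IsProper (X ↘ Spec (CommRingCat.of k))]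
    [IsIntegral X] [GeometricallyIrreducible (X ↘ Spec (CommRingCat.of k))]
    (hreg : ∀ x : X, IsRegularLocalRing (X.presheaf.stalk x)) (hdim : topologicalKrullDim X = 2)
    (C : Scheme.{u}) [C.Over (Spec (CommRingCat.of k))] [IsProper (C ↘ Spec (CommRingCat.of k))]
    [Smooth (C ↘ Spec (CommRingCat.of k))] [IsIntegral C] (hdimC : topologicalKrullDim C = 1)
    (f : X ⟶ C) [f.IsOver (Spec (CommRingCat.of k))] [Surjective f]
    (L : X.Modules) (hL : PicF.IsInvertible L)
    (hvert : ∀ (E : Scheme.{u}) (ι : E ⟶ X) [IsClosedImmersion ι] [IsIntegral E],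
      topologicalKrullDim E = 1 → (Set.range (fun e : E => f (ι e))).Subsingleton →
      FGA.intNum k X 2 ![L] ((Coh.push ι).obj (Coh.structureModule E)) = 0)
    (P : Scheme.{u}) (ιP : P ⟶ X) [IsClosedImmersion ιP] [IsIntegral P] (hP : topologicalKrullDim P = 1)
    (hPh : (Set.range (fun q : P => f (ιP q))).Nontrivial)
    (hLP : FGA.intNum k X 2 ![L] ((Coh.push ιP).obj (Coh.structureModule P)) = 0) :
    FGA.intNum k X 2 ![L, L] (Coh.structureModule X) ≤ 0 ∧
      (FGA.intNum k X 2 ![L, L] (Coh.structureModule X) = 0 →
        ∀ (Y : Scheme.{u}) (ι : Y ⟶ X) [IsClosedImmersion ι] [IsIntegral Y], topologicalKrullDim Y = 1 →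
          FGA.intNum k X 2 ![L] ((Coh.push ι).obj (Coh.structureModule Y)) = 0) := by
  haveI := isNoetherian_of_proper (X := X) k
  haveI := isSeparated_of_proper (X := X) k
  haveI := isNoetherian_of_proper (X := C) k
  haveI := isSeparated_of_proper (X := C) k
  haveI : IsProper f := by
    haveI : IsProper (f ≫ (C ↘ Spec (CommRingCat.of k))) := by
      rw [CategoryTheory.comp_over f (Spec (CommRingCat.of k))]; infer_instance
    exact IsProper.of_comp f (C ↘ Spec (CommRingCat.of k))
  have hX : topologicalKrullDim X = ((2 : ℕ) : WithBot ℕ∞) := hdim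
  obtain ⟨H, hH⟩ := exists_ample k hX hreg
  set l := InvCl.mk L hL
  have hP' : IsCrv ιP.ker := isCrv_ker ιP hP
  have hdegB : ∀ {D : X.IdealSheafData} (hD : BlowUp.IsEffCartierIdeal D),
      deg k (ClSub.quotMod D) l = 0 → B k (clI' D hD) l = 0 := fun hD h => by
    rw [deg_quotMod k hD] at h; omega
  -- a closed point of `P` and the fibre through it
  haveI : Nonempty (P : Type u) := ⟨genericPoint P⟩
  haveI : IsLocallyNoetherian P := LocallyOfFiniteType.isLocallyNoetherian ιP
  haveI : CompactSpace (P : Type u) := ιP.isClosedEmbedding.compactSpace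
  obtain ⟨q, -, hq⟩ := IsClosed.exists_closed_singleton (isClosed_univ : IsClosed (Set.univ : Set P)) Set.univ_nonempty
  have hxc : IsClosed ({ιP q} : Set X) := by
    simpa only [Set.image_singleton] using ιP.isClosedEmbedding.isClosedMap _ hq
  set p := f (ιP q)
  have hpc : IsClosed ({p} : Set C) := by
    simpa only [Set.image_singleton] using f.isClosedMap _ hxc
  obtain ⟨I, hI, hIs⟩ := VarietyLib.exists_effCartier_point k hdimC hpc
  have hFs : ((I.comap f).support : Set X) = f ⁻¹' {p} := by
    rw [Scheme.IdealSheafData.support_comap, TopologicalSpace.Closeds.coe_preimage, hIs]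
  have hη : genericPoint X ∉ ((I.comap f).support : Set X) := by
    rw [hFs, Set.mem_preimage, Set.mem_singleton_iff, AbVarLib.map_genericPoint_of_surjective f]
    exact fun h => CurvesLib24.not_isClosed_genericPoint hdimC (h ▸ hpc)
  have hlp : Curv2.IsLocPrincipal (I.comap f) := fun x _ =>
    HTop16.PairSquare.isLocPrincipal_comap (I := I) (fun y => let ⟨U, h1, g, _, h2⟩ := hI y; ⟨U, h1, g, h2⟩) f x
  have hF : BlowUp.IsEffCartierIdeal (I.comap f) := isEffCartier_of_locPrincipal hlp hη
  have hF0 : I.comap f ≠ ⊤ := fun e => by
    have : ιP q ∈ ((I.comap f).support : Set X) := by rw [hFs]; rfl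
    rw [e, Scheme.IdealSheafData.support_top] at this
    exact this
  set φ := clI' (I.comap f) hF
  have hsub : ∀ {D : X.IdealSheafData}, I.comap f ≤ D → (D.support : Set X) ⊆ f ⁻¹' {p} :=
    fun h => hFs ▸ Scheme.IdealSheafData.support_antitone h
  -- the fibre is orthogonal to itself and to `L`
  have hFF : B k φ φ = 0 := by
    refine cycle_rec k hX hreg (P := fun W hW => B k (clI' W hW) φ = 0)
      (fun W D hW hD _ _ h1 h2 => by rw [clI'_mul W D hW hD, B_mul_left k hX.le, h1, h2, add_zero]) hF hF0
      fun D hD _ hle => B_comap_eq_zero k hX f hI hF hD (hsub hle)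
  have hFL : B k φ l = 0 := by
    refine cycle_rec k hX hreg (P := fun W hW => B k (clI' W hW) l = 0)
      (fun W D hW hD _ _ h1 h2 => by rw [clI'_mul W D hW hD, B_mul_left k hX.le, h1, h2, add_zero]) hF hF0
      fun D hD hDc hle => hdegB hD ?_
    haveI := hDc.1
    have hd1 : topologicalKrullDim D.subscheme = 1 := by
      rw [IsHomeomorph.topologicalKrullDim_eq _ D.subschemeι.isClosedEmbedding.isEmbedding.toHomeomorph.isHomeomorph]
      rw [show Set.range D.subschemeι = (D.support : Set X) from D.range_subschemeι]
      exact hDc.2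
    have h := hvert D.subscheme D.subschemeι hd1 (by
      rintro _ ⟨a, rfl⟩ _ ⟨b, rfl⟩
      exact (hsub hle (D.range_subschemeι.le ⟨a, rfl⟩)).trans (hsub hle (D.range_subschemeι.le ⟨b, rfl⟩)).symm)
    rw [intNum_push_eq k hX.le hL, Scheme.IdealSheafData.ker_subschemeι] at h
    show deg k (ClSub.quotMod D) (InvCl.mk L hL) = 0
    omega
  -- the horizontal curve meets the fibre
  have hPc := hP'.isEffCartier k hX hreg
  set π := clI' ιP.ker hPc
  have hPL : B k π l = 0 := hdegB hPc (by
    rw [intNum_push_eq k hX.le hL] at hLP
    show deg k (ClSub.quotMod ιP.ker) (InvCl.mk L hL) = 0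
    omega)
  have hxP : ∀ a, ιP a ∈ (ιP.ker.support : Set X) := fun a =>
    (range_eq_support ιP).le ⟨a, rfl⟩
  have hnot : ¬ (ιP.ker.support : Set X) ⊆ f ⁻¹' {p} := fun h => by
    obtain ⟨_, ⟨a, rfl⟩, _, ⟨b, rfl⟩, hne⟩ := hPh
    exact hne ((h (hxP a)).trans (h (hxP b)).symm)
  obtain ⟨D, hDc, hle, hxD⟩ := exists_crv_through k hX hreg hF
    (show ιP q ∈ ((I.comap f).support : Set X) by rw [hFs]; rfl)
  have hD := hDc.isEffCartier k hX hreg
  obtain ⟨W, hW⟩ := ModPairLib.exists_mul_eq hD hle
  have hWc : BlowUp.IsEffCartierIdeal W := ModPairLib.isEffCartier_of_mul (hW.symm ▸ hF) hD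
  have hPF : 0 < B k π φ := by
    rw [show φ = clI' W hWc * clI' D hD from
      (clI'_congr hW.symm hF (ModPairLib.isEffCartier_mul hWc hD)).trans (clI'_mul W D hWc hD),
      B_mul_right k hX.le]
    haveI := hP'.1
    have h1 : 0 ≤ B k π (clI' W hWc) := B_clI'_nonneg k hX.le hWc hPc hP'.2 (fun h => hnot (h.trans (hsub (hW ▸ mul_le_fst W D))))
    have h2 : 0 < B k π (clI' D hD) := B_pos_of_meet k hX hreg hP' hDc (fun e => hnot (e ▸ hsub hle)) (hxP q) hxD
    omega
  -- a class of positive square orthogonal to `L`
  obtain ⟨N, hN⟩ : ∃ N : ℕ, 0 < B k π π + 2 * (N : ℤ) * B k π φ := by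
    refine ⟨(B k π π).natAbs + 1, ?_⟩
    have h1 := neg_abs_le (B k π π)
    push_cast
    nlinarith [abs_nonneg (B k π π), mul_le_mul_of_nonneg_left (show (1 : ℤ) ≤ B k π φ by omega) (abs_nonneg (B k π π))]
  set d := π * φ ^ N
  have hdd : 0 < B k d d := by
    simp only [d, B_mul_left k hX.le, B_mul_right k hX.le, B_pow_left k hX.le, B_pow_right k hX.le,
      hFF, B_comm k φ π]
    linarith
  have hdl : B k d l = 0 := by
    simp only [d, B_mul_left k hX.le, B_pow_left k hX.le, hFL, hPL]
    ring
  rw [intNum_eq_B k hX.le hL hL]
  refine ⟨B_index k hX hH hdd hdl, fun h0 Y ι _ _ hY => ?_⟩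
  have hYc := (isCrv_ker ι hY).isEffCartier k hX hreg
  have hz := B_eq_zero_of_null k hX hH hdd hdl h0 (clI' ι.ker hYc)
  rw [B_comm k] at hz
  rw [intNum_push_eq k hX.le hL, deg_quotMod k hYc, neg_neg]
  exact hz

end Groth.Agent.S17180
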