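import Groth.Statements.S17181
import Groth.Agent.FBaseLib.Geom
import Mathlib

set_option backward.isDefEq.respectTransparency.types false

set_option autoImplicit false
universe u
open CategoryTheory CategoryTheory.Limits AlgebraicGeometry
open FBase

namespace Groth.Agent.S17181

/-- Let k be a field, C an irreducible k-scheme which is geometrically irreducible over k, and f : X → C
a flat k-morphism locally of finite type with X irreducible. If the generic fibre of f is
geometrically irreducible over the residue field of the generic point of C, then X is geometrically
irreducible over k. (The published setting is a regular proper surface mapping onto a smooth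
projective geometrically irreducible curve with smooth projective geometrically irreducible generic
fibre; the printed argument uses only the hypotheses kept here.) -/
theorem result (k : Type u) [Field k]
    (X C : Scheme.{u}) [X.Over (Spec (CommRingCat.of k))] [C.Over (Spec (CommRingCat.of k))]
    (f : X ⟶ C) [f.IsOver (Spec (CommRingCat.of k))] [IrreducibleSpace X] [IrreducibleSpace C]
    [GeometricallyIrreducible (C ↘ Spec (CommRingCat.of k))] [Flat f] [LocallyOfFiniteType f]
    [GeometricallyIrreducible (f.fiberToSpecResidueField (genericPoint C))] :
    GeometricallyIrreducible (X ↘ Spec (CommRingCat.of k)) := by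
  let S := Spec (CommRingCat.of k)
  refine ⟨fun K _ y Z fst snd hK => ?_⟩
  haveI : IrreducibleSpace ↥(Limits.pullback (C ↘ S) y) :=
    GeometricallyIrreducible.geometrically_irreducibleSpace y _ _ (IsPullback.of_hasPullback (C ↘ S) y)
  let CK := Limits.pullback (C ↘ S) y
  let p := Limits.pullback.fst (C ↘ S) y
  let fK : Z ⟶ CK := Limits.pullback.lift (fst ≫ f) snd (by rw [Category.assoc, comp_over]; exact hK.w)
  have hsq : IsPullback fst fK f p :=
    IsPullback.of_bot (by rw [comp_over, Limits.pullback.lift_snd]; exact hK) (Limits.pullback.lift_fst _ _ _).symm
      (IsPullback.of_hasPullback (C ↘ S) y)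
  haveI : Flat fK := MorphismProperty.of_isPullback hsq inferInstance
  haveI : LocallyOfFiniteType fK := MorphismProperty.of_isPullback hsq inferInstance
  have hη : p (genericPoint CK) = genericPoint C := by
    have hgen : GeneralizingMap p := by
      haveI : Flat p := MorphismProperty.pullback_fst (P := @Flat) _ _ inferInstance
      exact Flat.generalizingMap _
    obtain ⟨z, hz, hzη⟩ := hgen (genericPoint_specializes (p (genericPoint CK)))
    have : z = genericPoint CK := ((genericPoint_specializes z).antisymm hz).eq.symm
    rw [← hzη, this]
  haveI : GeometricallyIrreducible (fK.fiberToSpecResidueField (genericPoint CK)) := by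
    rw [FlatMor12.fibre_irreducible_iff hsq, hη]; infer_instance
  haveI : IrreducibleSpace ↥(fK.fiber (genericPoint CK)) :=
    GeometricallyIrreducible.irreducibleSpace_of_subsingleton (fK.fiberToSpecResidueField (genericPoint CK))
  refine FBaseLib.irreducibleSpace_of_generalizingMap (F := fK) (η := genericPoint CK) (Flat.generalizingMap fK)
    genericPoint_specializes ?_
  rw [← fK.range_fiberι, ← Set.image_univ]
  exact (IrreducibleSpace.isIrreducible_univ _).image _ (fK.fiberι _).continuous.continuousOn

end Groth.Agent.S17181
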