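import Groth.Statements.S1719
import Groth.Agent.DualLib.Depth

set_option autoImplicit false
universe u
open CategoryTheory
attribute [local instance] HasDerivedCategory.standard
open Dual

namespace Groth.Agent.S1719

/-- Let A be a Noetherian local ring with a normalized dualizing complex ω and p a minimal prime of A
with dim(A/p) = e. Then the cohomology module H^i(ω) localized at p is nonzero if and only if i =
−e. -/
theorem result (A : Type u) [CommRing A] [IsLocalRing A] [IsNoetherianRing A] (ω : Dual.D A) (hω : Dual.IsDualizing A ω) (hn : Dual.IsNormalized A ω) (p : Ideal A) (hp : p ∈ minimalPrimes A) (e : ℕ) (he : ringKrullDim (A ⧸ p) = e) (i : ℤ) : Nontrivial (LocalizedModule (Ideal.primeCompl p (hp := hp.1.1)) (Dual.HD A ω i)) ↔ i = -(e : ℤ) := by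
  haveI : p.IsPrime := hp.1.1
  let P : PrimeSpectrum A := ⟨p, hp.1.1⟩
  have hP : Order.coheight P = (e : ℕ∞) := by
    have := Groth.Agent.DualLib.ringKrullDim_quotient_eq_coheight P
    rw [he] at this
    exact (WithBot.coe_inj.1 this).symm
  have hmin : ∀ q ∈ Module.support A A, q ≤ P → q = P := fun q _ hq =>
    PrimeSpectrum.ext (le_antisymm hq (hp.2 ⟨q.2, bot_le⟩ hq))
  have hmem : P ∈ Module.support A A := Module.mem_support_iff_of_finite.2 (fun a ha => by
    have h1 := Module.mem_annihilator.1 ha 1
    rw [smul_eq_mul, mul_one] at h1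
    exact h1 ▸ P.asIdeal.zero_mem)
  rw [show LocalizedModule (Ideal.primeCompl p (hp := hp.1.1)) (Dual.HD A ω i) =
      LocalizedModule P.asIdeal.primeCompl (Dual.HD A ω i) from rfl, ← Module.mem_support_iff,
    ← (Groth.Agent.DualLib.eSelf ω i).support_eq]
  constructor
  · intro h
    by_contra hi
    exact Groth.Agent.DualLib.notMem_support_of_minimal hω hn hP A hmin i hi h
  · rintro rfl
    exact Groth.Agent.DualLib.mem_support_of_minimal hω hn hP A hmin hmem

end Groth.Agent.S1719
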