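import Groth.Statements.S1723
import Groth.Agent.Dual22Lib.FormalFibre
import Groth.Agent.CommAlg6.FibreSk

set_option autoImplicit false
universe u
open CategoryTheory
attribute [local instance] HasDerivedCategory.standard
open Dual

namespace Groth.Agent.S1723

/-- If a Noetherian local ring A has a dualizing complex, then each of its formal fibres is a Gorenstein
ring: for every prime p the ring A^ ⊗_A κ(p) (completion at the maximal ideal, tensored with the
residue field of p) is a Gorenstein ring. -/
theorem result (A : Type u) [CommRing A] [IsLocalRing A] [IsNoetherianRing A] (ω : Dual.D A) (hω : Dual.IsDualizing A ω) (p : PrimeSpectrum A) : LocCoh.IsGorensteinRing (EGA4.formalFibre A p.asIdeal) := by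
  haveI : IsNoetherianRing (EGA4.Cpl A) :=
    Groth.Agent.Matlis6.isNoetherianRing_adicCompletion (IsLocalRing.maximalIdeal A)
  haveI : Module.Flat A (EGA4.Cpl A) := inferInstance
  haveI := Groth.Agent.DualLib.preservesFiniteLimits_flat (A := A) (B := EGA4.Cpl A)
  haveI := Groth.Agent.DualLib.preservesFiniteColimits_ext (A := A) (B := EGA4.Cpl A)
  haveI : DRing.HasLBaseChange (algebraMap A (EGA4.Cpl A)) := Groth.Agent.DCat.hasLBaseChange _
  obtain ⟨e⟩ := Groth.Agent.DualLib.nonempty_LBaseChange_iso (B := EGA4.Cpl A)
    (RingHom.flat_algebraMap_iff.2 inferInstance) ω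
  have hB := Groth.Agent.DualLib.isDualizing_of_iso e (Groth.Agent.S1779.result A (IsLocalRing.maximalIdeal A) ω hω)
  haveI : IsNoetherianRing (p.asIdeal.Fiber (EGA4.Cpl A)) := Groth.Agent.CommAlg6.isNoetherianRing_fiber p.asIdeal
  exact Groth.Agent.Dual22Lib.gorensteinRing_fibre_of_dualizing hω hB p.asIdeal

end Groth.Agent.S1723
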