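import Groth.Statements.S17241
import Mathlib
-- import your own Groth.Agent.* helpers here

set_option autoImplicit false
open W4c4effdivwronsk2

namespace Groth.Agent.S17241

open Polynomial in
/-- anchor -/
theorem anchor17241 : 0 + 0 = 0 := rfl

section Helpers

open Polynomial Module

variable {k : Type*} [Field k] [CharZero k] {m : ℕ} (r : Fin m → k) (a : Fin m → ℕ)

noncomputable def Rp : k[X] := ∏ j, (X - C (r j))

noncomputable def Ri (i : Fin m) : k[X] := ∏ j ∈ Finset.univ.erase i, (X - C (r j))

noncomputable def Sp : k[X] := ∑ j, C (a j : k) * Ri r j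

noncomputable def Ep : k[X] := ∏ j, (X - C (r j)) ^ a j

noncomputable def Ei (i : Fin m) : k[X] := ∏ j ∈ Finset.univ.erase i, (X - C (r j)) ^ a j

/-- The derivative in disguise. -/
noncomputable def L : k[X] →ₗ[k] k[X] where
  toFun G := derivative G * Rp r - G * Sp r a
  map_add' G H := by rw [map_add]; ring
  map_smul' c G := by simp [derivative_smul, smul_sub, smul_mul_assoc]

theorem L_apply (G : k[X]) : L r a G = derivative G * Rp r - G * Sp r a := rfl

theorem Rp_eq (i : Fin m) : (X - C (r i)) * Ri r i = Rp r :=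
  Finset.mul_prod_erase Finset.univ (fun j => X - C (r j)) (Finset.mem_univ i)

theorem Ep_eq (i : Fin m) : (X - C (r i)) ^ a i * Ei r a i = Ep r a :=
  Finset.mul_prod_erase Finset.univ (fun j => (X - C (r j)) ^ a j) (Finset.mem_univ i)

theorem derivative_pow_mul (c : k) (n : ℕ) :
    derivative ((X - C c) ^ n) * (X - C c) = C (n : k) * (X - C c) ^ n := by
  rcases Nat.eq_zero_or_pos n with rfl | hn
  · simp
  rw [derivative_X_sub_C_pow, mul_assoc, ← pow_succ, Nat.sub_add_cancel hn]

theorem derivative_prod_pow_mul (s : Finset (Fin m)) :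
    derivative (∏ j ∈ s, (X - C (r j)) ^ a j) * Rp r = (∏ j ∈ s, (X - C (r j)) ^ a j) * ∑ j ∈ s, C (a j : k) * Ri r j := by
  classical
  induction s using Finset.induction with
  | empty => simp
  | insert i s hi ih =>
    have hA : derivative ((X - C (r i)) ^ a i) * Rp r = C (a i : k) * (X - C (r i)) ^ a i * Ri r i := by
      rw [← Rp_eq r i, ← mul_assoc, derivative_pow_mul]
    rw [Finset.prod_insert hi, Finset.sum_insert hi, derivative_mul]
    linear_combination (∏ j ∈ s, (X - C (r j)) ^ a j) * hA + (X - C (r i)) ^ a i * ih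

theorem L_mul_E (P : k[X]) : L r a (P * Ep r a) = derivative P * Ep r a * Rp r := by
  have h := derivative_prod_pow_mul r a Finset.univ
  change derivative (Ep r a) * Rp r = Ep r a * Sp r a at h
  rw [L_apply, derivative_mul, add_mul, mul_assoc _ (derivative (Ep r a)), h]
  ring

theorem L_mul_Ei (i : Fin m) (P : k[X]) :
    L r a (P * Ei r a i) = Ei r a i * (derivative P * Rp r - C (a i : k) * Ri r i * P) := by
  have h := derivative_prod_pow_mul r a (Finset.univ.erase i)
  change derivative (Ei r a i) * Rp r = Ei r a i * _ at h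
  rw [L_apply, derivative_mul, add_mul, mul_assoc _ (derivative (Ei r a i)), h, Sp,
    ← Finset.add_sum_erase _ _ (Finset.mem_univ i)]
  ring

theorem D_eq : (∏ j, (X - C (r j)) ^ (a j + 1)) = Ep r a * Rp r := by
  simp only [Ep, Rp, pow_succ, Finset.prod_mul_distrib]

theorem Di_eq (i : Fin m) : (∏ j ∈ Finset.univ.erase i, (X - C (r j)) ^ (a j + 1)) = Ei r a i * Ri r i := by
  simp only [Ei, Ri, pow_succ, Finset.prod_mul_distrib]

theorem Ep_monic : (Ep r a).Monic := monic_prod_of_monic _ _ fun j _ => (monic_X_sub_C _).pow _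

theorem natDegree_Ep : (Ep r a).natDegree = ∑ j, a j := by
  rw [Ep, natDegree_prod _ _ fun j _ => pow_ne_zero _ (X_sub_C_ne_zero _)]
  simp

theorem natDegree_Rp : (Rp r).natDegree = m := by
  rw [Rp, natDegree_prod _ _ fun j _ => X_sub_C_ne_zero _]
  simp

theorem natDegree_Ri (i : Fin m) : (Ri r i).natDegree = m - 1 := by
  rw [Ri, natDegree_prod _ _ fun j _ => X_sub_C_ne_zero _]
  simp

theorem eval_Ri_self (hr : Function.Injective r) (i : Fin m) : (Ri r i).eval (r i) ≠ 0 := by
  rw [Ri, eval_prod, Finset.prod_ne_zero_iff]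
  intro j hj
  simpa [sub_eq_zero] using fun h => (Finset.mem_erase.1 hj).1 (hr h).symm

theorem eval_Ei_self (hr : Function.Injective r) (i : Fin m) : (Ei r a i).eval (r i) ≠ 0 := by
  rw [Ei, eval_prod, Finset.prod_ne_zero_iff]
  intro j hj
  rw [eval_pow]
  exact pow_ne_zero _ (by simpa [sub_eq_zero] using fun h => (Finset.mem_erase.1 hj).1 (hr h).symm)

theorem eval_Sp (i : Fin m) : (Sp r a).eval (r i) = (a i : k) * (Ri r i).eval (r i) := by
  rw [Sp, eval_finsetSum, Finset.sum_eq_single i]
  · simp
  · intro j _ hj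
    rw [eval_mul, Ri, eval_prod, Finset.prod_eq_zero (Finset.mem_erase.2 ⟨hj.symm, Finset.mem_univ i⟩) (by simp), mul_zero]
  · exact fun h => absurd (Finset.mem_univ i) h

/-- The local shape at a marked point. -/
theorem L_pow_mul (i : Fin m) (μ : ℕ) (g : k[X]) :
    L r a ((X - C (r i)) ^ μ * g) =
      (X - C (r i)) ^ μ * (C (μ : k) * Ri r i * g + derivative g * Rp r - g * Sp r a) := by
  have hA : derivative ((X - C (r i)) ^ μ) * Rp r = C (μ : k) * (X - C (r i)) ^ μ * Ri r i := by
    rw [← Rp_eq r i, ← mul_assoc, derivative_pow_mul]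
  rw [L_apply, derivative_mul]
  linear_combination g * hA

theorem L_coeff (G : k[X]) (hm : m ≠ 0) :
    (L r a G).coeff (G.natDegree + m - 1) = G.leadingCoeff * ((G.natDegree : k) - ∑ j, (a j : k)) := by
  have hR : (Rp r).coeff m = 1 := by
    have h : (Rp r).Monic := monic_prod_of_monic _ _ fun j _ => monic_X_sub_C _
    have := h.coeff_natDegree
    rwa [natDegree_Rp] at this
  have hRi : ∀ i, (Ri r i).coeff (m - 1) = 1 := fun i => by
    have h : (Ri r i).Monic := monic_prod_of_monic _ _ fun j _ => monic_X_sub_C _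
    have := h.coeff_natDegree
    rwa [natDegree_Ri] at this
  have hS : (Sp r a).natDegree ≤ m - 1 ∧ (Sp r a).coeff (m - 1) = ∑ j, (a j : k) := by
    refine ⟨natDegree_sum_le_of_forall_le _ _ fun j _ => (natDegree_C_mul_le _ _).trans (natDegree_Ri r j).le, ?_⟩
    simp [Sp, coeff_sum, coeff_C_mul, hRi]
  have h2 : (G * Sp r a).coeff (G.natDegree + (m - 1)) = G.leadingCoeff * ∑ j, (a j : k) := by
    rw [coeff_mul_add_eq_of_natDegree_le le_rfl hS.1, hS.2]; rfl
  rw [L_apply, coeff_sub]
  rw [show G.natDegree + m - 1 = G.natDegree + (m - 1) by omega, h2]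
  rcases Nat.eq_zero_or_pos G.natDegree with h0 | hpos
  · rw [eq_C_of_natDegree_eq_zero h0]
    simp
  have h1 : (derivative G * Rp r).coeff (G.natDegree - 1 + m) = (G.natDegree : k) * G.leadingCoeff := by
    rw [coeff_mul_add_eq_of_natDegree_le (natDegree_derivative_le G) (natDegree_Rp r).le, hR, mul_one, coeff_derivative,
      Nat.sub_add_cancel hpos]
    rw [Nat.cast_sub (show 1 ≤ G.natDegree from hpos), Nat.cast_one, sub_add_cancel, mul_comm]
    rfl
  rw [show G.natDegree + (m - 1) = G.natDegree - 1 + m by omega, h1]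
  ring

theorem natDegree_L_le (G : k[X]) : (L r a G).natDegree ≤ G.natDegree + (m - 1) := by
  rw [L_apply]
  refine (natDegree_sub_le _ _).trans (max_le ?_ ?_)
  · rcases Nat.eq_zero_or_pos G.natDegree with h0 | hpos
    · rw [derivative_of_natDegree_zero h0]
      simp
    refine natDegree_mul_le.trans ?_
    have := natDegree_derivative_le G
    rw [natDegree_Rp]
    omega
  · refine natDegree_mul_le.trans (Nat.add_le_add_left ?_ _)
    exact natDegree_sum_le_of_forall_le _ _ fun j _ => (natDegree_C_mul_le _ _).trans (natDegree_Ri r j).le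

theorem finrank_map_add {P : Submodule k k[X]} [FiniteDimensional k P] {f : k[X] →ₗ[k] k[X]} {e : k[X]} (he : e ≠ 0)
    (heP : e ∈ P) (hfe : f e = 0) (hker : ∀ x ∈ P, f x = 0 → ∃ c : k, x = c • e) :
    finrank k (P.map f) + 1 = finrank k P := by
  have h := LinearMap.finrank_range_add_finrank_ker (f.domRestrict P)
  have h1 : LinearMap.ker (f.domRestrict P) = Submodule.span k {(⟨e, heP⟩ : P)} := by
    refine le_antisymm (fun x hx => ?_) ((Submodule.span_singleton_le_iff_mem _ _).2 hfe)
    obtain ⟨c, hc⟩ := hker x x.2 hx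
    exact Submodule.mem_span_singleton.2 ⟨c, Subtype.ext hc.symm⟩
  rw [h1, finrank_span_singleton (by simpa using fun h : (⟨e, heP⟩ : P) = 0 => he (congrArg Subtype.val h)),
    LinearMap.range_domRestrict] at h
  exact h

theorem finrank_map_inj {P : Submodule k k[X]} {f : k[X] →ₗ[k] k[X]} (h : ∀ x ∈ P, f x = 0 → x = 0) :
    finrank k (P.map f) = finrank k P := by
  have hinj : Function.Injective (f.domRestrict P) := by
    rw [← LinearMap.ker_eq_bot, LinearMap.ker_eq_bot']
    exact fun x hx => Subtype.ext (h x x.2 hx)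
  rw [← LinearMap.range_domRestrict, LinearMap.finrank_range_of_inj hinj]

end Helpers

open Polynomial in
set_option maxHeartbeats 1000000 in
/-- Let `k` be a field of characteristic zero and take, on the projective line over `k`, the point `∞`
and `m` further distinct points `r_1, …, r_m` of the affine line, with positive integers `b` (at
`∞`) and `a_1, …, a_m`; put `N = b + ∑ a_j`. The sum of the spaces of differentials with a single
pole, of order at most `b + 1` at `∞`, resp. at most `a_j + 1` at `r_j`, `V = H⁰(ω((b+1)∞)) + ∑_j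
H⁰(ω((a_j+1)r_j)) ⊆ H⁰(ω((b+1)∞ + ∑_j (a_j+1)r_j)) ≅ H⁰(O(d))`, `d = b - 1 + ∑ (a_j+1)`, becomes,
after multiplying by `dX⁻¹ ∏_j (X - r_j)^(a_j+1)`, the subspace of `k[X]_{≤ d}` spanned by
`D·k[X]_{<b}` and the `D_i·k[X]_{<a_i}`, where `D = ∏_j (X - r_j)^(a_j+1)` and `D_i` omits the
`i`-th factor; a member `h` vanishes to order `n` at a point `q` of the affine line when `(X - q)^n
∣ h`, and to order `d - deg h` at `∞`. Then `dim V = N`, and at each marked point the vanishing
orders of the members of `V` are `0, …, e - 1, e + 1, …, N`, where `e = a_i` at `r_i` and `e = b` at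
`∞`: the subspace vanishing to order at least `n` there has dimension `N - n` for `n ≤ e` and `N + 1
- n` for `n > e` (so the weight at `r_i` is `∑_{j ≠ i} a_j + b`). (The published statement is over
the complex numbers, with all marked points arbitrary; one of them is placed at `∞` here.) -/
theorem result
    (k : Type*) [Field k] [CharZero k] (m : ℕ) (r : Fin m → k) (hr : Function.Injective r)
    (a : Fin m → ℕ) (ha : ∀ j, 1 ≤ a j) (b : ℕ) (hb : 1 ≤ b) (N d : ℕ)
    (hN : N = (∑ j, a j) + b) (hd : d + 1 = (∑ j, (a j + 1)) + b)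
    (V : Submodule k (Polynomial k))
    (hV : V = (Polynomial.degreeLT k b).map (LinearMap.mulLeft k (∏ j, (X - C (r j)) ^ (a j + 1))) ⊔
      ⨆ i, (Polynomial.degreeLT k (a i)).map
        (LinearMap.mulLeft k (∏ j ∈ Finset.univ.erase i, (X - C (r j)) ^ (a j + 1)))) :
    Module.finrank k ↥V = N ∧
    (∀ (i : Fin m) (n : ℕ), Module.finrank k ↥(V ⊓ (Ideal.span {(X - C (r i)) ^ n}).restrictScalars k) =
        if n ≤ a i then N - n else N + 1 - n) ∧
    (∀ n : ℕ, Module.finrank k ↥(V ⊓ Polynomial.degreeLT k (d + 1 - n)) =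
        if n ≤ b then N - n else N + 1 - n) := by
  classical
  have hE0 : Ep r a ≠ 0 := (Ep_monic r a).ne_zero
  -- the kernel
  have hker : ∀ G : k[X], L r a G = 0 → ∃ c : k, G = c • Ep r a := by
    intro G hG
    -- divide by the marked factors
    suffices h : ∀ s : Finset (Fin m), (∏ j ∈ s, (X - C (r j)) ^ a j) ∣ G by
      obtain ⟨P, hP⟩ := h Finset.univ
      have h2 : derivative P * Ep r a * Rp r = 0 := by
        rw [← L_mul_E, mul_comm]
        exact hP ▸ hG
      have h3 : derivative P = 0 := by
        have hR : Rp r ≠ 0 := Finset.prod_ne_zero_iff.2 fun j _ => X_sub_C_ne_zero _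
        simpa [hE0, hR] using h2
      obtain ⟨c, hc⟩ : ∃ c, P = C c := ⟨_, eq_C_of_derivative_eq_zero h3⟩
      refine ⟨c, ?_⟩
      rw [hP, hc, smul_eq_C_mul, mul_comm]
      rfl
    intro s
    refine Finset.prod_dvd_of_coprime (fun i _ j _ hij => ((isCoprime_X_sub_C_of_isUnit_sub
      (sub_ne_zero.2 (hr.ne hij)).isUnit)).pow) fun i _ => ?_
    rcases eq_or_ne G 0 with rfl | hG0
    · exact dvd_zero _
    obtain ⟨g, hg, hgq⟩ := Polynomial.exists_eq_pow_rootMultiplicity_mul_and_not_dvd G hG0 (r i)
    rw [dvd_iff_isRoot, IsRoot] at hgq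
    have h := hG
    rw [hg, L_pow_mul, mul_eq_zero] at h
    rcases h with h | h
    · exact absurd h (pow_ne_zero _ (X_sub_C_ne_zero _))
    have h' := congrArg (eval (r i)) h
    rw [← Rp_eq r i] at h'
    simp only [eval_sub, eval_add, eval_mul, eval_C, eval_X, sub_self, zero_mul, mul_zero, add_zero, eval_Sp, eval_zero] at h'
    have h'' : (eval (r i) (Ri r i)) * (eval (r i) g) * ((G.rootMultiplicity (r i) : k) - a i) = 0 := by linear_combination h'
    simp only [mul_eq_zero, eval_Ri_self r hr i, hgq, false_or, sub_eq_zero, Nat.cast_inj] at h''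
    rw [hg, h'']
    exact dvd_mul_right _ _
  let U : Submodule k k[X] := degreeLT k (N + 1)
  have hdeg : ∀ {G : k[X]} {n : ℕ}, G ∈ degreeLT k (n + 1) ↔ G.natDegree ≤ n := fun {G n} => by
    rw [mem_degreeLT]
    rcases eq_or_ne G 0 with rfl | hG
    · simp
    rw [← natDegree_lt_iff_degree_lt hG]; omega
  have hEU : ∀ n, (∑ j, a j) ≤ n → Ep r a ∈ degreeLT k (n + 1) := fun n hn => hdeg.2 (natDegree_Ep r a ▸ hn)
  have hLE : L r a (Ep r a) = 0 := by simpa using L_mul_E r a 1
  have hkerP : ∀ P : Submodule k k[X], ∀ x ∈ P, L r a x = 0 → ∃ c : k, x = c • Ep r a := fun P x _ => hker x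
  have hfr : ∀ n, Module.finrank k (degreeLT k n : Submodule k k[X]) = n := fun n => by
    rw [(degreeLTEquiv k n).finrank_eq, Module.finrank_fin_fun]
  haveI hfd : ∀ n, FiniteDimensional k (degreeLT k n : Submodule k k[X]) := fun n =>
    (degreeLTEquiv k n).symm.finiteDimensional
  -- the space is the image
  have hVdim : ∀ P : Submodule k k[X], P = U.map (L r a) → Module.finrank k P = N := by
    rintro P rfl
    have := finrank_map_add hE0 (hEU N (by omega)) hLE (hkerP U)
    have h2 := hfr (N + 1)
    have h3 : Module.finrank k ↥U = N + 1 := hfr (N + 1)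
    simp only [U] at this h2 h3 ⊢
    omega
  have hgen : V ≤ U.map (L r a) := by
    rw [hV]
    refine sup_le ?_ (iSup_le fun i => ?_)
    · rintro _ ⟨P, hP, rfl⟩
      have hP' := mem_degreeLT.1 hP
      suffices h : ∀ t < b, L r a (C ((t : k) + 1)⁻¹ * X ^ (t + 1) * Ep r a) = (∏ j, (X - C (r j)) ^ (a j + 1)) * X ^ t ∧
          C ((t : k) + 1)⁻¹ * X ^ (t + 1) * Ep r a ∈ U by
        rw [degreeLT_eq_span_X_pow] at hP
        refine Submodule.span_induction ?_ ?_ ?_ ?_ hP
        · intro x hx
          rw [Finset.mem_coe, Finset.mem_image] at hx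
          obtain ⟨t, ht, rfl⟩ := hx
          exact ⟨_, (h t (Finset.mem_range.1 ht)).2, (h t (Finset.mem_range.1 ht)).1⟩
        · simp
        · intro x y _ _ hx hy; rw [map_add]; exact add_mem hx hy
        · intro c x _ hx; rw [map_smul]; exact Submodule.smul_mem _ c hx
      intro t ht
      constructor
      · rw [L_mul_E, D_eq, derivative_mul, derivative_C, zero_mul, zero_add, derivative_X_pow, Nat.add_sub_cancel,
          ← mul_assoc (C _), ← C_mul, Nat.cast_add, Nat.cast_one, inv_mul_cancel₀ (by exact_mod_cast Nat.succ_ne_zero t), C_1]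
        ring
      · refine hdeg.2 (natDegree_mul_le.trans ?_)
        rw [natDegree_Ep]
        have := natDegree_C_mul_le ((t : k) + 1)⁻¹ (X ^ (t + 1) : k[X])
        rw [natDegree_X_pow] at this
        omega
    · rintro _ ⟨P, hP, rfl⟩
      have hti := mem_degreeLT.1 hP
      rw [← sum_taylor_eq P (r i)]
      rw [Polynomial.sum_def, map_sum]
      refine Submodule.sum_mem _ fun t ht => ?_
      have hta : t < a i := by
        have h1 := le_natDegree_of_mem_supp t ht
        rw [natDegree_taylor] at h1
        rcases eq_or_ne P 0 with rfl | hP0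
        · simp at ht
        rw [← natDegree_lt_iff_degree_lt hP0] at hti
        omega
      have hne : ((t : k) - a i) ≠ 0 := sub_ne_zero.2 (by exact_mod_cast hta.ne)
      refine ⟨(((taylor (r i)) P).coeff t / ((t : k) - a i)) • ((X - C (r i)) ^ t * Ei r a i), U.smul_mem _ (hdeg.2 ?_), ?_⟩
      · refine natDegree_mul_le.trans ?_
        rw [natDegree_pow, natDegree_X_sub_C, mul_one, Ei, natDegree_prod _ _ fun j _ => pow_ne_zero _ (X_sub_C_ne_zero _)]
        simp only [natDegree_pow, natDegree_X_sub_C, mul_one]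
        have := Finset.add_sum_erase Finset.univ a (Finset.mem_univ i)
        omega
      · have hA : derivative ((X - C (r i)) ^ t) * Rp r = C (t : k) * (X - C (r i)) ^ t * Ri r i := by
          rw [← Rp_eq r i, ← mul_assoc, derivative_pow_mul]
        rw [map_smul, L_mul_Ei, LinearMap.mulLeft_apply, Di_eq, smul_eq_C_mul, hA]
        have hc : C (((taylor (r i)) P).coeff t / ((t : k) - a i)) * C ((t : k) - a i) = C (((taylor (r i)) P).coeff t) := by
          rw [← C_mul, div_mul_cancel₀ _ hne]
        rw [C_sub] at hc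
        linear_combination (Ei r a i * Ri r i * (X - C (r i)) ^ t) * hc
  have hVeq : V = U.map (L r a) := by
    refine Submodule.eq_of_le_of_finrank_le hgen ?_
    rw [hVdim _ rfl]
    let Φ : ((↥(Polynomial.degreeLT k b)) × ((i : Fin m) → ↥(Polynomial.degreeLT k (a i)))) →ₗ[k] V :=
      LinearMap.codRestrict V
        (((LinearMap.mulLeft k (∏ j, (X - C (r j)) ^ (a j + 1))).comp (Submodule.subtype _)).coprod
          (∑ i, ((LinearMap.mulLeft k (∏ j ∈ Finset.univ.erase i, (X - C (r j)) ^ (a j + 1))).comp
            ((Submodule.subtype _).comp (LinearMap.proj i))))) fun x => by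
          rw [hV, LinearMap.coprod_apply, LinearMap.sum_apply]
          exact Submodule.add_mem_sup ⟨_, x.1.2, rfl⟩ (Submodule.sum_mem _ fun i _ =>
            Submodule.mem_iSup_of_mem i ⟨_, (x.2 i).2, rfl⟩)
    have hinj : Function.Injective Φ := by
      rw [← LinearMap.ker_eq_bot, LinearMap.ker_eq_bot']
      rintro ⟨p, q⟩ h
      have h1 : (∏ j, (X - C (r j)) ^ (a j + 1)) * (p : k[X]) +
          ∑ i, (∏ j ∈ Finset.univ.erase i, (X - C (r j)) ^ (a j + 1)) * (q i : k[X]) = 0 := by
        have := congrArg Subtype.val h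
        simpa [Φ] using this
      have hq : ∀ i, q i = 0 := fun i => by
        refine Subtype.ext (by_contra fun hne => ?_)
        change (q i : k[X]) ≠ 0 at hne
        have hdvd : (X - C (r i)) ^ (a i + 1) ∣ (∏ j ∈ Finset.univ.erase i, (X - C (r j)) ^ (a j + 1)) * (q i : k[X]) := by
          rw [← Finset.add_sum_erase _ _ (Finset.mem_univ i)] at h1
          rw [show (∏ j ∈ Finset.univ.erase i, (X - C (r j)) ^ (a j + 1)) * (q i : k[X]) =
            -((∏ j, (X - C (r j)) ^ (a j + 1)) * (p : k[X]) + ∑ l ∈ Finset.univ.erase i,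
              (∏ j ∈ Finset.univ.erase l, (X - C (r j)) ^ (a j + 1)) * (q l : k[X])) by linear_combination h1]
          refine (dvd_add ((Finset.dvd_prod_of_mem _ (Finset.mem_univ i)).mul_right _) (Finset.dvd_sum fun l hl => ?_)).neg_right
          exact (Finset.dvd_prod_of_mem _ (Finset.mem_erase.2 ⟨(Finset.mem_erase.1 hl).1.symm, Finset.mem_univ i⟩)).mul_right _
        have hcop : IsCoprime ((X - C (r i)) ^ (a i + 1)) (∏ j ∈ Finset.univ.erase i, (X - C (r j)) ^ (a j + 1)) :=
          IsCoprime.prod_right fun j hj => (isCoprime_X_sub_C_of_isUnit_sub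
            (sub_ne_zero.2 (hr.ne (Finset.mem_erase.1 hj).1.symm)).isUnit).pow
        have h2 := natDegree_le_of_dvd (hcop.dvd_of_dvd_mul_left hdvd) hne
        rw [natDegree_pow, natDegree_X_sub_C] at h2
        have h3 := mem_degreeLT.1 (q i).2
        rw [← natDegree_lt_iff_degree_lt hne] at h3
        omega
      have hp : p = 0 := by
        have hD : (∏ j, (X - C (r j)) ^ (a j + 1)) ≠ 0 := Finset.prod_ne_zero_iff.2 fun j _ => pow_ne_zero _ (X_sub_C_ne_zero _)
        simp only [hq, ZeroMemClass.coe_zero, mul_zero, Finset.sum_const_zero, add_zero, mul_eq_zero, hD, false_or] at h1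
        exact Subtype.ext h1
      rw [hp, funext hq]
      rfl
    haveI : FiniteDimensional k V := Submodule.finiteDimensional_of_le hgen
    refine le_trans (le_of_eq ?_) (LinearMap.finrank_le_finrank_of_injective hinj)
    rw [Module.finrank_prod, Module.finrank_pi_fintype]
    simp only [hfr]
    omega
  refine ⟨hVdim V hVeq, fun i n => ?_, fun n => ?_⟩
  · -- marked finite points
    let M : Submodule k k[X] := (Polynomial.degreeLT k (N + 1 - n)).map (LinearMap.mulLeft k ((X - C (r i)) ^ n))
    have hM : ∀ G, G ∈ M ↔ G ∈ U ∧ (X - C (r i)) ^ n ∣ G := fun G => by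
      constructor
      · rintro ⟨g, hg, rfl⟩
        refine ⟨?_, dvd_mul_right _ _⟩
        rcases eq_or_ne g 0 with rfl | hg0
        · simp
        have h1 := mem_degreeLT.1 hg
        rw [← natDegree_lt_iff_degree_lt hg0] at h1
        refine hdeg.2 (natDegree_mul_le.trans ?_)
        rw [natDegree_pow, natDegree_X_sub_C]; omega
      · rintro ⟨hG, g, rfl⟩
        refine ⟨g, ?_, rfl⟩
        rcases eq_or_ne g 0 with rfl | hg0
        · exact zero_mem _
        have h1 := hdeg.1 hG
        rw [natDegree_mul (pow_ne_zero _ (X_sub_C_ne_zero _)) hg0, natDegree_pow, natDegree_X_sub_C] at h1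
        refine mem_degreeLT.2 ((natDegree_lt_iff_degree_lt hg0).1 ?_)
        omega
    have hMdim : Module.finrank k M = N + 1 - n := by
      rw [← (Submodule.equivMapOfInjective _ (fun x y h => mul_left_cancel₀ (pow_ne_zero _ (X_sub_C_ne_zero _)) h) _).finrank_eq, hfr]
    have hcut : V ⊓ (Ideal.span {(X - C (r i)) ^ n}).restrictScalars k = M.map (L r a) := by
      apply le_antisymm
      · intro h hh
        obtain ⟨hhV, hh'⟩ := Submodule.mem_inf.1 hh
        rw [hVeq] at hhV
        obtain ⟨G, hG, rfl⟩ := hhV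
        rw [Submodule.restrictScalars_mem, Ideal.mem_span_singleton] at hh'
        obtain ⟨c, hc⟩ : ∃ c : k, (X - C (r i)) ^ n ∣ G - c • Ep r a := by
          have key : ∀ G : k[X], (X - C (r i)) ^ n ∣ L r a G → G.coeff 0 = G.coeff 0 → G ≠ 0 →
              n ≤ G.rootMultiplicity (r i) ∨ G.rootMultiplicity (r i) = a i := fun G hh' _ hG0 => by
            rw [or_iff_not_imp_left, not_le]
            intro hlt
            obtain ⟨g, hg, hgq⟩ := Polynomial.exists_eq_pow_rootMultiplicity_mul_and_not_dvd G hG0 (r i)
            rw [dvd_iff_isRoot, IsRoot] at hgq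
            rw [hg, L_pow_mul] at hh'
            have h2 := (pow_dvd_pow (X - C (r i)) (Nat.succ_le_of_lt hlt)).trans hh'
            rw [pow_succ, mul_dvd_mul_iff_left (pow_ne_zero _ (X_sub_C_ne_zero _)), dvd_iff_isRoot, IsRoot,
              ← Rp_eq r i] at h2
            simp only [eval_sub, eval_add, eval_mul, eval_C, eval_X, sub_self, zero_mul, mul_zero, add_zero, eval_Sp] at h2
            have h'' : (eval (r i) (Ri r i)) * (eval (r i) g) * ((G.rootMultiplicity (r i) : k) - a i) = 0 := by
              linear_combination h2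
            simpa [eval_Ri_self r hr i, hgq, sub_eq_zero] using h''
          rcases eq_or_ne G 0 with rfl | hG0
          · exact ⟨0, by simp⟩
          rcases key G hh' rfl hG0 with hle | heq
          · exact ⟨0, by simpa using (pow_dvd_pow _ hle).trans (pow_rootMultiplicity_dvd G (r i))⟩
          obtain ⟨g, hg, -⟩ := Polynomial.exists_eq_pow_rootMultiplicity_mul_and_not_dvd G hG0 (r i)
          rw [heq] at hg
          refine ⟨g.eval (r i) / (Ei r a i).eval (r i), ?_⟩
          set G' := G - (g.eval (r i) / (Ei r a i).eval (r i)) • Ep r a with hG'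
          rcases eq_or_ne G' 0 with h0 | h0
          · rw [h0]; exact dvd_zero _
          have hdvd : (X - C (r i)) ^ (a i + 1) ∣ G' := by
            rw [hG', hg, ← Ep_eq r a i, smul_eq_C_mul, mul_left_comm, ← mul_sub, pow_succ]
            refine mul_dvd_mul_left _ (dvd_iff_isRoot.2 ?_)
            simp [div_mul_cancel₀ _ (eval_Ei_self r a hr i)]
          have h3 := key G' (by rw [hG', map_sub, map_smul, hLE, smul_zero, sub_zero]; exact hh') rfl h0
          have h4 : a i + 1 ≤ G'.rootMultiplicity (r i) := (le_rootMultiplicity_iff h0).2 hdvd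
          rcases h3 with h3 | h3
          · exact (pow_dvd_pow _ h3).trans (pow_rootMultiplicity_dvd G' (r i))
          · omega
        refine ⟨G - c • Ep r a, (hM _).2 ⟨U.sub_mem hG (U.smul_mem _ (hEU N (by omega))), hc⟩, ?_⟩
        rw [map_sub, map_smul, hLE, smul_zero, sub_zero]
      · rintro _ ⟨G, hG, rfl⟩
        obtain ⟨hGU, g, rfl⟩ := (hM G).1 hG
        refine Submodule.mem_inf.2 ⟨hVeq ▸ ⟨_, hGU, rfl⟩, ?_⟩
        rw [Submodule.restrictScalars_mem, Ideal.mem_span_singleton, L_pow_mul]
        exact dvd_mul_right _ _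
    rw [hcut]
    haveI : FiniteDimensional k M := Submodule.finiteDimensional_of_le (show M ≤ U from fun G hG => ((hM G).1 hG).1)
    split_ifs with hn
    · have hEM : Ep r a ∈ M := (hM _).2 ⟨hEU N (by omega), (pow_dvd_pow _ hn).trans ⟨_, (Ep_eq r a i).symm⟩⟩
      have := finrank_map_add hE0 hEM hLE (hkerP M)
      omega
    · rw [finrank_map_inj ?_, hMdim]
      intro G hG h0
      obtain ⟨c, rfl⟩ := hker G h0
      by_contra hc
      have hc0 : c ≠ 0 := fun h => hc (by simp [h])
      have h1 : (X - C (r i)) ^ n ∣ Ep r a := by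
        have := ((hM _).1 hG).2
        rwa [smul_eq_C_mul, IsUnit.dvd_mul_left (isUnit_C.2 hc0.isUnit)] at this
      rw [← Ep_eq r a i] at h1
      have h2 := ((pow_dvd_pow (X - C (r i)) (show a i + 1 ≤ n by omega)).trans h1)
      rw [pow_succ, mul_dvd_mul_iff_left (pow_ne_zero _ (X_sub_C_ne_zero _)), dvd_iff_isRoot] at h2
      exact eval_Ei_self r a hr i h2
  · -- the point at infinity
    let M : Submodule k k[X] := Polynomial.degreeLT k (N + 1 - n)
    have hd' : d + 1 = N + m := by
      rw [hd, hN, Finset.sum_add_distrib]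
      simp
      omega
    have hcut : V ⊓ Polynomial.degreeLT k (d + 1 - n) = M.map (L r a) := by
      apply le_antisymm
      · intro h hh
        obtain ⟨hhV, hh'⟩ := Submodule.mem_inf.1 hh
        rw [hVeq] at hhV
        obtain ⟨G, hG, rfl⟩ := hhV
        rcases Nat.eq_zero_or_pos m with hm | hm
        · -- no finite marked points
          subst hm
          refine ⟨G - C (G.coeff 0), ?_, ?_⟩
          · refine mem_degreeLT.2 ?_
            have h1 : L r a G = derivative G := by simp [L_apply, Rp, Sp]
            rw [h1] at hh'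
            rcases eq_or_ne (G - C (G.coeff 0)) 0 with h0 | h0
            · rw [h0, degree_zero]; exact WithBot.bot_lt_coe _
            have hG' : (G - C (G.coeff 0)).natDegree = G.natDegree := natDegree_sub_C
            rw [← natDegree_lt_iff_degree_lt h0, hG']
            have hG0 : derivative G ≠ 0 := fun hz => h0 (by rw [eq_C_of_derivative_eq_zero hz]; simp)
            have h2 := mem_degreeLT.1 hh'
            rw [← natDegree_lt_iff_degree_lt hG0, natDegree_derivative] at h2
            omega
          · simp [L_apply, Rp, Sp]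
        suffices key : ∀ G : k[X], L r a G ∈ Polynomial.degreeLT k (d + 1 - n) → G ≠ 0 →
            G.natDegree < N + 1 - n ∨ G.natDegree = ∑ j, a j by
          rcases eq_or_ne G 0 with rfl | hG0
          · exact ⟨0, zero_mem _, rfl⟩
          rcases key G hh' hG0 with hlt | heq
          · exact ⟨G, mem_degreeLT.2 ((natDegree_lt_iff_degree_lt hG0).1 hlt), rfl⟩
          set G' := G - G.leadingCoeff • Ep r a with hG'
          have hL : L r a G' = L r a G := by rw [hG', map_sub, map_smul, hLE, smul_zero, sub_zero]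
          refine ⟨G', mem_degreeLT.2 ?_, hL⟩
          rcases eq_or_ne G' 0 with h0 | h0
          · rw [h0, degree_zero]; exact WithBot.bot_lt_coe _
          rcases key G' (hL ▸ hh') h0 with h | h
          · exact (natDegree_lt_iff_degree_lt h0).1 h
          exfalso
          have h1 : G'.coeff (∑ j, a j) = 0 := by
            rw [hG', coeff_sub, coeff_smul, ← natDegree_Ep r a, Monic.coeff_natDegree (Ep_monic r a), smul_eq_mul, mul_one,
              natDegree_Ep, ← heq]
            exact sub_self _
          exact h0 (leadingCoeff_eq_zero.1 (by rw [leadingCoeff, h]; exact h1))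
        intro G hh' hG0
        rw [or_iff_not_imp_left, not_lt]
        intro hle
        have h1 := L_coeff r a G hm.ne'
        rw [coeff_eq_zero_of_degree_lt (lt_of_lt_of_le (mem_degreeLT.1 hh') (by exact_mod_cast (show d + 1 - n ≤ G.natDegree + m - 1 by omega)))] at h1
        have h2 := h1.symm
        rw [mul_eq_zero] at h2
        rcases h2 with h2 | h2
        · exact absurd (leadingCoeff_eq_zero.1 h2) hG0
        · exact_mod_cast sub_eq_zero.1 h2
      · rintro _ ⟨G, hG, rfl⟩
        rcases eq_or_ne G 0 with rfl | hG0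
        · simp
        have h1 := mem_degreeLT.1 hG
        rw [← natDegree_lt_iff_degree_lt hG0] at h1
        refine Submodule.mem_inf.2 ⟨hVeq ▸ ⟨G, hdeg.2 (by omega), rfl⟩, mem_degreeLT.2 ?_⟩
        rcases eq_or_ne (L r a G) 0 with h0 | h0
        · rw [h0, degree_zero]; exact WithBot.bot_lt_coe _
        rw [← natDegree_lt_iff_degree_lt h0]
        rcases Nat.eq_zero_or_pos m with hm | hm
        · subst hm
          have : L r a G = derivative G := by simp [L_apply, Rp, Sp]
          rw [this] at h0 ⊢
          rw [natDegree_derivative]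
          have := natDegree_pos_iff_degree_pos.2 (by
            by_contra hc
            exact h0 (derivative_of_natDegree_zero (by
              by_contra hne
              exact hc (natDegree_pos_iff_degree_pos.1 (Nat.pos_of_ne_zero hne)))))
          omega
        have := natDegree_L_le r a G
        omega
    rw [hcut]
    have hMdim : Module.finrank k M = N + 1 - n := hfr _
    split_ifs with hn
    · have hEM : Ep r a ∈ M := by
        show Ep r a ∈ Polynomial.degreeLT k (N + 1 - n)
        rw [show N + 1 - n = (N - n) + 1 by omega]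
        exact hEU _ (by omega)
      have := finrank_map_add hE0 hEM hLE (hkerP M)
      omega
    · rw [finrank_map_inj ?_, hMdim]
      intro G hG h0
      obtain ⟨c, rfl⟩ := hker G h0
      by_contra hc
      have h1 := mem_degreeLT.1 hG
      rw [← natDegree_lt_iff_degree_lt hc, natDegree_smul _ (fun h => hc (by simp [h])), natDegree_Ep] at h1
      omega

end Groth.Agent.S17241
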