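import Groth.Statements.S17242
import Mathlib
-- import your own Groth.Agent.* helpers here

set_option autoImplicit false
open W4c4effdivwronsk2

namespace Groth.Agent.S17242

open Polynomial in
/-- Let `k` be a field of characteristic zero and take, on the projective line over `k`, the point `∞`
and `m` further distinct points `r_1, …, r_m` of the affine line, with positive integers `b` (at
`∞`) and `a_1, …, a_m`; put `N = b + ∑ a_j`. The sum of the spaces of differentials with a single
pole, of order at most `b + 1` at `∞`, resp. at most `a_j + 1` at `r_j`, `V = H⁰(ω((b+1)∞)) + ∑_j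
H⁰(ω((a_j+1)r_j)) ⊆ H⁰(ω((b+1)∞ + ∑_j (a_j+1)r_j)) ≅ H⁰(O(d))`, `d = b - 1 + ∑ (a_j+1)`, becomes,
after multiplying by `dX⁻¹ ∏_j (X - r_j)^(a_j+1)`, the subspace of `k[X]_{≤ d}` spanned by
`D·k[X]_{<b}` and the `D_i·k[X]_{<a_i}`, where `D = ∏_j (X - r_j)^(a_j+1)` and `D_i` omits the
`i`-th factor; a member `h` vanishes to order `n` at a point `q` of the affine line when `(X - q)^n
∣ h`, and to order `d - deg h` at `∞`. Then `V` (of dimension `N`) has no ramification point off the
marked points: at every point `q` of the affine line other than the `r_j` the vanishing orders are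
`0, 1, …, N - 1`, i.e. no nonzero member of `V` is divisible by `(X - q)^N`. (The published
statement is over the complex numbers, where every unmarked point is such a `q` once one marked
point is placed at `∞`.) -/
theorem result
    (k : Type*) [Field k] [CharZero k] (m : ℕ) (r : Fin m → k) (hr : Function.Injective r)
    (a : Fin m → ℕ) (ha : ∀ j, 1 ≤ a j) (b : ℕ) (hb : 1 ≤ b) (N d : ℕ)
    (hN : N = (∑ j, a j) + b) (hd : d + 1 = (∑ j, (a j + 1)) + b)
    (V : Submodule k (Polynomial k))
    (hV : V = (Polynomial.degreeLT k b).map (LinearMap.mulLeft k (∏ j, (X - C (r j)) ^ (a j + 1))) ⊔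
      ⨆ i, (Polynomial.degreeLT k (a i)).map
        (LinearMap.mulLeft k (∏ j ∈ Finset.univ.erase i, (X - C (r j)) ^ (a j + 1))))
    (q : k) (hq : ∀ j, q ≠ r j) :
    V ⊓ (Ideal.span {(X - C q) ^ N}).restrictScalars k = ⊥ := by
  classical
  set E : k[X] := ∏ j, (X - C (r j)) ^ a j with hE
  set F : k[X] := ∏ j, (X - C (r j)) with hF
  set D : k[X] := ∏ j, (X - C (r j)) ^ (a j + 1) with hD
  have hDEF : D = E * F := by
    rw [hD, hE, hF, ← Finset.prod_mul_distrib]; simp only [pow_succ]
  let L : k[X] →ₗ[k] k[X] := (LinearMap.mulLeft k F).comp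
    ((LinearMap.mulRight k E).comp Polynomial.derivative - LinearMap.mulRight k (Polynomial.derivative E))
  have hL : ∀ Q, L Q = F * (Polynomial.derivative Q * E - Q * Polynomial.derivative E) := fun Q => rfl
  have hdegE : E.natDegree = ∑ j, a j := by
    rw [hE, Polynomial.natDegree_prod _ _ fun j _ => pow_ne_zero _ (X_sub_C_ne_zero _)]
    exact Finset.sum_congr rfl fun j _ => by rw [natDegree_pow, natDegree_X_sub_C, mul_one]
  have key : V ≤ ((Polynomial.degreeLE k (N : ℕ)).map L).comap (LinearMap.mulRight k E) := by
    rw [hV]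
    refine sup_le (Submodule.map_le_iff_le_comap.2 fun S hS => ?_) (iSup_le fun i => Submodule.map_le_iff_le_comap.2 fun P hP => ?_)
    · simp only [Submodule.mem_comap, LinearMap.mulLeft_apply, LinearMap.mulRight_apply, Submodule.mem_map]
      let T : k[X] := ∑ j ∈ Finset.range b, monomial (j + 1) (S.coeff j / (j + 1))
      have hS' : S.natDegree < b ∨ S = 0 := by
        by_cases h0 : S = 0
        · exact Or.inr h0
        · exact Or.inl ((natDegree_lt_iff_degree_lt h0).2 (mem_degreeLT.1 hS))
      have hT' : Polynomial.derivative T = S := by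
        simp only [T, map_sum, derivative_monomial]
        rcases hS' with h | rfl
        · conv_rhs => rw [S.as_sum_range' b h]
          refine Finset.sum_congr rfl fun j _ => ?_
          have : ((j : k) + 1) ≠ 0 := Nat.cast_add_one_ne_zero j
          simp [Nat.cast_add, Nat.cast_one]; field_simp
        · simp
      have hTd : T.natDegree ≤ b := Polynomial.natDegree_sum_le_of_forall_le _ _ fun j hj =>
        (natDegree_monomial_le _).trans (Finset.mem_range.1 hj)
      refine ⟨T * E, mem_degreeLE.2 (natDegree_le_iff_degree_le.1 (natDegree_mul_le.trans ?_)), ?_⟩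
      · rw [hN, hdegE]; omega
      · rw [hL, derivative_mul, hT', hDEF]; ring
    · simp only [Submodule.mem_comap, LinearMap.mulLeft_apply, LinearMap.mulRight_apply, Submodule.mem_map]
      obtain ⟨c, hc⟩ : ∃ c, a i = c + 1 := ⟨a i - 1, by have := ha i; omega⟩
      let G : k[X] := ∑ j ∈ Finset.range (a i), monomial j ((taylor (r i) P).coeff j / ((j : k) - a i))
      have hG : Polynomial.derivative G * X - C (a i : k) * G = taylor (r i) P := by
        ext n
        have hGn : G.coeff n = if n < a i then (taylor (r i) P).coeff n / ((n : k) - a i) else 0 := by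
          simp only [G, finset_sum_coeff, coeff_monomial, Finset.sum_ite_eq', Finset.mem_range]
        have hdX : (Polynomial.derivative G * X).coeff n = (n : k) * G.coeff n := by
          cases n with
          | zero => simp
          | succ n => rw [coeff_mul_X, coeff_derivative]; push_cast; ring
        rw [coeff_sub, hdX, coeff_C_mul, hGn]
        split_ifs with hn
        · have : (n : k) - a i ≠ 0 := sub_ne_zero.2 (Nat.cast_injective.ne hn.ne)
          field_simp
        · rw [mul_zero, mul_zero, sub_zero, coeff_eq_zero_of_degree_lt]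
          rw [degree_taylor]
          exact (mem_degreeLT.1 hP).trans_le (by exact_mod_cast not_lt.1 hn)
      set R : k[X] := G.comp (X - C (r i)) with hR
      have hP' : Polynomial.derivative R * (X - C (r i)) - C (a i : k) * R = P := by
        have := congrArg (fun p => Polynomial.comp p (X - C (r i))) hG
        simp only [sub_comp, mul_comp, X_comp, C_comp, taylor_apply, comp_assoc, add_comp, sub_add_cancel, comp_X] at this
        rw [hR, derivative_comp]
        simpa using this
      set Ei : k[X] := ∏ j ∈ Finset.univ.erase i, (X - C (r j)) ^ a j with hEi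
      set Fi : k[X] := ∏ j ∈ Finset.univ.erase i, (X - C (r j)) with hFi
      have hDi : (∏ j ∈ Finset.univ.erase i, (X - C (r j)) ^ (a j + 1)) = Ei * Fi := by
        rw [hEi, hFi, ← Finset.prod_mul_distrib]; simp only [pow_succ]
      have hEs : E = Ei * (X - C (r i)) ^ (c + 1) := by
        rw [hE, hEi, ← hc, Finset.prod_erase_mul _ _ (Finset.mem_univ i)]
      have hFs : F = Fi * (X - C (r i)) := by
        rw [hF, hFi, Finset.prod_erase_mul _ _ (Finset.mem_univ i)]
      have hRd : R.natDegree ≤ a i := by
        rw [hR, natDegree_comp, natDegree_X_sub_C, mul_one]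
        exact Polynomial.natDegree_sum_le_of_forall_le _ _ fun j hj =>
          (natDegree_monomial_le _).trans (Finset.mem_range.1 hj).le
      have hEid : Ei.natDegree + a i = ∑ j, a j := by
        rw [← hdegE, hEs, natDegree_mul (Finset.prod_ne_zero_iff.2 fun j _ => pow_ne_zero _ (X_sub_C_ne_zero _))
          (pow_ne_zero _ (X_sub_C_ne_zero _)), natDegree_pow, natDegree_X_sub_C, mul_one, hc]
      refine ⟨R * Ei, mem_degreeLE.2 (natDegree_le_iff_degree_le.1 (natDegree_mul_le.trans ?_)), ?_⟩
      · rw [hN, ← hEid]; omega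
      · rw [hL, hDi, ← hP', hEs, hFs, hc]
        simp only [derivative_mul, derivative_pow, derivative_sub, derivative_X, derivative_C,
          Nat.add_sub_cancel, sub_zero, mul_one]
        push_cast
        simp only [map_add, map_one, map_natCast, pow_succ]
        ring
  rw [eq_bot_iff]
  rintro h ⟨hV', hq'⟩
  obtain ⟨Q, hQ, hQh⟩ := key hV'
  rw [hL, LinearMap.mulRight_apply] at hQh
  have hdvd : (X - C q) ^ N ∣ h := Ideal.mem_span_singleton.1 hq'
  have hEq : E.eval q ≠ 0 := by
    rw [hE, eval_prod]; exact Finset.prod_ne_zero_iff.2 fun j _ => by simp [sub_ne_zero.2 (hq j)]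
  have hFq : F.eval q ≠ 0 := by
    rw [hF, eval_prod]; exact Finset.prod_ne_zero_iff.2 fun j _ => by simp [sub_ne_zero.2 (hq j)]
  have hcop : ∀ p : k[X], p.eval q ≠ 0 → ∀ n : ℕ, IsCoprime ((X - C q) ^ n) p := fun p hp n =>
    IsCoprime.pow_left ((Polynomial.irreducible_X_sub_C q).coprime_iff_not_dvd.2 fun hd =>
      hp (dvd_iff_isRoot.1 hd))
  have hdG : (X - C q) ^ N ∣ Polynomial.derivative Q * E - Q * Polynomial.derivative E :=
    (hcop F hFq N).dvd_of_dvd_mul_left (hQh ▸ hdvd.mul_right E)
  set c : k := Q.eval q / E.eval q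
  set Q₁ : k[X] := Q - C c * E with hQ₁
  have hG1 : Polynomial.derivative Q * E - Q * Polynomial.derivative E =
      Polynomial.derivative Q₁ * E - Q₁ * Polynomial.derivative E := by
    rw [hQ₁, derivative_sub, derivative_C_mul]; ring
  have hroot : Q₁.IsRoot q := by
    show Q₁.eval q = 0
    rw [hQ₁, eval_sub, eval_mul, eval_C, div_mul_cancel₀ _ hEq, sub_self]
  by_cases h1 : Q₁ = 0
  · rw [hG1, h1] at hQh
    simp only [map_zero, zero_mul, sub_zero, mul_zero] at hQh
    rw [Submodule.mem_bot]
    exact (mul_eq_zero.1 hQh.symm).resolve_right fun he => hEq (by rw [he, eval_zero])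
  exfalso
  set μ := Q₁.rootMultiplicity q with hμ
  have hμpos : 0 < μ := (rootMultiplicity_pos h1).2 hroot
  have hdeg1 : Q₁.natDegree ≤ N := by
    rw [hQ₁]
    refine (natDegree_sub_le _ _).trans (max_le (natDegree_le_iff_degree_le.2 (mem_degreeLE.1 hQ)) ?_)
    exact (natDegree_C_mul_le _ _).trans (by rw [hdegE, hN]; omega)
  have hμN : μ ≤ N :=
    le_trans (by simpa using natDegree_le_of_dvd (pow_rootMultiplicity_dvd Q₁ q) h1) hdeg1
  have h2 : (X - C q) ^ μ ∣ Polynomial.derivative Q₁ * E := by
    have := ((pow_dvd_pow _ hμN).trans (hG1 ▸ hdG)).add ((pow_rootMultiplicity_dvd Q₁ q).mul_right (Polynomial.derivative E))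
    rwa [sub_add_cancel] at this
  have h3 : (X - C q) ^ μ ∣ Polynomial.derivative Q₁ := (hcop E hEq μ).dvd_of_dvd_mul_right h2
  have hne : Polynomial.derivative Q₁ ≠ 0 := fun h0 => by
    have hC := eq_C_of_derivative_eq_zero h0
    rw [hC, IsRoot, eval_C] at hroot
    exact h1 (by rw [hC, hroot, map_zero])
  have := (le_rootMultiplicity_iff hne).2 h3
  rw [derivative_rootMultiplicity_of_root hroot] at this
  omega

end Groth.Agent.S17242
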