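import Groth.Statements.S17243
import Mathlib
import Groth.Prelude
import Groth.Agent.CommAlg4.PoleSys

set_option linter.all false

set_option autoImplicit false
open W4c4effdivwronsk2

open Polynomial

namespace Groth.Agent.S17243

open Polynomial in
/-- Let `k` be a field of characteristic zero and take, on the projective line over `k`, the point `∞`
and `m` further distinct points `r_1, …, r_m` of the affine line, with positive integers `b` (at
`∞`) and `a_1, …, a_m`; put `N = b + ∑ a_j`. The sum of the spaces of differentials with a single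
pole, of order at most `b + 1` at `∞`, resp. at most `a_j + 1` at `r_j`, `V = H⁰(ω((b+1)∞)) + ∑_j
H⁰(ω((a_j+1)r_j)) ⊆ H⁰(ω((b+1)∞ + ∑_j (a_j+1)r_j)) ≅ H⁰(O(d))`, `d = b - 1 + ∑ (a_j+1)`, becomes,
after multiplying by `dX⁻¹ ∏_j (X - r_j)^(a_j+1)`, the subspace of `k[X]_{≤ d}` spanned by
`D·k[X]_{<b}` and the `D_i·k[X]_{<a_i}`, where `D = ∏_j (X - r_j)^(a_j+1)` and `D_i` omits the
`i`-th factor; a member `h` vanishes to order `n` at a point `q` of the affine line when `(X - q)^n
∣ h`, and to order `d - deg h` at `∞`. Let `V₁ ⊆ V` be a hyperplane (`dim V₁ = N - 1`) containing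
`H⁰(ω((b-1)∞)) + ∑_j H⁰(ω((a_j+1)r_j))`, i.e. containing `D·k[X]_{<b-2}` and every
`D_i·k[X]_{<a_i}`. Then `V₁` has at most one ramification point off the marked points, and that
point is simple: at every point `q` of the affine line other than the `r_j` the weight of `V₁` is at
most one (no nonzero member divisible by `(X - q)^N`, at most a line of members divisible by `(X -
q)^(N-2)`), and at most one such `q` has positive weight (a nonzero member divisible by `(X -
q)^(N-1)`). (The published statement is over the complex numbers with the distinguished marked point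
arbitrary; it is placed at `∞` here, so that the unmarked points are the points of the affine line
other than the `r_j`.) -/
theorem result
    (k : Type*) [Field k] [CharZero k] (m : ℕ) (r : Fin m → k) (hr : Function.Injective r)
    (a : Fin m → ℕ) (ha : ∀ j, 1 ≤ a j) (b : ℕ) (hb : 1 ≤ b) (N d : ℕ)
    (hN : N = (∑ j, a j) + b) (hd : d + 1 = (∑ j, (a j + 1)) + b)
    (V : Submodule k (Polynomial k))
    (hV : V = (Polynomial.degreeLT k b).map (LinearMap.mulLeft k (∏ j, (X - C (r j)) ^ (a j + 1))) ⊔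
      ⨆ i, (Polynomial.degreeLT k (a i)).map
        (LinearMap.mulLeft k (∏ j ∈ Finset.univ.erase i, (X - C (r j)) ^ (a j + 1))))
    (V₁ : Submodule k (Polynomial k)) (hV₁ : V₁ ≤ V) (hfin : Module.finrank k ↥V₁ + 1 = N)
    (hU : (Polynomial.degreeLT k (b - 2)).map (LinearMap.mulLeft k (∏ j, (X - C (r j)) ^ (a j + 1))) ⊔
      (⨆ i, (Polynomial.degreeLT k (a i)).map
        (LinearMap.mulLeft k (∏ j ∈ Finset.univ.erase i, (X - C (r j)) ^ (a j + 1)))) ≤ V₁) :
    (∀ q : k, (∀ j, q ≠ r j) →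
      (V₁ ⊓ (Ideal.span {(X - C q) ^ N}).restrictScalars k) = ⊥ ∧
      Module.finrank k ↥(V₁ ⊓ (Ideal.span {(X - C q) ^ (N - 2)}).restrictScalars k) ≤ 1) ∧
    (∀ q q' : k, (∀ j, q ≠ r j) → (∀ j, q' ≠ r j) →
      (V₁ ⊓ (Ideal.span {(X - C q) ^ (N - 1)}).restrictScalars k) ≠ ⊥ →
      (V₁ ⊓ (Ideal.span {(X - C q') ^ (N - 1)}).restrictScalars k) ≠ ⊥ → q = q') := by
  classical
  haveI : Module.Finite k V₁ := by
    haveI : Module.Finite k ↥((degreeLT k ((∑ j, a j) + b + 1)).map (Groth.Agent.CommAlg4.PoleSys.Λ r a)) := by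
      haveI : Module.Finite k ↥(degreeLT k ((∑ j, a j) + b + 1)) := Module.Finite.equiv (degreeLTEquiv k _).symm
      exact Module.Finite.map _ _
    exact Submodule.finiteDimensional_of_le (hV₁.trans (hV ▸ Groth.Agent.CommAlg4.PoleSys.le_range r a b))
  set T := (degreeLT k ((∑ j, a j) + b + 1)).map (Groth.Agent.CommAlg4.PoleSys.Λ r a) with hT
  have hVT : V = T := by
    refine le_antisymm (hV ▸ Groth.Agent.CommAlg4.PoleSys.le_range r a b) ?_
    rw [hV, hT, add_assoc]
    simpa using Groth.Agent.CommAlg4.PoleSys.range_le r a hr (b + 1)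
  have hmemT : ∀ h ∈ V, h ∈ (degreeLT k ((∑ j, a j) + b + 1)).map (Groth.Agent.CommAlg4.PoleSys.Λ r a) := fun h hh => by
    rw [← hT, ← hVT]; exact hh
  have hlowV : (degreeLT k (N - 1)).map (Groth.Agent.CommAlg4.PoleSys.Λ r a) ≤ V₁ := by
    refine le_trans ?_ hU
    rw [show N - 1 = (∑ j, a j) + (b - 1) by omega]
    have h := Groth.Agent.CommAlg4.PoleSys.range_le r a hr (b - 1)
    rwa [show b - 1 - 1 = b - 2 by omega] at h
  have hfull : ∀ M M' : k[X], Groth.Agent.CommAlg4.PoleSys.Λ r a M ∈ V₁ → Groth.Agent.CommAlg4.PoleSys.Λ r a M' ∈ V₁ →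
      M'.degree < ((N - 1 + 1 : ℕ) : WithBot ℕ) → M'.coeff (N - 1) ≠ 0 →
      M.degree < ((N - 1 + 1 + 1 : ℕ) : WithBot ℕ) → M.coeff (N - 1 + 1) ≠ 0 → False := by
    intro M M' h1 h2 hd' hc' hd hc
    have hA := Groth.Agent.CommAlg4.PoleSys.degreeLT_succ_le (N - 1) (V₁.comap (Groth.Agent.CommAlg4.PoleSys.Λ r a))
      (Submodule.map_le_iff_le_comap.1 hlowV) M' h2 hd' hc'
    have hB := Groth.Agent.CommAlg4.PoleSys.degreeLT_succ_le (N - 1 + 1) _ hA M h1 hd hc
    rw [show N - 1 + 1 + 1 = (∑ j, a j) + b + 1 by omega, ← Submodule.map_le_iff_le_comap] at hB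
    have heq : V₁ = T := le_antisymm (hVT ▸ hV₁) hB
    rw [heq, hT, Groth.Agent.CommAlg4.PoleSys.finrank_range r a b N hN] at hfin
    omega
  have hpow : ∀ (q : k) (n : ℕ), ((X - C q) ^ n).degree < ((n + 1 : ℕ) : WithBot ℕ) ∧ ((X - C q) ^ n).coeff n = 1 := by
    intro q n
    refine ⟨by rw [degree_pow, degree_X_sub_C, nsmul_one]; exact_mod_cast Nat.lt_succ_self n, ?_⟩
    rw [sub_eq_add_neg, ← C_neg, coeff_X_add_C_pow]; simp
  have hmem : ∀ q : k, (∀ j, q ≠ r j) → (V₁ ⊓ (Ideal.span {(X - C q) ^ (N - 1)}).restrictScalars k) ≠ ⊥ →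
      Groth.Agent.CommAlg4.PoleSys.Λ r a ((X - C q) ^ N) ∈ V₁ := by
    intro q hq hne
    obtain ⟨h, ⟨hh1, hh2⟩, h0⟩ := Submodule.exists_mem_ne_zero_of_ne_bot hne
    obtain ⟨e, he⟩ := Groth.Agent.CommAlg4.PoleSys.eq_smul_of_dvd r a b N hN hb q hq h (hmemT _ (hV₁ hh1))
      (Ideal.mem_span_singleton.1 hh2)
    have he0 : e ≠ 0 := fun he' => h0 (by rw [he, he', zero_smul])
    exact (Submodule.smul_mem_iff _ he0).1 (he ▸ hh1)
  refine ⟨fun q hq => ⟨?_, ?_⟩, ?_⟩
  · rw [eq_bot_iff]
    rintro h ⟨hh1, hh2⟩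
    exact Groth.Agent.CommAlg4.PoleSys.eq_zero_of_dvd r a b N hN q hq h (hmemT _ (hV₁ hh1)) (Ideal.mem_span_singleton.1 hh2)
  · by_cases hN2 : 2 ≤ N
    · set B : Submodule k k[X] := Submodule.span k {Groth.Agent.CommAlg4.PoleSys.Λ r a ((X - C q) ^ N),
        Groth.Agent.CommAlg4.PoleSys.Λ r a ((X - C q) ^ (N - 1))} with hB
      have hle : V₁ ⊓ (Ideal.span {(X - C q) ^ (N - 2)}).restrictScalars k ≤ B := fun h hh =>
        Groth.Agent.CommAlg4.PoleSys.mem_span_of_dvd r a b N hN hN2 q hq h (hmemT _ (hV₁ hh.1)) (Ideal.mem_span_singleton.1 hh.2)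
      haveI : Module.Finite k B := Module.Finite.span_of_finite k (Set.toFinite _)
      have h2 : Module.finrank k B ≤ 2 := (finrank_span_le_card _).trans (by
        rw [Set.toFinset_insert, Set.toFinset_singleton]; exact Finset.card_le_two)
      by_contra hgt
      have heq := Submodule.eq_of_le_of_finrank_le hle (by omega)
      refine hfull ((X - C q) ^ N) ((X - C q) ^ (N - 1)) (heq.ge (Submodule.subset_span (by simp))).1
        (heq.ge (Submodule.subset_span (by simp))).1 (hpow q _).1 (by simp [(hpow q (N - 1)).2]) ?_ ?_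
      · rw [show N - 1 + 1 = N by omega]; exact (hpow q N).1
      · rw [show N - 1 + 1 = N by omega]; simp [(hpow q N).2]
    · exact (Submodule.finrank_mono inf_le_left).trans (by omega)
  · intro q q' hq hq' h1 h2
    by_contra hne
    have e1 := hmem q hq h1
    have e2 := hmem q' hq' h2
    have hN' : N - 1 + 1 = N := by omega
    refine hfull ((X - C q) ^ N) ((X - C q) ^ N - (X - C q') ^ N) e1 (by rw [map_sub]; exact sub_mem e1 e2) ?_ ?_
      (by rw [hN']; exact (hpow q N).1) (by rw [hN']; simp [(hpow q N).2])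
    · rw [hN']
      refine (degree_lt_iff_coeff_zero _ _).2 fun i hi => ?_
      rcases eq_or_lt_of_le hi with rfl | hlt
      · simp [(hpow q N).2, (hpow q' N).2]
      · rw [coeff_sub, (degree_lt_iff_coeff_zero _ _).1 (hpow q N).1 i hlt, (degree_lt_iff_coeff_zero _ _).1 (hpow q' N).1 i hlt, sub_zero]
    · rw [coeff_sub, sub_eq_add_neg X (C q), sub_eq_add_neg X (C q'), ← C_neg, ← C_neg, coeff_X_add_C_pow, coeff_X_add_C_pow,
        show N - (N - 1) = 1 by omega, pow_one, pow_one, show N.choose (N - 1) = N by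
          rw [Nat.choose_symm (show 1 ≤ N by omega), Nat.choose_one_right]]
      intro hz
      have hNk : (N : k) ≠ 0 := Nat.cast_ne_zero.2 (by omega)
      have : (q' - q) * (N : k) = 0 := by linear_combination hz
      exact hne (sub_eq_zero.1 ((mul_eq_zero.1 this).resolve_right hNk)).symm

end Groth.Agent.S17243
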