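import Groth.Statements.S17244
import Groth.Agent.PoleW15.Basic
import Mathlib
-- import your own Groth.Agent.* helpers here

set_option autoImplicit false
open W4c4effdivwronsk2

namespace Groth.Agent.S17244

open Polynomial in
/-- Let `k` be a field of characteristic zero and take, on the projective line over `k`, the point `∞`
and `m` further distinct points `r_1, …, r_m` of the affine line, with positive integers `b` (at
`∞`) and `a_1, …, a_m`; put `N = b + ∑ a_j`. The sum of the spaces of differentials with a single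
pole, of order at most `b + 1` at `∞`, resp. at most `a_j + 1` at `r_j`, `V = H⁰(ω((b+1)∞)) + ∑_j
H⁰(ω((a_j+1)r_j)) ⊆ H⁰(ω((b+1)∞ + ∑_j (a_j+1)r_j)) ≅ H⁰(O(d))`, `d = b - 1 + ∑ (a_j+1)`, becomes,
after multiplying by `dX⁻¹ ∏_j (X - r_j)^(a_j+1)`, the subspace of `k[X]_{≤ d}` spanned by
`D·k[X]_{<b}` and the `D_i·k[X]_{<a_i}`, where `D = ∏_j (X - r_j)^(a_j+1)` and `D_i` omits the
`i`-th factor; a member `h` vanishes to order `n` at a point `q` of the affine line when `(X - q)^n
∣ h`, and to order `d - deg h` at `∞`. Let `V₁ ⊆ V` be a hyperplane (`dim V₁ = N - 1`) containing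
`D·k[X]_{<b-2}` and every `D_i·k[X]_{<a_i}` (that is, containing `H⁰(ω((b-1)∞)) + ∑_j
H⁰(ω((a_j+1)r_j))`). The weight of `V₁` at a point is `∑_{n=1}^{d} dim V₁(-n·point) - (N-1 choose
2)` (the sum of the vanishing orders minus `0 + 1 + ⋯ + (N-2)`). Then the weight of `V₁` at `r_i` is
`∑_{j≠i} a_j + b - 1 + ε_i` and its weight at `∞` is `∑_j a_j + N - 2 + ε`, with `ε_i, ε ∈ {0, 1}`.
(The published statement is over the complex numbers with the distinguished marked point arbitrary;
it is placed at `∞` here.) -/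
theorem result
    (k : Type*) [Field k] [CharZero k] (m : ℕ) (r : Fin m → k) (hr : Function.Injective r)
    (a : Fin m → ℕ) (ha : ∀ j, 1 ≤ a j) (b : ℕ) (hb : 1 ≤ b) (N d : ℕ)
    (hN : N = (∑ j, a j) + b) (hd : d + 1 = (∑ j, (a j + 1)) + b)
    (V : Submodule k (Polynomial k))
    (hV : V = (Polynomial.degreeLT k b).map (LinearMap.mulLeft k (∏ j, (X - C (r j)) ^ (a j + 1))) ⊔
      ⨆ i, (Polynomial.degreeLT k (a i)).map
        (LinearMap.mulLeft k (∏ j ∈ Finset.univ.erase i, (X - C (r j)) ^ (a j + 1))))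
    (V₁ : Submodule k (Polynomial k)) (hV₁ : V₁ ≤ V) (hfin : Module.finrank k ↥V₁ + 1 = N)
    (hU : (Polynomial.degreeLT k (b - 2)).map (LinearMap.mulLeft k (∏ j, (X - C (r j)) ^ (a j + 1))) ⊔
      (⨆ i, (Polynomial.degreeLT k (a i)).map
        (LinearMap.mulLeft k (∏ j ∈ Finset.univ.erase i, (X - C (r j)) ^ (a j + 1)))) ≤ V₁) :
    (∀ i : Fin m, ∃ ε : ℕ, ε ≤ 1 ∧
      (∑ n ∈ Finset.range d, Module.finrank k ↥(V₁ ⊓ (Ideal.span {(X - C (r i)) ^ (n + 1)}).restrictScalars k)) + 1 =
        (N - 1).choose 2 + (N - a i) + ε) ∧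
    (∃ ε : ℕ, ε ≤ 1 ∧
      (∑ n ∈ Finset.range d, Module.finrank k ↥(V₁ ⊓ Polynomial.degreeLT k (d - n))) =
        (N - 1).choose 2 + (N - b) + (N - 2) + ε) := by
  classical
  have hV' : V = PoleW15.Vs r a N := hV.trans (PoleW15.V_eq r a hr b N hN)
  subst hV'
  have hfull : Module.finrank k ↥(PoleW15.Vs r a N) = N := by
    rw [PoleW15.Vs, PoleW15.finrank_map_Λ r a N (by omega) _ le_rfl, if_pos (PoleW15.D₀_mem r a N (by omega)),
      CommAlg4.PoleSys.finrank_degreeLT, Nat.add_sub_cancel]
  have hd' : d + 1 = N + m := by rw [hd, hN, Finset.sum_add_distrib]; simp; omega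
  have hlow : (degreeLT k (N - 1)).map (CommAlg4.PoleSys.Λ r a) ≤ V₁ := by
    refine le_trans ?_ hU
    rw [show N - 1 = (∑ j, a j) + (b - 1) by omega]
    have h := CommAlg4.PoleSys.range_le r a hr (b - 1)
    rwa [show b - 1 - 1 = b - 2 by omega] at h
  have hchoose : N.choose 2 = (N - 1).choose 2 + (N - 1) := by
    obtain ⟨c, hc⟩ : ∃ c, N = c + 1 := ⟨N - 1, by omega⟩
    rw [hc, Nat.choose_succ_succ' c 1, Nat.choose_one_right, Nat.add_sub_cancel]; ring
  constructor
  · intro i
    have hai : a i ≤ ∑ j, a j := Finset.single_le_sum (fun j _ => Nat.zero_le _) (Finset.mem_univ i)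
    have hm := Fin.pos i
    have hkey := PoleW15.hyperplane_sum r a V₁ N hV₁ (by omega)
      (fun n => (Ideal.span {(X - C (r i)) ^ (n + 1)}).restrictScalars k) d (N - 1) (by omega) ?_ ?_
    obtain ⟨δ, hδ, hsum, -⟩ := hkey
    · rw [Finset.sum_congr rfl fun n _ => PoleW15.finrank_pt r a hr N (by omega) i (n + 1),
        PoleW15.sum_dims N d (a i) (by omega) (by omega) (Or.inl (by omega))] at hsum
      exact ⟨1 - δ, by omega, by omega⟩
    · intro n hn hle
      have hmem : ∀ e, n + 1 ≤ e → e ≤ N → (X - C (r i)) ^ e ∈ V₁.comap (CommAlg4.PoleSys.Λ r a) := by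
        intro e he he'
        refine hle ?_
        rw [PoleW15.Vs_inf_pt r a hr N (by omega) i (n + 1)]
        refine ⟨_, (PoleW15.mem_Wpt _ _ _ _).2 ⟨?_, pow_dvd_pow _ he⟩, rfl⟩
        rw [mem_degreeLT, degree_pow, degree_X_sub_C, nsmul_one]
        exact_mod_cast Nat.lt_succ_of_le he'
      have hc : ∀ e : ℕ, ((X - C (r i)) ^ e).degree < ((e + 1 : ℕ) : WithBot ℕ) ∧ ((X - C (r i)) ^ e).coeff e ≠ 0 := by
        intro e
        refine ⟨by rw [degree_pow, degree_X_sub_C, nsmul_one]; exact_mod_cast Nat.lt_succ_self e, ?_⟩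
        rw [sub_eq_add_neg, ← C_neg, coeff_X_add_C_pow]; simp
      have hA := CommAlg4.PoleSys.degreeLT_succ_le (N - 1) _ (Submodule.map_le_iff_le_comap.1 hlow) _
        (hmem (N - 1) (by omega) (by omega)) (hc _).1 (hc _).2
      rw [show N - 1 + 1 = N by omega] at hA
      have hB := CommAlg4.PoleSys.degreeLT_succ_le N _ hA _ (hmem N (by omega) le_rfl) (hc N).1 (hc N).2
      have heq : V₁ = PoleW15.Vs r a N := le_antisymm hV₁ (Submodule.map_le_iff_le_comap.2 hB)
      rw [heq, hfull] at hfin
      omega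
    · intro n hn hnd
      haveI : Module.Finite k ↥(PoleW15.Vs r a N ⊓ (Ideal.span {(X - C (r i)) ^ (n + 1)}).restrictScalars k) :=
        Submodule.finiteDimensional_of_le inf_le_left
      have h0 := PoleW15.finrank_pt r a hr N (by omega) i (n + 1)
      rw [if_neg (by omega), show N + 1 - (n + 1) = 0 by omega, Submodule.finrank_eq_zero] at h0
      exact h0.le.trans bot_le
  · have hkey := PoleW15.hyperplane_sum r a V₁ N hV₁ (by omega)
      (fun n => degreeLT k (d - n)) d 0 (Nat.zero_le _) (fun n hn => absurd hn (Nat.not_lt_zero n)) ?_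
    obtain ⟨δ, hδ, hsum, hδ'⟩ := hkey
    · have hf : ∀ n ∈ Finset.range d, Module.finrank k ↥(PoleW15.Vs r a N ⊓ degreeLT k (d - n)) =
          if n + 1 ≤ b then N - (n + 1) else N + 1 - (n + 1) := by
        intro n _
        have := PoleW15.finrank_top_all r a b N d hN hd (n + 1)
        rwa [show d + 1 - (n + 1) = d - n by omega] at this
      have hm : N ≤ d ∨ b = N := by
        rcases Nat.eq_zero_or_pos m with rfl | hm
        · right; simpa using hN.symm
        · left; omega
      rw [Finset.sum_congr rfl hf, PoleW15.sum_dims N d b (by omega) (by omega) hm] at hsum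
      refine ⟨(N - 1 - δ) - (N - 2), by omega, ?_⟩
      have : N = 1 → δ = 0 := by
        intro h1
        refine hδ' ?_
        rcases hm with hm' | hm'
        · have : (∑ j, a j) = 0 := by omega
          rcases Nat.eq_zero_or_pos m with rfl | hm0
          · omega
          · have := Finset.sum_eq_zero_iff.1 this ⟨0, hm0⟩ (Finset.mem_univ _)
            have := ha ⟨0, hm0⟩
            omega
        · rcases Nat.eq_zero_or_pos m with rfl | hm0
          · omega
          · have h2 : (∑ j, a j) = 0 := by omega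
            have := Finset.sum_eq_zero_iff.1 h2 ⟨0, hm0⟩ (Finset.mem_univ _)
            have := ha ⟨0, hm0⟩
            omega
      omega
    · intro n hn hnd
      rcases le_or_gt N n with h | h
      · haveI : Module.Finite k ↥(PoleW15.Vs r a N ⊓ degreeLT k (d - n)) := Submodule.finiteDimensional_of_le inf_le_left
        have h0 := PoleW15.finrank_top_all r a b N d hN hd (n + 1)
        rw [show d + 1 - (n + 1) = d - n by omega, if_neg (by omega), show N + 1 - (n + 1) = 0 by omega,
          Submodule.finrank_eq_zero] at h0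
        exact h0.le.trans bot_le
      · rw [show d - n = (N - n) - 1 + m by omega,
          (PoleW15.Vs_inf_top r a N (by omega) (N - n) (by omega)).resolve_right (by omega)]
        exact (Submodule.map_mono (degreeLT_mono (by omega))).trans hlow

end Groth.Agent.S17244
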