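import Groth.Statements.S17245
import Mathlib
import Groth.Prelude
import Groth.Agent.CommAlg4.PoleSys

set_option linter.all false

set_option autoImplicit false
open W4c4effdivwronsk2

open Polynomial

namespace Groth.Agent.S17245

open Polynomial in
/-- Let `k` be a field of characteristic zero and take, on the projective line over `k`, the point `∞`
and `m` further distinct points `r_1, …, r_m` of the affine line, with positive integers `b` (at
`∞`) and `a_1, …, a_m`; put `N = b + ∑ a_j`. The sum of the spaces of differentials with a single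
pole, of order at most `b + 1` at `∞`, resp. at most `a_j + 1` at `r_j`, `V = H⁰(ω((b+1)∞)) + ∑_j
H⁰(ω((a_j+1)r_j)) ⊆ H⁰(ω((b+1)∞ + ∑_j (a_j+1)r_j)) ≅ H⁰(O(d))`, `d = b - 1 + ∑ (a_j+1)`, becomes,
after multiplying by `dX⁻¹ ∏_j (X - r_j)^(a_j+1)`, the subspace of `k[X]_{≤ d}` spanned by
`D·k[X]_{<b}` and the `D_i·k[X]_{<a_i}`, where `D = ∏_j (X - r_j)^(a_j+1)` and `D_i` omits the
`i`-th factor; a member `h` vanishes to order `n` at a point `q` of the affine line when `(X - q)^n
∣ h`, and to order `d - deg h` at `∞`. Let `p` be a further point of the affine line, distinct from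
the `r_j`, and `V₁ = V(-p)` the members divisible by `X - p`, an `(N-1)`-dimensional system in the
line bundle twisted down by `p` (its vanishing orders at points `q ≠ p`, and at `∞`, are read off
exactly as for `V`; at `p` itself they are one less than the order of divisibility by `X - p`). Then
`dim V₁ = N - 1`, the point `p` is not a ramification point of `V₁` (no nonzero member of `V₁` is
divisible by `(X - p)^N`), and `V₁` has at most one ramification point off the marked points, a
simple one: at every `q` other than `p` and the `r_j`, no nonzero member is divisible by `(X - q)^N`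
and at most a line of members is divisible by `(X - q)^(N-2)`, and at most one such `q` has a
nonzero member divisible by `(X - q)^(N-1)`. (The published statement is over the complex numbers
with all points arbitrary; one marked point is placed at `∞` here and `p` is taken distinct from the
marked points.) -/
theorem result
    (k : Type*) [Field k] [CharZero k] (m : ℕ) (r : Fin m → k) (hr : Function.Injective r)
    (a : Fin m → ℕ) (ha : ∀ j, 1 ≤ a j) (b : ℕ) (hb : 1 ≤ b) (N d : ℕ)
    (hN : N = (∑ j, a j) + b) (hd : d + 1 = (∑ j, (a j + 1)) + b)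
    (V : Submodule k (Polynomial k))
    (hV : V = (Polynomial.degreeLT k b).map (LinearMap.mulLeft k (∏ j, (X - C (r j)) ^ (a j + 1))) ⊔
      ⨆ i, (Polynomial.degreeLT k (a i)).map
        (LinearMap.mulLeft k (∏ j ∈ Finset.univ.erase i, (X - C (r j)) ^ (a j + 1))))
    (p : k) (hp : ∀ j, p ≠ r j) (V₁ : Submodule k (Polynomial k))
    (hV₁ : V₁ = V ⊓ (Ideal.span {X - C p}).restrictScalars k) :
    Module.finrank k ↥V₁ + 1 = N ∧
    (V₁ ⊓ (Ideal.span {(X - C p) ^ N}).restrictScalars k) = ⊥ ∧
    (∀ q : k, (∀ j, q ≠ r j) → q ≠ p →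
      (V₁ ⊓ (Ideal.span {(X - C q) ^ N}).restrictScalars k) = ⊥ ∧
      Module.finrank k ↥(V₁ ⊓ (Ideal.span {(X - C q) ^ (N - 2)}).restrictScalars k) ≤ 1) ∧
    (∀ q q' : k, (∀ j, q ≠ r j) → q ≠ p → (∀ j, q' ≠ r j) → q' ≠ p →
      (V₁ ⊓ (Ideal.span {(X - C q) ^ (N - 1)}).restrictScalars k) ≠ ⊥ →
      (V₁ ⊓ (Ideal.span {(X - C q') ^ (N - 1)}).restrictScalars k) ≠ ⊥ → q = q') := by
  classical
  set T := (degreeLT k ((∑ j, a j) + b + 1)).map (Groth.Agent.CommAlg4.PoleSys.Λ r a) with hT
  have hVT : V = T := by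
    refine le_antisymm (hV ▸ Groth.Agent.CommAlg4.PoleSys.le_range r a b) ?_
    rw [hV, hT, add_assoc]
    simpa using Groth.Agent.CommAlg4.PoleSys.range_le r a hr (b + 1)
  haveI hTf : Module.Finite k ↥V := by
    haveI : Module.Finite k ↥(degreeLT k ((∑ j, a j) + b + 1)) := Module.Finite.equiv (degreeLTEquiv k _).symm
    rw [hVT]; exact Module.Finite.map _ _
  have hmemT : ∀ h ∈ V, h ∈ (degreeLT k ((∑ j, a j) + b + 1)).map (Groth.Agent.CommAlg4.PoleSys.Λ r a) := fun h hh => by
    rw [← hT, ← hVT]; exact hh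
  have hle : V₁ ≤ V := hV₁ ▸ inf_le_left
  haveI : Module.Finite k V₁ := Submodule.finiteDimensional_of_le hle
  have hmem₁ : ∀ h : k[X], h ∈ V₁ ↔ h ∈ V ∧ h.eval p = 0 := fun h => by
    rw [hV₁, Submodule.mem_inf, Submodule.restrictScalars_mem, Ideal.mem_span_singleton, dvd_iff_isRoot]; rfl
  have hR : ∏ j, (p - r j) ≠ 0 := Finset.prod_ne_zero_iff.2 fun j _ => sub_ne_zero.2 (hp j)
  set ℓ : k := ∑ j, (a j : k) * ∏ i ∈ Finset.univ.erase j, (p - r i) with hℓ
  have hval : ∀ (q : k) (s : ℕ), q ≠ p → Groth.Agent.CommAlg4.PoleSys.Λ r a ((X - C q) ^ (s + 1)) ∈ V₁ →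
      ((s : k) + 1) * ∏ j, (p - r j) = ℓ * (p - q) := by
    intro q s hqp h
    have h0 := ((hmem₁ _).1 h).2
    simp only [Groth.Agent.CommAlg4.PoleSys.Λ_apply, derivative_X_sub_C_pow, eval_sub, eval_mul, eval_prod, eval_pow, eval_X,
      eval_C, eval_finset_sum, eval_natCast, Nat.add_sub_cancel] at h0
    rw [← hℓ] at h0
    refine mul_right_cancel₀ (pow_ne_zero s (sub_ne_zero.2 (Ne.symm hqp))) ?_
    push_cast at h0
    linear_combination h0
  have hfin1 : Module.finrank k ↥V₁ + 1 = N := by
    let φ : ↥V →ₗ[k] k := (Polynomial.leval p).domRestrict V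
    have hsurj : LinearMap.range φ = ⊤ := by
      refine LinearMap.range_eq_top.2 (LinearMap.surjective ?_)
      intro h0
      have hm : (∏ j, (X - C (r j)) ^ (a j + 1)) ∈ V := by
        rw [hV]
        exact Submodule.mem_sup_left ⟨1, mem_degreeLT.2 (by rw [degree_one]; exact_mod_cast hb), mul_one _⟩
      have := LinearMap.congr_fun h0 ⟨_, hm⟩
      simp [φ, eval_prod, Finset.prod_eq_zero_iff, sub_ne_zero.2 (hp _)] at this
    have h := LinearMap.finrank_range_add_finrank_ker φ
    have e : Module.finrank k (LinearMap.ker φ) = Module.finrank k V₁ := by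
      have heq : LinearMap.ker φ = V₁.comap V.subtype := by
        ext x
        simp [φ, hmem₁]
      rw [heq, (Submodule.comapSubtypeEquivOfLe hle).finrank_eq]
    rw [hsurj, finrank_top, Module.finrank_self, e] at h
    have hNT : Module.finrank k ↥V = N := by
      rw [hVT, hT, Groth.Agent.CommAlg4.PoleSys.finrank_range r a b N hN]
    omega
  refine ⟨hfin1, ?_, fun q hq hqp => ⟨?_, ?_⟩, ?_⟩
  · rw [eq_bot_iff]
    rintro h ⟨hh1, hh2⟩
    exact Groth.Agent.CommAlg4.PoleSys.eq_zero_of_dvd r a b N hN p hp h (hmemT _ (hle hh1)) (Ideal.mem_span_singleton.1 hh2)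
  · rw [eq_bot_iff]
    rintro h ⟨hh1, hh2⟩
    exact Groth.Agent.CommAlg4.PoleSys.eq_zero_of_dvd r a b N hN q hq h (hmemT _ (hle hh1)) (Ideal.mem_span_singleton.1 hh2)
  · by_cases hN2 : 2 ≤ N
    · set B : Submodule k k[X] := Submodule.span k {Groth.Agent.CommAlg4.PoleSys.Λ r a ((X - C q) ^ N),
        Groth.Agent.CommAlg4.PoleSys.Λ r a ((X - C q) ^ (N - 1))} with hB
      have hle' : V₁ ⊓ (Ideal.span {(X - C q) ^ (N - 2)}).restrictScalars k ≤ B := fun h hh =>
        Groth.Agent.CommAlg4.PoleSys.mem_span_of_dvd r a b N hN hN2 q hq h (hmemT _ (hle hh.1)) (Ideal.mem_span_singleton.1 hh.2)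
      haveI : Module.Finite k B := Module.Finite.span_of_finite k (Set.toFinite _)
      have h2 : Module.finrank k B ≤ 2 := (finrank_span_le_card _).trans (by
        rw [Set.toFinset_insert, Set.toFinset_singleton]; exact Finset.card_le_two)
      by_contra hgt
      have heq := Submodule.eq_of_le_of_finrank_le hle' (by omega)
      obtain ⟨n, rfl⟩ : ∃ n, N = n + 1 + 1 := ⟨N - 2, by omega⟩
      have eA := hval q (n + 1) hqp (heq.ge (Submodule.subset_span (Set.mem_insert _ _))).1
      have eB := hval q n hqp (heq.ge (Submodule.subset_span (Set.mem_insert_of_mem _ rfl))).1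
      push_cast at eA
      exact hR (by linear_combination eA - eB)
    · exact (Submodule.finrank_mono inf_le_left).trans (by omega)
  · intro q q' hq hqp hq' hqp' h1 h2
    obtain ⟨n, rfl⟩ : ∃ n, N = n + 1 := ⟨N - 1, by omega⟩
    have key : ∀ q : k, (∀ j, q ≠ r j) → q ≠ p → (V₁ ⊓ (Ideal.span {(X - C q) ^ (n + 1 - 1)}).restrictScalars k) ≠ ⊥ →
        ((n : k) + 1) * ∏ j, (p - r j) = ℓ * (p - q) := by
      intro q hq hqp hne
      obtain ⟨h, ⟨hh1, hh2⟩, h0⟩ := Submodule.exists_mem_ne_zero_of_ne_bot hne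
      obtain ⟨e, he⟩ := Groth.Agent.CommAlg4.PoleSys.eq_smul_of_dvd r a b (n + 1) hN hb q hq h (hmemT _ (hle hh1))
        (Ideal.mem_span_singleton.1 hh2)
      have he0 : e ≠ 0 := fun he' => h0 (by rw [he, he', zero_smul])
      exact hval q n hqp ((Submodule.smul_mem_iff _ he0).1 (he ▸ hh1))
    have e1 := key q hq hqp h1
    have e2 := key q' hq' hqp' h2
    have hℓ0 : ℓ ≠ 0 := by
      intro h0
      rw [h0, zero_mul] at e1
      exact (mul_ne_zero (by exact_mod_cast (Nat.succ_ne_zero n)) hR) e1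
    have := mul_left_cancel₀ hℓ0 (e1.symm.trans e2)
    linear_combination -this

end Groth.Agent.S17245
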