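import Groth.Statements.S17246
import Groth.Agent.PoleW15.Basic
import Mathlib
-- import your own Groth.Agent.* helpers here

set_option autoImplicit false
open W4c4effdivwronsk2

namespace Groth.Agent.S17246

open Polynomial in
/-- Let `k` be a field of characteristic zero and take, on the projective line over `k`, the point `∞`
and `m` further distinct points `r_1, …, r_m` of the affine line, with positive integers `b` (at
`∞`) and `a_1, …, a_m`; put `N = b + ∑ a_j`. The sum of the spaces of differentials with a single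
pole, of order at most `b + 1` at `∞`, resp. at most `a_j + 1` at `r_j`, `V = H⁰(ω((b+1)∞)) + ∑_j
H⁰(ω((a_j+1)r_j)) ⊆ H⁰(ω((b+1)∞ + ∑_j (a_j+1)r_j)) ≅ H⁰(O(d))`, `d = b - 1 + ∑ (a_j+1)`, becomes,
after multiplying by `dX⁻¹ ∏_j (X - r_j)^(a_j+1)`, the subspace of `k[X]_{≤ d}` spanned by
`D·k[X]_{<b}` and the `D_i·k[X]_{<a_i}`, where `D = ∏_j (X - r_j)^(a_j+1)` and `D_i` omits the
`i`-th factor; a member `h` vanishes to order `n` at a point `q` of the affine line when `(X - q)^n
∣ h`, and to order `d - deg h` at `∞`. Let `p` be a further point of the affine line, distinct from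
the `r_j`, and `V₁ = V(-p)` the members divisible by `X - p` (an `(N-1)`-dimensional system in the
line bundle twisted down by `p`, with vanishing orders at the marked points read off as for `V`).
With the weight of `V₁` at a marked point defined as `∑_{n=1}^{d} dim V₁(-n·point) - (N-1 choose
2)`: the weight at `r_i` is `∑_{j≠i} a_j + b - 1 + ε_i` and the weight at `∞` is `∑_j a_j - 1 + ε`,
with all `ε` in `{0, 1}`. (The published statement is over the complex numbers with all points
arbitrary; one marked point is placed at `∞` here and `p` is taken distinct from the marked points.) -/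
theorem result
    (k : Type*) [Field k] [CharZero k] (m : ℕ) (r : Fin m → k) (hr : Function.Injective r)
    (a : Fin m → ℕ) (ha : ∀ j, 1 ≤ a j) (b : ℕ) (hb : 1 ≤ b) (N d : ℕ)
    (hN : N = (∑ j, a j) + b) (hd : d + 1 = (∑ j, (a j + 1)) + b)
    (V : Submodule k (Polynomial k))
    (hV : V = (Polynomial.degreeLT k b).map (LinearMap.mulLeft k (∏ j, (X - C (r j)) ^ (a j + 1))) ⊔
      ⨆ i, (Polynomial.degreeLT k (a i)).map
        (LinearMap.mulLeft k (∏ j ∈ Finset.univ.erase i, (X - C (r j)) ^ (a j + 1))))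
    (p : k) (hp : ∀ j, p ≠ r j) (V₁ : Submodule k (Polynomial k))
    (hV₁ : V₁ = V ⊓ (Ideal.span {X - C p}).restrictScalars k) :
    (∀ i : Fin m, ∃ ε : ℕ, ε ≤ 1 ∧
      (∑ n ∈ Finset.range d, Module.finrank k ↥(V₁ ⊓ (Ideal.span {(X - C (r i)) ^ (n + 1)}).restrictScalars k)) + 1 =
        (N - 1).choose 2 + (N - a i) + ε) ∧
    (∃ ε : ℕ, ε ≤ 1 ∧
      (∑ n ∈ Finset.range d, Module.finrank k ↥(V₁ ⊓ Polynomial.degreeLT k (d - n))) + 1 =
        (N - 1).choose 2 + (N - b) + ε) := by
  classical
  have hV' : V = PoleW15.Vs r a N := hV.trans (PoleW15.V_eq r a hr b N hN)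
  subst hV'
  subst hV₁
  have hfull : Module.finrank k ↥(PoleW15.Vs r a N) = N := by
    rw [PoleW15.Vs, PoleW15.finrank_map_Λ r a N (by omega) _ le_rfl, if_pos (PoleW15.D₀_mem r a N (by omega)),
      CommAlg4.PoleSys.finrank_degreeLT, Nat.add_sub_cancel]
  have hd' : d + 1 = N + m := by rw [hd, hN, Finset.sum_add_distrib]; simp; omega
  set V₁ : Submodule k k[X] := PoleW15.Vs r a N ⊓ (Ideal.span {X - C p}).restrictScalars k with hV₁def
  have hFp : (∏ j, (X - C (r j))).eval p ≠ 0 := by
    rw [eval_prod]; exact Finset.prod_ne_zero_iff.2 fun j _ => by simpa [sub_eq_zero] using hp j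
  have hval : ∀ g : k[X], g.eval p ≠ 0 → (CommAlg4.PoleSys.Λ r a (g * (X - C p))).eval p ≠ 0 := by
    intro g hg
    rw [CommAlg4.PoleSys.Λ_apply, derivative_mul, derivative_sub, derivative_X, derivative_C, sub_zero, mul_one]
    simp only [eval_sub, eval_mul, eval_add, eval_X, eval_C, sub_self, mul_zero, sub_zero, zero_add]
    exact mul_ne_zero hFp hg
  have hnm : ∀ h : k[X], h.eval p ≠ 0 → h ∉ V₁ := fun h hh hmem =>
    hh (dvd_iff_isRoot.1 (Ideal.mem_span_singleton.1 hmem.2))
  have hfin : Module.finrank k ↥V₁ + 1 = N := by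
    let ev : ↥(PoleW15.Vs r a N) →ₗ[k] k := (Polynomial.leval p).domRestrict _
    have hs : Function.Surjective ev := by
      have hw : CommAlg4.PoleSys.Λ r a (1 * (X - C p)) ∈ PoleW15.Vs r a N := by
        refine ⟨_, ?_, rfl⟩
        rw [one_mul, SetLike.mem_coe, mem_degreeLT, degree_X_sub_C]
        exact_mod_cast (by omega : 1 < N + 1)
      intro c
      refine ⟨(c / (CommAlg4.PoleSys.Λ r a (1 * (X - C p))).eval p) • ⟨_, hw⟩, ?_⟩
      show ((c / (CommAlg4.PoleSys.Λ r a (1 * (X - C p))).eval p) • CommAlg4.PoleSys.Λ r a (1 * (X - C p))).eval p = c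
      rw [eval_smul, smul_eq_mul, div_mul_cancel₀ _ (hval 1 (by simp))]
    have h := LinearMap.finrank_range_add_finrank_ker ev
    rw [LinearMap.range_eq_top.2 hs, finrank_top, Module.finrank_self, hfull] at h
    have hk : (LinearMap.ker ev).map (PoleW15.Vs r a N).subtype = V₁ := by
      ext x
      constructor
      · rintro ⟨⟨y, hy⟩, hy0, rfl⟩
        exact ⟨hy, Ideal.mem_span_singleton.2 (dvd_iff_isRoot.2 hy0)⟩
      · rintro ⟨hx, hx0⟩
        exact ⟨⟨x, hx⟩, dvd_iff_isRoot.1 (Ideal.mem_span_singleton.1 hx0), rfl⟩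
    rw [← hk, Submodule.finrank_map_subtype_eq]
    omega
  have hchoose : N.choose 2 = (N - 1).choose 2 + (N - 1) := by
    obtain ⟨c, hc⟩ : ∃ c, N = c + 1 := ⟨N - 1, by omega⟩
    rw [hc, Nat.choose_succ_succ' c 1, Nat.choose_one_right, Nat.add_sub_cancel]; ring
  constructor
  · intro i
    have hai : a i ≤ ∑ j, a j := Finset.single_le_sum (fun j _ => Nat.zero_le _) (Finset.mem_univ i)
    have hm := Fin.pos i
    have hkey := PoleW15.hyperplane_sum r a V₁ N inf_le_left (by omega)
      (fun n => (Ideal.span {(X - C (r i)) ^ (n + 1)}).restrictScalars k) d (N - 1) (by omega) ?_ ?_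
    obtain ⟨δ, hδ, hsum, -⟩ := hkey
    · rw [Finset.sum_congr rfl fun n _ => PoleW15.finrank_pt r a hr N (by omega) i (n + 1),
        PoleW15.sum_dims N d (a i) (by omega) (by omega) (Or.inl (by omega))] at hsum
      exact ⟨1 - δ, by omega, by omega⟩
    · intro n hn hle
      refine hnm _ (hval ((X - C (r i)) ^ (n + 1)) ?_) (hle ?_)
      · simpa [sub_eq_zero] using hp i
      · rw [PoleW15.Vs_inf_pt r a hr N (by omega) i (n + 1)]
        refine ⟨_, (PoleW15.mem_Wpt _ _ _ _).2 ⟨?_, dvd_mul_right _ _⟩, rfl⟩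
        have hdeg : ((X - C (r i)) ^ (n + 1) * (X - C p)).degree = ((n + 2 : ℕ) : WithBot ℕ) := by
          rw [degree_mul, degree_pow, degree_X_sub_C, degree_X_sub_C, nsmul_one]; norm_cast
        rw [mem_degreeLT, hdeg]
        exact_mod_cast (by omega : n + 2 < N + 1)
    · intro n hn hnd
      haveI : Module.Finite k ↥(PoleW15.Vs r a N ⊓ (Ideal.span {(X - C (r i)) ^ (n + 1)}).restrictScalars k) :=
        Submodule.finiteDimensional_of_le inf_le_left
      have h0 := PoleW15.finrank_pt r a hr N (by omega) i (n + 1)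
      rw [if_neg (by omega), show N + 1 - (n + 1) = 0 by omega, Submodule.finrank_eq_zero] at h0
      exact h0.le.trans bot_le
  · have hkey := PoleW15.hyperplane_sum r a V₁ N inf_le_left (by omega)
      (fun n => degreeLT k (d - n)) d (N - 1) (by omega) ?_ ?_
    obtain ⟨δ, hδ, hsum, hδ'⟩ := hkey
    · have hf : ∀ n ∈ Finset.range d, Module.finrank k ↥(PoleW15.Vs r a N ⊓ degreeLT k (d - n)) =
          if n + 1 ≤ b then N - (n + 1) else N + 1 - (n + 1) := by
        intro n _
        have := PoleW15.finrank_top_all r a b N d hN hd (n + 1)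
        rwa [show d + 1 - (n + 1) = d - n by omega] at this
      have hm : N ≤ d ∨ b = N := by
        rcases Nat.eq_zero_or_pos m with rfl | hm
        · right; simpa using hN.symm
        · left; omega
      rw [Finset.sum_congr rfl hf, PoleW15.sum_dims N d b (by omega) (by omega) hm] at hsum
      exact ⟨1 - δ, by omega, by omega⟩
    · intro n hn hle
      refine hnm _ (hval 1 (by simp)) (hle ?_)
      rw [show d - n = (N - n) - 1 + m by omega,
        (PoleW15.Vs_inf_top r a N (by omega) (N - n) (by omega)).resolve_right (by omega)]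
      refine ⟨_, ?_, rfl⟩
      rw [one_mul, SetLike.mem_coe, mem_degreeLT, degree_X_sub_C]
      exact_mod_cast (by omega : 1 < N - n)
    · intro n hn hnd
      haveI : Module.Finite k ↥(PoleW15.Vs r a N ⊓ degreeLT k (d - n)) := Submodule.finiteDimensional_of_le inf_le_left
      have h0 := PoleW15.finrank_top_all r a b N d hN hd (n + 1)
      rw [show d + 1 - (n + 1) = d - n by omega, if_neg (by omega), show N + 1 - (n + 1) = 0 by omega,
        Submodule.finrank_eq_zero] at h0
      exact h0.le.trans bot_le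

end Groth.Agent.S17246
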