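import Groth.Statements.S17247
import Groth.Agent.FF.LinSys

set_option autoImplicit false
open FunFld

namespace Groth.Agent.S17247

open WithZero Groth.Agent.FF


/-- Let `K/k` be a function field of one variable of genus one over an algebraically closed field `k` of
characteristic zero (an elliptic curve `E`), `A` a place, and `g ≥ 3` an odd integer. Inside
`H⁰(O_E((2g-2)A)) = L((2g-2)A)` consider `V = L(gA)` (dimension `g`) and any hyperplane `V₁` of it
containing `L((g-2)A)`: `L((g-2)A) ⊆ V₁ ⊆ L(gA)`, `dim V₁ = g - 1`. Vanishing orders are those of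
sections of `O_E((2g-2)A)`: a member `f` vanishes to order at least `n` at a place `Q` when `f ∈
L((2g-2)A - nQ)`, and the weight of `V₁` at `Q` is `∑_{n=1}^{2g-2} dim (V₁ ∩ L((2g-2)A - nQ)) - (g-1
choose 2)` (the sum of the `g - 1` vanishing orders minus `0 + 1 + ⋯ + (g-2)`). Then the weight of
`V₁` at every place `Q ≠ A` is at most `2`. (The published statement is for a smooth elliptic curve
over the complex numbers and allows every odd positive `g`; for `g = 1` the inclusion `O(gA) ⊆
O((2g-2)A)` it uses fails, so `g ≥ 3` here.) -/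
theorem result
    (k K : Type*) [Field k] [IsAlgClosed k] [CharZero k] [Field K] [Algebra k K]
    (hK : FunFld.IsFunctionField k K) (hg1 : FunFld.genus k K = 1)
    (g : ℕ) (hodd : Odd g) (h3 : 3 ≤ g) (A : FunFld.Place k K)
    (V₁ : Submodule k K) (hlo : FunFld.L (Finsupp.single A ((g : ℤ) - 2)) ≤ V₁)
    (hhi : V₁ ≤ FunFld.L (Finsupp.single A (g : ℤ))) (hdim : Module.finrank k ↥V₁ + 1 = g)
    (Q : FunFld.Place k K) (hQ : Q ≠ A) :
    (∑ n ∈ Finset.range (2 * g - 2), Module.finrank k
        ↥(V₁ ⊓ FunFld.L (Finsupp.single A (2 * (g : ℤ) - 2) - Finsupp.single Q ((n : ℤ) + 1)))) ≤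
      (g - 1).choose 2 + 2 := by
  classical
  let r : ℕ → ℕ := fun n => Module.finrank k ↥(V₁ ⊓ FunFld.L (Finsupp.single A (2 * (g : ℤ) - 2) - Finsupp.single Q (n : ℤ)))
  let D : ℕ → FunFld.Divisor k K := fun n => Finsupp.single A (g : ℤ) - Finsupp.single Q (n : ℤ)
  have hdA := deg_eq_one hK A
  have hdQ := deg_eq_one hK Q
  have hdeg : ∀ (a b : ℤ), FunFld.Divisor.deg (Finsupp.single A a - Finsupp.single Q b : FunFld.Divisor k K) = a - b := fun a b => by
    rw [deg_sub, deg_single, deg_single, hdA, hdQ]; simp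
  have hell : ∀ (a b : ℤ), 1 ≤ a - b → (FunFld.ell (Finsupp.single A a - Finsupp.single Q b) : ℤ) = a - b := fun a b h => by
    rw [ell_eq_of_deg_large hK (by rw [hg1, hdeg]; omega), hg1, hdeg]; simp
  have hfd : ∀ E : FunFld.Divisor k K, FiniteDimensional k (FunFld.L E) := fun E => finiteDimensional_L hK E
  have hsub : ∀ n : ℕ, V₁ ⊓ FunFld.L (Finsupp.single A (2 * (g : ℤ) - 2) - Finsupp.single Q (n : ℤ)) ≤ V₁ ⊓ FunFld.L (D n) := by
    intro n x hx
    refine ⟨hx.1, fun R => ?_⟩
    have h1 := hhi hx.1 R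
    have h2 := hx.2 R
    rcases eq_or_ne R A with rfl | hR
    · simpa [D, Finsupp.single_eq_of_ne hQ.symm] using h1
    · simp only [D, Finsupp.sub_apply, Finsupp.single_eq_of_ne hR] at h2 ⊢
      exact h2
  have hV : FiniteDimensional k V₁ := Submodule.finiteDimensional_of_le hhi
  have hr : ∀ n : ℕ, r n ≤ Module.finrank k ↥(V₁ ⊓ FunFld.L (D n)) := fun n =>
    Submodule.finrank_mono (hsub n)
  have hr1 : ∀ n, r n ≤ FunFld.ell (D n) := fun n => (hr n).trans (Submodule.finrank_mono inf_le_right)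
  let Pr : ℤ → Prop := fun n => ∃ x : K, x ≠ 0 ∧ ∀ R : FunFld.Place k K,
    R.ord x = n * ((Finsupp.single Q (1 : ℤ) - Finsupp.single A (1 : ℤ) : FunFld.Divisor k K) R)
  have hzero : ∀ n : ℤ, 0 < FunFld.ell (Finsupp.single A n - Finsupp.single Q n) → Pr n := by
    intro n h
    obtain ⟨x, hx0, hx⟩ := exists_of_ell_pos h
    have hge := (mem_L_iff hK hx0).mp hx
    have heq : (Finsupp.single A n - Finsupp.single Q n) + FunFld.div k x = 0 := by
      refine (eq_of_le_of_deg_le hK hge ?_).symm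
      rw [deg_add, hdeg, deg_div_eq_zero hK, deg_zero]; simp
    refine ⟨x, hx0, fun R => ?_⟩
    have h1 := DFunLike.congr_fun heq R
    rw [Finsupp.add_apply, div_apply hK] at h1
    rcases eq_or_ne R Q with rfl | hRQ
    · simp [Finsupp.single_eq_of_ne hQ, Finsupp.single_eq_of_ne hQ.symm] at h1 ⊢; omega
    · rcases eq_or_ne R A with rfl | hRA
      · simp [Finsupp.single_eq_of_ne hQ, Finsupp.single_eq_of_ne hQ.symm] at h1 ⊢; omega
      · simp [Finsupp.single_eq_of_ne hRQ, Finsupp.single_eq_of_ne hRA] at h1 ⊢; omega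
  have hnot : ¬ (Pr (g : ℤ) ∧ Pr ((g : ℤ) - 2)) := by
    rintro ⟨⟨x, hx0, hx⟩, ⟨y, hy0, hy⟩⟩
    obtain ⟨j, hj⟩ := hodd
    set z := x * ((x * y⁻¹) ^ j)⁻¹
    have hz0 : z ≠ 0 := mul_ne_zero hx0 (inv_ne_zero (pow_ne_zero _ (mul_ne_zero hx0 (inv_ne_zero hy0))))
    have hz : ∀ R : FunFld.Place k K, R.ord z = ((Finsupp.single Q (1 : ℤ) - Finsupp.single A (1 : ℤ) : FunFld.Divisor k K) R) := fun R => by
      have hpow : ∀ (w : K) (n : ℕ), R.ord (w ^ n) = n * R.ord w := fun w n => by
        simp [FunFld.Place.ord, map_pow, log_pow]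
      rw [ord_mul R hx0 (inv_ne_zero (pow_ne_zero _ (mul_ne_zero hx0 (inv_ne_zero hy0)))), ord_inv, hpow,
        ord_mul R hx0 (inv_ne_zero hy0), ord_inv, hx, hy, hj]
      push_cast; ring
    have hzL : z ∈ FunFld.L (Finsupp.single A (1 : ℤ)) := fun R => by
      refine (val_le_exp_iff R hz0).mpr ?_
      rw [hz R, Finsupp.sub_apply]
      have : (0 : ℤ) ≤ Finsupp.single Q (1 : ℤ) R := Finsupp.single_nonneg.mpr zero_le_one R
      omega
    have h1 : Module.finrank k (FunFld.L (Finsupp.single A (1 : ℤ))) = 1 := by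
      have h := hell 1 0 le_rfl
      rw [Finsupp.single_zero, sub_zero, sub_zero] at h
      simp only [FunFld.ell] at h
      exact_mod_cast h
    have hone : (1 : K) ∈ FunFld.L (Finsupp.single A (1 : ℤ)) :=
      L_mono (Finsupp.single_nonneg.mpr zero_le_one) (by rw [L_zero_eq hK]; exact Submodule.mem_span_singleton_self _)
    obtain ⟨c, hc⟩ := exists_smul_eq_of_finrank_eq_one h1 (x := (⟨1, hone⟩ : FunFld.L (Finsupp.single A (1 : ℤ))))
      (fun h => one_ne_zero (congrArg Subtype.val h)) ⟨z, hzL⟩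
    have hzc : z = algebraMap k K c := by
      have := congrArg Subtype.val hc
      simp [Algebra.smul_def] at this
      exact this.symm
    have := hz Q
    rw [hzc, ord_algebraMap] at this
    simp [Finsupp.single_eq_of_ne hQ] at this
  have key : ∀ n, 1 ≤ n → n + 2 ≤ g → FunFld.L (D n) ≤ V₁ →
      ((g : ℤ) - 2) + ((g : ℤ) - n) ≤ ((g : ℤ) - 1) + FunFld.ell (Finsupp.single A ((g : ℤ) - 2) - Finsupp.single Q (n : ℤ)) := by
    intro n hn1 hn2 hle
    have h := Submodule.finrank_sup_add_finrank_inf_eq (FunFld.L (Finsupp.single A ((g : ℤ) - 2))) (FunFld.L (D n))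
    have h1 : Module.finrank k ↥(FunFld.L (Finsupp.single A ((g : ℤ) - 2)) ⊔ FunFld.L (D n)) ≤ Module.finrank k V₁ :=
      Submodule.finrank_mono (sup_le hlo hle)
    have h2 : FunFld.L (Finsupp.single A ((g : ℤ) - 2)) ⊓ FunFld.L (D n) ≤ FunFld.L (Finsupp.single A ((g : ℤ) - 2) - Finsupp.single Q (n : ℤ)) := by
      intro x hx R
      have h1 := hx.1 R
      have h2 := hx.2 R
      rcases eq_or_ne R A with rfl | hR
      · simpa [Finsupp.single_eq_of_ne hQ.symm] using h1
      · simp only [D, Finsupp.sub_apply, Finsupp.single_eq_of_ne hR] at h2 ⊢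
        exact h2
    have h3 := Submodule.finrank_mono h2
    have h4 := hell (g : ℤ) n (by omega)
    have h5 := hell ((g : ℤ) - 2) 0 (by omega)
    rw [Finsupp.single_zero, sub_zero, sub_zero] at h5
    simp only [FunFld.ell, D] at h h4 h5 h1 h3 ⊢
    omega
  have hstrict : ∀ n, 1 ≤ n → n < g → ¬ FunFld.L (D n) ≤ V₁ → r n + 1 + n ≤ g := fun n _ hn hle => by
    have h1 : V₁ ⊓ FunFld.L (D n) < FunFld.L (D n) := lt_of_le_not_ge inf_le_right fun h => hle (h.trans inf_le_left)
    have h2 := Submodule.finrank_lt_finrank_of_lt h1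
    have h4 := hell (g : ℤ) n (by omega)
    have := hr n
    simp only [FunFld.ell, D] at h2 h4 this
    omega
  obtain ⟨h, rfl⟩ : ∃ h, g = h + 3 := ⟨g - 3, by omega⟩
  have hmain : ∀ i < h, r (i + 1) ≤ h + 1 - i := fun i hi => by
    refine (fun h2 => by omega : r (i + 1) + 1 + (i + 1) ≤ h + 3 → r (i + 1) ≤ h + 1 - i) (hstrict _ (by omega) (by omega) fun hle => ?_)
    have h1 := key _ (by omega) (by omega) hle
    rw [hell _ _ (by push_cast; omega)] at h1
    push_cast at h1
    omega
  have hbig : ∀ n, h + 3 < n → r n = 0 := fun n hn => by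
    have h1 : FunFld.ell (D n) = 0 := ell_eq_zero_of_deg_neg hK (by simp only [D, hdeg]; omega)
    have := hr1 n; omega
  have hB : r (h + 2) ≤ 1 ∧ r (h + 3) ≤ 1 ∧ r (h + 1) ≤ 2 := by
    refine ⟨?_, ?_, ?_⟩
    · have := hr1 (h + 2); have h4 := hell ((h + 3 : ℕ) : ℤ) (h + 2 : ℕ) (by push_cast; omega)
      simp only [D] at this; push_cast at this h4; omega
    · have := hr1 (h + 3)
      have h5 : (FunFld.ell (D (h + 3)) : ℤ) ≤ 1 := by
        by_cases h0 : FunFld.ell (D (h + 3)) = 0
        · omega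
        obtain ⟨x, hx0, hx⟩ := exists_of_ell_pos (Nat.pos_of_ne_zero h0)
        have h6 := (ell_mono hK (D := D (h + 3)) (E := D (h + 2)) (Finsupp.le_def.mpr fun R => by
          simp only [D, Finsupp.sub_apply]
          have : Finsupp.single Q ((h + 2 : ℕ) : ℤ) R ≤ Finsupp.single Q ((h + 3 : ℕ) : ℤ) R := Finsupp.single_mono (by omega) R
          omega)).1
        have h4 := hell ((h + 3 : ℕ) : ℤ) (h + 2 : ℕ) (by push_cast; omega)
        simp only [D] at h6 ⊢; push_cast at h6 h4 ⊢; omega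
      omega
    · have := hr1 (h + 1); have h4 := hell ((h + 3 : ℕ) : ℤ) (h + 1 : ℕ) (by push_cast; omega)
      simp only [D] at this; push_cast at this h4; omega
  have hthree : r (h + 1) + r (h + 2) + r (h + 3) ≤ 3 := by
    by_contra hc
    refine hnot ⟨hzero _ ?_, hzero _ ?_⟩
    · exact lt_of_lt_of_le (by omega) (hr1 (h + 3))
    · by_cases hle : FunFld.L (D (h + 1)) ≤ V₁
      · have h1 := key (h + 1) (by omega) (by omega) hle
        have e : ((h + 3 : ℕ) : ℤ) - 2 = ((h + 1 : ℕ) : ℤ) := by push_cast; ring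
        rw [e] at h1 ⊢
        push_cast at h1 ⊢
        omega
      · have := hstrict (h + 1) (by omega) (by omega) hle
        omega
  have hsum : ∑ n ∈ Finset.range (2 * (h + 3) - 2), r (n + 1) ≤ (h + 3 - 1).choose 2 + 2 := by
    have hsplit : 2 * (h + 3) - 2 = h + 3 + (h + 1) := by omega
    rw [hsplit, Finset.sum_range_add, Finset.sum_eq_zero (s := Finset.range (h + 1)) (fun i _ => hbig _ (by omega)), add_zero,
      Finset.sum_range_succ, Finset.sum_range_succ, Finset.sum_range_succ]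
    have h1 : ∀ n : ℕ, ∑ i ∈ Finset.range n, (n + 1 - i) + 1 = (n + 2).choose 2 := by
      intro n
      induction n with
      | zero => simp
      | succ n ih =>
        rw [Finset.sum_range_succ']
        simp only [Nat.add_sub_add_right, Nat.sub_zero]
        rw [show n + 1 + 2 = (n + 2) + 1 from rfl, Nat.choose_succ_succ' (n + 2) 1, Nat.choose_one_right]
        simp only [one_add_one_eq_two]
        omega
    have h2 := Finset.sum_le_sum (s := Finset.range h) fun i hi => hmain i (Finset.mem_range.mp hi)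
    have h3 := h1 h
    rw [show h + 3 - 1 = h + 2 from rfl]
    simp only [show h + 1 + 1 = h + 2 from rfl, show h + 2 + 1 = h + 3 from rfl]
    omega
  exact hsum

end Groth.Agent.S17247
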