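import Groth.Statements.S17248
import Groth.Agent.FF.LinEquiv

set_option autoImplicit false
open FunFld

namespace Groth.Agent.S17248

/-- Let `K/k` be a function field of one variable of genus one over an algebraically closed field `k` of
characteristic zero (an elliptic curve `E`), `A` a place, and `g ≥ 3` an integer. Inside
`H⁰(O_E((2g-2)A)) = L((2g-2)A)` consider `V = L(gA)` (dimension `g`) and any hyperplane `V₁` of it
containing `L((g-2)A)`: `L((g-2)A) ⊆ V₁ ⊆ L(gA)`, `dim V₁ = g - 1`. Vanishing orders are those of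
sections of `O_E((2g-2)A)`: a member `f` vanishes to order at least `n` at a place `Q` when `f ∈
L((2g-2)A - nQ)`, and the weight of `V₁` at `Q` is `∑_{n=1}^{2g-2} dim (V₁ ∩ L((2g-2)A - nQ)) - (g-1
choose 2)` (the sum of the `g - 1` vanishing orders minus `0 + 1 + ⋯ + (g-2)`). Then the weight of
`V₁` at `A` is `(g-1)² + ε` with `ε ∈ {0, 1}`. (The published statement is for a smooth elliptic
curve over the complex numbers and `g` odd positive; `g ≥ 3` here since the ambient inclusion needs
it; this row does not assume `g` odd.) -/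
theorem result
    (k K : Type*) [Field k] [IsAlgClosed k] [CharZero k] [Field K] [Algebra k K]
    (hK : FunFld.IsFunctionField k K) (hg1 : FunFld.genus k K = 1)
    (g : ℕ) (h3 : 3 ≤ g) (A : FunFld.Place k K)
    (V₁ : Submodule k K) (hlo : FunFld.L (Finsupp.single A ((g : ℤ) - 2)) ≤ V₁)
    (hhi : V₁ ≤ FunFld.L (Finsupp.single A (g : ℤ))) (hdim : Module.finrank k ↥V₁ + 1 = g) :
    ∃ ε : ℕ, ε ≤ 1 ∧
      (∑ n ∈ Finset.range (2 * g - 2), Module.finrank k
        ↥(V₁ ⊓ FunFld.L (Finsupp.single A (2 * (g : ℤ) - 2) - Finsupp.single A ((n : ℤ) + 1)))) =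
      (g - 1).choose 2 + (g - 1) ^ 2 + ε := by
  classical
  have hell : ∀ m : ℕ, 1 ≤ m → Module.finrank k ↥(FunFld.L (Finsupp.single A (m : ℤ))) = m := fun m hm => by
    have h := Groth.Agent.FF.ell_eq_of_deg_large hK (D := Finsupp.single A (m : ℤ))
      (by rw [Groth.Agent.FF.deg_single, Groth.Agent.FF.deg_eq_one hK, hg1]; push_cast; omega)
    rw [Groth.Agent.FF.deg_single, Groth.Agent.FF.deg_eq_one hK, hg1] at h
    simp only [FunFld.ell] at h
    push_cast at h
    omega
  have h0 : Module.finrank k ↥(FunFld.L (Finsupp.single A ((0 : ℕ) : ℤ))) = 1 := by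
    rw [Nat.cast_zero, Finsupp.single_zero]; exact (Groth.Agent.FF.finrank_L_zero hK).2
  have hmono : ∀ {i j : ℤ}, i ≤ j → Finsupp.single A i ≤ (Finsupp.single A j : FunFld.Divisor k K) := fun h R => by
    simp only [Finsupp.single_apply]; split_ifs <;> omega
  have hfd : FiniteDimensional k V₁ :=
    have := Groth.Agent.FF.finiteDimensional_L hK (Finsupp.single A (g : ℤ))
    Submodule.finiteDimensional_of_le hhi
  let e : ℕ → ℕ := fun m => Module.finrank k ↥(V₁ ⊓ FunFld.L (Finsupp.single A (m : ℤ)))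
  have hsmall : ∀ m : ℕ, (m : ℤ) ≤ (g : ℤ) - 2 → e m = Module.finrank k ↥(FunFld.L (Finsupp.single A (m : ℤ))) :=
    fun m hm => by
      simp only [e]
      rw [inf_eq_right.mpr ((Groth.Agent.FF.L_mono (hmono hm)).trans hlo)]
  have hbig : ∀ m : ℕ, g ≤ m → e m = g - 1 := fun m hm => by
    simp only [e]
    rw [inf_eq_left.mpr (hhi.trans (Groth.Agent.FF.L_mono (hmono (show (g : ℤ) ≤ m by omega))))]
    omega
  have hrefl : ∑ n ∈ Finset.range (2 * g - 2), Module.finrank k
      ↥(V₁ ⊓ FunFld.L (Finsupp.single A (2 * (g : ℤ) - 2) - Finsupp.single A ((n : ℤ) + 1))) =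
      ∑ m ∈ Finset.range (2 * g - 2), e m := by
    rw [← Finset.sum_range_reflect e]
    refine Finset.sum_congr rfl fun n hn => ?_
    rw [Finset.mem_range] at hn
    simp only [e]
    rw [← Finsupp.single_sub]
    rw [show 2 * (g : ℤ) - 2 - ((n : ℤ) + 1) = ((2 * g - 2 - 1 - n : ℕ) : ℤ) by
      rw [Nat.cast_sub (show n ≤ 2 * g - 2 - 1 by omega), Nat.cast_sub (show 1 ≤ 2 * g - 2 by omega),
        Nat.cast_sub (show 2 ≤ 2 * g by omega)]
      push_cast
      ring]
  obtain ⟨q, rfl⟩ : ∃ q, g = q + 3 := ⟨g - 3, by omega⟩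
  have hmid1 : q + 1 ≤ e (q + 2) := by
    have h := Groth.Agent.FF.finrank_inf_L_le_succ hK V₁ (Finsupp.single A ((q + 3 : ℕ) : ℤ)) A
    rw [← Finsupp.single_sub] at h
    have e1 : ((q + 3 : ℕ) : ℤ) - 1 = ((q + 2 : ℕ) : ℤ) := by push_cast; ring
    rw [e1] at h
    have := hbig (q + 3) le_rfl
    simp only [e] at this ⊢
    omega
  have hmid2 : e (q + 2) ≤ q + 2 := by
    have : FiniteDimensional k V₁ := hfd
    have h := Submodule.finrank_mono (inf_le_left : V₁ ⊓ FunFld.L (Finsupp.single A ((q + 2 : ℕ) : ℤ)) ≤ V₁)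
    simp only [e]
    omega
  refine ⟨e (q + 2) - (q + 1), by omega, ?_⟩
  rw [hrefl, show 2 * (q + 3) - 2 = (q + 3) + (q + 1) by omega, Finset.sum_range_add,
    Finset.sum_range_succ, Finset.sum_range_succ']
  rw [hsmall 0 (by omega), h0]
  rw [Finset.sum_congr rfl (g := fun m => m + 1) fun m hm => by
    rw [Finset.mem_range] at hm
    rw [hsmall (m + 1) (by push_cast; omega), hell (m + 1) (by omega)]]
  rw [Finset.sum_congr rfl (s₁ := Finset.range (q + 1)) (g := fun _ => q + 2) (f := fun x => e (q + 3 + x)) fun m hm => by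
    rw [hbig _ (by omega)]; rfl]
  rw [Finset.sum_const, Finset.card_range, smul_eq_mul, Finset.sum_add_distrib, Finset.sum_const, Finset.card_range,
    smul_eq_mul, show q + 3 - 1 = q + 2 from rfl, Nat.choose_two_right]
  have h2 := Finset.sum_range_id_mul_two (q + 1)
  have h3 : Even ((q + 2) * (q + 1)) := by
    rw [mul_comm]; exact Nat.even_mul_succ_self (q + 1)
  obtain ⟨w, hw⟩ := h3
  rw [show q + 2 - 1 = q + 1 from rfl, hw, show (w + w) / 2 = w by omega]
  rw [show q + 1 - 1 = q from rfl] at h2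
  have : e (q + 2) - (q + 1) + (q + 1) = e (q + 2) := by omega
  nlinarith

end Groth.Agent.S17248
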