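import Groth.Statements.S17249
import Groth.Agent.FF.LinEquiv

set_option autoImplicit false
open FunFld

namespace Groth.Agent.S17249

/-- Let `K/k` be a function field of one variable of genus two over an algebraically closed field `k` of
characteristic zero (a smooth curve `X` of genus `2`), `C` a canonical divisor, `A` a place with
`ℓ(2A) = 1` (not a Weierstrass point), and `P`, `Q` places with `Q ≠ A`. Then `ℓ(C + 2A - P - 3Q) =
1` and `ℓ(C + 2A - P - Q) = 2` do not both hold: the two-dimensional complete system `H⁰(ω_X(2A -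
P))` (of degree `3`) has no point `Q ≠ A` of weight three. (The published statement concerns a
general pointed curve `(X, A)` of genus two over the complex numbers and a point `P` of `X`; this
row assumes only `ℓ(2A) = 1`.) -/
theorem result
    (k K : Type*) [Field k] [IsAlgClosed k] [CharZero k] [Field K] [Algebra k K]
    (hK : FunFld.IsFunctionField k K) (hg : FunFld.genus k K = 2)
    (C : FunFld.Divisor k K) (hC : FunFld.IsCanonical k K C)
    (A P Q : FunFld.Place k K) (hA : Module.finrank k ↥(FunFld.L (Finsupp.single A (2 : ℤ))) = 1) (hQ : Q ≠ A) :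
    ¬ (Module.finrank k ↥(FunFld.L (C + Finsupp.single A (2 : ℤ) - Finsupp.single P (1 : ℤ) - Finsupp.single Q (3 : ℤ))) = 1 ∧
       Module.finrank k ↥(FunFld.L (C + Finsupp.single A (2 : ℤ) - Finsupp.single P (1 : ℤ) - Finsupp.single Q (1 : ℤ))) = 2) := by
  classical
  rintro ⟨h1, h2⟩

  have hC2 : C.deg = 2 := by rw [(Groth.Agent.FF.ell_canonical hK hC).2, hg]; norm_num
  have hE : (C + Finsupp.single A (2 : ℤ) - Finsupp.single P (1 : ℤ) - Finsupp.single Q (1 : ℤ)).deg = 2 := by
    simp [Groth.Agent.FF.deg_sub, Groth.Agent.FF.deg_add, Groth.Agent.FF.deg_single, Groth.Agent.FF.deg_eq_one hK, hC2]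
  have hcan := Groth.Agent.FF.isCanonical_of_ell_deg hK (by rw [hg]; exact h2) (by rw [hE, hg]; norm_num)
  -- canonical divisors are linearly equivalent, so `2A ~ P + Q`
  have hrr := Groth.Agent.FF.riemann_roch' hK hC (C + Finsupp.single A (2 : ℤ) - Finsupp.single P (1 : ℤ) - Finsupp.single Q (1 : ℤ))
  rw [hE, hg] at hrr
  have hell : 0 < FunFld.ell (C - (C + Finsupp.single A (2 : ℤ) - Finsupp.single P (1 : ℤ) - Finsupp.single Q (1 : ℤ))) := by
    simp only [FunFld.ell] at hrr ⊢
    omega
  have hlin := Groth.Agent.FF.linEq_zero_of_ell_pos hK (by rw [Groth.Agent.FF.deg_sub, hC2, hE]; norm_num) hell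
  rw [show C - (C + Finsupp.single A (2 : ℤ) - Finsupp.single P (1 : ℤ) - Finsupp.single Q (1 : ℤ)) =
    (Finsupp.single P (1 : ℤ) + Finsupp.single Q (1 : ℤ)) - Finsupp.single A (2 : ℤ) by abel] at hlin
  obtain ⟨x, hx, hxeq⟩ := (Groth.Agent.FF.linEq_of_eq_zero_sub hlin).symm hK
  have hxL : x ∈ FunFld.L (Finsupp.single A (2 : ℤ)) := by
    rw [Groth.Agent.FF.mem_L_iff hK hx, ← hxeq]
    exact add_nonneg (Finsupp.single_nonneg.mpr zero_le_one) (Finsupp.single_nonneg.mpr zero_le_one)
  have := Groth.Agent.FF.finiteDimensional_L hK (Finsupp.single A (2 : ℤ))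
  have hone : (1 : K) ∈ FunFld.L (Finsupp.single A (2 : ℤ)) := fun R => by
    rw [map_one, ← WithZero.exp_zero, WithZero.exp_le_exp, Finsupp.single_apply]; split_ifs <;> omega
  obtain ⟨c, hc⟩ := exists_smul_eq_of_finrank_eq_one hA (x := (⟨1, hone⟩ : FunFld.L (Finsupp.single A (2 : ℤ))))
    (fun h => one_ne_zero (congrArg Subtype.val h)) ⟨x, hxL⟩
  have hxc : x = algebraMap k K c := by
    have := congrArg Subtype.val hc
    simp [Algebra.smul_def] at this
    exact this.symm
  have hz : ∀ R : FunFld.Place k K, R.ord x = 0 := fun R => Groth.Agent.FF.ord_eq_of_val R (by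
    rw [hxc, Groth.Agent.FF.val_algebraMap R (fun h => hx (by rw [hxc, h, map_zero]))]; simp)
  have h3 := DFunLike.congr_fun hxeq Q
  simp only [Finsupp.add_apply, Groth.Agent.FF.div_apply hK, hz, Finsupp.single_eq_same,
    Finsupp.single_eq_of_ne hQ, add_zero, Finsupp.single_apply] at h3
  split_ifs at h3 <;> omega

end Groth.Agent.S17249
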