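import Groth.Statements.S17250
import Groth.Agent.FF.LinEquiv

set_option autoImplicit false
open FunFld

namespace Groth.Agent.S17250

/-- Let `K/k` be a function field of one variable of genus two over an algebraically closed field `k` of
characteristic zero (a smooth curve `X` of genus `2`), `C` a canonical divisor, `A` a place with
`ℓ(2A) = 1`, and `P`, `Q` places different from `A`. Then `ℓ(C + 3A - P - 4Q) = 1` and `ℓ(C + 3A - P
- 2Q) = 2` do not both hold (the three-dimensional complete system `H⁰(ω_X(3A - P))`, of degree `4`,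
has no point `Q ≠ A` with two independent sections vanishing to order at least `2` there and one
vanishing to order at least `4`). (The published statement concerns a general pointed curve `(X, A)`
of genus two over the complex numbers and a point `P ≠ A`; this row assumes `ℓ(2A) = 1` in place of
generality.) -/
theorem result
    (k K : Type*) [Field k] [IsAlgClosed k] [CharZero k] [Field K] [Algebra k K]
    (hK : FunFld.IsFunctionField k K) (hg : FunFld.genus k K = 2)
    (C : FunFld.Divisor k K) (hC : FunFld.IsCanonical k K C)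
    (A P Q : FunFld.Place k K) (hA : Module.finrank k ↥(FunFld.L (Finsupp.single A (2 : ℤ))) = 1) (hP : P ≠ A) (hQ : Q ≠ A) :
    ¬ (Module.finrank k ↥(FunFld.L (C + Finsupp.single A (3 : ℤ) - Finsupp.single P (1 : ℤ) - Finsupp.single Q (4 : ℤ))) = 1 ∧
       Module.finrank k ↥(FunFld.L (C + Finsupp.single A (3 : ℤ) - Finsupp.single P (1 : ℤ) - Finsupp.single Q (2 : ℤ))) = 2) := by
  classical
  rintro ⟨h1, h2⟩
  have hC2 : C.deg = 2 := by rw [(Groth.Agent.FF.ell_canonical hK hC).2, hg]; norm_num
  set E := C + Finsupp.single A (3 : ℤ) - Finsupp.single P (1 : ℤ) with hEdef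
  have hE : E.deg = 4 := by
    simp [hEdef, Groth.Agent.FF.deg_sub, Groth.Agent.FF.deg_add, Groth.Agent.FF.deg_single, Groth.Agent.FF.deg_eq_one hK, hC2]
  have hdeg : ∀ n : ℤ, (E - Finsupp.single Q n).deg = 4 - n := fun n => by
    simp [Groth.Agent.FF.deg_sub, Groth.Agent.FF.deg_single, Groth.Agent.FF.deg_eq_one hK, hE]
  have h4 : Groth.Agent.FF.LinEq (E - Finsupp.single Q (4 : ℤ)) 0 :=
    Groth.Agent.FF.linEq_zero_of_ell_pos hK (by rw [hdeg]; norm_num) (by
      change 0 < Module.finrank k _; rw [h1]; omega)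
  have hrr := Groth.Agent.FF.riemann_roch' hK hC (E - Finsupp.single Q (2 : ℤ))
  rw [hdeg, hg] at hrr
  have h2' : Groth.Agent.FF.LinEq (C - (E - Finsupp.single Q (2 : ℤ))) 0 :=
    Groth.Agent.FF.linEq_zero_of_ell_pos hK (by rw [Groth.Agent.FF.deg_sub, hC2, hdeg]; norm_num) (by
      simp only [FunFld.ell] at hrr ⊢
      omega)
  obtain ⟨x, hx, hxeq⟩ := h4
  obtain ⟨y, hy, hyeq⟩ := h2'
  have h3A : Groth.Agent.FF.LinEq (C + Finsupp.single P (1 : ℤ)) (Finsupp.single A (3 : ℤ)) := by
    refine ⟨x * (y * y), mul_ne_zero hx (mul_ne_zero hy hy), ?_⟩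
    ext R
    have e1 := DFunLike.congr_fun hxeq R
    have e2 := DFunLike.congr_fun hyeq R
    have e3 : (FunFld.div k (x * (y * y))) R = R.ord x + 2 * R.ord y := by
      rw [Groth.Agent.FF.div_mul hK hx (mul_ne_zero hy hy), Groth.Agent.FF.div_mul hK hy hy]
      simp [Groth.Agent.FF.div_apply hK]
      ring
    simp only [hEdef, Finsupp.add_apply, Finsupp.sub_apply, Finsupp.coe_zero, Pi.zero_apply,
      Groth.Agent.FF.div_apply hK, Finsupp.single_apply] at e1 e2 e3 ⊢
    split_ifs at e1 e2 ⊢ <;> omega
  have := Groth.Agent.FF.le_of_linEq_canonical_add hK hg hC P (Finsupp.single_nonneg.mpr (by norm_num)) h3A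
  rw [Finsupp.single_eq_of_ne hP] at this
  omega

end Groth.Agent.S17250
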