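import Groth.Statements.S17251
import Groth.Agent.FF.LinEquiv

set_option autoImplicit false
open FunFld

namespace Groth.Agent.S17251

/-- Let `K/k` be a function field of one variable of genus two over an algebraically closed field `k` of
characteristic zero (a smooth curve `Y` of genus `2`), `C` a canonical divisor, `B` a place with
`ℓ(2B) = 1` (not a Weierstrass point) and `Q ≠ B` a place. Then `ℓ(C + B - 2Q) = 1` and `ℓ(C + 3B -
4Q) = 1` do not both hold: the complete systems `H⁰(ω_Y(B))` (dimension `2`, degree `3`) and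
`H⁰(ω_Y(3B))` (dimension `4`, degree `5`) have no ramification point in common on `Y` minus `B`.
(The published statement concerns a general pointed curve `(Y, B)` of genus two over the complex
numbers; this row assumes only `ℓ(2B) = 1`.) -/
theorem result
    (k K : Type*) [Field k] [IsAlgClosed k] [CharZero k] [Field K] [Algebra k K]
    (hK : FunFld.IsFunctionField k K) (hg : FunFld.genus k K = 2)
    (C : FunFld.Divisor k K) (hC : FunFld.IsCanonical k K C)
    (B Q : FunFld.Place k K) (hB : Module.finrank k ↥(FunFld.L (Finsupp.single B (2 : ℤ))) = 1) (hQ : Q ≠ B) :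
    ¬ (Module.finrank k ↥(FunFld.L (C + Finsupp.single B (1 : ℤ) - Finsupp.single Q (2 : ℤ))) = 1 ∧
       Module.finrank k ↥(FunFld.L (C + Finsupp.single B (3 : ℤ) - Finsupp.single Q (4 : ℤ))) = 1) := by
  classical
  rintro ⟨h1, h2⟩
  have hC2 : C.deg = 2 := by rw [(Groth.Agent.FF.ell_canonical hK hC).2, hg]; norm_num
  obtain ⟨F, hF, hFeq⟩ := Groth.Agent.FF.exists_effective hK (D := C + Finsupp.single B (1 : ℤ) - Finsupp.single Q (2 : ℤ))
    (by change 0 < Module.finrank k _; rw [h1]; omega)
  obtain ⟨R, rfl⟩ := Groth.Agent.FF.eq_single_of_effective_deg_one hK hF (by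
    rw [hFeq.deg_eq hK]
    simp [Groth.Agent.FF.deg_sub, Groth.Agent.FF.deg_add, Groth.Agent.FF.deg_single, Groth.Agent.FF.deg_eq_one hK, hC2])
  have hCB : Groth.Agent.FF.LinEq (C + Finsupp.single B 1) (Finsupp.single R 1 + Finsupp.single Q (2 : ℤ)) := by
    simpa using hFeq.add_right (Finsupp.single Q (2 : ℤ))
  have hb := Groth.Agent.FF.le_of_linEq_canonical_add hK hg hC B
    (add_nonneg hF (Finsupp.single_nonneg.mpr (by norm_num))) hCB
  rw [Finsupp.add_apply, Finsupp.single_eq_of_ne hQ.symm, add_zero, Finsupp.single_apply] at hb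
  obtain rfl : R = B := by by_contra hne; rw [if_neg hne] at hb; omega
  -- so `C ~ 2Q`
  have hC2Q : Groth.Agent.FF.LinEq C (Finsupp.single Q (2 : ℤ)) := by
    simpa using hCB.sub_right (Finsupp.single R (1 : ℤ))
  obtain ⟨G, hG, hGeq⟩ := Groth.Agent.FF.exists_effective hK (D := C + Finsupp.single R (3 : ℤ) - Finsupp.single Q (4 : ℤ))
    (by change 0 < Module.finrank k _; rw [h2]; omega)
  obtain ⟨S, rfl⟩ := Groth.Agent.FF.eq_single_of_effective_deg_one hK hG (by
    rw [hGeq.deg_eq hK]
    simp [Groth.Agent.FF.deg_sub, Groth.Agent.FF.deg_add, Groth.Agent.FF.deg_single, Groth.Agent.FF.deg_eq_one hK, hC2])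
  obtain ⟨x, hx, hxeq⟩ := hC2Q
  obtain ⟨y, hy, hyeq⟩ := hGeq
  have h3 : Groth.Agent.FF.LinEq (C + Finsupp.single S (1 : ℤ)) (Finsupp.single R (3 : ℤ)) := by
    refine ⟨x * x * y⁻¹, mul_ne_zero (mul_ne_zero hx hx) (inv_ne_zero hy), ?_⟩
    ext T
    have e1 := DFunLike.congr_fun hxeq T
    have e2 := DFunLike.congr_fun hyeq T
    rw [Groth.Agent.FF.div_mul hK (mul_ne_zero hx hx) (inv_ne_zero hy), Groth.Agent.FF.div_mul hK hx hx,
      Groth.Agent.FF.div_inv hK]
    simp only [Finsupp.add_apply, Finsupp.sub_apply, Finsupp.neg_apply, Groth.Agent.FF.div_apply hK,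
      Finsupp.single_apply] at e1 e2 ⊢
    split_ifs at e1 e2 ⊢ <;> omega
  have hs := Groth.Agent.FF.le_of_linEq_canonical_add hK hg hC S (Finsupp.single_nonneg.mpr (by norm_num)) h3
  rw [Finsupp.single_apply] at hs
  obtain rfl : R = S := by by_contra hne; rw [if_neg hne] at hs; omega
  have h4 : Groth.Agent.FF.LinEq C (Finsupp.single R (2 : ℤ)) := by
    have := h3.sub_right (Finsupp.single R (1 : ℤ))
    rw [add_sub_cancel_right, ← Finsupp.single_sub] at this
    norm_num at this
    exact this
  have := h4.ell_eq hK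
  change Module.finrank k _ = _ at this
  rw [hB, (Groth.Agent.FF.ell_canonical hK hC).1, hg] at this
  omega

end Groth.Agent.S17251
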