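import Groth.Statements.S17254
import Groth.Agent.CubeLib.CubeConnected
-- import your own Groth.Agent.* helpers here

set_option autoImplicit false
universe u
open CategoryTheory CategoryTheory.Limits MonoidalCategory CartesianMonoidalCategory AlgebraicGeometry
open PicF

namespace Groth.Agent.S17254

open Groth.Agent.PicLib Groth.Agent.AmpleLib Groth.Agent.Coherent Groth.Agent.CubeLib TopologicalSpace Opposite

set_option backward.isDefEq.respectTransparency.types false in
/-- The theorem of the cube over a field. -/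
theorem eq_one_of_slices_field' {k : Type u} [Field k] {X Y Z : Over (Spec (CommRingCat.of k))}
    [IsProper X.hom] [GeometricallyIntegral X.hom]
    [IsProper Y.hom] [GeometricallyReduced Y.hom] [GeometricallyConnected Y.hom]
    [LocallyOfFiniteType Z.hom] [QuasiCompact Z.hom] [GeometricallyIntegral Z.hom]
    (x₀ : 𝟙_ (Over (Spec (CommRingCat.of k))) ⟶ X) (y₀ : 𝟙_ (Over (Spec (CommRingCat.of k))) ⟶ Y)
    (z₀ : 𝟙_ (Over (Spec (CommRingCat.of k))) ⟶ Z)
    (a : PicM (X ⊗ (Y ⊗ Z)).left)
    (hx : PicM.pull (lift (toUnit (Y ⊗ Z) ≫ x₀) (𝟙 (Y ⊗ Z))).left a = 1)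
    (hy : PicM.pull (lift (fst X Z) (lift (toUnit (X ⊗ Z) ≫ y₀) (snd X Z))).left a = 1)
    (hz : PicM.pull (lift (fst X Y) (lift (snd X Y) (toUnit (X ⊗ Y) ≫ z₀))).left a = 1) :
    a = 1 := by
  let g : Spec (CommRingCat.of (AlgebraicClosure k)) ⟶ Spec (CommRingCat.of k) :=
    Spec.map (CommRingCat.ofHom (algebraMap k (AlgebraicClosure k)))
  let hX := isPullback_bc g X
  let hY := isPullback_bc g Y
  let hZ := isPullback_bc g Z
  let hYZ := isPullback_bcProd hY hZ
  let hP := isPullback_bcProd hX hYZ
  let hXY := isPullback_bcProd hX hY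
  let hXZ := isPullback_bcProd hX hZ
  have : IsProper (bc g X).hom := MorphismProperty.of_isPullback hX inferInstance
  have : IsProper (bc g Y).hom := MorphismProperty.of_isPullback hY inferInstance
  have : GeometricallyIntegral (bc g X).hom := MorphismProperty.of_isPullback hX inferInstance
  have : ConnectedSpace (bc g Y).left := GeometricallyConnected.geometrically_connectedSpace (f := Y.hom) g _ _ hY
  have : IsReduced (bc g Y).left := GeometricallyReduced.geometrically_isReduced (f := Y.hom) g _ _ hY
  have : QuasiCompact (bc g Z).hom := MorphismProperty.of_isPullback hZ inferInstance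
  have : LocallyOfFiniteType (bc g Z).hom := MorphismProperty.of_isPullback hZ inferInstance
  have : GeometricallyIntegral (bc g Z).hom := MorphismProperty.of_isPullback hZ inferInstance
  obtain ⟨x', hx'⟩ := exists_point x₀ hX
  obtain ⟨y', hy'⟩ := exists_point y₀ hY
  obtain ⟨z', hz'⟩ := exists_point z₀ hZ
  have key : PicM.pull (bcProd hX hYZ) a = 1 := by
    refine eq_one_of_slices_connected x' y' z' _ ?_ ?_ ?_
    · have e : (lift (toUnit (bc g Y ⊗ bc g Z) ≫ x') (𝟙 _)).left ≫ bcProd hX hYZ =
          bcProd hY hZ ≫ (lift (toUnit (Y ⊗ Z) ≫ x₀) (𝟙 (Y ⊗ Z))).left := by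
        refine hom_ext_prod ?_ ?_
        · rw [Category.assoc, Category.assoc, bcProd_fst, ← Category.assoc, ← Over.comp_left, lift_fst,
            ← Over.comp_left, lift_fst]
          exact toUnit_comp_left hYZ x₀ x' hx'
        · rw [Category.assoc, Category.assoc, bcProd_snd, ← Category.assoc, ← Over.comp_left, lift_snd,
            ← Over.comp_left, lift_snd, Over.id_left, Over.id_left, Category.id_comp, Category.comp_id]
      rw [PicM.pull_pull, e, ← PicM.pull_pull, hx, map_one]
    · have e : (lift (fst (bc g X) (bc g Z)) (lift (toUnit (bc g X ⊗ bc g Z) ≫ y') (snd _ _))).left ≫ bcProd hX hYZ =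
          bcProd hX hZ ≫ (lift (fst X Z) (lift (toUnit (X ⊗ Z) ≫ y₀) (snd X Z))).left := by
        refine hom_ext_prod ?_ ?_
        · rw [Category.assoc, Category.assoc, bcProd_fst, ← Category.assoc, ← Over.comp_left, lift_fst,
            ← Over.comp_left, lift_fst, bcProd_fst]
        · rw [Category.assoc, Category.assoc, bcProd_snd, ← Category.assoc, ← Over.comp_left, lift_snd,
            ← Over.comp_left, lift_snd]
          refine hom_ext_prod ?_ ?_
          · rw [Category.assoc, Category.assoc, bcProd_fst, ← Category.assoc, ← Over.comp_left, lift_fst,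
              ← Over.comp_left, lift_fst]
            exact toUnit_comp_left hXZ y₀ y' hy'
          · rw [Category.assoc, Category.assoc, bcProd_snd, ← Category.assoc, ← Over.comp_left, lift_snd,
              ← Over.comp_left, lift_snd, bcProd_snd]
      rw [PicM.pull_pull, e, ← PicM.pull_pull, hy, map_one]
    · have e : (lift (fst (bc g X) (bc g Y)) (lift (snd (bc g X) (bc g Y)) (toUnit (bc g X ⊗ bc g Y) ≫ z'))).left ≫
          bcProd hX hYZ = bcProd hX hY ≫ (lift (fst X Y) (lift (snd X Y) (toUnit (X ⊗ Y) ≫ z₀))).left := by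
        refine hom_ext_prod ?_ ?_
        · rw [Category.assoc, Category.assoc, bcProd_fst, ← Category.assoc, ← Over.comp_left, lift_fst,
            ← Over.comp_left, lift_fst, bcProd_fst]
        · rw [Category.assoc, Category.assoc, bcProd_snd, ← Category.assoc, ← Over.comp_left, lift_snd,
            ← Over.comp_left, lift_snd]
          refine hom_ext_prod ?_ ?_
          · rw [Category.assoc, Category.assoc, bcProd_fst, ← Category.assoc, ← Over.comp_left, lift_fst,
              ← Over.comp_left, lift_fst, bcProd_snd]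
          · rw [Category.assoc, Category.assoc, bcProd_snd, ← Category.assoc, ← Over.comp_left, lift_snd,
              ← Over.comp_left, lift_snd]
            exact toUnit_comp_left hXY z₀ z' hz'
      rw [PicM.pull_pull, e, ← PicM.pull_pull, hz, map_one]
  -- descend along the cover of the parameter space
  obtain ⟨L, hL, rfl⟩ := PicM.exists_eq_of a
  have : CompactSpace X.left := QuasiCompact.compactSpace_of_compactSpace X.hom
  have : CompactSpace Y.left := QuasiCompact.compactSpace_of_compactSpace Y.hom
  have : QuasiSeparatedSpace X.left := quasiSeparatedSpace_of_quasiSeparated X.hom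
  have : QuasiSeparatedSpace Y.left := quasiSeparatedSpace_of_quasiSeparated Y.hom
  have : GeometricallyConnected X.hom := geometricallyConnected_hom X
  let f := (proj₃ X Y Z).left
  have hflat : Flat g := flat_of_field g
  have hgs : Surjective g := ⟨fun y => ⟨IsLocalRing.closedPoint (AlgebraicClosure k),
    Subsingleton.elim (α := PrimeSpectrum k) _ _⟩⟩
  let c := bcFst g Z
  have : Flat c := MorphismProperty.of_isPullback hZ.flip hflat
  have : Surjective c := MorphismProperty.of_isPullback hZ.flip hgs
  have : QuasiCompact c := MorphismProperty.of_isPullback hZ.flip (inferInstanceAs (QuasiCompact g))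
  have hquot := Flat.isQuotientMap_of_surjective c
  have H : IsPullback (bcProd hX hYZ) (proj₃ (bc g X) (bc g Y) (bc g Z)).left f c := by
    refine IsPullback.of_bot (v₂₁ := (bc g Z).hom) (v₂₂ := Z.hom) (h₃₁ := g) ?_ ?_ hZ
    · rw [Over.w, Over.w]
      exact hP
    · show bcProd hX hYZ ≫ ((snd X (Y ⊗ Z)).left ≫ (snd Y Z).left) = _
      rw [← Category.assoc, bcProd_snd, Category.assoc, bcProd_snd, ← Category.assoc]
      rfl
  obtain ⟨hN, hiso⟩ := exists_descend_of_flat_cover f
    (bijective_proj₃_app (AbSchLib.bijective_appTop_of_field k X.hom) (AbSchLib.bijective_appTop_of_field k Y.hom)) hL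
    (fun _ : PUnit.{1} => (bc g Z).left) (fun _ => c) (fun y => ⟨PUnit.unit, Surjective.surj (f := c) y⟩)
    (fun Z' hZ' => hquot.isOpen_preimage.1 (hZ' PUnit.unit))
    (fun _ => 1) (fun _ => by
      rw [map_one]
      refine (congrArg (fun σ => PicM.pull σ (PicM.of hL)) H.isoPullback_inv_fst.symm).trans ?_
      exact (PicM.pull_pull _ _ _).symm.trans ((congrArg (PicM.pull _) key).trans (map_one _)))
  have e : PicM.of hL = PicM.pull f (PicM.of hN) := by
    rw [PicM.pull_of, PicM.of_eq_iff]
    exact ⟨(asIso ((Scheme.Modules.pullbackPushforwardAdjunction f).counit.app L)).symm⟩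
  let σ₀ : Z ⟶ X ⊗ (Y ⊗ Z) := lift (toUnit Z ≫ x₀) (lift (toUnit Z ≫ y₀) (𝟙 Z))
  have hσ₀ : σ₀.left ≫ f = 𝟙 Z.left := by
    show σ₀.left ≫ (proj₃ X Y Z).left = _
    rw [← Over.comp_left, show σ₀ ≫ proj₃ X Y Z = 𝟙 Z by simp [σ₀]]
    rfl
  have hN1 : (PicM.of hN : PicM Z.left) = 1 := by
    have h2 : PicM.pull σ₀.left (PicM.of hL) = 1 := by
      rw [show σ₀ = lift (toUnit Z ≫ y₀) (𝟙 Z) ≫ lift (toUnit (Y ⊗ Z) ≫ x₀) (𝟙 (Y ⊗ Z)) by
        ext1 <;> simp [σ₀], Over.comp_left, ← PicM.pull_pull, hx, map_one]
    rwa [e, PicM.pull_pull, hσ₀, PicM.pull_id] at h2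
  rw [e, hN1, map_one]



/-- Let k be a field and X, Y, Z schemes over k with k-rational points x₀, y₀, z₀; assume X is proper
and geometrically integral over k, Y is proper, geometrically reduced and geometrically connected
over k, and Z is of finite type and geometrically integral over k. Let L be an invertible module on
X ×_k Y ×_k Z whose pullbacks to the slices {x₀} × Y × Z, X × {y₀} × Z and X × Y × {z₀} are all
trivial. Then L is trivial: isomorphic to the structure sheaf. -/
theorem result (k : Type u) [Field k]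
    (X Y Z : Over (Spec (CommRingCat.of k)))
    [IsProper X.hom] [GeometricallyIntegral X.hom]
    [IsProper Y.hom] [GeometricallyReduced Y.hom] [GeometricallyConnected Y.hom]
    [LocallyOfFiniteType Z.hom] [QuasiCompact Z.hom] [GeometricallyIntegral Z.hom]
    (x₀ : 𝟙_ (Over (Spec (CommRingCat.of k))) ⟶ X) (y₀ : 𝟙_ (Over (Spec (CommRingCat.of k))) ⟶ Y)
    (z₀ : 𝟙_ (Over (Spec (CommRingCat.of k))) ⟶ Z)
    (L : (X ⊗ Y ⊗ Z).left.Modules) (hL : PicF.IsInvertible L)
    (hx : Nonempty ((Scheme.Modules.pullback (lift (toUnit (Y ⊗ Z) ≫ x₀) (𝟙 (Y ⊗ Z))).left).obj L ≅ Coh.structureModule (Y ⊗ Z).left))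
    (hy : Nonempty ((Scheme.Modules.pullback (lift (fst X Z) (lift (toUnit (X ⊗ Z) ≫ y₀) (snd X Z))).left).obj L ≅ Coh.structureModule (X ⊗ Z).left))
    (hz : Nonempty ((Scheme.Modules.pullback (lift (fst X Y) (lift (snd X Y) (toUnit (X ⊗ Y) ≫ z₀))).left).obj L ≅ Coh.structureModule (X ⊗ Y).left)) :
    Nonempty (L ≅ Coh.structureModule (X ⊗ Y ⊗ Z).left) := by
  have key : ∀ {W : Over (Spec (CommRingCat.of k))} (φ : W ⟶ X ⊗ (Y ⊗ Z)),
      Nonempty ((Scheme.Modules.pullback φ.left).obj L ≅ Coh.structureModule W.left) →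
        PicM.pull φ.left (PicM.of hL) = 1 := fun φ h => (PicM.pull_of _ _).trans ((PicM.of_eq_one_iff _).2 h)
  exact (PicM.of_eq_one_iff hL).1 (eq_one_of_slices_field' x₀ y₀ z₀ (PicM.of hL) (key _ hx) (key _ hy) (key _ hz))

end Groth.Agent.S17254
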