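import Groth.Statements.S17255
import Groth.Agent.AbVarLib.HomDim
import Groth.Agent.AbVarLib.GeomIntegralSmooth

set_option autoImplicit false
universe u
open CategoryTheory CategoryTheory.Limits MonoidalCategory CartesianMonoidalCategory MonObj GrpObj AlgebraicGeometry
open AbVar

namespace Groth.Agent.S17255

/-- Let k be a field, A and B abelian varieties over k (smooth proper k-group schemes with geometrically
connected fibres) with dim A = dim B (Krull dimensions of the underlying spaces), and f : A → B a
homomorphism. Then flatness of f is equivalent to finiteness of f. -/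
theorem result (k : Type u) [Field k]
    (A B : Over (Spec (CommRingCat.of k)))
    [GrpObj A] [Smooth A.hom] [IsProper A.hom] [GeometricallyConnected A.hom]
    [GrpObj B] [Smooth B.hom] [IsProper B.hom] [GeometricallyConnected B.hom]
    (f : A ⟶ B) [IsMonHom f] (hdim : topologicalKrullDim A.left = topologicalKrullDim B.left) :
    Flat f.left ↔ IsFinite f.left := by
  have := Groth.Agent.AbVarLib.geometricallyIntegral_of_smooth A.hom
  have := Groth.Agent.AbVarLib.geometricallyIntegral_of_smooth B.hom
  refine ⟨fun _ => ?_, fun _ => (Groth.Agent.AbVarLib.surjective_and_flat_of_isFinite f hdim).2⟩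
  have := Groth.Agent.AbVarLib.surjective_of_flat f
  exact (Groth.Agent.AbVarLib.isFinite_and_flat_of_surjective f hdim).1

end Groth.Agent.S17255
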