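import Groth.Statements.S17259
import Mathlib.Algebra.Module.StablyFree.Basic
import Mathlib.Algebra.Order.Ring.Star
import Mathlib.Data.Int.ConditionallyCompleteOrder
import Mathlib.Order.CompletePartialOrder
import Mathlib.RingTheory.Flat.TorsionFree
import Mathlib.RingTheory.LaurentSeries
import Mathlib.RingTheory.LocalRing.Pullback
import Mathlib.RingTheory.SimpleRing.Principal
import Mathlib.RingTheory.TotallySplit
import Mathlib.Topology.Algebra.Module.ModuleTopology
import Mathlib.Topology.Instances.Matrix
import Mathlib.Tactic

set_option linter.all false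

set_option autoImplicit false
open CAlg


namespace Groth.Agent.S17259

/-- Let A, B, C be rings, f : B → A and g : B → C ring homomorphisms, and φ : A → B a homomorphism of
additive groups such that the sequence A → B → C → 0 (maps φ, g) is exact and f ∘ φ is
multiplication by a central element a of A which is not a zero divisor. Then the projection p : A →
A/(a) composed with f factors through g as a ring homomorphism q : C → A/(a), the homomorphism (f,
g) : B → A × C is injective, and its image is the fibre product of A and C over A/(a) along p and q;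
thus (f, g) is a ring isomorphism from B onto that fibre product. (The two-sidedness of the ideal
generated by a, automatic for a central element, is carried as an instance hypothesis.) -/
theorem result {A B C : Type*} [Ring A] [Ring B] [Ring C]
    (f : B →+* A) (g : B →+* C) (φ : A →+ B) (a : A)
    (hc : ∀ x : A, Commute a x) (ha : a ∈ nonZeroDivisors A)
    (hex : Function.Exact φ g) (hg : Function.Surjective g)
    (hφ : ∀ x : A, f (φ x) = a * x)
    [(Ideal.span ({a} : Set A)).IsTwoSided] :
    ∃ q : C →+* A ⧸ Ideal.span ({a} : Set A),
      q.comp g = (Ideal.Quotient.mk (Ideal.span ({a} : Set A))).comp f ∧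
      Function.Injective (f.prod g) ∧
      (f.prod g).range = (Ideal.Quotient.mk (Ideal.span ({a} : Set A))).pullback q := by
  set π := Ideal.Quotient.mk (Ideal.span ({a} : Set A))
  have hker : RingHom.ker g ≤ RingHom.ker (π.comp f) := by
    intro b hb
    obtain ⟨x, rfl⟩ := (hex b).mp hb
    rw [RingHom.mem_ker, RingHom.comp_apply, hφ, Ideal.Quotient.eq_zero_iff_mem, (hc x).eq]
    exact Ideal.mul_mem_left _ x (Ideal.mem_span_singleton_self a)
  let q := g.liftOfSurjective hg ⟨π.comp f, hker⟩
  have hq : q.comp g = π.comp f := g.liftOfRightInverse_comp _ (Function.rightInverse_surjInv hg) ⟨π.comp f, hker⟩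
  have hqg : ∀ b, q (g b) = π (f b) := fun b => RingHom.congr_fun hq b
  refine ⟨q, hq, ?_, ?_⟩
  · rw [injective_iff_map_eq_zero]
    intro b hb
    have hb1 : f b = 0 := congrArg Prod.fst hb
    obtain ⟨x, rfl⟩ := (hex b).mp (congrArg Prod.snd hb)
    rw [hφ] at hb1
    rw [(mem_nonZeroDivisors_iff.mp ha).1 x hb1, map_zero]
  · ext ⟨x, c⟩
    constructor
    · rintro ⟨b, hb⟩; cases hb; exact (hqg b).symm
    · intro h
      obtain ⟨b, rfl⟩ := hg c
      have h' : π x = π (f b) := h.trans (hqg b)
      rw [Ideal.Quotient.eq, Ideal.mem_span_singleton'] at h'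
      obtain ⟨y, hy⟩ := h'
      refine ⟨b + φ y, Prod.ext ?_ ?_⟩
      · show f (b + φ y) = x
        rw [map_add, hφ, (hc y).eq, hy, add_sub_cancel]
      · show g (b + φ y) = g b
        rw [map_add, (hex _).mpr ⟨y, rfl⟩, add_zero]

end Groth.Agent.S17259
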