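import Groth.Statements.S17262
import Groth.Agent.TFPush7.PointedSemi

set_option linter.style.haveILetI false
set_option backward.isDefEq.respectTransparency false
set_option backward.isDefEq.respectTransparency.types false
set_option maxHeartbeats 1000000

set_option autoImplicit false
universe u
open CategoryTheory CategoryTheory.Limits AlgebraicGeometry
attribute [local instance] HasDerivedCategory.standard
open Curves

namespace Groth.Agent.S17262

/-- Let Ω be an algebraically closed field of characteristic zero and C a scheme proper over Ω which is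
connected, of dimension one, at-worst-nodal, with vanishing first cohomology of the structure sheaf,
and with at most three nodes. Let ω be the dualizing module of C over Ω (via the upper-shriek
functor, whose existence is assumed) and ω' an O_C-module with ω' ⊗ ω ≅ O_C. Then ω ⊗ ω has no
nonzero global sections, the first cohomology of ω' vanishes, and the global sections of ω' form a
three-dimensional Ω-vector space. (The source states that for a family of such curves with at most
three nodes in each fibre the direct image of the inverse of the relative dualizing sheaf is locally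
free of rank three and commutes with base change; this row is the statement on each geometric fibre
from which that follows. The published statement is over the complex numbers; it is stated here over
any algebraically closed field of characteristic zero.) -/
theorem result (Ω : Type u) [Field Ω] [IsAlgClosed Ω] [CharZero Ω]
    (C : Scheme.{u}) [C.Over (Spec (CommRingCat.of Ω))] [IsProper (C ↘ Spec (CommRingCat.of Ω))] [ConnectedSpace ↥C]
    (hdim : topologicalKrullDim ↥C = 1) (hnod : Curv2.AtWorstNodal Ω C) (hg : Curv2.genus Ω C = 0)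
    (h3 : {x : ↥C | Curv2.IsNode Ω C x}.encard ≤ 3)
    [DCoh.HasRpush (C ↘ Spec (CommRingCat.of Ω))] (h : DCoh.RpushPreservesQCoh (C ↘ Spec (CommRingCat.of Ω))) [DCoh.HasShriek (C ↘ Spec (CommRingCat.of Ω)) h]
    (OY : DCoh.DQCoh (Spec (CommRingCat.of Ω))) (hOY : Nonempty (OY.obj ≅ DCoh.inD (Spec (CommRingCat.of Ω)) (Coh.structureModule (Spec (CommRingCat.of Ω)))))
    (ωd : C.Modules) (hωd : ClSub.IsInverseOf ωd (DCoh.dualizingMod (C ↘ Spec (CommRingCat.of Ω)) h OY 1)) :
    Subsingleton (Coh.HH C (CohB1.tensorPow (DCoh.dualizingMod (C ↘ Spec (CommRingCat.of Ω)) h OY 1) 2) 0) ∧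
      Subsingleton (Coh.HH C ωd 1) ∧ Module.finrank Ω (Coh.HH C ωd 0) = 3 := by
  haveI := Groth.Agent.EulerLib.isNoetherian_of_proper Ω (X := C)
  haveI := Groth.Agent.NodeLib7.geometricallyReduced_of_atWorstNodal Ω C hnod
  haveI : AlgebraicGeometry.IsReduced C := GeometricallyReduced.geometrically_isReduced
    (f := C ↘ Spec (CommRingCat.of Ω)) (𝟙 _) (𝟙 C) (C ↘ Spec (CommRingCat.of Ω))
    (IsPullback.of_horiz_isIso ⟨by simp⟩)
  obtain ⟨-, -, hW, ⟨t, ht⟩, hWe, hWd⟩ :=
    Groth.Agent.DualMod3.nodal_setup Ω hdim (Groth.Agent.CurveRR24.h0_structure Ω) hnod h OY hOY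
  generalize DCoh.dualizingMod (C ↘ Spec (CommRingCat.of Ω)) h OY 1 = W at hW t ht hWe hWd hωd ⊢
  obtain ⟨e⟩ := hωd
  have hD : PicF.IsInvertible ωd := Groth.Agent.MorProj.isInvertible_of_tensor_iso e
  have hnum : ∀ J : C.IdealSheafData, AlgebraicGeometry.IsReduced J.subscheme → ConnectedSpace J.subscheme →
      topologicalKrullDim J.subscheme = 1 →
      @Curv2.deg Ω _ J.subscheme ⟨J.subschemeι ≫ (C ↘ Spec (CommRingCat.of Ω))⟩
        ((Scheme.Modules.pullback J.subschemeι).obj W) 1 = (Groth.Agent.DualMod3.delta Ω J : ℤ) - 2 ∧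
      @Curv2.genus Ω _ J.subscheme ⟨J.subschemeι ≫ (C ↘ Spec (CommRingCat.of Ω))⟩ = 0 ∧
      Groth.Agent.DualMod3.delta Ω J ≤ 3 := by
    intro J hJr hJc hJ
    have h1 := (Groth.Agent.DualMod3.sub_numerics Ω hdim hW t ht hWe J hJ).1
    have h2 := Groth.Agent.TFPush7.PointedSemi.genus_le Ω C hdim.le J
    obtain ⟨h4, -, hsub⟩ := Groth.Agent.TFPush7.PointedNum.delta_eq Ω hdim hnod J hJ
    have hfin : {x : ↥C | Curv2.IsNode Ω C x}.Finite := Set.finite_of_encard_le_coe h3
    have h5 : Groth.Agent.DualMod3.delta Ω J ≤ {x : ↥C | Curv2.IsNode Ω C x}.ncard :=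
      h4.trans_le (Set.ncard_le_ncard hsub hfin)
    have h6 : {x : ↥C | Curv2.IsNode Ω C x}.ncard ≤ 3 := by
      rw [← hfin.cast_ncard_eq] at h3
      exact_mod_cast h3
    refine ⟨by omega, by omega, by omega⟩
  have h1 : Subsingleton (Coh.HH C ωd 1) := by
    refine Groth.Agent.DualMod3.subsingleton_h1_of_deg_subcurves Ω hdim hW t ht hWe hD fun J hJr hJc hJ => ?_
    obtain ⟨a, b, c⟩ := hnum J hJr hJc hJ
    have h5 := Groth.Agent.DualMod3.deg_sub_tensor Ω hdim.le J hD hW
    have h6 := Groth.Agent.DualMod3.deg_sub_structure Ω J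
    letI : J.subscheme.Over (Spec (CommRingCat.of Ω)) := ⟨J.subschemeι ≫ (C ↘ Spec (CommRingCat.of Ω))⟩
    rw [Groth.Agent.CurveRR24.deg_congr Ω ((Scheme.Modules.pullback J.subschemeι).mapIso e) 1] at h5
    omega
  refine ⟨?_, h1, ?_⟩
  · refine Groth.Agent.DualMod3.subsingleton_h0_of_deg_lt_delta Ω hdim
      (Groth.Agent.AmpleLib.isInvertible_tensorPow hW 2) fun J hJr hJc hJ => ?_
    obtain ⟨a, b, c⟩ := hnum J hJr hJc hJ
    rw [Groth.Agent.DualMod3.deg_sub_pow Ω hdim.le J hW 2]
    push_cast
    omega
  · have h5 := Groth.Agent.CurveRR24.deg_inverse Ω hdim.le hD hW e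
    have hq : Coh.IsQCoh ωd := Groth.Agent.AmpleLib.isQCoh_of_isInvertible hD
    have h6 := Groth.Agent.CurveRR24.euler_eq_h0_sub_h1 Ω hdim.le _ hq
    rw [@Module.finrank_zero_of_subsingleton Ω _ _ _ _ _ h1] at h6
    have h7 := Groth.Agent.CurveRR24.euler_structure Ω (X := C) hdim.le
    rw [Groth.Agent.CurveRR24.h0_structure Ω, hg] at h7
    rw [hg] at hWd
    simp only [Curv2.deg, Nat.cast_one, one_mul] at h5 hWd
    omega

end Groth.Agent.S17262
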