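import Groth.Statements.S17273
import Groth.Agent.Stk19.AlgSt.AlgMisc

set_option autoImplicit false
open CategoryTheory AlgebraicGeometry
universe u
open AlgSt

namespace Groth.Agent.S17273

/-- Let S be a scheme and let 𝒳, 𝒴, 𝒵 be Deligne–Mumford stacks over (Sch/S) for the etale topology
(stacks in groupoids whose diagonal is representable by algebraic spaces, with a smooth surjective
atlas from a scheme and an etale surjective atlas from a scheme, both representable by algebraic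
spaces), with functors f : 𝒳 → 𝒵 and g : 𝒴 → 𝒵 over (Sch/S). Then the 2-fibre product 𝒳 ×_𝒵 𝒴 over
(Sch/S) is a Deligne–Mumford stack for the etale topology. -/
theorem result (S : Scheme.{u}) (𝒳 𝒴 𝒵 : AlgSt.Cat S)
    (h𝒳 : AlgSt.IsDM Scheme.etalePrecoverage 𝒳) (h𝒴 : AlgSt.IsDM Scheme.etalePrecoverage 𝒴)
    (h𝒵 : AlgSt.IsDM Scheme.etalePrecoverage 𝒵)
    (f : 𝒳 ⥤ᵇ 𝒵) (g : 𝒴 ⥤ᵇ 𝒵) :
    AlgSt.IsDM Scheme.etalePrecoverage (FibCat.fp f g) := by
  exact ⟨Stk19.isAlgStack_fp h𝒵.1.isStack h𝒵.1.diag h𝒳.1 h𝒴.1 f g,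
    Stk19.hasAtlas_etale_iff.2 (Stk19.hasAtlas_fp_locP AlgSpLib.etLocal_etale h𝒳.1.isStack.1 h𝒴.1.isStack.1 h𝒵.1.isStack.1 h𝒵.1.diag f g
      (Stk19.hasAtlas_etale_iff.1 h𝒳.2) (Stk19.hasAtlas_etale_iff.1 h𝒴.2))⟩

end Groth.Agent.S17273
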