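import Groth.Statements.S17275
import Groth.Agent.VB5.FrobH0
import Groth.Agent.SGA3cLib.CentralDescent
import Groth.Agent.AbVarLib.GeomIntegralSmooth

set_option autoImplicit false
universe u
open CategoryTheory CategoryTheory.Limits AlgebraicGeometry
open VBCurve

namespace Groth.Agent.S17275

/-- Let p be a prime, k an algebraically closed field whose characteristic is p, and X an integral
curve, smooth and proper over k (of dimension one), with absolute Frobenius F : X → X. For every
finite locally free O_X-module E and every invertible O_X-module L there are natural numbers M and N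
such that dim_k H⁰(X, (Fⁿ)^*E ⊗ L) ≤ M·pⁿ for all n ≥ N, where (Fⁿ)^* is the n-fold iterate of the
module pullback along F. (This is the bound established inside the printed proof for vector bundles
on the auxiliary curve, in the case where that curve is a scheme; the printed lemma itself concerns
sheaves on a two-dimensional Deligne–Mumford stack.) -/
theorem result (p : ℕ) [Fact p.Prime]
    (k : Type u) [Field k] [IsAlgClosed k] [CharP k p]
    (X : Scheme.{u}) [X.Over (Spec (CommRingCat.of k))] [IsIntegral X]
    [IsProper (X ↘ Spec (CommRingCat.of k))] [Smooth (X ↘ Spec (CommRingCat.of k))]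
    (hdim : topologicalKrullDim X = 1) [FrobSch.IsCharP X p]
    (E : X.Modules) (hE : FlatMod.IsFinLocFree E) (L : X.Modules) (hL : PicF.IsInvertible L) :
    ∃ M N : ℕ, ∀ n : ℕ, N ≤ n →
      Module.finrank k (Coh.HH X (CohB1.tensorMod
        (((Scheme.Modules.pullback (FrobSch.frob X p)).obj)^[n] E) L) 0) ≤ M * p ^ n := by
  haveI : GeometricallyConnected (X ↘ Spec (CommRingCat.of k)) :=
    SGA3cLib.CentralDescent.geometricallyConnected_of_isAlgClosed _
  haveI : GeometricallyIntegral (X ↘ Spec (CommRingCat.of k)) := AbVarLib.geometricallyIntegral_of_smooth _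
  haveI := CurveRR24.isLocallyNoetherian_of_proper k (X := X)
  obtain ⟨M, hM⟩ := VB5.exists_frob_h0_bound k hdim p hE hL
  exact ⟨M, 0, fun n _ => hM n⟩

end Groth.Agent.S17275
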