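import Groth.Statements.S17276
import Groth.Agent.VarietyLib.CurveDegree
import Groth.Agent.VarietyLib.NakaiCurves
import Groth.Agent.PicLib.FiniteSetTriv

set_option autoImplicit false
universe u
open CategoryTheory CategoryTheory.Limits AlgebraicGeometry TopologicalSpace
open Variety
open Groth.Agent

namespace Groth.Agent.S17276



/-- Let X be a proper scheme over a field k of dimension one (possibly reducible or non-reduced) and L
an invertible O_X-module that is nef, meaning χ(O_C ⊗ L) - χ(O_C) ≥ 0 for every integral closed
subscheme C ⊆ X of dimension one. Then the degree of L on X, namely χ(L) - χ(O_X), is nonnegative. -/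
theorem result (k : Type u) [Field k] (X : Scheme.{u})
    [X.Over (Spec (CommRingCat.of k))] [IsProper (X ↘ (Spec (CommRingCat.of k)))]
    (hdim : topologicalKrullDim X = 1) (L : X.Modules) (hL : PicF.IsInvertible L)
    (hnef : ∀ C : X.IdealSheafData, IsIntegral C.subscheme →
      topologicalKrullDim (C.support : Set X) = 1 →
        0 ≤ Curv2.euler k X (CohB1.tensorMod (ClSub.quotMod C) L) - Curv2.euler k X (ClSub.quotMod C)) :
    0 ≤ Curv2.deg k X L 1 := by
  haveI : IsNoetherian X := EulerLib.isNoetherian_of_proper (X := X) k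
  have hE : FlatMod.IsFinLocFreeOfRank 1 L := PicLib.isFinLocFreeOfRank_one hL
  obtain ⟨S, -, hS2, hsum⟩ := VarietyLib.degFun_eq_sum k hdim.le hE
  rw [← VarietyLib.degFun_structure k L, hsum _ (Coherent.isCoh_structureModule X)]
  refine Finset.sum_nonneg fun ξ hξ => nsmul_nonneg ?_ _
  rw [VarietyLib.degFun, Nat.cast_one, one_mul]
  exact hnef (AssSch12.clI ξ) (VarietyLib.isIntegral_clI ξ) (by rw [VarietyLib.support_clI, hS2 ξ hξ]; rfl)

end Groth.Agent.S17276
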