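import Groth.Statements.S17277
import Groth.Agent.AbCohLib.Growth
import Groth.Agent.CurveRR24.Sky

set_option autoImplicit false
universe u
open CategoryTheory CategoryTheory.Limits AlgebraicGeometry TopologicalSpace
open Variety

namespace Groth.Agent.S17277

open Groth.Agent Groth.Agent.Coherent Groth.Agent.PicLib Groth.Agent.AmpleLib

/-- Let X be a proper scheme over a field k of dimension d and L an invertible O_X-module that is big:
there is a real constant c > 0 with dim_k H^0(X, L^{⊗n}) > c·n^d for all sufficiently large n. Then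
for every closed subscheme Z ⊆ X of dimension < d, with quasi-coherent ideal sheaf I_Z, there is an
integer m > 0 with H^0(X, I_Z ⊗ L^{⊗m}) ≠ 0. -/
theorem result (k : Type u) [Field k] (X : Scheme.{u})
    [X.Over (Spec (CommRingCat.of k))] [IsProper (X ↘ (Spec (CommRingCat.of k)))]
    (d : ℕ) (hdim : topologicalKrullDim X = d) (L : X.Modules) (hL : PicF.IsInvertible L)
    (hbig : ∃ c : ℝ, 0 < c ∧ ∀ᶠ n : ℕ in Filter.atTop,
      c * (n : ℝ) ^ d < (Module.finrank k (Coh.HH X (CohB1.tensorPow L n) 0) : ℝ))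
    (Z : X.IdealSheafData) (hZ : topologicalKrullDim (Z.support : Set X) < d) :
    ∃ m : ℕ, 0 < m ∧
      Nontrivial (Coh.HH X (CohB1.tensorMod (ClSub.idealMod Z) (CohB1.tensorPow L m)) 0) := by
  obtain ⟨c, hc, hev⟩ := hbig
  obtain ⟨N, hN⟩ := Filter.eventually_atTop.1 hev
  haveI := EulerLib.isNoetherian_of_proper (X := X) k
  have hsupp : topologicalKrullDim (CohB1.support (ClSub.quotMod Z)) < d :=
    (EulerLib.dim_mono (CurveRR24.support_quotMod_subset Z)).trans_lt hZ
  obtain ⟨C, hC⟩ :=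
    AbCohLib.hfun_mem_bddSub k (PicM.of hL) 1 d _ (CurveRR24.isCoh_quotMod Z) hsupp 0
  obtain ⟨M, hM⟩ := exists_nat_gt ((C * d * 2 ^ (d - 1) : ℕ) / c : ℝ)
  refine ⟨N + M + 1, Nat.succ_pos _, ?_⟩
  have h1 := hN (N + M + 1) (by omega)
  have h2 := hC (N + M + 1) 0
  have hLm := isInvertible_tensorPow hL (N + M + 1)
  have h3 := (AbCohLib.hdim_ses k _ (CurveRR24.shortExact_ideal Z) (CurveRR24.isCoh_idealMod' Z)
    (isCoh_structureModule X) (CurveRR24.isCoh_quotMod Z) 0 (PicM.of hLm)).1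
  simp only [AbCohLib.hfun, one_pow, mul_one, ← PicM.of_tensorPow hL] at h2
  change AbCohLib.hdim k (Coh.structureModule X) 0 (PicM.of hLm) ≤
    AbCohLib.hdim k (ClSub.idealMod Z) 0 (PicM.of hLm) + AbCohLib.hdim k (ClSub.quotMod Z) 0 (PicM.of hLm) at h3
  rw [AbCohLib.hdim_eq k _ 0 hLm, AbCohLib.hdim_eq k _ 0 hLm, AbCohLib.hdim_eq k _ 0 hLm,
    (SerreDual.hmapIso k (unitTensorIso (M := CohB1.tensorPow L (N + M + 1))) 0).finrank_eq] at h3
  have hpow : C * d * (N + M + 1 + 0 + 1) ^ (d - 1) ≤ C * d * 2 ^ (d - 1) * (N + M + 1) ^ (d - 1) := by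
    rw [mul_assoc (C * d) (2 ^ (d - 1)), ← mul_pow]
    exact Nat.mul_le_mul_left _ (Nat.pow_le_pow_left (by omega) _)
  have hlt : ((C * d * (N + M + 1 + 0 + 1) ^ (d - 1) : ℕ) : ℝ) ≤ c * ((N + M + 1 : ℕ) : ℝ) ^ d := by
    refine (Nat.cast_le.2 hpow).trans ?_
    rcases Nat.eq_zero_or_pos d with hd | hd
    · subst hd
      simp only [mul_zero, zero_mul, Nat.cast_zero, pow_zero, mul_one]
      exact hc.le
    · conv_rhs => rw [← Nat.succ_pred_eq_of_pos hd, pow_succ', ← mul_assoc]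
      rw [Nat.cast_mul, Nat.cast_pow, Nat.pred_eq_sub_one]
      refine mul_le_mul_of_nonneg_right ?_ (pow_nonneg (Nat.cast_nonneg _) _)
      rw [div_lt_iff₀ hc] at hM
      refine hM.le.trans ?_
      rw [mul_comm (M : ℝ) c]
      exact mul_le_mul_of_nonneg_left (by exact_mod_cast (by omega : M ≤ N + M + 1)) hc.le
  have h4 := (abs_le.1 h2).2
  have h5 : ((AbCohLib.hdim k (ClSub.quotMod Z) 0 (PicM.of hLm) : ℤ) : ℝ) <
      (Module.finrank k (Coh.HH X (CohB1.tensorPow L (N + M + 1)) 0) : ℝ) :=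
    (le_trans (by exact_mod_cast h4) hlt).trans_lt h1
  rw [AbCohLib.hdim_eq k _ 0 hLm] at h5
  have h6 : 0 < Module.finrank k
      (Coh.HH X (CohB1.tensorMod (ClSub.idealMod Z) (CohB1.tensorPow L (N + M + 1))) 0) := by
    have h5' : (Module.finrank k (Coh.HH X (CohB1.tensorMod (ClSub.quotMod Z) (CohB1.tensorPow L (N + M + 1))) 0) : ℤ) <
      Module.finrank k (Coh.HH X (CohB1.tensorPow L (N + M + 1)) 0) := by exact_mod_cast h5
    omega
  exact Module.nontrivial_of_finrank_pos h6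

end Groth.Agent.S17277
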