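import Groth.Statements.S17278
-- import your own Groth.Agent.* helpers here
import Groth.Agent.VarietyLib.BigCone
import Groth.Agent.NumTriv23.Hhat

set_option autoImplicit false
universe u
open CategoryTheory CategoryTheory.Limits AlgebraicGeometry TopologicalSpace
open Variety

namespace Groth.Agent.S17278

theorem h0Cl_ne_zero_s17278 {k : Type u} [Field k] {X : Scheme.{u}} [X.Over (Spec (CommRingCat.of k))]
    [IsProper (X ↘ Spec (CommRingCat.of k))] [IsIntegral X] {e : EulerLib.InvCl X} (he : H0Growth23.EffCl e) :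
    H0Growth23.h0Cl k e ≠ 0 := fun h => by
  have := EulerLib.isNoetherian_of_proper (X := X) k
  obtain ⟨s, hs⟩ := he
  have := CurveRR24.finite_HH_of_isCoh k (CurveRR24.isCoh_of_isInvertible k (H0Growth23.isInvertible_repCl e)) 0
  have : Subsingleton (Coh.HH X (H0Growth23.repCl e) 0) := Module.finrank_zero_iff.1 h
  have : Subsingleton ((Coh.toAb (H0Growth23.repCl e)).obj.obj (Opposite.op (⊤ : X.Opens))) :=
    ((Coherent.HHTopEquiv (H0Growth23.repCl e) 0).trans
      (Coherent.secH (X := X.toTopCat) (Coh.toAb (H0Growth23.repCl e)) (⊤ : X.Opens))).symm.toEquiv.subsingleton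
  exact hs (Subsingleton.elim (α := (Coh.toAb (H0Growth23.repCl e)).obj.obj (Opposite.op (⊤ : X.Opens))) s 0)


/-- Let X be a projective variety over a field k (an integral scheme, proper over k, carrying an ample
invertible module A₀) of dimension d, and L an invertible O_X-module. Then L is big, meaning that
for some real c > 0 one has dim_k H^0(X, L^{⊗n}) > c·n^d for all sufficiently large n, if and only
if for every ample invertible O_X-module A, with a tensor inverse A' (A' ⊗ A ≅ O_X), there is an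
integer m > 0 with H^0(X, A' ⊗ L^{⊗m}) ≠ 0. -/
theorem result (k : Type u) [Field k]
    (X : Scheme.{u}) [X.Over (Spec (CommRingCat.of k))] [IsProper (X ↘ (Spec (CommRingCat.of k)))] [IsIntegral X]
    (A₀ : X.Modules) (hA₀ : CohB1.IsAmple A₀)
    (d : ℕ) (hdim : topologicalKrullDim X = d) (L : X.Modules) (hL : PicF.IsInvertible L) :
    (∃ c : ℝ, 0 < c ∧ ∀ᶠ n : ℕ in Filter.atTop,
        c * (n : ℝ) ^ d < (Module.finrank k (Coh.HH X (CohB1.tensorPow L n) 0) : ℝ)) ↔
      ∀ (A A' : X.Modules), CohB1.IsAmple A → ClSub.IsInverseOf A' A →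
        ∃ m : ℕ, 0 < m ∧ Nontrivial (Coh.HH X (CohB1.tensorMod A' (CohB1.tensorPow L m)) 0) := by
  haveI : IsNoetherian X := EulerLib.isNoetherian_of_proper (X := X) k
  constructor
  · rintro ⟨c, hc, hev⟩ A A' hA ⟨e⟩
    obtain ⟨N₀, hN₀⟩ := Filter.eventually_atTop.1 hev
    have hA' : PicF.IsInvertible A' := PicLib.PicM.isInvertible_of_tensor hA.1
      (AmpleLib.glocus_isInvertible_of_iso (AmpleLib.tensorComm A A' ≪≫ e).symm AmpleLib.isInvertible_structureModule)
    obtain ⟨m, hm, he⟩ := H0Growth23.exists_eff_sub_any k hdim hA (a' := EulerLib.InvCl.mk A' hA')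
      ((EulerLib.InvCl.mk_mul hA.1 hA').trans (EulerLib.InvCl.mk_eq _ _ (AmpleLib.tensorComm A A' ≪≫ e)))
      (ℓ := EulerLib.InvCl.mk L hL) fun C => by
        obtain ⟨M, hM⟩ := exists_nat_gt ((C : ℝ) / c)
        refine ⟨max (max N₀ M) 1, le_max_right _ _, ?_⟩
        set m := max (max N₀ M) 1 with hmdef
        have h1 := hN₀ m (le_max_of_le_left (le_max_left _ _))
        rw [H0Growth23.h0Cl_pow]
        have hm1 : (1 : ℝ) ≤ m := by exact_mod_cast le_max_right (max N₀ M) 1
        have h2 : (C : ℝ) ≤ c * m := by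
          rw [div_lt_iff₀ hc] at hM
          have : (M : ℝ) ≤ m := by exact_mod_cast le_max_of_le_left (le_max_right N₀ M)
          nlinarith
        have h3 : (C : ℝ) * (m : ℝ) ^ d < (Module.finrank k (Coh.HH X (CohB1.tensorPow L m) 0) : ℝ) * m :=
          lt_of_le_of_lt (mul_le_mul_of_nonneg_right h2 (by positivity))
            (lt_of_eq_of_lt (by ring) (mul_lt_mul_of_pos_right h1 (by positivity)))
        exact_mod_cast h3
    refine ⟨m, hm, Module.nontrivial_of_finrank_pos (R := k) (Nat.pos_of_ne_zero ?_)⟩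
    rw [← H0Growth23.h0Cl_mk k _ (AmpleLib.isInvertible_tensorMod hA' (AmpleLib.isInvertible_tensorPow hL m)),
      ← EulerLib.InvCl.mk_mul hA' (AmpleLib.isInvertible_tensorPow hL m), EulerLib.InvCl.mk_tensorPow hL, mul_comm]
    exact h0Cl_ne_zero_s17278 he
  · intro h
    obtain ⟨A, hA, hA0⟩ := H0Growth23.exists_ample_eff k ⟨A₀, hA₀⟩
    obtain ⟨A', hinv⟩ := VarietyLib.exists_isInverseOf hA.1
    obtain ⟨e⟩ := hinv
    have hA' : PicF.IsInvertible A' := PicLib.PicM.isInvertible_of_tensor hA.1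
      (AmpleLib.glocus_isInvertible_of_iso e.symm AmpleLib.isInvertible_structureModule)
    obtain ⟨m, hm, hnt⟩ := h A A' hA ⟨AmpleLib.tensorComm A' A ≪≫ e⟩
    have hi := AmpleLib.isInvertible_tensorMod hA' (AmpleLib.isInvertible_tensorPow hL m)
    have he := H0Growth23.effCl_of_h0_pos k (c := EulerLib.InvCl.mk _ hi) (by
      rw [H0Growth23.h0Cl_mk]
      haveI : Module.Finite k (Coh.HH X (CohB1.tensorMod A' (CohB1.tensorPow L m)) 0) :=
        CurveRR24.finite_HH_of_isCoh k (CurveRR24.isCoh_of_isInvertible k hi) 0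
      exact Module.finrank_pos.ne')
    rw [← EulerLib.InvCl.mk_mul hA' (AmpleLib.isInvertible_tensorPow hL m), EulerLib.InvCl.mk_tensorPow hL,
      mul_comm] at he
    obtain ⟨c, N, hc, hN⟩ := H0Growth23.exists_big_lower_of_eff k hdim hA hA0
      (a' := EulerLib.InvCl.mk A' hA') ((EulerLib.InvCl.mk_mul hA.1 hA').trans (EulerLib.InvCl.mk_eq _ _ e)) hm he
    refine ⟨(c : ℝ) / 2, half_pos (Rat.cast_pos.2 hc), Filter.eventually_atTop.2 ⟨max N 1, fun n hn => ?_⟩⟩
    have h1 := hN n (le_of_max_le_left hn)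
    rw [H0Growth23.h0Cl_pow] at h1
    have h2 : (c : ℝ) * (n : ℝ) ^ d ≤ (Module.finrank k (Coh.HH X (CohB1.tensorPow L n) 0) : ℝ) := by exact_mod_cast h1
    have h3 : (0 : ℝ) < (c : ℝ) * (n : ℝ) ^ d :=
      mul_pos (Rat.cast_pos.2 hc) (pow_pos (Nat.cast_pos.2 (le_of_max_le_right hn)) _)
    linarith

end Groth.Agent.S17278
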