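import Groth.Statements.S17279
import Groth.Agent.CurveNef3.Basic
import Groth.Agent.CycLib28.PB.OfRelProj
import Groth.Agent.RelVALib.Projective
import Groth.Agent.TwistLib.G.RelTwist
import Groth.Agent.Coherent.CohBC.HomSheaf
import Groth.Agent.FlatMorAdm.LocFreeApps
import Groth.Agent.VarietyLib.NakaiCurves
import Groth.Agent.PicLib.FiniteSetTriv
import Groth.Agent.CycLib28.PB.SubBundle
-- import your own Groth.Agent.* helpers here

set_option autoImplicit false
universe u
open CategoryTheory CategoryTheory.Limits AlgebraicGeometry TopologicalSpace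
open Variety

namespace Groth.Agent.S17279

open Groth.Agent.EulerLib Groth.Agent.AssSch12 Groth.Agent.DimLib Groth.Agent.VarietyLib

/-- An integral closed subscheme with one-dimensional support has euler difference that of the closure of a point. -/
theorem quotMod_eq {P : Scheme.{u}} (C : P.IdealSheafData) [IsIntegral C.subscheme] :
    ClSub.quotMod C = clM (C.subschemeι (genericPoint C.subscheme)) :=
  congrArg ClSub.quotMod (VarietyLib.eq_clI_of_isIntegral C)

open Groth.Agent.EulerLib Groth.Agent.AssSch12 Groth.Agent.DimLib Groth.Agent.VarietyLib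
/-- (i) ⇔ (iii), Barton–Kleiman criterion; scheme case: let X be a proper scheme over a field k and E a
finite locally free O_X-module. Then E is nef, meaning that the fundamental invertible module O(1)
of the projective bundle P(E) = Proj(Sym E) is nef (χ(O_C ⊗ O(1)) - χ(O_C) ≥ 0 for every integral
closed subscheme C ⊆ P(E) of dimension one; here P(E) → X is given by any relative-Proj data of the
graded symmetric algebra of E together with its O(1)), if and only if for every regular projective
curve C over k (integral, proper over k, of dimension one, all local rings regular), every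
k-morphism f : C → X and every invertible quotient f^*E → M, one has deg M = χ(M) - χ(O_C) ≥ 0. (The
source states this for proper algebraic spaces over k; this is the case of schemes.) -/
theorem result (k : Type u) [Field k] (X : Scheme.{u})
    [X.Over (Spec (CommRingCat.of k))] [IsProper (X ↘ (Spec (CommRingCat.of k)))] (E : X.Modules) (hE : FlatMod.IsFinLocFree E) :
    (∀ (𝒮 : RelProj.QCGrAlg X) (j : E ⟶ 𝒮.toModule) (P : Scheme.{u}) (p : P ⟶ X)
        (chart : ∀ (U : X.Opens) (hU : IsAffineOpen U),
          (((p ⁻¹ᵁ U : P.Opens) : Scheme.{u}) ≅ Proj (𝒮.deg U hU)))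
        (O1 : P.Modules)
        (lam : ∀ (U : X.Opens) (hU : IsAffineOpen U),
          O1 ⟶ (Scheme.Modules.pushforward (RelProj.emb p chart U hU)).obj (GrTwist.twist (𝒮.deg U hU) 1)),
        RelProj.IsGrSymAlg E 𝒮 j → RelProj.IsRelProj 𝒮 p chart → RelProj.IsRelTwist 𝒮 p chart 1 O1 lam →
        ∀ C : P.IdealSheafData, IsIntegral C.subscheme → topologicalKrullDim (C.support : Set P) = 1 →
          0 ≤ @Curv2.euler k _ P ⟨p ≫ (X ↘ (Spec (CommRingCat.of k)))⟩ (CohB1.tensorMod (ClSub.quotMod C) O1) -
              @Curv2.euler k _ P ⟨p ≫ (X ↘ (Spec (CommRingCat.of k)))⟩ (ClSub.quotMod C)) ↔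
    (∀ (C : Scheme.{u}) [C.Over (Spec (CommRingCat.of k))] [IsProper (C ↘ (Spec (CommRingCat.of k)))] [IsIntegral C],
      topologicalKrullDim C = 1 → (∀ x : C, IsRegularLocalRing (C.presheaf.stalk x)) →
      ∀ (f : C ⟶ X), f ≫ (X ↘ (Spec (CommRingCat.of k))) = C ↘ (Spec (CommRingCat.of k)) →
      ∀ (M : C.Modules), PicF.IsInvertible M →
      ∀ (q : (Scheme.Modules.pullback f).obj E ⟶ M), Epi q → 0 ≤ Curv2.deg k C M 1) := by
  let s := X ↘ Spec (CommRingCat.of k)
  haveI := EulerLib.isNoetherian_of_proper k (X := X)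
  have hEc := Coherent.CohBC.isCoh_of_isFinLocFree hE
  haveI := hEc.1
  constructor
  · intro hnef C _ _ _ hdim hreg f hf M hM q hq
    let 𝒮 := SymAlgLib.symGrAlg E
    obtain ⟨P, p, chart, hP⟩ := ProjLib.exists_isRelProj (𝒮 := 𝒮)
    obtain ⟨O1, lam, hO1⟩ := TwistLib.G.exists_isRelTwist (n := 1) hP
    have hj := SymAlgLib.isGrSymAlg_symGrAlg E
    haveI := RelVALib.isProper_bundle hEc.1 hEc.2 hj hP
    obtain ⟨qP, hB⟩ := CycLib28.PB.exists_isProjBundle hEc.1 hj hP hO1
    have hinv := KRRPBLib.isInvertible_of_rankOne hB.invertible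
    letI : P.Over (Spec (CommRingCat.of k)) := ⟨p ≫ s⟩
    haveI : IsProper (P ↘ Spec (CommRingCat.of k)) := inferInstanceAs (IsProper (p ≫ s))
    haveI := EulerLib.isNoetherian_of_proper k (X := P)
    obtain ⟨h, ⟨hg, e, -⟩, -⟩ := hB.univ C f M (PicLib.isFinLocFreeOfRank_one hM) q hq
    have hh : h ≫ (P ↘ Spec (CommRingCat.of k)) = C ↘ Spec (CommRingCat.of k) := by
      show h ≫ p ≫ s = _
      rw [← Category.assoc, hg]
      exact hf
    let z := h (genericPoint C)
    have hpd : ptDim (P ↘ Spec (CommRingCat.of k)) z ≤ 1 := by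
      haveI : LocallyOfFiniteType (h ≫ (P ↘ Spec (CommRingCat.of k))) := by rw [hh]; infer_instance
      have h1 := CurveNef3.closure_genericPoint_dim (C := C)
      rw [dim_closure_eq_ptDim k, hdim, ← Nat.cast_one (R := WithBot ℕ∞)] at h1
      have e1 : ptDim (C ↘ Spec (CommRingCat.of k)) (genericPoint C) = 1 := by exact_mod_cast h1
      have h2 := ptDim_apply_le (P ↘ Spec (CommRingCat.of k)) h (genericPoint C)
      rw [hh, e1] at h2
      exact h2
    have key : Curv2.deg k C ((Scheme.Modules.pullback h).obj O1) 1 =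
        (h.residueDegree (genericPoint C) : ℤ) * (Curv2.euler k P (CohB1.tensorMod (clM z) O1) -
          Curv2.euler k P (clM z)) := by
      have h' := interDeg_pull k h hh (d := 1) (by rw [hdim, Nat.cast_one]) (fun _ => InvCl.mk O1 hinv)
      rw [interDeg_one_eq k hinv] at h'
      rw [← h']
      refine Eq.trans ?_ (interDeg_one_eq k (PicLoc.isInvertible_pullback h hinv) (Coh.structureModule C)).symm
      rw [← degFun_structure k ((Scheme.Modules.pullback h).obj O1), degFun, Nat.cast_one, one_mul]
    have hM' : Curv2.deg k C M 1 = Curv2.deg k C ((Scheme.Modules.pullback h).obj O1) 1 := by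
      simp only [Curv2.deg]
      rw [euler_congr k C e]
    rw [hM', key]
    refine mul_nonneg (Int.natCast_nonneg _) ?_
    rcases Nat.le_one_iff_eq_zero_or_eq_one.1 hpd with h0 | h1
    · have hF := Coherent.isCoh_clM (y := z)
      have hd : topologicalKrullDim (CohB1.support (clM z)) = ((0 : ℕ) : WithBot ℕ∞) := by
        rw [EulerLib.support_clM, dim_closure_eq_ptDim k, h0]
      rw [← interDeg_one_eq k hinv (clM z)]
      exact (interDeg_eq_zero _ (clDeg_chiCl k hF hd.le)).ge
    · have hz : topologicalKrullDim (closure ({z} : Set P)) = 1 := by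
        rw [dim_closure_eq_ptDim k, h1, Nat.cast_one]
      exact hnef 𝒮 _ P p chart O1 lam hj hP hO1 (clI z) (isIntegral_clI z)
        (by rw [support_clI]; exact hz)
  · intro hcurve 𝒮 j P p chart O1 lam hj hP hO1 C hC hCdim
    haveI := hC
    haveI := RelVALib.isProper_bundle hEc.1 hEc.2 hj hP
    obtain ⟨qP, hB⟩ := CycLib28.PB.exists_isProjBundle hEc.1 hj hP hO1
    have hinv := KRRPBLib.isInvertible_of_rankOne hB.invertible
    letI : P.Over (Spec (CommRingCat.of k)) := ⟨p ≫ s⟩
    haveI : IsProper (P ↘ Spec (CommRingCat.of k)) := inferInstanceAs (IsProper (p ≫ s))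
    let z := C.subschemeι (genericPoint C.subscheme)
    have hz : topologicalKrullDim (closure ({z} : Set P)) = ((1 : ℕ) : WithBot ℕ∞) := by
      rw [Nat.cast_one, ← hCdim]
      conv_rhs => rw [VarietyLib.eq_clI_of_isIntegral C]
      rw [VarietyLib.support_clI]
    obtain ⟨D, _, _, _, ν, hD, hreg, hν, hνz⟩ := CurveNef3.exists_regular_curve k P z hz
    obtain ⟨r, hr, hdeg⟩ := CurveNef3.deg_pullback k hD ν hν (by rw [hνz]; exact hz) hinv
    haveI := hB.epi
    obtain ⟨q₁, hq₁⟩ := CurveNef3.exists_epi_comp ν p E qP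
    have h := hcurve D hD hreg (ν ≫ p) ((Category.assoc _ _ _).trans hν) _
      (PicLoc.isInvertible_pullback ν hinv) q₁ hq₁
    rw [hdeg, hνz] at h
    rw [quotMod_eq C]
    exact (mul_nonneg_iff_of_pos_left hr).1 h

end Groth.Agent.S17279
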