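import Groth.Statements.S1728
import Groth.Agent.InjHullLib.Basic

set_option autoImplicit false
universe u
open InjHull

namespace Groth.Agent.S1728

/-- Let I be an injective R-module and E a submodule of I. Then E is an injective module if and only if
every submodule E' of I containing E, such that every nonzero submodule of E' meets E nontrivially,
is equal to E. -/
theorem result (R : Type u) [CommRing R] (I : Type u) [AddCommGroup I] [Module R I] [Module.Injective R I] (E : Submodule R I) : Module.Injective R E ↔ ∀ E' : Submodule R I, E ≤ E' → (∀ N : Submodule R I, N ≤ E' → N ≠ ⊥ → N ⊓ E ≠ ⊥) → E' = E := by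
  refine ⟨fun hE E' hle hess => ?_, fun h => ?_⟩
  · obtain ⟨Q, hQ⟩ := Groth.Agent.InjHullLib.exists_isCompl_range hE E.subtype Subtype.val_injective
    rw [Submodule.range_subtype] at hQ
    refine le_antisymm (fun x hx => ?_) hle
    obtain ⟨e, he, q, hq, rfl⟩ := Submodule.mem_sup.1 (hQ.sup_eq_top ▸ Submodule.mem_top (x := x))
    have hqE : q ∈ E' := by simpa using sub_mem hx (hle he)
    have : E' ⊓ Q = ⊥ := by
      by_contra hne
      refine hess _ inf_le_left hne (eq_bot_iff.2 ?_)
      exact (inf_le_inf_right _ inf_le_right).trans (inf_comm Q E ▸ hQ.inf_eq_bot.le)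
    have hq0 : q = 0 := (Submodule.eq_bot_iff _).1 this q ⟨hqE, hq⟩
    rw [hq0, add_zero]; exact he
  · obtain ⟨H, _, _, f, hf⟩ := Groth.Agent.Matlis6.exists_isInjectiveHull R E
    obtain ⟨α, hα⟩ := Module.Injective.out f hf.injective E.subtype
    have hinj : Function.Injective α := Groth.Agent.InjHullLib.injective_of_comp_injective hf.toIsEssentialInj α
      (fun a b hab => by simpa [hα] using hab)
    have hE : LinearMap.range α = E := by
      refine h _ (fun x hx => ⟨f ⟨x, hx⟩, hα _⟩) fun N hN hN0 hNE => ?_
      obtain ⟨x, hxN, hx0⟩ := (Submodule.ne_bot_iff _).1 hN0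
      obtain ⟨y, rfl⟩ := hN hxN
      obtain ⟨r, ⟨e, he⟩, hr0⟩ := ((Groth.Agent.InjHullLib.essential_iff f).1 hf.toIsEssentialInj).2 y
        (fun h => hx0 (by rw [h, map_zero]))
      refine hr0 (hinj ?_)
      rw [map_zero]
      refine (Submodule.eq_bot_iff _).1 hNE _ ⟨?_, ?_⟩
      · rw [map_smul]; exact N.smul_mem r hxN
      · rw [← he, hα]; exact e.2
    exact Groth.Agent.InjHullLib.injective_of_equiv ((LinearEquiv.ofInjective α hinj).trans (LinearEquiv.ofEq _ _ hE))
      hf.isInjective

end Groth.Agent.S1728
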