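import Groth.Statements.S17280
import Groth.Agent.VB5.Basic
import Groth.Agent.VB5.Line
import Groth.Agent.VB5.Twist
import Groth.Agent.FlatMorAdm.LocFreeApps
import Groth.Agent.Clifford24.Sub
import Groth.Agent.CurveRR24.Section
import Groth.Agent.CAlgH3.RegularLocal

set_option autoImplicit false
universe u
open CategoryTheory CategoryTheory.Limits AlgebraicGeometry TopologicalSpace
open Variety

set_option backward.isDefEq.respectTransparency.types false
open TopologicalSpace

namespace Groth.Agent.S17280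

/-- Scheme case, curve-test form of nefness: let X be a proper scheme over a field k and 0 → E' → E →
E'' → 0 a short exact sequence whose three terms are finite locally free O_X-modules. Assume that E'
and E'' are nef in the curve-test sense: for every regular projective curve C over k (integral,
proper over k, of dimension one, all local rings regular), every k-morphism f : C → X and every
invertible quotient M of the pulled-back module, deg M = χ(M) - χ(O_C) ≥ 0. Then E is nef in the
same sense. (The source states this for proper algebraic spaces and nefness of O(1) on P(E); on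
proper schemes the two senses agree by the Barton–Kleiman criterion.) -/
theorem result (k : Type u) [Field k] (X : Scheme.{u})
    [X.Over (Spec (CommRingCat.of k))] [IsProper (X ↘ (Spec (CommRingCat.of k)))] (S : ShortComplex X.Modules) (hS : S.ShortExact)
    (h₁ : FlatMod.IsFinLocFree S.X₁) (h₂ : FlatMod.IsFinLocFree S.X₂) (h₃ : FlatMod.IsFinLocFree S.X₃)
    (hnef₁ : ∀ (C : Scheme.{u}) [C.Over (Spec (CommRingCat.of k))] [IsProper (C ↘ (Spec (CommRingCat.of k)))] [IsIntegral C],
      topologicalKrullDim C = 1 → (∀ x : C, IsRegularLocalRing (C.presheaf.stalk x)) →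
      ∀ (f : C ⟶ X), f ≫ (X ↘ (Spec (CommRingCat.of k))) = C ↘ (Spec (CommRingCat.of k)) →
      ∀ (M : C.Modules), PicF.IsInvertible M →
      ∀ (q : (Scheme.Modules.pullback f).obj S.X₁ ⟶ M), Epi q → 0 ≤ Curv2.deg k C M 1)
    (hnef₃ : ∀ (C : Scheme.{u}) [C.Over (Spec (CommRingCat.of k))] [IsProper (C ↘ (Spec (CommRingCat.of k)))] [IsIntegral C],
      topologicalKrullDim C = 1 → (∀ x : C, IsRegularLocalRing (C.presheaf.stalk x)) →
      ∀ (f : C ⟶ X), f ≫ (X ↘ (Spec (CommRingCat.of k))) = C ↘ (Spec (CommRingCat.of k)) →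
      ∀ (M : C.Modules), PicF.IsInvertible M →
      ∀ (q : (Scheme.Modules.pullback f).obj S.X₃ ⟶ M), Epi q → 0 ≤ Curv2.deg k C M 1) :
    ∀ (C : Scheme.{u}) [C.Over (Spec (CommRingCat.of k))] [IsProper (C ↘ (Spec (CommRingCat.of k)))] [IsIntegral C],
    topologicalKrullDim C = 1 → (∀ x : C, IsRegularLocalRing (C.presheaf.stalk x)) →
    ∀ (f : C ⟶ X), f ≫ (X ↘ (Spec (CommRingCat.of k))) = C ↘ (Spec (CommRingCat.of k)) →
    ∀ (M : C.Modules), PicF.IsInvertible M →
    ∀ (q : (Scheme.Modules.pullback f).obj S.X₂ ⟶ M), Epi q → 0 ≤ Curv2.deg k C M 1 := by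
  intro C _ _ _ hdim hreg f hf M hM q hq
  haveI := EulerLib.isNoetherian_of_proper k (X := C)
  have hn : ∀ x : C, IsIntegrallyClosed (C.presheaf.stalk x) := fun x => by
    haveI := hreg x
    exact CAlgH3.isIntegrallyClosed_of_regular _
  let F := Scheme.Modules.pullback f
  haveI : F.IsLeftAdjoint := (Scheme.Modules.pullbackPushforwardAdjunction f).isLeftAdjoint
  haveI := hS.epi_g
  by_cases h0 : F.map S.f ≫ q = 0
  · -- the quotient factors through the pullback of the last term
    have hc := CokernelCofork.mapIsColimit _ hS.gIsCokernel F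
    obtain ⟨q₃, hq₃⟩ := CokernelCofork.IsColimit.desc' hc q h0
    replace hq₃ : F.map S.g ≫ q₃ = q := hq₃
    haveI : Epi (F.map S.g ≫ q₃) := hq₃.symm ▸ hq
    exact hnef₃ C hdim hreg f hf M hM q₃ (epi_of_epi (F.map S.g) q₃)
  · obtain ⟨r, hr⟩ := VB5.exists_rank (FlatMorAdm.isFinLocFree_pullback f h₁)
    obtain ⟨I, p, j, hp, hj, hpj, hIc, hpos⟩ :=
      VB5.exists_image k hdim hn hr (PicLib.isFinLocFreeOfRank_one hM) (F.map S.f ≫ q)
    haveI := hp
    haveI := hj
    obtain ⟨hle, hIf⟩ := VB5.sub_bundle hdim.le hn (PicLib.isFinLocFreeOfRank_one hM) j hIc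
    rw [le_antisymm hle (hpos h0)] at hIf
    have hI : PicF.IsInvertible I := VB5.invertible_of_rank_one hIf
    have hge := hnef₁ C hdim hreg f hf I hI p hp
    obtain ⟨N, hN, ⟨e⟩⟩ := CurveRR24.exists_inverse k hI
    obtain ⟨hfin, hfr⟩ := Clifford24.hom_equiv_h0 k hI hM hN e
    haveI := hfin
    have hj0 : j ≠ 0 := fun hz => h0 (by rw [← hpj, hz, comp_zero])
    have hpos' : 0 < Module.finrank k (I ⟶ M) := Module.finrank_pos_iff_exists_ne_zero.2 ⟨j, hj0⟩
    obtain ⟨h1, -, -⟩ := CurveRR24.deg_nonneg_of_section k hdim.le (AmpleLib.isInvertible_tensorMod hM hN)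
      (Module.nontrivial_of_finrank_pos (R := k) (by rw [← hfr]; exact hpos'))
    rw [CurveRR24.deg_tensor k hdim.le hM hN, CurveRR24.deg_inverse k hdim.le hI hN e] at h1
    omega

end Groth.Agent.S17280
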