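import Groth.Statements.S17281
import Groth.Agent.VB5.GGen
import Groth.Agent.VB5.DualDeg
import Groth.Agent.Clifford24.Main
import Groth.Agent.Clifford24.Sub
import Groth.Agent.CurveRR24.AlgClosed
-- import your own Groth.Agent.* helpers here

set_option autoImplicit false
universe u
open CategoryTheory CategoryTheory.Limits AlgebraicGeometry TopologicalSpace
open Curves

set_option backward.isDefEq.respectTransparency.types false
namespace Groth.Agent.S17281

/-- Fix an algebraically closed field k and a regular projective curve C over it (integral, proper over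
k, of dimension one, all local rings regular) of genus g = dim_k H^1(C, O_C), E a finite locally
free O_C-module that is nef in the curve-test sense (for every regular projective curve C' over k,
every k-morphism f : C' → C and every invertible quotient M of f^*E, deg M = χ(M) - χ(O_{C'}) ≥ 0),
and H an invertible O_C-module with deg H = χ(H) - χ(O_C) ≥ 2g. Then E ⊗ H is generated by its
global sections. -/
theorem result (k : Type u) [Field k] [IsAlgClosed k]
    (X : Scheme.{u}) [X.Over (Spec (CommRingCat.of k))] [IsProper (X ↘ (Spec (CommRingCat.of k)))] [IsIntegral X]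
    (hdim : topologicalKrullDim X = 1) (hreg : ∀ x : X, IsRegularLocalRing (X.presheaf.stalk x))
    (E : X.Modules) (hE : FlatMod.IsFinLocFree E)
    (hnef : ∀ (C : Scheme.{u}) [C.Over (Spec (CommRingCat.of k))] [IsProper (C ↘ (Spec (CommRingCat.of k)))] [IsIntegral C],
      topologicalKrullDim C = 1 → (∀ x : C, IsRegularLocalRing (C.presheaf.stalk x)) →
      ∀ (f : C ⟶ X), f ≫ (X ↘ (Spec (CommRingCat.of k))) = C ↘ (Spec (CommRingCat.of k)) →
      ∀ (M : C.Modules), PicF.IsInvertible M →
      ∀ (q : (Scheme.Modules.pullback f).obj E ⟶ M), Epi q → 0 ≤ Curv2.deg k C M 1)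
    (H : X.Modules) (hH : PicF.IsInvertible H)
    (hdeg : 2 * (Curv2.genus k X : ℤ) ≤ Curv2.deg k X H 1) :
    Curv2.IsGloballyGenerated (CohB1.tensorMod E H) := by
  classical
  haveI := EulerLib.isNoetherian_of_proper k (X := X)
  obtain ⟨hsm, hgi⟩ := Clifford24.smooth_geomIntegral_of_regular (k := k) (X := X) hreg
  have hn : ∀ x : X, IsIntegrallyClosed (X.presheaf.stalk x) := fun x =>
    Clifford24.isIntegrallyClosed_stalk_of_smooth k x
  obtain ⟨r, hEr⟩ := VB5.exists_rank hE
  have hEH := Clifford24.isFinLocFreeOfRank_tensorMod hEr hH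
  refine VB5.globallyGenerated_of_h1 k hdim hn hEH fun P hP => ?_
  have hI := CurveRR24.isInvertible_ptIdeal_of_normal k hdim hP (hn P)
  have hF := Clifford24.isFinLocFreeOfRank_tensorMod hEH hI
  have hHI := AmpleLib.isInvertible_tensorMod hH hI
  obtain ⟨N, hN, ⟨eN⟩⟩ := CurveRR24.exists_inverse k hHI
  refine (VB5.subsingleton_h1_iff_hom_omega k hdim (SplitP1.isCoh_of_rank hF)).2 fun φ => ?_
  by_contra hφ
  let ω := Omega.sheaf (X ↘ Spec (CommRingCat.of k))
  have hω : PicF.IsInvertible ω := OmegaDual24.isInvertible_omega (k := k) hdim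
  obtain ⟨I, p, j, hp, hj, hpj, hIc, hpos⟩ :=
    VB5.exists_image k hdim hn hF (PicLib.isFinLocFreeOfRank_one hω) φ
  haveI := hp
  haveI := hj
  obtain ⟨hle, hIf⟩ := VB5.sub_bundle hdim.le hn (PicLib.isFinLocFreeOfRank_one hω) j hIc
  have hg1 : VB5.grk I = 1 := le_antisymm hle (hpos hφ)
  rw [hg1] at hIf
  have hIinv : PicF.IsInvertible I := VB5.invertible_of_rank_one hIf
  have hdI : Curv2.deg k X I 1 ≤ 2 * (Curv2.genus k X : ℤ) - 2 := by
    rw [← OmegaDual24.deg_omega k hdim]
    by_cases hji : IsIso j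
    · exact (CurveRR24.deg_congr k (@asIso _ _ _ _ j hji) 1).le
    · exact (Clifford24.deg_lt_of_hom k hdim hIinv hω j (fun h0 => hφ (by rw [← hpj, h0, comp_zero])) hji).le
  obtain ⟨a1⟩ := EulerLib.exists_assocIso' E hH hI
  obtain ⟨a2⟩ := EulerLib.exists_assocIso' E hHI hN
  haveI : Epi (AmpleLib.tensorMap p (𝟙 N)) := EulerLib.epi_tensorMap hN p
  let eE : E ≅ CohB1.tensorMod (CohB1.tensorMod (CohB1.tensorMod E H) (ClSub.idealMod (CurveRR24.ptIdeal P hP))) N :=
    (AmpleLib.unitTensorIso E).symm ≪≫ AmpleLib.tensorComm _ _ ≪≫ AmpleLib.tensorIso (Iso.refl _) eN.symm ≪≫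
      a2.symm ≪≫ AmpleLib.tensorIso a1.symm (Iso.refl N)
  let q : (Scheme.Modules.pullback (𝟙 X)).obj E ⟶ CohB1.tensorMod I N :=
    ((Scheme.Modules.pullbackId X).app E).hom ≫ eE.hom ≫ AmpleLib.tensorMap p (𝟙 N)
  haveI : Epi q := inferInstanceAs (Epi (_ ≫ _ ≫ _))
  have h := hnef X hdim hreg (𝟙 X) (Category.id_comp _) _ (AmpleLib.isInvertible_tensorMod hIinv hN) q inferInstance
  rw [CurveRR24.deg_tensor k hdim.le hIinv hN, CurveRR24.deg_inverse k hdim.le hHI hN eN,
    CurveRR24.deg_tensor k hdim.le hH hI, CurveRR24.deg_ptIdeal k hP, CurveRR24.finrank_resField k hP] at h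
  push_cast at h
  omega

end Groth.Agent.S17281
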