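import Groth.Statements.S17282
import Groth.Agent.CommAlg4.NefBundle
import Groth.Agent.CommAlg4.NefPair
import Groth.Agent.DCat.PullTensor
import Groth.Agent.ExtFilt28.Maps
import Groth.Agent.ExtFilt28.LocFree
import Groth.Agent.ExtPowEx28.Basic
import Groth.Agent.KvbLam28.Basic
import Groth.Agent.CAlgH3.RegularLocal
import Groth.Agent.CurveRR24.Degree
import Groth.Prelude.Def_StMod
-- import your own Groth.Agent.* helpers here

set_option autoImplicit false
universe u
open CategoryTheory CategoryTheory.Limits AlgebraicGeometry TopologicalSpace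
open Variety

namespace Groth.Agent.S17282

set_option backward.isDefEq.respectTransparency false
open Groth.Agent Groth.Agent.Coherent Groth.Agent.PicLib Groth.Agent.AmpleLib Groth.Agent.ExtFilt28
open Groth.Agent.CommAlg4

/-- Curve-test nefness. -/
def CNef (k : Type u) [Field k] (X : Scheme.{u}) [X.Over (Spec (CommRingCat.of k))] (E : X.Modules) : Prop :=
  ∀ (C : Scheme.{u}) [C.Over (Spec (CommRingCat.of k))] [IsProper (C ↘ (Spec (CommRingCat.of k)))] [IsIntegral C],
      topologicalKrullDim C = 1 → (∀ x : C, IsRegularLocalRing (C.presheaf.stalk x)) →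
      ∀ (f : C ⟶ X), f ≫ (X ↘ (Spec (CommRingCat.of k))) = C ↘ (Spec (CommRingCat.of k)) →
      ∀ (M : C.Modules), PicF.IsInvertible M →
      ∀ (q : (Scheme.Modules.pullback f).obj E ⟶ M), Epi q → 0 ≤ Curv2.deg k C M 1

variable {k : Type u} [Field k] {X : Scheme.{u}} [X.Over (Spec (CommRingCat.of k))]

theorem cnef_of_epi {E G : X.Modules} (h : CNef k X E) (π : E ⟶ G) [Epi π] : CNef k X G :=
  fun C _ _ _ hdim hreg f hf M hM q hq => by
    haveI := (Scheme.Modules.pullbackPushforwardAdjunction f).isLeftAdjoint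
    haveI := hq
    exact h C hdim hreg f hf M hM ((Scheme.Modules.pullback f).map π ≫ q) inferInstance

theorem cnef_pullback {E : X.Modules} (h : CNef k X E) {C : Scheme.{u}} [C.Over (Spec (CommRingCat.of k))]
    (f : C ⟶ X) (hf : f ≫ (X ↘ (Spec (CommRingCat.of k))) = C ↘ (Spec (CommRingCat.of k))) :
    CNef k C ((Scheme.Modules.pullback f).obj E) :=
  fun D _ _ _ hdim hreg g hg M hM q hq => by
    haveI := hq
    exact h D hdim hreg (g ≫ f) (by rw [Category.assoc, hf, hg]) M hM
      ((Scheme.Modules.pullbackComp g f).inv.app E ≫ q) inferInstance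

/-- Locally free quotients of nef bundles on a curve have nonnegative degree. -/
theorem quotNonneg {C : Scheme.{u}} [C.Over (Spec (CommRingCat.of k))] [IsProper (C ↘ (Spec (CommRingCat.of k)))]
    [IsIntegral C] [IsLocallyNoetherian C] (hdim : topologicalKrullDim C = 1) {F : C.Modules} (h : CNef k C F) :
    NefPair.QuotNonneg k F := fun G r p hp hG => by
  haveI := hp
  rw [← VB5.deg_eq_gdeg k hG]
  exact NefBundle.deg_nonneg_of_curveNef k hdim hG (cnef_of_epi h p)

theorem cnef_tensor {E E' : X.Modules} (hE : FlatMod.IsFinLocFree E) (hE' : FlatMod.IsFinLocFree E')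
    (h : CNef k X E) (h' : CNef k X E') : CNef k X (CohB1.tensorMod E E') :=
  fun C _ _ _ hdim hreg f hf M hM q hq => by
    haveI := EulerLib.isNoetherian_of_proper k (X := C)
    have hn : ∀ x : C, IsIntegrallyClosed (C.presheaf.stalk x) := fun x => by
      haveI := hreg x
      exact CAlgH3.isIntegrallyClosed_of_regular _
    haveI := hq
    let e : (Scheme.Modules.pullback f).obj (CohB1.tensorMod E E') ≅
        CohB1.tensorMod ((Scheme.Modules.pullback f).obj E) ((Scheme.Modules.pullback f).obj E') :=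
      DCat.PullTensor.pullTensorIso f E E'
    rw [VB5.deg_line k hM]
    refine NefPair.pair_nonneg k hdim hn (FlatMorAdm.isFinLocFree_pullback f hE)
      (FlatMorAdm.isFinLocFree_pullback f hE') hM (quotNonneg hdim (cnef_pullback h f hf))
      (quotNonneg hdim (cnef_pullback h' f hf)) (e.inv ≫ q) fun h0 => ?_
    exact VB5.not_isZero_of_grk (PicLib.isFinLocFreeOfRank_one hM) Nat.one_pos
      ((IsZero.iff_id_eq_zero M).2 ((cancel_epi (e.inv ≫ q)).1 (by rw [h0, zero_comp, zero_comp])))

theorem cnef_one : CNef k X (Coh.structureModule X) := fun C _ _ _ hdim hreg f _ M hM q hq => by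
  haveI := EulerLib.isNoetherian_of_proper k (X := C)
  have hn : ∀ x : C, IsIntegrallyClosed (C.presheaf.stalk x) := fun x => by
    haveI := hreg x
    exact CAlgH3.isIntegrallyClosed_of_regular _
  haveI := hq
  haveI : (SheafOfModules.pushforward f.toRingCatSheafHom).IsRightAdjoint :=
    (Scheme.Modules.pullbackPushforwardAdjunction f).isRightAdjoint
  haveI := StMod.opensMap_final f
  haveI : IsIso (SheafOfModules.pullbackObjUnitToUnit f.toRingCatSheafHom) := inferInstance
  let e : (Scheme.Modules.pullback f).obj (Coh.structureModule X) ≅ Coh.structureModule C :=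
    asIso (SheafOfModules.pullbackObjUnitToUnit f.toRingCatSheafHom)
  have h0 : e.inv ≫ q ≠ 0 := fun h0 => VB5.not_isZero_of_grk (PicLib.isFinLocFreeOfRank_one hM) Nat.one_pos
      ((IsZero.iff_id_eq_zero M).2 ((cancel_epi (e.inv ≫ q)).1 (by rw [h0, zero_comp, zero_comp])))
  have h := (VB5.line_map k hdim hn AmpleLib.isInvertible_structureModule hM (e.inv ≫ q) h0).1
  rw [← VB5.deg_line k AmpleLib.isInvertible_structureModule, ← VB5.deg_line k hM, CurveRR24.deg_structure] at h
  exact h

theorem cnef_tensorPow {E : X.Modules} (hE : FlatMod.IsFinLocFree E) (h : CNef k X E) :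
    ∀ n : ℕ, FlatMod.IsFinLocFree (CohB1.tensorPow E n) ∧ CNef k X (CohB1.tensorPow E n)
  | 0 => ⟨Coherent.CohBC.isFinLocFree_structureModule X, cnef_one⟩
  | n + 1 => ⟨ExtFilt28.isFinLocFree_tensor (cnef_tensorPow hE h n).1 hE,
      cnef_tensor (cnef_tensorPow hE h n).1 hE (cnef_tensorPow hE h n).2 h⟩

theorem cnef_iso {E G : X.Modules} (h : CNef k X E) (e : E ≅ G) : CNef k X G := cnef_of_epi h e.hom

theorem cnef_extPow {E : X.Modules} (hE : FlatMod.IsFinLocFree E) (h : CNef k X E) :
    ∀ (n : ℕ) (L : X.Modules), ExtPow.IsExtPow n E L → CNef k X L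
  | 0, L, hL => by
    obtain ⟨e⟩ := KvbLam28.exists_iso_of_isExtPow (KvbLam28.isExtPow_zero E) hL
    exact cnef_iso cnef_one e
  | n + 1, L, hL => by
    obtain ⟨N, hNf, hN⟩ := ExtPowEx28.exists_isExtPow hE n
    have ih := cnef_extPow hE h n N hN
    haveI := CAlgH3.LocFreeFactor.isQCoh_of_finLocFree hNf
    haveI := CAlgH3.LocFreeFactor.isQCoh_of_finLocFree hE
    obtain ⟨φN, cN⟩ := hN
    obtain ⟨φ1, c1⟩ := KvbLam28.isExtPow_one E
    obtain ⟨φL, cL⟩ := hL
    obtain ⟨ψ, hψ⟩ := ExtFilt28.exists_muHom (𝟙 E) φN φ1 φL cN c1 cL (rfl : n + 1 = n + 1)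
    haveI : Epi ψ := Preadditive.epi_of_cancel_zero ψ fun g hg =>
      InjMod14.Kosz.hom_ext_affine g 0 fun U s => by
        refine ExtFilt28.wedge_induction φL (P := fun s => g.app U.1 s = 0) (map_zero _)
          (fun a b ha hb => by rw [map_add, ha, hb, add_zero])
          (fun r a ha => by rw [Scheme.Modules.Hom.app_smul, ha, smul_zero]) (fun v => ?_) s
        have h1 := muSec_wedge (𝟙 E) φN φ1 φL (rfl : n + 1 = n + 1) U (fun i => v i.castSucc) (fun _ => v (Fin.last n))
        rw [← hψ] at h1
        have h2 : (Fin.append (fun i => (𝟙 E : E ⟶ E).app U.1 (v i.castSucc)) (fun _ : Fin 1 => v (Fin.last n))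
            ∘ Fin.cast (rfl : n + 1 = n + 1).symm) = v := by
          funext i
          refine Fin.lastCases ?_ (fun i => ?_) i
          · show Fin.append _ _ (Fin.natAdd n (0 : Fin 1)) = _
            rw [Fin.append_right]
          · show Fin.append _ _ (Fin.castAdd 1 i) = _
            rw [Fin.append_left]
            rfl
        rw [h2] at h1
        rw [← h1]
        exact ConcreteCategory.congr_hom (congrArg (fun α => α.app U.1) hg) _
    exact cnef_of_epi (cnef_tensor hNf hE ih h) ψ

open Groth.Agent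
/-- Scheme case, curve-test form of nefness: let X be a proper scheme over a field k and E, E' finite
locally free O_X-modules, both nef in the curve-test sense: for every regular projective curve C
over k (integral, proper over k, of dimension one, all local rings regular), every k-morphism f : C
→ X and every invertible quotient M of the pulled-back module, deg M = χ(M) - χ(O_C) ≥ 0. Then E ⊗
E', the tensor powers E^{⊗n} (n ≥ 0) and the exterior powers Λ^n E (any module that is
affine-locally the n-th exterior power of E, compatibly with restrictions) are nef in the same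
sense. (The source states this for proper algebraic spaces, with nefness of O(1) on P(E), and also
for the symmetric and divided powers, which are not stated here; on proper schemes the two senses of
nef agree by the Barton–Kleiman criterion.) -/
theorem result (k : Type u) [Field k] (X : Scheme.{u})
    [X.Over (Spec (CommRingCat.of k))] [IsProper (X ↘ (Spec (CommRingCat.of k)))]
    (E E' : X.Modules) (hE : FlatMod.IsFinLocFree E) (hE' : FlatMod.IsFinLocFree E')
    (hnef : ∀ (C : Scheme.{u}) [C.Over (Spec (CommRingCat.of k))] [IsProper (C ↘ (Spec (CommRingCat.of k)))] [IsIntegral C],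
      topologicalKrullDim C = 1 → (∀ x : C, IsRegularLocalRing (C.presheaf.stalk x)) →
      ∀ (f : C ⟶ X), f ≫ (X ↘ (Spec (CommRingCat.of k))) = C ↘ (Spec (CommRingCat.of k)) →
      ∀ (M : C.Modules), PicF.IsInvertible M →
      ∀ (q : (Scheme.Modules.pullback f).obj E ⟶ M), Epi q → 0 ≤ Curv2.deg k C M 1)
    (hnef' : ∀ (C : Scheme.{u}) [C.Over (Spec (CommRingCat.of k))] [IsProper (C ↘ (Spec (CommRingCat.of k)))] [IsIntegral C],
      topologicalKrullDim C = 1 → (∀ x : C, IsRegularLocalRing (C.presheaf.stalk x)) →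
      ∀ (f : C ⟶ X), f ≫ (X ↘ (Spec (CommRingCat.of k))) = C ↘ (Spec (CommRingCat.of k)) →
      ∀ (M : C.Modules), PicF.IsInvertible M →
      ∀ (q : (Scheme.Modules.pullback f).obj E' ⟶ M), Epi q → 0 ≤ Curv2.deg k C M 1) :
    (∀ (C : Scheme.{u}) [C.Over (Spec (CommRingCat.of k))] [IsProper (C ↘ (Spec (CommRingCat.of k)))] [IsIntegral C],
      topologicalKrullDim C = 1 → (∀ x : C, IsRegularLocalRing (C.presheaf.stalk x)) →
      ∀ (f : C ⟶ X), f ≫ (X ↘ (Spec (CommRingCat.of k))) = C ↘ (Spec (CommRingCat.of k)) →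
      ∀ (M : C.Modules), PicF.IsInvertible M →
      ∀ (q : (Scheme.Modules.pullback f).obj (CohB1.tensorMod E E') ⟶ M), Epi q → 0 ≤ Curv2.deg k C M 1) ∧
    (∀ n : ℕ, ∀ (C : Scheme.{u}) [C.Over (Spec (CommRingCat.of k))] [IsProper (C ↘ (Spec (CommRingCat.of k)))] [IsIntegral C],
        topologicalKrullDim C = 1 → (∀ x : C, IsRegularLocalRing (C.presheaf.stalk x)) →
        ∀ (f : C ⟶ X), f ≫ (X ↘ (Spec (CommRingCat.of k))) = C ↘ (Spec (CommRingCat.of k)) →
        ∀ (M : C.Modules), PicF.IsInvertible M →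
        ∀ (q : (Scheme.Modules.pullback f).obj (CohB1.tensorPow E n) ⟶ M), Epi q → 0 ≤ Curv2.deg k C M 1) ∧
    (∀ (n : ℕ) (Λ : X.Modules), ExtPow.IsExtPow n E Λ →
      ∀ (C : Scheme.{u}) [C.Over (Spec (CommRingCat.of k))] [IsProper (C ↘ (Spec (CommRingCat.of k)))] [IsIntegral C],
        topologicalKrullDim C = 1 → (∀ x : C, IsRegularLocalRing (C.presheaf.stalk x)) →
        ∀ (f : C ⟶ X), f ≫ (X ↘ (Spec (CommRingCat.of k))) = C ↘ (Spec (CommRingCat.of k)) →
        ∀ (M : C.Modules), PicF.IsInvertible M →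
        ∀ (q : (Scheme.Modules.pullback f).obj Λ ⟶ M), Epi q → 0 ≤ Curv2.deg k C M 1) := by
  exact ⟨cnef_tensor hE hE' hnef hnef', fun n => (cnef_tensorPow hE hnef n).2, cnef_extPow hE hnef⟩

end Groth.Agent.S17282
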