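import Groth.Statements.S17283
import Groth.Agent.CurveNef3.Basic
-- import your own Groth.Agent.* helpers here

set_option autoImplicit false
set_option linter.style.haveILetI false
set_option backward.isDefEq.respectTransparency false
universe u
open CategoryTheory CategoryTheory.Limits AlgebraicGeometry TopologicalSpace
open Variety

namespace Groth.Agent.S17283

open Groth.Agent.EulerLib Groth.Agent.AssSch12 Groth.Agent.DimLib Groth.Agent.VarietyLib

/-- Scheme case, curve-test form of nefness: let f : Y → X be a surjective k-morphism of proper schemes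
over a field k and E a finite locally free O_X-module. If the pullback f^*E is nef on Y in the
curve-test sense (for every regular projective curve C over k — integral, proper over k, of
dimension one, all local rings regular — every k-morphism g : C → Y and every invertible quotient M
of g^*(f^*E), deg M = χ(M) - χ(O_C) ≥ 0), then E is nef on X in the same sense. (The source states
this for proper algebraic spaces with nefness of O(1) on P(E); on proper schemes the senses agree by
the Barton–Kleiman criterion.) -/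
theorem result (k : Type u) [Field k] (X Y : Scheme.{u})
    [X.Over (Spec (CommRingCat.of k))] [IsProper (X ↘ (Spec (CommRingCat.of k)))] [Y.Over (Spec (CommRingCat.of k))] [IsProper (Y ↘ (Spec (CommRingCat.of k)))]
    (f : Y ⟶ X) (hf : f ≫ (X ↘ (Spec (CommRingCat.of k))) = Y ↘ (Spec (CommRingCat.of k))) [Surjective f]
    (E : X.Modules) (hE : FlatMod.IsFinLocFree E)
    (hnef : ∀ (C : Scheme.{u}) [C.Over (Spec (CommRingCat.of k))] [IsProper (C ↘ (Spec (CommRingCat.of k)))] [IsIntegral C],
      topologicalKrullDim C = 1 → (∀ x : C, IsRegularLocalRing (C.presheaf.stalk x)) →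
      ∀ (g : C ⟶ Y), g ≫ (Y ↘ (Spec (CommRingCat.of k))) = C ↘ (Spec (CommRingCat.of k)) →
      ∀ (M : C.Modules), PicF.IsInvertible M →
      ∀ (q : (Scheme.Modules.pullback g).obj ((Scheme.Modules.pullback f).obj E) ⟶ M), Epi q → 0 ≤ Curv2.deg k C M 1) :
    ∀ (C : Scheme.{u}) [C.Over (Spec (CommRingCat.of k))] [IsProper (C ↘ (Spec (CommRingCat.of k)))] [IsIntegral C],
    topologicalKrullDim C = 1 → (∀ x : C, IsRegularLocalRing (C.presheaf.stalk x)) →
    ∀ (g : C ⟶ X), g ≫ (X ↘ (Spec (CommRingCat.of k))) = C ↘ (Spec (CommRingCat.of k)) →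
    ∀ (M : C.Modules), PicF.IsInvertible M →
    ∀ (q : (Scheme.Modules.pullback g).obj E ⟶ M), Epi q → 0 ≤ Curv2.deg k C M 1 := by
  intro C _ _ _ hdim hreg g hg M hM q hq
  haveI := hq
  let P := pullback f g
  letI : P.Over (Spec (CommRingCat.of k)) := ⟨pullback.snd f g ≫ (C ↘ Spec (CommRingCat.of k))⟩
  haveI : IsProper f := by
    haveI : IsProper (f ≫ (X ↘ Spec (CommRingCat.of k))) := by rw [hf]; infer_instance
    exact IsProper.of_comp f (X ↘ Spec (CommRingCat.of k))
  haveI : IsProper (P ↘ Spec (CommRingCat.of k)) :=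
    inferInstanceAs (IsProper (pullback.snd f g ≫ (C ↘ Spec (CommRingCat.of k))))
  have hη : topologicalKrullDim (closure ({genericPoint C} : Set C)) = ((1 : ℕ) : WithBot ℕ∞) := by
    rw [CurveNef3.closure_genericPoint_dim, hdim, Nat.cast_one]
  obtain ⟨z, hz, hzd⟩ := exists_point_over k (pullback.snd f g) rfl (genericPoint C)
  obtain ⟨D, _, _, _, ν, hD, hreg', hν, hνz⟩ := CurveNef3.exists_regular_curve k P z (by
    rw [dim_closure_eq_ptDim k, hzd, ← dim_closure_eq_ptDim k, hη])
  let τ : D ⟶ C := ν ≫ pullback.snd f g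
  have hτ : τ ≫ (C ↘ Spec (CommRingCat.of k)) = D ↘ Spec (CommRingCat.of k) :=
    (Category.assoc _ _ _).trans hν
  have hτη : τ (genericPoint D) = genericPoint C := by
    show pullback.snd f g (ν (genericPoint D)) = genericPoint C
    rw [hνz, hz]
  obtain ⟨r, hr, hdeg⟩ := CurveNef3.deg_pullback k hD τ hτ (by rw [hτη, hη]) hM
  obtain ⟨r₀, hr₀, hdeg₀⟩ := CurveNef3.deg_pullback k hdim (𝟙 C) (Category.id_comp _) hη hM
  obtain ⟨q₁, hq₁⟩ := CurveNef3.exists_epi_comp τ g E q
  haveI := hq₁
  have hcomm : (ν ≫ pullback.fst f g) ≫ f = τ ≫ g := by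
    rw [Category.assoc, pullback.condition, ← Category.assoc]
  have h := hnef D hD hreg' (ν ≫ pullback.fst f g) (by
      rw [← hf, ← Category.assoc, hcomm, Category.assoc, hg, hτ]) _ (PicLoc.isInvertible_pullback τ hM)
    ((Scheme.Modules.pullbackComp (ν ≫ pullback.fst f g) f).hom.app E ≫
      (Scheme.Modules.pullbackCongr hcomm).hom.app E ≫ q₁) (by infer_instance)
  rw [hdeg, hτη] at h
  have h0 := (mul_nonneg_iff_of_pos_left hr).1 h
  have h2 := mul_nonneg hr₀.le h0
  refine le_of_le_of_eq h2 (Eq.trans hdeg₀.symm ?_)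
  simp only [Curv2.deg]
  rw [euler_congr k C ((Scheme.Modules.pullbackId C).app M)]
  rfl

end Groth.Agent.S17283
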