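import Groth.Statements.S17284
import Groth.Agent.CurveNef3.Basic
-- import your own Groth.Agent.* helpers here

set_option autoImplicit false
set_option linter.style.haveILetI false
set_option backward.isDefEq.respectTransparency false
universe u
open CategoryTheory CategoryTheory.Limits AlgebraicGeometry TopologicalSpace
open Variety

namespace Groth.Agent.S17284

open Groth.Agent.EulerLib Groth.Agent.AssSch12 Groth.Agent.DimLib Groth.Agent.VarietyLib

/-- (iii) ⇒ (ii): let X be a proper scheme over a field k and E a finite locally free O_X-module.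
Suppose that for every regular projective curve C over k (integral, proper over k, of dimension one,
all local rings regular), every k-morphism f : C → X and every invertible quotient f^*E → M, deg M =
χ(M) - χ(O_C) ≥ 0. Then for every proper k-scheme C of dimension one (equivalently projective;
possibly reducible or non-reduced), every k-morphism f : C → X and every invertible quotient f^*E →
M, deg M = χ(M) - χ(O_C) ≥ 0. (The source states this for proper algebraic spaces X; this is the
case of schemes.) -/
theorem result (k : Type u) [Field k]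
    (X : Scheme.{u}) [X.Over (Spec (CommRingCat.of k))] [IsProper (X ↘ (Spec (CommRingCat.of k)))] (E : X.Modules) (hE : FlatMod.IsFinLocFree E)
    (hnef : ∀ (C : Scheme.{u}) [C.Over (Spec (CommRingCat.of k))] [IsProper (C ↘ (Spec (CommRingCat.of k)))] [IsIntegral C],
      topologicalKrullDim C = 1 → (∀ x : C, IsRegularLocalRing (C.presheaf.stalk x)) →
      ∀ (f : C ⟶ X), f ≫ (X ↘ (Spec (CommRingCat.of k))) = C ↘ (Spec (CommRingCat.of k)) →
      ∀ (M : C.Modules), PicF.IsInvertible M →
      ∀ (q : (Scheme.Modules.pullback f).obj E ⟶ M), Epi q → 0 ≤ Curv2.deg k C M 1) :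
    ∀ (C : Scheme.{u}) [C.Over (Spec (CommRingCat.of k))] [IsProper (C ↘ (Spec (CommRingCat.of k)))], topologicalKrullDim C = 1 →
    ∀ (f : C ⟶ X), f ≫ (X ↘ (Spec (CommRingCat.of k))) = C ↘ (Spec (CommRingCat.of k)) →
    ∀ (M : C.Modules), PicF.IsInvertible M →
    ∀ (q : (Scheme.Modules.pullback f).obj E ⟶ M), Epi q → 0 ≤ Curv2.deg k C M 1 := by
  intro C _ _ hdim f hf M hM q hq
  haveI := hq
  haveI := isNoetherian_of_proper (X := C) k
  obtain ⟨S, -, hS2, hsum⟩ := degFun_eq_sum k hdim.le (PicLib.isFinLocFreeOfRank_one hM)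
  rw [← degFun_structure k M, hsum _ (Coherent.isCoh_structureModule C)]
  refine Finset.sum_nonneg fun ξ hξ => nsmul_nonneg ?_ _
  obtain ⟨D, _, _, _, ν, hD, hreg, hν, hνξ⟩ := CurveNef3.exists_regular_curve k C ξ (hS2 ξ hξ)
  subst hνξ
  obtain ⟨r, hr, hdeg⟩ := CurveNef3.deg_pullback k hD ν hν (hS2 _ hξ) hM
  obtain ⟨q', hq'⟩ := CurveNef3.exists_epi_comp ν f E q
  have h := hnef D hD hreg (ν ≫ f) (by rw [Category.assoc, hf, hν]) _ (PicLoc.isInvertible_pullback ν hM) q' hq'
  rw [hdeg] at h
  rw [degFun, Nat.cast_one, one_mul]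
  exact (mul_nonneg_iff_of_pos_left hr).1 h

end Groth.Agent.S17284
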