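import Groth.Statements.S17285
import Groth.Agent.AbCohLib.Growth
import Groth.Agent.H0Growth23.GenFinite
import Groth.Agent.Clifford24.SmoothFamily
import Groth.Agent.CurveRR24.Sky

set_option autoImplicit false
universe u
open CategoryTheory CategoryTheory.Limits AlgebraicGeometry TopologicalSpace
open Variety

namespace Groth.Agent.S17285

open Groth.Agent Groth.Agent.Coherent Groth.Agent.PicLib Groth.Agent.AmpleLib Groth.Agent.VarietyLib

/-- Global sections of the inverse image are sections of the twist of the direct image of the structure sheaf. -/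
theorem finrank_pullback_eq (k : Type u) [Field k] {X Y : Scheme.{u}} [X.Over (Spec (CommRingCat.of k))]
    [Y.Over (Spec (CommRingCat.of k))] (f : Y ⟶ X)
    (hf : f ≫ (X ↘ (Spec (CommRingCat.of k))) = Y ↘ (Spec (CommRingCat.of k))) {F : X.Modules}
    (hF : FlatMod.IsFinLocFree F) :
    Module.finrank k (Coh.HH Y ((Scheme.Modules.pullback f).obj F) 0) =
      Module.finrank k (Coh.HH X
        (CohB1.tensorMod ((Scheme.Modules.pushforward f).obj (Coh.structureModule Y)) F) 0) := by
  let G := (Scheme.Modules.pullback f).obj F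
  let e : CohB1.tensorMod ((Scheme.Modules.pushforward f).obj (Coh.structureModule Y)) F ≅
      (Scheme.Modules.pushforward f).obj G :=
    AmpleLib.tensorComm _ _ ≪≫ (Coherent.projIso (f := f) hF).app (Coh.structureModule Y) ≪≫
      (Scheme.Modules.pushforward f).mapIso (AmpleLib.tensorComm _ _ ≪≫ unitTensorIso (M := G))
  rw [CurveRR24.finrank_HH_congr k e 0, (CurveRR24.hhZero k ((Scheme.Modules.pushforward f).obj G)).finrank_eq,
    (CurveRR24.hhZero k ((Scheme.Modules.pullback f).obj F)).finrank_eq]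
  symm
  refine LinearEquiv.finrank_eq
    { toFun := fun s => s, invFun := fun s => s, left_inv := fun _ => rfl, right_inv := fun _ => rfl,
      map_add' := fun _ _ => rfl, map_smul' := fun c s => ?_ }
  show (f.appTop (baseHom k X c) : Γ(Y, ⊤)) • (show Γ(G, ⊤) from s) = baseHom k Y c • (show Γ(G, ⊤) from s)
  congr 1
  show f.appTop ((X ↘ Spec (CommRingCat.of k)).appTop ((Scheme.ΓSpecIso (CommRingCat.of k)).inv c)) =
    (Y ↘ Spec (CommRingCat.of k)).appTop _
  rw [← hf, Scheme.Hom.comp_appTop]
  rfl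

/-- Let X and Y be proper varieties over a field k (integral schemes, proper over k) of the same
dimension d, f : Y → X a birational k-morphism (generic point to generic point, with a single point
in that fibre and the same residue field there), and L an invertible O_X-module. Then L is big,
meaning that some real c > 0 has dim_k H^0(X, L^{⊗n}) > c·n^d for all sufficiently large n, if and
only if f^*L is big on Y in the same sense. (The source states this for birational morphisms of
proper schemes over k; it is stated here for integral X and Y, the case in which the printed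
argument's injectivity of O_X → f_*O_Y holds.) -/
theorem result (k : Type u) [Field k] (X Y : Scheme.{u})
    [X.Over (Spec (CommRingCat.of k))] [IsProper (X ↘ (Spec (CommRingCat.of k)))] [IsIntegral X]
    [Y.Over (Spec (CommRingCat.of k))] [IsProper (Y ↘ (Spec (CommRingCat.of k)))] [IsIntegral Y]
    (f : Y ⟶ X) (hf : f ≫ (X ↘ (Spec (CommRingCat.of k))) = Y ↘ (Spec (CommRingCat.of k))) (hbir : RadPt.IsBirational f)
    (d : ℕ) (hdimX : topologicalKrullDim X = d) (hdimY : topologicalKrullDim Y = d)
    (L : X.Modules) (hL : PicF.IsInvertible L) :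
    (∃ c : ℝ, 0 < c ∧ ∀ᶠ n : ℕ in Filter.atTop,
        c * (n : ℝ) ^ d < (Module.finrank k (Coh.HH X (CohB1.tensorPow L n) 0) : ℝ)) ↔
      (∃ c : ℝ, 0 < c ∧ ∀ᶠ n : ℕ in Filter.atTop,
        c * (n : ℝ) ^ d < (Module.finrank k (Coh.HH Y (CohB1.tensorPow ((Scheme.Modules.pullback f).obj L) n) 0) : ℝ)) := by
  haveI := EulerLib.isNoetherian_of_proper (X := X) k
  haveI := EulerLib.isNoetherian_of_proper (X := Y) k
  haveI : IsProper (f ≫ (X ↘ Spec (CommRingCat.of k))) := by rw [hf]; infer_instance
  haveI : IsProper f := IsProper.of_comp f (X ↘ Spec (CommRingCat.of k))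
  have hgX : genericPoint X ∈ genericPoints X := by rw [genericPoints_eq_singleton]; rfl
  have hdom : f (genericPoint Y) = genericPoint X := by
    have h := hbir.1.mapsTo (show genericPoint Y ∈ genericPoints Y by rw [genericPoints_eq_singleton]; rfl)
    rw [genericPoints_eq_singleton (α := X)] at h
    exact h
  have hdeg : f.residueDegree (genericPoint Y) = 1 := by
    have hb := (hbir.2 _ hgX).2 _ hdom
    letI := (f.residueFieldMap (genericPoint Y)).hom.toAlgebra
    show Module.finrank (X.residueField (f (genericPoint Y))) (Y.residueField (genericPoint Y)) = 1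
    exact ((LinearEquiv.ofBijective (Algebra.linearMap (X.residueField (f (genericPoint Y)))
      (Y.residueField (genericPoint Y))) hb).finrank_eq.symm).trans (Module.finrank_self _)
  let P := (Coh.push f).obj (Coh.structureModule Y)
  have hP : Coh.IsCoh P := isCoh_push_proper f (isCoh_structureModule Y)
  have hfin := H0Growth23.finrank_push_stalk k f hf hdom (by omega) (isInvertible_structureModule (X := Y))
  rw [hdeg] at hfin
  obtain ⟨eS⟩ : Nonempty ((DerSch.stalkFunctor X (genericPoint X)).obj (Coh.structureModule X) ≅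
      (DerSch.stalkFunctor X (genericPoint X)).obj P) := by
    letI : Field (X.presheaf.stalk (genericPoint X)) := (Field.toIsField X.functionField).toField
    obtain ⟨W, hW, g, hg⟩ := exists_isGen (isInvertible_structureModule (X := X)) (genericPoint X)
    have h1 : Module.finrank (X.presheaf.stalk (genericPoint X))
        ((Coh.structureModule X).presheaf.stalk (genericPoint X)) = 1 :=
      ((LinearEquiv.ofBijective (LinearMap.toSpanSingleton _ _ ((Coh.structureModule X).presheaf.germ W _ hW g))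
        (EmbLib24.bijective_smul_germ hg hW)).finrank_eq.symm).trans (Module.finrank_self _)
    haveI := Module.finite_of_finrank_eq_succ h1
    haveI := Module.finite_of_finrank_eq_succ hfin
    exact ⟨(LinearEquiv.ofFinrankEq _ _ (h1.trans hfin.symm)).toModuleIso⟩
  obtain ⟨C, hC⟩ := AbCohLib.hfun_sub_mem_of_stalk_iso k (PicM.of hL) 1 hdimX
    (isCoh_structureModule X) hP eS 0
  have key : ∀ n : ℕ, |(Module.finrank k (Coh.HH X (CohB1.tensorPow L n) 0) : ℤ) -
      Module.finrank k (Coh.HH Y (CohB1.tensorPow ((Scheme.Modules.pullback f).obj L) n) 0)| ≤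
        ((C * d * (n + 0 + 1) ^ (d - 1) : ℕ) : ℤ) := by
    intro n
    have h := hC n 0
    have hLn := isInvertible_tensorPow hL n
    simp only [AbCohLib.hfun, Pi.sub_apply, one_pow, mul_one, ← PicM.of_tensorPow hL] at h
    rw [AbCohLib.hdim_eq k _ 0 hLn, AbCohLib.hdim_eq k _ 0 hLn,
      CurveRR24.finrank_HH_congr k (unitTensorIso (M := CohB1.tensorPow L n)) 0] at h
    obtain ⟨e⟩ := Clifford24.nonempty_pullback_tensorPow f L n
    have hlf : FlatMod.IsFinLocFree (CohB1.tensorPow L n) := fun x =>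
      let ⟨U, hx, e⟩ := isFinLocFreeOfRank_one hLn x; ⟨U, 1, hx, e⟩
    rw [← CurveRR24.finrank_HH_congr k e 0, finrank_pullback_eq k f hf hlf]
    exact h
  suffices H : ∀ a b : ℕ → ℕ, (∀ n, |(a n : ℤ) - b n| ≤ ((C * d * (n + 0 + 1) ^ (d - 1) : ℕ) : ℤ)) →
      (∃ c : ℝ, 0 < c ∧ ∀ᶠ n : ℕ in Filter.atTop, c * (n : ℝ) ^ d < (a n : ℝ)) →
      ∃ c : ℝ, 0 < c ∧ ∀ᶠ n : ℕ in Filter.atTop, c * (n : ℝ) ^ d < (b n : ℝ) from
    ⟨H _ _ key, H _ _ fun n => (abs_sub_comm _ _).trans_le (key n)⟩
  rintro a b hab ⟨c, hc, hev⟩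
  obtain ⟨N, hN⟩ := Filter.eventually_atTop.1 hev
  obtain ⟨M, hM⟩ := exists_nat_gt (2 * (C * d * 2 ^ (d - 1) : ℕ) / c : ℝ)
  refine ⟨c / 2, half_pos hc, Filter.eventually_atTop.2 ⟨N + M + 1, fun n hn => ?_⟩⟩
  have h1 := hN n (by omega)
  have h2 : (a n : ℝ) - b n ≤ ((C * d * 2 ^ (d - 1) : ℕ) : ℝ) * (n : ℝ) ^ (d - 1) := by
    have h3 : C * d * (n + 0 + 1) ^ (d - 1) ≤ C * d * 2 ^ (d - 1) * n ^ (d - 1) := by
      rw [mul_assoc (C * d) (2 ^ (d - 1)), ← mul_pow]
      exact Nat.mul_le_mul_left _ (Nat.pow_le_pow_left (by omega) _)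
    have h4 : (a n : ℤ) - b n ≤ ((C * d * 2 ^ (d - 1) * n ^ (d - 1) : ℕ) : ℤ) :=
      ((abs_le.1 (hab n)).2).trans (by exact_mod_cast h3)
    have h5 : ((((a n : ℤ) - b n) : ℤ) : ℝ) ≤ (((C * d * 2 ^ (d - 1) * n ^ (d - 1) : ℕ) : ℤ) : ℝ) :=
      by exact_mod_cast h4
    push_cast at h5 ⊢
    exact h5
  generalize ((C * d * 2 ^ (d - 1) : ℕ) : ℝ) = D at h2 hM
  rcases Nat.eq_zero_or_pos d with rfl | hd
  · have h6 := hab n
    simp only [mul_zero, zero_mul, Nat.cast_zero, abs_nonpos_iff, sub_eq_zero] at h6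
    simp only [pow_zero, mul_one] at h1 ⊢
    rw [← (show a n = b n by exact_mod_cast h6)]
    linarith
  · obtain ⟨e, rfl⟩ : ∃ e, d = e + 1 := ⟨d - 1, by omega⟩
    simp only [Nat.add_sub_cancel] at h2
    have h7 : 2 * D ≤ c * (n : ℝ) := by
      rw [div_lt_iff₀ hc] at hM
      have : (M : ℝ) ≤ (n : ℝ) := by exact_mod_cast (by omega : M ≤ n)
      nlinarith
    have h8 := mul_le_mul_of_nonneg_right h7 (pow_nonneg (Nat.cast_nonneg (α := ℝ) n) e)
    rw [pow_succ'] at h1 ⊢
    nlinarith

end Groth.Agent.S17285
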