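import Groth.Statements.S17286
import Groth.Agent.CurveNef3.Basic
import Groth.Agent.CycLib28.PB.OfRelProj
import Groth.Agent.RelVALib.Projective
import Groth.Agent.TwistLib.G.RelTwist
import Groth.Agent.Coherent.CohBC.HomSheaf
import Groth.Agent.FlatMorAdm.LocFreeApps
import Groth.Agent.VarietyLib.NakaiCurves
import Groth.Agent.PicLib.FiniteSetTriv
import Groth.Agent.CycLib28.PB.SubBundle
import Groth.Agent.VarietyLib.NefDescent
import Groth.Agent.CurveRR24.Ample
import Groth.Agent.CurveRR24.DegOneApps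
import Groth.Agent.RelVALib.RelVA
import Groth.Agent.Clifford24.Lipman.VeryAmple
import Groth.Agent.LocFreeLib.Semilocal
import Groth.Agent.DCat.PerfTensor
import Groth.Agent.AmpleLib.Compose
-- import your own Groth.Agent.* helpers here

set_option autoImplicit false
universe u
open CategoryTheory CategoryTheory.Limits AlgebraicGeometry TopologicalSpace
open Variety

namespace Groth.Agent.S17286

open Groth.Agent.EulerLib Groth.Agent.AssSch12 Groth.Agent.DimLib Groth.Agent.VarietyLib Groth.Agent.AmpleLib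

/-- A quotient tensored with an invertible module, on the left. -/
theorem exists_epi_tensor_left {X : Scheme.{u}} {H A B : X.Modules} (hH : PicF.IsInvertible H) (φ : A ⟶ B) [Epi φ] :
    ∃ ψ : CohB1.tensorMod H A ⟶ CohB1.tensorMod H B, Epi ψ := by
  haveI := EulerLib.epi_tensorMap hH φ
  exact ⟨(tensorComm H A).hom ≫ tensorMap φ (𝟙 H) ≫ (tensorComm B H).hom, by infer_instance⟩

/-- Cancelling an invertible module and its inverse. -/
theorem nonempty_cancel {X : Scheme.{u}} {H H' A : X.Modules} (hH : PicF.IsInvertible H) (hH' : PicF.IsInvertible H')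
    (e : CohB1.tensorMod H H' ≅ Coh.structureModule X) :
    Nonempty (CohB1.tensorMod H' (CohB1.tensorMod H A) ≅ A) := by
  obtain ⟨e₁⟩ := EulerLib.exists_assocIso' A hH hH'
  exact ⟨tensorComm _ _ ≪≫ tensorIso (tensorComm H A) (Iso.refl H') ≪≫ e₁ ≪≫ tensorIso (Iso.refl A) e ≪≫
    tensorComm _ _ ≪≫ unitTensorIso A⟩

/-- `O(1)` of a projective bundle is relatively ample. -/
theorem isRelAmple_O1 {C P : Scheme.{u}} {G : C.Modules} (hG : Coh.IsQCoh G) {𝒮 : RelProj.QCGrAlg C}
    {j : G ⟶ 𝒮.toModule} {p : P ⟶ C} [QuasiCompact p]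
    {chart : ∀ (U : C.Opens) (hU : IsAffineOpen U), ((p ⁻¹ᵁ U : P.Opens) : Scheme.{u}) ≅ Proj (𝒮.deg U hU)}
    {O1 : P.Modules}
    {lam : ∀ (U : C.Opens) (hU : IsAffineOpen U),
      O1 ⟶ (Scheme.Modules.pushforward (RelProj.emb p chart U hU)).obj (GrTwist.twist (𝒮.deg U hU) 1)}
    (hj : RelProj.IsGrSymAlg G 𝒮 j) (hP : RelProj.IsRelProj 𝒮 p chart)
    (hO1 : RelProj.IsRelTwist 𝒮 p chart 1 O1 lam) : RelAmple.IsRelAmple p O1 :=
  RelVALib.isRelAmple_of_isRelVeryAmple p ⟨G, hG, 𝒮, j, hj, P, p, chart, hP, O1, lam, hO1, 𝟙 P,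
    inferInstance, Category.id_comp p, ⟨((Scheme.Modules.pullbackId P).app O1).symm⟩⟩

open Groth.Agent.EulerLib Groth.Agent.AssSch12 Groth.Agent.DimLib Groth.Agent.VarietyLib Groth.Agent.AmpleLib
/-- (iii) ⇔ (iv), algebraically closed base field; scheme case: let X be a proper scheme over an
algebraically closed field k and E a finite locally free O_X-module. Then E is nef in the curve-test
sense (for every regular projective curve C over k — integral, proper over k, of dimension one, all
local rings regular — every k-morphism f : C → X and every invertible quotient f^*E → M, deg M =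
χ(M) - χ(O_C) ≥ 0) if and only if for every such f : C → X and every ample invertible O_C-module H,
the finite locally free module H ⊗ f^*E is ample: the fundamental module O(1) of its projective
bundle P(H ⊗ f^*E) = Proj(Sym(H ⊗ f^*E)) → C (any relative-Proj data of the graded symmetric algebra
with its O(1)) is ample. (The source states this for proper algebraic spaces X; this is the case of
schemes.) -/
theorem result (k : Type u) [Field k] [IsAlgClosed k]
    (X : Scheme.{u}) [X.Over (Spec (CommRingCat.of k))] [IsProper (X ↘ (Spec (CommRingCat.of k)))] (E : X.Modules) (hE : FlatMod.IsFinLocFree E) :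
    (∀ (C : Scheme.{u}) [C.Over (Spec (CommRingCat.of k))] [IsProper (C ↘ (Spec (CommRingCat.of k)))] [IsIntegral C],
      topologicalKrullDim C = 1 → (∀ x : C, IsRegularLocalRing (C.presheaf.stalk x)) →
      ∀ (f : C ⟶ X), f ≫ (X ↘ (Spec (CommRingCat.of k))) = C ↘ (Spec (CommRingCat.of k)) →
      ∀ (M : C.Modules), PicF.IsInvertible M →
      ∀ (q : (Scheme.Modules.pullback f).obj E ⟶ M), Epi q → 0 ≤ Curv2.deg k C M 1) ↔
    (∀ (C : Scheme.{u}) [C.Over (Spec (CommRingCat.of k))] [IsProper (C ↘ (Spec (CommRingCat.of k)))] [IsIntegral C],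
      topologicalKrullDim C = 1 → (∀ x : C, IsRegularLocalRing (C.presheaf.stalk x)) →
      ∀ (f : C ⟶ X), f ≫ (X ↘ (Spec (CommRingCat.of k))) = C ↘ (Spec (CommRingCat.of k)) →
      ∀ (H : C.Modules), CohB1.IsAmple H →
      ∀ (𝒮 : RelProj.QCGrAlg C) (j : (CohB1.tensorMod H ((Scheme.Modules.pullback f).obj E)) ⟶ 𝒮.toModule) (P : Scheme.{u}) (p : P ⟶ C)
        (chart : ∀ (U : C.Opens) (hU : IsAffineOpen U),
          (((p ⁻¹ᵁ U : P.Opens) : Scheme.{u}) ≅ Proj (𝒮.deg U hU)))
        (O1 : P.Modules)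
        (lam : ∀ (U : C.Opens) (hU : IsAffineOpen U),
          O1 ⟶ (Scheme.Modules.pushforward (RelProj.emb p chart U hU)).obj (GrTwist.twist (𝒮.deg U hU) 1)),
        RelProj.IsGrSymAlg (CohB1.tensorMod H ((Scheme.Modules.pullback f).obj E)) 𝒮 j → RelProj.IsRelProj 𝒮 p chart → RelProj.IsRelTwist 𝒮 p chart 1 O1 lam →
        CohB1.IsAmple O1) := by
  constructor
  · intro hnef C _ _ _ hdim hreg f hf H hH 𝒮 j P p chart O1 lam hj hP hO1
    let G := CohB1.tensorMod H ((Scheme.Modules.pullback f).obj E)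
    have hG : FlatMod.IsFinLocFree G := DCat.PerfTensor.isFinLocFree_tensor
      (LocFreeLib.isFinLocFree_of_rank (PicLib.isFinLocFreeOfRank_one hH.1)) (FlatMorAdm.isFinLocFree_pullback f hE)
    haveI := EulerLib.isNoetherian_of_proper k (X := C)
    have hGc := Coherent.CohBC.isCoh_of_isFinLocFree hG
    haveI := hGc.1
    haveI := RelVALib.isProper_bundle hGc.1 hGc.2 hj hP
    obtain ⟨qP, hB⟩ := CycLib28.PB.exists_isProjBundle hGc.1 hj hP hO1
    haveI := hB.epi
    have hinv := KRRPBLib.isInvertible_of_rankOne hB.invertible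
    letI : P.Over (Spec (CommRingCat.of k)) := ⟨p ≫ (C ↘ Spec (CommRingCat.of k))⟩
    haveI : IsProper (P ↘ Spec (CommRingCat.of k)) :=
      inferInstanceAs (IsProper (p ≫ (C ↘ Spec (CommRingCat.of k))))
    haveI := EulerLib.isNoetherian_of_proper k (X := P)
    obtain ⟨H', hH', ⟨eH⟩⟩ := CurveRR24.exists_inverse k hH.1
    have hpH := PicLoc.isInvertible_pullback p hH'
    let A := CohB1.tensorMod ((Scheme.Modules.pullback p).obj H') O1
    have hA : PicF.IsInvertible A := AmpleLib.isInvertible_tensorMod hpH hinv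
    have hnefA : NefCl k (InvCl.mk A hA) := by
      intro z hz
      obtain ⟨D, _, _, _, ν, hD, hreg', hν, hνz⟩ := CurveNef3.exists_regular_curve k P z hz
      obtain ⟨r, hr, hdeg⟩ := CurveNef3.deg_pullback k hD ν hν (by rw [hνz]; exact hz) hA
      obtain ⟨ψ₁, hψ₁⟩ := exists_epi_tensor_left hpH qP
      haveI := hψ₁
      obtain ⟨e₂⟩ := nonempty_cancel (A := (Scheme.Modules.pullback f).obj E) hH.1 hH' eH
      let ι : (Scheme.Modules.pullback p).obj (CohB1.tensorMod H' G) ≅
          CohB1.tensorMod ((Scheme.Modules.pullback p).obj H') ((Scheme.Modules.pullback p).obj G) :=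
        DCat.PullTensor.pullTensorIso p H' G
      let a₁ : (Scheme.Modules.pullback p).obj ((Scheme.Modules.pullback f).obj E) ⟶ A :=
        (Scheme.Modules.pullback p).map e₂.inv ≫ ι.hom ≫ ψ₁
      haveI ha₁ : Epi a₁ := by
        haveI : Epi ((Scheme.Modules.pullback p).map e₂.inv) := inferInstance
        haveI : Epi (ι.hom ≫ ψ₁) := epi_comp _ _
        exact epi_comp _ _
      obtain ⟨q₁, hq₁⟩ := CurveNef3.exists_epi_comp ν (p ≫ f) E
        (((Scheme.Modules.pullbackComp p f).app E).inv ≫ a₁)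
      have h := hnef D hD hreg' (ν ≫ p ≫ f) (by
        rw [Category.assoc, Category.assoc, hf]; exact hν) _ (PicLoc.isInvertible_pullback ν hA) q₁ hq₁
      rw [hdeg, hνz] at h
      rw [interDeg_one_eq k hA]
      exact (mul_nonneg_iff_of_pos_left hr).1 h
    obtain ⟨N, hN⟩ := AmpleLib.eventually_isAmple_tensor_pullback p hH (isRelAmple_O1 hGc.1 hj hP hO1)
    have hBamp := hN N le_rfl
    have hpow := isAmple_nef_mul_ample k hBamp hnefA N one_pos
      (isInvertible_tensorPow hinv (N + 1)) (by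
        have hone : pullHom p (InvCl.mk H' hH') * pullHom p (InvCl.mk H hH.1) = 1 := by
          rw [← map_mul, mul_comm, InvCl.mk_mul, InvCl.mk_eq _ isInvertible_structureModule eH]
          exact map_one (pullHom p)
        rw [InvCl.mk_tensorPow hinv (N + 1), pow_one,
          show InvCl.mk A hA = pullHom p (InvCl.mk H' hH') * InvCl.mk O1 hinv from rfl,
          show InvCl.mk _ hBamp.1 = InvCl.mk O1 hinv *
              InvCl.mk _ (isInvertible_tensorPow (PicLoc.isInvertible_pullback p hH.1) N) from rfl,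
          InvCl.mk_tensorPow (PicLoc.isInvertible_pullback p hH.1) N, ← pullHom_mk p hH.1, mul_pow, pow_succ]
        generalize pullHom p (InvCl.mk H' hH') = a, pullHom p (InvCl.mk H hH.1) = c, InvCl.mk O1 hinv = b at hone ⊢
        rw [show a ^ N * b ^ N * (b * c ^ N) = (a * c) ^ N * (b ^ N * b) by rw [mul_pow]; ac_rfl, hone, one_pow, one_mul])
    exact (AmpleLib.isAmple_pow_iff hinv (N + 1) (Nat.succ_pos N)).1 hpow
  · intro hamp C _ _ _ hdim hreg f hf M hM q hq
    by_contra hneg
    rw [not_le] at hneg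
    haveI := hq
    haveI := EulerLib.isNoetherian_of_proper k (X := C)
    obtain ⟨H, hHi, ⟨eM⟩⟩ := CurveRR24.exists_inverse k hM
    have hdH := CurveRR24.deg_inverse k hdim.le hM hHi eM
    have hH : CohB1.IsAmple H := CurveRR24.isAmple_of_deg_pos k hdim hHi (by omega)
    let G := CohB1.tensorMod H ((Scheme.Modules.pullback f).obj E)
    have hG : FlatMod.IsFinLocFree G := DCat.PerfTensor.isFinLocFree_tensor
      (LocFreeLib.isFinLocFree_of_rank (PicLib.isFinLocFreeOfRank_one hHi)) (FlatMorAdm.isFinLocFree_pullback f hE)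
    have hGc := Coherent.CohBC.isCoh_of_isFinLocFree hG
    haveI := hGc.1
    obtain ⟨P, p, chart, hP⟩ := ProjLib.exists_isRelProj (𝒮 := SymAlgLib.symGrAlg G)
    obtain ⟨O1, lam, hO1⟩ := TwistLib.G.exists_isRelTwist (n := 1) hP
    have hj := SymAlgLib.isGrSymAlg_symGrAlg G
    haveI := RelVALib.isProper_bundle hGc.1 hGc.2 hj hP
    obtain ⟨qP, hB⟩ := CycLib28.PB.exists_isProjBundle hGc.1 hj hP hO1
    have hO1amp := hamp C hdim hreg f hf H hH _ _ P p chart O1 lam hj hP hO1
    obtain ⟨ψ, hψ⟩ := exists_epi_tensor_left hHi q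
    haveI := hψ
    obtain ⟨h, ⟨hg, e, -⟩, -⟩ := hB.univ C (𝟙 C) (CohB1.tensorMod H M)
      (PicLib.isFinLocFreeOfRank_one (AmpleLib.isInvertible_tensorMod hHi hM))
      ((Scheme.Modules.pullbackId C).hom.app G ≫ ψ) (epi_comp _ _)
    haveI : IsClosedImmersion (h ≫ p) := by rw [hg]; infer_instance
    haveI : IsClosedImmersion h := IsClosedImmersion.of_comp h p
    haveI : CompactSpace C := inferInstance
    have hpos := Lipman24.deg_pos_of_isAmple k h hdim hO1amp
    rw [CurveRR24.deg_congr k (e ≪≫ tensorComm H M ≪≫ eM) 1, CurveRR24.deg_structure k] at hpos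
    exact lt_irrefl _ hpos

end Groth.Agent.S17286
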