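import Groth.Statements.S17287
import Groth.Agent.VarietyLib.CurvePull

set_option autoImplicit false
universe u
open CategoryTheory CategoryTheory.Limits AlgebraicGeometry TopologicalSpace
open Variety
open Groth.Agent

namespace Groth.Agent.S17287

/-- Let f : Y → X be a surjective k-morphism of proper schemes over a field k and C ⊆ X an integral
closed subscheme of dimension one. Then there is an integral closed subscheme C' ⊆ Y of dimension
one with f(C') = C as closed subsets. (The source states this for proper algebraic spaces over k;
this is the case of schemes.) -/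
theorem result (k : Type u) [Field k] (X Y : Scheme.{u})
    [X.Over (Spec (CommRingCat.of k))] [IsProper (X ↘ (Spec (CommRingCat.of k)))] [Y.Over (Spec (CommRingCat.of k))] [IsProper (Y ↘ (Spec (CommRingCat.of k)))]
    (f : Y ⟶ X) (hf : f ≫ (X ↘ (Spec (CommRingCat.of k))) = Y ↘ (Spec (CommRingCat.of k))) [Surjective f]
    (C : X.IdealSheafData) [IsIntegral C.subscheme] (hC : topologicalKrullDim (C.support : Set X) = 1) :
    ∃ C' : Y.IdealSheafData, IsIntegral C'.subscheme ∧ topologicalKrullDim (C'.support : Set Y) = 1 ∧
      f.base '' (C'.support : Set Y) = (C.support : Set X) := by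
  let q := Y ↘ Spec (CommRingCat.of k)
  let ξ := C.subschemeι (genericPoint C.subscheme)
  have hCξ : (C.support : Set X) = closure {ξ} := by
    conv_lhs => rw [VarietyLib.eq_clI_of_isIntegral C]
    exact VarietyLib.support_clI ξ
  obtain ⟨z, hz, hzd⟩ := VarietyLib.exists_point_over k f hf ξ
  refine ⟨AssSch12.clI z, VarietyLib.isIntegral_clI z, ?_, ?_⟩
  · rw [VarietyLib.support_clI, VarietyLib.dim_closure_eq_ptDim k z, hzd, ← VarietyLib.dim_closure_eq_ptDim k ξ, ← hCξ, hC]
  · rw [VarietyLib.support_clI, hCξ, ← hz]
    haveI : IsProper f := by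
      haveI : IsProper (f ≫ (X ↘ Spec (CommRingCat.of k))) := by rw [hf]; infer_instance
      exact IsProper.of_comp f (X ↘ Spec (CommRingCat.of k))
    exact (f.isClosedMap.closure_image_eq_of_continuous f.continuous {z}).symm.trans (by rw [Set.image_singleton])

end Groth.Agent.S17287
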