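import Groth.Statements.S17288
import Groth.Agent.DualMod3.Separation
import Groth.Agent.Coherent.ProjFormula
import Groth.Agent.SerreDual.PushEquiv
import Groth.Agent.Clifford24.SmoothFamily
import Groth.Agent.NumTriv23.Basic
import Groth.Agent.PicLib.PicMonoid
import Groth.Agent.TFPush7.PointGG
import Groth.Agent.AmpleLib.Generated
import Groth.Agent.S0051

set_option autoImplicit false
universe u
open CategoryTheory CategoryTheory.Limits AlgebraicGeometry TopologicalSpace
open Variety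

namespace Groth.Agent.S17288

open Groth.Agent Groth.Agent.Coherent Groth.Agent.PicLib Groth.Agent.AmpleLib Groth.Agent.EulerLib
open Groth.Agent.CurveRR24 Opposite

/-- A surjection on `H¹` between spaces of equal dimension makes global sections surjective. -/
theorem surjective_app_top (k : Type u) [Field k] {X : Scheme.{u}} [X.Over (Spec (CommRingCat.of k))]
    {S : ShortComplex X.Modules} (hS : S.ShortExact) (h3 : Subsingleton (Coh.HH X S.X₃ 1))
    [Module.Finite k (Coh.HH X S.X₁ 1)] [Module.Finite k (Coh.HH X S.X₂ 1)]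
    (hd : Module.finrank k (Coh.HH X S.X₁ 1) = Module.finrank k (Coh.HH X S.X₂ 1)) :
    Function.Surjective (S.g.app (⊤ : X.Opens)) := fun z => by
  let φ := baseHom k X
  haveI : Module.Finite k (HA φ S.X₁ (⊤ : X.Opens) 1) := Module.Finite.equiv (HHBaseEquiv k S.X₁ 1)
  haveI : Module.Finite k (HA φ S.X₂ (⊤ : X.Opens) 1) := Module.Finite.equiv (HHBaseEquiv k S.X₂ 1)
  haveI : Subsingleton (HA φ S.X₃ (⊤ : X.Opens) 1) := (HHBaseEquiv k S.X₃ 1).symm.toEquiv.subsingleton
  have hsurj : Function.Surjective (postA φ S.f (⊤ : X.Opens) 1) := fun y =>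
    (exact_postA φ hS ⊤ 1 y).1 (Subsingleton.elim _ _)
  have hinj : Function.Injective (postA φ S.f (⊤ : X.Opens) 1) := by
    refine (LinearMap.injective_iff_surjective_of_finrank_eq_finrank ?_).2 hsurj
    rw [← (HHBaseEquiv k S.X₁ 1).finrank_eq, ← (HHBaseEquiv k S.X₂ 1).finrank_eq, hd]
  have h0 : deltaA φ hS ⊤ 0 ((secA φ S.X₃).symm z) = 0 := hinj (by
    rw [map_zero]
    exact (exact_deltaA_postA φ hS ⊤ 0 _).2 ⟨_, rfl⟩)
  obtain ⟨w, hw⟩ := (exact_postA_deltaA φ hS ⊤ 0 _).1 h0
  refine ⟨secA φ S.X₂ w, ?_⟩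
  have h2 := congrArg (secA φ S.X₃) hw
  rw [LinearEquiv.apply_symm_apply, secA_natural] at h2
  exact h2

/-- The restriction to a closed subscheme as sections of the twisted ideal sequence. -/
theorem exists_restrict {X : Scheme.{u}} (I : X.IdealSheafData) {M : X.Modules} (hM : PicF.IsInvertible M) :
    ∃ e : (twistSeq (ShortComplex.mk (ClSub.idealModι I) (ClSub.toSubscheme I) (kernel.condition _)) M).X₃ ≅
        (Scheme.Modules.pushforward I.subschemeι).obj ((Scheme.Modules.pullback I.subschemeι).obj M),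
      ∀ s : Γ(M, (⊤ : X.Opens)), e.hom.app ⊤
        ((twistSeq (ShortComplex.mk (ClSub.idealModι I) (ClSub.toSubscheme I) (kernel.condition _)) M).g.app ⊤
          (tmul (oneSec ⊤) s)) = pullSec I.subschemeι s := by
  have hMF : FlatMod.IsFinLocFree M := fun x =>
    let ⟨U, hx, e⟩ := isFinLocFreeOfRank_one hM x; ⟨U, 1, hx, e⟩
  refine ⟨AmpleLib.tensorComm _ _ ≪≫ (projIso (f := I.subschemeι) hMF).app (Coh.structureModule I.subscheme) ≪≫
    (Scheme.Modules.pushforward I.subschemeι).mapIso (AmpleLib.tensorComm _ _ ≪≫ unitTensorIso _), fun s => ?_⟩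
  let ι := I.subschemeι
  let O' := Coh.structureModule I.subscheme
  let one : Γ((Scheme.Modules.pushforward ι).obj O', (⊤ : X.Opens)) :=
    (ClSub.toSubscheme I).app ⊤ (oneSec ⊤)
  show ((Scheme.Modules.pushforward ι).map (AmpleLib.tensorComm _ _ ≪≫ unitTensorIso _).hom).app ⊤
    ((projHom ι M O').app ⊤ ((tensorSwap _ M).app ⊤
      ((tensorMap (ClSub.toSubscheme I) (𝟙 M)).app ⊤ (tmul (oneSec ⊤) s)))) = _
  rw [tensorMap_tmul]
  show ((Scheme.Modules.pushforward ι).map (AmpleLib.tensorComm _ _ ≪≫ unitTensorIso _).hom).app ⊤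
    ((projHom ι M O').app ⊤ ((tensorSwap _ M).app ⊤ (tmul one s))) = _
  rw [show (tensorSwap ((Scheme.Modules.pushforward ι).obj O') M).app ⊤ (tmul one s) = tmul s one from
    Bilin.desc_tmul _ (⊤ : X.Opens) one s, projHom_tmul]
  show (unitBilin _).desc.app (ι ⁻¹ᵁ ⊤) ((tensorSwap _ O').app (ι ⁻¹ᵁ ⊤)
    (tmul (pullSec ι s) (show Γ(O', ι ⁻¹ᵁ (⊤ : X.Opens)) from one))) = _
  rw [show (tensorSwap ((Scheme.Modules.pullback ι).obj M) O').app (ι ⁻¹ᵁ ⊤)
      (tmul (pullSec ι s) (show Γ(O', ι ⁻¹ᵁ (⊤ : X.Opens)) from one)) =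
      tmul (show Γ(O', ι ⁻¹ᵁ (⊤ : X.Opens)) from one) (pullSec ι s) from Bilin.desc_tmul _ _ _ _, Bilin.desc_tmul]
  show (ι.app ⊤ (1 : Γ(X, ⊤))) • pullSec ι s = _
  rw [map_one, one_smul]


/-- Let X be a proper scheme over a field k, D ⊆ X an effective Cartier divisor, i.e. a closed subscheme
whose quasi-coherent ideal I_D is an invertible O_X-module, and O_X(D) an invertible module with
O_X(D) ⊗ I_D ≅ O_X. If the restriction of O_X(D) to D is ample on D, then O_X(mD) = O_X(D)^{⊗m} is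
generated by its global sections for all sufficiently large m. (The source states this for proper
algebraic spaces over k; this is the case of schemes.) -/
theorem result (k : Type u) [Field k] (X : Scheme.{u})
    [X.Over (Spec (CommRingCat.of k))] [IsProper (X ↘ (Spec (CommRingCat.of k)))] (D : X.IdealSheafData)
    (hD : PicF.IsInvertible (ClSub.idealMod D)) (LD : X.Modules) (hLD : ClSub.IsInverseOf LD (ClSub.idealMod D))
    (hample : CohB1.IsAmple ((Scheme.Modules.pullback D.subschemeι).obj LD)) :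
    ∀ᶠ m : ℕ in Filter.atTop, Curv2.IsGloballyGenerated (CohB1.tensorPow LD m) := by
  haveI := EulerLib.isNoetherian_of_proper (X := X) k
  let i := D.subschemeι
  let Z : Scheme.{u} := D.subscheme
  letI oZ : Z.Over (Spec (CommRingCat.of k)) := ⟨i ≫ (X ↘ Spec (CommRingCat.of k))⟩
  haveI : IsProper (Z ↘ Spec (CommRingCat.of k)) := inferInstanceAs (IsProper (i ≫ (X ↘ Spec (CommRingCat.of k))))
  haveI := EulerLib.isNoetherian_of_proper (X := Z) k
  obtain ⟨eLD⟩ := hLD
  have hLi : PicF.IsInvertible LD :=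
    PicM.isInvertible_of_tensor hD (glocus_isInvertible_of_iso (AmpleLib.tensorComm _ _ ≪≫ eLD).symm isInvertible_structureModule)
  let L := (Scheme.Modules.pullback i).obj LD
  obtain ⟨n₀, hn₀⟩ := (S0051.result k Z (Z ↘ Spec (CommRingCat.of k)) L hample.1).1 hample _ (isCoh_structureModule Z)
  obtain ⟨n₁, hn₁⟩ := AmpleLib.eventually_globallyGenerated hample _ (isCoh_structureModule Z)
  let S : ℕ → ShortComplex X.Modules := fun m =>
    twistSeq (ShortComplex.mk (ClSub.idealModι D) (ClSub.toSubscheme D) (kernel.condition _)) (CohB1.tensorPow LD m)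
  have hLm := fun m => isInvertible_tensorPow hLi m
  have hS : ∀ m, (S m).ShortExact := fun m => twistSeq_shortExact (hLm m) (CurveRR24.shortExact_ideal D)
  choose e3 he3 using fun m => exists_restrict D (hLm m)
  have hpb : ∀ m, Nonempty ((Scheme.Modules.pullback i).obj (CohB1.tensorPow LD m) ≅ CohB1.tensorPow L m) :=
    fun m => Clifford24.nonempty_pullback_tensorPow i LD m
  have h3 : ∀ m, n₀ ≤ m → Subsingleton (Coh.HH X (S m).X₃ 1) := fun m hm => by
    obtain ⟨e⟩ := hpb m
    haveI := hn₀ m hm 1 one_pos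
    haveI : Coh.IsQCoh ((Scheme.Modules.pullback i).obj (CohB1.tensorPow LD m)) :=
      isQCoh_of_isInvertible (PicLoc.isInvertible_pullback i (hLm m))
    exact ((SerreDual.hmapIso k (e3 m) 1).trans ((SerreDual.hpushA i k rfl _ 1).symm.trans
      (SerreDual.hmapIso k (e ≪≫ (unitTensorIso _).symm) 1))).toEquiv.subsingleton
  have h1 : ∀ m, Module.finrank k (Coh.HH X (S (m + 1)).X₁ 1) = Module.finrank k (Coh.HH X (CohB1.tensorPow LD m) 1) := by
    intro m
    have hinv : PicM.of hLi * PicM.of hD = 1 := by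
      rw [PicM.of_mul hLi hD, PicM.of_eq_one_iff]
      exact ⟨eLD⟩
    obtain ⟨e⟩ := (PicM.of_eq_iff (isInvertible_tensorMod hD (hLm (m + 1))) (hLm m)).1 (by
      rw [← PicM.of_mul hD (hLm (m + 1)), PicM.of_tensorPow hLi, PicM.of_tensorPow hLi, pow_succ', ← mul_assoc,
        mul_comm (PicM.of hD), hinv, one_mul])
    exact (SerreDual.hmapIso k e 1).finrank_eq
  let b : ℕ → ℕ := fun m => Module.finrank k (Coh.HH X (CohB1.tensorPow LD m) 1)
  have hfin : ∀ {M : X.Modules}, Coh.IsCoh M → Module.Finite k (Coh.HH X M 1) :=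
    fun hM => CurveRR24.finite_HH_of_isCoh k hM 1
  have hc1 : ∀ m, Module.Finite k (Coh.HH X (S m).X₁ 1) := fun m =>
    hfin (isCoh_twist (hLm m) (CurveRR24.isCoh_idealMod' D))
  have hc2 : ∀ m, Module.Finite k (Coh.HH X (S m).X₂ 1) := fun m =>
    hfin (isCoh_twist (hLm m) (isCoh_structureModule X))
  have hb2 : ∀ m, Module.finrank k (Coh.HH X (S m).X₂ 1) = b m := fun m =>
    (SerreDual.hmapIso k (unitTensorIso (M := CohB1.tensorPow LD m)) 1).finrank_eq
  have hanti : ∀ m, n₀ ≤ m → b (m + 1) ≤ b m := fun m hm => by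
    let φ := baseHom k X
    haveI := hc1 (m + 1)
    haveI := hc2 (m + 1)
    haveI := h3 (m + 1) (by omega)
    haveI : Subsingleton (HA φ (S (m + 1)).X₃ (⊤ : X.Opens) 1) :=
      (HHBaseEquiv k (S (m + 1)).X₃ 1).symm.toEquiv.subsingleton
    haveI : Module.Finite k (HA φ (S (m + 1)).X₁ (⊤ : X.Opens) 1) := Module.Finite.equiv (HHBaseEquiv k _ 1)
    have hle := LinearMap.finrank_le_finrank_of_surjective (f := postA φ (S (m + 1)).f (⊤ : X.Opens) 1)
      (fun y => (exact_postA φ (hS (m + 1)) ⊤ 1 y).1 (Subsingleton.elim _ _))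
    rw [← (HHBaseEquiv k (S (m + 1)).X₁ 1).finrank_eq, ← (HHBaseEquiv k (S (m + 1)).X₂ 1).finrank_eq, h1, hb2] at hle
    exact hle
  obtain ⟨N, hN, hmin⟩ : ∃ N, n₀ ≤ N ∧ ∀ m, n₀ ≤ m → b N ≤ b m := by
    classical
    have hex : ∃ v, ∃ N, n₀ ≤ N ∧ b N = v := ⟨_, n₀, le_rfl, rfl⟩
    obtain ⟨N, hN, hv⟩ := Nat.find_spec hex
    exact ⟨N, hN, fun m hm => hv ▸ Nat.find_le ⟨m, hm, rfl⟩⟩
  have hle : ∀ m, N ≤ m → b m ≤ b N := fun m hm => by
    induction m, hm using Nat.le_induction with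
    | base => exact le_rfl
    | succ n hn ih => exact (hanti n (by omega)).trans ih
  refine Filter.eventually_atTop.2 ⟨N + n₁ + 1, fun m hm => ?_⟩
  obtain ⟨j, rfl⟩ : ∃ j, m = j + 1 := ⟨m - 1, by omega⟩
  have heq : b j = b (j + 1) :=
    (le_antisymm (hle j (by omega)) (hmin j (by omega))).trans
      (le_antisymm (hle (j + 1) (by omega)) (hmin (j + 1) (by omega))).symm
  haveI := hc1 (j + 1)
  haveI := hc2 (j + 1)
  have hsurj := surjective_app_top k (hS (j + 1)) (h3 (j + 1) (by omega)) (by rw [h1, hb2]; exact heq)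
  refine AbCubeLib.isGloballyGenerated_of_glocus fun x => ?_
  by_cases hx : x ∈ (D.support : Set X)
  · obtain ⟨z, rfl⟩ : x ∈ Set.range i := (Scheme.IdealSheafData.range_subschemeι D).symm ▸ hx
    obtain ⟨e⟩ := hpb (j + 1)
    obtain ⟨t, ht⟩ := NumTriv23.exists_mem_glocus_of_gg (PicLoc.isInvertible_pullback i (hLm (j + 1)))
      (AmpleLib.globallyGenerated_of_iso (unitTensorIso _ ≪≫ e.symm) (hn₁ (j + 1) (by omega))) z
    obtain ⟨y, hy⟩ := hsurj ((e3 (j + 1)).inv.app ⊤ t)
    let s : Γ(CohB1.tensorPow LD (j + 1), (⊤ : X.Opens)) := (unitTensorIso _).hom.app ⊤ y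
    refine ⟨s, ?_⟩
    have hys : (unitTensorIso (M := CohB1.tensorPow LD (j + 1))).inv.app ⊤ s = y :=
      congrArg (fun φ => φ.app (⊤ : X.Opens) y) (unitTensorIso (M := CohB1.tensorPow LD (j + 1))).hom_inv_id
    have hs : pullSec i s = t := by
      rw [← he3 (j + 1) s]
      rw [show tmul (oneSec ⊤) s = y from hys]
      exact (congrArg ((e3 (j + 1)).hom.app ⊤) hy).trans
        (congrArg (fun φ => φ.app (⊤ : X.Opens) t) (e3 (j + 1)).inv_hom_id)
    rw [← hs, glocus_pullSec i (hLm (j + 1))] at ht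
    exact ht
  · let S₁ := twistSeq (ShortComplex.mk (ClSub.idealModι D) (ClSub.toSubscheme D) (kernel.condition _)) LD
    have hS₁ : S₁.ShortExact := twistSeq_shortExact hLi (CurveRR24.shortExact_ideal D)
    let e0 : Coh.structureModule X ≅ S₁.X₁ := eLD.symm ≪≫ AmpleLib.tensorComm _ _
    let u : S₁.X₂ ≅ LD := unitTensorIso LD
    let σ : Coh.structureModule X ⟶ LD := e0.hom ≫ S₁.f ≫ u.hom
    let s0 : Γ(LD, (⊤ : X.Opens)) := σ.app ⊤ (oneSec ⊤)
    refine ⟨powSec s0 (j + 1), ?_⟩
    rw [glocus_powSec hLi s0 j]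
    refine (CurveRR24.mem_glocus_iff_germ hLi s0 x).2 fun hm => ?_
    have hsub : Subsingleton ((DerSch.stalkFunctor X x).obj S₁.X₃) := not_not.1 fun h =>
      hx (CurveRR24.support_quotMod_subset D ((support_twist hLi (ClSub.quotMod D)).subset h))
    have hbij : Function.Surjective ((DerSch.stalkFunctor X x).map σ) := fun v => by
      obtain ⟨w, hw⟩ := ((ShortComplex.ShortExact.moduleCat_exact_iff_function_exact _).1
        (hS₁.exact.map (DerSch.stalkFunctor X x)) ((DerSch.stalkFunctor X x).map u.inv v)).1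
          (@Subsingleton.elim _ hsub _ _)
      refine ⟨(DerSch.stalkFunctor X x).map e0.inv w, ?_⟩
      have h1 : (DerSch.stalkFunctor X x).map σ ((DerSch.stalkFunctor X x).map e0.inv w) =
          (DerSch.stalkFunctor X x).map u.hom ((DerSch.stalkFunctor X x).map S₁.f w) := by
        simp only [← ConcreteCategory.comp_apply, ← Functor.map_comp, σ, Iso.inv_hom_id_assoc]
      rw [h1, show (DerSch.stalkFunctor X x).map S₁.f w = _ from hw, ← ConcreteCategory.comp_apply,
        ← Functor.map_comp, Iso.inv_hom_id, CategoryTheory.Functor.map_id]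
      rfl
    have hle : (⊤ : Submodule (X.presheaf.stalk x) (LD.presheaf.stalk x)) ≤
        IsLocalRing.maximalIdeal (X.presheaf.stalk x) • ⊤ := fun v _ => by
      obtain ⟨w, rfl⟩ := hbij v
      obtain ⟨r, rfl⟩ := (EmbLib24.bijective_smul_germ (isGen_oneSec (X := X) ⊤) (trivial : x ∈ (⊤ : X.Opens))).2 w
      beta_reduce
      refine Eq.subst (motive := (· ∈ _)) (((DerSch.stalkFunctor X x).map σ).hom.map_smul r _).symm ?_
      refine Submodule.smul_mem _ r ?_
      refine Eq.subst (motive := (· ∈ _)) (stalk_map_germ σ (W := ⊤) (y := x) trivial (oneSec ⊤)).symm ?_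
      exact hm
    obtain ⟨U, hxU, g, hg⟩ := exists_isGen hLi x
    have h3 := (EmbLib24.mem_smul_top_iff _ (EmbLib24.bijective_smul_germ hg hxU) _
      (1 : X.presheaf.stalk x)).1 (hle Submodule.mem_top)
    exact (IsLocalRing.maximalIdeal.isMaximal _).ne_top ((Ideal.eq_top_iff_one _).2 h3)

end Groth.Agent.S17288
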