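import Groth.Statements.S17289
import Groth.Agent.RelVALib.Projective
import Groth.Agent.RelVALib.UPProp
import Groth.Agent.RelVALib.UPPhi
import Groth.Agent.TwistLib.G.RelTwist
import Groth.Agent.Coherent.Existence.SysKernel
import Groth.Agent.AmpleLib.Ample
import Groth.Agent.EulerLib.Degree
import Groth.Agent.Coherent.CohBC.HomSheaf
-- import your own Groth.Agent.* helpers here

set_option autoImplicit false
universe u
open CategoryTheory CategoryTheory.Limits AlgebraicGeometry TopologicalSpace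
open Variety

namespace Groth.Agent.S17289

open Groth.Agent.Coherent Groth.Agent.PicLib Groth.Agent.RelVALib

theorem congr_pullSec {Z W : Scheme.{u}} {a b : Z ⟶ W} (hab : a = b) (M : W.Modules) (U : W.Opens) (m : Γ(M, U)) :
    ((Scheme.Modules.pullbackCongr hab).hom.app M).app (a ⁻¹ᵁ U) (pullSec a m) =
      resM ((Scheme.Modules.pullback b).obj M) (le_of_eq (by rw [hab]) : a ⁻¹ᵁ U ≤ b ⁻¹ᵁ U) (pullSec b m) := by
  subst hab
  exact (resM_self _ _ _).symm

set_option maxHeartbeats 1000000 in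
/-- A surjection of modules gives a closed immersion of projective bundles respecting the tautological modules. -/
theorem exists_closedImmersion_bundle {X P Q : Scheme.{u}} {E F : X.Modules} {q : E ⟶ F} [Epi q]
    {𝒮 : RelProj.QCGrAlg X} {j : E ⟶ 𝒮.toModule} {p : P ⟶ X}
    {chart : ∀ (U : X.Opens) (hU : IsAffineOpen U), ((p ⁻¹ᵁ U : P.Opens) : Scheme.{u}) ≅ Proj (𝒮.deg U hU)}
    {O1 : P.Modules}
    {lam : ∀ (U : X.Opens) (hU : IsAffineOpen U),
      O1 ⟶ (Scheme.Modules.pushforward (RelProj.emb p chart U hU)).obj (GrTwist.twist (𝒮.deg U hU) 1)}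
    {φ : E ⟶ (Scheme.Modules.pushforward p).obj O1} (D : PBundle E 𝒮 j p chart O1 lam φ) [IsProper p]
    {𝒯 : RelProj.QCGrAlg X} {j' : F ⟶ 𝒯.toModule} {p' : Q ⟶ X}
    {chart' : ∀ (U : X.Opens) (hU : IsAffineOpen U), ((p' ⁻¹ᵁ U : Q.Opens) : Scheme.{u}) ≅ Proj (𝒯.deg U hU)}
    {O1' : Q.Modules}
    {lam' : ∀ (U : X.Opens) (hU : IsAffineOpen U),
      O1' ⟶ (Scheme.Modules.pushforward (RelProj.emb p' chart' U hU)).obj (GrTwist.twist (𝒯.deg U hU) 1)}
    {φ' : F ⟶ (Scheme.Modules.pushforward p').obj O1'} (D' : PBundle F 𝒯 j' p' chart' O1' lam' φ') [IsProper p'] :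
    ∃ h : Q ⟶ P, IsClosedImmersion h ∧ Nonempty ((Scheme.Modules.pullback h).obj O1 ≅ O1') := by
  haveI := D.hE
  haveI := D'.hE
  have hinv : PicF.IsInvertible O1' := D'.invertible
  have hcov : ∀ x : Q, ∃ (U : X.Opens) (_ : IsAffineOpen U) (e : Γ(E, U)) (W : Q.Opens)
      (hW : W ≤ p' ⁻¹ᵁ U), x ∈ W ∧ IsGen O1' W (resM O1' hW ((q ≫ φ').app U e)) := by
    intro x
    obtain ⟨k, hk⟩ := TopologicalSpace.Opens.mem_iSup.1 (D'.iSup_opn.ge (Set.mem_univ x))
    obtain ⟨e, he⟩ := Coherent.Existence.app_surjective_of_epi q k.1.2 k.2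
    refine ⟨k.1.1, k.1.2, e, _, D'.opn_le k.1.2 k.2, hk, ?_⟩
    show IsGen O1' _ (resM O1' _ (φ'.app k.1.1 (q.app k.1.1 e)))
    rw [he]
    exact D'.isGen_phi k.1.2 k.2
  obtain ⟨h, hh, τ, hτ⟩ := exists_classifies D hcov
  have hτs : ∀ (U : X.Opens), IsAffineOpen U → ∀ e : Γ(E, U),
      τ.hom.app (h ⁻¹ᵁ (p ⁻¹ᵁ U)) (pullSec h (show Γ(O1, p ⁻¹ᵁ U) from φ.app U e)) =
        resM O1' (le_of_over hh U) (φ'.app U (q.app U e)) := hτ
  haveI : IsProper h := by
    haveI : IsProper (h ≫ p) := by rw [hh]; infer_instance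
    exact IsProper.of_comp h p
  haveI : Mono h := by
    refine ⟨fun {T} a b hab => ?_⟩
    let L := (Scheme.Modules.pullback a).obj O1'
    let g : T ⟶ X := a ≫ p'
    let t : F ⟶ (Scheme.Modules.pushforward g).obj L :=
      φ' ≫ (Scheme.Modules.pushforward p').map ((Scheme.Modules.pullbackPushforwardAdjunction a).unit.app O1')
    have ht : ∀ (U : X.Opens) (f : Γ(F, U)), t.app U f = pullSec a (show Γ(O1', p' ⁻¹ᵁ U) from φ'.app U f) :=
      fun U f => rfl
    have hcovT : ∀ x : T, ∃ (U : X.Opens) (_ : IsAffineOpen U) (e : Γ(F, U)) (W : T.Opens)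
        (hW : W ≤ g ⁻¹ᵁ U), x ∈ W ∧ IsGen L W (resM L hW (t.app U e)) := by
      intro x
      obtain ⟨k, hk⟩ := TopologicalSpace.Opens.mem_iSup.1 (D'.iSup_opn.ge (Set.mem_univ (a x)))
      refine ⟨k.1.1, k.1.2, k.2, a ⁻¹ᵁ opn j' p' chart' k.1.2 k.2, fun y hy => D'.opn_le k.1.2 k.2 hy, hk, ?_⟩
      have h2 := isGen_pullSec a (D'.isGen_phi k.1.2 k.2) hinv
      erw [← resM_pullSec] at h2
      exact h2
    have hgb : b ≫ p' = g := by
      rw [← hh, reassoc_of% hab.symm]; simp [g, hh]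
    have ha : Classifies φ' g t a rfl (Iso.refl _) := fun U hU e => by
      show pullSec a _ = resM L _ (pullSec a (show Γ(O1', p' ⁻¹ᵁ U) from φ'.app U e))
      exact (resM_self _ _ _).symm
    let τb : (Scheme.Modules.pullback b).obj O1' ≅ L :=
      (Scheme.Modules.pullback b).mapIso τ.symm ≪≫ (Scheme.Modules.pullbackComp b h).app O1 ≪≫
        (Scheme.Modules.pullbackCongr hab.symm).app O1 ≪≫ ((Scheme.Modules.pullbackComp a h).app O1).symm ≪≫
        (Scheme.Modules.pullback a).mapIso τ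
    have hb : Classifies φ' g t b hgb τb := by
      intro U hU f
      obtain ⟨e, rfl⟩ := Coherent.Existence.app_surjective_of_epi q hU f
      have h0 := hτs U hU e
      set W := h ⁻¹ᵁ (p ⁻¹ᵁ U) with hWdef
      have hWle : W ≤ p' ⁻¹ᵁ U := le_of_over hh U
      have hWge : p' ⁻¹ᵁ U ≤ W := ge_of_over hh U
      let s1 : Γ(O1', p' ⁻¹ᵁ U) := φ'.app U (q.app U e)
      let m : Γ(O1, p ⁻¹ᵁ U) := φ.app U e
      have h1 : τ.inv.app W (resM O1' hWle s1) = pullSec h m := by
        rw [← h0]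
        exact congr(($(τ.hom_inv_id)).app W (pullSec h m))
      have e1 : ((Scheme.Modules.pullback b).map τ.inv).app (b ⁻¹ᵁ W) (pullSec b (resM O1' hWle s1)) =
          pullSec b (pullSec h m) := by
        rw [RelVALib.map_app_pullSec, h1]
      have e2 : ((Scheme.Modules.pullbackComp b h).hom.app O1).app (b ⁻¹ᵁ W) (pullSec b (pullSec h m)) =
          pullSec (b ≫ h) m := by
        rw [← pullbackComp_inv_app_pullSec]
        exact congr(($((Scheme.Modules.pullbackComp b h).inv_hom_id_app O1)).app (b ⁻¹ᵁ W) (pullSec (b ≫ h) m))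
      have hle : b ⁻¹ᵁ W ≤ a ⁻¹ᵁ W := le_of_eq (by
        show (b ≫ h) ⁻¹ᵁ (p ⁻¹ᵁ U) = (a ≫ h) ⁻¹ᵁ (p ⁻¹ᵁ U); rw [hab])
      have e3 : ((Scheme.Modules.pullbackCongr hab.symm).hom.app O1).app (b ⁻¹ᵁ W) (pullSec (b ≫ h) m) =
          resM _ hle (pullSec (a ≫ h) m) := congr_pullSec hab.symm O1 (p ⁻¹ᵁ U) m
      have e4 : ((Scheme.Modules.pullbackComp a h).inv.app O1).app (b ⁻¹ᵁ W) (resM _ hle (pullSec (a ≫ h) m)) =
          resM _ hle (pullSec a (pullSec h m)) := by
        refine (app_resM _ _ _).trans ?_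
        exact congrArg _ (pullbackComp_inv_app_pullSec a h O1 (p ⁻¹ᵁ U) m)
      have e5 : ((Scheme.Modules.pullback a).map τ.hom).app (b ⁻¹ᵁ W) (resM _ hle (pullSec a (pullSec h m))) =
          resM L hle (pullSec a (resM O1' hWle s1)) := by
        rw [app_resM, RelVALib.map_app_pullSec, h0]
      have hc : τb.hom.app (b ⁻¹ᵁ W) (pullSec b (resM O1' hWle s1)) = resM L hle (pullSec a (resM O1' hWle s1)) := by
        show ((Scheme.Modules.pullback a).map τ.hom).app _
          (((Scheme.Modules.pullbackComp a h).inv.app O1).app _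
            (((Scheme.Modules.pullbackCongr hab.symm).hom.app O1).app _
              (((Scheme.Modules.pullbackComp b h).hom.app O1).app _
                (((Scheme.Modules.pullback b).map τ.inv).app _ (pullSec b (resM O1' hWle s1)))))) = _
        rw [e1, e2, e3, e4, e5]
      have hbW : b ⁻¹ᵁ (p' ⁻¹ᵁ U) ≤ b ⁻¹ᵁ W := fun y hy => hWge hy
      have hc' := congrArg (resM L hbW) hc
      rw [← app_resM, ← resM_pullSec _ hWle, ← resM_pullSec _ hWle] at hc'
      erw [resM_resM, resM_self] at hc'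
      refine hc'.trans ?_
      exact (congrArg (resM L hbW) (resM_resM L _ hle _)).trans (resM_resM L _ hbW _)
    exact (eq_of_classifies D' hcovT ha hb)
  exact ⟨h, (IsClosedImmersion.iff_isProper_and_mono h).2 ⟨inferInstance, inferInstance⟩, ⟨τ⟩⟩

open CategoryTheory
/-- Suppose X is a proper scheme over a field k, and E, F are finite locally free O_X-modules with E → F
surjective. Assume E is ample, meaning that the fundamental module O(1) of the projective bundle
P(E) = Proj(Sym E) → X is ample (for any relative-Proj data of the graded symmetric algebra of E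
with its O(1)); then F is ample in the same sense. (The source states this for proper algebraic
spaces over k, together with the analogous assertion for nef modules; this is the ample assertion in
the case of schemes.) -/
theorem result (k : Type u) [Field k] (X : Scheme.{u})
    [X.Over (Spec (CommRingCat.of k))] [IsProper (X ↘ (Spec (CommRingCat.of k)))] (E F : X.Modules)
    (hE : FlatMod.IsFinLocFree E) (hF : FlatMod.IsFinLocFree F) (φ : E ⟶ F) [Epi φ]
    (hample : ∀ (𝒮 : RelProj.QCGrAlg X) (j : E ⟶ 𝒮.toModule) (P : Scheme.{u}) (p : P ⟶ X)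
        (chart : ∀ (U : X.Opens) (hU : IsAffineOpen U),
          (((p ⁻¹ᵁ U : P.Opens) : Scheme.{u}) ≅ Proj (𝒮.deg U hU)))
        (O1 : P.Modules)
        (lam : ∀ (U : X.Opens) (hU : IsAffineOpen U),
          O1 ⟶ (Scheme.Modules.pushforward (RelProj.emb p chart U hU)).obj (GrTwist.twist (𝒮.deg U hU) 1)),
        RelProj.IsGrSymAlg E 𝒮 j → RelProj.IsRelProj 𝒮 p chart → RelProj.IsRelTwist 𝒮 p chart 1 O1 lam →
        CohB1.IsAmple O1) :
    ∀ (𝒮 : RelProj.QCGrAlg X) (j : F ⟶ 𝒮.toModule) (P : Scheme.{u}) (p : P ⟶ X)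
      (chart : ∀ (U : X.Opens) (hU : IsAffineOpen U),
        (((p ⁻¹ᵁ U : P.Opens) : Scheme.{u}) ≅ Proj (𝒮.deg U hU)))
      (O1 : P.Modules)
      (lam : ∀ (U : X.Opens) (hU : IsAffineOpen U),
        O1 ⟶ (Scheme.Modules.pushforward (RelProj.emb p chart U hU)).obj (GrTwist.twist (𝒮.deg U hU) 1)),
      RelProj.IsGrSymAlg F 𝒮 j → RelProj.IsRelProj 𝒮 p chart → RelProj.IsRelTwist 𝒮 p chart 1 O1 lam →
      CohB1.IsAmple O1 := by
  intro 𝒯 j' Q p' chart' O1' lam' hj' hP' hO1'
  haveI : IsNoetherian X := EulerLib.isNoetherian_of_proper (X := X) k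
  have hEc := Coherent.CohBC.isCoh_of_isFinLocFree hE
  have hFc := Coherent.CohBC.isCoh_of_isFinLocFree hF
  haveI := hEc.1
  haveI := hFc.1
  let 𝒮 := SymAlgLib.symGrAlg E
  obtain ⟨P, p, chart, hP⟩ := ProjLib.exists_isRelProj (𝒮 := 𝒮)
  obtain ⟨O1, lam, hO1⟩ := TwistLib.G.exists_isRelTwist (n := 1) hP
  have hj := SymAlgLib.isGrSymAlg_symGrAlg E
  haveI := RelVALib.isProper_bundle hEc.1 hEc.2 hj hP
  haveI := RelVALib.isProper_bundle hFc.1 hFc.2 hj' hP'
  obtain ⟨f, D⟩ := RelVALib.exists_pBundle hEc.1 hj hP hO1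
  obtain ⟨f', D'⟩ := RelVALib.exists_pBundle hFc.1 hj' hP' hO1'
  obtain ⟨h, hh, ⟨e⟩⟩ := exists_closedImmersion_bundle (q := φ) D D'
  haveI := hh
  exact AmpleLib.isAmple_of_iso e
    (AmpleLib.isAmple_pullback_of_isAffineHom h (hample 𝒮 _ P p chart O1 lam hj hP hO1))

end Groth.Agent.S17289
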