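import Groth.Statements.S1729

set_option autoImplicit false
universe u
open Dual2

namespace Groth.Agent.S1729

/-- Over a local ring, every finite module M admits a projective cover: a surjection from a projective
module P onto M such that no proper submodule of P maps onto M. -/
theorem result (R : Type u) [CommRing R] [IsLocalRing R] (M : Type u) [AddCommGroup M] [Module R M] [Module.Finite R M] : ∃ (P : Type u) (_ : AddCommGroup P) (_ : Module R P) (f : P →ₗ[R] M), Dual2.IsProjectiveCover f := by
  classical
  let κ := IsLocalRing.ResidueField R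
  let q : M →ₗ[R] (M ⧸ IsLocalRing.maximalIdeal R • (⊤ : Submodule R M)) := Submodule.mkQ _
  obtain ⟨n, s, hs, hmin⟩ : ∃ (n : ℕ) (s : Fin n → M), Submodule.span R (Set.range s) = ⊤ ∧
      ∀ (m : ℕ) (t : Fin m → M), Submodule.span R (Set.range t) = ⊤ → n ≤ m := by
    have h : ∃ n : ℕ, ∃ s : Fin n → M, Submodule.span R (Set.range s) = ⊤ := Module.Finite.exists_fin (R := R) (M := M)
    obtain ⟨s, hs⟩ := Nat.find_spec h
    exact ⟨Nat.find h, s, hs, fun m t ht => Nat.find_min' h ⟨t, ht⟩⟩
  let f : (Fin n → R) →ₗ[R] M := Fintype.linearCombination R s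
  have hf : Function.Surjective f := LinearMap.range_eq_top.1 (by rw [Fintype.range_linearCombination, hs])
  refine ⟨Fin n → R, inferInstance, inferInstance, f, inferInstance, hf, fun N hN => ?_⟩
  have hker : LinearMap.ker f ≤ IsLocalRing.maximalIdeal R • (⊤ : Submodule R (Fin n → R)) := by
    intro v hv
    have hcoord : ∀ i, v i ∈ IsLocalRing.maximalIdeal R := by
      intro i
      by_contra hi
      obtain ⟨m, rfl⟩ : ∃ m, n = m + 1 := ⟨n - 1, by have := i.2; omega⟩
      have hu : IsUnit (v i) := by simpa using hi
      have h1 : ∑ j, v j • s j = 0 := by simpa [f, Fintype.linearCombination_apply] using hv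
      rw [Fin.sum_univ_succAbove _ i] at h1
      let t : Fin m → M := fun j => s (i.succAbove j)
      have hsi : s i ∈ Submodule.span R (Set.range t) := by
        obtain ⟨u, hu'⟩ := hu
        rw [add_eq_zero_iff_eq_neg, ← hu'] at h1
        have h2 : s i = (↑u⁻¹ : R) • -∑ j, v (i.succAbove j) • t j := by
          rw [← h1, smul_smul, Units.inv_mul, one_smul]
        rw [h2]
        exact Submodule.smul_mem _ _ (Submodule.neg_mem _ (Submodule.sum_mem _ fun j _ =>
          Submodule.smul_mem _ _ (Submodule.subset_span ⟨j, rfl⟩)))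
      have ht : Submodule.span R (Set.range t) = ⊤ := top_unique (hs.ge.trans (Submodule.span_le.2 (by
        rintro _ ⟨j, rfl⟩
        rcases Fin.eq_self_or_eq_succAbove i j with rfl | ⟨j, rfl⟩
        · exact hsi
        · exact Submodule.subset_span ⟨j, rfl⟩)))
      have := hmin m t ht
      omega
    rw [pi_eq_sum_univ v]
    exact Submodule.sum_mem _ fun i _ => Submodule.smul_mem_smul (hcoord i) Submodule.mem_top
  refine top_unique (Submodule.le_of_le_smul_of_le_jacobson_bot (I := IsLocalRing.maximalIdeal R)
    (Module.Finite.fg_top) (IsLocalRing.maximalIdeal_le_jacobson ⊥) ?_)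
  intro v _
  obtain ⟨w, hw, hwv⟩ : f v ∈ Submodule.map f N := hN ▸ Submodule.mem_top
  rw [show v = w + (v - w) by abel]
  exact Submodule.add_mem_sup hw (hker (by rw [LinearMap.mem_ker, map_sub, hwv, sub_self]))

end Groth.Agent.S1729
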