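import Groth.Statements.S17290
import Groth.Agent.CurveNef3.Basic
import Groth.Agent.CycLib28.PB.OfRelProj
import Groth.Agent.RelVALib.Projective
import Groth.Agent.TwistLib.G.RelTwist
import Groth.Agent.Coherent.CohBC.HomSheaf
import Groth.Agent.FlatMorAdm.LocFreeApps
import Groth.Agent.VarietyLib.NakaiCurves
import Groth.Agent.PicLib.FiniteSetTriv
import Groth.Agent.CycLib28.PB.SubBundle
import Groth.Agent.VarietyLib.NefDescent
-- import your own Groth.Agent.* helpers here

set_option autoImplicit false
universe u
open CategoryTheory CategoryTheory.Limits AlgebraicGeometry TopologicalSpace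
open Variety

namespace Groth.Agent.S17290

open Groth.Agent.EulerLib Groth.Agent.AssSch12 Groth.Agent.DimLib Groth.Agent.VarietyLib

/-- An integral closed subscheme with one-dimensional support has euler difference that of the closure of a point. -/
theorem quotMod_eq {P : Scheme.{u}} (C : P.IdealSheafData) [IsIntegral C.subscheme] :
    ClSub.quotMod C = clM (C.subschemeι (genericPoint C.subscheme)) :=
  congrArg ClSub.quotMod (VarietyLib.eq_clI_of_isIntegral C)


/-- Curve tests on a module are the Euler tests of `O(1)` on a projective bundle of the module. -/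
theorem curveNef_iff_euler (k : Type u) [Field k] {X P : Scheme.{u}}
    [X.Over (Spec (CommRingCat.of k))] [IsProper (X ↘ (Spec (CommRingCat.of k)))]
    [P.Over (Spec (CommRingCat.of k))] [IsProper (P ↘ (Spec (CommRingCat.of k)))]
    {E : X.Modules} {p : P ⟶ X} (hp : p ≫ (X ↘ Spec (CommRingCat.of k)) = P ↘ Spec (CommRingCat.of k))
    {O1 : P.Modules} {qP : (Scheme.Modules.pullback p).obj E ⟶ O1} (hB : KRR.IsProjBundle p E O1 qP) :
    (∀ (C : Scheme.{u}) [C.Over (Spec (CommRingCat.of k))] [IsProper (C ↘ (Spec (CommRingCat.of k)))] [IsIntegral C],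
      topologicalKrullDim C = 1 → (∀ x : C, IsRegularLocalRing (C.presheaf.stalk x)) →
      ∀ (f : C ⟶ X), f ≫ (X ↘ (Spec (CommRingCat.of k))) = C ↘ (Spec (CommRingCat.of k)) →
      ∀ (M : C.Modules), PicF.IsInvertible M →
      ∀ (q : (Scheme.Modules.pullback f).obj E ⟶ M), Epi q → 0 ≤ Curv2.deg k C M 1) ↔
    (∀ C : P.IdealSheafData, IsIntegral C.subscheme → topologicalKrullDim (C.support : Set P) = 1 →
      0 ≤ Curv2.euler k P (CohB1.tensorMod (ClSub.quotMod C) O1) - Curv2.euler k P (ClSub.quotMod C)) := by
  haveI := EulerLib.isNoetherian_of_proper k (X := P)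
  have hinv := KRRPBLib.isInvertible_of_rankOne hB.invertible
  constructor
  · intro hcurve C hC hCdim
    haveI := hC
    let z := C.subschemeι (genericPoint C.subscheme)
    have hz : topologicalKrullDim (closure ({z} : Set P)) = ((1 : ℕ) : WithBot ℕ∞) := by
      rw [Nat.cast_one, ← hCdim]
      conv_rhs => rw [VarietyLib.eq_clI_of_isIntegral C]
      rw [VarietyLib.support_clI]
    obtain ⟨D, _, _, _, ν, hD, hreg, hν, hνz⟩ := CurveNef3.exists_regular_curve k P z hz
    obtain ⟨r, hr, hdeg⟩ := CurveNef3.deg_pullback k hD ν hν (by rw [hνz]; exact hz) hinv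
    haveI := hB.epi
    obtain ⟨q₁, hq₁⟩ := CurveNef3.exists_epi_comp ν p E qP
    have h := hcurve D hD hreg (ν ≫ p) (by rw [Category.assoc, hp, hν]) _
      (PicLoc.isInvertible_pullback ν hinv) q₁ hq₁
    rw [hdeg, hνz] at h
    rw [quotMod_eq C]
    exact (mul_nonneg_iff_of_pos_left hr).1 h
  · intro hnef C _ _ _ hdim hreg f hf M hM q hq
    obtain ⟨h, ⟨hg, e, -⟩, -⟩ := hB.univ C f M (PicLib.isFinLocFreeOfRank_one hM) q hq
    have hh : h ≫ (P ↘ Spec (CommRingCat.of k)) = C ↘ Spec (CommRingCat.of k) := by
      rw [← hp, ← Category.assoc, hg, hf]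
    let z := h (genericPoint C)
    have hpd : ptDim (P ↘ Spec (CommRingCat.of k)) z ≤ 1 := by
      haveI : LocallyOfFiniteType (h ≫ (P ↘ Spec (CommRingCat.of k))) := by rw [hh]; infer_instance
      have h1 := CurveNef3.closure_genericPoint_dim (C := C)
      rw [dim_closure_eq_ptDim k, hdim, ← Nat.cast_one (R := WithBot ℕ∞)] at h1
      have e1 : ptDim (C ↘ Spec (CommRingCat.of k)) (genericPoint C) = 1 := by exact_mod_cast h1
      have h2 := ptDim_apply_le (P ↘ Spec (CommRingCat.of k)) h (genericPoint C)
      rw [hh, e1] at h2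
      exact h2
    have key : Curv2.deg k C ((Scheme.Modules.pullback h).obj O1) 1 =
        (h.residueDegree (genericPoint C) : ℤ) * (Curv2.euler k P (CohB1.tensorMod (clM z) O1) -
          Curv2.euler k P (clM z)) := by
      have h' := interDeg_pull k h hh (d := 1) (by rw [hdim, Nat.cast_one]) (fun _ => InvCl.mk O1 hinv)
      rw [interDeg_one_eq k hinv] at h'
      rw [← h']
      refine Eq.trans ?_ (interDeg_one_eq k (PicLoc.isInvertible_pullback h hinv) (Coh.structureModule C)).symm
      rw [← degFun_structure k ((Scheme.Modules.pullback h).obj O1), degFun, Nat.cast_one, one_mul]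
    have hM' : Curv2.deg k C M 1 = Curv2.deg k C ((Scheme.Modules.pullback h).obj O1) 1 := by
      simp only [Curv2.deg]
      rw [euler_congr k C e]
    rw [hM', key]
    refine mul_nonneg (Int.natCast_nonneg _) ?_
    rcases Nat.le_one_iff_eq_zero_or_eq_one.1 hpd with h0 | h1
    · have hF := Coherent.isCoh_clM (y := z)
      have hd : topologicalKrullDim (CohB1.support (clM z)) = ((0 : ℕ) : WithBot ℕ∞) := by
        rw [EulerLib.support_clM, dim_closure_eq_ptDim k, h0]
      rw [← interDeg_one_eq k hinv (clM z)]
      exact (interDeg_eq_zero _ (clDeg_chiCl k hF hd.le)).ge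
    · have hz : topologicalKrullDim (closure ({z} : Set P)) = 1 := by
        rw [dim_closure_eq_ptDim k, h1, Nat.cast_one]
      exact hnef (clI z) (isIntegral_clI z) (by rw [support_clI]; exact hz)

open Groth.Agent.EulerLib Groth.Agent.AssSch12 Groth.Agent.DimLib Groth.Agent.VarietyLib
/-- Scheme case, curve-test form of nefness: let X be a proper scheme over a field k, E a finite locally
free O_X-module, k'/k a field extension, X' = X ×_k Spec k' and E' the pullback of E to X'. Then E
is nef over k in the curve-test sense (for every regular projective curve C over k — integral,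
proper over k, of dimension one, all local rings regular — every k-morphism f : C → X and every
invertible quotient f^*E → M, deg M = χ(M) - χ(O_C) ≥ 0) if and only if E' is nef over k' in the
same sense (test curves being regular projective curves over k' with k'-morphisms to X'). (The
published statement asserts that E is nef if and only if its pullback is nef for every field
extension k' of k, and its converse is the case k' = k; this row states the equivalence for one
given extension k', so its converse, that nefness over k' implies nefness over k, is stronger than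
the published one. The source states this for proper algebraic spaces with nefness of O(1) on P(E);
on proper schemes the two senses of nef agree by the Barton–Kleiman criterion.) -/
theorem result (k : Type u) [Field k] (X : Scheme.{u})
    [X.Over (Spec (CommRingCat.of k))] [IsProper (X ↘ (Spec (CommRingCat.of k)))] (E : X.Modules) (hE : FlatMod.IsFinLocFree E)
    (k' : Type u) [Field k'] [Algebra k k'] :
    (∀ (C : Scheme.{u}) [C.Over (Spec (CommRingCat.of k))] [IsProper (C ↘ (Spec (CommRingCat.of k)))] [IsIntegral C],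
      topologicalKrullDim C = 1 → (∀ x : C, IsRegularLocalRing (C.presheaf.stalk x)) →
      ∀ (f : C ⟶ X), f ≫ (X ↘ (Spec (CommRingCat.of k))) = C ↘ (Spec (CommRingCat.of k)) →
      ∀ (M : C.Modules), PicF.IsInvertible M →
      ∀ (q : (Scheme.Modules.pullback f).obj E ⟶ M), Epi q → 0 ≤ Curv2.deg k C M 1) ↔
    (∀ (C' : Scheme.{u}) [C'.Over (Spec (CommRingCat.of k'))] [IsProper (C' ↘ (Spec (CommRingCat.of k')))] [IsIntegral C'],
      topologicalKrullDim C' = 1 → (∀ x : C', IsRegularLocalRing (C'.presheaf.stalk x)) →
      ∀ (g : C' ⟶ (Curv2.bc k X k')), g ≫ Curv2.bcSnd k X k' = C' ↘ (Spec (CommRingCat.of k')) →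
      ∀ (M : C'.Modules), PicF.IsInvertible M →
      ∀ (q : (Scheme.Modules.pullback g).obj ((Scheme.Modules.pullback (Curv2.bcFst k X k')).obj E) ⟶ M), Epi q → 0 ≤ Curv2.deg k' C' M 1) := by
  haveI := EulerLib.isNoetherian_of_proper k (X := X)
  have hEc := Coherent.CohBC.isCoh_of_isFinLocFree hE
  haveI := hEc.1
  obtain ⟨P, p, chart, hP⟩ := ProjLib.exists_isRelProj (𝒮 := SymAlgLib.symGrAlg E)
  obtain ⟨O1, lam, hO1⟩ := TwistLib.G.exists_isRelTwist (n := 1) hP
  have hj := SymAlgLib.isGrSymAlg_symGrAlg E
  haveI := RelVALib.isProper_bundle hEc.1 hEc.2 hj hP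
  obtain ⟨qP, hB⟩ := CycLib28.PB.exists_isProjBundle hEc.1 hj hP hO1
  letI : P.Over (Spec (CommRingCat.of k)) := ⟨p ≫ (X ↘ Spec (CommRingCat.of k))⟩
  haveI : IsProper (P ↘ Spec (CommRingCat.of k)) :=
    inferInstanceAs (IsProper (p ≫ (X ↘ Spec (CommRingCat.of k))))
  letI := NumTriv23.overBC k k' (X := X)
  letI := NumTriv23.overBC k k' (X := P)
  let p' : Curv2.bc k P k' ⟶ Curv2.bc k X k' :=
    (isPullback_bc k X k').lift (Curv2.bcFst k P k' ≫ p) (Curv2.bcSnd k P k')
      (by rw [Category.assoc]; exact (isPullback_bc k P k').w)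
  have h1 : p' ≫ Curv2.bcFst k X k' = Curv2.bcFst k P k' ≫ p := (isPullback_bc k X k').lift_fst _ _ _
  have h2 : p' ≫ Curv2.bcSnd k X k' = Curv2.bcSnd k P k' := (isPullback_bc k X k').lift_snd _ _ _
  have sq : IsPullback (Curv2.bcFst k P k') p' p (Curv2.bcFst k X k') :=
    IsPullback.of_bot (by rw [h2]; exact isPullback_bc k P k') h1.symm (isPullback_bc k X k')
  have hB' := CycLib28.PB.isProjBundle_baseChange qP hB sq
  have hinv := KRRPBLib.isInvertible_of_rankOne hB.invertible
  refine Iff.trans (curveNef_iff_euler k (X := X) (P := P) rfl hB)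
    ((euler_nef_bc_iff k k' hinv).trans ?_)
  exact (curveNef_iff_euler k' (X := Curv2.bc k X k') (P := Curv2.bc k P k') h2 hB').symm

end Groth.Agent.S17290
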