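import Groth.Statements.S17292
import Groth.Agent.CycLib28.PB.SubBundle
import Groth.Agent.CycLib28.PB.OfRelProj
import Groth.Agent.RelVALib.Projective
import Groth.Agent.TwistLib.G.RelTwist
import Groth.Agent.Coherent.Serre.SpreadAmple
import Groth.Agent.Coherent.Serre.AtPoint
import Groth.Agent.AmpleLib.Relative
import Groth.Agent.Coherent.CohBC.HomSheaf
import Groth.Agent.FlatMorAdm.LocFreeApps
-- import your own Groth.Agent.* helpers here

set_option autoImplicit false
universe u
open CategoryTheory CategoryTheory.Limits AlgebraicGeometry TopologicalSpace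
open Variety

namespace Groth.Agent.S17292

open Groth.Agent.CycLib28.PB in
/-- Two projective bundles of a module are isomorphic compatibly with `O(1)`. -/
theorem exists_bundle_iso' {X P P' : Scheme.{u}} {E : X.Modules} {p : P ⟶ X} {O1 : P.Modules}
    {q : (Scheme.Modules.pullback p).obj E ⟶ O1} (hP : KRR.IsProjBundle p E O1 q) {p' : P' ⟶ X} {O1' : P'.Modules}
    {q' : (Scheme.Modules.pullback p').obj E ⟶ O1'} (hP' : KRR.IsProjBundle p' E O1' q') :
    ∃ (g : P' ⟶ P), IsIso g ∧ g ≫ p = p' ∧ Nonempty ((Scheme.Modules.pullback g).obj O1 ≅ O1') := by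
  have key : ∀ {A B : Scheme.{u}} {a : A ⟶ X} {OA : A.Modules} {qa : (Scheme.Modules.pullback a).obj E ⟶ OA}
      {b : B ⟶ X} {OB : B.Modules} {qb : (Scheme.Modules.pullback b).obj E ⟶ OB},
      KRR.IsProjBundle a E OA qa → KRR.IsProjBundle b E OB qb → ∀ (f : A ⟶ B) (g : B ⟶ A) (hf : f ≫ b = a)
        (hg : g ≫ a = b) (ef : (Scheme.Modules.pullback f).obj OB ≅ OA)
        (eg : (Scheme.Modules.pullback g).obj OA ≅ OB),
      (Scheme.Modules.pullbackCongr hf).inv.app E ≫ (Scheme.Modules.pullbackComp f b).inv.app E ≫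
        (Scheme.Modules.pullback f).map qb ≫ ef.hom = qa →
      (Scheme.Modules.pullbackCongr hg).inv.app E ≫ (Scheme.Modules.pullbackComp g a).inv.app E ≫
        (Scheme.Modules.pullback g).map qa ≫ eg.hom = qb → f ≫ g = 𝟙 A := by
    intro A B a OA qa b OB qb hA hB f g hf hg ef eg hqa hqb
    obtain ⟨r, -, huniq⟩ := hA.univ A a OA hA.invertible qa hA.epi
    subst hg
    refine (huniq (f ≫ g) ⟨(Category.assoc f g a).trans hf,
      ((Scheme.Modules.pullbackComp f g).app OA).symm ≪≫ (Scheme.Modules.pullback f).mapIso eg ≪≫ ef, ?_⟩).trans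
      (huniq (𝟙 A) ⟨Category.id_comp a, (Scheme.Modules.pullbackId A).app OA, ?_⟩).symm
    · have hc := compat_pullback (b := 𝟙 E) (q := qa) (q' := qb) (ι := g) (e := eg) (p := a) (by
        simp [Scheme.Modules.pullbackCongr] at hqb
        rw [CategoryTheory.Functor.map_id, Category.id_comp]
        exact hqb) f
      rw [CategoryTheory.Functor.map_id, Category.id_comp] at hc
      have hcc : (Scheme.Modules.pullbackCongr ((Category.assoc f g a).trans hf)).inv.app E =
          (Scheme.Modules.pullbackCongr hf).inv.app E ≫ (Scheme.Modules.pullbackCongr (Category.assoc f g a)).inv.app E := by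
        rw [pullbackCongr_inv_app, pullbackCongr_inv_app, pullbackCongr_inv_app, pullbackCongr_trans_app]
      simp only [Iso.trans_hom, Iso.symm_hom, Iso.app_inv, Functor.mapIso_hom]
      rw [hcc, Category.assoc, ← reassoc_of% hc]
      exact hqa
    · have hnat := (Scheme.Modules.pullbackId A).hom.naturality qa
      simp only [Iso.app_hom]
      rw [hnat, ← Category.assoc ((Scheme.Modules.pullbackComp (𝟙 A) a).inv.app E)]
      have H := congrArg (fun η => NatTrans.app η E) (Scheme.Modules.pseudofunctor_right_unitality a)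
      simp only [NatTrans.comp_app, Functor.whiskerLeft_app, Functor.rightUnitor_hom_app, Category.comp_id,
        eqToHom_app] at H
      erw [Category.comp_id] at H
      rw [H]
      simp [Scheme.Modules.pullbackCongr, eqToIso.inv, eqToHom_app]
  haveI := hP.epi
  haveI := hP'.epi
  obtain ⟨g, ⟨hg, e, he⟩, -⟩ := hP.univ P' p' O1' hP'.invertible q' hP'.epi
  obtain ⟨g', ⟨hg', e', he'⟩, -⟩ := hP'.univ P p O1 hP.invertible q hP.epi
  exact ⟨g, ⟨g', key hP' hP g g' hg hg' e e' he he', key hP hP' g' g hg' hg e' e he' he⟩, hg, ⟨e⟩⟩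

open Groth.Agent.Coherent Groth.Agent.AmpleLib in
/-- The points with ample fibre form an open set. -/
theorem isOpen_fibre_ample {P Y : Scheme.{u}} (g : P ⟶ Y) [IsProper g] [IsLocallyNoetherian Y] (L : P.Modules)
    (hL : PicF.IsInvertible L) :
    IsOpen {y : Y | CohB1.IsAmple ((Scheme.Modules.pullback (g.fiberι y)).obj L)} := by
  refine isOpen_iff_forall_mem_open.2 fun y hy => ?_
  obtain ⟨V₀, hV, hyV, -⟩ :=
    TopologicalSpace.Opens.isBasis_iff_nbhd.1 Y.isBasis_affineOpens (TopologicalSpace.Opens.mem_top y)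
  let V : Y.Opens := V₀
  have hV : IsAffineOpen V := hV
  let X' : Scheme.{u} := g ⁻¹ᵁ V
  let q' : X' ⟶ Spec Γ(Y, V) := g ∣_ V ≫ hV.isoSpec.hom
  letI : X'.Over (Spec (CommRingCat.of Γ(Y, V))) := ⟨q'⟩
  haveI : IsProper (g ∣_ V) := MorphismProperty.of_isPullback (isPullback_morphismRestrict g V).flip inferInstance
  haveI : IsProper (X' ↘ Spec (CommRingCat.of Γ(Y, V))) :=
    inferInstanceAs (IsProper (g ∣_ V ≫ hV.isoSpec.hom))
  haveI : IsNoetherianRing Γ(Y, V) := IsLocallyNoetherian.component_noetherian ⟨V, hV⟩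
  let p₀ := hV.primeIdealOf ⟨y, hyV⟩
  letI : Algebra Γ(Y, V) (Y.presheaf.stalk y) := (Y.presheaf.germ V y hyV).hom.toAlgebra
  haveI : IsLocalization p₀.asIdeal.primeCompl (Y.presheaf.stalk y) := hV.isLocalization_stalk ⟨y, hyV⟩
  let ι : X' ⟶ P := (g ⁻¹ᵁ V).ι
  have hqfrom : q' ≫ hV.fromSpec = ι ≫ g := by
    show (g ∣_ V ≫ hV.isoSpec.hom) ≫ hV.fromSpec = (g ⁻¹ᵁ V).ι ≫ g
    rw [Category.assoc, IsAffineOpen.isoSpec_hom_fromSpec, morphismRestrict_ι]
  have hsq : IsPullback ι q' g hV.fromSpec :=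
    (isPullback_morphismRestrict g V).flip.of_iso (Iso.refl _) (Iso.refl _) hV.isoSpec (Iso.refl _)
      (by simp [ι]) (by simp [q']) (by simp) (by simp)
  have hfs : Spec.map (Y.presheaf.germ V y hyV) ≫ hV.fromSpec = Y.fromSpecStalk y :=
    (hV.fromSpecStalk_eq_fromSpecStalk hyV)
  have hr : Set.range (Serre.atPointι g y) ⊆ Set.range ι := by
    rintro _ ⟨z, rfl⟩
    rw [show Set.range ι = ((g ⁻¹ᵁ V : P.Opens) : Set P) from Scheme.Opens.range_ι _]
    show g (Serre.atPointι g y z) ∈ V
    have hw := congrArg (fun φ => φ z) (Serre.isPullback_atPoint g y).w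
    simp only [Scheme.Hom.comp_apply] at hw
    rw [hw, ← hfs, Scheme.Hom.comp_apply]
    exact hV.range_fromSpec.le ⟨_, rfl⟩
  let g'' : Serre.atPoint g y ⟶ X' := IsOpenImmersion.lift ι (Serre.atPointι g y) hr
  have hg'' : g'' ≫ ι = Serre.atPointι g y := IsOpenImmersion.lift_fac _ _ hr
  have hsq' : IsPullback g'' (Serre.atPoint g y ↘ Spec (CommRingCat.of (Y.presheaf.stalk y)))
      (X' ↘ Spec (CommRingCat.of Γ(Y, V))) (Spec.map (CommRingCat.ofHom (algebraMap Γ(Y, V) (Y.presheaf.stalk y)))) := by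
    refine IsPullback.of_right ?_ ?_ hsq
    · rw [hg'', show Spec.map (CommRingCat.ofHom (algebraMap Γ(Y, V) (Y.presheaf.stalk y))) ≫ hV.fromSpec =
        Y.fromSpecStalk y from hfs]
      exact Serre.isPullback_atPoint g y
    · rw [← cancel_mono hV.fromSpec]
      show (g'' ≫ q') ≫ hV.fromSpec = _
      rw [Category.assoc, hqfrom, ← Category.assoc, hg'', (Serre.isPullback_atPoint g y).w, Category.assoc]
      exact congrArg _ hfs.symm
  have hL' := PicLoc.isInvertible_pullback ι hL
  have hA : CohB1.IsAmple ((Scheme.Modules.pullback g'').obj ((Scheme.Modules.pullback ι).obj L)) :=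
    (isAmple_pullback_comp_iff g'' ι).2 (isAmple_pullback_congr hg''.symm (Serre.isAmple_atPoint g y hL hy))
  obtain ⟨s, hs, hamp⟩ := Serre.exists_isAmple_basicOpen p₀ hsq' hL' hA
  refine ⟨Y.basicOpen s, fun y' hy' => ?_, (Y.basicOpen s).2, ?_⟩
  · show CohB1.IsAmple _
    have hyV' : y' ∈ V := Y.basicOpen_le s hy'
    have hr' : Set.range (g.fiberι y') ⊆ Set.range ι := by
      rw [Scheme.Hom.range_fiberι, show Set.range ι = ((g ⁻¹ᵁ V : P.Opens) : Set P) from Scheme.Opens.range_ι _]
      rintro z rfl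
      exact hyV'
    let σ : g.fiber y' ⟶ X' := IsOpenImmersion.lift ι (g.fiberι y') hr'
    have hσ : σ ≫ ι = g.fiberι y' := IsOpenImmersion.lift_fac _ _ hr'
    haveI : CompactSpace ↥(g.fiber y') := QuasiCompact.compactSpace_of_compactSpace (g.fiberToSpecResidueField y')
    refine isAmple_pullback_congr hσ ((isAmple_pullback_comp_iff σ ι).1 ?_)
    refine isAmple_pullback_of_range_subset σ ?_ _ ?_ hamp
    · refine Topology.IsEmbedding.of_comp σ.base.hom.continuous ι.base.hom.continuous ?_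
      have h := (g.fiberι y').isEmbedding
      rw [← hσ] at h
      exact h
    · rintro _ ⟨z, rfl⟩
      rw [← Serre.preimage_specBasicOpen_over]
      show q' (σ z) ∈ PrimeSpectrum.basicOpen s
      rw [← hV.fromSpec_preimage_basicOpen]
      show hV.fromSpec (q' (σ z)) ∈ Y.basicOpen s
      have e1 : hV.fromSpec (q' (σ z)) = g (g.fiberι y' z) := by
        rw [← Scheme.Hom.comp_apply, hqfrom, Scheme.Hom.comp_apply, ← Scheme.Hom.comp_apply σ, hσ]
      have e2 : g (g.fiberι y' z) = y' := (Scheme.Hom.range_fiberι g y').le ⟨z, rfl⟩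
      rw [e1, e2]
      exact hy'
  · have h : p₀ ∈ PrimeSpectrum.basicOpen s := hs
    rw [← hV.fromSpec_preimage_basicOpen] at h
    have h' : hV.fromSpec p₀ ∈ Y.basicOpen s := h
    rwa [hV.fromSpec_primeIdealOf ⟨y, hyV⟩] at h'

open CategoryTheory
/-- Let Y be a Noetherian scheme, f : X → Y a proper morphism of schemes and E a finite locally free
O_X-module. Then the set of points y of Y such that the restriction E_y of E to the fibre X_y is
ample — meaning that the fundamental module O(1) of the projective bundle P(E_y) = Proj(Sym E_y) →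
X_y is ample, for any relative-Proj data of the graded symmetric algebra of E_y with its O(1) — is
open in Y: if E_y is ample then E_{y'} is ample for every y' in some open neighbourhood of y. (The
source allows X to be an algebraic space proper over Y; this is the case of schemes.) -/
theorem result (X Y : Scheme.{u}) [IsNoetherian Y] (f : X ⟶ Y) [IsProper f]
    (E : X.Modules) (hE : FlatMod.IsFinLocFree E) :
    IsOpen {y : Y | ∀ (𝒮 : RelProj.QCGrAlg (f.fiber y)) (j : ((Scheme.Modules.pullback (f.fiberι y)).obj E) ⟶ 𝒮.toModule) (P : Scheme.{u}) (p : P ⟶ (f.fiber y))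
        (chart : ∀ (U : (f.fiber y).Opens) (hU : IsAffineOpen U),
          (((p ⁻¹ᵁ U : P.Opens) : Scheme.{u}) ≅ Proj (𝒮.deg U hU)))
        (O1 : P.Modules)
        (lam : ∀ (U : (f.fiber y).Opens) (hU : IsAffineOpen U),
          O1 ⟶ (Scheme.Modules.pushforward (RelProj.emb p chart U hU)).obj (GrTwist.twist (𝒮.deg U hU) 1)),
        RelProj.IsGrSymAlg ((Scheme.Modules.pullback (f.fiberι y)).obj E) 𝒮 j → RelProj.IsRelProj 𝒮 p chart → RelProj.IsRelTwist 𝒮 p chart 1 O1 lam →
        CohB1.IsAmple O1} := by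
  have hEc := Coherent.CohBC.isCoh_of_isFinLocFree hE
  haveI : IsNoetherian X := {
    toIsLocallyNoetherian := LocallyOfFiniteType.isLocallyNoetherian f
    toCompactSpace := QuasiCompact.compactSpace_of_compactSpace f }
  haveI := hEc.1
  let 𝒮 := SymAlgLib.symGrAlg E
  obtain ⟨P, p, chart, hP⟩ := ProjLib.exists_isRelProj (𝒮 := 𝒮)
  obtain ⟨O1, lam, hO1⟩ := TwistLib.G.exists_isRelTwist (n := 1) hP
  have hj := SymAlgLib.isGrSymAlg_symGrAlg E
  haveI := RelVALib.isProper_bundle hEc.1 hEc.2 hj hP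
  obtain ⟨q, hB⟩ := CycLib28.PB.exists_isProjBundle hEc.1 hj hP hO1
  have hinv := KRRPBLib.isInvertible_of_rankOne hB.invertible
  let g := p ≫ f
  haveI : IsProper g := inferInstanceAs (IsProper (p ≫ f))
  convert isOpen_fibre_ample g O1 hinv using 1
  ext y
  simp only [Set.mem_setOf_eq]
  let iv := f.fiberι y
  haveI : IsProper (f.fiberToSpecResidueField y) := inferInstanceAs (IsProper (pullback.snd f (Y.fromSpecResidueField y)))
  haveI : IsLocallyNoetherian (f.fiber y) := LocallyOfFiniteType.isLocallyNoetherian (f.fiberToSpecResidueField y)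
  let Ey := (Scheme.Modules.pullback iv).obj E
  have hEy := Coherent.CohBC.isCoh_of_isFinLocFree (FlatMorAdm.isFinLocFree_pullback iv hE)
  have hBy := CycLib28.PB.isProjBundle_baseChange q hB (IsPullback.of_hasPullback p iv)
  have sq2 : IsPullback (pullback.fst p iv) (pullback.snd p iv ≫ f.fiberToSpecResidueField y) g
      (Y.fromSpecResidueField y) :=
    (IsPullback.of_hasPullback p iv).paste_vert (IsPullback.of_hasPullback f (Y.fromSpecResidueField y))
  haveI := hEy.1
  let ev := sq2.isoPullback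
  have hev : ev.hom ≫ g.fiberι y = pullback.fst p iv := sq2.isoPullback_hom_fst
  have hiff : CohB1.IsAmple ((Scheme.Modules.pullback (g.fiberι y)).obj O1) ↔
      CohB1.IsAmple ((Scheme.Modules.pullback (pullback.fst p iv)).obj O1) := by
    constructor
    · intro h
      exact AmpleLib.isAmple_pullback_congr hev
        ((AmpleLib.isAmple_pullback_comp_iff ev.hom (g.fiberι y)).1 (AmpleLib.isAmple_pullback_of_isAffineHom ev.hom h))
    · intro h
      refine AmpleLib.isAmple_pullback_congr (show ev.inv ≫ pullback.fst p iv = g.fiberι y from (congrArg (ev.inv ≫ ·) hev.symm).trans (ev.inv_hom_id_assoc _)) ?_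
      exact (AmpleLib.isAmple_pullback_comp_iff ev.inv _).1 (AmpleLib.isAmple_pullback_of_isAffineHom ev.inv h)
  rw [hiff]
  constructor
  · intro h
    let 𝒯 := SymAlgLib.symGrAlg Ey
    obtain ⟨P', p', chart', hP'⟩ := ProjLib.exists_isRelProj (𝒮 := 𝒯)
    obtain ⟨O1', lam', hO1'⟩ := TwistLib.G.exists_isRelTwist (n := 1) hP'
    have hj' := SymAlgLib.isGrSymAlg_symGrAlg Ey
    obtain ⟨q', hB'⟩ := CycLib28.PB.exists_isProjBundle hEy.1 hj' hP' hO1'
    obtain ⟨γ, hγ, -, ⟨e⟩⟩ := exists_bundle_iso' hBy hB'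
    haveI := hγ
    have h1 := AmpleLib.isAmple_of_iso e.symm (h 𝒯 _ P' p' chart' O1' lam' hj' hP' hO1')
    have h2 := (AmpleLib.isAmple_pullback_comp_iff (inv γ) γ).1 (AmpleLib.isAmple_pullback_of_isAffineHom (inv γ) h1)
    exact AmpleLib.isAmple_of_iso ((Scheme.Modules.pullbackId _).app _)
      (AmpleLib.isAmple_pullback_congr (IsIso.inv_hom_id γ) h2)
  · intro h 𝒯 j' P' p' chart' O1' lam' hj' hP' hO1'
    obtain ⟨q', hB'⟩ := CycLib28.PB.exists_isProjBundle hEy.1 hj' hP' hO1'
    obtain ⟨γ, hγ, -, ⟨e⟩⟩ := exists_bundle_iso' hBy hB'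
    haveI := hγ
    exact AmpleLib.isAmple_of_iso e (AmpleLib.isAmple_pullback_of_isAffineHom γ h)

end Groth.Agent.S17292
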