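import Groth.Statements.S17306
import Groth.Agent.FlatMor12.CMMor
import Groth.Agent.AlgSpLib.OnePointFlat
import Groth.Agent.AlgSpLib.MonoDiscrete
import Groth.Agent.AlgSpLib.EtaleAscend
import Groth.Agent.CAlgH3.RegularCore

set_option autoImplicit false
universe u
open CurvSt


namespace Groth.Agent.CMStackH2

open CategoryTheory CategoryTheory.Limits IsLocalRing AlgebraicGeometry

/-- Schemes etale over a field have fields as local rings. -/
theorem isField_stalk_of_etale {k : Type u} [Field k] {V : Scheme.{u}} (v : V ⟶ Spec (CommRingCat.of k))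
    [Etale v] (y : V) : IsField (V.presheaf.stalk y) := by
  have : AlgebraicGeometry.IsReduced V := Groth.Agent.AlgSpLib.isReduced_of_etale' v
  have : LocallyQuasiFinite v := Groth.Agent.AlgSpLib.locallyQuasiFinite_of_etale v
  have : IsLocallyArtinian V := IsLocallyArtinian.of_locallyQuasiFinite v
  exact Groth.Agent.AlgSpLib.isField_stalk_of_discrete y

/-- The fibre local ring of a morphism to a scheme whose local ring at the image is a field. -/
theorem isCMAt_iff_of_isField {X Y : Scheme.{u}} (f : X ⟶ Y) (x : X) (h : IsField (Y.presheaf.stalk (f x))) :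
    MoreMor.IsCMAt f x ↔ LocCoh.IsCohenMacaulayLocalRing (X.presheaf.stalk x) := by
  have hm : maximalIdeal (Y.presheaf.stalk (f x)) = ⊥ := isField_iff_maximalIdeal_eq.1 h
  let e : (X.presheaf.stalk x ⧸ (maximalIdeal (Y.presheaf.stalk (f x))).map (f.stalkMap x).hom) ≃+*
      X.presheaf.stalk x :=
    (Ideal.quotEquivOfEq (by rw [hm, Ideal.map_bot])).trans (RingEquiv.quotientBot _)
  rw [Groth.Agent.FlatMor12.isCMAt_iff]
  refine ⟨fun h' => Groth.Agent.FlatMor12.isCM_ringEquiv e h'.2,
    fun h' => ⟨?_, Groth.Agent.FlatMor12.isCM_ringEquiv e.symm h'⟩⟩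
  letI := h.toField
  algebraize [(f.stalkMap x).hom]
  exact inferInstanceAs (Module.Flat (Y.presheaf.stalk (f x)) (X.presheaf.stalk x))

/-- Etale morphisms are Cohen-Macaulay at every point. -/
theorem isCMAt_of_etale {U X : Scheme.{u}} (α : U ⟶ X) [Etale α] (u : U) : MoreMor.IsCMAt α u := by
  refine ⟨Flat.stalkMap α u, ?_⟩
  let v := α.fiberToSpecResidueField (α u)
  have : Etale v := MorphismProperty.of_isPullback (P := @Etale) (IsPullback.of_hasPullback α (X.fromSpecResidueField (α u))) ‹_›
  have hF := @isField_stalk_of_etale _ _ _ v this (α.asFiber u)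
  letI := hF.toField
  exact Groth.Agent.CAlgH3.isCohenMacaulayLocalRing_of_regular _


end Groth.Agent.CMStackH2

namespace Groth.Agent.S17306

open CategoryTheory AlgebraicGeometry in
/-- Let X be a proper scheme of dimension at most 1 over a field k, and Spec k → S a point of the base.
The classifying object of X in the stack of curves over S lies in the Cohen–Macaulay open substack —
by definition of that substack: the morphism of sheaves h_X → h_{Spec k} induced by X → Spec k is,
in every etale chart diagram, a morphism of schemes flat with Cohen–Macaulay fibre local rings at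
every point — if and only if X is Cohen–Macaulay, i.e. all local rings of X are Cohen–Macaulay local
rings. -/
theorem result (S : Scheme.{u}) (k : Type u) [Field k] (t : Spec (CommRingCat.of k) ⟶ S)
    (X : Scheme.{u}) (p : X ⟶ Spec (CommRingCat.of k)) [IsProper p] (hdim : topologicalKrullDim ↥X ≤ 1) :
    AlgSp.LocP (fun _ _ g => ∀ x, MoreMor.IsCMAt g x) ((AlgSp.yon S).map (Over.homMk p rfl : Over.mk (p ≫ t) ⟶ Over.mk t)) ↔
      ∀ x : ↥X, LocCoh.IsCohenMacaulayLocalRing (X.presheaf.stalk x) := by
  have hk : ∀ y, IsField ((Spec (CommRingCat.of k)).presheaf.stalk y) := fun y =>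
    CMStackH2.isField_stalk_of_etale (𝟙 _) y
  have hXN : IsLocallyNoetherian X := LocallyOfFiniteType.isLocallyNoetherian p
  constructor
  · intro h x
    have := AlgSp.locP_yon_map h x
    exact (CMStackH2.isCMAt_iff_of_isField p x (hk _)).1 this
  · intro h U V a b l ha hb e u
    obtain ⟨α, rfl⟩ := (AlgSp.yon S).map_surjective a
    obtain ⟨β, rfl⟩ := (AlgSp.yon S).map_surjective b
    rw [← Functor.map_comp, ← Functor.map_comp] at e
    have e' : α.left ≫ p = l.left ≫ β.left := congrArg CommaMorphism.left ((AlgSp.yon S).map_injective e)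
    have : Etale α.left := (AlgSp.repWith_yon_map_iff @Etale α).1 ha
    have : Etale β.left := (AlgSp.repWith_yon_map_iff @Etale β).1 hb
    have hV : IsField (V.left.presheaf.stalk (l.left u)) := CMStackH2.isField_stalk_of_etale β.left _
    refine (CMStackH2.isCMAt_iff_of_isField l.left u hV).2 ?_
    let α' : U.left ⟶ X := α.left
    have : Etale α' := inferInstanceAs (Etale α.left)
    have : IsLocallyNoetherian U.left := LocallyOfFiniteType.isLocallyNoetherian α'
    have hc : MoreMor.IsCMAt (α' ≫ p) u :=
      (Groth.Agent.FlatMor12.isCM_comp_iff α' p u (Flat.stalkMap α' u)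
        (isNoetherianRing_of_surjective _ _ (Ideal.Quotient.mk _) Ideal.Quotient.mk_surjective)
        (isNoetherianRing_of_surjective _ _ (Ideal.Quotient.mk _) Ideal.Quotient.mk_surjective)).2
        ⟨CMStackH2.isCMAt_of_etale α' u, (CMStackH2.isCMAt_iff_of_isField p _ (hk _)).2 (h _)⟩
    exact (CMStackH2.isCMAt_iff_of_isField (α' ≫ p) u (hk _)).1 hc

end Groth.Agent.S17306
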