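import Groth.Statements.S17307
import Groth.Agent.AlgSpLib.GorAt
import Groth.Agent.AlgSpLib.OnePointFlat
-- import your own Groth.Agent.* helpers here

set_option autoImplicit false
set_option backward.isDefEq.respectTransparency false
set_option backward.isDefEq.respectTransparency.types false
universe u
open CurvSt

namespace Groth.Agent.S17307

open CategoryTheory Limits AlgebraicGeometry in
theorem gorAt_field_iff {k : Type u} [Field k] {X : Scheme.{u}} (p : X ⟶ Spec (CommRingCat.of k)) (x : X) :
    Dual3.IsGorensteinAt p x ↔ LocCoh.IsGorensteinLocalRing (X.presheaf.stalk x) := by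
  have hfield : IsField ((Spec (CommRingCat.of k)).presheaf.stalk (p x)) := by
    haveI : IsReduced (Spec (CommRingCat.of k)) := inferInstance
    exact Groth.Agent.AlgSpLib.isField_stalk_of_maximal _ fun w _ => @Subsingleton.elim (PrimeSpectrum k) _ _ _
  have hm := IsLocalRing.isField_iff_maximalIdeal_eq.1 hfield
  rw [Groth.Agent.AlgSpLib.gorAt_iff_gorHom, Groth.Agent.AlgSpLib.GorHom, hm, Ideal.map_bot,
    Groth.Agent.DualLib.GorFlat.gor_congr (RingEquiv.quotientBot (X.presheaf.stalk x))]
  refine and_iff_right ?_
  letI := hfield.toField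
  letI := (p.stalkMap x).hom.toAlgebra
  show Module.Flat ((Spec (CommRingCat.of k)).presheaf.stalk (p x)) (X.presheaf.stalk x)
  infer_instance

end Groth.Agent.S17307

namespace Groth.Agent.S17307

open CategoryTheory AlgebraicGeometry in
/-- Let X be a proper scheme of dimension at most 1 over a field k, and Spec k → S a point of the base.
The classifying object of X in the stack of curves over S lies in the Gorenstein open substack — by
definition: the morphism of sheaves h_X → h_{Spec k} induced by X → Spec k is, in every etale chart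
diagram, at every point flat with Gorenstein fibre local ring — if and only if X is Gorenstein, i.e.
all local rings of X are Gorenstein local rings. -/
theorem result (S : Scheme.{u}) (k : Type u) [Field k] (t : Spec (CommRingCat.of k) ⟶ S)
    (X : Scheme.{u}) (p : X ⟶ Spec (CommRingCat.of k)) [IsProper p] (hdim : topologicalKrullDim ↥X ≤ 1) :
    AlgSp.LocP (fun _ _ g => ∀ x, (g.stalkMap x).hom.Flat ∧
        LocCoh.IsGorensteinLocalRing ((g.fiber (g x)).presheaf.stalk (g.asFiber x))) ((AlgSp.yon S).map (Over.homMk p rfl : Over.mk (p ≫ t) ⟶ Over.mk t)) ↔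
      ∀ x : ↥X, LocCoh.IsGorensteinLocalRing (X.presheaf.stalk x) := by
  refine ⟨fun h x => (Groth.Agent.S17307.gorAt_field_iff p x).1 (AlgSp.locP_yon_map h x), fun h U V a b g ha hb w x => ?_⟩
  obtain ⟨a', rfl⟩ := (AlgSp.yon S).map_surjective a
  obtain ⟨b', rfl⟩ := (AlgSp.yon S).map_surjective b
  haveI : Etale a'.left := (AlgSp.repWith_yon_map_iff @Etale a').1 ha
  haveI : Etale b'.left := (AlgSp.repWith_yon_map_iff @Etale b').1 hb
  have w' : a' ≫ (Over.homMk p rfl : Over.mk (p ≫ t) ⟶ Over.mk t) = g ≫ b' :=
    (AlgSp.yon S).map_injective (by rw [Functor.map_comp, Functor.map_comp]; exact w)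
  exact (Groth.Agent.AlgSpLib.gorAt_iff_of_etale_square a'.left b'.left (congrArg CommaMorphism.left w') x).1
    ((Groth.Agent.S17307.gorAt_field_iff p _).2 (h _))


end Groth.Agent.S17307
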