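import Groth.Statements.S17309
import Groth.Agent.FlatMor12.GeomDescent
import Mathlib.FieldTheory.IsAlgClosed.AlgebraicClosure
-- import your own Groth.Agent.* helpers here

set_option autoImplicit false
set_option backward.isDefEq.respectTransparency false
set_option backward.isDefEq.respectTransparency.types false
universe u
open CurvSt

namespace Groth.Agent.S17309

open CategoryTheory AlgebraicGeometry in
open CategoryTheory.Limits in
/-- Let X be a proper scheme of dimension at most 1 over a field k with structure morphism p, and Spec k
→ S a point of the base. The classifying object of X in the stack of curves over S lies in the open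
substack of curves with geometrically reduced fibres — by definition: every geometric fibre of the
family h_X → h_{Spec k}, realised as a scheme over an algebraically closed field through a cartesian
square of sheaves, is reduced — if and only if X is geometrically reduced over k. -/
theorem result (S : Scheme.{u}) (k : Type u) [Field k] (t : Spec (CommRingCat.of k) ⟶ S)
    (X : Scheme.{u}) (p : X ⟶ Spec (CommRingCat.of k)) [IsProper p] (hdim : topologicalKrullDim ↥X ≤ 1) :
    CurvSt.GeomFib (fun _ _ _ X' _ _ => IsReduced X') ((CurvSt.toSpFam S 0).obj ⟨Over.mk t, X, p, Fin.elim0, fun i => i.elim0⟩) ↔ GeometricallyReduced p := by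
  constructor
  · intro h
    refine ⟨fun K _ y Z fst snd hsq => ?_⟩
    let Ω := AlgebraicClosure K
    let s : Spec (CommRingCat.of Ω) ⟶ Spec (CommRingCat.of K) := Spec.map (CommRingCat.ofHom (algebraMap K Ω))
    haveI : Surjective s := ⟨fun x => ⟨IsLocalRing.closedPoint Ω, @Subsingleton.elim (PrimeSpectrum K) _ _ _⟩⟩
    haveI : Flat s := by
      rw [HasRingHomProperty.Spec_iff (P := @Flat)]
      exact RingHom.flat_algebraMap_iff.2 inferInstance
    have hsq' : IsPullback (pullback.fst snd s ≫ fst) (pullback.snd snd s) p (s ≫ y) :=
      (IsPullback.of_hasPullback snd s).paste_horiz hsq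
    let O : Over S := Over.mk t
    let P₁ : Over.mk (pullback.snd snd s ≫ (s ≫ y) ≫ t) ⟶ Over.mk (p ≫ t) :=
      Over.homMk (pullback.fst snd s ≫ fst) (by
        show (pullback.fst snd s ≫ fst) ≫ p ≫ t = pullback.snd snd s ≫ (s ≫ y) ≫ t
        rw [← Category.assoc _ p t, hsq'.w]
        simp only [Category.assoc])
    have hO : IsPullback P₁ (Over.homMk (pullback.snd snd s) (by simp) : Over.mk (pullback.snd snd s ≫ (s ≫ y) ≫ t) ⟶ Over.mk ((s ≫ y) ≫ t))
        (Over.homMk p rfl : Over.mk (p ≫ t) ⟶ O) (Over.homMk (s ≫ y) rfl : Over.mk ((s ≫ y) ≫ t) ⟶ O) :=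
      IsPullback.of_map (Over.forget S) (Over.OverMorphism.ext hsq'.w) hsq'
    have hh := fun i hP => h Ω (s ≫ y) (pullback snd s) (pullback.snd snd s) i hP
    haveI : IsReduced (pullback snd s) := hh _ (by
      simpa [SpFamObj.fibHom, SpFamObj.ptHom, CurvSt.toSpFam] using hO.map (AlgSp.yon S))
    haveI : Flat (pullback.fst snd s) := inferInstance
    haveI : Surjective (pullback.fst snd s) := inferInstance
    exact Groth.Agent.FlatMor12.isReduced_of_flat_surjective (pullback.fst snd s)
  · intro h Ω _ _ tΩ X' q i hP
    obtain ⟨i', rfl⟩ := (AlgSp.yon S).map_surjective i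
    have h1 := (IsPullback.of_map (AlgSp.yon S) ((AlgSp.yon S).map_injective (by rw [Functor.map_comp, Functor.map_comp]; exact hP.w)) hP).map (Over.forget S)
    exact h.geometrically_isReduced tΩ _ _ h1


end Groth.Agent.S17309
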