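import Groth.Statements.S17310
import Groth.Agent.FlatMor12.CurvGeomFib
import Groth.Agent.DimLib.BaseChange
-- import your own Groth.Agent.* helpers here

set_option autoImplicit false
set_option backward.isDefEq.respectTransparency false
set_option backward.isDefEq.respectTransparency.types false
universe u
open CurvSt

namespace Groth.Agent.S17310

open CategoryTheory AlgebraicGeometry in
/-- Let X be a proper scheme of dimension at most 1 over a field k with structure morphism p, and Spec k
→ S a point of the base. The classifying object of X in the stack of curves over S lies in the open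
substack of curves with geometrically reduced, connected fibres of dimension 1 — by definition:
every geometric fibre of h_X → h_{Spec k}, realised as a scheme over an algebraically closed field
through a cartesian square of sheaves, is reduced, connected and of Krull dimension 1 — if and only
if X is geometrically reduced and geometrically connected over k and has Krull dimension 1. -/
theorem result (S : Scheme.{u}) (k : Type u) [Field k] (t : Spec (CommRingCat.of k) ⟶ S)
    (X : Scheme.{u}) (p : X ⟶ Spec (CommRingCat.of k)) [IsProper p] (hdim : topologicalKrullDim ↥X ≤ 1) :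
    CurvSt.GeomFib (fun _ _ _ X' _ _ => IsReduced X' ∧ ConnectedSpace ↥X' ∧ topologicalKrullDim ↥X' = 1) ((CurvSt.toSpFam S 0).obj ⟨Over.mk t, X, p, Fin.elim0, fun i => i.elim0⟩) ↔
      GeometricallyReduced p ∧ GeometricallyConnected p ∧ topologicalKrullDim ↥X = 1 := by
  rw [Groth.Agent.FlatMor12.CurvGeomFib.geomFib_iff t p
    (fun _ _ _ Z _ => IsReduced Z ∧ ConnectedSpace ↥Z ∧ topologicalKrullDim ↥Z = 1)]
  have hbc : ∀ (Ω : Type u) [Field Ω] (y : Spec (CommRingCat.of Ω) ⟶ Spec (CommRingCat.of k))
      (Z : Scheme.{u}) (fst : Z ⟶ X) (snd : Z ⟶ Spec (CommRingCat.of Ω)), IsPullback fst snd p y →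
        topologicalKrullDim ↥Z = topologicalKrullDim ↥X := fun Ω _ y Z fst snd h => by
    obtain ⟨φ, rfl⟩ : ∃ φ, Spec.map φ = y := ⟨Spec.preimage y, Spec.map_preimage y⟩
    letI : Algebra k Ω := φ.hom.toAlgebra
    exact h.isoPullback.hom.homeomorph.isHomeomorph.topologicalKrullDim_eq.trans (Groth.Agent.DimLib.topologicalKrullDim_bc p Ω)
  constructor
  · intro h
    refine ⟨⟨Groth.Agent.FlatMor12.CurvGeomFib.geometrically_of_algClosed p (fun A B g _ _ hA => ?_)
      (fun Ω _ _ y Z fst snd hsq => (h Ω y Z fst snd hsq).1)⟩,
      ⟨Groth.Agent.FlatMor12.CurvGeomFib.geometrically_of_algClosed p (fun A B g _ _ hA => ?_)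
      (fun Ω _ _ y Z fst snd hsq => (h Ω y Z fst snd hsq).2.1)⟩, ?_⟩
    · haveI : IsReduced A := hA
      exact Groth.Agent.FlatMor12.isReduced_of_flat_surjective g
    · haveI : ConnectedSpace A := hA
      exact Groth.Agent.FlatMor12.connectedSpace_of_surjective g
    · let y : Spec (CommRingCat.of (AlgebraicClosure k)) ⟶ Spec (CommRingCat.of k) :=
        Spec.map (CommRingCat.ofHom (algebraMap k (AlgebraicClosure k)))
      exact (hbc _ y _ _ _ (IsPullback.of_hasPullback p y)).symm.trans
        (h _ y _ _ _ (IsPullback.of_hasPullback p y)).2.2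
  · intro h Ω _ _ y Z fst snd hsq
    exact ⟨h.1.geometrically_isReduced y fst snd hsq, h.2.1.geometrically_connectedSpace y fst snd hsq,
      (hbc Ω y Z fst snd hsq).trans h.2.2⟩


end Groth.Agent.S17310
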