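import Groth.Statements.S17311
import Groth.Agent.FlatMor12.CurvGeomFib
import Groth.Agent.SmoothLib.StalkCrit
import Groth.Agent.MorProj.SmoothLocus
import Mathlib.AlgebraicGeometry.ZariskisMainTheorem
-- import your own Groth.Agent.* helpers here

set_option autoImplicit false
set_option backward.isDefEq.respectTransparency false
set_option backward.isDefEq.respectTransparency.types false
universe u
open CurvSt

namespace Groth.Agent.S17311

open CategoryTheory Limits AlgebraicGeometry in
theorem finite_preimage {k Ω : Type u} [Field k] [Field Ω] {X Z : Scheme.{u}} {p : X ⟶ Spec (CommRingCat.of k)}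
    [IsProper p] {y : Spec (CommRingCat.of Ω) ⟶ Spec (CommRingCat.of k)} {fst : Z ⟶ X}
    {snd : Z ⟶ Spec (CommRingCat.of Ω)} (h : IsPullback fst snd p y) {x : X} (hx : IsClosed ({x} : Set X)) :
    (fst ⁻¹' {x}).Finite := by
  haveI : IsClosedImmersion (X.fromSpecResidueField x) := isClosed_singleton_iff_isClosedImmersion.1 hx
  let w := X.fromSpecResidueField x ≫ p
  haveI : LocallyQuasiFinite w := LocallyQuasiFinite.of_finite_preimage_singleton w fun _ => Set.toFinite _
  haveI : IsFinite w := IsFinite.of_isProper_of_locallyQuasiFinite w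
  have hP := IsPullback.of_hasPullback (X.fromSpecResidueField x) fst
  have hsq := hP.flip.paste_horiz h.flip
  haveI : IsFinite (pullback.snd (X.fromSpecResidueField x) fst ≫ snd) :=
    MorphismProperty.of_isPullback hsq.flip ‹IsFinite w›
  haveI : Finite ↥(pullback (X.fromSpecResidueField x) fst) := by
    have := IsFinite.finite_preimage_singleton (pullback.snd (X.fromSpecResidueField x) fst ≫ snd)
      (IsLocalRing.closedPoint Ω)
    exact Set.finite_univ_iff.1 (this.subset fun z _ => @Subsingleton.elim (PrimeSpectrum Ω) _ _ _)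
  refine (Set.finite_range ⇑(pullback.snd (X.fromSpecResidueField x) fst)).subset ?_
  rw [Scheme.Pullback.range_snd, Scheme.range_fromSpecResidueField]

theorem isClosed_of_finite_closed {X : Type u} [TopologicalSpace X] [JacobsonSpace X] {s : Set X} (hs : IsClosed s)
    (hf : s.Finite) {x : X} (hx : x ∈ s) : IsClosed ({x} : Set X) := by
  have : (closure ({x} : Set X) ∩ closedPoints X).Finite :=
    hf.subset (Set.inter_subset_left.trans (hs.closure_subset_iff.2 (Set.singleton_subset_iff.2 hx)))
  have hcl : closure ({x} : Set X) ⊆ closedPoints X := by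
    refine (closure_inter_closedPoints (isClosed_closure (s := ({x} : Set X)))).symm.subset.trans ?_
    refine (IsClosed.closure_eq ?_).subset.trans Set.inter_subset_right
    rw [← Set.biUnion_of_singleton (closure ({x} : Set X) ∩ closedPoints X)]
    exact this.isClosed_biUnion fun z hz => hz.2
  exact hcl (subset_closure rfl)

end Groth.Agent.S17311

namespace Groth.Agent.S17311

open CategoryTheory AlgebraicGeometry in
/-- Let X be a proper scheme of dimension at most 1 over a field k with structure morphism p, and Spec k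
→ S a point of the base. The classifying object of X in the stack of curves over S lies in the open
substack of curves with isolated singularities — by definition: every geometric fibre of h_X →
h_{Spec k}, realised as a scheme over an algebraically closed field Ω through a cartesian square of
sheaves, is smooth over Ω outside a finite set of points — if and only if p : X → Spec k is smooth
outside a finite set of points of X. -/
theorem result (S : Scheme.{u}) (k : Type u) [Field k] (t : Spec (CommRingCat.of k) ⟶ S)
    (X : Scheme.{u}) (p : X ⟶ Spec (CommRingCat.of k)) [IsProper p] (hdim : topologicalKrullDim ↥X ≤ 1) :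
    CurvSt.GeomFib (fun _ _ _ X' q _ => Set.Finite {x : ↥X' | ¬ ∃ U : X'.Opens, x ∈ U ∧ Smooth (U.ι ≫ q)}) ((CurvSt.toSpFam S 0).obj ⟨Over.mk t, X, p, Fin.elim0, fun i => i.elim0⟩) ↔
      Set.Finite {x : ↥X | ¬ ∃ U : X.Opens, x ∈ U ∧ Smooth (U.ι ≫ p)} := by
  rw [Groth.Agent.FlatMor12.CurvGeomFib.geomFib_iff t p
    (fun Ω _ _ Z q => Set.Finite {x : ↥Z | ¬ ∃ U : Z.Opens, x ∈ U ∧ Smooth (U.ι ≫ q)})]
  simp only [Groth.Agent.SmoothLib.smooth_nhd_iff p]
  have hB : IsClosed {x : ↥X | ¬ (p.stalkMap x).hom.FormallySmooth} := p.smoothLocus.isOpen.isClosed_compl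
  have key : ∀ (Ω : Type u) [Field Ω] (y : Spec (CommRingCat.of Ω) ⟶ Spec (CommRingCat.of k))
      (Z : Scheme.{u}) (fst : Z ⟶ X) (snd : Z ⟶ Spec (CommRingCat.of Ω)), IsPullback fst snd p y →
        Surjective fst ∧ {x : ↥Z | ¬ ∃ U : Z.Opens, x ∈ U ∧ Smooth (U.ι ≫ snd)} =
          fst ⁻¹' {x : ↥X | ¬ (p.stalkMap x).hom.FormallySmooth} := fun Ω _ y Z fst snd h => by
    obtain ⟨φ, rfl⟩ : ∃ φ, Spec.map φ = y := ⟨Spec.preimage y, Spec.map_preimage y⟩
    letI : Algebra k Ω := φ.hom.toAlgebra
    haveI hyf : Flat (Spec.map φ) := by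
      rw [HasRingHomProperty.Spec_iff (P := @Flat)]
      exact RingHom.flat_algebraMap_iff.2 (inferInstance : Module.Flat k Ω)
    haveI : Surjective (Spec.map φ) :=
      ⟨fun x => ⟨IsLocalRing.closedPoint Ω, @Subsingleton.elim (PrimeSpectrum k) _ _ _⟩⟩
    haveI : LocallyOfFinitePresentation snd := MorphismProperty.of_isPullback h (inferInstance : LocallyOfFinitePresentation p)
    refine ⟨MorphismProperty.of_isPullback h.flip ‹Surjective (Spec.map φ)›, Set.ext fun z => ?_⟩
    have he := Groth.Agent.MorProj.smoothLocus_baseChange p (Spec.map φ) snd fst h (Or.inr hyf)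
    rw [Set.mem_setOf_eq, Groth.Agent.SmoothLib.smooth_nhd_iff snd z]
    show z ∉ snd.smoothLocus ↔ fst z ∉ p.smoothLocus
    rw [he]
    rfl
  constructor
  · intro h
    obtain ⟨hs, he⟩ := key (AlgebraicClosure k) (Spec.map (CommRingCat.ofHom (algebraMap k (AlgebraicClosure k)))) _ _ _
      (IsPullback.of_hasPullback p _)
    have := h (AlgebraicClosure k) (Spec.map (CommRingCat.ofHom (algebraMap k (AlgebraicClosure k)))) _ _ _
      (IsPullback.of_hasPullback p _)
    rw [he] at this
    exact (this.image _).subset (Set.image_preimage_eq _ hs.surj).ge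
  · intro h Ω _ _ y Z fst snd hsq
    rw [(key Ω y Z fst snd hsq).2]
    refine h.preimage' fun x hx => Groth.Agent.S17311.finite_preimage hsq ?_
    haveI : LocallyOfFiniteType p := inferInstance
    haveI : JacobsonSpace X := LocallyOfFiniteType.jacobsonSpace p
    exact Groth.Agent.S17311.isClosed_of_finite_closed hB h hx


end Groth.Agent.S17311
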