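import Groth.Statements.S1732
import Groth.Agent.CAlgH3.TorInj.Recursion
import Groth.Agent.CAlgH3.CompleteHom
import Groth.Agent.CAlgH.CompleteLocal
-- import your own Groth.Agent.* helpers here

set_option autoImplicit false
universe u
open LocCoh

namespace Groth.Agent.S1732

/-- Let k be a field of characteristic zero, d ≥ 1, A = k[[x_1, …, x_d]] with maximal ideal m, and E an
injective hull of the residue field of A. Let M be an m-power torsion A-module equipped with
additive maps D_1, …, D_d such that D_i(f z) = θ_i(f) z + f D_i(z), where θ_i is the k-derivation of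
A with θ_i(x_j) = δ_ij (the partial derivative in x_i). Then M is, up to isomorphism, a direct sum
of copies of E. -/
theorem result (k : Type u) [Field k] [CharZero k] (d : ℕ) (hd : 1 ≤ d) (E : Type u) [AddCommGroup E] [Module (MvPowerSeries (Fin d) k) E] (e : IsLocalRing.ResidueField (MvPowerSeries (Fin d) k) →ₗ[MvPowerSeries (Fin d) k] E) (he : InjHull.IsInjectiveHull e) (θ : Fin d → Derivation k (MvPowerSeries (Fin d) k) (MvPowerSeries (Fin d) k)) (hθ : ∀ i j : Fin d, θ i (MvPowerSeries.X j) = if i = j then 1 else 0) (M : Type u) [AddCommGroup M] [Module (MvPowerSeries (Fin d) k) M] (hM : LocCoh.IsPowerTorsion (IsLocalRing.maximalIdeal (MvPowerSeries (Fin d) k)) M) (D : Fin d → M →+ M) (hD : ∀ (i : Fin d) (f : MvPowerSeries (Fin d) k) (z : M), D i (f • z) = θ i f • z + f • D i z) : ∃ J : Type u, Nonempty (M ≃ₗ[MvPowerSeries (Fin d) k] (J →₀ E)) := by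
  refine Groth.Agent.CAlgH3.TorInj.exists_iso_finsupp he hM (Groth.Agent.CAlgH3.TorInj.injective_of_extend hM
    fun φ => Groth.Agent.CAlgH3.TorInj.extend_of_divisible MvPowerSeries.X
      Groth.Agent.CAlgH3.maximalIdeal_mvPowerSeries_eq.symm φ fun i => ?_)
  let x : MvPowerSeries (Fin d) k := MvPowerSeries.X i
  let Mi : M → Prop := fun z => ∀ j < i, (MvPowerSeries.X j : MvPowerSeries (Fin d) k) • z = 0
  have hDMi : ∀ z, Mi z → Mi (D i z) := fun z hz j hj => by
    have h := hD i (MvPowerSeries.X j) z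
    rw [hz j hj, map_zero, hθ, if_neg hj.ne', zero_smul, zero_add] at h
    exact h.symm
  have hunit : ∀ n : ℕ, IsUnit ((n + 1 : ℕ) : MvPowerSeries (Fin d) k) := fun n => by
    rw [← map_natCast (MvPowerSeries.C : k →+* MvPowerSeries (Fin d) k)]
    exact (Ne.isUnit (Nat.cast_ne_zero.2 (Nat.succ_ne_zero n))).map _
  have key : ∀ (n : ℕ) (z : M), Mi z → x ^ n • z = 0 → ∃ w, Mi w ∧ x • w = z := by
    intro n
    induction n with
    | zero =>
      intro z hz h0
      rw [pow_zero, one_smul] at h0
      exact ⟨0, fun j _ => smul_zero _, by rw [smul_zero, h0]⟩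
    | succ n ih =>
      intro z hz h0
      have h := hD i (x ^ (n + 1)) z
      rw [h0, map_zero, (θ i).leibniz_pow, hθ, if_pos rfl, Nat.add_sub_cancel] at h
      have hker : x ^ n • (((n + 1 : ℕ) : MvPowerSeries (Fin d) k) • z + x • D i z) = 0 := by
        rw [smul_add, smul_smul, smul_smul, ← pow_succ]
        convert h.symm using 3
        simp only [smul_eq_mul, nsmul_eq_mul, mul_one]
        ring
      have hmi : Mi (((n + 1 : ℕ) : MvPowerSeries (Fin d) k) • z + x • D i z) := fun j hj => by
        rw [smul_add, smul_smul, mul_comm, ← smul_smul, hz j hj, smul_zero, zero_add, smul_smul, mul_comm,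
          ← smul_smul, hDMi z hz j hj, smul_zero]
      obtain ⟨w, hw, hwx⟩ := ih _ hmi hker
      obtain ⟨u, hu⟩ := hunit n
      refine ⟨(↑u⁻¹ : MvPowerSeries (Fin d) k) • (w - D i z), fun j hj => ?_, ?_⟩
      · rw [smul_smul, mul_comm, ← smul_smul, smul_sub, hw j hj, hDMi z hz j hj, sub_self, smul_zero]
      · rw [smul_smul, mul_comm, ← smul_smul, smul_sub, hwx, add_sub_cancel_right, smul_smul, ← hu, Units.inv_mul,
          one_smul]
  intro z hz
  obtain ⟨n, hn⟩ := hM z
  refine key n z hz (hn _ (Ideal.pow_mem_pow ?_ n))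
  rw [Groth.Agent.CAlgH3.maximalIdeal_mvPowerSeries_eq]
  exact Ideal.subset_span ⟨i, rfl⟩

end Groth.Agent.S1732
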