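import Groth.Statements.S17321
import Groth.Agent.CommAlg4.FiniteAlgClosed
import Groth.Agent.S15706
import Mathlib.Algebra.Azumaya.Basic
import Mathlib.Algebra.DualNumber
import Mathlib.Algebra.Module.StablyFree.Basic
import Mathlib.NumberTheory.Padics.PadicIntegers
import Mathlib.RingTheory.Etale.StandardEtale
import Mathlib.RingTheory.WittVector.Domain
import Mathlib.RingTheory.WittVector.Teichmuller
import Mathlib.Tactic
import Groth.Agent.CommAlg4.FiniteAlgClosed
import Groth.Agent.S15706

set_option linter.all false

set_option autoImplicit false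
universe u v
open CAlg

open Groth.Agent.CommAlg4

namespace Groth.Agent.S17321

/-- Let k be an algebraically closed field and A a commutative k-algebra which is finite-dimensional as
a k-vector space (the coordinate ring of a finite k-scheme). Then the space Der(A) of k-derivations
A → A is zero if and only if A is reduced. -/
theorem result (k : Type u) [Field k] [IsAlgClosed k]
    (A : Type v) [CommRing A] [Algebra k A] [Module.Finite k A] :
    Subsingleton (Derivation k A A) ↔ IsReduced A := by
  constructor
  · intro hsub
    haveI : IsArtinianRing A := IsArtinianRing.of_finite k A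
    cases nonempty_fintype (MaximalSpectrum A)
    by_contra hred
    have hex : ∃ m : MaximalSpectrum A, m.asIdeal ^ 2 ≠ m.asIdeal := by
      by_contra! hall
      apply hred
      rw [← nilradical_eq_bot_iff]
      have hcop : ∀ i ∈ (Finset.univ : Finset (MaximalSpectrum A)), ∀ j ∈ (Finset.univ : Finset (MaximalSpectrum A)), i ≠ j → IsCoprime i.asIdeal j.asIdeal := by
        intro i _ j _ h
        haveI := i.isMaximal; haveI := j.isMaximal
        exact Ideal.isCoprime_of_isMaximal fun e => h (MaximalSpectrum.ext e)
      have h1 : ∏ m : MaximalSpectrum A, m.asIdeal = nilradical A := by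
        rw [IsArtinianRing.nilradical_eq_iInf, Ideal.prod_eq_iInf_of_pairwise_isCoprime]
        · simp
        · exact fun i _ j _ h => hcop i (Finset.mem_univ _) j (Finset.mem_univ _) h
      have h2 : nilradical A ^ 2 = nilradical A := by
        rw [← h1, ← Finset.prod_pow]
        exact Finset.prod_congr rfl fun m _ => hall m
      obtain ⟨n, hn⟩ := nilradical_isNilpotent k A
      have h3 : ∀ j, nilradical A ^ (j+1) = nilradical A := by
        intro j; induction j with
        | zero => simp
        | succ j ih => rw [pow_succ, ih, ← pow_two, h2]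
      rw [← h3 n, pow_succ, hn, zero_mul]; rfl
    obtain ⟨m, hm⟩ := hex
    haveI := m.isMaximal
    have hmass : m.asIdeal ∈ associatedPrimes A A := by
      apply Module.associatedPrimes.minimalPrimes_annihilator_subset_associatedPrimes A A
      rw [show Module.annihilator A A = ⊥ from Module.annihilator_eq_bot.mpr inferInstance]
      exact IsArtinianRing.mem_minimalPrimes bot_le
    obtain ⟨-, t, ht⟩ := isAssociatedPrime_iff.mp hmass
    obtain ⟨f, hf⟩ := exists_point k A m.asIdeal
    have htf : ∀ a : A, a * t = f a • t := by
      intro a
      have h : a - algebraMap k A (f a) ∈ m.asIdeal := by rw [← hf, RingHom.mem_ker]; simp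
      rw [ht, Submodule.mem_colon_singleton, Submodule.mem_bot, smul_eq_mul, sub_mul, sub_eq_zero] at h
      rw [h, Algebra.smul_def]
    have ht0 : t ≠ 0 := by
      rintro rfl
      exact m.isMaximal.ne_top ((Ideal.eq_top_iff_one _).mpr (by rw [ht]; simp [Submodule.mem_colon_singleton]))
    obtain ⟨x, hxm, hx⟩ := SetLike.exists_of_lt (lt_of_le_of_ne (Ideal.pow_le_self two_ne_zero) hm)
    obtain ⟨l, hl0, hl⟩ := Submodule.exists_dual_map_eq_bot_of_notMem (p := (m.asIdeal ^ 2).restrictScalars k) hx inferInstance
    have hl2 : ∀ y ∈ m.asIdeal ^ 2, l y = 0 := fun y hy => by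
      have : l y ∈ Submodule.map l ((m.asIdeal ^ 2).restrictScalars k) := ⟨y, hy, rfl⟩
      rw [hl] at this; exact this
    let P : A →ₗ[k] A := LinearMap.id - (Algebra.linearMap k A) ∘ₗ f.toLinearMap
    have hP : ∀ a, P a ∈ m.asIdeal := fun a => by rw [← hf, RingHom.mem_ker]; simp [P]
    let L : A →ₗ[k] A := (LinearMap.toSpanSingleton k A t) ∘ₗ l ∘ₗ P
    let D : Derivation k A A := Derivation.mk' L (by
      intro a b
      have e : P (a * b) = P a * P b + f a • P b + f b • P a := by
        simp only [P, LinearMap.sub_apply, LinearMap.id_apply, LinearMap.comp_apply, AlgHom.toLinearMap_apply,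
          Algebra.linearMap_apply, map_mul, Algebra.smul_def]
        ring
      have e2 : l (P a * P b) = 0 := hl2 _ (by rw [pow_two]; exact Ideal.mul_mem_mul (hP a) (hP b))
      simp only [L, LinearMap.comp_apply, e, map_add, map_smul, e2, zero_add, LinearMap.toSpanSingleton_apply, smul_eq_mul, add_smul]
      rw [mul_smul_comm, mul_smul_comm, htf, htf, smul_smul, smul_smul, mul_comm (f a), mul_comm (f b)])
    have h1 : D x = 0 := by rw [Subsingleton.elim D 0]; rfl
    have h2 : D x = l x • t := by
      show l (P x) • t = _
      rw [show P x = x by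
        rw [← hf, RingHom.mem_ker] at hxm
        simp [P, hxm]]
    rw [h2] at h1
    exact hl0 ((smul_eq_zero.mp h1).resolve_right ht0)
  · intro h
    haveI := formallyEtale_of_isReduced k A
    exact (KaehlerDifferential.linearMapEquivDerivation k A).symm.toEquiv.subsingleton

end Groth.Agent.S17321
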