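import Groth.Statements.S17323
import Groth.Agent.CommAlg4.FiniteAlgClosed
import Groth.Agent.S15706
import Mathlib.Algebra.Azumaya.Basic
import Mathlib.Algebra.DualNumber
import Mathlib.Algebra.Module.StablyFree.Basic
import Mathlib.NumberTheory.Padics.PadicIntegers
import Mathlib.RingTheory.Etale.StandardEtale
import Mathlib.RingTheory.WittVector.Domain
import Mathlib.RingTheory.WittVector.Teichmuller
import Mathlib.Tactic
import Groth.Agent.CommAlg4.FiniteAlgClosed
import Groth.Agent.S15706

set_option linter.all false

set_option autoImplicit false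
universe u v
open CAlg

open Groth.Agent.CommAlg4

namespace Groth.Agent.S17323

/-- Let k be an algebraically closed field and A a commutative k-algebra which is finite-dimensional as
a k-vector space. Then A has a largest reduced subalgebra: a k-subalgebra B which is reduced and
contains every reduced k-subalgebra of A; moreover the composite of the inclusion B → A with the
projection A → A/nilradical(A) is bijective. -/
theorem result (k : Type u) [Field k] [IsAlgClosed k]
    (A : Type v) [CommRing A] [Algebra k A] [Module.Finite k A] :
    ∃ B : Subalgebra k A, IsReduced ↥B ∧ (∀ C : Subalgebra k A, IsReduced ↥C → C ≤ B) ∧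
      Function.Bijective ((Ideal.Quotient.mkₐ k (nilradical A)).comp B.val) := by
  haveI := isReduced_quotient_nilradical A
  haveI := formallyEtale_of_isReduced k (A ⧸ nilradical A)
  have hN := nilradical_isNilpotent k A
  let s := Algebra.FormallySmooth.lift _ hN (AlgHom.id k (A ⧸ nilradical A))
  have hs : ∀ x, Ideal.Quotient.mk (nilradical A) (s x) = x := fun x => Algebra.FormallySmooth.mk_lift _ hN _ x
  refine ⟨s.range, ?_, fun C hC => ?_, ?_, ?_⟩
  · refine ⟨fun x hx => ?_⟩
    obtain ⟨y, hy⟩ := x.2
    have h2 : IsNilpotent y := by
      have := (hx.map s.range.val).map (Ideal.Quotient.mk (nilradical A))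
      rwa [show (s.range.val x : A) = x.1 from rfl, ← hy, show s.toRingHom y = s y from rfl, hs] at this
    apply Subtype.ext
    rw [← hy, show s.toRingHom y = s y from rfl, h2.eq_zero, map_zero]; rfl
  · haveI : Module.Finite k C := inferInstance
    haveI := formallyEtale_of_isReduced k C
    have : C.val = s.comp ((Ideal.Quotient.mkₐ k (nilradical A)).comp C.val) :=
      Algebra.FormallyUnramified.lift_unique _ hN _ _ (AlgHom.ext fun x => (hs _).symm)
    intro x hx
    exact ⟨_, (AlgHom.congr_fun this ⟨x, hx⟩).symm⟩
  · rintro ⟨_, a, rfl⟩ ⟨_, b, rfl⟩ h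
    have h' : a = b := by
      have h' : Ideal.Quotient.mk (nilradical A) (s a) = Ideal.Quotient.mk (nilradical A) (s b) := h
      rwa [hs, hs] at h'
    subst h'; rfl
  · intro y; exact ⟨⟨s y, y, rfl⟩, hs y⟩

end Groth.Agent.S17323
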