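import Groth.Statements.S17324
import Groth.Agent.CommAlg4.FiniteAlgClosed
import Groth.Agent.S15706
import Mathlib.Algebra.Azumaya.Basic
import Mathlib.Algebra.DualNumber
import Mathlib.Algebra.Module.StablyFree.Basic
import Mathlib.NumberTheory.Padics.PadicIntegers
import Mathlib.RingTheory.Etale.StandardEtale
import Mathlib.RingTheory.WittVector.Domain
import Mathlib.RingTheory.WittVector.Teichmuller
import Mathlib.Tactic
import Groth.Agent.CommAlg4.FiniteAlgClosed
import Groth.Agent.S15706

set_option linter.all false

set_option autoImplicit false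
universe u v
open CAlg

open Groth.Agent.CommAlg4

namespace Groth.Agent.S17324

/-- (i) ⟺ (ii): let k be an algebraically closed field, A a commutative k-algebra which is
finite-dimensional as a k-vector space and is a local ring with maximal ideal m, and a_1, …, a_m ∈
m. Then A is generated as a k-algebra by a_1, …, a_m if and only if m is generated as an ideal by
a_1, …, a_m. (The printed lemma has a third equivalent condition, that the images of the a_i span
m/m²; its equivalence with (ii) is Nakayama's lemma.) -/
theorem result (k : Type u) [Field k] [IsAlgClosed k]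
    (A : Type v) [CommRing A] [Algebra k A] [Module.Finite k A] [IsLocalRing A]
    (m : ℕ) (a : Fin m → A) (ha : ∀ i, a i ∈ IsLocalRing.maximalIdeal A) :
    Algebra.adjoin k (Set.range a) = ⊤ ↔ Ideal.span (Set.range a) = IsLocalRing.maximalIdeal A := by
  obtain ⟨f, hf⟩ := exists_point k A (IsLocalRing.maximalIdeal A)
  have hle : Ideal.span (Set.range a) ≤ IsLocalRing.maximalIdeal A := Ideal.span_le.mpr (by rintro _ ⟨i, rfl⟩; exact ha i)
  constructor
  · intro h
    refine le_antisymm hle fun x hx => ?_
    have key : ∀ y ∈ Algebra.adjoin k (Set.range a), y - algebraMap k A (f y) ∈ Ideal.span (Set.range a) := by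
      intro y hy
      induction hy using Algebra.adjoin_induction with
      | mem y hy =>
        obtain ⟨i, rfl⟩ := hy
        rw [show f (a i) = 0 by rw [← RingHom.mem_ker, hf]; exact ha i, map_zero, sub_zero]
        exact Ideal.subset_span ⟨i, rfl⟩
      | algebraMap r => simp
      | add y z _ _ hy hz => convert add_mem hy hz using 1; simp; ring
      | mul y z _ _ hy hz => convert add_mem (Ideal.mul_mem_left _ y hz) (Ideal.mul_mem_left _ (algebraMap k A (f z)) hy) using 1; simp; ring
    have := key x (h ▸ Algebra.mem_top)
    rw [← hf, RingHom.mem_ker] at hx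
    simpa [hx] using this
  · intro h
    set S := Algebra.adjoin k (Set.range a)
    haveI : IsArtinianRing A := IsArtinianRing.of_finite k A
    obtain ⟨N, hN⟩ := (isArtinianRing_iff_isNilpotent_maximalIdeal A).mp inferInstance
    have key : ∀ j, ∀ x : A, ∃ s ∈ S, x - s ∈ IsLocalRing.maximalIdeal A ^ j := by
      intro j; induction j with
      | zero => intro x; exact ⟨0, zero_mem _, by simp⟩
      | succ j ih =>
        intro x
        obtain ⟨c, hc⟩ : ∃ c : Fin m → A, ∑ i, c i * a i = x - algebraMap k A (f x) := by
          rw [← Ideal.mem_span_range_iff_exists_fun, h, ← hf, RingHom.mem_ker]; simp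
        choose s hs hs' using fun i => ih (c i)
        refine ⟨algebraMap k A (f x) + ∑ i, s i * a i, add_mem (S.algebraMap_mem _) (sum_mem fun i _ => mul_mem (hs i) (Algebra.subset_adjoin ⟨i, rfl⟩)), ?_⟩
        rw [← sub_sub, ← hc, ← Finset.sum_sub_distrib]
        refine sum_mem fun i _ => ?_
        rw [← sub_mul, pow_succ]
        exact Ideal.mul_mem_mul (hs' i) (ha i)
    refine eq_top_iff.mpr fun x _ => ?_
    obtain ⟨s, hs, hxs⟩ := key N x
    rw [hN, Ideal.zero_eq_bot, Ideal.mem_bot, sub_eq_zero] at hxs
    exact hxs ▸ hs

end Groth.Agent.S17324
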