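import Groth.Statements.S17325
import Mathlib
import Groth.Prelude

set_option linter.all false

set_option autoImplicit false
universe u v
open LieAlg

open IsLocalRing TensorProduct

set_option maxRecDepth 4000

namespace Groth.Agent.S17325

/-- Let k be an algebraically closed field of characteristic p > 0, V a finite-dimensional k-vector
space and g a nonzero k-linear subspace of End_k(V) closed under the p-th power map u ↦ u^p. Then g
contains a nonzero u with u^p = c u for some c ∈ k, i.e. a line k u closed under p-th powers. (The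
published lemma concerns an abstract nonzero finite-dimensional restricted Lie algebra; this row
concerns subspaces of End_k(V) closed under p-th powers, a class that contains every restricted Lie
subalgebra of gl(V).) -/
theorem result (k : Type u) [Field k] [IsAlgClosed k]
    (p : ℕ) [Fact p.Prime] [CharP k p] (V : Type v) [AddCommGroup V] [Module k V] [FiniteDimensional k V]
    (g : Submodule k (Module.End k V)) (hg : ∀ u ∈ g, u ^ p ∈ g) (hne : g ≠ ⊥) :
    ∃ u ∈ g, u ≠ 0 ∧ ∃ c : k, u ^ p = c • u := by
  classical
  have hp : p.Prime := Fact.out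
  obtain ⟨u, hu, hu0⟩ := (Submodule.ne_bot_iff g).1 hne
  let v : ℕ → Module.End k V := fun i => u ^ p ^ i
  have hv : ∀ i, v i ∈ g := fun i => by
    induction i with
    | zero => simpa [v] using hu
    | succ i ih => simpa [v, pow_succ, pow_mul] using hg _ ih
  have hex : ∃ m, v m ∈ Submodule.span k (Set.range fun i : Fin m => v i) := by
    by_contra h
    push Not at h
    have : ∀ m, LinearIndependent k (fun i : Fin m => v i) := by
      intro m
      induction m with
      | zero => exact linearIndependent_empty_type
      | succ m ih => exact linearIndependent_fin_succ'.2 ⟨ih, h m⟩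
    have := (this (Module.finrank k (Module.End k V) + 1)).fintype_card_le_finrank
    simp at this
  let m := Nat.find hex
  have hli : ∀ l ≤ m, LinearIndependent k (fun i : Fin l => v i) := by
    intro l
    induction l with
    | zero => exact fun _ => linearIndependent_empty_type
    | succ l ih => exact fun hl => linearIndependent_fin_succ'.2 ⟨ih (by omega), Nat.find_min hex (by omega)⟩
  obtain ⟨n, hn⟩ : ∃ n, m = n + 1 := Nat.exists_eq_succ_of_ne_zero (fun h0 => by
    have := Nat.find_spec hex
    rw [show Nat.find hex = 0 from h0] at this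
    simp [v] at this
    exact hu0 this)
  have hind := hli (n + 1) hn.ge
  have hspec := Nat.find_spec hex
  rw [show Nat.find hex = n + 1 from hn] at hspec
  obtain ⟨a', ha'⟩ := (Submodule.mem_span_range_iff_exists_fun k).1 hspec
  let a : ℕ → k := fun i => if h : i < n + 1 then a' ⟨i, h⟩ else 0
  have ha : ∑ i ∈ Finset.range (n + 1), a i • v i = v (n + 1) := by
    rw [Finset.sum_range, ← ha']
    exact Finset.sum_congr rfl fun i _ => by simp [a, i.isLt, Fin.isLt]; intro h; omega
  have hzero : ∀ x : ℕ → k, ∑ i ∈ Finset.range (n + 1), x i • v i = 0 → x n = 0 := fun x hx => by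
    rw [Finset.sum_range] at hx
    exact Fintype.linearIndependent_iff.1 hind (fun i => x i) hx (Fin.last n)
  have hpow : ∀ x : ℕ → k, (∑ i ∈ Finset.range (n + 1), x i • v i) ^ p = ∑ i ∈ Finset.range (n + 1), x i ^ p • v (i + 1) := by
    intro x
    have e : ∀ (y : ℕ → k) (f : ℕ → ℕ), Polynomial.aeval u (∑ i ∈ Finset.range (n + 1), Polynomial.C (y i) * Polynomial.X ^ p ^ f i) =
        ∑ i ∈ Finset.range (n + 1), y i • v (f i) := fun y f => by
      simp [map_sum, v, Algebra.smul_def]
    rw [show (∑ i ∈ Finset.range (n + 1), x i • v i) = ∑ i ∈ Finset.range (n + 1), x i • v (id i) from rfl, ← e x id, ← map_pow, sum_pow_char p, ← e (fun i => x i ^ p) (· + 1)]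
    congr 1
    refine Finset.sum_congr rfl fun i _ => ?_
    simp [mul_pow, ← pow_mul, pow_succ]
  have hmem : ∀ x : ℕ → k, ∑ i ∈ Finset.range (n + 1), x i • v i ∈ g := fun x =>
    Submodule.sum_mem _ fun i _ => g.smul_mem _ (hv i)
  by_cases ha0 : a 0 = 0
  · choose r hr using fun i => IsAlgClosed.exists_pow_nat_eq (a (i + 1)) hp.pos
    let x : ℕ → k := fun i => if i < n then r i else -1
    refine ⟨_, hmem x, fun h => by simpa [x] using hzero x h, 0, ?_⟩
    rw [zero_smul, hpow, Finset.sum_range_succ, show x n = -1 by simp [x], neg_pow, neg_one_pow_char k p]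
    rw [← ha, Finset.sum_range_succ', ha0, zero_smul, add_zero]
    rw [one_pow, mul_one, neg_one_smul, ← sub_eq_add_neg, sub_eq_zero]
    exact Finset.sum_congr rfl fun i hi => by rw [show x i = r i by simp [x, Finset.mem_range.1 hi], hr]
  · let c : ℕ → k := fun j => a j ^ p ^ (n - j)
    let Q : Polynomial k := ∑ j ∈ Finset.range (n + 1), Polynomial.C (c j) * Polynomial.X ^ (p ^ (n + 1 - j) - 1) - 1
    have hdeg : Q.degree ≠ 0 := by
      have hpos : 1 < p ^ (n + 1) := Nat.one_lt_pow (by omega) hp.one_lt
      have hcoef : Q.coeff (p ^ (n + 1) - 1) = c 0 := by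
        simp only [Q, Polynomial.coeff_sub, Polynomial.finsetSum_coeff, Polynomial.coeff_C_mul_X_pow, Polynomial.coeff_one]
        rw [Finset.sum_eq_single 0 (fun j hj hj0 => if_neg fun h => by
          have h1 : p ^ (n + 1 - j) < p ^ (n + 1) := Nat.pow_lt_pow_right hp.one_lt (by simp at hj; omega)
          have h2 := Nat.one_le_pow (n + 1 - j) p hp.pos
          omega) (by simp)]
        simp [show p ^ (n + 1) - 1 ≠ 0 by omega]
      intro hd
      have h0 := Polynomial.le_natDegree_of_ne_zero (hcoef.trans_ne (pow_ne_zero _ ha0))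
      have h00 : Q.natDegree = 0 := Polynomial.natDegree_eq_of_degree_eq_some hd
      omega
    obtain ⟨T, hT⟩ := IsAlgClosed.exists_root Q hdeg
    have hT0 : T ≠ 0 := by
      rintro rfl
      simp only [Q, Polynomial.IsRoot.def, Polynomial.eval_sub, Polynomial.eval_finset_sum, Polynomial.eval_mul, Polynomial.eval_C,
        Polynomial.eval_pow, Polynomial.eval_X, Polynomial.eval_one] at hT
      rw [Finset.sum_eq_zero fun j hj => by
        have : 1 < p ^ (n + 1 - j) := Nat.one_lt_pow (by simp at hj; omega) hp.one_lt
        rw [zero_pow (by omega), mul_zero]] at hT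
      simp at hT
    let x : ℕ → k := fun i => Nat.rec (a 0 * T ^ p) (fun i xi => xi ^ p + a (i + 1) * T ^ p) i
    have hx : ∀ i, x i = ∑ j ∈ Finset.range (i + 1), a j ^ p ^ (i - j) * T ^ p ^ (i + 1 - j) := fun i => by
      induction i with
      | zero => simp [x]
      | succ i ih =>
        show x i ^ p + a (i + 1) * T ^ p = _
        rw [ih, sum_pow_char p, Finset.sum_range_succ _ (i + 1)]
        congr 1
        · refine Finset.sum_congr rfl fun j hj => ?_
          simp at hj
          rw [mul_pow, ← pow_mul, ← pow_mul, ← pow_succ, ← pow_succ, show i + 1 - j = i - j + 1 by omega,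
            show i + 1 + 1 - j = i - j + 1 + 1 by omega]
        · simp
    have hxn : x n = T := by
      simp only [Q, Polynomial.IsRoot.def, Polynomial.eval_sub, Polynomial.eval_finset_sum, Polynomial.eval_mul, Polynomial.eval_C,
        Polynomial.eval_pow, Polynomial.eval_X, Polynomial.eval_one, sub_eq_zero] at hT
      rw [hx]
      conv_rhs => rw [← one_mul T, ← hT, Finset.sum_mul]
      refine Finset.sum_congr rfl fun j _ => ?_
      rw [mul_assoc, pow_sub_one_mul (pow_ne_zero _ hp.ne_zero)]
    refine ⟨_, hmem x, fun h => hT0 (hxn ▸ hzero x h), 1, ?_⟩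
    rw [one_smul, hpow, Finset.sum_range_succ, hxn, ← ha, Finset.smul_sum, Finset.sum_range_succ' (fun i => T ^ p • a i • v i),
      ← add_assoc, ← Finset.sum_add_distrib, Finset.sum_range_succ' (fun i => x i • v i)]
    congr 1
    · exact Finset.sum_congr rfl fun i _ => by
        rw [smul_smul, ← add_smul, mul_comm (T ^ p)]
    · rw [smul_smul, mul_comm (T ^ p)]; rfl

end Groth.Agent.S17325
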