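import Groth.Statements.S17326
import Groth.Agent.CommAlg4.FiniteAlgClosed
import Groth.Agent.S15706
import Mathlib.Algebra.Azumaya.Basic
import Mathlib.Algebra.DualNumber
import Mathlib.Algebra.Module.StablyFree.Basic
import Mathlib.NumberTheory.Padics.PadicIntegers
import Mathlib.RingTheory.Etale.StandardEtale
import Mathlib.RingTheory.WittVector.Domain
import Mathlib.RingTheory.WittVector.Teichmuller
import Mathlib.Tactic
import Groth.Agent.CommAlg4.FiniteAlgClosed
import Groth.Agent.S15706

set_option linter.all false

set_option autoImplicit false
universe u v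
open CAlg

open Groth.Agent.CommAlg4

namespace Groth.Agent.S17326

/-- Let k be an algebraically closed field of characteristic p > 0, A a commutative k-algebra which is
finite-dimensional as a k-vector space (a finite k-scheme X), and n ≥ 1. The n-th iterated relative
Frobenius morphism X → X^(p^n) is an isomorphism if and only if X is reduced; on rings: the map a ↦
a^(p^n) of A to itself (which is the ring homomorphism underlying the relative Frobenius, the twist
A^(p^n) having the same underlying ring as A) is bijective if and only if A is reduced. -/
theorem result (k : Type u) [Field k] [IsAlgClosed k]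
    (p : ℕ) [Fact p.Prime] [CharP k p] (A : Type v) [CommRing A] [Algebra k A] [Module.Finite k A]
    (n : ℕ) (hn : 1 ≤ n) :
    Function.Bijective (fun a : A => a ^ p ^ n) ↔ IsReduced A := by
  constructor
  · intro h
    rw [isReduced_iff_pow_one_lt (p ^ n) (Nat.one_lt_pow (by omega) (Fact.out : p.Prime).one_lt)]
    intro x hx
    exact h.1 (show x ^ p ^ n = 0 ^ p ^ n by rw [hx, zero_pow (pow_ne_zero n (Fact.out : p.Prime).ne_zero)])
  · intro h
    haveI : ExpChar k p := ExpChar.prime Fact.out
    have he := evalPoints_bijective k A
    set e := AlgHom.pi (R := k) (fun f : A →ₐ[k] k => f)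
    have hk : Function.Bijective (fun c : k => c ^ p ^ n) :=
      ⟨iterateFrobenius_inj k p n, fun c => (IsAlgClosed.exists_pow_nat_eq c (pow_pos (Fact.out : p.Prime).pos n))⟩
    refine ⟨fun a b hab => he.1 (funext fun f => hk.1 ?_), fun y => ?_⟩
    · have := congrFun (congrArg e hab) f
      simpa only [map_pow, Pi.pow_apply] using this
    · choose c hc using fun f => hk.2 (e y f)
      obtain ⟨a, ha⟩ := he.2 c
      refine ⟨a, he.1 (funext fun f => ?_)⟩
      rw [map_pow, Pi.pow_apply, ha]; exact hc f

end Groth.Agent.S17326
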