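import Groth.Statements.S17327
import Groth.Agent.S7963
import Mathlib.RingTheory.Ideal.IdempotentFG
import Mathlib.RingTheory.Artinian.Ring

set_option autoImplicit false
universe u v
open Hopf

namespace Groth.Agent.S17327

/-- Let k be an algebraically closed field of characteristic p > 0, A a commutative Hopf algebra over k
which is finite-dimensional as a k-vector space (a finite group scheme G = Spec A), I the
augmentation ideal (kernel of the counit) and n ≥ 1. The n-th Frobenius kernel G_n is the closed
subgroup scheme cut out by the ideal generated by the p^n-th powers f^(p^n), f ∈ I; it is trivial,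
i.e. that ideal equals I, if and only if G is reduced. -/
theorem result (k : Type u) [Field k] [IsAlgClosed k]
    (p : ℕ) [Fact p.Prime] [CharP k p] (A : Type v) [CommRing A] [HopfAlgebra k A] [Module.Finite k A]
    (n : ℕ) (hn : 1 ≤ n) :
    Ideal.span ((fun f : A => f ^ p ^ n) '' (RingHom.ker (Bialgebra.counitAlgHom k A) : Set A)) =
      RingHom.ker (Bialgebra.counitAlgHom k A) ↔ IsReduced A := by
  haveI : IsNoetherianRing A := isNoetherian_of_tower k inferInstance
  haveI : Algebra.FiniteType k A := inferInstance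
  constructor
  · intro h
    refine Groth.Agent.S7963.result k A (fun x hx => ?_)
    have hxI : x ∈ RingHom.ker (Bialgebra.counitAlgHom k A) :=
      IsNilpotent.eq_zero (IsNilpotent.map hx (Bialgebra.counitAlgHom k A))
    have hle : Ideal.span ((fun f : A => f ^ p ^ n) '' (RingHom.ker (Bialgebra.counitAlgHom k A) : Set A)) ≤
        RingHom.ker (Bialgebra.counitAlgHom k A) ^ 2 := by
      rw [Ideal.span_le]
      rintro _ ⟨f, hf, rfl⟩
      exact Ideal.pow_le_pow_right (show 2 ≤ p ^ n from
        (Nat.Prime.two_le Fact.out).trans (Nat.le_self_pow (by omega) p)) (Ideal.pow_mem_pow hf _)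
    exact hle (h.symm ▸ hxI)
  · intro _
    set I := RingHom.ker (Bialgebra.counitAlgHom k A) with hI
    haveI : IsArtinianRing A := isArtinian_of_tower k inferInstance
    obtain ⟨m, hm⟩ := IsArtinian.monotone_stabilizes (R := A) (M := A)
      ⟨fun r => OrderDual.toDual (I ^ (r + 1)), fun a b hab => Ideal.pow_le_pow_right (Nat.succ_le_succ hab)⟩
    have hidem : IsIdempotentElem (I ^ (m + 1)) := by
      show I ^ (m + 1) * I ^ (m + 1) = I ^ (m + 1)
      rw [← pow_add]
      exact (congrArg OrderDual.ofDual (hm (m + 1 + m) (by omega))).symm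
    obtain ⟨e, he, hIe⟩ := (Ideal.isIdempotentElem_iff_of_fg _ (IsNoetherian.noetherian _)).1 hidem
    refine le_antisymm ?_ fun x hx => ?_
    · rw [Ideal.span_le]
      rintro _ ⟨f, hf, rfl⟩
      exact Ideal.pow_mem_of_mem _ hf _ (pow_pos (Nat.Prime.pos Fact.out) n)
    · have heI : e ∈ I := Ideal.pow_le_self (Nat.succ_ne_zero m) (hIe.symm ▸ Ideal.mem_span_singleton_self e)
      have hxe : x * (1 - e) = 0 := by
        refine IsNilpotent.eq_zero ⟨m + 1, ?_⟩
        obtain ⟨c, hc⟩ := Ideal.mem_span_singleton'.1 (hIe ▸ Ideal.pow_mem_pow hx (m + 1))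
        rw [mul_pow, ← hc, he.one_sub.pow_succ_eq m, mul_assoc, mul_sub, mul_one, he.eq, sub_self, mul_zero]
      rw [mul_sub, mul_one, sub_eq_zero] at hxe
      rw [hxe]
      refine Ideal.mul_mem_left _ _ (Ideal.subset_span ⟨e, heI, ?_⟩)
      obtain ⟨r, hr⟩ := Nat.exists_eq_succ_of_ne_zero (pow_pos (Nat.Prime.pos (Fact.out (p := p.Prime))) n).ne'
      show e ^ p ^ n = e
      rw [hr]
      exact he.pow_succ_eq r

end Groth.Agent.S17327
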