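import Groth.Statements.S17328
import Groth.Agent.SGA3cLib.HeightOne
import Groth.Agent.S16077
import Groth.Agent.HopfQuot.UnipotentInduction

set_option autoImplicit false
universe u v
open Hopf

namespace Groth.Agent.S17328
open Groth.Agent

/-- Let k be an algebraically closed field of characteristic p > 0 and A a commutative Hopf algebra over
k, finite-dimensional as a k-vector space, with augmentation ideal I (kernel of the counit), such
that f^p = 0 for every f ∈ I (the finite group scheme G = Spec A is infinitesimal of height at most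
one: A is then a local ring with maximal ideal I). Then the order of G is dim_k A = p^n where n =
dim_k I/I² is the dimension of the Lie algebra of G. -/
theorem result (k : Type u) [Field k] [IsAlgClosed k]
    (p : ℕ) [Fact p.Prime] [CharP k p] (A : Type v) [CommRing A] [HopfAlgebra k A] [Module.Finite k A]
    (h1 : ∀ f : A, Bialgebra.counitAlgHom k A f = 0 → f ^ p = 0) :
    Module.finrank k A = p ^ Module.finrank k (RingHom.ker (Bialgebra.counitAlgHom k A)).Cotangent := by
  haveI : Algebra.FiniteType k A := inferInstance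
  obtain ⟨B, _, _, f, g, -, hgf, hfg⟩ := HopfQuot.exists_small_bialgEquiv (k := k) A
  let e : B ≃ₐ[k] A := AlgEquiv.ofBijective (f : B →ₐ[k] A) ⟨Function.LeftInverse.injective hgf, fun a => ⟨g a, hfg a⟩⟩
  haveI : Module.Finite k B := Module.Finite.equiv e.symm.toLinearEquiv
  have hε : ∀ b, Bialgebra.counitAlgHom k A (e b) = Bialgebra.counitAlgHom k B b :=
    fun b => CoalgHomClass.counit_comp_apply f b
  have h1B : ∀ b : B, Bialgebra.counitAlgHom k B b = 0 → b ^ p = 0 := fun b hb => by
    apply e.injective
    rw [map_pow, map_zero]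
    exact h1 _ ((hε b).trans hb)
  let IA := RingHom.ker (Bialgebra.counitAlgHom k A)
  let IB := RingHom.ker (Bialgebra.counitAlgHom k B)
  have hfin : Module.finrank k A = Module.finrank k B := e.toLinearEquiv.finrank_eq.symm
  have hcot : Module.finrank k IA.Cotangent = Module.finrank k IB.Cotangent := by
    let F := Ideal.mapCotangent IB IA (e : B →ₐ[k] A) (fun x hx => (hε x).trans hx)
    let G := Ideal.mapCotangent IA IB (e.symm : A →ₐ[k] B) (fun x hx => by
      show Bialgebra.counitAlgHom k B (e.symm x) = 0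
      rw [← hε, e.apply_symm_apply]
      exact hx)
    refine (LinearEquiv.ofLinear F G ?_ ?_).finrank_eq.symm
    · refine LinearMap.ext fun x => ?_
      obtain ⟨⟨a, ha⟩, rfl⟩ := Ideal.toCotangent_surjective _ x
      exact congrArg (Ideal.toCotangent IA) (Subtype.ext (e.apply_symm_apply a))
    · refine LinearMap.ext fun x => ?_
      obtain ⟨⟨a, ha⟩, rfl⟩ := Ideal.toCotangent_surjective _ x
      exact congrArg (Ideal.toCotangent IB) (Subtype.ext (e.symm_apply_apply a))
  rw [hfin]
  refine Eq.trans ?_ (congrArg (p ^ ·) hcot.symm)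
  have hp2 := (Fact.out : p.Prime).two_le
  haveI : IsNoetherianRing B := IsNoetherianRing.of_finite k B
  have hnil : IsNilpotent IB := (Ideal.FG.isNilpotent_iff_le_nilradical (IsNoetherian.noetherian IB)).2
    fun x hx => ⟨p, h1B x hx⟩
  obtain ⟨r, x, d, hx, hd, hdx, hspan, hbij⟩ :=
    (SGA3cLib.CounitalMul.ofBialgebra k B hnil).exists_truncated_coords p (fun y hy => h1B y hy)
  obtain ⟨e1⟩ := SGA3cLib.nonempty_algEquiv_truncated x (fun i => h1B _ (hx i)) hbij
  obtain ⟨e2⟩ := SGA3cLib.exists_algEquiv_frobeniusKernel k p B hnil _ rfl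
  have hJ : Ideal.span ((fun a : B => a ^ p) '' (IB : Set B)) = ⊥ := by
    rw [Ideal.span_eq_bot]
    rintro _ ⟨a, ha, rfl⟩
    exact h1B a ha
  let e3 : B ≃ₐ[k] B ⧸ Ideal.span ((fun a : B => a ^ p) '' (IB : Set B)) :=
    (AlgEquiv.quotientBot k B).symm.trans (Ideal.quotientEquivAlgOfEq k hJ.symm)
  let φ := e1.symm.trans (e3.trans e2)
  have hs : ∀ n, Ideal.span (Set.range fun i : Fin n => (MvPolynomial.X i : MvPolynomial (Fin n) k) ^ p ^ 1) =
      Ideal.span (Set.range fun i : Fin n => (MvPolynomial.X i : MvPolynomial (Fin n) k) ^ p) := fun n => by simp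
  obtain ⟨σ, -⟩ := S16077.result p k r _ (fun _ => 1) (fun _ => 1) (fun _ => le_rfl) (fun _ => le_rfl)
    ((Ideal.quotientEquivAlgOfEq k (hs r)).trans (φ.trans (Ideal.quotientEquivAlgOfEq k (hs _)).symm))
  have hr : r = Module.finrank k IB.Cotangent := (Fintype.card_fin r).symm.trans ((Fintype.card_congr σ).trans (Fintype.card_fin _))
  rw [← (LinearEquiv.ofBijective _ hbij).finrank_eq, ← hr]
  simp [Module.finrank_fintype_fun_eq_card]

end Groth.Agent.S17328
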