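import Groth.Statements.S17332
import Mathlib.RingTheory.Derivation.Basic
import Mathlib.RingTheory.Flat.Equalizer
import Mathlib.RingTheory.Henselian
import Mathlib.RingTheory.Regular.RegularSequence
import Mathlib.RingTheory.RegularLocalRing.Defs
import Mathlib.RingTheory.SimpleRing.Principal
import Mathlib.RingTheory.Flat.FaithfullyFlat.Algebra
import Mathlib.RingTheory.Ideal.AssociatedPrime.Basic
import Mathlib.RingTheory.HopkinsLevitzki
import Mathlib.RingTheory.Support
import Mathlib.Tactic
import Groth.Agent.CommAlg4.Basic

set_option linter.all false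

set_option autoImplicit false
universe u v w
open CAlg

open Groth.Agent.CommAlg4

namespace Groth.Agent.S17332

/-- Let k be a field, E and F finite sets, and O(E), O(F) the k-algebras of k-valued functions with
pointwise operations. Then every k-algebra homomorphism u : O(F) → O(E) is pull-back along a unique
map φ : E → F, i.e. u(g) = g ∘ φ for all g. (In the source k is algebraically closed; the printed
argument only uses that k is a field.) -/
theorem result (k : Type u) [Field k] (E : Type v) [Finite E]
    (F : Type w) [Finite F] (u : (F → k) →ₐ[k] (E → k)) :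
    ∃! φ : E → F, ∀ g : F → k, u g = g ∘ φ := by
  classical
  cases nonempty_fintype F
  have h : ∀ e : E, ∃ x : F, ∀ g : F → k, u g e = g x := by
    intro e
    have h1 : ∑ x : F, u (Pi.single x 1) e = 1 := by
      rw [← Finset.sum_apply, ← map_sum]
      rw [show ∑ x : F, Pi.single x (1:k) = 1 from Finset.univ_sum_single 1, map_one]; rfl
    obtain ⟨x, hx⟩ : ∃ x, u (Pi.single x 1) e ≠ 0 := by
      by_contra! h0; simp [h0] at h1
    refine ⟨x, fun g => mul_right_cancel₀ hx ?_⟩
    have : g * Pi.single x 1 = g x • Pi.single x (1:k) := by
      ext y; by_cases hy : y = x <;> simp [hy]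
    have h2 := congrFun (congrArg u this) e
    simpa using h2
  choose φ hφ using h
  refine ⟨φ, fun g => funext fun e => hφ e g, fun ψ hψ => funext fun e => ?_⟩
  by_contra hne
  have h1 := congrFun (hψ (Pi.single (φ e) 1)) e
  rw [hφ e] at h1
  simp [hne] at h1

end Groth.Agent.S17332
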