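import Groth.Statements.S17333
import Mathlib.RingTheory.Derivation.Basic
import Mathlib.RingTheory.Flat.Equalizer
import Mathlib.RingTheory.Henselian
import Mathlib.RingTheory.Regular.RegularSequence
import Mathlib.RingTheory.RegularLocalRing.Defs
import Mathlib.RingTheory.SimpleRing.Principal
import Mathlib.RingTheory.Flat.FaithfullyFlat.Algebra
import Mathlib.RingTheory.Ideal.AssociatedPrime.Basic
import Mathlib.RingTheory.HopkinsLevitzki
import Mathlib.RingTheory.Support
import Mathlib.Tactic
import Groth.Agent.CommAlg4.Basic

set_option linter.all false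

set_option autoImplicit false
universe u v w
open CAlg

open Groth.Agent.CommAlg4

namespace Groth.Agent.S17333

/-- Let k be a field and A = B × C a decomposable commutative k-algebra. Then the natural map Der(B) ×
Der(C) → Der(A) is bijective: every k-derivation D : A → A is (b, c) ↦ (D₁ b, D₂ c) for a unique
pair of k-derivations D₁ : B → B, D₂ : C → C. Compatibility with brackets is not stated. (The
published statement takes k algebraically closed; this row takes any field.) -/
theorem result (k : Type u) [Field k] (B : Type v) [CommRing B] [Algebra k B]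
    (C : Type w) [CommRing C] [Algebra k C] (D : Derivation k (B × C) (B × C)) :
    ∃! P : Derivation k B B × Derivation k C C, ∀ (b : B) (c : C), D (b, c) = (P.1 b, P.2 c) := by
  have hB : ∀ b : B, (D (b, 0)).2 = 0 := by
    intro b
    have h := congrArg Prod.snd (D.leibniz (b, (0:C)) ((1:B), (0:C)))
    simpa using h
  have hC : ∀ c : C, (D (0, c)).1 = 0 := by
    intro c
    have h := congrArg Prod.fst (D.leibniz ((0:B), c) ((0:B), (1:C)))
    simpa using h
  let P1 : Derivation k B B := Derivation.mk' ((LinearMap.fst k B C) ∘ₗ (D : B × C →ₗ[k] B × C) ∘ₗ (LinearMap.inl k B C)) (by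
    intro a b
    have h := congrArg Prod.fst (D.leibniz (a, (0:C)) (b, (0:C)))
    simpa using h)
  let P2 : Derivation k C C := Derivation.mk' ((LinearMap.snd k B C) ∘ₗ (D : B × C →ₗ[k] B × C) ∘ₗ (LinearMap.inr k B C)) (by
    intro a b
    have h := congrArg Prod.snd (D.leibniz ((0:B), a) ((0:B), b))
    simpa using h)
  refine ⟨(P1, P2), fun b c => ?_, ?_⟩
  · have : D (b, c) = D (b, 0) + D (0, c) := by rw [← map_add]; simp
    rw [this]; ext <;> simp [P1, P2, hB, hC]
  · rintro ⟨Q1, Q2⟩ h
    refine Prod.ext (Derivation.ext fun b => ?_) (Derivation.ext fun c => ?_)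
    · simpa [P1] using (congrArg Prod.fst (h b 0)).symm
    · simpa [P2] using (congrArg Prod.snd (h 0 c)).symm

end Groth.Agent.S17333
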