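import Groth.Statements.S17334
import Mathlib.RingTheory.Etale.Weakly
import Mathlib.RingTheory.HopkinsLevitzki
import Mathlib.RingTheory.LocalRing.Pullback
import Mathlib.RingTheory.PicardGroup
import Mathlib.RingTheory.TotallySplit
import Mathlib.RingTheory.WittVector.Basic
import Mathlib.Tactic
import Groth.Agent.CommAlg4.Nilpotent

set_option linter.all false

set_option autoImplicit false
universe u v
open CAlg

open Groth.Agent.CommAlg4

namespace Groth.Agent.S17334

/-- Let k be a field and A a nonzero commutative k-algebra which is finite-dimensional as a k-vector
space. Then A is indecomposable (no decomposition as a product of two nonzero rings, i.e. no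
idempotent other than 0 and 1) if and only if A is a local ring. (In the source k is algebraically
closed and the lemma adds that the maximal ideal is then the nilradical, is nilpotent, and has
residue field k; the equivalence itself uses only that k is a field, and the zero algebra is
excluded here explicitly.) -/
theorem result (k : Type u) [Field k]
    (A : Type v) [CommRing A] [Algebra k A] [Module.Finite k A] [Nontrivial A] :
    (∀ e : A, IsIdempotentElem e → e = 0 ∨ e = 1) ↔ IsLocalRing A := by
  haveI : IsArtinianRing A := IsArtinianRing.of_finite k A
  constructor
  · intro h
    refine IsLocalRing.of_nonunits_add (fun {a b} ha hb => ?_)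
    have key : ∀ x : A, x ∈ nonunits A → IsNilpotent x := by
      intro x hx
      obtain ⟨n, y, hy⟩ := IsArtinian.exists_pow_succ_smul_dvd x (1 : A)
      simp only [smul_eq_mul, mul_one] at hy
      have h2 : ∀ j, x ^ n = x ^ (n + j) * y ^ j := by
        intro j; induction j with
        | zero => simp
        | succ j ih => calc x ^ n = x ^ (n + j) * y ^ j := ih
                          _ = x ^ j * (x ^ n) * y ^ j := by ring
                          _ = x ^ j * (x ^ n.succ * y) * y ^ j := by rw [hy]
                          _ = _ := by rw [Nat.succ_eq_add_one]; ring
      have he : IsIdempotentElem (x ^ n * y ^ n) := by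
        unfold IsIdempotentElem
        calc _ = (x ^ (n + n) * y ^ n) * y ^ n := by ring
          _ = _ := by rw [← h2 n]
      rcases h _ he with he | he
      · exact ⟨n, by rw [h2 n]; calc _ = x ^ n * (x ^ n * y ^ n) := by ring
                                   _ = 0 := by rw [he, mul_zero]⟩
      · rcases Nat.eq_zero_or_pos n with h0 | h0
        · exfalso; subst h0
          simp at hy; exact hx (IsUnit.of_mul_eq_one _ hy)
        · exact absurd ((isUnit_pow_iff h0.ne').mp (IsUnit.of_mul_eq_one _ he)) hx
    intro hu
    exact not_isUnit_zero (M₀ := A) (by
      obtain ⟨m, hm⟩ := (Commute.all a b).isNilpotent_add (key a ha) (key b hb)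
      exact hm ▸ hu.pow m)
  · intro hl e he
    rcases IsLocalRing.isUnit_or_isUnit_of_add_one (add_sub_cancel e 1) with hu | hu
    · right
      exact hu.mul_right_cancel (he.eq.trans (one_mul e).symm)
    · left
      exact hu.mul_left_eq_zero.mp (by rw [mul_sub, mul_one, he.eq, sub_self])

end Groth.Agent.S17334
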