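import Groth.Statements.S17341
import Groth.Agent.Mod22.CB.Main
import Groth.Agent.Surf15.RRCor
import Groth.Agent.SerreDual.TwistEquiv
import Groth.Agent.CycLib28.PB.Ops.TensorFree
import Groth.Agent.AbSchLib.SmoothReduced
import Groth.Agent.PicLib.PicMonoid
-- import your own Groth.Agent.* helpers here

set_option autoImplicit false
universe u
open CategoryTheory CategoryTheory.Limits AlgebraicGeometry
open AdjLin
open TopologicalSpace
open Groth.Agent.Coherent Groth.Agent.PicLib Groth.Agent.AmpleLib Groth.Agent.EulerLib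
set_option backward.isDefEq.respectTransparency.types false
set_option linter.style.haveILetI false
set_option maxHeartbeats 1000000

namespace Groth.Agent.S17341

/-- Let k be an algebraically closed field of characteristic zero and X a smooth projective surface over
k (irreducible, proper, smooth of dimension 2, with an ample invertible module), ω a second exterior
power of Ω_{X/k}, L an invertible O_X-module and Z ⊆ X a finite set of closed points, viewed as a
reduced finite subscheme with ideal sheaf I_Z (the vanishing ideal of the closed set Z). Then the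
following are equivalent: (a) there are a locally free O_X-module E of rank 2, a section s : O_X → E
and a map E → L ⊗ I_Z making 0 → O_X → E → L ⊗ I_Z → 0 a short exact sequence (the Koszul complex of
a rank-2 bundle of determinant L with a section vanishing exactly on Z); (b) for every point z of Z,
every global section of L ⊗ ω whose zero scheme contains all the other points of Z also vanishes at
z. -/
theorem result (k : Type u) [Field k] [IsAlgClosed k] [CharZero k]
    (X : Scheme.{u}) [X.Over (Spec (CommRingCat.of k))] [IsProper (X ↘ (Spec (CommRingCat.of k)))]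
    [Smooth (X ↘ (Spec (CommRingCat.of k)))] [IrreducibleSpace X] (hdim : topologicalKrullDim X = 2)
    (H : X.Modules) (hH : CohB1.IsAmple H)
    (L : X.Modules) (hL : PicF.IsInvertible L)
    (ω : X.Modules) (hω : ExtPow.IsExtPow 2 (Omega.sheaf (X ↘ (Spec (CommRingCat.of k)))) ω)
    (Z : Finset X) (hZc : IsClosed ((Z : Set X))) (hZ : ∀ z ∈ Z, IsClosed ({z} : Set X)) :
    (∃ (E : X.Modules) (sE : Coh.structureModule X ⟶ E)
        (p : E ⟶ CohB1.tensorMod L (ClSub.idealMod (Scheme.IdealSheafData.vanishingIdeal ⟨(Z : Set X), hZc⟩)))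
        (w : sE ≫ p = 0), FlatMod.IsFinLocFreeOfRank 2 E ∧ (ShortComplex.mk sE p w).ShortExact) ↔
      (∀ z ∈ Z, ∀ σ : Coh.structureModule X ⟶ CohB1.tensorMod L ω,
        (∀ z' ∈ Z, z' ≠ z → z' ∈ (PicF2.zeroScheme (CohB1.tensorMod L ω) σ).support) →
          z ∈ (PicF2.zeroScheme (CohB1.tensorMod L ω) σ).support) := by
  haveI : IsReduced X := AbSchLib.isReduced_of_smooth (X ↘ Spec (CommRingCat.of k))
  haveI : IsIntegral X := isIntegral_of_irreducibleSpace_of_isReduced X
  haveI := isNoetherian_of_proper (X := X) k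
  have hX : topologicalKrullDim X = ((2 : ℕ) : WithBot ℕ∞) := hdim
  have hWi : PicF.IsInvertible ω := Surf15.isInvertible_canonical k hX hω
  obtain ⟨N, ⟨eN⟩⟩ := VarietyLib.exists_isInverseOf hWi
  have hNi : PicF.IsInvertible N :=
    PicM.isInvertible_of_tensor hWi (glocus_isInvertible_of_iso eN.symm isInvertible_structureModule)
  let Z' : Closeds X := ⟨(Z : Set X), hZc⟩
  let I := ClSub.idealMod (Scheme.IdealSheafData.vanishingIdeal Z')
  let A := CohB1.tensorMod L ω
  have hA : PicF.IsInvertible A := isInvertible_tensorMod hL hWi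
  obtain ⟨a₁⟩ := EulerLib.exists_assocIso' I hL hWi
  let e₁ : CohB1.tensorMod (CohB1.tensorMod L I) ω ≅ Mod22.CB.Tw A Z' :=
    AmpleLib.tensorIso (tensorComm L I) (Iso.refl ω) ≪≫ a₁
  obtain ⟨a₂⟩ := EulerLib.exists_assocIso' (CohB1.tensorMod L I) hWi hNi
  let e₂ : CohB1.tensorMod (Mod22.CB.Tw A Z') N ≅ CohB1.tensorMod L I :=
    AmpleLib.tensorIso e₁.symm (Iso.refl N) ≪≫ a₂ ≪≫
      AmpleLib.tensorIso (Iso.refl _) eN ≪≫ tensorComm _ _ ≪≫ unitTensorIso _
  refine Iff.trans ?_ ((Mod22.CB.exists_extension_iff k hX hω hWi hA Z' Z.finite_toSet hZ).trans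
    ⟨fun h z hz σ hσ => h z hz σ hσ, fun h z hz σ hσ => h z hz σ hσ⟩)
  constructor
  · rintro ⟨E, sE, p, w, hE, hS⟩
    have h1 := EulerLib.twistSeq_shortExact hWi hS
    let T := EulerLib.twistSeq (ShortComplex.mk sE p w) ω
    refine ⟨CohB1.tensorMod E ω, (unitTensorIso ω).inv ≫ T.f, T.g ≫ e₁.hom, ?_, ?_, ?_⟩
    · exact (Category.assoc _ _ _).trans (((unitTensorIso ω).inv ≫= ((Category.assoc _ _ _).symm.trans
        ((T.zero =≫ e₁.hom).trans zero_comp))).trans comp_zero)
    · exact CycLib28.PB.Ops.isFinLocFreeOfRank_tensor hE (PicLib.isFinLocFreeOfRank_one hWi)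
    · exact ShortComplex.shortExact_of_iso
        (ShortComplex.isoMk (S₁ := T) (unitTensorIso ω) (Iso.refl _) e₁
          (by
            show (unitTensorIso ω).hom ≫ (unitTensorIso ω).inv ≫ T.f = T.f ≫ 𝟙 _
            rw [Iso.hom_inv_id_assoc, Category.comp_id])
          (by
            show 𝟙 _ ≫ T.g ≫ e₁.hom = T.g ≫ e₁.hom
            rw [Category.id_comp])) h1
  · rintro ⟨V, u, v, w, hV, hS⟩
    have h1 := EulerLib.twistSeq_shortExact hNi hS
    let T := EulerLib.twistSeq (ShortComplex.mk u v w) N
    refine ⟨CohB1.tensorMod V N, eN.inv ≫ T.f, T.g ≫ e₂.hom, ?_, ?_, ?_⟩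
    · exact (Category.assoc _ _ _).trans ((eN.inv ≫= ((Category.assoc _ _ _).symm.trans
        ((T.zero =≫ e₂.hom).trans zero_comp))).trans comp_zero)
    · exact CycLib28.PB.Ops.isFinLocFreeOfRank_tensor hV (PicLib.isFinLocFreeOfRank_one hNi)
    · exact ShortComplex.shortExact_of_iso
        (ShortComplex.isoMk (S₁ := T) eN (Iso.refl _) e₂
          (by
            show eN.hom ≫ eN.inv ≫ T.f = T.f ≫ 𝟙 _
            rw [Iso.hom_inv_id_assoc, Category.comp_id])
          (by
            show 𝟙 _ ≫ T.g ≫ e₂.hom = T.g ≫ e₂.hom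
            rw [Category.id_comp])) h1

end Groth.Agent.S17341
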