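import Groth.Statements.S17344
import Groth.Agent.Mod22.CB.LciSetup
import Groth.Agent.Lef23.ProZeroX
import Groth.Agent.Surf15.SerreApps
import Groth.Agent.Surf15.JetSections
import Groth.Agent.Surf15.Inverse
import Groth.Agent.PointBlow14.Basic
import Groth.Agent.BlowUpPlane.Algebra
import Groth.Agent.FlatMorStrat.Supported
-- import your own Groth.Agent.* helpers here

set_option autoImplicit false
set_option linter.style.haveILetI false
set_option backward.isDefEq.respectTransparency.types false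
set_option maxHeartbeats 2000000
universe u
open CategoryTheory CategoryTheory.Limits AlgebraicGeometry
open AdjLin

namespace Groth.Agent.S17344

open AlgebraicGeometry CategoryTheory CategoryTheory.Limits TopologicalSpace Opposite
open Groth.Agent.Coherent Groth.Agent.PicLib Groth.Agent.AmpleLib Groth.Agent.EulerLib Groth.Agent.CurveRR24
open Groth.Agent.Misc15.DivDescent

/-- A local algebra with rational residue field and maximal ideal generated by two elements has
`m^n` of colength at most `n(n+1)/2`. -/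
theorem finrank_quot_pow_le {k A : Type u} [Field k] [CommRing A] [Algebra k A] (g : Fin 2 → A)
    (hres : ∀ r : A, ∃ c : k, r - algebraMap k A c ∈ Ideal.span (Set.range g)) (n : ℕ) :
    Module.Finite k (A ⧸ Ideal.span (Set.range g) ^ n) ∧
      Module.finrank k (A ⧸ Ideal.span (Set.range g) ^ n) ≤ (n + 1).choose 2 := by
  set m := Ideal.span (Set.range g) with hm
  let φ : MvPolynomial (Fin 2) k →ₐ[k] A ⧸ m ^ n := MvPolynomial.aeval fun i => Ideal.Quotient.mk (m ^ n) (g i)
  have hker : ∀ q ∈ (MvPolynomial.idealOfVars (Fin 2) k) ^ n, φ q = 0 := by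
    intro q hq
    have h1 : ((MvPolynomial.idealOfVars (Fin 2) k) ^ n).map φ.toRingHom ≤ ⊥ := by
      rw [Ideal.map_pow, show (⊥ : Ideal (A ⧸ m ^ n)) = (m ^ n).map (Ideal.Quotient.mk (m ^ n)) from
        (Ideal.map_quotient_self _).symm, Ideal.map_pow]
      refine Ideal.pow_right_mono ?_ n
      rw [MvPolynomial.idealOfVars, Ideal.map_span, show Ideal.map (Ideal.Quotient.mk (m ^ n)) m = Ideal.span (Ideal.Quotient.mk (m ^ n) '' Set.range g) from Ideal.map_span _ _]
      refine Ideal.span_mono ?_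
      rintro _ ⟨_, ⟨i, rfl⟩, rfl⟩
      exact ⟨g i, ⟨i, rfl⟩, by simp [φ]⟩
    exact (Ideal.mem_bot).1 (h1 (Ideal.mem_map_of_mem _ hq))
  have hsurj : ∀ j : ℕ, ∀ r : A, ∃ q, ∃ a ∈ m ^ j, Ideal.Quotient.mk (m ^ n) r = φ q + Ideal.Quotient.mk (m ^ n) a := by
    intro j
    induction j with
    | zero => exact fun r => ⟨0, r, by simp, by simp⟩
    | succ j ih =>
      intro r
      obtain ⟨c, hc⟩ := hres r
      rw [hm, Ideal.mem_span_range_iff_exists_fun] at hc
      obtain ⟨a, ha⟩ := hc
      choose q b hb hqb using fun i => ih (a i)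
      refine ⟨MvPolynomial.C c + ∑ i, q i * MvPolynomial.X i, ∑ i, b i * g i,
        Submodule.sum_mem _ fun i _ => by
          rw [pow_succ]; exact Ideal.mul_mem_mul (hb i) (Ideal.subset_span ⟨i, rfl⟩), ?_⟩
      have hr : r = algebraMap k A c + ∑ i, a i * g i := by rw [ha]; ring
      rw [hr, map_add, map_sum, map_add, map_sum, map_sum, MvPolynomial.algHom_C, add_assoc, ← Finset.sum_add_distrib]
      refine congrArg₂ (· + ·) rfl (Finset.sum_congr rfl fun i _ => ?_)
      rw [map_mul, map_mul, map_mul, hqb, MvPolynomial.aeval_X, add_mul]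
  have hφ : Function.Surjective φ := by
    intro z
    obtain ⟨r, rfl⟩ := Ideal.Quotient.mk_surjective z
    obtain ⟨q, a, ha, h⟩ := hsurj n r
    exact ⟨q, by rw [h, Ideal.Quotient.eq_zero_iff_mem.2 ha, add_zero]⟩
  let ψ := Ideal.Quotient.liftₐ _ φ hker
  have hψ : Function.Surjective ψ := fun z => by
    obtain ⟨q, rfl⟩ := hφ z
    exact ⟨Ideal.Quotient.mk _ q, rfl⟩
  rcases Nat.eq_zero_or_pos n with rfl | hn
  · haveI : Subsingleton (A ⧸ m ^ 0) := Ideal.Quotient.subsingleton_iff.2 ((pow_zero m).trans Ideal.one_eq_top)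
    exact ⟨inferInstance, by rw [Module.finrank_zero_of_subsingleton]; exact Nat.zero_le _⟩
  haveI : Module.Finite k (MvPolynomial (Fin 2) k ⧸ (MvPolynomial.idealOfVars (Fin 2) k) ^ n) :=
    Module.finite_of_finrank_pos (by rw [BlowUpPlane.finrank_quot_pow]; exact Nat.choose_pos (by omega))
  exact ⟨Module.Finite.of_surjective ψ.toLinearMap hψ, (BlowUpPlane.finrank_quot_pow (k := k) n) ▸
    ψ.toLinearMap.finrank_le_finrank_of_surjective hψ⟩

/-- Coordinates of sections modulo a power of the maximal ideal at a closed point of a surface. -/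
theorem exists_coordMap (k : Type u) [Field k] [IsAlgClosed k] {X : Scheme.{u}}
    [X.Over (Spec (CommRingCat.of k))] [IsProper (X ↘ Spec (CommRingCat.of k))] [IsIntegral X]
    (z : X) (hz : IsClosed ({z} : Set X)) [IsRegularLocalRing (X.presheaf.stalk z)]
    (hd : ringKrullDim (X.presheaf.stalk z) = 2) {P : X.Modules} (hP : PicF.IsInvertible P) (n : ℕ) :
    ∃ (W : Type u) (_ : AddCommGroup W) (_ : Module k W) (_ : Module.Finite k W)
      (T : GA (baseHom k X) P →ₗ[k] W), Module.finrank k W ≤ (n + 1).choose 2 ∧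
      ∀ s : Γ(P, ⊤), T s = 0 →
        PicF2.zeroScheme P (unitDesc P s) ≤ Scheme.IdealSheafData.vanishingIdeal ⟨{z}, hz⟩ ^ n := by
  classical
  haveI := isNoetherian_of_proper (X := X) k
  let O := X.presheaf.stalk z
  letI : Algebra k O := Curv2.stalkAlgebra k X z
  have hfg : (IsLocalRing.maximalIdeal O).FG := IsNoetherian.noetherian _
  have hcard : (Submodule.generators (IsLocalRing.maximalIdeal O)).ncard = 2 := by
    rw [Submodule.FG.generators_ncard hfg]
    have h := IsRegularLocalRing.spanFinrank_maximalIdeal (R := O)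
    rw [hd] at h
    exact_mod_cast h
  obtain ⟨a, b, -, hab⟩ := Set.ncard_eq_two.1 hcard
  let g : Fin 2 → O := ![a, b]
  have hg : Ideal.span (Set.range g) = IsLocalRing.maximalIdeal O := by
    rw [show Set.range g = {a, b} by simp [g, Matrix.range_cons, Matrix.range_empty, Set.pair_comm], ← hab]
    exact Submodule.span_generators _
  have hres : ∀ r : O, ∃ c : k, r - algebraMap k O c ∈ Ideal.span (Set.range g) := by
    intro r
    rw [hg]
    letI := Curv2.resAlgebra k X z
    haveI := finite_resField hz k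
    obtain ⟨c, hc⟩ := (IsAlgClosed.algebraMap_bijective_of_isIntegral (k := k) (K := X.residueField z)).2
      (X.residue z r)
    refine ⟨c, (IsLocalRing.residue_eq_zero_iff _).1 ?_⟩
    rw [map_sub, sub_eq_zero]
    exact hc.symm
  obtain ⟨hfin, hle⟩ := finrank_quot_pow_le g hres n
  rw [hg] at hfin hle
  obtain ⟨U, hU, hzU, -⟩ := exists_isAffineOpen_mem_and_subset (x := z) (U := (⊤ : X.Opens)) trivial
  obtain ⟨V, hzV, e₀, he₀⟩ := exists_isGen hP z
  obtain ⟨W, hW, hzW, hWV⟩ := exists_isAffineOpen_mem_and_subset (x := z) (U := V) hzV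
  have he := he₀.restrict hWV
  set e := resM P hWV e₀
  let c : Γ(P, ⊤) → O := fun s => X.presheaf.germ W z hzW (he.coef le_rfl (resM P le_top s))
  have hc_add : ∀ s t : Γ(P, ⊤), c (s + t) = c s + c t := fun s t => by
    show X.presheaf.germ W z hzW (he.coef le_rfl (resM P le_top (s + t))) = _
    rw [map_add (resM P le_top), he.coef_add, map_add]
  have hc_smul : ∀ (a : k) (s : GA (baseHom k X) P), c (show Γ(P, ⊤) from a • s) = algebraMap k O a * c s := fun a s => by
    show X.presheaf.germ W z hzW (he.coef le_rfl (resM P le_top (baseHom k X a • (show Γ(P, ⊤) from s)))) = _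
    rw [resM_smul, he.coef_smul, map_mul]
    congr 1
    exact TopCat.Presheaf.germ_res_apply X.presheaf (homOfLE (le_top : W ≤ ⊤)) z hzW _
  refine ⟨O ⧸ IsLocalRing.maximalIdeal O ^ n, inferInstance, inferInstance, hfin,
    { toFun := fun s => Ideal.Quotient.mk _ (c s)
      map_add' := fun s t => (congrArg _ (hc_add s t)).trans (map_add _ _ _)
      map_smul' := fun a s => by
        rw [RingHom.id_apply]
        refine (congrArg _ (hc_smul a s)).trans ?_
        rw [map_mul, Algebra.smul_def]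
        rfl }, hle, fun s hs => ?_⟩
  have hs' : c s ∈ IsLocalRing.maximalIdeal O ^ n := Ideal.Quotient.eq_zero_iff_mem.1 hs
  refine Mod22.CB.le_iff_stk.2 fun x => ?_
  rw [SDiv28.CartierPart.stk_pow]
  by_cases hx : x = z
  · subst hx
    rw [Mod22.CB.stk_pt_self hz, stk_span _ ⟨W, hW⟩ (ZeroSchLib.zeroScheme_ideal_eq_span _ hP ⟨W, hW⟩ he) hzW,
      Ideal.span_le, Set.singleton_subset_iff]
    have h1 : unitVal (unitDesc P s) W = resM P le_top s := by
      rw [← resM_unitVal (unitDesc P s) (le_top : W ≤ ⊤), unitVal_unitDesc, resM_resM]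
    rw [h1]
    exact hs'
  · rw [SDiv28.CartierPart.stk_eq_top (J := Scheme.IdealSheafData.vanishingIdeal ⟨{z}, hz⟩) (by
      intro h
      exact hx ((Scheme.IdealSheafData.coe_support_vanishingIdeal (Z := (⟨{z}, hz⟩ : Closeds X))).le h)),
      Ideal.top_pow]
    exact le_top

/-- Let k be an algebraically closed field of characteristic zero, X a smooth projective surface over k
(irreducible, proper, smooth of dimension 2, with an ample invertible module), L an ample invertible
O_X-module with tensor inverse L⁻¹, and Z a finite set of closed points of X such that the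
self-intersection number (L²), the alternating sum of Euler characteristics attached to two copies
of L⁻¹, exceeds 4 · #Z. Then for every sufficiently large m there is a non-zero global section of
(⋂_{z ∈ Z} m_z^(2m+1)) ⊗ L^{⊗m}: a divisor in the linear series of L^{⊗m} with multiplicity greater
than 2m at every point of Z. (In the source L is the ample determinant of a globally generated
rank-2 bundle E and Z the reduced zero set of a section of E, so that (L²) = c_1(E)² and #Z =
c_2(E); the assertion is the dimension count under c_1(E)² > 4 c_2(E).) -/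
theorem result (k : Type u) [Field k] [IsAlgClosed k] [CharZero k]
    (X : Scheme.{u}) [X.Over (Spec (CommRingCat.of k))] [IsProper (X ↘ (Spec (CommRingCat.of k)))]
    [Smooth (X ↘ (Spec (CommRingCat.of k)))] [IrreducibleSpace X] (hdim : topologicalKrullDim X = 2)
    (H : X.Modules) (hH : CohB1.IsAmple H)
    (L Linv : X.Modules) (hL : CohB1.IsAmple L) (hLinv : ClSub.IsInverseOf Linv L)
    (Z : Finset X) (hZ : ∀ z ∈ Z, IsClosed ({z} : Set X))
    (hsq : 4 * (Z.card : ℤ) < FGA.intNum k X 2 (fun _ : Fin 2 => Linv) (Coh.structureModule X)) :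
    ∃ m₀ : ℕ, ∀ m : ℕ, m₀ ≤ m →
      Nontrivial (Coh.HH X (CohB1.tensorMod
        (ClSub.idealMod (⨅ z : ↥Z, (W4c2seshadripos.pointIdeal (z : X) (hZ z z.2)) ^ (2 * m + 1)))
        (CohB1.tensorPow L m)) 0) := by
  classical
  haveI : IsReduced X := WeilLib.isReduced_of_smooth (X ↘ Spec (CommRingCat.of k))
  haveI : IsIntegral X := isIntegral_of_irreducibleSpace_of_isReduced X
  haveI := isNoetherian_of_proper (X := X) k
  have hX : topologicalKrullDim X = ((2 : ℕ) : WithBot ℕ∞) := by rw [hdim]; rfl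
  have hreg : ∀ x : X, IsRegularLocalRing (X.presheaf.stalk x) := fun x =>
    VarietyLib.isRegularLocalRing_stalk_of_smooth k X (X ↘ Spec (CommRingCat.of k)) x
  have hLi : PicF.IsInvertible L := hL.1
  set l := InvCl.mk L hLi
  -- the self-intersection
  have hLinvi : PicF.IsInvertible Linv := by
    obtain ⟨e⟩ := hLinv
    exact Surf15.isInvertible_inverse hLi ⟨AmpleLib.tensorComm _ _ ≪≫ e⟩
  have hvi : InvCl.mk Linv hLinvi * l = 1 := by
    obtain ⟨e⟩ := hLinv
    exact InvCl.mk_eq _ _ e
  have hB : 4 * (Z.card : ℤ) < Surf15.B k l l := by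
    have e : (fun _ : Fin 2 => Linv) = ![Linv, Linv] := by funext i; fin_cases i <;> rfl
    rw [e, Surf15.intNum_eq_B k hX.le hLinvi hLinvi,
      Surf15.B_inv_inv k hX.le ((mul_comm _ _).trans hvi) ((mul_comm _ _).trans hvi)] at hsq
    exact hsq
  obtain ⟨n₀, hn₀⟩ := Serre.exists_subsingleton_HH_twist (A := k) hL (Coh.structureModule X) (isCoh_structureModule X)
  set c₁ := 2 * (chiCl k (Coh.structureModule X) l - chiCl k (Coh.structureModule X) 1) - Surf15.B k l l
  set c₀ := 2 * chiCl k (Coh.structureModule X) 1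
  refine ⟨n₀ + (6 * Z.card + |c₁| + |c₀| + 2).toNat + 1, fun m hm => ?_⟩
  set P := CohB1.tensorPow L m
  have hP : PicF.IsInvertible P := isInvertible_tensorPow hLi m
  -- the sections
  have hh0 : ((Z.card * (2 * m + 1 + 1).choose 2 : ℕ) : ℤ) < (Module.finrank k (Coh.HH X P 0) : ℤ) := by
    have h2 : Subsingleton (Coh.HH X P 2) := FlatMorStrat.subsingleton_HH_of_iso (unitTensorIso P) 2
      (hn₀ m (by omega) 2 two_pos)
    have h1 := Surf15.euler_three k hX.le (isQCoh_of_isInvertible hP)
    haveI := h2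
    rw [Module.finrank_zero_of_subsingleton (M := Coh.HH X P 2), Nat.cast_zero, add_zero] at h1
    have hchi := Surf15.chi_pow k hX.le l m
    rw [← InvCl.mk_tensorPow hLi m, ← Surf15.euler_eq_chiCl k hX.le hP] at hchi
    change _ = (m * m : ℤ) * Surf15.B k l l + (m : ℤ) * c₁ + c₀ at hchi
    have hch : 2 * ((2 * m + 1 + 1).choose 2 : ℤ) = (2 * (m : ℤ) + 2) * (2 * (m : ℤ) + 1) := by
      have h := Nat.two_dvd_mul_add_one (2 * m + 1)
      rw [Nat.choose_two_right, show 2 * m + 1 + 1 - 1 = 2 * m + 1 from rfl]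
      have : 2 * ((2 * m + 1 + 1) * (2 * m + 1) / 2) = (2 * m + 1 + 1) * (2 * m + 1) :=
        Nat.mul_div_cancel' (by rwa [mul_comm] at h)
      exact_mod_cast this
    have hmb : (6 * (Z.card : ℤ) + |c₁| + |c₀| + 2) < (m : ℤ) := by omega
    have hm1 : (1 : ℤ) ≤ (m : ℤ) := by omega
    have hh1 : (0 : ℤ) ≤ (Module.finrank k (Coh.HH X P 1) : ℤ) := Int.natCast_nonneg _
    have hcard : (0 : ℤ) ≤ (Z.card : ℤ) := Int.natCast_nonneg _
    push_cast
    have a1 : -((m : ℤ) * |c₁|) ≤ (m : ℤ) * c₁ := by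
      nlinarith [neg_abs_le c₁]
    have a2 : (m * m : ℤ) * (4 * (Z.card : ℤ) + 1) ≤ (m * m : ℤ) * Surf15.B k l l := by
      gcongr; omega
    have a3 : (m : ℤ) * (6 * (Z.card : ℤ) + |c₁| + |c₀| + 2) ≤ (m : ℤ) * m := by gcongr
    have a4 : |c₀| ≤ (m : ℤ) * |c₀| := le_mul_of_one_le_left (abs_nonneg _) hm1
    have a5 : 2 * ((Z.card : ℤ) * ((2 * m + 1 + 1).choose 2 : ℤ)) =
        (Z.card : ℤ) * ((2 * (m : ℤ) + 2) * (2 * (m : ℤ) + 1)) := by rw [← hch]; ring
    nlinarith [neg_abs_le c₀, abs_nonneg c₁, abs_nonneg c₀]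
  have hdata : ∀ z : ↥Z, ∃ (W : Type u) (_ : AddCommGroup W) (_ : Module k W) (_ : Module.Finite k W)
      (T : GA (baseHom k X) P →ₗ[k] W), Module.finrank k W ≤ (2 * m + 1 + 1).choose 2 ∧
      ∀ s : Γ(P, ⊤), T s = 0 →
        PicF2.zeroScheme P (unitDesc P s) ≤ Scheme.IdealSheafData.vanishingIdeal ⟨{(z : X)}, hZ z z.2⟩ ^ (2 * m + 1) := fun z =>
    haveI := hreg (z : X)
    exists_coordMap k (z : X) (hZ z z.2) (PointBlow14.dim_stalk k (fun T hT => by
      rw [DimLib.components_eq_univ hT, (Homeomorph.Set.univ X).isHomeomorph.topologicalKrullDim_eq]; exact hdim)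
      (z : X) (hZ z z.2)).1 hP _
  choose W iA iM iF T hTle hT using hdata
  haveI := fun z => iF z
  obtain ⟨s, hs0, hs⟩ : ∃ s : GA (baseHom k X) P, s ≠ 0 ∧ LinearMap.pi T s = 0 := by
    by_contra hno
    push Not at hno
    have hinj : Function.Injective (LinearMap.pi T) := (injective_iff_map_eq_zero _).2 fun s hs => by
      by_contra h
      exact hno s h hs
    have h := LinearMap.finrank_le_finrank_of_injective hinj
    rw [← (hhZero k P).finrank_eq, Module.finrank_pi_fintype] at h
    have h' : ∑ z : ↥Z, Module.finrank k (W z) ≤ Z.card * (2 * m + 1 + 1).choose 2 := by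
      refine (Finset.sum_le_card_nsmul _ _ _ fun z _ => hTle z).trans ?_
      simp
    omega
  let τ := unitDesc P (show Γ(P, ⊤) from s)
  have hτ : unitVal τ ⊤ ≠ 0 := by rw [unitVal_unitDesc, resM_self]; exact hs0
  have hDc := Surf15.isEffCartier_zeroScheme_of_ne_zero hP τ hτ
  obtain ⟨eD⟩ := Inters29.nonempty_tensor_zeroScheme_iso hP τ hDc
  have hle : PicF2.zeroScheme P τ ≤
      ⨅ z : ↥Z, (W4c2seshadripos.pointIdeal (z : X) (hZ z z.2)) ^ (2 * m + 1) :=
    le_iInf fun z => hT z s (congrFun hs z)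
  haveI : Mono (Lef23.idealIncl hle) := by
    haveI := AmpleLib.mono_idealModι (PicF2.zeroScheme P τ)
    exact mono_of_mono_fac (Lef23.idealIncl_ι hle)
  haveI := EulerLib.mono_tensorMap hP (Lef23.idealIncl hle)
  let φ := (AmpleLib.tensorComm _ _ ≪≫ eD).inv ≫ AmpleLib.tensorMap (Lef23.idealIncl hle) (𝟙 P)
  haveI : Nonempty (⊤ : X.Opens) := ⟨⟨Classical.arbitrary X, trivial⟩⟩
  haveI : Nontrivial Γ(Coh.structureModule X, ⊤) := inferInstanceAs (Nontrivial Γ(X, ⊤))
  haveI : Nontrivial (GA (baseHom k X) (CohB1.tensorMod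
      (ClSub.idealMod (⨅ z : ↥Z, (W4c2seshadripos.pointIdeal (z : X) (hZ z z.2)) ^ (2 * m + 1))) P)) :=
    (app_injective_of_mono φ ⊤).nontrivial
  exact (hhZero k _).toEquiv.nontrivial

end Groth.Agent.S17344
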