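import Groth.Statements.S17346
import Groth.Agent.PicBlowUp13.AdjLin

set_option autoImplicit false
universe u
open CategoryTheory CategoryTheory.Limits AlgebraicGeometry
open AdjLin

namespace Groth.Agent.S17346

/-- Let k be an algebraically closed field of characteristic zero, X a smooth projective surface over k
(irreducible, proper, smooth of dimension 2, with an ample invertible module), ω_X a second exterior
power of Ω_{X/k}, L an invertible O_X-module, x a closed point with ideal sheaf m_x, r > 0 an
integer, f : Y → X a blow-up of X at x over k with exceptional ideal I_E = m_x · O_Y, and ω_Y a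
second exterior power of Ω_{Y/k}. Then for every i the k-vector spaces H^i(X, m_x^r ⊗ (L ⊗ ω_X)) and
H^i(Y, I_E^(r+1) ⊗ (f^*L ⊗ ω_Y)) have the same dimension; in divisor notation H^i(X, O_X(K_X + L) ⊗
m_x^r) ≅ H^i(Y, O_Y(K_Y + f^*L − (r+1)E)). (The published statement gives isomorphisms of these
cohomology groups; this row states only that their dimensions agree.) -/
theorem result (k : Type u) [Field k] [IsAlgClosed k] [CharZero k]
    (X : Scheme.{u}) [X.Over (Spec (CommRingCat.of k))] [IsProper (X ↘ (Spec (CommRingCat.of k)))]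
    [Smooth (X ↘ (Spec (CommRingCat.of k)))] [IrreducibleSpace X] (hdim : topologicalKrullDim X = 2)
    (H : X.Modules) (hH : CohB1.IsAmple H)
    (ωX : X.Modules) (hωX : ExtPow.IsExtPow 2 (Omega.sheaf (X ↘ (Spec (CommRingCat.of k)))) ωX)
    (L : X.Modules) (hL : PicF.IsInvertible L)
    (x : X) (hx : IsClosed ({x} : Set X)) (r : ℕ) (hr : 0 < r)
    (Y : Scheme.{u}) [Y.Over (Spec (CommRingCat.of k))] (f : Y ⟶ X) (hf : f ≫ (X ↘ (Spec (CommRingCat.of k))) = Y ↘ (Spec (CommRingCat.of k)))
    (hbl : BlowUp.IsBlowUp f (W4c2seshadripos.pointIdeal x hx))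
    (ωY : Y.Modules) (hωY : ExtPow.IsExtPow 2 (Omega.sheaf (Y ↘ (Spec (CommRingCat.of k)))) ωY) (i : ℕ) :
    Module.finrank k (Coh.HH X (CohB1.tensorMod (ClSub.idealMod ((W4c2seshadripos.pointIdeal x hx) ^ r))
        (CohB1.tensorMod L ωX)) i) =
      Module.finrank k (Coh.HH Y (CohB1.tensorMod
        (ClSub.idealMod ((BlowUp.exceptional f (W4c2seshadripos.pointIdeal x hx)) ^ (r + 1)))
        (CohB1.tensorMod ((Scheme.Modules.pullback f).obj L) ωY)) i) := by
  haveI : AlgebraicGeometry.IsReduced X :=
    haveI : ∀ z : X, _root_.IsReduced (X.presheaf.stalk z) := fun z => by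
      haveI := Groth.Agent.VarietyLib.isRegularLocalRing_stalk_of_smooth k X (X ↘ Spec (CommRingCat.of k)) z
      haveI := Groth.Agent.CAlgH3.isDomain_of_isRegularLocalRing (X.presheaf.stalk z)
      infer_instance
    isReduced_of_isReduced_stalk _
  haveI : IsIntegral X := isIntegral_of_irreducibleSpace_of_isReduced _
  exact Groth.Agent.PicBlowUp13.finrank_twisted_pow k X (by exact_mod_cast hdim) ωX hωX L hL x hx r Y f hf hbl ωY hωY i

end Groth.Agent.S17346
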