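import Groth.Statements.S17348
import Groth.Agent.PicBlowUp13.JetsNef
-- import your own Groth.Agent.* helpers here

set_option autoImplicit false
universe u
open CategoryTheory CategoryTheory.Limits AlgebraicGeometry
open LocPos

namespace Groth.Agent.S17348

/-- Let k be an algebraically closed field of characteristic zero, X a smooth projective surface over k
(irreducible, proper, smooth of dimension 2, with an ample invertible module), ω a second exterior
power of Ω_{X/k}, A an ample invertible O_X-module, x a closed point with ideal sheaf m_x, f : Y → X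
a blow-up of X at x over k with exceptional ideal I_E, and ε > 0 a real number. Suppose there is s₀
such that for all s ≥ s₀ and every natural number r with r · ε > s + 2, the module A^{⊗r} ⊗ ω
separates s-jets at x (H^0(X, A^{⊗r} ⊗ ω) → H^0(X, (A^{⊗r} ⊗ ω) ⊗ O_X/m_x^(s+1)) is surjective).
Then the Seshadri constant of A at x is at least ε: the class f^*A − ε E is nef, deg(f^*A|_{C'}) + ε
· deg(I_E|_{C'}) ≥ 0 for every integral one-dimensional closed subscheme C' ⊆ Y. -/
theorem result (k : Type u) [Field k] [IsAlgClosed k] [CharZero k]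
    (X : Scheme.{u}) [X.Over (Spec (CommRingCat.of k))] [IsProper (X ↘ (Spec (CommRingCat.of k)))]
    [Smooth (X ↘ (Spec (CommRingCat.of k)))] [IrreducibleSpace X] (hdim : topologicalKrullDim X = 2)
    (H : X.Modules) (hH : CohB1.IsAmple H)
    (ω : X.Modules) (hω : ExtPow.IsExtPow 2 (Omega.sheaf (X ↘ (Spec (CommRingCat.of k)))) ω)
    (A : X.Modules) (hA : CohB1.IsAmple A)
    (x : X) (hx : IsClosed ({x} : Set X))
    (Y : Scheme.{u}) [Y.Over (Spec (CommRingCat.of k))] (f : Y ⟶ X) (hf : f ≫ (X ↘ (Spec (CommRingCat.of k))) = Y ↘ (Spec (CommRingCat.of k)))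
    (hbl : BlowUp.IsBlowUp f (W4c2seshadripos.pointIdeal x hx))
    (ε : ℝ) (hε : 0 < ε)
    (hjets : ∃ s₀ : ℕ, ∀ s : ℕ, s₀ ≤ s → ∀ r : ℕ, ((s : ℝ) + 2) < (r : ℝ) * ε →
      W4c2seshadripos.SeparatesJets (CohB1.tensorMod (CohB1.tensorPow A r) ω) x hx s) :
    (∀ (C : Scheme.{u}) (i : C ⟶ Y) [IsClosedImmersion i], IsIntegral C → topologicalKrullDim C = 1 →
      (0 : ℝ) ≤ (Pic13.curveDeg k (i ≫ (Y ↘ (Spec (CommRingCat.of k))))
          ((Scheme.Modules.pullback i).obj ((Scheme.Modules.pullback f).obj A)) : ℝ) +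
        ε * (Pic13.curveDeg k (i ≫ (Y ↘ (Spec (CommRingCat.of k))))
          ((Scheme.Modules.pullback i).obj
            (ClSub.idealMod (BlowUp.exceptional f (W4c2seshadripos.pointIdeal x hx)))) : ℝ)) := by
  intro C i _ hCi hC
  haveI := hCi
  exact Groth.Agent.PicBlowUp13.seshadri_bound k X (hdim.trans Nat.cast_ofNat.symm) ω hω A hA x hx Y f hf hbl ε hε hjets C i hC

end Groth.Agent.S17348
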