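import Groth.Statements.S17355
import Groth.Agent.AzInvLib.Glue
import Groth.Agent.AzInvLib.InnerLocal

set_option autoImplicit false
universe u v w
open scoped TensorProduct
open AzInv

namespace Groth.Agent.S17355

/-- Let `R` be a commutative ring with an involution `lam` whose fixed ring is exactly `S`, assume that
units have square roots locally for the etale topology of `S` (every unit of an etale `S`-algebra
becomes a square in some etale faithfully flat extension), and let `A` be an Azumaya `R`-algebra of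
degree `n ≥ 1` with a `lam`-involution `t`. Then every `R`-algebra automorphism `ψ` of `A` that
commutes with `t` is, locally for the etale topology of `S`, conjugation by a unitary element: there
are an etale faithfully flat `S`-algebra `S'` and a unit `u` of `S' ⊗_S A` with `(id ⊗ t)(u) * u =
1` such that `id ⊗ ψ` is `x ↦ u x u⁻¹` (the map from the unitary group to the automorphism sheaf of
`(A, t)` is an epimorphism). This row states the surjectivity part only; the published statement
also identifies the kernel of the map from the unitary group as the group of norm-one elements of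
`R` (the units `r` of `R` with `lam r * r = 1`), so that the projective unitary group of `(A, t)` is
its automorphism sheaf. (The source states this for an exact quotient of a locally ringed topos with
involution; the row is the affine case `Spec R → Spec S`, with etale coverings of `Spec S` replaced
by a single etale faithfully flat `S`-algebra.) -/
theorem result (S : Type u) (R : Type v) [CommRing S] [CommRing R] [Algebra S R]
    (lam : R ≃ₐ[S] R) (hlam : ∀ r, lam (lam r) = r) (hfix : RInv.IsFixedRing S R lam.toRingEquiv)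
    (hsq : ∀ (S₁ : Type u) [CommRing S₁] [Algebra S S₁] [Algebra.Etale S S₁] (x : S₁ˣ),
      ∃ (S₂ : Type u) (_ : CommRing S₂) (_ : Algebra S₁ S₂) (_ : Algebra.Etale S₁ S₂)
        (_ : Module.FaithfullyFlat S₁ S₂) (y : S₂), y * y = algebraMap S₁ S₂ ↑x)
    (A : Type w) [Ring A] [Algebra S A] [Algebra R A] [IsScalarTower S R A]
    (n : ℕ) (hn : 0 < n) (hA : AzInv.IsAzumayaDeg R A n) (t : AzInv.LamInv R A lam)
    (ψ : A ≃ₐ[R] A) (hψ : AzInv.IsInvHom t t ψ) :
    ∃ (S' : Type u) (_ : CommRing S') (_ : Algebra S S') (_ : Algebra.Etale S S')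
      (_ : Module.FaithfullyFlat S S') (u : (S' ⊗[S] A)ˣ),
      t.bc S lam S' (↑u : S' ⊗[S] A) * ↑u = 1 ∧
        ∀ x : S' ⊗[S] A,
          Algebra.TensorProduct.congr (AlgEquiv.refl : S' ≃ₐ[S'] S') (ψ.restrictScalars S) x =
            ↑u * x * ↑u⁻¹ := by
  classical
  haveI := hA.1
  obtain ⟨τ, hτ⟩ := CSA.exists_retraction_of_isAzumaya (R := R) A
  have hinjA : Function.Injective (algebraMap R A) := fun x y h => by
    have := congrArg τ h
    simpa [Algebra.algebraMap_eq_smul_one, hτ] using this
  have hloc : ∀ p : PrimeSpectrum S, ∃ f, (∃ (u v v' : A) (s : S), v * u = algebraMap S A f ∧ u * v' = algebraMap S A f ∧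
      (∀ a, u * a = ψ a * u) ∧ t u * u = algebraMap S A s ∧ ∃ (x : S) (m : ℕ), s * x = f ^ m) ∧ f ∉ p.asIdeal := fun p => by
    obtain ⟨f, hf, u, v, v', hv, hv', htw⟩ := AzInvLib.exists_inner_fixed (lam := lam.toRingEquiv) hlam hfix ψ p.asIdeal
    have hcent : ∀ b, b * (t u * u) = t u * u * b := fun b => by
      obtain ⟨a, rfl⟩ := t.surjective b
      calc t a * (t u * u) = t (u * a) * u := by rw [t.map_mul, mul_assoc]
        _ = t u * ψ (t a) * u := by rw [htw, t.map_mul, hψ]
        _ = _ := by rw [mul_assoc, ← htw, mul_assoc]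
    obtain ⟨r, hr⟩ := CSA.exists_algebraMap_eq (R := R) hcent
    obtain ⟨s, hs⟩ : r ∈ Set.range (algebraMap S R) := by
      refine (hfix.2 r).1 (hinjA ?_)
      show algebraMap R A (lam r) = algebraMap R A r
      rw [← t.map_algebraMap r, hr, t.map_mul, t.invol]
    have hts : t u * u = algebraMap S A s := by rw [← hr, ← hs, ← IsScalarTower.algebraMap_apply]
    have htS : ∀ (z : S) (a : A), t (z • a) = z • t a := fun z a => (t.linS S lam).map_smul z a
    have hzero : f • v' = f • v := by
      have h := mul_assoc v u v'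
      rw [hv, hv', ← Algebra.smul_def, ← Algebra.commutes, ← Algebra.smul_def] at h
      exact h
    have hprod : algebraMap S A s * (f • (v' * t v')) = algebraMap S A (f ^ 3) := by
      have h1 : f • (v' * u) = algebraMap S A (f ^ 2) := by
        rw [← smul_mul_assoc, hzero, smul_mul_assoc, hv, Algebra.smul_def, ← map_mul, sq]
      calc algebraMap S A s * (f • (v' * t v')) = f • (t u * (u * v') * t v') := by
            rw [← hts, mul_smul_comm]; simp only [mul_assoc]
        _ = f • t (f • (v' * u)) := by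
            rw [hv', ← Algebra.commutes, mul_assoc, ← t.map_mul, ← Algebra.smul_def, htS]
        _ = _ := by
            rw [h1, Algebra.algebraMap_eq_smul_one, htS, t.map_one, Algebra.algebraMap_eq_smul_one (f ^ 3), smul_smul]
            congr 1
            ring
    have hdiv : algebraMap S R s * τ (f • (v' * t v')) = algebraMap S R (f ^ 3) := by
      have h0 := congrArg τ hprod
      have e1 : ∀ (r : R) (a : A), τ (algebraMap R A r * a) = r * τ a := fun r a => by
        rw [← Algebra.smul_def, LinearMap.map_smul, smul_eq_mul]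
      rw [IsScalarTower.algebraMap_apply S R A s, e1, IsScalarTower.algebraMap_apply S R A (f ^ 3),
        ← mul_one (algebraMap R A _), e1, hτ, mul_one] at h0
      exact h0
    obtain ⟨-, y, -, hy⟩ := RInvLib.exists_trace_norm (lam := lam.toRingEquiv) hlam hfix (τ (f • (v' * t v')))
    refine ⟨f, ⟨u, v, v', s, hv, hv', htw, hts, s * y, 6, hfix.1 ?_⟩, hf⟩
    have hl := congrArg lam hdiv
    rw [map_mul, AlgEquiv.commutes, AlgEquiv.commutes] at hl
    rw [show f ^ 6 = f ^ 3 * f ^ 3 by ring, map_mul, map_mul, map_mul, hy]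
    show _ = algebraMap S R (f ^ 3) * algebraMap S R (f ^ 3)
    conv_rhs => arg 2; rw [← hl]
    conv_rhs => arg 1; rw [← hdiv]
    show algebraMap S R s * (algebraMap S R s * (τ (f • (v' * t v')) * lam (τ (f • (v' * t v'))))) = _
    ring
  obtain ⟨k, f, hP, hcov⟩ := AzInvLib.exists_finite_subcover hloc
  choose u v v' s hv hv' htw hts x m hx using hP
  obtain ⟨het, hff⟩ := AzInvLib.faithfullyFlat_pi_away f hcov
  haveI := het
  haveI := hff
  let S₁ := AzInvLib.AwayPi f
  have hsu : IsUnit (fun i => algebraMap S _ (s i) : S₁) := Pi.isUnit_iff.2 fun i => by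
    refine isUnit_of_mul_isUnit_left (y := algebraMap S _ (x i)) ?_
    rw [← map_mul, hx, map_pow]
    exact (IsLocalization.Away.algebraMap_isUnit _).pow _
  obtain ⟨S₂, _, _, _, _, y, hy⟩ := hsq S₁ hsu.unit
  letI : Algebra S S₂ := ((algebraMap S₁ S₂).comp (algebraMap S S₁)).toAlgebra
  haveI : IsScalarTower S S₁ S₂ := IsScalarTower.of_algebraMap_eq' rfl
  haveI : Algebra.Etale S S₂ := Algebra.Etale.comp S S₁ S₂
  haveI : Module.FaithfullyFlat S S₂ := Module.FaithfullyFlat.trans S S₁ S₂
  obtain ⟨U, hU⟩ := AzInvLib.exists_unit_glue f u v v' hv hv'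
  let φ : S₁ ⊗[S] A →ₐ[S] S₂ ⊗[S] A :=
    Algebra.TensorProduct.map (IsScalarTower.toAlgHom S S₁ S₂) (AlgHom.id S A)
  have hyu : IsUnit y := isUnit_of_mul_isUnit_left (y := y) (hy ▸ hsu.map (algebraMap S₁ S₂))
  have hyy : (↑hyu.unit⁻¹ : S₂) * y = 1 := hyu.val_inv_mul
  have hUU : t.bc S lam S₁ (↑U : S₁ ⊗[S] A) * ↑U = (↑hsu.unit : S₁) ⊗ₜ[S] (1 : A) := by
    have e : t.bc S lam S₁ (↑U : S₁ ⊗[S] A) = AzInvLib.glue f 1 (fun i => t (u i)) := by
      rw [hU, AzInvLib.glue, map_sum, AzInvLib.glue]
      exact Finset.sum_congr rfl fun i _ => by rw [AzInv.LamInv.bc_tmul]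
    rw [e, hU, AzInvLib.glue_mul, mul_one, show (fun i => t (u i)) * u = fun i => algebraMap S A (s i) from funext hts,
      AzInvLib.glue_algebraMap]
    simp only [Pi.one_apply, one_mul, IsUnit.unit_spec]
  have hbc : ∀ z, t.bc S lam S₂ (φ z) = φ (t.bc S lam S₁ z) := fun z => by
    induction z using TensorProduct.induction_on with
    | zero => simp
    | add a b ha hb => simp only [map_add, ha, hb]
    | tmul c a => simp [φ]
  have hbc' : ∀ (c : S₂) z, t.bc S lam S₂ ((c ⊗ₜ[S] (1 : A)) * z) = (c ⊗ₜ[S] (1 : A)) * t.bc S lam S₂ z := fun c z => by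
    induction z using TensorProduct.induction_on with
    | zero => simp
    | add a b ha hb => simp only [mul_add, map_add, ha, hb]
    | tmul d a => simp
  have hcomm : ∀ (c : S₂) (z : S₂ ⊗[S] A), (c ⊗ₜ[S] (1 : A)) * z = z * (c ⊗ₜ[S] (1 : A)) := fun c z => by
    induction z using TensorProduct.induction_on with
    | zero => simp
    | add a b ha hb => rw [mul_add, add_mul, ha, hb]
    | tmul d a => simp [mul_comm]
  let W : (S₂ ⊗[S] A)ˣ :=
    ⟨((↑hyu.unit⁻¹ : S₂) ⊗ₜ[S] (1 : A)) * φ ↑U, φ ↑U⁻¹ * (y ⊗ₜ[S] (1 : A)), by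
      rw [mul_assoc, ← mul_assoc (φ _), ← map_mul, Units.mul_inv, map_one, one_mul,
        Algebra.TensorProduct.tmul_mul_tmul, hyy, one_mul, Algebra.TensorProduct.one_def], by
      rw [mul_assoc, ← mul_assoc (y ⊗ₜ[S] (1 : A)), Algebra.TensorProduct.tmul_mul_tmul, mul_comm y, hyy, one_mul,
        ← Algebra.TensorProduct.one_def, one_mul, ← map_mul, Units.inv_mul, map_one]⟩
  refine ⟨S₂, inferInstance, inferInstance, inferInstance, inferInstance, W, ?_, fun z => ?_⟩
  · show t.bc S lam S₂ (((↑hyu.unit⁻¹ : S₂) ⊗ₜ[S] (1 : A)) * φ ↑U) * (((↑hyu.unit⁻¹ : S₂) ⊗ₜ[S] (1 : A)) * φ ↑U) = 1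
    rw [hbc', hbc, mul_assoc, ← mul_assoc (φ (t.bc S lam S₁ ↑U)), ← hcomm, mul_assoc, ← map_mul, hUU]
    simp only [φ, Algebra.TensorProduct.map_tmul, Algebra.TensorProduct.tmul_mul_tmul, mul_one, map_one]
    rw [Algebra.TensorProduct.one_def]
    congr 1
    rw [show (IsScalarTower.toAlgHom S S₁ S₂) ↑hsu.unit = y * y from hy.symm, ← mul_assoc (↑hyu.unit⁻¹ : S₂) y y,
      hyy, one_mul, hyy]
  · have key : ∀ z, φ ↑U * z = Algebra.TensorProduct.congr (AlgEquiv.refl : S₂ ≃ₐ[S₂] S₂) (ψ.restrictScalars S) z * φ ↑U := by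
      intro z
      induction z using TensorProduct.induction_on with
      | zero => simp
      | add a b ha hb => rw [mul_add, ha, hb, map_add, add_mul]
      | tmul c a =>
        rw [hU, AzInvLib.glue, map_sum, Finset.sum_mul, Finset.mul_sum]
        refine Finset.sum_congr rfl fun i _ => ?_
        simp only [φ, Algebra.TensorProduct.map_tmul, Algebra.TensorProduct.congr_apply, Algebra.TensorProduct.tmul_mul_tmul]
        rw [mul_comm]
        congr 1
        exact htw i a
    show _ = ((↑hyu.unit⁻¹ : S₂) ⊗ₜ[S] (1 : A)) * φ ↑U * z * (φ ↑U⁻¹ * (y ⊗ₜ[S] (1 : A)))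
    rw [mul_assoc _ (φ ↑U) z, key, mul_assoc, mul_assoc, ← mul_assoc (φ ↑U), ← map_mul, Units.mul_inv, map_one,
      one_mul, ← hcomm, ← mul_assoc, Algebra.TensorProduct.tmul_mul_tmul, hyy, one_mul,
      ← Algebra.TensorProduct.one_def, one_mul]

end Groth.Agent.S17355
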