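import Groth.Statements.S17357
import Groth.Agent.AzInvLib.Cover
import Groth.Agent.AzInvLib.InnerLocal

set_option autoImplicit false
universe u v w
open scoped TensorProduct
open AzInv

namespace Groth.Agent.S17357

/-- Let `R` be a commutative ring with an involution `lam` whose fixed ring is exactly `S`, let `A` be
an Azumaya `R`-algebra of degree `n ≥ 1` and `ψ` an `R`-algebra automorphism of `A`. Then `ψ`
becomes an inner automorphism after base change along an etale covering of `S` (and not merely of
`R`): there are an etale faithfully flat `S`-algebra `S'` and a unit `u` of `S' ⊗_S A` such that `id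
⊗ ψ` is `x ↦ u x u⁻¹`. (The source states this for a good quotient of schemes by an involution; the
row is the affine case `Spec R → Spec S`.) -/
theorem result (S : Type u) (R : Type v) [CommRing S] [CommRing R] [Algebra S R]
    (lam : R ≃ₐ[S] R) (hlam : ∀ r, lam (lam r) = r) (hfix : RInv.IsFixedRing S R lam.toRingEquiv)
    (A : Type w) [Ring A] [Algebra S A] [Algebra R A] [IsScalarTower S R A]
    (n : ℕ) (hn : 0 < n) (hA : AzInv.IsAzumayaDeg R A n) (ψ : A ≃ₐ[R] A) :
    ∃ (S' : Type u) (_ : CommRing S') (_ : Algebra S S') (_ : Algebra.Etale S S')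
      (_ : Module.FaithfullyFlat S S') (u : (S' ⊗[S] A)ˣ),
      ∀ x : S' ⊗[S] A,
        Algebra.TensorProduct.congr (AlgEquiv.refl : S' ≃ₐ[S'] S') (ψ.restrictScalars S) x =
          ↑u * x * ↑u⁻¹ := by
  classical
  haveI := hA.1
  have hloc : ∀ p : PrimeSpectrum S, ∃ f, (∃ u v v' : A, v * u = algebraMap S A f ∧ u * v' = algebraMap S A f ∧
      ∀ a, u * a = ψ a * u) ∧ f ∉ p.asIdeal := fun p => by
    obtain ⟨f, hf, h⟩ := AzInvLib.exists_inner_fixed (lam := lam.toRingEquiv) hlam hfix ψ p.asIdeal
    exact ⟨f, h, hf⟩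
  obtain ⟨k, f, hP, hcov⟩ := AzInvLib.exists_finite_subcover hloc
  choose u v v' hv hv' htw using hP
  obtain ⟨het, hff⟩ := AzInvLib.faithfullyFlat_pi_away f hcov
  let S' := Π i, Localization.Away (f i)
  let e : Fin k → S' := fun i => Pi.single i 1
  let g : Fin k → S' := fun i => Pi.single i (IsLocalization.Away.invSelf (f i))
  have hee : ∀ i j, i ≠ j → ∀ (a : Localization.Away (f i)) (b : Localization.Away (f j)),
      (Pi.single i a : S') * Pi.single j b = 0 := fun i j hij a b => by
    ext l
    rcases eq_or_ne l i with rfl | hl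
    · simp [Pi.single_eq_of_ne hij]
    · simp [Pi.single_eq_of_ne hl]
  have hge : ∀ i, f i • (g i * e i) = e i := fun i => by
    rw [← Pi.single_mul, ← Pi.single_smul, Algebra.smul_def, mul_one, IsLocalization.Away.mul_invSelf]
  set U : S' ⊗[S] A := ∑ i, e i ⊗ₜ[S] u i
  set V : S' ⊗[S] A := ∑ i, g i ⊗ₜ[S] v i
  set V' : S' ⊗[S] A := ∑ i, g i ⊗ₜ[S] v' i
  have hone : ∑ i, e i ⊗ₜ[S] (1 : A) = (1 : S' ⊗[S] A) := by
    rw [← TensorProduct.sum_tmul, Algebra.TensorProduct.one_def]
    congr 1
    exact Finset.univ_sum_single (1 : S')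
  have hV : V * U = 1 := by
    rw [Finset.sum_mul_sum, ← hone]
    refine Finset.sum_congr rfl fun i _ => ?_
    rw [Finset.sum_eq_single i (fun j _ hj => by
      rw [Algebra.TensorProduct.tmul_mul_tmul, hee i j hj.symm, TensorProduct.zero_tmul]) (by simp),
      Algebra.TensorProduct.tmul_mul_tmul, hv, Algebra.algebraMap_eq_smul_one, ← TensorProduct.smul_tmul, hge]
  have hV' : U * V' = 1 := by
    rw [Finset.sum_mul_sum, ← hone]
    refine Finset.sum_congr rfl fun i _ => ?_
    rw [Finset.sum_eq_single i (fun j _ hj => by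
      rw [Algebra.TensorProduct.tmul_mul_tmul, hee i j hj.symm, TensorProduct.zero_tmul]) (by simp),
      Algebra.TensorProduct.tmul_mul_tmul, hv', Algebra.algebraMap_eq_smul_one, ← TensorProduct.smul_tmul,
      mul_comm, hge]
  have hVV : V = V' := by rw [← mul_one V, ← hV', ← mul_assoc, hV, one_mul]
  refine ⟨S', inferInstance, inferInstance, het, hff, ⟨U, V, hVV ▸ hV', hV⟩, fun x => ?_⟩
  have key : U * x = Algebra.TensorProduct.congr (AlgEquiv.refl : S' ≃ₐ[S'] S') (ψ.restrictScalars S) x * U := by
    induction x using TensorProduct.induction_on with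
    | zero => simp
    | add a b ha hb => rw [mul_add, ha, hb, map_add, add_mul]
    | tmul s a =>
      simp only [U, Finset.sum_mul, Finset.mul_sum, Algebra.TensorProduct.tmul_mul_tmul, Algebra.TensorProduct.congr_apply,
        Algebra.TensorProduct.map_tmul]
      refine Finset.sum_congr rfl fun i _ => ?_
      rw [htw, mul_comm]
      rfl
  show _ = U * x * V
  rw [key, mul_assoc, hVV, hV', mul_one]

end Groth.Agent.S17357
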