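import Groth.Statements.S17358
import Groth.Agent.AzInvLib.SignLocus

set_option autoImplicit false
universe u v w
open scoped TensorProduct
open AzInv

namespace Groth.Agent.S17358

/-- Let `R` be a commutative ring with an involution `lam` whose fixed ring is exactly `S`; assume that
units have square roots locally for the etale topology of `S` (every unit of an etale `S`-algebra
becomes a square in some etale faithfully flat extension), and that either `2` is a unit in `S` and
the quotient `Spec R → Spec S` is everywhere ramified (for no prime `p` of `S` is `S_p ⊗_S R` a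
quadratic etale `S_p`-algebra; the case `R = S` is included), or `R` is a quadratic etale
`S`-algebra (the unramified case). Then every `lam`-involution `t` of an Azumaya `R`-algebra `A` of
degree `n ≥ 1` is ordinary: there are a global invertible `n × n` matrix `w` over `R` and an element
`e` of `R` with `lam`-transpose of `w` equal to `e • w` and `lam e * e = 1`, such that `(A, t)`
becomes isomorphic, after an etale faithfully flat base change of `S`, to the matrix algebra over
`R` with the involution `x ↦ w * (lam-transpose of x) * w⁻¹` (equivalently `x ↦ (a x a⁻¹)` followed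
by the `lam`-transpose, for the global matrix `a` whose `lam`-transpose is `w⁻¹`). (The source
states this for an exact quotient of a locally ringed topos with involution; the row is the affine
case `Spec R → Spec S`, with etale coverings of `Spec S` replaced by a single etale faithfully flat
`S`-algebra.) -/
theorem result (S : Type u) (R : Type v) [CommRing S] [CommRing R] [Algebra S R]
    (lam : R ≃ₐ[S] R) (hlam : ∀ r, lam (lam r) = r) (hfix : RInv.IsFixedRing S R lam.toRingEquiv)
    (hsq : ∀ (S₁ : Type u) [CommRing S₁] [Algebra S S₁] [Algebra.Etale S S₁] (x : S₁ˣ),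
      ∃ (S₂ : Type u) (_ : CommRing S₂) (_ : Algebra S₁ S₂) (_ : Algebra.Etale S₁ S₂)
        (_ : Module.FaithfullyFlat S₁ S₂) (y : S₂), y * y = algebraMap S₁ S₂ ↑x)
    (hram : (IsUnit (2 : S) ∧ ∀ p : PrimeSpectrum S,
        ¬ RInv.IsQuadEtale (Localization.AtPrime p.asIdeal) (Localization.AtPrime p.asIdeal ⊗[S] R)) ∨
      RInv.IsQuadEtale S R)
    (A : Type w) [Ring A] [Algebra S A] [Algebra R A] [IsScalarTower S R A]
    (n : ℕ) (hn : 0 < n) (hA : AzInv.IsAzumayaDeg R A n) (t : AzInv.LamInv R A lam) :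
    ∃ (w : (Matrix (Fin n) (Fin n) R)ˣ) (e : R)
      (hw : AzInv.LamInv.transpose lam (Fin n) hlam (↑w : Matrix (Fin n) (Fin n) R) = e • (↑w : Matrix (Fin n) (Fin n) R))
      (he : lam e * e = 1),
      AzInv.LocIsoEt S lam t ((AzInv.LamInv.transpose lam (Fin n) hlam).conj w e hw he) := by
  classical
  haveI := hA.1
  have φ := fun p => (AzInvLib.exists_split_SH hlam hfix A n hA p).some
  have hcase : (∀ p, AzInvLib.Orth hlam p n t) ∨ (Even n ∧ IsUnit (2 : S) ∧ ∀ p, AzInvLib.IsRam lam p) := by
    rcases hram with ⟨h2, hnq⟩ | hq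
    · by_cases hev : Even n
      · refine Or.inr ⟨hev, h2, fun p => ?_⟩
        by_contra hp
        exact hnq p (AzInvLib.isQuadEtale_localization hlam hfix p hp)
      · refine Or.inl fun p => ?_
        rcases AzInvLib.orth_or_symp hlam hfix p hsq hn (Or.inl h2) (φ p) t with h | ⟨-, -, h, -⟩
        · exact h
        · exact absurd (Nat.not_odd_iff_even.1 h) hev
    · refine Or.inl fun p => ?_
      rcases AzInvLib.orth_or_symp hlam hfix p hsq hn (Or.inr (Or.inl (AzInvLib.not_isRam_of_isQuadEtale hlam hfix hq p)))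
        (φ p) t with h | ⟨h, -⟩
      · exact h
      · exact absurd h (AzInvLib.not_isRam_of_isQuadEtale hlam hfix hq p)
  rcases hcase with h | ⟨hev, h2, hr⟩
  · refine ⟨1, 1, ?_, by simp, AzInvLib.locIso_of_forall fun p => ?_⟩
    · ext i j; by_cases hij : i = j <;> simp [hij, Ne.symm]
    · obtain ⟨ψ, hψ⟩ := h p
      refine ⟨ψ, fun x => (hψ x).trans ((AzInvLib.kappa R (AzInvLib.SH p) (Fin n)).injective ?_)⟩
      rw [AzInvLib.kappa_bc_transpose, AzInvLib.kappa_bc_conj, inv_one, Units.val_one, map_one, one_mul, mul_one]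
  obtain ⟨ε, hε, hU⟩ := PrimeSpectrum.exists_idempotent_basicOpen_eq_of_isClopen
    (AzInvLib.isClopen_orth hlam hfix h2 hr hn φ t)
  obtain ⟨a, ha⟩ : ∃ a, a = algebraMap S R ε := ⟨_, rfl⟩
  have haa : a * a = a := by rw [ha, ← map_mul, hε]
  have hla : lam a = a := by rw [ha, AlgEquiv.commutes]
  let J : Matrix (Fin n) (Fin n) R := AzInvLib.skewStd R n
  have hJJ : J * J = -1 := AzInvLib.skewStd_sq n hev
  have hinv : ∀ x y : R, x * x = x → y = 1 - x → (x • (1 : Matrix (Fin n) (Fin n) R) + y • J) * (x • 1 + y • -J) = 1 := by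
    intro x y hx hy
    have hxy : x * y = 0 := by rw [hy, mul_sub, mul_one, hx, sub_self]
    have hyy : y * y = y := by rw [hy]; linear_combination hx
    simp only [mul_add, add_mul, Matrix.smul_mul, Matrix.mul_smul, one_mul, mul_one, smul_smul, mul_neg, smul_neg,
      hJJ, neg_neg, hx, hyy, mul_comm y x, hxy, zero_smul, add_zero, zero_add, neg_zero]
    rw [← add_smul, hy, add_sub_cancel, one_smul]
  let w : (Matrix (Fin n) (Fin n) R)ˣ := ⟨a • 1 + (1 - a) • J, a • 1 + (1 - a) • -J, hinv a _ haa rfl, by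
    rw [mul_eq_one_comm]; exact hinv a _ haa rfl⟩
  have hw : AzInv.LamInv.transpose lam (Fin n) hlam (↑w : Matrix (Fin n) (Fin n) R) = (2 * a - 1) • (↑w : Matrix (Fin n) (Fin n) R) := by
    ext i j
    have hJt : lam (J j i) = -J i j := congrFun (congrFun (AzInvLib.sTr_skewStd (σ := lam.toRingEquiv) n) i) j
    have h1 : lam ((1 : Matrix (Fin n) (Fin n) R) j i) = (1 : Matrix (Fin n) (Fin n) R) i j := by
      rcases eq_or_ne i j with rfl | hij
      · rw [Matrix.one_apply_eq, map_one]
      · rw [Matrix.one_apply_ne hij, Matrix.one_apply_ne hij.symm, map_zero]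
    simp only [AzInv.LamInv.transpose_apply, w, Matrix.add_apply, Matrix.smul_apply, smul_eq_mul, map_add, map_mul,
      map_sub, map_one, hla, h1, hJt]
    linear_combination (2 * J i j - 2 * (1 : Matrix (Fin n) (Fin n) R) i j) * haa
  refine ⟨w, 2 * a - 1, hw, by simp only [map_sub, map_mul, map_ofNat, map_one, hla]; linear_combination 4 * haa,
    AzInvLib.locIso_of_forall fun p => ?_⟩
  have hεH : IsIdempotentElem (algebraMap S (AzInvLib.SH p) ε) := hε.map (algebraMap S (AzInvLib.SH p))
  have hidem : algebraMap S (AzInvLib.SH p) ε = 0 ∨ algebraMap S (AzInvLib.SH p) ε = 1 := by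
    have h0 : algebraMap S (AzInvLib.SH p) ε * (algebraMap S (AzInvLib.SH p) ε - 1) = 0 := by
      rw [mul_sub, mul_one, hεH.eq, sub_self]
    rcases IsLocalRing.isUnit_or_isUnit_one_sub_self (algebraMap S (AzInvLib.SH p) ε) with h | h
    · exact Or.inr (sub_eq_zero.1 (h.mul_right_eq_zero.1 h0))
    · refine Or.inl (h.mul_left_eq_zero.1 ?_)
      rw [mul_sub, mul_one, hεH.eq, sub_self]
  have hinc : ∀ M : Matrix (Fin n) (Fin n) R, AzInvLib.incM (S := S) (Fin n) (AzInvLib.SH p) (a • 1 + (1 - a) • M) =
      algebraMap S (AzInvLib.SH p) ε • 1 + (1 - algebraMap S (AzInvLib.SH p) ε) • AzInvLib.incM (Fin n) (AzInvLib.SH p) M :=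
    fun M => by
    rw [ha, ← map_one (algebraMap S R), ← map_sub, algebraMap_smul, algebraMap_smul, map_add, map_smul, map_smul, map_one,
      ← map_one (algebraMap S (AzInvLib.SH p)), ← map_sub, algebraMap_smul, algebraMap_smul]
  by_cases hp : p ∈ {p : PrimeSpectrum S | AzInvLib.Orth hlam p n t}
  · obtain ⟨ψ, hψ⟩ := hp
    have hp' : p ∈ (PrimeSpectrum.basicOpen ε : Set (PrimeSpectrum S)) := hU ▸ (⟨ψ, hψ⟩ : AzInvLib.Orth hlam p n t)
    have he1 : algebraMap S (AzInvLib.SH p) ε = 1 := by
      rcases hidem with h | h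
      · exfalso
        refine hp' ?_
        rw [← AzInvLib.comap_maximalIdeal_SH p, Ideal.mem_comap, h]
        exact zero_mem _
      · exact h
    refine ⟨ψ, fun x => (hψ x).trans ((AzInvLib.kappa R (AzInvLib.SH p) (Fin n)).injective ?_)⟩
    rw [AzInvLib.kappa_bc_transpose, AzInvLib.kappa_bc_conj,
      show (↑w : Matrix (Fin n) (Fin n) R) = a • 1 + (1 - a) • J from rfl,
      show (↑w⁻¹ : Matrix (Fin n) (Fin n) R) = a • 1 + (1 - a) • -J from rfl, hinc, hinc, he1, one_smul, sub_self,
      zero_smul, zero_smul, add_zero, one_mul, mul_one]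
  · rcases AzInvLib.orth_or_symp hlam hfix p hsq hn (Or.inl h2) (φ p) t with h | ⟨-, -, -, hev', ψ, hψ⟩
    · exact absurd h hp
    have hp' : p ∉ (PrimeSpectrum.basicOpen ε : Set (PrimeSpectrum S)) := fun h => hp (hU ▸ h)
    have he0 : algebraMap S (AzInvLib.SH p) ε = 0 := by
      rcases hidem with h | h
      · exact h
      · exact absurd (AzInvLib.isUnit_algebraMap_SH (h ▸ isUnit_one)) (fun h' => hp' h')
    refine ⟨ψ, fun x => (hψ x).trans ((AzInvLib.kappa R (AzInvLib.SH p) (Fin n)).injective ?_)⟩
    rw [AzInvLib.sympInv, AzInvLib.kappa_bc_conj, AzInvLib.kappa_bc_conj,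
      show (↑w : Matrix (Fin n) (Fin n) R) = a • 1 + (1 - a) • J from rfl,
      show (↑w⁻¹ : Matrix (Fin n) (Fin n) R) = a • 1 + (1 - a) • -J from rfl, hinc, hinc, he0, sub_zero, zero_smul,
      zero_add, zero_add, one_smul, one_smul]
    rfl

end Groth.Agent.S17358
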