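import Groth.Statements.S17359
import Groth.Agent.AzInvLib.SignLocus

set_option autoImplicit false
universe u w
open scoped TensorProduct
open AzInv

namespace Groth.Agent.S17359

/-- Let `R` be a nontrivial commutative ring with connected spectrum in which `2` is a unit, with the
trivial involution (so that the involutions considered are of the first kind and the quotient is the
trivial one). Then there are exactly two types, the orthogonal and the symplectic one; this row
states the first half: every involution of the first kind `t` of an Azumaya `R`-algebra `A` of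
degree `n ≥ 1` has the same type either as the identity of `R` or as the standard symplectic
involution `x ↦ J xᵀ J⁻¹` of the `2 × 2` matrix algebra, `J` the matrix with rows `(0, -1)` and `(1,
0)` (same type: suitable matrix algebras over the two, with the induced involutions, become
isomorphic as `R`-algebras with involution after an etale faithfully flat base change of `R`). (The
source states that the monoid of types is isomorphic to the group of global square roots of `1`, for
a locally ringed topos with trivial involution and `2` invertible; the row is the affine case with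
connected spectrum, where that group is `{1, -1}`.) -/
theorem result (R : Type u) [CommRing R] (hlam : ∀ r : R, (AlgEquiv.refl : R ≃ₐ[R] R) ((AlgEquiv.refl : R ≃ₐ[R] R) r) = r)
    [Nontrivial R] [ConnectedSpace (PrimeSpectrum R)] (h2 : IsUnit (2 : R))
    (J : (Matrix (Fin 2) (Fin 2) R)ˣ) (hJ : (↑J : Matrix (Fin 2) (Fin 2) R) = Matrix.of ![![0, -1], ![1, 0]])
    (hJt : AzInv.LamInv.transpose (AlgEquiv.refl : R ≃ₐ[R] R) (Fin 2) hlam (↑J : Matrix (Fin 2) (Fin 2) R) = (-1 : R) • (↑J : Matrix (Fin 2) (Fin 2) R))
    (hneg : (AlgEquiv.refl : R ≃ₐ[R] R) (-1) * (-1) = 1)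
    (A : Type w) [Ring A] [Algebra R A]
    (n : ℕ) (hn : 0 < n) (hA : AzInv.IsAzumayaDeg R A n) (t : AzInv.LamInv R A (AlgEquiv.refl : R ≃ₐ[R] R)) :
    AzInv.SameType R (AlgEquiv.refl : R ≃ₐ[R] R) t (AzInv.LamInv.self (AlgEquiv.refl : R ≃ₐ[R] R) hlam) ∨
      AzInv.SameType R (AlgEquiv.refl : R ≃ₐ[R] R) t ((AzInv.LamInv.transpose (AlgEquiv.refl : R ≃ₐ[R] R) (Fin 2) hlam).conj J (-1) hJt hneg) := by
  haveI := hA.1
  let lam : R ≃ₐ[R] R := AlgEquiv.refl
  have hfix : RInv.IsFixedRing R R lam.toRingEquiv := ⟨Function.injective_id, fun r => ⟨fun _ => ⟨r, rfl⟩, fun _ => rfl⟩⟩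
  have hram : ∀ p : PrimeSpectrum R, AzInvLib.IsRam lam p := fun p Q _ r => by simp [lam]
  have φ := fun p => (AzInvLib.exists_split_SH hlam hfix A n hA p).some
  rcases isClopen_iff.1 (AzInvLib.isClopen_orth hlam hfix h2 hram hn φ t) with h | h
  · refine Or.inr (AzInvLib.sameType_of_orth_iff hlam hfix h2 hn two_pos φ
      (fun p => AzInvLib.LIso.ofAlgEquiv (AlgEquiv.refl : Matrix (Fin 2) (Fin 2) R ≃ₐ[R] Matrix (Fin 2) (Fin 2) R)) t _
      fun p _ => ⟨fun ho => absurd ho (Set.eq_empty_iff_forall_notMem.1 h p), fun ho => absurd ho ?_⟩)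
    exact AzInvLib.not_orth_of_skew hlam hfix p (hram p) (AzInvLib.isUnit_two_SH h2 p) two_pos _ J hJt hneg
      (AzInvLib.LIso.ofAlgEquiv AlgEquiv.refl) (AzInvLib.LIso.ofAlgEquiv_intertwines AlgEquiv.refl fun _ => rfl)
  · exact Or.inl (AzInvLib.sameType_self hlam hfix (AzInvLib.hsq_of_isUnit_two h2) hn t fun p =>
      (Set.eq_univ_iff_forall.1 h p))

end Groth.Agent.S17359
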