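import Groth.Statements.S17360
import Mathlib.LinearAlgebra.Matrix.NonsingularInverse
import Mathlib.RingTheory.MatrixAlgebra
import Mathlib.RingTheory.Nilpotent.Lemmas
import Mathlib.RingTheory.Flat.FaithfullyFlat.Algebra

set_option autoImplicit false
universe u
open scoped TensorProduct
open AzInv

namespace Groth.Agent.S17360

/-- Let `R` be a nontrivial commutative ring in which `2` is a unit, with the trivial involution. This
row states the second half of the count of types: the identity of `R` (the orthogonal type) and the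
standard symplectic involution `x ↦ J xᵀ J⁻¹` of the `2 × 2` matrix algebra, `J` the matrix with
rows `(0, -1)` and `(1, 0)`, do not have the same type, i.e. for no positive sizes do the matrix
algebras over `R` with the transpose and over `M_2(R)` with the involution induced by the symplectic
one become isomorphic as `R`-algebras with involution after an etale faithfully flat base change of
`R`. (The source states that the monoid of types is isomorphic to the group of global square roots
of `1`, for a locally ringed topos with trivial involution and `2` invertible; the row is the affine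
case.) -/
theorem result (R : Type u) [CommRing R] (hlam : ∀ r : R, (AlgEquiv.refl : R ≃ₐ[R] R) ((AlgEquiv.refl : R ≃ₐ[R] R) r) = r)
    [Nontrivial R] (h2 : IsUnit (2 : R))
    (J : (Matrix (Fin 2) (Fin 2) R)ˣ) (hJ : (↑J : Matrix (Fin 2) (Fin 2) R) = Matrix.of ![![0, -1], ![1, 0]])
    (hJt : AzInv.LamInv.transpose (AlgEquiv.refl : R ≃ₐ[R] R) (Fin 2) hlam (↑J : Matrix (Fin 2) (Fin 2) R) = (-1 : R) • (↑J : Matrix (Fin 2) (Fin 2) R))
    (hneg : (AlgEquiv.refl : R ≃ₐ[R] R) (-1) * (-1) = 1) :
    ¬ AzInv.SameType R (AlgEquiv.refl : R ≃ₐ[R] R) (AzInv.LamInv.self (AlgEquiv.refl : R ≃ₐ[R] R) hlam) ((AzInv.LamInv.transpose (AlgEquiv.refl : R ≃ₐ[R] R) (Fin 2) hlam).conj J (-1) hJt hneg) := by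
  classical
  rintro ⟨n, n', hn, -, S', _, _, _, _, f, -, hf⟩
  haveI : Nontrivial S' := (FaithfulSMul.algebraMap_injective R S').nontrivial
  let c := Matrix.compAlgEquiv (Fin n') (Fin 2) R R
  let g : S' ⊗[R] Matrix (Fin n') (Fin n') (Matrix (Fin 2) (Fin 2) R) ≃ₐ[R] Matrix (Fin n' × Fin 2) (Fin n' × Fin 2) S' :=
    (Algebra.TensorProduct.congr (AlgEquiv.refl : S' ≃ₐ[R] S') c).trans (matrixEquivTensor (Fin n' × Fin 2) R S').symm
  have hg : ∀ (s : S') M, g (s ⊗ₜ[R] M) = s • (c M).map (algebraMap R S') := fun s M => by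
    ext p q
    simp [g, c]
  have hgs : ∀ (s : S') x, g (s • x) = s • g x := fun s x => by
    induction x using TensorProduct.induction_on with
    | zero => simp
    | add a b ha hb => simp only [smul_add, map_add, ha, hb]
    | tmul a M => rw [TensorProduct.smul_tmul', hg, hg, smul_smul, smul_eq_mul]
  let D : Matrix (Fin n') (Fin n') (Matrix (Fin 2) (Fin 2) R) := Matrix.diagonal fun _ => (↑J : Matrix (Fin 2) (Fin 2) R)
  let D' : Matrix (Fin n') (Fin n') (Matrix (Fin 2) (Fin 2) R) := Matrix.diagonal fun _ => (↑J⁻¹ : Matrix (Fin 2) (Fin 2) R)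
  set Ω := g (1 ⊗ₜ[R] D) with hΩ
  set T := ((AzInv.LamInv.transpose (AlgEquiv.refl : R ≃ₐ[R] R) (Fin 2) hlam).conj J (-1) hJt hneg).matrix (Fin n')
  have hmulJ : ∀ M, c (T M) * c D = c D * (c M).transpose := by
    intro M
    have e : (c M).transpose = c ((M.map Matrix.transpose).transpose) := by
      ext p q
      simp [c]
    rw [e, ← map_mul, ← map_mul]
    congr 1
    ext1 i j
    simp only [D, Matrix.mul_diagonal, Matrix.diagonal_mul, Matrix.transpose_apply, Matrix.map_apply, T,
      AzInv.LamInv.matrix_apply, AzInv.LamInv.conj_apply, mul_assoc, Units.inv_mul, mul_one]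
    rfl
  have hσ : ∀ x, g (T.bc R (AlgEquiv.refl : R ≃ₐ[R] R) S' x) * Ω = Ω * (g x).transpose := by
    intro x
    induction x using TensorProduct.induction_on with
    | zero => simp
    | add a b ha hb => simp only [map_add, add_mul, Matrix.transpose_add, mul_add, ha, hb]
    | tmul s M =>
      rw [AzInv.LamInv.bc_tmul, hΩ, hg, hg, hg, one_smul, Matrix.transpose_smul, Matrix.mul_smul, Matrix.smul_mul,
        ← Matrix.transpose_map, ← Matrix.map_mul, ← Matrix.map_mul, hmulJ]
  have hΩt : Ω.transpose = -Ω := by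
    rw [hΩ, hg, one_smul]
    ext ⟨i, a⟩ ⟨j, b⟩
    simp only [Matrix.transpose_apply, Matrix.map_apply, Matrix.neg_apply, c, D, Matrix.compAlgEquiv_apply,
      Matrix.comp_apply, ← map_neg]
    rcases eq_or_ne i j with rfl | hij
    · rw [Matrix.diagonal_apply_eq, hJ]
      fin_cases a <;> fin_cases b <;> simp
    · rw [Matrix.diagonal_apply_ne _ hij, Matrix.diagonal_apply_ne _ hij.symm]
      simp
  haveI : NeZero n := ⟨hn.ne'⟩
  let E : Matrix (Fin n) (Fin n) R := Matrix.single 0 0 1
  set e0 : S' ⊗[R] Matrix (Fin n) (Fin n) R := 1 ⊗ₜ[R] E with he0def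
  have he0 : e0 * e0 = e0 := by simp [e0, E]
  have hfix0 : ((AzInv.LamInv.self (AlgEquiv.refl : R ≃ₐ[R] R) hlam).matrix (Fin n)).bc R
      (AlgEquiv.refl : R ≃ₐ[R] R) S' e0 = e0 := by
    rw [AzInv.LamInv.bc_tmul]
    congr 1
    ext i j
    show (Matrix.single 0 0 1 : Matrix (Fin n) (Fin n) R) j i = Matrix.single 0 0 1 i j
    simp [Matrix.single_apply, and_comm]
  have hcorner : ∀ x, ∃ s : S', e0 * x * e0 = s • e0 := by
    intro x
    induction x using TensorProduct.induction_on with
    | zero => exact ⟨0, by simp⟩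
    | add a b ha hb =>
      obtain ⟨s, hs⟩ := ha
      obtain ⟨t, ht⟩ := hb
      exact ⟨s + t, by rw [mul_add, add_mul, hs, ht, add_smul]⟩
    | tmul s M =>
      refine ⟨s * algebraMap R S' (M 0 0), ?_⟩
      rw [he0def, Algebra.TensorProduct.tmul_mul_tmul, Algebra.TensorProduct.tmul_mul_tmul, one_mul, mul_one,
        TensorProduct.smul_tmul', smul_eq_mul, mul_one, ← Algebra.commutes, ← Algebra.smul_def,
        TensorProduct.smul_tmul]
      congr 1
      simp [E, Matrix.single_mul_mul_single]
  set G := g (f e0) with hG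
  set B := G * Ω with hB
  have hGG : G * G = G := by rw [hG, ← map_mul, ← map_mul, he0]
  have hBt : B.transpose = -B := by
    rw [hB, Matrix.transpose_mul, hΩt, neg_mul, ← hσ, hG, ← hf, hfix0]
  have hdiag : ∀ p, B p p = 0 := fun p => by
    have h := congrFun (congrFun hBt p) p
    rw [Matrix.transpose_apply, Matrix.neg_apply, eq_neg_iff_add_eq_zero, ← two_mul] at h
    have h2' : IsUnit (2 : S') := by simpa [map_ofNat] using h2.map (algebraMap R S')
    exact h2'.mul_right_eq_zero.1 h
  have hsq : ∀ p q, B p q * B p q = 0 := fun p q => by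
    obtain ⟨x, hx⟩ := g.surjective (Ω * Matrix.single q q 1)
    obtain ⟨y, rfl⟩ := f.surjective x
    obtain ⟨s, hs⟩ := hcorner y
    have h : B * Matrix.single q q 1 * B = s • B := by
      have h1 := congrArg (fun z => g (f z) * Ω) hs
      simp only [map_mul, map_smul, hgs, hx, ← hG, Matrix.smul_mul] at h1
      simpa [hB, mul_assoc] using h1
    have h' := congrFun (congrFun h p) p
    rw [Matrix.smul_apply, hdiag, smul_zero] at h'
    have h'' : B q p = -B p q := congrFun (congrFun hBt p) q
    simpa [Matrix.mul_apply, Matrix.single_apply, ite_and, h''] using h'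
  have hnil : ∀ p q, G p q ∈ nilradical S' := fun p q => by
    have e : G = B * g (1 ⊗ₜ[R] D') := by
      rw [hB, hΩ, mul_assoc, ← map_mul, Algebra.TensorProduct.tmul_mul_tmul, one_mul,
        show D * D' = 1 by simp [D, D'], ← Algebra.TensorProduct.one_def, map_one, mul_one]
    rw [e, Matrix.mul_apply]
    exact Ideal.sum_mem _ fun r _ => Ideal.mul_mem_right _ _ (mem_nilradical.2 ⟨2, (pow_two _).trans (hsq _ _)⟩)
  have hu : IsUnit (1 - G) := by
    rw [Matrix.isUnit_iff_isUnit_det]
    have h1 : IsNilpotent ((1 - G).det - 1) := by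
      refine mem_nilradical.1 ((Ideal.Quotient.eq).1 ?_)
      rw [RingHom.map_det, map_sub, map_one, map_one,
        show (Ideal.Quotient.mk (nilradical S')).mapMatrix G = 0 from
          Matrix.ext fun p q => Ideal.Quotient.eq_zero_iff_mem.2 (hnil p q), sub_zero, Matrix.det_one]
    simpa using h1.isUnit_add_one
  have hG0 : G = 0 := by
    refine hu.mul_left_eq_zero.1 ?_
    rw [mul_sub, mul_one, hGG, sub_self]
  have : e0 = 0 := f.injective (g.injective (by rw [← hG, hG0, map_zero, map_zero]))
  have h1 := congrArg (fun z => (matrixEquivTensor (Fin n) R S').symm z 0 0) this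
  simp [e0, E] at h1

end Groth.Agent.S17360
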