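import Groth.Statements.S17363
import Groth.Agent.CommAlg4.SqrtCover
-- import your own Groth.Agent.* helpers here

set_option autoImplicit false
universe u v
open scoped TensorProduct
open RInv

namespace Groth.Agent.S17363

set_option maxHeartbeats 1000000
set_option synthInstance.maxHeartbeats 100000

/-- Let `A` be a commutative ring with an involution `lam` whose fixed ring `B` is local; assume that
`lam` is the identity modulo the Jacobson radical of `A`, that `2` is a unit of `A`, and that `h` is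
an invertible `2 × 2` matrix over `A` with `h = -(lam h)ᵀ` whose entries are congruent modulo the
Jacobson radical to those of the matrix with rows `(0, 1)`, `(-1, 0)`. Then there are units `s, t`
of `B`, finitely many elements `f_i` of `B' = B[X, Y]/(X² - s, Y² - t)` (`B` with square roots of
`s` and `t` adjoined) that generate the unit ideal, and for every `i` an invertible `2 × 2` matrix
`v` over `B'_{f_i} ⊗_B A` (that is, `A` with the two square roots adjoined, localised at `f_i`;
`lam` extends so as to fix the square roots) such that `(lam v)ᵀ h v` is the matrix with rows `(0,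
1)`, `(-1, 0)`. (The published statement writes the congruence with the plain transpose `vᵀ h v`,
which fails in general: for a field `k` of characteristic not `2`, the ring `A` of formal power
series in `y` over `k`, with `B` its subring of series in `y²`, `lam y = -y` and `h` with rows `(y,
1)`, `(-1, y)`, satisfies every hypothesis, while `vᵀ h v` equal to the matrix with rows `(0, 1)`,
`(-1, 0)` would, added to its transpose, give `2y · vᵀ v = 0` and hence `det v = 0` over a nonzero
ring in which `y` is not a zero divisor. The proof computes the Gram matrix of the hermitian form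
`(a, b) ↦ (lam a)ᵀ h b` in a new basis, which is `(lam v)ᵀ h v`, and that is what is stated here.) -/
theorem result (B : Type u) (A : Type v) [CommRing B] [CommRing A]
    [Algebra B A] (lam : A ≃ₐ[B] A) (hlam : ∀ a, lam (lam a) = a) (hB : RInv.IsFixedRing B A lam.toRingEquiv)
    [IsLocalRing B] (hid : ∀ a : A, lam a - a ∈ Ring.jacobson A) (h2 : IsUnit (2 : A))
    (h : Matrix (Fin 2) (Fin 2) A) (hh : IsUnit h) (herm : -(h.map lam).transpose = h)
    (hJ : ∀ i j : Fin 2, h i j - Matrix.of ![![(0 : A), 1], ![-1, 0]] i j ∈ Ring.jacobson A) :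
    ∃ (s t : Bˣ) (r : ℕ) (f : Fin r → (MvPolynomial (Fin 2) B ⧸ Ideal.span ({MvPolynomial.X 0 ^ 2 - MvPolynomial.C (s : B), MvPolynomial.X 1 ^ 2 - MvPolynomial.C (t : B)} : Set (MvPolynomial (Fin 2) B)))),
      Ideal.span (Set.range f) = ⊤ ∧
      ∀ i : Fin r, ∃ v : Matrix (Fin 2) (Fin 2) (Localization.Away (f i) ⊗[B] A), IsUnit v ∧
        (v.map (Algebra.TensorProduct.congr (AlgEquiv.refl : Localization.Away (f i) ≃ₐ[Localization.Away (f i)] Localization.Away (f i)) lam)).transpose * h.map (Algebra.TensorProduct.includeRight : A →ₐ[B] Localization.Away (f i) ⊗[B] A) * v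
          = (Matrix.of ![![(0 : A), 1], ![-1, 0]]).map (Algebra.TensorProduct.includeRight : A →ₐ[B] Localization.Away (f i) ⊗[B] A) := by
  classical
  have h00 : lam (h 0 0) = -(h 0 0) := by
    have := congrFun (congrFun herm 0) 0
    simp only [Matrix.neg_apply, Matrix.transpose_apply, Matrix.map_apply] at this
    linear_combination -this
  have h11 : lam (h 1 1) = -(h 1 1) := by
    have := congrFun (congrFun herm 1) 1
    simp only [Matrix.neg_apply, Matrix.transpose_apply, Matrix.map_apply] at this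
    linear_combination -this
  have h10 : h 1 0 = -lam (h 0 1) := by
    have := congrFun (congrFun herm 1) 0
    simp only [Matrix.neg_apply, Matrix.transpose_apply, Matrix.map_apply] at this
    linear_combination -this
  have hone : ∀ j ∈ Ring.jacobson A, IsUnit (1 + j) := fun j hj => by
    rw [Ring.jacobson_eq_sInf_isMaximal] at hj
    by_contra hc
    obtain ⟨m, hm, hmem⟩ := exists_max_ideal_of_mem_nonunits hc
    have hjm : j ∈ m := Ideal.mem_sInf.mp hj hm
    exact hm.ne_top (m.eq_top_iff_one.mpr (by simpa using m.sub_mem hmem hjm))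
  have hb : IsUnit (h 0 1) := by
    have := hone _ (hJ 0 1)
    simpa using this
  obtain ⟨bi, hbi⟩ := hb.exists_left_inv
  have hbi' : lam bi * lam (h 0 1) = 1 := by rw [← map_mul, hbi, map_one]
  obtain ⟨s, hs⟩ : ∃ s : Bˣ, algebraMap B A (s : B) = 1 + h 0 0 * (h 1 1 * bi * lam bi) := by
    refine Groth.Agent.CommAlg4.SqrtCover.unit_of_fixed lam hB (hone _ ?_) ?_
    · have h0 : h 0 0 ∈ Ring.jacobson A := by simpa using hJ 0 0
      rw [Ring.jacobson_eq_sInf_isMaximal] at h0 ⊢
      exact Ideal.mul_mem_right _ _ h0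
    · simp only [map_add, map_one, map_mul, h00, h11, hlam]
      ring
  let I : Ideal (MvPolynomial (Fin 2) B) :=
    Ideal.span ({MvPolynomial.X 0 ^ 2 - MvPolynomial.C (s : B), MvPolynomial.X 1 ^ 2 - MvPolynomial.C ((1 : Bˣ) : B)} : Set (MvPolynomial (Fin 2) B))
  let X0 : MvPolynomial (Fin 2) B ⧸ I := Ideal.Quotient.mk I (MvPolynomial.X 0)
  have hX0 : X0 * X0 = algebraMap B _ (s : B) := by
    rw [← map_mul, ← sq]
    show Ideal.Quotient.mk I _ = Ideal.Quotient.mk I (MvPolynomial.C (s : B))
    rw [Ideal.Quotient.eq]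
    exact Ideal.subset_span (Set.mem_insert _ _)
  refine ⟨s, 1, 2, ![1 + X0, 1 - X0], ?_, ?_⟩
  · rw [Ideal.eq_top_iff_one]
    obtain ⟨i2, hi2⟩ : ∃ c : B, c * 2 = 1 := by
      have hfix : lam (2 : A) = 2 := map_ofNat lam 2
      obtain ⟨t2, ht2⟩ := Groth.Agent.CommAlg4.SqrtCover.unit_of_fixed lam hB h2 hfix
      have : (t2 : B) = 2 := hB.1 (by rw [ht2, map_ofNat])
      exact ⟨((t2⁻¹ : Bˣ) : B), by rw [← this, Units.inv_mul]⟩
    have h1 := Ideal.mul_mem_left (Ideal.span (Set.range ![1 + X0, 1 - X0])) (algebraMap B _ i2)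
      (add_mem (Ideal.subset_span ⟨0, rfl⟩ : (1 + X0) ∈ Ideal.span (Set.range ![1 + X0, 1 - X0]))
        (Ideal.subset_span ⟨1, rfl⟩ : (1 - X0) ∈ Ideal.span (Set.range ![1 + X0, 1 - X0])))
    rwa [show algebraMap B (MvPolynomial (Fin 2) B ⧸ I) i2 * (1 + X0 + (1 - X0)) = 1 by
      rw [show (1 + X0 + (1 - X0)) = algebraMap B (MvPolynomial (Fin 2) B ⧸ I) 2 by rw [map_ofNat]; ring,
        ← map_mul, hi2, map_one]] at h1
  intro i
  set f : MvPolynomial (Fin 2) B ⧸ I := ![1 + X0, 1 - X0] i with hf
  set L := Localization.Away f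
  obtain ⟨W, hW1, hW2⟩ : ∃ W : MvPolynomial (Fin 2) B ⧸ I, W * W = algebraMap B _ (s : B) ∧ 1 + W = f := by
    fin_cases i
    · exact ⟨X0, hX0, rfl⟩
    · exact ⟨-X0, (neg_mul_neg X0 X0).trans hX0, by simp [hf, sub_eq_add_neg]⟩
  let g : L →+* L ⊗[B] A := (Algebra.TensorProduct.includeLeft : L →ₐ[B] L ⊗[B] A).toRingHom
  let jA : A →ₐ[B] L ⊗[B] A := Algebra.TensorProduct.includeRight
  let Λ := Algebra.TensorProduct.congr (AlgEquiv.refl : L ≃ₐ[L] L) lam
  have hΛl : ∀ x : L, Λ (g x) = g x := fun x => by simp [Λ, g]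
  have hΛr : ∀ x : A, Λ (jA x) = jA (lam x) := fun x => by simp [Λ, jA]
  set w := g (algebraMap (MvPolynomial (Fin 2) B ⧸ I) L W) with hw
  have hwsq : w * w = 1 + jA (h 0 0) * (jA (h 1 1) * jA bi * Λ (jA bi)) := by
    rw [hΛr, ← map_mul jA, ← map_mul jA, ← map_mul jA, ← map_one jA, ← map_add, ← hs, AlgHom.commutes, hw, ← map_mul g, ← map_mul,
      hW1, ← IsScalarTower.algebraMap_apply]
    exact (Algebra.TensorProduct.includeLeft : L →ₐ[B] L ⊗[B] A).commutes _
  have hwu : IsUnit w := by
    have h1 : IsUnit (w * w) := by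
      rw [hw, ← map_mul g, ← map_mul, hW1, ← IsScalarTower.algebraMap_apply]
      exact ((Units.isUnit s).map (algebraMap B L)).map g
    exact (isUnit_of_mul_isUnit_left h1)
  have hfu : IsUnit (1 + w) := by
    rw [hw, ← map_one g, ← map_add, ← map_one (algebraMap (MvPolynomial (Fin 2) B ⧸ I) L), ← map_add, hW2]
    exact (IsLocalization.Away.algebraMap_isUnit f).map g
  obtain ⟨wi, hwi⟩ := isUnit_iff_exists_inv.mp hwu
  obtain ⟨uu, huu⟩ := isUnit_iff_exists_inv.mp hfu
  obtain ⟨hf2, hhf2⟩ := (h2.map jA).exists_left_inv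
  rw [map_ofNat] at hhf2
  obtain ⟨v, hv, hveq⟩ := Groth.Agent.CommAlg4.SqrtCover.congr_std Λ.toAlgHom.toRingHom
    (fun x => by
      show Λ (Λ x) = x
      induction x using TensorProduct.induction_on with
      | zero => simp
      | tmul l a => simp [Λ, hlam]
      | add x y hx hy => rw [map_add, map_add, hx, hy])
    (jA (h 0 0)) (jA (h 0 1)) (jA (h 1 1)) (jA bi) w wi uu hf2
    (by show Λ (jA _) = _; rw [hΛr, h00, map_neg]) (by show Λ (jA _) = _; rw [hΛr, h11, map_neg])
    (by rw [← map_mul, hbi, map_one]) hwi huu hhf2 (hΛl _) hwsq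
  refine ⟨v, hv, ?_⟩
  have e1 : h.map jA = !![jA (h 0 0), jA (h 0 1); -(Λ (jA (h 0 1))), jA (h 1 1)] := by
    rw [Matrix.eta_fin_two (h.map jA)]
    simp only [Matrix.map_apply]
    rw [hΛr, h10, map_neg]
  have e2 : (Matrix.of ![![(0 : A), 1], ![-1, 0]]).map jA = !![0, 1; -1, 0] := by
    ext p q; fin_cases p <;> fin_cases q <;> simp
  show (v.map Λ).transpose * h.map jA * v = (Matrix.of ![![(0 : A), 1], ![-1, 0]]).map jA
  rw [e1, e2]
  exact hveq

end Groth.Agent.S17363
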