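import Groth.Statements.S17364
import Groth.Agent.HermSpread24.Main
-- import your own Groth.Agent.* helpers here

set_option autoImplicit false
universe u v
open scoped TensorProduct
open RInv

set_option backward.isDefEq.respectTransparency.types false
namespace Groth.Agent.S17364

/-- Let `A` be a commutative ring with an involution `lam` whose fixed ring is `B`, let `ε = ±1`, and
let `h, h'` be invertible `n × n` matrices over `A` with `h = ε (lam h)ᵀ` and `h' = ε (lam h')ᵀ`.
Let `p` be a prime of `B` and suppose there are units `s_1, …, s_l` of the local ring `B_p`,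
elements `f_1, …, f_r` of `B_p[X_1, …, X_l]/(X_k² - s_k)` (square roots of the `s_k` adjoined)
generating the unit ideal, and for each `i` an invertible matrix `v` over `C ⊗_B A` for the
localisation `C` of that ring at `f_i` (any `B`-algebra with the universal property of that
localisation) (`lam` extended so as to fix the square roots and `B_p`) with `(lam v)ᵀ h v = h'`.
Then there is `b ∉ p` in `B` such that the same kind of data exists with `B_p` replaced by `B_b`:
units of `B_b`, a finite family generating the unit ideal of `B_b[X_1, …, X_l]/(X_k² - s_k)`, and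
invertible matrices over the corresponding localisations tensored with `A` congruating `h` to `h'`. -/
theorem result (B : Type u) (A : Type v) [CommRing B] [CommRing A]
    [Algebra B A] (lam : A ≃ₐ[B] A) (hlam : ∀ a, lam (lam a) = a) (hB : RInv.IsFixedRing B A lam.toRingEquiv)
    (n : ℕ) (ε : A) (hε : ε = 1 ∨ ε = -1) (h h' : Matrix (Fin n) (Fin n) A) (hh : IsUnit h) (hh' : IsUnit h')
    (herm : ε • (h.map lam).transpose = h) (herm' : ε • (h'.map lam).transpose = h')
    (p : Ideal B) [p.IsPrime]
    (hdata : (∃ (l : ℕ) (s : Fin l → (Localization.AtPrime p)ˣ) (r : ℕ) (f : Fin r → (MvPolynomial (Fin l) (Localization.AtPrime p) ⧸ Ideal.span (Set.range fun k : Fin l => MvPolynomial.X k ^ 2 - MvPolynomial.C (s k : Localization.AtPrime p)))),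
        Ideal.span (Set.range f) = ⊤ ∧
        ∀ (i : Fin r) (C : Type u) [CommRing C] [Algebra B C]
          [Algebra (MvPolynomial (Fin l) (Localization.AtPrime p) ⧸ Ideal.span (Set.range fun k : Fin l => MvPolynomial.X k ^ 2 - MvPolynomial.C (s k : Localization.AtPrime p))) C]
          [IsScalarTower B (MvPolynomial (Fin l) (Localization.AtPrime p) ⧸ Ideal.span (Set.range fun k : Fin l => MvPolynomial.X k ^ 2 - MvPolynomial.C (s k : Localization.AtPrime p))) C]
          [IsLocalization.Away (f i) C],
          ∃ v : Matrix (Fin n) (Fin n) (C ⊗[B] A), IsUnit v ∧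
            (v.map (Algebra.TensorProduct.congr (AlgEquiv.refl : C ≃ₐ[C] C) lam)).transpose * h.map (Algebra.TensorProduct.includeRight : A →ₐ[B] C ⊗[B] A) * v = h'.map (Algebra.TensorProduct.includeRight : A →ₐ[B] C ⊗[B] A))) :
    ∃ b : B, b ∉ p ∧
      (∃ (l : ℕ) (s : Fin l → (Localization.Away b)ˣ) (r : ℕ) (f : Fin r → (MvPolynomial (Fin l) (Localization.Away b) ⧸ Ideal.span (Set.range fun k : Fin l => MvPolynomial.X k ^ 2 - MvPolynomial.C (s k : Localization.Away b)))),
        Ideal.span (Set.range f) = ⊤ ∧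
        ∀ (i : Fin r) (C : Type u) [CommRing C] [Algebra B C]
          [Algebra (MvPolynomial (Fin l) (Localization.Away b) ⧸ Ideal.span (Set.range fun k : Fin l => MvPolynomial.X k ^ 2 - MvPolynomial.C (s k : Localization.Away b))) C]
          [IsScalarTower B (MvPolynomial (Fin l) (Localization.Away b) ⧸ Ideal.span (Set.range fun k : Fin l => MvPolynomial.X k ^ 2 - MvPolynomial.C (s k : Localization.Away b))) C]
          [IsLocalization.Away (f i) C],
          ∃ v : Matrix (Fin n) (Fin n) (C ⊗[B] A), IsUnit v ∧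
            (v.map (Algebra.TensorProduct.congr (AlgEquiv.refl : C ≃ₐ[C] C) lam)).transpose * h.map (Algebra.TensorProduct.includeRight : A →ₐ[B] C ⊗[B] A) * v = h'.map (Algebra.TensorProduct.includeRight : A →ₐ[B] C ⊗[B] A)) := by
  classical
  obtain ⟨l, s, r, f, hspan, hv⟩ := hdata
  obtain ⟨c, hc⟩ := IsLocalization.exist_integer_multiples_of_finite p.primeCompl
    (fun k : Fin l => (s k : Localization.AtPrime p))
  choose a ha using hc
  simp only [Algebra.smul_def] at ha
  let Lp := Localization.AtPrime p
  have hcu : IsUnit (algebraMap B Lp c.1) := IsLocalization.map_units Lp c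
  have hs : ∀ k, algebraMap B Lp c.1 * (s k : Lp) = algebraMap B Lp (a k) := fun k => (ha k).symm
  have haS : ∀ k, a k ∈ p.primeCompl := fun k =>
    (IsLocalization.AtPrime.isUnit_to_map_iff Lp p (a k)).1 (by rw [ha k]; exact hcu.mul (s k).isUnit)
  let ψ := Groth.Agent.HermSpread24.toRL c.1 a s hcu hs
  have hψ : ∀ b, ψ (algebraMap B _ b) = algebraMap B _ b := Groth.Agent.HermSpread24.toRL_algebraMap c.1 a s hcu hs
  have hrep := fun i => Groth.Agent.HermSpread24.exists_rep c.1 a s p.primeCompl hcu hs (f i)
  choose f0 m hm hf0 using hrep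
  have h1 : (1 : _) ∈ Ideal.span (Set.range f) := hspan ▸ Submodule.mem_top
  obtain ⟨g, hg⟩ := Ideal.mem_span_range_iff_exists_fun.1 h1
  have hrep := fun i => Groth.Agent.HermSpread24.exists_rep c.1 a s p.primeCompl hcu hs (g i)
  choose g0 mg hmg hg0 using hrep
  let e : B := ∏ i, mg i * m i
  have hsum : ψ (∑ i, g0 i * f0 i * algebraMap B _ (∏ j ∈ Finset.univ.erase i, mg j * m j)) = ψ (algebraMap B _ e) := by
    rw [map_sum, hψ]
    calc _ = ∑ i, (g i * f i) * algebraMap B _ e := Finset.sum_congr rfl fun i _ => by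
          rw [map_mul, map_mul, hψ, ← hf0 i, ← hg0 i,
            show e = (mg i * m i) * ∏ j ∈ Finset.univ.erase i, mg j * m j from
              (Finset.mul_prod_erase _ (fun i => mg i * m i) (Finset.mem_univ i)).symm, map_mul, map_mul]
          ring
      _ = _ := by rw [← Finset.sum_mul, hg, one_mul]
  obtain ⟨d, hd, hd0⟩ := Groth.Agent.HermSpread24.exists_mul_eq_zero c.1 a s p.primeCompl hcu hs _
    ((map_sub ψ _ _).trans (sub_eq_zero.2 hsum))
  rw [mul_sub, sub_eq_zero] at hd0
  have hloc : ∀ i : Fin r, ∃ b ∈ p.primeCompl, ∀ (C' : Type u) [CommRing C'] [Algebra B C']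
      (_ : Localization.Away (f0 i) →ₐ[B] C'),
      IsUnit (algebraMap B C' b) → Groth.Agent.HermSpread24.HasCongr lam h h' C' := by
    intro i
    let R0 := Groth.Agent.HermSpread24.R0 c.1 a
    let Rp := Groth.Agent.HermSpread24.RL Lp s
    let C0 := Localization.Away (f0 i)
    let C := Localization.Away (ψ (f0 i))
    let χ : C0 →+* C := IsLocalization.Away.map C0 C ψ (f0 i)
    have hχ : ∀ x : R0, χ (algebraMap R0 C0 x) = algebraMap Rp C (ψ x) := fun x => IsLocalization.map_eq _ x
    let _ : Algebra C0 C := χ.toAlgebra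
    haveI : IsScalarTower B C0 C := .of_algebraMap_eq fun b => by
      show _ = χ (algebraMap B C0 b)
      rw [IsScalarTower.algebraMap_apply B R0 C0, hχ, hψ, ← IsScalarTower.algebraMap_apply B Rp C]
    have hBC : ∀ b ∈ p.primeCompl, IsUnit (algebraMap B C b) := fun b hb => by
      rw [IsScalarTower.algebraMap_apply B Lp C]
      exact (IsLocalization.map_units Lp (⟨b, hb⟩ : p.primeCompl)).map _
    haveI : IsLocalization (Algebra.algebraMapSubmonoid C0 p.primeCompl) C := by
      constructor; constructor
      · rintro ⟨_, b, hb, rfl⟩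
        show IsUnit (χ (algebraMap B C0 b))
        rw [← RingHom.algebraMap_toAlgebra χ, ← IsScalarTower.algebraMap_apply B C0 C]
        exact hBC b hb
      · intro z
        obtain ⟨⟨z', ⟨_, N, rfl⟩⟩, hz⟩ := IsLocalization.surj (Submonoid.powers (ψ (f0 i))) z
        obtain ⟨r', b, hb, hr'⟩ := Groth.Agent.HermSpread24.exists_rep c.1 a s p.primeCompl hcu hs z'
        refine ⟨(IsLocalization.mk' C0 r' (⟨f0 i ^ N, N, rfl⟩ : Submonoid.powers (f0 i)),
          ⟨algebraMap B C0 b, b, hb, rfl⟩), ?_⟩
        have hu : IsUnit (χ (algebraMap R0 C0 (f0 i ^ N))) :=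
          (IsLocalization.map_units C0 (⟨f0 i ^ N, N, rfl⟩ : Submonoid.powers (f0 i))).map χ
        refine hu.mul_left_inj.1 ?_
        show z * χ (algebraMap B C0 b) * χ _ = χ _ * χ _
        rw [← map_mul χ (IsLocalization.mk' C0 r' _), IsLocalization.mk'_spec, hχ, hχ,
          IsScalarTower.algebraMap_apply B R0 C0, hχ, hψ, map_pow, mul_right_comm]
        rw [hz, ← map_mul, hr']
      · intro x y hxy
        obtain ⟨⟨x1, sx⟩, hx⟩ := IsLocalization.surj (Submonoid.powers (f0 i)) x
        obtain ⟨⟨y1, sy⟩, hy⟩ := IsLocalization.surj (Submonoid.powers (f0 i)) y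
        have h0 : algebraMap Rp C (ψ (x1 * sy.1 - y1 * sx.1)) = 0 := by
          rw [← hχ, map_sub, map_mul, map_mul, ← hx, ← hy, map_sub, sub_eq_zero, map_mul, map_mul, map_mul, map_mul]
          change χ x * _ * _ = χ y * _ * _
          rw [show χ x = χ y from hxy]
          ring
        obtain ⟨⟨_, N, rfl⟩, hN⟩ := (IsLocalization.map_eq_zero_iff (Submonoid.powers (ψ (f0 i))) C _).1 h0
        obtain ⟨b, hb, hb0⟩ := Groth.Agent.HermSpread24.exists_mul_eq_zero c.1 a s p.primeCompl hcu hs
          (f0 i ^ N * (x1 * sy.1 - y1 * sx.1)) (by rw [map_mul, map_pow]; exact hN)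
        refine ⟨⟨algebraMap B C0 b, b, hb, rfl⟩, ?_⟩
        have hu := ((IsLocalization.map_units C0 sx).mul (IsLocalization.map_units C0 sy)).mul
          (IsLocalization.map_units C0 (⟨f0 i ^ N, N, rfl⟩ : Submonoid.powers (f0 i)))
        refine hu.mul_left_inj.1 ?_
        have h2 := congrArg (algebraMap R0 C0) hb0
        rw [map_mul, map_mul, map_sub, map_mul, map_mul, map_zero, ← hx, ← hy,
          ← IsScalarTower.algebraMap_apply B R0 C0] at h2
        linear_combination h2
    haveI : IsLocalization.Away (f i) C := by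
      haveI : IsLocalization.Away (ψ (f0 i)) C := inferInstance
      refine IsLocalization.Away.of_associated (S := C) (r := ψ (f0 i)) ?_
      rw [← hf0 i]
      exact (associated_mul_unit_left (f i) _ (by
        rw [IsScalarTower.algebraMap_apply B Lp Rp]
        exact (IsLocalization.map_units Lp (⟨m i, hm i⟩ : p.primeCompl)).map _))
    exact Groth.Agent.HermSpread24.exists_spread lam h h' p.primeCompl C0 C (hv i C)
  choose b hb hkey using hloc
  let bb : B := c.1 * (∏ k, a k) * d * e * ∏ i, b i
  have hbb : bb ∈ p.primeCompl :=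
    p.primeCompl.mul_mem (p.primeCompl.mul_mem (p.primeCompl.mul_mem (p.primeCompl.mul_mem c.2
      (p.primeCompl.prod_mem fun k _ => haS k)) hd) (p.primeCompl.prod_mem fun i _ => p.primeCompl.mul_mem (hmg i) (hm i)))
      (p.primeCompl.prod_mem fun i _ => hb i)
  refine ⟨bb, hbb, ?_⟩
  let L := Localization.Away bb
  have hU : IsUnit (algebraMap B L bb) := IsLocalization.Away.algebraMap_isUnit bb
  simp only [bb, map_mul, IsUnit.mul_iff, map_prod, IsUnit.prod_univ_iff] at hU
  obtain ⟨⟨⟨⟨hcb, hab⟩, hdb⟩, heb⟩, hbi⟩ := hU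
  let sb : Fin l → Lˣ := fun k => hcb.unit⁻¹ * (hab k).unit
  have hsb : ∀ k, algebraMap B L c.1 * (sb k : L) = algebraMap B L (a k) := fun k => by
    simp only [sb, Units.val_mul, ← mul_assoc, IsUnit.mul_val_inv, one_mul, IsUnit.unit_spec]
  let ψb := Groth.Agent.HermSpread24.toRL c.1 a sb hcb hsb
  have hψb := Groth.Agent.HermSpread24.toRL_algebraMap c.1 a sb hcb hsb
  refine ⟨l, sb, r, fun i => ψb (f0 i), ?_, ?_⟩
  · refine Ideal.eq_top_of_isUnit_mem _ ?_ (show IsUnit (algebraMap B (Groth.Agent.HermSpread24.RL L sb) (d * e)) by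
      rw [IsScalarTower.algebraMap_apply B L, map_mul]
      exact (hdb.mul heb).map _)
    rw [← hψb, map_mul (algebraMap B (Groth.Agent.HermSpread24.R0 c.1 a)), ← hd0, Finset.mul_sum, map_sum]
    refine Ideal.sum_mem _ fun i _ => ?_
    rw [map_mul, map_mul, map_mul]
    exact Ideal.mul_mem_left _ _ (by rw [mul_comm]; exact Ideal.mul_mem_left _ _ (Ideal.mul_mem_left _ _ (Ideal.subset_span ⟨i, rfl⟩)))
  · intro i C' _ _ _ _ _
    let ω : Groth.Agent.HermSpread24.R0 c.1 a →+* C' :=
      (algebraMap (Groth.Agent.HermSpread24.RL L sb) C').comp ψb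
    let φ0 : Localization.Away (f0 i) →+* C' := IsLocalization.Away.lift (g := ω) (f0 i)
      (IsLocalization.Away.algebraMap_isUnit (ψb (f0 i)))
    let φ : Localization.Away (f0 i) →ₐ[B] C' :=
      { φ0 with
        commutes' := fun x => by
          show φ0 (algebraMap B (Localization.Away (f0 i)) x) = _
          rw [IsScalarTower.algebraMap_apply B (Groth.Agent.HermSpread24.R0 c.1 a), IsLocalization.Away.lift_eq]
          show algebraMap _ C' (ψb _) = _
          rw [hψb, ← IsScalarTower.algebraMap_apply] }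
    exact hkey i C' φ (by
      rw [IsScalarTower.algebraMap_apply B (Groth.Agent.HermSpread24.RL L sb) C',
        IsScalarTower.algebraMap_apply B L (Groth.Agent.HermSpread24.RL L sb)]
      exact ((hbi i).map _).map _)

end Groth.Agent.S17364
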