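import Groth.Agent.TorsorHartogs.Hartogs
import Groth.Agent.ParaF8.Descent
import Groth.Agent.CAlgH.ParaLocFree
import Groth.Agent.CInt15.Depth
import Groth.Agent.Synt15.KoszulCI
import Groth.Agent.CAlgH3.RegularCore
import Groth.Statements.S17365
-- import your own Groth.Agent.* helpers here

set_option autoImplicit false
universe u
open CategoryTheory CategoryTheory.Limits AlgebraicGeometry TopologicalSpace
open CInt

namespace Groth.Agent.S17365

/-- Let k be an algebraically closed field, X a smooth proper k-scheme admitting an ample invertible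
sheaf, and S a locally Noetherian k-scheme. Let E be a finite locally free module on S ×_k X and Z a
closed subset of S ×_k X whose intersection with every fibre {s} × X has codimension at least 2
there, i.e. at every point of Z the local ring of the fibre of the projection S ×_k X ⟶ S has Krull
dimension at least 2. Then, with j the inclusion of the complement of Z, the natural map E ⟶ j_*
(E|_{S × X ∖ Z}) is an isomorphism. -/
theorem result
    (k : Type u) [Field k] [IsAlgClosed k] (S X : Scheme.{u})
    (b : S ⟶ Spec (CommRingCat.of k)) (a : X ⟶ Spec (CommRingCat.of k))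
    [IsLocallyNoetherian S] [Smooth a] [IsProper a]
    (hproj : ∃ H : X.Modules, CohB1.IsAmple H)
    (E : (pullback b a).Modules) (hE : FlatMod.IsFinLocFree E)
    (Z : Closeds ↥(pullback b a))
    (hZ : ∀ x : ↥(pullback b a), x ∈ Z →
      (2 : WithBot ℕ∞) ≤ ringKrullDim ↑(CInt.fiberStalk (pullback.fst b a) x)) :
    IsIso ((Scheme.Modules.restrictAdjunction (Scheme.Opens.ι (Z.compl : (pullback b a).Opens))).unit.app E) := by
  let U : (pullback b a).Opens := Z.compl
  let f := pullback.fst b a
  haveI : Smooth f := inferInstanceAs (Smooth (pullback.fst b a))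
  haveI : IsLocallyNoetherian (pullback b a) := LocallyOfFiniteType.isLocallyNoetherian f
  have hd : ∀ x : ↥(pullback b a), x ∉ U →
      (2 : ℕ∞) ≤ LocCoh.depth ((pullback b a).presheaf.stalk x) ((pullback b a).presheaf.stalk x) := fun x hx => by
    have hxZ : x ∈ Z := not_not.1 hx
    haveI := Groth.Agent.Synt15.isRegularLocalRing_fiberStalk_of_smooth f x
    refine le_trans ?_ (Groth.Agent.CInt15.depth_fiberStalk_le f x)
    exact WithBot.coe_le_coe.1 ((hZ x hxZ).trans_eq (Groth.Agent.CAlgH3.depth_eq_ringKrullDim).symm)
  have hHB : Groth.Agent.ParaF29.HB U := Groth.Agent.ParaF8.hb_of_affine fun V hV =>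
    Groth.Agent.TorsorHartogs.bijective_restrict U (fun x _ => inferInstance) hd hV rfl inf_le_left
  have key : ∀ {W V : (pullback b a).Opens} (_ : W = V ⊓ U) (hle : W ≤ V),
      Function.Bijective (Groth.Agent.Coherent.resM E hle) := by
    intro W V e hle; subst e; exact Groth.Agent.CAlgH.ParaLocFree.bijective_resM hHB hE V
  refine Scheme.Modules.Hom.isIso_iff_isIso_app.2 fun V => ?_
  rw [ConcreteCategory.isIso_iff_bijective]
  exact key ((U.ι.image_preimage_eq_opensRange_inf V).trans (by rw [Scheme.Opens.opensRange_ι, inf_comm]))
    (U.ι.image_preimage_le V)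

end Groth.Agent.S17365
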