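import Groth.Statements.S17366
import Groth.Agent.S17365
import Groth.Agent.FlatMor12.FreeLocusBC
import Groth.Agent.RefHullLib.FreeLocus
import Groth.Agent.Desc19b.ModStFibGrpd
import Groth.Agent.NeronLib.CodimOne

set_option autoImplicit false
universe u
open CategoryTheory CategoryTheory.Limits AlgebraicGeometry TopologicalSpace
open CInt

namespace Groth.Agent.S17366

/-- A flat module with torsion-free fibres is free where the smooth fibre has dimension at most one. -/
theorem free_stalk_of_dim_le_one {X S : Scheme.{u}} (f : X ⟶ S) [Smooth f] [IsLocallyNoetherian X]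
    (E : X.Modules) (hE : Coh.IsCoh E) (hfl : FlatMod.IsFlatOver f E)
    (htf : ∀ s : ↥S, TorSh.IsTorsionFree ((Scheme.Modules.pullback (f.fiberι s)).obj E))
    (x : X) (hx : ringKrullDim ↑(CInt.fiberStalk f x) ≤ 1) :
    Module.Free (X.presheaf.stalk x) (E.presheaf.stalk x) := by
  haveI : Coh.IsQCoh E := hE.1
  have hFP : CohB1.IsFP E := Groth.Agent.Coherent.isFP_of_isCoh hE
  haveI := Groth.Agent.Synt15.isRegularLocalRing_fiberStalk_of_smooth f x
  haveI : IsRegularLocalRing ((f.fiber (f.base x)).presheaf.stalk (f.asFiber x)) := this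
  haveI := Groth.Agent.EGA43.InjFibre.isQCoh_pullback (f.fiberι (f.base x)) E
  haveI := Groth.Agent.FlatMor12.FreeLocusBC.finitePresentation_stalk _
    (Groth.Agent.Desc19b.ModStFib.isFP_pullback (f.fiberι (f.base x)) E hFP) (f.asFiber x)
  have h := Groth.Agent.RefHullLib.free_of_torsionFree_of_dim_le_one
    (R := (f.fiber (f.base x)).presheaf.stalk (f.asFiber x))
    (M := ((Scheme.Modules.pullback (f.fiberι (f.base x))).obj E).presheaf.stalk (f.asFiber x))
    hx (htf (f.base x) (f.asFiber x))
  have h' := Groth.Agent.FlatMor12.FreeLocusBC.free_stalk_of_fibre f E hFP (f.base x) (f.asFiber x)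
    (hfl _) h
  rwa [f.fiberι_asFiber] at h'

/-- Homomorphisms on an open extend uniquely into a module equal to its direct image from the open. -/
theorem existsUnique_extension {X : Scheme.{u}} (U : X.Opens) (E F : X.Modules)
    (hF : IsIso ((Scheme.Modules.restrictAdjunction U.ι).unit.app F))
    (ψ : E.restrict U.ι ⟶ F.restrict U.ι) :
    ∃! φ : E ⟶ F, (Scheme.Modules.restrictFunctor U.ι).map φ = ψ := by
  let adj := Scheme.Modules.restrictAdjunction U.ι
  have key : ∀ φ : E ⟶ F, (Scheme.Modules.restrictFunctor U.ι).map φ = ψ ↔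
      φ ≫ adj.unit.app F = adj.homEquiv E _ ψ := fun φ => by
    rw [← (adj.homEquiv E _).injective.eq_iff, adj.homEquiv_unit]
    refine ⟨fun h => ?_, fun h => ?_⟩
    · rw [← h]; exact adj.unit.naturality φ
    · rw [← h]; exact (adj.unit.naturality φ).symm
  haveI : IsIso (adj.unit.app F) := hF
  exact ⟨adj.homEquiv E _ ψ ≫ inv (adj.unit.app F), (key _).2 (by simp),
    fun φ hφ => by rw [← (key φ).1 hφ]; simp⟩

/-- Let k be an algebraically closed field, X a smooth proper k-scheme admitting an ample invertible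
sheaf, and S a locally Noetherian k-scheme. Let E be a coherent module on S ×_k X, flat over S,
whose restriction to every fibre {s} × X is torsion-free, let F be a finite locally free module on S
×_k X, and let U be the largest open subset of S ×_k X over which E is finite locally free. Then
every homomorphism E|_U ⟶ F|_U is the restriction of a unique homomorphism E ⟶ F. (The published
statement also asserts the compatibility of this extension with base change along morphisms S' ⟶ S;
that clause is not restated here.) -/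
theorem result
    (k : Type u) [Field k] [IsAlgClosed k] (S X : Scheme.{u})
    (b : S ⟶ Spec (CommRingCat.of k)) (a : X ⟶ Spec (CommRingCat.of k))
    [IsLocallyNoetherian S] [Smooth a] [IsProper a]
    (hproj : ∃ H : X.Modules, CohB1.IsAmple H)
    (E F : (pullback b a).Modules) (hEcoh : Coh.IsCoh E)
    (hEfl : FlatMod.IsFlatOver (pullback.fst b a) E)
    (hEtf : ∀ s : ↥S, TorSh.IsTorsionFree
      ((Scheme.Modules.pullback ((pullback.fst b a).fiberι s)).obj E))
    (hF : FlatMod.IsFinLocFree F)
    (U : (pullback b a).Opens)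
    (hU : ∀ x : ↥(pullback b a), x ∈ U ↔
      ∃ (V : (pullback b a).Opens) (n : ℕ), x ∈ V ∧ Nonempty (E.restrict V.ι ≅ FlatMod.freeMod (↑V) n))
    (ψ : E.restrict U.ι ⟶ F.restrict U.ι) :
    ∃! φ : E ⟶ F, (Scheme.Modules.restrictFunctor U.ι).map φ = ψ := by
  let f := pullback.fst b a
  haveI : Smooth f := inferInstanceAs (Smooth (pullback.fst b a))
  haveI : IsLocallyNoetherian (pullback b a) := LocallyOfFiniteType.isLocallyNoetherian f
  haveI : Coh.IsQCoh E := hEcoh.1
  obtain ⟨Z, rfl⟩ : ∃ Z : Closeds ↥(pullback b a), Z.compl = U :=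
    ⟨⟨(U : Set ↥(pullback b a))ᶜ, U.isOpen.isClosed_compl⟩, TopologicalSpace.Opens.ext (compl_compl _)⟩
  have hZ : ∀ x : ↥(pullback b a), x ∈ Z →
      (2 : WithBot ℕ∞) ≤ ringKrullDim ↑(CInt.fiberStalk (pullback.fst b a) x) := fun x hxZ => by
    by_contra hlt
    have hle : ringKrullDim ↑(CInt.fiberStalk f x) ≤ 1 :=
      by_contra fun h1 => hlt (Groth.Agent.NeronLib.two_le_of_not_le_one h1)
    obtain ⟨V, n, hxV, ⟨e⟩⟩ := Props12.exists_nhd_free E (Groth.Agent.Coherent.isFP_of_isCoh hEcoh) x
      (free_stalk_of_dim_le_one f E hEcoh hEfl hEtf x hle)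
    exact ((hU x).2 ⟨V, n, hxV, ⟨e⟩⟩) hxZ
  exact existsUnique_extension Z.compl E F
    (Groth.Agent.S17365.result k S X b a hproj F hF Z hZ) ψ

end Groth.Agent.S17366
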