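import Groth.Statements.S17373
import Groth.Agent.NumTriv23.Volume

set_option autoImplicit false
universe u
open CategoryTheory CategoryTheory.Limits AlgebraicGeometry
open Variety

namespace Groth.Agent.S17373

/-- Let X be a geometrically integral scheme proper over a field k and L an ample invertible module on
X. Then there is an integer m₀ such that for all m ≥ m₀ and every numerically trivial invertible
module N (degree zero on every integral closed one-dimensional subscheme), H^0(X, L^m ⊗ N) has the
same k-dimension as H^0(X, L^m), and that dimension is positive. (The published statement is for a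
big divisor D and asserts that every invertible module numerically equivalent to O(mD) comes from an
effective divisor for m large; its argument reduces to ample D and establishes exactly the equality
of dimensions stated here.) -/
theorem result (k : Type u) [Field k] (X : Scheme.{u})
    [X.Over (Spec (CommRingCat.of k))] [IsIntegral X] [GeometricallyIntegral (X ↘ Spec (CommRingCat.of k))]
    [IsProper (X ↘ Spec (CommRingCat.of k))]
    (L : X.Modules) (hL : CohB1.IsAmple L) :
    ∃ m₀ : ℕ, ∀ m : ℕ, m₀ ≤ m → ∀ N : X.Modules, PicF.IsInvertible N → Pic13.IsNumEquivZero k X N →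
      Module.finrank k (Coh.HH X (CohB1.tensorMod (CohB1.tensorPow L m) N) 0) =
          Module.finrank k (Coh.HH X (CohB1.tensorPow L m) 0) ∧
        0 < Module.finrank k (Coh.HH X (CohB1.tensorPow L m) 0) := by
  obtain ⟨m₀, h⟩ := Groth.Agent.NumTriv23.exists_h0_ample_num' k hL
  refine ⟨m₀, fun m hm N hN hnum => ?_⟩
  have hp := Groth.Agent.AmpleLib.isInvertible_tensorPow hL.1 m
  obtain ⟨h1, h2⟩ := h m hm _ (Groth.Agent.NumTriv23.isNum_of_isNumEquivZero k hN hnum)
  rw [← Groth.Agent.EulerLib.InvCl.mk_tensorPow hL.1, Groth.Agent.EulerLib.InvCl.mk_mul hp hN] at h1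
  rw [← Groth.Agent.EulerLib.InvCl.mk_tensorPow hL.1] at h2
  simp only [Groth.Agent.H0Growth23.hh_structure] at h1 h2
  exact ⟨h1, Nat.pos_of_ne_zero h2⟩

end Groth.Agent.S17373
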