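import Groth.Statements.S17376
import Groth.Agent.ProjLib.CharpolyIntegral
import Mathlib.LinearAlgebra.FreeModule.PID
import Mathlib.LinearAlgebra.Matrix.Nonsingular
import Mathlib.RingTheory.Flat.TorsionFree
import Mathlib.RingTheory.Henselian
import Mathlib.RingTheory.RegularLocalRing.Defs
import Mathlib.RingTheory.SimpleRing.Principal
import Mathlib.Tactic
import Groth.Agent.ProjLib.CharpolyIntegral

set_option linter.all false

set_option autoImplicit false
universe u
open scoped TensorProduct
open CAlg

open scoped TensorProduct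

namespace Groth.Agent.S17376

open MvPolynomial in
attribute [local instance] MvPolynomial.algebraMvPolynomial in
theorem det_mem {A K : Type u} [CommRing A] [IsDomain A] [IsIntegrallyClosed A] [Field K] [Algebra A K]
    [IsFractionRing A K] {m : ℕ} {ι : Type u} [Fintype ι] [DecidableEq ι]
    (M : Fin m → Matrix ι ι K) (hM : ∀ j, IsIntegral A (M j)) (hcomm : ∀ j l, Commute (M j) (M l)) :
    Matrix.det (∑ j, (MvPolynomial.X j : MvPolynomial (Fin m) K) • (M j).map MvPolynomial.C) ∈
      (MvPolynomial.map (σ := Fin m) (algebraMap A K)).range := by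
  classical
  let AT := MvPolynomial (Fin m) A
  let KT := MvPolynomial (Fin m) K
  let F := FractionRing KT
  let Mu : Matrix ι ι KT := ∑ j, (X j : KT) • (M j).map C
  have hscal : ∀ a : A, algebraMap AT KT (C a) = C (algebraMap A K a) := fun a => MvPolynomial.map_C _ a
  -- a commutative subalgebra containing `Mu`
  let φ : Matrix ι ι K →+* Matrix ι ι KT := (C : K →+* KT).mapMatrix
  have hint : ∀ j, IsIntegral AT ((X j : KT) • φ (M j)) := by
    intro j
    obtain ⟨p, hp, hp0⟩ := hM j
    have h1 : IsIntegral AT (φ (M j)) := by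
      refine ⟨p.map (C : A →+* AT), hp.map _, ?_⟩
      have hc : (algebraMap AT (Matrix ι ι KT)).comp (C : A →+* AT) = φ.comp (algebraMap A (Matrix ι ι K)) := by
        ext a i l
        simp [φ, Matrix.algebraMap_matrix_apply, hscal, apply_ite (C : K →+* KT)]
      rw [Polynomial.eval₂_map, hc, ← Polynomial.hom_eval₂, hp0, map_zero]
    have h2 : (X j : KT) • φ (M j) = algebraMap AT (Matrix ι ι KT) (X j) * φ (M j) := by
      rw [IsScalarTower.algebraMap_apply AT KT (Matrix ι ι KT), Algebra.smul_def]
      congr 2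
      exact (MvPolynomial.map_X _ j).symm
    rw [h2, ← Algebra.smul_def]
    exact h1.smul _
  have hMu : IsIntegral AT Mu := by
    let S := Algebra.adjoin AT (Set.range fun j => (X j : KT) • φ (M j))
    letI : CommRing S := Algebra.adjoinCommRingOfComm AT (by
      rintro _ ⟨j, rfl⟩ _ ⟨l, rfl⟩
      show _ * _ = _ * _
      rw [smul_mul_smul_comm, smul_mul_smul_comm, ← map_mul, ← map_mul, (hcomm j l).eq, mul_comm (X j)])
    let x : Fin m → S := fun j => ⟨_, Algebra.subset_adjoin ⟨j, rfl⟩⟩
    have hx : IsIntegral AT (∑ j, x j) := IsIntegral.sum _ fun j _ =>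
      (isIntegral_algHom_iff S.val Subtype.val_injective).mp (hint j)
    have := hx.map S.val
    simpa [map_sum, x, Mu, φ] using this
  let MF : Matrix ι ι F := (algebraMap KT F).mapMatrix Mu
  obtain ⟨p, hp, hp0⟩ := hMu
  have hMF : Polynomial.aeval MF (p.map (algebraMap AT F)) = 0 := by
    rw [Polynomial.aeval_map_algebraMap]
    have h := congrArg (IsScalarTower.toAlgHom AT KT F).mapMatrix hp0
    rw [map_zero, ← Polynomial.aeval_def, ← Polynomial.aeval_algHom_apply] at h
    exact h
  have hdet : IsIntegral AT Mu.det := by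
    have h := Groth.Agent.ProjLib.matrix_charpoly_coeff_isIntegral MF p hp hMF 0
    have h2 : MF.det = algebraMap KT F Mu.det := ((algebraMap KT F).map_det Mu).symm
    rw [← isIntegral_algHom_iff (IsScalarTower.toAlgHom AT KT F) (IsFractionRing.injective KT F), IsScalarTower.coe_toAlgHom', ← h2]
    rw [Matrix.det_eq_sign_charpoly_coeff]
    exact ((isIntegral_one.neg).pow _).mul h
  rw [MvPolynomial.isIntegral_iff_isIntegral_coeff] at hdet
  show Mu.det ∈ _
  rw [RingHom.mem_range]
  choose f hf using fun n => IsIntegrallyClosed.isIntegral_iff.mp (hdet n)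
  refine ⟨∑ n ∈ Mu.det.support, monomial n (f n), ?_⟩
  conv_rhs => rw [Mu.det.as_sum]
  rw [map_sum]
  exact Finset.sum_congr rfl fun n _ => by rw [map_monomial, hf]

/-- Let k be a field, A an integrally closed domain over k with fraction field K, L a finite extension
of K, B the integral closure of A in L, and R an arbitrary commutative k-algebra; view L ⊗_k R as an
algebra over K ⊗_k R through K → L. Then L ⊗_k R is finite free over K ⊗_k R, so the norm
(determinant of multiplication) L ⊗_k R → K ⊗_k R is defined; the norm of any element β of B ⊗_k R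
(mapped into L ⊗_k R) lies in the image of A ⊗_k R; and β is a nonzerodivisor in B ⊗_k R if and only
if its norm is a nonzerodivisor in K ⊗_k R. (Nonzerodivisors of A ⊗_k R are exactly its elements
that are nonzerodivisors in K ⊗_k R, the latter being a localisation of the former at
nonzerodivisors, so this is the source's formulation with the norm regarded in A ⊗_k R.) -/
theorem result (k A K L R : Type u) [Field k]
    [CommRing A] [IsDomain A] [IsIntegrallyClosed A] [Algebra k A]
    [Field K] [Algebra A K] [IsFractionRing A K] [Algebra k K] [IsScalarTower k A K]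
    [Field L] [Algebra K L] [FiniteDimensional K L] [Algebra A L] [IsScalarTower A K L]
    [Algebra k L] [IsScalarTower k K L] [IsScalarTower k A L]
    [CommRing R] [Algebra k R] :
    letI : Algebra (K ⊗[k] R) (L ⊗[k] R) :=
      (Algebra.TensorProduct.map (IsScalarTower.toAlgHom k K L) (AlgHom.id k R)).toRingHom.toAlgebra
    Module.Free (K ⊗[k] R) (L ⊗[k] R) ∧ Module.Finite (K ⊗[k] R) (L ⊗[k] R) ∧
      ∀ b : (integralClosure A L) ⊗[k] R,
        Algebra.norm (K ⊗[k] R)
            (Algebra.TensorProduct.map ((integralClosure A L).val.restrictScalars k) (AlgHom.id k R) b) ∈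
          Set.range (Algebra.TensorProduct.map (IsScalarTower.toAlgHom k A K) (AlgHom.id k R)) ∧
        (IsRegular b ↔ IsRegular (Algebra.norm (K ⊗[k] R)
            (Algebra.TensorProduct.map ((integralClosure A L).val.restrictScalars k) (AlgHom.id k R) b))) := by
  classical
  letI : Algebra (K ⊗[k] R) (L ⊗[k] R) :=
      (Algebra.TensorProduct.map (IsScalarTower.toAlgHom k K L) (AlgHom.id k R)).toRingHom.toAlgebra
  have hsmul : ∀ (c : K) (r : R) (v : L) (r' : R),
      (c ⊗ₜ[k] r : (K ⊗[k] R)) • (v ⊗ₜ[k] r' : (L ⊗[k] R)) = (c • v) ⊗ₜ[k] (r * r') := fun c r v r' => by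
    rw [Algebra.smul_def, Algebra.smul_def c v]
    show Algebra.TensorProduct.map (IsScalarTower.toAlgHom k K L) (AlgHom.id k R) (c ⊗ₜ[k] r) * _ = _
    rw [Algebra.TensorProduct.map_tmul, Algebra.TensorProduct.tmul_mul_tmul]
    rfl
  let ι := Module.Free.ChooseBasisIndex K L
  let b₀ : Module.Basis ι K L := Module.Free.chooseBasis K L
  let co : ι → (L ⊗[k] R) →ₗ[k] (K ⊗[k] R) := fun i => LinearMap.rTensor R ((b₀.coord i).restrictScalars k)
  have hco : ∀ i (c : (K ⊗[k] R)) (x : (L ⊗[k] R)), co i (c • x) = c * co i x := by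
    intro i c x
    induction c using TensorProduct.induction_on with
    | zero => simp
    | add p q hp hq => rw [add_smul, map_add, hp, hq, add_mul]
    | tmul c r =>
      induction x using TensorProduct.induction_on with
      | zero => simp
      | add p q hp hq => rw [smul_add, map_add, hp, hq, map_add, mul_add]
      | tmul v r' => rw [hsmul]; simp [co, Algebra.TensorProduct.tmul_mul_tmul]
  let bR : Module.Basis ι (K ⊗[k] R) (L ⊗[k] R) := Module.Basis.ofEquivFun
    { toFun := fun x i => co i x
      map_add' := fun x y => funext fun i => map_add _ _ _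
      map_smul' := fun c x => funext fun i => hco i c x
      invFun := fun f => ∑ i, f i • (b₀ i ⊗ₜ[k] (1 : R) : (L ⊗[k] R))
      left_inv := fun x => by
        induction x using TensorProduct.induction_on with
        | zero => simp
        | add p q hp hq =>
          conv_rhs => rw [← hp, ← hq]
          simp [map_add, add_smul, Finset.sum_add_distrib]
        | tmul v r =>
          simp [co, hsmul, ← TensorProduct.sum_tmul, b₀.sum_repr v]
      right_inv := fun f => funext fun i => by
        simp only [map_sum, hco]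
        rw [Finset.sum_eq_single i]
        · simp [co, ← Algebra.TensorProduct.one_def]
        · intro j _ hj; simp [co, Finsupp.single_eq_of_ne hj.symm]
        · simp }
  refine ⟨Module.Free.of_basis bR, Module.Finite.of_basis bR, ?_⟩
  intro β
  let Bc := integralClosure A L
  let ιB : Bc ⊗[k] R →ₐ[k] (L ⊗[k] R) := Algebra.TensorProduct.map (Bc.val.restrictScalars k) (AlgHom.id k R)
  obtain ⟨m, bs, rs, rfl⟩ : ∃ (m : ℕ) (bs : Fin m → Bc) (rs : Fin m → R), β = ∑ j, bs j ⊗ₜ[k] rs j := by
    obtain ⟨S, hS⟩ := TensorProduct.exists_finset β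
    refine ⟨S.card, fun j => (S.equivFin.symm j).1.1, fun j => (S.equivFin.symm j).1.2, ?_⟩
    rw [hS, ← Finset.sum_coe_sort]
    exact (Fintype.sum_equiv S.equivFin.symm _ _ fun _ => rfl).symm
  set y := ιB (∑ j, bs j ⊗ₜ[k] rs j) with hy
  let M : Fin m → Matrix ι ι K := fun j => Algebra.leftMulMatrix b₀ (bs j : L)
  let ev : MvPolynomial (Fin m) K →+* (K ⊗[k] R) :=
    MvPolynomial.eval₂Hom (Algebra.TensorProduct.includeLeftRingHom : K →+* (K ⊗[k] R)) fun j => (1 : K) ⊗ₜ[k] rs j
  let Mu : Matrix ι ι (MvPolynomial (Fin m) K) := ∑ j, (MvPolynomial.X j : MvPolynomial (Fin m) K) • (M j).map MvPolynomial.C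
  have hmat : Algebra.leftMulMatrix bR y = ev.mapMatrix Mu := by
    ext i l
    have hb : bR l = b₀ l ⊗ₜ[k] (1 : R) := by
      simp only [bR, Module.Basis.coe_ofEquivFun]
      show ∑ j, (Function.update (0 : ι → (K ⊗[k] R)) l 1) j • (b₀ j ⊗ₜ[k] (1 : R) : (L ⊗[k] R)) = _
      rw [Finset.sum_eq_single l]
      · simp
      · intro j _ hj; simp [hj]
      · simp
    rw [Algebra.leftMulMatrix_eq_repr_mul, hb, hy, map_sum, Finset.sum_mul]
    show co i _ = ev (Mu i l)
    simp only [Mu, Matrix.sum_apply, map_sum]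
    refine Finset.sum_congr rfl fun j _ => ?_
    simp only [ιB, Algebra.TensorProduct.map_tmul, Algebra.TensorProduct.tmul_mul_tmul, co, ev, M]
    simp [Algebra.leftMulMatrix_eq_repr_mul, Algebra.TensorProduct.tmul_mul_tmul]
  have hnorm : Algebra.norm (K ⊗[k] R) y = ev Mu.det := by
    rw [Algebra.norm_eq_matrix_det bR, hmat, RingHom.map_det]
  have hint : ∀ j, IsIntegral A (M j) := fun j =>
    (bs j).2.map ((Algebra.leftMulMatrix b₀).restrictScalars A)
  refine ⟨?_, ?_⟩
  · obtain ⟨f, hf⟩ := det_mem M hint fun j l => (Commute.all (bs j : L) (bs l : L)).map (Algebra.leftMulMatrix b₀)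
    refine ⟨MvPolynomial.eval₂ (Algebra.TensorProduct.includeLeftRingHom : A →+* A ⊗[k] R) (fun j => (1 : A) ⊗ₜ[k] rs j) f, ?_⟩
    show _ = Algebra.norm (K ⊗[k] R) y
    rw [hnorm, ← hf]
    show (Algebra.TensorProduct.map (IsScalarTower.toAlgHom k A K) (AlgHom.id k R)).toRingHom _ = _
    rw [MvPolynomial.eval₂_comp_left]
    show _ = MvPolynomial.eval₂ _ _ (MvPolynomial.map (algebraMap A K) f)
    rw [MvPolynomial.eval₂_map]
    congr 1
    · ext a; simp
    all_goals (ext j; simp)
  · have hιinj : Function.Injective ιB :=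
      Module.Flat.rTensor_preserves_injective_linearMap (M := R) (Bc.val.restrictScalars k).toLinearMap Subtype.val_injective
    have hclear : ∀ x : (L ⊗[k] R), ∃ a : A, a ≠ 0 ∧ ∃ z : Bc ⊗[k] R, ((algebraMap A L a) ⊗ₜ[k] (1 : R)) * x = ιB z := by
      intro x
      induction x using TensorProduct.induction_on with
      | zero => exact ⟨1, one_ne_zero, 0, by simp⟩
      | add p q hp hq =>
        obtain ⟨a, ha, z, hz⟩ := hp
        obtain ⟨a', ha', z', hz'⟩ := hq
        refine ⟨a * a', mul_ne_zero ha ha', (algebraMap A Bc a' ⊗ₜ[k] (1 : R)) * z + (algebraMap A Bc a ⊗ₜ[k] (1 : R)) * z', ?_⟩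
        rw [map_add, map_mul ιB, map_mul ιB, ← hz, ← hz']
        have e1 : ιB (algebraMap A Bc a ⊗ₜ[k] (1 : R)) = algebraMap A L a ⊗ₜ[k] (1 : R) := rfl
        have e2 : ιB (algebraMap A Bc a' ⊗ₜ[k] (1 : R)) = algebraMap A L a' ⊗ₜ[k] (1 : R) := rfl
        rw [e1, e2, map_mul, mul_add, ← mul_assoc, ← mul_assoc, Algebra.TensorProduct.tmul_mul_tmul, Algebra.TensorProduct.tmul_mul_tmul, mul_one, mul_comm (algebraMap A L a') ]
      | tmul v r =>
        obtain ⟨a, ha, hav⟩ := IsAlgebraic.exists_integral_multiple
          ((IsFractionRing.isAlgebraic_iff A K L).mpr (Algebra.IsAlgebraic.isAlgebraic (R := K) v))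
        refine ⟨a, ha, (⟨a • v, hav⟩ : Bc) ⊗ₜ[k] r, ?_⟩
        simp [ιB, Algebra.smul_def, Algebra.TensorProduct.tmul_mul_tmul]
    have h1 : IsRegular (∑ j, bs j ⊗ₜ[k] rs j) ↔ IsLeftRegular y := by
      rw [← isLeftRegular_iff_isRegular]
      constructor
      · intro h
        rw [isLeftRegular_iff_right_eq_zero_of_mul]
        intro x hx
        obtain ⟨a, ha, z, hz⟩ := hclear x
        have hz0 : z = 0 := by
          refine h (show _ * z = _ * 0 from hιinj ?_)
          rw [mul_zero, map_mul, map_zero, ← hz, ← hy, mul_left_comm, hx, mul_zero]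
        rw [hz0, map_zero] at hz
        have hu : IsUnit (algebraMap A L a ⊗ₜ[k] (1 : R) : (L ⊗[k] R)) :=
          (isUnit_iff_ne_zero.mpr (show algebraMap A L a ≠ 0 from by
            rw [IsScalarTower.algebraMap_apply A K L]
            simpa using ha)).map (Algebra.TensorProduct.includeLeftRingHom : L →+* (L ⊗[k] R))
        exact hu.mul_right_eq_zero.mp hz
      · intro h z z' hzz
        exact hιinj (h (by show ιB _ * ιB z = ιB _ * ιB z'; rw [← map_mul, ← map_mul]; exact congrArg ιB hzz))
    show IsRegular _ ↔ IsRegular (Algebra.norm (K ⊗[k] R) y)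
    rw [h1, isRegular_iff_mem_nonZeroDivisors, Algebra.norm_eq_matrix_det bR, ← Matrix.nonsingular_iff_det_mem_nonZeroDivisors,
      ← Matrix.linearIndependent_col_iff, ← Matrix.mulVec_injective_iff]
    have hmv : ∀ z : (L ⊗[k] R), (Algebra.leftMulMatrix bR y).mulVec (bR.equivFun z) = bR.equivFun (y * z) := fun z =>
      Algebra.leftMulMatrix_mulVec_repr bR y z
    constructor
    · intro h f g hfg
      obtain ⟨z, rfl⟩ := bR.equivFun.surjective f
      obtain ⟨z', rfl⟩ := bR.equivFun.surjective g
      rw [hmv, hmv] at hfg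
      rw [h (bR.equivFun.injective hfg)]
    · intro h z z' hzz
      apply bR.equivFun.injective
      apply h
      rw [hmv, hmv]
      exact congrArg _ hzz

end Groth.Agent.S17376
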